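import Cfsg.Agent.Lib.Helper28_ONLB0R0
import Cfsg.Agent.Lib.Helper28_ONLB0R1
import Cfsg.Agent.Lib.Helper28_ONLB0R2
import Cfsg.Agent.Lib.Helper28_ONLB0R3
import Cfsg.Agent.Lib.Helper28_CntSplit

set_option autoImplicit false
set_option linter.constructorNameAsVariable false
set_option Elab.async false

namespace Cfsg.Agent.Lib.Helper28_ONLB0

open Cfsg.Spor Cfsg.Agent.Lib.Helper28_CosetPerm Cfsg.Agent.Lib.Helper28_OrbitLB Cfsg.Agent.Lib.Helper28_S1692 Cfsg.Agent.Lib.Helper28_S1692Tab

theorem u0 : ∀ k, 0 ≤ k → k < 35 → chk (k * 22) = true := between_extend chk 22 0 0 35 (between_start chk 22 0) r0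
theorem u1 : ∀ k, 0 ≤ k → k < 70 → chk (k * 22) = true := between_extend chk 22 0 35 35 (u0) r1
theorem u2 : ∀ k, 0 ≤ k → k < 105 → chk (k * 22) = true := between_extend chk 22 0 70 35 (u1) r2
theorem u3 : ∀ k, 0 ≤ k → k < 140 → chk (k * 22) = true := between_extend chk 22 0 105 35 (u2) r3
theorem u4 : ∀ k, 0 ≤ k → k < 175 → chk (k * 22) = true := between_extend chk 22 0 140 35 (u3) r4
theorem u5 : ∀ k, 0 ≤ k → k < 210 → chk (k * 22) = true := between_extend chk 22 0 175 35 (u4) r5
theorem u6 : ∀ k, 0 ≤ k → k < 245 → chk (k * 22) = true := between_extend chk 22 0 210 35 (u5) r6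
theorem u7 : ∀ k, 0 ≤ k → k < 280 → chk (k * 22) = true := between_extend chk 22 0 245 35 (u6) r7
theorem u8 : ∀ k, 0 ≤ k → k < 315 → chk (k * 22) = true := between_extend chk 22 0 280 35 (u7) r8
theorem u9 : ∀ k, 0 ≤ k → k < 350 → chk (k * 22) = true := between_extend chk 22 0 315 35 (u8) r9
theorem u10 : ∀ k, 0 ≤ k → k < 385 → chk (k * 22) = true := between_extend chk 22 0 350 35 (u9) r10
theorem u11 : ∀ k, 0 ≤ k → k < 420 → chk (k * 22) = true := between_extend chk 22 0 385 35 (u10) r11
theorem u12 : ∀ k, 0 ≤ k → k < 455 → chk (k * 22) = true := between_extend chk 22 0 420 35 (u11) r12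
theorem u13 : ∀ k, 0 ≤ k → k < 490 → chk (k * 22) = true := between_extend chk 22 0 455 35 (u12) r13
theorem u14 : ∀ k, 0 ≤ k → k < 525 → chk (k * 22) = true := between_extend chk 22 0 490 35 (u13) r14
theorem u15 : ∀ k, 0 ≤ k → k < 560 → chk (k * 22) = true := between_extend chk 22 0 525 35 (u14) r15
theorem u16 : ∀ k, 0 ≤ k → k < 595 → chk (k * 22) = true := between_extend chk 22 0 560 35 (u15) r16
theorem u17 : ∀ k, 0 ≤ k → k < 630 → chk (k * 22) = true := between_extend chk 22 0 595 35 (u16) r17
theorem u18 : ∀ k, 0 ≤ k → k < 665 → chk (k * 22) = true := between_extend chk 22 0 630 35 (u17) r18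
theorem u19 : ∀ k, 0 ≤ k → k < 700 → chk (k * 22) = true := between_extend chk 22 0 665 35 (u18) r19
theorem u20 : ∀ k, 0 ≤ k → k < 735 → chk (k * 22) = true := between_extend chk 22 0 700 35 (u19) r20
theorem u21 : ∀ k, 0 ≤ k → k < 770 → chk (k * 22) = true := between_extend chk 22 0 735 35 (u20) r21
theorem u22 : ∀ k, 0 ≤ k → k < 805 → chk (k * 22) = true := between_extend chk 22 0 770 35 (u21) r22
theorem u23 : ∀ k, 0 ≤ k → k < 840 → chk (k * 22) = true := between_extend chk 22 0 805 35 (u22) r23
theorem u24 : ∀ k, 0 ≤ k → k < 875 → chk (k * 22) = true := between_extend chk 22 0 840 35 (u23) r24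
theorem u25 : ∀ k, 0 ≤ k → k < 910 → chk (k * 22) = true := between_extend chk 22 0 875 35 (u24) r25
theorem u26 : ∀ k, 0 ≤ k → k < 945 → chk (k * 22) = true := between_extend chk 22 0 910 35 (u25) r26
theorem u27 : ∀ k, 0 ≤ k → k < 980 → chk (k * 22) = true := between_extend chk 22 0 945 35 (u26) r27
theorem u28 : ∀ k, 0 ≤ k → k < 1015 → chk (k * 22) = true := between_extend chk 22 0 980 35 (u27) r28
theorem u29 : ∀ k, 0 ≤ k → k < 1050 → chk (k * 22) = true := between_extend chk 22 0 1015 35 (u28) r29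
theorem u30 : ∀ k, 0 ≤ k → k < 1085 → chk (k * 22) = true := between_extend chk 22 0 1050 35 (u29) r30
theorem u31 : ∀ k, 0 ≤ k → k < 1120 → chk (k * 22) = true := between_extend chk 22 0 1085 35 (u30) r31
theorem u32 : ∀ k, 0 ≤ k → k < 1155 → chk (k * 22) = true := between_extend chk 22 0 1120 35 (u31) r32
theorem u33 : ∀ k, 0 ≤ k → k < 1190 → chk (k * 22) = true := between_extend chk 22 0 1155 35 (u32) r33
theorem u34 : ∀ k, 0 ≤ k → k < 1225 → chk (k * 22) = true := between_extend chk 22 0 1190 35 (u33) r34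
theorem u35 : ∀ k, 0 ≤ k → k < 1260 → chk (k * 22) = true := between_extend chk 22 0 1225 35 (u34) r35
theorem u36 : ∀ k, 0 ≤ k → k < 1295 → chk (k * 22) = true := between_extend chk 22 0 1260 35 (u35) r36
theorem u37 : ∀ k, 0 ≤ k → k < 1330 → chk (k * 22) = true := between_extend chk 22 0 1295 35 (u36) r37
theorem u38 : ∀ k, 0 ≤ k → k < 1365 → chk (k * 22) = true := between_extend chk 22 0 1330 35 (u37) r38
theorem u39 : ∀ k, 0 ≤ k → k < 1400 → chk (k * 22) = true := between_extend chk 22 0 1365 35 (u38) r39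
theorem u40 : ∀ k, 0 ≤ k → k < 1435 → chk (k * 22) = true := between_extend chk 22 0 1400 35 (u39) r40
theorem u41 : ∀ k, 0 ≤ k → k < 1470 → chk (k * 22) = true := between_extend chk 22 0 1435 35 (u40) r41
theorem u42 : ∀ k, 0 ≤ k → k < 1505 → chk (k * 22) = true := between_extend chk 22 0 1470 35 (u41) r42
theorem u43 : ∀ k, 0 ≤ k → k < 1540 → chk (k * 22) = true := between_extend chk 22 0 1505 35 (u42) r43
theorem u44 : ∀ k, 0 ≤ k → k < 1575 → chk (k * 22) = true := between_extend chk 22 0 1540 35 (u43) r44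
theorem u45 : ∀ k, 0 ≤ k → k < 1610 → chk (k * 22) = true := between_extend chk 22 0 1575 35 (u44) r45
theorem u46 : ∀ k, 0 ≤ k → k < 1645 → chk (k * 22) = true := between_extend chk 22 0 1610 35 (u45) r46
theorem u47 : ∀ k, 0 ≤ k → k < 1680 → chk (k * 22) = true := between_extend chk 22 0 1645 35 (u46) r47
theorem u48 : ∀ k, 0 ≤ k → k < 1715 → chk (k * 22) = true := between_extend chk 22 0 1680 35 (u47) r48
theorem u49 : ∀ k, 0 ≤ k → k < 1750 → chk (k * 22) = true := between_extend chk 22 0 1715 35 (u48) r49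
theorem u50 : ∀ k, 0 ≤ k → k < 1785 → chk (k * 22) = true := between_extend chk 22 0 1750 35 (u49) r50
theorem u51 : ∀ k, 0 ≤ k → k < 1820 → chk (k * 22) = true := between_extend chk 22 0 1785 35 (u50) r51
theorem u52 : ∀ k, 0 ≤ k → k < 1855 → chk (k * 22) = true := between_extend chk 22 0 1820 35 (u51) r52
theorem u53 : ∀ k, 0 ≤ k → k < 1890 → chk (k * 22) = true := between_extend chk 22 0 1855 35 (u52) r53
theorem u54 : ∀ k, 0 ≤ k → k < 1925 → chk (k * 22) = true := between_extend chk 22 0 1890 35 (u53) r54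
theorem u55 : ∀ k, 0 ≤ k → k < 1960 → chk (k * 22) = true := between_extend chk 22 0 1925 35 (u54) r55
theorem u56 : ∀ k, 0 ≤ k → k < 1995 → chk (k * 22) = true := between_extend chk 22 0 1960 35 (u55) r56
theorem u57 : ∀ k, 0 ≤ k → k < 2030 → chk (k * 22) = true := between_extend chk 22 0 1995 35 (u56) r57
theorem u58 : ∀ k, 0 ≤ k → k < 2065 → chk (k * 22) = true := between_extend chk 22 0 2030 35 (u57) r58
theorem u59 : ∀ k, 0 ≤ k → k < 2100 → chk (k * 22) = true := between_extend chk 22 0 2065 35 (u58) r59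
theorem u60 : ∀ k, 0 ≤ k → k < 2135 → chk (k * 22) = true := between_extend chk 22 0 2100 35 (u59) r60
theorem u61 : ∀ k, 0 ≤ k → k < 2170 → chk (k * 22) = true := between_extend chk 22 0 2135 35 (u60) r61
theorem u62 : ∀ k, 0 ≤ k → k < 2205 → chk (k * 22) = true := between_extend chk 22 0 2170 35 (u61) r62
theorem u63 : ∀ k, 0 ≤ k → k < 2240 → chk (k * 22) = true := between_extend chk 22 0 2205 35 (u62) r63
theorem u64 : ∀ k, 0 ≤ k → k < 2275 → chk (k * 22) = true := between_extend chk 22 0 2240 35 (u63) r64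
theorem u65 : ∀ k, 0 ≤ k → k < 2310 → chk (k * 22) = true := between_extend chk 22 0 2275 35 (u64) r65
theorem u66 : ∀ k, 0 ≤ k → k < 2345 → chk (k * 22) = true := between_extend chk 22 0 2310 35 (u65) r66
theorem u67 : ∀ k, 0 ≤ k → k < 2380 → chk (k * 22) = true := between_extend chk 22 0 2345 35 (u66) r67
theorem u68 : ∀ k, 0 ≤ k → k < 2415 → chk (k * 22) = true := between_extend chk 22 0 2380 35 (u67) r68
theorem u69 : ∀ k, 0 ≤ k → k < 2450 → chk (k * 22) = true := between_extend chk 22 0 2415 35 (u68) r69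
theorem u70 : ∀ k, 0 ≤ k → k < 2485 → chk (k * 22) = true := between_extend chk 22 0 2450 35 (u69) r70
theorem u71 : ∀ k, 0 ≤ k → k < 2520 → chk (k * 22) = true := between_extend chk 22 0 2485 35 (u70) r71
theorem u72 : ∀ k, 0 ≤ k → k < 2555 → chk (k * 22) = true := between_extend chk 22 0 2520 35 (u71) r72
theorem u73 : ∀ k, 0 ≤ k → k < 2590 → chk (k * 22) = true := between_extend chk 22 0 2555 35 (u72) r73
theorem u74 : ∀ k, 0 ≤ k → k < 2625 → chk (k * 22) = true := between_extend chk 22 0 2590 35 (u73) r74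
theorem u75 : ∀ k, 0 ≤ k → k < 2660 → chk (k * 22) = true := between_extend chk 22 0 2625 35 (u74) r75
theorem u76 : ∀ k, 0 ≤ k → k < 2695 → chk (k * 22) = true := between_extend chk 22 0 2660 35 (u75) r76
theorem u77 : ∀ k, 0 ≤ k → k < 2730 → chk (k * 22) = true := between_extend chk 22 0 2695 35 (u76) r77
theorem u78 : ∀ k, 0 ≤ k → k < 2765 → chk (k * 22) = true := between_extend chk 22 0 2730 35 (u77) r78
theorem u79 : ∀ k, 0 ≤ k → k < 2800 → chk (k * 22) = true := between_extend chk 22 0 2765 35 (u78) r79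
theorem u80 : ∀ k, 0 ≤ k → k < 2835 → chk (k * 22) = true := between_extend chk 22 0 2800 35 (u79) r80
theorem u81 : ∀ k, 0 ≤ k → k < 2870 → chk (k * 22) = true := between_extend chk 22 0 2835 35 (u80) r81
theorem u82 : ∀ k, 0 ≤ k → k < 2905 → chk (k * 22) = true := between_extend chk 22 0 2870 35 (u81) r82
theorem u83 : ∀ k, 0 ≤ k → k < 2940 → chk (k * 22) = true := between_extend chk 22 0 2905 35 (u82) r83
theorem u84 : ∀ k, 0 ≤ k → k < 2975 → chk (k * 22) = true := between_extend chk 22 0 2940 35 (u83) r84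
theorem u85 : ∀ k, 0 ≤ k → k < 3010 → chk (k * 22) = true := between_extend chk 22 0 2975 35 (u84) r85
theorem u86 : ∀ k, 0 ≤ k → k < 3045 → chk (k * 22) = true := between_extend chk 22 0 3010 35 (u85) r86
theorem u87 : ∀ k, 0 ≤ k → k < 3080 → chk (k * 22) = true := between_extend chk 22 0 3045 35 (u86) r87
theorem u88 : ∀ k, 0 ≤ k → k < 3115 → chk (k * 22) = true := between_extend chk 22 0 3080 35 (u87) r88
theorem u89 : ∀ k, 0 ≤ k → k < 3150 → chk (k * 22) = true := between_extend chk 22 0 3115 35 (u88) r89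
theorem u90 : ∀ k, 0 ≤ k → k < 3185 → chk (k * 22) = true := between_extend chk 22 0 3150 35 (u89) r90
theorem u91 : ∀ k, 0 ≤ k → k < 3220 → chk (k * 22) = true := between_extend chk 22 0 3185 35 (u90) r91
theorem u92 : ∀ k, 0 ≤ k → k < 3255 → chk (k * 22) = true := between_extend chk 22 0 3220 35 (u91) r92
theorem u93 : ∀ k, 0 ≤ k → k < 3290 → chk (k * 22) = true := between_extend chk 22 0 3255 35 (u92) r93
theorem u94 : ∀ k, 0 ≤ k → k < 3325 → chk (k * 22) = true := between_extend chk 22 0 3290 35 (u93) r94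
theorem u95 : ∀ k, 0 ≤ k → k < 3360 → chk (k * 22) = true := between_extend chk 22 0 3325 35 (u94) r95
theorem u96 : ∀ k, 0 ≤ k → k < 3395 → chk (k * 22) = true := between_extend chk 22 0 3360 35 (u95) r96
theorem u97 : ∀ k, 0 ≤ k → k < 3430 → chk (k * 22) = true := between_extend chk 22 0 3395 35 (u96) r97
theorem u98 : ∀ k, 0 ≤ k → k < 3465 → chk (k * 22) = true := between_extend chk 22 0 3430 35 (u97) r98
theorem u99 : ∀ k, 0 ≤ k → k < 3500 → chk (k * 22) = true := between_extend chk 22 0 3465 35 (u98) r99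
theorem u100 : ∀ k, 0 ≤ k → k < 3535 → chk (k * 22) = true := between_extend chk 22 0 3500 35 (u99) r100
theorem u101 : ∀ k, 0 ≤ k → k < 3570 → chk (k * 22) = true := between_extend chk 22 0 3535 35 (u100) r101
theorem u102 : ∀ k, 0 ≤ k → k < 3605 → chk (k * 22) = true := between_extend chk 22 0 3570 35 (u101) r102
theorem u103 : ∀ k, 0 ≤ k → k < 3640 → chk (k * 22) = true := between_extend chk 22 0 3605 35 (u102) r103
theorem u104 : ∀ k, 0 ≤ k → k < 3675 → chk (k * 22) = true := between_extend chk 22 0 3640 35 (u103) r104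
theorem u105 : ∀ k, 0 ≤ k → k < 3710 → chk (k * 22) = true := between_extend chk 22 0 3675 35 (u104) r105
theorem u106 : ∀ k, 0 ≤ k → k < 3745 → chk (k * 22) = true := between_extend chk 22 0 3710 35 (u105) r106
theorem u107 : ∀ k, 0 ≤ k → k < 3780 → chk (k * 22) = true := between_extend chk 22 0 3745 35 (u106) r107
theorem u108 : ∀ k, 0 ≤ k → k < 3815 → chk (k * 22) = true := between_extend chk 22 0 3780 35 (u107) r108
theorem u109 : ∀ k, 0 ≤ k → k < 3850 → chk (k * 22) = true := between_extend chk 22 0 3815 35 (u108) r109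
theorem u110 : ∀ k, 0 ≤ k → k < 3885 → chk (k * 22) = true := between_extend chk 22 0 3850 35 (u109) r110
theorem u111 : ∀ k, 0 ≤ k → k < 3920 → chk (k * 22) = true := between_extend chk 22 0 3885 35 (u110) r111
theorem u112 : ∀ k, 0 ≤ k → k < 3955 → chk (k * 22) = true := between_extend chk 22 0 3920 35 (u111) r112
theorem u113 : ∀ k, 0 ≤ k → k < 3990 → chk (k * 22) = true := between_extend chk 22 0 3955 35 (u112) r113
theorem u114 : ∀ k, 0 ≤ k → k < 4025 → chk (k * 22) = true := between_extend chk 22 0 3990 35 (u113) r114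
theorem u115 : ∀ k, 0 ≤ k → k < 4060 → chk (k * 22) = true := between_extend chk 22 0 4025 35 (u114) r115
theorem u116 : ∀ k, 0 ≤ k → k < 4095 → chk (k * 22) = true := between_extend chk 22 0 4060 35 (u115) r116
theorem u117 : ∀ k, 0 ≤ k → k < 4130 → chk (k * 22) = true := between_extend chk 22 0 4095 35 (u116) r117
theorem u118 : ∀ k, 0 ≤ k → k < 4165 → chk (k * 22) = true := between_extend chk 22 0 4130 35 (u117) r118
theorem u119 : ∀ k, 0 ≤ k → k < 4200 → chk (k * 22) = true := between_extend chk 22 0 4165 35 (u118) r119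
theorem u120 : ∀ k, 0 ≤ k → k < 4235 → chk (k * 22) = true := between_extend chk 22 0 4200 35 (u119) r120
theorem u121 : ∀ k, 0 ≤ k → k < 4270 → chk (k * 22) = true := between_extend chk 22 0 4235 35 (u120) r121
theorem u122 : ∀ k, 0 ≤ k → k < 4305 → chk (k * 22) = true := between_extend chk 22 0 4270 35 (u121) r122
theorem u123 : ∀ k, 0 ≤ k → k < 4340 → chk (k * 22) = true := between_extend chk 22 0 4305 35 (u122) r123
theorem u124 : ∀ k, 0 ≤ k → k < 4375 → chk (k * 22) = true := between_extend chk 22 0 4340 35 (u123) r124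
theorem u125 : ∀ k, 0 ≤ k → k < 4410 → chk (k * 22) = true := between_extend chk 22 0 4375 35 (u124) r125
theorem u126 : ∀ k, 0 ≤ k → k < 4445 → chk (k * 22) = true := between_extend chk 22 0 4410 35 (u125) r126
theorem u127 : ∀ k, 0 ≤ k → k < 4480 → chk (k * 22) = true := between_extend chk 22 0 4445 35 (u126) r127
theorem u128 : ∀ k, 0 ≤ k → k < 4515 → chk (k * 22) = true := between_extend chk 22 0 4480 35 (u127) r128
theorem u129 : ∀ k, 0 ≤ k → k < 4550 → chk (k * 22) = true := between_extend chk 22 0 4515 35 (u128) r129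
theorem u130 : ∀ k, 0 ≤ k → k < 4585 → chk (k * 22) = true := between_extend chk 22 0 4550 35 (u129) r130
theorem u131 : ∀ k, 0 ≤ k → k < 4620 → chk (k * 22) = true := between_extend chk 22 0 4585 35 (u130) r131
theorem u132 : ∀ k, 0 ≤ k → k < 4655 → chk (k * 22) = true := between_extend chk 22 0 4620 35 (u131) r132
theorem u133 : ∀ k, 0 ≤ k → k < 4690 → chk (k * 22) = true := between_extend chk 22 0 4655 35 (u132) r133
theorem u134 : ∀ k, 0 ≤ k → k < 4725 → chk (k * 22) = true := between_extend chk 22 0 4690 35 (u133) r134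
theorem u135 : ∀ k, 0 ≤ k → k < 4760 → chk (k * 22) = true := between_extend chk 22 0 4725 35 (u134) r135
theorem u136 : ∀ k, 0 ≤ k → k < 4795 → chk (k * 22) = true := between_extend chk 22 0 4760 35 (u135) r136
theorem u137 : ∀ k, 0 ≤ k → k < 4830 → chk (k * 22) = true := between_extend chk 22 0 4795 35 (u136) r137
theorem u138 : ∀ k, 0 ≤ k → k < 4865 → chk (k * 22) = true := between_extend chk 22 0 4830 35 (u137) r138
theorem u139 : ∀ k, 0 ≤ k → k < 4900 → chk (k * 22) = true := between_extend chk 22 0 4865 35 (u138) r139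
theorem u140 : ∀ k, 0 ≤ k → k < 4935 → chk (k * 22) = true := between_extend chk 22 0 4900 35 (u139) r140
theorem u141 : ∀ k, 0 ≤ k → k < 4970 → chk (k * 22) = true := between_extend chk 22 0 4935 35 (u140) r141
theorem u142 : ∀ k, 0 ≤ k → k < 5005 → chk (k * 22) = true := between_extend chk 22 0 4970 35 (u141) r142
theorem u143 : ∀ k, 0 ≤ k → k < 5040 → chk (k * 22) = true := between_extend chk 22 0 5005 35 (u142) r143
theorem u144 : ∀ k, 0 ≤ k → k < 5075 → chk (k * 22) = true := between_extend chk 22 0 5040 35 (u143) r144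
theorem u145 : ∀ k, 0 ≤ k → k < 5110 → chk (k * 22) = true := between_extend chk 22 0 5075 35 (u144) r145
theorem u146 : ∀ k, 0 ≤ k → k < 5145 → chk (k * 22) = true := between_extend chk 22 0 5110 35 (u145) r146
theorem u147 : ∀ k, 0 ≤ k → k < 5180 → chk (k * 22) = true := between_extend chk 22 0 5145 35 (u146) r147
theorem u148 : ∀ k, 0 ≤ k → k < 5215 → chk (k * 22) = true := between_extend chk 22 0 5180 35 (u147) r148
theorem u149 : ∀ k, 0 ≤ k → k < 5250 → chk (k * 22) = true := between_extend chk 22 0 5215 35 (u148) r149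
theorem u150 : ∀ k, 0 ≤ k → k < 5285 → chk (k * 22) = true := between_extend chk 22 0 5250 35 (u149) r150
theorem u151 : ∀ k, 0 ≤ k → k < 5320 → chk (k * 22) = true := between_extend chk 22 0 5285 35 (u150) r151
theorem u152 : ∀ k, 0 ≤ k → k < 5355 → chk (k * 22) = true := between_extend chk 22 0 5320 35 (u151) r152
theorem u153 : ∀ k, 0 ≤ k → k < 5390 → chk (k * 22) = true := between_extend chk 22 0 5355 35 (u152) r153
theorem u154 : ∀ k, 0 ≤ k → k < 5425 → chk (k * 22) = true := between_extend chk 22 0 5390 35 (u153) r154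
theorem u155 : ∀ k, 0 ≤ k → k < 5460 → chk (k * 22) = true := between_extend chk 22 0 5425 35 (u154) r155
theorem u156 : ∀ k, 0 ≤ k → k < 5495 → chk (k * 22) = true := between_extend chk 22 0 5460 35 (u155) r156
theorem u157 : ∀ k, 0 ≤ k → k < 5530 → chk (k * 22) = true := between_extend chk 22 0 5495 35 (u156) r157
theorem u158 : ∀ k, 0 ≤ k → k < 5565 → chk (k * 22) = true := between_extend chk 22 0 5530 35 (u157) r158
theorem u159 : ∀ k, 0 ≤ k → k < 5600 → chk (k * 22) = true := between_extend chk 22 0 5565 35 (u158) r159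
theorem u160 : ∀ k, 0 ≤ k → k < 5635 → chk (k * 22) = true := between_extend chk 22 0 5600 35 (u159) r160
theorem u161 : ∀ k, 0 ≤ k → k < 5670 → chk (k * 22) = true := between_extend chk 22 0 5635 35 (u160) r161
theorem u162 : ∀ k, 0 ≤ k → k < 5705 → chk (k * 22) = true := between_extend chk 22 0 5670 35 (u161) r162
theorem u163 : ∀ k, 0 ≤ k → k < 5740 → chk (k * 22) = true := between_extend chk 22 0 5705 35 (u162) r163
theorem u164 : ∀ k, 0 ≤ k → k < 5775 → chk (k * 22) = true := between_extend chk 22 0 5740 35 (u163) r164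
theorem u165 : ∀ k, 0 ≤ k → k < 5810 → chk (k * 22) = true := between_extend chk 22 0 5775 35 (u164) r165
theorem u166 : ∀ k, 0 ≤ k → k < 5845 → chk (k * 22) = true := between_extend chk 22 0 5810 35 (u165) r166
theorem u167 : ∀ k, 0 ≤ k → k < 5880 → chk (k * 22) = true := between_extend chk 22 0 5845 35 (u166) r167
theorem u168 : ∀ k, 0 ≤ k → k < 5915 → chk (k * 22) = true := between_extend chk 22 0 5880 35 (u167) r168
theorem u169 : ∀ k, 0 ≤ k → k < 5950 → chk (k * 22) = true := between_extend chk 22 0 5915 35 (u168) r169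
theorem u170 : ∀ k, 0 ≤ k → k < 5985 → chk (k * 22) = true := between_extend chk 22 0 5950 35 (u169) r170
theorem u171 : ∀ k, 0 ≤ k → k < 6020 → chk (k * 22) = true := between_extend chk 22 0 5985 35 (u170) r171
theorem u172 : ∀ k, 0 ≤ k → k < 6055 → chk (k * 22) = true := between_extend chk 22 0 6020 35 (u171) r172
theorem u173 : ∀ k, 0 ≤ k → k < 6090 → chk (k * 22) = true := between_extend chk 22 0 6055 35 (u172) r173
theorem u174 : ∀ k, 0 ≤ k → k < 6125 → chk (k * 22) = true := between_extend chk 22 0 6090 35 (u173) r174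
theorem u175 : ∀ k, 0 ≤ k → k < 6160 → chk (k * 22) = true := between_extend chk 22 0 6125 35 (u174) r175
theorem u176 : ∀ k, 0 ≤ k → k < 6195 → chk (k * 22) = true := between_extend chk 22 0 6160 35 (u175) r176
theorem u177 : ∀ k, 0 ≤ k → k < 6230 → chk (k * 22) = true := between_extend chk 22 0 6195 35 (u176) r177
theorem u178 : ∀ k, 0 ≤ k → k < 6265 → chk (k * 22) = true := between_extend chk 22 0 6230 35 (u177) r178
theorem u179 : ∀ k, 0 ≤ k → k < 6300 → chk (k * 22) = true := between_extend chk 22 0 6265 35 (u178) r179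
theorem u180 : ∀ k, 0 ≤ k → k < 6335 → chk (k * 22) = true := between_extend chk 22 0 6300 35 (u179) r180
theorem u181 : ∀ k, 0 ≤ k → k < 6370 → chk (k * 22) = true := between_extend chk 22 0 6335 35 (u180) r181
theorem u182 : ∀ k, 0 ≤ k → k < 6405 → chk (k * 22) = true := between_extend chk 22 0 6370 35 (u181) r182
theorem u183 : ∀ k, 0 ≤ k → k < 6440 → chk (k * 22) = true := between_extend chk 22 0 6405 35 (u182) r183
theorem u184 : ∀ k, 0 ≤ k → k < 6475 → chk (k * 22) = true := between_extend chk 22 0 6440 35 (u183) r184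
theorem u185 : ∀ k, 0 ≤ k → k < 6510 → chk (k * 22) = true := between_extend chk 22 0 6475 35 (u184) r185
theorem u186 : ∀ k, 0 ≤ k → k < 6545 → chk (k * 22) = true := between_extend chk 22 0 6510 35 (u185) r186
theorem u187 : ∀ k, 0 ≤ k → k < 6580 → chk (k * 22) = true := between_extend chk 22 0 6545 35 (u186) r187
theorem u188 : ∀ k, 0 ≤ k → k < 6615 → chk (k * 22) = true := between_extend chk 22 0 6580 35 (u187) r188
theorem u189 : ∀ k, 0 ≤ k → k < 6650 → chk (k * 22) = true := between_extend chk 22 0 6615 35 (u188) r189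
theorem u190 : ∀ k, 0 ≤ k → k < 6685 → chk (k * 22) = true := between_extend chk 22 0 6650 35 (u189) r190
theorem u191 : ∀ k, 0 ≤ k → k < 6720 → chk (k * 22) = true := between_extend chk 22 0 6685 35 (u190) r191
theorem u192 : ∀ k, 0 ≤ k → k < 6755 → chk (k * 22) = true := between_extend chk 22 0 6720 35 (u191) r192
theorem u193 : ∀ k, 0 ≤ k → k < 6790 → chk (k * 22) = true := between_extend chk 22 0 6755 35 (u192) r193
theorem u194 : ∀ k, 0 ≤ k → k < 6825 → chk (k * 22) = true := between_extend chk 22 0 6790 35 (u193) r194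
theorem u195 : ∀ k, 0 ≤ k → k < 6860 → chk (k * 22) = true := between_extend chk 22 0 6825 35 (u194) r195
theorem u196 : ∀ k, 0 ≤ k → k < 6895 → chk (k * 22) = true := between_extend chk 22 0 6860 35 (u195) r196
theorem u197 : ∀ k, 0 ≤ k → k < 6930 → chk (k * 22) = true := between_extend chk 22 0 6895 35 (u196) r197
theorem u198 : ∀ k, 0 ≤ k → k < 6965 → chk (k * 22) = true := between_extend chk 22 0 6930 35 (u197) r198
theorem u199 : ∀ k, 0 ≤ k → k < 7000 → chk (k * 22) = true := between_extend chk 22 0 6965 35 (u198) r199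
theorem u200 : ∀ k, 0 ≤ k → k < 7035 → chk (k * 22) = true := between_extend chk 22 0 7000 35 (u199) r200
theorem u201 : ∀ k, 0 ≤ k → k < 7070 → chk (k * 22) = true := between_extend chk 22 0 7035 35 (u200) r201
theorem u202 : ∀ k, 0 ≤ k → k < 7105 → chk (k * 22) = true := between_extend chk 22 0 7070 35 (u201) r202
theorem u203 : ∀ k, 0 ≤ k → k < 7140 → chk (k * 22) = true := between_extend chk 22 0 7105 35 (u202) r203
theorem u204 : ∀ k, 0 ≤ k → k < 7175 → chk (k * 22) = true := between_extend chk 22 0 7140 35 (u203) r204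
theorem u205 : ∀ k, 0 ≤ k → k < 7210 → chk (k * 22) = true := between_extend chk 22 0 7175 35 (u204) r205
theorem u206 : ∀ k, 0 ≤ k → k < 7245 → chk (k * 22) = true := between_extend chk 22 0 7210 35 (u205) r206
theorem u207 : ∀ k, 0 ≤ k → k < 7280 → chk (k * 22) = true := between_extend chk 22 0 7245 35 (u206) r207
theorem u208 : ∀ k, 0 ≤ k → k < 7315 → chk (k * 22) = true := between_extend chk 22 0 7280 35 (u207) r208
theorem u209 : ∀ k, 0 ≤ k → k < 7350 → chk (k * 22) = true := between_extend chk 22 0 7315 35 (u208) r209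
theorem u210 : ∀ k, 0 ≤ k → k < 7385 → chk (k * 22) = true := between_extend chk 22 0 7350 35 (u209) r210
theorem u211 : ∀ k, 0 ≤ k → k < 7420 → chk (k * 22) = true := between_extend chk 22 0 7385 35 (u210) r211
theorem u212 : ∀ k, 0 ≤ k → k < 7455 → chk (k * 22) = true := between_extend chk 22 0 7420 35 (u211) r212
theorem u213 : ∀ k, 0 ≤ k → k < 7490 → chk (k * 22) = true := between_extend chk 22 0 7455 35 (u212) r213
theorem u214 : ∀ k, 0 ≤ k → k < 7525 → chk (k * 22) = true := between_extend chk 22 0 7490 35 (u213) r214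
theorem u215 : ∀ k, 0 ≤ k → k < 7560 → chk (k * 22) = true := between_extend chk 22 0 7525 35 (u214) r215
theorem u216 : ∀ k, 0 ≤ k → k < 7595 → chk (k * 22) = true := between_extend chk 22 0 7560 35 (u215) r216
theorem u217 : ∀ k, 0 ≤ k → k < 7630 → chk (k * 22) = true := between_extend chk 22 0 7595 35 (u216) r217
theorem u218 : ∀ k, 0 ≤ k → k < 7665 → chk (k * 22) = true := between_extend chk 22 0 7630 35 (u217) r218
theorem u219 : ∀ k, 0 ≤ k → k < 7700 → chk (k * 22) = true := between_extend chk 22 0 7665 35 (u218) r219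
theorem u220 : ∀ k, 0 ≤ k → k < 7735 → chk (k * 22) = true := between_extend chk 22 0 7700 35 (u219) r220
theorem u221 : ∀ k, 0 ≤ k → k < 7770 → chk (k * 22) = true := between_extend chk 22 0 7735 35 (u220) r221
theorem u222 : ∀ k, 0 ≤ k → k < 7805 → chk (k * 22) = true := between_extend chk 22 0 7770 35 (u221) r222
theorem u223 : ∀ k, 0 ≤ k → k < 7840 → chk (k * 22) = true := between_extend chk 22 0 7805 35 (u222) r223
theorem u224 : ∀ k, 0 ≤ k → k < 7875 → chk (k * 22) = true := between_extend chk 22 0 7840 35 (u223) r224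
theorem u225 : ∀ k, 0 ≤ k → k < 7910 → chk (k * 22) = true := between_extend chk 22 0 7875 35 (u224) r225
theorem u226 : ∀ k, 0 ≤ k → k < 7945 → chk (k * 22) = true := between_extend chk 22 0 7910 35 (u225) r226
theorem u227 : ∀ k, 0 ≤ k → k < 7980 → chk (k * 22) = true := between_extend chk 22 0 7945 35 (u226) r227
theorem u228 : ∀ k, 0 ≤ k → k < 8015 → chk (k * 22) = true := between_extend chk 22 0 7980 35 (u227) r228
theorem u229 : ∀ k, 0 ≤ k → k < 8050 → chk (k * 22) = true := between_extend chk 22 0 8015 35 (u228) r229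
theorem u230 : ∀ k, 0 ≤ k → k < 8085 → chk (k * 22) = true := between_extend chk 22 0 8050 35 (u229) r230
theorem u231 : ∀ k, 0 ≤ k → k < 8120 → chk (k * 22) = true := between_extend chk 22 0 8085 35 (u230) r231
theorem u232 : ∀ k, 0 ≤ k → k < 8155 → chk (k * 22) = true := between_extend chk 22 0 8120 35 (u231) r232
theorem u233 : ∀ k, 0 ≤ k → k < 8190 → chk (k * 22) = true := between_extend chk 22 0 8155 35 (u232) r233
theorem u234 : ∀ k, 0 ≤ k → k < 8225 → chk (k * 22) = true := between_extend chk 22 0 8190 35 (u233) r234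
theorem u235 : ∀ k, 0 ≤ k → k < 8260 → chk (k * 22) = true := between_extend chk 22 0 8225 35 (u234) r235
theorem u236 : ∀ k, 0 ≤ k → k < 8295 → chk (k * 22) = true := between_extend chk 22 0 8260 35 (u235) r236
theorem u237 : ∀ k, 0 ≤ k → k < 8330 → chk (k * 22) = true := between_extend chk 22 0 8295 35 (u236) r237
theorem u238 : ∀ k, 0 ≤ k → k < 8365 → chk (k * 22) = true := between_extend chk 22 0 8330 35 (u237) r238
theorem u239 : ∀ k, 0 ≤ k → k < 8400 → chk (k * 22) = true := between_extend chk 22 0 8365 35 (u238) r239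
theorem u240 : ∀ k, 0 ≤ k → k < 8435 → chk (k * 22) = true := between_extend chk 22 0 8400 35 (u239) r240
theorem u241 : ∀ k, 0 ≤ k → k < 8470 → chk (k * 22) = true := between_extend chk 22 0 8435 35 (u240) r241
theorem u242 : ∀ k, 0 ≤ k → k < 8505 → chk (k * 22) = true := between_extend chk 22 0 8470 35 (u241) r242
theorem u243 : ∀ k, 0 ≤ k → k < 8540 → chk (k * 22) = true := between_extend chk 22 0 8505 35 (u242) r243
theorem u244 : ∀ k, 0 ≤ k → k < 8575 → chk (k * 22) = true := between_extend chk 22 0 8540 35 (u243) r244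
theorem u245 : ∀ k, 0 ≤ k → k < 8610 → chk (k * 22) = true := between_extend chk 22 0 8575 35 (u244) r245
theorem u246 : ∀ k, 0 ≤ k → k < 8645 → chk (k * 22) = true := between_extend chk 22 0 8610 35 (u245) r246
theorem u247 : ∀ k, 0 ≤ k → k < 8680 → chk (k * 22) = true := between_extend chk 22 0 8645 35 (u246) r247
theorem u248 : ∀ k, 0 ≤ k → k < 8715 → chk (k * 22) = true := between_extend chk 22 0 8680 35 (u247) r248
theorem u249 : ∀ k, 0 ≤ k → k < 8750 → chk (k * 22) = true := between_extend chk 22 0 8715 35 (u248) r249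
theorem u250 : ∀ k, 0 ≤ k → k < 8785 → chk (k * 22) = true := between_extend chk 22 0 8750 35 (u249) r250
theorem u251 : ∀ k, 0 ≤ k → k < 8820 → chk (k * 22) = true := between_extend chk 22 0 8785 35 (u250) r251
theorem u252 : ∀ k, 0 ≤ k → k < 8855 → chk (k * 22) = true := between_extend chk 22 0 8820 35 (u251) r252
theorem u253 : ∀ k, 0 ≤ k → k < 8890 → chk (k * 22) = true := between_extend chk 22 0 8855 35 (u252) r253
theorem u254 : ∀ k, 0 ≤ k → k < 8925 → chk (k * 22) = true := between_extend chk 22 0 8890 35 (u253) r254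
theorem u255 : ∀ k, 0 ≤ k → k < 8960 → chk (k * 22) = true := between_extend chk 22 0 8925 35 (u254) r255
theorem u256 : ∀ k, 0 ≤ k → k < 8995 → chk (k * 22) = true := between_extend chk 22 0 8960 35 (u255) r256
theorem u257 : ∀ k, 0 ≤ k → k < 9030 → chk (k * 22) = true := between_extend chk 22 0 8995 35 (u256) r257
theorem u258 : ∀ k, 0 ≤ k → k < 9065 → chk (k * 22) = true := between_extend chk 22 0 9030 35 (u257) r258
theorem u259 : ∀ k, 0 ≤ k → k < 9100 → chk (k * 22) = true := between_extend chk 22 0 9065 35 (u258) r259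
theorem u260 : ∀ k, 0 ≤ k → k < 9135 → chk (k * 22) = true := between_extend chk 22 0 9100 35 (u259) r260
theorem u261 : ∀ k, 0 ≤ k → k < 9170 → chk (k * 22) = true := between_extend chk 22 0 9135 35 (u260) r261
theorem u262 : ∀ k, 0 ≤ k → k < 9205 → chk (k * 22) = true := between_extend chk 22 0 9170 35 (u261) r262
theorem u263 : ∀ k, 0 ≤ k → k < 9240 → chk (k * 22) = true := between_extend chk 22 0 9205 35 (u262) r263
theorem u264 : ∀ k, 0 ≤ k → k < 9275 → chk (k * 22) = true := between_extend chk 22 0 9240 35 (u263) r264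
theorem u265 : ∀ k, 0 ≤ k → k < 9310 → chk (k * 22) = true := between_extend chk 22 0 9275 35 (u264) r265
theorem u266 : ∀ k, 0 ≤ k → k < 9345 → chk (k * 22) = true := between_extend chk 22 0 9310 35 (u265) r266
theorem u267 : ∀ k, 0 ≤ k → k < 9380 → chk (k * 22) = true := between_extend chk 22 0 9345 35 (u266) r267
theorem u268 : ∀ k, 0 ≤ k → k < 9415 → chk (k * 22) = true := between_extend chk 22 0 9380 35 (u267) r268
theorem u269 : ∀ k, 0 ≤ k → k < 9450 → chk (k * 22) = true := between_extend chk 22 0 9415 35 (u268) r269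
theorem u270 : ∀ k, 0 ≤ k → k < 9485 → chk (k * 22) = true := between_extend chk 22 0 9450 35 (u269) r270
theorem u271 : ∀ k, 0 ≤ k → k < 9520 → chk (k * 22) = true := between_extend chk 22 0 9485 35 (u270) r271
theorem u272 : ∀ k, 0 ≤ k → k < 9555 → chk (k * 22) = true := between_extend chk 22 0 9520 35 (u271) r272
theorem u273 : ∀ k, 0 ≤ k → k < 9590 → chk (k * 22) = true := between_extend chk 22 0 9555 35 (u272) r273
theorem u274 : ∀ k, 0 ≤ k → k < 9625 → chk (k * 22) = true := between_extend chk 22 0 9590 35 (u273) r274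
theorem u275 : ∀ k, 0 ≤ k → k < 9660 → chk (k * 22) = true := between_extend chk 22 0 9625 35 (u274) r275
theorem u276 : ∀ k, 0 ≤ k → k < 9695 → chk (k * 22) = true := between_extend chk 22 0 9660 35 (u275) r276
theorem u277 : ∀ k, 0 ≤ k → k < 9730 → chk (k * 22) = true := between_extend chk 22 0 9695 35 (u276) r277
theorem u278 : ∀ k, 0 ≤ k → k < 9765 → chk (k * 22) = true := between_extend chk 22 0 9730 35 (u277) r278
theorem u279 : ∀ k, 0 ≤ k → k < 9800 → chk (k * 22) = true := between_extend chk 22 0 9765 35 (u278) r279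
theorem u280 : ∀ k, 0 ≤ k → k < 9835 → chk (k * 22) = true := between_extend chk 22 0 9800 35 (u279) r280
theorem u281 : ∀ k, 0 ≤ k → k < 9870 → chk (k * 22) = true := between_extend chk 22 0 9835 35 (u280) r281
theorem u282 : ∀ k, 0 ≤ k → k < 9905 → chk (k * 22) = true := between_extend chk 22 0 9870 35 (u281) r282
theorem u283 : ∀ k, 0 ≤ k → k < 9940 → chk (k * 22) = true := between_extend chk 22 0 9905 35 (u282) r283
theorem u284 : ∀ k, 0 ≤ k → k < 9975 → chk (k * 22) = true := between_extend chk 22 0 9940 35 (u283) r284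
theorem u285 : ∀ k, 0 ≤ k → k < 10010 → chk (k * 22) = true := between_extend chk 22 0 9975 35 (u284) r285
theorem u286 : ∀ k, 0 ≤ k → k < 10045 → chk (k * 22) = true := between_extend chk 22 0 10010 35 (u285) r286
theorem u287 : ∀ k, 0 ≤ k → k < 10080 → chk (k * 22) = true := between_extend chk 22 0 10045 35 (u286) r287
theorem u288 : ∀ k, 0 ≤ k → k < 10115 → chk (k * 22) = true := between_extend chk 22 0 10080 35 (u287) r288
theorem u289 : ∀ k, 0 ≤ k → k < 10150 → chk (k * 22) = true := between_extend chk 22 0 10115 35 (u288) r289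
theorem u290 : ∀ k, 0 ≤ k → k < 10185 → chk (k * 22) = true := between_extend chk 22 0 10150 35 (u289) r290
theorem u291 : ∀ k, 0 ≤ k → k < 10220 → chk (k * 22) = true := between_extend chk 22 0 10185 35 (u290) r291
theorem u292 : ∀ k, 0 ≤ k → k < 10255 → chk (k * 22) = true := between_extend chk 22 0 10220 35 (u291) r292
theorem u293 : ∀ k, 0 ≤ k → k < 10290 → chk (k * 22) = true := between_extend chk 22 0 10255 35 (u292) r293
theorem u294 : ∀ k, 0 ≤ k → k < 10325 → chk (k * 22) = true := between_extend chk 22 0 10290 35 (u293) r294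
theorem u295 : ∀ k, 0 ≤ k → k < 10360 → chk (k * 22) = true := between_extend chk 22 0 10325 35 (u294) r295
theorem u296 : ∀ k, 0 ≤ k → k < 10395 → chk (k * 22) = true := between_extend chk 22 0 10360 35 (u295) r296
theorem u297 : ∀ k, 0 ≤ k → k < 10430 → chk (k * 22) = true := between_extend chk 22 0 10395 35 (u296) r297
theorem u298 : ∀ k, 0 ≤ k → k < 10465 → chk (k * 22) = true := between_extend chk 22 0 10430 35 (u297) r298
theorem u299 : ∀ k, 0 ≤ k → k < 10500 → chk (k * 22) = true := between_extend chk 22 0 10465 35 (u298) r299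
theorem u300 : ∀ k, 0 ≤ k → k < 10535 → chk (k * 22) = true := between_extend chk 22 0 10500 35 (u299) r300
theorem u301 : ∀ k, 0 ≤ k → k < 10570 → chk (k * 22) = true := between_extend chk 22 0 10535 35 (u300) r301
theorem u302 : ∀ k, 0 ≤ k → k < 10605 → chk (k * 22) = true := between_extend chk 22 0 10570 35 (u301) r302
theorem u303 : ∀ k, 0 ≤ k → k < 10640 → chk (k * 22) = true := between_extend chk 22 0 10605 35 (u302) r303
theorem u304 : ∀ k, 0 ≤ k → k < 10675 → chk (k * 22) = true := between_extend chk 22 0 10640 35 (u303) r304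
theorem u305 : ∀ k, 0 ≤ k → k < 10710 → chk (k * 22) = true := between_extend chk 22 0 10675 35 (u304) r305
theorem u306 : ∀ k, 0 ≤ k → k < 10745 → chk (k * 22) = true := between_extend chk 22 0 10710 35 (u305) r306
theorem u307 : ∀ k, 0 ≤ k → k < 10780 → chk (k * 22) = true := between_extend chk 22 0 10745 35 (u306) r307
theorem u308 : ∀ k, 0 ≤ k → k < 10815 → chk (k * 22) = true := between_extend chk 22 0 10780 35 (u307) r308
theorem u309 : ∀ k, 0 ≤ k → k < 10850 → chk (k * 22) = true := between_extend chk 22 0 10815 35 (u308) r309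
theorem u310 : ∀ k, 0 ≤ k → k < 10885 → chk (k * 22) = true := between_extend chk 22 0 10850 35 (u309) r310
theorem u311 : ∀ k, 0 ≤ k → k < 10920 → chk (k * 22) = true := between_extend chk 22 0 10885 35 (u310) r311
theorem u312 : ∀ k, 0 ≤ k → k < 10955 → chk (k * 22) = true := between_extend chk 22 0 10920 35 (u311) r312
theorem u313 : ∀ k, 0 ≤ k → k < 10990 → chk (k * 22) = true := between_extend chk 22 0 10955 35 (u312) r313
theorem u314 : ∀ k, 0 ≤ k → k < 11025 → chk (k * 22) = true := between_extend chk 22 0 10990 35 (u313) r314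
theorem u315 : ∀ k, 0 ≤ k → k < 11060 → chk (k * 22) = true := between_extend chk 22 0 11025 35 (u314) r315
theorem u316 : ∀ k, 0 ≤ k → k < 11095 → chk (k * 22) = true := between_extend chk 22 0 11060 35 (u315) r316
theorem u317 : ∀ k, 0 ≤ k → k < 11130 → chk (k * 22) = true := between_extend chk 22 0 11095 35 (u316) r317
theorem u318 : ∀ k, 0 ≤ k → k < 11165 → chk (k * 22) = true := between_extend chk 22 0 11130 35 (u317) r318
theorem u319 : ∀ k, 0 ≤ k → k < 11200 → chk (k * 22) = true := between_extend chk 22 0 11165 35 (u318) r319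
theorem u320 : ∀ k, 0 ≤ k → k < 11235 → chk (k * 22) = true := between_extend chk 22 0 11200 35 (u319) r320
theorem u321 : ∀ k, 0 ≤ k → k < 11270 → chk (k * 22) = true := between_extend chk 22 0 11235 35 (u320) r321
theorem u322 : ∀ k, 0 ≤ k → k < 11305 → chk (k * 22) = true := between_extend chk 22 0 11270 35 (u321) r322
theorem u323 : ∀ k, 0 ≤ k → k < 11340 → chk (k * 22) = true := between_extend chk 22 0 11305 35 (u322) r323
theorem u324 : ∀ k, 0 ≤ k → k < 11375 → chk (k * 22) = true := between_extend chk 22 0 11340 35 (u323) r324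
theorem u325 : ∀ k, 0 ≤ k → k < 11410 → chk (k * 22) = true := between_extend chk 22 0 11375 35 (u324) r325
theorem u326 : ∀ k, 0 ≤ k → k < 11445 → chk (k * 22) = true := between_extend chk 22 0 11410 35 (u325) r326
theorem u327 : ∀ k, 0 ≤ k → k < 11480 → chk (k * 22) = true := between_extend chk 22 0 11445 35 (u326) r327
theorem u328 : ∀ k, 0 ≤ k → k < 11515 → chk (k * 22) = true := between_extend chk 22 0 11480 35 (u327) r328
theorem u329 : ∀ k, 0 ≤ k → k < 11550 → chk (k * 22) = true := between_extend chk 22 0 11515 35 (u328) r329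
theorem u330 : ∀ k, 0 ≤ k → k < 11585 → chk (k * 22) = true := between_extend chk 22 0 11550 35 (u329) r330
theorem u331 : ∀ k, 0 ≤ k → k < 11620 → chk (k * 22) = true := between_extend chk 22 0 11585 35 (u330) r331
theorem u332 : ∀ k, 0 ≤ k → k < 11655 → chk (k * 22) = true := between_extend chk 22 0 11620 35 (u331) r332
theorem u333 : ∀ k, 0 ≤ k → k < 11690 → chk (k * 22) = true := between_extend chk 22 0 11655 35 (u332) r333
theorem u334 : ∀ k, 0 ≤ k → k < 11725 → chk (k * 22) = true := between_extend chk 22 0 11690 35 (u333) r334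
theorem u335 : ∀ k, 0 ≤ k → k < 11760 → chk (k * 22) = true := between_extend chk 22 0 11725 35 (u334) r335
theorem u336 : ∀ k, 0 ≤ k → k < 11795 → chk (k * 22) = true := between_extend chk 22 0 11760 35 (u335) r336
theorem u337 : ∀ k, 0 ≤ k → k < 11830 → chk (k * 22) = true := between_extend chk 22 0 11795 35 (u336) r337
theorem u338 : ∀ k, 0 ≤ k → k < 11865 → chk (k * 22) = true := between_extend chk 22 0 11830 35 (u337) r338
theorem u339 : ∀ k, 0 ≤ k → k < 11900 → chk (k * 22) = true := between_extend chk 22 0 11865 35 (u338) r339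
theorem u340 : ∀ k, 0 ≤ k → k < 11935 → chk (k * 22) = true := between_extend chk 22 0 11900 35 (u339) r340
theorem u341 : ∀ k, 0 ≤ k → k < 11970 → chk (k * 22) = true := between_extend chk 22 0 11935 35 (u340) r341
theorem u342 : ∀ k, 0 ≤ k → k < 12005 → chk (k * 22) = true := between_extend chk 22 0 11970 35 (u341) r342
theorem u343 : ∀ k, 0 ≤ k → k < 12040 → chk (k * 22) = true := between_extend chk 22 0 12005 35 (u342) r343
theorem u344 : ∀ k, 0 ≤ k → k < 12075 → chk (k * 22) = true := between_extend chk 22 0 12040 35 (u343) r344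
theorem u345 : ∀ k, 0 ≤ k → k < 12110 → chk (k * 22) = true := between_extend chk 22 0 12075 35 (u344) r345
theorem u346 : ∀ k, 0 ≤ k → k < 12145 → chk (k * 22) = true := between_extend chk 22 0 12110 35 (u345) r346
theorem u347 : ∀ k, 0 ≤ k → k < 12180 → chk (k * 22) = true := between_extend chk 22 0 12145 35 (u346) r347
theorem u348 : ∀ k, 0 ≤ k → k < 12215 → chk (k * 22) = true := between_extend chk 22 0 12180 35 (u347) r348
theorem u349 : ∀ k, 0 ≤ k → k < 12250 → chk (k * 22) = true := between_extend chk 22 0 12215 35 (u348) r349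
theorem u350 : ∀ k, 0 ≤ k → k < 12285 → chk (k * 22) = true := between_extend chk 22 0 12250 35 (u349) r350
theorem u351 : ∀ k, 0 ≤ k → k < 12320 → chk (k * 22) = true := between_extend chk 22 0 12285 35 (u350) r351
theorem u352 : ∀ k, 0 ≤ k → k < 12355 → chk (k * 22) = true := between_extend chk 22 0 12320 35 (u351) r352
theorem u353 : ∀ k, 0 ≤ k → k < 12390 → chk (k * 22) = true := between_extend chk 22 0 12355 35 (u352) r353
theorem u354 : ∀ k, 0 ≤ k → k < 12425 → chk (k * 22) = true := between_extend chk 22 0 12390 35 (u353) r354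
theorem u355 : ∀ k, 0 ≤ k → k < 12460 → chk (k * 22) = true := between_extend chk 22 0 12425 35 (u354) r355
theorem u356 : ∀ k, 0 ≤ k → k < 12495 → chk (k * 22) = true := between_extend chk 22 0 12460 35 (u355) r356
theorem u357 : ∀ k, 0 ≤ k → k < 12530 → chk (k * 22) = true := between_extend chk 22 0 12495 35 (u356) r357
theorem u358 : ∀ k, 0 ≤ k → k < 12565 → chk (k * 22) = true := between_extend chk 22 0 12530 35 (u357) r358
theorem u359 : ∀ k, 0 ≤ k → k < 12600 → chk (k * 22) = true := between_extend chk 22 0 12565 35 (u358) r359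
theorem u360 : ∀ k, 0 ≤ k → k < 12635 → chk (k * 22) = true := between_extend chk 22 0 12600 35 (u359) r360
theorem u361 : ∀ k, 0 ≤ k → k < 12670 → chk (k * 22) = true := between_extend chk 22 0 12635 35 (u360) r361
theorem u362 : ∀ k, 0 ≤ k → k < 12705 → chk (k * 22) = true := between_extend chk 22 0 12670 35 (u361) r362
theorem u363 : ∀ k, 0 ≤ k → k < 12740 → chk (k * 22) = true := between_extend chk 22 0 12705 35 (u362) r363
theorem u364 : ∀ k, 0 ≤ k → k < 12775 → chk (k * 22) = true := between_extend chk 22 0 12740 35 (u363) r364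
theorem u365 : ∀ k, 0 ≤ k → k < 12810 → chk (k * 22) = true := between_extend chk 22 0 12775 35 (u364) r365
theorem u366 : ∀ k, 0 ≤ k → k < 12845 → chk (k * 22) = true := between_extend chk 22 0 12810 35 (u365) r366
theorem u367 : ∀ k, 0 ≤ k → k < 12880 → chk (k * 22) = true := between_extend chk 22 0 12845 35 (u366) r367
theorem u368 : ∀ k, 0 ≤ k → k < 12915 → chk (k * 22) = true := between_extend chk 22 0 12880 35 (u367) r368
theorem u369 : ∀ k, 0 ≤ k → k < 12950 → chk (k * 22) = true := between_extend chk 22 0 12915 35 (u368) r369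
theorem u370 : ∀ k, 0 ≤ k → k < 12985 → chk (k * 22) = true := between_extend chk 22 0 12950 35 (u369) r370
theorem u371 : ∀ k, 0 ≤ k → k < 13020 → chk (k * 22) = true := between_extend chk 22 0 12985 35 (u370) r371
theorem u372 : ∀ k, 0 ≤ k → k < 13055 → chk (k * 22) = true := between_extend chk 22 0 13020 35 (u371) r372
theorem u373 : ∀ k, 0 ≤ k → k < 13090 → chk (k * 22) = true := between_extend chk 22 0 13055 35 (u372) r373
theorem u374 : ∀ k, 0 ≤ k → k < 13125 → chk (k * 22) = true := between_extend chk 22 0 13090 35 (u373) r374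
theorem u375 : ∀ k, 0 ≤ k → k < 13160 → chk (k * 22) = true := between_extend chk 22 0 13125 35 (u374) r375
theorem u376 : ∀ k, 0 ≤ k → k < 13195 → chk (k * 22) = true := between_extend chk 22 0 13160 35 (u375) r376
theorem u377 : ∀ k, 0 ≤ k → k < 13230 → chk (k * 22) = true := between_extend chk 22 0 13195 35 (u376) r377
theorem u378 : ∀ k, 0 ≤ k → k < 13265 → chk (k * 22) = true := between_extend chk 22 0 13230 35 (u377) r378
theorem u379 : ∀ k, 0 ≤ k → k < 13300 → chk (k * 22) = true := between_extend chk 22 0 13265 35 (u378) r379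
theorem u380 : ∀ k, 0 ≤ k → k < 13335 → chk (k * 22) = true := between_extend chk 22 0 13300 35 (u379) r380
theorem u381 : ∀ k, 0 ≤ k → k < 13370 → chk (k * 22) = true := between_extend chk 22 0 13335 35 (u380) r381
theorem u382 : ∀ k, 0 ≤ k → k < 13405 → chk (k * 22) = true := between_extend chk 22 0 13370 35 (u381) r382
theorem u383 : ∀ k, 0 ≤ k → k < 13440 → chk (k * 22) = true := between_extend chk 22 0 13405 35 (u382) r383
theorem u384 : ∀ k, 0 ≤ k → k < 13475 → chk (k * 22) = true := between_extend chk 22 0 13440 35 (u383) r384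
theorem u385 : ∀ k, 0 ≤ k → k < 13510 → chk (k * 22) = true := between_extend chk 22 0 13475 35 (u384) r385
theorem u386 : ∀ k, 0 ≤ k → k < 13545 → chk (k * 22) = true := between_extend chk 22 0 13510 35 (u385) r386
theorem u387 : ∀ k, 0 ≤ k → k < 13580 → chk (k * 22) = true := between_extend chk 22 0 13545 35 (u386) r387
theorem u388 : ∀ k, 0 ≤ k → k < 13615 → chk (k * 22) = true := between_extend chk 22 0 13580 35 (u387) r388
theorem u389 : ∀ k, 0 ≤ k → k < 13650 → chk (k * 22) = true := between_extend chk 22 0 13615 35 (u388) r389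
theorem u390 : ∀ k, 0 ≤ k → k < 13685 → chk (k * 22) = true := between_extend chk 22 0 13650 35 (u389) r390
theorem u391 : ∀ k, 0 ≤ k → k < 13720 → chk (k * 22) = true := between_extend chk 22 0 13685 35 (u390) r391
theorem u392 : ∀ k, 0 ≤ k → k < 13755 → chk (k * 22) = true := between_extend chk 22 0 13720 35 (u391) r392
theorem u393 : ∀ k, 0 ≤ k → k < 13790 → chk (k * 22) = true := between_extend chk 22 0 13755 35 (u392) r393
theorem u394 : ∀ k, 0 ≤ k → k < 13825 → chk (k * 22) = true := between_extend chk 22 0 13790 35 (u393) r394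
theorem u395 : ∀ k, 0 ≤ k → k < 13860 → chk (k * 22) = true := between_extend chk 22 0 13825 35 (u394) r395
theorem u396 : ∀ k, 0 ≤ k → k < 13895 → chk (k * 22) = true := between_extend chk 22 0 13860 35 (u395) r396
theorem u397 : ∀ k, 0 ≤ k → k < 13930 → chk (k * 22) = true := between_extend chk 22 0 13895 35 (u396) r397
theorem u398 : ∀ k, 0 ≤ k → k < 13965 → chk (k * 22) = true := between_extend chk 22 0 13930 35 (u397) r398
theorem u399 : ∀ k, 0 ≤ k → k < 14000 → chk (k * 22) = true := between_extend chk 22 0 13965 35 (u398) r399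
theorem u400 : ∀ k, 0 ≤ k → k < 14035 → chk (k * 22) = true := between_extend chk 22 0 14000 35 (u399) r400
theorem u401 : ∀ k, 0 ≤ k → k < 14070 → chk (k * 22) = true := between_extend chk 22 0 14035 35 (u400) r401
theorem u402 : ∀ k, 0 ≤ k → k < 14105 → chk (k * 22) = true := between_extend chk 22 0 14070 35 (u401) r402
theorem u403 : ∀ k, 0 ≤ k → k < 14140 → chk (k * 22) = true := between_extend chk 22 0 14105 35 (u402) r403
theorem u404 : ∀ k, 0 ≤ k → k < 14175 → chk (k * 22) = true := between_extend chk 22 0 14140 35 (u403) r404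
theorem u405 : ∀ k, 0 ≤ k → k < 14210 → chk (k * 22) = true := between_extend chk 22 0 14175 35 (u404) r405
theorem u406 : ∀ k, 0 ≤ k → k < 14245 → chk (k * 22) = true := between_extend chk 22 0 14210 35 (u405) r406
theorem u407 : ∀ k, 0 ≤ k → k < 14280 → chk (k * 22) = true := between_extend chk 22 0 14245 35 (u406) r407
theorem u408 : ∀ k, 0 ≤ k → k < 14315 → chk (k * 22) = true := between_extend chk 22 0 14280 35 (u407) r408
theorem u409 : ∀ k, 0 ≤ k → k < 14350 → chk (k * 22) = true := between_extend chk 22 0 14315 35 (u408) r409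
theorem u410 : ∀ k, 0 ≤ k → k < 14385 → chk (k * 22) = true := between_extend chk 22 0 14350 35 (u409) r410
theorem u411 : ∀ k, 0 ≤ k → k < 14420 → chk (k * 22) = true := between_extend chk 22 0 14385 35 (u410) r411
theorem u412 : ∀ k, 0 ≤ k → k < 14455 → chk (k * 22) = true := between_extend chk 22 0 14420 35 (u411) r412
theorem u413 : ∀ k, 0 ≤ k → k < 14490 → chk (k * 22) = true := between_extend chk 22 0 14455 35 (u412) r413
theorem u414 : ∀ k, 0 ≤ k → k < 14525 → chk (k * 22) = true := between_extend chk 22 0 14490 35 (u413) r414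
theorem u415 : ∀ k, 0 ≤ k → k < 14560 → chk (k * 22) = true := between_extend chk 22 0 14525 35 (u414) r415
theorem u416 : ∀ k, 0 ≤ k → k < 14595 → chk (k * 22) = true := between_extend chk 22 0 14560 35 (u415) r416
theorem u417 : ∀ k, 0 ≤ k → k < 14630 → chk (k * 22) = true := between_extend chk 22 0 14595 35 (u416) r417
theorem u418 : ∀ k, 0 ≤ k → k < 14665 → chk (k * 22) = true := between_extend chk 22 0 14630 35 (u417) r418
theorem u419 : ∀ k, 0 ≤ k → k < 14700 → chk (k * 22) = true := between_extend chk 22 0 14665 35 (u418) r419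
theorem u420 : ∀ k, 0 ≤ k → k < 14735 → chk (k * 22) = true := between_extend chk 22 0 14700 35 (u419) r420
theorem u421 : ∀ k, 0 ≤ k → k < 14770 → chk (k * 22) = true := between_extend chk 22 0 14735 35 (u420) r421
theorem u422 : ∀ k, 0 ≤ k → k < 14805 → chk (k * 22) = true := between_extend chk 22 0 14770 35 (u421) r422
theorem u423 : ∀ k, 0 ≤ k → k < 14840 → chk (k * 22) = true := between_extend chk 22 0 14805 35 (u422) r423
theorem u424 : ∀ k, 0 ≤ k → k < 14875 → chk (k * 22) = true := between_extend chk 22 0 14840 35 (u423) r424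
theorem u425 : ∀ k, 0 ≤ k → k < 14910 → chk (k * 22) = true := between_extend chk 22 0 14875 35 (u424) r425
theorem u426 : ∀ k, 0 ≤ k → k < 14945 → chk (k * 22) = true := between_extend chk 22 0 14910 35 (u425) r426
theorem u427 : ∀ k, 0 ≤ k → k < 14980 → chk (k * 22) = true := between_extend chk 22 0 14945 35 (u426) r427
theorem u428 : ∀ k, 0 ≤ k → k < 15015 → chk (k * 22) = true := between_extend chk 22 0 14980 35 (u427) r428
theorem u429 : ∀ k, 0 ≤ k → k < 15050 → chk (k * 22) = true := between_extend chk 22 0 15015 35 (u428) r429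
theorem u430 : ∀ k, 0 ≤ k → k < 15085 → chk (k * 22) = true := between_extend chk 22 0 15050 35 (u429) r430
theorem u431 : ∀ k, 0 ≤ k → k < 15120 → chk (k * 22) = true := between_extend chk 22 0 15085 35 (u430) r431
theorem u432 : ∀ k, 0 ≤ k → k < 15155 → chk (k * 22) = true := between_extend chk 22 0 15120 35 (u431) r432
theorem u433 : ∀ k, 0 ≤ k → k < 15190 → chk (k * 22) = true := between_extend chk 22 0 15155 35 (u432) r433
theorem u434 : ∀ k, 0 ≤ k → k < 15225 → chk (k * 22) = true := between_extend chk 22 0 15190 35 (u433) r434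
theorem u435 : ∀ k, 0 ≤ k → k < 15260 → chk (k * 22) = true := between_extend chk 22 0 15225 35 (u434) r435
theorem u436 : ∀ k, 0 ≤ k → k < 15295 → chk (k * 22) = true := between_extend chk 22 0 15260 35 (u435) r436
theorem u437 : ∀ k, 0 ≤ k → k < 15330 → chk (k * 22) = true := between_extend chk 22 0 15295 35 (u436) r437
theorem u438 : ∀ k, 0 ≤ k → k < 15365 → chk (k * 22) = true := between_extend chk 22 0 15330 35 (u437) r438
theorem u439 : ∀ k, 0 ≤ k → k < 15400 → chk (k * 22) = true := between_extend chk 22 0 15365 35 (u438) r439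
theorem u440 : ∀ k, 0 ≤ k → k < 15435 → chk (k * 22) = true := between_extend chk 22 0 15400 35 (u439) r440
theorem u441 : ∀ k, 0 ≤ k → k < 15470 → chk (k * 22) = true := between_extend chk 22 0 15435 35 (u440) r441
theorem u442 : ∀ k, 0 ≤ k → k < 15505 → chk (k * 22) = true := between_extend chk 22 0 15470 35 (u441) r442
theorem u443 : ∀ k, 0 ≤ k → k < 15540 → chk (k * 22) = true := between_extend chk 22 0 15505 35 (u442) r443
theorem u444 : ∀ k, 0 ≤ k → k < 15575 → chk (k * 22) = true := between_extend chk 22 0 15540 35 (u443) r444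
theorem u445 : ∀ k, 0 ≤ k → k < 15610 → chk (k * 22) = true := between_extend chk 22 0 15575 35 (u444) r445
theorem u446 : ∀ k, 0 ≤ k → k < 15645 → chk (k * 22) = true := between_extend chk 22 0 15610 35 (u445) r446
theorem u447 : ∀ k, 0 ≤ k → k < 15680 → chk (k * 22) = true := between_extend chk 22 0 15645 35 (u446) r447
theorem u448 : ∀ k, 0 ≤ k → k < 15715 → chk (k * 22) = true := between_extend chk 22 0 15680 35 (u447) r448
theorem u449 : ∀ k, 0 ≤ k → k < 15750 → chk (k * 22) = true := between_extend chk 22 0 15715 35 (u448) r449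
theorem u450 : ∀ k, 0 ≤ k → k < 15785 → chk (k * 22) = true := between_extend chk 22 0 15750 35 (u449) r450
theorem u451 : ∀ k, 0 ≤ k → k < 15820 → chk (k * 22) = true := between_extend chk 22 0 15785 35 (u450) r451
theorem u452 : ∀ k, 0 ≤ k → k < 15855 → chk (k * 22) = true := between_extend chk 22 0 15820 35 (u451) r452
theorem u453 : ∀ k, 0 ≤ k → k < 15890 → chk (k * 22) = true := between_extend chk 22 0 15855 35 (u452) r453
theorem u454 : ∀ k, 0 ≤ k → k < 15925 → chk (k * 22) = true := between_extend chk 22 0 15890 35 (u453) r454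
theorem u455 : ∀ k, 0 ≤ k → k < 15960 → chk (k * 22) = true := between_extend chk 22 0 15925 35 (u454) r455
theorem u456 : ∀ k, 0 ≤ k → k < 15995 → chk (k * 22) = true := between_extend chk 22 0 15960 35 (u455) r456
theorem u457 : ∀ k, 0 ≤ k → k < 16030 → chk (k * 22) = true := between_extend chk 22 0 15995 35 (u456) r457
theorem u458 : ∀ k, 0 ≤ k → k < 16065 → chk (k * 22) = true := between_extend chk 22 0 16030 35 (u457) r458
theorem u459 : ∀ k, 0 ≤ k → k < 16100 → chk (k * 22) = true := between_extend chk 22 0 16065 35 (u458) r459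
theorem u460 : ∀ k, 0 ≤ k → k < 16135 → chk (k * 22) = true := between_extend chk 22 0 16100 35 (u459) r460
theorem u461 : ∀ k, 0 ≤ k → k < 16170 → chk (k * 22) = true := between_extend chk 22 0 16135 35 (u460) r461
theorem u462 : ∀ k, 0 ≤ k → k < 16205 → chk (k * 22) = true := between_extend chk 22 0 16170 35 (u461) r462
theorem u463 : ∀ k, 0 ≤ k → k < 16240 → chk (k * 22) = true := between_extend chk 22 0 16205 35 (u462) r463
theorem u464 : ∀ k, 0 ≤ k → k < 16275 → chk (k * 22) = true := between_extend chk 22 0 16240 35 (u463) r464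
theorem u465 : ∀ k, 0 ≤ k → k < 16310 → chk (k * 22) = true := between_extend chk 22 0 16275 35 (u464) r465
theorem u466 : ∀ k, 0 ≤ k → k < 16345 → chk (k * 22) = true := between_extend chk 22 0 16310 35 (u465) r466
theorem u467 : ∀ k, 0 ≤ k → k < 16380 → chk (k * 22) = true := between_extend chk 22 0 16345 35 (u466) r467
theorem u468 : ∀ k, 0 ≤ k → k < 16415 → chk (k * 22) = true := between_extend chk 22 0 16380 35 (u467) r468
theorem u469 : ∀ k, 0 ≤ k → k < 16450 → chk (k * 22) = true := between_extend chk 22 0 16415 35 (u468) r469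
theorem u470 : ∀ k, 0 ≤ k → k < 16485 → chk (k * 22) = true := between_extend chk 22 0 16450 35 (u469) r470
theorem u471 : ∀ k, 0 ≤ k → k < 16520 → chk (k * 22) = true := between_extend chk 22 0 16485 35 (u470) r471
theorem u472 : ∀ k, 0 ≤ k → k < 16555 → chk (k * 22) = true := between_extend chk 22 0 16520 35 (u471) r472
theorem u473 : ∀ k, 0 ≤ k → k < 16590 → chk (k * 22) = true := between_extend chk 22 0 16555 35 (u472) r473
theorem u474 : ∀ k, 0 ≤ k → k < 16625 → chk (k * 22) = true := between_extend chk 22 0 16590 35 (u473) r474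
theorem u475 : ∀ k, 0 ≤ k → k < 16660 → chk (k * 22) = true := between_extend chk 22 0 16625 35 (u474) r475
theorem u476 : ∀ k, 0 ≤ k → k < 16695 → chk (k * 22) = true := between_extend chk 22 0 16660 35 (u475) r476
theorem u477 : ∀ k, 0 ≤ k → k < 16730 → chk (k * 22) = true := between_extend chk 22 0 16695 35 (u476) r477
theorem u478 : ∀ k, 0 ≤ k → k < 16765 → chk (k * 22) = true := between_extend chk 22 0 16730 35 (u477) r478
theorem u479 : ∀ k, 0 ≤ k → k < 16800 → chk (k * 22) = true := between_extend chk 22 0 16765 35 (u478) r479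
theorem u480 : ∀ k, 0 ≤ k → k < 16835 → chk (k * 22) = true := between_extend chk 22 0 16800 35 (u479) r480
theorem u481 : ∀ k, 0 ≤ k → k < 16870 → chk (k * 22) = true := between_extend chk 22 0 16835 35 (u480) r481
theorem u482 : ∀ k, 0 ≤ k → k < 16905 → chk (k * 22) = true := between_extend chk 22 0 16870 35 (u481) r482
theorem u483 : ∀ k, 0 ≤ k → k < 16940 → chk (k * 22) = true := between_extend chk 22 0 16905 35 (u482) r483
theorem u484 : ∀ k, 0 ≤ k → k < 16975 → chk (k * 22) = true := between_extend chk 22 0 16940 35 (u483) r484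
theorem u485 : ∀ k, 0 ≤ k → k < 17010 → chk (k * 22) = true := between_extend chk 22 0 16975 35 (u484) r485
theorem u486 : ∀ k, 0 ≤ k → k < 17045 → chk (k * 22) = true := between_extend chk 22 0 17010 35 (u485) r486
theorem u487 : ∀ k, 0 ≤ k → k < 17080 → chk (k * 22) = true := between_extend chk 22 0 17045 35 (u486) r487
theorem u488 : ∀ k, 0 ≤ k → k < 17115 → chk (k * 22) = true := between_extend chk 22 0 17080 35 (u487) r488
theorem u489 : ∀ k, 0 ≤ k → k < 17150 → chk (k * 22) = true := between_extend chk 22 0 17115 35 (u488) r489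
theorem u490 : ∀ k, 0 ≤ k → k < 17185 → chk (k * 22) = true := between_extend chk 22 0 17150 35 (u489) r490
theorem u491 : ∀ k, 0 ≤ k → k < 17220 → chk (k * 22) = true := between_extend chk 22 0 17185 35 (u490) r491
theorem u492 : ∀ k, 0 ≤ k → k < 17255 → chk (k * 22) = true := between_extend chk 22 0 17220 35 (u491) r492
theorem u493 : ∀ k, 0 ≤ k → k < 17290 → chk (k * 22) = true := between_extend chk 22 0 17255 35 (u492) r493
theorem u494 : ∀ k, 0 ≤ k → k < 17325 → chk (k * 22) = true := between_extend chk 22 0 17290 35 (u493) r494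
theorem u495 : ∀ k, 0 ≤ k → k < 17360 → chk (k * 22) = true := between_extend chk 22 0 17325 35 (u494) r495
theorem u496 : ∀ k, 0 ≤ k → k < 17395 → chk (k * 22) = true := between_extend chk 22 0 17360 35 (u495) r496
theorem u497 : ∀ k, 0 ≤ k → k < 17430 → chk (k * 22) = true := between_extend chk 22 0 17395 35 (u496) r497
theorem u498 : ∀ k, 0 ≤ k → k < 17465 → chk (k * 22) = true := between_extend chk 22 0 17430 35 (u497) r498
theorem u499 : ∀ k, 0 ≤ k → k < 17500 → chk (k * 22) = true := between_extend chk 22 0 17465 35 (u498) r499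
theorem u500 : ∀ k, 0 ≤ k → k < 17535 → chk (k * 22) = true := between_extend chk 22 0 17500 35 (u499) r500
theorem u501 : ∀ k, 0 ≤ k → k < 17570 → chk (k * 22) = true := between_extend chk 22 0 17535 35 (u500) r501
theorem u502 : ∀ k, 0 ≤ k → k < 17605 → chk (k * 22) = true := between_extend chk 22 0 17570 35 (u501) r502
theorem u503 : ∀ k, 0 ≤ k → k < 17640 → chk (k * 22) = true := between_extend chk 22 0 17605 35 (u502) r503
theorem u504 : ∀ k, 0 ≤ k → k < 17675 → chk (k * 22) = true := between_extend chk 22 0 17640 35 (u503) r504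
theorem u505 : ∀ k, 0 ≤ k → k < 17710 → chk (k * 22) = true := between_extend chk 22 0 17675 35 (u504) r505
theorem u506 : ∀ k, 0 ≤ k → k < 17745 → chk (k * 22) = true := between_extend chk 22 0 17710 35 (u505) r506
theorem u507 : ∀ k, 0 ≤ k → k < 17780 → chk (k * 22) = true := between_extend chk 22 0 17745 35 (u506) r507
theorem u508 : ∀ k, 0 ≤ k → k < 17815 → chk (k * 22) = true := between_extend chk 22 0 17780 35 (u507) r508
theorem u509 : ∀ k, 0 ≤ k → k < 17850 → chk (k * 22) = true := between_extend chk 22 0 17815 35 (u508) r509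
theorem u510 : ∀ k, 0 ≤ k → k < 17885 → chk (k * 22) = true := between_extend chk 22 0 17850 35 (u509) r510
theorem u511 : ∀ k, 0 ≤ k → k < 17920 → chk (k * 22) = true := between_extend chk 22 0 17885 35 (u510) r511
theorem u512 : ∀ k, 0 ≤ k → k < 17955 → chk (k * 22) = true := between_extend chk 22 0 17920 35 (u511) r512
theorem u513 : ∀ k, 0 ≤ k → k < 17990 → chk (k * 22) = true := between_extend chk 22 0 17955 35 (u512) r513
theorem u514 : ∀ k, 0 ≤ k → k < 18025 → chk (k * 22) = true := between_extend chk 22 0 17990 35 (u513) r514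
theorem u515 : ∀ k, 0 ≤ k → k < 18060 → chk (k * 22) = true := between_extend chk 22 0 18025 35 (u514) r515
theorem u516 : ∀ k, 0 ≤ k → k < 18095 → chk (k * 22) = true := between_extend chk 22 0 18060 35 (u515) r516
theorem u517 : ∀ k, 0 ≤ k → k < 18130 → chk (k * 22) = true := between_extend chk 22 0 18095 35 (u516) r517
theorem u518 : ∀ k, 0 ≤ k → k < 18165 → chk (k * 22) = true := between_extend chk 22 0 18130 35 (u517) r518
theorem u519 : ∀ k, 0 ≤ k → k < 18200 → chk (k * 22) = true := between_extend chk 22 0 18165 35 (u518) r519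
theorem u520 : ∀ k, 0 ≤ k → k < 18235 → chk (k * 22) = true := between_extend chk 22 0 18200 35 (u519) r520
theorem u521 : ∀ k, 0 ≤ k → k < 18270 → chk (k * 22) = true := between_extend chk 22 0 18235 35 (u520) r521
theorem u522 : ∀ k, 0 ≤ k → k < 18305 → chk (k * 22) = true := between_extend chk 22 0 18270 35 (u521) r522
theorem u523 : ∀ k, 0 ≤ k → k < 18340 → chk (k * 22) = true := between_extend chk 22 0 18305 35 (u522) r523
theorem u524 : ∀ k, 0 ≤ k → k < 18375 → chk (k * 22) = true := between_extend chk 22 0 18340 35 (u523) r524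
theorem u525 : ∀ k, 0 ≤ k → k < 18410 → chk (k * 22) = true := between_extend chk 22 0 18375 35 (u524) r525
theorem u526 : ∀ k, 0 ≤ k → k < 18445 → chk (k * 22) = true := between_extend chk 22 0 18410 35 (u525) r526
theorem u527 : ∀ k, 0 ≤ k → k < 18480 → chk (k * 22) = true := between_extend chk 22 0 18445 35 (u526) r527
theorem u528 : ∀ k, 0 ≤ k → k < 18515 → chk (k * 22) = true := between_extend chk 22 0 18480 35 (u527) r528
theorem u529 : ∀ k, 0 ≤ k → k < 18550 → chk (k * 22) = true := between_extend chk 22 0 18515 35 (u528) r529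
theorem u530 : ∀ k, 0 ≤ k → k < 18585 → chk (k * 22) = true := between_extend chk 22 0 18550 35 (u529) r530
theorem u531 : ∀ k, 0 ≤ k → k < 18620 → chk (k * 22) = true := between_extend chk 22 0 18585 35 (u530) r531
theorem u532 : ∀ k, 0 ≤ k → k < 18655 → chk (k * 22) = true := between_extend chk 22 0 18620 35 (u531) r532
theorem u533 : ∀ k, 0 ≤ k → k < 18690 → chk (k * 22) = true := between_extend chk 22 0 18655 35 (u532) r533
theorem u534 : ∀ k, 0 ≤ k → k < 18725 → chk (k * 22) = true := between_extend chk 22 0 18690 35 (u533) r534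
theorem u535 : ∀ k, 0 ≤ k → k < 18760 → chk (k * 22) = true := between_extend chk 22 0 18725 35 (u534) r535
theorem u536 : ∀ k, 0 ≤ k → k < 18795 → chk (k * 22) = true := between_extend chk 22 0 18760 35 (u535) r536
theorem u537 : ∀ k, 0 ≤ k → k < 18830 → chk (k * 22) = true := between_extend chk 22 0 18795 35 (u536) r537
theorem u538 : ∀ k, 0 ≤ k → k < 18865 → chk (k * 22) = true := between_extend chk 22 0 18830 35 (u537) r538
theorem u539 : ∀ k, 0 ≤ k → k < 18900 → chk (k * 22) = true := between_extend chk 22 0 18865 35 (u538) r539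
theorem u540 : ∀ k, 0 ≤ k → k < 18935 → chk (k * 22) = true := between_extend chk 22 0 18900 35 (u539) r540
theorem u541 : ∀ k, 0 ≤ k → k < 18970 → chk (k * 22) = true := between_extend chk 22 0 18935 35 (u540) r541
theorem u542 : ∀ k, 0 ≤ k → k < 19005 → chk (k * 22) = true := between_extend chk 22 0 18970 35 (u541) r542
theorem u543 : ∀ k, 0 ≤ k → k < 19040 → chk (k * 22) = true := between_extend chk 22 0 19005 35 (u542) r543
theorem u544 : ∀ k, 0 ≤ k → k < 19075 → chk (k * 22) = true := between_extend chk 22 0 19040 35 (u543) r544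
theorem u545 : ∀ k, 0 ≤ k → k < 19110 → chk (k * 22) = true := between_extend chk 22 0 19075 35 (u544) r545
theorem u546 : ∀ k, 0 ≤ k → k < 19145 → chk (k * 22) = true := between_extend chk 22 0 19110 35 (u545) r546
theorem u547 : ∀ k, 0 ≤ k → k < 19180 → chk (k * 22) = true := between_extend chk 22 0 19145 35 (u546) r547
theorem u548 : ∀ k, 0 ≤ k → k < 19215 → chk (k * 22) = true := between_extend chk 22 0 19180 35 (u547) r548
theorem u549 : ∀ k, 0 ≤ k → k < 19250 → chk (k * 22) = true := between_extend chk 22 0 19215 35 (u548) r549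
theorem u550 : ∀ k, 0 ≤ k → k < 19285 → chk (k * 22) = true := between_extend chk 22 0 19250 35 (u549) r550
theorem u551 : ∀ k, 0 ≤ k → k < 19320 → chk (k * 22) = true := between_extend chk 22 0 19285 35 (u550) r551
theorem u552 : ∀ k, 0 ≤ k → k < 19355 → chk (k * 22) = true := between_extend chk 22 0 19320 35 (u551) r552
theorem u553 : ∀ k, 0 ≤ k → k < 19390 → chk (k * 22) = true := between_extend chk 22 0 19355 35 (u552) r553
theorem u554 : ∀ k, 0 ≤ k → k < 19425 → chk (k * 22) = true := between_extend chk 22 0 19390 35 (u553) r554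
theorem u555 : ∀ k, 0 ≤ k → k < 19460 → chk (k * 22) = true := between_extend chk 22 0 19425 35 (u554) r555
theorem u556 : ∀ k, 0 ≤ k → k < 19495 → chk (k * 22) = true := between_extend chk 22 0 19460 35 (u555) r556
theorem u557 : ∀ k, 0 ≤ k → k < 19530 → chk (k * 22) = true := between_extend chk 22 0 19495 35 (u556) r557
theorem u558 : ∀ k, 0 ≤ k → k < 19565 → chk (k * 22) = true := between_extend chk 22 0 19530 35 (u557) r558
theorem u559 : ∀ k, 0 ≤ k → k < 19600 → chk (k * 22) = true := between_extend chk 22 0 19565 35 (u558) r559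
theorem u560 : ∀ k, 0 ≤ k → k < 19635 → chk (k * 22) = true := between_extend chk 22 0 19600 35 (u559) r560
theorem u561 : ∀ k, 0 ≤ k → k < 19670 → chk (k * 22) = true := between_extend chk 22 0 19635 35 (u560) r561
theorem u562 : ∀ k, 0 ≤ k → k < 19705 → chk (k * 22) = true := between_extend chk 22 0 19670 35 (u561) r562
theorem u563 : ∀ k, 0 ≤ k → k < 19740 → chk (k * 22) = true := between_extend chk 22 0 19705 35 (u562) r563
theorem u564 : ∀ k, 0 ≤ k → k < 19775 → chk (k * 22) = true := between_extend chk 22 0 19740 35 (u563) r564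
theorem u565 : ∀ k, 0 ≤ k → k < 19810 → chk (k * 22) = true := between_extend chk 22 0 19775 35 (u564) r565
theorem u566 : ∀ k, 0 ≤ k → k < 19845 → chk (k * 22) = true := between_extend chk 22 0 19810 35 (u565) r566
theorem u567 : ∀ k, 0 ≤ k → k < 19880 → chk (k * 22) = true := between_extend chk 22 0 19845 35 (u566) r567
theorem u568 : ∀ k, 0 ≤ k → k < 19915 → chk (k * 22) = true := between_extend chk 22 0 19880 35 (u567) r568
theorem u569 : ∀ k, 0 ≤ k → k < 19950 → chk (k * 22) = true := between_extend chk 22 0 19915 35 (u568) r569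
theorem u570 : ∀ k, 0 ≤ k → k < 19985 → chk (k * 22) = true := between_extend chk 22 0 19950 35 (u569) r570
theorem u571 : ∀ k, 0 ≤ k → k < 20020 → chk (k * 22) = true := between_extend chk 22 0 19985 35 (u570) r571
theorem u572 : ∀ k, 0 ≤ k → k < 20055 → chk (k * 22) = true := between_extend chk 22 0 20020 35 (u571) r572
theorem u573 : ∀ k, 0 ≤ k → k < 20090 → chk (k * 22) = true := between_extend chk 22 0 20055 35 (u572) r573
theorem u574 : ∀ k, 0 ≤ k → k < 20125 → chk (k * 22) = true := between_extend chk 22 0 20090 35 (u573) r574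
theorem u575 : ∀ k, 0 ≤ k → k < 20160 → chk (k * 22) = true := between_extend chk 22 0 20125 35 (u574) r575
theorem u576 : ∀ k, 0 ≤ k → k < 20195 → chk (k * 22) = true := between_extend chk 22 0 20160 35 (u575) r576
theorem u577 : ∀ k, 0 ≤ k → k < 20230 → chk (k * 22) = true := between_extend chk 22 0 20195 35 (u576) r577
theorem u578 : ∀ k, 0 ≤ k → k < 20265 → chk (k * 22) = true := between_extend chk 22 0 20230 35 (u577) r578
theorem u579 : ∀ k, 0 ≤ k → k < 20300 → chk (k * 22) = true := between_extend chk 22 0 20265 35 (u578) r579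
theorem u580 : ∀ k, 0 ≤ k → k < 20335 → chk (k * 22) = true := between_extend chk 22 0 20300 35 (u579) r580
theorem u581 : ∀ k, 0 ≤ k → k < 20370 → chk (k * 22) = true := between_extend chk 22 0 20335 35 (u580) r581
theorem u582 : ∀ k, 0 ≤ k → k < 20405 → chk (k * 22) = true := between_extend chk 22 0 20370 35 (u581) r582
theorem u583 : ∀ k, 0 ≤ k → k < 20440 → chk (k * 22) = true := between_extend chk 22 0 20405 35 (u582) r583
theorem u584 : ∀ k, 0 ≤ k → k < 20475 → chk (k * 22) = true := between_extend chk 22 0 20440 35 (u583) r584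
theorem u585 : ∀ k, 0 ≤ k → k < 20510 → chk (k * 22) = true := between_extend chk 22 0 20475 35 (u584) r585
theorem u586 : ∀ k, 0 ≤ k → k < 20545 → chk (k * 22) = true := between_extend chk 22 0 20510 35 (u585) r586
theorem u587 : ∀ k, 0 ≤ k → k < 20580 → chk (k * 22) = true := between_extend chk 22 0 20545 35 (u586) r587
theorem u588 : ∀ k, 0 ≤ k → k < 20615 → chk (k * 22) = true := between_extend chk 22 0 20580 35 (u587) r588
theorem u589 : ∀ k, 0 ≤ k → k < 20650 → chk (k * 22) = true := between_extend chk 22 0 20615 35 (u588) r589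
theorem u590 : ∀ k, 0 ≤ k → k < 20685 → chk (k * 22) = true := between_extend chk 22 0 20650 35 (u589) r590
theorem u591 : ∀ k, 0 ≤ k → k < 20720 → chk (k * 22) = true := between_extend chk 22 0 20685 35 (u590) r591
theorem u592 : ∀ k, 0 ≤ k → k < 20755 → chk (k * 22) = true := between_extend chk 22 0 20720 35 (u591) r592
theorem u593 : ∀ k, 0 ≤ k → k < 20790 → chk (k * 22) = true := between_extend chk 22 0 20755 35 (u592) r593
theorem u594 : ∀ k, 0 ≤ k → k < 20825 → chk (k * 22) = true := between_extend chk 22 0 20790 35 (u593) r594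
theorem u595 : ∀ k, 0 ≤ k → k < 20860 → chk (k * 22) = true := between_extend chk 22 0 20825 35 (u594) r595
theorem u596 : ∀ k, 0 ≤ k → k < 20895 → chk (k * 22) = true := between_extend chk 22 0 20860 35 (u595) r596
theorem u597 : ∀ k, 0 ≤ k → k < 20930 → chk (k * 22) = true := between_extend chk 22 0 20895 35 (u596) r597
theorem u598 : ∀ k, 0 ≤ k → k < 20965 → chk (k * 22) = true := between_extend chk 22 0 20930 35 (u597) r598
theorem u599 : ∀ k, 0 ≤ k → k < 21000 → chk (k * 22) = true := between_extend chk 22 0 20965 35 (u598) r599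
theorem u600 : ∀ k, 0 ≤ k → k < 21035 → chk (k * 22) = true := between_extend chk 22 0 21000 35 (u599) r600
theorem u601 : ∀ k, 0 ≤ k → k < 21070 → chk (k * 22) = true := between_extend chk 22 0 21035 35 (u600) r601
theorem u602 : ∀ k, 0 ≤ k → k < 21105 → chk (k * 22) = true := between_extend chk 22 0 21070 35 (u601) r602
theorem u603 : ∀ k, 0 ≤ k → k < 21140 → chk (k * 22) = true := between_extend chk 22 0 21105 35 (u602) r603
theorem u604 : ∀ k, 0 ≤ k → k < 21175 → chk (k * 22) = true := between_extend chk 22 0 21140 35 (u603) r604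
theorem u605 : ∀ k, 0 ≤ k → k < 21210 → chk (k * 22) = true := between_extend chk 22 0 21175 35 (u604) r605
theorem u606 : ∀ k, 0 ≤ k → k < 21245 → chk (k * 22) = true := between_extend chk 22 0 21210 35 (u605) r606
theorem u607 : ∀ k, 0 ≤ k → k < 21280 → chk (k * 22) = true := between_extend chk 22 0 21245 35 (u606) r607
theorem u608 : ∀ k, 0 ≤ k → k < 21315 → chk (k * 22) = true := between_extend chk 22 0 21280 35 (u607) r608
theorem u609 : ∀ k, 0 ≤ k → k < 21350 → chk (k * 22) = true := between_extend chk 22 0 21315 35 (u608) r609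
theorem u610 : ∀ k, 0 ≤ k → k < 21385 → chk (k * 22) = true := between_extend chk 22 0 21350 35 (u609) r610
theorem u611 : ∀ k, 0 ≤ k → k < 21420 → chk (k * 22) = true := between_extend chk 22 0 21385 35 (u610) r611
theorem u612 : ∀ k, 0 ≤ k → k < 21455 → chk (k * 22) = true := between_extend chk 22 0 21420 35 (u611) r612
theorem u613 : ∀ k, 0 ≤ k → k < 21490 → chk (k * 22) = true := between_extend chk 22 0 21455 35 (u612) r613
theorem u614 : ∀ k, 0 ≤ k → k < 21525 → chk (k * 22) = true := between_extend chk 22 0 21490 35 (u613) r614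
theorem u615 : ∀ k, 0 ≤ k → k < 21560 → chk (k * 22) = true := between_extend chk 22 0 21525 35 (u614) r615
theorem u616 : ∀ k, 0 ≤ k → k < 21595 → chk (k * 22) = true := between_extend chk 22 0 21560 35 (u615) r616
theorem u617 : ∀ k, 0 ≤ k → k < 21630 → chk (k * 22) = true := between_extend chk 22 0 21595 35 (u616) r617
theorem u618 : ∀ k, 0 ≤ k → k < 21665 → chk (k * 22) = true := between_extend chk 22 0 21630 35 (u617) r618
theorem u619 : ∀ k, 0 ≤ k → k < 21700 → chk (k * 22) = true := between_extend chk 22 0 21665 35 (u618) r619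
theorem u620 : ∀ k, 0 ≤ k → k < 21735 → chk (k * 22) = true := between_extend chk 22 0 21700 35 (u619) r620
theorem u621 : ∀ k, 0 ≤ k → k < 21770 → chk (k * 22) = true := between_extend chk 22 0 21735 35 (u620) r621
theorem u622 : ∀ k, 0 ≤ k → k < 21805 → chk (k * 22) = true := between_extend chk 22 0 21770 35 (u621) r622
theorem u623 : ∀ k, 0 ≤ k → k < 21840 → chk (k * 22) = true := between_extend chk 22 0 21805 35 (u622) r623
theorem u624 : ∀ k, 0 ≤ k → k < 21875 → chk (k * 22) = true := between_extend chk 22 0 21840 35 (u623) r624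
theorem u625 : ∀ k, 0 ≤ k → k < 21910 → chk (k * 22) = true := between_extend chk 22 0 21875 35 (u624) r625
theorem u626 : ∀ k, 0 ≤ k → k < 21945 → chk (k * 22) = true := between_extend chk 22 0 21910 35 (u625) r626
theorem u627 : ∀ k, 0 ≤ k → k < 21980 → chk (k * 22) = true := between_extend chk 22 0 21945 35 (u626) r627
theorem u628 : ∀ k, 0 ≤ k → k < 22015 → chk (k * 22) = true := between_extend chk 22 0 21980 35 (u627) r628
theorem u629 : ∀ k, 0 ≤ k → k < 22050 → chk (k * 22) = true := between_extend chk 22 0 22015 35 (u628) r629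
theorem u630 : ∀ k, 0 ≤ k → k < 22085 → chk (k * 22) = true := between_extend chk 22 0 22050 35 (u629) r630
theorem u631 : ∀ k, 0 ≤ k → k < 22120 → chk (k * 22) = true := between_extend chk 22 0 22085 35 (u630) r631
theorem u632 : ∀ k, 0 ≤ k → k < 22155 → chk (k * 22) = true := between_extend chk 22 0 22120 35 (u631) r632
theorem u633 : ∀ k, 0 ≤ k → k < 22190 → chk (k * 22) = true := between_extend chk 22 0 22155 35 (u632) r633
theorem u634 : ∀ k, 0 ≤ k → k < 22225 → chk (k * 22) = true := between_extend chk 22 0 22190 35 (u633) r634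
theorem u635 : ∀ k, 0 ≤ k → k < 22260 → chk (k * 22) = true := between_extend chk 22 0 22225 35 (u634) r635
theorem u636 : ∀ k, 0 ≤ k → k < 22295 → chk (k * 22) = true := between_extend chk 22 0 22260 35 (u635) r636
theorem u637 : ∀ k, 0 ≤ k → k < 22330 → chk (k * 22) = true := between_extend chk 22 0 22295 35 (u636) r637
theorem u638 : ∀ k, 0 ≤ k → k < 22365 → chk (k * 22) = true := between_extend chk 22 0 22330 35 (u637) r638
theorem u639 : ∀ k, 0 ≤ k → k < 22400 → chk (k * 22) = true := between_extend chk 22 0 22365 35 (u638) r639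
theorem u640 : ∀ k, 0 ≤ k → k < 22435 → chk (k * 22) = true := between_extend chk 22 0 22400 35 (u639) r640
theorem u641 : ∀ k, 0 ≤ k → k < 22470 → chk (k * 22) = true := between_extend chk 22 0 22435 35 (u640) r641
theorem u642 : ∀ k, 0 ≤ k → k < 22505 → chk (k * 22) = true := between_extend chk 22 0 22470 35 (u641) r642
theorem u643 : ∀ k, 0 ≤ k → k < 22540 → chk (k * 22) = true := between_extend chk 22 0 22505 35 (u642) r643
theorem u644 : ∀ k, 0 ≤ k → k < 22575 → chk (k * 22) = true := between_extend chk 22 0 22540 35 (u643) r644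
theorem u645 : ∀ k, 0 ≤ k → k < 22610 → chk (k * 22) = true := between_extend chk 22 0 22575 35 (u644) r645
theorem u646 : ∀ k, 0 ≤ k → k < 22645 → chk (k * 22) = true := between_extend chk 22 0 22610 35 (u645) r646
theorem u647 : ∀ k, 0 ≤ k → k < 22680 → chk (k * 22) = true := between_extend chk 22 0 22645 35 (u646) r647
theorem u648 : ∀ k, 0 ≤ k → k < 22715 → chk (k * 22) = true := between_extend chk 22 0 22680 35 (u647) r648
theorem u649 : ∀ k, 0 ≤ k → k < 22750 → chk (k * 22) = true := between_extend chk 22 0 22715 35 (u648) r649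
theorem u650 : ∀ k, 0 ≤ k → k < 22785 → chk (k * 22) = true := between_extend chk 22 0 22750 35 (u649) r650
theorem u651 : ∀ k, 0 ≤ k → k < 22820 → chk (k * 22) = true := between_extend chk 22 0 22785 35 (u650) r651
theorem u652 : ∀ k, 0 ≤ k → k < 22855 → chk (k * 22) = true := between_extend chk 22 0 22820 35 (u651) r652
theorem u653 : ∀ k, 0 ≤ k → k < 22890 → chk (k * 22) = true := between_extend chk 22 0 22855 35 (u652) r653
theorem u654 : ∀ k, 0 ≤ k → k < 22925 → chk (k * 22) = true := between_extend chk 22 0 22890 35 (u653) r654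
theorem u655 : ∀ k, 0 ≤ k → k < 22960 → chk (k * 22) = true := between_extend chk 22 0 22925 35 (u654) r655
theorem u656 : ∀ k, 0 ≤ k → k < 22995 → chk (k * 22) = true := between_extend chk 22 0 22960 35 (u655) r656
theorem u657 : ∀ k, 0 ≤ k → k < 23030 → chk (k * 22) = true := between_extend chk 22 0 22995 35 (u656) r657
theorem u658 : ∀ k, 0 ≤ k → k < 23065 → chk (k * 22) = true := between_extend chk 22 0 23030 35 (u657) r658
theorem u659 : ∀ k, 0 ≤ k → k < 23100 → chk (k * 22) = true := between_extend chk 22 0 23065 35 (u658) r659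
theorem u660 : ∀ k, 0 ≤ k → k < 23135 → chk (k * 22) = true := between_extend chk 22 0 23100 35 (u659) r660
theorem u661 : ∀ k, 0 ≤ k → k < 23170 → chk (k * 22) = true := between_extend chk 22 0 23135 35 (u660) r661
theorem u662 : ∀ k, 0 ≤ k → k < 23205 → chk (k * 22) = true := between_extend chk 22 0 23170 35 (u661) r662
theorem u663 : ∀ k, 0 ≤ k → k < 23240 → chk (k * 22) = true := between_extend chk 22 0 23205 35 (u662) r663
theorem u664 : ∀ k, 0 ≤ k → k < 23275 → chk (k * 22) = true := between_extend chk 22 0 23240 35 (u663) r664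
theorem u665 : ∀ k, 0 ≤ k → k < 23310 → chk (k * 22) = true := between_extend chk 22 0 23275 35 (u664) r665
theorem u666 : ∀ k, 0 ≤ k → k < 23345 → chk (k * 22) = true := between_extend chk 22 0 23310 35 (u665) r666
theorem u667 : ∀ k, 0 ≤ k → k < 23380 → chk (k * 22) = true := between_extend chk 22 0 23345 35 (u666) r667
theorem u668 : ∀ k, 0 ≤ k → k < 23415 → chk (k * 22) = true := between_extend chk 22 0 23380 35 (u667) r668
theorem u669 : ∀ k, 0 ≤ k → k < 23450 → chk (k * 22) = true := between_extend chk 22 0 23415 35 (u668) r669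
theorem u670 : ∀ k, 0 ≤ k → k < 23485 → chk (k * 22) = true := between_extend chk 22 0 23450 35 (u669) r670
theorem u671 : ∀ k, 0 ≤ k → k < 23520 → chk (k * 22) = true := between_extend chk 22 0 23485 35 (u670) r671
theorem u672 : ∀ k, 0 ≤ k → k < 23555 → chk (k * 22) = true := between_extend chk 22 0 23520 35 (u671) r672
theorem u673 : ∀ k, 0 ≤ k → k < 23590 → chk (k * 22) = true := between_extend chk 22 0 23555 35 (u672) r673
theorem u674 : ∀ k, 0 ≤ k → k < 23625 → chk (k * 22) = true := between_extend chk 22 0 23590 35 (u673) r674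
theorem u675 : ∀ k, 0 ≤ k → k < 23660 → chk (k * 22) = true := between_extend chk 22 0 23625 35 (u674) r675
theorem u676 : ∀ k, 0 ≤ k → k < 23695 → chk (k * 22) = true := between_extend chk 22 0 23660 35 (u675) r676
theorem u677 : ∀ k, 0 ≤ k → k < 23730 → chk (k * 22) = true := between_extend chk 22 0 23695 35 (u676) r677
theorem u678 : ∀ k, 0 ≤ k → k < 23765 → chk (k * 22) = true := between_extend chk 22 0 23730 35 (u677) r678
theorem u679 : ∀ k, 0 ≤ k → k < 23800 → chk (k * 22) = true := between_extend chk 22 0 23765 35 (u678) r679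
theorem u680 : ∀ k, 0 ≤ k → k < 23835 → chk (k * 22) = true := between_extend chk 22 0 23800 35 (u679) r680
theorem u681 : ∀ k, 0 ≤ k → k < 23870 → chk (k * 22) = true := between_extend chk 22 0 23835 35 (u680) r681
theorem u682 : ∀ k, 0 ≤ k → k < 23905 → chk (k * 22) = true := between_extend chk 22 0 23870 35 (u681) r682
theorem u683 : ∀ k, 0 ≤ k → k < 23940 → chk (k * 22) = true := between_extend chk 22 0 23905 35 (u682) r683
theorem u684 : ∀ k, 0 ≤ k → k < 23975 → chk (k * 22) = true := between_extend chk 22 0 23940 35 (u683) r684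
theorem u685 : ∀ k, 0 ≤ k → k < 24010 → chk (k * 22) = true := between_extend chk 22 0 23975 35 (u684) r685
theorem u686 : ∀ k, 0 ≤ k → k < 24045 → chk (k * 22) = true := between_extend chk 22 0 24010 35 (u685) r686
theorem u687 : ∀ k, 0 ≤ k → k < 24080 → chk (k * 22) = true := between_extend chk 22 0 24045 35 (u686) r687
theorem u688 : ∀ k, 0 ≤ k → k < 24115 → chk (k * 22) = true := between_extend chk 22 0 24080 35 (u687) r688
theorem u689 : ∀ k, 0 ≤ k → k < 24150 → chk (k * 22) = true := between_extend chk 22 0 24115 35 (u688) r689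
theorem u690 : ∀ k, 0 ≤ k → k < 24185 → chk (k * 22) = true := between_extend chk 22 0 24150 35 (u689) r690
theorem u691 : ∀ k, 0 ≤ k → k < 24220 → chk (k * 22) = true := between_extend chk 22 0 24185 35 (u690) r691
theorem u692 : ∀ k, 0 ≤ k → k < 24255 → chk (k * 22) = true := between_extend chk 22 0 24220 35 (u691) r692
theorem u693 : ∀ k, 0 ≤ k → k < 24290 → chk (k * 22) = true := between_extend chk 22 0 24255 35 (u692) r693
theorem u694 : ∀ k, 0 ≤ k → k < 24325 → chk (k * 22) = true := between_extend chk 22 0 24290 35 (u693) r694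
theorem u695 : ∀ k, 0 ≤ k → k < 24360 → chk (k * 22) = true := between_extend chk 22 0 24325 35 (u694) r695
theorem u696 : ∀ k, 0 ≤ k → k < 24395 → chk (k * 22) = true := between_extend chk 22 0 24360 35 (u695) r696
theorem u697 : ∀ k, 0 ≤ k → k < 24430 → chk (k * 22) = true := between_extend chk 22 0 24395 35 (u696) r697
theorem u698 : ∀ k, 0 ≤ k → k < 24465 → chk (k * 22) = true := between_extend chk 22 0 24430 35 (u697) r698
theorem u699 : ∀ k, 0 ≤ k → k < 24500 → chk (k * 22) = true := between_extend chk 22 0 24465 35 (u698) r699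
theorem u700 : ∀ k, 0 ≤ k → k < 24535 → chk (k * 22) = true := between_extend chk 22 0 24500 35 (u699) r700
theorem u701 : ∀ k, 0 ≤ k → k < 24570 → chk (k * 22) = true := between_extend chk 22 0 24535 35 (u700) r701
theorem u702 : ∀ k, 0 ≤ k → k < 24605 → chk (k * 22) = true := between_extend chk 22 0 24570 35 (u701) r702
theorem u703 : ∀ k, 0 ≤ k → k < 24640 → chk (k * 22) = true := between_extend chk 22 0 24605 35 (u702) r703
theorem u704 : ∀ k, 0 ≤ k → k < 24675 → chk (k * 22) = true := between_extend chk 22 0 24640 35 (u703) r704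
theorem u705 : ∀ k, 0 ≤ k → k < 24710 → chk (k * 22) = true := between_extend chk 22 0 24675 35 (u704) r705
theorem u706 : ∀ k, 0 ≤ k → k < 24745 → chk (k * 22) = true := between_extend chk 22 0 24710 35 (u705) r706
theorem u707 : ∀ k, 0 ≤ k → k < 24780 → chk (k * 22) = true := between_extend chk 22 0 24745 35 (u706) r707
theorem u708 : ∀ k, 0 ≤ k → k < 24815 → chk (k * 22) = true := between_extend chk 22 0 24780 35 (u707) r708
theorem u709 : ∀ k, 0 ≤ k → k < 24850 → chk (k * 22) = true := between_extend chk 22 0 24815 35 (u708) r709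
theorem u710 : ∀ k, 0 ≤ k → k < 24885 → chk (k * 22) = true := between_extend chk 22 0 24850 35 (u709) r710
theorem u711 : ∀ k, 0 ≤ k → k < 24920 → chk (k * 22) = true := between_extend chk 22 0 24885 35 (u710) r711
theorem u712 : ∀ k, 0 ≤ k → k < 24955 → chk (k * 22) = true := between_extend chk 22 0 24920 35 (u711) r712
theorem u713 : ∀ k, 0 ≤ k → k < 24990 → chk (k * 22) = true := between_extend chk 22 0 24955 35 (u712) r713
theorem u714 : ∀ k, 0 ≤ k → k < 25025 → chk (k * 22) = true := between_extend chk 22 0 24990 35 (u713) r714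
theorem u715 : ∀ k, 0 ≤ k → k < 25060 → chk (k * 22) = true := between_extend chk 22 0 25025 35 (u714) r715
theorem u716 : ∀ k, 0 ≤ k → k < 25095 → chk (k * 22) = true := between_extend chk 22 0 25060 35 (u715) r716
theorem u717 : ∀ k, 0 ≤ k → k < 25130 → chk (k * 22) = true := between_extend chk 22 0 25095 35 (u716) r717
theorem u718 : ∀ k, 0 ≤ k → k < 25165 → chk (k * 22) = true := between_extend chk 22 0 25130 35 (u717) r718
theorem u719 : ∀ k, 0 ≤ k → k < 25200 → chk (k * 22) = true := between_extend chk 22 0 25165 35 (u718) r719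
theorem u720 : ∀ k, 0 ≤ k → k < 25235 → chk (k * 22) = true := between_extend chk 22 0 25200 35 (u719) r720
theorem u721 : ∀ k, 0 ≤ k → k < 25270 → chk (k * 22) = true := between_extend chk 22 0 25235 35 (u720) r721
theorem u722 : ∀ k, 0 ≤ k → k < 25305 → chk (k * 22) = true := between_extend chk 22 0 25270 35 (u721) r722
theorem u723 : ∀ k, 0 ≤ k → k < 25340 → chk (k * 22) = true := between_extend chk 22 0 25305 35 (u722) r723
theorem u724 : ∀ k, 0 ≤ k → k < 25375 → chk (k * 22) = true := between_extend chk 22 0 25340 35 (u723) r724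
theorem u725 : ∀ k, 0 ≤ k → k < 25410 → chk (k * 22) = true := between_extend chk 22 0 25375 35 (u724) r725
theorem u726 : ∀ k, 0 ≤ k → k < 25445 → chk (k * 22) = true := between_extend chk 22 0 25410 35 (u725) r726
theorem u727 : ∀ k, 0 ≤ k → k < 25480 → chk (k * 22) = true := between_extend chk 22 0 25445 35 (u726) r727
theorem u728 : ∀ k, 0 ≤ k → k < 25515 → chk (k * 22) = true := between_extend chk 22 0 25480 35 (u727) r728
theorem u729 : ∀ k, 0 ≤ k → k < 25550 → chk (k * 22) = true := between_extend chk 22 0 25515 35 (u728) r729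
theorem u730 : ∀ k, 0 ≤ k → k < 25585 → chk (k * 22) = true := between_extend chk 22 0 25550 35 (u729) r730
theorem u731 : ∀ k, 0 ≤ k → k < 25620 → chk (k * 22) = true := between_extend chk 22 0 25585 35 (u730) r731
theorem u732 : ∀ k, 0 ≤ k → k < 25655 → chk (k * 22) = true := between_extend chk 22 0 25620 35 (u731) r732
theorem u733 : ∀ k, 0 ≤ k → k < 25690 → chk (k * 22) = true := between_extend chk 22 0 25655 35 (u732) r733
theorem u734 : ∀ k, 0 ≤ k → k < 25725 → chk (k * 22) = true := between_extend chk 22 0 25690 35 (u733) r734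
theorem u735 : ∀ k, 0 ≤ k → k < 25760 → chk (k * 22) = true := between_extend chk 22 0 25725 35 (u734) r735
theorem u736 : ∀ k, 0 ≤ k → k < 25795 → chk (k * 22) = true := between_extend chk 22 0 25760 35 (u735) r736
theorem u737 : ∀ k, 0 ≤ k → k < 25830 → chk (k * 22) = true := between_extend chk 22 0 25795 35 (u736) r737
theorem u738 : ∀ k, 0 ≤ k → k < 25865 → chk (k * 22) = true := between_extend chk 22 0 25830 35 (u737) r738
theorem u739 : ∀ k, 0 ≤ k → k < 25900 → chk (k * 22) = true := between_extend chk 22 0 25865 35 (u738) r739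
theorem u740 : ∀ k, 0 ≤ k → k < 25935 → chk (k * 22) = true := between_extend chk 22 0 25900 35 (u739) r740
theorem u741 : ∀ k, 0 ≤ k → k < 25970 → chk (k * 22) = true := between_extend chk 22 0 25935 35 (u740) r741
theorem u742 : ∀ k, 0 ≤ k → k < 26005 → chk (k * 22) = true := between_extend chk 22 0 25970 35 (u741) r742
theorem u743 : ∀ k, 0 ≤ k → k < 26040 → chk (k * 22) = true := between_extend chk 22 0 26005 35 (u742) r743
theorem u744 : ∀ k, 0 ≤ k → k < 26075 → chk (k * 22) = true := between_extend chk 22 0 26040 35 (u743) r744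
theorem u745 : ∀ k, 0 ≤ k → k < 26110 → chk (k * 22) = true := between_extend chk 22 0 26075 35 (u744) r745
theorem u746 : ∀ k, 0 ≤ k → k < 26145 → chk (k * 22) = true := between_extend chk 22 0 26110 35 (u745) r746
theorem u747 : ∀ k, 0 ≤ k → k < 26180 → chk (k * 22) = true := between_extend chk 22 0 26145 35 (u746) r747
theorem u748 : ∀ k, 0 ≤ k → k < 26215 → chk (k * 22) = true := between_extend chk 22 0 26180 35 (u747) r748
theorem u749 : ∀ k, 0 ≤ k → k < 26250 → chk (k * 22) = true := between_extend chk 22 0 26215 35 (u748) r749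
theorem u750 : ∀ k, 0 ≤ k → k < 26285 → chk (k * 22) = true := between_extend chk 22 0 26250 35 (u749) r750
theorem u751 : ∀ k, 0 ≤ k → k < 26320 → chk (k * 22) = true := between_extend chk 22 0 26285 35 (u750) r751
theorem u752 : ∀ k, 0 ≤ k → k < 26355 → chk (k * 22) = true := between_extend chk 22 0 26320 35 (u751) r752
theorem u753 : ∀ k, 0 ≤ k → k < 26390 → chk (k * 22) = true := between_extend chk 22 0 26355 35 (u752) r753
theorem u754 : ∀ k, 0 ≤ k → k < 26425 → chk (k * 22) = true := between_extend chk 22 0 26390 35 (u753) r754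
theorem u755 : ∀ k, 0 ≤ k → k < 26460 → chk (k * 22) = true := between_extend chk 22 0 26425 35 (u754) r755
theorem u756 : ∀ k, 0 ≤ k → k < 26495 → chk (k * 22) = true := between_extend chk 22 0 26460 35 (u755) r756
theorem u757 : ∀ k, 0 ≤ k → k < 26530 → chk (k * 22) = true := between_extend chk 22 0 26495 35 (u756) r757
theorem u758 : ∀ k, 0 ≤ k → k < 26565 → chk (k * 22) = true := between_extend chk 22 0 26530 35 (u757) r758
theorem u759 : ∀ k, 0 ≤ k → k < 26600 → chk (k * 22) = true := between_extend chk 22 0 26565 35 (u758) r759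
theorem u760 : ∀ k, 0 ≤ k → k < 26635 → chk (k * 22) = true := between_extend chk 22 0 26600 35 (u759) r760
theorem u761 : ∀ k, 0 ≤ k → k < 26670 → chk (k * 22) = true := between_extend chk 22 0 26635 35 (u760) r761
theorem u762 : ∀ k, 0 ≤ k → k < 26705 → chk (k * 22) = true := between_extend chk 22 0 26670 35 (u761) r762
theorem u763 : ∀ k, 0 ≤ k → k < 26740 → chk (k * 22) = true := between_extend chk 22 0 26705 35 (u762) r763
theorem u764 : ∀ k, 0 ≤ k → k < 26775 → chk (k * 22) = true := between_extend chk 22 0 26740 35 (u763) r764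
theorem u765 : ∀ k, 0 ≤ k → k < 26810 → chk (k * 22) = true := between_extend chk 22 0 26775 35 (u764) r765
theorem u766 : ∀ k, 0 ≤ k → k < 26845 → chk (k * 22) = true := between_extend chk 22 0 26810 35 (u765) r766
theorem u767 : ∀ k, 0 ≤ k → k < 26880 → chk (k * 22) = true := between_extend chk 22 0 26845 35 (u766) r767
theorem u768 : ∀ k, 0 ≤ k → k < 26915 → chk (k * 22) = true := between_extend chk 22 0 26880 35 (u767) r768
theorem u769 : ∀ k, 0 ≤ k → k < 26950 → chk (k * 22) = true := between_extend chk 22 0 26915 35 (u768) r769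
theorem u770 : ∀ k, 0 ≤ k → k < 26985 → chk (k * 22) = true := between_extend chk 22 0 26950 35 (u769) r770
theorem u771 : ∀ k, 0 ≤ k → k < 27020 → chk (k * 22) = true := between_extend chk 22 0 26985 35 (u770) r771
theorem u772 : ∀ k, 0 ≤ k → k < 27055 → chk (k * 22) = true := between_extend chk 22 0 27020 35 (u771) r772
theorem u773 : ∀ k, 0 ≤ k → k < 27090 → chk (k * 22) = true := between_extend chk 22 0 27055 35 (u772) r773
theorem u774 : ∀ k, 0 ≤ k → k < 27125 → chk (k * 22) = true := between_extend chk 22 0 27090 35 (u773) r774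
theorem u775 : ∀ k, 0 ≤ k → k < 27160 → chk (k * 22) = true := between_extend chk 22 0 27125 35 (u774) r775
theorem u776 : ∀ k, 0 ≤ k → k < 27195 → chk (k * 22) = true := between_extend chk 22 0 27160 35 (u775) r776
theorem u777 : ∀ k, 0 ≤ k → k < 27230 → chk (k * 22) = true := between_extend chk 22 0 27195 35 (u776) r777
theorem u778 : ∀ k, 0 ≤ k → k < 27265 → chk (k * 22) = true := between_extend chk 22 0 27230 35 (u777) r778
theorem u779 : ∀ k, 0 ≤ k → k < 27300 → chk (k * 22) = true := between_extend chk 22 0 27265 35 (u778) r779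
theorem u780 : ∀ k, 0 ≤ k → k < 27335 → chk (k * 22) = true := between_extend chk 22 0 27300 35 (u779) r780
theorem u781 : ∀ k, 0 ≤ k → k < 27370 → chk (k * 22) = true := between_extend chk 22 0 27335 35 (u780) r781
theorem u782 : ∀ k, 0 ≤ k → k < 27405 → chk (k * 22) = true := between_extend chk 22 0 27370 35 (u781) r782
theorem u783 : ∀ k, 0 ≤ k → k < 27440 → chk (k * 22) = true := between_extend chk 22 0 27405 35 (u782) r783
theorem u784 : ∀ k, 0 ≤ k → k < 27475 → chk (k * 22) = true := between_extend chk 22 0 27440 35 (u783) r784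
theorem u785 : ∀ k, 0 ≤ k → k < 27510 → chk (k * 22) = true := between_extend chk 22 0 27475 35 (u784) r785
theorem u786 : ∀ k, 0 ≤ k → k < 27545 → chk (k * 22) = true := between_extend chk 22 0 27510 35 (u785) r786
theorem u787 : ∀ k, 0 ≤ k → k < 27580 → chk (k * 22) = true := between_extend chk 22 0 27545 35 (u786) r787
theorem u788 : ∀ k, 0 ≤ k → k < 27615 → chk (k * 22) = true := between_extend chk 22 0 27580 35 (u787) r788
theorem u789 : ∀ k, 0 ≤ k → k < 27650 → chk (k * 22) = true := between_extend chk 22 0 27615 35 (u788) r789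
theorem u790 : ∀ k, 0 ≤ k → k < 27685 → chk (k * 22) = true := between_extend chk 22 0 27650 35 (u789) r790
theorem u791 : ∀ k, 0 ≤ k → k < 27720 → chk (k * 22) = true := between_extend chk 22 0 27685 35 (u790) r791
theorem u792 : ∀ k, 0 ≤ k → k < 27755 → chk (k * 22) = true := between_extend chk 22 0 27720 35 (u791) r792
theorem u793 : ∀ k, 0 ≤ k → k < 27790 → chk (k * 22) = true := between_extend chk 22 0 27755 35 (u792) r793
theorem u794 : ∀ k, 0 ≤ k → k < 27825 → chk (k * 22) = true := between_extend chk 22 0 27790 35 (u793) r794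
theorem u795 : ∀ k, 0 ≤ k → k < 27860 → chk (k * 22) = true := between_extend chk 22 0 27825 35 (u794) r795
theorem u796 : ∀ k, 0 ≤ k → k < 27895 → chk (k * 22) = true := between_extend chk 22 0 27860 35 (u795) r796
theorem u797 : ∀ k, 0 ≤ k → k < 27930 → chk (k * 22) = true := between_extend chk 22 0 27895 35 (u796) r797
theorem u798 : ∀ k, 0 ≤ k → k < 27965 → chk (k * 22) = true := between_extend chk 22 0 27930 35 (u797) r798
theorem u799 : ∀ k, 0 ≤ k → k < 28000 → chk (k * 22) = true := between_extend chk 22 0 27965 35 (u798) r799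
theorem u800 : ∀ k, 0 ≤ k → k < 28035 → chk (k * 22) = true := between_extend chk 22 0 28000 35 (u799) r800
theorem u801 : ∀ k, 0 ≤ k → k < 28070 → chk (k * 22) = true := between_extend chk 22 0 28035 35 (u800) r801
theorem u802 : ∀ k, 0 ≤ k → k < 28105 → chk (k * 22) = true := between_extend chk 22 0 28070 35 (u801) r802
theorem u803 : ∀ k, 0 ≤ k → k < 28140 → chk (k * 22) = true := between_extend chk 22 0 28105 35 (u802) r803
theorem u804 : ∀ k, 0 ≤ k → k < 28175 → chk (k * 22) = true := between_extend chk 22 0 28140 35 (u803) r804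
theorem u805 : ∀ k, 0 ≤ k → k < 28210 → chk (k * 22) = true := between_extend chk 22 0 28175 35 (u804) r805
theorem u806 : ∀ k, 0 ≤ k → k < 28245 → chk (k * 22) = true := between_extend chk 22 0 28210 35 (u805) r806
theorem u807 : ∀ k, 0 ≤ k → k < 28280 → chk (k * 22) = true := between_extend chk 22 0 28245 35 (u806) r807
theorem u808 : ∀ k, 0 ≤ k → k < 28315 → chk (k * 22) = true := between_extend chk 22 0 28280 35 (u807) r808
theorem u809 : ∀ k, 0 ≤ k → k < 28350 → chk (k * 22) = true := between_extend chk 22 0 28315 35 (u808) r809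
theorem u810 : ∀ k, 0 ≤ k → k < 28385 → chk (k * 22) = true := between_extend chk 22 0 28350 35 (u809) r810
theorem u811 : ∀ k, 0 ≤ k → k < 28420 → chk (k * 22) = true := between_extend chk 22 0 28385 35 (u810) r811
theorem u812 : ∀ k, 0 ≤ k → k < 28455 → chk (k * 22) = true := between_extend chk 22 0 28420 35 (u811) r812
theorem u813 : ∀ k, 0 ≤ k → k < 28490 → chk (k * 22) = true := between_extend chk 22 0 28455 35 (u812) r813
theorem u814 : ∀ k, 0 ≤ k → k < 28525 → chk (k * 22) = true := between_extend chk 22 0 28490 35 (u813) r814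
theorem u815 : ∀ k, 0 ≤ k → k < 28560 → chk (k * 22) = true := between_extend chk 22 0 28525 35 (u814) r815
theorem u816 : ∀ k, 0 ≤ k → k < 28595 → chk (k * 22) = true := between_extend chk 22 0 28560 35 (u815) r816
theorem u817 : ∀ k, 0 ≤ k → k < 28630 → chk (k * 22) = true := between_extend chk 22 0 28595 35 (u816) r817
theorem u818 : ∀ k, 0 ≤ k → k < 28665 → chk (k * 22) = true := between_extend chk 22 0 28630 35 (u817) r818
theorem u819 : ∀ k, 0 ≤ k → k < 28700 → chk (k * 22) = true := between_extend chk 22 0 28665 35 (u818) r819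
theorem u820 : ∀ k, 0 ≤ k → k < 28735 → chk (k * 22) = true := between_extend chk 22 0 28700 35 (u819) r820
theorem u821 : ∀ k, 0 ≤ k → k < 28770 → chk (k * 22) = true := between_extend chk 22 0 28735 35 (u820) r821
theorem u822 : ∀ k, 0 ≤ k → k < 28805 → chk (k * 22) = true := between_extend chk 22 0 28770 35 (u821) r822
theorem u823 : ∀ k, 0 ≤ k → k < 28840 → chk (k * 22) = true := between_extend chk 22 0 28805 35 (u822) r823
theorem u824 : ∀ k, 0 ≤ k → k < 28875 → chk (k * 22) = true := between_extend chk 22 0 28840 35 (u823) r824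
theorem u825 : ∀ k, 0 ≤ k → k < 28910 → chk (k * 22) = true := between_extend chk 22 0 28875 35 (u824) r825
theorem u826 : ∀ k, 0 ≤ k → k < 28945 → chk (k * 22) = true := between_extend chk 22 0 28910 35 (u825) r826
theorem u827 : ∀ k, 0 ≤ k → k < 28980 → chk (k * 22) = true := between_extend chk 22 0 28945 35 (u826) r827
theorem u828 : ∀ k, 0 ≤ k → k < 29015 → chk (k * 22) = true := between_extend chk 22 0 28980 35 (u827) r828
theorem u829 : ∀ k, 0 ≤ k → k < 29050 → chk (k * 22) = true := between_extend chk 22 0 29015 35 (u828) r829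
theorem u830 : ∀ k, 0 ≤ k → k < 29085 → chk (k * 22) = true := between_extend chk 22 0 29050 35 (u829) r830
theorem u831 : ∀ k, 0 ≤ k → k < 29120 → chk (k * 22) = true := between_extend chk 22 0 29085 35 (u830) r831
theorem u832 : ∀ k, 0 ≤ k → k < 29155 → chk (k * 22) = true := between_extend chk 22 0 29120 35 (u831) r832
theorem u833 : ∀ k, 0 ≤ k → k < 29190 → chk (k * 22) = true := between_extend chk 22 0 29155 35 (u832) r833
theorem u834 : ∀ k, 0 ≤ k → k < 29225 → chk (k * 22) = true := between_extend chk 22 0 29190 35 (u833) r834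
theorem u835 : ∀ k, 0 ≤ k → k < 29260 → chk (k * 22) = true := between_extend chk 22 0 29225 35 (u834) r835
theorem u836 : ∀ k, 0 ≤ k → k < 29295 → chk (k * 22) = true := between_extend chk 22 0 29260 35 (u835) r836
theorem u837 : ∀ k, 0 ≤ k → k < 29330 → chk (k * 22) = true := between_extend chk 22 0 29295 35 (u836) r837
theorem u838 : ∀ k, 0 ≤ k → k < 29365 → chk (k * 22) = true := between_extend chk 22 0 29330 35 (u837) r838
theorem u839 : ∀ k, 0 ≤ k → k < 29400 → chk (k * 22) = true := between_extend chk 22 0 29365 35 (u838) r839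
theorem u840 : ∀ k, 0 ≤ k → k < 29435 → chk (k * 22) = true := between_extend chk 22 0 29400 35 (u839) r840
theorem u841 : ∀ k, 0 ≤ k → k < 29470 → chk (k * 22) = true := between_extend chk 22 0 29435 35 (u840) r841
theorem u842 : ∀ k, 0 ≤ k → k < 29505 → chk (k * 22) = true := between_extend chk 22 0 29470 35 (u841) r842
theorem u843 : ∀ k, 0 ≤ k → k < 29540 → chk (k * 22) = true := between_extend chk 22 0 29505 35 (u842) r843
theorem u844 : ∀ k, 0 ≤ k → k < 29575 → chk (k * 22) = true := between_extend chk 22 0 29540 35 (u843) r844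
theorem u845 : ∀ k, 0 ≤ k → k < 29610 → chk (k * 22) = true := between_extend chk 22 0 29575 35 (u844) r845
theorem u846 : ∀ k, 0 ≤ k → k < 29645 → chk (k * 22) = true := between_extend chk 22 0 29610 35 (u845) r846
theorem u847 : ∀ k, 0 ≤ k → k < 29680 → chk (k * 22) = true := between_extend chk 22 0 29645 35 (u846) r847
theorem u848 : ∀ k, 0 ≤ k → k < 29715 → chk (k * 22) = true := between_extend chk 22 0 29680 35 (u847) r848
theorem u849 : ∀ k, 0 ≤ k → k < 29750 → chk (k * 22) = true := between_extend chk 22 0 29715 35 (u848) r849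
theorem u850 : ∀ k, 0 ≤ k → k < 29785 → chk (k * 22) = true := between_extend chk 22 0 29750 35 (u849) r850
theorem u851 : ∀ k, 0 ≤ k → k < 29820 → chk (k * 22) = true := between_extend chk 22 0 29785 35 (u850) r851
theorem u852 : ∀ k, 0 ≤ k → k < 29855 → chk (k * 22) = true := between_extend chk 22 0 29820 35 (u851) r852
theorem u853 : ∀ k, 0 ≤ k → k < 29890 → chk (k * 22) = true := between_extend chk 22 0 29855 35 (u852) r853
theorem u854 : ∀ k, 0 ≤ k → k < 29925 → chk (k * 22) = true := between_extend chk 22 0 29890 35 (u853) r854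
theorem u855 : ∀ k, 0 ≤ k → k < 29960 → chk (k * 22) = true := between_extend chk 22 0 29925 35 (u854) r855
theorem u856 : ∀ k, 0 ≤ k → k < 29995 → chk (k * 22) = true := between_extend chk 22 0 29960 35 (u855) r856
theorem u857 : ∀ k, 0 ≤ k → k < 30030 → chk (k * 22) = true := between_extend chk 22 0 29995 35 (u856) r857
theorem u858 : ∀ k, 0 ≤ k → k < 30065 → chk (k * 22) = true := between_extend chk 22 0 30030 35 (u857) r858
theorem u859 : ∀ k, 0 ≤ k → k < 30100 → chk (k * 22) = true := between_extend chk 22 0 30065 35 (u858) r859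
theorem u860 : ∀ k, 0 ≤ k → k < 30135 → chk (k * 22) = true := between_extend chk 22 0 30100 35 (u859) r860
theorem u861 : ∀ k, 0 ≤ k → k < 30170 → chk (k * 22) = true := between_extend chk 22 0 30135 35 (u860) r861
theorem u862 : ∀ k, 0 ≤ k → k < 30205 → chk (k * 22) = true := between_extend chk 22 0 30170 35 (u861) r862
theorem u863 : ∀ k, 0 ≤ k → k < 30240 → chk (k * 22) = true := between_extend chk 22 0 30205 35 (u862) r863
theorem u864 : ∀ k, 0 ≤ k → k < 30275 → chk (k * 22) = true := between_extend chk 22 0 30240 35 (u863) r864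
theorem u865 : ∀ k, 0 ≤ k → k < 30310 → chk (k * 22) = true := between_extend chk 22 0 30275 35 (u864) r865
theorem u866 : ∀ k, 0 ≤ k → k < 30345 → chk (k * 22) = true := between_extend chk 22 0 30310 35 (u865) r866
theorem u867 : ∀ k, 0 ≤ k → k < 30380 → chk (k * 22) = true := between_extend chk 22 0 30345 35 (u866) r867
theorem u868 : ∀ k, 0 ≤ k → k < 30415 → chk (k * 22) = true := between_extend chk 22 0 30380 35 (u867) r868
theorem u869 : ∀ k, 0 ≤ k → k < 30450 → chk (k * 22) = true := between_extend chk 22 0 30415 35 (u868) r869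
theorem u870 : ∀ k, 0 ≤ k → k < 30485 → chk (k * 22) = true := between_extend chk 22 0 30450 35 (u869) r870
theorem u871 : ∀ k, 0 ≤ k → k < 30520 → chk (k * 22) = true := between_extend chk 22 0 30485 35 (u870) r871
theorem u872 : ∀ k, 0 ≤ k → k < 30555 → chk (k * 22) = true := between_extend chk 22 0 30520 35 (u871) r872
theorem u873 : ∀ k, 0 ≤ k → k < 30590 → chk (k * 22) = true := between_extend chk 22 0 30555 35 (u872) r873
theorem u874 : ∀ k, 0 ≤ k → k < 30625 → chk (k * 22) = true := between_extend chk 22 0 30590 35 (u873) r874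
theorem u875 : ∀ k, 0 ≤ k → k < 30660 → chk (k * 22) = true := between_extend chk 22 0 30625 35 (u874) r875
theorem u876 : ∀ k, 0 ≤ k → k < 30695 → chk (k * 22) = true := between_extend chk 22 0 30660 35 (u875) r876
theorem u877 : ∀ k, 0 ≤ k → k < 30730 → chk (k * 22) = true := between_extend chk 22 0 30695 35 (u876) r877
theorem u878 : ∀ k, 0 ≤ k → k < 30765 → chk (k * 22) = true := between_extend chk 22 0 30730 35 (u877) r878
theorem u879 : ∀ k, 0 ≤ k → k < 30800 → chk (k * 22) = true := between_extend chk 22 0 30765 35 (u878) r879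
theorem u880 : ∀ k, 0 ≤ k → k < 30835 → chk (k * 22) = true := between_extend chk 22 0 30800 35 (u879) r880
theorem u881 : ∀ k, 0 ≤ k → k < 30870 → chk (k * 22) = true := between_extend chk 22 0 30835 35 (u880) r881
theorem u882 : ∀ k, 0 ≤ k → k < 30905 → chk (k * 22) = true := between_extend chk 22 0 30870 35 (u881) r882
theorem u883 : ∀ k, 0 ≤ k → k < 30940 → chk (k * 22) = true := between_extend chk 22 0 30905 35 (u882) r883
theorem u884 : ∀ k, 0 ≤ k → k < 30975 → chk (k * 22) = true := between_extend chk 22 0 30940 35 (u883) r884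
theorem u885 : ∀ k, 0 ≤ k → k < 31010 → chk (k * 22) = true := between_extend chk 22 0 30975 35 (u884) r885
theorem u886 : ∀ k, 0 ≤ k → k < 31045 → chk (k * 22) = true := between_extend chk 22 0 31010 35 (u885) r886
theorem u887 : ∀ k, 0 ≤ k → k < 31080 → chk (k * 22) = true := between_extend chk 22 0 31045 35 (u886) r887
theorem u888 : ∀ k, 0 ≤ k → k < 31115 → chk (k * 22) = true := between_extend chk 22 0 31080 35 (u887) r888
theorem u889 : ∀ k, 0 ≤ k → k < 31150 → chk (k * 22) = true := between_extend chk 22 0 31115 35 (u888) r889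
theorem u890 : ∀ k, 0 ≤ k → k < 31185 → chk (k * 22) = true := between_extend chk 22 0 31150 35 (u889) r890
theorem u891 : ∀ k, 0 ≤ k → k < 31220 → chk (k * 22) = true := between_extend chk 22 0 31185 35 (u890) r891
theorem u892 : ∀ k, 0 ≤ k → k < 31255 → chk (k * 22) = true := between_extend chk 22 0 31220 35 (u891) r892
theorem u893 : ∀ k, 0 ≤ k → k < 31290 → chk (k * 22) = true := between_extend chk 22 0 31255 35 (u892) r893
theorem u894 : ∀ k, 0 ≤ k → k < 31325 → chk (k * 22) = true := between_extend chk 22 0 31290 35 (u893) r894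
theorem u895 : ∀ k, 0 ≤ k → k < 31360 → chk (k * 22) = true := between_extend chk 22 0 31325 35 (u894) r895
theorem u896 : ∀ k, 0 ≤ k → k < 31395 → chk (k * 22) = true := between_extend chk 22 0 31360 35 (u895) r896
theorem u897 : ∀ k, 0 ≤ k → k < 31430 → chk (k * 22) = true := between_extend chk 22 0 31395 35 (u896) r897
theorem u898 : ∀ k, 0 ≤ k → k < 31465 → chk (k * 22) = true := between_extend chk 22 0 31430 35 (u897) r898
theorem u899 : ∀ k, 0 ≤ k → k < 31500 → chk (k * 22) = true := between_extend chk 22 0 31465 35 (u898) r899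
theorem u900 : ∀ k, 0 ≤ k → k < 31535 → chk (k * 22) = true := between_extend chk 22 0 31500 35 (u899) r900
theorem u901 : ∀ k, 0 ≤ k → k < 31570 → chk (k * 22) = true := between_extend chk 22 0 31535 35 (u900) r901
theorem u902 : ∀ k, 0 ≤ k → k < 31605 → chk (k * 22) = true := between_extend chk 22 0 31570 35 (u901) r902
theorem u903 : ∀ k, 0 ≤ k → k < 31640 → chk (k * 22) = true := between_extend chk 22 0 31605 35 (u902) r903
theorem u904 : ∀ k, 0 ≤ k → k < 31675 → chk (k * 22) = true := between_extend chk 22 0 31640 35 (u903) r904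
theorem u905 : ∀ k, 0 ≤ k → k < 31710 → chk (k * 22) = true := between_extend chk 22 0 31675 35 (u904) r905
theorem u906 : ∀ k, 0 ≤ k → k < 31745 → chk (k * 22) = true := between_extend chk 22 0 31710 35 (u905) r906
theorem u907 : ∀ k, 0 ≤ k → k < 31780 → chk (k * 22) = true := between_extend chk 22 0 31745 35 (u906) r907
theorem u908 : ∀ k, 0 ≤ k → k < 31815 → chk (k * 22) = true := between_extend chk 22 0 31780 35 (u907) r908
theorem u909 : ∀ k, 0 ≤ k → k < 31850 → chk (k * 22) = true := between_extend chk 22 0 31815 35 (u908) r909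
theorem u910 : ∀ k, 0 ≤ k → k < 31885 → chk (k * 22) = true := between_extend chk 22 0 31850 35 (u909) r910
theorem u911 : ∀ k, 0 ≤ k → k < 31920 → chk (k * 22) = true := between_extend chk 22 0 31885 35 (u910) r911
theorem u912 : ∀ k, 0 ≤ k → k < 31955 → chk (k * 22) = true := between_extend chk 22 0 31920 35 (u911) r912
theorem u913 : ∀ k, 0 ≤ k → k < 31990 → chk (k * 22) = true := between_extend chk 22 0 31955 35 (u912) r913
theorem u914 : ∀ k, 0 ≤ k → k < 32025 → chk (k * 22) = true := between_extend chk 22 0 31990 35 (u913) r914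
theorem u915 : ∀ k, 0 ≤ k → k < 32060 → chk (k * 22) = true := between_extend chk 22 0 32025 35 (u914) r915
theorem u916 : ∀ k, 0 ≤ k → k < 32095 → chk (k * 22) = true := between_extend chk 22 0 32060 35 (u915) r916
theorem u917 : ∀ k, 0 ≤ k → k < 32130 → chk (k * 22) = true := between_extend chk 22 0 32095 35 (u916) r917
theorem u918 : ∀ k, 0 ≤ k → k < 32165 → chk (k * 22) = true := between_extend chk 22 0 32130 35 (u917) r918
theorem u919 : ∀ k, 0 ≤ k → k < 32200 → chk (k * 22) = true := between_extend chk 22 0 32165 35 (u918) r919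
theorem u920 : ∀ k, 0 ≤ k → k < 32235 → chk (k * 22) = true := between_extend chk 22 0 32200 35 (u919) r920
theorem u921 : ∀ k, 0 ≤ k → k < 32270 → chk (k * 22) = true := between_extend chk 22 0 32235 35 (u920) r921
theorem u922 : ∀ k, 0 ≤ k → k < 32305 → chk (k * 22) = true := between_extend chk 22 0 32270 35 (u921) r922
theorem u923 : ∀ k, 0 ≤ k → k < 32340 → chk (k * 22) = true := between_extend chk 22 0 32305 35 (u922) r923
theorem u924 : ∀ k, 0 ≤ k → k < 32375 → chk (k * 22) = true := between_extend chk 22 0 32340 35 (u923) r924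
theorem u925 : ∀ k, 0 ≤ k → k < 32410 → chk (k * 22) = true := between_extend chk 22 0 32375 35 (u924) r925
theorem u926 : ∀ k, 0 ≤ k → k < 32445 → chk (k * 22) = true := between_extend chk 22 0 32410 35 (u925) r926
theorem u927 : ∀ k, 0 ≤ k → k < 32480 → chk (k * 22) = true := between_extend chk 22 0 32445 35 (u926) r927
theorem u928 : ∀ k, 0 ≤ k → k < 32515 → chk (k * 22) = true := between_extend chk 22 0 32480 35 (u927) r928
theorem u929 : ∀ k, 0 ≤ k → k < 32550 → chk (k * 22) = true := between_extend chk 22 0 32515 35 (u928) r929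
theorem u930 : ∀ k, 0 ≤ k → k < 32585 → chk (k * 22) = true := between_extend chk 22 0 32550 35 (u929) r930
theorem u931 : ∀ k, 0 ≤ k → k < 32620 → chk (k * 22) = true := between_extend chk 22 0 32585 35 (u930) r931
theorem u932 : ∀ k, 0 ≤ k → k < 32655 → chk (k * 22) = true := between_extend chk 22 0 32620 35 (u931) r932
theorem u933 : ∀ k, 0 ≤ k → k < 32690 → chk (k * 22) = true := between_extend chk 22 0 32655 35 (u932) r933
theorem u934 : ∀ k, 0 ≤ k → k < 32725 → chk (k * 22) = true := between_extend chk 22 0 32690 35 (u933) r934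
theorem u935 : ∀ k, 0 ≤ k → k < 32760 → chk (k * 22) = true := between_extend chk 22 0 32725 35 (u934) r935
theorem u936 : ∀ k, 0 ≤ k → k < 32795 → chk (k * 22) = true := between_extend chk 22 0 32760 35 (u935) r936
theorem u937 : ∀ k, 0 ≤ k → k < 32830 → chk (k * 22) = true := between_extend chk 22 0 32795 35 (u936) r937
theorem u938 : ∀ k, 0 ≤ k → k < 32865 → chk (k * 22) = true := between_extend chk 22 0 32830 35 (u937) r938
theorem u939 : ∀ k, 0 ≤ k → k < 32900 → chk (k * 22) = true := between_extend chk 22 0 32865 35 (u938) r939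
theorem u940 : ∀ k, 0 ≤ k → k < 32935 → chk (k * 22) = true := between_extend chk 22 0 32900 35 (u939) r940
theorem u941 : ∀ k, 0 ≤ k → k < 32970 → chk (k * 22) = true := between_extend chk 22 0 32935 35 (u940) r941
theorem u942 : ∀ k, 0 ≤ k → k < 33005 → chk (k * 22) = true := between_extend chk 22 0 32970 35 (u941) r942
theorem u943 : ∀ k, 0 ≤ k → k < 33040 → chk (k * 22) = true := between_extend chk 22 0 33005 35 (u942) r943
theorem u944 : ∀ k, 0 ≤ k → k < 33075 → chk (k * 22) = true := between_extend chk 22 0 33040 35 (u943) r944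
theorem u945 : ∀ k, 0 ≤ k → k < 33110 → chk (k * 22) = true := between_extend chk 22 0 33075 35 (u944) r945
theorem u946 : ∀ k, 0 ≤ k → k < 33145 → chk (k * 22) = true := between_extend chk 22 0 33110 35 (u945) r946
theorem u947 : ∀ k, 0 ≤ k → k < 33180 → chk (k * 22) = true := between_extend chk 22 0 33145 35 (u946) r947
theorem u948 : ∀ k, 0 ≤ k → k < 33215 → chk (k * 22) = true := between_extend chk 22 0 33180 35 (u947) r948
theorem u949 : ∀ k, 0 ≤ k → k < 33250 → chk (k * 22) = true := between_extend chk 22 0 33215 35 (u948) r949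
theorem u950 : ∀ k, 0 ≤ k → k < 33285 → chk (k * 22) = true := between_extend chk 22 0 33250 35 (u949) r950
theorem u951 : ∀ k, 0 ≤ k → k < 33320 → chk (k * 22) = true := between_extend chk 22 0 33285 35 (u950) r951
theorem u952 : ∀ k, 0 ≤ k → k < 33355 → chk (k * 22) = true := between_extend chk 22 0 33320 35 (u951) r952
theorem u953 : ∀ k, 0 ≤ k → k < 33390 → chk (k * 22) = true := between_extend chk 22 0 33355 35 (u952) r953
theorem u954 : ∀ k, 0 ≤ k → k < 33425 → chk (k * 22) = true := between_extend chk 22 0 33390 35 (u953) r954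
theorem u955 : ∀ k, 0 ≤ k → k < 33460 → chk (k * 22) = true := between_extend chk 22 0 33425 35 (u954) r955
theorem u956 : ∀ k, 0 ≤ k → k < 33495 → chk (k * 22) = true := between_extend chk 22 0 33460 35 (u955) r956
theorem u957 : ∀ k, 0 ≤ k → k < 33530 → chk (k * 22) = true := between_extend chk 22 0 33495 35 (u956) r957
theorem u958 : ∀ k, 0 ≤ k → k < 33565 → chk (k * 22) = true := between_extend chk 22 0 33530 35 (u957) r958
theorem u959 : ∀ k, 0 ≤ k → k < 33600 → chk (k * 22) = true := between_extend chk 22 0 33565 35 (u958) r959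
theorem u960 : ∀ k, 0 ≤ k → k < 33635 → chk (k * 22) = true := between_extend chk 22 0 33600 35 (u959) r960
theorem u961 : ∀ k, 0 ≤ k → k < 33670 → chk (k * 22) = true := between_extend chk 22 0 33635 35 (u960) r961
theorem u962 : ∀ k, 0 ≤ k → k < 33705 → chk (k * 22) = true := between_extend chk 22 0 33670 35 (u961) r962
theorem u963 : ∀ k, 0 ≤ k → k < 33740 → chk (k * 22) = true := between_extend chk 22 0 33705 35 (u962) r963
theorem u964 : ∀ k, 0 ≤ k → k < 33775 → chk (k * 22) = true := between_extend chk 22 0 33740 35 (u963) r964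
theorem u965 : ∀ k, 0 ≤ k → k < 33810 → chk (k * 22) = true := between_extend chk 22 0 33775 35 (u964) r965
theorem u966 : ∀ k, 0 ≤ k → k < 33845 → chk (k * 22) = true := between_extend chk 22 0 33810 35 (u965) r966
theorem u967 : ∀ k, 0 ≤ k → k < 33880 → chk (k * 22) = true := between_extend chk 22 0 33845 35 (u966) r967
theorem u968 : ∀ k, 0 ≤ k → k < 33915 → chk (k * 22) = true := between_extend chk 22 0 33880 35 (u967) r968
theorem u969 : ∀ k, 0 ≤ k → k < 33950 → chk (k * 22) = true := between_extend chk 22 0 33915 35 (u968) r969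
theorem u970 : ∀ k, 0 ≤ k → k < 33985 → chk (k * 22) = true := between_extend chk 22 0 33950 35 (u969) r970
theorem u971 : ∀ k, 0 ≤ k → k < 34020 → chk (k * 22) = true := between_extend chk 22 0 33985 35 (u970) r971
theorem u972 : ∀ k, 0 ≤ k → k < 34055 → chk (k * 22) = true := between_extend chk 22 0 34020 35 (u971) r972
theorem u973 : ∀ k, 0 ≤ k → k < 34090 → chk (k * 22) = true := between_extend chk 22 0 34055 35 (u972) r973
theorem u974 : ∀ k, 0 ≤ k → k < 34125 → chk (k * 22) = true := between_extend chk 22 0 34090 35 (u973) r974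
theorem u975 : ∀ k, 0 ≤ k → k < 34160 → chk (k * 22) = true := between_extend chk 22 0 34125 35 (u974) r975
theorem u976 : ∀ k, 0 ≤ k → k < 34195 → chk (k * 22) = true := between_extend chk 22 0 34160 35 (u975) r976
theorem u977 : ∀ k, 0 ≤ k → k < 34230 → chk (k * 22) = true := between_extend chk 22 0 34195 35 (u976) r977
theorem u978 : ∀ k, 0 ≤ k → k < 34265 → chk (k * 22) = true := between_extend chk 22 0 34230 35 (u977) r978
theorem u979 : ∀ k, 0 ≤ k → k < 34300 → chk (k * 22) = true := between_extend chk 22 0 34265 35 (u978) r979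
theorem u980 : ∀ k, 0 ≤ k → k < 34335 → chk (k * 22) = true := between_extend chk 22 0 34300 35 (u979) r980
theorem u981 : ∀ k, 0 ≤ k → k < 34370 → chk (k * 22) = true := between_extend chk 22 0 34335 35 (u980) r981
theorem u982 : ∀ k, 0 ≤ k → k < 34405 → chk (k * 22) = true := between_extend chk 22 0 34370 35 (u981) r982
theorem u983 : ∀ k, 0 ≤ k → k < 34440 → chk (k * 22) = true := between_extend chk 22 0 34405 35 (u982) r983
theorem u984 : ∀ k, 0 ≤ k → k < 34475 → chk (k * 22) = true := between_extend chk 22 0 34440 35 (u983) r984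
theorem u985 : ∀ k, 0 ≤ k → k < 34510 → chk (k * 22) = true := between_extend chk 22 0 34475 35 (u984) r985
theorem u986 : ∀ k, 0 ≤ k → k < 34545 → chk (k * 22) = true := between_extend chk 22 0 34510 35 (u985) r986
theorem u987 : ∀ k, 0 ≤ k → k < 34580 → chk (k * 22) = true := between_extend chk 22 0 34545 35 (u986) r987
theorem u988 : ∀ k, 0 ≤ k → k < 34615 → chk (k * 22) = true := between_extend chk 22 0 34580 35 (u987) r988
theorem u989 : ∀ k, 0 ≤ k → k < 34650 → chk (k * 22) = true := between_extend chk 22 0 34615 35 (u988) r989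
theorem u990 : ∀ k, 0 ≤ k → k < 34685 → chk (k * 22) = true := between_extend chk 22 0 34650 35 (u989) r990
theorem u991 : ∀ k, 0 ≤ k → k < 34720 → chk (k * 22) = true := between_extend chk 22 0 34685 35 (u990) r991
theorem u992 : ∀ k, 0 ≤ k → k < 34755 → chk (k * 22) = true := between_extend chk 22 0 34720 35 (u991) r992
theorem u993 : ∀ k, 0 ≤ k → k < 34790 → chk (k * 22) = true := between_extend chk 22 0 34755 35 (u992) r993
theorem u994 : ∀ k, 0 ≤ k → k < 34825 → chk (k * 22) = true := between_extend chk 22 0 34790 35 (u993) r994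
theorem u995 : ∀ k, 0 ≤ k → k < 34860 → chk (k * 22) = true := between_extend chk 22 0 34825 35 (u994) r995
theorem u996 : ∀ k, 0 ≤ k → k < 34895 → chk (k * 22) = true := between_extend chk 22 0 34860 35 (u995) r996
theorem u997 : ∀ k, 0 ≤ k → k < 34930 → chk (k * 22) = true := between_extend chk 22 0 34895 35 (u996) r997
theorem u998 : ∀ k, 0 ≤ k → k < 34965 → chk (k * 22) = true := between_extend chk 22 0 34930 35 (u997) r998
theorem u999 : ∀ k, 0 ≤ k → k < 35000 → chk (k * 22) = true := between_extend chk 22 0 34965 35 (u998) r999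
theorem u1000 : ∀ k, 0 ≤ k → k < 35035 → chk (k * 22) = true := between_extend chk 22 0 35000 35 (u999) r1000
theorem u1001 : ∀ k, 0 ≤ k → k < 35070 → chk (k * 22) = true := between_extend chk 22 0 35035 35 (u1000) r1001
theorem u1002 : ∀ k, 0 ≤ k → k < 35105 → chk (k * 22) = true := between_extend chk 22 0 35070 35 (u1001) r1002
theorem u1003 : ∀ k, 0 ≤ k → k < 35140 → chk (k * 22) = true := between_extend chk 22 0 35105 35 (u1002) r1003
theorem u1004 : ∀ k, 0 ≤ k → k < 35175 → chk (k * 22) = true := between_extend chk 22 0 35140 35 (u1003) r1004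
theorem u1005 : ∀ k, 0 ≤ k → k < 35210 → chk (k * 22) = true := between_extend chk 22 0 35175 35 (u1004) r1005
theorem u1006 : ∀ k, 0 ≤ k → k < 35245 → chk (k * 22) = true := between_extend chk 22 0 35210 35 (u1005) r1006
theorem u1007 : ∀ k, 0 ≤ k → k < 35280 → chk (k * 22) = true := between_extend chk 22 0 35245 35 (u1006) r1007
theorem u1008 : ∀ k, 0 ≤ k → k < 35315 → chk (k * 22) = true := between_extend chk 22 0 35280 35 (u1007) r1008
theorem u1009 : ∀ k, 0 ≤ k → k < 35350 → chk (k * 22) = true := between_extend chk 22 0 35315 35 (u1008) r1009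
theorem u1010 : ∀ k, 0 ≤ k → k < 35385 → chk (k * 22) = true := between_extend chk 22 0 35350 35 (u1009) r1010
theorem u1011 : ∀ k, 0 ≤ k → k < 35420 → chk (k * 22) = true := between_extend chk 22 0 35385 35 (u1010) r1011
theorem u1012 : ∀ k, 0 ≤ k → k < 35455 → chk (k * 22) = true := between_extend chk 22 0 35420 35 (u1011) r1012
theorem u1013 : ∀ k, 0 ≤ k → k < 35490 → chk (k * 22) = true := between_extend chk 22 0 35455 35 (u1012) r1013
theorem u1014 : ∀ k, 0 ≤ k → k < 35525 → chk (k * 22) = true := between_extend chk 22 0 35490 35 (u1013) r1014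
theorem u1015 : ∀ k, 0 ≤ k → k < 35560 → chk (k * 22) = true := between_extend chk 22 0 35525 35 (u1014) r1015
theorem u1016 : ∀ k, 0 ≤ k → k < 35595 → chk (k * 22) = true := between_extend chk 22 0 35560 35 (u1015) r1016
theorem u1017 : ∀ k, 0 ≤ k → k < 35630 → chk (k * 22) = true := between_extend chk 22 0 35595 35 (u1016) r1017
theorem u1018 : ∀ k, 0 ≤ k → k < 35665 → chk (k * 22) = true := between_extend chk 22 0 35630 35 (u1017) r1018
theorem u1019 : ∀ k, 0 ≤ k → k < 35700 → chk (k * 22) = true := between_extend chk 22 0 35665 35 (u1018) r1019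
theorem u1020 : ∀ k, 0 ≤ k → k < 35735 → chk (k * 22) = true := between_extend chk 22 0 35700 35 (u1019) r1020
theorem u1021 : ∀ k, 0 ≤ k → k < 35770 → chk (k * 22) = true := between_extend chk 22 0 35735 35 (u1020) r1021
theorem u1022 : ∀ k, 0 ≤ k → k < 35805 → chk (k * 22) = true := between_extend chk 22 0 35770 35 (u1021) r1022
theorem u1023 : ∀ k, 0 ≤ k → k < 35840 → chk (k * 22) = true := between_extend chk 22 0 35805 35 (u1022) r1023
theorem u1024 : ∀ k, 0 ≤ k → k < 35875 → chk (k * 22) = true := between_extend chk 22 0 35840 35 (u1023) r1024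
theorem u1025 : ∀ k, 0 ≤ k → k < 35910 → chk (k * 22) = true := between_extend chk 22 0 35875 35 (u1024) r1025
theorem u1026 : ∀ k, 0 ≤ k → k < 35945 → chk (k * 22) = true := between_extend chk 22 0 35910 35 (u1025) r1026
theorem u1027 : ∀ k, 0 ≤ k → k < 35980 → chk (k * 22) = true := between_extend chk 22 0 35945 35 (u1026) r1027
theorem u1028 : ∀ k, 0 ≤ k → k < 36015 → chk (k * 22) = true := between_extend chk 22 0 35980 35 (u1027) r1028
theorem u1029 : ∀ k, 0 ≤ k → k < 36050 → chk (k * 22) = true := between_extend chk 22 0 36015 35 (u1028) r1029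
theorem u1030 : ∀ k, 0 ≤ k → k < 36085 → chk (k * 22) = true := between_extend chk 22 0 36050 35 (u1029) r1030
theorem u1031 : ∀ k, 0 ≤ k → k < 36120 → chk (k * 22) = true := between_extend chk 22 0 36085 35 (u1030) r1031
theorem u1032 : ∀ k, 0 ≤ k → k < 36155 → chk (k * 22) = true := between_extend chk 22 0 36120 35 (u1031) r1032
theorem u1033 : ∀ k, 0 ≤ k → k < 36190 → chk (k * 22) = true := between_extend chk 22 0 36155 35 (u1032) r1033
theorem u1034 : ∀ k, 0 ≤ k → k < 36225 → chk (k * 22) = true := between_extend chk 22 0 36190 35 (u1033) r1034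
theorem u1035 : ∀ k, 0 ≤ k → k < 36260 → chk (k * 22) = true := between_extend chk 22 0 36225 35 (u1034) r1035
theorem u1036 : ∀ k, 0 ≤ k → k < 36295 → chk (k * 22) = true := between_extend chk 22 0 36260 35 (u1035) r1036
theorem u1037 : ∀ k, 0 ≤ k → k < 36330 → chk (k * 22) = true := between_extend chk 22 0 36295 35 (u1036) r1037
theorem u1038 : ∀ k, 0 ≤ k → k < 36365 → chk (k * 22) = true := between_extend chk 22 0 36330 35 (u1037) r1038
theorem u1039 : ∀ k, 0 ≤ k → k < 36400 → chk (k * 22) = true := between_extend chk 22 0 36365 35 (u1038) r1039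
theorem u1040 : ∀ k, 0 ≤ k → k < 36435 → chk (k * 22) = true := between_extend chk 22 0 36400 35 (u1039) r1040
theorem u1041 : ∀ k, 0 ≤ k → k < 36470 → chk (k * 22) = true := between_extend chk 22 0 36435 35 (u1040) r1041
theorem u1042 : ∀ k, 0 ≤ k → k < 36505 → chk (k * 22) = true := between_extend chk 22 0 36470 35 (u1041) r1042
theorem u1043 : ∀ k, 0 ≤ k → k < 36540 → chk (k * 22) = true := between_extend chk 22 0 36505 35 (u1042) r1043
theorem u1044 : ∀ k, 0 ≤ k → k < 36575 → chk (k * 22) = true := between_extend chk 22 0 36540 35 (u1043) r1044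
theorem u1045 : ∀ k, 0 ≤ k → k < 36610 → chk (k * 22) = true := between_extend chk 22 0 36575 35 (u1044) r1045
theorem u1046 : ∀ k, 0 ≤ k → k < 36645 → chk (k * 22) = true := between_extend chk 22 0 36610 35 (u1045) r1046
theorem u1047 : ∀ k, 0 ≤ k → k < 36680 → chk (k * 22) = true := between_extend chk 22 0 36645 35 (u1046) r1047
theorem u1048 : ∀ k, 0 ≤ k → k < 36715 → chk (k * 22) = true := between_extend chk 22 0 36680 35 (u1047) r1048
theorem u1049 : ∀ k, 0 ≤ k → k < 36750 → chk (k * 22) = true := between_extend chk 22 0 36715 35 (u1048) r1049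
theorem u1050 : ∀ k, 0 ≤ k → k < 36785 → chk (k * 22) = true := between_extend chk 22 0 36750 35 (u1049) r1050
theorem u1051 : ∀ k, 0 ≤ k → k < 36820 → chk (k * 22) = true := between_extend chk 22 0 36785 35 (u1050) r1051
theorem u1052 : ∀ k, 0 ≤ k → k < 36855 → chk (k * 22) = true := between_extend chk 22 0 36820 35 (u1051) r1052
theorem u1053 : ∀ k, 0 ≤ k → k < 36890 → chk (k * 22) = true := between_extend chk 22 0 36855 35 (u1052) r1053
theorem u1054 : ∀ k, 0 ≤ k → k < 36925 → chk (k * 22) = true := between_extend chk 22 0 36890 35 (u1053) r1054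
theorem u1055 : ∀ k, 0 ≤ k → k < 36960 → chk (k * 22) = true := between_extend chk 22 0 36925 35 (u1054) r1055
theorem u1056 : ∀ k, 0 ≤ k → k < 36995 → chk (k * 22) = true := between_extend chk 22 0 36960 35 (u1055) r1056
theorem u1057 : ∀ k, 0 ≤ k → k < 37030 → chk (k * 22) = true := between_extend chk 22 0 36995 35 (u1056) r1057
theorem u1058 : ∀ k, 0 ≤ k → k < 37065 → chk (k * 22) = true := between_extend chk 22 0 37030 35 (u1057) r1058
theorem u1059 : ∀ k, 0 ≤ k → k < 37100 → chk (k * 22) = true := between_extend chk 22 0 37065 35 (u1058) r1059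
theorem u1060 : ∀ k, 0 ≤ k → k < 37135 → chk (k * 22) = true := between_extend chk 22 0 37100 35 (u1059) r1060
theorem u1061 : ∀ k, 0 ≤ k → k < 37170 → chk (k * 22) = true := between_extend chk 22 0 37135 35 (u1060) r1061
theorem u1062 : ∀ k, 0 ≤ k → k < 37205 → chk (k * 22) = true := between_extend chk 22 0 37170 35 (u1061) r1062
theorem u1063 : ∀ k, 0 ≤ k → k < 37240 → chk (k * 22) = true := between_extend chk 22 0 37205 35 (u1062) r1063
theorem u1064 : ∀ k, 0 ≤ k → k < 37275 → chk (k * 22) = true := between_extend chk 22 0 37240 35 (u1063) r1064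
theorem u1065 : ∀ k, 0 ≤ k → k < 37310 → chk (k * 22) = true := between_extend chk 22 0 37275 35 (u1064) r1065
theorem u1066 : ∀ k, 0 ≤ k → k < 37345 → chk (k * 22) = true := between_extend chk 22 0 37310 35 (u1065) r1066
theorem u1067 : ∀ k, 0 ≤ k → k < 37380 → chk (k * 22) = true := between_extend chk 22 0 37345 35 (u1066) r1067
theorem u1068 : ∀ k, 0 ≤ k → k < 37415 → chk (k * 22) = true := between_extend chk 22 0 37380 35 (u1067) r1068
theorem u1069 : ∀ k, 0 ≤ k → k < 37450 → chk (k * 22) = true := between_extend chk 22 0 37415 35 (u1068) r1069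
theorem u1070 : ∀ k, 0 ≤ k → k < 37485 → chk (k * 22) = true := between_extend chk 22 0 37450 35 (u1069) r1070
theorem u1071 : ∀ k, 0 ≤ k → k < 37520 → chk (k * 22) = true := between_extend chk 22 0 37485 35 (u1070) r1071
theorem u1072 : ∀ k, 0 ≤ k → k < 37555 → chk (k * 22) = true := between_extend chk 22 0 37520 35 (u1071) r1072
theorem u1073 : ∀ k, 0 ≤ k → k < 37590 → chk (k * 22) = true := between_extend chk 22 0 37555 35 (u1072) r1073
theorem u1074 : ∀ k, 0 ≤ k → k < 37625 → chk (k * 22) = true := between_extend chk 22 0 37590 35 (u1073) r1074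
theorem u1075 : ∀ k, 0 ≤ k → k < 37660 → chk (k * 22) = true := between_extend chk 22 0 37625 35 (u1074) r1075
theorem u1076 : ∀ k, 0 ≤ k → k < 37695 → chk (k * 22) = true := between_extend chk 22 0 37660 35 (u1075) r1076
theorem u1077 : ∀ k, 0 ≤ k → k < 37730 → chk (k * 22) = true := between_extend chk 22 0 37695 35 (u1076) r1077
theorem u1078 : ∀ k, 0 ≤ k → k < 37765 → chk (k * 22) = true := between_extend chk 22 0 37730 35 (u1077) r1078
theorem u1079 : ∀ k, 0 ≤ k → k < 37800 → chk (k * 22) = true := between_extend chk 22 0 37765 35 (u1078) r1079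
theorem u1080 : ∀ k, 0 ≤ k → k < 37835 → chk (k * 22) = true := between_extend chk 22 0 37800 35 (u1079) r1080
theorem u1081 : ∀ k, 0 ≤ k → k < 37870 → chk (k * 22) = true := between_extend chk 22 0 37835 35 (u1080) r1081
theorem u1082 : ∀ k, 0 ≤ k → k < 37905 → chk (k * 22) = true := between_extend chk 22 0 37870 35 (u1081) r1082
theorem u1083 : ∀ k, 0 ≤ k → k < 37940 → chk (k * 22) = true := between_extend chk 22 0 37905 35 (u1082) r1083
theorem u1084 : ∀ k, 0 ≤ k → k < 37975 → chk (k * 22) = true := between_extend chk 22 0 37940 35 (u1083) r1084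
theorem u1085 : ∀ k, 0 ≤ k → k < 38010 → chk (k * 22) = true := between_extend chk 22 0 37975 35 (u1084) r1085
theorem u1086 : ∀ k, 0 ≤ k → k < 38045 → chk (k * 22) = true := between_extend chk 22 0 38010 35 (u1085) r1086
theorem u1087 : ∀ k, 0 ≤ k → k < 38080 → chk (k * 22) = true := between_extend chk 22 0 38045 35 (u1086) r1087
theorem u1088 : ∀ k, 0 ≤ k → k < 38115 → chk (k * 22) = true := between_extend chk 22 0 38080 35 (u1087) r1088
theorem u1089 : ∀ k, 0 ≤ k → k < 38150 → chk (k * 22) = true := between_extend chk 22 0 38115 35 (u1088) r1089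
theorem u1090 : ∀ k, 0 ≤ k → k < 38185 → chk (k * 22) = true := between_extend chk 22 0 38150 35 (u1089) r1090
theorem u1091 : ∀ k, 0 ≤ k → k < 38220 → chk (k * 22) = true := between_extend chk 22 0 38185 35 (u1090) r1091
theorem u1092 : ∀ k, 0 ≤ k → k < 38255 → chk (k * 22) = true := between_extend chk 22 0 38220 35 (u1091) r1092
theorem u1093 : ∀ k, 0 ≤ k → k < 38290 → chk (k * 22) = true := between_extend chk 22 0 38255 35 (u1092) r1093
theorem u1094 : ∀ k, 0 ≤ k → k < 38325 → chk (k * 22) = true := between_extend chk 22 0 38290 35 (u1093) r1094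
theorem u1095 : ∀ k, 0 ≤ k → k < 38360 → chk (k * 22) = true := between_extend chk 22 0 38325 35 (u1094) r1095
theorem u1096 : ∀ k, 0 ≤ k → k < 38395 → chk (k * 22) = true := between_extend chk 22 0 38360 35 (u1095) r1096
theorem u1097 : ∀ k, 0 ≤ k → k < 38430 → chk (k * 22) = true := between_extend chk 22 0 38395 35 (u1096) r1097
theorem u1098 : ∀ k, 0 ≤ k → k < 38465 → chk (k * 22) = true := between_extend chk 22 0 38430 35 (u1097) r1098
theorem u1099 : ∀ k, 0 ≤ k → k < 38500 → chk (k * 22) = true := between_extend chk 22 0 38465 35 (u1098) r1099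
theorem u1100 : ∀ k, 0 ≤ k → k < 38535 → chk (k * 22) = true := between_extend chk 22 0 38500 35 (u1099) r1100
theorem u1101 : ∀ k, 0 ≤ k → k < 38570 → chk (k * 22) = true := between_extend chk 22 0 38535 35 (u1100) r1101
theorem u1102 : ∀ k, 0 ≤ k → k < 38605 → chk (k * 22) = true := between_extend chk 22 0 38570 35 (u1101) r1102
theorem u1103 : ∀ k, 0 ≤ k → k < 38640 → chk (k * 22) = true := between_extend chk 22 0 38605 35 (u1102) r1103
theorem u1104 : ∀ k, 0 ≤ k → k < 38675 → chk (k * 22) = true := between_extend chk 22 0 38640 35 (u1103) r1104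
theorem u1105 : ∀ k, 0 ≤ k → k < 38710 → chk (k * 22) = true := between_extend chk 22 0 38675 35 (u1104) r1105
theorem u1106 : ∀ k, 0 ≤ k → k < 38745 → chk (k * 22) = true := between_extend chk 22 0 38710 35 (u1105) r1106
theorem u1107 : ∀ k, 0 ≤ k → k < 38780 → chk (k * 22) = true := between_extend chk 22 0 38745 35 (u1106) r1107
theorem u1108 : ∀ k, 0 ≤ k → k < 38815 → chk (k * 22) = true := between_extend chk 22 0 38780 35 (u1107) r1108
theorem u1109 : ∀ k, 0 ≤ k → k < 38850 → chk (k * 22) = true := between_extend chk 22 0 38815 35 (u1108) r1109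
theorem u1110 : ∀ k, 0 ≤ k → k < 38885 → chk (k * 22) = true := between_extend chk 22 0 38850 35 (u1109) r1110
theorem u1111 : ∀ k, 0 ≤ k → k < 38920 → chk (k * 22) = true := between_extend chk 22 0 38885 35 (u1110) r1111
theorem u1112 : ∀ k, 0 ≤ k → k < 38955 → chk (k * 22) = true := between_extend chk 22 0 38920 35 (u1111) r1112
theorem u1113 : ∀ k, 0 ≤ k → k < 38990 → chk (k * 22) = true := between_extend chk 22 0 38955 35 (u1112) r1113
theorem u1114 : ∀ k, 0 ≤ k → k < 39025 → chk (k * 22) = true := between_extend chk 22 0 38990 35 (u1113) r1114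
theorem u1115 : ∀ k, 0 ≤ k → k < 39060 → chk (k * 22) = true := between_extend chk 22 0 39025 35 (u1114) r1115
theorem u1116 : ∀ k, 0 ≤ k → k < 39095 → chk (k * 22) = true := between_extend chk 22 0 39060 35 (u1115) r1116
theorem u1117 : ∀ k, 0 ≤ k → k < 39130 → chk (k * 22) = true := between_extend chk 22 0 39095 35 (u1116) r1117
theorem u1118 : ∀ k, 0 ≤ k → k < 39165 → chk (k * 22) = true := between_extend chk 22 0 39130 35 (u1117) r1118
theorem u1119 : ∀ k, 0 ≤ k → k < 39200 → chk (k * 22) = true := between_extend chk 22 0 39165 35 (u1118) r1119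
theorem u1120 : ∀ k, 0 ≤ k → k < 39235 → chk (k * 22) = true := between_extend chk 22 0 39200 35 (u1119) r1120
theorem u1121 : ∀ k, 0 ≤ k → k < 39270 → chk (k * 22) = true := between_extend chk 22 0 39235 35 (u1120) r1121
theorem u1122 : ∀ k, 0 ≤ k → k < 39305 → chk (k * 22) = true := between_extend chk 22 0 39270 35 (u1121) r1122
theorem u1123 : ∀ k, 0 ≤ k → k < 39340 → chk (k * 22) = true := between_extend chk 22 0 39305 35 (u1122) r1123
theorem u1124 : ∀ k, 0 ≤ k → k < 39375 → chk (k * 22) = true := between_extend chk 22 0 39340 35 (u1123) r1124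
theorem u1125 : ∀ k, 0 ≤ k → k < 39410 → chk (k * 22) = true := between_extend chk 22 0 39375 35 (u1124) r1125
theorem u1126 : ∀ k, 0 ≤ k → k < 39445 → chk (k * 22) = true := between_extend chk 22 0 39410 35 (u1125) r1126
theorem u1127 : ∀ k, 0 ≤ k → k < 39480 → chk (k * 22) = true := between_extend chk 22 0 39445 35 (u1126) r1127
theorem u1128 : ∀ k, 0 ≤ k → k < 39515 → chk (k * 22) = true := between_extend chk 22 0 39480 35 (u1127) r1128
theorem u1129 : ∀ k, 0 ≤ k → k < 39550 → chk (k * 22) = true := between_extend chk 22 0 39515 35 (u1128) r1129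
theorem u1130 : ∀ k, 0 ≤ k → k < 39585 → chk (k * 22) = true := between_extend chk 22 0 39550 35 (u1129) r1130
theorem u1131 : ∀ k, 0 ≤ k → k < 39620 → chk (k * 22) = true := between_extend chk 22 0 39585 35 (u1130) r1131
theorem u1132 : ∀ k, 0 ≤ k → k < 39655 → chk (k * 22) = true := between_extend chk 22 0 39620 35 (u1131) r1132
theorem u1133 : ∀ k, 0 ≤ k → k < 39690 → chk (k * 22) = true := between_extend chk 22 0 39655 35 (u1132) r1133
theorem u1134 : ∀ k, 0 ≤ k → k < 39725 → chk (k * 22) = true := between_extend chk 22 0 39690 35 (u1133) r1134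
theorem u1135 : ∀ k, 0 ≤ k → k < 39760 → chk (k * 22) = true := between_extend chk 22 0 39725 35 (u1134) r1135
theorem u1136 : ∀ k, 0 ≤ k → k < 39795 → chk (k * 22) = true := between_extend chk 22 0 39760 35 (u1135) r1136
theorem u1137 : ∀ k, 0 ≤ k → k < 39830 → chk (k * 22) = true := between_extend chk 22 0 39795 35 (u1136) r1137
theorem u1138 : ∀ k, 0 ≤ k → k < 39865 → chk (k * 22) = true := between_extend chk 22 0 39830 35 (u1137) r1138
theorem u1139 : ∀ k, 0 ≤ k → k < 39900 → chk (k * 22) = true := between_extend chk 22 0 39865 35 (u1138) r1139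
theorem u1140 : ∀ k, 0 ≤ k → k < 39935 → chk (k * 22) = true := between_extend chk 22 0 39900 35 (u1139) r1140
theorem u1141 : ∀ k, 0 ≤ k → k < 39970 → chk (k * 22) = true := between_extend chk 22 0 39935 35 (u1140) r1141
theorem u1142 : ∀ k, 0 ≤ k → k < 40005 → chk (k * 22) = true := between_extend chk 22 0 39970 35 (u1141) r1142
theorem u1143 : ∀ k, 0 ≤ k → k < 40040 → chk (k * 22) = true := between_extend chk 22 0 40005 35 (u1142) r1143
theorem u1144 : ∀ k, 0 ≤ k → k < 40075 → chk (k * 22) = true := between_extend chk 22 0 40040 35 (u1143) r1144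
theorem u1145 : ∀ k, 0 ≤ k → k < 40110 → chk (k * 22) = true := between_extend chk 22 0 40075 35 (u1144) r1145
theorem u1146 : ∀ k, 0 ≤ k → k < 40145 → chk (k * 22) = true := between_extend chk 22 0 40110 35 (u1145) r1146
theorem u1147 : ∀ k, 0 ≤ k → k < 40180 → chk (k * 22) = true := between_extend chk 22 0 40145 35 (u1146) r1147
theorem u1148 : ∀ k, 0 ≤ k → k < 40215 → chk (k * 22) = true := between_extend chk 22 0 40180 35 (u1147) r1148
theorem u1149 : ∀ k, 0 ≤ k → k < 40250 → chk (k * 22) = true := between_extend chk 22 0 40215 35 (u1148) r1149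
theorem u1150 : ∀ k, 0 ≤ k → k < 40285 → chk (k * 22) = true := between_extend chk 22 0 40250 35 (u1149) r1150
theorem u1151 : ∀ k, 0 ≤ k → k < 40320 → chk (k * 22) = true := between_extend chk 22 0 40285 35 (u1150) r1151
theorem u1152 : ∀ k, 0 ≤ k → k < 40355 → chk (k * 22) = true := between_extend chk 22 0 40320 35 (u1151) r1152
theorem u1153 : ∀ k, 0 ≤ k → k < 40390 → chk (k * 22) = true := between_extend chk 22 0 40355 35 (u1152) r1153
theorem u1154 : ∀ k, 0 ≤ k → k < 40425 → chk (k * 22) = true := between_extend chk 22 0 40390 35 (u1153) r1154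
theorem u1155 : ∀ k, 0 ≤ k → k < 40460 → chk (k * 22) = true := between_extend chk 22 0 40425 35 (u1154) r1155
theorem u1156 : ∀ k, 0 ≤ k → k < 40495 → chk (k * 22) = true := between_extend chk 22 0 40460 35 (u1155) r1156
theorem u1157 : ∀ k, 0 ≤ k → k < 40530 → chk (k * 22) = true := between_extend chk 22 0 40495 35 (u1156) r1157
theorem u1158 : ∀ k, 0 ≤ k → k < 40565 → chk (k * 22) = true := between_extend chk 22 0 40530 35 (u1157) r1158
theorem u1159 : ∀ k, 0 ≤ k → k < 40600 → chk (k * 22) = true := between_extend chk 22 0 40565 35 (u1158) r1159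
theorem u1160 : ∀ k, 0 ≤ k → k < 40635 → chk (k * 22) = true := between_extend chk 22 0 40600 35 (u1159) r1160
theorem u1161 : ∀ k, 0 ≤ k → k < 40670 → chk (k * 22) = true := between_extend chk 22 0 40635 35 (u1160) r1161
theorem u1162 : ∀ k, 0 ≤ k → k < 40705 → chk (k * 22) = true := between_extend chk 22 0 40670 35 (u1161) r1162
theorem u1163 : ∀ k, 0 ≤ k → k < 40740 → chk (k * 22) = true := between_extend chk 22 0 40705 35 (u1162) r1163
theorem u1164 : ∀ k, 0 ≤ k → k < 40775 → chk (k * 22) = true := between_extend chk 22 0 40740 35 (u1163) r1164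
theorem u1165 : ∀ k, 0 ≤ k → k < 40810 → chk (k * 22) = true := between_extend chk 22 0 40775 35 (u1164) r1165
theorem u1166 : ∀ k, 0 ≤ k → k < 40845 → chk (k * 22) = true := between_extend chk 22 0 40810 35 (u1165) r1166
theorem u1167 : ∀ k, 0 ≤ k → k < 40880 → chk (k * 22) = true := between_extend chk 22 0 40845 35 (u1166) r1167
theorem u1168 : ∀ k, 0 ≤ k → k < 40915 → chk (k * 22) = true := between_extend chk 22 0 40880 35 (u1167) r1168
theorem u1169 : ∀ k, 0 ≤ k → k < 40950 → chk (k * 22) = true := between_extend chk 22 0 40915 35 (u1168) r1169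
theorem u1170 : ∀ k, 0 ≤ k → k < 40985 → chk (k * 22) = true := between_extend chk 22 0 40950 35 (u1169) r1170
theorem u1171 : ∀ k, 0 ≤ k → k < 41020 → chk (k * 22) = true := between_extend chk 22 0 40985 35 (u1170) r1171
theorem u1172 : ∀ k, 0 ≤ k → k < 41055 → chk (k * 22) = true := between_extend chk 22 0 41020 35 (u1171) r1172
theorem u1173 : ∀ k, 0 ≤ k → k < 41090 → chk (k * 22) = true := between_extend chk 22 0 41055 35 (u1172) r1173
theorem u1174 : ∀ k, 0 ≤ k → k < 41125 → chk (k * 22) = true := between_extend chk 22 0 41090 35 (u1173) r1174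
theorem u1175 : ∀ k, 0 ≤ k → k < 41160 → chk (k * 22) = true := between_extend chk 22 0 41125 35 (u1174) r1175
theorem u1176 : ∀ k, 0 ≤ k → k < 41195 → chk (k * 22) = true := between_extend chk 22 0 41160 35 (u1175) r1176
theorem u1177 : ∀ k, 0 ≤ k → k < 41230 → chk (k * 22) = true := between_extend chk 22 0 41195 35 (u1176) r1177
theorem u1178 : ∀ k, 0 ≤ k → k < 41265 → chk (k * 22) = true := between_extend chk 22 0 41230 35 (u1177) r1178
theorem u1179 : ∀ k, 0 ≤ k → k < 41300 → chk (k * 22) = true := between_extend chk 22 0 41265 35 (u1178) r1179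
theorem u1180 : ∀ k, 0 ≤ k → k < 41335 → chk (k * 22) = true := between_extend chk 22 0 41300 35 (u1179) r1180
theorem u1181 : ∀ k, 0 ≤ k → k < 41370 → chk (k * 22) = true := between_extend chk 22 0 41335 35 (u1180) r1181
theorem u1182 : ∀ k, 0 ≤ k → k < 41405 → chk (k * 22) = true := between_extend chk 22 0 41370 35 (u1181) r1182
theorem u1183 : ∀ k, 0 ≤ k → k < 41440 → chk (k * 22) = true := between_extend chk 22 0 41405 35 (u1182) r1183
theorem u1184 : ∀ k, 0 ≤ k → k < 41475 → chk (k * 22) = true := between_extend chk 22 0 41440 35 (u1183) r1184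
theorem u1185 : ∀ k, 0 ≤ k → k < 41510 → chk (k * 22) = true := between_extend chk 22 0 41475 35 (u1184) r1185
theorem u1186 : ∀ k, 0 ≤ k → k < 41545 → chk (k * 22) = true := between_extend chk 22 0 41510 35 (u1185) r1186
theorem u1187 : ∀ k, 0 ≤ k → k < 41580 → chk (k * 22) = true := between_extend chk 22 0 41545 35 (u1186) r1187
theorem u1188 : ∀ k, 0 ≤ k → k < 41615 → chk (k * 22) = true := between_extend chk 22 0 41580 35 (u1187) r1188
theorem u1189 : ∀ k, 0 ≤ k → k < 41650 → chk (k * 22) = true := between_extend chk 22 0 41615 35 (u1188) r1189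
theorem u1190 : ∀ k, 0 ≤ k → k < 41685 → chk (k * 22) = true := between_extend chk 22 0 41650 35 (u1189) r1190
theorem u1191 : ∀ k, 0 ≤ k → k < 41720 → chk (k * 22) = true := between_extend chk 22 0 41685 35 (u1190) r1191
theorem u1192 : ∀ k, 0 ≤ k → k < 41755 → chk (k * 22) = true := between_extend chk 22 0 41720 35 (u1191) r1192
theorem u1193 : ∀ k, 0 ≤ k → k < 41790 → chk (k * 22) = true := between_extend chk 22 0 41755 35 (u1192) r1193
theorem u1194 : ∀ k, 0 ≤ k → k < 41825 → chk (k * 22) = true := between_extend chk 22 0 41790 35 (u1193) r1194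
theorem u1195 : ∀ k, 0 ≤ k → k < 41860 → chk (k * 22) = true := between_extend chk 22 0 41825 35 (u1194) r1195
theorem u1196 : ∀ k, 0 ≤ k → k < 41895 → chk (k * 22) = true := between_extend chk 22 0 41860 35 (u1195) r1196
theorem u1197 : ∀ k, 0 ≤ k → k < 41930 → chk (k * 22) = true := between_extend chk 22 0 41895 35 (u1196) r1197
theorem u1198 : ∀ k, 0 ≤ k → k < 41965 → chk (k * 22) = true := between_extend chk 22 0 41930 35 (u1197) r1198
theorem u1199 : ∀ k, 0 ≤ k → k < 42000 → chk (k * 22) = true := between_extend chk 22 0 41965 35 (u1198) r1199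
theorem u1200 : ∀ k, 0 ≤ k → k < 42035 → chk (k * 22) = true := between_extend chk 22 0 42000 35 (u1199) r1200
theorem u1201 : ∀ k, 0 ≤ k → k < 42070 → chk (k * 22) = true := between_extend chk 22 0 42035 35 (u1200) r1201
theorem u1202 : ∀ k, 0 ≤ k → k < 42105 → chk (k * 22) = true := between_extend chk 22 0 42070 35 (u1201) r1202
theorem u1203 : ∀ k, 0 ≤ k → k < 42140 → chk (k * 22) = true := between_extend chk 22 0 42105 35 (u1202) r1203
theorem u1204 : ∀ k, 0 ≤ k → k < 42175 → chk (k * 22) = true := between_extend chk 22 0 42140 35 (u1203) r1204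
theorem u1205 : ∀ k, 0 ≤ k → k < 42210 → chk (k * 22) = true := between_extend chk 22 0 42175 35 (u1204) r1205
theorem u1206 : ∀ k, 0 ≤ k → k < 42245 → chk (k * 22) = true := between_extend chk 22 0 42210 35 (u1205) r1206
theorem u1207 : ∀ k, 0 ≤ k → k < 42280 → chk (k * 22) = true := between_extend chk 22 0 42245 35 (u1206) r1207
theorem u1208 : ∀ k, 0 ≤ k → k < 42315 → chk (k * 22) = true := between_extend chk 22 0 42280 35 (u1207) r1208
theorem u1209 : ∀ k, 0 ≤ k → k < 42350 → chk (k * 22) = true := between_extend chk 22 0 42315 35 (u1208) r1209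
theorem u1210 : ∀ k, 0 ≤ k → k < 42385 → chk (k * 22) = true := between_extend chk 22 0 42350 35 (u1209) r1210
theorem u1211 : ∀ k, 0 ≤ k → k < 42420 → chk (k * 22) = true := between_extend chk 22 0 42385 35 (u1210) r1211
theorem u1212 : ∀ k, 0 ≤ k → k < 42455 → chk (k * 22) = true := between_extend chk 22 0 42420 35 (u1211) r1212
theorem u1213 : ∀ k, 0 ≤ k → k < 42490 → chk (k * 22) = true := between_extend chk 22 0 42455 35 (u1212) r1213
theorem u1214 : ∀ k, 0 ≤ k → k < 42525 → chk (k * 22) = true := between_extend chk 22 0 42490 35 (u1213) r1214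
theorem u1215 : ∀ k, 0 ≤ k → k < 42560 → chk (k * 22) = true := between_extend chk 22 0 42525 35 (u1214) r1215
theorem u1216 : ∀ k, 0 ≤ k → k < 42595 → chk (k * 22) = true := between_extend chk 22 0 42560 35 (u1215) r1216
theorem u1217 : ∀ k, 0 ≤ k → k < 42630 → chk (k * 22) = true := between_extend chk 22 0 42595 35 (u1216) r1217
theorem u1218 : ∀ k, 0 ≤ k → k < 42665 → chk (k * 22) = true := between_extend chk 22 0 42630 35 (u1217) r1218
theorem u1219 : ∀ k, 0 ≤ k → k < 42700 → chk (k * 22) = true := between_extend chk 22 0 42665 35 (u1218) r1219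
theorem u1220 : ∀ k, 0 ≤ k → k < 42735 → chk (k * 22) = true := between_extend chk 22 0 42700 35 (u1219) r1220
theorem u1221 : ∀ k, 0 ≤ k → k < 42770 → chk (k * 22) = true := between_extend chk 22 0 42735 35 (u1220) r1221
theorem u1222 : ∀ k, 0 ≤ k → k < 42805 → chk (k * 22) = true := between_extend chk 22 0 42770 35 (u1221) r1222
theorem u1223 : ∀ k, 0 ≤ k → k < 42840 → chk (k * 22) = true := between_extend chk 22 0 42805 35 (u1222) r1223
theorem u1224 : ∀ k, 0 ≤ k → k < 42875 → chk (k * 22) = true := between_extend chk 22 0 42840 35 (u1223) r1224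
theorem u1225 : ∀ k, 0 ≤ k → k < 42910 → chk (k * 22) = true := between_extend chk 22 0 42875 35 (u1224) r1225
theorem u1226 : ∀ k, 0 ≤ k → k < 42945 → chk (k * 22) = true := between_extend chk 22 0 42910 35 (u1225) r1226
theorem u1227 : ∀ k, 0 ≤ k → k < 42980 → chk (k * 22) = true := between_extend chk 22 0 42945 35 (u1226) r1227
theorem u1228 : ∀ k, 0 ≤ k → k < 43015 → chk (k * 22) = true := between_extend chk 22 0 42980 35 (u1227) r1228
theorem u1229 : ∀ k, 0 ≤ k → k < 43050 → chk (k * 22) = true := between_extend chk 22 0 43015 35 (u1228) r1229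
theorem u1230 : ∀ k, 0 ≤ k → k < 43085 → chk (k * 22) = true := between_extend chk 22 0 43050 35 (u1229) r1230
theorem u1231 : ∀ k, 0 ≤ k → k < 43120 → chk (k * 22) = true := between_extend chk 22 0 43085 35 (u1230) r1231
theorem u1232 : ∀ k, 0 ≤ k → k < 43155 → chk (k * 22) = true := between_extend chk 22 0 43120 35 (u1231) r1232
theorem u1233 : ∀ k, 0 ≤ k → k < 43190 → chk (k * 22) = true := between_extend chk 22 0 43155 35 (u1232) r1233
theorem u1234 : ∀ k, 0 ≤ k → k < 43225 → chk (k * 22) = true := between_extend chk 22 0 43190 35 (u1233) r1234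
theorem u1235 : ∀ k, 0 ≤ k → k < 43260 → chk (k * 22) = true := between_extend chk 22 0 43225 35 (u1234) r1235
theorem u1236 : ∀ k, 0 ≤ k → k < 43295 → chk (k * 22) = true := between_extend chk 22 0 43260 35 (u1235) r1236
theorem u1237 : ∀ k, 0 ≤ k → k < 43330 → chk (k * 22) = true := between_extend chk 22 0 43295 35 (u1236) r1237
theorem u1238 : ∀ k, 0 ≤ k → k < 43365 → chk (k * 22) = true := between_extend chk 22 0 43330 35 (u1237) r1238
theorem u1239 : ∀ k, 0 ≤ k → k < 43400 → chk (k * 22) = true := between_extend chk 22 0 43365 35 (u1238) r1239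
theorem u1240 : ∀ k, 0 ≤ k → k < 43435 → chk (k * 22) = true := between_extend chk 22 0 43400 35 (u1239) r1240
theorem u1241 : ∀ k, 0 ≤ k → k < 43470 → chk (k * 22) = true := between_extend chk 22 0 43435 35 (u1240) r1241
theorem u1242 : ∀ k, 0 ≤ k → k < 43505 → chk (k * 22) = true := between_extend chk 22 0 43470 35 (u1241) r1242
theorem u1243 : ∀ k, 0 ≤ k → k < 43540 → chk (k * 22) = true := between_extend chk 22 0 43505 35 (u1242) r1243
theorem u1244 : ∀ k, 0 ≤ k → k < 43575 → chk (k * 22) = true := between_extend chk 22 0 43540 35 (u1243) r1244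
theorem u1245 : ∀ k, 0 ≤ k → k < 43610 → chk (k * 22) = true := between_extend chk 22 0 43575 35 (u1244) r1245
theorem u1246 : ∀ k, 0 ≤ k → k < 43645 → chk (k * 22) = true := between_extend chk 22 0 43610 35 (u1245) r1246
theorem u1247 : ∀ k, 0 ≤ k → k < 43680 → chk (k * 22) = true := between_extend chk 22 0 43645 35 (u1246) r1247
theorem u1248 : ∀ k, 0 ≤ k → k < 43715 → chk (k * 22) = true := between_extend chk 22 0 43680 35 (u1247) r1248
theorem u1249 : ∀ k, 0 ≤ k → k < 43750 → chk (k * 22) = true := between_extend chk 22 0 43715 35 (u1248) r1249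
theorem u1250 : ∀ k, 0 ≤ k → k < 43785 → chk (k * 22) = true := between_extend chk 22 0 43750 35 (u1249) r1250
theorem u1251 : ∀ k, 0 ≤ k → k < 43820 → chk (k * 22) = true := between_extend chk 22 0 43785 35 (u1250) r1251
theorem u1252 : ∀ k, 0 ≤ k → k < 43855 → chk (k * 22) = true := between_extend chk 22 0 43820 35 (u1251) r1252
theorem u1253 : ∀ k, 0 ≤ k → k < 43890 → chk (k * 22) = true := between_extend chk 22 0 43855 35 (u1252) r1253
theorem u1254 : ∀ k, 0 ≤ k → k < 43925 → chk (k * 22) = true := between_extend chk 22 0 43890 35 (u1253) r1254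
theorem u1255 : ∀ k, 0 ≤ k → k < 43960 → chk (k * 22) = true := between_extend chk 22 0 43925 35 (u1254) r1255
theorem u1256 : ∀ k, 0 ≤ k → k < 43995 → chk (k * 22) = true := between_extend chk 22 0 43960 35 (u1255) r1256
theorem u1257 : ∀ k, 0 ≤ k → k < 44030 → chk (k * 22) = true := between_extend chk 22 0 43995 35 (u1256) r1257
theorem u1258 : ∀ k, 0 ≤ k → k < 44065 → chk (k * 22) = true := between_extend chk 22 0 44030 35 (u1257) r1258
theorem u1259 : ∀ k, 0 ≤ k → k < 44100 → chk (k * 22) = true := between_extend chk 22 0 44065 35 (u1258) r1259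
theorem u1260 : ∀ k, 0 ≤ k → k < 44135 → chk (k * 22) = true := between_extend chk 22 0 44100 35 (u1259) r1260
theorem u1261 : ∀ k, 0 ≤ k → k < 44170 → chk (k * 22) = true := between_extend chk 22 0 44135 35 (u1260) r1261
theorem u1262 : ∀ k, 0 ≤ k → k < 44205 → chk (k * 22) = true := between_extend chk 22 0 44170 35 (u1261) r1262
theorem u1263 : ∀ k, 0 ≤ k → k < 44240 → chk (k * 22) = true := between_extend chk 22 0 44205 35 (u1262) r1263
theorem u1264 : ∀ k, 0 ≤ k → k < 44275 → chk (k * 22) = true := between_extend chk 22 0 44240 35 (u1263) r1264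
theorem u1265 : ∀ k, 0 ≤ k → k < 44310 → chk (k * 22) = true := between_extend chk 22 0 44275 35 (u1264) r1265
theorem u1266 : ∀ k, 0 ≤ k → k < 44345 → chk (k * 22) = true := between_extend chk 22 0 44310 35 (u1265) r1266
theorem u1267 : ∀ k, 0 ≤ k → k < 44380 → chk (k * 22) = true := between_extend chk 22 0 44345 35 (u1266) r1267
theorem u1268 : ∀ k, 0 ≤ k → k < 44415 → chk (k * 22) = true := between_extend chk 22 0 44380 35 (u1267) r1268
theorem u1269 : ∀ k, 0 ≤ k → k < 44450 → chk (k * 22) = true := between_extend chk 22 0 44415 35 (u1268) r1269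
theorem u1270 : ∀ k, 0 ≤ k → k < 44485 → chk (k * 22) = true := between_extend chk 22 0 44450 35 (u1269) r1270
theorem u1271 : ∀ k, 0 ≤ k → k < 44520 → chk (k * 22) = true := between_extend chk 22 0 44485 35 (u1270) r1271
theorem u1272 : ∀ k, 0 ≤ k → k < 44555 → chk (k * 22) = true := between_extend chk 22 0 44520 35 (u1271) r1272
theorem u1273 : ∀ k, 0 ≤ k → k < 44590 → chk (k * 22) = true := between_extend chk 22 0 44555 35 (u1272) r1273
theorem u1274 : ∀ k, 0 ≤ k → k < 44625 → chk (k * 22) = true := between_extend chk 22 0 44590 35 (u1273) r1274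
theorem u1275 : ∀ k, 0 ≤ k → k < 44660 → chk (k * 22) = true := between_extend chk 22 0 44625 35 (u1274) r1275
theorem u1276 : ∀ k, 0 ≤ k → k < 44695 → chk (k * 22) = true := between_extend chk 22 0 44660 35 (u1275) r1276
theorem u1277 : ∀ k, 0 ≤ k → k < 44730 → chk (k * 22) = true := between_extend chk 22 0 44695 35 (u1276) r1277
theorem u1278 : ∀ k, 0 ≤ k → k < 44765 → chk (k * 22) = true := between_extend chk 22 0 44730 35 (u1277) r1278
theorem u1279 : ∀ k, 0 ≤ k → k < 44800 → chk (k * 22) = true := between_extend chk 22 0 44765 35 (u1278) r1279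
theorem u1280 : ∀ k, 0 ≤ k → k < 44835 → chk (k * 22) = true := between_extend chk 22 0 44800 35 (u1279) r1280
theorem u1281 : ∀ k, 0 ≤ k → k < 44870 → chk (k * 22) = true := between_extend chk 22 0 44835 35 (u1280) r1281
theorem u1282 : ∀ k, 0 ≤ k → k < 44905 → chk (k * 22) = true := between_extend chk 22 0 44870 35 (u1281) r1282
theorem u1283 : ∀ k, 0 ≤ k → k < 44940 → chk (k * 22) = true := between_extend chk 22 0 44905 35 (u1282) r1283
theorem u1284 : ∀ k, 0 ≤ k → k < 44975 → chk (k * 22) = true := between_extend chk 22 0 44940 35 (u1283) r1284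
theorem u1285 : ∀ k, 0 ≤ k → k < 45010 → chk (k * 22) = true := between_extend chk 22 0 44975 35 (u1284) r1285
theorem u1286 : ∀ k, 0 ≤ k → k < 45045 → chk (k * 22) = true := between_extend chk 22 0 45010 35 (u1285) r1286
theorem u1287 : ∀ k, 0 ≤ k → k < 45080 → chk (k * 22) = true := between_extend chk 22 0 45045 35 (u1286) r1287
theorem u1288 : ∀ k, 0 ≤ k → k < 45115 → chk (k * 22) = true := between_extend chk 22 0 45080 35 (u1287) r1288
theorem u1289 : ∀ k, 0 ≤ k → k < 45150 → chk (k * 22) = true := between_extend chk 22 0 45115 35 (u1288) r1289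
theorem u1290 : ∀ k, 0 ≤ k → k < 45185 → chk (k * 22) = true := between_extend chk 22 0 45150 35 (u1289) r1290
theorem u1291 : ∀ k, 0 ≤ k → k < 45220 → chk (k * 22) = true := between_extend chk 22 0 45185 35 (u1290) r1291
theorem u1292 : ∀ k, 0 ≤ k → k < 45255 → chk (k * 22) = true := between_extend chk 22 0 45220 35 (u1291) r1292
theorem u1293 : ∀ k, 0 ≤ k → k < 45290 → chk (k * 22) = true := between_extend chk 22 0 45255 35 (u1292) r1293
theorem u1294 : ∀ k, 0 ≤ k → k < 45325 → chk (k * 22) = true := between_extend chk 22 0 45290 35 (u1293) r1294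
theorem u1295 : ∀ k, 0 ≤ k → k < 45360 → chk (k * 22) = true := between_extend chk 22 0 45325 35 (u1294) r1295
theorem u1296 : ∀ k, 0 ≤ k → k < 45395 → chk (k * 22) = true := between_extend chk 22 0 45360 35 (u1295) r1296
theorem u1297 : ∀ k, 0 ≤ k → k < 45430 → chk (k * 22) = true := between_extend chk 22 0 45395 35 (u1296) r1297
theorem u1298 : ∀ k, 0 ≤ k → k < 45465 → chk (k * 22) = true := between_extend chk 22 0 45430 35 (u1297) r1298
theorem u1299 : ∀ k, 0 ≤ k → k < 45500 → chk (k * 22) = true := between_extend chk 22 0 45465 35 (u1298) r1299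
theorem u1300 : ∀ k, 0 ≤ k → k < 45535 → chk (k * 22) = true := between_extend chk 22 0 45500 35 (u1299) r1300
theorem u1301 : ∀ k, 0 ≤ k → k < 45570 → chk (k * 22) = true := between_extend chk 22 0 45535 35 (u1300) r1301
theorem u1302 : ∀ k, 0 ≤ k → k < 45605 → chk (k * 22) = true := between_extend chk 22 0 45570 35 (u1301) r1302
theorem u1303 : ∀ k, 0 ≤ k → k < 45640 → chk (k * 22) = true := between_extend chk 22 0 45605 35 (u1302) r1303
theorem u1304 : ∀ k, 0 ≤ k → k < 45675 → chk (k * 22) = true := between_extend chk 22 0 45640 35 (u1303) r1304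
theorem u1305 : ∀ k, 0 ≤ k → k < 45710 → chk (k * 22) = true := between_extend chk 22 0 45675 35 (u1304) r1305
theorem u1306 : ∀ k, 0 ≤ k → k < 45745 → chk (k * 22) = true := between_extend chk 22 0 45710 35 (u1305) r1306
theorem u1307 : ∀ k, 0 ≤ k → k < 45780 → chk (k * 22) = true := between_extend chk 22 0 45745 35 (u1306) r1307
theorem u1308 : ∀ k, 0 ≤ k → k < 45815 → chk (k * 22) = true := between_extend chk 22 0 45780 35 (u1307) r1308
theorem u1309 : ∀ k, 0 ≤ k → k < 45850 → chk (k * 22) = true := between_extend chk 22 0 45815 35 (u1308) r1309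
theorem u1310 : ∀ k, 0 ≤ k → k < 45885 → chk (k * 22) = true := between_extend chk 22 0 45850 35 (u1309) r1310
theorem u1311 : ∀ k, 0 ≤ k → k < 45920 → chk (k * 22) = true := between_extend chk 22 0 45885 35 (u1310) r1311
theorem u1312 : ∀ k, 0 ≤ k → k < 45955 → chk (k * 22) = true := between_extend chk 22 0 45920 35 (u1311) r1312
theorem u1313 : ∀ k, 0 ≤ k → k < 45990 → chk (k * 22) = true := between_extend chk 22 0 45955 35 (u1312) r1313
theorem u1314 : ∀ k, 0 ≤ k → k < 46025 → chk (k * 22) = true := between_extend chk 22 0 45990 35 (u1313) r1314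
theorem u1315 : ∀ k, 0 ≤ k → k < 46060 → chk (k * 22) = true := between_extend chk 22 0 46025 35 (u1314) r1315
theorem u1316 : ∀ k, 0 ≤ k → k < 46095 → chk (k * 22) = true := between_extend chk 22 0 46060 35 (u1315) r1316
theorem u1317 : ∀ k, 0 ≤ k → k < 46130 → chk (k * 22) = true := between_extend chk 22 0 46095 35 (u1316) r1317
theorem u1318 : ∀ k, 0 ≤ k → k < 46165 → chk (k * 22) = true := between_extend chk 22 0 46130 35 (u1317) r1318
theorem u1319 : ∀ k, 0 ≤ k → k < 46200 → chk (k * 22) = true := between_extend chk 22 0 46165 35 (u1318) r1319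
theorem u1320 : ∀ k, 0 ≤ k → k < 46235 → chk (k * 22) = true := between_extend chk 22 0 46200 35 (u1319) r1320
theorem u1321 : ∀ k, 0 ≤ k → k < 46270 → chk (k * 22) = true := between_extend chk 22 0 46235 35 (u1320) r1321
theorem u1322 : ∀ k, 0 ≤ k → k < 46305 → chk (k * 22) = true := between_extend chk 22 0 46270 35 (u1321) r1322
theorem u1323 : ∀ k, 0 ≤ k → k < 46340 → chk (k * 22) = true := between_extend chk 22 0 46305 35 (u1322) r1323
theorem u1324 : ∀ k, 0 ≤ k → k < 46375 → chk (k * 22) = true := between_extend chk 22 0 46340 35 (u1323) r1324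
theorem u1325 : ∀ k, 0 ≤ k → k < 46410 → chk (k * 22) = true := between_extend chk 22 0 46375 35 (u1324) r1325
theorem u1326 : ∀ k, 0 ≤ k → k < 46445 → chk (k * 22) = true := between_extend chk 22 0 46410 35 (u1325) r1326
theorem u1327 : ∀ k, 0 ≤ k → k < 46480 → chk (k * 22) = true := between_extend chk 22 0 46445 35 (u1326) r1327
theorem u1328 : ∀ k, 0 ≤ k → k < 46515 → chk (k * 22) = true := between_extend chk 22 0 46480 35 (u1327) r1328
theorem u1329 : ∀ k, 0 ≤ k → k < 46550 → chk (k * 22) = true := between_extend chk 22 0 46515 35 (u1328) r1329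
theorem u1330 : ∀ k, 0 ≤ k → k < 46585 → chk (k * 22) = true := between_extend chk 22 0 46550 35 (u1329) r1330
theorem u1331 : ∀ k, 0 ≤ k → k < 46620 → chk (k * 22) = true := between_extend chk 22 0 46585 35 (u1330) r1331
theorem u1332 : ∀ k, 0 ≤ k → k < 46655 → chk (k * 22) = true := between_extend chk 22 0 46620 35 (u1331) r1332
theorem u1333 : ∀ k, 0 ≤ k → k < 46690 → chk (k * 22) = true := between_extend chk 22 0 46655 35 (u1332) r1333
theorem u1334 : ∀ k, 0 ≤ k → k < 46725 → chk (k * 22) = true := between_extend chk 22 0 46690 35 (u1333) r1334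
theorem u1335 : ∀ k, 0 ≤ k → k < 46760 → chk (k * 22) = true := between_extend chk 22 0 46725 35 (u1334) r1335
theorem u1336 : ∀ k, 0 ≤ k → k < 46795 → chk (k * 22) = true := between_extend chk 22 0 46760 35 (u1335) r1336
theorem u1337 : ∀ k, 0 ≤ k → k < 46830 → chk (k * 22) = true := between_extend chk 22 0 46795 35 (u1336) r1337
theorem u1338 : ∀ k, 0 ≤ k → k < 46865 → chk (k * 22) = true := between_extend chk 22 0 46830 35 (u1337) r1338
theorem u1339 : ∀ k, 0 ≤ k → k < 46900 → chk (k * 22) = true := between_extend chk 22 0 46865 35 (u1338) r1339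
theorem u1340 : ∀ k, 0 ≤ k → k < 46935 → chk (k * 22) = true := between_extend chk 22 0 46900 35 (u1339) r1340
theorem u1341 : ∀ k, 0 ≤ k → k < 46970 → chk (k * 22) = true := between_extend chk 22 0 46935 35 (u1340) r1341
theorem u1342 : ∀ k, 0 ≤ k → k < 47005 → chk (k * 22) = true := between_extend chk 22 0 46970 35 (u1341) r1342
theorem u1343 : ∀ k, 0 ≤ k → k < 47040 → chk (k * 22) = true := between_extend chk 22 0 47005 35 (u1342) r1343
theorem u1344 : ∀ k, 0 ≤ k → k < 47075 → chk (k * 22) = true := between_extend chk 22 0 47040 35 (u1343) r1344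
theorem u1345 : ∀ k, 0 ≤ k → k < 47110 → chk (k * 22) = true := between_extend chk 22 0 47075 35 (u1344) r1345
theorem u1346 : ∀ k, 0 ≤ k → k < 47145 → chk (k * 22) = true := between_extend chk 22 0 47110 35 (u1345) r1346
theorem u1347 : ∀ k, 0 ≤ k → k < 47180 → chk (k * 22) = true := between_extend chk 22 0 47145 35 (u1346) r1347
theorem u1348 : ∀ k, 0 ≤ k → k < 47215 → chk (k * 22) = true := between_extend chk 22 0 47180 35 (u1347) r1348
theorem u1349 : ∀ k, 0 ≤ k → k < 47250 → chk (k * 22) = true := between_extend chk 22 0 47215 35 (u1348) r1349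
theorem u1350 : ∀ k, 0 ≤ k → k < 47285 → chk (k * 22) = true := between_extend chk 22 0 47250 35 (u1349) r1350
theorem u1351 : ∀ k, 0 ≤ k → k < 47320 → chk (k * 22) = true := between_extend chk 22 0 47285 35 (u1350) r1351
theorem u1352 : ∀ k, 0 ≤ k → k < 47355 → chk (k * 22) = true := between_extend chk 22 0 47320 35 (u1351) r1352
theorem u1353 : ∀ k, 0 ≤ k → k < 47390 → chk (k * 22) = true := between_extend chk 22 0 47355 35 (u1352) r1353
theorem u1354 : ∀ k, 0 ≤ k → k < 47425 → chk (k * 22) = true := between_extend chk 22 0 47390 35 (u1353) r1354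
theorem u1355 : ∀ k, 0 ≤ k → k < 47460 → chk (k * 22) = true := between_extend chk 22 0 47425 35 (u1354) r1355
theorem u1356 : ∀ k, 0 ≤ k → k < 47495 → chk (k * 22) = true := between_extend chk 22 0 47460 35 (u1355) r1356
theorem u1357 : ∀ k, 0 ≤ k → k < 47530 → chk (k * 22) = true := between_extend chk 22 0 47495 35 (u1356) r1357
theorem u1358 : ∀ k, 0 ≤ k → k < 47565 → chk (k * 22) = true := between_extend chk 22 0 47530 35 (u1357) r1358
theorem u1359 : ∀ k, 0 ≤ k → k < 47600 → chk (k * 22) = true := between_extend chk 22 0 47565 35 (u1358) r1359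
theorem u1360 : ∀ k, 0 ≤ k → k < 47635 → chk (k * 22) = true := between_extend chk 22 0 47600 35 (u1359) r1360
theorem u1361 : ∀ k, 0 ≤ k → k < 47670 → chk (k * 22) = true := between_extend chk 22 0 47635 35 (u1360) r1361
theorem u1362 : ∀ k, 0 ≤ k → k < 47705 → chk (k * 22) = true := between_extend chk 22 0 47670 35 (u1361) r1362
theorem u1363 : ∀ k, 0 ≤ k → k < 47740 → chk (k * 22) = true := between_extend chk 22 0 47705 35 (u1362) r1363
theorem u1364 : ∀ k, 0 ≤ k → k < 47775 → chk (k * 22) = true := between_extend chk 22 0 47740 35 (u1363) r1364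
theorem u1365 : ∀ k, 0 ≤ k → k < 47810 → chk (k * 22) = true := between_extend chk 22 0 47775 35 (u1364) r1365
theorem u1366 : ∀ k, 0 ≤ k → k < 47845 → chk (k * 22) = true := between_extend chk 22 0 47810 35 (u1365) r1366
theorem u1367 : ∀ k, 0 ≤ k → k < 47880 → chk (k * 22) = true := between_extend chk 22 0 47845 35 (u1366) r1367
theorem u1368 : ∀ k, 0 ≤ k → k < 47915 → chk (k * 22) = true := between_extend chk 22 0 47880 35 (u1367) r1368
theorem u1369 : ∀ k, 0 ≤ k → k < 47950 → chk (k * 22) = true := between_extend chk 22 0 47915 35 (u1368) r1369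
theorem u1370 : ∀ k, 0 ≤ k → k < 47985 → chk (k * 22) = true := between_extend chk 22 0 47950 35 (u1369) r1370
theorem u1371 : ∀ k, 0 ≤ k → k < 48020 → chk (k * 22) = true := between_extend chk 22 0 47985 35 (u1370) r1371
theorem u1372 : ∀ k, 0 ≤ k → k < 48055 → chk (k * 22) = true := between_extend chk 22 0 48020 35 (u1371) r1372
theorem u1373 : ∀ k, 0 ≤ k → k < 48090 → chk (k * 22) = true := between_extend chk 22 0 48055 35 (u1372) r1373
theorem u1374 : ∀ k, 0 ≤ k → k < 48125 → chk (k * 22) = true := between_extend chk 22 0 48090 35 (u1373) r1374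
theorem u1375 : ∀ k, 0 ≤ k → k < 48160 → chk (k * 22) = true := between_extend chk 22 0 48125 35 (u1374) r1375
theorem u1376 : ∀ k, 0 ≤ k → k < 48195 → chk (k * 22) = true := between_extend chk 22 0 48160 35 (u1375) r1376
theorem u1377 : ∀ k, 0 ≤ k → k < 48230 → chk (k * 22) = true := between_extend chk 22 0 48195 35 (u1376) r1377
theorem u1378 : ∀ k, 0 ≤ k → k < 48265 → chk (k * 22) = true := between_extend chk 22 0 48230 35 (u1377) r1378
theorem u1379 : ∀ k, 0 ≤ k → k < 48300 → chk (k * 22) = true := between_extend chk 22 0 48265 35 (u1378) r1379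
theorem u1380 : ∀ k, 0 ≤ k → k < 48335 → chk (k * 22) = true := between_extend chk 22 0 48300 35 (u1379) r1380
theorem u1381 : ∀ k, 0 ≤ k → k < 48370 → chk (k * 22) = true := between_extend chk 22 0 48335 35 (u1380) r1381
theorem u1382 : ∀ k, 0 ≤ k → k < 48405 → chk (k * 22) = true := between_extend chk 22 0 48370 35 (u1381) r1382
theorem u1383 : ∀ k, 0 ≤ k → k < 48440 → chk (k * 22) = true := between_extend chk 22 0 48405 35 (u1382) r1383
theorem u1384 : ∀ k, 0 ≤ k → k < 48475 → chk (k * 22) = true := between_extend chk 22 0 48440 35 (u1383) r1384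
theorem u1385 : ∀ k, 0 ≤ k → k < 48510 → chk (k * 22) = true := between_extend chk 22 0 48475 35 (u1384) r1385
theorem u1386 : ∀ k, 0 ≤ k → k < 48545 → chk (k * 22) = true := between_extend chk 22 0 48510 35 (u1385) r1386
theorem u1387 : ∀ k, 0 ≤ k → k < 48580 → chk (k * 22) = true := between_extend chk 22 0 48545 35 (u1386) r1387
theorem u1388 : ∀ k, 0 ≤ k → k < 48615 → chk (k * 22) = true := between_extend chk 22 0 48580 35 (u1387) r1388
theorem u1389 : ∀ k, 0 ≤ k → k < 48650 → chk (k * 22) = true := between_extend chk 22 0 48615 35 (u1388) r1389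
theorem u1390 : ∀ k, 0 ≤ k → k < 48685 → chk (k * 22) = true := between_extend chk 22 0 48650 35 (u1389) r1390
theorem u1391 : ∀ k, 0 ≤ k → k < 48720 → chk (k * 22) = true := between_extend chk 22 0 48685 35 (u1390) r1391
theorem u1392 : ∀ k, 0 ≤ k → k < 48755 → chk (k * 22) = true := between_extend chk 22 0 48720 35 (u1391) r1392
theorem u1393 : ∀ k, 0 ≤ k → k < 48790 → chk (k * 22) = true := between_extend chk 22 0 48755 35 (u1392) r1393
theorem u1394 : ∀ k, 0 ≤ k → k < 48825 → chk (k * 22) = true := between_extend chk 22 0 48790 35 (u1393) r1394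
theorem u1395 : ∀ k, 0 ≤ k → k < 48860 → chk (k * 22) = true := between_extend chk 22 0 48825 35 (u1394) r1395
theorem u1396 : ∀ k, 0 ≤ k → k < 48895 → chk (k * 22) = true := between_extend chk 22 0 48860 35 (u1395) r1396
theorem u1397 : ∀ k, 0 ≤ k → k < 48930 → chk (k * 22) = true := between_extend chk 22 0 48895 35 (u1396) r1397
theorem u1398 : ∀ k, 0 ≤ k → k < 48965 → chk (k * 22) = true := between_extend chk 22 0 48930 35 (u1397) r1398
theorem u1399 : ∀ k, 0 ≤ k → k < 49000 → chk (k * 22) = true := between_extend chk 22 0 48965 35 (u1398) r1399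
theorem u1400 : ∀ k, 0 ≤ k → k < 49035 → chk (k * 22) = true := between_extend chk 22 0 49000 35 (u1399) r1400
theorem u1401 : ∀ k, 0 ≤ k → k < 49070 → chk (k * 22) = true := between_extend chk 22 0 49035 35 (u1400) r1401
theorem u1402 : ∀ k, 0 ≤ k → k < 49105 → chk (k * 22) = true := between_extend chk 22 0 49070 35 (u1401) r1402
theorem u1403 : ∀ k, 0 ≤ k → k < 49140 → chk (k * 22) = true := between_extend chk 22 0 49105 35 (u1402) r1403
theorem u1404 : ∀ k, 0 ≤ k → k < 49175 → chk (k * 22) = true := between_extend chk 22 0 49140 35 (u1403) r1404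
theorem u1405 : ∀ k, 0 ≤ k → k < 49210 → chk (k * 22) = true := between_extend chk 22 0 49175 35 (u1404) r1405
theorem u1406 : ∀ k, 0 ≤ k → k < 49245 → chk (k * 22) = true := between_extend chk 22 0 49210 35 (u1405) r1406
theorem u1407 : ∀ k, 0 ≤ k → k < 49280 → chk (k * 22) = true := between_extend chk 22 0 49245 35 (u1406) r1407
theorem u1408 : ∀ k, 0 ≤ k → k < 49315 → chk (k * 22) = true := between_extend chk 22 0 49280 35 (u1407) r1408
theorem u1409 : ∀ k, 0 ≤ k → k < 49350 → chk (k * 22) = true := between_extend chk 22 0 49315 35 (u1408) r1409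
theorem u1410 : ∀ k, 0 ≤ k → k < 49385 → chk (k * 22) = true := between_extend chk 22 0 49350 35 (u1409) r1410
theorem u1411 : ∀ k, 0 ≤ k → k < 49420 → chk (k * 22) = true := between_extend chk 22 0 49385 35 (u1410) r1411
theorem u1412 : ∀ k, 0 ≤ k → k < 49455 → chk (k * 22) = true := between_extend chk 22 0 49420 35 (u1411) r1412
theorem u1413 : ∀ k, 0 ≤ k → k < 49490 → chk (k * 22) = true := between_extend chk 22 0 49455 35 (u1412) r1413
theorem u1414 : ∀ k, 0 ≤ k → k < 49525 → chk (k * 22) = true := between_extend chk 22 0 49490 35 (u1413) r1414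
theorem u1415 : ∀ k, 0 ≤ k → k < 49560 → chk (k * 22) = true := between_extend chk 22 0 49525 35 (u1414) r1415
theorem u1416 : ∀ k, 0 ≤ k → k < 49595 → chk (k * 22) = true := between_extend chk 22 0 49560 35 (u1415) r1416
theorem u1417 : ∀ k, 0 ≤ k → k < 49630 → chk (k * 22) = true := between_extend chk 22 0 49595 35 (u1416) r1417
theorem u1418 : ∀ k, 0 ≤ k → k < 49665 → chk (k * 22) = true := between_extend chk 22 0 49630 35 (u1417) r1418
theorem u1419 : ∀ k, 0 ≤ k → k < 49700 → chk (k * 22) = true := between_extend chk 22 0 49665 35 (u1418) r1419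
theorem u1420 : ∀ k, 0 ≤ k → k < 49735 → chk (k * 22) = true := between_extend chk 22 0 49700 35 (u1419) r1420
theorem u1421 : ∀ k, 0 ≤ k → k < 49770 → chk (k * 22) = true := between_extend chk 22 0 49735 35 (u1420) r1421
theorem u1422 : ∀ k, 0 ≤ k → k < 49805 → chk (k * 22) = true := between_extend chk 22 0 49770 35 (u1421) r1422
theorem u1423 : ∀ k, 0 ≤ k → k < 49840 → chk (k * 22) = true := between_extend chk 22 0 49805 35 (u1422) r1423
theorem u1424 : ∀ k, 0 ≤ k → k < 49875 → chk (k * 22) = true := between_extend chk 22 0 49840 35 (u1423) r1424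
theorem u1425 : ∀ k, 0 ≤ k → k < 49910 → chk (k * 22) = true := between_extend chk 22 0 49875 35 (u1424) r1425
theorem u1426 : ∀ k, 0 ≤ k → k < 49945 → chk (k * 22) = true := between_extend chk 22 0 49910 35 (u1425) r1426
theorem u1427 : ∀ k, 0 ≤ k → k < 49980 → chk (k * 22) = true := between_extend chk 22 0 49945 35 (u1426) r1427
theorem u1428 : ∀ k, 0 ≤ k → k < 50015 → chk (k * 22) = true := between_extend chk 22 0 49980 35 (u1427) r1428
theorem u1429 : ∀ k, 0 ≤ k → k < 50050 → chk (k * 22) = true := between_extend chk 22 0 50015 35 (u1428) r1429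
theorem u1430 : ∀ k, 0 ≤ k → k < 50085 → chk (k * 22) = true := between_extend chk 22 0 50050 35 (u1429) r1430
theorem u1431 : ∀ k, 0 ≤ k → k < 50120 → chk (k * 22) = true := between_extend chk 22 0 50085 35 (u1430) r1431
theorem u1432 : ∀ k, 0 ≤ k → k < 50155 → chk (k * 22) = true := between_extend chk 22 0 50120 35 (u1431) r1432
theorem u1433 : ∀ k, 0 ≤ k → k < 50190 → chk (k * 22) = true := between_extend chk 22 0 50155 35 (u1432) r1433
theorem u1434 : ∀ k, 0 ≤ k → k < 50225 → chk (k * 22) = true := between_extend chk 22 0 50190 35 (u1433) r1434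
theorem u1435 : ∀ k, 0 ≤ k → k < 50260 → chk (k * 22) = true := between_extend chk 22 0 50225 35 (u1434) r1435
theorem u1436 : ∀ k, 0 ≤ k → k < 50295 → chk (k * 22) = true := between_extend chk 22 0 50260 35 (u1435) r1436
theorem u1437 : ∀ k, 0 ≤ k → k < 50330 → chk (k * 22) = true := between_extend chk 22 0 50295 35 (u1436) r1437
theorem u1438 : ∀ k, 0 ≤ k → k < 50365 → chk (k * 22) = true := between_extend chk 22 0 50330 35 (u1437) r1438
theorem u1439 : ∀ k, 0 ≤ k → k < 50400 → chk (k * 22) = true := between_extend chk 22 0 50365 35 (u1438) r1439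
theorem u1440 : ∀ k, 0 ≤ k → k < 50435 → chk (k * 22) = true := between_extend chk 22 0 50400 35 (u1439) r1440
theorem u1441 : ∀ k, 0 ≤ k → k < 50470 → chk (k * 22) = true := between_extend chk 22 0 50435 35 (u1440) r1441
theorem u1442 : ∀ k, 0 ≤ k → k < 50505 → chk (k * 22) = true := between_extend chk 22 0 50470 35 (u1441) r1442
theorem u1443 : ∀ k, 0 ≤ k → k < 50540 → chk (k * 22) = true := between_extend chk 22 0 50505 35 (u1442) r1443
theorem u1444 : ∀ k, 0 ≤ k → k < 50575 → chk (k * 22) = true := between_extend chk 22 0 50540 35 (u1443) r1444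
theorem u1445 : ∀ k, 0 ≤ k → k < 50610 → chk (k * 22) = true := between_extend chk 22 0 50575 35 (u1444) r1445
theorem u1446 : ∀ k, 0 ≤ k → k < 50645 → chk (k * 22) = true := between_extend chk 22 0 50610 35 (u1445) r1446
theorem u1447 : ∀ k, 0 ≤ k → k < 50680 → chk (k * 22) = true := between_extend chk 22 0 50645 35 (u1446) r1447
theorem u1448 : ∀ k, 0 ≤ k → k < 50715 → chk (k * 22) = true := between_extend chk 22 0 50680 35 (u1447) r1448
theorem u1449 : ∀ k, 0 ≤ k → k < 50750 → chk (k * 22) = true := between_extend chk 22 0 50715 35 (u1448) r1449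
theorem u1450 : ∀ k, 0 ≤ k → k < 50785 → chk (k * 22) = true := between_extend chk 22 0 50750 35 (u1449) r1450
theorem u1451 : ∀ k, 0 ≤ k → k < 50820 → chk (k * 22) = true := between_extend chk 22 0 50785 35 (u1450) r1451
theorem u1452 : ∀ k, 0 ≤ k → k < 50855 → chk (k * 22) = true := between_extend chk 22 0 50820 35 (u1451) r1452
theorem u1453 : ∀ k, 0 ≤ k → k < 50890 → chk (k * 22) = true := between_extend chk 22 0 50855 35 (u1452) r1453
theorem u1454 : ∀ k, 0 ≤ k → k < 50925 → chk (k * 22) = true := between_extend chk 22 0 50890 35 (u1453) r1454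
theorem u1455 : ∀ k, 0 ≤ k → k < 50960 → chk (k * 22) = true := between_extend chk 22 0 50925 35 (u1454) r1455
theorem u1456 : ∀ k, 0 ≤ k → k < 50995 → chk (k * 22) = true := between_extend chk 22 0 50960 35 (u1455) r1456
theorem u1457 : ∀ k, 0 ≤ k → k < 51030 → chk (k * 22) = true := between_extend chk 22 0 50995 35 (u1456) r1457
theorem u1458 : ∀ k, 0 ≤ k → k < 51065 → chk (k * 22) = true := between_extend chk 22 0 51030 35 (u1457) r1458
theorem u1459 : ∀ k, 0 ≤ k → k < 51100 → chk (k * 22) = true := between_extend chk 22 0 51065 35 (u1458) r1459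
theorem u1460 : ∀ k, 0 ≤ k → k < 51135 → chk (k * 22) = true := between_extend chk 22 0 51100 35 (u1459) r1460
theorem u1461 : ∀ k, 0 ≤ k → k < 51170 → chk (k * 22) = true := between_extend chk 22 0 51135 35 (u1460) r1461
theorem u1462 : ∀ k, 0 ≤ k → k < 51205 → chk (k * 22) = true := between_extend chk 22 0 51170 35 (u1461) r1462
theorem u1463 : ∀ k, 0 ≤ k → k < 51240 → chk (k * 22) = true := between_extend chk 22 0 51205 35 (u1462) r1463
theorem u1464 : ∀ k, 0 ≤ k → k < 51275 → chk (k * 22) = true := between_extend chk 22 0 51240 35 (u1463) r1464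
theorem u1465 : ∀ k, 0 ≤ k → k < 51310 → chk (k * 22) = true := between_extend chk 22 0 51275 35 (u1464) r1465
theorem u1466 : ∀ k, 0 ≤ k → k < 51345 → chk (k * 22) = true := between_extend chk 22 0 51310 35 (u1465) r1466
theorem u1467 : ∀ k, 0 ≤ k → k < 51380 → chk (k * 22) = true := between_extend chk 22 0 51345 35 (u1466) r1467
theorem u1468 : ∀ k, 0 ≤ k → k < 51415 → chk (k * 22) = true := between_extend chk 22 0 51380 35 (u1467) r1468
theorem u1469 : ∀ k, 0 ≤ k → k < 51450 → chk (k * 22) = true := between_extend chk 22 0 51415 35 (u1468) r1469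
theorem u1470 : ∀ k, 0 ≤ k → k < 51485 → chk (k * 22) = true := between_extend chk 22 0 51450 35 (u1469) r1470
theorem u1471 : ∀ k, 0 ≤ k → k < 51520 → chk (k * 22) = true := between_extend chk 22 0 51485 35 (u1470) r1471
theorem u1472 : ∀ k, 0 ≤ k → k < 51555 → chk (k * 22) = true := between_extend chk 22 0 51520 35 (u1471) r1472
theorem u1473 : ∀ k, 0 ≤ k → k < 51590 → chk (k * 22) = true := between_extend chk 22 0 51555 35 (u1472) r1473
theorem u1474 : ∀ k, 0 ≤ k → k < 51625 → chk (k * 22) = true := between_extend chk 22 0 51590 35 (u1473) r1474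
theorem u1475 : ∀ k, 0 ≤ k → k < 51660 → chk (k * 22) = true := between_extend chk 22 0 51625 35 (u1474) r1475
theorem u1476 : ∀ k, 0 ≤ k → k < 51695 → chk (k * 22) = true := between_extend chk 22 0 51660 35 (u1475) r1476
theorem u1477 : ∀ k, 0 ≤ k → k < 51730 → chk (k * 22) = true := between_extend chk 22 0 51695 35 (u1476) r1477
theorem u1478 : ∀ k, 0 ≤ k → k < 51765 → chk (k * 22) = true := between_extend chk 22 0 51730 35 (u1477) r1478
theorem u1479 : ∀ k, 0 ≤ k → k < 51800 → chk (k * 22) = true := between_extend chk 22 0 51765 35 (u1478) r1479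
theorem u1480 : ∀ k, 0 ≤ k → k < 51835 → chk (k * 22) = true := between_extend chk 22 0 51800 35 (u1479) r1480
theorem u1481 : ∀ k, 0 ≤ k → k < 51870 → chk (k * 22) = true := between_extend chk 22 0 51835 35 (u1480) r1481
theorem u1482 : ∀ k, 0 ≤ k → k < 51905 → chk (k * 22) = true := between_extend chk 22 0 51870 35 (u1481) r1482
theorem u1483 : ∀ k, 0 ≤ k → k < 51940 → chk (k * 22) = true := between_extend chk 22 0 51905 35 (u1482) r1483
theorem u1484 : ∀ k, 0 ≤ k → k < 51975 → chk (k * 22) = true := between_extend chk 22 0 51940 35 (u1483) r1484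
theorem u1485 : ∀ k, 0 ≤ k → k < 52010 → chk (k * 22) = true := between_extend chk 22 0 51975 35 (u1484) r1485
theorem u1486 : ∀ k, 0 ≤ k → k < 52045 → chk (k * 22) = true := between_extend chk 22 0 52010 35 (u1485) r1486
theorem u1487 : ∀ k, 0 ≤ k → k < 52080 → chk (k * 22) = true := between_extend chk 22 0 52045 35 (u1486) r1487
theorem u1488 : ∀ k, 0 ≤ k → k < 52115 → chk (k * 22) = true := between_extend chk 22 0 52080 35 (u1487) r1488
theorem u1489 : ∀ k, 0 ≤ k → k < 52150 → chk (k * 22) = true := between_extend chk 22 0 52115 35 (u1488) r1489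
theorem u1490 : ∀ k, 0 ≤ k → k < 52185 → chk (k * 22) = true := between_extend chk 22 0 52150 35 (u1489) r1490
theorem u1491 : ∀ k, 0 ≤ k → k < 52220 → chk (k * 22) = true := between_extend chk 22 0 52185 35 (u1490) r1491
theorem u1492 : ∀ k, 0 ≤ k → k < 52255 → chk (k * 22) = true := between_extend chk 22 0 52220 35 (u1491) r1492
theorem u1493 : ∀ k, 0 ≤ k → k < 52290 → chk (k * 22) = true := between_extend chk 22 0 52255 35 (u1492) r1493
theorem u1494 : ∀ k, 0 ≤ k → k < 52325 → chk (k * 22) = true := between_extend chk 22 0 52290 35 (u1493) r1494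
theorem u1495 : ∀ k, 0 ≤ k → k < 52360 → chk (k * 22) = true := between_extend chk 22 0 52325 35 (u1494) r1495
theorem u1496 : ∀ k, 0 ≤ k → k < 52395 → chk (k * 22) = true := between_extend chk 22 0 52360 35 (u1495) r1496
theorem u1497 : ∀ k, 0 ≤ k → k < 52430 → chk (k * 22) = true := between_extend chk 22 0 52395 35 (u1496) r1497
theorem u1498 : ∀ k, 0 ≤ k → k < 52465 → chk (k * 22) = true := between_extend chk 22 0 52430 35 (u1497) r1498
theorem u1499 : ∀ k, 0 ≤ k → k < 52500 → chk (k * 22) = true := between_extend chk 22 0 52465 35 (u1498) r1499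
theorem u1500 : ∀ k, 0 ≤ k → k < 52535 → chk (k * 22) = true := between_extend chk 22 0 52500 35 (u1499) r1500
theorem u1501 : ∀ k, 0 ≤ k → k < 52570 → chk (k * 22) = true := between_extend chk 22 0 52535 35 (u1500) r1501
theorem u1502 : ∀ k, 0 ≤ k → k < 52605 → chk (k * 22) = true := between_extend chk 22 0 52570 35 (u1501) r1502
theorem u1503 : ∀ k, 0 ≤ k → k < 52640 → chk (k * 22) = true := between_extend chk 22 0 52605 35 (u1502) r1503
theorem u1504 : ∀ k, 0 ≤ k → k < 52675 → chk (k * 22) = true := between_extend chk 22 0 52640 35 (u1503) r1504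
theorem u1505 : ∀ k, 0 ≤ k → k < 52710 → chk (k * 22) = true := between_extend chk 22 0 52675 35 (u1504) r1505
theorem u1506 : ∀ k, 0 ≤ k → k < 52745 → chk (k * 22) = true := between_extend chk 22 0 52710 35 (u1505) r1506
theorem u1507 : ∀ k, 0 ≤ k → k < 52780 → chk (k * 22) = true := between_extend chk 22 0 52745 35 (u1506) r1507
theorem u1508 : ∀ k, 0 ≤ k → k < 52815 → chk (k * 22) = true := between_extend chk 22 0 52780 35 (u1507) r1508
theorem u1509 : ∀ k, 0 ≤ k → k < 52850 → chk (k * 22) = true := between_extend chk 22 0 52815 35 (u1508) r1509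
theorem u1510 : ∀ k, 0 ≤ k → k < 52885 → chk (k * 22) = true := between_extend chk 22 0 52850 35 (u1509) r1510
theorem u1511 : ∀ k, 0 ≤ k → k < 52920 → chk (k * 22) = true := between_extend chk 22 0 52885 35 (u1510) r1511
theorem u1512 : ∀ k, 0 ≤ k → k < 52955 → chk (k * 22) = true := between_extend chk 22 0 52920 35 (u1511) r1512
theorem u1513 : ∀ k, 0 ≤ k → k < 52990 → chk (k * 22) = true := between_extend chk 22 0 52955 35 (u1512) r1513
theorem u1514 : ∀ k, 0 ≤ k → k < 53025 → chk (k * 22) = true := between_extend chk 22 0 52990 35 (u1513) r1514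
theorem u1515 : ∀ k, 0 ≤ k → k < 53060 → chk (k * 22) = true := between_extend chk 22 0 53025 35 (u1514) r1515
theorem u1516 : ∀ k, 0 ≤ k → k < 53095 → chk (k * 22) = true := between_extend chk 22 0 53060 35 (u1515) r1516
theorem u1517 : ∀ k, 0 ≤ k → k < 53130 → chk (k * 22) = true := between_extend chk 22 0 53095 35 (u1516) r1517
theorem u1518 : ∀ k, 0 ≤ k → k < 53165 → chk (k * 22) = true := between_extend chk 22 0 53130 35 (u1517) r1518
theorem u1519 : ∀ k, 0 ≤ k → k < 53200 → chk (k * 22) = true := between_extend chk 22 0 53165 35 (u1518) r1519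
theorem u1520 : ∀ k, 0 ≤ k → k < 53235 → chk (k * 22) = true := between_extend chk 22 0 53200 35 (u1519) r1520
theorem u1521 : ∀ k, 0 ≤ k → k < 53270 → chk (k * 22) = true := between_extend chk 22 0 53235 35 (u1520) r1521
theorem u1522 : ∀ k, 0 ≤ k → k < 53305 → chk (k * 22) = true := between_extend chk 22 0 53270 35 (u1521) r1522
theorem u1523 : ∀ k, 0 ≤ k → k < 53340 → chk (k * 22) = true := between_extend chk 22 0 53305 35 (u1522) r1523
theorem u1524 : ∀ k, 0 ≤ k → k < 53375 → chk (k * 22) = true := between_extend chk 22 0 53340 35 (u1523) r1524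
theorem u1525 : ∀ k, 0 ≤ k → k < 53410 → chk (k * 22) = true := between_extend chk 22 0 53375 35 (u1524) r1525
theorem u1526 : ∀ k, 0 ≤ k → k < 53445 → chk (k * 22) = true := between_extend chk 22 0 53410 35 (u1525) r1526
theorem u1527 : ∀ k, 0 ≤ k → k < 53480 → chk (k * 22) = true := between_extend chk 22 0 53445 35 (u1526) r1527
theorem u1528 : ∀ k, 0 ≤ k → k < 53515 → chk (k * 22) = true := between_extend chk 22 0 53480 35 (u1527) r1528
theorem u1529 : ∀ k, 0 ≤ k → k < 53550 → chk (k * 22) = true := between_extend chk 22 0 53515 35 (u1528) r1529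
theorem u1530 : ∀ k, 0 ≤ k → k < 53585 → chk (k * 22) = true := between_extend chk 22 0 53550 35 (u1529) r1530
theorem u1531 : ∀ k, 0 ≤ k → k < 53620 → chk (k * 22) = true := between_extend chk 22 0 53585 35 (u1530) r1531
theorem u1532 : ∀ k, 0 ≤ k → k < 53655 → chk (k * 22) = true := between_extend chk 22 0 53620 35 (u1531) r1532
theorem u1533 : ∀ k, 0 ≤ k → k < 53690 → chk (k * 22) = true := between_extend chk 22 0 53655 35 (u1532) r1533
theorem u1534 : ∀ k, 0 ≤ k → k < 53725 → chk (k * 22) = true := between_extend chk 22 0 53690 35 (u1533) r1534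
theorem u1535 : ∀ k, 0 ≤ k → k < 53760 → chk (k * 22) = true := between_extend chk 22 0 53725 35 (u1534) r1535
theorem u1536 : ∀ k, 0 ≤ k → k < 53795 → chk (k * 22) = true := between_extend chk 22 0 53760 35 (u1535) r1536
theorem u1537 : ∀ k, 0 ≤ k → k < 53830 → chk (k * 22) = true := between_extend chk 22 0 53795 35 (u1536) r1537
theorem u1538 : ∀ k, 0 ≤ k → k < 53865 → chk (k * 22) = true := between_extend chk 22 0 53830 35 (u1537) r1538
theorem u1539 : ∀ k, 0 ≤ k → k < 53900 → chk (k * 22) = true := between_extend chk 22 0 53865 35 (u1538) r1539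
theorem u1540 : ∀ k, 0 ≤ k → k < 53935 → chk (k * 22) = true := between_extend chk 22 0 53900 35 (u1539) r1540
theorem u1541 : ∀ k, 0 ≤ k → k < 53970 → chk (k * 22) = true := between_extend chk 22 0 53935 35 (u1540) r1541
theorem u1542 : ∀ k, 0 ≤ k → k < 54005 → chk (k * 22) = true := between_extend chk 22 0 53970 35 (u1541) r1542
theorem u1543 : ∀ k, 0 ≤ k → k < 54040 → chk (k * 22) = true := between_extend chk 22 0 54005 35 (u1542) r1543
theorem u1544 : ∀ k, 0 ≤ k → k < 54075 → chk (k * 22) = true := between_extend chk 22 0 54040 35 (u1543) r1544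
theorem u1545 : ∀ k, 0 ≤ k → k < 54110 → chk (k * 22) = true := between_extend chk 22 0 54075 35 (u1544) r1545
theorem u1546 : ∀ k, 0 ≤ k → k < 54145 → chk (k * 22) = true := between_extend chk 22 0 54110 35 (u1545) r1546
theorem u1547 : ∀ k, 0 ≤ k → k < 54180 → chk (k * 22) = true := between_extend chk 22 0 54145 35 (u1546) r1547
theorem u1548 : ∀ k, 0 ≤ k → k < 54215 → chk (k * 22) = true := between_extend chk 22 0 54180 35 (u1547) r1548
theorem u1549 : ∀ k, 0 ≤ k → k < 54250 → chk (k * 22) = true := between_extend chk 22 0 54215 35 (u1548) r1549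
theorem u1550 : ∀ k, 0 ≤ k → k < 54285 → chk (k * 22) = true := between_extend chk 22 0 54250 35 (u1549) r1550
theorem u1551 : ∀ k, 0 ≤ k → k < 54320 → chk (k * 22) = true := between_extend chk 22 0 54285 35 (u1550) r1551
theorem u1552 : ∀ k, 0 ≤ k → k < 54355 → chk (k * 22) = true := between_extend chk 22 0 54320 35 (u1551) r1552
theorem u1553 : ∀ k, 0 ≤ k → k < 54390 → chk (k * 22) = true := between_extend chk 22 0 54355 35 (u1552) r1553
theorem u1554 : ∀ k, 0 ≤ k → k < 54425 → chk (k * 22) = true := between_extend chk 22 0 54390 35 (u1553) r1554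
theorem u1555 : ∀ k, 0 ≤ k → k < 54460 → chk (k * 22) = true := between_extend chk 22 0 54425 35 (u1554) r1555
theorem u1556 : ∀ k, 0 ≤ k → k < 54495 → chk (k * 22) = true := between_extend chk 22 0 54460 35 (u1555) r1556
theorem u1557 : ∀ k, 0 ≤ k → k < 54530 → chk (k * 22) = true := between_extend chk 22 0 54495 35 (u1556) r1557
theorem u1558 : ∀ k, 0 ≤ k → k < 54565 → chk (k * 22) = true := between_extend chk 22 0 54530 35 (u1557) r1558
theorem u1559 : ∀ k, 0 ≤ k → k < 54600 → chk (k * 22) = true := between_extend chk 22 0 54565 35 (u1558) r1559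
theorem u1560 : ∀ k, 0 ≤ k → k < 54635 → chk (k * 22) = true := between_extend chk 22 0 54600 35 (u1559) r1560
theorem u1561 : ∀ k, 0 ≤ k → k < 54670 → chk (k * 22) = true := between_extend chk 22 0 54635 35 (u1560) r1561
theorem u1562 : ∀ k, 0 ≤ k → k < 54705 → chk (k * 22) = true := between_extend chk 22 0 54670 35 (u1561) r1562
theorem u1563 : ∀ k, 0 ≤ k → k < 54740 → chk (k * 22) = true := between_extend chk 22 0 54705 35 (u1562) r1563
theorem u1564 : ∀ k, 0 ≤ k → k < 54775 → chk (k * 22) = true := between_extend chk 22 0 54740 35 (u1563) r1564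
theorem u1565 : ∀ k, 0 ≤ k → k < 54810 → chk (k * 22) = true := between_extend chk 22 0 54775 35 (u1564) r1565
theorem u1566 : ∀ k, 0 ≤ k → k < 54845 → chk (k * 22) = true := between_extend chk 22 0 54810 35 (u1565) r1566
theorem u1567 : ∀ k, 0 ≤ k → k < 54880 → chk (k * 22) = true := between_extend chk 22 0 54845 35 (u1566) r1567
theorem u1568 : ∀ k, 0 ≤ k → k < 54915 → chk (k * 22) = true := between_extend chk 22 0 54880 35 (u1567) r1568
theorem u1569 : ∀ k, 0 ≤ k → k < 54950 → chk (k * 22) = true := between_extend chk 22 0 54915 35 (u1568) r1569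
theorem u1570 : ∀ k, 0 ≤ k → k < 54985 → chk (k * 22) = true := between_extend chk 22 0 54950 35 (u1569) r1570
theorem u1571 : ∀ k, 0 ≤ k → k < 55020 → chk (k * 22) = true := between_extend chk 22 0 54985 35 (u1570) r1571
theorem u1572 : ∀ k, 0 ≤ k → k < 55055 → chk (k * 22) = true := between_extend chk 22 0 55020 35 (u1571) r1572
theorem u1573 : ∀ k, 0 ≤ k → k < 55090 → chk (k * 22) = true := between_extend chk 22 0 55055 35 (u1572) r1573
theorem u1574 : ∀ k, 0 ≤ k → k < 55125 → chk (k * 22) = true := between_extend chk 22 0 55090 35 (u1573) r1574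
theorem u1575 : ∀ k, 0 ≤ k → k < 55160 → chk (k * 22) = true := between_extend chk 22 0 55125 35 (u1574) r1575
theorem u1576 : ∀ k, 0 ≤ k → k < 55195 → chk (k * 22) = true := between_extend chk 22 0 55160 35 (u1575) r1576
theorem u1577 : ∀ k, 0 ≤ k → k < 55230 → chk (k * 22) = true := between_extend chk 22 0 55195 35 (u1576) r1577
theorem u1578 : ∀ k, 0 ≤ k → k < 55265 → chk (k * 22) = true := between_extend chk 22 0 55230 35 (u1577) r1578
theorem u1579 : ∀ k, 0 ≤ k → k < 55300 → chk (k * 22) = true := between_extend chk 22 0 55265 35 (u1578) r1579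
theorem u1580 : ∀ k, 0 ≤ k → k < 55335 → chk (k * 22) = true := between_extend chk 22 0 55300 35 (u1579) r1580
theorem u1581 : ∀ k, 0 ≤ k → k < 55370 → chk (k * 22) = true := between_extend chk 22 0 55335 35 (u1580) r1581
theorem u1582 : ∀ k, 0 ≤ k → k < 55405 → chk (k * 22) = true := between_extend chk 22 0 55370 35 (u1581) r1582
theorem u1583 : ∀ k, 0 ≤ k → k < 55440 → chk (k * 22) = true := between_extend chk 22 0 55405 35 (u1582) r1583
theorem u1584 : ∀ k, 0 ≤ k → k < 55475 → chk (k * 22) = true := between_extend chk 22 0 55440 35 (u1583) r1584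
theorem u1585 : ∀ k, 0 ≤ k → k < 55510 → chk (k * 22) = true := between_extend chk 22 0 55475 35 (u1584) r1585
theorem u1586 : ∀ k, 0 ≤ k → k < 55545 → chk (k * 22) = true := between_extend chk 22 0 55510 35 (u1585) r1586
theorem u1587 : ∀ k, 0 ≤ k → k < 55580 → chk (k * 22) = true := between_extend chk 22 0 55545 35 (u1586) r1587
theorem u1588 : ∀ k, 0 ≤ k → k < 55615 → chk (k * 22) = true := between_extend chk 22 0 55580 35 (u1587) r1588
theorem u1589 : ∀ k, 0 ≤ k → k < 55650 → chk (k * 22) = true := between_extend chk 22 0 55615 35 (u1588) r1589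
theorem u1590 : ∀ k, 0 ≤ k → k < 55685 → chk (k * 22) = true := between_extend chk 22 0 55650 35 (u1589) r1590
theorem u1591 : ∀ k, 0 ≤ k → k < 55720 → chk (k * 22) = true := between_extend chk 22 0 55685 35 (u1590) r1591
theorem u1592 : ∀ k, 0 ≤ k → k < 55755 → chk (k * 22) = true := between_extend chk 22 0 55720 35 (u1591) r1592
theorem u1593 : ∀ k, 0 ≤ k → k < 55790 → chk (k * 22) = true := between_extend chk 22 0 55755 35 (u1592) r1593
theorem u1594 : ∀ k, 0 ≤ k → k < 55825 → chk (k * 22) = true := between_extend chk 22 0 55790 35 (u1593) r1594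
theorem u1595 : ∀ k, 0 ≤ k → k < 55860 → chk (k * 22) = true := between_extend chk 22 0 55825 35 (u1594) r1595
theorem u1596 : ∀ k, 0 ≤ k → k < 55895 → chk (k * 22) = true := between_extend chk 22 0 55860 35 (u1595) r1596
theorem u1597 : ∀ k, 0 ≤ k → k < 55930 → chk (k * 22) = true := between_extend chk 22 0 55895 35 (u1596) r1597
theorem u1598 : ∀ k, 0 ≤ k → k < 55965 → chk (k * 22) = true := between_extend chk 22 0 55930 35 (u1597) r1598
theorem u1599 : ∀ k, 0 ≤ k → k < 56000 → chk (k * 22) = true := between_extend chk 22 0 55965 35 (u1598) r1599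
theorem u1600 : ∀ k, 0 ≤ k → k < 56035 → chk (k * 22) = true := between_extend chk 22 0 56000 35 (u1599) r1600
theorem u1601 : ∀ k, 0 ≤ k → k < 56070 → chk (k * 22) = true := between_extend chk 22 0 56035 35 (u1600) r1601
theorem u1602 : ∀ k, 0 ≤ k → k < 56105 → chk (k * 22) = true := between_extend chk 22 0 56070 35 (u1601) r1602
theorem u1603 : ∀ k, 0 ≤ k → k < 56140 → chk (k * 22) = true := between_extend chk 22 0 56105 35 (u1602) r1603
theorem u1604 : ∀ k, 0 ≤ k → k < 56175 → chk (k * 22) = true := between_extend chk 22 0 56140 35 (u1603) r1604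
theorem u1605 : ∀ k, 0 ≤ k → k < 56210 → chk (k * 22) = true := between_extend chk 22 0 56175 35 (u1604) r1605
theorem u1606 : ∀ k, 0 ≤ k → k < 56245 → chk (k * 22) = true := between_extend chk 22 0 56210 35 (u1605) r1606
theorem u1607 : ∀ k, 0 ≤ k → k < 56280 → chk (k * 22) = true := between_extend chk 22 0 56245 35 (u1606) r1607
theorem u1608 : ∀ k, 0 ≤ k → k < 56315 → chk (k * 22) = true := between_extend chk 22 0 56280 35 (u1607) r1608
theorem u1609 : ∀ k, 0 ≤ k → k < 56350 → chk (k * 22) = true := between_extend chk 22 0 56315 35 (u1608) r1609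
theorem u1610 : ∀ k, 0 ≤ k → k < 56385 → chk (k * 22) = true := between_extend chk 22 0 56350 35 (u1609) r1610
theorem u1611 : ∀ k, 0 ≤ k → k < 56420 → chk (k * 22) = true := between_extend chk 22 0 56385 35 (u1610) r1611
theorem u1612 : ∀ k, 0 ≤ k → k < 56455 → chk (k * 22) = true := between_extend chk 22 0 56420 35 (u1611) r1612
theorem u1613 : ∀ k, 0 ≤ k → k < 56490 → chk (k * 22) = true := between_extend chk 22 0 56455 35 (u1612) r1613
theorem u1614 : ∀ k, 0 ≤ k → k < 56525 → chk (k * 22) = true := between_extend chk 22 0 56490 35 (u1613) r1614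
theorem u1615 : ∀ k, 0 ≤ k → k < 56560 → chk (k * 22) = true := between_extend chk 22 0 56525 35 (u1614) r1615
theorem u1616 : ∀ k, 0 ≤ k → k < 56595 → chk (k * 22) = true := between_extend chk 22 0 56560 35 (u1615) r1616
theorem u1617 : ∀ k, 0 ≤ k → k < 56630 → chk (k * 22) = true := between_extend chk 22 0 56595 35 (u1616) r1617
theorem u1618 : ∀ k, 0 ≤ k → k < 56665 → chk (k * 22) = true := between_extend chk 22 0 56630 35 (u1617) r1618
theorem u1619 : ∀ k, 0 ≤ k → k < 56700 → chk (k * 22) = true := between_extend chk 22 0 56665 35 (u1618) r1619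
theorem u1620 : ∀ k, 0 ≤ k → k < 56735 → chk (k * 22) = true := between_extend chk 22 0 56700 35 (u1619) r1620
theorem u1621 : ∀ k, 0 ≤ k → k < 56770 → chk (k * 22) = true := between_extend chk 22 0 56735 35 (u1620) r1621
theorem u1622 : ∀ k, 0 ≤ k → k < 56805 → chk (k * 22) = true := between_extend chk 22 0 56770 35 (u1621) r1622
theorem u1623 : ∀ k, 0 ≤ k → k < 56840 → chk (k * 22) = true := between_extend chk 22 0 56805 35 (u1622) r1623
theorem u1624 : ∀ k, 0 ≤ k → k < 56875 → chk (k * 22) = true := between_extend chk 22 0 56840 35 (u1623) r1624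
theorem u1625 : ∀ k, 0 ≤ k → k < 56910 → chk (k * 22) = true := between_extend chk 22 0 56875 35 (u1624) r1625
theorem u1626 : ∀ k, 0 ≤ k → k < 56945 → chk (k * 22) = true := between_extend chk 22 0 56910 35 (u1625) r1626
theorem u1627 : ∀ k, 0 ≤ k → k < 56980 → chk (k * 22) = true := between_extend chk 22 0 56945 35 (u1626) r1627
theorem u1628 : ∀ k, 0 ≤ k → k < 57015 → chk (k * 22) = true := between_extend chk 22 0 56980 35 (u1627) r1628
theorem u1629 : ∀ k, 0 ≤ k → k < 57050 → chk (k * 22) = true := between_extend chk 22 0 57015 35 (u1628) r1629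
theorem u1630 : ∀ k, 0 ≤ k → k < 57085 → chk (k * 22) = true := between_extend chk 22 0 57050 35 (u1629) r1630
theorem u1631 : ∀ k, 0 ≤ k → k < 57120 → chk (k * 22) = true := between_extend chk 22 0 57085 35 (u1630) r1631
theorem u1632 : ∀ k, 0 ≤ k → k < 57155 → chk (k * 22) = true := between_extend chk 22 0 57120 35 (u1631) r1632
theorem u1633 : ∀ k, 0 ≤ k → k < 57190 → chk (k * 22) = true := between_extend chk 22 0 57155 35 (u1632) r1633
theorem u1634 : ∀ k, 0 ≤ k → k < 57225 → chk (k * 22) = true := between_extend chk 22 0 57190 35 (u1633) r1634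
theorem u1635 : ∀ k, 0 ≤ k → k < 57260 → chk (k * 22) = true := between_extend chk 22 0 57225 35 (u1634) r1635
theorem u1636 : ∀ k, 0 ≤ k → k < 57295 → chk (k * 22) = true := between_extend chk 22 0 57260 35 (u1635) r1636
theorem u1637 : ∀ k, 0 ≤ k → k < 57330 → chk (k * 22) = true := between_extend chk 22 0 57295 35 (u1636) r1637
theorem u1638 : ∀ k, 0 ≤ k → k < 57365 → chk (k * 22) = true := between_extend chk 22 0 57330 35 (u1637) r1638
theorem u1639 : ∀ k, 0 ≤ k → k < 57400 → chk (k * 22) = true := between_extend chk 22 0 57365 35 (u1638) r1639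
theorem u1640 : ∀ k, 0 ≤ k → k < 57435 → chk (k * 22) = true := between_extend chk 22 0 57400 35 (u1639) r1640
theorem u1641 : ∀ k, 0 ≤ k → k < 57470 → chk (k * 22) = true := between_extend chk 22 0 57435 35 (u1640) r1641
theorem u1642 : ∀ k, 0 ≤ k → k < 57505 → chk (k * 22) = true := between_extend chk 22 0 57470 35 (u1641) r1642
theorem u1643 : ∀ k, 0 ≤ k → k < 57540 → chk (k * 22) = true := between_extend chk 22 0 57505 35 (u1642) r1643
theorem u1644 : ∀ k, 0 ≤ k → k < 57575 → chk (k * 22) = true := between_extend chk 22 0 57540 35 (u1643) r1644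
theorem u1645 : ∀ k, 0 ≤ k → k < 57610 → chk (k * 22) = true := between_extend chk 22 0 57575 35 (u1644) r1645
theorem u1646 : ∀ k, 0 ≤ k → k < 57645 → chk (k * 22) = true := between_extend chk 22 0 57610 35 (u1645) r1646
theorem u1647 : ∀ k, 0 ≤ k → k < 57680 → chk (k * 22) = true := between_extend chk 22 0 57645 35 (u1646) r1647
theorem u1648 : ∀ k, 0 ≤ k → k < 57715 → chk (k * 22) = true := between_extend chk 22 0 57680 35 (u1647) r1648
theorem u1649 : ∀ k, 0 ≤ k → k < 57750 → chk (k * 22) = true := between_extend chk 22 0 57715 35 (u1648) r1649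
theorem u1650 : ∀ k, 0 ≤ k → k < 57785 → chk (k * 22) = true := between_extend chk 22 0 57750 35 (u1649) r1650
theorem u1651 : ∀ k, 0 ≤ k → k < 57820 → chk (k * 22) = true := between_extend chk 22 0 57785 35 (u1650) r1651
theorem u1652 : ∀ k, 0 ≤ k → k < 57855 → chk (k * 22) = true := between_extend chk 22 0 57820 35 (u1651) r1652
theorem u1653 : ∀ k, 0 ≤ k → k < 57890 → chk (k * 22) = true := between_extend chk 22 0 57855 35 (u1652) r1653
theorem u1654 : ∀ k, 0 ≤ k → k < 57925 → chk (k * 22) = true := between_extend chk 22 0 57890 35 (u1653) r1654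
theorem u1655 : ∀ k, 0 ≤ k → k < 57960 → chk (k * 22) = true := between_extend chk 22 0 57925 35 (u1654) r1655
theorem u1656 : ∀ k, 0 ≤ k → k < 57995 → chk (k * 22) = true := between_extend chk 22 0 57960 35 (u1655) r1656
theorem u1657 : ∀ k, 0 ≤ k → k < 58030 → chk (k * 22) = true := between_extend chk 22 0 57995 35 (u1656) r1657
theorem u1658 : ∀ k, 0 ≤ k → k < 58065 → chk (k * 22) = true := between_extend chk 22 0 58030 35 (u1657) r1658
theorem u1659 : ∀ k, 0 ≤ k → k < 58100 → chk (k * 22) = true := between_extend chk 22 0 58065 35 (u1658) r1659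
theorem u1660 : ∀ k, 0 ≤ k → k < 58135 → chk (k * 22) = true := between_extend chk 22 0 58100 35 (u1659) r1660
theorem u1661 : ∀ k, 0 ≤ k → k < 58170 → chk (k * 22) = true := between_extend chk 22 0 58135 35 (u1660) r1661
theorem u1662 : ∀ k, 0 ≤ k → k < 58205 → chk (k * 22) = true := between_extend chk 22 0 58170 35 (u1661) r1662
theorem u1663 : ∀ k, 0 ≤ k → k < 58240 → chk (k * 22) = true := between_extend chk 22 0 58205 35 (u1662) r1663
theorem u1664 : ∀ k, 0 ≤ k → k < 58275 → chk (k * 22) = true := between_extend chk 22 0 58240 35 (u1663) r1664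
theorem u1665 : ∀ k, 0 ≤ k → k < 58310 → chk (k * 22) = true := between_extend chk 22 0 58275 35 (u1664) r1665
theorem u1666 : ∀ k, 0 ≤ k → k < 58345 → chk (k * 22) = true := between_extend chk 22 0 58310 35 (u1665) r1666
theorem u1667 : ∀ k, 0 ≤ k → k < 58380 → chk (k * 22) = true := between_extend chk 22 0 58345 35 (u1666) r1667
theorem u1668 : ∀ k, 0 ≤ k → k < 58415 → chk (k * 22) = true := between_extend chk 22 0 58380 35 (u1667) r1668
theorem u1669 : ∀ k, 0 ≤ k → k < 58450 → chk (k * 22) = true := between_extend chk 22 0 58415 35 (u1668) r1669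
theorem u1670 : ∀ k, 0 ≤ k → k < 58485 → chk (k * 22) = true := between_extend chk 22 0 58450 35 (u1669) r1670
theorem u1671 : ∀ k, 0 ≤ k → k < 58520 → chk (k * 22) = true := between_extend chk 22 0 58485 35 (u1670) r1671
theorem u1672 : ∀ k, 0 ≤ k → k < 58555 → chk (k * 22) = true := between_extend chk 22 0 58520 35 (u1671) r1672
theorem u1673 : ∀ k, 0 ≤ k → k < 58590 → chk (k * 22) = true := between_extend chk 22 0 58555 35 (u1672) r1673
theorem u1674 : ∀ k, 0 ≤ k → k < 58625 → chk (k * 22) = true := between_extend chk 22 0 58590 35 (u1673) r1674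
theorem u1675 : ∀ k, 0 ≤ k → k < 58660 → chk (k * 22) = true := between_extend chk 22 0 58625 35 (u1674) r1675
theorem u1676 : ∀ k, 0 ≤ k → k < 58695 → chk (k * 22) = true := between_extend chk 22 0 58660 35 (u1675) r1676
theorem u1677 : ∀ k, 0 ≤ k → k < 58730 → chk (k * 22) = true := between_extend chk 22 0 58695 35 (u1676) r1677
theorem u1678 : ∀ k, 0 ≤ k → k < 58765 → chk (k * 22) = true := between_extend chk 22 0 58730 35 (u1677) r1678
theorem u1679 : ∀ k, 0 ≤ k → k < 58800 → chk (k * 22) = true := between_extend chk 22 0 58765 35 (u1678) r1679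
theorem u1680 : ∀ k, 0 ≤ k → k < 58835 → chk (k * 22) = true := between_extend chk 22 0 58800 35 (u1679) r1680
theorem u1681 : ∀ k, 0 ≤ k → k < 58870 → chk (k * 22) = true := between_extend chk 22 0 58835 35 (u1680) r1681
theorem u1682 : ∀ k, 0 ≤ k → k < 58905 → chk (k * 22) = true := between_extend chk 22 0 58870 35 (u1681) r1682
theorem u1683 : ∀ k, 0 ≤ k → k < 58940 → chk (k * 22) = true := between_extend chk 22 0 58905 35 (u1682) r1683
theorem u1684 : ∀ k, 0 ≤ k → k < 58975 → chk (k * 22) = true := between_extend chk 22 0 58940 35 (u1683) r1684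
theorem u1685 : ∀ k, 0 ≤ k → k < 59010 → chk (k * 22) = true := between_extend chk 22 0 58975 35 (u1684) r1685
theorem u1686 : ∀ k, 0 ≤ k → k < 59045 → chk (k * 22) = true := between_extend chk 22 0 59010 35 (u1685) r1686
theorem u1687 : ∀ k, 0 ≤ k → k < 59080 → chk (k * 22) = true := between_extend chk 22 0 59045 35 (u1686) r1687
theorem u1688 : ∀ k, 0 ≤ k → k < 59115 → chk (k * 22) = true := between_extend chk 22 0 59080 35 (u1687) r1688
theorem u1689 : ∀ k, 0 ≤ k → k < 59150 → chk (k * 22) = true := between_extend chk 22 0 59115 35 (u1688) r1689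
theorem u1690 : ∀ k, 0 ≤ k → k < 59185 → chk (k * 22) = true := between_extend chk 22 0 59150 35 (u1689) r1690
theorem u1691 : ∀ k, 0 ≤ k → k < 59220 → chk (k * 22) = true := between_extend chk 22 0 59185 35 (u1690) r1691
theorem u1692 : ∀ k, 0 ≤ k → k < 59255 → chk (k * 22) = true := between_extend chk 22 0 59220 35 (u1691) r1692
theorem u1693 : ∀ k, 0 ≤ k → k < 59290 → chk (k * 22) = true := between_extend chk 22 0 59255 35 (u1692) r1693
theorem u1694 : ∀ k, 0 ≤ k → k < 59325 → chk (k * 22) = true := between_extend chk 22 0 59290 35 (u1693) r1694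
theorem u1695 : ∀ k, 0 ≤ k → k < 59360 → chk (k * 22) = true := between_extend chk 22 0 59325 35 (u1694) r1695
theorem u1696 : ∀ k, 0 ≤ k → k < 59395 → chk (k * 22) = true := between_extend chk 22 0 59360 35 (u1695) r1696
theorem u1697 : ∀ k, 0 ≤ k → k < 59430 → chk (k * 22) = true := between_extend chk 22 0 59395 35 (u1696) r1697
theorem u1698 : ∀ k, 0 ≤ k → k < 59465 → chk (k * 22) = true := between_extend chk 22 0 59430 35 (u1697) r1698
theorem u1699 : ∀ k, 0 ≤ k → k < 59500 → chk (k * 22) = true := between_extend chk 22 0 59465 35 (u1698) r1699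
theorem u1700 : ∀ k, 0 ≤ k → k < 59535 → chk (k * 22) = true := between_extend chk 22 0 59500 35 (u1699) r1700
theorem u1701 : ∀ k, 0 ≤ k → k < 59570 → chk (k * 22) = true := between_extend chk 22 0 59535 35 (u1700) r1701
theorem u1702 : ∀ k, 0 ≤ k → k < 59605 → chk (k * 22) = true := between_extend chk 22 0 59570 35 (u1701) r1702
theorem u1703 : ∀ k, 0 ≤ k → k < 59640 → chk (k * 22) = true := between_extend chk 22 0 59605 35 (u1702) r1703
theorem u1704 : ∀ k, 0 ≤ k → k < 59675 → chk (k * 22) = true := between_extend chk 22 0 59640 35 (u1703) r1704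
theorem u1705 : ∀ k, 0 ≤ k → k < 59710 → chk (k * 22) = true := between_extend chk 22 0 59675 35 (u1704) r1705
theorem u1706 : ∀ k, 0 ≤ k → k < 59745 → chk (k * 22) = true := between_extend chk 22 0 59710 35 (u1705) r1706
theorem u1707 : ∀ k, 0 ≤ k → k < 59780 → chk (k * 22) = true := between_extend chk 22 0 59745 35 (u1706) r1707
theorem u1708 : ∀ k, 0 ≤ k → k < 59815 → chk (k * 22) = true := between_extend chk 22 0 59780 35 (u1707) r1708
theorem u1709 : ∀ k, 0 ≤ k → k < 59850 → chk (k * 22) = true := between_extend chk 22 0 59815 35 (u1708) r1709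
theorem u1710 : ∀ k, 0 ≤ k → k < 59885 → chk (k * 22) = true := between_extend chk 22 0 59850 35 (u1709) r1710
theorem u1711 : ∀ k, 0 ≤ k → k < 59920 → chk (k * 22) = true := between_extend chk 22 0 59885 35 (u1710) r1711
theorem u1712 : ∀ k, 0 ≤ k → k < 59955 → chk (k * 22) = true := between_extend chk 22 0 59920 35 (u1711) r1712
theorem u1713 : ∀ k, 0 ≤ k → k < 59990 → chk (k * 22) = true := between_extend chk 22 0 59955 35 (u1712) r1713
theorem u1714 : ∀ k, 0 ≤ k → k < 60025 → chk (k * 22) = true := between_extend chk 22 0 59990 35 (u1713) r1714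
theorem u1715 : ∀ k, 0 ≤ k → k < 60060 → chk (k * 22) = true := between_extend chk 22 0 60025 35 (u1714) r1715
theorem u1716 : ∀ k, 0 ≤ k → k < 60095 → chk (k * 22) = true := between_extend chk 22 0 60060 35 (u1715) r1716
theorem u1717 : ∀ k, 0 ≤ k → k < 60130 → chk (k * 22) = true := between_extend chk 22 0 60095 35 (u1716) r1717
theorem u1718 : ∀ k, 0 ≤ k → k < 60165 → chk (k * 22) = true := between_extend chk 22 0 60130 35 (u1717) r1718
theorem u1719 : ∀ k, 0 ≤ k → k < 60200 → chk (k * 22) = true := between_extend chk 22 0 60165 35 (u1718) r1719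
theorem u1720 : ∀ k, 0 ≤ k → k < 60235 → chk (k * 22) = true := between_extend chk 22 0 60200 35 (u1719) r1720
theorem u1721 : ∀ k, 0 ≤ k → k < 60270 → chk (k * 22) = true := between_extend chk 22 0 60235 35 (u1720) r1721
theorem u1722 : ∀ k, 0 ≤ k → k < 60305 → chk (k * 22) = true := between_extend chk 22 0 60270 35 (u1721) r1722
theorem u1723 : ∀ k, 0 ≤ k → k < 60340 → chk (k * 22) = true := between_extend chk 22 0 60305 35 (u1722) r1723
theorem u1724 : ∀ k, 0 ≤ k → k < 60375 → chk (k * 22) = true := between_extend chk 22 0 60340 35 (u1723) r1724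
theorem u1725 : ∀ k, 0 ≤ k → k < 60410 → chk (k * 22) = true := between_extend chk 22 0 60375 35 (u1724) r1725
theorem u1726 : ∀ k, 0 ≤ k → k < 60445 → chk (k * 22) = true := between_extend chk 22 0 60410 35 (u1725) r1726
theorem u1727 : ∀ k, 0 ≤ k → k < 60480 → chk (k * 22) = true := between_extend chk 22 0 60445 35 (u1726) r1727
theorem u1728 : ∀ k, 0 ≤ k → k < 60515 → chk (k * 22) = true := between_extend chk 22 0 60480 35 (u1727) r1728
theorem u1729 : ∀ k, 0 ≤ k → k < 60550 → chk (k * 22) = true := between_extend chk 22 0 60515 35 (u1728) r1729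
theorem u1730 : ∀ k, 0 ≤ k → k < 60585 → chk (k * 22) = true := between_extend chk 22 0 60550 35 (u1729) r1730
theorem u1731 : ∀ k, 0 ≤ k → k < 60620 → chk (k * 22) = true := between_extend chk 22 0 60585 35 (u1730) r1731
theorem u1732 : ∀ k, 0 ≤ k → k < 60655 → chk (k * 22) = true := between_extend chk 22 0 60620 35 (u1731) r1732
theorem u1733 : ∀ k, 0 ≤ k → k < 60690 → chk (k * 22) = true := between_extend chk 22 0 60655 35 (u1732) r1733
theorem u1734 : ∀ k, 0 ≤ k → k < 60725 → chk (k * 22) = true := between_extend chk 22 0 60690 35 (u1733) r1734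
theorem u1735 : ∀ k, 0 ≤ k → k < 60760 → chk (k * 22) = true := between_extend chk 22 0 60725 35 (u1734) r1735
theorem u1736 : ∀ k, 0 ≤ k → k < 60795 → chk (k * 22) = true := between_extend chk 22 0 60760 35 (u1735) r1736
theorem u1737 : ∀ k, 0 ≤ k → k < 60830 → chk (k * 22) = true := between_extend chk 22 0 60795 35 (u1736) r1737
theorem u1738 : ∀ k, 0 ≤ k → k < 60865 → chk (k * 22) = true := between_extend chk 22 0 60830 35 (u1737) r1738
theorem u1739 : ∀ k, 0 ≤ k → k < 60900 → chk (k * 22) = true := between_extend chk 22 0 60865 35 (u1738) r1739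
theorem u1740 : ∀ k, 0 ≤ k → k < 60935 → chk (k * 22) = true := between_extend chk 22 0 60900 35 (u1739) r1740
theorem u1741 : ∀ k, 0 ≤ k → k < 60970 → chk (k * 22) = true := between_extend chk 22 0 60935 35 (u1740) r1741
theorem u1742 : ∀ k, 0 ≤ k → k < 61005 → chk (k * 22) = true := between_extend chk 22 0 60970 35 (u1741) r1742
theorem u1743 : ∀ k, 0 ≤ k → k < 61040 → chk (k * 22) = true := between_extend chk 22 0 61005 35 (u1742) r1743
theorem u1744 : ∀ k, 0 ≤ k → k < 61075 → chk (k * 22) = true := between_extend chk 22 0 61040 35 (u1743) r1744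
theorem u1745 : ∀ k, 0 ≤ k → k < 61110 → chk (k * 22) = true := between_extend chk 22 0 61075 35 (u1744) r1745
theorem u1746 : ∀ k, 0 ≤ k → k < 61145 → chk (k * 22) = true := between_extend chk 22 0 61110 35 (u1745) r1746
theorem u1747 : ∀ k, 0 ≤ k → k < 61180 → chk (k * 22) = true := between_extend chk 22 0 61145 35 (u1746) r1747
theorem u1748 : ∀ k, 0 ≤ k → k < 61215 → chk (k * 22) = true := between_extend chk 22 0 61180 35 (u1747) r1748
theorem u1749 : ∀ k, 0 ≤ k → k < 61250 → chk (k * 22) = true := between_extend chk 22 0 61215 35 (u1748) r1749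
theorem u1750 : ∀ k, 0 ≤ k → k < 61285 → chk (k * 22) = true := between_extend chk 22 0 61250 35 (u1749) r1750
theorem u1751 : ∀ k, 0 ≤ k → k < 61320 → chk (k * 22) = true := between_extend chk 22 0 61285 35 (u1750) r1751
theorem u1752 : ∀ k, 0 ≤ k → k < 61355 → chk (k * 22) = true := between_extend chk 22 0 61320 35 (u1751) r1752
theorem u1753 : ∀ k, 0 ≤ k → k < 61390 → chk (k * 22) = true := between_extend chk 22 0 61355 35 (u1752) r1753
theorem u1754 : ∀ k, 0 ≤ k → k < 61425 → chk (k * 22) = true := between_extend chk 22 0 61390 35 (u1753) r1754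
theorem u1755 : ∀ k, 0 ≤ k → k < 61460 → chk (k * 22) = true := between_extend chk 22 0 61425 35 (u1754) r1755
theorem u1756 : ∀ k, 0 ≤ k → k < 61495 → chk (k * 22) = true := between_extend chk 22 0 61460 35 (u1755) r1756
theorem u1757 : ∀ k, 0 ≤ k → k < 61530 → chk (k * 22) = true := between_extend chk 22 0 61495 35 (u1756) r1757
theorem u1758 : ∀ k, 0 ≤ k → k < 61565 → chk (k * 22) = true := between_extend chk 22 0 61530 35 (u1757) r1758
theorem u1759 : ∀ k, 0 ≤ k → k < 61600 → chk (k * 22) = true := between_extend chk 22 0 61565 35 (u1758) r1759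
theorem u1760 : ∀ k, 0 ≤ k → k < 61635 → chk (k * 22) = true := between_extend chk 22 0 61600 35 (u1759) r1760
theorem u1761 : ∀ k, 0 ≤ k → k < 61670 → chk (k * 22) = true := between_extend chk 22 0 61635 35 (u1760) r1761
theorem u1762 : ∀ k, 0 ≤ k → k < 61705 → chk (k * 22) = true := between_extend chk 22 0 61670 35 (u1761) r1762
theorem u1763 : ∀ k, 0 ≤ k → k < 61740 → chk (k * 22) = true := between_extend chk 22 0 61705 35 (u1762) r1763
theorem u1764 : ∀ k, 0 ≤ k → k < 61775 → chk (k * 22) = true := between_extend chk 22 0 61740 35 (u1763) r1764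
theorem u1765 : ∀ k, 0 ≤ k → k < 61810 → chk (k * 22) = true := between_extend chk 22 0 61775 35 (u1764) r1765
theorem u1766 : ∀ k, 0 ≤ k → k < 61845 → chk (k * 22) = true := between_extend chk 22 0 61810 35 (u1765) r1766
theorem u1767 : ∀ k, 0 ≤ k → k < 61880 → chk (k * 22) = true := between_extend chk 22 0 61845 35 (u1766) r1767
theorem u1768 : ∀ k, 0 ≤ k → k < 61915 → chk (k * 22) = true := between_extend chk 22 0 61880 35 (u1767) r1768
theorem u1769 : ∀ k, 0 ≤ k → k < 61950 → chk (k * 22) = true := between_extend chk 22 0 61915 35 (u1768) r1769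
theorem u1770 : ∀ k, 0 ≤ k → k < 61985 → chk (k * 22) = true := between_extend chk 22 0 61950 35 (u1769) r1770
theorem u1771 : ∀ k, 0 ≤ k → k < 62020 → chk (k * 22) = true := between_extend chk 22 0 61985 35 (u1770) r1771
theorem u1772 : ∀ k, 0 ≤ k → k < 62055 → chk (k * 22) = true := between_extend chk 22 0 62020 35 (u1771) r1772
theorem u1773 : ∀ k, 0 ≤ k → k < 62090 → chk (k * 22) = true := between_extend chk 22 0 62055 35 (u1772) r1773
theorem u1774 : ∀ k, 0 ≤ k → k < 62125 → chk (k * 22) = true := between_extend chk 22 0 62090 35 (u1773) r1774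
theorem u1775 : ∀ k, 0 ≤ k → k < 62160 → chk (k * 22) = true := between_extend chk 22 0 62125 35 (u1774) r1775
theorem u1776 : ∀ k, 0 ≤ k → k < 62195 → chk (k * 22) = true := between_extend chk 22 0 62160 35 (u1775) r1776
theorem u1777 : ∀ k, 0 ≤ k → k < 62230 → chk (k * 22) = true := between_extend chk 22 0 62195 35 (u1776) r1777
theorem u1778 : ∀ k, 0 ≤ k → k < 62265 → chk (k * 22) = true := between_extend chk 22 0 62230 35 (u1777) r1778
theorem u1779 : ∀ k, 0 ≤ k → k < 62300 → chk (k * 22) = true := between_extend chk 22 0 62265 35 (u1778) r1779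
theorem u1780 : ∀ k, 0 ≤ k → k < 62335 → chk (k * 22) = true := between_extend chk 22 0 62300 35 (u1779) r1780
theorem u1781 : ∀ k, 0 ≤ k → k < 62370 → chk (k * 22) = true := between_extend chk 22 0 62335 35 (u1780) r1781
theorem u1782 : ∀ k, 0 ≤ k → k < 62405 → chk (k * 22) = true := between_extend chk 22 0 62370 35 (u1781) r1782
theorem u1783 : ∀ k, 0 ≤ k → k < 62440 → chk (k * 22) = true := between_extend chk 22 0 62405 35 (u1782) r1783
theorem u1784 : ∀ k, 0 ≤ k → k < 62475 → chk (k * 22) = true := between_extend chk 22 0 62440 35 (u1783) r1784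
theorem u1785 : ∀ k, 0 ≤ k → k < 62510 → chk (k * 22) = true := between_extend chk 22 0 62475 35 (u1784) r1785
theorem u1786 : ∀ k, 0 ≤ k → k < 62545 → chk (k * 22) = true := between_extend chk 22 0 62510 35 (u1785) r1786
theorem u1787 : ∀ k, 0 ≤ k → k < 62580 → chk (k * 22) = true := between_extend chk 22 0 62545 35 (u1786) r1787
theorem u1788 : ∀ k, 0 ≤ k → k < 62615 → chk (k * 22) = true := between_extend chk 22 0 62580 35 (u1787) r1788
theorem u1789 : ∀ k, 0 ≤ k → k < 62650 → chk (k * 22) = true := between_extend chk 22 0 62615 35 (u1788) r1789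
theorem u1790 : ∀ k, 0 ≤ k → k < 62685 → chk (k * 22) = true := between_extend chk 22 0 62650 35 (u1789) r1790
theorem u1791 : ∀ k, 0 ≤ k → k < 62720 → chk (k * 22) = true := between_extend chk 22 0 62685 35 (u1790) r1791
theorem u1792 : ∀ k, 0 ≤ k → k < 62755 → chk (k * 22) = true := between_extend chk 22 0 62720 35 (u1791) r1792
theorem u1793 : ∀ k, 0 ≤ k → k < 62790 → chk (k * 22) = true := between_extend chk 22 0 62755 35 (u1792) r1793
theorem u1794 : ∀ k, 0 ≤ k → k < 62825 → chk (k * 22) = true := between_extend chk 22 0 62790 35 (u1793) r1794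
theorem u1795 : ∀ k, 0 ≤ k → k < 62860 → chk (k * 22) = true := between_extend chk 22 0 62825 35 (u1794) r1795
theorem u1796 : ∀ k, 0 ≤ k → k < 62895 → chk (k * 22) = true := between_extend chk 22 0 62860 35 (u1795) r1796
theorem u1797 : ∀ k, 0 ≤ k → k < 62930 → chk (k * 22) = true := between_extend chk 22 0 62895 35 (u1796) r1797
theorem u1798 : ∀ k, 0 ≤ k → k < 62965 → chk (k * 22) = true := between_extend chk 22 0 62930 35 (u1797) r1798
theorem u1799 : ∀ k, 0 ≤ k → k < 63000 → chk (k * 22) = true := between_extend chk 22 0 62965 35 (u1798) r1799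
theorem u1800 : ∀ k, 0 ≤ k → k < 63035 → chk (k * 22) = true := between_extend chk 22 0 63000 35 (u1799) r1800
theorem u1801 : ∀ k, 0 ≤ k → k < 63070 → chk (k * 22) = true := between_extend chk 22 0 63035 35 (u1800) r1801
theorem u1802 : ∀ k, 0 ≤ k → k < 63105 → chk (k * 22) = true := between_extend chk 22 0 63070 35 (u1801) r1802
theorem u1803 : ∀ k, 0 ≤ k → k < 63140 → chk (k * 22) = true := between_extend chk 22 0 63105 35 (u1802) r1803
theorem u1804 : ∀ k, 0 ≤ k → k < 63175 → chk (k * 22) = true := between_extend chk 22 0 63140 35 (u1803) r1804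
theorem u1805 : ∀ k, 0 ≤ k → k < 63210 → chk (k * 22) = true := between_extend chk 22 0 63175 35 (u1804) r1805
theorem u1806 : ∀ k, 0 ≤ k → k < 63245 → chk (k * 22) = true := between_extend chk 22 0 63210 35 (u1805) r1806
theorem u1807 : ∀ k, 0 ≤ k → k < 63280 → chk (k * 22) = true := between_extend chk 22 0 63245 35 (u1806) r1807
theorem u1808 : ∀ k, 0 ≤ k → k < 63315 → chk (k * 22) = true := between_extend chk 22 0 63280 35 (u1807) r1808
theorem u1809 : ∀ k, 0 ≤ k → k < 63350 → chk (k * 22) = true := between_extend chk 22 0 63315 35 (u1808) r1809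
theorem u1810 : ∀ k, 0 ≤ k → k < 63385 → chk (k * 22) = true := between_extend chk 22 0 63350 35 (u1809) r1810
theorem u1811 : ∀ k, 0 ≤ k → k < 63420 → chk (k * 22) = true := between_extend chk 22 0 63385 35 (u1810) r1811
theorem u1812 : ∀ k, 0 ≤ k → k < 63455 → chk (k * 22) = true := between_extend chk 22 0 63420 35 (u1811) r1812
theorem u1813 : ∀ k, 0 ≤ k → k < 63490 → chk (k * 22) = true := between_extend chk 22 0 63455 35 (u1812) r1813
theorem u1814 : ∀ k, 0 ≤ k → k < 63525 → chk (k * 22) = true := between_extend chk 22 0 63490 35 (u1813) r1814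
theorem u1815 : ∀ k, 0 ≤ k → k < 63560 → chk (k * 22) = true := between_extend chk 22 0 63525 35 (u1814) r1815
theorem u1816 : ∀ k, 0 ≤ k → k < 63595 → chk (k * 22) = true := between_extend chk 22 0 63560 35 (u1815) r1816
theorem u1817 : ∀ k, 0 ≤ k → k < 63630 → chk (k * 22) = true := between_extend chk 22 0 63595 35 (u1816) r1817
theorem u1818 : ∀ k, 0 ≤ k → k < 63665 → chk (k * 22) = true := between_extend chk 22 0 63630 35 (u1817) r1818
theorem u1819 : ∀ k, 0 ≤ k → k < 63700 → chk (k * 22) = true := between_extend chk 22 0 63665 35 (u1818) r1819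
theorem u1820 : ∀ k, 0 ≤ k → k < 63735 → chk (k * 22) = true := between_extend chk 22 0 63700 35 (u1819) r1820
theorem u1821 : ∀ k, 0 ≤ k → k < 63770 → chk (k * 22) = true := between_extend chk 22 0 63735 35 (u1820) r1821
theorem u1822 : ∀ k, 0 ≤ k → k < 63805 → chk (k * 22) = true := between_extend chk 22 0 63770 35 (u1821) r1822
theorem u1823 : ∀ k, 0 ≤ k → k < 63840 → chk (k * 22) = true := between_extend chk 22 0 63805 35 (u1822) r1823
theorem u1824 : ∀ k, 0 ≤ k → k < 63875 → chk (k * 22) = true := between_extend chk 22 0 63840 35 (u1823) r1824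
theorem u1825 : ∀ k, 0 ≤ k → k < 63910 → chk (k * 22) = true := between_extend chk 22 0 63875 35 (u1824) r1825
theorem u1826 : ∀ k, 0 ≤ k → k < 63945 → chk (k * 22) = true := between_extend chk 22 0 63910 35 (u1825) r1826
theorem u1827 : ∀ k, 0 ≤ k → k < 63980 → chk (k * 22) = true := between_extend chk 22 0 63945 35 (u1826) r1827
theorem u1828 : ∀ k, 0 ≤ k → k < 64015 → chk (k * 22) = true := between_extend chk 22 0 63980 35 (u1827) r1828
theorem u1829 : ∀ k, 0 ≤ k → k < 64050 → chk (k * 22) = true := between_extend chk 22 0 64015 35 (u1828) r1829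
theorem u1830 : ∀ k, 0 ≤ k → k < 64085 → chk (k * 22) = true := between_extend chk 22 0 64050 35 (u1829) r1830
theorem u1831 : ∀ k, 0 ≤ k → k < 64120 → chk (k * 22) = true := between_extend chk 22 0 64085 35 (u1830) r1831
theorem u1832 : ∀ k, 0 ≤ k → k < 64155 → chk (k * 22) = true := between_extend chk 22 0 64120 35 (u1831) r1832
theorem u1833 : ∀ k, 0 ≤ k → k < 64190 → chk (k * 22) = true := between_extend chk 22 0 64155 35 (u1832) r1833
theorem u1834 : ∀ k, 0 ≤ k → k < 64225 → chk (k * 22) = true := between_extend chk 22 0 64190 35 (u1833) r1834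
theorem u1835 : ∀ k, 0 ≤ k → k < 64260 → chk (k * 22) = true := between_extend chk 22 0 64225 35 (u1834) r1835
theorem u1836 : ∀ k, 0 ≤ k → k < 64295 → chk (k * 22) = true := between_extend chk 22 0 64260 35 (u1835) r1836
theorem u1837 : ∀ k, 0 ≤ k → k < 64330 → chk (k * 22) = true := between_extend chk 22 0 64295 35 (u1836) r1837
theorem u1838 : ∀ k, 0 ≤ k → k < 64365 → chk (k * 22) = true := between_extend chk 22 0 64330 35 (u1837) r1838
theorem u1839 : ∀ k, 0 ≤ k → k < 64400 → chk (k * 22) = true := between_extend chk 22 0 64365 35 (u1838) r1839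
theorem u1840 : ∀ k, 0 ≤ k → k < 64435 → chk (k * 22) = true := between_extend chk 22 0 64400 35 (u1839) r1840
theorem u1841 : ∀ k, 0 ≤ k → k < 64470 → chk (k * 22) = true := between_extend chk 22 0 64435 35 (u1840) r1841
theorem u1842 : ∀ k, 0 ≤ k → k < 64505 → chk (k * 22) = true := between_extend chk 22 0 64470 35 (u1841) r1842
theorem u1843 : ∀ k, 0 ≤ k → k < 64540 → chk (k * 22) = true := between_extend chk 22 0 64505 35 (u1842) r1843
theorem u1844 : ∀ k, 0 ≤ k → k < 64575 → chk (k * 22) = true := between_extend chk 22 0 64540 35 (u1843) r1844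
theorem u1845 : ∀ k, 0 ≤ k → k < 64610 → chk (k * 22) = true := between_extend chk 22 0 64575 35 (u1844) r1845
theorem u1846 : ∀ k, 0 ≤ k → k < 64645 → chk (k * 22) = true := between_extend chk 22 0 64610 35 (u1845) r1846
theorem u1847 : ∀ k, 0 ≤ k → k < 64680 → chk (k * 22) = true := between_extend chk 22 0 64645 35 (u1846) r1847
theorem u1848 : ∀ k, 0 ≤ k → k < 64715 → chk (k * 22) = true := between_extend chk 22 0 64680 35 (u1847) r1848
theorem u1849 : ∀ k, 0 ≤ k → k < 64750 → chk (k * 22) = true := between_extend chk 22 0 64715 35 (u1848) r1849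
theorem u1850 : ∀ k, 0 ≤ k → k < 64785 → chk (k * 22) = true := between_extend chk 22 0 64750 35 (u1849) r1850
theorem u1851 : ∀ k, 0 ≤ k → k < 64820 → chk (k * 22) = true := between_extend chk 22 0 64785 35 (u1850) r1851
theorem u1852 : ∀ k, 0 ≤ k → k < 64855 → chk (k * 22) = true := between_extend chk 22 0 64820 35 (u1851) r1852
theorem u1853 : ∀ k, 0 ≤ k → k < 64890 → chk (k * 22) = true := between_extend chk 22 0 64855 35 (u1852) r1853
theorem u1854 : ∀ k, 0 ≤ k → k < 64925 → chk (k * 22) = true := between_extend chk 22 0 64890 35 (u1853) r1854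
theorem u1855 : ∀ k, 0 ≤ k → k < 64960 → chk (k * 22) = true := between_extend chk 22 0 64925 35 (u1854) r1855
theorem u1856 : ∀ k, 0 ≤ k → k < 64995 → chk (k * 22) = true := between_extend chk 22 0 64960 35 (u1855) r1856
theorem u1857 : ∀ k, 0 ≤ k → k < 65030 → chk (k * 22) = true := between_extend chk 22 0 64995 35 (u1856) r1857
theorem u1858 : ∀ k, 0 ≤ k → k < 65065 → chk (k * 22) = true := between_extend chk 22 0 65030 35 (u1857) r1858
theorem u1859 : ∀ k, 0 ≤ k → k < 65100 → chk (k * 22) = true := between_extend chk 22 0 65065 35 (u1858) r1859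
theorem u1860 : ∀ k, 0 ≤ k → k < 65135 → chk (k * 22) = true := between_extend chk 22 0 65100 35 (u1859) r1860
theorem u1861 : ∀ k, 0 ≤ k → k < 65170 → chk (k * 22) = true := between_extend chk 22 0 65135 35 (u1860) r1861
theorem u1862 : ∀ k, 0 ≤ k → k < 65205 → chk (k * 22) = true := between_extend chk 22 0 65170 35 (u1861) r1862
theorem u1863 : ∀ k, 0 ≤ k → k < 65240 → chk (k * 22) = true := between_extend chk 22 0 65205 35 (u1862) r1863
theorem u1864 : ∀ k, 0 ≤ k → k < 65275 → chk (k * 22) = true := between_extend chk 22 0 65240 35 (u1863) r1864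
theorem u1865 : ∀ k, 0 ≤ k → k < 65310 → chk (k * 22) = true := between_extend chk 22 0 65275 35 (u1864) r1865
theorem u1866 : ∀ k, 0 ≤ k → k < 65345 → chk (k * 22) = true := between_extend chk 22 0 65310 35 (u1865) r1866
theorem u1867 : ∀ k, 0 ≤ k → k < 65380 → chk (k * 22) = true := between_extend chk 22 0 65345 35 (u1866) r1867
theorem u1868 : ∀ k, 0 ≤ k → k < 65415 → chk (k * 22) = true := between_extend chk 22 0 65380 35 (u1867) r1868
theorem u1869 : ∀ k, 0 ≤ k → k < 65450 → chk (k * 22) = true := between_extend chk 22 0 65415 35 (u1868) r1869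
theorem u1870 : ∀ k, 0 ≤ k → k < 65485 → chk (k * 22) = true := between_extend chk 22 0 65450 35 (u1869) r1870
theorem u1871 : ∀ k, 0 ≤ k → k < 65520 → chk (k * 22) = true := between_extend chk 22 0 65485 35 (u1870) r1871
theorem u1872 : ∀ k, 0 ≤ k → k < 65555 → chk (k * 22) = true := between_extend chk 22 0 65520 35 (u1871) r1872
theorem u1873 : ∀ k, 0 ≤ k → k < 65590 → chk (k * 22) = true := between_extend chk 22 0 65555 35 (u1872) r1873
theorem u1874 : ∀ k, 0 ≤ k → k < 65625 → chk (k * 22) = true := between_extend chk 22 0 65590 35 (u1873) r1874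
theorem u1875 : ∀ k, 0 ≤ k → k < 65660 → chk (k * 22) = true := between_extend chk 22 0 65625 35 (u1874) r1875
theorem u1876 : ∀ k, 0 ≤ k → k < 65695 → chk (k * 22) = true := between_extend chk 22 0 65660 35 (u1875) r1876
theorem u1877 : ∀ k, 0 ≤ k → k < 65730 → chk (k * 22) = true := between_extend chk 22 0 65695 35 (u1876) r1877
theorem u1878 : ∀ k, 0 ≤ k → k < 65765 → chk (k * 22) = true := between_extend chk 22 0 65730 35 (u1877) r1878
theorem u1879 : ∀ k, 0 ≤ k → k < 65800 → chk (k * 22) = true := between_extend chk 22 0 65765 35 (u1878) r1879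
theorem u1880 : ∀ k, 0 ≤ k → k < 65835 → chk (k * 22) = true := between_extend chk 22 0 65800 35 (u1879) r1880
theorem u1881 : ∀ k, 0 ≤ k → k < 65870 → chk (k * 22) = true := between_extend chk 22 0 65835 35 (u1880) r1881
theorem u1882 : ∀ k, 0 ≤ k → k < 65905 → chk (k * 22) = true := between_extend chk 22 0 65870 35 (u1881) r1882
theorem u1883 : ∀ k, 0 ≤ k → k < 65940 → chk (k * 22) = true := between_extend chk 22 0 65905 35 (u1882) r1883
theorem u1884 : ∀ k, 0 ≤ k → k < 65975 → chk (k * 22) = true := between_extend chk 22 0 65940 35 (u1883) r1884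
theorem u1885 : ∀ k, 0 ≤ k → k < 66010 → chk (k * 22) = true := between_extend chk 22 0 65975 35 (u1884) r1885
theorem u1886 : ∀ k, 0 ≤ k → k < 66045 → chk (k * 22) = true := between_extend chk 22 0 66010 35 (u1885) r1886
theorem u1887 : ∀ k, 0 ≤ k → k < 66080 → chk (k * 22) = true := between_extend chk 22 0 66045 35 (u1886) r1887
theorem u1888 : ∀ k, 0 ≤ k → k < 66115 → chk (k * 22) = true := between_extend chk 22 0 66080 35 (u1887) r1888
theorem u1889 : ∀ k, 0 ≤ k → k < 66150 → chk (k * 22) = true := between_extend chk 22 0 66115 35 (u1888) r1889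
theorem u1890 : ∀ k, 0 ≤ k → k < 66185 → chk (k * 22) = true := between_extend chk 22 0 66150 35 (u1889) r1890
theorem u1891 : ∀ k, 0 ≤ k → k < 66220 → chk (k * 22) = true := between_extend chk 22 0 66185 35 (u1890) r1891
theorem u1892 : ∀ k, 0 ≤ k → k < 66255 → chk (k * 22) = true := between_extend chk 22 0 66220 35 (u1891) r1892
theorem u1893 : ∀ k, 0 ≤ k → k < 66290 → chk (k * 22) = true := between_extend chk 22 0 66255 35 (u1892) r1893
theorem u1894 : ∀ k, 0 ≤ k → k < 66325 → chk (k * 22) = true := between_extend chk 22 0 66290 35 (u1893) r1894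
theorem u1895 : ∀ k, 0 ≤ k → k < 66360 → chk (k * 22) = true := between_extend chk 22 0 66325 35 (u1894) r1895
theorem u1896 : ∀ k, 0 ≤ k → k < 66395 → chk (k * 22) = true := between_extend chk 22 0 66360 35 (u1895) r1896
theorem u1897 : ∀ k, 0 ≤ k → k < 66430 → chk (k * 22) = true := between_extend chk 22 0 66395 35 (u1896) r1897
theorem u1898 : ∀ k, 0 ≤ k → k < 66465 → chk (k * 22) = true := between_extend chk 22 0 66430 35 (u1897) r1898
theorem u1899 : ∀ k, 0 ≤ k → k < 66500 → chk (k * 22) = true := between_extend chk 22 0 66465 35 (u1898) r1899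
theorem u1900 : ∀ k, 0 ≤ k → k < 66535 → chk (k * 22) = true := between_extend chk 22 0 66500 35 (u1899) r1900
theorem u1901 : ∀ k, 0 ≤ k → k < 66570 → chk (k * 22) = true := between_extend chk 22 0 66535 35 (u1900) r1901
theorem u1902 : ∀ k, 0 ≤ k → k < 66605 → chk (k * 22) = true := between_extend chk 22 0 66570 35 (u1901) r1902
theorem u1903 : ∀ k, 0 ≤ k → k < 66640 → chk (k * 22) = true := between_extend chk 22 0 66605 35 (u1902) r1903
theorem u1904 : ∀ k, 0 ≤ k → k < 66675 → chk (k * 22) = true := between_extend chk 22 0 66640 35 (u1903) r1904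
theorem u1905 : ∀ k, 0 ≤ k → k < 66710 → chk (k * 22) = true := between_extend chk 22 0 66675 35 (u1904) r1905
theorem u1906 : ∀ k, 0 ≤ k → k < 66745 → chk (k * 22) = true := between_extend chk 22 0 66710 35 (u1905) r1906
theorem u1907 : ∀ k, 0 ≤ k → k < 66780 → chk (k * 22) = true := between_extend chk 22 0 66745 35 (u1906) r1907
theorem u1908 : ∀ k, 0 ≤ k → k < 66815 → chk (k * 22) = true := between_extend chk 22 0 66780 35 (u1907) r1908
theorem u1909 : ∀ k, 0 ≤ k → k < 66850 → chk (k * 22) = true := between_extend chk 22 0 66815 35 (u1908) r1909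
theorem u1910 : ∀ k, 0 ≤ k → k < 66885 → chk (k * 22) = true := between_extend chk 22 0 66850 35 (u1909) r1910
theorem u1911 : ∀ k, 0 ≤ k → k < 66920 → chk (k * 22) = true := between_extend chk 22 0 66885 35 (u1910) r1911
theorem u1912 : ∀ k, 0 ≤ k → k < 66955 → chk (k * 22) = true := between_extend chk 22 0 66920 35 (u1911) r1912
theorem u1913 : ∀ k, 0 ≤ k → k < 66990 → chk (k * 22) = true := between_extend chk 22 0 66955 35 (u1912) r1913
theorem u1914 : ∀ k, 0 ≤ k → k < 67025 → chk (k * 22) = true := between_extend chk 22 0 66990 35 (u1913) r1914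
theorem u1915 : ∀ k, 0 ≤ k → k < 67060 → chk (k * 22) = true := between_extend chk 22 0 67025 35 (u1914) r1915
theorem u1916 : ∀ k, 0 ≤ k → k < 67095 → chk (k * 22) = true := between_extend chk 22 0 67060 35 (u1915) r1916
theorem u1917 : ∀ k, 0 ≤ k → k < 67130 → chk (k * 22) = true := between_extend chk 22 0 67095 35 (u1916) r1917
theorem u1918 : ∀ k, 0 ≤ k → k < 67165 → chk (k * 22) = true := between_extend chk 22 0 67130 35 (u1917) r1918
theorem u1919 : ∀ k, 0 ≤ k → k < 67200 → chk (k * 22) = true := between_extend chk 22 0 67165 35 (u1918) r1919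
theorem u1920 : ∀ k, 0 ≤ k → k < 67235 → chk (k * 22) = true := between_extend chk 22 0 67200 35 (u1919) r1920
theorem u1921 : ∀ k, 0 ≤ k → k < 67270 → chk (k * 22) = true := between_extend chk 22 0 67235 35 (u1920) r1921
theorem u1922 : ∀ k, 0 ≤ k → k < 67305 → chk (k * 22) = true := between_extend chk 22 0 67270 35 (u1921) r1922
theorem u1923 : ∀ k, 0 ≤ k → k < 67340 → chk (k * 22) = true := between_extend chk 22 0 67305 35 (u1922) r1923
theorem u1924 : ∀ k, 0 ≤ k → k < 67375 → chk (k * 22) = true := between_extend chk 22 0 67340 35 (u1923) r1924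
theorem u1925 : ∀ k, 0 ≤ k → k < 67410 → chk (k * 22) = true := between_extend chk 22 0 67375 35 (u1924) r1925
theorem u1926 : ∀ k, 0 ≤ k → k < 67445 → chk (k * 22) = true := between_extend chk 22 0 67410 35 (u1925) r1926
theorem u1927 : ∀ k, 0 ≤ k → k < 67480 → chk (k * 22) = true := between_extend chk 22 0 67445 35 (u1926) r1927
theorem u1928 : ∀ k, 0 ≤ k → k < 67515 → chk (k * 22) = true := between_extend chk 22 0 67480 35 (u1927) r1928
theorem u1929 : ∀ k, 0 ≤ k → k < 67550 → chk (k * 22) = true := between_extend chk 22 0 67515 35 (u1928) r1929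
theorem u1930 : ∀ k, 0 ≤ k → k < 67585 → chk (k * 22) = true := between_extend chk 22 0 67550 35 (u1929) r1930
theorem u1931 : ∀ k, 0 ≤ k → k < 67620 → chk (k * 22) = true := between_extend chk 22 0 67585 35 (u1930) r1931
theorem u1932 : ∀ k, 0 ≤ k → k < 67655 → chk (k * 22) = true := between_extend chk 22 0 67620 35 (u1931) r1932
theorem u1933 : ∀ k, 0 ≤ k → k < 67690 → chk (k * 22) = true := between_extend chk 22 0 67655 35 (u1932) r1933
theorem u1934 : ∀ k, 0 ≤ k → k < 67725 → chk (k * 22) = true := between_extend chk 22 0 67690 35 (u1933) r1934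
theorem u1935 : ∀ k, 0 ≤ k → k < 67760 → chk (k * 22) = true := between_extend chk 22 0 67725 35 (u1934) r1935
theorem u1936 : ∀ k, 0 ≤ k → k < 67795 → chk (k * 22) = true := between_extend chk 22 0 67760 35 (u1935) r1936
theorem u1937 : ∀ k, 0 ≤ k → k < 67830 → chk (k * 22) = true := between_extend chk 22 0 67795 35 (u1936) r1937
theorem u1938 : ∀ k, 0 ≤ k → k < 67865 → chk (k * 22) = true := between_extend chk 22 0 67830 35 (u1937) r1938
theorem u1939 : ∀ k, 0 ≤ k → k < 67900 → chk (k * 22) = true := between_extend chk 22 0 67865 35 (u1938) r1939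
theorem u1940 : ∀ k, 0 ≤ k → k < 67935 → chk (k * 22) = true := between_extend chk 22 0 67900 35 (u1939) r1940
theorem u1941 : ∀ k, 0 ≤ k → k < 67970 → chk (k * 22) = true := between_extend chk 22 0 67935 35 (u1940) r1941
theorem u1942 : ∀ k, 0 ≤ k → k < 68005 → chk (k * 22) = true := between_extend chk 22 0 67970 35 (u1941) r1942
theorem u1943 : ∀ k, 0 ≤ k → k < 68040 → chk (k * 22) = true := between_extend chk 22 0 68005 35 (u1942) r1943
theorem u1944 : ∀ k, 0 ≤ k → k < 68075 → chk (k * 22) = true := between_extend chk 22 0 68040 35 (u1943) r1944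
theorem u1945 : ∀ k, 0 ≤ k → k < 68110 → chk (k * 22) = true := between_extend chk 22 0 68075 35 (u1944) r1945
theorem u1946 : ∀ k, 0 ≤ k → k < 68145 → chk (k * 22) = true := between_extend chk 22 0 68110 35 (u1945) r1946
theorem u1947 : ∀ k, 0 ≤ k → k < 68180 → chk (k * 22) = true := between_extend chk 22 0 68145 35 (u1946) r1947
theorem u1948 : ∀ k, 0 ≤ k → k < 68215 → chk (k * 22) = true := between_extend chk 22 0 68180 35 (u1947) r1948
theorem u1949 : ∀ k, 0 ≤ k → k < 68250 → chk (k * 22) = true := between_extend chk 22 0 68215 35 (u1948) r1949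
theorem u1950 : ∀ k, 0 ≤ k → k < 68285 → chk (k * 22) = true := between_extend chk 22 0 68250 35 (u1949) r1950
theorem u1951 : ∀ k, 0 ≤ k → k < 68320 → chk (k * 22) = true := between_extend chk 22 0 68285 35 (u1950) r1951
theorem u1952 : ∀ k, 0 ≤ k → k < 68355 → chk (k * 22) = true := between_extend chk 22 0 68320 35 (u1951) r1952
theorem u1953 : ∀ k, 0 ≤ k → k < 68390 → chk (k * 22) = true := between_extend chk 22 0 68355 35 (u1952) r1953
theorem u1954 : ∀ k, 0 ≤ k → k < 68425 → chk (k * 22) = true := between_extend chk 22 0 68390 35 (u1953) r1954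
theorem u1955 : ∀ k, 0 ≤ k → k < 68460 → chk (k * 22) = true := between_extend chk 22 0 68425 35 (u1954) r1955
theorem u1956 : ∀ k, 0 ≤ k → k < 68495 → chk (k * 22) = true := between_extend chk 22 0 68460 35 (u1955) r1956
theorem u1957 : ∀ k, 0 ≤ k → k < 68530 → chk (k * 22) = true := between_extend chk 22 0 68495 35 (u1956) r1957
theorem u1958 : ∀ k, 0 ≤ k → k < 68565 → chk (k * 22) = true := between_extend chk 22 0 68530 35 (u1957) r1958
theorem u1959 : ∀ k, 0 ≤ k → k < 68600 → chk (k * 22) = true := between_extend chk 22 0 68565 35 (u1958) r1959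
theorem u1960 : ∀ k, 0 ≤ k → k < 68635 → chk (k * 22) = true := between_extend chk 22 0 68600 35 (u1959) r1960
theorem u1961 : ∀ k, 0 ≤ k → k < 68670 → chk (k * 22) = true := between_extend chk 22 0 68635 35 (u1960) r1961
theorem u1962 : ∀ k, 0 ≤ k → k < 68705 → chk (k * 22) = true := between_extend chk 22 0 68670 35 (u1961) r1962
theorem u1963 : ∀ k, 0 ≤ k → k < 68740 → chk (k * 22) = true := between_extend chk 22 0 68705 35 (u1962) r1963
theorem u1964 : ∀ k, 0 ≤ k → k < 68775 → chk (k * 22) = true := between_extend chk 22 0 68740 35 (u1963) r1964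
theorem u1965 : ∀ k, 0 ≤ k → k < 68810 → chk (k * 22) = true := between_extend chk 22 0 68775 35 (u1964) r1965
theorem u1966 : ∀ k, 0 ≤ k → k < 68845 → chk (k * 22) = true := between_extend chk 22 0 68810 35 (u1965) r1966
theorem u1967 : ∀ k, 0 ≤ k → k < 68880 → chk (k * 22) = true := between_extend chk 22 0 68845 35 (u1966) r1967
theorem u1968 : ∀ k, 0 ≤ k → k < 68915 → chk (k * 22) = true := between_extend chk 22 0 68880 35 (u1967) r1968
theorem u1969 : ∀ k, 0 ≤ k → k < 68950 → chk (k * 22) = true := between_extend chk 22 0 68915 35 (u1968) r1969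
theorem u1970 : ∀ k, 0 ≤ k → k < 68985 → chk (k * 22) = true := between_extend chk 22 0 68950 35 (u1969) r1970
theorem u1971 : ∀ k, 0 ≤ k → k < 69020 → chk (k * 22) = true := between_extend chk 22 0 68985 35 (u1970) r1971
theorem u1972 : ∀ k, 0 ≤ k → k < 69055 → chk (k * 22) = true := between_extend chk 22 0 69020 35 (u1971) r1972
theorem u1973 : ∀ k, 0 ≤ k → k < 69090 → chk (k * 22) = true := between_extend chk 22 0 69055 35 (u1972) r1973
theorem u1974 : ∀ k, 0 ≤ k → k < 69125 → chk (k * 22) = true := between_extend chk 22 0 69090 35 (u1973) r1974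
theorem u1975 : ∀ k, 0 ≤ k → k < 69160 → chk (k * 22) = true := between_extend chk 22 0 69125 35 (u1974) r1975
theorem u1976 : ∀ k, 0 ≤ k → k < 69195 → chk (k * 22) = true := between_extend chk 22 0 69160 35 (u1975) r1976
theorem u1977 : ∀ k, 0 ≤ k → k < 69230 → chk (k * 22) = true := between_extend chk 22 0 69195 35 (u1976) r1977
theorem u1978 : ∀ k, 0 ≤ k → k < 69265 → chk (k * 22) = true := between_extend chk 22 0 69230 35 (u1977) r1978
theorem u1979 : ∀ k, 0 ≤ k → k < 69300 → chk (k * 22) = true := between_extend chk 22 0 69265 35 (u1978) r1979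
theorem u1980 : ∀ k, 0 ≤ k → k < 69335 → chk (k * 22) = true := between_extend chk 22 0 69300 35 (u1979) r1980
theorem u1981 : ∀ k, 0 ≤ k → k < 69370 → chk (k * 22) = true := between_extend chk 22 0 69335 35 (u1980) r1981
theorem u1982 : ∀ k, 0 ≤ k → k < 69405 → chk (k * 22) = true := between_extend chk 22 0 69370 35 (u1981) r1982
theorem u1983 : ∀ k, 0 ≤ k → k < 69440 → chk (k * 22) = true := between_extend chk 22 0 69405 35 (u1982) r1983
theorem u1984 : ∀ k, 0 ≤ k → k < 69475 → chk (k * 22) = true := between_extend chk 22 0 69440 35 (u1983) r1984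
theorem u1985 : ∀ k, 0 ≤ k → k < 69510 → chk (k * 22) = true := between_extend chk 22 0 69475 35 (u1984) r1985
theorem u1986 : ∀ k, 0 ≤ k → k < 69545 → chk (k * 22) = true := between_extend chk 22 0 69510 35 (u1985) r1986
theorem u1987 : ∀ k, 0 ≤ k → k < 69580 → chk (k * 22) = true := between_extend chk 22 0 69545 35 (u1986) r1987
theorem u1988 : ∀ k, 0 ≤ k → k < 69615 → chk (k * 22) = true := between_extend chk 22 0 69580 35 (u1987) r1988
theorem u1989 : ∀ k, 0 ≤ k → k < 69650 → chk (k * 22) = true := between_extend chk 22 0 69615 35 (u1988) r1989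
theorem u1990 : ∀ k, 0 ≤ k → k < 69685 → chk (k * 22) = true := between_extend chk 22 0 69650 35 (u1989) r1990
theorem u1991 : ∀ k, 0 ≤ k → k < 69720 → chk (k * 22) = true := between_extend chk 22 0 69685 35 (u1990) r1991
theorem u1992 : ∀ k, 0 ≤ k → k < 69755 → chk (k * 22) = true := between_extend chk 22 0 69720 35 (u1991) r1992
theorem u1993 : ∀ k, 0 ≤ k → k < 69790 → chk (k * 22) = true := between_extend chk 22 0 69755 35 (u1992) r1993
theorem u1994 : ∀ k, 0 ≤ k → k < 69825 → chk (k * 22) = true := between_extend chk 22 0 69790 35 (u1993) r1994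
theorem u1995 : ∀ k, 0 ≤ k → k < 69860 → chk (k * 22) = true := between_extend chk 22 0 69825 35 (u1994) r1995
theorem u1996 : ∀ k, 0 ≤ k → k < 69895 → chk (k * 22) = true := between_extend chk 22 0 69860 35 (u1995) r1996
theorem u1997 : ∀ k, 0 ≤ k → k < 69930 → chk (k * 22) = true := between_extend chk 22 0 69895 35 (u1996) r1997
theorem u1998 : ∀ k, 0 ≤ k → k < 69965 → chk (k * 22) = true := between_extend chk 22 0 69930 35 (u1997) r1998
theorem u1999 : ∀ k, 0 ≤ k → k < 70000 → chk (k * 22) = true := between_extend chk 22 0 69965 35 (u1998) r1999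
theorem u2000 : ∀ k, 0 ≤ k → k < 70035 → chk (k * 22) = true := between_extend chk 22 0 70000 35 (u1999) r2000
theorem u2001 : ∀ k, 0 ≤ k → k < 70070 → chk (k * 22) = true := between_extend chk 22 0 70035 35 (u2000) r2001
theorem u2002 : ∀ k, 0 ≤ k → k < 70105 → chk (k * 22) = true := between_extend chk 22 0 70070 35 (u2001) r2002
theorem u2003 : ∀ k, 0 ≤ k → k < 70140 → chk (k * 22) = true := between_extend chk 22 0 70105 35 (u2002) r2003
theorem u2004 : ∀ k, 0 ≤ k → k < 70175 → chk (k * 22) = true := between_extend chk 22 0 70140 35 (u2003) r2004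
theorem u2005 : ∀ k, 0 ≤ k → k < 70210 → chk (k * 22) = true := between_extend chk 22 0 70175 35 (u2004) r2005
theorem u2006 : ∀ k, 0 ≤ k → k < 70245 → chk (k * 22) = true := between_extend chk 22 0 70210 35 (u2005) r2006
theorem u2007 : ∀ k, 0 ≤ k → k < 70280 → chk (k * 22) = true := between_extend chk 22 0 70245 35 (u2006) r2007
theorem u2008 : ∀ k, 0 ≤ k → k < 70315 → chk (k * 22) = true := between_extend chk 22 0 70280 35 (u2007) r2008
theorem u2009 : ∀ k, 0 ≤ k → k < 70350 → chk (k * 22) = true := between_extend chk 22 0 70315 35 (u2008) r2009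
theorem u2010 : ∀ k, 0 ≤ k → k < 70385 → chk (k * 22) = true := between_extend chk 22 0 70350 35 (u2009) r2010
theorem u2011 : ∀ k, 0 ≤ k → k < 70420 → chk (k * 22) = true := between_extend chk 22 0 70385 35 (u2010) r2011
theorem u2012 : ∀ k, 0 ≤ k → k < 70455 → chk (k * 22) = true := between_extend chk 22 0 70420 35 (u2011) r2012
theorem u2013 : ∀ k, 0 ≤ k → k < 70490 → chk (k * 22) = true := between_extend chk 22 0 70455 35 (u2012) r2013
theorem u2014 : ∀ k, 0 ≤ k → k < 70525 → chk (k * 22) = true := between_extend chk 22 0 70490 35 (u2013) r2014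
theorem u2015 : ∀ k, 0 ≤ k → k < 70560 → chk (k * 22) = true := between_extend chk 22 0 70525 35 (u2014) r2015
theorem u2016 : ∀ k, 0 ≤ k → k < 70595 → chk (k * 22) = true := between_extend chk 22 0 70560 35 (u2015) r2016
theorem u2017 : ∀ k, 0 ≤ k → k < 70630 → chk (k * 22) = true := between_extend chk 22 0 70595 35 (u2016) r2017
theorem u2018 : ∀ k, 0 ≤ k → k < 70665 → chk (k * 22) = true := between_extend chk 22 0 70630 35 (u2017) r2018
theorem u2019 : ∀ k, 0 ≤ k → k < 70700 → chk (k * 22) = true := between_extend chk 22 0 70665 35 (u2018) r2019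
theorem u2020 : ∀ k, 0 ≤ k → k < 70735 → chk (k * 22) = true := between_extend chk 22 0 70700 35 (u2019) r2020
theorem u2021 : ∀ k, 0 ≤ k → k < 70770 → chk (k * 22) = true := between_extend chk 22 0 70735 35 (u2020) r2021
theorem u2022 : ∀ k, 0 ≤ k → k < 70805 → chk (k * 22) = true := between_extend chk 22 0 70770 35 (u2021) r2022
theorem u2023 : ∀ k, 0 ≤ k → k < 70840 → chk (k * 22) = true := between_extend chk 22 0 70805 35 (u2022) r2023
theorem u2024 : ∀ k, 0 ≤ k → k < 70875 → chk (k * 22) = true := between_extend chk 22 0 70840 35 (u2023) r2024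
theorem u2025 : ∀ k, 0 ≤ k → k < 70910 → chk (k * 22) = true := between_extend chk 22 0 70875 35 (u2024) r2025
theorem u2026 : ∀ k, 0 ≤ k → k < 70945 → chk (k * 22) = true := between_extend chk 22 0 70910 35 (u2025) r2026
theorem u2027 : ∀ k, 0 ≤ k → k < 70980 → chk (k * 22) = true := between_extend chk 22 0 70945 35 (u2026) r2027
theorem u2028 : ∀ k, 0 ≤ k → k < 71015 → chk (k * 22) = true := between_extend chk 22 0 70980 35 (u2027) r2028
theorem u2029 : ∀ k, 0 ≤ k → k < 71050 → chk (k * 22) = true := between_extend chk 22 0 71015 35 (u2028) r2029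
theorem u2030 : ∀ k, 0 ≤ k → k < 71085 → chk (k * 22) = true := between_extend chk 22 0 71050 35 (u2029) r2030
theorem u2031 : ∀ k, 0 ≤ k → k < 71120 → chk (k * 22) = true := between_extend chk 22 0 71085 35 (u2030) r2031
theorem u2032 : ∀ k, 0 ≤ k → k < 71155 → chk (k * 22) = true := between_extend chk 22 0 71120 35 (u2031) r2032
theorem u2033 : ∀ k, 0 ≤ k → k < 71190 → chk (k * 22) = true := between_extend chk 22 0 71155 35 (u2032) r2033
theorem u2034 : ∀ k, 0 ≤ k → k < 71225 → chk (k * 22) = true := between_extend chk 22 0 71190 35 (u2033) r2034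
theorem u2035 : ∀ k, 0 ≤ k → k < 71260 → chk (k * 22) = true := between_extend chk 22 0 71225 35 (u2034) r2035
theorem u2036 : ∀ k, 0 ≤ k → k < 71295 → chk (k * 22) = true := between_extend chk 22 0 71260 35 (u2035) r2036
theorem u2037 : ∀ k, 0 ≤ k → k < 71330 → chk (k * 22) = true := between_extend chk 22 0 71295 35 (u2036) r2037
theorem u2038 : ∀ k, 0 ≤ k → k < 71365 → chk (k * 22) = true := between_extend chk 22 0 71330 35 (u2037) r2038
theorem u2039 : ∀ k, 0 ≤ k → k < 71400 → chk (k * 22) = true := between_extend chk 22 0 71365 35 (u2038) r2039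
theorem u2040 : ∀ k, 0 ≤ k → k < 71435 → chk (k * 22) = true := between_extend chk 22 0 71400 35 (u2039) r2040
theorem u2041 : ∀ k, 0 ≤ k → k < 71470 → chk (k * 22) = true := between_extend chk 22 0 71435 35 (u2040) r2041
theorem u2042 : ∀ k, 0 ≤ k → k < 71505 → chk (k * 22) = true := between_extend chk 22 0 71470 35 (u2041) r2042
theorem u2043 : ∀ k, 0 ≤ k → k < 71540 → chk (k * 22) = true := between_extend chk 22 0 71505 35 (u2042) r2043
theorem u2044 : ∀ k, 0 ≤ k → k < 71575 → chk (k * 22) = true := between_extend chk 22 0 71540 35 (u2043) r2044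
theorem u2045 : ∀ k, 0 ≤ k → k < 71610 → chk (k * 22) = true := between_extend chk 22 0 71575 35 (u2044) r2045
theorem u2046 : ∀ k, 0 ≤ k → k < 71645 → chk (k * 22) = true := between_extend chk 22 0 71610 35 (u2045) r2046
theorem u2047 : ∀ k, 0 ≤ k → k < 71680 → chk (k * 22) = true := between_extend chk 22 0 71645 35 (u2046) r2047
theorem u2048 : ∀ k, 0 ≤ k → k < 71715 → chk (k * 22) = true := between_extend chk 22 0 71680 35 (u2047) r2048
theorem u2049 : ∀ k, 0 ≤ k → k < 71750 → chk (k * 22) = true := between_extend chk 22 0 71715 35 (u2048) r2049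
theorem u2050 : ∀ k, 0 ≤ k → k < 71785 → chk (k * 22) = true := between_extend chk 22 0 71750 35 (u2049) r2050
theorem u2051 : ∀ k, 0 ≤ k → k < 71820 → chk (k * 22) = true := between_extend chk 22 0 71785 35 (u2050) r2051
theorem u2052 : ∀ k, 0 ≤ k → k < 71855 → chk (k * 22) = true := between_extend chk 22 0 71820 35 (u2051) r2052
theorem u2053 : ∀ k, 0 ≤ k → k < 71890 → chk (k * 22) = true := between_extend chk 22 0 71855 35 (u2052) r2053
theorem u2054 : ∀ k, 0 ≤ k → k < 71925 → chk (k * 22) = true := between_extend chk 22 0 71890 35 (u2053) r2054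
theorem u2055 : ∀ k, 0 ≤ k → k < 71960 → chk (k * 22) = true := between_extend chk 22 0 71925 35 (u2054) r2055
theorem u2056 : ∀ k, 0 ≤ k → k < 71995 → chk (k * 22) = true := between_extend chk 22 0 71960 35 (u2055) r2056
theorem u2057 : ∀ k, 0 ≤ k → k < 72030 → chk (k * 22) = true := between_extend chk 22 0 71995 35 (u2056) r2057
theorem u2058 : ∀ k, 0 ≤ k → k < 72065 → chk (k * 22) = true := between_extend chk 22 0 72030 35 (u2057) r2058
theorem u2059 : ∀ k, 0 ≤ k → k < 72100 → chk (k * 22) = true := between_extend chk 22 0 72065 35 (u2058) r2059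
theorem u2060 : ∀ k, 0 ≤ k → k < 72135 → chk (k * 22) = true := between_extend chk 22 0 72100 35 (u2059) r2060
theorem u2061 : ∀ k, 0 ≤ k → k < 72170 → chk (k * 22) = true := between_extend chk 22 0 72135 35 (u2060) r2061
theorem u2062 : ∀ k, 0 ≤ k → k < 72205 → chk (k * 22) = true := between_extend chk 22 0 72170 35 (u2061) r2062
theorem u2063 : ∀ k, 0 ≤ k → k < 72240 → chk (k * 22) = true := between_extend chk 22 0 72205 35 (u2062) r2063
theorem u2064 : ∀ k, 0 ≤ k → k < 72275 → chk (k * 22) = true := between_extend chk 22 0 72240 35 (u2063) r2064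
theorem u2065 : ∀ k, 0 ≤ k → k < 72310 → chk (k * 22) = true := between_extend chk 22 0 72275 35 (u2064) r2065
theorem u2066 : ∀ k, 0 ≤ k → k < 72345 → chk (k * 22) = true := between_extend chk 22 0 72310 35 (u2065) r2066
theorem u2067 : ∀ k, 0 ≤ k → k < 72380 → chk (k * 22) = true := between_extend chk 22 0 72345 35 (u2066) r2067
theorem u2068 : ∀ k, 0 ≤ k → k < 72415 → chk (k * 22) = true := between_extend chk 22 0 72380 35 (u2067) r2068
theorem u2069 : ∀ k, 0 ≤ k → k < 72450 → chk (k * 22) = true := between_extend chk 22 0 72415 35 (u2068) r2069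
theorem u2070 : ∀ k, 0 ≤ k → k < 72485 → chk (k * 22) = true := between_extend chk 22 0 72450 35 (u2069) r2070
theorem u2071 : ∀ k, 0 ≤ k → k < 72520 → chk (k * 22) = true := between_extend chk 22 0 72485 35 (u2070) r2071
theorem u2072 : ∀ k, 0 ≤ k → k < 72555 → chk (k * 22) = true := between_extend chk 22 0 72520 35 (u2071) r2072
theorem u2073 : ∀ k, 0 ≤ k → k < 72590 → chk (k * 22) = true := between_extend chk 22 0 72555 35 (u2072) r2073
theorem u2074 : ∀ k, 0 ≤ k → k < 72625 → chk (k * 22) = true := between_extend chk 22 0 72590 35 (u2073) r2074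
theorem u2075 : ∀ k, 0 ≤ k → k < 72660 → chk (k * 22) = true := between_extend chk 22 0 72625 35 (u2074) r2075
theorem u2076 : ∀ k, 0 ≤ k → k < 72695 → chk (k * 22) = true := between_extend chk 22 0 72660 35 (u2075) r2076
theorem u2077 : ∀ k, 0 ≤ k → k < 72730 → chk (k * 22) = true := between_extend chk 22 0 72695 35 (u2076) r2077
theorem u2078 : ∀ k, 0 ≤ k → k < 72765 → chk (k * 22) = true := between_extend chk 22 0 72730 35 (u2077) r2078
theorem u2079 : ∀ k, 0 ≤ k → k < 72800 → chk (k * 22) = true := between_extend chk 22 0 72765 35 (u2078) r2079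
theorem u2080 : ∀ k, 0 ≤ k → k < 72835 → chk (k * 22) = true := between_extend chk 22 0 72800 35 (u2079) r2080
theorem u2081 : ∀ k, 0 ≤ k → k < 72870 → chk (k * 22) = true := between_extend chk 22 0 72835 35 (u2080) r2081
theorem u2082 : ∀ k, 0 ≤ k → k < 72905 → chk (k * 22) = true := between_extend chk 22 0 72870 35 (u2081) r2082
theorem u2083 : ∀ k, 0 ≤ k → k < 72940 → chk (k * 22) = true := between_extend chk 22 0 72905 35 (u2082) r2083
theorem u2084 : ∀ k, 0 ≤ k → k < 72975 → chk (k * 22) = true := between_extend chk 22 0 72940 35 (u2083) r2084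
theorem u2085 : ∀ k, 0 ≤ k → k < 73010 → chk (k * 22) = true := between_extend chk 22 0 72975 35 (u2084) r2085
theorem u2086 : ∀ k, 0 ≤ k → k < 73045 → chk (k * 22) = true := between_extend chk 22 0 73010 35 (u2085) r2086
theorem u2087 : ∀ k, 0 ≤ k → k < 73080 → chk (k * 22) = true := between_extend chk 22 0 73045 35 (u2086) r2087
theorem u2088 : ∀ k, 0 ≤ k → k < 73115 → chk (k * 22) = true := between_extend chk 22 0 73080 35 (u2087) r2088
theorem u2089 : ∀ k, 0 ≤ k → k < 73150 → chk (k * 22) = true := between_extend chk 22 0 73115 35 (u2088) r2089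
theorem u2090 : ∀ k, 0 ≤ k → k < 73185 → chk (k * 22) = true := between_extend chk 22 0 73150 35 (u2089) r2090
theorem u2091 : ∀ k, 0 ≤ k → k < 73220 → chk (k * 22) = true := between_extend chk 22 0 73185 35 (u2090) r2091
theorem u2092 : ∀ k, 0 ≤ k → k < 73255 → chk (k * 22) = true := between_extend chk 22 0 73220 35 (u2091) r2092
theorem u2093 : ∀ k, 0 ≤ k → k < 73290 → chk (k * 22) = true := between_extend chk 22 0 73255 35 (u2092) r2093
theorem u2094 : ∀ k, 0 ≤ k → k < 73325 → chk (k * 22) = true := between_extend chk 22 0 73290 35 (u2093) r2094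
theorem u2095 : ∀ k, 0 ≤ k → k < 73360 → chk (k * 22) = true := between_extend chk 22 0 73325 35 (u2094) r2095
theorem u2096 : ∀ k, 0 ≤ k → k < 73395 → chk (k * 22) = true := between_extend chk 22 0 73360 35 (u2095) r2096
theorem u2097 : ∀ k, 0 ≤ k → k < 73430 → chk (k * 22) = true := between_extend chk 22 0 73395 35 (u2096) r2097
theorem u2098 : ∀ k, 0 ≤ k → k < 73465 → chk (k * 22) = true := between_extend chk 22 0 73430 35 (u2097) r2098
theorem u2099 : ∀ k, 0 ≤ k → k < 73500 → chk (k * 22) = true := between_extend chk 22 0 73465 35 (u2098) r2099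
theorem u2100 : ∀ k, 0 ≤ k → k < 73535 → chk (k * 22) = true := between_extend chk 22 0 73500 35 (u2099) r2100
theorem u2101 : ∀ k, 0 ≤ k → k < 73570 → chk (k * 22) = true := between_extend chk 22 0 73535 35 (u2100) r2101
theorem u2102 : ∀ k, 0 ≤ k → k < 73605 → chk (k * 22) = true := between_extend chk 22 0 73570 35 (u2101) r2102
theorem u2103 : ∀ k, 0 ≤ k → k < 73640 → chk (k * 22) = true := between_extend chk 22 0 73605 35 (u2102) r2103
theorem u2104 : ∀ k, 0 ≤ k → k < 73675 → chk (k * 22) = true := between_extend chk 22 0 73640 35 (u2103) r2104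
theorem u2105 : ∀ k, 0 ≤ k → k < 73710 → chk (k * 22) = true := between_extend chk 22 0 73675 35 (u2104) r2105
theorem u2106 : ∀ k, 0 ≤ k → k < 73745 → chk (k * 22) = true := between_extend chk 22 0 73710 35 (u2105) r2106
theorem u2107 : ∀ k, 0 ≤ k → k < 73780 → chk (k * 22) = true := between_extend chk 22 0 73745 35 (u2106) r2107
theorem u2108 : ∀ k, 0 ≤ k → k < 73815 → chk (k * 22) = true := between_extend chk 22 0 73780 35 (u2107) r2108
theorem u2109 : ∀ k, 0 ≤ k → k < 73850 → chk (k * 22) = true := between_extend chk 22 0 73815 35 (u2108) r2109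
theorem u2110 : ∀ k, 0 ≤ k → k < 73885 → chk (k * 22) = true := between_extend chk 22 0 73850 35 (u2109) r2110
theorem u2111 : ∀ k, 0 ≤ k → k < 73920 → chk (k * 22) = true := between_extend chk 22 0 73885 35 (u2110) r2111
theorem u2112 : ∀ k, 0 ≤ k → k < 73955 → chk (k * 22) = true := between_extend chk 22 0 73920 35 (u2111) r2112
theorem u2113 : ∀ k, 0 ≤ k → k < 73990 → chk (k * 22) = true := between_extend chk 22 0 73955 35 (u2112) r2113
theorem u2114 : ∀ k, 0 ≤ k → k < 74025 → chk (k * 22) = true := between_extend chk 22 0 73990 35 (u2113) r2114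
theorem u2115 : ∀ k, 0 ≤ k → k < 74060 → chk (k * 22) = true := between_extend chk 22 0 74025 35 (u2114) r2115
theorem u2116 : ∀ k, 0 ≤ k → k < 74095 → chk (k * 22) = true := between_extend chk 22 0 74060 35 (u2115) r2116
theorem u2117 : ∀ k, 0 ≤ k → k < 74130 → chk (k * 22) = true := between_extend chk 22 0 74095 35 (u2116) r2117
theorem u2118 : ∀ k, 0 ≤ k → k < 74165 → chk (k * 22) = true := between_extend chk 22 0 74130 35 (u2117) r2118
theorem u2119 : ∀ k, 0 ≤ k → k < 74200 → chk (k * 22) = true := between_extend chk 22 0 74165 35 (u2118) r2119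
theorem u2120 : ∀ k, 0 ≤ k → k < 74235 → chk (k * 22) = true := between_extend chk 22 0 74200 35 (u2119) r2120
theorem u2121 : ∀ k, 0 ≤ k → k < 74270 → chk (k * 22) = true := between_extend chk 22 0 74235 35 (u2120) r2121
theorem u2122 : ∀ k, 0 ≤ k → k < 74305 → chk (k * 22) = true := between_extend chk 22 0 74270 35 (u2121) r2122
theorem u2123 : ∀ k, 0 ≤ k → k < 74340 → chk (k * 22) = true := between_extend chk 22 0 74305 35 (u2122) r2123
theorem u2124 : ∀ k, 0 ≤ k → k < 74375 → chk (k * 22) = true := between_extend chk 22 0 74340 35 (u2123) r2124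
theorem u2125 : ∀ k, 0 ≤ k → k < 74410 → chk (k * 22) = true := between_extend chk 22 0 74375 35 (u2124) r2125
theorem u2126 : ∀ k, 0 ≤ k → k < 74445 → chk (k * 22) = true := between_extend chk 22 0 74410 35 (u2125) r2126
theorem u2127 : ∀ k, 0 ≤ k → k < 74480 → chk (k * 22) = true := between_extend chk 22 0 74445 35 (u2126) r2127
theorem u2128 : ∀ k, 0 ≤ k → k < 74515 → chk (k * 22) = true := between_extend chk 22 0 74480 35 (u2127) r2128
theorem u2129 : ∀ k, 0 ≤ k → k < 74550 → chk (k * 22) = true := between_extend chk 22 0 74515 35 (u2128) r2129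
theorem u2130 : ∀ k, 0 ≤ k → k < 74585 → chk (k * 22) = true := between_extend chk 22 0 74550 35 (u2129) r2130
theorem u2131 : ∀ k, 0 ≤ k → k < 74620 → chk (k * 22) = true := between_extend chk 22 0 74585 35 (u2130) r2131
theorem u2132 : ∀ k, 0 ≤ k → k < 74655 → chk (k * 22) = true := between_extend chk 22 0 74620 35 (u2131) r2132
theorem u2133 : ∀ k, 0 ≤ k → k < 74690 → chk (k * 22) = true := between_extend chk 22 0 74655 35 (u2132) r2133
theorem u2134 : ∀ k, 0 ≤ k → k < 74725 → chk (k * 22) = true := between_extend chk 22 0 74690 35 (u2133) r2134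
theorem u2135 : ∀ k, 0 ≤ k → k < 74760 → chk (k * 22) = true := between_extend chk 22 0 74725 35 (u2134) r2135
theorem u2136 : ∀ k, 0 ≤ k → k < 74795 → chk (k * 22) = true := between_extend chk 22 0 74760 35 (u2135) r2136
theorem u2137 : ∀ k, 0 ≤ k → k < 74830 → chk (k * 22) = true := between_extend chk 22 0 74795 35 (u2136) r2137
theorem u2138 : ∀ k, 0 ≤ k → k < 74865 → chk (k * 22) = true := between_extend chk 22 0 74830 35 (u2137) r2138
theorem u2139 : ∀ k, 0 ≤ k → k < 74900 → chk (k * 22) = true := between_extend chk 22 0 74865 35 (u2138) r2139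
theorem u2140 : ∀ k, 0 ≤ k → k < 74935 → chk (k * 22) = true := between_extend chk 22 0 74900 35 (u2139) r2140
theorem u2141 : ∀ k, 0 ≤ k → k < 74970 → chk (k * 22) = true := between_extend chk 22 0 74935 35 (u2140) r2141
theorem u2142 : ∀ k, 0 ≤ k → k < 75005 → chk (k * 22) = true := between_extend chk 22 0 74970 35 (u2141) r2142
theorem u2143 : ∀ k, 0 ≤ k → k < 75040 → chk (k * 22) = true := between_extend chk 22 0 75005 35 (u2142) r2143
theorem u2144 : ∀ k, 0 ≤ k → k < 75075 → chk (k * 22) = true := between_extend chk 22 0 75040 35 (u2143) r2144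
theorem u2145 : ∀ k, 0 ≤ k → k < 75110 → chk (k * 22) = true := between_extend chk 22 0 75075 35 (u2144) r2145
theorem u2146 : ∀ k, 0 ≤ k → k < 75145 → chk (k * 22) = true := between_extend chk 22 0 75110 35 (u2145) r2146
theorem u2147 : ∀ k, 0 ≤ k → k < 75180 → chk (k * 22) = true := between_extend chk 22 0 75145 35 (u2146) r2147
theorem u2148 : ∀ k, 0 ≤ k → k < 75215 → chk (k * 22) = true := between_extend chk 22 0 75180 35 (u2147) r2148
theorem u2149 : ∀ k, 0 ≤ k → k < 75250 → chk (k * 22) = true := between_extend chk 22 0 75215 35 (u2148) r2149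
theorem u2150 : ∀ k, 0 ≤ k → k < 75285 → chk (k * 22) = true := between_extend chk 22 0 75250 35 (u2149) r2150
theorem u2151 : ∀ k, 0 ≤ k → k < 75320 → chk (k * 22) = true := between_extend chk 22 0 75285 35 (u2150) r2151
theorem u2152 : ∀ k, 0 ≤ k → k < 75355 → chk (k * 22) = true := between_extend chk 22 0 75320 35 (u2151) r2152
theorem u2153 : ∀ k, 0 ≤ k → k < 75390 → chk (k * 22) = true := between_extend chk 22 0 75355 35 (u2152) r2153
theorem u2154 : ∀ k, 0 ≤ k → k < 75425 → chk (k * 22) = true := between_extend chk 22 0 75390 35 (u2153) r2154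
theorem u2155 : ∀ k, 0 ≤ k → k < 75460 → chk (k * 22) = true := between_extend chk 22 0 75425 35 (u2154) r2155
theorem u2156 : ∀ k, 0 ≤ k → k < 75495 → chk (k * 22) = true := between_extend chk 22 0 75460 35 (u2155) r2156
theorem u2157 : ∀ k, 0 ≤ k → k < 75530 → chk (k * 22) = true := between_extend chk 22 0 75495 35 (u2156) r2157
theorem u2158 : ∀ k, 0 ≤ k → k < 75565 → chk (k * 22) = true := between_extend chk 22 0 75530 35 (u2157) r2158
theorem u2159 : ∀ k, 0 ≤ k → k < 75600 → chk (k * 22) = true := between_extend chk 22 0 75565 35 (u2158) r2159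
theorem u2160 : ∀ k, 0 ≤ k → k < 75635 → chk (k * 22) = true := between_extend chk 22 0 75600 35 (u2159) r2160
theorem u2161 : ∀ k, 0 ≤ k → k < 75670 → chk (k * 22) = true := between_extend chk 22 0 75635 35 (u2160) r2161
theorem u2162 : ∀ k, 0 ≤ k → k < 75705 → chk (k * 22) = true := between_extend chk 22 0 75670 35 (u2161) r2162
theorem u2163 : ∀ k, 0 ≤ k → k < 75740 → chk (k * 22) = true := between_extend chk 22 0 75705 35 (u2162) r2163
theorem u2164 : ∀ k, 0 ≤ k → k < 75775 → chk (k * 22) = true := between_extend chk 22 0 75740 35 (u2163) r2164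
theorem u2165 : ∀ k, 0 ≤ k → k < 75810 → chk (k * 22) = true := between_extend chk 22 0 75775 35 (u2164) r2165
theorem u2166 : ∀ k, 0 ≤ k → k < 75845 → chk (k * 22) = true := between_extend chk 22 0 75810 35 (u2165) r2166
theorem u2167 : ∀ k, 0 ≤ k → k < 75880 → chk (k * 22) = true := between_extend chk 22 0 75845 35 (u2166) r2167
theorem u2168 : ∀ k, 0 ≤ k → k < 75915 → chk (k * 22) = true := between_extend chk 22 0 75880 35 (u2167) r2168
theorem u2169 : ∀ k, 0 ≤ k → k < 75950 → chk (k * 22) = true := between_extend chk 22 0 75915 35 (u2168) r2169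
theorem u2170 : ∀ k, 0 ≤ k → k < 75985 → chk (k * 22) = true := between_extend chk 22 0 75950 35 (u2169) r2170
theorem u2171 : ∀ k, 0 ≤ k → k < 76020 → chk (k * 22) = true := between_extend chk 22 0 75985 35 (u2170) r2171
theorem u2172 : ∀ k, 0 ≤ k → k < 76055 → chk (k * 22) = true := between_extend chk 22 0 76020 35 (u2171) r2172
theorem u2173 : ∀ k, 0 ≤ k → k < 76090 → chk (k * 22) = true := between_extend chk 22 0 76055 35 (u2172) r2173
theorem u2174 : ∀ k, 0 ≤ k → k < 76125 → chk (k * 22) = true := between_extend chk 22 0 76090 35 (u2173) r2174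
theorem u2175 : ∀ k, 0 ≤ k → k < 76160 → chk (k * 22) = true := between_extend chk 22 0 76125 35 (u2174) r2175
theorem u2176 : ∀ k, 0 ≤ k → k < 76195 → chk (k * 22) = true := between_extend chk 22 0 76160 35 (u2175) r2176
theorem u2177 : ∀ k, 0 ≤ k → k < 76230 → chk (k * 22) = true := between_extend chk 22 0 76195 35 (u2176) r2177
theorem u2178 : ∀ k, 0 ≤ k → k < 76265 → chk (k * 22) = true := between_extend chk 22 0 76230 35 (u2177) r2178
theorem u2179 : ∀ k, 0 ≤ k → k < 76300 → chk (k * 22) = true := between_extend chk 22 0 76265 35 (u2178) r2179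
theorem u2180 : ∀ k, 0 ≤ k → k < 76335 → chk (k * 22) = true := between_extend chk 22 0 76300 35 (u2179) r2180
theorem u2181 : ∀ k, 0 ≤ k → k < 76370 → chk (k * 22) = true := between_extend chk 22 0 76335 35 (u2180) r2181
theorem u2182 : ∀ k, 0 ≤ k → k < 76405 → chk (k * 22) = true := between_extend chk 22 0 76370 35 (u2181) r2182
theorem u2183 : ∀ k, 0 ≤ k → k < 76440 → chk (k * 22) = true := between_extend chk 22 0 76405 35 (u2182) r2183
theorem u2184 : ∀ k, 0 ≤ k → k < 76475 → chk (k * 22) = true := between_extend chk 22 0 76440 35 (u2183) r2184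
theorem u2185 : ∀ k, 0 ≤ k → k < 76510 → chk (k * 22) = true := between_extend chk 22 0 76475 35 (u2184) r2185
theorem u2186 : ∀ k, 0 ≤ k → k < 76545 → chk (k * 22) = true := between_extend chk 22 0 76510 35 (u2185) r2186
theorem u2187 : ∀ k, 0 ≤ k → k < 76580 → chk (k * 22) = true := between_extend chk 22 0 76545 35 (u2186) r2187
theorem u2188 : ∀ k, 0 ≤ k → k < 76615 → chk (k * 22) = true := between_extend chk 22 0 76580 35 (u2187) r2188
theorem u2189 : ∀ k, 0 ≤ k → k < 76650 → chk (k * 22) = true := between_extend chk 22 0 76615 35 (u2188) r2189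
theorem u2190 : ∀ k, 0 ≤ k → k < 76685 → chk (k * 22) = true := between_extend chk 22 0 76650 35 (u2189) r2190
theorem u2191 : ∀ k, 0 ≤ k → k < 76720 → chk (k * 22) = true := between_extend chk 22 0 76685 35 (u2190) r2191
theorem u2192 : ∀ k, 0 ≤ k → k < 76755 → chk (k * 22) = true := between_extend chk 22 0 76720 35 (u2191) r2192
theorem u2193 : ∀ k, 0 ≤ k → k < 76790 → chk (k * 22) = true := between_extend chk 22 0 76755 35 (u2192) r2193
theorem u2194 : ∀ k, 0 ≤ k → k < 76825 → chk (k * 22) = true := between_extend chk 22 0 76790 35 (u2193) r2194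
theorem u2195 : ∀ k, 0 ≤ k → k < 76860 → chk (k * 22) = true := between_extend chk 22 0 76825 35 (u2194) r2195
theorem u2196 : ∀ k, 0 ≤ k → k < 76895 → chk (k * 22) = true := between_extend chk 22 0 76860 35 (u2195) r2196
theorem u2197 : ∀ k, 0 ≤ k → k < 76930 → chk (k * 22) = true := between_extend chk 22 0 76895 35 (u2196) r2197
theorem u2198 : ∀ k, 0 ≤ k → k < 76965 → chk (k * 22) = true := between_extend chk 22 0 76930 35 (u2197) r2198
theorem u2199 : ∀ k, 0 ≤ k → k < 77000 → chk (k * 22) = true := between_extend chk 22 0 76965 35 (u2198) r2199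
theorem u2200 : ∀ k, 0 ≤ k → k < 77035 → chk (k * 22) = true := between_extend chk 22 0 77000 35 (u2199) r2200
theorem u2201 : ∀ k, 0 ≤ k → k < 77070 → chk (k * 22) = true := between_extend chk 22 0 77035 35 (u2200) r2201
theorem u2202 : ∀ k, 0 ≤ k → k < 77105 → chk (k * 22) = true := between_extend chk 22 0 77070 35 (u2201) r2202
theorem u2203 : ∀ k, 0 ≤ k → k < 77140 → chk (k * 22) = true := between_extend chk 22 0 77105 35 (u2202) r2203
theorem u2204 : ∀ k, 0 ≤ k → k < 77175 → chk (k * 22) = true := between_extend chk 22 0 77140 35 (u2203) r2204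
theorem u2205 : ∀ k, 0 ≤ k → k < 77210 → chk (k * 22) = true := between_extend chk 22 0 77175 35 (u2204) r2205
theorem u2206 : ∀ k, 0 ≤ k → k < 77245 → chk (k * 22) = true := between_extend chk 22 0 77210 35 (u2205) r2206
theorem u2207 : ∀ k, 0 ≤ k → k < 77280 → chk (k * 22) = true := between_extend chk 22 0 77245 35 (u2206) r2207
theorem u2208 : ∀ k, 0 ≤ k → k < 77315 → chk (k * 22) = true := between_extend chk 22 0 77280 35 (u2207) r2208
theorem u2209 : ∀ k, 0 ≤ k → k < 77350 → chk (k * 22) = true := between_extend chk 22 0 77315 35 (u2208) r2209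
theorem u2210 : ∀ k, 0 ≤ k → k < 77385 → chk (k * 22) = true := between_extend chk 22 0 77350 35 (u2209) r2210
theorem u2211 : ∀ k, 0 ≤ k → k < 77420 → chk (k * 22) = true := between_extend chk 22 0 77385 35 (u2210) r2211
theorem u2212 : ∀ k, 0 ≤ k → k < 77455 → chk (k * 22) = true := between_extend chk 22 0 77420 35 (u2211) r2212
theorem u2213 : ∀ k, 0 ≤ k → k < 77490 → chk (k * 22) = true := between_extend chk 22 0 77455 35 (u2212) r2213
theorem u2214 : ∀ k, 0 ≤ k → k < 77525 → chk (k * 22) = true := between_extend chk 22 0 77490 35 (u2213) r2214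
theorem u2215 : ∀ k, 0 ≤ k → k < 77560 → chk (k * 22) = true := between_extend chk 22 0 77525 35 (u2214) r2215
theorem u2216 : ∀ k, 0 ≤ k → k < 77595 → chk (k * 22) = true := between_extend chk 22 0 77560 35 (u2215) r2216
theorem u2217 : ∀ k, 0 ≤ k → k < 77630 → chk (k * 22) = true := between_extend chk 22 0 77595 35 (u2216) r2217
theorem u2218 : ∀ k, 0 ≤ k → k < 77665 → chk (k * 22) = true := between_extend chk 22 0 77630 35 (u2217) r2218
theorem u2219 : ∀ k, 0 ≤ k → k < 77700 → chk (k * 22) = true := between_extend chk 22 0 77665 35 (u2218) r2219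
theorem u2220 : ∀ k, 0 ≤ k → k < 77735 → chk (k * 22) = true := between_extend chk 22 0 77700 35 (u2219) r2220
theorem u2221 : ∀ k, 0 ≤ k → k < 77770 → chk (k * 22) = true := between_extend chk 22 0 77735 35 (u2220) r2221
theorem u2222 : ∀ k, 0 ≤ k → k < 77805 → chk (k * 22) = true := between_extend chk 22 0 77770 35 (u2221) r2222
theorem u2223 : ∀ k, 0 ≤ k → k < 77840 → chk (k * 22) = true := between_extend chk 22 0 77805 35 (u2222) r2223
theorem u2224 : ∀ k, 0 ≤ k → k < 77875 → chk (k * 22) = true := between_extend chk 22 0 77840 35 (u2223) r2224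
theorem u2225 : ∀ k, 0 ≤ k → k < 77910 → chk (k * 22) = true := between_extend chk 22 0 77875 35 (u2224) r2225
theorem u2226 : ∀ k, 0 ≤ k → k < 77945 → chk (k * 22) = true := between_extend chk 22 0 77910 35 (u2225) r2226
theorem u2227 : ∀ k, 0 ≤ k → k < 77980 → chk (k * 22) = true := between_extend chk 22 0 77945 35 (u2226) r2227
theorem u2228 : ∀ k, 0 ≤ k → k < 78015 → chk (k * 22) = true := between_extend chk 22 0 77980 35 (u2227) r2228
theorem u2229 : ∀ k, 0 ≤ k → k < 78050 → chk (k * 22) = true := between_extend chk 22 0 78015 35 (u2228) r2229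
theorem u2230 : ∀ k, 0 ≤ k → k < 78085 → chk (k * 22) = true := between_extend chk 22 0 78050 35 (u2229) r2230
theorem u2231 : ∀ k, 0 ≤ k → k < 78120 → chk (k * 22) = true := between_extend chk 22 0 78085 35 (u2230) r2231
theorem u2232 : ∀ k, 0 ≤ k → k < 78155 → chk (k * 22) = true := between_extend chk 22 0 78120 35 (u2231) r2232
theorem u2233 : ∀ k, 0 ≤ k → k < 78190 → chk (k * 22) = true := between_extend chk 22 0 78155 35 (u2232) r2233
theorem u2234 : ∀ k, 0 ≤ k → k < 78225 → chk (k * 22) = true := between_extend chk 22 0 78190 35 (u2233) r2234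
theorem u2235 : ∀ k, 0 ≤ k → k < 78260 → chk (k * 22) = true := between_extend chk 22 0 78225 35 (u2234) r2235
theorem u2236 : ∀ k, 0 ≤ k → k < 78295 → chk (k * 22) = true := between_extend chk 22 0 78260 35 (u2235) r2236
theorem u2237 : ∀ k, 0 ≤ k → k < 78330 → chk (k * 22) = true := between_extend chk 22 0 78295 35 (u2236) r2237
theorem u2238 : ∀ k, 0 ≤ k → k < 78365 → chk (k * 22) = true := between_extend chk 22 0 78330 35 (u2237) r2238
theorem u2239 : ∀ k, 0 ≤ k → k < 78400 → chk (k * 22) = true := between_extend chk 22 0 78365 35 (u2238) r2239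
theorem u2240 : ∀ k, 0 ≤ k → k < 78435 → chk (k * 22) = true := between_extend chk 22 0 78400 35 (u2239) r2240
theorem u2241 : ∀ k, 0 ≤ k → k < 78470 → chk (k * 22) = true := between_extend chk 22 0 78435 35 (u2240) r2241
theorem u2242 : ∀ k, 0 ≤ k → k < 78505 → chk (k * 22) = true := between_extend chk 22 0 78470 35 (u2241) r2242
theorem u2243 : ∀ k, 0 ≤ k → k < 78540 → chk (k * 22) = true := between_extend chk 22 0 78505 35 (u2242) r2243
theorem u2244 : ∀ k, 0 ≤ k → k < 78575 → chk (k * 22) = true := between_extend chk 22 0 78540 35 (u2243) r2244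
theorem u2245 : ∀ k, 0 ≤ k → k < 78610 → chk (k * 22) = true := between_extend chk 22 0 78575 35 (u2244) r2245
theorem u2246 : ∀ k, 0 ≤ k → k < 78645 → chk (k * 22) = true := between_extend chk 22 0 78610 35 (u2245) r2246
theorem u2247 : ∀ k, 0 ≤ k → k < 78680 → chk (k * 22) = true := between_extend chk 22 0 78645 35 (u2246) r2247
theorem u2248 : ∀ k, 0 ≤ k → k < 78715 → chk (k * 22) = true := between_extend chk 22 0 78680 35 (u2247) r2248
theorem u2249 : ∀ k, 0 ≤ k → k < 78750 → chk (k * 22) = true := between_extend chk 22 0 78715 35 (u2248) r2249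
theorem u2250 : ∀ k, 0 ≤ k → k < 78785 → chk (k * 22) = true := between_extend chk 22 0 78750 35 (u2249) r2250
theorem u2251 : ∀ k, 0 ≤ k → k < 78820 → chk (k * 22) = true := between_extend chk 22 0 78785 35 (u2250) r2251
theorem u2252 : ∀ k, 0 ≤ k → k < 78855 → chk (k * 22) = true := between_extend chk 22 0 78820 35 (u2251) r2252
theorem u2253 : ∀ k, 0 ≤ k → k < 78890 → chk (k * 22) = true := between_extend chk 22 0 78855 35 (u2252) r2253
theorem u2254 : ∀ k, 0 ≤ k → k < 78925 → chk (k * 22) = true := between_extend chk 22 0 78890 35 (u2253) r2254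
theorem u2255 : ∀ k, 0 ≤ k → k < 78960 → chk (k * 22) = true := between_extend chk 22 0 78925 35 (u2254) r2255
theorem u2256 : ∀ k, 0 ≤ k → k < 78995 → chk (k * 22) = true := between_extend chk 22 0 78960 35 (u2255) r2256
theorem u2257 : ∀ k, 0 ≤ k → k < 79030 → chk (k * 22) = true := between_extend chk 22 0 78995 35 (u2256) r2257
theorem u2258 : ∀ k, 0 ≤ k → k < 79065 → chk (k * 22) = true := between_extend chk 22 0 79030 35 (u2257) r2258
theorem u2259 : ∀ k, 0 ≤ k → k < 79100 → chk (k * 22) = true := between_extend chk 22 0 79065 35 (u2258) r2259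
theorem u2260 : ∀ k, 0 ≤ k → k < 79135 → chk (k * 22) = true := between_extend chk 22 0 79100 35 (u2259) r2260
theorem u2261 : ∀ k, 0 ≤ k → k < 79170 → chk (k * 22) = true := between_extend chk 22 0 79135 35 (u2260) r2261
theorem u2262 : ∀ k, 0 ≤ k → k < 79205 → chk (k * 22) = true := between_extend chk 22 0 79170 35 (u2261) r2262
theorem u2263 : ∀ k, 0 ≤ k → k < 79240 → chk (k * 22) = true := between_extend chk 22 0 79205 35 (u2262) r2263
theorem u2264 : ∀ k, 0 ≤ k → k < 79275 → chk (k * 22) = true := between_extend chk 22 0 79240 35 (u2263) r2264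
theorem u2265 : ∀ k, 0 ≤ k → k < 79310 → chk (k * 22) = true := between_extend chk 22 0 79275 35 (u2264) r2265
theorem u2266 : ∀ k, 0 ≤ k → k < 79345 → chk (k * 22) = true := between_extend chk 22 0 79310 35 (u2265) r2266
theorem u2267 : ∀ k, 0 ≤ k → k < 79380 → chk (k * 22) = true := between_extend chk 22 0 79345 35 (u2266) r2267
theorem u2268 : ∀ k, 0 ≤ k → k < 79415 → chk (k * 22) = true := between_extend chk 22 0 79380 35 (u2267) r2268
theorem u2269 : ∀ k, 0 ≤ k → k < 79450 → chk (k * 22) = true := between_extend chk 22 0 79415 35 (u2268) r2269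
theorem u2270 : ∀ k, 0 ≤ k → k < 79485 → chk (k * 22) = true := between_extend chk 22 0 79450 35 (u2269) r2270
theorem u2271 : ∀ k, 0 ≤ k → k < 79520 → chk (k * 22) = true := between_extend chk 22 0 79485 35 (u2270) r2271
theorem u2272 : ∀ k, 0 ≤ k → k < 79555 → chk (k * 22) = true := between_extend chk 22 0 79520 35 (u2271) r2272
theorem u2273 : ∀ k, 0 ≤ k → k < 79590 → chk (k * 22) = true := between_extend chk 22 0 79555 35 (u2272) r2273
theorem u2274 : ∀ k, 0 ≤ k → k < 79625 → chk (k * 22) = true := between_extend chk 22 0 79590 35 (u2273) r2274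
theorem u2275 : ∀ k, 0 ≤ k → k < 79660 → chk (k * 22) = true := between_extend chk 22 0 79625 35 (u2274) r2275
theorem u2276 : ∀ k, 0 ≤ k → k < 79695 → chk (k * 22) = true := between_extend chk 22 0 79660 35 (u2275) r2276
theorem u2277 : ∀ k, 0 ≤ k → k < 79730 → chk (k * 22) = true := between_extend chk 22 0 79695 35 (u2276) r2277
theorem u2278 : ∀ k, 0 ≤ k → k < 79765 → chk (k * 22) = true := between_extend chk 22 0 79730 35 (u2277) r2278
theorem u2279 : ∀ k, 0 ≤ k → k < 79800 → chk (k * 22) = true := between_extend chk 22 0 79765 35 (u2278) r2279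
theorem u2280 : ∀ k, 0 ≤ k → k < 79835 → chk (k * 22) = true := between_extend chk 22 0 79800 35 (u2279) r2280
theorem u2281 : ∀ k, 0 ≤ k → k < 79870 → chk (k * 22) = true := between_extend chk 22 0 79835 35 (u2280) r2281
theorem u2282 : ∀ k, 0 ≤ k → k < 79905 → chk (k * 22) = true := between_extend chk 22 0 79870 35 (u2281) r2282
theorem u2283 : ∀ k, 0 ≤ k → k < 79940 → chk (k * 22) = true := between_extend chk 22 0 79905 35 (u2282) r2283
theorem u2284 : ∀ k, 0 ≤ k → k < 79975 → chk (k * 22) = true := between_extend chk 22 0 79940 35 (u2283) r2284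
theorem u2285 : ∀ k, 0 ≤ k → k < 80010 → chk (k * 22) = true := between_extend chk 22 0 79975 35 (u2284) r2285
theorem u2286 : ∀ k, 0 ≤ k → k < 80045 → chk (k * 22) = true := between_extend chk 22 0 80010 35 (u2285) r2286
theorem u2287 : ∀ k, 0 ≤ k → k < 80080 → chk (k * 22) = true := between_extend chk 22 0 80045 35 (u2286) r2287
theorem u2288 : ∀ k, 0 ≤ k → k < 80115 → chk (k * 22) = true := between_extend chk 22 0 80080 35 (u2287) r2288
theorem u2289 : ∀ k, 0 ≤ k → k < 80150 → chk (k * 22) = true := between_extend chk 22 0 80115 35 (u2288) r2289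
theorem u2290 : ∀ k, 0 ≤ k → k < 80185 → chk (k * 22) = true := between_extend chk 22 0 80150 35 (u2289) r2290
theorem u2291 : ∀ k, 0 ≤ k → k < 80220 → chk (k * 22) = true := between_extend chk 22 0 80185 35 (u2290) r2291
theorem u2292 : ∀ k, 0 ≤ k → k < 80255 → chk (k * 22) = true := between_extend chk 22 0 80220 35 (u2291) r2292
theorem u2293 : ∀ k, 0 ≤ k → k < 80290 → chk (k * 22) = true := between_extend chk 22 0 80255 35 (u2292) r2293
theorem u2294 : ∀ k, 0 ≤ k → k < 80325 → chk (k * 22) = true := between_extend chk 22 0 80290 35 (u2293) r2294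
theorem u2295 : ∀ k, 0 ≤ k → k < 80360 → chk (k * 22) = true := between_extend chk 22 0 80325 35 (u2294) r2295
theorem u2296 : ∀ k, 0 ≤ k → k < 80395 → chk (k * 22) = true := between_extend chk 22 0 80360 35 (u2295) r2296
theorem u2297 : ∀ k, 0 ≤ k → k < 80430 → chk (k * 22) = true := between_extend chk 22 0 80395 35 (u2296) r2297
theorem u2298 : ∀ k, 0 ≤ k → k < 80465 → chk (k * 22) = true := between_extend chk 22 0 80430 35 (u2297) r2298
theorem u2299 : ∀ k, 0 ≤ k → k < 80500 → chk (k * 22) = true := between_extend chk 22 0 80465 35 (u2298) r2299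
theorem u2300 : ∀ k, 0 ≤ k → k < 80535 → chk (k * 22) = true := between_extend chk 22 0 80500 35 (u2299) r2300
theorem u2301 : ∀ k, 0 ≤ k → k < 80570 → chk (k * 22) = true := between_extend chk 22 0 80535 35 (u2300) r2301
theorem u2302 : ∀ k, 0 ≤ k → k < 80605 → chk (k * 22) = true := between_extend chk 22 0 80570 35 (u2301) r2302
theorem u2303 : ∀ k, 0 ≤ k → k < 80640 → chk (k * 22) = true := between_extend chk 22 0 80605 35 (u2302) r2303
theorem u2304 : ∀ k, 0 ≤ k → k < 80675 → chk (k * 22) = true := between_extend chk 22 0 80640 35 (u2303) r2304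
theorem u2305 : ∀ k, 0 ≤ k → k < 80710 → chk (k * 22) = true := between_extend chk 22 0 80675 35 (u2304) r2305
theorem u2306 : ∀ k, 0 ≤ k → k < 80745 → chk (k * 22) = true := between_extend chk 22 0 80710 35 (u2305) r2306
theorem u2307 : ∀ k, 0 ≤ k → k < 80780 → chk (k * 22) = true := between_extend chk 22 0 80745 35 (u2306) r2307
theorem u2308 : ∀ k, 0 ≤ k → k < 80815 → chk (k * 22) = true := between_extend chk 22 0 80780 35 (u2307) r2308
theorem u2309 : ∀ k, 0 ≤ k → k < 80850 → chk (k * 22) = true := between_extend chk 22 0 80815 35 (u2308) r2309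
theorem u2310 : ∀ k, 0 ≤ k → k < 80885 → chk (k * 22) = true := between_extend chk 22 0 80850 35 (u2309) r2310
theorem u2311 : ∀ k, 0 ≤ k → k < 80920 → chk (k * 22) = true := between_extend chk 22 0 80885 35 (u2310) r2311
theorem u2312 : ∀ k, 0 ≤ k → k < 80955 → chk (k * 22) = true := between_extend chk 22 0 80920 35 (u2311) r2312
theorem u2313 : ∀ k, 0 ≤ k → k < 80990 → chk (k * 22) = true := between_extend chk 22 0 80955 35 (u2312) r2313
theorem u2314 : ∀ k, 0 ≤ k → k < 81025 → chk (k * 22) = true := between_extend chk 22 0 80990 35 (u2313) r2314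
theorem u2315 : ∀ k, 0 ≤ k → k < 81060 → chk (k * 22) = true := between_extend chk 22 0 81025 35 (u2314) r2315
theorem u2316 : ∀ k, 0 ≤ k → k < 81095 → chk (k * 22) = true := between_extend chk 22 0 81060 35 (u2315) r2316
theorem u2317 : ∀ k, 0 ≤ k → k < 81130 → chk (k * 22) = true := between_extend chk 22 0 81095 35 (u2316) r2317
theorem u2318 : ∀ k, 0 ≤ k → k < 81165 → chk (k * 22) = true := between_extend chk 22 0 81130 35 (u2317) r2318
theorem u2319 : ∀ k, 0 ≤ k → k < 81200 → chk (k * 22) = true := between_extend chk 22 0 81165 35 (u2318) r2319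
theorem u2320 : ∀ k, 0 ≤ k → k < 81235 → chk (k * 22) = true := between_extend chk 22 0 81200 35 (u2319) r2320
theorem u2321 : ∀ k, 0 ≤ k → k < 81270 → chk (k * 22) = true := between_extend chk 22 0 81235 35 (u2320) r2321
theorem u2322 : ∀ k, 0 ≤ k → k < 81305 → chk (k * 22) = true := between_extend chk 22 0 81270 35 (u2321) r2322
theorem u2323 : ∀ k, 0 ≤ k → k < 81340 → chk (k * 22) = true := between_extend chk 22 0 81305 35 (u2322) r2323
theorem u2324 : ∀ k, 0 ≤ k → k < 81375 → chk (k * 22) = true := between_extend chk 22 0 81340 35 (u2323) r2324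
theorem u2325 : ∀ k, 0 ≤ k → k < 81410 → chk (k * 22) = true := between_extend chk 22 0 81375 35 (u2324) r2325
theorem u2326 : ∀ k, 0 ≤ k → k < 81445 → chk (k * 22) = true := between_extend chk 22 0 81410 35 (u2325) r2326
theorem u2327 : ∀ k, 0 ≤ k → k < 81480 → chk (k * 22) = true := between_extend chk 22 0 81445 35 (u2326) r2327
theorem u2328 : ∀ k, 0 ≤ k → k < 81515 → chk (k * 22) = true := between_extend chk 22 0 81480 35 (u2327) r2328
theorem u2329 : ∀ k, 0 ≤ k → k < 81550 → chk (k * 22) = true := between_extend chk 22 0 81515 35 (u2328) r2329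
theorem u2330 : ∀ k, 0 ≤ k → k < 81585 → chk (k * 22) = true := between_extend chk 22 0 81550 35 (u2329) r2330
theorem u2331 : ∀ k, 0 ≤ k → k < 81620 → chk (k * 22) = true := between_extend chk 22 0 81585 35 (u2330) r2331
theorem u2332 : ∀ k, 0 ≤ k → k < 81655 → chk (k * 22) = true := between_extend chk 22 0 81620 35 (u2331) r2332
theorem u2333 : ∀ k, 0 ≤ k → k < 81690 → chk (k * 22) = true := between_extend chk 22 0 81655 35 (u2332) r2333
theorem u2334 : ∀ k, 0 ≤ k → k < 81725 → chk (k * 22) = true := between_extend chk 22 0 81690 35 (u2333) r2334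
theorem u2335 : ∀ k, 0 ≤ k → k < 81760 → chk (k * 22) = true := between_extend chk 22 0 81725 35 (u2334) r2335
theorem u2336 : ∀ k, 0 ≤ k → k < 81795 → chk (k * 22) = true := between_extend chk 22 0 81760 35 (u2335) r2336
theorem u2337 : ∀ k, 0 ≤ k → k < 81830 → chk (k * 22) = true := between_extend chk 22 0 81795 35 (u2336) r2337
theorem u2338 : ∀ k, 0 ≤ k → k < 81865 → chk (k * 22) = true := between_extend chk 22 0 81830 35 (u2337) r2338
theorem u2339 : ∀ k, 0 ≤ k → k < 81900 → chk (k * 22) = true := between_extend chk 22 0 81865 35 (u2338) r2339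
theorem u2340 : ∀ k, 0 ≤ k → k < 81935 → chk (k * 22) = true := between_extend chk 22 0 81900 35 (u2339) r2340
theorem u2341 : ∀ k, 0 ≤ k → k < 81970 → chk (k * 22) = true := between_extend chk 22 0 81935 35 (u2340) r2341
theorem u2342 : ∀ k, 0 ≤ k → k < 82005 → chk (k * 22) = true := between_extend chk 22 0 81970 35 (u2341) r2342
theorem u2343 : ∀ k, 0 ≤ k → k < 82040 → chk (k * 22) = true := between_extend chk 22 0 82005 35 (u2342) r2343
theorem u2344 : ∀ k, 0 ≤ k → k < 82075 → chk (k * 22) = true := between_extend chk 22 0 82040 35 (u2343) r2344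
theorem u2345 : ∀ k, 0 ≤ k → k < 82110 → chk (k * 22) = true := between_extend chk 22 0 82075 35 (u2344) r2345
theorem u2346 : ∀ k, 0 ≤ k → k < 82145 → chk (k * 22) = true := between_extend chk 22 0 82110 35 (u2345) r2346
theorem u2347 : ∀ k, 0 ≤ k → k < 82180 → chk (k * 22) = true := between_extend chk 22 0 82145 35 (u2346) r2347
theorem u2348 : ∀ k, 0 ≤ k → k < 82215 → chk (k * 22) = true := between_extend chk 22 0 82180 35 (u2347) r2348
theorem u2349 : ∀ k, 0 ≤ k → k < 82250 → chk (k * 22) = true := between_extend chk 22 0 82215 35 (u2348) r2349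
theorem u2350 : ∀ k, 0 ≤ k → k < 82285 → chk (k * 22) = true := between_extend chk 22 0 82250 35 (u2349) r2350
theorem u2351 : ∀ k, 0 ≤ k → k < 82320 → chk (k * 22) = true := between_extend chk 22 0 82285 35 (u2350) r2351
theorem u2352 : ∀ k, 0 ≤ k → k < 82355 → chk (k * 22) = true := between_extend chk 22 0 82320 35 (u2351) r2352
theorem u2353 : ∀ k, 0 ≤ k → k < 82390 → chk (k * 22) = true := between_extend chk 22 0 82355 35 (u2352) r2353
theorem u2354 : ∀ k, 0 ≤ k → k < 82425 → chk (k * 22) = true := between_extend chk 22 0 82390 35 (u2353) r2354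
theorem u2355 : ∀ k, 0 ≤ k → k < 82460 → chk (k * 22) = true := between_extend chk 22 0 82425 35 (u2354) r2355
theorem u2356 : ∀ k, 0 ≤ k → k < 82495 → chk (k * 22) = true := between_extend chk 22 0 82460 35 (u2355) r2356
theorem u2357 : ∀ k, 0 ≤ k → k < 82530 → chk (k * 22) = true := between_extend chk 22 0 82495 35 (u2356) r2357
theorem u2358 : ∀ k, 0 ≤ k → k < 82565 → chk (k * 22) = true := between_extend chk 22 0 82530 35 (u2357) r2358
theorem u2359 : ∀ k, 0 ≤ k → k < 82600 → chk (k * 22) = true := between_extend chk 22 0 82565 35 (u2358) r2359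
theorem u2360 : ∀ k, 0 ≤ k → k < 82635 → chk (k * 22) = true := between_extend chk 22 0 82600 35 (u2359) r2360
theorem u2361 : ∀ k, 0 ≤ k → k < 82670 → chk (k * 22) = true := between_extend chk 22 0 82635 35 (u2360) r2361
theorem u2362 : ∀ k, 0 ≤ k → k < 82705 → chk (k * 22) = true := between_extend chk 22 0 82670 35 (u2361) r2362
theorem u2363 : ∀ k, 0 ≤ k → k < 82740 → chk (k * 22) = true := between_extend chk 22 0 82705 35 (u2362) r2363
theorem u2364 : ∀ k, 0 ≤ k → k < 82775 → chk (k * 22) = true := between_extend chk 22 0 82740 35 (u2363) r2364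
theorem u2365 : ∀ k, 0 ≤ k → k < 82810 → chk (k * 22) = true := between_extend chk 22 0 82775 35 (u2364) r2365
theorem u2366 : ∀ k, 0 ≤ k → k < 82845 → chk (k * 22) = true := between_extend chk 22 0 82810 35 (u2365) r2366
theorem u2367 : ∀ k, 0 ≤ k → k < 82880 → chk (k * 22) = true := between_extend chk 22 0 82845 35 (u2366) r2367
theorem u2368 : ∀ k, 0 ≤ k → k < 82915 → chk (k * 22) = true := between_extend chk 22 0 82880 35 (u2367) r2368
theorem u2369 : ∀ k, 0 ≤ k → k < 82950 → chk (k * 22) = true := between_extend chk 22 0 82915 35 (u2368) r2369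
theorem u2370 : ∀ k, 0 ≤ k → k < 82985 → chk (k * 22) = true := between_extend chk 22 0 82950 35 (u2369) r2370
theorem u2371 : ∀ k, 0 ≤ k → k < 83020 → chk (k * 22) = true := between_extend chk 22 0 82985 35 (u2370) r2371
theorem u2372 : ∀ k, 0 ≤ k → k < 83055 → chk (k * 22) = true := between_extend chk 22 0 83020 35 (u2371) r2372
theorem u2373 : ∀ k, 0 ≤ k → k < 83090 → chk (k * 22) = true := between_extend chk 22 0 83055 35 (u2372) r2373
theorem u2374 : ∀ k, 0 ≤ k → k < 83125 → chk (k * 22) = true := between_extend chk 22 0 83090 35 (u2373) r2374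
theorem u2375 : ∀ k, 0 ≤ k → k < 83160 → chk (k * 22) = true := between_extend chk 22 0 83125 35 (u2374) r2375
theorem u2376 : ∀ k, 0 ≤ k → k < 83195 → chk (k * 22) = true := between_extend chk 22 0 83160 35 (u2375) r2376
theorem u2377 : ∀ k, 0 ≤ k → k < 83230 → chk (k * 22) = true := between_extend chk 22 0 83195 35 (u2376) r2377
theorem u2378 : ∀ k, 0 ≤ k → k < 83265 → chk (k * 22) = true := between_extend chk 22 0 83230 35 (u2377) r2378
theorem u2379 : ∀ k, 0 ≤ k → k < 83300 → chk (k * 22) = true := between_extend chk 22 0 83265 35 (u2378) r2379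
theorem u2380 : ∀ k, 0 ≤ k → k < 83335 → chk (k * 22) = true := between_extend chk 22 0 83300 35 (u2379) r2380
theorem u2381 : ∀ k, 0 ≤ k → k < 83370 → chk (k * 22) = true := between_extend chk 22 0 83335 35 (u2380) r2381
theorem u2382 : ∀ k, 0 ≤ k → k < 83405 → chk (k * 22) = true := between_extend chk 22 0 83370 35 (u2381) r2382
theorem u2383 : ∀ k, 0 ≤ k → k < 83440 → chk (k * 22) = true := between_extend chk 22 0 83405 35 (u2382) r2383
theorem u2384 : ∀ k, 0 ≤ k → k < 83475 → chk (k * 22) = true := between_extend chk 22 0 83440 35 (u2383) r2384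
theorem u2385 : ∀ k, 0 ≤ k → k < 83510 → chk (k * 22) = true := between_extend chk 22 0 83475 35 (u2384) r2385
theorem u2386 : ∀ k, 0 ≤ k → k < 83545 → chk (k * 22) = true := between_extend chk 22 0 83510 35 (u2385) r2386
theorem u2387 : ∀ k, 0 ≤ k → k < 83580 → chk (k * 22) = true := between_extend chk 22 0 83545 35 (u2386) r2387
theorem u2388 : ∀ k, 0 ≤ k → k < 83615 → chk (k * 22) = true := between_extend chk 22 0 83580 35 (u2387) r2388
theorem u2389 : ∀ k, 0 ≤ k → k < 83650 → chk (k * 22) = true := between_extend chk 22 0 83615 35 (u2388) r2389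
theorem u2390 : ∀ k, 0 ≤ k → k < 83685 → chk (k * 22) = true := between_extend chk 22 0 83650 35 (u2389) r2390
theorem u2391 : ∀ k, 0 ≤ k → k < 83720 → chk (k * 22) = true := between_extend chk 22 0 83685 35 (u2390) r2391
theorem u2392 : ∀ k, 0 ≤ k → k < 83755 → chk (k * 22) = true := between_extend chk 22 0 83720 35 (u2391) r2392
theorem u2393 : ∀ k, 0 ≤ k → k < 83790 → chk (k * 22) = true := between_extend chk 22 0 83755 35 (u2392) r2393
theorem u2394 : ∀ k, 0 ≤ k → k < 83825 → chk (k * 22) = true := between_extend chk 22 0 83790 35 (u2393) r2394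
theorem u2395 : ∀ k, 0 ≤ k → k < 83860 → chk (k * 22) = true := between_extend chk 22 0 83825 35 (u2394) r2395
theorem u2396 : ∀ k, 0 ≤ k → k < 83895 → chk (k * 22) = true := between_extend chk 22 0 83860 35 (u2395) r2396
theorem u2397 : ∀ k, 0 ≤ k → k < 83930 → chk (k * 22) = true := between_extend chk 22 0 83895 35 (u2396) r2397
theorem u2398 : ∀ k, 0 ≤ k → k < 83965 → chk (k * 22) = true := between_extend chk 22 0 83930 35 (u2397) r2398
theorem u2399 : ∀ k, 0 ≤ k → k < 84000 → chk (k * 22) = true := between_extend chk 22 0 83965 35 (u2398) r2399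
theorem u2400 : ∀ k, 0 ≤ k → k < 84035 → chk (k * 22) = true := between_extend chk 22 0 84000 35 (u2399) r2400
theorem u2401 : ∀ k, 0 ≤ k → k < 84070 → chk (k * 22) = true := between_extend chk 22 0 84035 35 (u2400) r2401
theorem u2402 : ∀ k, 0 ≤ k → k < 84105 → chk (k * 22) = true := between_extend chk 22 0 84070 35 (u2401) r2402
theorem u2403 : ∀ k, 0 ≤ k → k < 84140 → chk (k * 22) = true := between_extend chk 22 0 84105 35 (u2402) r2403
theorem u2404 : ∀ k, 0 ≤ k → k < 84175 → chk (k * 22) = true := between_extend chk 22 0 84140 35 (u2403) r2404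
theorem u2405 : ∀ k, 0 ≤ k → k < 84210 → chk (k * 22) = true := between_extend chk 22 0 84175 35 (u2404) r2405
theorem u2406 : ∀ k, 0 ≤ k → k < 84245 → chk (k * 22) = true := between_extend chk 22 0 84210 35 (u2405) r2406
theorem u2407 : ∀ k, 0 ≤ k → k < 84280 → chk (k * 22) = true := between_extend chk 22 0 84245 35 (u2406) r2407
theorem u2408 : ∀ k, 0 ≤ k → k < 84315 → chk (k * 22) = true := between_extend chk 22 0 84280 35 (u2407) r2408
theorem u2409 : ∀ k, 0 ≤ k → k < 84350 → chk (k * 22) = true := between_extend chk 22 0 84315 35 (u2408) r2409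
theorem u2410 : ∀ k, 0 ≤ k → k < 84385 → chk (k * 22) = true := between_extend chk 22 0 84350 35 (u2409) r2410
theorem u2411 : ∀ k, 0 ≤ k → k < 84420 → chk (k * 22) = true := between_extend chk 22 0 84385 35 (u2410) r2411
theorem u2412 : ∀ k, 0 ≤ k → k < 84455 → chk (k * 22) = true := between_extend chk 22 0 84420 35 (u2411) r2412
theorem u2413 : ∀ k, 0 ≤ k → k < 84490 → chk (k * 22) = true := between_extend chk 22 0 84455 35 (u2412) r2413
theorem u2414 : ∀ k, 0 ≤ k → k < 84525 → chk (k * 22) = true := between_extend chk 22 0 84490 35 (u2413) r2414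
theorem u2415 : ∀ k, 0 ≤ k → k < 84560 → chk (k * 22) = true := between_extend chk 22 0 84525 35 (u2414) r2415
theorem u2416 : ∀ k, 0 ≤ k → k < 84595 → chk (k * 22) = true := between_extend chk 22 0 84560 35 (u2415) r2416
theorem u2417 : ∀ k, 0 ≤ k → k < 84630 → chk (k * 22) = true := between_extend chk 22 0 84595 35 (u2416) r2417
theorem u2418 : ∀ k, 0 ≤ k → k < 84665 → chk (k * 22) = true := between_extend chk 22 0 84630 35 (u2417) r2418
theorem u2419 : ∀ k, 0 ≤ k → k < 84700 → chk (k * 22) = true := between_extend chk 22 0 84665 35 (u2418) r2419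
theorem u2420 : ∀ k, 0 ≤ k → k < 84735 → chk (k * 22) = true := between_extend chk 22 0 84700 35 (u2419) r2420
theorem u2421 : ∀ k, 0 ≤ k → k < 84770 → chk (k * 22) = true := between_extend chk 22 0 84735 35 (u2420) r2421
theorem u2422 : ∀ k, 0 ≤ k → k < 84805 → chk (k * 22) = true := between_extend chk 22 0 84770 35 (u2421) r2422
theorem u2423 : ∀ k, 0 ≤ k → k < 84840 → chk (k * 22) = true := between_extend chk 22 0 84805 35 (u2422) r2423
theorem u2424 : ∀ k, 0 ≤ k → k < 84875 → chk (k * 22) = true := between_extend chk 22 0 84840 35 (u2423) r2424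
theorem u2425 : ∀ k, 0 ≤ k → k < 84910 → chk (k * 22) = true := between_extend chk 22 0 84875 35 (u2424) r2425
theorem u2426 : ∀ k, 0 ≤ k → k < 84945 → chk (k * 22) = true := between_extend chk 22 0 84910 35 (u2425) r2426
theorem u2427 : ∀ k, 0 ≤ k → k < 84980 → chk (k * 22) = true := between_extend chk 22 0 84945 35 (u2426) r2427
theorem u2428 : ∀ k, 0 ≤ k → k < 85015 → chk (k * 22) = true := between_extend chk 22 0 84980 35 (u2427) r2428
theorem u2429 : ∀ k, 0 ≤ k → k < 85050 → chk (k * 22) = true := between_extend chk 22 0 85015 35 (u2428) r2429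
theorem u2430 : ∀ k, 0 ≤ k → k < 85085 → chk (k * 22) = true := between_extend chk 22 0 85050 35 (u2429) r2430
theorem u2431 : ∀ k, 0 ≤ k → k < 85120 → chk (k * 22) = true := between_extend chk 22 0 85085 35 (u2430) r2431
theorem u2432 : ∀ k, 0 ≤ k → k < 85155 → chk (k * 22) = true := between_extend chk 22 0 85120 35 (u2431) r2432
theorem u2433 : ∀ k, 0 ≤ k → k < 85190 → chk (k * 22) = true := between_extend chk 22 0 85155 35 (u2432) r2433
theorem u2434 : ∀ k, 0 ≤ k → k < 85225 → chk (k * 22) = true := between_extend chk 22 0 85190 35 (u2433) r2434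
theorem u2435 : ∀ k, 0 ≤ k → k < 85260 → chk (k * 22) = true := between_extend chk 22 0 85225 35 (u2434) r2435
theorem u2436 : ∀ k, 0 ≤ k → k < 85295 → chk (k * 22) = true := between_extend chk 22 0 85260 35 (u2435) r2436
theorem u2437 : ∀ k, 0 ≤ k → k < 85330 → chk (k * 22) = true := between_extend chk 22 0 85295 35 (u2436) r2437
theorem u2438 : ∀ k, 0 ≤ k → k < 85365 → chk (k * 22) = true := between_extend chk 22 0 85330 35 (u2437) r2438
theorem u2439 : ∀ k, 0 ≤ k → k < 85400 → chk (k * 22) = true := between_extend chk 22 0 85365 35 (u2438) r2439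
theorem u2440 : ∀ k, 0 ≤ k → k < 85435 → chk (k * 22) = true := between_extend chk 22 0 85400 35 (u2439) r2440
theorem u2441 : ∀ k, 0 ≤ k → k < 85470 → chk (k * 22) = true := between_extend chk 22 0 85435 35 (u2440) r2441
theorem u2442 : ∀ k, 0 ≤ k → k < 85505 → chk (k * 22) = true := between_extend chk 22 0 85470 35 (u2441) r2442
theorem u2443 : ∀ k, 0 ≤ k → k < 85540 → chk (k * 22) = true := between_extend chk 22 0 85505 35 (u2442) r2443
theorem u2444 : ∀ k, 0 ≤ k → k < 85575 → chk (k * 22) = true := between_extend chk 22 0 85540 35 (u2443) r2444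
theorem u2445 : ∀ k, 0 ≤ k → k < 85610 → chk (k * 22) = true := between_extend chk 22 0 85575 35 (u2444) r2445
theorem u2446 : ∀ k, 0 ≤ k → k < 85645 → chk (k * 22) = true := between_extend chk 22 0 85610 35 (u2445) r2446
theorem u2447 : ∀ k, 0 ≤ k → k < 85680 → chk (k * 22) = true := between_extend chk 22 0 85645 35 (u2446) r2447
theorem u2448 : ∀ k, 0 ≤ k → k < 85715 → chk (k * 22) = true := between_extend chk 22 0 85680 35 (u2447) r2448
theorem u2449 : ∀ k, 0 ≤ k → k < 85750 → chk (k * 22) = true := between_extend chk 22 0 85715 35 (u2448) r2449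
theorem u2450 : ∀ k, 0 ≤ k → k < 85785 → chk (k * 22) = true := between_extend chk 22 0 85750 35 (u2449) r2450
theorem u2451 : ∀ k, 0 ≤ k → k < 85820 → chk (k * 22) = true := between_extend chk 22 0 85785 35 (u2450) r2451
theorem u2452 : ∀ k, 0 ≤ k → k < 85855 → chk (k * 22) = true := between_extend chk 22 0 85820 35 (u2451) r2452
theorem u2453 : ∀ k, 0 ≤ k → k < 85890 → chk (k * 22) = true := between_extend chk 22 0 85855 35 (u2452) r2453
theorem u2454 : ∀ k, 0 ≤ k → k < 85925 → chk (k * 22) = true := between_extend chk 22 0 85890 35 (u2453) r2454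
theorem u2455 : ∀ k, 0 ≤ k → k < 85960 → chk (k * 22) = true := between_extend chk 22 0 85925 35 (u2454) r2455
theorem u2456 : ∀ k, 0 ≤ k → k < 85995 → chk (k * 22) = true := between_extend chk 22 0 85960 35 (u2455) r2456
theorem u2457 : ∀ k, 0 ≤ k → k < 86030 → chk (k * 22) = true := between_extend chk 22 0 85995 35 (u2456) r2457
theorem u2458 : ∀ k, 0 ≤ k → k < 86065 → chk (k * 22) = true := between_extend chk 22 0 86030 35 (u2457) r2458
theorem u2459 : ∀ k, 0 ≤ k → k < 86100 → chk (k * 22) = true := between_extend chk 22 0 86065 35 (u2458) r2459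
theorem u2460 : ∀ k, 0 ≤ k → k < 86135 → chk (k * 22) = true := between_extend chk 22 0 86100 35 (u2459) r2460
theorem u2461 : ∀ k, 0 ≤ k → k < 86170 → chk (k * 22) = true := between_extend chk 22 0 86135 35 (u2460) r2461
theorem u2462 : ∀ k, 0 ≤ k → k < 86205 → chk (k * 22) = true := between_extend chk 22 0 86170 35 (u2461) r2462
theorem u2463 : ∀ k, 0 ≤ k → k < 86240 → chk (k * 22) = true := between_extend chk 22 0 86205 35 (u2462) r2463
theorem u2464 : ∀ k, 0 ≤ k → k < 86275 → chk (k * 22) = true := between_extend chk 22 0 86240 35 (u2463) r2464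
theorem u2465 : ∀ k, 0 ≤ k → k < 86310 → chk (k * 22) = true := between_extend chk 22 0 86275 35 (u2464) r2465
theorem u2466 : ∀ k, 0 ≤ k → k < 86345 → chk (k * 22) = true := between_extend chk 22 0 86310 35 (u2465) r2466
theorem u2467 : ∀ k, 0 ≤ k → k < 86380 → chk (k * 22) = true := between_extend chk 22 0 86345 35 (u2466) r2467
theorem u2468 : ∀ k, 0 ≤ k → k < 86415 → chk (k * 22) = true := between_extend chk 22 0 86380 35 (u2467) r2468
theorem u2469 : ∀ k, 0 ≤ k → k < 86450 → chk (k * 22) = true := between_extend chk 22 0 86415 35 (u2468) r2469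
theorem u2470 : ∀ k, 0 ≤ k → k < 86485 → chk (k * 22) = true := between_extend chk 22 0 86450 35 (u2469) r2470
theorem u2471 : ∀ k, 0 ≤ k → k < 86520 → chk (k * 22) = true := between_extend chk 22 0 86485 35 (u2470) r2471
theorem u2472 : ∀ k, 0 ≤ k → k < 86555 → chk (k * 22) = true := between_extend chk 22 0 86520 35 (u2471) r2472
theorem u2473 : ∀ k, 0 ≤ k → k < 86590 → chk (k * 22) = true := between_extend chk 22 0 86555 35 (u2472) r2473
theorem u2474 : ∀ k, 0 ≤ k → k < 86625 → chk (k * 22) = true := between_extend chk 22 0 86590 35 (u2473) r2474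
theorem u2475 : ∀ k, 0 ≤ k → k < 86660 → chk (k * 22) = true := between_extend chk 22 0 86625 35 (u2474) r2475
theorem u2476 : ∀ k, 0 ≤ k → k < 86695 → chk (k * 22) = true := between_extend chk 22 0 86660 35 (u2475) r2476
theorem u2477 : ∀ k, 0 ≤ k → k < 86730 → chk (k * 22) = true := between_extend chk 22 0 86695 35 (u2476) r2477
theorem u2478 : ∀ k, 0 ≤ k → k < 86765 → chk (k * 22) = true := between_extend chk 22 0 86730 35 (u2477) r2478
theorem u2479 : ∀ k, 0 ≤ k → k < 86800 → chk (k * 22) = true := between_extend chk 22 0 86765 35 (u2478) r2479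
theorem u2480 : ∀ k, 0 ≤ k → k < 86835 → chk (k * 22) = true := between_extend chk 22 0 86800 35 (u2479) r2480
theorem u2481 : ∀ k, 0 ≤ k → k < 86870 → chk (k * 22) = true := between_extend chk 22 0 86835 35 (u2480) r2481
theorem u2482 : ∀ k, 0 ≤ k → k < 86905 → chk (k * 22) = true := between_extend chk 22 0 86870 35 (u2481) r2482
theorem u2483 : ∀ k, 0 ≤ k → k < 86940 → chk (k * 22) = true := between_extend chk 22 0 86905 35 (u2482) r2483
theorem u2484 : ∀ k, 0 ≤ k → k < 86975 → chk (k * 22) = true := between_extend chk 22 0 86940 35 (u2483) r2484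
theorem u2485 : ∀ k, 0 ≤ k → k < 87010 → chk (k * 22) = true := between_extend chk 22 0 86975 35 (u2484) r2485
theorem u2486 : ∀ k, 0 ≤ k → k < 87045 → chk (k * 22) = true := between_extend chk 22 0 87010 35 (u2485) r2486
theorem u2487 : ∀ k, 0 ≤ k → k < 87080 → chk (k * 22) = true := between_extend chk 22 0 87045 35 (u2486) r2487
theorem u2488 : ∀ k, 0 ≤ k → k < 87115 → chk (k * 22) = true := between_extend chk 22 0 87080 35 (u2487) r2488
theorem u2489 : ∀ k, 0 ≤ k → k < 87150 → chk (k * 22) = true := between_extend chk 22 0 87115 35 (u2488) r2489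
theorem u2490 : ∀ k, 0 ≤ k → k < 87185 → chk (k * 22) = true := between_extend chk 22 0 87150 35 (u2489) r2490
theorem u2491 : ∀ k, 0 ≤ k → k < 87220 → chk (k * 22) = true := between_extend chk 22 0 87185 35 (u2490) r2491
theorem u2492 : ∀ k, 0 ≤ k → k < 87255 → chk (k * 22) = true := between_extend chk 22 0 87220 35 (u2491) r2492
theorem u2493 : ∀ k, 0 ≤ k → k < 87290 → chk (k * 22) = true := between_extend chk 22 0 87255 35 (u2492) r2493
theorem u2494 : ∀ k, 0 ≤ k → k < 87325 → chk (k * 22) = true := between_extend chk 22 0 87290 35 (u2493) r2494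
theorem u2495 : ∀ k, 0 ≤ k → k < 87360 → chk (k * 22) = true := between_extend chk 22 0 87325 35 (u2494) r2495
theorem u2496 : ∀ k, 0 ≤ k → k < 87395 → chk (k * 22) = true := between_extend chk 22 0 87360 35 (u2495) r2496
theorem u2497 : ∀ k, 0 ≤ k → k < 87430 → chk (k * 22) = true := between_extend chk 22 0 87395 35 (u2496) r2497
theorem u2498 : ∀ k, 0 ≤ k → k < 87465 → chk (k * 22) = true := between_extend chk 22 0 87430 35 (u2497) r2498
theorem u2499 : ∀ k, 0 ≤ k → k < 87500 → chk (k * 22) = true := between_extend chk 22 0 87465 35 (u2498) r2499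
theorem u2500 : ∀ k, 0 ≤ k → k < 87535 → chk (k * 22) = true := between_extend chk 22 0 87500 35 (u2499) r2500
theorem u2501 : ∀ k, 0 ≤ k → k < 87570 → chk (k * 22) = true := between_extend chk 22 0 87535 35 (u2500) r2501
theorem u2502 : ∀ k, 0 ≤ k → k < 87605 → chk (k * 22) = true := between_extend chk 22 0 87570 35 (u2501) r2502
theorem u2503 : ∀ k, 0 ≤ k → k < 87640 → chk (k * 22) = true := between_extend chk 22 0 87605 35 (u2502) r2503
theorem u2504 : ∀ k, 0 ≤ k → k < 87675 → chk (k * 22) = true := between_extend chk 22 0 87640 35 (u2503) r2504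
theorem u2505 : ∀ k, 0 ≤ k → k < 87710 → chk (k * 22) = true := between_extend chk 22 0 87675 35 (u2504) r2505
theorem u2506 : ∀ k, 0 ≤ k → k < 87745 → chk (k * 22) = true := between_extend chk 22 0 87710 35 (u2505) r2506
theorem u2507 : ∀ k, 0 ≤ k → k < 87780 → chk (k * 22) = true := between_extend chk 22 0 87745 35 (u2506) r2507
theorem u2508 : ∀ k, 0 ≤ k → k < 87815 → chk (k * 22) = true := between_extend chk 22 0 87780 35 (u2507) r2508
theorem u2509 : ∀ k, 0 ≤ k → k < 87850 → chk (k * 22) = true := between_extend chk 22 0 87815 35 (u2508) r2509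
theorem u2510 : ∀ k, 0 ≤ k → k < 87885 → chk (k * 22) = true := between_extend chk 22 0 87850 35 (u2509) r2510
theorem u2511 : ∀ k, 0 ≤ k → k < 87920 → chk (k * 22) = true := between_extend chk 22 0 87885 35 (u2510) r2511
theorem u2512 : ∀ k, 0 ≤ k → k < 87955 → chk (k * 22) = true := between_extend chk 22 0 87920 35 (u2511) r2512
theorem u2513 : ∀ k, 0 ≤ k → k < 87990 → chk (k * 22) = true := between_extend chk 22 0 87955 35 (u2512) r2513
theorem u2514 : ∀ k, 0 ≤ k → k < 88025 → chk (k * 22) = true := between_extend chk 22 0 87990 35 (u2513) r2514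
theorem u2515 : ∀ k, 0 ≤ k → k < 88060 → chk (k * 22) = true := between_extend chk 22 0 88025 35 (u2514) r2515
theorem u2516 : ∀ k, 0 ≤ k → k < 88095 → chk (k * 22) = true := between_extend chk 22 0 88060 35 (u2515) r2516
theorem u2517 : ∀ k, 0 ≤ k → k < 88130 → chk (k * 22) = true := between_extend chk 22 0 88095 35 (u2516) r2517
theorem u2518 : ∀ k, 0 ≤ k → k < 88165 → chk (k * 22) = true := between_extend chk 22 0 88130 35 (u2517) r2518
theorem u2519 : ∀ k, 0 ≤ k → k < 88200 → chk (k * 22) = true := between_extend chk 22 0 88165 35 (u2518) r2519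
theorem u2520 : ∀ k, 0 ≤ k → k < 88235 → chk (k * 22) = true := between_extend chk 22 0 88200 35 (u2519) r2520
theorem u2521 : ∀ k, 0 ≤ k → k < 88270 → chk (k * 22) = true := between_extend chk 22 0 88235 35 (u2520) r2521
theorem u2522 : ∀ k, 0 ≤ k → k < 88305 → chk (k * 22) = true := between_extend chk 22 0 88270 35 (u2521) r2522
theorem u2523 : ∀ k, 0 ≤ k → k < 88340 → chk (k * 22) = true := between_extend chk 22 0 88305 35 (u2522) r2523
theorem u2524 : ∀ k, 0 ≤ k → k < 88375 → chk (k * 22) = true := between_extend chk 22 0 88340 35 (u2523) r2524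
theorem u2525 : ∀ k, 0 ≤ k → k < 88410 → chk (k * 22) = true := between_extend chk 22 0 88375 35 (u2524) r2525
theorem u2526 : ∀ k, 0 ≤ k → k < 88445 → chk (k * 22) = true := between_extend chk 22 0 88410 35 (u2525) r2526
theorem u2527 : ∀ k, 0 ≤ k → k < 88480 → chk (k * 22) = true := between_extend chk 22 0 88445 35 (u2526) r2527
theorem u2528 : ∀ k, 0 ≤ k → k < 88515 → chk (k * 22) = true := between_extend chk 22 0 88480 35 (u2527) r2528
theorem u2529 : ∀ k, 0 ≤ k → k < 88550 → chk (k * 22) = true := between_extend chk 22 0 88515 35 (u2528) r2529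
theorem u2530 : ∀ k, 0 ≤ k → k < 88585 → chk (k * 22) = true := between_extend chk 22 0 88550 35 (u2529) r2530
theorem u2531 : ∀ k, 0 ≤ k → k < 88620 → chk (k * 22) = true := between_extend chk 22 0 88585 35 (u2530) r2531
theorem u2532 : ∀ k, 0 ≤ k → k < 88655 → chk (k * 22) = true := between_extend chk 22 0 88620 35 (u2531) r2532
theorem u2533 : ∀ k, 0 ≤ k → k < 88690 → chk (k * 22) = true := between_extend chk 22 0 88655 35 (u2532) r2533
theorem u2534 : ∀ k, 0 ≤ k → k < 88725 → chk (k * 22) = true := between_extend chk 22 0 88690 35 (u2533) r2534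
theorem u2535 : ∀ k, 0 ≤ k → k < 88760 → chk (k * 22) = true := between_extend chk 22 0 88725 35 (u2534) r2535
theorem u2536 : ∀ k, 0 ≤ k → k < 88795 → chk (k * 22) = true := between_extend chk 22 0 88760 35 (u2535) r2536
theorem u2537 : ∀ k, 0 ≤ k → k < 88830 → chk (k * 22) = true := between_extend chk 22 0 88795 35 (u2536) r2537
theorem u2538 : ∀ k, 0 ≤ k → k < 88865 → chk (k * 22) = true := between_extend chk 22 0 88830 35 (u2537) r2538
theorem u2539 : ∀ k, 0 ≤ k → k < 88900 → chk (k * 22) = true := between_extend chk 22 0 88865 35 (u2538) r2539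
theorem u2540 : ∀ k, 0 ≤ k → k < 88935 → chk (k * 22) = true := between_extend chk 22 0 88900 35 (u2539) r2540
theorem u2541 : ∀ k, 0 ≤ k → k < 88970 → chk (k * 22) = true := between_extend chk 22 0 88935 35 (u2540) r2541
theorem u2542 : ∀ k, 0 ≤ k → k < 89005 → chk (k * 22) = true := between_extend chk 22 0 88970 35 (u2541) r2542
theorem u2543 : ∀ k, 0 ≤ k → k < 89040 → chk (k * 22) = true := between_extend chk 22 0 89005 35 (u2542) r2543
theorem u2544 : ∀ k, 0 ≤ k → k < 89075 → chk (k * 22) = true := between_extend chk 22 0 89040 35 (u2543) r2544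
theorem u2545 : ∀ k, 0 ≤ k → k < 89110 → chk (k * 22) = true := between_extend chk 22 0 89075 35 (u2544) r2545
theorem u2546 : ∀ k, 0 ≤ k → k < 89145 → chk (k * 22) = true := between_extend chk 22 0 89110 35 (u2545) r2546
theorem u2547 : ∀ k, 0 ≤ k → k < 89180 → chk (k * 22) = true := between_extend chk 22 0 89145 35 (u2546) r2547
theorem u2548 : ∀ k, 0 ≤ k → k < 89215 → chk (k * 22) = true := between_extend chk 22 0 89180 35 (u2547) r2548
theorem u2549 : ∀ k, 0 ≤ k → k < 89250 → chk (k * 22) = true := between_extend chk 22 0 89215 35 (u2548) r2549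
theorem u2550 : ∀ k, 0 ≤ k → k < 89285 → chk (k * 22) = true := between_extend chk 22 0 89250 35 (u2549) r2550
theorem u2551 : ∀ k, 0 ≤ k → k < 89320 → chk (k * 22) = true := between_extend chk 22 0 89285 35 (u2550) r2551
theorem u2552 : ∀ k, 0 ≤ k → k < 89355 → chk (k * 22) = true := between_extend chk 22 0 89320 35 (u2551) r2552
theorem u2553 : ∀ k, 0 ≤ k → k < 89390 → chk (k * 22) = true := between_extend chk 22 0 89355 35 (u2552) r2553
theorem u2554 : ∀ k, 0 ≤ k → k < 89425 → chk (k * 22) = true := between_extend chk 22 0 89390 35 (u2553) r2554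
theorem u2555 : ∀ k, 0 ≤ k → k < 89460 → chk (k * 22) = true := between_extend chk 22 0 89425 35 (u2554) r2555
theorem u2556 : ∀ k, 0 ≤ k → k < 89495 → chk (k * 22) = true := between_extend chk 22 0 89460 35 (u2555) r2556
theorem u2557 : ∀ k, 0 ≤ k → k < 89530 → chk (k * 22) = true := between_extend chk 22 0 89495 35 (u2556) r2557
theorem u2558 : ∀ k, 0 ≤ k → k < 89565 → chk (k * 22) = true := between_extend chk 22 0 89530 35 (u2557) r2558
theorem u2559 : ∀ k, 0 ≤ k → k < 89600 → chk (k * 22) = true := between_extend chk 22 0 89565 35 (u2558) r2559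
theorem u2560 : ∀ k, 0 ≤ k → k < 89635 → chk (k * 22) = true := between_extend chk 22 0 89600 35 (u2559) r2560
theorem u2561 : ∀ k, 0 ≤ k → k < 89670 → chk (k * 22) = true := between_extend chk 22 0 89635 35 (u2560) r2561
theorem u2562 : ∀ k, 0 ≤ k → k < 89705 → chk (k * 22) = true := between_extend chk 22 0 89670 35 (u2561) r2562
theorem u2563 : ∀ k, 0 ≤ k → k < 89740 → chk (k * 22) = true := between_extend chk 22 0 89705 35 (u2562) r2563
theorem u2564 : ∀ k, 0 ≤ k → k < 89775 → chk (k * 22) = true := between_extend chk 22 0 89740 35 (u2563) r2564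
theorem u2565 : ∀ k, 0 ≤ k → k < 89810 → chk (k * 22) = true := between_extend chk 22 0 89775 35 (u2564) r2565
theorem u2566 : ∀ k, 0 ≤ k → k < 89845 → chk (k * 22) = true := between_extend chk 22 0 89810 35 (u2565) r2566
theorem u2567 : ∀ k, 0 ≤ k → k < 89880 → chk (k * 22) = true := between_extend chk 22 0 89845 35 (u2566) r2567
theorem u2568 : ∀ k, 0 ≤ k → k < 89915 → chk (k * 22) = true := between_extend chk 22 0 89880 35 (u2567) r2568
theorem u2569 : ∀ k, 0 ≤ k → k < 89950 → chk (k * 22) = true := between_extend chk 22 0 89915 35 (u2568) r2569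
theorem u2570 : ∀ k, 0 ≤ k → k < 89985 → chk (k * 22) = true := between_extend chk 22 0 89950 35 (u2569) r2570
theorem u2571 : ∀ k, 0 ≤ k → k < 90020 → chk (k * 22) = true := between_extend chk 22 0 89985 35 (u2570) r2571
theorem u2572 : ∀ k, 0 ≤ k → k < 90055 → chk (k * 22) = true := between_extend chk 22 0 90020 35 (u2571) r2572
theorem u2573 : ∀ k, 0 ≤ k → k < 90090 → chk (k * 22) = true := between_extend chk 22 0 90055 35 (u2572) r2573
theorem u2574 : ∀ k, 0 ≤ k → k < 90125 → chk (k * 22) = true := between_extend chk 22 0 90090 35 (u2573) r2574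
theorem u2575 : ∀ k, 0 ≤ k → k < 90160 → chk (k * 22) = true := between_extend chk 22 0 90125 35 (u2574) r2575
theorem u2576 : ∀ k, 0 ≤ k → k < 90195 → chk (k * 22) = true := between_extend chk 22 0 90160 35 (u2575) r2576
theorem u2577 : ∀ k, 0 ≤ k → k < 90230 → chk (k * 22) = true := between_extend chk 22 0 90195 35 (u2576) r2577
theorem u2578 : ∀ k, 0 ≤ k → k < 90265 → chk (k * 22) = true := between_extend chk 22 0 90230 35 (u2577) r2578
theorem u2579 : ∀ k, 0 ≤ k → k < 90300 → chk (k * 22) = true := between_extend chk 22 0 90265 35 (u2578) r2579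
theorem u2580 : ∀ k, 0 ≤ k → k < 90335 → chk (k * 22) = true := between_extend chk 22 0 90300 35 (u2579) r2580
theorem u2581 : ∀ k, 0 ≤ k → k < 90370 → chk (k * 22) = true := between_extend chk 22 0 90335 35 (u2580) r2581
theorem u2582 : ∀ k, 0 ≤ k → k < 90405 → chk (k * 22) = true := between_extend chk 22 0 90370 35 (u2581) r2582
theorem u2583 : ∀ k, 0 ≤ k → k < 90440 → chk (k * 22) = true := between_extend chk 22 0 90405 35 (u2582) r2583
theorem u2584 : ∀ k, 0 ≤ k → k < 90475 → chk (k * 22) = true := between_extend chk 22 0 90440 35 (u2583) r2584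
theorem u2585 : ∀ k, 0 ≤ k → k < 90510 → chk (k * 22) = true := between_extend chk 22 0 90475 35 (u2584) r2585
theorem u2586 : ∀ k, 0 ≤ k → k < 90545 → chk (k * 22) = true := between_extend chk 22 0 90510 35 (u2585) r2586
theorem u2587 : ∀ k, 0 ≤ k → k < 90580 → chk (k * 22) = true := between_extend chk 22 0 90545 35 (u2586) r2587
theorem u2588 : ∀ k, 0 ≤ k → k < 90615 → chk (k * 22) = true := between_extend chk 22 0 90580 35 (u2587) r2588
theorem u2589 : ∀ k, 0 ≤ k → k < 90650 → chk (k * 22) = true := between_extend chk 22 0 90615 35 (u2588) r2589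
theorem u2590 : ∀ k, 0 ≤ k → k < 90685 → chk (k * 22) = true := between_extend chk 22 0 90650 35 (u2589) r2590
theorem u2591 : ∀ k, 0 ≤ k → k < 90720 → chk (k * 22) = true := between_extend chk 22 0 90685 35 (u2590) r2591
theorem u2592 : ∀ k, 0 ≤ k → k < 90755 → chk (k * 22) = true := between_extend chk 22 0 90720 35 (u2591) r2592
theorem u2593 : ∀ k, 0 ≤ k → k < 90790 → chk (k * 22) = true := between_extend chk 22 0 90755 35 (u2592) r2593
theorem u2594 : ∀ k, 0 ≤ k → k < 90825 → chk (k * 22) = true := between_extend chk 22 0 90790 35 (u2593) r2594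
theorem u2595 : ∀ k, 0 ≤ k → k < 90860 → chk (k * 22) = true := between_extend chk 22 0 90825 35 (u2594) r2595
theorem u2596 : ∀ k, 0 ≤ k → k < 90895 → chk (k * 22) = true := between_extend chk 22 0 90860 35 (u2595) r2596
theorem u2597 : ∀ k, 0 ≤ k → k < 90930 → chk (k * 22) = true := between_extend chk 22 0 90895 35 (u2596) r2597
theorem u2598 : ∀ k, 0 ≤ k → k < 90965 → chk (k * 22) = true := between_extend chk 22 0 90930 35 (u2597) r2598
theorem u2599 : ∀ k, 0 ≤ k → k < 91000 → chk (k * 22) = true := between_extend chk 22 0 90965 35 (u2598) r2599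
theorem u2600 : ∀ k, 0 ≤ k → k < 91035 → chk (k * 22) = true := between_extend chk 22 0 91000 35 (u2599) r2600
theorem u2601 : ∀ k, 0 ≤ k → k < 91070 → chk (k * 22) = true := between_extend chk 22 0 91035 35 (u2600) r2601
theorem u2602 : ∀ k, 0 ≤ k → k < 91105 → chk (k * 22) = true := between_extend chk 22 0 91070 35 (u2601) r2602
theorem u2603 : ∀ k, 0 ≤ k → k < 91140 → chk (k * 22) = true := between_extend chk 22 0 91105 35 (u2602) r2603
theorem u2604 : ∀ k, 0 ≤ k → k < 91175 → chk (k * 22) = true := between_extend chk 22 0 91140 35 (u2603) r2604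
theorem u2605 : ∀ k, 0 ≤ k → k < 91210 → chk (k * 22) = true := between_extend chk 22 0 91175 35 (u2604) r2605
theorem u2606 : ∀ k, 0 ≤ k → k < 91245 → chk (k * 22) = true := between_extend chk 22 0 91210 35 (u2605) r2606
theorem u2607 : ∀ k, 0 ≤ k → k < 91280 → chk (k * 22) = true := between_extend chk 22 0 91245 35 (u2606) r2607
theorem u2608 : ∀ k, 0 ≤ k → k < 91315 → chk (k * 22) = true := between_extend chk 22 0 91280 35 (u2607) r2608
theorem u2609 : ∀ k, 0 ≤ k → k < 91350 → chk (k * 22) = true := between_extend chk 22 0 91315 35 (u2608) r2609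
theorem u2610 : ∀ k, 0 ≤ k → k < 91385 → chk (k * 22) = true := between_extend chk 22 0 91350 35 (u2609) r2610
theorem u2611 : ∀ k, 0 ≤ k → k < 91420 → chk (k * 22) = true := between_extend chk 22 0 91385 35 (u2610) r2611
theorem u2612 : ∀ k, 0 ≤ k → k < 91455 → chk (k * 22) = true := between_extend chk 22 0 91420 35 (u2611) r2612
theorem u2613 : ∀ k, 0 ≤ k → k < 91490 → chk (k * 22) = true := between_extend chk 22 0 91455 35 (u2612) r2613
theorem u2614 : ∀ k, 0 ≤ k → k < 91525 → chk (k * 22) = true := between_extend chk 22 0 91490 35 (u2613) r2614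
theorem u2615 : ∀ k, 0 ≤ k → k < 91560 → chk (k * 22) = true := between_extend chk 22 0 91525 35 (u2614) r2615
theorem u2616 : ∀ k, 0 ≤ k → k < 91595 → chk (k * 22) = true := between_extend chk 22 0 91560 35 (u2615) r2616
theorem u2617 : ∀ k, 0 ≤ k → k < 91630 → chk (k * 22) = true := between_extend chk 22 0 91595 35 (u2616) r2617
theorem u2618 : ∀ k, 0 ≤ k → k < 91665 → chk (k * 22) = true := between_extend chk 22 0 91630 35 (u2617) r2618
theorem u2619 : ∀ k, 0 ≤ k → k < 91700 → chk (k * 22) = true := between_extend chk 22 0 91665 35 (u2618) r2619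
theorem u2620 : ∀ k, 0 ≤ k → k < 91735 → chk (k * 22) = true := between_extend chk 22 0 91700 35 (u2619) r2620
theorem u2621 : ∀ k, 0 ≤ k → k < 91770 → chk (k * 22) = true := between_extend chk 22 0 91735 35 (u2620) r2621
theorem u2622 : ∀ k, 0 ≤ k → k < 91805 → chk (k * 22) = true := between_extend chk 22 0 91770 35 (u2621) r2622
theorem u2623 : ∀ k, 0 ≤ k → k < 91840 → chk (k * 22) = true := between_extend chk 22 0 91805 35 (u2622) r2623
theorem u2624 : ∀ k, 0 ≤ k → k < 91875 → chk (k * 22) = true := between_extend chk 22 0 91840 35 (u2623) r2624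
theorem u2625 : ∀ k, 0 ≤ k → k < 91910 → chk (k * 22) = true := between_extend chk 22 0 91875 35 (u2624) r2625
theorem u2626 : ∀ k, 0 ≤ k → k < 91945 → chk (k * 22) = true := between_extend chk 22 0 91910 35 (u2625) r2626
theorem u2627 : ∀ k, 0 ≤ k → k < 91980 → chk (k * 22) = true := between_extend chk 22 0 91945 35 (u2626) r2627
theorem u2628 : ∀ k, 0 ≤ k → k < 92015 → chk (k * 22) = true := between_extend chk 22 0 91980 35 (u2627) r2628
theorem u2629 : ∀ k, 0 ≤ k → k < 92050 → chk (k * 22) = true := between_extend chk 22 0 92015 35 (u2628) r2629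
theorem u2630 : ∀ k, 0 ≤ k → k < 92085 → chk (k * 22) = true := between_extend chk 22 0 92050 35 (u2629) r2630
theorem u2631 : ∀ k, 0 ≤ k → k < 92120 → chk (k * 22) = true := between_extend chk 22 0 92085 35 (u2630) r2631
theorem u2632 : ∀ k, 0 ≤ k → k < 92155 → chk (k * 22) = true := between_extend chk 22 0 92120 35 (u2631) r2632
theorem u2633 : ∀ k, 0 ≤ k → k < 92190 → chk (k * 22) = true := between_extend chk 22 0 92155 35 (u2632) r2633
theorem u2634 : ∀ k, 0 ≤ k → k < 92225 → chk (k * 22) = true := between_extend chk 22 0 92190 35 (u2633) r2634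
theorem u2635 : ∀ k, 0 ≤ k → k < 92260 → chk (k * 22) = true := between_extend chk 22 0 92225 35 (u2634) r2635
theorem u2636 : ∀ k, 0 ≤ k → k < 92295 → chk (k * 22) = true := between_extend chk 22 0 92260 35 (u2635) r2636
theorem u2637 : ∀ k, 0 ≤ k → k < 92330 → chk (k * 22) = true := between_extend chk 22 0 92295 35 (u2636) r2637
theorem u2638 : ∀ k, 0 ≤ k → k < 92365 → chk (k * 22) = true := between_extend chk 22 0 92330 35 (u2637) r2638
theorem u2639 : ∀ k, 0 ≤ k → k < 92400 → chk (k * 22) = true := between_extend chk 22 0 92365 35 (u2638) r2639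
theorem u2640 : ∀ k, 0 ≤ k → k < 92435 → chk (k * 22) = true := between_extend chk 22 0 92400 35 (u2639) r2640
theorem u2641 : ∀ k, 0 ≤ k → k < 92470 → chk (k * 22) = true := between_extend chk 22 0 92435 35 (u2640) r2641
theorem u2642 : ∀ k, 0 ≤ k → k < 92505 → chk (k * 22) = true := between_extend chk 22 0 92470 35 (u2641) r2642
theorem u2643 : ∀ k, 0 ≤ k → k < 92540 → chk (k * 22) = true := between_extend chk 22 0 92505 35 (u2642) r2643
theorem u2644 : ∀ k, 0 ≤ k → k < 92575 → chk (k * 22) = true := between_extend chk 22 0 92540 35 (u2643) r2644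
theorem u2645 : ∀ k, 0 ≤ k → k < 92610 → chk (k * 22) = true := between_extend chk 22 0 92575 35 (u2644) r2645
theorem u2646 : ∀ k, 0 ≤ k → k < 92645 → chk (k * 22) = true := between_extend chk 22 0 92610 35 (u2645) r2646
theorem u2647 : ∀ k, 0 ≤ k → k < 92680 → chk (k * 22) = true := between_extend chk 22 0 92645 35 (u2646) r2647
theorem u2648 : ∀ k, 0 ≤ k → k < 92715 → chk (k * 22) = true := between_extend chk 22 0 92680 35 (u2647) r2648
theorem u2649 : ∀ k, 0 ≤ k → k < 92750 → chk (k * 22) = true := between_extend chk 22 0 92715 35 (u2648) r2649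
theorem u2650 : ∀ k, 0 ≤ k → k < 92785 → chk (k * 22) = true := between_extend chk 22 0 92750 35 (u2649) r2650
theorem u2651 : ∀ k, 0 ≤ k → k < 92820 → chk (k * 22) = true := between_extend chk 22 0 92785 35 (u2650) r2651
theorem u2652 : ∀ k, 0 ≤ k → k < 92855 → chk (k * 22) = true := between_extend chk 22 0 92820 35 (u2651) r2652
theorem u2653 : ∀ k, 0 ≤ k → k < 92890 → chk (k * 22) = true := between_extend chk 22 0 92855 35 (u2652) r2653
theorem u2654 : ∀ k, 0 ≤ k → k < 92925 → chk (k * 22) = true := between_extend chk 22 0 92890 35 (u2653) r2654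
theorem u2655 : ∀ k, 0 ≤ k → k < 92960 → chk (k * 22) = true := between_extend chk 22 0 92925 35 (u2654) r2655
theorem u2656 : ∀ k, 0 ≤ k → k < 92995 → chk (k * 22) = true := between_extend chk 22 0 92960 35 (u2655) r2656
theorem u2657 : ∀ k, 0 ≤ k → k < 93030 → chk (k * 22) = true := between_extend chk 22 0 92995 35 (u2656) r2657
theorem u2658 : ∀ k, 0 ≤ k → k < 93065 → chk (k * 22) = true := between_extend chk 22 0 93030 35 (u2657) r2658
theorem u2659 : ∀ k, 0 ≤ k → k < 93100 → chk (k * 22) = true := between_extend chk 22 0 93065 35 (u2658) r2659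
theorem u2660 : ∀ k, 0 ≤ k → k < 93135 → chk (k * 22) = true := between_extend chk 22 0 93100 35 (u2659) r2660
theorem u2661 : ∀ k, 0 ≤ k → k < 93170 → chk (k * 22) = true := between_extend chk 22 0 93135 35 (u2660) r2661
theorem u2662 : ∀ k, 0 ≤ k → k < 93205 → chk (k * 22) = true := between_extend chk 22 0 93170 35 (u2661) r2662
theorem u2663 : ∀ k, 0 ≤ k → k < 93240 → chk (k * 22) = true := between_extend chk 22 0 93205 35 (u2662) r2663
theorem u2664 : ∀ k, 0 ≤ k → k < 93275 → chk (k * 22) = true := between_extend chk 22 0 93240 35 (u2663) r2664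
theorem u2665 : ∀ k, 0 ≤ k → k < 93310 → chk (k * 22) = true := between_extend chk 22 0 93275 35 (u2664) r2665
theorem u2666 : ∀ k, 0 ≤ k → k < 93345 → chk (k * 22) = true := between_extend chk 22 0 93310 35 (u2665) r2666
theorem u2667 : ∀ k, 0 ≤ k → k < 93380 → chk (k * 22) = true := between_extend chk 22 0 93345 35 (u2666) r2667
theorem u2668 : ∀ k, 0 ≤ k → k < 93415 → chk (k * 22) = true := between_extend chk 22 0 93380 35 (u2667) r2668
theorem u2669 : ∀ k, 0 ≤ k → k < 93450 → chk (k * 22) = true := between_extend chk 22 0 93415 35 (u2668) r2669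
theorem u2670 : ∀ k, 0 ≤ k → k < 93485 → chk (k * 22) = true := between_extend chk 22 0 93450 35 (u2669) r2670
theorem u2671 : ∀ k, 0 ≤ k → k < 93520 → chk (k * 22) = true := between_extend chk 22 0 93485 35 (u2670) r2671
theorem u2672 : ∀ k, 0 ≤ k → k < 93555 → chk (k * 22) = true := between_extend chk 22 0 93520 35 (u2671) r2672
theorem u2673 : ∀ k, 0 ≤ k → k < 93590 → chk (k * 22) = true := between_extend chk 22 0 93555 35 (u2672) r2673
theorem u2674 : ∀ k, 0 ≤ k → k < 93625 → chk (k * 22) = true := between_extend chk 22 0 93590 35 (u2673) r2674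
theorem u2675 : ∀ k, 0 ≤ k → k < 93660 → chk (k * 22) = true := between_extend chk 22 0 93625 35 (u2674) r2675
theorem u2676 : ∀ k, 0 ≤ k → k < 93695 → chk (k * 22) = true := between_extend chk 22 0 93660 35 (u2675) r2676
theorem u2677 : ∀ k, 0 ≤ k → k < 93730 → chk (k * 22) = true := between_extend chk 22 0 93695 35 (u2676) r2677
theorem u2678 : ∀ k, 0 ≤ k → k < 93765 → chk (k * 22) = true := between_extend chk 22 0 93730 35 (u2677) r2678
theorem u2679 : ∀ k, 0 ≤ k → k < 93800 → chk (k * 22) = true := between_extend chk 22 0 93765 35 (u2678) r2679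
theorem u2680 : ∀ k, 0 ≤ k → k < 93835 → chk (k * 22) = true := between_extend chk 22 0 93800 35 (u2679) r2680
theorem u2681 : ∀ k, 0 ≤ k → k < 93870 → chk (k * 22) = true := between_extend chk 22 0 93835 35 (u2680) r2681
theorem u2682 : ∀ k, 0 ≤ k → k < 93905 → chk (k * 22) = true := between_extend chk 22 0 93870 35 (u2681) r2682
theorem u2683 : ∀ k, 0 ≤ k → k < 93940 → chk (k * 22) = true := between_extend chk 22 0 93905 35 (u2682) r2683
theorem u2684 : ∀ k, 0 ≤ k → k < 93975 → chk (k * 22) = true := between_extend chk 22 0 93940 35 (u2683) r2684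
theorem u2685 : ∀ k, 0 ≤ k → k < 94010 → chk (k * 22) = true := between_extend chk 22 0 93975 35 (u2684) r2685
theorem u2686 : ∀ k, 0 ≤ k → k < 94045 → chk (k * 22) = true := between_extend chk 22 0 94010 35 (u2685) r2686
theorem u2687 : ∀ k, 0 ≤ k → k < 94080 → chk (k * 22) = true := between_extend chk 22 0 94045 35 (u2686) r2687
theorem u2688 : ∀ k, 0 ≤ k → k < 94115 → chk (k * 22) = true := between_extend chk 22 0 94080 35 (u2687) r2688
theorem u2689 : ∀ k, 0 ≤ k → k < 94150 → chk (k * 22) = true := between_extend chk 22 0 94115 35 (u2688) r2689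
theorem u2690 : ∀ k, 0 ≤ k → k < 94185 → chk (k * 22) = true := between_extend chk 22 0 94150 35 (u2689) r2690
theorem u2691 : ∀ k, 0 ≤ k → k < 94220 → chk (k * 22) = true := between_extend chk 22 0 94185 35 (u2690) r2691
theorem u2692 : ∀ k, 0 ≤ k → k < 94255 → chk (k * 22) = true := between_extend chk 22 0 94220 35 (u2691) r2692
theorem u2693 : ∀ k, 0 ≤ k → k < 94290 → chk (k * 22) = true := between_extend chk 22 0 94255 35 (u2692) r2693
theorem u2694 : ∀ k, 0 ≤ k → k < 94325 → chk (k * 22) = true := between_extend chk 22 0 94290 35 (u2693) r2694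
theorem u2695 : ∀ k, 0 ≤ k → k < 94360 → chk (k * 22) = true := between_extend chk 22 0 94325 35 (u2694) r2695
theorem u2696 : ∀ k, 0 ≤ k → k < 94395 → chk (k * 22) = true := between_extend chk 22 0 94360 35 (u2695) r2696
theorem u2697 : ∀ k, 0 ≤ k → k < 94430 → chk (k * 22) = true := between_extend chk 22 0 94395 35 (u2696) r2697
theorem u2698 : ∀ k, 0 ≤ k → k < 94465 → chk (k * 22) = true := between_extend chk 22 0 94430 35 (u2697) r2698
theorem u2699 : ∀ k, 0 ≤ k → k < 94500 → chk (k * 22) = true := between_extend chk 22 0 94465 35 (u2698) r2699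
theorem u2700 : ∀ k, 0 ≤ k → k < 94535 → chk (k * 22) = true := between_extend chk 22 0 94500 35 (u2699) r2700
theorem u2701 : ∀ k, 0 ≤ k → k < 94570 → chk (k * 22) = true := between_extend chk 22 0 94535 35 (u2700) r2701
theorem u2702 : ∀ k, 0 ≤ k → k < 94605 → chk (k * 22) = true := between_extend chk 22 0 94570 35 (u2701) r2702
theorem u2703 : ∀ k, 0 ≤ k → k < 94640 → chk (k * 22) = true := between_extend chk 22 0 94605 35 (u2702) r2703
theorem u2704 : ∀ k, 0 ≤ k → k < 94675 → chk (k * 22) = true := between_extend chk 22 0 94640 35 (u2703) r2704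
theorem u2705 : ∀ k, 0 ≤ k → k < 94710 → chk (k * 22) = true := between_extend chk 22 0 94675 35 (u2704) r2705
theorem u2706 : ∀ k, 0 ≤ k → k < 94745 → chk (k * 22) = true := between_extend chk 22 0 94710 35 (u2705) r2706
theorem u2707 : ∀ k, 0 ≤ k → k < 94780 → chk (k * 22) = true := between_extend chk 22 0 94745 35 (u2706) r2707
theorem u2708 : ∀ k, 0 ≤ k → k < 94815 → chk (k * 22) = true := between_extend chk 22 0 94780 35 (u2707) r2708
theorem u2709 : ∀ k, 0 ≤ k → k < 94850 → chk (k * 22) = true := between_extend chk 22 0 94815 35 (u2708) r2709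
theorem u2710 : ∀ k, 0 ≤ k → k < 94885 → chk (k * 22) = true := between_extend chk 22 0 94850 35 (u2709) r2710
theorem u2711 : ∀ k, 0 ≤ k → k < 94920 → chk (k * 22) = true := between_extend chk 22 0 94885 35 (u2710) r2711
theorem u2712 : ∀ k, 0 ≤ k → k < 94955 → chk (k * 22) = true := between_extend chk 22 0 94920 35 (u2711) r2712
theorem u2713 : ∀ k, 0 ≤ k → k < 94990 → chk (k * 22) = true := between_extend chk 22 0 94955 35 (u2712) r2713
theorem u2714 : ∀ k, 0 ≤ k → k < 95025 → chk (k * 22) = true := between_extend chk 22 0 94990 35 (u2713) r2714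
theorem u2715 : ∀ k, 0 ≤ k → k < 95060 → chk (k * 22) = true := between_extend chk 22 0 95025 35 (u2714) r2715
theorem u2716 : ∀ k, 0 ≤ k → k < 95095 → chk (k * 22) = true := between_extend chk 22 0 95060 35 (u2715) r2716
theorem u2717 : ∀ k, 0 ≤ k → k < 95130 → chk (k * 22) = true := between_extend chk 22 0 95095 35 (u2716) r2717
theorem u2718 : ∀ k, 0 ≤ k → k < 95165 → chk (k * 22) = true := between_extend chk 22 0 95130 35 (u2717) r2718
theorem u2719 : ∀ k, 0 ≤ k → k < 95200 → chk (k * 22) = true := between_extend chk 22 0 95165 35 (u2718) r2719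
theorem u2720 : ∀ k, 0 ≤ k → k < 95235 → chk (k * 22) = true := between_extend chk 22 0 95200 35 (u2719) r2720
theorem u2721 : ∀ k, 0 ≤ k → k < 95270 → chk (k * 22) = true := between_extend chk 22 0 95235 35 (u2720) r2721
theorem u2722 : ∀ k, 0 ≤ k → k < 95305 → chk (k * 22) = true := between_extend chk 22 0 95270 35 (u2721) r2722
theorem u2723 : ∀ k, 0 ≤ k → k < 95340 → chk (k * 22) = true := between_extend chk 22 0 95305 35 (u2722) r2723
theorem u2724 : ∀ k, 0 ≤ k → k < 95375 → chk (k * 22) = true := between_extend chk 22 0 95340 35 (u2723) r2724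
theorem u2725 : ∀ k, 0 ≤ k → k < 95410 → chk (k * 22) = true := between_extend chk 22 0 95375 35 (u2724) r2725
theorem u2726 : ∀ k, 0 ≤ k → k < 95445 → chk (k * 22) = true := between_extend chk 22 0 95410 35 (u2725) r2726
theorem u2727 : ∀ k, 0 ≤ k → k < 95480 → chk (k * 22) = true := between_extend chk 22 0 95445 35 (u2726) r2727
theorem u2728 : ∀ k, 0 ≤ k → k < 95515 → chk (k * 22) = true := between_extend chk 22 0 95480 35 (u2727) r2728
theorem u2729 : ∀ k, 0 ≤ k → k < 95550 → chk (k * 22) = true := between_extend chk 22 0 95515 35 (u2728) r2729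
theorem u2730 : ∀ k, 0 ≤ k → k < 95585 → chk (k * 22) = true := between_extend chk 22 0 95550 35 (u2729) r2730
theorem u2731 : ∀ k, 0 ≤ k → k < 95620 → chk (k * 22) = true := between_extend chk 22 0 95585 35 (u2730) r2731
theorem u2732 : ∀ k, 0 ≤ k → k < 95655 → chk (k * 22) = true := between_extend chk 22 0 95620 35 (u2731) r2732
theorem u2733 : ∀ k, 0 ≤ k → k < 95690 → chk (k * 22) = true := between_extend chk 22 0 95655 35 (u2732) r2733
theorem u2734 : ∀ k, 0 ≤ k → k < 95725 → chk (k * 22) = true := between_extend chk 22 0 95690 35 (u2733) r2734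
theorem u2735 : ∀ k, 0 ≤ k → k < 95760 → chk (k * 22) = true := between_extend chk 22 0 95725 35 (u2734) r2735
theorem u2736 : ∀ k, 0 ≤ k → k < 95795 → chk (k * 22) = true := between_extend chk 22 0 95760 35 (u2735) r2736
theorem u2737 : ∀ k, 0 ≤ k → k < 95830 → chk (k * 22) = true := between_extend chk 22 0 95795 35 (u2736) r2737
theorem u2738 : ∀ k, 0 ≤ k → k < 95865 → chk (k * 22) = true := between_extend chk 22 0 95830 35 (u2737) r2738
theorem u2739 : ∀ k, 0 ≤ k → k < 95900 → chk (k * 22) = true := between_extend chk 22 0 95865 35 (u2738) r2739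
theorem u2740 : ∀ k, 0 ≤ k → k < 95935 → chk (k * 22) = true := between_extend chk 22 0 95900 35 (u2739) r2740
theorem u2741 : ∀ k, 0 ≤ k → k < 95970 → chk (k * 22) = true := between_extend chk 22 0 95935 35 (u2740) r2741
theorem u2742 : ∀ k, 0 ≤ k → k < 96005 → chk (k * 22) = true := between_extend chk 22 0 95970 35 (u2741) r2742
theorem u2743 : ∀ k, 0 ≤ k → k < 96040 → chk (k * 22) = true := between_extend chk 22 0 96005 35 (u2742) r2743
theorem u2744 : ∀ k, 0 ≤ k → k < 96075 → chk (k * 22) = true := between_extend chk 22 0 96040 35 (u2743) r2744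
theorem u2745 : ∀ k, 0 ≤ k → k < 96110 → chk (k * 22) = true := between_extend chk 22 0 96075 35 (u2744) r2745
theorem u2746 : ∀ k, 0 ≤ k → k < 96145 → chk (k * 22) = true := between_extend chk 22 0 96110 35 (u2745) r2746
theorem u2747 : ∀ k, 0 ≤ k → k < 96180 → chk (k * 22) = true := between_extend chk 22 0 96145 35 (u2746) r2747
theorem u2748 : ∀ k, 0 ≤ k → k < 96215 → chk (k * 22) = true := between_extend chk 22 0 96180 35 (u2747) r2748
theorem u2749 : ∀ k, 0 ≤ k → k < 96250 → chk (k * 22) = true := between_extend chk 22 0 96215 35 (u2748) r2749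
theorem u2750 : ∀ k, 0 ≤ k → k < 96285 → chk (k * 22) = true := between_extend chk 22 0 96250 35 (u2749) r2750
theorem u2751 : ∀ k, 0 ≤ k → k < 96320 → chk (k * 22) = true := between_extend chk 22 0 96285 35 (u2750) r2751
theorem u2752 : ∀ k, 0 ≤ k → k < 96355 → chk (k * 22) = true := between_extend chk 22 0 96320 35 (u2751) r2752
theorem u2753 : ∀ k, 0 ≤ k → k < 96390 → chk (k * 22) = true := between_extend chk 22 0 96355 35 (u2752) r2753
theorem u2754 : ∀ k, 0 ≤ k → k < 96425 → chk (k * 22) = true := between_extend chk 22 0 96390 35 (u2753) r2754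
theorem u2755 : ∀ k, 0 ≤ k → k < 96460 → chk (k * 22) = true := between_extend chk 22 0 96425 35 (u2754) r2755
theorem u2756 : ∀ k, 0 ≤ k → k < 96495 → chk (k * 22) = true := between_extend chk 22 0 96460 35 (u2755) r2756
theorem u2757 : ∀ k, 0 ≤ k → k < 96530 → chk (k * 22) = true := between_extend chk 22 0 96495 35 (u2756) r2757
theorem u2758 : ∀ k, 0 ≤ k → k < 96565 → chk (k * 22) = true := between_extend chk 22 0 96530 35 (u2757) r2758
theorem u2759 : ∀ k, 0 ≤ k → k < 96600 → chk (k * 22) = true := between_extend chk 22 0 96565 35 (u2758) r2759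
theorem u2760 : ∀ k, 0 ≤ k → k < 96635 → chk (k * 22) = true := between_extend chk 22 0 96600 35 (u2759) r2760
theorem u2761 : ∀ k, 0 ≤ k → k < 96670 → chk (k * 22) = true := between_extend chk 22 0 96635 35 (u2760) r2761
theorem u2762 : ∀ k, 0 ≤ k → k < 96705 → chk (k * 22) = true := between_extend chk 22 0 96670 35 (u2761) r2762
theorem u2763 : ∀ k, 0 ≤ k → k < 96740 → chk (k * 22) = true := between_extend chk 22 0 96705 35 (u2762) r2763
theorem u2764 : ∀ k, 0 ≤ k → k < 96775 → chk (k * 22) = true := between_extend chk 22 0 96740 35 (u2763) r2764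
theorem u2765 : ∀ k, 0 ≤ k → k < 96810 → chk (k * 22) = true := between_extend chk 22 0 96775 35 (u2764) r2765
theorem u2766 : ∀ k, 0 ≤ k → k < 96845 → chk (k * 22) = true := between_extend chk 22 0 96810 35 (u2765) r2766
theorem u2767 : ∀ k, 0 ≤ k → k < 96880 → chk (k * 22) = true := between_extend chk 22 0 96845 35 (u2766) r2767
theorem u2768 : ∀ k, 0 ≤ k → k < 96915 → chk (k * 22) = true := between_extend chk 22 0 96880 35 (u2767) r2768
theorem u2769 : ∀ k, 0 ≤ k → k < 96950 → chk (k * 22) = true := between_extend chk 22 0 96915 35 (u2768) r2769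
theorem u2770 : ∀ k, 0 ≤ k → k < 96985 → chk (k * 22) = true := between_extend chk 22 0 96950 35 (u2769) r2770
theorem u2771 : ∀ k, 0 ≤ k → k < 97020 → chk (k * 22) = true := between_extend chk 22 0 96985 35 (u2770) r2771
theorem u2772 : ∀ k, 0 ≤ k → k < 97055 → chk (k * 22) = true := between_extend chk 22 0 97020 35 (u2771) r2772
theorem u2773 : ∀ k, 0 ≤ k → k < 97090 → chk (k * 22) = true := between_extend chk 22 0 97055 35 (u2772) r2773
theorem u2774 : ∀ k, 0 ≤ k → k < 97125 → chk (k * 22) = true := between_extend chk 22 0 97090 35 (u2773) r2774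
theorem u2775 : ∀ k, 0 ≤ k → k < 97160 → chk (k * 22) = true := between_extend chk 22 0 97125 35 (u2774) r2775
theorem u2776 : ∀ k, 0 ≤ k → k < 97195 → chk (k * 22) = true := between_extend chk 22 0 97160 35 (u2775) r2776
theorem u2777 : ∀ k, 0 ≤ k → k < 97230 → chk (k * 22) = true := between_extend chk 22 0 97195 35 (u2776) r2777
theorem u2778 : ∀ k, 0 ≤ k → k < 97265 → chk (k * 22) = true := between_extend chk 22 0 97230 35 (u2777) r2778
theorem u2779 : ∀ k, 0 ≤ k → k < 97300 → chk (k * 22) = true := between_extend chk 22 0 97265 35 (u2778) r2779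
theorem u2780 : ∀ k, 0 ≤ k → k < 97335 → chk (k * 22) = true := between_extend chk 22 0 97300 35 (u2779) r2780
theorem u2781 : ∀ k, 0 ≤ k → k < 97370 → chk (k * 22) = true := between_extend chk 22 0 97335 35 (u2780) r2781
theorem u2782 : ∀ k, 0 ≤ k → k < 97405 → chk (k * 22) = true := between_extend chk 22 0 97370 35 (u2781) r2782
theorem u2783 : ∀ k, 0 ≤ k → k < 97440 → chk (k * 22) = true := between_extend chk 22 0 97405 35 (u2782) r2783
theorem u2784 : ∀ k, 0 ≤ k → k < 97475 → chk (k * 22) = true := between_extend chk 22 0 97440 35 (u2783) r2784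
theorem u2785 : ∀ k, 0 ≤ k → k < 97510 → chk (k * 22) = true := between_extend chk 22 0 97475 35 (u2784) r2785
theorem u2786 : ∀ k, 0 ≤ k → k < 97545 → chk (k * 22) = true := between_extend chk 22 0 97510 35 (u2785) r2786
theorem u2787 : ∀ k, 0 ≤ k → k < 97580 → chk (k * 22) = true := between_extend chk 22 0 97545 35 (u2786) r2787
theorem u2788 : ∀ k, 0 ≤ k → k < 97615 → chk (k * 22) = true := between_extend chk 22 0 97580 35 (u2787) r2788
theorem u2789 : ∀ k, 0 ≤ k → k < 97650 → chk (k * 22) = true := between_extend chk 22 0 97615 35 (u2788) r2789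
theorem u2790 : ∀ k, 0 ≤ k → k < 97685 → chk (k * 22) = true := between_extend chk 22 0 97650 35 (u2789) r2790
theorem u2791 : ∀ k, 0 ≤ k → k < 97720 → chk (k * 22) = true := between_extend chk 22 0 97685 35 (u2790) r2791
theorem u2792 : ∀ k, 0 ≤ k → k < 97755 → chk (k * 22) = true := between_extend chk 22 0 97720 35 (u2791) r2792
theorem u2793 : ∀ k, 0 ≤ k → k < 97790 → chk (k * 22) = true := between_extend chk 22 0 97755 35 (u2792) r2793
theorem u2794 : ∀ k, 0 ≤ k → k < 97825 → chk (k * 22) = true := between_extend chk 22 0 97790 35 (u2793) r2794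
theorem u2795 : ∀ k, 0 ≤ k → k < 97860 → chk (k * 22) = true := between_extend chk 22 0 97825 35 (u2794) r2795
theorem u2796 : ∀ k, 0 ≤ k → k < 97895 → chk (k * 22) = true := between_extend chk 22 0 97860 35 (u2795) r2796
theorem u2797 : ∀ k, 0 ≤ k → k < 97930 → chk (k * 22) = true := between_extend chk 22 0 97895 35 (u2796) r2797
theorem u2798 : ∀ k, 0 ≤ k → k < 97965 → chk (k * 22) = true := between_extend chk 22 0 97930 35 (u2797) r2798
theorem u2799 : ∀ k, 0 ≤ k → k < 98000 → chk (k * 22) = true := between_extend chk 22 0 97965 35 (u2798) r2799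
theorem u2800 : ∀ k, 0 ≤ k → k < 98035 → chk (k * 22) = true := between_extend chk 22 0 98000 35 (u2799) r2800
theorem u2801 : ∀ k, 0 ≤ k → k < 98070 → chk (k * 22) = true := between_extend chk 22 0 98035 35 (u2800) r2801
theorem u2802 : ∀ k, 0 ≤ k → k < 98105 → chk (k * 22) = true := between_extend chk 22 0 98070 35 (u2801) r2802
theorem u2803 : ∀ k, 0 ≤ k → k < 98140 → chk (k * 22) = true := between_extend chk 22 0 98105 35 (u2802) r2803
theorem u2804 : ∀ k, 0 ≤ k → k < 98175 → chk (k * 22) = true := between_extend chk 22 0 98140 35 (u2803) r2804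
theorem u2805 : ∀ k, 0 ≤ k → k < 98210 → chk (k * 22) = true := between_extend chk 22 0 98175 35 (u2804) r2805
theorem u2806 : ∀ k, 0 ≤ k → k < 98245 → chk (k * 22) = true := between_extend chk 22 0 98210 35 (u2805) r2806
theorem u2807 : ∀ k, 0 ≤ k → k < 98280 → chk (k * 22) = true := between_extend chk 22 0 98245 35 (u2806) r2807
theorem u2808 : ∀ k, 0 ≤ k → k < 98315 → chk (k * 22) = true := between_extend chk 22 0 98280 35 (u2807) r2808
theorem u2809 : ∀ k, 0 ≤ k → k < 98350 → chk (k * 22) = true := between_extend chk 22 0 98315 35 (u2808) r2809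
theorem u2810 : ∀ k, 0 ≤ k → k < 98385 → chk (k * 22) = true := between_extend chk 22 0 98350 35 (u2809) r2810
theorem u2811 : ∀ k, 0 ≤ k → k < 98420 → chk (k * 22) = true := between_extend chk 22 0 98385 35 (u2810) r2811
theorem u2812 : ∀ k, 0 ≤ k → k < 98455 → chk (k * 22) = true := between_extend chk 22 0 98420 35 (u2811) r2812
theorem u2813 : ∀ k, 0 ≤ k → k < 98490 → chk (k * 22) = true := between_extend chk 22 0 98455 35 (u2812) r2813
theorem u2814 : ∀ k, 0 ≤ k → k < 98525 → chk (k * 22) = true := between_extend chk 22 0 98490 35 (u2813) r2814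
theorem u2815 : ∀ k, 0 ≤ k → k < 98560 → chk (k * 22) = true := between_extend chk 22 0 98525 35 (u2814) r2815
theorem u2816 : ∀ k, 0 ≤ k → k < 98595 → chk (k * 22) = true := between_extend chk 22 0 98560 35 (u2815) r2816
theorem u2817 : ∀ k, 0 ≤ k → k < 98630 → chk (k * 22) = true := between_extend chk 22 0 98595 35 (u2816) r2817
theorem u2818 : ∀ k, 0 ≤ k → k < 98665 → chk (k * 22) = true := between_extend chk 22 0 98630 35 (u2817) r2818
theorem u2819 : ∀ k, 0 ≤ k → k < 98700 → chk (k * 22) = true := between_extend chk 22 0 98665 35 (u2818) r2819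
theorem u2820 : ∀ k, 0 ≤ k → k < 98735 → chk (k * 22) = true := between_extend chk 22 0 98700 35 (u2819) r2820
theorem u2821 : ∀ k, 0 ≤ k → k < 98770 → chk (k * 22) = true := between_extend chk 22 0 98735 35 (u2820) r2821
theorem u2822 : ∀ k, 0 ≤ k → k < 98805 → chk (k * 22) = true := between_extend chk 22 0 98770 35 (u2821) r2822
theorem u2823 : ∀ k, 0 ≤ k → k < 98840 → chk (k * 22) = true := between_extend chk 22 0 98805 35 (u2822) r2823
theorem u2824 : ∀ k, 0 ≤ k → k < 98875 → chk (k * 22) = true := between_extend chk 22 0 98840 35 (u2823) r2824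
theorem u2825 : ∀ k, 0 ≤ k → k < 98910 → chk (k * 22) = true := between_extend chk 22 0 98875 35 (u2824) r2825
theorem u2826 : ∀ k, 0 ≤ k → k < 98945 → chk (k * 22) = true := between_extend chk 22 0 98910 35 (u2825) r2826
theorem u2827 : ∀ k, 0 ≤ k → k < 98980 → chk (k * 22) = true := between_extend chk 22 0 98945 35 (u2826) r2827
theorem u2828 : ∀ k, 0 ≤ k → k < 99015 → chk (k * 22) = true := between_extend chk 22 0 98980 35 (u2827) r2828
theorem u2829 : ∀ k, 0 ≤ k → k < 99050 → chk (k * 22) = true := between_extend chk 22 0 99015 35 (u2828) r2829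
theorem u2830 : ∀ k, 0 ≤ k → k < 99085 → chk (k * 22) = true := between_extend chk 22 0 99050 35 (u2829) r2830
theorem u2831 : ∀ k, 0 ≤ k → k < 99120 → chk (k * 22) = true := between_extend chk 22 0 99085 35 (u2830) r2831
theorem u2832 : ∀ k, 0 ≤ k → k < 99155 → chk (k * 22) = true := between_extend chk 22 0 99120 35 (u2831) r2832
theorem u2833 : ∀ k, 0 ≤ k → k < 99190 → chk (k * 22) = true := between_extend chk 22 0 99155 35 (u2832) r2833
theorem u2834 : ∀ k, 0 ≤ k → k < 99225 → chk (k * 22) = true := between_extend chk 22 0 99190 35 (u2833) r2834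
theorem u2835 : ∀ k, 0 ≤ k → k < 99260 → chk (k * 22) = true := between_extend chk 22 0 99225 35 (u2834) r2835
theorem u2836 : ∀ k, 0 ≤ k → k < 99295 → chk (k * 22) = true := between_extend chk 22 0 99260 35 (u2835) r2836
theorem u2837 : ∀ k, 0 ≤ k → k < 99330 → chk (k * 22) = true := between_extend chk 22 0 99295 35 (u2836) r2837
theorem u2838 : ∀ k, 0 ≤ k → k < 99365 → chk (k * 22) = true := between_extend chk 22 0 99330 35 (u2837) r2838
theorem u2839 : ∀ k, 0 ≤ k → k < 99400 → chk (k * 22) = true := between_extend chk 22 0 99365 35 (u2838) r2839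
theorem u2840 : ∀ k, 0 ≤ k → k < 99435 → chk (k * 22) = true := between_extend chk 22 0 99400 35 (u2839) r2840
theorem u2841 : ∀ k, 0 ≤ k → k < 99470 → chk (k * 22) = true := between_extend chk 22 0 99435 35 (u2840) r2841
theorem u2842 : ∀ k, 0 ≤ k → k < 99505 → chk (k * 22) = true := between_extend chk 22 0 99470 35 (u2841) r2842
theorem u2843 : ∀ k, 0 ≤ k → k < 99540 → chk (k * 22) = true := between_extend chk 22 0 99505 35 (u2842) r2843
theorem u2844 : ∀ k, 0 ≤ k → k < 99575 → chk (k * 22) = true := between_extend chk 22 0 99540 35 (u2843) r2844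
theorem u2845 : ∀ k, 0 ≤ k → k < 99610 → chk (k * 22) = true := between_extend chk 22 0 99575 35 (u2844) r2845
theorem u2846 : ∀ k, 0 ≤ k → k < 99645 → chk (k * 22) = true := between_extend chk 22 0 99610 35 (u2845) r2846
theorem u2847 : ∀ k, 0 ≤ k → k < 99680 → chk (k * 22) = true := between_extend chk 22 0 99645 35 (u2846) r2847
theorem u2848 : ∀ k, 0 ≤ k → k < 99715 → chk (k * 22) = true := between_extend chk 22 0 99680 35 (u2847) r2848
theorem u2849 : ∀ k, 0 ≤ k → k < 99750 → chk (k * 22) = true := between_extend chk 22 0 99715 35 (u2848) r2849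
theorem u2850 : ∀ k, 0 ≤ k → k < 99785 → chk (k * 22) = true := between_extend chk 22 0 99750 35 (u2849) r2850
theorem u2851 : ∀ k, 0 ≤ k → k < 99820 → chk (k * 22) = true := between_extend chk 22 0 99785 35 (u2850) r2851
theorem u2852 : ∀ k, 0 ≤ k → k < 99855 → chk (k * 22) = true := between_extend chk 22 0 99820 35 (u2851) r2852
theorem u2853 : ∀ k, 0 ≤ k → k < 99890 → chk (k * 22) = true := between_extend chk 22 0 99855 35 (u2852) r2853
theorem u2854 : ∀ k, 0 ≤ k → k < 99925 → chk (k * 22) = true := between_extend chk 22 0 99890 35 (u2853) r2854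
theorem u2855 : ∀ k, 0 ≤ k → k < 99960 → chk (k * 22) = true := between_extend chk 22 0 99925 35 (u2854) r2855
theorem u2856 : ∀ k, 0 ≤ k → k < 99995 → chk (k * 22) = true := between_extend chk 22 0 99960 35 (u2855) r2856
theorem u2857 : ∀ k, 0 ≤ k → k < 100030 → chk (k * 22) = true := between_extend chk 22 0 99995 35 (u2856) r2857
theorem u2858 : ∀ k, 0 ≤ k → k < 100065 → chk (k * 22) = true := between_extend chk 22 0 100030 35 (u2857) r2858
theorem u2859 : ∀ k, 0 ≤ k → k < 100100 → chk (k * 22) = true := between_extend chk 22 0 100065 35 (u2858) r2859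
theorem u2860 : ∀ k, 0 ≤ k → k < 100135 → chk (k * 22) = true := between_extend chk 22 0 100100 35 (u2859) r2860
theorem u2861 : ∀ k, 0 ≤ k → k < 100170 → chk (k * 22) = true := between_extend chk 22 0 100135 35 (u2860) r2861
theorem u2862 : ∀ k, 0 ≤ k → k < 100205 → chk (k * 22) = true := between_extend chk 22 0 100170 35 (u2861) r2862
theorem u2863 : ∀ k, 0 ≤ k → k < 100240 → chk (k * 22) = true := between_extend chk 22 0 100205 35 (u2862) r2863
theorem u2864 : ∀ k, 0 ≤ k → k < 100275 → chk (k * 22) = true := between_extend chk 22 0 100240 35 (u2863) r2864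
theorem u2865 : ∀ k, 0 ≤ k → k < 100310 → chk (k * 22) = true := between_extend chk 22 0 100275 35 (u2864) r2865
theorem u2866 : ∀ k, 0 ≤ k → k < 100345 → chk (k * 22) = true := between_extend chk 22 0 100310 35 (u2865) r2866
theorem u2867 : ∀ k, 0 ≤ k → k < 100380 → chk (k * 22) = true := between_extend chk 22 0 100345 35 (u2866) r2867
theorem u2868 : ∀ k, 0 ≤ k → k < 100415 → chk (k * 22) = true := between_extend chk 22 0 100380 35 (u2867) r2868
theorem u2869 : ∀ k, 0 ≤ k → k < 100450 → chk (k * 22) = true := between_extend chk 22 0 100415 35 (u2868) r2869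
theorem u2870 : ∀ k, 0 ≤ k → k < 100485 → chk (k * 22) = true := between_extend chk 22 0 100450 35 (u2869) r2870
theorem u2871 : ∀ k, 0 ≤ k → k < 100520 → chk (k * 22) = true := between_extend chk 22 0 100485 35 (u2870) r2871
theorem u2872 : ∀ k, 0 ≤ k → k < 100555 → chk (k * 22) = true := between_extend chk 22 0 100520 35 (u2871) r2872
theorem u2873 : ∀ k, 0 ≤ k → k < 100590 → chk (k * 22) = true := between_extend chk 22 0 100555 35 (u2872) r2873
theorem u2874 : ∀ k, 0 ≤ k → k < 100625 → chk (k * 22) = true := between_extend chk 22 0 100590 35 (u2873) r2874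
theorem u2875 : ∀ k, 0 ≤ k → k < 100660 → chk (k * 22) = true := between_extend chk 22 0 100625 35 (u2874) r2875
theorem u2876 : ∀ k, 0 ≤ k → k < 100695 → chk (k * 22) = true := between_extend chk 22 0 100660 35 (u2875) r2876
theorem u2877 : ∀ k, 0 ≤ k → k < 100730 → chk (k * 22) = true := between_extend chk 22 0 100695 35 (u2876) r2877
theorem u2878 : ∀ k, 0 ≤ k → k < 100765 → chk (k * 22) = true := between_extend chk 22 0 100730 35 (u2877) r2878
theorem u2879 : ∀ k, 0 ≤ k → k < 100800 → chk (k * 22) = true := between_extend chk 22 0 100765 35 (u2878) r2879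
theorem u2880 : ∀ k, 0 ≤ k → k < 100835 → chk (k * 22) = true := between_extend chk 22 0 100800 35 (u2879) r2880
theorem u2881 : ∀ k, 0 ≤ k → k < 100870 → chk (k * 22) = true := between_extend chk 22 0 100835 35 (u2880) r2881
theorem u2882 : ∀ k, 0 ≤ k → k < 100905 → chk (k * 22) = true := between_extend chk 22 0 100870 35 (u2881) r2882
theorem u2883 : ∀ k, 0 ≤ k → k < 100940 → chk (k * 22) = true := between_extend chk 22 0 100905 35 (u2882) r2883
theorem u2884 : ∀ k, 0 ≤ k → k < 100975 → chk (k * 22) = true := between_extend chk 22 0 100940 35 (u2883) r2884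
theorem u2885 : ∀ k, 0 ≤ k → k < 101010 → chk (k * 22) = true := between_extend chk 22 0 100975 35 (u2884) r2885
theorem u2886 : ∀ k, 0 ≤ k → k < 101045 → chk (k * 22) = true := between_extend chk 22 0 101010 35 (u2885) r2886
theorem u2887 : ∀ k, 0 ≤ k → k < 101080 → chk (k * 22) = true := between_extend chk 22 0 101045 35 (u2886) r2887
theorem u2888 : ∀ k, 0 ≤ k → k < 101115 → chk (k * 22) = true := between_extend chk 22 0 101080 35 (u2887) r2888
theorem u2889 : ∀ k, 0 ≤ k → k < 101150 → chk (k * 22) = true := between_extend chk 22 0 101115 35 (u2888) r2889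
theorem u2890 : ∀ k, 0 ≤ k → k < 101185 → chk (k * 22) = true := between_extend chk 22 0 101150 35 (u2889) r2890
theorem u2891 : ∀ k, 0 ≤ k → k < 101220 → chk (k * 22) = true := between_extend chk 22 0 101185 35 (u2890) r2891
theorem u2892 : ∀ k, 0 ≤ k → k < 101255 → chk (k * 22) = true := between_extend chk 22 0 101220 35 (u2891) r2892
theorem u2893 : ∀ k, 0 ≤ k → k < 101290 → chk (k * 22) = true := between_extend chk 22 0 101255 35 (u2892) r2893
theorem u2894 : ∀ k, 0 ≤ k → k < 101325 → chk (k * 22) = true := between_extend chk 22 0 101290 35 (u2893) r2894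
theorem u2895 : ∀ k, 0 ≤ k → k < 101360 → chk (k * 22) = true := between_extend chk 22 0 101325 35 (u2894) r2895
theorem u2896 : ∀ k, 0 ≤ k → k < 101395 → chk (k * 22) = true := between_extend chk 22 0 101360 35 (u2895) r2896
theorem u2897 : ∀ k, 0 ≤ k → k < 101430 → chk (k * 22) = true := between_extend chk 22 0 101395 35 (u2896) r2897
theorem u2898 : ∀ k, 0 ≤ k → k < 101465 → chk (k * 22) = true := between_extend chk 22 0 101430 35 (u2897) r2898
theorem u2899 : ∀ k, 0 ≤ k → k < 101500 → chk (k * 22) = true := between_extend chk 22 0 101465 35 (u2898) r2899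
theorem u2900 : ∀ k, 0 ≤ k → k < 101535 → chk (k * 22) = true := between_extend chk 22 0 101500 35 (u2899) r2900
theorem u2901 : ∀ k, 0 ≤ k → k < 101570 → chk (k * 22) = true := between_extend chk 22 0 101535 35 (u2900) r2901
theorem u2902 : ∀ k, 0 ≤ k → k < 101605 → chk (k * 22) = true := between_extend chk 22 0 101570 35 (u2901) r2902
theorem u2903 : ∀ k, 0 ≤ k → k < 101640 → chk (k * 22) = true := between_extend chk 22 0 101605 35 (u2902) r2903
theorem u2904 : ∀ k, 0 ≤ k → k < 101675 → chk (k * 22) = true := between_extend chk 22 0 101640 35 (u2903) r2904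
theorem u2905 : ∀ k, 0 ≤ k → k < 101710 → chk (k * 22) = true := between_extend chk 22 0 101675 35 (u2904) r2905
theorem u2906 : ∀ k, 0 ≤ k → k < 101745 → chk (k * 22) = true := between_extend chk 22 0 101710 35 (u2905) r2906
theorem u2907 : ∀ k, 0 ≤ k → k < 101780 → chk (k * 22) = true := between_extend chk 22 0 101745 35 (u2906) r2907
theorem u2908 : ∀ k, 0 ≤ k → k < 101815 → chk (k * 22) = true := between_extend chk 22 0 101780 35 (u2907) r2908
theorem u2909 : ∀ k, 0 ≤ k → k < 101850 → chk (k * 22) = true := between_extend chk 22 0 101815 35 (u2908) r2909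
theorem u2910 : ∀ k, 0 ≤ k → k < 101885 → chk (k * 22) = true := between_extend chk 22 0 101850 35 (u2909) r2910
theorem u2911 : ∀ k, 0 ≤ k → k < 101920 → chk (k * 22) = true := between_extend chk 22 0 101885 35 (u2910) r2911
theorem u2912 : ∀ k, 0 ≤ k → k < 101955 → chk (k * 22) = true := between_extend chk 22 0 101920 35 (u2911) r2912
theorem u2913 : ∀ k, 0 ≤ k → k < 101990 → chk (k * 22) = true := between_extend chk 22 0 101955 35 (u2912) r2913
theorem u2914 : ∀ k, 0 ≤ k → k < 102025 → chk (k * 22) = true := between_extend chk 22 0 101990 35 (u2913) r2914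
theorem u2915 : ∀ k, 0 ≤ k → k < 102060 → chk (k * 22) = true := between_extend chk 22 0 102025 35 (u2914) r2915
theorem u2916 : ∀ k, 0 ≤ k → k < 102095 → chk (k * 22) = true := between_extend chk 22 0 102060 35 (u2915) r2916
theorem u2917 : ∀ k, 0 ≤ k → k < 102130 → chk (k * 22) = true := between_extend chk 22 0 102095 35 (u2916) r2917
theorem u2918 : ∀ k, 0 ≤ k → k < 102165 → chk (k * 22) = true := between_extend chk 22 0 102130 35 (u2917) r2918
theorem u2919 : ∀ k, 0 ≤ k → k < 102200 → chk (k * 22) = true := between_extend chk 22 0 102165 35 (u2918) r2919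
theorem u2920 : ∀ k, 0 ≤ k → k < 102235 → chk (k * 22) = true := between_extend chk 22 0 102200 35 (u2919) r2920
theorem u2921 : ∀ k, 0 ≤ k → k < 102270 → chk (k * 22) = true := between_extend chk 22 0 102235 35 (u2920) r2921
theorem u2922 : ∀ k, 0 ≤ k → k < 102305 → chk (k * 22) = true := between_extend chk 22 0 102270 35 (u2921) r2922
theorem u2923 : ∀ k, 0 ≤ k → k < 102340 → chk (k * 22) = true := between_extend chk 22 0 102305 35 (u2922) r2923
theorem u2924 : ∀ k, 0 ≤ k → k < 102375 → chk (k * 22) = true := between_extend chk 22 0 102340 35 (u2923) r2924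
theorem u2925 : ∀ k, 0 ≤ k → k < 102410 → chk (k * 22) = true := between_extend chk 22 0 102375 35 (u2924) r2925
theorem u2926 : ∀ k, 0 ≤ k → k < 102445 → chk (k * 22) = true := between_extend chk 22 0 102410 35 (u2925) r2926
theorem u2927 : ∀ k, 0 ≤ k → k < 102480 → chk (k * 22) = true := between_extend chk 22 0 102445 35 (u2926) r2927
theorem u2928 : ∀ k, 0 ≤ k → k < 102515 → chk (k * 22) = true := between_extend chk 22 0 102480 35 (u2927) r2928
theorem u2929 : ∀ k, 0 ≤ k → k < 102550 → chk (k * 22) = true := between_extend chk 22 0 102515 35 (u2928) r2929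
theorem u2930 : ∀ k, 0 ≤ k → k < 102585 → chk (k * 22) = true := between_extend chk 22 0 102550 35 (u2929) r2930
theorem u2931 : ∀ k, 0 ≤ k → k < 102620 → chk (k * 22) = true := between_extend chk 22 0 102585 35 (u2930) r2931
theorem u2932 : ∀ k, 0 ≤ k → k < 102655 → chk (k * 22) = true := between_extend chk 22 0 102620 35 (u2931) r2932
theorem u2933 : ∀ k, 0 ≤ k → k < 102690 → chk (k * 22) = true := between_extend chk 22 0 102655 35 (u2932) r2933
theorem u2934 : ∀ k, 0 ≤ k → k < 102725 → chk (k * 22) = true := between_extend chk 22 0 102690 35 (u2933) r2934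
theorem u2935 : ∀ k, 0 ≤ k → k < 102760 → chk (k * 22) = true := between_extend chk 22 0 102725 35 (u2934) r2935
theorem u2936 : ∀ k, 0 ≤ k → k < 102795 → chk (k * 22) = true := between_extend chk 22 0 102760 35 (u2935) r2936
theorem u2937 : ∀ k, 0 ≤ k → k < 102830 → chk (k * 22) = true := between_extend chk 22 0 102795 35 (u2936) r2937
theorem u2938 : ∀ k, 0 ≤ k → k < 102865 → chk (k * 22) = true := between_extend chk 22 0 102830 35 (u2937) r2938
theorem u2939 : ∀ k, 0 ≤ k → k < 102900 → chk (k * 22) = true := between_extend chk 22 0 102865 35 (u2938) r2939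
theorem u2940 : ∀ k, 0 ≤ k → k < 102935 → chk (k * 22) = true := between_extend chk 22 0 102900 35 (u2939) r2940
theorem u2941 : ∀ k, 0 ≤ k → k < 102970 → chk (k * 22) = true := between_extend chk 22 0 102935 35 (u2940) r2941
theorem u2942 : ∀ k, 0 ≤ k → k < 103005 → chk (k * 22) = true := between_extend chk 22 0 102970 35 (u2941) r2942
theorem u2943 : ∀ k, 0 ≤ k → k < 103040 → chk (k * 22) = true := between_extend chk 22 0 103005 35 (u2942) r2943
theorem u2944 : ∀ k, 0 ≤ k → k < 103075 → chk (k * 22) = true := between_extend chk 22 0 103040 35 (u2943) r2944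
theorem u2945 : ∀ k, 0 ≤ k → k < 103110 → chk (k * 22) = true := between_extend chk 22 0 103075 35 (u2944) r2945
theorem u2946 : ∀ k, 0 ≤ k → k < 103145 → chk (k * 22) = true := between_extend chk 22 0 103110 35 (u2945) r2946
theorem u2947 : ∀ k, 0 ≤ k → k < 103180 → chk (k * 22) = true := between_extend chk 22 0 103145 35 (u2946) r2947
theorem u2948 : ∀ k, 0 ≤ k → k < 103215 → chk (k * 22) = true := between_extend chk 22 0 103180 35 (u2947) r2948
theorem u2949 : ∀ k, 0 ≤ k → k < 103250 → chk (k * 22) = true := between_extend chk 22 0 103215 35 (u2948) r2949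
theorem u2950 : ∀ k, 0 ≤ k → k < 103285 → chk (k * 22) = true := between_extend chk 22 0 103250 35 (u2949) r2950
theorem u2951 : ∀ k, 0 ≤ k → k < 103320 → chk (k * 22) = true := between_extend chk 22 0 103285 35 (u2950) r2951
theorem u2952 : ∀ k, 0 ≤ k → k < 103355 → chk (k * 22) = true := between_extend chk 22 0 103320 35 (u2951) r2952
theorem u2953 : ∀ k, 0 ≤ k → k < 103390 → chk (k * 22) = true := between_extend chk 22 0 103355 35 (u2952) r2953
theorem u2954 : ∀ k, 0 ≤ k → k < 103425 → chk (k * 22) = true := between_extend chk 22 0 103390 35 (u2953) r2954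
theorem u2955 : ∀ k, 0 ≤ k → k < 103460 → chk (k * 22) = true := between_extend chk 22 0 103425 35 (u2954) r2955
theorem u2956 : ∀ k, 0 ≤ k → k < 103495 → chk (k * 22) = true := between_extend chk 22 0 103460 35 (u2955) r2956
theorem u2957 : ∀ k, 0 ≤ k → k < 103530 → chk (k * 22) = true := between_extend chk 22 0 103495 35 (u2956) r2957
theorem u2958 : ∀ k, 0 ≤ k → k < 103565 → chk (k * 22) = true := between_extend chk 22 0 103530 35 (u2957) r2958
theorem u2959 : ∀ k, 0 ≤ k → k < 103600 → chk (k * 22) = true := between_extend chk 22 0 103565 35 (u2958) r2959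
theorem u2960 : ∀ k, 0 ≤ k → k < 103635 → chk (k * 22) = true := between_extend chk 22 0 103600 35 (u2959) r2960
theorem u2961 : ∀ k, 0 ≤ k → k < 103670 → chk (k * 22) = true := between_extend chk 22 0 103635 35 (u2960) r2961
theorem u2962 : ∀ k, 0 ≤ k → k < 103705 → chk (k * 22) = true := between_extend chk 22 0 103670 35 (u2961) r2962
theorem u2963 : ∀ k, 0 ≤ k → k < 103740 → chk (k * 22) = true := between_extend chk 22 0 103705 35 (u2962) r2963
theorem u2964 : ∀ k, 0 ≤ k → k < 103775 → chk (k * 22) = true := between_extend chk 22 0 103740 35 (u2963) r2964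
theorem u2965 : ∀ k, 0 ≤ k → k < 103810 → chk (k * 22) = true := between_extend chk 22 0 103775 35 (u2964) r2965
theorem u2966 : ∀ k, 0 ≤ k → k < 103845 → chk (k * 22) = true := between_extend chk 22 0 103810 35 (u2965) r2966
theorem u2967 : ∀ k, 0 ≤ k → k < 103880 → chk (k * 22) = true := between_extend chk 22 0 103845 35 (u2966) r2967
theorem u2968 : ∀ k, 0 ≤ k → k < 103915 → chk (k * 22) = true := between_extend chk 22 0 103880 35 (u2967) r2968
theorem u2969 : ∀ k, 0 ≤ k → k < 103950 → chk (k * 22) = true := between_extend chk 22 0 103915 35 (u2968) r2969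
theorem u2970 : ∀ k, 0 ≤ k → k < 103985 → chk (k * 22) = true := between_extend chk 22 0 103950 35 (u2969) r2970
theorem u2971 : ∀ k, 0 ≤ k → k < 104020 → chk (k * 22) = true := between_extend chk 22 0 103985 35 (u2970) r2971
theorem u2972 : ∀ k, 0 ≤ k → k < 104055 → chk (k * 22) = true := between_extend chk 22 0 104020 35 (u2971) r2972
theorem u2973 : ∀ k, 0 ≤ k → k < 104090 → chk (k * 22) = true := between_extend chk 22 0 104055 35 (u2972) r2973
theorem u2974 : ∀ k, 0 ≤ k → k < 104125 → chk (k * 22) = true := between_extend chk 22 0 104090 35 (u2973) r2974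
theorem u2975 : ∀ k, 0 ≤ k → k < 104160 → chk (k * 22) = true := between_extend chk 22 0 104125 35 (u2974) r2975
theorem u2976 : ∀ k, 0 ≤ k → k < 104195 → chk (k * 22) = true := between_extend chk 22 0 104160 35 (u2975) r2976
theorem u2977 : ∀ k, 0 ≤ k → k < 104230 → chk (k * 22) = true := between_extend chk 22 0 104195 35 (u2976) r2977
theorem u2978 : ∀ k, 0 ≤ k → k < 104265 → chk (k * 22) = true := between_extend chk 22 0 104230 35 (u2977) r2978
theorem u2979 : ∀ k, 0 ≤ k → k < 104300 → chk (k * 22) = true := between_extend chk 22 0 104265 35 (u2978) r2979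
theorem u2980 : ∀ k, 0 ≤ k → k < 104335 → chk (k * 22) = true := between_extend chk 22 0 104300 35 (u2979) r2980
theorem u2981 : ∀ k, 0 ≤ k → k < 104370 → chk (k * 22) = true := between_extend chk 22 0 104335 35 (u2980) r2981
theorem u2982 : ∀ k, 0 ≤ k → k < 104405 → chk (k * 22) = true := between_extend chk 22 0 104370 35 (u2981) r2982
theorem u2983 : ∀ k, 0 ≤ k → k < 104440 → chk (k * 22) = true := between_extend chk 22 0 104405 35 (u2982) r2983
theorem u2984 : ∀ k, 0 ≤ k → k < 104475 → chk (k * 22) = true := between_extend chk 22 0 104440 35 (u2983) r2984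
theorem u2985 : ∀ k, 0 ≤ k → k < 104510 → chk (k * 22) = true := between_extend chk 22 0 104475 35 (u2984) r2985
theorem u2986 : ∀ k, 0 ≤ k → k < 104545 → chk (k * 22) = true := between_extend chk 22 0 104510 35 (u2985) r2986
theorem u2987 : ∀ k, 0 ≤ k → k < 104580 → chk (k * 22) = true := between_extend chk 22 0 104545 35 (u2986) r2987
theorem u2988 : ∀ k, 0 ≤ k → k < 104615 → chk (k * 22) = true := between_extend chk 22 0 104580 35 (u2987) r2988
theorem u2989 : ∀ k, 0 ≤ k → k < 104650 → chk (k * 22) = true := between_extend chk 22 0 104615 35 (u2988) r2989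
theorem u2990 : ∀ k, 0 ≤ k → k < 104685 → chk (k * 22) = true := between_extend chk 22 0 104650 35 (u2989) r2990
theorem u2991 : ∀ k, 0 ≤ k → k < 104720 → chk (k * 22) = true := between_extend chk 22 0 104685 35 (u2990) r2991
theorem u2992 : ∀ k, 0 ≤ k → k < 104755 → chk (k * 22) = true := between_extend chk 22 0 104720 35 (u2991) r2992
theorem u2993 : ∀ k, 0 ≤ k → k < 104790 → chk (k * 22) = true := between_extend chk 22 0 104755 35 (u2992) r2993
theorem u2994 : ∀ k, 0 ≤ k → k < 104825 → chk (k * 22) = true := between_extend chk 22 0 104790 35 (u2993) r2994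
theorem u2995 : ∀ k, 0 ≤ k → k < 104860 → chk (k * 22) = true := between_extend chk 22 0 104825 35 (u2994) r2995
theorem u2996 : ∀ k, 0 ≤ k → k < 104895 → chk (k * 22) = true := between_extend chk 22 0 104860 35 (u2995) r2996
theorem u2997 : ∀ k, 0 ≤ k → k < 104930 → chk (k * 22) = true := between_extend chk 22 0 104895 35 (u2996) r2997
theorem u2998 : ∀ k, 0 ≤ k → k < 104965 → chk (k * 22) = true := between_extend chk 22 0 104930 35 (u2997) r2998
theorem u2999 : ∀ k, 0 ≤ k → k < 105000 → chk (k * 22) = true := between_extend chk 22 0 104965 35 (u2998) r2999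
theorem u3000 : ∀ k, 0 ≤ k → k < 105035 → chk (k * 22) = true := between_extend chk 22 0 105000 35 (u2999) r3000
theorem u3001 : ∀ k, 0 ≤ k → k < 105070 → chk (k * 22) = true := between_extend chk 22 0 105035 35 (u3000) r3001
theorem u3002 : ∀ k, 0 ≤ k → k < 105105 → chk (k * 22) = true := between_extend chk 22 0 105070 35 (u3001) r3002
theorem u3003 : ∀ k, 0 ≤ k → k < 105140 → chk (k * 22) = true := between_extend chk 22 0 105105 35 (u3002) r3003
theorem u3004 : ∀ k, 0 ≤ k → k < 105175 → chk (k * 22) = true := between_extend chk 22 0 105140 35 (u3003) r3004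
theorem u3005 : ∀ k, 0 ≤ k → k < 105210 → chk (k * 22) = true := between_extend chk 22 0 105175 35 (u3004) r3005
theorem u3006 : ∀ k, 0 ≤ k → k < 105245 → chk (k * 22) = true := between_extend chk 22 0 105210 35 (u3005) r3006
theorem u3007 : ∀ k, 0 ≤ k → k < 105280 → chk (k * 22) = true := between_extend chk 22 0 105245 35 (u3006) r3007
theorem u3008 : ∀ k, 0 ≤ k → k < 105315 → chk (k * 22) = true := between_extend chk 22 0 105280 35 (u3007) r3008
theorem u3009 : ∀ k, 0 ≤ k → k < 105350 → chk (k * 22) = true := between_extend chk 22 0 105315 35 (u3008) r3009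
theorem u3010 : ∀ k, 0 ≤ k → k < 105385 → chk (k * 22) = true := between_extend chk 22 0 105350 35 (u3009) r3010
theorem u3011 : ∀ k, 0 ≤ k → k < 105420 → chk (k * 22) = true := between_extend chk 22 0 105385 35 (u3010) r3011
theorem u3012 : ∀ k, 0 ≤ k → k < 105455 → chk (k * 22) = true := between_extend chk 22 0 105420 35 (u3011) r3012
theorem u3013 : ∀ k, 0 ≤ k → k < 105490 → chk (k * 22) = true := between_extend chk 22 0 105455 35 (u3012) r3013
theorem u3014 : ∀ k, 0 ≤ k → k < 105525 → chk (k * 22) = true := between_extend chk 22 0 105490 35 (u3013) r3014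
theorem u3015 : ∀ k, 0 ≤ k → k < 105560 → chk (k * 22) = true := between_extend chk 22 0 105525 35 (u3014) r3015
theorem u3016 : ∀ k, 0 ≤ k → k < 105595 → chk (k * 22) = true := between_extend chk 22 0 105560 35 (u3015) r3016
theorem u3017 : ∀ k, 0 ≤ k → k < 105630 → chk (k * 22) = true := between_extend chk 22 0 105595 35 (u3016) r3017
theorem u3018 : ∀ k, 0 ≤ k → k < 105665 → chk (k * 22) = true := between_extend chk 22 0 105630 35 (u3017) r3018
theorem u3019 : ∀ k, 0 ≤ k → k < 105700 → chk (k * 22) = true := between_extend chk 22 0 105665 35 (u3018) r3019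
theorem u3020 : ∀ k, 0 ≤ k → k < 105735 → chk (k * 22) = true := between_extend chk 22 0 105700 35 (u3019) r3020
theorem u3021 : ∀ k, 0 ≤ k → k < 105770 → chk (k * 22) = true := between_extend chk 22 0 105735 35 (u3020) r3021
theorem u3022 : ∀ k, 0 ≤ k → k < 105805 → chk (k * 22) = true := between_extend chk 22 0 105770 35 (u3021) r3022
theorem u3023 : ∀ k, 0 ≤ k → k < 105840 → chk (k * 22) = true := between_extend chk 22 0 105805 35 (u3022) r3023
theorem u3024 : ∀ k, 0 ≤ k → k < 105875 → chk (k * 22) = true := between_extend chk 22 0 105840 35 (u3023) r3024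
theorem u3025 : ∀ k, 0 ≤ k → k < 105910 → chk (k * 22) = true := between_extend chk 22 0 105875 35 (u3024) r3025
theorem u3026 : ∀ k, 0 ≤ k → k < 105945 → chk (k * 22) = true := between_extend chk 22 0 105910 35 (u3025) r3026
theorem u3027 : ∀ k, 0 ≤ k → k < 105980 → chk (k * 22) = true := between_extend chk 22 0 105945 35 (u3026) r3027
theorem u3028 : ∀ k, 0 ≤ k → k < 106015 → chk (k * 22) = true := between_extend chk 22 0 105980 35 (u3027) r3028
theorem u3029 : ∀ k, 0 ≤ k → k < 106050 → chk (k * 22) = true := between_extend chk 22 0 106015 35 (u3028) r3029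
theorem u3030 : ∀ k, 0 ≤ k → k < 106085 → chk (k * 22) = true := between_extend chk 22 0 106050 35 (u3029) r3030
theorem u3031 : ∀ k, 0 ≤ k → k < 106120 → chk (k * 22) = true := between_extend chk 22 0 106085 35 (u3030) r3031
theorem u3032 : ∀ k, 0 ≤ k → k < 106155 → chk (k * 22) = true := between_extend chk 22 0 106120 35 (u3031) r3032
theorem u3033 : ∀ k, 0 ≤ k → k < 106190 → chk (k * 22) = true := between_extend chk 22 0 106155 35 (u3032) r3033
theorem u3034 : ∀ k, 0 ≤ k → k < 106225 → chk (k * 22) = true := between_extend chk 22 0 106190 35 (u3033) r3034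
theorem u3035 : ∀ k, 0 ≤ k → k < 106260 → chk (k * 22) = true := between_extend chk 22 0 106225 35 (u3034) r3035
theorem u3036 : ∀ k, 0 ≤ k → k < 106295 → chk (k * 22) = true := between_extend chk 22 0 106260 35 (u3035) r3036
theorem u3037 : ∀ k, 0 ≤ k → k < 106330 → chk (k * 22) = true := between_extend chk 22 0 106295 35 (u3036) r3037
theorem u3038 : ∀ k, 0 ≤ k → k < 106365 → chk (k * 22) = true := between_extend chk 22 0 106330 35 (u3037) r3038
theorem u3039 : ∀ k, 0 ≤ k → k < 106400 → chk (k * 22) = true := between_extend chk 22 0 106365 35 (u3038) r3039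
theorem u3040 : ∀ k, 0 ≤ k → k < 106435 → chk (k * 22) = true := between_extend chk 22 0 106400 35 (u3039) r3040
theorem u3041 : ∀ k, 0 ≤ k → k < 106470 → chk (k * 22) = true := between_extend chk 22 0 106435 35 (u3040) r3041
theorem u3042 : ∀ k, 0 ≤ k → k < 106505 → chk (k * 22) = true := between_extend chk 22 0 106470 35 (u3041) r3042
theorem u3043 : ∀ k, 0 ≤ k → k < 106540 → chk (k * 22) = true := between_extend chk 22 0 106505 35 (u3042) r3043
theorem u3044 : ∀ k, 0 ≤ k → k < 106575 → chk (k * 22) = true := between_extend chk 22 0 106540 35 (u3043) r3044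
theorem u3045 : ∀ k, 0 ≤ k → k < 106610 → chk (k * 22) = true := between_extend chk 22 0 106575 35 (u3044) r3045
theorem u3046 : ∀ k, 0 ≤ k → k < 106645 → chk (k * 22) = true := between_extend chk 22 0 106610 35 (u3045) r3046
theorem u3047 : ∀ k, 0 ≤ k → k < 106680 → chk (k * 22) = true := between_extend chk 22 0 106645 35 (u3046) r3047
theorem u3048 : ∀ k, 0 ≤ k → k < 106715 → chk (k * 22) = true := between_extend chk 22 0 106680 35 (u3047) r3048
theorem u3049 : ∀ k, 0 ≤ k → k < 106750 → chk (k * 22) = true := between_extend chk 22 0 106715 35 (u3048) r3049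
theorem u3050 : ∀ k, 0 ≤ k → k < 106785 → chk (k * 22) = true := between_extend chk 22 0 106750 35 (u3049) r3050
theorem u3051 : ∀ k, 0 ≤ k → k < 106820 → chk (k * 22) = true := between_extend chk 22 0 106785 35 (u3050) r3051
theorem u3052 : ∀ k, 0 ≤ k → k < 106855 → chk (k * 22) = true := between_extend chk 22 0 106820 35 (u3051) r3052
theorem u3053 : ∀ k, 0 ≤ k → k < 106890 → chk (k * 22) = true := between_extend chk 22 0 106855 35 (u3052) r3053
theorem u3054 : ∀ k, 0 ≤ k → k < 106925 → chk (k * 22) = true := between_extend chk 22 0 106890 35 (u3053) r3054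
theorem u3055 : ∀ k, 0 ≤ k → k < 106960 → chk (k * 22) = true := between_extend chk 22 0 106925 35 (u3054) r3055
theorem u3056 : ∀ k, 0 ≤ k → k < 106995 → chk (k * 22) = true := between_extend chk 22 0 106960 35 (u3055) r3056
theorem u3057 : ∀ k, 0 ≤ k → k < 107030 → chk (k * 22) = true := between_extend chk 22 0 106995 35 (u3056) r3057
theorem u3058 : ∀ k, 0 ≤ k → k < 107065 → chk (k * 22) = true := between_extend chk 22 0 107030 35 (u3057) r3058
theorem u3059 : ∀ k, 0 ≤ k → k < 107100 → chk (k * 22) = true := between_extend chk 22 0 107065 35 (u3058) r3059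
theorem u3060 : ∀ k, 0 ≤ k → k < 107135 → chk (k * 22) = true := between_extend chk 22 0 107100 35 (u3059) r3060
theorem u3061 : ∀ k, 0 ≤ k → k < 107170 → chk (k * 22) = true := between_extend chk 22 0 107135 35 (u3060) r3061
theorem u3062 : ∀ k, 0 ≤ k → k < 107205 → chk (k * 22) = true := between_extend chk 22 0 107170 35 (u3061) r3062
theorem u3063 : ∀ k, 0 ≤ k → k < 107240 → chk (k * 22) = true := between_extend chk 22 0 107205 35 (u3062) r3063
theorem u3064 : ∀ k, 0 ≤ k → k < 107275 → chk (k * 22) = true := between_extend chk 22 0 107240 35 (u3063) r3064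
theorem u3065 : ∀ k, 0 ≤ k → k < 107310 → chk (k * 22) = true := between_extend chk 22 0 107275 35 (u3064) r3065
theorem u3066 : ∀ k, 0 ≤ k → k < 107345 → chk (k * 22) = true := between_extend chk 22 0 107310 35 (u3065) r3066
theorem u3067 : ∀ k, 0 ≤ k → k < 107380 → chk (k * 22) = true := between_extend chk 22 0 107345 35 (u3066) r3067
theorem u3068 : ∀ k, 0 ≤ k → k < 107415 → chk (k * 22) = true := between_extend chk 22 0 107380 35 (u3067) r3068
theorem u3069 : ∀ k, 0 ≤ k → k < 107450 → chk (k * 22) = true := between_extend chk 22 0 107415 35 (u3068) r3069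
theorem u3070 : ∀ k, 0 ≤ k → k < 107485 → chk (k * 22) = true := between_extend chk 22 0 107450 35 (u3069) r3070
theorem u3071 : ∀ k, 0 ≤ k → k < 107520 → chk (k * 22) = true := between_extend chk 22 0 107485 35 (u3070) r3071
theorem u3072 : ∀ k, 0 ≤ k → k < 107555 → chk (k * 22) = true := between_extend chk 22 0 107520 35 (u3071) r3072
theorem u3073 : ∀ k, 0 ≤ k → k < 107590 → chk (k * 22) = true := between_extend chk 22 0 107555 35 (u3072) r3073
theorem u3074 : ∀ k, 0 ≤ k → k < 107625 → chk (k * 22) = true := between_extend chk 22 0 107590 35 (u3073) r3074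
theorem u3075 : ∀ k, 0 ≤ k → k < 107660 → chk (k * 22) = true := between_extend chk 22 0 107625 35 (u3074) r3075
theorem u3076 : ∀ k, 0 ≤ k → k < 107695 → chk (k * 22) = true := between_extend chk 22 0 107660 35 (u3075) r3076
theorem u3077 : ∀ k, 0 ≤ k → k < 107730 → chk (k * 22) = true := between_extend chk 22 0 107695 35 (u3076) r3077
theorem u3078 : ∀ k, 0 ≤ k → k < 107765 → chk (k * 22) = true := between_extend chk 22 0 107730 35 (u3077) r3078
theorem u3079 : ∀ k, 0 ≤ k → k < 107800 → chk (k * 22) = true := between_extend chk 22 0 107765 35 (u3078) r3079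
theorem u3080 : ∀ k, 0 ≤ k → k < 107835 → chk (k * 22) = true := between_extend chk 22 0 107800 35 (u3079) r3080
theorem u3081 : ∀ k, 0 ≤ k → k < 107870 → chk (k * 22) = true := between_extend chk 22 0 107835 35 (u3080) r3081
theorem u3082 : ∀ k, 0 ≤ k → k < 107905 → chk (k * 22) = true := between_extend chk 22 0 107870 35 (u3081) r3082
theorem u3083 : ∀ k, 0 ≤ k → k < 107940 → chk (k * 22) = true := between_extend chk 22 0 107905 35 (u3082) r3083
theorem u3084 : ∀ k, 0 ≤ k → k < 107975 → chk (k * 22) = true := between_extend chk 22 0 107940 35 (u3083) r3084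
theorem u3085 : ∀ k, 0 ≤ k → k < 108010 → chk (k * 22) = true := between_extend chk 22 0 107975 35 (u3084) r3085
theorem u3086 : ∀ k, 0 ≤ k → k < 108045 → chk (k * 22) = true := between_extend chk 22 0 108010 35 (u3085) r3086
theorem u3087 : ∀ k, 0 ≤ k → k < 108080 → chk (k * 22) = true := between_extend chk 22 0 108045 35 (u3086) r3087
theorem u3088 : ∀ k, 0 ≤ k → k < 108115 → chk (k * 22) = true := between_extend chk 22 0 108080 35 (u3087) r3088
theorem u3089 : ∀ k, 0 ≤ k → k < 108150 → chk (k * 22) = true := between_extend chk 22 0 108115 35 (u3088) r3089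
theorem u3090 : ∀ k, 0 ≤ k → k < 108185 → chk (k * 22) = true := between_extend chk 22 0 108150 35 (u3089) r3090
theorem u3091 : ∀ k, 0 ≤ k → k < 108220 → chk (k * 22) = true := between_extend chk 22 0 108185 35 (u3090) r3091
theorem u3092 : ∀ k, 0 ≤ k → k < 108255 → chk (k * 22) = true := between_extend chk 22 0 108220 35 (u3091) r3092
theorem u3093 : ∀ k, 0 ≤ k → k < 108290 → chk (k * 22) = true := between_extend chk 22 0 108255 35 (u3092) r3093
theorem u3094 : ∀ k, 0 ≤ k → k < 108325 → chk (k * 22) = true := between_extend chk 22 0 108290 35 (u3093) r3094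
theorem u3095 : ∀ k, 0 ≤ k → k < 108360 → chk (k * 22) = true := between_extend chk 22 0 108325 35 (u3094) r3095
theorem u3096 : ∀ k, 0 ≤ k → k < 108395 → chk (k * 22) = true := between_extend chk 22 0 108360 35 (u3095) r3096
theorem u3097 : ∀ k, 0 ≤ k → k < 108430 → chk (k * 22) = true := between_extend chk 22 0 108395 35 (u3096) r3097
theorem u3098 : ∀ k, 0 ≤ k → k < 108465 → chk (k * 22) = true := between_extend chk 22 0 108430 35 (u3097) r3098
theorem u3099 : ∀ k, 0 ≤ k → k < 108500 → chk (k * 22) = true := between_extend chk 22 0 108465 35 (u3098) r3099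
theorem u3100 : ∀ k, 0 ≤ k → k < 108535 → chk (k * 22) = true := between_extend chk 22 0 108500 35 (u3099) r3100
theorem u3101 : ∀ k, 0 ≤ k → k < 108570 → chk (k * 22) = true := between_extend chk 22 0 108535 35 (u3100) r3101
theorem u3102 : ∀ k, 0 ≤ k → k < 108605 → chk (k * 22) = true := between_extend chk 22 0 108570 35 (u3101) r3102
theorem u3103 : ∀ k, 0 ≤ k → k < 108640 → chk (k * 22) = true := between_extend chk 22 0 108605 35 (u3102) r3103
theorem u3104 : ∀ k, 0 ≤ k → k < 108675 → chk (k * 22) = true := between_extend chk 22 0 108640 35 (u3103) r3104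
theorem u3105 : ∀ k, 0 ≤ k → k < 108710 → chk (k * 22) = true := between_extend chk 22 0 108675 35 (u3104) r3105
theorem u3106 : ∀ k, 0 ≤ k → k < 108745 → chk (k * 22) = true := between_extend chk 22 0 108710 35 (u3105) r3106
theorem u3107 : ∀ k, 0 ≤ k → k < 108780 → chk (k * 22) = true := between_extend chk 22 0 108745 35 (u3106) r3107
theorem u3108 : ∀ k, 0 ≤ k → k < 108815 → chk (k * 22) = true := between_extend chk 22 0 108780 35 (u3107) r3108
theorem u3109 : ∀ k, 0 ≤ k → k < 108850 → chk (k * 22) = true := between_extend chk 22 0 108815 35 (u3108) r3109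
theorem u3110 : ∀ k, 0 ≤ k → k < 108885 → chk (k * 22) = true := between_extend chk 22 0 108850 35 (u3109) r3110
theorem u3111 : ∀ k, 0 ≤ k → k < 108920 → chk (k * 22) = true := between_extend chk 22 0 108885 35 (u3110) r3111
theorem u3112 : ∀ k, 0 ≤ k → k < 108955 → chk (k * 22) = true := between_extend chk 22 0 108920 35 (u3111) r3112
theorem u3113 : ∀ k, 0 ≤ k → k < 108990 → chk (k * 22) = true := between_extend chk 22 0 108955 35 (u3112) r3113
theorem u3114 : ∀ k, 0 ≤ k → k < 109025 → chk (k * 22) = true := between_extend chk 22 0 108990 35 (u3113) r3114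
theorem u3115 : ∀ k, 0 ≤ k → k < 109060 → chk (k * 22) = true := between_extend chk 22 0 109025 35 (u3114) r3115
theorem u3116 : ∀ k, 0 ≤ k → k < 109095 → chk (k * 22) = true := between_extend chk 22 0 109060 35 (u3115) r3116
theorem u3117 : ∀ k, 0 ≤ k → k < 109130 → chk (k * 22) = true := between_extend chk 22 0 109095 35 (u3116) r3117
theorem u3118 : ∀ k, 0 ≤ k → k < 109165 → chk (k * 22) = true := between_extend chk 22 0 109130 35 (u3117) r3118
theorem u3119 : ∀ k, 0 ≤ k → k < 109200 → chk (k * 22) = true := between_extend chk 22 0 109165 35 (u3118) r3119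
theorem u3120 : ∀ k, 0 ≤ k → k < 109235 → chk (k * 22) = true := between_extend chk 22 0 109200 35 (u3119) r3120
theorem u3121 : ∀ k, 0 ≤ k → k < 109270 → chk (k * 22) = true := between_extend chk 22 0 109235 35 (u3120) r3121
theorem u3122 : ∀ k, 0 ≤ k → k < 109305 → chk (k * 22) = true := between_extend chk 22 0 109270 35 (u3121) r3122
theorem u3123 : ∀ k, 0 ≤ k → k < 109340 → chk (k * 22) = true := between_extend chk 22 0 109305 35 (u3122) r3123
theorem u3124 : ∀ k, 0 ≤ k → k < 109375 → chk (k * 22) = true := between_extend chk 22 0 109340 35 (u3123) r3124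
theorem u3125 : ∀ k, 0 ≤ k → k < 109410 → chk (k * 22) = true := between_extend chk 22 0 109375 35 (u3124) r3125
theorem u3126 : ∀ k, 0 ≤ k → k < 109445 → chk (k * 22) = true := between_extend chk 22 0 109410 35 (u3125) r3126
theorem u3127 : ∀ k, 0 ≤ k → k < 109480 → chk (k * 22) = true := between_extend chk 22 0 109445 35 (u3126) r3127
theorem u3128 : ∀ k, 0 ≤ k → k < 109515 → chk (k * 22) = true := between_extend chk 22 0 109480 35 (u3127) r3128
theorem u3129 : ∀ k, 0 ≤ k → k < 109550 → chk (k * 22) = true := between_extend chk 22 0 109515 35 (u3128) r3129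
theorem u3130 : ∀ k, 0 ≤ k → k < 109585 → chk (k * 22) = true := between_extend chk 22 0 109550 35 (u3129) r3130
theorem u3131 : ∀ k, 0 ≤ k → k < 109620 → chk (k * 22) = true := between_extend chk 22 0 109585 35 (u3130) r3131
theorem u3132 : ∀ k, 0 ≤ k → k < 109655 → chk (k * 22) = true := between_extend chk 22 0 109620 35 (u3131) r3132
theorem u3133 : ∀ k, 0 ≤ k → k < 109690 → chk (k * 22) = true := between_extend chk 22 0 109655 35 (u3132) r3133
theorem u3134 : ∀ k, 0 ≤ k → k < 109725 → chk (k * 22) = true := between_extend chk 22 0 109690 35 (u3133) r3134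
theorem u3135 : ∀ k, 0 ≤ k → k < 109760 → chk (k * 22) = true := between_extend chk 22 0 109725 35 (u3134) r3135
theorem u3136 : ∀ k, 0 ≤ k → k < 109795 → chk (k * 22) = true := between_extend chk 22 0 109760 35 (u3135) r3136
theorem u3137 : ∀ k, 0 ≤ k → k < 109830 → chk (k * 22) = true := between_extend chk 22 0 109795 35 (u3136) r3137
theorem u3138 : ∀ k, 0 ≤ k → k < 109865 → chk (k * 22) = true := between_extend chk 22 0 109830 35 (u3137) r3138
theorem u3139 : ∀ k, 0 ≤ k → k < 109900 → chk (k * 22) = true := between_extend chk 22 0 109865 35 (u3138) r3139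
theorem u3140 : ∀ k, 0 ≤ k → k < 109935 → chk (k * 22) = true := between_extend chk 22 0 109900 35 (u3139) r3140
theorem u3141 : ∀ k, 0 ≤ k → k < 109970 → chk (k * 22) = true := between_extend chk 22 0 109935 35 (u3140) r3141
theorem u3142 : ∀ k, 0 ≤ k → k < 110005 → chk (k * 22) = true := between_extend chk 22 0 109970 35 (u3141) r3142
theorem u3143 : ∀ k, 0 ≤ k → k < 110040 → chk (k * 22) = true := between_extend chk 22 0 110005 35 (u3142) r3143
theorem u3144 : ∀ k, 0 ≤ k → k < 110075 → chk (k * 22) = true := between_extend chk 22 0 110040 35 (u3143) r3144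
theorem u3145 : ∀ k, 0 ≤ k → k < 110110 → chk (k * 22) = true := between_extend chk 22 0 110075 35 (u3144) r3145
theorem u3146 : ∀ k, 0 ≤ k → k < 110145 → chk (k * 22) = true := between_extend chk 22 0 110110 35 (u3145) r3146
theorem u3147 : ∀ k, 0 ≤ k → k < 110180 → chk (k * 22) = true := between_extend chk 22 0 110145 35 (u3146) r3147
theorem u3148 : ∀ k, 0 ≤ k → k < 110215 → chk (k * 22) = true := between_extend chk 22 0 110180 35 (u3147) r3148
theorem u3149 : ∀ k, 0 ≤ k → k < 110250 → chk (k * 22) = true := between_extend chk 22 0 110215 35 (u3148) r3149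
theorem u3150 : ∀ k, 0 ≤ k → k < 110285 → chk (k * 22) = true := between_extend chk 22 0 110250 35 (u3149) r3150
theorem u3151 : ∀ k, 0 ≤ k → k < 110320 → chk (k * 22) = true := between_extend chk 22 0 110285 35 (u3150) r3151
theorem u3152 : ∀ k, 0 ≤ k → k < 110355 → chk (k * 22) = true := between_extend chk 22 0 110320 35 (u3151) r3152
theorem u3153 : ∀ k, 0 ≤ k → k < 110390 → chk (k * 22) = true := between_extend chk 22 0 110355 35 (u3152) r3153
theorem u3154 : ∀ k, 0 ≤ k → k < 110425 → chk (k * 22) = true := between_extend chk 22 0 110390 35 (u3153) r3154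
theorem u3155 : ∀ k, 0 ≤ k → k < 110460 → chk (k * 22) = true := between_extend chk 22 0 110425 35 (u3154) r3155
theorem u3156 : ∀ k, 0 ≤ k → k < 110495 → chk (k * 22) = true := between_extend chk 22 0 110460 35 (u3155) r3156
theorem u3157 : ∀ k, 0 ≤ k → k < 110530 → chk (k * 22) = true := between_extend chk 22 0 110495 35 (u3156) r3157
theorem u3158 : ∀ k, 0 ≤ k → k < 110565 → chk (k * 22) = true := between_extend chk 22 0 110530 35 (u3157) r3158
theorem u3159 : ∀ k, 0 ≤ k → k < 110600 → chk (k * 22) = true := between_extend chk 22 0 110565 35 (u3158) r3159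
theorem u3160 : ∀ k, 0 ≤ k → k < 110635 → chk (k * 22) = true := between_extend chk 22 0 110600 35 (u3159) r3160
theorem u3161 : ∀ k, 0 ≤ k → k < 110670 → chk (k * 22) = true := between_extend chk 22 0 110635 35 (u3160) r3161
theorem u3162 : ∀ k, 0 ≤ k → k < 110705 → chk (k * 22) = true := between_extend chk 22 0 110670 35 (u3161) r3162
theorem u3163 : ∀ k, 0 ≤ k → k < 110740 → chk (k * 22) = true := between_extend chk 22 0 110705 35 (u3162) r3163
theorem u3164 : ∀ k, 0 ≤ k → k < 110775 → chk (k * 22) = true := between_extend chk 22 0 110740 35 (u3163) r3164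
theorem u3165 : ∀ k, 0 ≤ k → k < 110810 → chk (k * 22) = true := between_extend chk 22 0 110775 35 (u3164) r3165
theorem u3166 : ∀ k, 0 ≤ k → k < 110845 → chk (k * 22) = true := between_extend chk 22 0 110810 35 (u3165) r3166
theorem u3167 : ∀ k, 0 ≤ k → k < 110880 → chk (k * 22) = true := between_extend chk 22 0 110845 35 (u3166) r3167
theorem u3168 : ∀ k, 0 ≤ k → k < 110915 → chk (k * 22) = true := between_extend chk 22 0 110880 35 (u3167) r3168
theorem u3169 : ∀ k, 0 ≤ k → k < 110950 → chk (k * 22) = true := between_extend chk 22 0 110915 35 (u3168) r3169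
theorem u3170 : ∀ k, 0 ≤ k → k < 110985 → chk (k * 22) = true := between_extend chk 22 0 110950 35 (u3169) r3170
theorem u3171 : ∀ k, 0 ≤ k → k < 111020 → chk (k * 22) = true := between_extend chk 22 0 110985 35 (u3170) r3171
theorem u3172 : ∀ k, 0 ≤ k → k < 111055 → chk (k * 22) = true := between_extend chk 22 0 111020 35 (u3171) r3172
theorem u3173 : ∀ k, 0 ≤ k → k < 111090 → chk (k * 22) = true := between_extend chk 22 0 111055 35 (u3172) r3173
theorem u3174 : ∀ k, 0 ≤ k → k < 111125 → chk (k * 22) = true := between_extend chk 22 0 111090 35 (u3173) r3174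
theorem u3175 : ∀ k, 0 ≤ k → k < 111160 → chk (k * 22) = true := between_extend chk 22 0 111125 35 (u3174) r3175
theorem u3176 : ∀ k, 0 ≤ k → k < 111195 → chk (k * 22) = true := between_extend chk 22 0 111160 35 (u3175) r3176
theorem u3177 : ∀ k, 0 ≤ k → k < 111230 → chk (k * 22) = true := between_extend chk 22 0 111195 35 (u3176) r3177
theorem u3178 : ∀ k, 0 ≤ k → k < 111265 → chk (k * 22) = true := between_extend chk 22 0 111230 35 (u3177) r3178
theorem u3179 : ∀ k, 0 ≤ k → k < 111300 → chk (k * 22) = true := between_extend chk 22 0 111265 35 (u3178) r3179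
theorem u3180 : ∀ k, 0 ≤ k → k < 111335 → chk (k * 22) = true := between_extend chk 22 0 111300 35 (u3179) r3180
theorem u3181 : ∀ k, 0 ≤ k → k < 111370 → chk (k * 22) = true := between_extend chk 22 0 111335 35 (u3180) r3181
theorem u3182 : ∀ k, 0 ≤ k → k < 111405 → chk (k * 22) = true := between_extend chk 22 0 111370 35 (u3181) r3182
theorem u3183 : ∀ k, 0 ≤ k → k < 111440 → chk (k * 22) = true := between_extend chk 22 0 111405 35 (u3182) r3183
theorem u3184 : ∀ k, 0 ≤ k → k < 111475 → chk (k * 22) = true := between_extend chk 22 0 111440 35 (u3183) r3184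
theorem u3185 : ∀ k, 0 ≤ k → k < 111510 → chk (k * 22) = true := between_extend chk 22 0 111475 35 (u3184) r3185
theorem u3186 : ∀ k, 0 ≤ k → k < 111545 → chk (k * 22) = true := between_extend chk 22 0 111510 35 (u3185) r3186
theorem u3187 : ∀ k, 0 ≤ k → k < 111580 → chk (k * 22) = true := between_extend chk 22 0 111545 35 (u3186) r3187
theorem u3188 : ∀ k, 0 ≤ k → k < 111615 → chk (k * 22) = true := between_extend chk 22 0 111580 35 (u3187) r3188
theorem u3189 : ∀ k, 0 ≤ k → k < 111650 → chk (k * 22) = true := between_extend chk 22 0 111615 35 (u3188) r3189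
theorem u3190 : ∀ k, 0 ≤ k → k < 111685 → chk (k * 22) = true := between_extend chk 22 0 111650 35 (u3189) r3190
theorem u3191 : ∀ k, 0 ≤ k → k < 111720 → chk (k * 22) = true := between_extend chk 22 0 111685 35 (u3190) r3191
theorem u3192 : ∀ k, 0 ≤ k → k < 111755 → chk (k * 22) = true := between_extend chk 22 0 111720 35 (u3191) r3192
theorem u3193 : ∀ k, 0 ≤ k → k < 111790 → chk (k * 22) = true := between_extend chk 22 0 111755 35 (u3192) r3193
theorem u3194 : ∀ k, 0 ≤ k → k < 111825 → chk (k * 22) = true := between_extend chk 22 0 111790 35 (u3193) r3194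
theorem u3195 : ∀ k, 0 ≤ k → k < 111860 → chk (k * 22) = true := between_extend chk 22 0 111825 35 (u3194) r3195
theorem u3196 : ∀ k, 0 ≤ k → k < 111895 → chk (k * 22) = true := between_extend chk 22 0 111860 35 (u3195) r3196
theorem u3197 : ∀ k, 0 ≤ k → k < 111930 → chk (k * 22) = true := between_extend chk 22 0 111895 35 (u3196) r3197
theorem u3198 : ∀ k, 0 ≤ k → k < 111965 → chk (k * 22) = true := between_extend chk 22 0 111930 35 (u3197) r3198
theorem u3199 : ∀ k, 0 ≤ k → k < 112000 → chk (k * 22) = true := between_extend chk 22 0 111965 35 (u3198) r3199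
theorem u3200 : ∀ k, 0 ≤ k → k < 112035 → chk (k * 22) = true := between_extend chk 22 0 112000 35 (u3199) r3200
theorem u3201 : ∀ k, 0 ≤ k → k < 112070 → chk (k * 22) = true := between_extend chk 22 0 112035 35 (u3200) r3201
theorem u3202 : ∀ k, 0 ≤ k → k < 112105 → chk (k * 22) = true := between_extend chk 22 0 112070 35 (u3201) r3202
theorem u3203 : ∀ k, 0 ≤ k → k < 112140 → chk (k * 22) = true := between_extend chk 22 0 112105 35 (u3202) r3203
theorem u3204 : ∀ k, 0 ≤ k → k < 112175 → chk (k * 22) = true := between_extend chk 22 0 112140 35 (u3203) r3204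
theorem u3205 : ∀ k, 0 ≤ k → k < 112210 → chk (k * 22) = true := between_extend chk 22 0 112175 35 (u3204) r3205
theorem u3206 : ∀ k, 0 ≤ k → k < 112245 → chk (k * 22) = true := between_extend chk 22 0 112210 35 (u3205) r3206
theorem u3207 : ∀ k, 0 ≤ k → k < 112280 → chk (k * 22) = true := between_extend chk 22 0 112245 35 (u3206) r3207
theorem u3208 : ∀ k, 0 ≤ k → k < 112315 → chk (k * 22) = true := between_extend chk 22 0 112280 35 (u3207) r3208
theorem u3209 : ∀ k, 0 ≤ k → k < 112350 → chk (k * 22) = true := between_extend chk 22 0 112315 35 (u3208) r3209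
theorem u3210 : ∀ k, 0 ≤ k → k < 112385 → chk (k * 22) = true := between_extend chk 22 0 112350 35 (u3209) r3210
theorem u3211 : ∀ k, 0 ≤ k → k < 112420 → chk (k * 22) = true := between_extend chk 22 0 112385 35 (u3210) r3211
theorem u3212 : ∀ k, 0 ≤ k → k < 112455 → chk (k * 22) = true := between_extend chk 22 0 112420 35 (u3211) r3212
theorem u3213 : ∀ k, 0 ≤ k → k < 112490 → chk (k * 22) = true := between_extend chk 22 0 112455 35 (u3212) r3213
theorem u3214 : ∀ k, 0 ≤ k → k < 112525 → chk (k * 22) = true := between_extend chk 22 0 112490 35 (u3213) r3214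
theorem u3215 : ∀ k, 0 ≤ k → k < 112560 → chk (k * 22) = true := between_extend chk 22 0 112525 35 (u3214) r3215
theorem u3216 : ∀ k, 0 ≤ k → k < 112595 → chk (k * 22) = true := between_extend chk 22 0 112560 35 (u3215) r3216
theorem u3217 : ∀ k, 0 ≤ k → k < 112630 → chk (k * 22) = true := between_extend chk 22 0 112595 35 (u3216) r3217
theorem u3218 : ∀ k, 0 ≤ k → k < 112665 → chk (k * 22) = true := between_extend chk 22 0 112630 35 (u3217) r3218
theorem u3219 : ∀ k, 0 ≤ k → k < 112700 → chk (k * 22) = true := between_extend chk 22 0 112665 35 (u3218) r3219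
theorem u3220 : ∀ k, 0 ≤ k → k < 112735 → chk (k * 22) = true := between_extend chk 22 0 112700 35 (u3219) r3220
theorem u3221 : ∀ k, 0 ≤ k → k < 112770 → chk (k * 22) = true := between_extend chk 22 0 112735 35 (u3220) r3221
theorem u3222 : ∀ k, 0 ≤ k → k < 112805 → chk (k * 22) = true := between_extend chk 22 0 112770 35 (u3221) r3222
theorem u3223 : ∀ k, 0 ≤ k → k < 112840 → chk (k * 22) = true := between_extend chk 22 0 112805 35 (u3222) r3223
theorem u3224 : ∀ k, 0 ≤ k → k < 112875 → chk (k * 22) = true := between_extend chk 22 0 112840 35 (u3223) r3224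
theorem u3225 : ∀ k, 0 ≤ k → k < 112910 → chk (k * 22) = true := between_extend chk 22 0 112875 35 (u3224) r3225
theorem u3226 : ∀ k, 0 ≤ k → k < 112945 → chk (k * 22) = true := between_extend chk 22 0 112910 35 (u3225) r3226
theorem u3227 : ∀ k, 0 ≤ k → k < 112980 → chk (k * 22) = true := between_extend chk 22 0 112945 35 (u3226) r3227
theorem u3228 : ∀ k, 0 ≤ k → k < 113015 → chk (k * 22) = true := between_extend chk 22 0 112980 35 (u3227) r3228
theorem u3229 : ∀ k, 0 ≤ k → k < 113050 → chk (k * 22) = true := between_extend chk 22 0 113015 35 (u3228) r3229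
theorem u3230 : ∀ k, 0 ≤ k → k < 113085 → chk (k * 22) = true := between_extend chk 22 0 113050 35 (u3229) r3230
theorem u3231 : ∀ k, 0 ≤ k → k < 113120 → chk (k * 22) = true := between_extend chk 22 0 113085 35 (u3230) r3231
theorem u3232 : ∀ k, 0 ≤ k → k < 113155 → chk (k * 22) = true := between_extend chk 22 0 113120 35 (u3231) r3232
theorem u3233 : ∀ k, 0 ≤ k → k < 113190 → chk (k * 22) = true := between_extend chk 22 0 113155 35 (u3232) r3233
theorem u3234 : ∀ k, 0 ≤ k → k < 113225 → chk (k * 22) = true := between_extend chk 22 0 113190 35 (u3233) r3234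
theorem u3235 : ∀ k, 0 ≤ k → k < 113260 → chk (k * 22) = true := between_extend chk 22 0 113225 35 (u3234) r3235
theorem u3236 : ∀ k, 0 ≤ k → k < 113295 → chk (k * 22) = true := between_extend chk 22 0 113260 35 (u3235) r3236
theorem u3237 : ∀ k, 0 ≤ k → k < 113330 → chk (k * 22) = true := between_extend chk 22 0 113295 35 (u3236) r3237
theorem u3238 : ∀ k, 0 ≤ k → k < 113365 → chk (k * 22) = true := between_extend chk 22 0 113330 35 (u3237) r3238
theorem u3239 : ∀ k, 0 ≤ k → k < 113400 → chk (k * 22) = true := between_extend chk 22 0 113365 35 (u3238) r3239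
theorem u3240 : ∀ k, 0 ≤ k → k < 113435 → chk (k * 22) = true := between_extend chk 22 0 113400 35 (u3239) r3240
theorem u3241 : ∀ k, 0 ≤ k → k < 113470 → chk (k * 22) = true := between_extend chk 22 0 113435 35 (u3240) r3241
theorem u3242 : ∀ k, 0 ≤ k → k < 113505 → chk (k * 22) = true := between_extend chk 22 0 113470 35 (u3241) r3242
theorem u3243 : ∀ k, 0 ≤ k → k < 113540 → chk (k * 22) = true := between_extend chk 22 0 113505 35 (u3242) r3243
theorem u3244 : ∀ k, 0 ≤ k → k < 113575 → chk (k * 22) = true := between_extend chk 22 0 113540 35 (u3243) r3244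
theorem u3245 : ∀ k, 0 ≤ k → k < 113610 → chk (k * 22) = true := between_extend chk 22 0 113575 35 (u3244) r3245
theorem u3246 : ∀ k, 0 ≤ k → k < 113645 → chk (k * 22) = true := between_extend chk 22 0 113610 35 (u3245) r3246
theorem u3247 : ∀ k, 0 ≤ k → k < 113680 → chk (k * 22) = true := between_extend chk 22 0 113645 35 (u3246) r3247
theorem u3248 : ∀ k, 0 ≤ k → k < 113715 → chk (k * 22) = true := between_extend chk 22 0 113680 35 (u3247) r3248
theorem u3249 : ∀ k, 0 ≤ k → k < 113750 → chk (k * 22) = true := between_extend chk 22 0 113715 35 (u3248) r3249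
theorem u3250 : ∀ k, 0 ≤ k → k < 113785 → chk (k * 22) = true := between_extend chk 22 0 113750 35 (u3249) r3250
theorem u3251 : ∀ k, 0 ≤ k → k < 113820 → chk (k * 22) = true := between_extend chk 22 0 113785 35 (u3250) r3251
theorem u3252 : ∀ k, 0 ≤ k → k < 113855 → chk (k * 22) = true := between_extend chk 22 0 113820 35 (u3251) r3252
theorem u3253 : ∀ k, 0 ≤ k → k < 113890 → chk (k * 22) = true := between_extend chk 22 0 113855 35 (u3252) r3253
theorem u3254 : ∀ k, 0 ≤ k → k < 113925 → chk (k * 22) = true := between_extend chk 22 0 113890 35 (u3253) r3254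
theorem u3255 : ∀ k, 0 ≤ k → k < 113960 → chk (k * 22) = true := between_extend chk 22 0 113925 35 (u3254) r3255
theorem u3256 : ∀ k, 0 ≤ k → k < 113995 → chk (k * 22) = true := between_extend chk 22 0 113960 35 (u3255) r3256
theorem u3257 : ∀ k, 0 ≤ k → k < 114030 → chk (k * 22) = true := between_extend chk 22 0 113995 35 (u3256) r3257
theorem u3258 : ∀ k, 0 ≤ k → k < 114065 → chk (k * 22) = true := between_extend chk 22 0 114030 35 (u3257) r3258
theorem u3259 : ∀ k, 0 ≤ k → k < 114100 → chk (k * 22) = true := between_extend chk 22 0 114065 35 (u3258) r3259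
theorem u3260 : ∀ k, 0 ≤ k → k < 114135 → chk (k * 22) = true := between_extend chk 22 0 114100 35 (u3259) r3260
theorem u3261 : ∀ k, 0 ≤ k → k < 114170 → chk (k * 22) = true := between_extend chk 22 0 114135 35 (u3260) r3261
theorem u3262 : ∀ k, 0 ≤ k → k < 114205 → chk (k * 22) = true := between_extend chk 22 0 114170 35 (u3261) r3262
theorem u3263 : ∀ k, 0 ≤ k → k < 114240 → chk (k * 22) = true := between_extend chk 22 0 114205 35 (u3262) r3263
theorem u3264 : ∀ k, 0 ≤ k → k < 114275 → chk (k * 22) = true := between_extend chk 22 0 114240 35 (u3263) r3264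
theorem u3265 : ∀ k, 0 ≤ k → k < 114310 → chk (k * 22) = true := between_extend chk 22 0 114275 35 (u3264) r3265
theorem u3266 : ∀ k, 0 ≤ k → k < 114345 → chk (k * 22) = true := between_extend chk 22 0 114310 35 (u3265) r3266
theorem u3267 : ∀ k, 0 ≤ k → k < 114380 → chk (k * 22) = true := between_extend chk 22 0 114345 35 (u3266) r3267
theorem u3268 : ∀ k, 0 ≤ k → k < 114415 → chk (k * 22) = true := between_extend chk 22 0 114380 35 (u3267) r3268
theorem u3269 : ∀ k, 0 ≤ k → k < 114450 → chk (k * 22) = true := between_extend chk 22 0 114415 35 (u3268) r3269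
theorem u3270 : ∀ k, 0 ≤ k → k < 114485 → chk (k * 22) = true := between_extend chk 22 0 114450 35 (u3269) r3270
theorem u3271 : ∀ k, 0 ≤ k → k < 114520 → chk (k * 22) = true := between_extend chk 22 0 114485 35 (u3270) r3271
theorem u3272 : ∀ k, 0 ≤ k → k < 114555 → chk (k * 22) = true := between_extend chk 22 0 114520 35 (u3271) r3272
theorem u3273 : ∀ k, 0 ≤ k → k < 114590 → chk (k * 22) = true := between_extend chk 22 0 114555 35 (u3272) r3273
theorem u3274 : ∀ k, 0 ≤ k → k < 114625 → chk (k * 22) = true := between_extend chk 22 0 114590 35 (u3273) r3274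
theorem u3275 : ∀ k, 0 ≤ k → k < 114660 → chk (k * 22) = true := between_extend chk 22 0 114625 35 (u3274) r3275
theorem u3276 : ∀ k, 0 ≤ k → k < 114695 → chk (k * 22) = true := between_extend chk 22 0 114660 35 (u3275) r3276
theorem u3277 : ∀ k, 0 ≤ k → k < 114730 → chk (k * 22) = true := between_extend chk 22 0 114695 35 (u3276) r3277
theorem u3278 : ∀ k, 0 ≤ k → k < 114765 → chk (k * 22) = true := between_extend chk 22 0 114730 35 (u3277) r3278
theorem u3279 : ∀ k, 0 ≤ k → k < 114800 → chk (k * 22) = true := between_extend chk 22 0 114765 35 (u3278) r3279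
theorem u3280 : ∀ k, 0 ≤ k → k < 114835 → chk (k * 22) = true := between_extend chk 22 0 114800 35 (u3279) r3280
theorem u3281 : ∀ k, 0 ≤ k → k < 114870 → chk (k * 22) = true := between_extend chk 22 0 114835 35 (u3280) r3281
theorem u3282 : ∀ k, 0 ≤ k → k < 114905 → chk (k * 22) = true := between_extend chk 22 0 114870 35 (u3281) r3282
theorem u3283 : ∀ k, 0 ≤ k → k < 114940 → chk (k * 22) = true := between_extend chk 22 0 114905 35 (u3282) r3283
theorem u3284 : ∀ k, 0 ≤ k → k < 114975 → chk (k * 22) = true := between_extend chk 22 0 114940 35 (u3283) r3284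
theorem u3285 : ∀ k, 0 ≤ k → k < 115010 → chk (k * 22) = true := between_extend chk 22 0 114975 35 (u3284) r3285
theorem u3286 : ∀ k, 0 ≤ k → k < 115045 → chk (k * 22) = true := between_extend chk 22 0 115010 35 (u3285) r3286
theorem u3287 : ∀ k, 0 ≤ k → k < 115080 → chk (k * 22) = true := between_extend chk 22 0 115045 35 (u3286) r3287
theorem u3288 : ∀ k, 0 ≤ k → k < 115115 → chk (k * 22) = true := between_extend chk 22 0 115080 35 (u3287) r3288
theorem u3289 : ∀ k, 0 ≤ k → k < 115150 → chk (k * 22) = true := between_extend chk 22 0 115115 35 (u3288) r3289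
theorem u3290 : ∀ k, 0 ≤ k → k < 115185 → chk (k * 22) = true := between_extend chk 22 0 115150 35 (u3289) r3290
theorem u3291 : ∀ k, 0 ≤ k → k < 115220 → chk (k * 22) = true := between_extend chk 22 0 115185 35 (u3290) r3291
theorem u3292 : ∀ k, 0 ≤ k → k < 115255 → chk (k * 22) = true := between_extend chk 22 0 115220 35 (u3291) r3292
theorem u3293 : ∀ k, 0 ≤ k → k < 115290 → chk (k * 22) = true := between_extend chk 22 0 115255 35 (u3292) r3293
theorem u3294 : ∀ k, 0 ≤ k → k < 115325 → chk (k * 22) = true := between_extend chk 22 0 115290 35 (u3293) r3294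
theorem u3295 : ∀ k, 0 ≤ k → k < 115360 → chk (k * 22) = true := between_extend chk 22 0 115325 35 (u3294) r3295
theorem u3296 : ∀ k, 0 ≤ k → k < 115395 → chk (k * 22) = true := between_extend chk 22 0 115360 35 (u3295) r3296
theorem u3297 : ∀ k, 0 ≤ k → k < 115430 → chk (k * 22) = true := between_extend chk 22 0 115395 35 (u3296) r3297
theorem u3298 : ∀ k, 0 ≤ k → k < 115465 → chk (k * 22) = true := between_extend chk 22 0 115430 35 (u3297) r3298
theorem u3299 : ∀ k, 0 ≤ k → k < 115500 → chk (k * 22) = true := between_extend chk 22 0 115465 35 (u3298) r3299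
theorem u3300 : ∀ k, 0 ≤ k → k < 115535 → chk (k * 22) = true := between_extend chk 22 0 115500 35 (u3299) r3300
theorem u3301 : ∀ k, 0 ≤ k → k < 115570 → chk (k * 22) = true := between_extend chk 22 0 115535 35 (u3300) r3301
theorem u3302 : ∀ k, 0 ≤ k → k < 115605 → chk (k * 22) = true := between_extend chk 22 0 115570 35 (u3301) r3302
theorem u3303 : ∀ k, 0 ≤ k → k < 115640 → chk (k * 22) = true := between_extend chk 22 0 115605 35 (u3302) r3303
theorem u3304 : ∀ k, 0 ≤ k → k < 115675 → chk (k * 22) = true := between_extend chk 22 0 115640 35 (u3303) r3304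
theorem u3305 : ∀ k, 0 ≤ k → k < 115710 → chk (k * 22) = true := between_extend chk 22 0 115675 35 (u3304) r3305
theorem u3306 : ∀ k, 0 ≤ k → k < 115745 → chk (k * 22) = true := between_extend chk 22 0 115710 35 (u3305) r3306
theorem u3307 : ∀ k, 0 ≤ k → k < 115780 → chk (k * 22) = true := between_extend chk 22 0 115745 35 (u3306) r3307
theorem u3308 : ∀ k, 0 ≤ k → k < 115815 → chk (k * 22) = true := between_extend chk 22 0 115780 35 (u3307) r3308
theorem u3309 : ∀ k, 0 ≤ k → k < 115850 → chk (k * 22) = true := between_extend chk 22 0 115815 35 (u3308) r3309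
theorem u3310 : ∀ k, 0 ≤ k → k < 115885 → chk (k * 22) = true := between_extend chk 22 0 115850 35 (u3309) r3310
theorem u3311 : ∀ k, 0 ≤ k → k < 115920 → chk (k * 22) = true := between_extend chk 22 0 115885 35 (u3310) r3311
theorem u3312 : ∀ k, 0 ≤ k → k < 115955 → chk (k * 22) = true := between_extend chk 22 0 115920 35 (u3311) r3312
theorem u3313 : ∀ k, 0 ≤ k → k < 115990 → chk (k * 22) = true := between_extend chk 22 0 115955 35 (u3312) r3313
theorem u3314 : ∀ k, 0 ≤ k → k < 116025 → chk (k * 22) = true := between_extend chk 22 0 115990 35 (u3313) r3314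
theorem u3315 : ∀ k, 0 ≤ k → k < 116060 → chk (k * 22) = true := between_extend chk 22 0 116025 35 (u3314) r3315
theorem u3316 : ∀ k, 0 ≤ k → k < 116095 → chk (k * 22) = true := between_extend chk 22 0 116060 35 (u3315) r3316
theorem u3317 : ∀ k, 0 ≤ k → k < 116130 → chk (k * 22) = true := between_extend chk 22 0 116095 35 (u3316) r3317
theorem u3318 : ∀ k, 0 ≤ k → k < 116165 → chk (k * 22) = true := between_extend chk 22 0 116130 35 (u3317) r3318
theorem u3319 : ∀ k, 0 ≤ k → k < 116200 → chk (k * 22) = true := between_extend chk 22 0 116165 35 (u3318) r3319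
theorem u3320 : ∀ k, 0 ≤ k → k < 116235 → chk (k * 22) = true := between_extend chk 22 0 116200 35 (u3319) r3320
theorem u3321 : ∀ k, 0 ≤ k → k < 116270 → chk (k * 22) = true := between_extend chk 22 0 116235 35 (u3320) r3321
theorem u3322 : ∀ k, 0 ≤ k → k < 116305 → chk (k * 22) = true := between_extend chk 22 0 116270 35 (u3321) r3322
theorem u3323 : ∀ k, 0 ≤ k → k < 116340 → chk (k * 22) = true := between_extend chk 22 0 116305 35 (u3322) r3323
theorem u3324 : ∀ k, 0 ≤ k → k < 116375 → chk (k * 22) = true := between_extend chk 22 0 116340 35 (u3323) r3324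
theorem u3325 : ∀ k, 0 ≤ k → k < 116410 → chk (k * 22) = true := between_extend chk 22 0 116375 35 (u3324) r3325
theorem u3326 : ∀ k, 0 ≤ k → k < 116445 → chk (k * 22) = true := between_extend chk 22 0 116410 35 (u3325) r3326
theorem u3327 : ∀ k, 0 ≤ k → k < 116480 → chk (k * 22) = true := between_extend chk 22 0 116445 35 (u3326) r3327
theorem u3328 : ∀ k, 0 ≤ k → k < 116515 → chk (k * 22) = true := between_extend chk 22 0 116480 35 (u3327) r3328
theorem u3329 : ∀ k, 0 ≤ k → k < 116550 → chk (k * 22) = true := between_extend chk 22 0 116515 35 (u3328) r3329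
theorem u3330 : ∀ k, 0 ≤ k → k < 116585 → chk (k * 22) = true := between_extend chk 22 0 116550 35 (u3329) r3330
theorem u3331 : ∀ k, 0 ≤ k → k < 116620 → chk (k * 22) = true := between_extend chk 22 0 116585 35 (u3330) r3331
theorem u3332 : ∀ k, 0 ≤ k → k < 116655 → chk (k * 22) = true := between_extend chk 22 0 116620 35 (u3331) r3332
theorem u3333 : ∀ k, 0 ≤ k → k < 116690 → chk (k * 22) = true := between_extend chk 22 0 116655 35 (u3332) r3333
theorem u3334 : ∀ k, 0 ≤ k → k < 116725 → chk (k * 22) = true := between_extend chk 22 0 116690 35 (u3333) r3334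
theorem u3335 : ∀ k, 0 ≤ k → k < 116760 → chk (k * 22) = true := between_extend chk 22 0 116725 35 (u3334) r3335
theorem u3336 : ∀ k, 0 ≤ k → k < 116795 → chk (k * 22) = true := between_extend chk 22 0 116760 35 (u3335) r3336
theorem u3337 : ∀ k, 0 ≤ k → k < 116830 → chk (k * 22) = true := between_extend chk 22 0 116795 35 (u3336) r3337
theorem u3338 : ∀ k, 0 ≤ k → k < 116865 → chk (k * 22) = true := between_extend chk 22 0 116830 35 (u3337) r3338
theorem u3339 : ∀ k, 0 ≤ k → k < 116900 → chk (k * 22) = true := between_extend chk 22 0 116865 35 (u3338) r3339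
theorem u3340 : ∀ k, 0 ≤ k → k < 116935 → chk (k * 22) = true := between_extend chk 22 0 116900 35 (u3339) r3340
theorem u3341 : ∀ k, 0 ≤ k → k < 116970 → chk (k * 22) = true := between_extend chk 22 0 116935 35 (u3340) r3341
theorem u3342 : ∀ k, 0 ≤ k → k < 117005 → chk (k * 22) = true := between_extend chk 22 0 116970 35 (u3341) r3342
theorem u3343 : ∀ k, 0 ≤ k → k < 117040 → chk (k * 22) = true := between_extend chk 22 0 117005 35 (u3342) r3343
theorem u3344 : ∀ k, 0 ≤ k → k < 117075 → chk (k * 22) = true := between_extend chk 22 0 117040 35 (u3343) r3344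
theorem u3345 : ∀ k, 0 ≤ k → k < 117110 → chk (k * 22) = true := between_extend chk 22 0 117075 35 (u3344) r3345
theorem u3346 : ∀ k, 0 ≤ k → k < 117145 → chk (k * 22) = true := between_extend chk 22 0 117110 35 (u3345) r3346
theorem u3347 : ∀ k, 0 ≤ k → k < 117180 → chk (k * 22) = true := between_extend chk 22 0 117145 35 (u3346) r3347
theorem u3348 : ∀ k, 0 ≤ k → k < 117215 → chk (k * 22) = true := between_extend chk 22 0 117180 35 (u3347) r3348
theorem u3349 : ∀ k, 0 ≤ k → k < 117250 → chk (k * 22) = true := between_extend chk 22 0 117215 35 (u3348) r3349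
theorem u3350 : ∀ k, 0 ≤ k → k < 117285 → chk (k * 22) = true := between_extend chk 22 0 117250 35 (u3349) r3350
theorem u3351 : ∀ k, 0 ≤ k → k < 117320 → chk (k * 22) = true := between_extend chk 22 0 117285 35 (u3350) r3351
theorem u3352 : ∀ k, 0 ≤ k → k < 117355 → chk (k * 22) = true := between_extend chk 22 0 117320 35 (u3351) r3352
theorem u3353 : ∀ k, 0 ≤ k → k < 117390 → chk (k * 22) = true := between_extend chk 22 0 117355 35 (u3352) r3353
theorem u3354 : ∀ k, 0 ≤ k → k < 117425 → chk (k * 22) = true := between_extend chk 22 0 117390 35 (u3353) r3354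
theorem u3355 : ∀ k, 0 ≤ k → k < 117460 → chk (k * 22) = true := between_extend chk 22 0 117425 35 (u3354) r3355
theorem u3356 : ∀ k, 0 ≤ k → k < 117495 → chk (k * 22) = true := between_extend chk 22 0 117460 35 (u3355) r3356
theorem u3357 : ∀ k, 0 ≤ k → k < 117530 → chk (k * 22) = true := between_extend chk 22 0 117495 35 (u3356) r3357
theorem u3358 : ∀ k, 0 ≤ k → k < 117565 → chk (k * 22) = true := between_extend chk 22 0 117530 35 (u3357) r3358
theorem u3359 : ∀ k, 0 ≤ k → k < 117600 → chk (k * 22) = true := between_extend chk 22 0 117565 35 (u3358) r3359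
theorem u3360 : ∀ k, 0 ≤ k → k < 117635 → chk (k * 22) = true := between_extend chk 22 0 117600 35 (u3359) r3360
theorem u3361 : ∀ k, 0 ≤ k → k < 117670 → chk (k * 22) = true := between_extend chk 22 0 117635 35 (u3360) r3361
theorem u3362 : ∀ k, 0 ≤ k → k < 117705 → chk (k * 22) = true := between_extend chk 22 0 117670 35 (u3361) r3362
theorem u3363 : ∀ k, 0 ≤ k → k < 117740 → chk (k * 22) = true := between_extend chk 22 0 117705 35 (u3362) r3363
theorem u3364 : ∀ k, 0 ≤ k → k < 117775 → chk (k * 22) = true := between_extend chk 22 0 117740 35 (u3363) r3364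
theorem u3365 : ∀ k, 0 ≤ k → k < 117810 → chk (k * 22) = true := between_extend chk 22 0 117775 35 (u3364) r3365
theorem u3366 : ∀ k, 0 ≤ k → k < 117845 → chk (k * 22) = true := between_extend chk 22 0 117810 35 (u3365) r3366
theorem u3367 : ∀ k, 0 ≤ k → k < 117880 → chk (k * 22) = true := between_extend chk 22 0 117845 35 (u3366) r3367
theorem u3368 : ∀ k, 0 ≤ k → k < 117915 → chk (k * 22) = true := between_extend chk 22 0 117880 35 (u3367) r3368
theorem u3369 : ∀ k, 0 ≤ k → k < 117950 → chk (k * 22) = true := between_extend chk 22 0 117915 35 (u3368) r3369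
theorem u3370 : ∀ k, 0 ≤ k → k < 117985 → chk (k * 22) = true := between_extend chk 22 0 117950 35 (u3369) r3370
theorem u3371 : ∀ k, 0 ≤ k → k < 118020 → chk (k * 22) = true := between_extend chk 22 0 117985 35 (u3370) r3371
theorem u3372 : ∀ k, 0 ≤ k → k < 118055 → chk (k * 22) = true := between_extend chk 22 0 118020 35 (u3371) r3372
theorem u3373 : ∀ k, 0 ≤ k → k < 118090 → chk (k * 22) = true := between_extend chk 22 0 118055 35 (u3372) r3373
theorem u3374 : ∀ k, 0 ≤ k → k < 118125 → chk (k * 22) = true := between_extend chk 22 0 118090 35 (u3373) r3374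
theorem u3375 : ∀ k, 0 ≤ k → k < 118160 → chk (k * 22) = true := between_extend chk 22 0 118125 35 (u3374) r3375
theorem u3376 : ∀ k, 0 ≤ k → k < 118195 → chk (k * 22) = true := between_extend chk 22 0 118160 35 (u3375) r3376
theorem u3377 : ∀ k, 0 ≤ k → k < 118230 → chk (k * 22) = true := between_extend chk 22 0 118195 35 (u3376) r3377
theorem u3378 : ∀ k, 0 ≤ k → k < 118265 → chk (k * 22) = true := between_extend chk 22 0 118230 35 (u3377) r3378
theorem u3379 : ∀ k, 0 ≤ k → k < 118300 → chk (k * 22) = true := between_extend chk 22 0 118265 35 (u3378) r3379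
theorem u3380 : ∀ k, 0 ≤ k → k < 118335 → chk (k * 22) = true := between_extend chk 22 0 118300 35 (u3379) r3380
theorem u3381 : ∀ k, 0 ≤ k → k < 118370 → chk (k * 22) = true := between_extend chk 22 0 118335 35 (u3380) r3381
theorem u3382 : ∀ k, 0 ≤ k → k < 118405 → chk (k * 22) = true := between_extend chk 22 0 118370 35 (u3381) r3382
theorem u3383 : ∀ k, 0 ≤ k → k < 118440 → chk (k * 22) = true := between_extend chk 22 0 118405 35 (u3382) r3383
theorem u3384 : ∀ k, 0 ≤ k → k < 118475 → chk (k * 22) = true := between_extend chk 22 0 118440 35 (u3383) r3384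
theorem u3385 : ∀ k, 0 ≤ k → k < 118510 → chk (k * 22) = true := between_extend chk 22 0 118475 35 (u3384) r3385
theorem u3386 : ∀ k, 0 ≤ k → k < 118545 → chk (k * 22) = true := between_extend chk 22 0 118510 35 (u3385) r3386
theorem u3387 : ∀ k, 0 ≤ k → k < 118580 → chk (k * 22) = true := between_extend chk 22 0 118545 35 (u3386) r3387
theorem u3388 : ∀ k, 0 ≤ k → k < 118615 → chk (k * 22) = true := between_extend chk 22 0 118580 35 (u3387) r3388
theorem u3389 : ∀ k, 0 ≤ k → k < 118650 → chk (k * 22) = true := between_extend chk 22 0 118615 35 (u3388) r3389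
theorem u3390 : ∀ k, 0 ≤ k → k < 118685 → chk (k * 22) = true := between_extend chk 22 0 118650 35 (u3389) r3390
theorem u3391 : ∀ k, 0 ≤ k → k < 118720 → chk (k * 22) = true := between_extend chk 22 0 118685 35 (u3390) r3391
theorem u3392 : ∀ k, 0 ≤ k → k < 118755 → chk (k * 22) = true := between_extend chk 22 0 118720 35 (u3391) r3392
theorem u3393 : ∀ k, 0 ≤ k → k < 118790 → chk (k * 22) = true := between_extend chk 22 0 118755 35 (u3392) r3393
theorem u3394 : ∀ k, 0 ≤ k → k < 118825 → chk (k * 22) = true := between_extend chk 22 0 118790 35 (u3393) r3394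
theorem u3395 : ∀ k, 0 ≤ k → k < 118860 → chk (k * 22) = true := between_extend chk 22 0 118825 35 (u3394) r3395
theorem u3396 : ∀ k, 0 ≤ k → k < 118895 → chk (k * 22) = true := between_extend chk 22 0 118860 35 (u3395) r3396
theorem u3397 : ∀ k, 0 ≤ k → k < 118930 → chk (k * 22) = true := between_extend chk 22 0 118895 35 (u3396) r3397
theorem u3398 : ∀ k, 0 ≤ k → k < 118965 → chk (k * 22) = true := between_extend chk 22 0 118930 35 (u3397) r3398
theorem u3399 : ∀ k, 0 ≤ k → k < 119000 → chk (k * 22) = true := between_extend chk 22 0 118965 35 (u3398) r3399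
theorem u3400 : ∀ k, 0 ≤ k → k < 119035 → chk (k * 22) = true := between_extend chk 22 0 119000 35 (u3399) r3400
theorem u3401 : ∀ k, 0 ≤ k → k < 119070 → chk (k * 22) = true := between_extend chk 22 0 119035 35 (u3400) r3401
theorem u3402 : ∀ k, 0 ≤ k → k < 119105 → chk (k * 22) = true := between_extend chk 22 0 119070 35 (u3401) r3402
theorem u3403 : ∀ k, 0 ≤ k → k < 119140 → chk (k * 22) = true := between_extend chk 22 0 119105 35 (u3402) r3403
theorem u3404 : ∀ k, 0 ≤ k → k < 119175 → chk (k * 22) = true := between_extend chk 22 0 119140 35 (u3403) r3404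
theorem u3405 : ∀ k, 0 ≤ k → k < 119210 → chk (k * 22) = true := between_extend chk 22 0 119175 35 (u3404) r3405
theorem u3406 : ∀ k, 0 ≤ k → k < 119245 → chk (k * 22) = true := between_extend chk 22 0 119210 35 (u3405) r3406
theorem u3407 : ∀ k, 0 ≤ k → k < 119280 → chk (k * 22) = true := between_extend chk 22 0 119245 35 (u3406) r3407
theorem u3408 : ∀ k, 0 ≤ k → k < 119315 → chk (k * 22) = true := between_extend chk 22 0 119280 35 (u3407) r3408
theorem u3409 : ∀ k, 0 ≤ k → k < 119350 → chk (k * 22) = true := between_extend chk 22 0 119315 35 (u3408) r3409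
theorem u3410 : ∀ k, 0 ≤ k → k < 119385 → chk (k * 22) = true := between_extend chk 22 0 119350 35 (u3409) r3410
theorem u3411 : ∀ k, 0 ≤ k → k < 119420 → chk (k * 22) = true := between_extend chk 22 0 119385 35 (u3410) r3411
theorem u3412 : ∀ k, 0 ≤ k → k < 119455 → chk (k * 22) = true := between_extend chk 22 0 119420 35 (u3411) r3412
theorem u3413 : ∀ k, 0 ≤ k → k < 119490 → chk (k * 22) = true := between_extend chk 22 0 119455 35 (u3412) r3413
theorem u3414 : ∀ k, 0 ≤ k → k < 119525 → chk (k * 22) = true := between_extend chk 22 0 119490 35 (u3413) r3414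
theorem u3415 : ∀ k, 0 ≤ k → k < 119560 → chk (k * 22) = true := between_extend chk 22 0 119525 35 (u3414) r3415
theorem u3416 : ∀ k, 0 ≤ k → k < 119595 → chk (k * 22) = true := between_extend chk 22 0 119560 35 (u3415) r3416
theorem u3417 : ∀ k, 0 ≤ k → k < 119630 → chk (k * 22) = true := between_extend chk 22 0 119595 35 (u3416) r3417
theorem u3418 : ∀ k, 0 ≤ k → k < 119665 → chk (k * 22) = true := between_extend chk 22 0 119630 35 (u3417) r3418
theorem u3419 : ∀ k, 0 ≤ k → k < 119700 → chk (k * 22) = true := between_extend chk 22 0 119665 35 (u3418) r3419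
theorem u3420 : ∀ k, 0 ≤ k → k < 119735 → chk (k * 22) = true := between_extend chk 22 0 119700 35 (u3419) r3420
theorem u3421 : ∀ k, 0 ≤ k → k < 119770 → chk (k * 22) = true := between_extend chk 22 0 119735 35 (u3420) r3421
theorem u3422 : ∀ k, 0 ≤ k → k < 119805 → chk (k * 22) = true := between_extend chk 22 0 119770 35 (u3421) r3422
theorem u3423 : ∀ k, 0 ≤ k → k < 119840 → chk (k * 22) = true := between_extend chk 22 0 119805 35 (u3422) r3423
theorem u3424 : ∀ k, 0 ≤ k → k < 119875 → chk (k * 22) = true := between_extend chk 22 0 119840 35 (u3423) r3424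
theorem u3425 : ∀ k, 0 ≤ k → k < 119910 → chk (k * 22) = true := between_extend chk 22 0 119875 35 (u3424) r3425
theorem u3426 : ∀ k, 0 ≤ k → k < 119945 → chk (k * 22) = true := between_extend chk 22 0 119910 35 (u3425) r3426
theorem u3427 : ∀ k, 0 ≤ k → k < 119980 → chk (k * 22) = true := between_extend chk 22 0 119945 35 (u3426) r3427
theorem u3428 : ∀ k, 0 ≤ k → k < 120015 → chk (k * 22) = true := between_extend chk 22 0 119980 35 (u3427) r3428
theorem u3429 : ∀ k, 0 ≤ k → k < 120050 → chk (k * 22) = true := between_extend chk 22 0 120015 35 (u3428) r3429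
theorem u3430 : ∀ k, 0 ≤ k → k < 120085 → chk (k * 22) = true := between_extend chk 22 0 120050 35 (u3429) r3430
theorem u3431 : ∀ k, 0 ≤ k → k < 120120 → chk (k * 22) = true := between_extend chk 22 0 120085 35 (u3430) r3431
theorem u3432 : ∀ k, 0 ≤ k → k < 120155 → chk (k * 22) = true := between_extend chk 22 0 120120 35 (u3431) r3432
theorem u3433 : ∀ k, 0 ≤ k → k < 120190 → chk (k * 22) = true := between_extend chk 22 0 120155 35 (u3432) r3433
theorem u3434 : ∀ k, 0 ≤ k → k < 120225 → chk (k * 22) = true := between_extend chk 22 0 120190 35 (u3433) r3434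
theorem u3435 : ∀ k, 0 ≤ k → k < 120260 → chk (k * 22) = true := between_extend chk 22 0 120225 35 (u3434) r3435
theorem u3436 : ∀ k, 0 ≤ k → k < 120295 → chk (k * 22) = true := between_extend chk 22 0 120260 35 (u3435) r3436
theorem u3437 : ∀ k, 0 ≤ k → k < 120330 → chk (k * 22) = true := between_extend chk 22 0 120295 35 (u3436) r3437
theorem u3438 : ∀ k, 0 ≤ k → k < 120365 → chk (k * 22) = true := between_extend chk 22 0 120330 35 (u3437) r3438
theorem u3439 : ∀ k, 0 ≤ k → k < 120400 → chk (k * 22) = true := between_extend chk 22 0 120365 35 (u3438) r3439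
theorem u3440 : ∀ k, 0 ≤ k → k < 120435 → chk (k * 22) = true := between_extend chk 22 0 120400 35 (u3439) r3440
theorem u3441 : ∀ k, 0 ≤ k → k < 120470 → chk (k * 22) = true := between_extend chk 22 0 120435 35 (u3440) r3441
theorem u3442 : ∀ k, 0 ≤ k → k < 120505 → chk (k * 22) = true := between_extend chk 22 0 120470 35 (u3441) r3442
theorem u3443 : ∀ k, 0 ≤ k → k < 120540 → chk (k * 22) = true := between_extend chk 22 0 120505 35 (u3442) r3443
theorem u3444 : ∀ k, 0 ≤ k → k < 120575 → chk (k * 22) = true := between_extend chk 22 0 120540 35 (u3443) r3444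
theorem u3445 : ∀ k, 0 ≤ k → k < 120610 → chk (k * 22) = true := between_extend chk 22 0 120575 35 (u3444) r3445
theorem u3446 : ∀ k, 0 ≤ k → k < 120645 → chk (k * 22) = true := between_extend chk 22 0 120610 35 (u3445) r3446
theorem u3447 : ∀ k, 0 ≤ k → k < 120680 → chk (k * 22) = true := between_extend chk 22 0 120645 35 (u3446) r3447
theorem u3448 : ∀ k, 0 ≤ k → k < 120715 → chk (k * 22) = true := between_extend chk 22 0 120680 35 (u3447) r3448
theorem u3449 : ∀ k, 0 ≤ k → k < 120750 → chk (k * 22) = true := between_extend chk 22 0 120715 35 (u3448) r3449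
theorem u3450 : ∀ k, 0 ≤ k → k < 120785 → chk (k * 22) = true := between_extend chk 22 0 120750 35 (u3449) r3450
theorem u3451 : ∀ k, 0 ≤ k → k < 120820 → chk (k * 22) = true := between_extend chk 22 0 120785 35 (u3450) r3451
theorem u3452 : ∀ k, 0 ≤ k → k < 120855 → chk (k * 22) = true := between_extend chk 22 0 120820 35 (u3451) r3452
theorem u3453 : ∀ k, 0 ≤ k → k < 120890 → chk (k * 22) = true := between_extend chk 22 0 120855 35 (u3452) r3453
theorem u3454 : ∀ k, 0 ≤ k → k < 120925 → chk (k * 22) = true := between_extend chk 22 0 120890 35 (u3453) r3454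
theorem u3455 : ∀ k, 0 ≤ k → k < 120960 → chk (k * 22) = true := between_extend chk 22 0 120925 35 (u3454) r3455
theorem u3456 : ∀ k, 0 ≤ k → k < 120995 → chk (k * 22) = true := between_extend chk 22 0 120960 35 (u3455) r3456
theorem u3457 : ∀ k, 0 ≤ k → k < 121030 → chk (k * 22) = true := between_extend chk 22 0 120995 35 (u3456) r3457
theorem u3458 : ∀ k, 0 ≤ k → k < 121065 → chk (k * 22) = true := between_extend chk 22 0 121030 35 (u3457) r3458
theorem u3459 : ∀ k, 0 ≤ k → k < 121100 → chk (k * 22) = true := between_extend chk 22 0 121065 35 (u3458) r3459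
theorem u3460 : ∀ k, 0 ≤ k → k < 121135 → chk (k * 22) = true := between_extend chk 22 0 121100 35 (u3459) r3460
theorem u3461 : ∀ k, 0 ≤ k → k < 121170 → chk (k * 22) = true := between_extend chk 22 0 121135 35 (u3460) r3461
theorem u3462 : ∀ k, 0 ≤ k → k < 121205 → chk (k * 22) = true := between_extend chk 22 0 121170 35 (u3461) r3462
theorem u3463 : ∀ k, 0 ≤ k → k < 121240 → chk (k * 22) = true := between_extend chk 22 0 121205 35 (u3462) r3463
theorem u3464 : ∀ k, 0 ≤ k → k < 121275 → chk (k * 22) = true := between_extend chk 22 0 121240 35 (u3463) r3464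
theorem u3465 : ∀ k, 0 ≤ k → k < 121310 → chk (k * 22) = true := between_extend chk 22 0 121275 35 (u3464) r3465
theorem u3466 : ∀ k, 0 ≤ k → k < 121345 → chk (k * 22) = true := between_extend chk 22 0 121310 35 (u3465) r3466
theorem u3467 : ∀ k, 0 ≤ k → k < 121380 → chk (k * 22) = true := between_extend chk 22 0 121345 35 (u3466) r3467
theorem u3468 : ∀ k, 0 ≤ k → k < 121415 → chk (k * 22) = true := between_extend chk 22 0 121380 35 (u3467) r3468
theorem u3469 : ∀ k, 0 ≤ k → k < 121450 → chk (k * 22) = true := between_extend chk 22 0 121415 35 (u3468) r3469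
theorem u3470 : ∀ k, 0 ≤ k → k < 121485 → chk (k * 22) = true := between_extend chk 22 0 121450 35 (u3469) r3470
theorem u3471 : ∀ k, 0 ≤ k → k < 121520 → chk (k * 22) = true := between_extend chk 22 0 121485 35 (u3470) r3471
theorem u3472 : ∀ k, 0 ≤ k → k < 121555 → chk (k * 22) = true := between_extend chk 22 0 121520 35 (u3471) r3472
theorem u3473 : ∀ k, 0 ≤ k → k < 121590 → chk (k * 22) = true := between_extend chk 22 0 121555 35 (u3472) r3473
theorem u3474 : ∀ k, 0 ≤ k → k < 121625 → chk (k * 22) = true := between_extend chk 22 0 121590 35 (u3473) r3474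
theorem u3475 : ∀ k, 0 ≤ k → k < 121660 → chk (k * 22) = true := between_extend chk 22 0 121625 35 (u3474) r3475
theorem u3476 : ∀ k, 0 ≤ k → k < 121695 → chk (k * 22) = true := between_extend chk 22 0 121660 35 (u3475) r3476
theorem u3477 : ∀ k, 0 ≤ k → k < 121730 → chk (k * 22) = true := between_extend chk 22 0 121695 35 (u3476) r3477
theorem u3478 : ∀ k, 0 ≤ k → k < 121765 → chk (k * 22) = true := between_extend chk 22 0 121730 35 (u3477) r3478
theorem u3479 : ∀ k, 0 ≤ k → k < 121800 → chk (k * 22) = true := between_extend chk 22 0 121765 35 (u3478) r3479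
theorem u3480 : ∀ k, 0 ≤ k → k < 121835 → chk (k * 22) = true := between_extend chk 22 0 121800 35 (u3479) r3480
theorem u3481 : ∀ k, 0 ≤ k → k < 121870 → chk (k * 22) = true := between_extend chk 22 0 121835 35 (u3480) r3481
theorem u3482 : ∀ k, 0 ≤ k → k < 121905 → chk (k * 22) = true := between_extend chk 22 0 121870 35 (u3481) r3482
theorem u3483 : ∀ k, 0 ≤ k → k < 121940 → chk (k * 22) = true := between_extend chk 22 0 121905 35 (u3482) r3483
theorem u3484 : ∀ k, 0 ≤ k → k < 121975 → chk (k * 22) = true := between_extend chk 22 0 121940 35 (u3483) r3484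
theorem u3485 : ∀ k, 0 ≤ k → k < 122010 → chk (k * 22) = true := between_extend chk 22 0 121975 35 (u3484) r3485
theorem u3486 : ∀ k, 0 ≤ k → k < 122045 → chk (k * 22) = true := between_extend chk 22 0 122010 35 (u3485) r3486
theorem u3487 : ∀ k, 0 ≤ k → k < 122080 → chk (k * 22) = true := between_extend chk 22 0 122045 35 (u3486) r3487
theorem u3488 : ∀ k, 0 ≤ k → k < 122115 → chk (k * 22) = true := between_extend chk 22 0 122080 35 (u3487) r3488
theorem u3489 : ∀ k, 0 ≤ k → k < 122150 → chk (k * 22) = true := between_extend chk 22 0 122115 35 (u3488) r3489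
theorem u3490 : ∀ k, 0 ≤ k → k < 122185 → chk (k * 22) = true := between_extend chk 22 0 122150 35 (u3489) r3490
theorem u3491 : ∀ k, 0 ≤ k → k < 122220 → chk (k * 22) = true := between_extend chk 22 0 122185 35 (u3490) r3491
theorem u3492 : ∀ k, 0 ≤ k → k < 122255 → chk (k * 22) = true := between_extend chk 22 0 122220 35 (u3491) r3492
theorem u3493 : ∀ k, 0 ≤ k → k < 122290 → chk (k * 22) = true := between_extend chk 22 0 122255 35 (u3492) r3493
theorem u3494 : ∀ k, 0 ≤ k → k < 122325 → chk (k * 22) = true := between_extend chk 22 0 122290 35 (u3493) r3494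
theorem u3495 : ∀ k, 0 ≤ k → k < 122360 → chk (k * 22) = true := between_extend chk 22 0 122325 35 (u3494) r3495
theorem u3496 : ∀ k, 0 ≤ k → k < 122395 → chk (k * 22) = true := between_extend chk 22 0 122360 35 (u3495) r3496
theorem u3497 : ∀ k, 0 ≤ k → k < 122430 → chk (k * 22) = true := between_extend chk 22 0 122395 35 (u3496) r3497
theorem u3498 : ∀ k, 0 ≤ k → k < 122465 → chk (k * 22) = true := between_extend chk 22 0 122430 35 (u3497) r3498
theorem u3499 : ∀ k, 0 ≤ k → k < 122500 → chk (k * 22) = true := between_extend chk 22 0 122465 35 (u3498) r3499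
theorem u3500 : ∀ k, 0 ≤ k → k < 122535 → chk (k * 22) = true := between_extend chk 22 0 122500 35 (u3499) r3500
theorem u3501 : ∀ k, 0 ≤ k → k < 122570 → chk (k * 22) = true := between_extend chk 22 0 122535 35 (u3500) r3501
theorem u3502 : ∀ k, 0 ≤ k → k < 122605 → chk (k * 22) = true := between_extend chk 22 0 122570 35 (u3501) r3502
theorem u3503 : ∀ k, 0 ≤ k → k < 122640 → chk (k * 22) = true := between_extend chk 22 0 122605 35 (u3502) r3503
theorem u3504 : ∀ k, 0 ≤ k → k < 122675 → chk (k * 22) = true := between_extend chk 22 0 122640 35 (u3503) r3504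
theorem u3505 : ∀ k, 0 ≤ k → k < 122710 → chk (k * 22) = true := between_extend chk 22 0 122675 35 (u3504) r3505
theorem u3506 : ∀ k, 0 ≤ k → k < 122745 → chk (k * 22) = true := between_extend chk 22 0 122710 35 (u3505) r3506
theorem u3507 : ∀ k, 0 ≤ k → k < 122760 → chk (k * 22) = true := between_extend chk 22 0 122745 15 (u3506) r3507

theorem chk_all : ∀ k < 122760, lchk 4194303 col lab 0 ls (k * 22) = true := between_all chk 22 122760 u3507

def cntW : List ℕ := [1023, 1023, 1023, 1023, 1023, 1023, 1023, 1023, 1023, 1023, 1023, 1023, 1023, 1023, 1023, 1023, 1023, 1023, 1023, 1023, 1023, 1023, 1023, 1023, 1023, 1023, 1023, 1023, 1023, 1023, 1023, 1023, 1023, 1023, 1023, 1023, 1023, 1023, 1023, 1023, 1023, 1023, 1023, 1023, 1023, 1023, 1023, 1023, 1023, 1023, 1023, 1023, 1023, 1023, 1023, 1023, 1023, 1023, 1023, 1023, 1023, 1023, 1023, 1023, 1023, 1023, 1023, 1023, 1023, 1023, 1023, 1023, 1023, 1023, 1023, 1023, 1023, 1023, 1023, 1023, 1023, 1023, 1023, 1023, 1023, 1023, 1023, 1023, 1023, 1023,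 1023, 1023, 1023, 1023, 1023, 1023, 1023, 1023, 1023, 1023, 1023, 1023, 1023, 1023, 1023, 1023, 1023, 1023, 1023, 1023, 1023, 1023, 1023, 1023, 1023, 1023, 1023, 1023, 1023, 1023]

theorem cnt_c0 : cntB (fun j => Nat.blt 0 (nxt 4194303 lab (Nat.mul (0 * 1023 + j) 22))) 1023 = cntW.getD 0 0 := by decide +kernel
theorem cnt_c1 : cntB (fun j => Nat.blt 0 (nxt 4194303 lab (Nat.mul (1 * 1023 + j) 22))) 1023 = cntW.getD 1 0 := by decide +kernel
theorem cnt_c2 : cntB (fun j => Nat.blt 0 (nxt 4194303 lab (Nat.mul (2 * 1023 + j) 22))) 1023 = cntW.getD 2 0 := by decide +kernel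
theorem cnt_c3 : cntB (fun j => Nat.blt 0 (nxt 4194303 lab (Nat.mul (3 * 1023 + j) 22))) 1023 = cntW.getD 3 0 := by decide +kernel
theorem cnt_c4 : cntB (fun j => Nat.blt 0 (nxt 4194303 lab (Nat.mul (4 * 1023 + j) 22))) 1023 = cntW.getD 4 0 := by decide +kernel
theorem cnt_c5 : cntB (fun j => Nat.blt 0 (nxt 4194303 lab (Nat.mul (5 * 1023 + j) 22))) 1023 = cntW.getD 5 0 := by decide +kernel
theorem cnt_c6 : cntB (fun j => Nat.blt 0 (nxt 4194303 lab (Nat.mul (6 * 1023 + j) 22))) 1023 = cntW.getD 6 0 := by decide +kernel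
theorem cnt_c7 : cntB (fun j => Nat.blt 0 (nxt 4194303 lab (Nat.mul (7 * 1023 + j) 22))) 1023 = cntW.getD 7 0 := by decide +kernel
theorem cnt_c8 : cntB (fun j => Nat.blt 0 (nxt 4194303 lab (Nat.mul (8 * 1023 + j) 22))) 1023 = cntW.getD 8 0 := by decide +kernel
theorem cnt_c9 : cntB (fun j => Nat.blt 0 (nxt 4194303 lab (Nat.mul (9 * 1023 + j) 22))) 1023 = cntW.getD 9 0 := by decide +kernel
theorem cnt_c10 : cntB (fun j => Nat.blt 0 (nxt 4194303 lab (Nat.mul (10 * 1023 + j) 22))) 1023 = cntW.getD 10 0 := by decide +kernel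
theorem cnt_c11 : cntB (fun j => Nat.blt 0 (nxt 4194303 lab (Nat.mul (11 * 1023 + j) 22))) 1023 = cntW.getD 11 0 := by decide +kernel
theorem cnt_c12 : cntB (fun j => Nat.blt 0 (nxt 4194303 lab (Nat.mul (12 * 1023 + j) 22))) 1023 = cntW.getD 12 0 := by decide +kernel
theorem cnt_c13 : cntB (fun j => Nat.blt 0 (nxt 4194303 lab (Nat.mul (13 * 1023 + j) 22))) 1023 = cntW.getD 13 0 := by decide +kernel
theorem cnt_c14 : cntB (fun j => Nat.blt 0 (nxt 4194303 lab (Nat.mul (14 * 1023 + j) 22))) 1023 = cntW.getD 14 0 := by decide +kernel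
theorem cnt_c15 : cntB (fun j => Nat.blt 0 (nxt 4194303 lab (Nat.mul (15 * 1023 + j) 22))) 1023 = cntW.getD 15 0 := by decide +kernel
theorem cnt_c16 : cntB (fun j => Nat.blt 0 (nxt 4194303 lab (Nat.mul (16 * 1023 + j) 22))) 1023 = cntW.getD 16 0 := by decide +kernel
theorem cnt_c17 : cntB (fun j => Nat.blt 0 (nxt 4194303 lab (Nat.mul (17 * 1023 + j) 22))) 1023 = cntW.getD 17 0 := by decide +kernel
theorem cnt_c18 : cntB (fun j => Nat.blt 0 (nxt 4194303 lab (Nat.mul (18 * 1023 + j) 22))) 1023 = cntW.getD 18 0 := by decide +kernel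
theorem cnt_c19 : cntB (fun j => Nat.blt 0 (nxt 4194303 lab (Nat.mul (19 * 1023 + j) 22))) 1023 = cntW.getD 19 0 := by decide +kernel
theorem cnt_c20 : cntB (fun j => Nat.blt 0 (nxt 4194303 lab (Nat.mul (20 * 1023 + j) 22))) 1023 = cntW.getD 20 0 := by decide +kernel
theorem cnt_c21 : cntB (fun j => Nat.blt 0 (nxt 4194303 lab (Nat.mul (21 * 1023 + j) 22))) 1023 = cntW.getD 21 0 := by decide +kernel
theorem cnt_c22 : cntB (fun j => Nat.blt 0 (nxt 4194303 lab (Nat.mul (22 * 1023 + j) 22))) 1023 = cntW.getD 22 0 := by decide +kernel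
theorem cnt_c23 : cntB (fun j => Nat.blt 0 (nxt 4194303 lab (Nat.mul (23 * 1023 + j) 22))) 1023 = cntW.getD 23 0 := by decide +kernel
theorem cnt_c24 : cntB (fun j => Nat.blt 0 (nxt 4194303 lab (Nat.mul (24 * 1023 + j) 22))) 1023 = cntW.getD 24 0 := by decide +kernel
theorem cnt_c25 : cntB (fun j => Nat.blt 0 (nxt 4194303 lab (Nat.mul (25 * 1023 + j) 22))) 1023 = cntW.getD 25 0 := by decide +kernel
theorem cnt_c26 : cntB (fun j => Nat.blt 0 (nxt 4194303 lab (Nat.mul (26 * 1023 + j) 22))) 1023 = cntW.getD 26 0 := by decide +kernel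
theorem cnt_c27 : cntB (fun j => Nat.blt 0 (nxt 4194303 lab (Nat.mul (27 * 1023 + j) 22))) 1023 = cntW.getD 27 0 := by decide +kernel
theorem cnt_c28 : cntB (fun j => Nat.blt 0 (nxt 4194303 lab (Nat.mul (28 * 1023 + j) 22))) 1023 = cntW.getD 28 0 := by decide +kernel
theorem cnt_c29 : cntB (fun j => Nat.blt 0 (nxt 4194303 lab (Nat.mul (29 * 1023 + j) 22))) 1023 = cntW.getD 29 0 := by decide +kernel
theorem cnt_c30 : cntB (fun j => Nat.blt 0 (nxt 4194303 lab (Nat.mul (30 * 1023 + j) 22))) 1023 = cntW.getD 30 0 := by decide +kernel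
theorem cnt_c31 : cntB (fun j => Nat.blt 0 (nxt 4194303 lab (Nat.mul (31 * 1023 + j) 22))) 1023 = cntW.getD 31 0 := by decide +kernel
theorem cnt_c32 : cntB (fun j => Nat.blt 0 (nxt 4194303 lab (Nat.mul (32 * 1023 + j) 22))) 1023 = cntW.getD 32 0 := by decide +kernel
theorem cnt_c33 : cntB (fun j => Nat.blt 0 (nxt 4194303 lab (Nat.mul (33 * 1023 + j) 22))) 1023 = cntW.getD 33 0 := by decide +kernel
theorem cnt_c34 : cntB (fun j => Nat.blt 0 (nxt 4194303 lab (Nat.mul (34 * 1023 + j) 22))) 1023 = cntW.getD 34 0 := by decide +kernel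
theorem cnt_c35 : cntB (fun j => Nat.blt 0 (nxt 4194303 lab (Nat.mul (35 * 1023 + j) 22))) 1023 = cntW.getD 35 0 := by decide +kernel
theorem cnt_c36 : cntB (fun j => Nat.blt 0 (nxt 4194303 lab (Nat.mul (36 * 1023 + j) 22))) 1023 = cntW.getD 36 0 := by decide +kernel
theorem cnt_c37 : cntB (fun j => Nat.blt 0 (nxt 4194303 lab (Nat.mul (37 * 1023 + j) 22))) 1023 = cntW.getD 37 0 := by decide +kernel
theorem cnt_c38 : cntB (fun j => Nat.blt 0 (nxt 4194303 lab (Nat.mul (38 * 1023 + j) 22))) 1023 = cntW.getD 38 0 := by decide +kernel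
theorem cnt_c39 : cntB (fun j => Nat.blt 0 (nxt 4194303 lab (Nat.mul (39 * 1023 + j) 22))) 1023 = cntW.getD 39 0 := by decide +kernel
theorem cnt_c40 : cntB (fun j => Nat.blt 0 (nxt 4194303 lab (Nat.mul (40 * 1023 + j) 22))) 1023 = cntW.getD 40 0 := by decide +kernel
theorem cnt_c41 : cntB (fun j => Nat.blt 0 (nxt 4194303 lab (Nat.mul (41 * 1023 + j) 22))) 1023 = cntW.getD 41 0 := by decide +kernel
theorem cnt_c42 : cntB (fun j => Nat.blt 0 (nxt 4194303 lab (Nat.mul (42 * 1023 + j) 22))) 1023 = cntW.getD 42 0 := by decide +kernel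
theorem cnt_c43 : cntB (fun j => Nat.blt 0 (nxt 4194303 lab (Nat.mul (43 * 1023 + j) 22))) 1023 = cntW.getD 43 0 := by decide +kernel
theorem cnt_c44 : cntB (fun j => Nat.blt 0 (nxt 4194303 lab (Nat.mul (44 * 1023 + j) 22))) 1023 = cntW.getD 44 0 := by decide +kernel
theorem cnt_c45 : cntB (fun j => Nat.blt 0 (nxt 4194303 lab (Nat.mul (45 * 1023 + j) 22))) 1023 = cntW.getD 45 0 := by decide +kernel
theorem cnt_c46 : cntB (fun j => Nat.blt 0 (nxt 4194303 lab (Nat.mul (46 * 1023 + j) 22))) 1023 = cntW.getD 46 0 := by decide +kernel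
theorem cnt_c47 : cntB (fun j => Nat.blt 0 (nxt 4194303 lab (Nat.mul (47 * 1023 + j) 22))) 1023 = cntW.getD 47 0 := by decide +kernel
theorem cnt_c48 : cntB (fun j => Nat.blt 0 (nxt 4194303 lab (Nat.mul (48 * 1023 + j) 22))) 1023 = cntW.getD 48 0 := by decide +kernel
theorem cnt_c49 : cntB (fun j => Nat.blt 0 (nxt 4194303 lab (Nat.mul (49 * 1023 + j) 22))) 1023 = cntW.getD 49 0 := by decide +kernel
theorem cnt_c50 : cntB (fun j => Nat.blt 0 (nxt 4194303 lab (Nat.mul (50 * 1023 + j) 22))) 1023 = cntW.getD 50 0 := by decide +kernel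
theorem cnt_c51 : cntB (fun j => Nat.blt 0 (nxt 4194303 lab (Nat.mul (51 * 1023 + j) 22))) 1023 = cntW.getD 51 0 := by decide +kernel
theorem cnt_c52 : cntB (fun j => Nat.blt 0 (nxt 4194303 lab (Nat.mul (52 * 1023 + j) 22))) 1023 = cntW.getD 52 0 := by decide +kernel
theorem cnt_c53 : cntB (fun j => Nat.blt 0 (nxt 4194303 lab (Nat.mul (53 * 1023 + j) 22))) 1023 = cntW.getD 53 0 := by decide +kernel
theorem cnt_c54 : cntB (fun j => Nat.blt 0 (nxt 4194303 lab (Nat.mul (54 * 1023 + j) 22))) 1023 = cntW.getD 54 0 := by decide +kernel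
theorem cnt_c55 : cntB (fun j => Nat.blt 0 (nxt 4194303 lab (Nat.mul (55 * 1023 + j) 22))) 1023 = cntW.getD 55 0 := by decide +kernel
theorem cnt_c56 : cntB (fun j => Nat.blt 0 (nxt 4194303 lab (Nat.mul (56 * 1023 + j) 22))) 1023 = cntW.getD 56 0 := by decide +kernel
theorem cnt_c57 : cntB (fun j => Nat.blt 0 (nxt 4194303 lab (Nat.mul (57 * 1023 + j) 22))) 1023 = cntW.getD 57 0 := by decide +kernel
theorem cnt_c58 : cntB (fun j => Nat.blt 0 (nxt 4194303 lab (Nat.mul (58 * 1023 + j) 22))) 1023 = cntW.getD 58 0 := by decide +kernel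
theorem cnt_c59 : cntB (fun j => Nat.blt 0 (nxt 4194303 lab (Nat.mul (59 * 1023 + j) 22))) 1023 = cntW.getD 59 0 := by decide +kernel
theorem cnt_c60 : cntB (fun j => Nat.blt 0 (nxt 4194303 lab (Nat.mul (60 * 1023 + j) 22))) 1023 = cntW.getD 60 0 := by decide +kernel
theorem cnt_c61 : cntB (fun j => Nat.blt 0 (nxt 4194303 lab (Nat.mul (61 * 1023 + j) 22))) 1023 = cntW.getD 61 0 := by decide +kernel
theorem cnt_c62 : cntB (fun j => Nat.blt 0 (nxt 4194303 lab (Nat.mul (62 * 1023 + j) 22))) 1023 = cntW.getD 62 0 := by decide +kernel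
theorem cnt_c63 : cntB (fun j => Nat.blt 0 (nxt 4194303 lab (Nat.mul (63 * 1023 + j) 22))) 1023 = cntW.getD 63 0 := by decide +kernel
theorem cnt_c64 : cntB (fun j => Nat.blt 0 (nxt 4194303 lab (Nat.mul (64 * 1023 + j) 22))) 1023 = cntW.getD 64 0 := by decide +kernel
theorem cnt_c65 : cntB (fun j => Nat.blt 0 (nxt 4194303 lab (Nat.mul (65 * 1023 + j) 22))) 1023 = cntW.getD 65 0 := by decide +kernel
theorem cnt_c66 : cntB (fun j => Nat.blt 0 (nxt 4194303 lab (Nat.mul (66 * 1023 + j) 22))) 1023 = cntW.getD 66 0 := by decide +kernel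
theorem cnt_c67 : cntB (fun j => Nat.blt 0 (nxt 4194303 lab (Nat.mul (67 * 1023 + j) 22))) 1023 = cntW.getD 67 0 := by decide +kernel
theorem cnt_c68 : cntB (fun j => Nat.blt 0 (nxt 4194303 lab (Nat.mul (68 * 1023 + j) 22))) 1023 = cntW.getD 68 0 := by decide +kernel
theorem cnt_c69 : cntB (fun j => Nat.blt 0 (nxt 4194303 lab (Nat.mul (69 * 1023 + j) 22))) 1023 = cntW.getD 69 0 := by decide +kernel
theorem cnt_c70 : cntB (fun j => Nat.blt 0 (nxt 4194303 lab (Nat.mul (70 * 1023 + j) 22))) 1023 = cntW.getD 70 0 := by decide +kernel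
theorem cnt_c71 : cntB (fun j => Nat.blt 0 (nxt 4194303 lab (Nat.mul (71 * 1023 + j) 22))) 1023 = cntW.getD 71 0 := by decide +kernel
theorem cnt_c72 : cntB (fun j => Nat.blt 0 (nxt 4194303 lab (Nat.mul (72 * 1023 + j) 22))) 1023 = cntW.getD 72 0 := by decide +kernel
theorem cnt_c73 : cntB (fun j => Nat.blt 0 (nxt 4194303 lab (Nat.mul (73 * 1023 + j) 22))) 1023 = cntW.getD 73 0 := by decide +kernel
theorem cnt_c74 : cntB (fun j => Nat.blt 0 (nxt 4194303 lab (Nat.mul (74 * 1023 + j) 22))) 1023 = cntW.getD 74 0 := by decide +kernel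
theorem cnt_c75 : cntB (fun j => Nat.blt 0 (nxt 4194303 lab (Nat.mul (75 * 1023 + j) 22))) 1023 = cntW.getD 75 0 := by decide +kernel
theorem cnt_c76 : cntB (fun j => Nat.blt 0 (nxt 4194303 lab (Nat.mul (76 * 1023 + j) 22))) 1023 = cntW.getD 76 0 := by decide +kernel
theorem cnt_c77 : cntB (fun j => Nat.blt 0 (nxt 4194303 lab (Nat.mul (77 * 1023 + j) 22))) 1023 = cntW.getD 77 0 := by decide +kernel
theorem cnt_c78 : cntB (fun j => Nat.blt 0 (nxt 4194303 lab (Nat.mul (78 * 1023 + j) 22))) 1023 = cntW.getD 78 0 := by decide +kernel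
theorem cnt_c79 : cntB (fun j => Nat.blt 0 (nxt 4194303 lab (Nat.mul (79 * 1023 + j) 22))) 1023 = cntW.getD 79 0 := by decide +kernel
theorem cnt_c80 : cntB (fun j => Nat.blt 0 (nxt 4194303 lab (Nat.mul (80 * 1023 + j) 22))) 1023 = cntW.getD 80 0 := by decide +kernel
theorem cnt_c81 : cntB (fun j => Nat.blt 0 (nxt 4194303 lab (Nat.mul (81 * 1023 + j) 22))) 1023 = cntW.getD 81 0 := by decide +kernel
theorem cnt_c82 : cntB (fun j => Nat.blt 0 (nxt 4194303 lab (Nat.mul (82 * 1023 + j) 22))) 1023 = cntW.getD 82 0 := by decide +kernel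
theorem cnt_c83 : cntB (fun j => Nat.blt 0 (nxt 4194303 lab (Nat.mul (83 * 1023 + j) 22))) 1023 = cntW.getD 83 0 := by decide +kernel
theorem cnt_c84 : cntB (fun j => Nat.blt 0 (nxt 4194303 lab (Nat.mul (84 * 1023 + j) 22))) 1023 = cntW.getD 84 0 := by decide +kernel
theorem cnt_c85 : cntB (fun j => Nat.blt 0 (nxt 4194303 lab (Nat.mul (85 * 1023 + j) 22))) 1023 = cntW.getD 85 0 := by decide +kernel
theorem cnt_c86 : cntB (fun j => Nat.blt 0 (nxt 4194303 lab (Nat.mul (86 * 1023 + j) 22))) 1023 = cntW.getD 86 0 := by decide +kernel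
theorem cnt_c87 : cntB (fun j => Nat.blt 0 (nxt 4194303 lab (Nat.mul (87 * 1023 + j) 22))) 1023 = cntW.getD 87 0 := by decide +kernel
theorem cnt_c88 : cntB (fun j => Nat.blt 0 (nxt 4194303 lab (Nat.mul (88 * 1023 + j) 22))) 1023 = cntW.getD 88 0 := by decide +kernel
theorem cnt_c89 : cntB (fun j => Nat.blt 0 (nxt 4194303 lab (Nat.mul (89 * 1023 + j) 22))) 1023 = cntW.getD 89 0 := by decide +kernel
theorem cnt_c90 : cntB (fun j => Nat.blt 0 (nxt 4194303 lab (Nat.mul (90 * 1023 + j) 22))) 1023 = cntW.getD 90 0 := by decide +kernel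
theorem cnt_c91 : cntB (fun j => Nat.blt 0 (nxt 4194303 lab (Nat.mul (91 * 1023 + j) 22))) 1023 = cntW.getD 91 0 := by decide +kernel
theorem cnt_c92 : cntB (fun j => Nat.blt 0 (nxt 4194303 lab (Nat.mul (92 * 1023 + j) 22))) 1023 = cntW.getD 92 0 := by decide +kernel
theorem cnt_c93 : cntB (fun j => Nat.blt 0 (nxt 4194303 lab (Nat.mul (93 * 1023 + j) 22))) 1023 = cntW.getD 93 0 := by decide +kernel
theorem cnt_c94 : cntB (fun j => Nat.blt 0 (nxt 4194303 lab (Nat.mul (94 * 1023 + j) 22))) 1023 = cntW.getD 94 0 := by decide +kernel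
theorem cnt_c95 : cntB (fun j => Nat.blt 0 (nxt 4194303 lab (Nat.mul (95 * 1023 + j) 22))) 1023 = cntW.getD 95 0 := by decide +kernel
theorem cnt_c96 : cntB (fun j => Nat.blt 0 (nxt 4194303 lab (Nat.mul (96 * 1023 + j) 22))) 1023 = cntW.getD 96 0 := by decide +kernel
theorem cnt_c97 : cntB (fun j => Nat.blt 0 (nxt 4194303 lab (Nat.mul (97 * 1023 + j) 22))) 1023 = cntW.getD 97 0 := by decide +kernel
theorem cnt_c98 : cntB (fun j => Nat.blt 0 (nxt 4194303 lab (Nat.mul (98 * 1023 + j) 22))) 1023 = cntW.getD 98 0 := by decide +kernel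
theorem cnt_c99 : cntB (fun j => Nat.blt 0 (nxt 4194303 lab (Nat.mul (99 * 1023 + j) 22))) 1023 = cntW.getD 99 0 := by decide +kernel
theorem cnt_c100 : cntB (fun j => Nat.blt 0 (nxt 4194303 lab (Nat.mul (100 * 1023 + j) 22))) 1023 = cntW.getD 100 0 := by decide +kernel
theorem cnt_c101 : cntB (fun j => Nat.blt 0 (nxt 4194303 lab (Nat.mul (101 * 1023 + j) 22))) 1023 = cntW.getD 101 0 := by decide +kernel
theorem cnt_c102 : cntB (fun j => Nat.blt 0 (nxt 4194303 lab (Nat.mul (102 * 1023 + j) 22))) 1023 = cntW.getD 102 0 := by decide +kernel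
theorem cnt_c103 : cntB (fun j => Nat.blt 0 (nxt 4194303 lab (Nat.mul (103 * 1023 + j) 22))) 1023 = cntW.getD 103 0 := by decide +kernel
theorem cnt_c104 : cntB (fun j => Nat.blt 0 (nxt 4194303 lab (Nat.mul (104 * 1023 + j) 22))) 1023 = cntW.getD 104 0 := by decide +kernel
theorem cnt_c105 : cntB (fun j => Nat.blt 0 (nxt 4194303 lab (Nat.mul (105 * 1023 + j) 22))) 1023 = cntW.getD 105 0 := by decide +kernel
theorem cnt_c106 : cntB (fun j => Nat.blt 0 (nxt 4194303 lab (Nat.mul (106 * 1023 + j) 22))) 1023 = cntW.getD 106 0 := by decide +kernel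
theorem cnt_c107 : cntB (fun j => Nat.blt 0 (nxt 4194303 lab (Nat.mul (107 * 1023 + j) 22))) 1023 = cntW.getD 107 0 := by decide +kernel
theorem cnt_c108 : cntB (fun j => Nat.blt 0 (nxt 4194303 lab (Nat.mul (108 * 1023 + j) 22))) 1023 = cntW.getD 108 0 := by decide +kernel
theorem cnt_c109 : cntB (fun j => Nat.blt 0 (nxt 4194303 lab (Nat.mul (109 * 1023 + j) 22))) 1023 = cntW.getD 109 0 := by decide +kernel
theorem cnt_c110 : cntB (fun j => Nat.blt 0 (nxt 4194303 lab (Nat.mul (110 * 1023 + j) 22))) 1023 = cntW.getD 110 0 := by decide +kernel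
theorem cnt_c111 : cntB (fun j => Nat.blt 0 (nxt 4194303 lab (Nat.mul (111 * 1023 + j) 22))) 1023 = cntW.getD 111 0 := by decide +kernel
theorem cnt_c112 : cntB (fun j => Nat.blt 0 (nxt 4194303 lab (Nat.mul (112 * 1023 + j) 22))) 1023 = cntW.getD 112 0 := by decide +kernel
theorem cnt_c113 : cntB (fun j => Nat.blt 0 (nxt 4194303 lab (Nat.mul (113 * 1023 + j) 22))) 1023 = cntW.getD 113 0 := by decide +kernel
theorem cnt_c114 : cntB (fun j => Nat.blt 0 (nxt 4194303 lab (Nat.mul (114 * 1023 + j) 22))) 1023 = cntW.getD 114 0 := by decide +kernel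
theorem cnt_c115 : cntB (fun j => Nat.blt 0 (nxt 4194303 lab (Nat.mul (115 * 1023 + j) 22))) 1023 = cntW.getD 115 0 := by decide +kernel
theorem cnt_c116 : cntB (fun j => Nat.blt 0 (nxt 4194303 lab (Nat.mul (116 * 1023 + j) 22))) 1023 = cntW.getD 116 0 := by decide +kernel
theorem cnt_c117 : cntB (fun j => Nat.blt 0 (nxt 4194303 lab (Nat.mul (117 * 1023 + j) 22))) 1023 = cntW.getD 117 0 := by decide +kernel
theorem cnt_c118 : cntB (fun j => Nat.blt 0 (nxt 4194303 lab (Nat.mul (118 * 1023 + j) 22))) 1023 = cntW.getD 118 0 := by decide +kernel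
theorem cnt_c119 : cntB (fun j => Nat.blt 0 (nxt 4194303 lab (Nat.mul (119 * 1023 + j) 22))) 1023 = cntW.getD 119 0 := by decide +kernel

theorem cnt : cntB (fun k => Nat.blt 0 (nxt 4194303 lab (Nat.mul k 22))) 122760 = 122760 := by
  have h := Cfsg.Agent.Lib.Helper28_CntSplit.cntB_chunks (fun k => Nat.blt 0 (nxt 4194303 lab (Nat.mul k 22))) 1023
    (fun i => cntW.getD i 0) 120 (by
      intro i hi
      interval_cases i
      · exact cnt_c0
      · exact cnt_c1
      · exact cnt_c2
      · exact cnt_c3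
      · exact cnt_c4
      · exact cnt_c5
      · exact cnt_c6
      · exact cnt_c7
      · exact cnt_c8
      · exact cnt_c9
      · exact cnt_c10
      · exact cnt_c11
      · exact cnt_c12
      · exact cnt_c13
      · exact cnt_c14
      · exact cnt_c15
      · exact cnt_c16
      · exact cnt_c17
      · exact cnt_c18
      · exact cnt_c19
      · exact cnt_c20
      · exact cnt_c21
      · exact cnt_c22
      · exact cnt_c23
      · exact cnt_c24
      · exact cnt_c25
      · exact cnt_c26
      · exact cnt_c27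
      · exact cnt_c28
      · exact cnt_c29
      · exact cnt_c30
      · exact cnt_c31
      · exact cnt_c32
      · exact cnt_c33
      · exact cnt_c34
      · exact cnt_c35
      · exact cnt_c36
      · exact cnt_c37
      · exact cnt_c38
      · exact cnt_c39
      · exact cnt_c40
      · exact cnt_c41
      · exact cnt_c42
      · exact cnt_c43
      · exact cnt_c44
      · exact cnt_c45
      · exact cnt_c46
      · exact cnt_c47
      · exact cnt_c48
      · exact cnt_c49
      · exact cnt_c50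
      · exact cnt_c51
      · exact cnt_c52
      · exact cnt_c53
      · exact cnt_c54
      · exact cnt_c55
      · exact cnt_c56
      · exact cnt_c57
      · exact cnt_c58
      · exact cnt_c59
      · exact cnt_c60
      · exact cnt_c61
      · exact cnt_c62
      · exact cnt_c63
      · exact cnt_c64
      · exact cnt_c65
      · exact cnt_c66
      · exact cnt_c67
      · exact cnt_c68
      · exact cnt_c69
      · exact cnt_c70
      · exact cnt_c71
      · exact cnt_c72
      · exact cnt_c73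
      · exact cnt_c74
      · exact cnt_c75
      · exact cnt_c76
      · exact cnt_c77
      · exact cnt_c78
      · exact cnt_c79
      · exact cnt_c80
      · exact cnt_c81
      · exact cnt_c82
      · exact cnt_c83
      · exact cnt_c84
      · exact cnt_c85
      · exact cnt_c86
      · exact cnt_c87
      · exact cnt_c88
      · exact cnt_c89
      · exact cnt_c90
      · exact cnt_c91
      · exact cnt_c92
      · exact cnt_c93
      · exact cnt_c94
      · exact cnt_c95
      · exact cnt_c96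
      · exact cnt_c97
      · exact cnt_c98
      · exact cnt_c99
      · exact cnt_c100
      · exact cnt_c101
      · exact cnt_c102
      · exact cnt_c103
      · exact cnt_c104
      · exact cnt_c105
      · exact cnt_c106
      · exact cnt_c107
      · exact cnt_c108
      · exact cnt_c109
      · exact cnt_c110
      · exact cnt_c111
      · exact cnt_c112
      · exact cnt_c113
      · exact cnt_c114
      · exact cnt_c115
      · exact cnt_c116
      · exact cnt_c117
      · exact cnt_c118
      · exact cnt_c119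
      )
  exact h.trans (by decide +kernel)

theorem fix : ∀ a ∈ ([.a, .b, .c, .d, .e, .f] : List Cfsg.Spor.ON.Gen), walk 4194303 col [(a, true)] (0 * 22) = 0 * 22 := by decide +kernel

theorem step [Finite (PresentedGroup (Cfsg.Spor.coxRelators Cfsg.Spor.ON.edges ∪ {r | r ∈ Cfsg.Spor.ON.extra}))] (Z : Subgroup (PresentedGroup (Cfsg.Spor.coxRelators Cfsg.Spor.ON.edges ∪ {r | r ∈ Cfsg.Spor.ON.extra}))) (hZ : ∀ z ∈ Z, psi (perm Cfsg.Agent.Lib.Helper28_S1692.verified.hv) Cfsg.Agent.Lib.Helper28_S1692.verified.hrel z = 1) :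
    122760 * Nat.card (SG (Cfsg.Spor.coxRelators Cfsg.Spor.ON.edges ∪ {r | r ∈ Cfsg.Spor.ON.extra}) [.a, .b, .c, .d, .e, .f] ⊔ Z : Subgroup (PresentedGroup (Cfsg.Spor.coxRelators Cfsg.Spor.ON.edges ∪ {r | r ∈ Cfsg.Spor.ON.extra}))) ≤ Nat.card (SG (Cfsg.Spor.coxRelators Cfsg.Spor.ON.edges ∪ {r | r ∈ Cfsg.Spor.ON.extra}) [.g, .a, .b, .c, .d, .e, .f] ⊔ Z : Subgroup (PresentedGroup (Cfsg.Spor.coxRelators Cfsg.Spor.ON.edges ∪ {r | r ∈ Cfsg.Spor.ON.extra}))) :=
  Verified.step Cfsg.Agent.Lib.Helper28_S1692.verified Z hZ [.g, .a, .b, .c, .d, .e, .f] [.a, .b, .c, .d, .e, .f] (by decide) lab (⟨0, by norm_num⟩ : Fin 122760) ls (by decide) fix chk_all 122760 cnt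

theorem stab [Finite (PresentedGroup (Cfsg.Spor.coxRelators Cfsg.Spor.ON.edges ∪ {r | r ∈ Cfsg.Spor.ON.extra}))] (htight : Nat.card (SG (Cfsg.Spor.coxRelators Cfsg.Spor.ON.edges ∪ {r | r ∈ Cfsg.Spor.ON.extra}) [.g, .a, .b, .c, .d, .e, .f]) ≤ 122760 * Nat.card (SG (Cfsg.Spor.coxRelators Cfsg.Spor.ON.edges ∪ {r | r ∈ Cfsg.Spor.ON.extra}) [.a, .b, .c, .d, .e, .f])) :
    ∀ g ∈ SG (Cfsg.Spor.coxRelators Cfsg.Spor.ON.edges ∪ {r | r ∈ Cfsg.Spor.ON.extra}) [.g, .a, .b, .c, .d, .e, .f], psi (perm Cfsg.Agent.Lib.Helper28_S1692.verified.hv) Cfsg.Agent.Lib.Helper28_S1692.verified.hrel g (⟨0, by norm_num⟩ : Fin 122760) = (⟨0, by norm_num⟩ : Fin 122760) → g ∈ SG (Cfsg.Spor.coxRelators Cfsg.Spor.ON.edges ∪ {r | r ∈ Cfsg.Spor.ON.extra}) [.a, .b, .c, .d, .e, .f] :=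
  Verified.stab_step Cfsg.Agent.Lib.Helper28_S1692.verified [.g, .a, .b, .c, .d, .e, .f] [.a, .b, .c, .d, .e, .f] (by decide) lab (⟨0, by norm_num⟩ : Fin 122760) ls (by decide) fix chk_all 122760 cnt (by norm_num) htight

end Cfsg.Agent.Lib.Helper28_ONLB0
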