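import Cfsg.Agent.Lib.Helper28_ONLB0D

set_option autoImplicit false
set_option linter.constructorNameAsVariable false
set_option Elab.async false

namespace Cfsg.Agent.Lib.Helper28_ONLB0

open Cfsg.Spor Cfsg.Agent.Lib.Helper28_CosetPerm Cfsg.Agent.Lib.Helper28_OrbitLB Cfsg.Agent.Lib.Helper28_S1692 Cfsg.Agent.Lib.Helper28_S1692Tab

theorem r0 : allRange chk 22 0 35 = true := by decide +kernel
theorem r1 : allRange chk 22 35 35 = true := by decide +kernel
theorem r2 : allRange chk 22 70 35 = true := by decide +kernel
theorem r3 : allRange chk 22 105 35 = true := by decide +kernel
theorem r4 : allRange chk 22 140 35 = true := by decide +kernel
theorem r5 : allRange chk 22 175 35 = true := by decide +kernel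
theorem r6 : allRange chk 22 210 35 = true := by decide +kernel
theorem r7 : allRange chk 22 245 35 = true := by decide +kernel
theorem r8 : allRange chk 22 280 35 = true := by decide +kernel
theorem r9 : allRange chk 22 315 35 = true := by decide +kernel
theorem r10 : allRange chk 22 350 35 = true := by decide +kernel
theorem r11 : allRange chk 22 385 35 = true := by decide +kernel
theorem r12 : allRange chk 22 420 35 = true := by decide +kernel
theorem r13 : allRange chk 22 455 35 = true := by decide +kernel
theorem r14 : allRange chk 22 490 35 = true := by decide +kernel
theorem r15 : allRange chk 22 525 35 = true := by decide +kernel
theorem r16 : allRange chk 22 560 35 = true := by decide +kernel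
theorem r17 : allRange chk 22 595 35 = true := by decide +kernel
theorem r18 : allRange chk 22 630 35 = true := by decide +kernel
theorem r19 : allRange chk 22 665 35 = true := by decide +kernel
theorem r20 : allRange chk 22 700 35 = true := by decide +kernel
theorem r21 : allRange chk 22 735 35 = true := by decide +kernel
theorem r22 : allRange chk 22 770 35 = true := by decide +kernel
theorem r23 : allRange chk 22 805 35 = true := by decide +kernel
theorem r24 : allRange chk 22 840 35 = true := by decide +kernel
theorem r25 : allRange chk 22 875 35 = true := by decide +kernel
theorem r26 : allRange chk 22 910 35 = true := by decide +kernel
theorem r27 : allRange chk 22 945 35 = true := by decide +kernel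
theorem r28 : allRange chk 22 980 35 = true := by decide +kernel
theorem r29 : allRange chk 22 1015 35 = true := by decide +kernel
theorem r30 : allRange chk 22 1050 35 = true := by decide +kernel
theorem r31 : allRange chk 22 1085 35 = true := by decide +kernel
theorem r32 : allRange chk 22 1120 35 = true := by decide +kernel
theorem r33 : allRange chk 22 1155 35 = true := by decide +kernel
theorem r34 : allRange chk 22 1190 35 = true := by decide +kernel
theorem r35 : allRange chk 22 1225 35 = true := by decide +kernel
theorem r36 : allRange chk 22 1260 35 = true := by decide +kernel
theorem r37 : allRange chk 22 1295 35 = true := by decide +kernel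
theorem r38 : allRange chk 22 1330 35 = true := by decide +kernel
theorem r39 : allRange chk 22 1365 35 = true := by decide +kernel
theorem r40 : allRange chk 22 1400 35 = true := by decide +kernel
theorem r41 : allRange chk 22 1435 35 = true := by decide +kernel
theorem r42 : allRange chk 22 1470 35 = true := by decide +kernel
theorem r43 : allRange chk 22 1505 35 = true := by decide +kernel
theorem r44 : allRange chk 22 1540 35 = true := by decide +kernel
theorem r45 : allRange chk 22 1575 35 = true := by decide +kernel
theorem r46 : allRange chk 22 1610 35 = true := by decide +kernel
theorem r47 : allRange chk 22 1645 35 = true := by decide +kernel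
theorem r48 : allRange chk 22 1680 35 = true := by decide +kernel
theorem r49 : allRange chk 22 1715 35 = true := by decide +kernel
theorem r50 : allRange chk 22 1750 35 = true := by decide +kernel
theorem r51 : allRange chk 22 1785 35 = true := by decide +kernel
theorem r52 : allRange chk 22 1820 35 = true := by decide +kernel
theorem r53 : allRange chk 22 1855 35 = true := by decide +kernel
theorem r54 : allRange chk 22 1890 35 = true := by decide +kernel
theorem r55 : allRange chk 22 1925 35 = true := by decide +kernel
theorem r56 : allRange chk 22 1960 35 = true := by decide +kernel
theorem r57 : allRange chk 22 1995 35 = true := by decide +kernel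
theorem r58 : allRange chk 22 2030 35 = true := by decide +kernel
theorem r59 : allRange chk 22 2065 35 = true := by decide +kernel
theorem r60 : allRange chk 22 2100 35 = true := by decide +kernel
theorem r61 : allRange chk 22 2135 35 = true := by decide +kernel
theorem r62 : allRange chk 22 2170 35 = true := by decide +kernel
theorem r63 : allRange chk 22 2205 35 = true := by decide +kernel
theorem r64 : allRange chk 22 2240 35 = true := by decide +kernel
theorem r65 : allRange chk 22 2275 35 = true := by decide +kernel
theorem r66 : allRange chk 22 2310 35 = true := by decide +kernel
theorem r67 : allRange chk 22 2345 35 = true := by decide +kernel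
theorem r68 : allRange chk 22 2380 35 = true := by decide +kernel
theorem r69 : allRange chk 22 2415 35 = true := by decide +kernel
theorem r70 : allRange chk 22 2450 35 = true := by decide +kernel
theorem r71 : allRange chk 22 2485 35 = true := by decide +kernel
theorem r72 : allRange chk 22 2520 35 = true := by decide +kernel
theorem r73 : allRange chk 22 2555 35 = true := by decide +kernel
theorem r74 : allRange chk 22 2590 35 = true := by decide +kernel
theorem r75 : allRange chk 22 2625 35 = true := by decide +kernel
theorem r76 : allRange chk 22 2660 35 = true := by decide +kernel
theorem r77 : allRange chk 22 2695 35 = true := by decide +kernel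
theorem r78 : allRange chk 22 2730 35 = true := by decide +kernel
theorem r79 : allRange chk 22 2765 35 = true := by decide +kernel
theorem r80 : allRange chk 22 2800 35 = true := by decide +kernel
theorem r81 : allRange chk 22 2835 35 = true := by decide +kernel
theorem r82 : allRange chk 22 2870 35 = true := by decide +kernel
theorem r83 : allRange chk 22 2905 35 = true := by decide +kernel
theorem r84 : allRange chk 22 2940 35 = true := by decide +kernel
theorem r85 : allRange chk 22 2975 35 = true := by decide +kernel
theorem r86 : allRange chk 22 3010 35 = true := by decide +kernel
theorem r87 : allRange chk 22 3045 35 = true := by decide +kernel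
theorem r88 : allRange chk 22 3080 35 = true := by decide +kernel
theorem r89 : allRange chk 22 3115 35 = true := by decide +kernel
theorem r90 : allRange chk 22 3150 35 = true := by decide +kernel
theorem r91 : allRange chk 22 3185 35 = true := by decide +kernel
theorem r92 : allRange chk 22 3220 35 = true := by decide +kernel
theorem r93 : allRange chk 22 3255 35 = true := by decide +kernel
theorem r94 : allRange chk 22 3290 35 = true := by decide +kernel
theorem r95 : allRange chk 22 3325 35 = true := by decide +kernel
theorem r96 : allRange chk 22 3360 35 = true := by decide +kernel
theorem r97 : allRange chk 22 3395 35 = true := by decide +kernel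
theorem r98 : allRange chk 22 3430 35 = true := by decide +kernel
theorem r99 : allRange chk 22 3465 35 = true := by decide +kernel
theorem r100 : allRange chk 22 3500 35 = true := by decide +kernel
theorem r101 : allRange chk 22 3535 35 = true := by decide +kernel
theorem r102 : allRange chk 22 3570 35 = true := by decide +kernel
theorem r103 : allRange chk 22 3605 35 = true := by decide +kernel
theorem r104 : allRange chk 22 3640 35 = true := by decide +kernel
theorem r105 : allRange chk 22 3675 35 = true := by decide +kernel
theorem r106 : allRange chk 22 3710 35 = true := by decide +kernel
theorem r107 : allRange chk 22 3745 35 = true := by decide +kernel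
theorem r108 : allRange chk 22 3780 35 = true := by decide +kernel
theorem r109 : allRange chk 22 3815 35 = true := by decide +kernel
theorem r110 : allRange chk 22 3850 35 = true := by decide +kernel
theorem r111 : allRange chk 22 3885 35 = true := by decide +kernel
theorem r112 : allRange chk 22 3920 35 = true := by decide +kernel
theorem r113 : allRange chk 22 3955 35 = true := by decide +kernel
theorem r114 : allRange chk 22 3990 35 = true := by decide +kernel
theorem r115 : allRange chk 22 4025 35 = true := by decide +kernel
theorem r116 : allRange chk 22 4060 35 = true := by decide +kernel
theorem r117 : allRange chk 22 4095 35 = true := by decide +kernel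
theorem r118 : allRange chk 22 4130 35 = true := by decide +kernel
theorem r119 : allRange chk 22 4165 35 = true := by decide +kernel
theorem r120 : allRange chk 22 4200 35 = true := by decide +kernel
theorem r121 : allRange chk 22 4235 35 = true := by decide +kernel
theorem r122 : allRange chk 22 4270 35 = true := by decide +kernel
theorem r123 : allRange chk 22 4305 35 = true := by decide +kernel
theorem r124 : allRange chk 22 4340 35 = true := by decide +kernel
theorem r125 : allRange chk 22 4375 35 = true := by decide +kernel
theorem r126 : allRange chk 22 4410 35 = true := by decide +kernel
theorem r127 : allRange chk 22 4445 35 = true := by decide +kernel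
theorem r128 : allRange chk 22 4480 35 = true := by decide +kernel
theorem r129 : allRange chk 22 4515 35 = true := by decide +kernel
theorem r130 : allRange chk 22 4550 35 = true := by decide +kernel
theorem r131 : allRange chk 22 4585 35 = true := by decide +kernel
theorem r132 : allRange chk 22 4620 35 = true := by decide +kernel
theorem r133 : allRange chk 22 4655 35 = true := by decide +kernel
theorem r134 : allRange chk 22 4690 35 = true := by decide +kernel
theorem r135 : allRange chk 22 4725 35 = true := by decide +kernel
theorem r136 : allRange chk 22 4760 35 = true := by decide +kernel
theorem r137 : allRange chk 22 4795 35 = true := by decide +kernel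
theorem r138 : allRange chk 22 4830 35 = true := by decide +kernel
theorem r139 : allRange chk 22 4865 35 = true := by decide +kernel
theorem r140 : allRange chk 22 4900 35 = true := by decide +kernel
theorem r141 : allRange chk 22 4935 35 = true := by decide +kernel
theorem r142 : allRange chk 22 4970 35 = true := by decide +kernel
theorem r143 : allRange chk 22 5005 35 = true := by decide +kernel
theorem r144 : allRange chk 22 5040 35 = true := by decide +kernel
theorem r145 : allRange chk 22 5075 35 = true := by decide +kernel
theorem r146 : allRange chk 22 5110 35 = true := by decide +kernel
theorem r147 : allRange chk 22 5145 35 = true := by decide +kernel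
theorem r148 : allRange chk 22 5180 35 = true := by decide +kernel
theorem r149 : allRange chk 22 5215 35 = true := by decide +kernel
theorem r150 : allRange chk 22 5250 35 = true := by decide +kernel
theorem r151 : allRange chk 22 5285 35 = true := by decide +kernel
theorem r152 : allRange chk 22 5320 35 = true := by decide +kernel
theorem r153 : allRange chk 22 5355 35 = true := by decide +kernel
theorem r154 : allRange chk 22 5390 35 = true := by decide +kernel
theorem r155 : allRange chk 22 5425 35 = true := by decide +kernel
theorem r156 : allRange chk 22 5460 35 = true := by decide +kernel
theorem r157 : allRange chk 22 5495 35 = true := by decide +kernel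
theorem r158 : allRange chk 22 5530 35 = true := by decide +kernel
theorem r159 : allRange chk 22 5565 35 = true := by decide +kernel
theorem r160 : allRange chk 22 5600 35 = true := by decide +kernel
theorem r161 : allRange chk 22 5635 35 = true := by decide +kernel
theorem r162 : allRange chk 22 5670 35 = true := by decide +kernel
theorem r163 : allRange chk 22 5705 35 = true := by decide +kernel
theorem r164 : allRange chk 22 5740 35 = true := by decide +kernel
theorem r165 : allRange chk 22 5775 35 = true := by decide +kernel
theorem r166 : allRange chk 22 5810 35 = true := by decide +kernel
theorem r167 : allRange chk 22 5845 35 = true := by decide +kernel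
theorem r168 : allRange chk 22 5880 35 = true := by decide +kernel
theorem r169 : allRange chk 22 5915 35 = true := by decide +kernel
theorem r170 : allRange chk 22 5950 35 = true := by decide +kernel
theorem r171 : allRange chk 22 5985 35 = true := by decide +kernel
theorem r172 : allRange chk 22 6020 35 = true := by decide +kernel
theorem r173 : allRange chk 22 6055 35 = true := by decide +kernel
theorem r174 : allRange chk 22 6090 35 = true := by decide +kernel
theorem r175 : allRange chk 22 6125 35 = true := by decide +kernel
theorem r176 : allRange chk 22 6160 35 = true := by decide +kernel
theorem r177 : allRange chk 22 6195 35 = true := by decide +kernel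
theorem r178 : allRange chk 22 6230 35 = true := by decide +kernel
theorem r179 : allRange chk 22 6265 35 = true := by decide +kernel
theorem r180 : allRange chk 22 6300 35 = true := by decide +kernel
theorem r181 : allRange chk 22 6335 35 = true := by decide +kernel
theorem r182 : allRange chk 22 6370 35 = true := by decide +kernel
theorem r183 : allRange chk 22 6405 35 = true := by decide +kernel
theorem r184 : allRange chk 22 6440 35 = true := by decide +kernel
theorem r185 : allRange chk 22 6475 35 = true := by decide +kernel
theorem r186 : allRange chk 22 6510 35 = true := by decide +kernel
theorem r187 : allRange chk 22 6545 35 = true := by decide +kernel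
theorem r188 : allRange chk 22 6580 35 = true := by decide +kernel
theorem r189 : allRange chk 22 6615 35 = true := by decide +kernel
theorem r190 : allRange chk 22 6650 35 = true := by decide +kernel
theorem r191 : allRange chk 22 6685 35 = true := by decide +kernel
theorem r192 : allRange chk 22 6720 35 = true := by decide +kernel
theorem r193 : allRange chk 22 6755 35 = true := by decide +kernel
theorem r194 : allRange chk 22 6790 35 = true := by decide +kernel
theorem r195 : allRange chk 22 6825 35 = true := by decide +kernel
theorem r196 : allRange chk 22 6860 35 = true := by decide +kernel
theorem r197 : allRange chk 22 6895 35 = true := by decide +kernel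
theorem r198 : allRange chk 22 6930 35 = true := by decide +kernel
theorem r199 : allRange chk 22 6965 35 = true := by decide +kernel
theorem r200 : allRange chk 22 7000 35 = true := by decide +kernel
theorem r201 : allRange chk 22 7035 35 = true := by decide +kernel
theorem r202 : allRange chk 22 7070 35 = true := by decide +kernel
theorem r203 : allRange chk 22 7105 35 = true := by decide +kernel
theorem r204 : allRange chk 22 7140 35 = true := by decide +kernel
theorem r205 : allRange chk 22 7175 35 = true := by decide +kernel
theorem r206 : allRange chk 22 7210 35 = true := by decide +kernel
theorem r207 : allRange chk 22 7245 35 = true := by decide +kernel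
theorem r208 : allRange chk 22 7280 35 = true := by decide +kernel
theorem r209 : allRange chk 22 7315 35 = true := by decide +kernel
theorem r210 : allRange chk 22 7350 35 = true := by decide +kernel
theorem r211 : allRange chk 22 7385 35 = true := by decide +kernel
theorem r212 : allRange chk 22 7420 35 = true := by decide +kernel
theorem r213 : allRange chk 22 7455 35 = true := by decide +kernel
theorem r214 : allRange chk 22 7490 35 = true := by decide +kernel
theorem r215 : allRange chk 22 7525 35 = true := by decide +kernel
theorem r216 : allRange chk 22 7560 35 = true := by decide +kernel
theorem r217 : allRange chk 22 7595 35 = true := by decide +kernel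
theorem r218 : allRange chk 22 7630 35 = true := by decide +kernel
theorem r219 : allRange chk 22 7665 35 = true := by decide +kernel
theorem r220 : allRange chk 22 7700 35 = true := by decide +kernel
theorem r221 : allRange chk 22 7735 35 = true := by decide +kernel
theorem r222 : allRange chk 22 7770 35 = true := by decide +kernel
theorem r223 : allRange chk 22 7805 35 = true := by decide +kernel
theorem r224 : allRange chk 22 7840 35 = true := by decide +kernel
theorem r225 : allRange chk 22 7875 35 = true := by decide +kernel
theorem r226 : allRange chk 22 7910 35 = true := by decide +kernel
theorem r227 : allRange chk 22 7945 35 = true := by decide +kernel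
theorem r228 : allRange chk 22 7980 35 = true := by decide +kernel
theorem r229 : allRange chk 22 8015 35 = true := by decide +kernel
theorem r230 : allRange chk 22 8050 35 = true := by decide +kernel
theorem r231 : allRange chk 22 8085 35 = true := by decide +kernel
theorem r232 : allRange chk 22 8120 35 = true := by decide +kernel
theorem r233 : allRange chk 22 8155 35 = true := by decide +kernel
theorem r234 : allRange chk 22 8190 35 = true := by decide +kernel
theorem r235 : allRange chk 22 8225 35 = true := by decide +kernel
theorem r236 : allRange chk 22 8260 35 = true := by decide +kernel
theorem r237 : allRange chk 22 8295 35 = true := by decide +kernel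
theorem r238 : allRange chk 22 8330 35 = true := by decide +kernel
theorem r239 : allRange chk 22 8365 35 = true := by decide +kernel
theorem r240 : allRange chk 22 8400 35 = true := by decide +kernel
theorem r241 : allRange chk 22 8435 35 = true := by decide +kernel
theorem r242 : allRange chk 22 8470 35 = true := by decide +kernel
theorem r243 : allRange chk 22 8505 35 = true := by decide +kernel
theorem r244 : allRange chk 22 8540 35 = true := by decide +kernel
theorem r245 : allRange chk 22 8575 35 = true := by decide +kernel
theorem r246 : allRange chk 22 8610 35 = true := by decide +kernel
theorem r247 : allRange chk 22 8645 35 = true := by decide +kernel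
theorem r248 : allRange chk 22 8680 35 = true := by decide +kernel
theorem r249 : allRange chk 22 8715 35 = true := by decide +kernel
theorem r250 : allRange chk 22 8750 35 = true := by decide +kernel
theorem r251 : allRange chk 22 8785 35 = true := by decide +kernel
theorem r252 : allRange chk 22 8820 35 = true := by decide +kernel
theorem r253 : allRange chk 22 8855 35 = true := by decide +kernel
theorem r254 : allRange chk 22 8890 35 = true := by decide +kernel
theorem r255 : allRange chk 22 8925 35 = true := by decide +kernel
theorem r256 : allRange chk 22 8960 35 = true := by decide +kernel
theorem r257 : allRange chk 22 8995 35 = true := by decide +kernel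
theorem r258 : allRange chk 22 9030 35 = true := by decide +kernel
theorem r259 : allRange chk 22 9065 35 = true := by decide +kernel
theorem r260 : allRange chk 22 9100 35 = true := by decide +kernel
theorem r261 : allRange chk 22 9135 35 = true := by decide +kernel
theorem r262 : allRange chk 22 9170 35 = true := by decide +kernel
theorem r263 : allRange chk 22 9205 35 = true := by decide +kernel
theorem r264 : allRange chk 22 9240 35 = true := by decide +kernel
theorem r265 : allRange chk 22 9275 35 = true := by decide +kernel
theorem r266 : allRange chk 22 9310 35 = true := by decide +kernel
theorem r267 : allRange chk 22 9345 35 = true := by decide +kernel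
theorem r268 : allRange chk 22 9380 35 = true := by decide +kernel
theorem r269 : allRange chk 22 9415 35 = true := by decide +kernel
theorem r270 : allRange chk 22 9450 35 = true := by decide +kernel
theorem r271 : allRange chk 22 9485 35 = true := by decide +kernel
theorem r272 : allRange chk 22 9520 35 = true := by decide +kernel
theorem r273 : allRange chk 22 9555 35 = true := by decide +kernel
theorem r274 : allRange chk 22 9590 35 = true := by decide +kernel
theorem r275 : allRange chk 22 9625 35 = true := by decide +kernel
theorem r276 : allRange chk 22 9660 35 = true := by decide +kernel
theorem r277 : allRange chk 22 9695 35 = true := by decide +kernel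
theorem r278 : allRange chk 22 9730 35 = true := by decide +kernel
theorem r279 : allRange chk 22 9765 35 = true := by decide +kernel
theorem r280 : allRange chk 22 9800 35 = true := by decide +kernel
theorem r281 : allRange chk 22 9835 35 = true := by decide +kernel
theorem r282 : allRange chk 22 9870 35 = true := by decide +kernel
theorem r283 : allRange chk 22 9905 35 = true := by decide +kernel
theorem r284 : allRange chk 22 9940 35 = true := by decide +kernel
theorem r285 : allRange chk 22 9975 35 = true := by decide +kernel
theorem r286 : allRange chk 22 10010 35 = true := by decide +kernel
theorem r287 : allRange chk 22 10045 35 = true := by decide +kernel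
theorem r288 : allRange chk 22 10080 35 = true := by decide +kernel
theorem r289 : allRange chk 22 10115 35 = true := by decide +kernel
theorem r290 : allRange chk 22 10150 35 = true := by decide +kernel
theorem r291 : allRange chk 22 10185 35 = true := by decide +kernel
theorem r292 : allRange chk 22 10220 35 = true := by decide +kernel
theorem r293 : allRange chk 22 10255 35 = true := by decide +kernel
theorem r294 : allRange chk 22 10290 35 = true := by decide +kernel
theorem r295 : allRange chk 22 10325 35 = true := by decide +kernel
theorem r296 : allRange chk 22 10360 35 = true := by decide +kernel
theorem r297 : allRange chk 22 10395 35 = true := by decide +kernel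
theorem r298 : allRange chk 22 10430 35 = true := by decide +kernel
theorem r299 : allRange chk 22 10465 35 = true := by decide +kernel
theorem r300 : allRange chk 22 10500 35 = true := by decide +kernel
theorem r301 : allRange chk 22 10535 35 = true := by decide +kernel
theorem r302 : allRange chk 22 10570 35 = true := by decide +kernel
theorem r303 : allRange chk 22 10605 35 = true := by decide +kernel
theorem r304 : allRange chk 22 10640 35 = true := by decide +kernel
theorem r305 : allRange chk 22 10675 35 = true := by decide +kernel
theorem r306 : allRange chk 22 10710 35 = true := by decide +kernel
theorem r307 : allRange chk 22 10745 35 = true := by decide +kernel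
theorem r308 : allRange chk 22 10780 35 = true := by decide +kernel
theorem r309 : allRange chk 22 10815 35 = true := by decide +kernel
theorem r310 : allRange chk 22 10850 35 = true := by decide +kernel
theorem r311 : allRange chk 22 10885 35 = true := by decide +kernel
theorem r312 : allRange chk 22 10920 35 = true := by decide +kernel
theorem r313 : allRange chk 22 10955 35 = true := by decide +kernel
theorem r314 : allRange chk 22 10990 35 = true := by decide +kernel
theorem r315 : allRange chk 22 11025 35 = true := by decide +kernel
theorem r316 : allRange chk 22 11060 35 = true := by decide +kernel
theorem r317 : allRange chk 22 11095 35 = true := by decide +kernel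
theorem r318 : allRange chk 22 11130 35 = true := by decide +kernel
theorem r319 : allRange chk 22 11165 35 = true := by decide +kernel
theorem r320 : allRange chk 22 11200 35 = true := by decide +kernel
theorem r321 : allRange chk 22 11235 35 = true := by decide +kernel
theorem r322 : allRange chk 22 11270 35 = true := by decide +kernel
theorem r323 : allRange chk 22 11305 35 = true := by decide +kernel
theorem r324 : allRange chk 22 11340 35 = true := by decide +kernel
theorem r325 : allRange chk 22 11375 35 = true := by decide +kernel
theorem r326 : allRange chk 22 11410 35 = true := by decide +kernel
theorem r327 : allRange chk 22 11445 35 = true := by decide +kernel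
theorem r328 : allRange chk 22 11480 35 = true := by decide +kernel
theorem r329 : allRange chk 22 11515 35 = true := by decide +kernel
theorem r330 : allRange chk 22 11550 35 = true := by decide +kernel
theorem r331 : allRange chk 22 11585 35 = true := by decide +kernel
theorem r332 : allRange chk 22 11620 35 = true := by decide +kernel
theorem r333 : allRange chk 22 11655 35 = true := by decide +kernel
theorem r334 : allRange chk 22 11690 35 = true := by decide +kernel
theorem r335 : allRange chk 22 11725 35 = true := by decide +kernel
theorem r336 : allRange chk 22 11760 35 = true := by decide +kernel
theorem r337 : allRange chk 22 11795 35 = true := by decide +kernel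
theorem r338 : allRange chk 22 11830 35 = true := by decide +kernel
theorem r339 : allRange chk 22 11865 35 = true := by decide +kernel
theorem r340 : allRange chk 22 11900 35 = true := by decide +kernel
theorem r341 : allRange chk 22 11935 35 = true := by decide +kernel
theorem r342 : allRange chk 22 11970 35 = true := by decide +kernel
theorem r343 : allRange chk 22 12005 35 = true := by decide +kernel
theorem r344 : allRange chk 22 12040 35 = true := by decide +kernel
theorem r345 : allRange chk 22 12075 35 = true := by decide +kernel
theorem r346 : allRange chk 22 12110 35 = true := by decide +kernel
theorem r347 : allRange chk 22 12145 35 = true := by decide +kernel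
theorem r348 : allRange chk 22 12180 35 = true := by decide +kernel
theorem r349 : allRange chk 22 12215 35 = true := by decide +kernel
theorem r350 : allRange chk 22 12250 35 = true := by decide +kernel
theorem r351 : allRange chk 22 12285 35 = true := by decide +kernel
theorem r352 : allRange chk 22 12320 35 = true := by decide +kernel
theorem r353 : allRange chk 22 12355 35 = true := by decide +kernel
theorem r354 : allRange chk 22 12390 35 = true := by decide +kernel
theorem r355 : allRange chk 22 12425 35 = true := by decide +kernel
theorem r356 : allRange chk 22 12460 35 = true := by decide +kernel
theorem r357 : allRange chk 22 12495 35 = true := by decide +kernel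
theorem r358 : allRange chk 22 12530 35 = true := by decide +kernel
theorem r359 : allRange chk 22 12565 35 = true := by decide +kernel
theorem r360 : allRange chk 22 12600 35 = true := by decide +kernel
theorem r361 : allRange chk 22 12635 35 = true := by decide +kernel
theorem r362 : allRange chk 22 12670 35 = true := by decide +kernel
theorem r363 : allRange chk 22 12705 35 = true := by decide +kernel
theorem r364 : allRange chk 22 12740 35 = true := by decide +kernel
theorem r365 : allRange chk 22 12775 35 = true := by decide +kernel
theorem r366 : allRange chk 22 12810 35 = true := by decide +kernel
theorem r367 : allRange chk 22 12845 35 = true := by decide +kernel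
theorem r368 : allRange chk 22 12880 35 = true := by decide +kernel
theorem r369 : allRange chk 22 12915 35 = true := by decide +kernel
theorem r370 : allRange chk 22 12950 35 = true := by decide +kernel
theorem r371 : allRange chk 22 12985 35 = true := by decide +kernel
theorem r372 : allRange chk 22 13020 35 = true := by decide +kernel
theorem r373 : allRange chk 22 13055 35 = true := by decide +kernel
theorem r374 : allRange chk 22 13090 35 = true := by decide +kernel
theorem r375 : allRange chk 22 13125 35 = true := by decide +kernel
theorem r376 : allRange chk 22 13160 35 = true := by decide +kernel
theorem r377 : allRange chk 22 13195 35 = true := by decide +kernel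
theorem r378 : allRange chk 22 13230 35 = true := by decide +kernel
theorem r379 : allRange chk 22 13265 35 = true := by decide +kernel
theorem r380 : allRange chk 22 13300 35 = true := by decide +kernel
theorem r381 : allRange chk 22 13335 35 = true := by decide +kernel
theorem r382 : allRange chk 22 13370 35 = true := by decide +kernel
theorem r383 : allRange chk 22 13405 35 = true := by decide +kernel
theorem r384 : allRange chk 22 13440 35 = true := by decide +kernel
theorem r385 : allRange chk 22 13475 35 = true := by decide +kernel
theorem r386 : allRange chk 22 13510 35 = true := by decide +kernel
theorem r387 : allRange chk 22 13545 35 = true := by decide +kernel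
theorem r388 : allRange chk 22 13580 35 = true := by decide +kernel
theorem r389 : allRange chk 22 13615 35 = true := by decide +kernel
theorem r390 : allRange chk 22 13650 35 = true := by decide +kernel
theorem r391 : allRange chk 22 13685 35 = true := by decide +kernel
theorem r392 : allRange chk 22 13720 35 = true := by decide +kernel
theorem r393 : allRange chk 22 13755 35 = true := by decide +kernel
theorem r394 : allRange chk 22 13790 35 = true := by decide +kernel
theorem r395 : allRange chk 22 13825 35 = true := by decide +kernel
theorem r396 : allRange chk 22 13860 35 = true := by decide +kernel
theorem r397 : allRange chk 22 13895 35 = true := by decide +kernel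
theorem r398 : allRange chk 22 13930 35 = true := by decide +kernel
theorem r399 : allRange chk 22 13965 35 = true := by decide +kernel
theorem r400 : allRange chk 22 14000 35 = true := by decide +kernel
theorem r401 : allRange chk 22 14035 35 = true := by decide +kernel
theorem r402 : allRange chk 22 14070 35 = true := by decide +kernel
theorem r403 : allRange chk 22 14105 35 = true := by decide +kernel
theorem r404 : allRange chk 22 14140 35 = true := by decide +kernel
theorem r405 : allRange chk 22 14175 35 = true := by decide +kernel
theorem r406 : allRange chk 22 14210 35 = true := by decide +kernel
theorem r407 : allRange chk 22 14245 35 = true := by decide +kernel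
theorem r408 : allRange chk 22 14280 35 = true := by decide +kernel
theorem r409 : allRange chk 22 14315 35 = true := by decide +kernel
theorem r410 : allRange chk 22 14350 35 = true := by decide +kernel
theorem r411 : allRange chk 22 14385 35 = true := by decide +kernel
theorem r412 : allRange chk 22 14420 35 = true := by decide +kernel
theorem r413 : allRange chk 22 14455 35 = true := by decide +kernel
theorem r414 : allRange chk 22 14490 35 = true := by decide +kernel
theorem r415 : allRange chk 22 14525 35 = true := by decide +kernel
theorem r416 : allRange chk 22 14560 35 = true := by decide +kernel
theorem r417 : allRange chk 22 14595 35 = true := by decide +kernel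
theorem r418 : allRange chk 22 14630 35 = true := by decide +kernel
theorem r419 : allRange chk 22 14665 35 = true := by decide +kernel
theorem r420 : allRange chk 22 14700 35 = true := by decide +kernel
theorem r421 : allRange chk 22 14735 35 = true := by decide +kernel
theorem r422 : allRange chk 22 14770 35 = true := by decide +kernel
theorem r423 : allRange chk 22 14805 35 = true := by decide +kernel
theorem r424 : allRange chk 22 14840 35 = true := by decide +kernel
theorem r425 : allRange chk 22 14875 35 = true := by decide +kernel
theorem r426 : allRange chk 22 14910 35 = true := by decide +kernel
theorem r427 : allRange chk 22 14945 35 = true := by decide +kernel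
theorem r428 : allRange chk 22 14980 35 = true := by decide +kernel
theorem r429 : allRange chk 22 15015 35 = true := by decide +kernel
theorem r430 : allRange chk 22 15050 35 = true := by decide +kernel
theorem r431 : allRange chk 22 15085 35 = true := by decide +kernel
theorem r432 : allRange chk 22 15120 35 = true := by decide +kernel
theorem r433 : allRange chk 22 15155 35 = true := by decide +kernel
theorem r434 : allRange chk 22 15190 35 = true := by decide +kernel
theorem r435 : allRange chk 22 15225 35 = true := by decide +kernel
theorem r436 : allRange chk 22 15260 35 = true := by decide +kernel
theorem r437 : allRange chk 22 15295 35 = true := by decide +kernel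
theorem r438 : allRange chk 22 15330 35 = true := by decide +kernel
theorem r439 : allRange chk 22 15365 35 = true := by decide +kernel
theorem r440 : allRange chk 22 15400 35 = true := by decide +kernel
theorem r441 : allRange chk 22 15435 35 = true := by decide +kernel
theorem r442 : allRange chk 22 15470 35 = true := by decide +kernel
theorem r443 : allRange chk 22 15505 35 = true := by decide +kernel
theorem r444 : allRange chk 22 15540 35 = true := by decide +kernel
theorem r445 : allRange chk 22 15575 35 = true := by decide +kernel
theorem r446 : allRange chk 22 15610 35 = true := by decide +kernel
theorem r447 : allRange chk 22 15645 35 = true := by decide +kernel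
theorem r448 : allRange chk 22 15680 35 = true := by decide +kernel
theorem r449 : allRange chk 22 15715 35 = true := by decide +kernel
theorem r450 : allRange chk 22 15750 35 = true := by decide +kernel
theorem r451 : allRange chk 22 15785 35 = true := by decide +kernel
theorem r452 : allRange chk 22 15820 35 = true := by decide +kernel
theorem r453 : allRange chk 22 15855 35 = true := by decide +kernel
theorem r454 : allRange chk 22 15890 35 = true := by decide +kernel
theorem r455 : allRange chk 22 15925 35 = true := by decide +kernel
theorem r456 : allRange chk 22 15960 35 = true := by decide +kernel
theorem r457 : allRange chk 22 15995 35 = true := by decide +kernel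
theorem r458 : allRange chk 22 16030 35 = true := by decide +kernel
theorem r459 : allRange chk 22 16065 35 = true := by decide +kernel
theorem r460 : allRange chk 22 16100 35 = true := by decide +kernel
theorem r461 : allRange chk 22 16135 35 = true := by decide +kernel
theorem r462 : allRange chk 22 16170 35 = true := by decide +kernel
theorem r463 : allRange chk 22 16205 35 = true := by decide +kernel
theorem r464 : allRange chk 22 16240 35 = true := by decide +kernel
theorem r465 : allRange chk 22 16275 35 = true := by decide +kernel
theorem r466 : allRange chk 22 16310 35 = true := by decide +kernel
theorem r467 : allRange chk 22 16345 35 = true := by decide +kernel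
theorem r468 : allRange chk 22 16380 35 = true := by decide +kernel
theorem r469 : allRange chk 22 16415 35 = true := by decide +kernel
theorem r470 : allRange chk 22 16450 35 = true := by decide +kernel
theorem r471 : allRange chk 22 16485 35 = true := by decide +kernel
theorem r472 : allRange chk 22 16520 35 = true := by decide +kernel
theorem r473 : allRange chk 22 16555 35 = true := by decide +kernel
theorem r474 : allRange chk 22 16590 35 = true := by decide +kernel
theorem r475 : allRange chk 22 16625 35 = true := by decide +kernel
theorem r476 : allRange chk 22 16660 35 = true := by decide +kernel
theorem r477 : allRange chk 22 16695 35 = true := by decide +kernel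
theorem r478 : allRange chk 22 16730 35 = true := by decide +kernel
theorem r479 : allRange chk 22 16765 35 = true := by decide +kernel
theorem r480 : allRange chk 22 16800 35 = true := by decide +kernel
theorem r481 : allRange chk 22 16835 35 = true := by decide +kernel
theorem r482 : allRange chk 22 16870 35 = true := by decide +kernel
theorem r483 : allRange chk 22 16905 35 = true := by decide +kernel
theorem r484 : allRange chk 22 16940 35 = true := by decide +kernel
theorem r485 : allRange chk 22 16975 35 = true := by decide +kernel
theorem r486 : allRange chk 22 17010 35 = true := by decide +kernel
theorem r487 : allRange chk 22 17045 35 = true := by decide +kernel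
theorem r488 : allRange chk 22 17080 35 = true := by decide +kernel
theorem r489 : allRange chk 22 17115 35 = true := by decide +kernel
theorem r490 : allRange chk 22 17150 35 = true := by decide +kernel
theorem r491 : allRange chk 22 17185 35 = true := by decide +kernel
theorem r492 : allRange chk 22 17220 35 = true := by decide +kernel
theorem r493 : allRange chk 22 17255 35 = true := by decide +kernel
theorem r494 : allRange chk 22 17290 35 = true := by decide +kernel
theorem r495 : allRange chk 22 17325 35 = true := by decide +kernel
theorem r496 : allRange chk 22 17360 35 = true := by decide +kernel
theorem r497 : allRange chk 22 17395 35 = true := by decide +kernel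
theorem r498 : allRange chk 22 17430 35 = true := by decide +kernel
theorem r499 : allRange chk 22 17465 35 = true := by decide +kernel
theorem r500 : allRange chk 22 17500 35 = true := by decide +kernel
theorem r501 : allRange chk 22 17535 35 = true := by decide +kernel
theorem r502 : allRange chk 22 17570 35 = true := by decide +kernel
theorem r503 : allRange chk 22 17605 35 = true := by decide +kernel
theorem r504 : allRange chk 22 17640 35 = true := by decide +kernel
theorem r505 : allRange chk 22 17675 35 = true := by decide +kernel
theorem r506 : allRange chk 22 17710 35 = true := by decide +kernel
theorem r507 : allRange chk 22 17745 35 = true := by decide +kernel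
theorem r508 : allRange chk 22 17780 35 = true := by decide +kernel
theorem r509 : allRange chk 22 17815 35 = true := by decide +kernel
theorem r510 : allRange chk 22 17850 35 = true := by decide +kernel
theorem r511 : allRange chk 22 17885 35 = true := by decide +kernel
theorem r512 : allRange chk 22 17920 35 = true := by decide +kernel
theorem r513 : allRange chk 22 17955 35 = true := by decide +kernel
theorem r514 : allRange chk 22 17990 35 = true := by decide +kernel
theorem r515 : allRange chk 22 18025 35 = true := by decide +kernel
theorem r516 : allRange chk 22 18060 35 = true := by decide +kernel
theorem r517 : allRange chk 22 18095 35 = true := by decide +kernel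
theorem r518 : allRange chk 22 18130 35 = true := by decide +kernel
theorem r519 : allRange chk 22 18165 35 = true := by decide +kernel
theorem r520 : allRange chk 22 18200 35 = true := by decide +kernel
theorem r521 : allRange chk 22 18235 35 = true := by decide +kernel
theorem r522 : allRange chk 22 18270 35 = true := by decide +kernel
theorem r523 : allRange chk 22 18305 35 = true := by decide +kernel
theorem r524 : allRange chk 22 18340 35 = true := by decide +kernel
theorem r525 : allRange chk 22 18375 35 = true := by decide +kernel
theorem r526 : allRange chk 22 18410 35 = true := by decide +kernel
theorem r527 : allRange chk 22 18445 35 = true := by decide +kernel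
theorem r528 : allRange chk 22 18480 35 = true := by decide +kernel
theorem r529 : allRange chk 22 18515 35 = true := by decide +kernel
theorem r530 : allRange chk 22 18550 35 = true := by decide +kernel
theorem r531 : allRange chk 22 18585 35 = true := by decide +kernel
theorem r532 : allRange chk 22 18620 35 = true := by decide +kernel
theorem r533 : allRange chk 22 18655 35 = true := by decide +kernel
theorem r534 : allRange chk 22 18690 35 = true := by decide +kernel
theorem r535 : allRange chk 22 18725 35 = true := by decide +kernel
theorem r536 : allRange chk 22 18760 35 = true := by decide +kernel
theorem r537 : allRange chk 22 18795 35 = true := by decide +kernel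
theorem r538 : allRange chk 22 18830 35 = true := by decide +kernel
theorem r539 : allRange chk 22 18865 35 = true := by decide +kernel
theorem r540 : allRange chk 22 18900 35 = true := by decide +kernel
theorem r541 : allRange chk 22 18935 35 = true := by decide +kernel
theorem r542 : allRange chk 22 18970 35 = true := by decide +kernel
theorem r543 : allRange chk 22 19005 35 = true := by decide +kernel
theorem r544 : allRange chk 22 19040 35 = true := by decide +kernel
theorem r545 : allRange chk 22 19075 35 = true := by decide +kernel
theorem r546 : allRange chk 22 19110 35 = true := by decide +kernel
theorem r547 : allRange chk 22 19145 35 = true := by decide +kernel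
theorem r548 : allRange chk 22 19180 35 = true := by decide +kernel
theorem r549 : allRange chk 22 19215 35 = true := by decide +kernel
theorem r550 : allRange chk 22 19250 35 = true := by decide +kernel
theorem r551 : allRange chk 22 19285 35 = true := by decide +kernel
theorem r552 : allRange chk 22 19320 35 = true := by decide +kernel
theorem r553 : allRange chk 22 19355 35 = true := by decide +kernel
theorem r554 : allRange chk 22 19390 35 = true := by decide +kernel
theorem r555 : allRange chk 22 19425 35 = true := by decide +kernel
theorem r556 : allRange chk 22 19460 35 = true := by decide +kernel
theorem r557 : allRange chk 22 19495 35 = true := by decide +kernel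
theorem r558 : allRange chk 22 19530 35 = true := by decide +kernel
theorem r559 : allRange chk 22 19565 35 = true := by decide +kernel
theorem r560 : allRange chk 22 19600 35 = true := by decide +kernel
theorem r561 : allRange chk 22 19635 35 = true := by decide +kernel
theorem r562 : allRange chk 22 19670 35 = true := by decide +kernel
theorem r563 : allRange chk 22 19705 35 = true := by decide +kernel
theorem r564 : allRange chk 22 19740 35 = true := by decide +kernel
theorem r565 : allRange chk 22 19775 35 = true := by decide +kernel
theorem r566 : allRange chk 22 19810 35 = true := by decide +kernel
theorem r567 : allRange chk 22 19845 35 = true := by decide +kernel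
theorem r568 : allRange chk 22 19880 35 = true := by decide +kernel
theorem r569 : allRange chk 22 19915 35 = true := by decide +kernel
theorem r570 : allRange chk 22 19950 35 = true := by decide +kernel
theorem r571 : allRange chk 22 19985 35 = true := by decide +kernel
theorem r572 : allRange chk 22 20020 35 = true := by decide +kernel
theorem r573 : allRange chk 22 20055 35 = true := by decide +kernel
theorem r574 : allRange chk 22 20090 35 = true := by decide +kernel
theorem r575 : allRange chk 22 20125 35 = true := by decide +kernel
theorem r576 : allRange chk 22 20160 35 = true := by decide +kernel
theorem r577 : allRange chk 22 20195 35 = true := by decide +kernel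
theorem r578 : allRange chk 22 20230 35 = true := by decide +kernel
theorem r579 : allRange chk 22 20265 35 = true := by decide +kernel
theorem r580 : allRange chk 22 20300 35 = true := by decide +kernel
theorem r581 : allRange chk 22 20335 35 = true := by decide +kernel
theorem r582 : allRange chk 22 20370 35 = true := by decide +kernel
theorem r583 : allRange chk 22 20405 35 = true := by decide +kernel
theorem r584 : allRange chk 22 20440 35 = true := by decide +kernel
theorem r585 : allRange chk 22 20475 35 = true := by decide +kernel
theorem r586 : allRange chk 22 20510 35 = true := by decide +kernel
theorem r587 : allRange chk 22 20545 35 = true := by decide +kernel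
theorem r588 : allRange chk 22 20580 35 = true := by decide +kernel
theorem r589 : allRange chk 22 20615 35 = true := by decide +kernel
theorem r590 : allRange chk 22 20650 35 = true := by decide +kernel
theorem r591 : allRange chk 22 20685 35 = true := by decide +kernel
theorem r592 : allRange chk 22 20720 35 = true := by decide +kernel
theorem r593 : allRange chk 22 20755 35 = true := by decide +kernel
theorem r594 : allRange chk 22 20790 35 = true := by decide +kernel
theorem r595 : allRange chk 22 20825 35 = true := by decide +kernel
theorem r596 : allRange chk 22 20860 35 = true := by decide +kernel
theorem r597 : allRange chk 22 20895 35 = true := by decide +kernel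
theorem r598 : allRange chk 22 20930 35 = true := by decide +kernel
theorem r599 : allRange chk 22 20965 35 = true := by decide +kernel
theorem r600 : allRange chk 22 21000 35 = true := by decide +kernel
theorem r601 : allRange chk 22 21035 35 = true := by decide +kernel
theorem r602 : allRange chk 22 21070 35 = true := by decide +kernel
theorem r603 : allRange chk 22 21105 35 = true := by decide +kernel
theorem r604 : allRange chk 22 21140 35 = true := by decide +kernel
theorem r605 : allRange chk 22 21175 35 = true := by decide +kernel
theorem r606 : allRange chk 22 21210 35 = true := by decide +kernel
theorem r607 : allRange chk 22 21245 35 = true := by decide +kernel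
theorem r608 : allRange chk 22 21280 35 = true := by decide +kernel
theorem r609 : allRange chk 22 21315 35 = true := by decide +kernel
theorem r610 : allRange chk 22 21350 35 = true := by decide +kernel
theorem r611 : allRange chk 22 21385 35 = true := by decide +kernel
theorem r612 : allRange chk 22 21420 35 = true := by decide +kernel
theorem r613 : allRange chk 22 21455 35 = true := by decide +kernel
theorem r614 : allRange chk 22 21490 35 = true := by decide +kernel
theorem r615 : allRange chk 22 21525 35 = true := by decide +kernel
theorem r616 : allRange chk 22 21560 35 = true := by decide +kernel
theorem r617 : allRange chk 22 21595 35 = true := by decide +kernel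
theorem r618 : allRange chk 22 21630 35 = true := by decide +kernel
theorem r619 : allRange chk 22 21665 35 = true := by decide +kernel
theorem r620 : allRange chk 22 21700 35 = true := by decide +kernel
theorem r621 : allRange chk 22 21735 35 = true := by decide +kernel
theorem r622 : allRange chk 22 21770 35 = true := by decide +kernel
theorem r623 : allRange chk 22 21805 35 = true := by decide +kernel
theorem r624 : allRange chk 22 21840 35 = true := by decide +kernel
theorem r625 : allRange chk 22 21875 35 = true := by decide +kernel
theorem r626 : allRange chk 22 21910 35 = true := by decide +kernel
theorem r627 : allRange chk 22 21945 35 = true := by decide +kernel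
theorem r628 : allRange chk 22 21980 35 = true := by decide +kernel
theorem r629 : allRange chk 22 22015 35 = true := by decide +kernel
theorem r630 : allRange chk 22 22050 35 = true := by decide +kernel
theorem r631 : allRange chk 22 22085 35 = true := by decide +kernel
theorem r632 : allRange chk 22 22120 35 = true := by decide +kernel
theorem r633 : allRange chk 22 22155 35 = true := by decide +kernel
theorem r634 : allRange chk 22 22190 35 = true := by decide +kernel
theorem r635 : allRange chk 22 22225 35 = true := by decide +kernel
theorem r636 : allRange chk 22 22260 35 = true := by decide +kernel
theorem r637 : allRange chk 22 22295 35 = true := by decide +kernel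
theorem r638 : allRange chk 22 22330 35 = true := by decide +kernel
theorem r639 : allRange chk 22 22365 35 = true := by decide +kernel
theorem r640 : allRange chk 22 22400 35 = true := by decide +kernel
theorem r641 : allRange chk 22 22435 35 = true := by decide +kernel
theorem r642 : allRange chk 22 22470 35 = true := by decide +kernel
theorem r643 : allRange chk 22 22505 35 = true := by decide +kernel
theorem r644 : allRange chk 22 22540 35 = true := by decide +kernel
theorem r645 : allRange chk 22 22575 35 = true := by decide +kernel
theorem r646 : allRange chk 22 22610 35 = true := by decide +kernel
theorem r647 : allRange chk 22 22645 35 = true := by decide +kernel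
theorem r648 : allRange chk 22 22680 35 = true := by decide +kernel
theorem r649 : allRange chk 22 22715 35 = true := by decide +kernel
theorem r650 : allRange chk 22 22750 35 = true := by decide +kernel
theorem r651 : allRange chk 22 22785 35 = true := by decide +kernel
theorem r652 : allRange chk 22 22820 35 = true := by decide +kernel
theorem r653 : allRange chk 22 22855 35 = true := by decide +kernel
theorem r654 : allRange chk 22 22890 35 = true := by decide +kernel
theorem r655 : allRange chk 22 22925 35 = true := by decide +kernel
theorem r656 : allRange chk 22 22960 35 = true := by decide +kernel
theorem r657 : allRange chk 22 22995 35 = true := by decide +kernel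
theorem r658 : allRange chk 22 23030 35 = true := by decide +kernel
theorem r659 : allRange chk 22 23065 35 = true := by decide +kernel
theorem r660 : allRange chk 22 23100 35 = true := by decide +kernel
theorem r661 : allRange chk 22 23135 35 = true := by decide +kernel
theorem r662 : allRange chk 22 23170 35 = true := by decide +kernel
theorem r663 : allRange chk 22 23205 35 = true := by decide +kernel
theorem r664 : allRange chk 22 23240 35 = true := by decide +kernel
theorem r665 : allRange chk 22 23275 35 = true := by decide +kernel
theorem r666 : allRange chk 22 23310 35 = true := by decide +kernel
theorem r667 : allRange chk 22 23345 35 = true := by decide +kernel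
theorem r668 : allRange chk 22 23380 35 = true := by decide +kernel
theorem r669 : allRange chk 22 23415 35 = true := by decide +kernel
theorem r670 : allRange chk 22 23450 35 = true := by decide +kernel
theorem r671 : allRange chk 22 23485 35 = true := by decide +kernel
theorem r672 : allRange chk 22 23520 35 = true := by decide +kernel
theorem r673 : allRange chk 22 23555 35 = true := by decide +kernel
theorem r674 : allRange chk 22 23590 35 = true := by decide +kernel
theorem r675 : allRange chk 22 23625 35 = true := by decide +kernel
theorem r676 : allRange chk 22 23660 35 = true := by decide +kernel
theorem r677 : allRange chk 22 23695 35 = true := by decide +kernel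
theorem r678 : allRange chk 22 23730 35 = true := by decide +kernel
theorem r679 : allRange chk 22 23765 35 = true := by decide +kernel
theorem r680 : allRange chk 22 23800 35 = true := by decide +kernel
theorem r681 : allRange chk 22 23835 35 = true := by decide +kernel
theorem r682 : allRange chk 22 23870 35 = true := by decide +kernel
theorem r683 : allRange chk 22 23905 35 = true := by decide +kernel
theorem r684 : allRange chk 22 23940 35 = true := by decide +kernel
theorem r685 : allRange chk 22 23975 35 = true := by decide +kernel
theorem r686 : allRange chk 22 24010 35 = true := by decide +kernel
theorem r687 : allRange chk 22 24045 35 = true := by decide +kernel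
theorem r688 : allRange chk 22 24080 35 = true := by decide +kernel
theorem r689 : allRange chk 22 24115 35 = true := by decide +kernel
theorem r690 : allRange chk 22 24150 35 = true := by decide +kernel
theorem r691 : allRange chk 22 24185 35 = true := by decide +kernel
theorem r692 : allRange chk 22 24220 35 = true := by decide +kernel
theorem r693 : allRange chk 22 24255 35 = true := by decide +kernel
theorem r694 : allRange chk 22 24290 35 = true := by decide +kernel
theorem r695 : allRange chk 22 24325 35 = true := by decide +kernel
theorem r696 : allRange chk 22 24360 35 = true := by decide +kernel
theorem r697 : allRange chk 22 24395 35 = true := by decide +kernel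
theorem r698 : allRange chk 22 24430 35 = true := by decide +kernel
theorem r699 : allRange chk 22 24465 35 = true := by decide +kernel
theorem r700 : allRange chk 22 24500 35 = true := by decide +kernel
theorem r701 : allRange chk 22 24535 35 = true := by decide +kernel
theorem r702 : allRange chk 22 24570 35 = true := by decide +kernel
theorem r703 : allRange chk 22 24605 35 = true := by decide +kernel
theorem r704 : allRange chk 22 24640 35 = true := by decide +kernel
theorem r705 : allRange chk 22 24675 35 = true := by decide +kernel
theorem r706 : allRange chk 22 24710 35 = true := by decide +kernel
theorem r707 : allRange chk 22 24745 35 = true := by decide +kernel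
theorem r708 : allRange chk 22 24780 35 = true := by decide +kernel
theorem r709 : allRange chk 22 24815 35 = true := by decide +kernel
theorem r710 : allRange chk 22 24850 35 = true := by decide +kernel
theorem r711 : allRange chk 22 24885 35 = true := by decide +kernel
theorem r712 : allRange chk 22 24920 35 = true := by decide +kernel
theorem r713 : allRange chk 22 24955 35 = true := by decide +kernel
theorem r714 : allRange chk 22 24990 35 = true := by decide +kernel
theorem r715 : allRange chk 22 25025 35 = true := by decide +kernel
theorem r716 : allRange chk 22 25060 35 = true := by decide +kernel
theorem r717 : allRange chk 22 25095 35 = true := by decide +kernel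
theorem r718 : allRange chk 22 25130 35 = true := by decide +kernel
theorem r719 : allRange chk 22 25165 35 = true := by decide +kernel
theorem r720 : allRange chk 22 25200 35 = true := by decide +kernel
theorem r721 : allRange chk 22 25235 35 = true := by decide +kernel
theorem r722 : allRange chk 22 25270 35 = true := by decide +kernel
theorem r723 : allRange chk 22 25305 35 = true := by decide +kernel
theorem r724 : allRange chk 22 25340 35 = true := by decide +kernel
theorem r725 : allRange chk 22 25375 35 = true := by decide +kernel
theorem r726 : allRange chk 22 25410 35 = true := by decide +kernel
theorem r727 : allRange chk 22 25445 35 = true := by decide +kernel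
theorem r728 : allRange chk 22 25480 35 = true := by decide +kernel
theorem r729 : allRange chk 22 25515 35 = true := by decide +kernel
theorem r730 : allRange chk 22 25550 35 = true := by decide +kernel
theorem r731 : allRange chk 22 25585 35 = true := by decide +kernel
theorem r732 : allRange chk 22 25620 35 = true := by decide +kernel
theorem r733 : allRange chk 22 25655 35 = true := by decide +kernel
theorem r734 : allRange chk 22 25690 35 = true := by decide +kernel
theorem r735 : allRange chk 22 25725 35 = true := by decide +kernel
theorem r736 : allRange chk 22 25760 35 = true := by decide +kernel
theorem r737 : allRange chk 22 25795 35 = true := by decide +kernel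
theorem r738 : allRange chk 22 25830 35 = true := by decide +kernel
theorem r739 : allRange chk 22 25865 35 = true := by decide +kernel
theorem r740 : allRange chk 22 25900 35 = true := by decide +kernel
theorem r741 : allRange chk 22 25935 35 = true := by decide +kernel
theorem r742 : allRange chk 22 25970 35 = true := by decide +kernel
theorem r743 : allRange chk 22 26005 35 = true := by decide +kernel
theorem r744 : allRange chk 22 26040 35 = true := by decide +kernel
theorem r745 : allRange chk 22 26075 35 = true := by decide +kernel
theorem r746 : allRange chk 22 26110 35 = true := by decide +kernel
theorem r747 : allRange chk 22 26145 35 = true := by decide +kernel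
theorem r748 : allRange chk 22 26180 35 = true := by decide +kernel
theorem r749 : allRange chk 22 26215 35 = true := by decide +kernel
theorem r750 : allRange chk 22 26250 35 = true := by decide +kernel
theorem r751 : allRange chk 22 26285 35 = true := by decide +kernel
theorem r752 : allRange chk 22 26320 35 = true := by decide +kernel
theorem r753 : allRange chk 22 26355 35 = true := by decide +kernel
theorem r754 : allRange chk 22 26390 35 = true := by decide +kernel
theorem r755 : allRange chk 22 26425 35 = true := by decide +kernel
theorem r756 : allRange chk 22 26460 35 = true := by decide +kernel
theorem r757 : allRange chk 22 26495 35 = true := by decide +kernel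
theorem r758 : allRange chk 22 26530 35 = true := by decide +kernel
theorem r759 : allRange chk 22 26565 35 = true := by decide +kernel
theorem r760 : allRange chk 22 26600 35 = true := by decide +kernel
theorem r761 : allRange chk 22 26635 35 = true := by decide +kernel
theorem r762 : allRange chk 22 26670 35 = true := by decide +kernel
theorem r763 : allRange chk 22 26705 35 = true := by decide +kernel
theorem r764 : allRange chk 22 26740 35 = true := by decide +kernel
theorem r765 : allRange chk 22 26775 35 = true := by decide +kernel
theorem r766 : allRange chk 22 26810 35 = true := by decide +kernel
theorem r767 : allRange chk 22 26845 35 = true := by decide +kernel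
theorem r768 : allRange chk 22 26880 35 = true := by decide +kernel
theorem r769 : allRange chk 22 26915 35 = true := by decide +kernel
theorem r770 : allRange chk 22 26950 35 = true := by decide +kernel
theorem r771 : allRange chk 22 26985 35 = true := by decide +kernel
theorem r772 : allRange chk 22 27020 35 = true := by decide +kernel
theorem r773 : allRange chk 22 27055 35 = true := by decide +kernel
theorem r774 : allRange chk 22 27090 35 = true := by decide +kernel
theorem r775 : allRange chk 22 27125 35 = true := by decide +kernel
theorem r776 : allRange chk 22 27160 35 = true := by decide +kernel
theorem r777 : allRange chk 22 27195 35 = true := by decide +kernel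
theorem r778 : allRange chk 22 27230 35 = true := by decide +kernel
theorem r779 : allRange chk 22 27265 35 = true := by decide +kernel
theorem r780 : allRange chk 22 27300 35 = true := by decide +kernel
theorem r781 : allRange chk 22 27335 35 = true := by decide +kernel
theorem r782 : allRange chk 22 27370 35 = true := by decide +kernel
theorem r783 : allRange chk 22 27405 35 = true := by decide +kernel
theorem r784 : allRange chk 22 27440 35 = true := by decide +kernel
theorem r785 : allRange chk 22 27475 35 = true := by decide +kernel
theorem r786 : allRange chk 22 27510 35 = true := by decide +kernel
theorem r787 : allRange chk 22 27545 35 = true := by decide +kernel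
theorem r788 : allRange chk 22 27580 35 = true := by decide +kernel
theorem r789 : allRange chk 22 27615 35 = true := by decide +kernel
theorem r790 : allRange chk 22 27650 35 = true := by decide +kernel
theorem r791 : allRange chk 22 27685 35 = true := by decide +kernel
theorem r792 : allRange chk 22 27720 35 = true := by decide +kernel
theorem r793 : allRange chk 22 27755 35 = true := by decide +kernel
theorem r794 : allRange chk 22 27790 35 = true := by decide +kernel
theorem r795 : allRange chk 22 27825 35 = true := by decide +kernel
theorem r796 : allRange chk 22 27860 35 = true := by decide +kernel
theorem r797 : allRange chk 22 27895 35 = true := by decide +kernel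
theorem r798 : allRange chk 22 27930 35 = true := by decide +kernel
theorem r799 : allRange chk 22 27965 35 = true := by decide +kernel
theorem r800 : allRange chk 22 28000 35 = true := by decide +kernel
theorem r801 : allRange chk 22 28035 35 = true := by decide +kernel
theorem r802 : allRange chk 22 28070 35 = true := by decide +kernel
theorem r803 : allRange chk 22 28105 35 = true := by decide +kernel
theorem r804 : allRange chk 22 28140 35 = true := by decide +kernel
theorem r805 : allRange chk 22 28175 35 = true := by decide +kernel
theorem r806 : allRange chk 22 28210 35 = true := by decide +kernel
theorem r807 : allRange chk 22 28245 35 = true := by decide +kernel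
theorem r808 : allRange chk 22 28280 35 = true := by decide +kernel
theorem r809 : allRange chk 22 28315 35 = true := by decide +kernel
theorem r810 : allRange chk 22 28350 35 = true := by decide +kernel
theorem r811 : allRange chk 22 28385 35 = true := by decide +kernel
theorem r812 : allRange chk 22 28420 35 = true := by decide +kernel
theorem r813 : allRange chk 22 28455 35 = true := by decide +kernel
theorem r814 : allRange chk 22 28490 35 = true := by decide +kernel
theorem r815 : allRange chk 22 28525 35 = true := by decide +kernel
theorem r816 : allRange chk 22 28560 35 = true := by decide +kernel
theorem r817 : allRange chk 22 28595 35 = true := by decide +kernel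
theorem r818 : allRange chk 22 28630 35 = true := by decide +kernel
theorem r819 : allRange chk 22 28665 35 = true := by decide +kernel
theorem r820 : allRange chk 22 28700 35 = true := by decide +kernel
theorem r821 : allRange chk 22 28735 35 = true := by decide +kernel
theorem r822 : allRange chk 22 28770 35 = true := by decide +kernel
theorem r823 : allRange chk 22 28805 35 = true := by decide +kernel
theorem r824 : allRange chk 22 28840 35 = true := by decide +kernel
theorem r825 : allRange chk 22 28875 35 = true := by decide +kernel
theorem r826 : allRange chk 22 28910 35 = true := by decide +kernel
theorem r827 : allRange chk 22 28945 35 = true := by decide +kernel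
theorem r828 : allRange chk 22 28980 35 = true := by decide +kernel
theorem r829 : allRange chk 22 29015 35 = true := by decide +kernel
theorem r830 : allRange chk 22 29050 35 = true := by decide +kernel
theorem r831 : allRange chk 22 29085 35 = true := by decide +kernel
theorem r832 : allRange chk 22 29120 35 = true := by decide +kernel
theorem r833 : allRange chk 22 29155 35 = true := by decide +kernel
theorem r834 : allRange chk 22 29190 35 = true := by decide +kernel
theorem r835 : allRange chk 22 29225 35 = true := by decide +kernel
theorem r836 : allRange chk 22 29260 35 = true := by decide +kernel
theorem r837 : allRange chk 22 29295 35 = true := by decide +kernel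
theorem r838 : allRange chk 22 29330 35 = true := by decide +kernel
theorem r839 : allRange chk 22 29365 35 = true := by decide +kernel
theorem r840 : allRange chk 22 29400 35 = true := by decide +kernel
theorem r841 : allRange chk 22 29435 35 = true := by decide +kernel
theorem r842 : allRange chk 22 29470 35 = true := by decide +kernel
theorem r843 : allRange chk 22 29505 35 = true := by decide +kernel
theorem r844 : allRange chk 22 29540 35 = true := by decide +kernel
theorem r845 : allRange chk 22 29575 35 = true := by decide +kernel
theorem r846 : allRange chk 22 29610 35 = true := by decide +kernel
theorem r847 : allRange chk 22 29645 35 = true := by decide +kernel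
theorem r848 : allRange chk 22 29680 35 = true := by decide +kernel
theorem r849 : allRange chk 22 29715 35 = true := by decide +kernel
theorem r850 : allRange chk 22 29750 35 = true := by decide +kernel
theorem r851 : allRange chk 22 29785 35 = true := by decide +kernel
theorem r852 : allRange chk 22 29820 35 = true := by decide +kernel
theorem r853 : allRange chk 22 29855 35 = true := by decide +kernel
theorem r854 : allRange chk 22 29890 35 = true := by decide +kernel
theorem r855 : allRange chk 22 29925 35 = true := by decide +kernel
theorem r856 : allRange chk 22 29960 35 = true := by decide +kernel
theorem r857 : allRange chk 22 29995 35 = true := by decide +kernel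
theorem r858 : allRange chk 22 30030 35 = true := by decide +kernel
theorem r859 : allRange chk 22 30065 35 = true := by decide +kernel
theorem r860 : allRange chk 22 30100 35 = true := by decide +kernel
theorem r861 : allRange chk 22 30135 35 = true := by decide +kernel
theorem r862 : allRange chk 22 30170 35 = true := by decide +kernel
theorem r863 : allRange chk 22 30205 35 = true := by decide +kernel
theorem r864 : allRange chk 22 30240 35 = true := by decide +kernel
theorem r865 : allRange chk 22 30275 35 = true := by decide +kernel
theorem r866 : allRange chk 22 30310 35 = true := by decide +kernel
theorem r867 : allRange chk 22 30345 35 = true := by decide +kernel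
theorem r868 : allRange chk 22 30380 35 = true := by decide +kernel
theorem r869 : allRange chk 22 30415 35 = true := by decide +kernel
theorem r870 : allRange chk 22 30450 35 = true := by decide +kernel
theorem r871 : allRange chk 22 30485 35 = true := by decide +kernel
theorem r872 : allRange chk 22 30520 35 = true := by decide +kernel
theorem r873 : allRange chk 22 30555 35 = true := by decide +kernel
theorem r874 : allRange chk 22 30590 35 = true := by decide +kernel
theorem r875 : allRange chk 22 30625 35 = true := by decide +kernel
theorem r876 : allRange chk 22 30660 35 = true := by decide +kernel

end Cfsg.Agent.Lib.Helper28_ONLB0
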