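import Cfsg.Agent.Lib.Helper28_S1692P4  -- build-order chain (limits parallel memory use)
import Cfsg.Agent.Lib.Helper28_S1692Def

set_option autoImplicit false
set_option linter.constructorNameAsVariable false
set_option Elab.async false

namespace Cfsg.Agent.Lib.Helper28_S1692

open Cfsg.Agent.Lib.Helper28_CosetPerm

theorem o0r0 : allRange orbOk 22 0 59 = true := by decide +kernel
theorem o0u0 : ∀ k, 0 ≤ k → k < 59 → orbOk (k * 22) = true := between_extend orbOk 22 0 0 59 (between_start orbOk 22 0) o0r0

theorem o0r1 : allRange orbOk 22 59 59 = true := by decide +kernel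
theorem o0u1 : ∀ k, 0 ≤ k → k < 118 → orbOk (k * 22) = true := between_extend orbOk 22 0 59 59 (o0u0) o0r1

theorem o0r2 : allRange orbOk 22 118 59 = true := by decide +kernel
theorem o0u2 : ∀ k, 0 ≤ k → k < 177 → orbOk (k * 22) = true := between_extend orbOk 22 0 118 59 (o0u1) o0r2

theorem o0r3 : allRange orbOk 22 177 59 = true := by decide +kernel
theorem o0u3 : ∀ k, 0 ≤ k → k < 236 → orbOk (k * 22) = true := between_extend orbOk 22 0 177 59 (o0u2) o0r3

theorem o0r4 : allRange orbOk 22 236 59 = true := by decide +kernel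
theorem o0u4 : ∀ k, 0 ≤ k → k < 295 → orbOk (k * 22) = true := between_extend orbOk 22 0 236 59 (o0u3) o0r4

theorem o0r5 : allRange orbOk 22 295 59 = true := by decide +kernel
theorem o0u5 : ∀ k, 0 ≤ k → k < 354 → orbOk (k * 22) = true := between_extend orbOk 22 0 295 59 (o0u4) o0r5

theorem o0r6 : allRange orbOk 22 354 59 = true := by decide +kernel
theorem o0u6 : ∀ k, 0 ≤ k → k < 413 → orbOk (k * 22) = true := between_extend orbOk 22 0 354 59 (o0u5) o0r6

theorem o0r7 : allRange orbOk 22 413 59 = true := by decide +kernel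
theorem o0u7 : ∀ k, 0 ≤ k → k < 472 → orbOk (k * 22) = true := between_extend orbOk 22 0 413 59 (o0u6) o0r7

theorem o0r8 : allRange orbOk 22 472 59 = true := by decide +kernel
theorem o0u8 : ∀ k, 0 ≤ k → k < 531 → orbOk (k * 22) = true := between_extend orbOk 22 0 472 59 (o0u7) o0r8

theorem o0r9 : allRange orbOk 22 531 59 = true := by decide +kernel
theorem o0u9 : ∀ k, 0 ≤ k → k < 590 → orbOk (k * 22) = true := between_extend orbOk 22 0 531 59 (o0u8) o0r9

theorem o0r10 : allRange orbOk 22 590 59 = true := by decide +kernel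
theorem o0u10 : ∀ k, 0 ≤ k → k < 649 → orbOk (k * 22) = true := between_extend orbOk 22 0 590 59 (o0u9) o0r10

theorem o0r11 : allRange orbOk 22 649 59 = true := by decide +kernel
theorem o0u11 : ∀ k, 0 ≤ k → k < 708 → orbOk (k * 22) = true := between_extend orbOk 22 0 649 59 (o0u10) o0r11

theorem o0r12 : allRange orbOk 22 708 59 = true := by decide +kernel
theorem o0u12 : ∀ k, 0 ≤ k → k < 767 → orbOk (k * 22) = true := between_extend orbOk 22 0 708 59 (o0u11) o0r12

theorem o0r13 : allRange orbOk 22 767 59 = true := by decide +kernel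
theorem o0u13 : ∀ k, 0 ≤ k → k < 826 → orbOk (k * 22) = true := between_extend orbOk 22 0 767 59 (o0u12) o0r13

theorem o0r14 : allRange orbOk 22 826 59 = true := by decide +kernel
theorem o0u14 : ∀ k, 0 ≤ k → k < 885 → orbOk (k * 22) = true := between_extend orbOk 22 0 826 59 (o0u13) o0r14

theorem o0r15 : allRange orbOk 22 885 59 = true := by decide +kernel
theorem o0u15 : ∀ k, 0 ≤ k → k < 944 → orbOk (k * 22) = true := between_extend orbOk 22 0 885 59 (o0u14) o0r15

theorem o0r16 : allRange orbOk 22 944 59 = true := by decide +kernel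
theorem o0u16 : ∀ k, 0 ≤ k → k < 1003 → orbOk (k * 22) = true := between_extend orbOk 22 0 944 59 (o0u15) o0r16

theorem o0r17 : allRange orbOk 22 1003 59 = true := by decide +kernel
theorem o0u17 : ∀ k, 0 ≤ k → k < 1062 → orbOk (k * 22) = true := between_extend orbOk 22 0 1003 59 (o0u16) o0r17

theorem o0r18 : allRange orbOk 22 1062 59 = true := by decide +kernel
theorem o0u18 : ∀ k, 0 ≤ k → k < 1121 → orbOk (k * 22) = true := between_extend orbOk 22 0 1062 59 (o0u17) o0r18

theorem o0r19 : allRange orbOk 22 1121 59 = true := by decide +kernel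
theorem o0u19 : ∀ k, 0 ≤ k → k < 1180 → orbOk (k * 22) = true := between_extend orbOk 22 0 1121 59 (o0u18) o0r19

theorem o0r20 : allRange orbOk 22 1180 59 = true := by decide +kernel
theorem o0u20 : ∀ k, 0 ≤ k → k < 1239 → orbOk (k * 22) = true := between_extend orbOk 22 0 1180 59 (o0u19) o0r20

theorem o0r21 : allRange orbOk 22 1239 59 = true := by decide +kernel
theorem o0u21 : ∀ k, 0 ≤ k → k < 1298 → orbOk (k * 22) = true := between_extend orbOk 22 0 1239 59 (o0u20) o0r21

theorem o0r22 : allRange orbOk 22 1298 59 = true := by decide +kernel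
theorem o0u22 : ∀ k, 0 ≤ k → k < 1357 → orbOk (k * 22) = true := between_extend orbOk 22 0 1298 59 (o0u21) o0r22

theorem o0r23 : allRange orbOk 22 1357 59 = true := by decide +kernel
theorem o0u23 : ∀ k, 0 ≤ k → k < 1416 → orbOk (k * 22) = true := between_extend orbOk 22 0 1357 59 (o0u22) o0r23

theorem o0r24 : allRange orbOk 22 1416 59 = true := by decide +kernel
theorem o0u24 : ∀ k, 0 ≤ k → k < 1475 → orbOk (k * 22) = true := between_extend orbOk 22 0 1416 59 (o0u23) o0r24

theorem o0r25 : allRange orbOk 22 1475 59 = true := by decide +kernel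
theorem o0u25 : ∀ k, 0 ≤ k → k < 1534 → orbOk (k * 22) = true := between_extend orbOk 22 0 1475 59 (o0u24) o0r25

theorem o0r26 : allRange orbOk 22 1534 59 = true := by decide +kernel
theorem o0u26 : ∀ k, 0 ≤ k → k < 1593 → orbOk (k * 22) = true := between_extend orbOk 22 0 1534 59 (o0u25) o0r26

theorem o0r27 : allRange orbOk 22 1593 59 = true := by decide +kernel
theorem o0u27 : ∀ k, 0 ≤ k → k < 1652 → orbOk (k * 22) = true := between_extend orbOk 22 0 1593 59 (o0u26) o0r27

theorem o0r28 : allRange orbOk 22 1652 59 = true := by decide +kernel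
theorem o0u28 : ∀ k, 0 ≤ k → k < 1711 → orbOk (k * 22) = true := between_extend orbOk 22 0 1652 59 (o0u27) o0r28

theorem o0r29 : allRange orbOk 22 1711 59 = true := by decide +kernel
theorem o0u29 : ∀ k, 0 ≤ k → k < 1770 → orbOk (k * 22) = true := between_extend orbOk 22 0 1711 59 (o0u28) o0r29

theorem o0r30 : allRange orbOk 22 1770 59 = true := by decide +kernel
theorem o0u30 : ∀ k, 0 ≤ k → k < 1829 → orbOk (k * 22) = true := between_extend orbOk 22 0 1770 59 (o0u29) o0r30

theorem o0r31 : allRange orbOk 22 1829 59 = true := by decide +kernel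
theorem o0u31 : ∀ k, 0 ≤ k → k < 1888 → orbOk (k * 22) = true := between_extend orbOk 22 0 1829 59 (o0u30) o0r31

theorem o0r32 : allRange orbOk 22 1888 59 = true := by decide +kernel
theorem o0u32 : ∀ k, 0 ≤ k → k < 1947 → orbOk (k * 22) = true := between_extend orbOk 22 0 1888 59 (o0u31) o0r32

theorem o0r33 : allRange orbOk 22 1947 59 = true := by decide +kernel
theorem o0u33 : ∀ k, 0 ≤ k → k < 2006 → orbOk (k * 22) = true := between_extend orbOk 22 0 1947 59 (o0u32) o0r33

theorem o0r34 : allRange orbOk 22 2006 59 = true := by decide +kernel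
theorem o0u34 : ∀ k, 0 ≤ k → k < 2065 → orbOk (k * 22) = true := between_extend orbOk 22 0 2006 59 (o0u33) o0r34

theorem o0r35 : allRange orbOk 22 2065 59 = true := by decide +kernel
theorem o0u35 : ∀ k, 0 ≤ k → k < 2124 → orbOk (k * 22) = true := between_extend orbOk 22 0 2065 59 (o0u34) o0r35

theorem o0r36 : allRange orbOk 22 2124 59 = true := by decide +kernel
theorem o0u36 : ∀ k, 0 ≤ k → k < 2183 → orbOk (k * 22) = true := between_extend orbOk 22 0 2124 59 (o0u35) o0r36

theorem o0r37 : allRange orbOk 22 2183 59 = true := by decide +kernel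
theorem o0u37 : ∀ k, 0 ≤ k → k < 2242 → orbOk (k * 22) = true := between_extend orbOk 22 0 2183 59 (o0u36) o0r37

theorem o0r38 : allRange orbOk 22 2242 59 = true := by decide +kernel
theorem o0u38 : ∀ k, 0 ≤ k → k < 2301 → orbOk (k * 22) = true := between_extend orbOk 22 0 2242 59 (o0u37) o0r38

theorem o0r39 : allRange orbOk 22 2301 59 = true := by decide +kernel
theorem o0u39 : ∀ k, 0 ≤ k → k < 2360 → orbOk (k * 22) = true := between_extend orbOk 22 0 2301 59 (o0u38) o0r39

theorem o0r40 : allRange orbOk 22 2360 59 = true := by decide +kernel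
theorem o0u40 : ∀ k, 0 ≤ k → k < 2419 → orbOk (k * 22) = true := between_extend orbOk 22 0 2360 59 (o0u39) o0r40

theorem o0r41 : allRange orbOk 22 2419 59 = true := by decide +kernel
theorem o0u41 : ∀ k, 0 ≤ k → k < 2478 → orbOk (k * 22) = true := between_extend orbOk 22 0 2419 59 (o0u40) o0r41

theorem o0r42 : allRange orbOk 22 2478 59 = true := by decide +kernel
theorem o0u42 : ∀ k, 0 ≤ k → k < 2537 → orbOk (k * 22) = true := between_extend orbOk 22 0 2478 59 (o0u41) o0r42

theorem o0r43 : allRange orbOk 22 2537 59 = true := by decide +kernel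
theorem o0u43 : ∀ k, 0 ≤ k → k < 2596 → orbOk (k * 22) = true := between_extend orbOk 22 0 2537 59 (o0u42) o0r43

theorem o0r44 : allRange orbOk 22 2596 59 = true := by decide +kernel
theorem o0u44 : ∀ k, 0 ≤ k → k < 2655 → orbOk (k * 22) = true := between_extend orbOk 22 0 2596 59 (o0u43) o0r44

theorem o0r45 : allRange orbOk 22 2655 59 = true := by decide +kernel
theorem o0u45 : ∀ k, 0 ≤ k → k < 2714 → orbOk (k * 22) = true := between_extend orbOk 22 0 2655 59 (o0u44) o0r45

theorem o0r46 : allRange orbOk 22 2714 59 = true := by decide +kernel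
theorem o0u46 : ∀ k, 0 ≤ k → k < 2773 → orbOk (k * 22) = true := between_extend orbOk 22 0 2714 59 (o0u45) o0r46

theorem o0r47 : allRange orbOk 22 2773 59 = true := by decide +kernel
theorem o0u47 : ∀ k, 0 ≤ k → k < 2832 → orbOk (k * 22) = true := between_extend orbOk 22 0 2773 59 (o0u46) o0r47

theorem o0r48 : allRange orbOk 22 2832 59 = true := by decide +kernel
theorem o0u48 : ∀ k, 0 ≤ k → k < 2891 → orbOk (k * 22) = true := between_extend orbOk 22 0 2832 59 (o0u47) o0r48

theorem o0r49 : allRange orbOk 22 2891 59 = true := by decide +kernel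
theorem o0u49 : ∀ k, 0 ≤ k → k < 2950 → orbOk (k * 22) = true := between_extend orbOk 22 0 2891 59 (o0u48) o0r49

theorem o0r50 : allRange orbOk 22 2950 59 = true := by decide +kernel
theorem o0u50 : ∀ k, 0 ≤ k → k < 3009 → orbOk (k * 22) = true := between_extend orbOk 22 0 2950 59 (o0u49) o0r50

theorem o0r51 : allRange orbOk 22 3009 59 = true := by decide +kernel
theorem o0u51 : ∀ k, 0 ≤ k → k < 3068 → orbOk (k * 22) = true := between_extend orbOk 22 0 3009 59 (o0u50) o0r51

theorem o0r52 : allRange orbOk 22 3068 59 = true := by decide +kernel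
theorem o0u52 : ∀ k, 0 ≤ k → k < 3127 → orbOk (k * 22) = true := between_extend orbOk 22 0 3068 59 (o0u51) o0r52

theorem o0r53 : allRange orbOk 22 3127 59 = true := by decide +kernel
theorem o0u53 : ∀ k, 0 ≤ k → k < 3186 → orbOk (k * 22) = true := between_extend orbOk 22 0 3127 59 (o0u52) o0r53

theorem o0r54 : allRange orbOk 22 3186 59 = true := by decide +kernel
theorem o0u54 : ∀ k, 0 ≤ k → k < 3245 → orbOk (k * 22) = true := between_extend orbOk 22 0 3186 59 (o0u53) o0r54

theorem o0r55 : allRange orbOk 22 3245 59 = true := by decide +kernel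
theorem o0u55 : ∀ k, 0 ≤ k → k < 3304 → orbOk (k * 22) = true := between_extend orbOk 22 0 3245 59 (o0u54) o0r55

theorem o0r56 : allRange orbOk 22 3304 59 = true := by decide +kernel
theorem o0u56 : ∀ k, 0 ≤ k → k < 3363 → orbOk (k * 22) = true := between_extend orbOk 22 0 3304 59 (o0u55) o0r56

theorem o0r57 : allRange orbOk 22 3363 59 = true := by decide +kernel
theorem o0u57 : ∀ k, 0 ≤ k → k < 3422 → orbOk (k * 22) = true := between_extend orbOk 22 0 3363 59 (o0u56) o0r57

theorem o0r58 : allRange orbOk 22 3422 59 = true := by decide +kernel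
theorem o0u58 : ∀ k, 0 ≤ k → k < 3481 → orbOk (k * 22) = true := between_extend orbOk 22 0 3422 59 (o0u57) o0r58

theorem o0r59 : allRange orbOk 22 3481 59 = true := by decide +kernel
theorem o0u59 : ∀ k, 0 ≤ k → k < 3540 → orbOk (k * 22) = true := between_extend orbOk 22 0 3481 59 (o0u58) o0r59

theorem o0r60 : allRange orbOk 22 3540 59 = true := by decide +kernel
theorem o0u60 : ∀ k, 0 ≤ k → k < 3599 → orbOk (k * 22) = true := between_extend orbOk 22 0 3540 59 (o0u59) o0r60

theorem o0r61 : allRange orbOk 22 3599 59 = true := by decide +kernel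
theorem o0u61 : ∀ k, 0 ≤ k → k < 3658 → orbOk (k * 22) = true := between_extend orbOk 22 0 3599 59 (o0u60) o0r61

theorem o0r62 : allRange orbOk 22 3658 59 = true := by decide +kernel
theorem o0u62 : ∀ k, 0 ≤ k → k < 3717 → orbOk (k * 22) = true := between_extend orbOk 22 0 3658 59 (o0u61) o0r62

theorem o0r63 : allRange orbOk 22 3717 59 = true := by decide +kernel
theorem o0u63 : ∀ k, 0 ≤ k → k < 3776 → orbOk (k * 22) = true := between_extend orbOk 22 0 3717 59 (o0u62) o0r63

theorem o0r64 : allRange orbOk 22 3776 59 = true := by decide +kernel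
theorem o0u64 : ∀ k, 0 ≤ k → k < 3835 → orbOk (k * 22) = true := between_extend orbOk 22 0 3776 59 (o0u63) o0r64

theorem o0r65 : allRange orbOk 22 3835 59 = true := by decide +kernel
theorem o0u65 : ∀ k, 0 ≤ k → k < 3894 → orbOk (k * 22) = true := between_extend orbOk 22 0 3835 59 (o0u64) o0r65

theorem o0r66 : allRange orbOk 22 3894 59 = true := by decide +kernel
theorem o0u66 : ∀ k, 0 ≤ k → k < 3953 → orbOk (k * 22) = true := between_extend orbOk 22 0 3894 59 (o0u65) o0r66

theorem o0r67 : allRange orbOk 22 3953 59 = true := by decide +kernel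
theorem o0u67 : ∀ k, 0 ≤ k → k < 4012 → orbOk (k * 22) = true := between_extend orbOk 22 0 3953 59 (o0u66) o0r67

theorem o0r68 : allRange orbOk 22 4012 59 = true := by decide +kernel
theorem o0u68 : ∀ k, 0 ≤ k → k < 4071 → orbOk (k * 22) = true := between_extend orbOk 22 0 4012 59 (o0u67) o0r68

theorem o0r69 : allRange orbOk 22 4071 59 = true := by decide +kernel
theorem o0u69 : ∀ k, 0 ≤ k → k < 4130 → orbOk (k * 22) = true := between_extend orbOk 22 0 4071 59 (o0u68) o0r69

theorem o0r70 : allRange orbOk 22 4130 59 = true := by decide +kernel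
theorem o0u70 : ∀ k, 0 ≤ k → k < 4189 → orbOk (k * 22) = true := between_extend orbOk 22 0 4130 59 (o0u69) o0r70

theorem o0r71 : allRange orbOk 22 4189 59 = true := by decide +kernel
theorem o0u71 : ∀ k, 0 ≤ k → k < 4248 → orbOk (k * 22) = true := between_extend orbOk 22 0 4189 59 (o0u70) o0r71

theorem o0r72 : allRange orbOk 22 4248 59 = true := by decide +kernel
theorem o0u72 : ∀ k, 0 ≤ k → k < 4307 → orbOk (k * 22) = true := between_extend orbOk 22 0 4248 59 (o0u71) o0r72

theorem o0r73 : allRange orbOk 22 4307 59 = true := by decide +kernel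
theorem o0u73 : ∀ k, 0 ≤ k → k < 4366 → orbOk (k * 22) = true := between_extend orbOk 22 0 4307 59 (o0u72) o0r73

theorem o0r74 : allRange orbOk 22 4366 59 = true := by decide +kernel
theorem o0u74 : ∀ k, 0 ≤ k → k < 4425 → orbOk (k * 22) = true := between_extend orbOk 22 0 4366 59 (o0u73) o0r74

theorem o0r75 : allRange orbOk 22 4425 59 = true := by decide +kernel
theorem o0u75 : ∀ k, 0 ≤ k → k < 4484 → orbOk (k * 22) = true := between_extend orbOk 22 0 4425 59 (o0u74) o0r75

theorem o0r76 : allRange orbOk 22 4484 59 = true := by decide +kernel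
theorem o0u76 : ∀ k, 0 ≤ k → k < 4543 → orbOk (k * 22) = true := between_extend orbOk 22 0 4484 59 (o0u75) o0r76

theorem o0r77 : allRange orbOk 22 4543 59 = true := by decide +kernel
theorem o0u77 : ∀ k, 0 ≤ k → k < 4602 → orbOk (k * 22) = true := between_extend orbOk 22 0 4543 59 (o0u76) o0r77

theorem o0r78 : allRange orbOk 22 4602 59 = true := by decide +kernel
theorem o0u78 : ∀ k, 0 ≤ k → k < 4661 → orbOk (k * 22) = true := between_extend orbOk 22 0 4602 59 (o0u77) o0r78

theorem o0r79 : allRange orbOk 22 4661 59 = true := by decide +kernel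
theorem o0u79 : ∀ k, 0 ≤ k → k < 4720 → orbOk (k * 22) = true := between_extend orbOk 22 0 4661 59 (o0u78) o0r79

theorem o0r80 : allRange orbOk 22 4720 59 = true := by decide +kernel
theorem o0u80 : ∀ k, 0 ≤ k → k < 4779 → orbOk (k * 22) = true := between_extend orbOk 22 0 4720 59 (o0u79) o0r80

theorem o0r81 : allRange orbOk 22 4779 59 = true := by decide +kernel
theorem o0u81 : ∀ k, 0 ≤ k → k < 4838 → orbOk (k * 22) = true := between_extend orbOk 22 0 4779 59 (o0u80) o0r81

theorem o0r82 : allRange orbOk 22 4838 59 = true := by decide +kernel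
theorem o0u82 : ∀ k, 0 ≤ k → k < 4897 → orbOk (k * 22) = true := between_extend orbOk 22 0 4838 59 (o0u81) o0r82

theorem o0r83 : allRange orbOk 22 4897 59 = true := by decide +kernel
theorem o0u83 : ∀ k, 0 ≤ k → k < 4956 → orbOk (k * 22) = true := between_extend orbOk 22 0 4897 59 (o0u82) o0r83

theorem o0r84 : allRange orbOk 22 4956 59 = true := by decide +kernel
theorem o0u84 : ∀ k, 0 ≤ k → k < 5015 → orbOk (k * 22) = true := between_extend orbOk 22 0 4956 59 (o0u83) o0r84

theorem o0r85 : allRange orbOk 22 5015 59 = true := by decide +kernel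
theorem o0u85 : ∀ k, 0 ≤ k → k < 5074 → orbOk (k * 22) = true := between_extend orbOk 22 0 5015 59 (o0u84) o0r85

theorem o0r86 : allRange orbOk 22 5074 59 = true := by decide +kernel
theorem o0u86 : ∀ k, 0 ≤ k → k < 5133 → orbOk (k * 22) = true := between_extend orbOk 22 0 5074 59 (o0u85) o0r86

theorem o0r87 : allRange orbOk 22 5133 59 = true := by decide +kernel
theorem o0u87 : ∀ k, 0 ≤ k → k < 5192 → orbOk (k * 22) = true := between_extend orbOk 22 0 5133 59 (o0u86) o0r87

theorem o0r88 : allRange orbOk 22 5192 59 = true := by decide +kernel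
theorem o0u88 : ∀ k, 0 ≤ k → k < 5251 → orbOk (k * 22) = true := between_extend orbOk 22 0 5192 59 (o0u87) o0r88

theorem o0r89 : allRange orbOk 22 5251 59 = true := by decide +kernel
theorem o0u89 : ∀ k, 0 ≤ k → k < 5310 → orbOk (k * 22) = true := between_extend orbOk 22 0 5251 59 (o0u88) o0r89

theorem o0r90 : allRange orbOk 22 5310 59 = true := by decide +kernel
theorem o0u90 : ∀ k, 0 ≤ k → k < 5369 → orbOk (k * 22) = true := between_extend orbOk 22 0 5310 59 (o0u89) o0r90

theorem o0r91 : allRange orbOk 22 5369 59 = true := by decide +kernel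
theorem o0u91 : ∀ k, 0 ≤ k → k < 5428 → orbOk (k * 22) = true := between_extend orbOk 22 0 5369 59 (o0u90) o0r91

theorem o0r92 : allRange orbOk 22 5428 59 = true := by decide +kernel
theorem o0u92 : ∀ k, 0 ≤ k → k < 5487 → orbOk (k * 22) = true := between_extend orbOk 22 0 5428 59 (o0u91) o0r92

theorem o0r93 : allRange orbOk 22 5487 59 = true := by decide +kernel
theorem o0u93 : ∀ k, 0 ≤ k → k < 5546 → orbOk (k * 22) = true := between_extend orbOk 22 0 5487 59 (o0u92) o0r93

theorem o0r94 : allRange orbOk 22 5546 59 = true := by decide +kernel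
theorem o0u94 : ∀ k, 0 ≤ k → k < 5605 → orbOk (k * 22) = true := between_extend orbOk 22 0 5546 59 (o0u93) o0r94

theorem o0r95 : allRange orbOk 22 5605 59 = true := by decide +kernel
theorem o0u95 : ∀ k, 0 ≤ k → k < 5664 → orbOk (k * 22) = true := between_extend orbOk 22 0 5605 59 (o0u94) o0r95

theorem o0r96 : allRange orbOk 22 5664 59 = true := by decide +kernel
theorem o0u96 : ∀ k, 0 ≤ k → k < 5723 → orbOk (k * 22) = true := between_extend orbOk 22 0 5664 59 (o0u95) o0r96

theorem o0r97 : allRange orbOk 22 5723 59 = true := by decide +kernel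
theorem o0u97 : ∀ k, 0 ≤ k → k < 5782 → orbOk (k * 22) = true := between_extend orbOk 22 0 5723 59 (o0u96) o0r97

theorem o0r98 : allRange orbOk 22 5782 59 = true := by decide +kernel
theorem o0u98 : ∀ k, 0 ≤ k → k < 5841 → orbOk (k * 22) = true := between_extend orbOk 22 0 5782 59 (o0u97) o0r98

theorem o0r99 : allRange orbOk 22 5841 59 = true := by decide +kernel
theorem o0u99 : ∀ k, 0 ≤ k → k < 5900 → orbOk (k * 22) = true := between_extend orbOk 22 0 5841 59 (o0u98) o0r99

theorem o0r100 : allRange orbOk 22 5900 59 = true := by decide +kernel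
theorem o0u100 : ∀ k, 0 ≤ k → k < 5959 → orbOk (k * 22) = true := between_extend orbOk 22 0 5900 59 (o0u99) o0r100

theorem o0r101 : allRange orbOk 22 5959 59 = true := by decide +kernel
theorem o0u101 : ∀ k, 0 ≤ k → k < 6018 → orbOk (k * 22) = true := between_extend orbOk 22 0 5959 59 (o0u100) o0r101

theorem o0r102 : allRange orbOk 22 6018 59 = true := by decide +kernel
theorem o0u102 : ∀ k, 0 ≤ k → k < 6077 → orbOk (k * 22) = true := between_extend orbOk 22 0 6018 59 (o0u101) o0r102

theorem o0r103 : allRange orbOk 22 6077 59 = true := by decide +kernel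
theorem o0u103 : ∀ k, 0 ≤ k → k < 6136 → orbOk (k * 22) = true := between_extend orbOk 22 0 6077 59 (o0u102) o0r103

theorem o0r104 : allRange orbOk 22 6136 59 = true := by decide +kernel
theorem o0u104 : ∀ k, 0 ≤ k → k < 6195 → orbOk (k * 22) = true := between_extend orbOk 22 0 6136 59 (o0u103) o0r104

theorem o0r105 : allRange orbOk 22 6195 59 = true := by decide +kernel
theorem o0u105 : ∀ k, 0 ≤ k → k < 6254 → orbOk (k * 22) = true := between_extend orbOk 22 0 6195 59 (o0u104) o0r105

theorem o0r106 : allRange orbOk 22 6254 59 = true := by decide +kernel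
theorem o0u106 : ∀ k, 0 ≤ k → k < 6313 → orbOk (k * 22) = true := between_extend orbOk 22 0 6254 59 (o0u105) o0r106

theorem o0r107 : allRange orbOk 22 6313 59 = true := by decide +kernel
theorem o0u107 : ∀ k, 0 ≤ k → k < 6372 → orbOk (k * 22) = true := between_extend orbOk 22 0 6313 59 (o0u106) o0r107

theorem o0r108 : allRange orbOk 22 6372 59 = true := by decide +kernel
theorem o0u108 : ∀ k, 0 ≤ k → k < 6431 → orbOk (k * 22) = true := between_extend orbOk 22 0 6372 59 (o0u107) o0r108

theorem o0r109 : allRange orbOk 22 6431 59 = true := by decide +kernel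
theorem o0u109 : ∀ k, 0 ≤ k → k < 6490 → orbOk (k * 22) = true := between_extend orbOk 22 0 6431 59 (o0u108) o0r109

theorem o0r110 : allRange orbOk 22 6490 59 = true := by decide +kernel
theorem o0u110 : ∀ k, 0 ≤ k → k < 6549 → orbOk (k * 22) = true := between_extend orbOk 22 0 6490 59 (o0u109) o0r110

theorem o0r111 : allRange orbOk 22 6549 59 = true := by decide +kernel
theorem o0u111 : ∀ k, 0 ≤ k → k < 6608 → orbOk (k * 22) = true := between_extend orbOk 22 0 6549 59 (o0u110) o0r111

theorem o0r112 : allRange orbOk 22 6608 59 = true := by decide +kernel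
theorem o0u112 : ∀ k, 0 ≤ k → k < 6667 → orbOk (k * 22) = true := between_extend orbOk 22 0 6608 59 (o0u111) o0r112

theorem o0r113 : allRange orbOk 22 6667 59 = true := by decide +kernel
theorem o0u113 : ∀ k, 0 ≤ k → k < 6726 → orbOk (k * 22) = true := between_extend orbOk 22 0 6667 59 (o0u112) o0r113

theorem o0r114 : allRange orbOk 22 6726 59 = true := by decide +kernel
theorem o0u114 : ∀ k, 0 ≤ k → k < 6785 → orbOk (k * 22) = true := between_extend orbOk 22 0 6726 59 (o0u113) o0r114

theorem o0r115 : allRange orbOk 22 6785 59 = true := by decide +kernel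
theorem o0u115 : ∀ k, 0 ≤ k → k < 6844 → orbOk (k * 22) = true := between_extend orbOk 22 0 6785 59 (o0u114) o0r115

theorem o0r116 : allRange orbOk 22 6844 59 = true := by decide +kernel
theorem o0u116 : ∀ k, 0 ≤ k → k < 6903 → orbOk (k * 22) = true := between_extend orbOk 22 0 6844 59 (o0u115) o0r116

theorem o0r117 : allRange orbOk 22 6903 59 = true := by decide +kernel
theorem o0u117 : ∀ k, 0 ≤ k → k < 6962 → orbOk (k * 22) = true := between_extend orbOk 22 0 6903 59 (o0u116) o0r117

theorem o0r118 : allRange orbOk 22 6962 59 = true := by decide +kernel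
theorem o0u118 : ∀ k, 0 ≤ k → k < 7021 → orbOk (k * 22) = true := between_extend orbOk 22 0 6962 59 (o0u117) o0r118

theorem o0r119 : allRange orbOk 22 7021 59 = true := by decide +kernel
theorem o0u119 : ∀ k, 0 ≤ k → k < 7080 → orbOk (k * 22) = true := between_extend orbOk 22 0 7021 59 (o0u118) o0r119

theorem o0r120 : allRange orbOk 22 7080 59 = true := by decide +kernel
theorem o0u120 : ∀ k, 0 ≤ k → k < 7139 → orbOk (k * 22) = true := between_extend orbOk 22 0 7080 59 (o0u119) o0r120

theorem o0r121 : allRange orbOk 22 7139 59 = true := by decide +kernel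
theorem o0u121 : ∀ k, 0 ≤ k → k < 7198 → orbOk (k * 22) = true := between_extend orbOk 22 0 7139 59 (o0u120) o0r121

theorem o0r122 : allRange orbOk 22 7198 59 = true := by decide +kernel
theorem o0u122 : ∀ k, 0 ≤ k → k < 7257 → orbOk (k * 22) = true := between_extend orbOk 22 0 7198 59 (o0u121) o0r122

theorem o0r123 : allRange orbOk 22 7257 59 = true := by decide +kernel
theorem o0u123 : ∀ k, 0 ≤ k → k < 7316 → orbOk (k * 22) = true := between_extend orbOk 22 0 7257 59 (o0u122) o0r123

theorem o0r124 : allRange orbOk 22 7316 59 = true := by decide +kernel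
theorem o0u124 : ∀ k, 0 ≤ k → k < 7375 → orbOk (k * 22) = true := between_extend orbOk 22 0 7316 59 (o0u123) o0r124

theorem o0r125 : allRange orbOk 22 7375 59 = true := by decide +kernel
theorem o0u125 : ∀ k, 0 ≤ k → k < 7434 → orbOk (k * 22) = true := between_extend orbOk 22 0 7375 59 (o0u124) o0r125

theorem o0r126 : allRange orbOk 22 7434 59 = true := by decide +kernel
theorem o0u126 : ∀ k, 0 ≤ k → k < 7493 → orbOk (k * 22) = true := between_extend orbOk 22 0 7434 59 (o0u125) o0r126

theorem o0r127 : allRange orbOk 22 7493 59 = true := by decide +kernel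
theorem o0u127 : ∀ k, 0 ≤ k → k < 7552 → orbOk (k * 22) = true := between_extend orbOk 22 0 7493 59 (o0u126) o0r127

theorem o0r128 : allRange orbOk 22 7552 59 = true := by decide +kernel
theorem o0u128 : ∀ k, 0 ≤ k → k < 7611 → orbOk (k * 22) = true := between_extend orbOk 22 0 7552 59 (o0u127) o0r128

theorem o0r129 : allRange orbOk 22 7611 59 = true := by decide +kernel
theorem o0u129 : ∀ k, 0 ≤ k → k < 7670 → orbOk (k * 22) = true := between_extend orbOk 22 0 7611 59 (o0u128) o0r129

theorem o0r130 : allRange orbOk 22 7670 59 = true := by decide +kernel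
theorem o0u130 : ∀ k, 0 ≤ k → k < 7729 → orbOk (k * 22) = true := between_extend orbOk 22 0 7670 59 (o0u129) o0r130

theorem o0r131 : allRange orbOk 22 7729 59 = true := by decide +kernel
theorem o0u131 : ∀ k, 0 ≤ k → k < 7788 → orbOk (k * 22) = true := between_extend orbOk 22 0 7729 59 (o0u130) o0r131

theorem o0r132 : allRange orbOk 22 7788 59 = true := by decide +kernel
theorem o0u132 : ∀ k, 0 ≤ k → k < 7847 → orbOk (k * 22) = true := between_extend orbOk 22 0 7788 59 (o0u131) o0r132

theorem o0r133 : allRange orbOk 22 7847 59 = true := by decide +kernel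
theorem o0u133 : ∀ k, 0 ≤ k → k < 7906 → orbOk (k * 22) = true := between_extend orbOk 22 0 7847 59 (o0u132) o0r133

theorem o0r134 : allRange orbOk 22 7906 59 = true := by decide +kernel
theorem o0u134 : ∀ k, 0 ≤ k → k < 7965 → orbOk (k * 22) = true := between_extend orbOk 22 0 7906 59 (o0u133) o0r134

theorem o0r135 : allRange orbOk 22 7965 59 = true := by decide +kernel
theorem o0u135 : ∀ k, 0 ≤ k → k < 8024 → orbOk (k * 22) = true := between_extend orbOk 22 0 7965 59 (o0u134) o0r135

theorem o0r136 : allRange orbOk 22 8024 59 = true := by decide +kernel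
theorem o0u136 : ∀ k, 0 ≤ k → k < 8083 → orbOk (k * 22) = true := between_extend orbOk 22 0 8024 59 (o0u135) o0r136

theorem o0r137 : allRange orbOk 22 8083 59 = true := by decide +kernel
theorem o0u137 : ∀ k, 0 ≤ k → k < 8142 → orbOk (k * 22) = true := between_extend orbOk 22 0 8083 59 (o0u136) o0r137

theorem o0r138 : allRange orbOk 22 8142 59 = true := by decide +kernel
theorem o0u138 : ∀ k, 0 ≤ k → k < 8201 → orbOk (k * 22) = true := between_extend orbOk 22 0 8142 59 (o0u137) o0r138

theorem o0r139 : allRange orbOk 22 8201 59 = true := by decide +kernel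
theorem o0u139 : ∀ k, 0 ≤ k → k < 8260 → orbOk (k * 22) = true := between_extend orbOk 22 0 8201 59 (o0u138) o0r139

theorem o0r140 : allRange orbOk 22 8260 59 = true := by decide +kernel
theorem o0u140 : ∀ k, 0 ≤ k → k < 8319 → orbOk (k * 22) = true := between_extend orbOk 22 0 8260 59 (o0u139) o0r140

theorem o0r141 : allRange orbOk 22 8319 59 = true := by decide +kernel
theorem o0u141 : ∀ k, 0 ≤ k → k < 8378 → orbOk (k * 22) = true := between_extend orbOk 22 0 8319 59 (o0u140) o0r141

theorem o0r142 : allRange orbOk 22 8378 59 = true := by decide +kernel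
theorem o0u142 : ∀ k, 0 ≤ k → k < 8437 → orbOk (k * 22) = true := between_extend orbOk 22 0 8378 59 (o0u141) o0r142

theorem o0r143 : allRange orbOk 22 8437 59 = true := by decide +kernel
theorem o0u143 : ∀ k, 0 ≤ k → k < 8496 → orbOk (k * 22) = true := between_extend orbOk 22 0 8437 59 (o0u142) o0r143

theorem o0r144 : allRange orbOk 22 8496 59 = true := by decide +kernel
theorem o0u144 : ∀ k, 0 ≤ k → k < 8555 → orbOk (k * 22) = true := between_extend orbOk 22 0 8496 59 (o0u143) o0r144

theorem o0r145 : allRange orbOk 22 8555 59 = true := by decide +kernel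
theorem o0u145 : ∀ k, 0 ≤ k → k < 8614 → orbOk (k * 22) = true := between_extend orbOk 22 0 8555 59 (o0u144) o0r145

theorem o0r146 : allRange orbOk 22 8614 59 = true := by decide +kernel
theorem o0u146 : ∀ k, 0 ≤ k → k < 8673 → orbOk (k * 22) = true := between_extend orbOk 22 0 8614 59 (o0u145) o0r146

theorem o0r147 : allRange orbOk 22 8673 59 = true := by decide +kernel
theorem o0u147 : ∀ k, 0 ≤ k → k < 8732 → orbOk (k * 22) = true := between_extend orbOk 22 0 8673 59 (o0u146) o0r147

theorem o0r148 : allRange orbOk 22 8732 59 = true := by decide +kernel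
theorem o0u148 : ∀ k, 0 ≤ k → k < 8791 → orbOk (k * 22) = true := between_extend orbOk 22 0 8732 59 (o0u147) o0r148

theorem o0r149 : allRange orbOk 22 8791 59 = true := by decide +kernel
theorem o0u149 : ∀ k, 0 ≤ k → k < 8850 → orbOk (k * 22) = true := between_extend orbOk 22 0 8791 59 (o0u148) o0r149

theorem o0r150 : allRange orbOk 22 8850 59 = true := by decide +kernel
theorem o0u150 : ∀ k, 0 ≤ k → k < 8909 → orbOk (k * 22) = true := between_extend orbOk 22 0 8850 59 (o0u149) o0r150

theorem o0r151 : allRange orbOk 22 8909 59 = true := by decide +kernel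
theorem o0u151 : ∀ k, 0 ≤ k → k < 8968 → orbOk (k * 22) = true := between_extend orbOk 22 0 8909 59 (o0u150) o0r151

theorem o0r152 : allRange orbOk 22 8968 59 = true := by decide +kernel
theorem o0u152 : ∀ k, 0 ≤ k → k < 9027 → orbOk (k * 22) = true := between_extend orbOk 22 0 8968 59 (o0u151) o0r152

theorem o0r153 : allRange orbOk 22 9027 59 = true := by decide +kernel
theorem o0u153 : ∀ k, 0 ≤ k → k < 9086 → orbOk (k * 22) = true := between_extend orbOk 22 0 9027 59 (o0u152) o0r153

theorem o0r154 : allRange orbOk 22 9086 59 = true := by decide +kernel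
theorem o0u154 : ∀ k, 0 ≤ k → k < 9145 → orbOk (k * 22) = true := between_extend orbOk 22 0 9086 59 (o0u153) o0r154

theorem o0r155 : allRange orbOk 22 9145 59 = true := by decide +kernel
theorem o0u155 : ∀ k, 0 ≤ k → k < 9204 → orbOk (k * 22) = true := between_extend orbOk 22 0 9145 59 (o0u154) o0r155

theorem o0r156 : allRange orbOk 22 9204 59 = true := by decide +kernel
theorem o0u156 : ∀ k, 0 ≤ k → k < 9263 → orbOk (k * 22) = true := between_extend orbOk 22 0 9204 59 (o0u155) o0r156

theorem o0r157 : allRange orbOk 22 9263 59 = true := by decide +kernel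
theorem o0u157 : ∀ k, 0 ≤ k → k < 9322 → orbOk (k * 22) = true := between_extend orbOk 22 0 9263 59 (o0u156) o0r157

theorem o0r158 : allRange orbOk 22 9322 59 = true := by decide +kernel
theorem o0u158 : ∀ k, 0 ≤ k → k < 9381 → orbOk (k * 22) = true := between_extend orbOk 22 0 9322 59 (o0u157) o0r158

theorem o0r159 : allRange orbOk 22 9381 59 = true := by decide +kernel
theorem o0u159 : ∀ k, 0 ≤ k → k < 9440 → orbOk (k * 22) = true := between_extend orbOk 22 0 9381 59 (o0u158) o0r159

theorem o0r160 : allRange orbOk 22 9440 59 = true := by decide +kernel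
theorem o0u160 : ∀ k, 0 ≤ k → k < 9499 → orbOk (k * 22) = true := between_extend orbOk 22 0 9440 59 (o0u159) o0r160

theorem o0r161 : allRange orbOk 22 9499 59 = true := by decide +kernel
theorem o0u161 : ∀ k, 0 ≤ k → k < 9558 → orbOk (k * 22) = true := between_extend orbOk 22 0 9499 59 (o0u160) o0r161

theorem o0r162 : allRange orbOk 22 9558 59 = true := by decide +kernel
theorem o0u162 : ∀ k, 0 ≤ k → k < 9617 → orbOk (k * 22) = true := between_extend orbOk 22 0 9558 59 (o0u161) o0r162

theorem o0r163 : allRange orbOk 22 9617 59 = true := by decide +kernel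
theorem o0u163 : ∀ k, 0 ≤ k → k < 9676 → orbOk (k * 22) = true := between_extend orbOk 22 0 9617 59 (o0u162) o0r163

theorem o0r164 : allRange orbOk 22 9676 59 = true := by decide +kernel
theorem o0u164 : ∀ k, 0 ≤ k → k < 9735 → orbOk (k * 22) = true := between_extend orbOk 22 0 9676 59 (o0u163) o0r164

theorem o0r165 : allRange orbOk 22 9735 59 = true := by decide +kernel
theorem o0u165 : ∀ k, 0 ≤ k → k < 9794 → orbOk (k * 22) = true := between_extend orbOk 22 0 9735 59 (o0u164) o0r165

theorem o0r166 : allRange orbOk 22 9794 59 = true := by decide +kernel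
theorem o0u166 : ∀ k, 0 ≤ k → k < 9853 → orbOk (k * 22) = true := between_extend orbOk 22 0 9794 59 (o0u165) o0r166

theorem o0r167 : allRange orbOk 22 9853 59 = true := by decide +kernel
theorem o0u167 : ∀ k, 0 ≤ k → k < 9912 → orbOk (k * 22) = true := between_extend orbOk 22 0 9853 59 (o0u166) o0r167

theorem o0r168 : allRange orbOk 22 9912 59 = true := by decide +kernel
theorem o0u168 : ∀ k, 0 ≤ k → k < 9971 → orbOk (k * 22) = true := between_extend orbOk 22 0 9912 59 (o0u167) o0r168

theorem o0r169 : allRange orbOk 22 9971 59 = true := by decide +kernel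
theorem o0u169 : ∀ k, 0 ≤ k → k < 10030 → orbOk (k * 22) = true := between_extend orbOk 22 0 9971 59 (o0u168) o0r169

theorem o0r170 : allRange orbOk 22 10030 59 = true := by decide +kernel
theorem o0u170 : ∀ k, 0 ≤ k → k < 10089 → orbOk (k * 22) = true := between_extend orbOk 22 0 10030 59 (o0u169) o0r170

theorem o0r171 : allRange orbOk 22 10089 59 = true := by decide +kernel
theorem o0u171 : ∀ k, 0 ≤ k → k < 10148 → orbOk (k * 22) = true := between_extend orbOk 22 0 10089 59 (o0u170) o0r171

theorem o0r172 : allRange orbOk 22 10148 59 = true := by decide +kernel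
theorem o0u172 : ∀ k, 0 ≤ k → k < 10207 → orbOk (k * 22) = true := between_extend orbOk 22 0 10148 59 (o0u171) o0r172

theorem o0r173 : allRange orbOk 22 10207 59 = true := by decide +kernel
theorem o0u173 : ∀ k, 0 ≤ k → k < 10266 → orbOk (k * 22) = true := between_extend orbOk 22 0 10207 59 (o0u172) o0r173

theorem o0r174 : allRange orbOk 22 10266 59 = true := by decide +kernel
theorem o0u174 : ∀ k, 0 ≤ k → k < 10325 → orbOk (k * 22) = true := between_extend orbOk 22 0 10266 59 (o0u173) o0r174

theorem o0r175 : allRange orbOk 22 10325 59 = true := by decide +kernel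
theorem o0u175 : ∀ k, 0 ≤ k → k < 10384 → orbOk (k * 22) = true := between_extend orbOk 22 0 10325 59 (o0u174) o0r175

theorem o0r176 : allRange orbOk 22 10384 59 = true := by decide +kernel
theorem o0u176 : ∀ k, 0 ≤ k → k < 10443 → orbOk (k * 22) = true := between_extend orbOk 22 0 10384 59 (o0u175) o0r176

theorem o0r177 : allRange orbOk 22 10443 59 = true := by decide +kernel
theorem o0u177 : ∀ k, 0 ≤ k → k < 10502 → orbOk (k * 22) = true := between_extend orbOk 22 0 10443 59 (o0u176) o0r177

theorem o0r178 : allRange orbOk 22 10502 59 = true := by decide +kernel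
theorem o0u178 : ∀ k, 0 ≤ k → k < 10561 → orbOk (k * 22) = true := between_extend orbOk 22 0 10502 59 (o0u177) o0r178

theorem o0r179 : allRange orbOk 22 10561 59 = true := by decide +kernel
theorem o0u179 : ∀ k, 0 ≤ k → k < 10620 → orbOk (k * 22) = true := between_extend orbOk 22 0 10561 59 (o0u178) o0r179

theorem o0r180 : allRange orbOk 22 10620 59 = true := by decide +kernel
theorem o0u180 : ∀ k, 0 ≤ k → k < 10679 → orbOk (k * 22) = true := between_extend orbOk 22 0 10620 59 (o0u179) o0r180

theorem o0r181 : allRange orbOk 22 10679 59 = true := by decide +kernel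
theorem o0u181 : ∀ k, 0 ≤ k → k < 10738 → orbOk (k * 22) = true := between_extend orbOk 22 0 10679 59 (o0u180) o0r181

theorem o0r182 : allRange orbOk 22 10738 59 = true := by decide +kernel
theorem o0u182 : ∀ k, 0 ≤ k → k < 10797 → orbOk (k * 22) = true := between_extend orbOk 22 0 10738 59 (o0u181) o0r182

theorem o0r183 : allRange orbOk 22 10797 59 = true := by decide +kernel
theorem o0u183 : ∀ k, 0 ≤ k → k < 10856 → orbOk (k * 22) = true := between_extend orbOk 22 0 10797 59 (o0u182) o0r183

theorem o0r184 : allRange orbOk 22 10856 59 = true := by decide +kernel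
theorem o0u184 : ∀ k, 0 ≤ k → k < 10915 → orbOk (k * 22) = true := between_extend orbOk 22 0 10856 59 (o0u183) o0r184

theorem o0r185 : allRange orbOk 22 10915 59 = true := by decide +kernel
theorem o0u185 : ∀ k, 0 ≤ k → k < 10974 → orbOk (k * 22) = true := between_extend orbOk 22 0 10915 59 (o0u184) o0r185

theorem o0r186 : allRange orbOk 22 10974 59 = true := by decide +kernel
theorem o0u186 : ∀ k, 0 ≤ k → k < 11033 → orbOk (k * 22) = true := between_extend orbOk 22 0 10974 59 (o0u185) o0r186

theorem o0r187 : allRange orbOk 22 11033 59 = true := by decide +kernel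
theorem o0u187 : ∀ k, 0 ≤ k → k < 11092 → orbOk (k * 22) = true := between_extend orbOk 22 0 11033 59 (o0u186) o0r187

theorem o0r188 : allRange orbOk 22 11092 59 = true := by decide +kernel
theorem o0u188 : ∀ k, 0 ≤ k → k < 11151 → orbOk (k * 22) = true := between_extend orbOk 22 0 11092 59 (o0u187) o0r188

theorem o0r189 : allRange orbOk 22 11151 59 = true := by decide +kernel
theorem o0u189 : ∀ k, 0 ≤ k → k < 11210 → orbOk (k * 22) = true := between_extend orbOk 22 0 11151 59 (o0u188) o0r189

theorem o0r190 : allRange orbOk 22 11210 59 = true := by decide +kernel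
theorem o0u190 : ∀ k, 0 ≤ k → k < 11269 → orbOk (k * 22) = true := between_extend orbOk 22 0 11210 59 (o0u189) o0r190

theorem o0r191 : allRange orbOk 22 11269 59 = true := by decide +kernel
theorem o0u191 : ∀ k, 0 ≤ k → k < 11328 → orbOk (k * 22) = true := between_extend orbOk 22 0 11269 59 (o0u190) o0r191

theorem o0r192 : allRange orbOk 22 11328 59 = true := by decide +kernel
theorem o0u192 : ∀ k, 0 ≤ k → k < 11387 → orbOk (k * 22) = true := between_extend orbOk 22 0 11328 59 (o0u191) o0r192

theorem o0r193 : allRange orbOk 22 11387 59 = true := by decide +kernel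
theorem o0u193 : ∀ k, 0 ≤ k → k < 11446 → orbOk (k * 22) = true := between_extend orbOk 22 0 11387 59 (o0u192) o0r193

theorem o0r194 : allRange orbOk 22 11446 59 = true := by decide +kernel
theorem o0u194 : ∀ k, 0 ≤ k → k < 11505 → orbOk (k * 22) = true := between_extend orbOk 22 0 11446 59 (o0u193) o0r194

theorem o0r195 : allRange orbOk 22 11505 59 = true := by decide +kernel
theorem o0u195 : ∀ k, 0 ≤ k → k < 11564 → orbOk (k * 22) = true := between_extend orbOk 22 0 11505 59 (o0u194) o0r195

theorem o0r196 : allRange orbOk 22 11564 59 = true := by decide +kernel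
theorem o0u196 : ∀ k, 0 ≤ k → k < 11623 → orbOk (k * 22) = true := between_extend orbOk 22 0 11564 59 (o0u195) o0r196

theorem o0r197 : allRange orbOk 22 11623 59 = true := by decide +kernel
theorem o0u197 : ∀ k, 0 ≤ k → k < 11682 → orbOk (k * 22) = true := between_extend orbOk 22 0 11623 59 (o0u196) o0r197

theorem o0r198 : allRange orbOk 22 11682 59 = true := by decide +kernel
theorem o0u198 : ∀ k, 0 ≤ k → k < 11741 → orbOk (k * 22) = true := between_extend orbOk 22 0 11682 59 (o0u197) o0r198

theorem o0r199 : allRange orbOk 22 11741 59 = true := by decide +kernel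
theorem o0u199 : ∀ k, 0 ≤ k → k < 11800 → orbOk (k * 22) = true := between_extend orbOk 22 0 11741 59 (o0u198) o0r199

theorem o0r200 : allRange orbOk 22 11800 59 = true := by decide +kernel
theorem o0u200 : ∀ k, 0 ≤ k → k < 11859 → orbOk (k * 22) = true := between_extend orbOk 22 0 11800 59 (o0u199) o0r200

theorem o0r201 : allRange orbOk 22 11859 59 = true := by decide +kernel
theorem o0u201 : ∀ k, 0 ≤ k → k < 11918 → orbOk (k * 22) = true := between_extend orbOk 22 0 11859 59 (o0u200) o0r201

theorem o0r202 : allRange orbOk 22 11918 59 = true := by decide +kernel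
theorem o0u202 : ∀ k, 0 ≤ k → k < 11977 → orbOk (k * 22) = true := between_extend orbOk 22 0 11918 59 (o0u201) o0r202

theorem o0r203 : allRange orbOk 22 11977 59 = true := by decide +kernel
theorem o0u203 : ∀ k, 0 ≤ k → k < 12036 → orbOk (k * 22) = true := between_extend orbOk 22 0 11977 59 (o0u202) o0r203

theorem o0r204 : allRange orbOk 22 12036 59 = true := by decide +kernel
theorem o0u204 : ∀ k, 0 ≤ k → k < 12095 → orbOk (k * 22) = true := between_extend orbOk 22 0 12036 59 (o0u203) o0r204

theorem o0r205 : allRange orbOk 22 12095 59 = true := by decide +kernel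
theorem o0u205 : ∀ k, 0 ≤ k → k < 12154 → orbOk (k * 22) = true := between_extend orbOk 22 0 12095 59 (o0u204) o0r205

theorem o0r206 : allRange orbOk 22 12154 59 = true := by decide +kernel
theorem o0u206 : ∀ k, 0 ≤ k → k < 12213 → orbOk (k * 22) = true := between_extend orbOk 22 0 12154 59 (o0u205) o0r206

theorem o0r207 : allRange orbOk 22 12213 59 = true := by decide +kernel
theorem o0u207 : ∀ k, 0 ≤ k → k < 12272 → orbOk (k * 22) = true := between_extend orbOk 22 0 12213 59 (o0u206) o0r207

theorem o0r208 : allRange orbOk 22 12272 59 = true := by decide +kernel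
theorem o0u208 : ∀ k, 0 ≤ k → k < 12331 → orbOk (k * 22) = true := between_extend orbOk 22 0 12272 59 (o0u207) o0r208

theorem o0r209 : allRange orbOk 22 12331 59 = true := by decide +kernel
theorem o0u209 : ∀ k, 0 ≤ k → k < 12390 → orbOk (k * 22) = true := between_extend orbOk 22 0 12331 59 (o0u208) o0r209

theorem o0r210 : allRange orbOk 22 12390 59 = true := by decide +kernel
theorem o0u210 : ∀ k, 0 ≤ k → k < 12449 → orbOk (k * 22) = true := between_extend orbOk 22 0 12390 59 (o0u209) o0r210

theorem o0r211 : allRange orbOk 22 12449 59 = true := by decide +kernel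
theorem o0u211 : ∀ k, 0 ≤ k → k < 12508 → orbOk (k * 22) = true := between_extend orbOk 22 0 12449 59 (o0u210) o0r211

theorem o0r212 : allRange orbOk 22 12508 59 = true := by decide +kernel
theorem o0u212 : ∀ k, 0 ≤ k → k < 12567 → orbOk (k * 22) = true := between_extend orbOk 22 0 12508 59 (o0u211) o0r212

theorem o0r213 : allRange orbOk 22 12567 59 = true := by decide +kernel
theorem o0u213 : ∀ k, 0 ≤ k → k < 12626 → orbOk (k * 22) = true := between_extend orbOk 22 0 12567 59 (o0u212) o0r213

theorem o0r214 : allRange orbOk 22 12626 59 = true := by decide +kernel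
theorem o0u214 : ∀ k, 0 ≤ k → k < 12685 → orbOk (k * 22) = true := between_extend orbOk 22 0 12626 59 (o0u213) o0r214

theorem o0r215 : allRange orbOk 22 12685 59 = true := by decide +kernel
theorem o0u215 : ∀ k, 0 ≤ k → k < 12744 → orbOk (k * 22) = true := between_extend orbOk 22 0 12685 59 (o0u214) o0r215

theorem o0r216 : allRange orbOk 22 12744 59 = true := by decide +kernel
theorem o0u216 : ∀ k, 0 ≤ k → k < 12803 → orbOk (k * 22) = true := between_extend orbOk 22 0 12744 59 (o0u215) o0r216

theorem o0r217 : allRange orbOk 22 12803 59 = true := by decide +kernel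
theorem o0u217 : ∀ k, 0 ≤ k → k < 12862 → orbOk (k * 22) = true := between_extend orbOk 22 0 12803 59 (o0u216) o0r217

theorem o0r218 : allRange orbOk 22 12862 59 = true := by decide +kernel
theorem o0u218 : ∀ k, 0 ≤ k → k < 12921 → orbOk (k * 22) = true := between_extend orbOk 22 0 12862 59 (o0u217) o0r218

theorem o0r219 : allRange orbOk 22 12921 59 = true := by decide +kernel
theorem o0u219 : ∀ k, 0 ≤ k → k < 12980 → orbOk (k * 22) = true := between_extend orbOk 22 0 12921 59 (o0u218) o0r219

theorem o0r220 : allRange orbOk 22 12980 59 = true := by decide +kernel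
theorem o0u220 : ∀ k, 0 ≤ k → k < 13039 → orbOk (k * 22) = true := between_extend orbOk 22 0 12980 59 (o0u219) o0r220

theorem o0r221 : allRange orbOk 22 13039 59 = true := by decide +kernel
theorem o0u221 : ∀ k, 0 ≤ k → k < 13098 → orbOk (k * 22) = true := between_extend orbOk 22 0 13039 59 (o0u220) o0r221

theorem o0r222 : allRange orbOk 22 13098 59 = true := by decide +kernel
theorem o0u222 : ∀ k, 0 ≤ k → k < 13157 → orbOk (k * 22) = true := between_extend orbOk 22 0 13098 59 (o0u221) o0r222

theorem o0r223 : allRange orbOk 22 13157 59 = true := by decide +kernel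
theorem o0u223 : ∀ k, 0 ≤ k → k < 13216 → orbOk (k * 22) = true := between_extend orbOk 22 0 13157 59 (o0u222) o0r223

theorem o0r224 : allRange orbOk 22 13216 59 = true := by decide +kernel
theorem o0u224 : ∀ k, 0 ≤ k → k < 13275 → orbOk (k * 22) = true := between_extend orbOk 22 0 13216 59 (o0u223) o0r224

theorem o0r225 : allRange orbOk 22 13275 59 = true := by decide +kernel
theorem o0u225 : ∀ k, 0 ≤ k → k < 13334 → orbOk (k * 22) = true := between_extend orbOk 22 0 13275 59 (o0u224) o0r225

theorem o0r226 : allRange orbOk 22 13334 59 = true := by decide +kernel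
theorem o0u226 : ∀ k, 0 ≤ k → k < 13393 → orbOk (k * 22) = true := between_extend orbOk 22 0 13334 59 (o0u225) o0r226

theorem o0r227 : allRange orbOk 22 13393 59 = true := by decide +kernel
theorem o0u227 : ∀ k, 0 ≤ k → k < 13452 → orbOk (k * 22) = true := between_extend orbOk 22 0 13393 59 (o0u226) o0r227

theorem o0r228 : allRange orbOk 22 13452 59 = true := by decide +kernel
theorem o0u228 : ∀ k, 0 ≤ k → k < 13511 → orbOk (k * 22) = true := between_extend orbOk 22 0 13452 59 (o0u227) o0r228

theorem o0r229 : allRange orbOk 22 13511 59 = true := by decide +kernel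
theorem o0u229 : ∀ k, 0 ≤ k → k < 13570 → orbOk (k * 22) = true := between_extend orbOk 22 0 13511 59 (o0u228) o0r229

theorem o0r230 : allRange orbOk 22 13570 59 = true := by decide +kernel
theorem o0u230 : ∀ k, 0 ≤ k → k < 13629 → orbOk (k * 22) = true := between_extend orbOk 22 0 13570 59 (o0u229) o0r230

theorem o0r231 : allRange orbOk 22 13629 59 = true := by decide +kernel
theorem o0u231 : ∀ k, 0 ≤ k → k < 13688 → orbOk (k * 22) = true := between_extend orbOk 22 0 13629 59 (o0u230) o0r231

theorem o0r232 : allRange orbOk 22 13688 59 = true := by decide +kernel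
theorem o0u232 : ∀ k, 0 ≤ k → k < 13747 → orbOk (k * 22) = true := between_extend orbOk 22 0 13688 59 (o0u231) o0r232

theorem o0r233 : allRange orbOk 22 13747 59 = true := by decide +kernel
theorem o0u233 : ∀ k, 0 ≤ k → k < 13806 → orbOk (k * 22) = true := between_extend orbOk 22 0 13747 59 (o0u232) o0r233

theorem o0r234 : allRange orbOk 22 13806 59 = true := by decide +kernel
theorem o0u234 : ∀ k, 0 ≤ k → k < 13865 → orbOk (k * 22) = true := between_extend orbOk 22 0 13806 59 (o0u233) o0r234

theorem o0r235 : allRange orbOk 22 13865 59 = true := by decide +kernel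
theorem o0u235 : ∀ k, 0 ≤ k → k < 13924 → orbOk (k * 22) = true := between_extend orbOk 22 0 13865 59 (o0u234) o0r235

theorem o0r236 : allRange orbOk 22 13924 59 = true := by decide +kernel
theorem o0u236 : ∀ k, 0 ≤ k → k < 13983 → orbOk (k * 22) = true := between_extend orbOk 22 0 13924 59 (o0u235) o0r236

theorem o0r237 : allRange orbOk 22 13983 59 = true := by decide +kernel
theorem o0u237 : ∀ k, 0 ≤ k → k < 14042 → orbOk (k * 22) = true := between_extend orbOk 22 0 13983 59 (o0u236) o0r237

theorem o0r238 : allRange orbOk 22 14042 59 = true := by decide +kernel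
theorem o0u238 : ∀ k, 0 ≤ k → k < 14101 → orbOk (k * 22) = true := between_extend orbOk 22 0 14042 59 (o0u237) o0r238

theorem o0r239 : allRange orbOk 22 14101 59 = true := by decide +kernel
theorem o0u239 : ∀ k, 0 ≤ k → k < 14160 → orbOk (k * 22) = true := between_extend orbOk 22 0 14101 59 (o0u238) o0r239

theorem o0r240 : allRange orbOk 22 14160 59 = true := by decide +kernel
theorem o0u240 : ∀ k, 0 ≤ k → k < 14219 → orbOk (k * 22) = true := between_extend orbOk 22 0 14160 59 (o0u239) o0r240

theorem o0r241 : allRange orbOk 22 14219 59 = true := by decide +kernel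
theorem o0u241 : ∀ k, 0 ≤ k → k < 14278 → orbOk (k * 22) = true := between_extend orbOk 22 0 14219 59 (o0u240) o0r241

theorem o0r242 : allRange orbOk 22 14278 59 = true := by decide +kernel
theorem o0u242 : ∀ k, 0 ≤ k → k < 14337 → orbOk (k * 22) = true := between_extend orbOk 22 0 14278 59 (o0u241) o0r242

theorem o0r243 : allRange orbOk 22 14337 59 = true := by decide +kernel
theorem o0u243 : ∀ k, 0 ≤ k → k < 14396 → orbOk (k * 22) = true := between_extend orbOk 22 0 14337 59 (o0u242) o0r243

theorem o0r244 : allRange orbOk 22 14396 59 = true := by decide +kernel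
theorem o0u244 : ∀ k, 0 ≤ k → k < 14455 → orbOk (k * 22) = true := between_extend orbOk 22 0 14396 59 (o0u243) o0r244

theorem o0r245 : allRange orbOk 22 14455 59 = true := by decide +kernel
theorem o0u245 : ∀ k, 0 ≤ k → k < 14514 → orbOk (k * 22) = true := between_extend orbOk 22 0 14455 59 (o0u244) o0r245

theorem o0r246 : allRange orbOk 22 14514 59 = true := by decide +kernel
theorem o0u246 : ∀ k, 0 ≤ k → k < 14573 → orbOk (k * 22) = true := between_extend orbOk 22 0 14514 59 (o0u245) o0r246

theorem o0r247 : allRange orbOk 22 14573 59 = true := by decide +kernel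
theorem o0u247 : ∀ k, 0 ≤ k → k < 14632 → orbOk (k * 22) = true := between_extend orbOk 22 0 14573 59 (o0u246) o0r247

theorem o0r248 : allRange orbOk 22 14632 59 = true := by decide +kernel
theorem o0u248 : ∀ k, 0 ≤ k → k < 14691 → orbOk (k * 22) = true := between_extend orbOk 22 0 14632 59 (o0u247) o0r248

theorem o0r249 : allRange orbOk 22 14691 59 = true := by decide +kernel
theorem o0u249 : ∀ k, 0 ≤ k → k < 14750 → orbOk (k * 22) = true := between_extend orbOk 22 0 14691 59 (o0u248) o0r249

theorem o0r250 : allRange orbOk 22 14750 59 = true := by decide +kernel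
theorem o0u250 : ∀ k, 0 ≤ k → k < 14809 → orbOk (k * 22) = true := between_extend orbOk 22 0 14750 59 (o0u249) o0r250

theorem o0r251 : allRange orbOk 22 14809 59 = true := by decide +kernel
theorem o0u251 : ∀ k, 0 ≤ k → k < 14868 → orbOk (k * 22) = true := between_extend orbOk 22 0 14809 59 (o0u250) o0r251

theorem o0r252 : allRange orbOk 22 14868 59 = true := by decide +kernel
theorem o0u252 : ∀ k, 0 ≤ k → k < 14927 → orbOk (k * 22) = true := between_extend orbOk 22 0 14868 59 (o0u251) o0r252

theorem o0r253 : allRange orbOk 22 14927 59 = true := by decide +kernel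
theorem o0u253 : ∀ k, 0 ≤ k → k < 14986 → orbOk (k * 22) = true := between_extend orbOk 22 0 14927 59 (o0u252) o0r253

theorem o0r254 : allRange orbOk 22 14986 59 = true := by decide +kernel
theorem o0u254 : ∀ k, 0 ≤ k → k < 15045 → orbOk (k * 22) = true := between_extend orbOk 22 0 14986 59 (o0u253) o0r254

theorem o0r255 : allRange orbOk 22 15045 59 = true := by decide +kernel
theorem o0u255 : ∀ k, 0 ≤ k → k < 15104 → orbOk (k * 22) = true := between_extend orbOk 22 0 15045 59 (o0u254) o0r255

theorem o0r256 : allRange orbOk 22 15104 59 = true := by decide +kernel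
theorem o0u256 : ∀ k, 0 ≤ k → k < 15163 → orbOk (k * 22) = true := between_extend orbOk 22 0 15104 59 (o0u255) o0r256

theorem o0r257 : allRange orbOk 22 15163 59 = true := by decide +kernel
theorem o0u257 : ∀ k, 0 ≤ k → k < 15222 → orbOk (k * 22) = true := between_extend orbOk 22 0 15163 59 (o0u256) o0r257

theorem o0r258 : allRange orbOk 22 15222 59 = true := by decide +kernel
theorem o0u258 : ∀ k, 0 ≤ k → k < 15281 → orbOk (k * 22) = true := between_extend orbOk 22 0 15222 59 (o0u257) o0r258

theorem o0r259 : allRange orbOk 22 15281 59 = true := by decide +kernel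
theorem o0u259 : ∀ k, 0 ≤ k → k < 15340 → orbOk (k * 22) = true := between_extend orbOk 22 0 15281 59 (o0u258) o0r259

theorem o0r260 : allRange orbOk 22 15340 59 = true := by decide +kernel
theorem o0u260 : ∀ k, 0 ≤ k → k < 15399 → orbOk (k * 22) = true := between_extend orbOk 22 0 15340 59 (o0u259) o0r260

theorem o0r261 : allRange orbOk 22 15399 59 = true := by decide +kernel
theorem o0u261 : ∀ k, 0 ≤ k → k < 15458 → orbOk (k * 22) = true := between_extend orbOk 22 0 15399 59 (o0u260) o0r261

theorem o0r262 : allRange orbOk 22 15458 59 = true := by decide +kernel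
theorem o0u262 : ∀ k, 0 ≤ k → k < 15517 → orbOk (k * 22) = true := between_extend orbOk 22 0 15458 59 (o0u261) o0r262

theorem o0r263 : allRange orbOk 22 15517 59 = true := by decide +kernel
theorem o0u263 : ∀ k, 0 ≤ k → k < 15576 → orbOk (k * 22) = true := between_extend orbOk 22 0 15517 59 (o0u262) o0r263

theorem o0r264 : allRange orbOk 22 15576 59 = true := by decide +kernel
theorem o0u264 : ∀ k, 0 ≤ k → k < 15635 → orbOk (k * 22) = true := between_extend orbOk 22 0 15576 59 (o0u263) o0r264

theorem o0r265 : allRange orbOk 22 15635 59 = true := by decide +kernel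
theorem o0u265 : ∀ k, 0 ≤ k → k < 15694 → orbOk (k * 22) = true := between_extend orbOk 22 0 15635 59 (o0u264) o0r265

theorem o0r266 : allRange orbOk 22 15694 59 = true := by decide +kernel
theorem o0u266 : ∀ k, 0 ≤ k → k < 15753 → orbOk (k * 22) = true := between_extend orbOk 22 0 15694 59 (o0u265) o0r266

theorem o0r267 : allRange orbOk 22 15753 59 = true := by decide +kernel
theorem o0u267 : ∀ k, 0 ≤ k → k < 15812 → orbOk (k * 22) = true := between_extend orbOk 22 0 15753 59 (o0u266) o0r267

theorem o0r268 : allRange orbOk 22 15812 59 = true := by decide +kernel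
theorem o0u268 : ∀ k, 0 ≤ k → k < 15871 → orbOk (k * 22) = true := between_extend orbOk 22 0 15812 59 (o0u267) o0r268

theorem o0r269 : allRange orbOk 22 15871 59 = true := by decide +kernel
theorem o0u269 : ∀ k, 0 ≤ k → k < 15930 → orbOk (k * 22) = true := between_extend orbOk 22 0 15871 59 (o0u268) o0r269

theorem o0r270 : allRange orbOk 22 15930 59 = true := by decide +kernel
theorem o0u270 : ∀ k, 0 ≤ k → k < 15989 → orbOk (k * 22) = true := between_extend orbOk 22 0 15930 59 (o0u269) o0r270

theorem o0r271 : allRange orbOk 22 15989 59 = true := by decide +kernel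
theorem o0u271 : ∀ k, 0 ≤ k → k < 16048 → orbOk (k * 22) = true := between_extend orbOk 22 0 15989 59 (o0u270) o0r271

theorem o0r272 : allRange orbOk 22 16048 59 = true := by decide +kernel
theorem o0u272 : ∀ k, 0 ≤ k → k < 16107 → orbOk (k * 22) = true := between_extend orbOk 22 0 16048 59 (o0u271) o0r272

theorem o0r273 : allRange orbOk 22 16107 59 = true := by decide +kernel
theorem o0u273 : ∀ k, 0 ≤ k → k < 16166 → orbOk (k * 22) = true := between_extend orbOk 22 0 16107 59 (o0u272) o0r273

theorem o0r274 : allRange orbOk 22 16166 59 = true := by decide +kernel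
theorem o0u274 : ∀ k, 0 ≤ k → k < 16225 → orbOk (k * 22) = true := between_extend orbOk 22 0 16166 59 (o0u273) o0r274

theorem o0r275 : allRange orbOk 22 16225 59 = true := by decide +kernel
theorem o0u275 : ∀ k, 0 ≤ k → k < 16284 → orbOk (k * 22) = true := between_extend orbOk 22 0 16225 59 (o0u274) o0r275

theorem o0r276 : allRange orbOk 22 16284 59 = true := by decide +kernel
theorem o0u276 : ∀ k, 0 ≤ k → k < 16343 → orbOk (k * 22) = true := between_extend orbOk 22 0 16284 59 (o0u275) o0r276

theorem o0r277 : allRange orbOk 22 16343 59 = true := by decide +kernel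
theorem o0u277 : ∀ k, 0 ≤ k → k < 16402 → orbOk (k * 22) = true := between_extend orbOk 22 0 16343 59 (o0u276) o0r277

theorem o0r278 : allRange orbOk 22 16402 59 = true := by decide +kernel
theorem o0u278 : ∀ k, 0 ≤ k → k < 16461 → orbOk (k * 22) = true := between_extend orbOk 22 0 16402 59 (o0u277) o0r278

theorem o0r279 : allRange orbOk 22 16461 59 = true := by decide +kernel
theorem o0u279 : ∀ k, 0 ≤ k → k < 16520 → orbOk (k * 22) = true := between_extend orbOk 22 0 16461 59 (o0u278) o0r279

theorem o0r280 : allRange orbOk 22 16520 59 = true := by decide +kernel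
theorem o0u280 : ∀ k, 0 ≤ k → k < 16579 → orbOk (k * 22) = true := between_extend orbOk 22 0 16520 59 (o0u279) o0r280

theorem o0r281 : allRange orbOk 22 16579 59 = true := by decide +kernel
theorem o0u281 : ∀ k, 0 ≤ k → k < 16638 → orbOk (k * 22) = true := between_extend orbOk 22 0 16579 59 (o0u280) o0r281

theorem o0r282 : allRange orbOk 22 16638 59 = true := by decide +kernel
theorem o0u282 : ∀ k, 0 ≤ k → k < 16697 → orbOk (k * 22) = true := between_extend orbOk 22 0 16638 59 (o0u281) o0r282

theorem o0r283 : allRange orbOk 22 16697 59 = true := by decide +kernel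
theorem o0u283 : ∀ k, 0 ≤ k → k < 16756 → orbOk (k * 22) = true := between_extend orbOk 22 0 16697 59 (o0u282) o0r283

theorem o0r284 : allRange orbOk 22 16756 59 = true := by decide +kernel
theorem o0u284 : ∀ k, 0 ≤ k → k < 16815 → orbOk (k * 22) = true := between_extend orbOk 22 0 16756 59 (o0u283) o0r284

theorem o0r285 : allRange orbOk 22 16815 59 = true := by decide +kernel
theorem o0u285 : ∀ k, 0 ≤ k → k < 16874 → orbOk (k * 22) = true := between_extend orbOk 22 0 16815 59 (o0u284) o0r285

theorem o0r286 : allRange orbOk 22 16874 59 = true := by decide +kernel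
theorem o0u286 : ∀ k, 0 ≤ k → k < 16933 → orbOk (k * 22) = true := between_extend orbOk 22 0 16874 59 (o0u285) o0r286

theorem o0r287 : allRange orbOk 22 16933 59 = true := by decide +kernel
theorem o0u287 : ∀ k, 0 ≤ k → k < 16992 → orbOk (k * 22) = true := between_extend orbOk 22 0 16933 59 (o0u286) o0r287

theorem o0r288 : allRange orbOk 22 16992 59 = true := by decide +kernel
theorem o0u288 : ∀ k, 0 ≤ k → k < 17051 → orbOk (k * 22) = true := between_extend orbOk 22 0 16992 59 (o0u287) o0r288

theorem o0r289 : allRange orbOk 22 17051 59 = true := by decide +kernel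
theorem o0u289 : ∀ k, 0 ≤ k → k < 17110 → orbOk (k * 22) = true := between_extend orbOk 22 0 17051 59 (o0u288) o0r289

theorem o0r290 : allRange orbOk 22 17110 59 = true := by decide +kernel
theorem o0u290 : ∀ k, 0 ≤ k → k < 17169 → orbOk (k * 22) = true := between_extend orbOk 22 0 17110 59 (o0u289) o0r290

theorem o0r291 : allRange orbOk 22 17169 59 = true := by decide +kernel
theorem o0u291 : ∀ k, 0 ≤ k → k < 17228 → orbOk (k * 22) = true := between_extend orbOk 22 0 17169 59 (o0u290) o0r291

theorem o0r292 : allRange orbOk 22 17228 59 = true := by decide +kernel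
theorem o0u292 : ∀ k, 0 ≤ k → k < 17287 → orbOk (k * 22) = true := between_extend orbOk 22 0 17228 59 (o0u291) o0r292

theorem o0r293 : allRange orbOk 22 17287 59 = true := by decide +kernel
theorem o0u293 : ∀ k, 0 ≤ k → k < 17346 → orbOk (k * 22) = true := between_extend orbOk 22 0 17287 59 (o0u292) o0r293

theorem o0r294 : allRange orbOk 22 17346 59 = true := by decide +kernel
theorem o0u294 : ∀ k, 0 ≤ k → k < 17405 → orbOk (k * 22) = true := between_extend orbOk 22 0 17346 59 (o0u293) o0r294

theorem o0r295 : allRange orbOk 22 17405 59 = true := by decide +kernel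
theorem o0u295 : ∀ k, 0 ≤ k → k < 17464 → orbOk (k * 22) = true := between_extend orbOk 22 0 17405 59 (o0u294) o0r295

theorem o0r296 : allRange orbOk 22 17464 59 = true := by decide +kernel
theorem o0u296 : ∀ k, 0 ≤ k → k < 17523 → orbOk (k * 22) = true := between_extend orbOk 22 0 17464 59 (o0u295) o0r296

theorem o0r297 : allRange orbOk 22 17523 59 = true := by decide +kernel
theorem o0u297 : ∀ k, 0 ≤ k → k < 17582 → orbOk (k * 22) = true := between_extend orbOk 22 0 17523 59 (o0u296) o0r297

theorem o0r298 : allRange orbOk 22 17582 59 = true := by decide +kernel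
theorem o0u298 : ∀ k, 0 ≤ k → k < 17641 → orbOk (k * 22) = true := between_extend orbOk 22 0 17582 59 (o0u297) o0r298

theorem o0r299 : allRange orbOk 22 17641 59 = true := by decide +kernel
theorem o0u299 : ∀ k, 0 ≤ k → k < 17700 → orbOk (k * 22) = true := between_extend orbOk 22 0 17641 59 (o0u298) o0r299

theorem o0r300 : allRange orbOk 22 17700 59 = true := by decide +kernel
theorem o0u300 : ∀ k, 0 ≤ k → k < 17759 → orbOk (k * 22) = true := between_extend orbOk 22 0 17700 59 (o0u299) o0r300

theorem o0r301 : allRange orbOk 22 17759 59 = true := by decide +kernel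
theorem o0u301 : ∀ k, 0 ≤ k → k < 17818 → orbOk (k * 22) = true := between_extend orbOk 22 0 17759 59 (o0u300) o0r301

theorem o0r302 : allRange orbOk 22 17818 59 = true := by decide +kernel
theorem o0u302 : ∀ k, 0 ≤ k → k < 17877 → orbOk (k * 22) = true := between_extend orbOk 22 0 17818 59 (o0u301) o0r302

theorem o0r303 : allRange orbOk 22 17877 59 = true := by decide +kernel
theorem o0u303 : ∀ k, 0 ≤ k → k < 17936 → orbOk (k * 22) = true := between_extend orbOk 22 0 17877 59 (o0u302) o0r303

theorem o0r304 : allRange orbOk 22 17936 59 = true := by decide +kernel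
theorem o0u304 : ∀ k, 0 ≤ k → k < 17995 → orbOk (k * 22) = true := between_extend orbOk 22 0 17936 59 (o0u303) o0r304

theorem o0r305 : allRange orbOk 22 17995 59 = true := by decide +kernel
theorem o0u305 : ∀ k, 0 ≤ k → k < 18054 → orbOk (k * 22) = true := between_extend orbOk 22 0 17995 59 (o0u304) o0r305

theorem o0r306 : allRange orbOk 22 18054 59 = true := by decide +kernel
theorem o0u306 : ∀ k, 0 ≤ k → k < 18113 → orbOk (k * 22) = true := between_extend orbOk 22 0 18054 59 (o0u305) o0r306

theorem o0r307 : allRange orbOk 22 18113 59 = true := by decide +kernel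
theorem o0u307 : ∀ k, 0 ≤ k → k < 18172 → orbOk (k * 22) = true := between_extend orbOk 22 0 18113 59 (o0u306) o0r307

theorem o0r308 : allRange orbOk 22 18172 59 = true := by decide +kernel
theorem o0u308 : ∀ k, 0 ≤ k → k < 18231 → orbOk (k * 22) = true := between_extend orbOk 22 0 18172 59 (o0u307) o0r308

theorem o0r309 : allRange orbOk 22 18231 59 = true := by decide +kernel
theorem o0u309 : ∀ k, 0 ≤ k → k < 18290 → orbOk (k * 22) = true := between_extend orbOk 22 0 18231 59 (o0u308) o0r309

theorem o0r310 : allRange orbOk 22 18290 59 = true := by decide +kernel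
theorem o0u310 : ∀ k, 0 ≤ k → k < 18349 → orbOk (k * 22) = true := between_extend orbOk 22 0 18290 59 (o0u309) o0r310

theorem o0r311 : allRange orbOk 22 18349 59 = true := by decide +kernel
theorem o0u311 : ∀ k, 0 ≤ k → k < 18408 → orbOk (k * 22) = true := between_extend orbOk 22 0 18349 59 (o0u310) o0r311

theorem o0r312 : allRange orbOk 22 18408 59 = true := by decide +kernel
theorem o0u312 : ∀ k, 0 ≤ k → k < 18467 → orbOk (k * 22) = true := between_extend orbOk 22 0 18408 59 (o0u311) o0r312

theorem o0r313 : allRange orbOk 22 18467 59 = true := by decide +kernel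
theorem o0u313 : ∀ k, 0 ≤ k → k < 18526 → orbOk (k * 22) = true := between_extend orbOk 22 0 18467 59 (o0u312) o0r313

theorem o0r314 : allRange orbOk 22 18526 59 = true := by decide +kernel
theorem o0u314 : ∀ k, 0 ≤ k → k < 18585 → orbOk (k * 22) = true := between_extend orbOk 22 0 18526 59 (o0u313) o0r314

theorem o0r315 : allRange orbOk 22 18585 59 = true := by decide +kernel
theorem o0u315 : ∀ k, 0 ≤ k → k < 18644 → orbOk (k * 22) = true := between_extend orbOk 22 0 18585 59 (o0u314) o0r315

theorem o0r316 : allRange orbOk 22 18644 59 = true := by decide +kernel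
theorem o0u316 : ∀ k, 0 ≤ k → k < 18703 → orbOk (k * 22) = true := between_extend orbOk 22 0 18644 59 (o0u315) o0r316

theorem o0r317 : allRange orbOk 22 18703 59 = true := by decide +kernel
theorem o0u317 : ∀ k, 0 ≤ k → k < 18762 → orbOk (k * 22) = true := between_extend orbOk 22 0 18703 59 (o0u316) o0r317

theorem o0r318 : allRange orbOk 22 18762 59 = true := by decide +kernel
theorem o0u318 : ∀ k, 0 ≤ k → k < 18821 → orbOk (k * 22) = true := between_extend orbOk 22 0 18762 59 (o0u317) o0r318

theorem o0r319 : allRange orbOk 22 18821 59 = true := by decide +kernel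
theorem o0u319 : ∀ k, 0 ≤ k → k < 18880 → orbOk (k * 22) = true := between_extend orbOk 22 0 18821 59 (o0u318) o0r319

theorem o0r320 : allRange orbOk 22 18880 59 = true := by decide +kernel
theorem o0u320 : ∀ k, 0 ≤ k → k < 18939 → orbOk (k * 22) = true := between_extend orbOk 22 0 18880 59 (o0u319) o0r320

theorem o0r321 : allRange orbOk 22 18939 59 = true := by decide +kernel
theorem o0u321 : ∀ k, 0 ≤ k → k < 18998 → orbOk (k * 22) = true := between_extend orbOk 22 0 18939 59 (o0u320) o0r321

theorem o0r322 : allRange orbOk 22 18998 59 = true := by decide +kernel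
theorem o0u322 : ∀ k, 0 ≤ k → k < 19057 → orbOk (k * 22) = true := between_extend orbOk 22 0 18998 59 (o0u321) o0r322

theorem o0r323 : allRange orbOk 22 19057 59 = true := by decide +kernel
theorem o0u323 : ∀ k, 0 ≤ k → k < 19116 → orbOk (k * 22) = true := between_extend orbOk 22 0 19057 59 (o0u322) o0r323

theorem o0r324 : allRange orbOk 22 19116 59 = true := by decide +kernel
theorem o0u324 : ∀ k, 0 ≤ k → k < 19175 → orbOk (k * 22) = true := between_extend orbOk 22 0 19116 59 (o0u323) o0r324

theorem o0r325 : allRange orbOk 22 19175 59 = true := by decide +kernel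
theorem o0u325 : ∀ k, 0 ≤ k → k < 19234 → orbOk (k * 22) = true := between_extend orbOk 22 0 19175 59 (o0u324) o0r325

theorem o0r326 : allRange orbOk 22 19234 59 = true := by decide +kernel
theorem o0u326 : ∀ k, 0 ≤ k → k < 19293 → orbOk (k * 22) = true := between_extend orbOk 22 0 19234 59 (o0u325) o0r326

theorem o0r327 : allRange orbOk 22 19293 59 = true := by decide +kernel
theorem o0u327 : ∀ k, 0 ≤ k → k < 19352 → orbOk (k * 22) = true := between_extend orbOk 22 0 19293 59 (o0u326) o0r327

theorem o0r328 : allRange orbOk 22 19352 59 = true := by decide +kernel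
theorem o0u328 : ∀ k, 0 ≤ k → k < 19411 → orbOk (k * 22) = true := between_extend orbOk 22 0 19352 59 (o0u327) o0r328

theorem o0r329 : allRange orbOk 22 19411 59 = true := by decide +kernel
theorem o0u329 : ∀ k, 0 ≤ k → k < 19470 → orbOk (k * 22) = true := between_extend orbOk 22 0 19411 59 (o0u328) o0r329

theorem o0r330 : allRange orbOk 22 19470 59 = true := by decide +kernel
theorem o0u330 : ∀ k, 0 ≤ k → k < 19529 → orbOk (k * 22) = true := between_extend orbOk 22 0 19470 59 (o0u329) o0r330

theorem o0r331 : allRange orbOk 22 19529 59 = true := by decide +kernel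
theorem o0u331 : ∀ k, 0 ≤ k → k < 19588 → orbOk (k * 22) = true := between_extend orbOk 22 0 19529 59 (o0u330) o0r331

theorem o0r332 : allRange orbOk 22 19588 59 = true := by decide +kernel
theorem o0u332 : ∀ k, 0 ≤ k → k < 19647 → orbOk (k * 22) = true := between_extend orbOk 22 0 19588 59 (o0u331) o0r332

theorem o0r333 : allRange orbOk 22 19647 59 = true := by decide +kernel
theorem o0u333 : ∀ k, 0 ≤ k → k < 19706 → orbOk (k * 22) = true := between_extend orbOk 22 0 19647 59 (o0u332) o0r333

theorem o0r334 : allRange orbOk 22 19706 59 = true := by decide +kernel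
theorem o0u334 : ∀ k, 0 ≤ k → k < 19765 → orbOk (k * 22) = true := between_extend orbOk 22 0 19706 59 (o0u333) o0r334

theorem o0r335 : allRange orbOk 22 19765 59 = true := by decide +kernel
theorem o0u335 : ∀ k, 0 ≤ k → k < 19824 → orbOk (k * 22) = true := between_extend orbOk 22 0 19765 59 (o0u334) o0r335

theorem o0r336 : allRange orbOk 22 19824 59 = true := by decide +kernel
theorem o0u336 : ∀ k, 0 ≤ k → k < 19883 → orbOk (k * 22) = true := between_extend orbOk 22 0 19824 59 (o0u335) o0r336

theorem o0r337 : allRange orbOk 22 19883 59 = true := by decide +kernel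
theorem o0u337 : ∀ k, 0 ≤ k → k < 19942 → orbOk (k * 22) = true := between_extend orbOk 22 0 19883 59 (o0u336) o0r337

theorem o0r338 : allRange orbOk 22 19942 59 = true := by decide +kernel
theorem o0u338 : ∀ k, 0 ≤ k → k < 20001 → orbOk (k * 22) = true := between_extend orbOk 22 0 19942 59 (o0u337) o0r338

theorem o0r339 : allRange orbOk 22 20001 59 = true := by decide +kernel
theorem o0u339 : ∀ k, 0 ≤ k → k < 20060 → orbOk (k * 22) = true := between_extend orbOk 22 0 20001 59 (o0u338) o0r339

theorem o0r340 : allRange orbOk 22 20060 59 = true := by decide +kernel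
theorem o0u340 : ∀ k, 0 ≤ k → k < 20119 → orbOk (k * 22) = true := between_extend orbOk 22 0 20060 59 (o0u339) o0r340

theorem o0r341 : allRange orbOk 22 20119 59 = true := by decide +kernel
theorem o0u341 : ∀ k, 0 ≤ k → k < 20178 → orbOk (k * 22) = true := between_extend orbOk 22 0 20119 59 (o0u340) o0r341

theorem o0r342 : allRange orbOk 22 20178 59 = true := by decide +kernel
theorem o0u342 : ∀ k, 0 ≤ k → k < 20237 → orbOk (k * 22) = true := between_extend orbOk 22 0 20178 59 (o0u341) o0r342

theorem o0r343 : allRange orbOk 22 20237 59 = true := by decide +kernel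
theorem o0u343 : ∀ k, 0 ≤ k → k < 20296 → orbOk (k * 22) = true := between_extend orbOk 22 0 20237 59 (o0u342) o0r343

theorem o0r344 : allRange orbOk 22 20296 59 = true := by decide +kernel
theorem o0u344 : ∀ k, 0 ≤ k → k < 20355 → orbOk (k * 22) = true := between_extend orbOk 22 0 20296 59 (o0u343) o0r344

theorem o0r345 : allRange orbOk 22 20355 59 = true := by decide +kernel
theorem o0u345 : ∀ k, 0 ≤ k → k < 20414 → orbOk (k * 22) = true := between_extend orbOk 22 0 20355 59 (o0u344) o0r345

theorem o0r346 : allRange orbOk 22 20414 59 = true := by decide +kernel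
theorem o0u346 : ∀ k, 0 ≤ k → k < 20473 → orbOk (k * 22) = true := between_extend orbOk 22 0 20414 59 (o0u345) o0r346

theorem o0r347 : allRange orbOk 22 20473 59 = true := by decide +kernel
theorem o0u347 : ∀ k, 0 ≤ k → k < 20532 → orbOk (k * 22) = true := between_extend orbOk 22 0 20473 59 (o0u346) o0r347

theorem o0r348 : allRange orbOk 22 20532 59 = true := by decide +kernel
theorem o0u348 : ∀ k, 0 ≤ k → k < 20591 → orbOk (k * 22) = true := between_extend orbOk 22 0 20532 59 (o0u347) o0r348

theorem o0r349 : allRange orbOk 22 20591 59 = true := by decide +kernel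
theorem o0u349 : ∀ k, 0 ≤ k → k < 20650 → orbOk (k * 22) = true := between_extend orbOk 22 0 20591 59 (o0u348) o0r349

theorem o0r350 : allRange orbOk 22 20650 59 = true := by decide +kernel
theorem o0u350 : ∀ k, 0 ≤ k → k < 20709 → orbOk (k * 22) = true := between_extend orbOk 22 0 20650 59 (o0u349) o0r350

theorem o0r351 : allRange orbOk 22 20709 59 = true := by decide +kernel
theorem o0u351 : ∀ k, 0 ≤ k → k < 20768 → orbOk (k * 22) = true := between_extend orbOk 22 0 20709 59 (o0u350) o0r351

theorem o0r352 : allRange orbOk 22 20768 59 = true := by decide +kernel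
theorem o0u352 : ∀ k, 0 ≤ k → k < 20827 → orbOk (k * 22) = true := between_extend orbOk 22 0 20768 59 (o0u351) o0r352

theorem o0r353 : allRange orbOk 22 20827 59 = true := by decide +kernel
theorem o0u353 : ∀ k, 0 ≤ k → k < 20886 → orbOk (k * 22) = true := between_extend orbOk 22 0 20827 59 (o0u352) o0r353

theorem o0r354 : allRange orbOk 22 20886 59 = true := by decide +kernel
theorem o0u354 : ∀ k, 0 ≤ k → k < 20945 → orbOk (k * 22) = true := between_extend orbOk 22 0 20886 59 (o0u353) o0r354

theorem o0r355 : allRange orbOk 22 20945 59 = true := by decide +kernel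
theorem o0u355 : ∀ k, 0 ≤ k → k < 21004 → orbOk (k * 22) = true := between_extend orbOk 22 0 20945 59 (o0u354) o0r355

theorem o0r356 : allRange orbOk 22 21004 59 = true := by decide +kernel
theorem o0u356 : ∀ k, 0 ≤ k → k < 21063 → orbOk (k * 22) = true := between_extend orbOk 22 0 21004 59 (o0u355) o0r356

theorem o0r357 : allRange orbOk 22 21063 59 = true := by decide +kernel
theorem o0u357 : ∀ k, 0 ≤ k → k < 21122 → orbOk (k * 22) = true := between_extend orbOk 22 0 21063 59 (o0u356) o0r357

theorem o0r358 : allRange orbOk 22 21122 59 = true := by decide +kernel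
theorem o0u358 : ∀ k, 0 ≤ k → k < 21181 → orbOk (k * 22) = true := between_extend orbOk 22 0 21122 59 (o0u357) o0r358

theorem o0r359 : allRange orbOk 22 21181 59 = true := by decide +kernel
theorem o0u359 : ∀ k, 0 ≤ k → k < 21240 → orbOk (k * 22) = true := between_extend orbOk 22 0 21181 59 (o0u358) o0r359

theorem o0r360 : allRange orbOk 22 21240 59 = true := by decide +kernel
theorem o0u360 : ∀ k, 0 ≤ k → k < 21299 → orbOk (k * 22) = true := between_extend orbOk 22 0 21240 59 (o0u359) o0r360

theorem o0r361 : allRange orbOk 22 21299 59 = true := by decide +kernel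
theorem o0u361 : ∀ k, 0 ≤ k → k < 21358 → orbOk (k * 22) = true := between_extend orbOk 22 0 21299 59 (o0u360) o0r361

theorem o0r362 : allRange orbOk 22 21358 59 = true := by decide +kernel
theorem o0u362 : ∀ k, 0 ≤ k → k < 21417 → orbOk (k * 22) = true := between_extend orbOk 22 0 21358 59 (o0u361) o0r362

theorem o0r363 : allRange orbOk 22 21417 59 = true := by decide +kernel
theorem o0u363 : ∀ k, 0 ≤ k → k < 21476 → orbOk (k * 22) = true := between_extend orbOk 22 0 21417 59 (o0u362) o0r363

theorem o0r364 : allRange orbOk 22 21476 59 = true := by decide +kernel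
theorem o0u364 : ∀ k, 0 ≤ k → k < 21535 → orbOk (k * 22) = true := between_extend orbOk 22 0 21476 59 (o0u363) o0r364

theorem o0r365 : allRange orbOk 22 21535 59 = true := by decide +kernel
theorem o0u365 : ∀ k, 0 ≤ k → k < 21594 → orbOk (k * 22) = true := between_extend orbOk 22 0 21535 59 (o0u364) o0r365

theorem o0r366 : allRange orbOk 22 21594 59 = true := by decide +kernel
theorem o0u366 : ∀ k, 0 ≤ k → k < 21653 → orbOk (k * 22) = true := between_extend orbOk 22 0 21594 59 (o0u365) o0r366

theorem o0r367 : allRange orbOk 22 21653 59 = true := by decide +kernel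
theorem o0u367 : ∀ k, 0 ≤ k → k < 21712 → orbOk (k * 22) = true := between_extend orbOk 22 0 21653 59 (o0u366) o0r367

theorem o0r368 : allRange orbOk 22 21712 59 = true := by decide +kernel
theorem o0u368 : ∀ k, 0 ≤ k → k < 21771 → orbOk (k * 22) = true := between_extend orbOk 22 0 21712 59 (o0u367) o0r368

theorem o0r369 : allRange orbOk 22 21771 59 = true := by decide +kernel
theorem o0u369 : ∀ k, 0 ≤ k → k < 21830 → orbOk (k * 22) = true := between_extend orbOk 22 0 21771 59 (o0u368) o0r369

theorem o0r370 : allRange orbOk 22 21830 59 = true := by decide +kernel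
theorem o0u370 : ∀ k, 0 ≤ k → k < 21889 → orbOk (k * 22) = true := between_extend orbOk 22 0 21830 59 (o0u369) o0r370

theorem o0r371 : allRange orbOk 22 21889 59 = true := by decide +kernel
theorem o0u371 : ∀ k, 0 ≤ k → k < 21948 → orbOk (k * 22) = true := between_extend orbOk 22 0 21889 59 (o0u370) o0r371

theorem o0r372 : allRange orbOk 22 21948 59 = true := by decide +kernel
theorem o0u372 : ∀ k, 0 ≤ k → k < 22007 → orbOk (k * 22) = true := between_extend orbOk 22 0 21948 59 (o0u371) o0r372

theorem o0r373 : allRange orbOk 22 22007 59 = true := by decide +kernel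
theorem o0u373 : ∀ k, 0 ≤ k → k < 22066 → orbOk (k * 22) = true := between_extend orbOk 22 0 22007 59 (o0u372) o0r373

theorem o0r374 : allRange orbOk 22 22066 59 = true := by decide +kernel
theorem o0u374 : ∀ k, 0 ≤ k → k < 22125 → orbOk (k * 22) = true := between_extend orbOk 22 0 22066 59 (o0u373) o0r374

theorem o0r375 : allRange orbOk 22 22125 59 = true := by decide +kernel
theorem o0u375 : ∀ k, 0 ≤ k → k < 22184 → orbOk (k * 22) = true := between_extend orbOk 22 0 22125 59 (o0u374) o0r375

theorem o0r376 : allRange orbOk 22 22184 59 = true := by decide +kernel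
theorem o0u376 : ∀ k, 0 ≤ k → k < 22243 → orbOk (k * 22) = true := between_extend orbOk 22 0 22184 59 (o0u375) o0r376

theorem o0r377 : allRange orbOk 22 22243 59 = true := by decide +kernel
theorem o0u377 : ∀ k, 0 ≤ k → k < 22302 → orbOk (k * 22) = true := between_extend orbOk 22 0 22243 59 (o0u376) o0r377

theorem o0r378 : allRange orbOk 22 22302 59 = true := by decide +kernel
theorem o0u378 : ∀ k, 0 ≤ k → k < 22361 → orbOk (k * 22) = true := between_extend orbOk 22 0 22302 59 (o0u377) o0r378

theorem o0r379 : allRange orbOk 22 22361 59 = true := by decide +kernel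
theorem o0u379 : ∀ k, 0 ≤ k → k < 22420 → orbOk (k * 22) = true := between_extend orbOk 22 0 22361 59 (o0u378) o0r379

theorem o0r380 : allRange orbOk 22 22420 59 = true := by decide +kernel
theorem o0u380 : ∀ k, 0 ≤ k → k < 22479 → orbOk (k * 22) = true := between_extend orbOk 22 0 22420 59 (o0u379) o0r380

theorem o0r381 : allRange orbOk 22 22479 59 = true := by decide +kernel
theorem o0u381 : ∀ k, 0 ≤ k → k < 22538 → orbOk (k * 22) = true := between_extend orbOk 22 0 22479 59 (o0u380) o0r381

theorem o0r382 : allRange orbOk 22 22538 59 = true := by decide +kernel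
theorem o0u382 : ∀ k, 0 ≤ k → k < 22597 → orbOk (k * 22) = true := between_extend orbOk 22 0 22538 59 (o0u381) o0r382

theorem o0r383 : allRange orbOk 22 22597 59 = true := by decide +kernel
theorem o0u383 : ∀ k, 0 ≤ k → k < 22656 → orbOk (k * 22) = true := between_extend orbOk 22 0 22597 59 (o0u382) o0r383

theorem o0r384 : allRange orbOk 22 22656 59 = true := by decide +kernel
theorem o0u384 : ∀ k, 0 ≤ k → k < 22715 → orbOk (k * 22) = true := between_extend orbOk 22 0 22656 59 (o0u383) o0r384

theorem o0r385 : allRange orbOk 22 22715 59 = true := by decide +kernel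
theorem o0u385 : ∀ k, 0 ≤ k → k < 22774 → orbOk (k * 22) = true := between_extend orbOk 22 0 22715 59 (o0u384) o0r385

theorem o0r386 : allRange orbOk 22 22774 59 = true := by decide +kernel
theorem o0u386 : ∀ k, 0 ≤ k → k < 22833 → orbOk (k * 22) = true := between_extend orbOk 22 0 22774 59 (o0u385) o0r386

theorem o0r387 : allRange orbOk 22 22833 59 = true := by decide +kernel
theorem o0u387 : ∀ k, 0 ≤ k → k < 22892 → orbOk (k * 22) = true := between_extend orbOk 22 0 22833 59 (o0u386) o0r387

theorem o0r388 : allRange orbOk 22 22892 59 = true := by decide +kernel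
theorem o0u388 : ∀ k, 0 ≤ k → k < 22951 → orbOk (k * 22) = true := between_extend orbOk 22 0 22892 59 (o0u387) o0r388

theorem o0r389 : allRange orbOk 22 22951 59 = true := by decide +kernel
theorem o0u389 : ∀ k, 0 ≤ k → k < 23010 → orbOk (k * 22) = true := between_extend orbOk 22 0 22951 59 (o0u388) o0r389

theorem o0r390 : allRange orbOk 22 23010 59 = true := by decide +kernel
theorem o0u390 : ∀ k, 0 ≤ k → k < 23069 → orbOk (k * 22) = true := between_extend orbOk 22 0 23010 59 (o0u389) o0r390

theorem o0r391 : allRange orbOk 22 23069 59 = true := by decide +kernel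
theorem o0u391 : ∀ k, 0 ≤ k → k < 23128 → orbOk (k * 22) = true := between_extend orbOk 22 0 23069 59 (o0u390) o0r391

theorem o0r392 : allRange orbOk 22 23128 59 = true := by decide +kernel
theorem o0u392 : ∀ k, 0 ≤ k → k < 23187 → orbOk (k * 22) = true := between_extend orbOk 22 0 23128 59 (o0u391) o0r392

theorem o0r393 : allRange orbOk 22 23187 59 = true := by decide +kernel
theorem o0u393 : ∀ k, 0 ≤ k → k < 23246 → orbOk (k * 22) = true := between_extend orbOk 22 0 23187 59 (o0u392) o0r393

theorem o0r394 : allRange orbOk 22 23246 59 = true := by decide +kernel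
theorem o0u394 : ∀ k, 0 ≤ k → k < 23305 → orbOk (k * 22) = true := between_extend orbOk 22 0 23246 59 (o0u393) o0r394

theorem o0r395 : allRange orbOk 22 23305 59 = true := by decide +kernel
theorem o0u395 : ∀ k, 0 ≤ k → k < 23364 → orbOk (k * 22) = true := between_extend orbOk 22 0 23305 59 (o0u394) o0r395

theorem o0r396 : allRange orbOk 22 23364 59 = true := by decide +kernel
theorem o0u396 : ∀ k, 0 ≤ k → k < 23423 → orbOk (k * 22) = true := between_extend orbOk 22 0 23364 59 (o0u395) o0r396

theorem o0r397 : allRange orbOk 22 23423 59 = true := by decide +kernel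
theorem o0u397 : ∀ k, 0 ≤ k → k < 23482 → orbOk (k * 22) = true := between_extend orbOk 22 0 23423 59 (o0u396) o0r397

theorem o0r398 : allRange orbOk 22 23482 59 = true := by decide +kernel
theorem o0u398 : ∀ k, 0 ≤ k → k < 23541 → orbOk (k * 22) = true := between_extend orbOk 22 0 23482 59 (o0u397) o0r398

theorem o0r399 : allRange orbOk 22 23541 59 = true := by decide +kernel
theorem o0u399 : ∀ k, 0 ≤ k → k < 23600 → orbOk (k * 22) = true := between_extend orbOk 22 0 23541 59 (o0u398) o0r399

theorem o0r400 : allRange orbOk 22 23600 59 = true := by decide +kernel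
theorem o0u400 : ∀ k, 0 ≤ k → k < 23659 → orbOk (k * 22) = true := between_extend orbOk 22 0 23600 59 (o0u399) o0r400

theorem o0r401 : allRange orbOk 22 23659 59 = true := by decide +kernel
theorem o0u401 : ∀ k, 0 ≤ k → k < 23718 → orbOk (k * 22) = true := between_extend orbOk 22 0 23659 59 (o0u400) o0r401

theorem o0r402 : allRange orbOk 22 23718 59 = true := by decide +kernel
theorem o0u402 : ∀ k, 0 ≤ k → k < 23777 → orbOk (k * 22) = true := between_extend orbOk 22 0 23718 59 (o0u401) o0r402

theorem o0r403 : allRange orbOk 22 23777 59 = true := by decide +kernel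
theorem o0u403 : ∀ k, 0 ≤ k → k < 23836 → orbOk (k * 22) = true := between_extend orbOk 22 0 23777 59 (o0u402) o0r403

theorem o0r404 : allRange orbOk 22 23836 59 = true := by decide +kernel
theorem o0u404 : ∀ k, 0 ≤ k → k < 23895 → orbOk (k * 22) = true := between_extend orbOk 22 0 23836 59 (o0u403) o0r404

theorem o0r405 : allRange orbOk 22 23895 59 = true := by decide +kernel
theorem o0u405 : ∀ k, 0 ≤ k → k < 23954 → orbOk (k * 22) = true := between_extend orbOk 22 0 23895 59 (o0u404) o0r405

theorem o0r406 : allRange orbOk 22 23954 59 = true := by decide +kernel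
theorem o0u406 : ∀ k, 0 ≤ k → k < 24013 → orbOk (k * 22) = true := between_extend orbOk 22 0 23954 59 (o0u405) o0r406

theorem o0r407 : allRange orbOk 22 24013 59 = true := by decide +kernel
theorem o0u407 : ∀ k, 0 ≤ k → k < 24072 → orbOk (k * 22) = true := between_extend orbOk 22 0 24013 59 (o0u406) o0r407

theorem o0r408 : allRange orbOk 22 24072 59 = true := by decide +kernel
theorem o0u408 : ∀ k, 0 ≤ k → k < 24131 → orbOk (k * 22) = true := between_extend orbOk 22 0 24072 59 (o0u407) o0r408

theorem o0r409 : allRange orbOk 22 24131 59 = true := by decide +kernel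
theorem o0u409 : ∀ k, 0 ≤ k → k < 24190 → orbOk (k * 22) = true := between_extend orbOk 22 0 24131 59 (o0u408) o0r409

theorem o0r410 : allRange orbOk 22 24190 59 = true := by decide +kernel
theorem o0u410 : ∀ k, 0 ≤ k → k < 24249 → orbOk (k * 22) = true := between_extend orbOk 22 0 24190 59 (o0u409) o0r410

theorem o0r411 : allRange orbOk 22 24249 59 = true := by decide +kernel
theorem o0u411 : ∀ k, 0 ≤ k → k < 24308 → orbOk (k * 22) = true := between_extend orbOk 22 0 24249 59 (o0u410) o0r411

theorem o0r412 : allRange orbOk 22 24308 59 = true := by decide +kernel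
theorem o0u412 : ∀ k, 0 ≤ k → k < 24367 → orbOk (k * 22) = true := between_extend orbOk 22 0 24308 59 (o0u411) o0r412

theorem o0r413 : allRange orbOk 22 24367 59 = true := by decide +kernel
theorem o0u413 : ∀ k, 0 ≤ k → k < 24426 → orbOk (k * 22) = true := between_extend orbOk 22 0 24367 59 (o0u412) o0r413

theorem o0r414 : allRange orbOk 22 24426 59 = true := by decide +kernel
theorem o0u414 : ∀ k, 0 ≤ k → k < 24485 → orbOk (k * 22) = true := between_extend orbOk 22 0 24426 59 (o0u413) o0r414

theorem o0r415 : allRange orbOk 22 24485 59 = true := by decide +kernel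
theorem o0u415 : ∀ k, 0 ≤ k → k < 24544 → orbOk (k * 22) = true := between_extend orbOk 22 0 24485 59 (o0u414) o0r415

theorem o0r416 : allRange orbOk 22 24544 59 = true := by decide +kernel
theorem o0u416 : ∀ k, 0 ≤ k → k < 24603 → orbOk (k * 22) = true := between_extend orbOk 22 0 24544 59 (o0u415) o0r416

theorem o0r417 : allRange orbOk 22 24603 59 = true := by decide +kernel
theorem o0u417 : ∀ k, 0 ≤ k → k < 24662 → orbOk (k * 22) = true := between_extend orbOk 22 0 24603 59 (o0u416) o0r417

theorem o0r418 : allRange orbOk 22 24662 59 = true := by decide +kernel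
theorem o0u418 : ∀ k, 0 ≤ k → k < 24721 → orbOk (k * 22) = true := between_extend orbOk 22 0 24662 59 (o0u417) o0r418

theorem o0r419 : allRange orbOk 22 24721 59 = true := by decide +kernel
theorem o0u419 : ∀ k, 0 ≤ k → k < 24780 → orbOk (k * 22) = true := between_extend orbOk 22 0 24721 59 (o0u418) o0r419

theorem o0r420 : allRange orbOk 22 24780 59 = true := by decide +kernel
theorem o0u420 : ∀ k, 0 ≤ k → k < 24839 → orbOk (k * 22) = true := between_extend orbOk 22 0 24780 59 (o0u419) o0r420

theorem o0r421 : allRange orbOk 22 24839 59 = true := by decide +kernel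
theorem o0u421 : ∀ k, 0 ≤ k → k < 24898 → orbOk (k * 22) = true := between_extend orbOk 22 0 24839 59 (o0u420) o0r421

theorem o0r422 : allRange orbOk 22 24898 59 = true := by decide +kernel
theorem o0u422 : ∀ k, 0 ≤ k → k < 24957 → orbOk (k * 22) = true := between_extend orbOk 22 0 24898 59 (o0u421) o0r422

theorem o0r423 : allRange orbOk 22 24957 59 = true := by decide +kernel
theorem o0u423 : ∀ k, 0 ≤ k → k < 25016 → orbOk (k * 22) = true := between_extend orbOk 22 0 24957 59 (o0u422) o0r423

theorem o0r424 : allRange orbOk 22 25016 59 = true := by decide +kernel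
theorem o0u424 : ∀ k, 0 ≤ k → k < 25075 → orbOk (k * 22) = true := between_extend orbOk 22 0 25016 59 (o0u423) o0r424

theorem o0r425 : allRange orbOk 22 25075 59 = true := by decide +kernel
theorem o0u425 : ∀ k, 0 ≤ k → k < 25134 → orbOk (k * 22) = true := between_extend orbOk 22 0 25075 59 (o0u424) o0r425

theorem o0r426 : allRange orbOk 22 25134 59 = true := by decide +kernel
theorem o0u426 : ∀ k, 0 ≤ k → k < 25193 → orbOk (k * 22) = true := between_extend orbOk 22 0 25134 59 (o0u425) o0r426

theorem o0r427 : allRange orbOk 22 25193 59 = true := by decide +kernel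
theorem o0u427 : ∀ k, 0 ≤ k → k < 25252 → orbOk (k * 22) = true := between_extend orbOk 22 0 25193 59 (o0u426) o0r427

theorem o0r428 : allRange orbOk 22 25252 59 = true := by decide +kernel
theorem o0u428 : ∀ k, 0 ≤ k → k < 25311 → orbOk (k * 22) = true := between_extend orbOk 22 0 25252 59 (o0u427) o0r428

theorem o0r429 : allRange orbOk 22 25311 59 = true := by decide +kernel
theorem o0u429 : ∀ k, 0 ≤ k → k < 25370 → orbOk (k * 22) = true := between_extend orbOk 22 0 25311 59 (o0u428) o0r429

theorem o0r430 : allRange orbOk 22 25370 59 = true := by decide +kernel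
theorem o0u430 : ∀ k, 0 ≤ k → k < 25429 → orbOk (k * 22) = true := between_extend orbOk 22 0 25370 59 (o0u429) o0r430

theorem o0r431 : allRange orbOk 22 25429 59 = true := by decide +kernel
theorem o0u431 : ∀ k, 0 ≤ k → k < 25488 → orbOk (k * 22) = true := between_extend orbOk 22 0 25429 59 (o0u430) o0r431

theorem o0r432 : allRange orbOk 22 25488 59 = true := by decide +kernel
theorem o0u432 : ∀ k, 0 ≤ k → k < 25547 → orbOk (k * 22) = true := between_extend orbOk 22 0 25488 59 (o0u431) o0r432

theorem o0r433 : allRange orbOk 22 25547 59 = true := by decide +kernel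
theorem o0u433 : ∀ k, 0 ≤ k → k < 25606 → orbOk (k * 22) = true := between_extend orbOk 22 0 25547 59 (o0u432) o0r433

theorem o0r434 : allRange orbOk 22 25606 59 = true := by decide +kernel
theorem o0u434 : ∀ k, 0 ≤ k → k < 25665 → orbOk (k * 22) = true := between_extend orbOk 22 0 25606 59 (o0u433) o0r434

theorem o0r435 : allRange orbOk 22 25665 59 = true := by decide +kernel
theorem o0u435 : ∀ k, 0 ≤ k → k < 25724 → orbOk (k * 22) = true := between_extend orbOk 22 0 25665 59 (o0u434) o0r435

theorem o0r436 : allRange orbOk 22 25724 59 = true := by decide +kernel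
theorem o0u436 : ∀ k, 0 ≤ k → k < 25783 → orbOk (k * 22) = true := between_extend orbOk 22 0 25724 59 (o0u435) o0r436

theorem o0r437 : allRange orbOk 22 25783 59 = true := by decide +kernel
theorem o0u437 : ∀ k, 0 ≤ k → k < 25842 → orbOk (k * 22) = true := between_extend orbOk 22 0 25783 59 (o0u436) o0r437

theorem o0r438 : allRange orbOk 22 25842 59 = true := by decide +kernel
theorem o0u438 : ∀ k, 0 ≤ k → k < 25901 → orbOk (k * 22) = true := between_extend orbOk 22 0 25842 59 (o0u437) o0r438

theorem o0r439 : allRange orbOk 22 25901 59 = true := by decide +kernel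
theorem o0u439 : ∀ k, 0 ≤ k → k < 25960 → orbOk (k * 22) = true := between_extend orbOk 22 0 25901 59 (o0u438) o0r439

theorem o0r440 : allRange orbOk 22 25960 59 = true := by decide +kernel
theorem o0u440 : ∀ k, 0 ≤ k → k < 26019 → orbOk (k * 22) = true := between_extend orbOk 22 0 25960 59 (o0u439) o0r440

theorem o0r441 : allRange orbOk 22 26019 59 = true := by decide +kernel
theorem o0u441 : ∀ k, 0 ≤ k → k < 26078 → orbOk (k * 22) = true := between_extend orbOk 22 0 26019 59 (o0u440) o0r441

theorem o0r442 : allRange orbOk 22 26078 59 = true := by decide +kernel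
theorem o0u442 : ∀ k, 0 ≤ k → k < 26137 → orbOk (k * 22) = true := between_extend orbOk 22 0 26078 59 (o0u441) o0r442

theorem o0r443 : allRange orbOk 22 26137 59 = true := by decide +kernel
theorem o0u443 : ∀ k, 0 ≤ k → k < 26196 → orbOk (k * 22) = true := between_extend orbOk 22 0 26137 59 (o0u442) o0r443

theorem o0r444 : allRange orbOk 22 26196 59 = true := by decide +kernel
theorem o0u444 : ∀ k, 0 ≤ k → k < 26255 → orbOk (k * 22) = true := between_extend orbOk 22 0 26196 59 (o0u443) o0r444

theorem o0r445 : allRange orbOk 22 26255 59 = true := by decide +kernel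
theorem o0u445 : ∀ k, 0 ≤ k → k < 26314 → orbOk (k * 22) = true := between_extend orbOk 22 0 26255 59 (o0u444) o0r445

theorem o0r446 : allRange orbOk 22 26314 59 = true := by decide +kernel
theorem o0u446 : ∀ k, 0 ≤ k → k < 26373 → orbOk (k * 22) = true := between_extend orbOk 22 0 26314 59 (o0u445) o0r446

theorem o0r447 : allRange orbOk 22 26373 59 = true := by decide +kernel
theorem o0u447 : ∀ k, 0 ≤ k → k < 26432 → orbOk (k * 22) = true := between_extend orbOk 22 0 26373 59 (o0u446) o0r447

theorem o0r448 : allRange orbOk 22 26432 59 = true := by decide +kernel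
theorem o0u448 : ∀ k, 0 ≤ k → k < 26491 → orbOk (k * 22) = true := between_extend orbOk 22 0 26432 59 (o0u447) o0r448

theorem o0r449 : allRange orbOk 22 26491 59 = true := by decide +kernel
theorem o0u449 : ∀ k, 0 ≤ k → k < 26550 → orbOk (k * 22) = true := between_extend orbOk 22 0 26491 59 (o0u448) o0r449

theorem o0r450 : allRange orbOk 22 26550 59 = true := by decide +kernel
theorem o0u450 : ∀ k, 0 ≤ k → k < 26609 → orbOk (k * 22) = true := between_extend orbOk 22 0 26550 59 (o0u449) o0r450

theorem o0r451 : allRange orbOk 22 26609 59 = true := by decide +kernel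
theorem o0u451 : ∀ k, 0 ≤ k → k < 26668 → orbOk (k * 22) = true := between_extend orbOk 22 0 26609 59 (o0u450) o0r451

theorem o0r452 : allRange orbOk 22 26668 59 = true := by decide +kernel
theorem o0u452 : ∀ k, 0 ≤ k → k < 26727 → orbOk (k * 22) = true := between_extend orbOk 22 0 26668 59 (o0u451) o0r452

theorem o0r453 : allRange orbOk 22 26727 59 = true := by decide +kernel
theorem o0u453 : ∀ k, 0 ≤ k → k < 26786 → orbOk (k * 22) = true := between_extend orbOk 22 0 26727 59 (o0u452) o0r453

theorem o0r454 : allRange orbOk 22 26786 59 = true := by decide +kernel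
theorem o0u454 : ∀ k, 0 ≤ k → k < 26845 → orbOk (k * 22) = true := between_extend orbOk 22 0 26786 59 (o0u453) o0r454

theorem o0r455 : allRange orbOk 22 26845 59 = true := by decide +kernel
theorem o0u455 : ∀ k, 0 ≤ k → k < 26904 → orbOk (k * 22) = true := between_extend orbOk 22 0 26845 59 (o0u454) o0r455

theorem o0r456 : allRange orbOk 22 26904 59 = true := by decide +kernel
theorem o0u456 : ∀ k, 0 ≤ k → k < 26963 → orbOk (k * 22) = true := between_extend orbOk 22 0 26904 59 (o0u455) o0r456

theorem o0r457 : allRange orbOk 22 26963 59 = true := by decide +kernel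
theorem o0u457 : ∀ k, 0 ≤ k → k < 27022 → orbOk (k * 22) = true := between_extend orbOk 22 0 26963 59 (o0u456) o0r457

theorem o0r458 : allRange orbOk 22 27022 59 = true := by decide +kernel
theorem o0u458 : ∀ k, 0 ≤ k → k < 27081 → orbOk (k * 22) = true := between_extend orbOk 22 0 27022 59 (o0u457) o0r458

theorem o0r459 : allRange orbOk 22 27081 59 = true := by decide +kernel
theorem o0u459 : ∀ k, 0 ≤ k → k < 27140 → orbOk (k * 22) = true := between_extend orbOk 22 0 27081 59 (o0u458) o0r459

theorem o0r460 : allRange orbOk 22 27140 59 = true := by decide +kernel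
theorem o0u460 : ∀ k, 0 ≤ k → k < 27199 → orbOk (k * 22) = true := between_extend orbOk 22 0 27140 59 (o0u459) o0r460

theorem o0r461 : allRange orbOk 22 27199 59 = true := by decide +kernel
theorem o0u461 : ∀ k, 0 ≤ k → k < 27258 → orbOk (k * 22) = true := between_extend orbOk 22 0 27199 59 (o0u460) o0r461

theorem o0r462 : allRange orbOk 22 27258 59 = true := by decide +kernel
theorem o0u462 : ∀ k, 0 ≤ k → k < 27317 → orbOk (k * 22) = true := between_extend orbOk 22 0 27258 59 (o0u461) o0r462

theorem o0r463 : allRange orbOk 22 27317 59 = true := by decide +kernel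
theorem o0u463 : ∀ k, 0 ≤ k → k < 27376 → orbOk (k * 22) = true := between_extend orbOk 22 0 27317 59 (o0u462) o0r463

theorem o0r464 : allRange orbOk 22 27376 59 = true := by decide +kernel
theorem o0u464 : ∀ k, 0 ≤ k → k < 27435 → orbOk (k * 22) = true := between_extend orbOk 22 0 27376 59 (o0u463) o0r464

theorem o0r465 : allRange orbOk 22 27435 59 = true := by decide +kernel
theorem o0u465 : ∀ k, 0 ≤ k → k < 27494 → orbOk (k * 22) = true := between_extend orbOk 22 0 27435 59 (o0u464) o0r465

theorem o0r466 : allRange orbOk 22 27494 59 = true := by decide +kernel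
theorem o0u466 : ∀ k, 0 ≤ k → k < 27553 → orbOk (k * 22) = true := between_extend orbOk 22 0 27494 59 (o0u465) o0r466

theorem o0r467 : allRange orbOk 22 27553 59 = true := by decide +kernel
theorem o0u467 : ∀ k, 0 ≤ k → k < 27612 → orbOk (k * 22) = true := between_extend orbOk 22 0 27553 59 (o0u466) o0r467

theorem o0r468 : allRange orbOk 22 27612 59 = true := by decide +kernel
theorem o0u468 : ∀ k, 0 ≤ k → k < 27671 → orbOk (k * 22) = true := between_extend orbOk 22 0 27612 59 (o0u467) o0r468

theorem o0r469 : allRange orbOk 22 27671 59 = true := by decide +kernel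
theorem o0u469 : ∀ k, 0 ≤ k → k < 27730 → orbOk (k * 22) = true := between_extend orbOk 22 0 27671 59 (o0u468) o0r469

theorem o0r470 : allRange orbOk 22 27730 59 = true := by decide +kernel
theorem o0u470 : ∀ k, 0 ≤ k → k < 27789 → orbOk (k * 22) = true := between_extend orbOk 22 0 27730 59 (o0u469) o0r470

theorem o0r471 : allRange orbOk 22 27789 59 = true := by decide +kernel
theorem o0u471 : ∀ k, 0 ≤ k → k < 27848 → orbOk (k * 22) = true := between_extend orbOk 22 0 27789 59 (o0u470) o0r471

theorem o0r472 : allRange orbOk 22 27848 59 = true := by decide +kernel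
theorem o0u472 : ∀ k, 0 ≤ k → k < 27907 → orbOk (k * 22) = true := between_extend orbOk 22 0 27848 59 (o0u471) o0r472

theorem o0r473 : allRange orbOk 22 27907 59 = true := by decide +kernel
theorem o0u473 : ∀ k, 0 ≤ k → k < 27966 → orbOk (k * 22) = true := between_extend orbOk 22 0 27907 59 (o0u472) o0r473

theorem o0r474 : allRange orbOk 22 27966 59 = true := by decide +kernel
theorem o0u474 : ∀ k, 0 ≤ k → k < 28025 → orbOk (k * 22) = true := between_extend orbOk 22 0 27966 59 (o0u473) o0r474

theorem o0r475 : allRange orbOk 22 28025 59 = true := by decide +kernel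
theorem o0u475 : ∀ k, 0 ≤ k → k < 28084 → orbOk (k * 22) = true := between_extend orbOk 22 0 28025 59 (o0u474) o0r475

theorem o0r476 : allRange orbOk 22 28084 59 = true := by decide +kernel
theorem o0u476 : ∀ k, 0 ≤ k → k < 28143 → orbOk (k * 22) = true := between_extend orbOk 22 0 28084 59 (o0u475) o0r476

theorem o0r477 : allRange orbOk 22 28143 59 = true := by decide +kernel
theorem o0u477 : ∀ k, 0 ≤ k → k < 28202 → orbOk (k * 22) = true := between_extend orbOk 22 0 28143 59 (o0u476) o0r477

theorem o0r478 : allRange orbOk 22 28202 59 = true := by decide +kernel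
theorem o0u478 : ∀ k, 0 ≤ k → k < 28261 → orbOk (k * 22) = true := between_extend orbOk 22 0 28202 59 (o0u477) o0r478

theorem o0r479 : allRange orbOk 22 28261 59 = true := by decide +kernel
theorem o0u479 : ∀ k, 0 ≤ k → k < 28320 → orbOk (k * 22) = true := between_extend orbOk 22 0 28261 59 (o0u478) o0r479

theorem o0r480 : allRange orbOk 22 28320 59 = true := by decide +kernel
theorem o0u480 : ∀ k, 0 ≤ k → k < 28379 → orbOk (k * 22) = true := between_extend orbOk 22 0 28320 59 (o0u479) o0r480

theorem o0r481 : allRange orbOk 22 28379 59 = true := by decide +kernel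
theorem o0u481 : ∀ k, 0 ≤ k → k < 28438 → orbOk (k * 22) = true := between_extend orbOk 22 0 28379 59 (o0u480) o0r481

theorem o0r482 : allRange orbOk 22 28438 59 = true := by decide +kernel
theorem o0u482 : ∀ k, 0 ≤ k → k < 28497 → orbOk (k * 22) = true := between_extend orbOk 22 0 28438 59 (o0u481) o0r482

theorem o0r483 : allRange orbOk 22 28497 59 = true := by decide +kernel
theorem o0u483 : ∀ k, 0 ≤ k → k < 28556 → orbOk (k * 22) = true := between_extend orbOk 22 0 28497 59 (o0u482) o0r483

theorem o0r484 : allRange orbOk 22 28556 59 = true := by decide +kernel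
theorem o0u484 : ∀ k, 0 ≤ k → k < 28615 → orbOk (k * 22) = true := between_extend orbOk 22 0 28556 59 (o0u483) o0r484

theorem o0r485 : allRange orbOk 22 28615 59 = true := by decide +kernel
theorem o0u485 : ∀ k, 0 ≤ k → k < 28674 → orbOk (k * 22) = true := between_extend orbOk 22 0 28615 59 (o0u484) o0r485

theorem o0r486 : allRange orbOk 22 28674 59 = true := by decide +kernel
theorem o0u486 : ∀ k, 0 ≤ k → k < 28733 → orbOk (k * 22) = true := between_extend orbOk 22 0 28674 59 (o0u485) o0r486

theorem o0r487 : allRange orbOk 22 28733 59 = true := by decide +kernel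
theorem o0u487 : ∀ k, 0 ≤ k → k < 28792 → orbOk (k * 22) = true := between_extend orbOk 22 0 28733 59 (o0u486) o0r487

theorem o0r488 : allRange orbOk 22 28792 59 = true := by decide +kernel
theorem o0u488 : ∀ k, 0 ≤ k → k < 28851 → orbOk (k * 22) = true := between_extend orbOk 22 0 28792 59 (o0u487) o0r488

theorem o0r489 : allRange orbOk 22 28851 59 = true := by decide +kernel
theorem o0u489 : ∀ k, 0 ≤ k → k < 28910 → orbOk (k * 22) = true := between_extend orbOk 22 0 28851 59 (o0u488) o0r489

theorem o0r490 : allRange orbOk 22 28910 59 = true := by decide +kernel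
theorem o0u490 : ∀ k, 0 ≤ k → k < 28969 → orbOk (k * 22) = true := between_extend orbOk 22 0 28910 59 (o0u489) o0r490

theorem o0r491 : allRange orbOk 22 28969 59 = true := by decide +kernel
theorem o0u491 : ∀ k, 0 ≤ k → k < 29028 → orbOk (k * 22) = true := between_extend orbOk 22 0 28969 59 (o0u490) o0r491

theorem o0r492 : allRange orbOk 22 29028 59 = true := by decide +kernel
theorem o0u492 : ∀ k, 0 ≤ k → k < 29087 → orbOk (k * 22) = true := between_extend orbOk 22 0 29028 59 (o0u491) o0r492

theorem o0r493 : allRange orbOk 22 29087 59 = true := by decide +kernel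
theorem o0u493 : ∀ k, 0 ≤ k → k < 29146 → orbOk (k * 22) = true := between_extend orbOk 22 0 29087 59 (o0u492) o0r493

theorem o0r494 : allRange orbOk 22 29146 59 = true := by decide +kernel
theorem o0u494 : ∀ k, 0 ≤ k → k < 29205 → orbOk (k * 22) = true := between_extend orbOk 22 0 29146 59 (o0u493) o0r494

theorem o0r495 : allRange orbOk 22 29205 59 = true := by decide +kernel
theorem o0u495 : ∀ k, 0 ≤ k → k < 29264 → orbOk (k * 22) = true := between_extend orbOk 22 0 29205 59 (o0u494) o0r495

theorem o0r496 : allRange orbOk 22 29264 59 = true := by decide +kernel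
theorem o0u496 : ∀ k, 0 ≤ k → k < 29323 → orbOk (k * 22) = true := between_extend orbOk 22 0 29264 59 (o0u495) o0r496

theorem o0r497 : allRange orbOk 22 29323 59 = true := by decide +kernel
theorem o0u497 : ∀ k, 0 ≤ k → k < 29382 → orbOk (k * 22) = true := between_extend orbOk 22 0 29323 59 (o0u496) o0r497

theorem o0r498 : allRange orbOk 22 29382 59 = true := by decide +kernel
theorem o0u498 : ∀ k, 0 ≤ k → k < 29441 → orbOk (k * 22) = true := between_extend orbOk 22 0 29382 59 (o0u497) o0r498

theorem o0r499 : allRange orbOk 22 29441 59 = true := by decide +kernel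
theorem o0u499 : ∀ k, 0 ≤ k → k < 29500 → orbOk (k * 22) = true := between_extend orbOk 22 0 29441 59 (o0u498) o0r499

theorem o0r500 : allRange orbOk 22 29500 59 = true := by decide +kernel
theorem o0u500 : ∀ k, 0 ≤ k → k < 29559 → orbOk (k * 22) = true := between_extend orbOk 22 0 29500 59 (o0u499) o0r500

theorem o0r501 : allRange orbOk 22 29559 59 = true := by decide +kernel
theorem o0u501 : ∀ k, 0 ≤ k → k < 29618 → orbOk (k * 22) = true := between_extend orbOk 22 0 29559 59 (o0u500) o0r501

theorem o0r502 : allRange orbOk 22 29618 59 = true := by decide +kernel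
theorem o0u502 : ∀ k, 0 ≤ k → k < 29677 → orbOk (k * 22) = true := between_extend orbOk 22 0 29618 59 (o0u501) o0r502

theorem o0r503 : allRange orbOk 22 29677 59 = true := by decide +kernel
theorem o0u503 : ∀ k, 0 ≤ k → k < 29736 → orbOk (k * 22) = true := between_extend orbOk 22 0 29677 59 (o0u502) o0r503

theorem o0r504 : allRange orbOk 22 29736 59 = true := by decide +kernel
theorem o0u504 : ∀ k, 0 ≤ k → k < 29795 → orbOk (k * 22) = true := between_extend orbOk 22 0 29736 59 (o0u503) o0r504

theorem o0r505 : allRange orbOk 22 29795 59 = true := by decide +kernel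
theorem o0u505 : ∀ k, 0 ≤ k → k < 29854 → orbOk (k * 22) = true := between_extend orbOk 22 0 29795 59 (o0u504) o0r505

theorem o0r506 : allRange orbOk 22 29854 59 = true := by decide +kernel
theorem o0u506 : ∀ k, 0 ≤ k → k < 29913 → orbOk (k * 22) = true := between_extend orbOk 22 0 29854 59 (o0u505) o0r506

theorem o0r507 : allRange orbOk 22 29913 59 = true := by decide +kernel
theorem o0u507 : ∀ k, 0 ≤ k → k < 29972 → orbOk (k * 22) = true := between_extend orbOk 22 0 29913 59 (o0u506) o0r507

theorem o0r508 : allRange orbOk 22 29972 59 = true := by decide +kernel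
theorem o0u508 : ∀ k, 0 ≤ k → k < 30031 → orbOk (k * 22) = true := between_extend orbOk 22 0 29972 59 (o0u507) o0r508

theorem o0r509 : allRange orbOk 22 30031 59 = true := by decide +kernel
theorem o0u509 : ∀ k, 0 ≤ k → k < 30090 → orbOk (k * 22) = true := between_extend orbOk 22 0 30031 59 (o0u508) o0r509

theorem o0r510 : allRange orbOk 22 30090 59 = true := by decide +kernel
theorem o0u510 : ∀ k, 0 ≤ k → k < 30149 → orbOk (k * 22) = true := between_extend orbOk 22 0 30090 59 (o0u509) o0r510

theorem o0r511 : allRange orbOk 22 30149 59 = true := by decide +kernel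
theorem o0u511 : ∀ k, 0 ≤ k → k < 30208 → orbOk (k * 22) = true := between_extend orbOk 22 0 30149 59 (o0u510) o0r511

theorem o0r512 : allRange orbOk 22 30208 59 = true := by decide +kernel
theorem o0u512 : ∀ k, 0 ≤ k → k < 30267 → orbOk (k * 22) = true := between_extend orbOk 22 0 30208 59 (o0u511) o0r512

theorem o0r513 : allRange orbOk 22 30267 59 = true := by decide +kernel
theorem o0u513 : ∀ k, 0 ≤ k → k < 30326 → orbOk (k * 22) = true := between_extend orbOk 22 0 30267 59 (o0u512) o0r513

theorem o0r514 : allRange orbOk 22 30326 59 = true := by decide +kernel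
theorem o0u514 : ∀ k, 0 ≤ k → k < 30385 → orbOk (k * 22) = true := between_extend orbOk 22 0 30326 59 (o0u513) o0r514

theorem o0r515 : allRange orbOk 22 30385 59 = true := by decide +kernel
theorem o0u515 : ∀ k, 0 ≤ k → k < 30444 → orbOk (k * 22) = true := between_extend orbOk 22 0 30385 59 (o0u514) o0r515

theorem o0r516 : allRange orbOk 22 30444 59 = true := by decide +kernel
theorem o0u516 : ∀ k, 0 ≤ k → k < 30503 → orbOk (k * 22) = true := between_extend orbOk 22 0 30444 59 (o0u515) o0r516

theorem o0r517 : allRange orbOk 22 30503 59 = true := by decide +kernel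
theorem o0u517 : ∀ k, 0 ≤ k → k < 30562 → orbOk (k * 22) = true := between_extend orbOk 22 0 30503 59 (o0u516) o0r517

theorem o0r518 : allRange orbOk 22 30562 59 = true := by decide +kernel
theorem o0u518 : ∀ k, 0 ≤ k → k < 30621 → orbOk (k * 22) = true := between_extend orbOk 22 0 30562 59 (o0u517) o0r518

theorem o0r519 : allRange orbOk 22 30621 59 = true := by decide +kernel
theorem o0u519 : ∀ k, 0 ≤ k → k < 30680 → orbOk (k * 22) = true := between_extend orbOk 22 0 30621 59 (o0u518) o0r519

theorem o0r520 : allRange orbOk 22 30680 59 = true := by decide +kernel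
theorem o0u520 : ∀ k, 0 ≤ k → k < 30739 → orbOk (k * 22) = true := between_extend orbOk 22 0 30680 59 (o0u519) o0r520

theorem o0r521 : allRange orbOk 22 30739 59 = true := by decide +kernel
theorem o0u521 : ∀ k, 0 ≤ k → k < 30798 → orbOk (k * 22) = true := between_extend orbOk 22 0 30739 59 (o0u520) o0r521

theorem o0r522 : allRange orbOk 22 30798 59 = true := by decide +kernel
theorem o0u522 : ∀ k, 0 ≤ k → k < 30857 → orbOk (k * 22) = true := between_extend orbOk 22 0 30798 59 (o0u521) o0r522

theorem o0r523 : allRange orbOk 22 30857 59 = true := by decide +kernel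
theorem o0u523 : ∀ k, 0 ≤ k → k < 30916 → orbOk (k * 22) = true := between_extend orbOk 22 0 30857 59 (o0u522) o0r523

theorem o0r524 : allRange orbOk 22 30916 59 = true := by decide +kernel
theorem o0u524 : ∀ k, 0 ≤ k → k < 30975 → orbOk (k * 22) = true := between_extend orbOk 22 0 30916 59 (o0u523) o0r524

theorem o0r525 : allRange orbOk 22 30975 59 = true := by decide +kernel
theorem o0u525 : ∀ k, 0 ≤ k → k < 31034 → orbOk (k * 22) = true := between_extend orbOk 22 0 30975 59 (o0u524) o0r525

theorem o0r526 : allRange orbOk 22 31034 59 = true := by decide +kernel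
theorem o0u526 : ∀ k, 0 ≤ k → k < 31093 → orbOk (k * 22) = true := between_extend orbOk 22 0 31034 59 (o0u525) o0r526

theorem o0r527 : allRange orbOk 22 31093 59 = true := by decide +kernel
theorem o0u527 : ∀ k, 0 ≤ k → k < 31152 → orbOk (k * 22) = true := between_extend orbOk 22 0 31093 59 (o0u526) o0r527

theorem o0r528 : allRange orbOk 22 31152 59 = true := by decide +kernel
theorem o0u528 : ∀ k, 0 ≤ k → k < 31211 → orbOk (k * 22) = true := between_extend orbOk 22 0 31152 59 (o0u527) o0r528

theorem o0r529 : allRange orbOk 22 31211 59 = true := by decide +kernel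
theorem o0u529 : ∀ k, 0 ≤ k → k < 31270 → orbOk (k * 22) = true := between_extend orbOk 22 0 31211 59 (o0u528) o0r529

theorem o0r530 : allRange orbOk 22 31270 59 = true := by decide +kernel
theorem o0u530 : ∀ k, 0 ≤ k → k < 31329 → orbOk (k * 22) = true := between_extend orbOk 22 0 31270 59 (o0u529) o0r530

theorem o0r531 : allRange orbOk 22 31329 59 = true := by decide +kernel
theorem o0u531 : ∀ k, 0 ≤ k → k < 31388 → orbOk (k * 22) = true := between_extend orbOk 22 0 31329 59 (o0u530) o0r531

theorem o0r532 : allRange orbOk 22 31388 59 = true := by decide +kernel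
theorem o0u532 : ∀ k, 0 ≤ k → k < 31447 → orbOk (k * 22) = true := between_extend orbOk 22 0 31388 59 (o0u531) o0r532

theorem o0r533 : allRange orbOk 22 31447 59 = true := by decide +kernel
theorem o0u533 : ∀ k, 0 ≤ k → k < 31506 → orbOk (k * 22) = true := between_extend orbOk 22 0 31447 59 (o0u532) o0r533

theorem o0r534 : allRange orbOk 22 31506 59 = true := by decide +kernel
theorem o0u534 : ∀ k, 0 ≤ k → k < 31565 → orbOk (k * 22) = true := between_extend orbOk 22 0 31506 59 (o0u533) o0r534

theorem o0r535 : allRange orbOk 22 31565 59 = true := by decide +kernel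
theorem o0u535 : ∀ k, 0 ≤ k → k < 31624 → orbOk (k * 22) = true := between_extend orbOk 22 0 31565 59 (o0u534) o0r535

theorem o0r536 : allRange orbOk 22 31624 59 = true := by decide +kernel
theorem o0u536 : ∀ k, 0 ≤ k → k < 31683 → orbOk (k * 22) = true := between_extend orbOk 22 0 31624 59 (o0u535) o0r536

theorem o0r537 : allRange orbOk 22 31683 59 = true := by decide +kernel
theorem o0u537 : ∀ k, 0 ≤ k → k < 31742 → orbOk (k * 22) = true := between_extend orbOk 22 0 31683 59 (o0u536) o0r537

theorem o0r538 : allRange orbOk 22 31742 59 = true := by decide +kernel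
theorem o0u538 : ∀ k, 0 ≤ k → k < 31801 → orbOk (k * 22) = true := between_extend orbOk 22 0 31742 59 (o0u537) o0r538

theorem o0r539 : allRange orbOk 22 31801 59 = true := by decide +kernel
theorem o0u539 : ∀ k, 0 ≤ k → k < 31860 → orbOk (k * 22) = true := between_extend orbOk 22 0 31801 59 (o0u538) o0r539

theorem o0r540 : allRange orbOk 22 31860 59 = true := by decide +kernel
theorem o0u540 : ∀ k, 0 ≤ k → k < 31919 → orbOk (k * 22) = true := between_extend orbOk 22 0 31860 59 (o0u539) o0r540

theorem o0r541 : allRange orbOk 22 31919 59 = true := by decide +kernel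
theorem o0u541 : ∀ k, 0 ≤ k → k < 31978 → orbOk (k * 22) = true := between_extend orbOk 22 0 31919 59 (o0u540) o0r541

theorem o0r542 : allRange orbOk 22 31978 59 = true := by decide +kernel
theorem o0u542 : ∀ k, 0 ≤ k → k < 32037 → orbOk (k * 22) = true := between_extend orbOk 22 0 31978 59 (o0u541) o0r542

theorem o0r543 : allRange orbOk 22 32037 59 = true := by decide +kernel
theorem o0u543 : ∀ k, 0 ≤ k → k < 32096 → orbOk (k * 22) = true := between_extend orbOk 22 0 32037 59 (o0u542) o0r543

theorem o0r544 : allRange orbOk 22 32096 59 = true := by decide +kernel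
theorem o0u544 : ∀ k, 0 ≤ k → k < 32155 → orbOk (k * 22) = true := between_extend orbOk 22 0 32096 59 (o0u543) o0r544

theorem o0r545 : allRange orbOk 22 32155 59 = true := by decide +kernel
theorem o0u545 : ∀ k, 0 ≤ k → k < 32214 → orbOk (k * 22) = true := between_extend orbOk 22 0 32155 59 (o0u544) o0r545

theorem o0r546 : allRange orbOk 22 32214 59 = true := by decide +kernel
theorem o0u546 : ∀ k, 0 ≤ k → k < 32273 → orbOk (k * 22) = true := between_extend orbOk 22 0 32214 59 (o0u545) o0r546

theorem o0r547 : allRange orbOk 22 32273 59 = true := by decide +kernel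
theorem o0u547 : ∀ k, 0 ≤ k → k < 32332 → orbOk (k * 22) = true := between_extend orbOk 22 0 32273 59 (o0u546) o0r547

theorem o0r548 : allRange orbOk 22 32332 59 = true := by decide +kernel
theorem o0u548 : ∀ k, 0 ≤ k → k < 32391 → orbOk (k * 22) = true := between_extend orbOk 22 0 32332 59 (o0u547) o0r548

theorem o0r549 : allRange orbOk 22 32391 59 = true := by decide +kernel
theorem o0u549 : ∀ k, 0 ≤ k → k < 32450 → orbOk (k * 22) = true := between_extend orbOk 22 0 32391 59 (o0u548) o0r549

theorem o0r550 : allRange orbOk 22 32450 59 = true := by decide +kernel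
theorem o0u550 : ∀ k, 0 ≤ k → k < 32509 → orbOk (k * 22) = true := between_extend orbOk 22 0 32450 59 (o0u549) o0r550

theorem o0r551 : allRange orbOk 22 32509 59 = true := by decide +kernel
theorem o0u551 : ∀ k, 0 ≤ k → k < 32568 → orbOk (k * 22) = true := between_extend orbOk 22 0 32509 59 (o0u550) o0r551

theorem o0r552 : allRange orbOk 22 32568 59 = true := by decide +kernel
theorem o0u552 : ∀ k, 0 ≤ k → k < 32627 → orbOk (k * 22) = true := between_extend orbOk 22 0 32568 59 (o0u551) o0r552

theorem o0r553 : allRange orbOk 22 32627 59 = true := by decide +kernel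
theorem o0u553 : ∀ k, 0 ≤ k → k < 32686 → orbOk (k * 22) = true := between_extend orbOk 22 0 32627 59 (o0u552) o0r553

theorem o0r554 : allRange orbOk 22 32686 59 = true := by decide +kernel
theorem o0u554 : ∀ k, 0 ≤ k → k < 32745 → orbOk (k * 22) = true := between_extend orbOk 22 0 32686 59 (o0u553) o0r554

theorem o0r555 : allRange orbOk 22 32745 59 = true := by decide +kernel
theorem o0u555 : ∀ k, 0 ≤ k → k < 32804 → orbOk (k * 22) = true := between_extend orbOk 22 0 32745 59 (o0u554) o0r555

theorem o0r556 : allRange orbOk 22 32804 59 = true := by decide +kernel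
theorem o0u556 : ∀ k, 0 ≤ k → k < 32863 → orbOk (k * 22) = true := between_extend orbOk 22 0 32804 59 (o0u555) o0r556

theorem o0r557 : allRange orbOk 22 32863 59 = true := by decide +kernel
theorem o0u557 : ∀ k, 0 ≤ k → k < 32922 → orbOk (k * 22) = true := between_extend orbOk 22 0 32863 59 (o0u556) o0r557

theorem o0r558 : allRange orbOk 22 32922 59 = true := by decide +kernel
theorem o0u558 : ∀ k, 0 ≤ k → k < 32981 → orbOk (k * 22) = true := between_extend orbOk 22 0 32922 59 (o0u557) o0r558

theorem o0r559 : allRange orbOk 22 32981 59 = true := by decide +kernel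
theorem o0u559 : ∀ k, 0 ≤ k → k < 33040 → orbOk (k * 22) = true := between_extend orbOk 22 0 32981 59 (o0u558) o0r559

theorem o0r560 : allRange orbOk 22 33040 59 = true := by decide +kernel
theorem o0u560 : ∀ k, 0 ≤ k → k < 33099 → orbOk (k * 22) = true := between_extend orbOk 22 0 33040 59 (o0u559) o0r560

theorem o0r561 : allRange orbOk 22 33099 59 = true := by decide +kernel
theorem o0u561 : ∀ k, 0 ≤ k → k < 33158 → orbOk (k * 22) = true := between_extend orbOk 22 0 33099 59 (o0u560) o0r561

theorem o0r562 : allRange orbOk 22 33158 59 = true := by decide +kernel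
theorem o0u562 : ∀ k, 0 ≤ k → k < 33217 → orbOk (k * 22) = true := between_extend orbOk 22 0 33158 59 (o0u561) o0r562

theorem o0r563 : allRange orbOk 22 33217 59 = true := by decide +kernel
theorem o0u563 : ∀ k, 0 ≤ k → k < 33276 → orbOk (k * 22) = true := between_extend orbOk 22 0 33217 59 (o0u562) o0r563

theorem o0r564 : allRange orbOk 22 33276 59 = true := by decide +kernel
theorem o0u564 : ∀ k, 0 ≤ k → k < 33335 → orbOk (k * 22) = true := between_extend orbOk 22 0 33276 59 (o0u563) o0r564

theorem o0r565 : allRange orbOk 22 33335 59 = true := by decide +kernel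
theorem o0u565 : ∀ k, 0 ≤ k → k < 33394 → orbOk (k * 22) = true := between_extend orbOk 22 0 33335 59 (o0u564) o0r565

theorem o0r566 : allRange orbOk 22 33394 59 = true := by decide +kernel
theorem o0u566 : ∀ k, 0 ≤ k → k < 33453 → orbOk (k * 22) = true := between_extend orbOk 22 0 33394 59 (o0u565) o0r566

theorem o0r567 : allRange orbOk 22 33453 59 = true := by decide +kernel
theorem o0u567 : ∀ k, 0 ≤ k → k < 33512 → orbOk (k * 22) = true := between_extend orbOk 22 0 33453 59 (o0u566) o0r567

theorem o0r568 : allRange orbOk 22 33512 59 = true := by decide +kernel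
theorem o0u568 : ∀ k, 0 ≤ k → k < 33571 → orbOk (k * 22) = true := between_extend orbOk 22 0 33512 59 (o0u567) o0r568

theorem o0r569 : allRange orbOk 22 33571 59 = true := by decide +kernel
theorem o0u569 : ∀ k, 0 ≤ k → k < 33630 → orbOk (k * 22) = true := between_extend orbOk 22 0 33571 59 (o0u568) o0r569

theorem o0r570 : allRange orbOk 22 33630 59 = true := by decide +kernel
theorem o0u570 : ∀ k, 0 ≤ k → k < 33689 → orbOk (k * 22) = true := between_extend orbOk 22 0 33630 59 (o0u569) o0r570

theorem o0r571 : allRange orbOk 22 33689 59 = true := by decide +kernel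
theorem o0u571 : ∀ k, 0 ≤ k → k < 33748 → orbOk (k * 22) = true := between_extend orbOk 22 0 33689 59 (o0u570) o0r571

theorem o0r572 : allRange orbOk 22 33748 59 = true := by decide +kernel
theorem o0u572 : ∀ k, 0 ≤ k → k < 33807 → orbOk (k * 22) = true := between_extend orbOk 22 0 33748 59 (o0u571) o0r572

theorem o0r573 : allRange orbOk 22 33807 59 = true := by decide +kernel
theorem o0u573 : ∀ k, 0 ≤ k → k < 33866 → orbOk (k * 22) = true := between_extend orbOk 22 0 33807 59 (o0u572) o0r573

theorem o0r574 : allRange orbOk 22 33866 59 = true := by decide +kernel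
theorem o0u574 : ∀ k, 0 ≤ k → k < 33925 → orbOk (k * 22) = true := between_extend orbOk 22 0 33866 59 (o0u573) o0r574

theorem o0r575 : allRange orbOk 22 33925 59 = true := by decide +kernel
theorem o0u575 : ∀ k, 0 ≤ k → k < 33984 → orbOk (k * 22) = true := between_extend orbOk 22 0 33925 59 (o0u574) o0r575

theorem o0r576 : allRange orbOk 22 33984 59 = true := by decide +kernel
theorem o0u576 : ∀ k, 0 ≤ k → k < 34043 → orbOk (k * 22) = true := between_extend orbOk 22 0 33984 59 (o0u575) o0r576

theorem o0r577 : allRange orbOk 22 34043 59 = true := by decide +kernel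
theorem o0u577 : ∀ k, 0 ≤ k → k < 34102 → orbOk (k * 22) = true := between_extend orbOk 22 0 34043 59 (o0u576) o0r577

theorem o0r578 : allRange orbOk 22 34102 59 = true := by decide +kernel
theorem o0u578 : ∀ k, 0 ≤ k → k < 34161 → orbOk (k * 22) = true := between_extend orbOk 22 0 34102 59 (o0u577) o0r578

theorem o0r579 : allRange orbOk 22 34161 59 = true := by decide +kernel
theorem o0u579 : ∀ k, 0 ≤ k → k < 34220 → orbOk (k * 22) = true := between_extend orbOk 22 0 34161 59 (o0u578) o0r579

theorem o0r580 : allRange orbOk 22 34220 59 = true := by decide +kernel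
theorem o0u580 : ∀ k, 0 ≤ k → k < 34279 → orbOk (k * 22) = true := between_extend orbOk 22 0 34220 59 (o0u579) o0r580

theorem o0r581 : allRange orbOk 22 34279 59 = true := by decide +kernel
theorem o0u581 : ∀ k, 0 ≤ k → k < 34338 → orbOk (k * 22) = true := between_extend orbOk 22 0 34279 59 (o0u580) o0r581

theorem o0r582 : allRange orbOk 22 34338 59 = true := by decide +kernel
theorem o0u582 : ∀ k, 0 ≤ k → k < 34397 → orbOk (k * 22) = true := between_extend orbOk 22 0 34338 59 (o0u581) o0r582

theorem o0r583 : allRange orbOk 22 34397 59 = true := by decide +kernel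
theorem o0u583 : ∀ k, 0 ≤ k → k < 34456 → orbOk (k * 22) = true := between_extend orbOk 22 0 34397 59 (o0u582) o0r583

theorem o0r584 : allRange orbOk 22 34456 59 = true := by decide +kernel
theorem o0u584 : ∀ k, 0 ≤ k → k < 34515 → orbOk (k * 22) = true := between_extend orbOk 22 0 34456 59 (o0u583) o0r584

theorem o0r585 : allRange orbOk 22 34515 59 = true := by decide +kernel
theorem o0u585 : ∀ k, 0 ≤ k → k < 34574 → orbOk (k * 22) = true := between_extend orbOk 22 0 34515 59 (o0u584) o0r585

theorem o0r586 : allRange orbOk 22 34574 59 = true := by decide +kernel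
theorem o0u586 : ∀ k, 0 ≤ k → k < 34633 → orbOk (k * 22) = true := between_extend orbOk 22 0 34574 59 (o0u585) o0r586

theorem o0r587 : allRange orbOk 22 34633 59 = true := by decide +kernel
theorem o0u587 : ∀ k, 0 ≤ k → k < 34692 → orbOk (k * 22) = true := between_extend orbOk 22 0 34633 59 (o0u586) o0r587

theorem o0r588 : allRange orbOk 22 34692 59 = true := by decide +kernel
theorem o0u588 : ∀ k, 0 ≤ k → k < 34751 → orbOk (k * 22) = true := between_extend orbOk 22 0 34692 59 (o0u587) o0r588

theorem o0r589 : allRange orbOk 22 34751 59 = true := by decide +kernel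
theorem o0u589 : ∀ k, 0 ≤ k → k < 34810 → orbOk (k * 22) = true := between_extend orbOk 22 0 34751 59 (o0u588) o0r589

theorem o0r590 : allRange orbOk 22 34810 59 = true := by decide +kernel
theorem o0u590 : ∀ k, 0 ≤ k → k < 34869 → orbOk (k * 22) = true := between_extend orbOk 22 0 34810 59 (o0u589) o0r590

theorem o0r591 : allRange orbOk 22 34869 59 = true := by decide +kernel
theorem o0u591 : ∀ k, 0 ≤ k → k < 34928 → orbOk (k * 22) = true := between_extend orbOk 22 0 34869 59 (o0u590) o0r591

theorem o0r592 : allRange orbOk 22 34928 59 = true := by decide +kernel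
theorem o0u592 : ∀ k, 0 ≤ k → k < 34987 → orbOk (k * 22) = true := between_extend orbOk 22 0 34928 59 (o0u591) o0r592

theorem o0r593 : allRange orbOk 22 34987 59 = true := by decide +kernel
theorem o0u593 : ∀ k, 0 ≤ k → k < 35046 → orbOk (k * 22) = true := between_extend orbOk 22 0 34987 59 (o0u592) o0r593

theorem o0r594 : allRange orbOk 22 35046 59 = true := by decide +kernel
theorem o0u594 : ∀ k, 0 ≤ k → k < 35105 → orbOk (k * 22) = true := between_extend orbOk 22 0 35046 59 (o0u593) o0r594

theorem o0r595 : allRange orbOk 22 35105 59 = true := by decide +kernel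
theorem o0u595 : ∀ k, 0 ≤ k → k < 35164 → orbOk (k * 22) = true := between_extend orbOk 22 0 35105 59 (o0u594) o0r595

theorem o0r596 : allRange orbOk 22 35164 59 = true := by decide +kernel
theorem o0u596 : ∀ k, 0 ≤ k → k < 35223 → orbOk (k * 22) = true := between_extend orbOk 22 0 35164 59 (o0u595) o0r596

theorem o0r597 : allRange orbOk 22 35223 59 = true := by decide +kernel
theorem o0u597 : ∀ k, 0 ≤ k → k < 35282 → orbOk (k * 22) = true := between_extend orbOk 22 0 35223 59 (o0u596) o0r597

theorem o0r598 : allRange orbOk 22 35282 59 = true := by decide +kernel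
theorem o0u598 : ∀ k, 0 ≤ k → k < 35341 → orbOk (k * 22) = true := between_extend orbOk 22 0 35282 59 (o0u597) o0r598

theorem o0r599 : allRange orbOk 22 35341 59 = true := by decide +kernel
theorem o0u599 : ∀ k, 0 ≤ k → k < 35400 → orbOk (k * 22) = true := between_extend orbOk 22 0 35341 59 (o0u598) o0r599

theorem o0r600 : allRange orbOk 22 35400 59 = true := by decide +kernel
theorem o0u600 : ∀ k, 0 ≤ k → k < 35459 → orbOk (k * 22) = true := between_extend orbOk 22 0 35400 59 (o0u599) o0r600

theorem o0r601 : allRange orbOk 22 35459 59 = true := by decide +kernel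
theorem o0u601 : ∀ k, 0 ≤ k → k < 35518 → orbOk (k * 22) = true := between_extend orbOk 22 0 35459 59 (o0u600) o0r601

theorem o0r602 : allRange orbOk 22 35518 59 = true := by decide +kernel
theorem o0u602 : ∀ k, 0 ≤ k → k < 35577 → orbOk (k * 22) = true := between_extend orbOk 22 0 35518 59 (o0u601) o0r602

theorem o0r603 : allRange orbOk 22 35577 59 = true := by decide +kernel
theorem o0u603 : ∀ k, 0 ≤ k → k < 35636 → orbOk (k * 22) = true := between_extend orbOk 22 0 35577 59 (o0u602) o0r603

theorem o0r604 : allRange orbOk 22 35636 59 = true := by decide +kernel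
theorem o0u604 : ∀ k, 0 ≤ k → k < 35695 → orbOk (k * 22) = true := between_extend orbOk 22 0 35636 59 (o0u603) o0r604

theorem o0r605 : allRange orbOk 22 35695 59 = true := by decide +kernel
theorem o0u605 : ∀ k, 0 ≤ k → k < 35754 → orbOk (k * 22) = true := between_extend orbOk 22 0 35695 59 (o0u604) o0r605

theorem o0r606 : allRange orbOk 22 35754 59 = true := by decide +kernel
theorem o0u606 : ∀ k, 0 ≤ k → k < 35813 → orbOk (k * 22) = true := between_extend orbOk 22 0 35754 59 (o0u605) o0r606

theorem o0r607 : allRange orbOk 22 35813 59 = true := by decide +kernel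
theorem o0u607 : ∀ k, 0 ≤ k → k < 35872 → orbOk (k * 22) = true := between_extend orbOk 22 0 35813 59 (o0u606) o0r607

theorem o0r608 : allRange orbOk 22 35872 59 = true := by decide +kernel
theorem o0u608 : ∀ k, 0 ≤ k → k < 35931 → orbOk (k * 22) = true := between_extend orbOk 22 0 35872 59 (o0u607) o0r608

theorem o0r609 : allRange orbOk 22 35931 59 = true := by decide +kernel
theorem o0u609 : ∀ k, 0 ≤ k → k < 35990 → orbOk (k * 22) = true := between_extend orbOk 22 0 35931 59 (o0u608) o0r609

theorem o0r610 : allRange orbOk 22 35990 59 = true := by decide +kernel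
theorem o0u610 : ∀ k, 0 ≤ k → k < 36049 → orbOk (k * 22) = true := between_extend orbOk 22 0 35990 59 (o0u609) o0r610

theorem o0r611 : allRange orbOk 22 36049 59 = true := by decide +kernel
theorem o0u611 : ∀ k, 0 ≤ k → k < 36108 → orbOk (k * 22) = true := between_extend orbOk 22 0 36049 59 (o0u610) o0r611

theorem o0r612 : allRange orbOk 22 36108 59 = true := by decide +kernel
theorem o0u612 : ∀ k, 0 ≤ k → k < 36167 → orbOk (k * 22) = true := between_extend orbOk 22 0 36108 59 (o0u611) o0r612

theorem o0r613 : allRange orbOk 22 36167 59 = true := by decide +kernel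
theorem o0u613 : ∀ k, 0 ≤ k → k < 36226 → orbOk (k * 22) = true := between_extend orbOk 22 0 36167 59 (o0u612) o0r613

theorem o0r614 : allRange orbOk 22 36226 59 = true := by decide +kernel
theorem o0u614 : ∀ k, 0 ≤ k → k < 36285 → orbOk (k * 22) = true := between_extend orbOk 22 0 36226 59 (o0u613) o0r614

theorem o0r615 : allRange orbOk 22 36285 59 = true := by decide +kernel
theorem o0u615 : ∀ k, 0 ≤ k → k < 36344 → orbOk (k * 22) = true := between_extend orbOk 22 0 36285 59 (o0u614) o0r615

theorem o0r616 : allRange orbOk 22 36344 59 = true := by decide +kernel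
theorem o0u616 : ∀ k, 0 ≤ k → k < 36403 → orbOk (k * 22) = true := between_extend orbOk 22 0 36344 59 (o0u615) o0r616

theorem o0r617 : allRange orbOk 22 36403 59 = true := by decide +kernel
theorem o0u617 : ∀ k, 0 ≤ k → k < 36462 → orbOk (k * 22) = true := between_extend orbOk 22 0 36403 59 (o0u616) o0r617

theorem o0r618 : allRange orbOk 22 36462 59 = true := by decide +kernel
theorem o0u618 : ∀ k, 0 ≤ k → k < 36521 → orbOk (k * 22) = true := between_extend orbOk 22 0 36462 59 (o0u617) o0r618

theorem o0r619 : allRange orbOk 22 36521 59 = true := by decide +kernel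
theorem o0u619 : ∀ k, 0 ≤ k → k < 36580 → orbOk (k * 22) = true := between_extend orbOk 22 0 36521 59 (o0u618) o0r619

theorem o0r620 : allRange orbOk 22 36580 59 = true := by decide +kernel
theorem o0u620 : ∀ k, 0 ≤ k → k < 36639 → orbOk (k * 22) = true := between_extend orbOk 22 0 36580 59 (o0u619) o0r620

theorem o0r621 : allRange orbOk 22 36639 59 = true := by decide +kernel
theorem o0u621 : ∀ k, 0 ≤ k → k < 36698 → orbOk (k * 22) = true := between_extend orbOk 22 0 36639 59 (o0u620) o0r621

theorem o0r622 : allRange orbOk 22 36698 59 = true := by decide +kernel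
theorem o0u622 : ∀ k, 0 ≤ k → k < 36757 → orbOk (k * 22) = true := between_extend orbOk 22 0 36698 59 (o0u621) o0r622

theorem o0r623 : allRange orbOk 22 36757 59 = true := by decide +kernel
theorem o0u623 : ∀ k, 0 ≤ k → k < 36816 → orbOk (k * 22) = true := between_extend orbOk 22 0 36757 59 (o0u622) o0r623

theorem o0r624 : allRange orbOk 22 36816 59 = true := by decide +kernel
theorem o0u624 : ∀ k, 0 ≤ k → k < 36875 → orbOk (k * 22) = true := between_extend orbOk 22 0 36816 59 (o0u623) o0r624

theorem o0r625 : allRange orbOk 22 36875 59 = true := by decide +kernel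
theorem o0u625 : ∀ k, 0 ≤ k → k < 36934 → orbOk (k * 22) = true := between_extend orbOk 22 0 36875 59 (o0u624) o0r625

theorem o0r626 : allRange orbOk 22 36934 59 = true := by decide +kernel
theorem o0u626 : ∀ k, 0 ≤ k → k < 36993 → orbOk (k * 22) = true := between_extend orbOk 22 0 36934 59 (o0u625) o0r626

theorem o0r627 : allRange orbOk 22 36993 59 = true := by decide +kernel
theorem o0u627 : ∀ k, 0 ≤ k → k < 37052 → orbOk (k * 22) = true := between_extend orbOk 22 0 36993 59 (o0u626) o0r627

theorem o0r628 : allRange orbOk 22 37052 59 = true := by decide +kernel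
theorem o0u628 : ∀ k, 0 ≤ k → k < 37111 → orbOk (k * 22) = true := between_extend orbOk 22 0 37052 59 (o0u627) o0r628

theorem o0r629 : allRange orbOk 22 37111 59 = true := by decide +kernel
theorem o0u629 : ∀ k, 0 ≤ k → k < 37170 → orbOk (k * 22) = true := between_extend orbOk 22 0 37111 59 (o0u628) o0r629

theorem o0r630 : allRange orbOk 22 37170 59 = true := by decide +kernel
theorem o0u630 : ∀ k, 0 ≤ k → k < 37229 → orbOk (k * 22) = true := between_extend orbOk 22 0 37170 59 (o0u629) o0r630

theorem o0r631 : allRange orbOk 22 37229 59 = true := by decide +kernel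
theorem o0u631 : ∀ k, 0 ≤ k → k < 37288 → orbOk (k * 22) = true := between_extend orbOk 22 0 37229 59 (o0u630) o0r631

theorem o0r632 : allRange orbOk 22 37288 59 = true := by decide +kernel
theorem o0u632 : ∀ k, 0 ≤ k → k < 37347 → orbOk (k * 22) = true := between_extend orbOk 22 0 37288 59 (o0u631) o0r632

theorem o0r633 : allRange orbOk 22 37347 59 = true := by decide +kernel
theorem o0u633 : ∀ k, 0 ≤ k → k < 37406 → orbOk (k * 22) = true := between_extend orbOk 22 0 37347 59 (o0u632) o0r633

theorem o0r634 : allRange orbOk 22 37406 59 = true := by decide +kernel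
theorem o0u634 : ∀ k, 0 ≤ k → k < 37465 → orbOk (k * 22) = true := between_extend orbOk 22 0 37406 59 (o0u633) o0r634

theorem o0r635 : allRange orbOk 22 37465 59 = true := by decide +kernel
theorem o0u635 : ∀ k, 0 ≤ k → k < 37524 → orbOk (k * 22) = true := between_extend orbOk 22 0 37465 59 (o0u634) o0r635

theorem o0r636 : allRange orbOk 22 37524 59 = true := by decide +kernel
theorem o0u636 : ∀ k, 0 ≤ k → k < 37583 → orbOk (k * 22) = true := between_extend orbOk 22 0 37524 59 (o0u635) o0r636

theorem o0r637 : allRange orbOk 22 37583 59 = true := by decide +kernel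
theorem o0u637 : ∀ k, 0 ≤ k → k < 37642 → orbOk (k * 22) = true := between_extend orbOk 22 0 37583 59 (o0u636) o0r637

theorem o0r638 : allRange orbOk 22 37642 59 = true := by decide +kernel
theorem o0u638 : ∀ k, 0 ≤ k → k < 37701 → orbOk (k * 22) = true := between_extend orbOk 22 0 37642 59 (o0u637) o0r638

theorem o0r639 : allRange orbOk 22 37701 59 = true := by decide +kernel
theorem o0u639 : ∀ k, 0 ≤ k → k < 37760 → orbOk (k * 22) = true := between_extend orbOk 22 0 37701 59 (o0u638) o0r639

theorem o0r640 : allRange orbOk 22 37760 59 = true := by decide +kernel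
theorem o0u640 : ∀ k, 0 ≤ k → k < 37819 → orbOk (k * 22) = true := between_extend orbOk 22 0 37760 59 (o0u639) o0r640

theorem o0r641 : allRange orbOk 22 37819 59 = true := by decide +kernel
theorem o0u641 : ∀ k, 0 ≤ k → k < 37878 → orbOk (k * 22) = true := between_extend orbOk 22 0 37819 59 (o0u640) o0r641

theorem o0r642 : allRange orbOk 22 37878 59 = true := by decide +kernel
theorem o0u642 : ∀ k, 0 ≤ k → k < 37937 → orbOk (k * 22) = true := between_extend orbOk 22 0 37878 59 (o0u641) o0r642

theorem o0r643 : allRange orbOk 22 37937 59 = true := by decide +kernel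
theorem o0u643 : ∀ k, 0 ≤ k → k < 37996 → orbOk (k * 22) = true := between_extend orbOk 22 0 37937 59 (o0u642) o0r643

theorem o0r644 : allRange orbOk 22 37996 59 = true := by decide +kernel
theorem o0u644 : ∀ k, 0 ≤ k → k < 38055 → orbOk (k * 22) = true := between_extend orbOk 22 0 37996 59 (o0u643) o0r644

theorem o0r645 : allRange orbOk 22 38055 59 = true := by decide +kernel
theorem o0u645 : ∀ k, 0 ≤ k → k < 38114 → orbOk (k * 22) = true := between_extend orbOk 22 0 38055 59 (o0u644) o0r645

theorem o0r646 : allRange orbOk 22 38114 59 = true := by decide +kernel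
theorem o0u646 : ∀ k, 0 ≤ k → k < 38173 → orbOk (k * 22) = true := between_extend orbOk 22 0 38114 59 (o0u645) o0r646

theorem o0r647 : allRange orbOk 22 38173 59 = true := by decide +kernel
theorem o0u647 : ∀ k, 0 ≤ k → k < 38232 → orbOk (k * 22) = true := between_extend orbOk 22 0 38173 59 (o0u646) o0r647

theorem o0r648 : allRange orbOk 22 38232 59 = true := by decide +kernel
theorem o0u648 : ∀ k, 0 ≤ k → k < 38291 → orbOk (k * 22) = true := between_extend orbOk 22 0 38232 59 (o0u647) o0r648

theorem o0r649 : allRange orbOk 22 38291 59 = true := by decide +kernel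
theorem o0u649 : ∀ k, 0 ≤ k → k < 38350 → orbOk (k * 22) = true := between_extend orbOk 22 0 38291 59 (o0u648) o0r649

theorem o0r650 : allRange orbOk 22 38350 59 = true := by decide +kernel
theorem o0u650 : ∀ k, 0 ≤ k → k < 38409 → orbOk (k * 22) = true := between_extend orbOk 22 0 38350 59 (o0u649) o0r650

theorem o0r651 : allRange orbOk 22 38409 59 = true := by decide +kernel
theorem o0u651 : ∀ k, 0 ≤ k → k < 38468 → orbOk (k * 22) = true := between_extend orbOk 22 0 38409 59 (o0u650) o0r651

theorem o0r652 : allRange orbOk 22 38468 59 = true := by decide +kernel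
theorem o0u652 : ∀ k, 0 ≤ k → k < 38527 → orbOk (k * 22) = true := between_extend orbOk 22 0 38468 59 (o0u651) o0r652

theorem o0r653 : allRange orbOk 22 38527 59 = true := by decide +kernel
theorem o0u653 : ∀ k, 0 ≤ k → k < 38586 → orbOk (k * 22) = true := between_extend orbOk 22 0 38527 59 (o0u652) o0r653

theorem o0r654 : allRange orbOk 22 38586 59 = true := by decide +kernel
theorem o0u654 : ∀ k, 0 ≤ k → k < 38645 → orbOk (k * 22) = true := between_extend orbOk 22 0 38586 59 (o0u653) o0r654

theorem o0r655 : allRange orbOk 22 38645 59 = true := by decide +kernel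
theorem o0u655 : ∀ k, 0 ≤ k → k < 38704 → orbOk (k * 22) = true := between_extend orbOk 22 0 38645 59 (o0u654) o0r655

theorem o0r656 : allRange orbOk 22 38704 59 = true := by decide +kernel
theorem o0u656 : ∀ k, 0 ≤ k → k < 38763 → orbOk (k * 22) = true := between_extend orbOk 22 0 38704 59 (o0u655) o0r656

theorem o0r657 : allRange orbOk 22 38763 59 = true := by decide +kernel
theorem o0u657 : ∀ k, 0 ≤ k → k < 38822 → orbOk (k * 22) = true := between_extend orbOk 22 0 38763 59 (o0u656) o0r657

theorem o0r658 : allRange orbOk 22 38822 59 = true := by decide +kernel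
theorem o0u658 : ∀ k, 0 ≤ k → k < 38881 → orbOk (k * 22) = true := between_extend orbOk 22 0 38822 59 (o0u657) o0r658

theorem o0r659 : allRange orbOk 22 38881 59 = true := by decide +kernel
theorem o0u659 : ∀ k, 0 ≤ k → k < 38940 → orbOk (k * 22) = true := between_extend orbOk 22 0 38881 59 (o0u658) o0r659

theorem o0r660 : allRange orbOk 22 38940 59 = true := by decide +kernel
theorem o0u660 : ∀ k, 0 ≤ k → k < 38999 → orbOk (k * 22) = true := between_extend orbOk 22 0 38940 59 (o0u659) o0r660

theorem o0r661 : allRange orbOk 22 38999 59 = true := by decide +kernel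
theorem o0u661 : ∀ k, 0 ≤ k → k < 39058 → orbOk (k * 22) = true := between_extend orbOk 22 0 38999 59 (o0u660) o0r661

theorem o0r662 : allRange orbOk 22 39058 59 = true := by decide +kernel
theorem o0u662 : ∀ k, 0 ≤ k → k < 39117 → orbOk (k * 22) = true := between_extend orbOk 22 0 39058 59 (o0u661) o0r662

theorem o0r663 : allRange orbOk 22 39117 59 = true := by decide +kernel
theorem o0u663 : ∀ k, 0 ≤ k → k < 39176 → orbOk (k * 22) = true := between_extend orbOk 22 0 39117 59 (o0u662) o0r663

theorem o0r664 : allRange orbOk 22 39176 59 = true := by decide +kernel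
theorem o0u664 : ∀ k, 0 ≤ k → k < 39235 → orbOk (k * 22) = true := between_extend orbOk 22 0 39176 59 (o0u663) o0r664

theorem o0r665 : allRange orbOk 22 39235 59 = true := by decide +kernel
theorem o0u665 : ∀ k, 0 ≤ k → k < 39294 → orbOk (k * 22) = true := between_extend orbOk 22 0 39235 59 (o0u664) o0r665

theorem o0r666 : allRange orbOk 22 39294 59 = true := by decide +kernel
theorem o0u666 : ∀ k, 0 ≤ k → k < 39353 → orbOk (k * 22) = true := between_extend orbOk 22 0 39294 59 (o0u665) o0r666

theorem o0r667 : allRange orbOk 22 39353 59 = true := by decide +kernel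
theorem o0u667 : ∀ k, 0 ≤ k → k < 39412 → orbOk (k * 22) = true := between_extend orbOk 22 0 39353 59 (o0u666) o0r667

theorem o0r668 : allRange orbOk 22 39412 59 = true := by decide +kernel
theorem o0u668 : ∀ k, 0 ≤ k → k < 39471 → orbOk (k * 22) = true := between_extend orbOk 22 0 39412 59 (o0u667) o0r668

theorem o0r669 : allRange orbOk 22 39471 59 = true := by decide +kernel
theorem o0u669 : ∀ k, 0 ≤ k → k < 39530 → orbOk (k * 22) = true := between_extend orbOk 22 0 39471 59 (o0u668) o0r669

theorem o0r670 : allRange orbOk 22 39530 59 = true := by decide +kernel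
theorem o0u670 : ∀ k, 0 ≤ k → k < 39589 → orbOk (k * 22) = true := between_extend orbOk 22 0 39530 59 (o0u669) o0r670

theorem o0r671 : allRange orbOk 22 39589 59 = true := by decide +kernel
theorem o0u671 : ∀ k, 0 ≤ k → k < 39648 → orbOk (k * 22) = true := between_extend orbOk 22 0 39589 59 (o0u670) o0r671

theorem o0r672 : allRange orbOk 22 39648 59 = true := by decide +kernel
theorem o0u672 : ∀ k, 0 ≤ k → k < 39707 → orbOk (k * 22) = true := between_extend orbOk 22 0 39648 59 (o0u671) o0r672

theorem o0r673 : allRange orbOk 22 39707 59 = true := by decide +kernel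
theorem o0u673 : ∀ k, 0 ≤ k → k < 39766 → orbOk (k * 22) = true := between_extend orbOk 22 0 39707 59 (o0u672) o0r673

theorem o0r674 : allRange orbOk 22 39766 59 = true := by decide +kernel
theorem o0u674 : ∀ k, 0 ≤ k → k < 39825 → orbOk (k * 22) = true := between_extend orbOk 22 0 39766 59 (o0u673) o0r674

theorem o0r675 : allRange orbOk 22 39825 59 = true := by decide +kernel
theorem o0u675 : ∀ k, 0 ≤ k → k < 39884 → orbOk (k * 22) = true := between_extend orbOk 22 0 39825 59 (o0u674) o0r675

theorem o0r676 : allRange orbOk 22 39884 59 = true := by decide +kernel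
theorem o0u676 : ∀ k, 0 ≤ k → k < 39943 → orbOk (k * 22) = true := between_extend orbOk 22 0 39884 59 (o0u675) o0r676

theorem o0r677 : allRange orbOk 22 39943 59 = true := by decide +kernel
theorem o0u677 : ∀ k, 0 ≤ k → k < 40002 → orbOk (k * 22) = true := between_extend orbOk 22 0 39943 59 (o0u676) o0r677

theorem o0r678 : allRange orbOk 22 40002 59 = true := by decide +kernel
theorem o0u678 : ∀ k, 0 ≤ k → k < 40061 → orbOk (k * 22) = true := between_extend orbOk 22 0 40002 59 (o0u677) o0r678

theorem o0r679 : allRange orbOk 22 40061 59 = true := by decide +kernel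
theorem o0u679 : ∀ k, 0 ≤ k → k < 40120 → orbOk (k * 22) = true := between_extend orbOk 22 0 40061 59 (o0u678) o0r679

theorem o0r680 : allRange orbOk 22 40120 59 = true := by decide +kernel
theorem o0u680 : ∀ k, 0 ≤ k → k < 40179 → orbOk (k * 22) = true := between_extend orbOk 22 0 40120 59 (o0u679) o0r680

theorem o0r681 : allRange orbOk 22 40179 59 = true := by decide +kernel
theorem o0u681 : ∀ k, 0 ≤ k → k < 40238 → orbOk (k * 22) = true := between_extend orbOk 22 0 40179 59 (o0u680) o0r681

theorem o0r682 : allRange orbOk 22 40238 59 = true := by decide +kernel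
theorem o0u682 : ∀ k, 0 ≤ k → k < 40297 → orbOk (k * 22) = true := between_extend orbOk 22 0 40238 59 (o0u681) o0r682

theorem o0r683 : allRange orbOk 22 40297 59 = true := by decide +kernel
theorem o0u683 : ∀ k, 0 ≤ k → k < 40356 → orbOk (k * 22) = true := between_extend orbOk 22 0 40297 59 (o0u682) o0r683

theorem o0r684 : allRange orbOk 22 40356 59 = true := by decide +kernel
theorem o0u684 : ∀ k, 0 ≤ k → k < 40415 → orbOk (k * 22) = true := between_extend orbOk 22 0 40356 59 (o0u683) o0r684

theorem o0r685 : allRange orbOk 22 40415 59 = true := by decide +kernel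
theorem o0u685 : ∀ k, 0 ≤ k → k < 40474 → orbOk (k * 22) = true := between_extend orbOk 22 0 40415 59 (o0u684) o0r685

theorem o0r686 : allRange orbOk 22 40474 59 = true := by decide +kernel
theorem o0u686 : ∀ k, 0 ≤ k → k < 40533 → orbOk (k * 22) = true := between_extend orbOk 22 0 40474 59 (o0u685) o0r686

theorem o0r687 : allRange orbOk 22 40533 59 = true := by decide +kernel
theorem o0u687 : ∀ k, 0 ≤ k → k < 40592 → orbOk (k * 22) = true := between_extend orbOk 22 0 40533 59 (o0u686) o0r687

theorem o0r688 : allRange orbOk 22 40592 59 = true := by decide +kernel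
theorem o0u688 : ∀ k, 0 ≤ k → k < 40651 → orbOk (k * 22) = true := between_extend orbOk 22 0 40592 59 (o0u687) o0r688

theorem o0r689 : allRange orbOk 22 40651 59 = true := by decide +kernel
theorem o0u689 : ∀ k, 0 ≤ k → k < 40710 → orbOk (k * 22) = true := between_extend orbOk 22 0 40651 59 (o0u688) o0r689

theorem o0r690 : allRange orbOk 22 40710 59 = true := by decide +kernel
theorem o0u690 : ∀ k, 0 ≤ k → k < 40769 → orbOk (k * 22) = true := between_extend orbOk 22 0 40710 59 (o0u689) o0r690

theorem o0r691 : allRange orbOk 22 40769 59 = true := by decide +kernel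
theorem o0u691 : ∀ k, 0 ≤ k → k < 40828 → orbOk (k * 22) = true := between_extend orbOk 22 0 40769 59 (o0u690) o0r691

theorem o0r692 : allRange orbOk 22 40828 59 = true := by decide +kernel
theorem o0u692 : ∀ k, 0 ≤ k → k < 40887 → orbOk (k * 22) = true := between_extend orbOk 22 0 40828 59 (o0u691) o0r692

theorem o0r693 : allRange orbOk 22 40887 59 = true := by decide +kernel
theorem o0u693 : ∀ k, 0 ≤ k → k < 40946 → orbOk (k * 22) = true := between_extend orbOk 22 0 40887 59 (o0u692) o0r693

theorem o0r694 : allRange orbOk 22 40946 59 = true := by decide +kernel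
theorem o0u694 : ∀ k, 0 ≤ k → k < 41005 → orbOk (k * 22) = true := between_extend orbOk 22 0 40946 59 (o0u693) o0r694

theorem o0r695 : allRange orbOk 22 41005 59 = true := by decide +kernel
theorem o0u695 : ∀ k, 0 ≤ k → k < 41064 → orbOk (k * 22) = true := between_extend orbOk 22 0 41005 59 (o0u694) o0r695

theorem o0r696 : allRange orbOk 22 41064 59 = true := by decide +kernel
theorem o0u696 : ∀ k, 0 ≤ k → k < 41123 → orbOk (k * 22) = true := between_extend orbOk 22 0 41064 59 (o0u695) o0r696

theorem o0r697 : allRange orbOk 22 41123 59 = true := by decide +kernel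
theorem o0u697 : ∀ k, 0 ≤ k → k < 41182 → orbOk (k * 22) = true := between_extend orbOk 22 0 41123 59 (o0u696) o0r697

theorem o0r698 : allRange orbOk 22 41182 59 = true := by decide +kernel
theorem o0u698 : ∀ k, 0 ≤ k → k < 41241 → orbOk (k * 22) = true := between_extend orbOk 22 0 41182 59 (o0u697) o0r698

theorem o0r699 : allRange orbOk 22 41241 59 = true := by decide +kernel
theorem o0u699 : ∀ k, 0 ≤ k → k < 41300 → orbOk (k * 22) = true := between_extend orbOk 22 0 41241 59 (o0u698) o0r699

theorem o0r700 : allRange orbOk 22 41300 59 = true := by decide +kernel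
theorem o0u700 : ∀ k, 0 ≤ k → k < 41359 → orbOk (k * 22) = true := between_extend orbOk 22 0 41300 59 (o0u699) o0r700

theorem o0r701 : allRange orbOk 22 41359 59 = true := by decide +kernel
theorem o0u701 : ∀ k, 0 ≤ k → k < 41418 → orbOk (k * 22) = true := between_extend orbOk 22 0 41359 59 (o0u700) o0r701

theorem o0r702 : allRange orbOk 22 41418 59 = true := by decide +kernel
theorem o0u702 : ∀ k, 0 ≤ k → k < 41477 → orbOk (k * 22) = true := between_extend orbOk 22 0 41418 59 (o0u701) o0r702

theorem o0r703 : allRange orbOk 22 41477 59 = true := by decide +kernel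
theorem o0u703 : ∀ k, 0 ≤ k → k < 41536 → orbOk (k * 22) = true := between_extend orbOk 22 0 41477 59 (o0u702) o0r703

theorem o0r704 : allRange orbOk 22 41536 59 = true := by decide +kernel
theorem o0u704 : ∀ k, 0 ≤ k → k < 41595 → orbOk (k * 22) = true := between_extend orbOk 22 0 41536 59 (o0u703) o0r704

theorem o0r705 : allRange orbOk 22 41595 59 = true := by decide +kernel
theorem o0u705 : ∀ k, 0 ≤ k → k < 41654 → orbOk (k * 22) = true := between_extend orbOk 22 0 41595 59 (o0u704) o0r705

theorem o0r706 : allRange orbOk 22 41654 59 = true := by decide +kernel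
theorem o0u706 : ∀ k, 0 ≤ k → k < 41713 → orbOk (k * 22) = true := between_extend orbOk 22 0 41654 59 (o0u705) o0r706

theorem o0r707 : allRange orbOk 22 41713 59 = true := by decide +kernel
theorem o0u707 : ∀ k, 0 ≤ k → k < 41772 → orbOk (k * 22) = true := between_extend orbOk 22 0 41713 59 (o0u706) o0r707

theorem o0r708 : allRange orbOk 22 41772 59 = true := by decide +kernel
theorem o0u708 : ∀ k, 0 ≤ k → k < 41831 → orbOk (k * 22) = true := between_extend orbOk 22 0 41772 59 (o0u707) o0r708

theorem o0r709 : allRange orbOk 22 41831 59 = true := by decide +kernel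
theorem o0u709 : ∀ k, 0 ≤ k → k < 41890 → orbOk (k * 22) = true := between_extend orbOk 22 0 41831 59 (o0u708) o0r709

theorem o0r710 : allRange orbOk 22 41890 59 = true := by decide +kernel
theorem o0u710 : ∀ k, 0 ≤ k → k < 41949 → orbOk (k * 22) = true := between_extend orbOk 22 0 41890 59 (o0u709) o0r710

theorem o0r711 : allRange orbOk 22 41949 59 = true := by decide +kernel
theorem o0u711 : ∀ k, 0 ≤ k → k < 42008 → orbOk (k * 22) = true := between_extend orbOk 22 0 41949 59 (o0u710) o0r711

theorem o0r712 : allRange orbOk 22 42008 59 = true := by decide +kernel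
theorem o0u712 : ∀ k, 0 ≤ k → k < 42067 → orbOk (k * 22) = true := between_extend orbOk 22 0 42008 59 (o0u711) o0r712

theorem o0r713 : allRange orbOk 22 42067 59 = true := by decide +kernel
theorem o0u713 : ∀ k, 0 ≤ k → k < 42126 → orbOk (k * 22) = true := between_extend orbOk 22 0 42067 59 (o0u712) o0r713

theorem o0r714 : allRange orbOk 22 42126 59 = true := by decide +kernel
theorem o0u714 : ∀ k, 0 ≤ k → k < 42185 → orbOk (k * 22) = true := between_extend orbOk 22 0 42126 59 (o0u713) o0r714

theorem o0r715 : allRange orbOk 22 42185 59 = true := by decide +kernel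
theorem o0u715 : ∀ k, 0 ≤ k → k < 42244 → orbOk (k * 22) = true := between_extend orbOk 22 0 42185 59 (o0u714) o0r715

theorem o0r716 : allRange orbOk 22 42244 59 = true := by decide +kernel
theorem o0u716 : ∀ k, 0 ≤ k → k < 42303 → orbOk (k * 22) = true := between_extend orbOk 22 0 42244 59 (o0u715) o0r716

theorem o0r717 : allRange orbOk 22 42303 59 = true := by decide +kernel
theorem o0u717 : ∀ k, 0 ≤ k → k < 42362 → orbOk (k * 22) = true := between_extend orbOk 22 0 42303 59 (o0u716) o0r717

theorem o0r718 : allRange orbOk 22 42362 59 = true := by decide +kernel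
theorem o0u718 : ∀ k, 0 ≤ k → k < 42421 → orbOk (k * 22) = true := between_extend orbOk 22 0 42362 59 (o0u717) o0r718

theorem o0r719 : allRange orbOk 22 42421 59 = true := by decide +kernel
theorem o0u719 : ∀ k, 0 ≤ k → k < 42480 → orbOk (k * 22) = true := between_extend orbOk 22 0 42421 59 (o0u718) o0r719

theorem o0r720 : allRange orbOk 22 42480 59 = true := by decide +kernel
theorem o0u720 : ∀ k, 0 ≤ k → k < 42539 → orbOk (k * 22) = true := between_extend orbOk 22 0 42480 59 (o0u719) o0r720

theorem o0r721 : allRange orbOk 22 42539 59 = true := by decide +kernel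
theorem o0u721 : ∀ k, 0 ≤ k → k < 42598 → orbOk (k * 22) = true := between_extend orbOk 22 0 42539 59 (o0u720) o0r721

theorem o0r722 : allRange orbOk 22 42598 59 = true := by decide +kernel
theorem o0u722 : ∀ k, 0 ≤ k → k < 42657 → orbOk (k * 22) = true := between_extend orbOk 22 0 42598 59 (o0u721) o0r722

theorem o0r723 : allRange orbOk 22 42657 59 = true := by decide +kernel
theorem o0u723 : ∀ k, 0 ≤ k → k < 42716 → orbOk (k * 22) = true := between_extend orbOk 22 0 42657 59 (o0u722) o0r723

theorem o0r724 : allRange orbOk 22 42716 59 = true := by decide +kernel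
theorem o0u724 : ∀ k, 0 ≤ k → k < 42775 → orbOk (k * 22) = true := between_extend orbOk 22 0 42716 59 (o0u723) o0r724

theorem o0r725 : allRange orbOk 22 42775 59 = true := by decide +kernel
theorem o0u725 : ∀ k, 0 ≤ k → k < 42834 → orbOk (k * 22) = true := between_extend orbOk 22 0 42775 59 (o0u724) o0r725

theorem o0r726 : allRange orbOk 22 42834 59 = true := by decide +kernel
theorem o0u726 : ∀ k, 0 ≤ k → k < 42893 → orbOk (k * 22) = true := between_extend orbOk 22 0 42834 59 (o0u725) o0r726

theorem o0r727 : allRange orbOk 22 42893 59 = true := by decide +kernel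
theorem o0u727 : ∀ k, 0 ≤ k → k < 42952 → orbOk (k * 22) = true := between_extend orbOk 22 0 42893 59 (o0u726) o0r727

theorem o0r728 : allRange orbOk 22 42952 59 = true := by decide +kernel
theorem o0u728 : ∀ k, 0 ≤ k → k < 43011 → orbOk (k * 22) = true := between_extend orbOk 22 0 42952 59 (o0u727) o0r728

theorem o0r729 : allRange orbOk 22 43011 59 = true := by decide +kernel
theorem o0u729 : ∀ k, 0 ≤ k → k < 43070 → orbOk (k * 22) = true := between_extend orbOk 22 0 43011 59 (o0u728) o0r729

theorem o0r730 : allRange orbOk 22 43070 59 = true := by decide +kernel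
theorem o0u730 : ∀ k, 0 ≤ k → k < 43129 → orbOk (k * 22) = true := between_extend orbOk 22 0 43070 59 (o0u729) o0r730

theorem o0r731 : allRange orbOk 22 43129 59 = true := by decide +kernel
theorem o0u731 : ∀ k, 0 ≤ k → k < 43188 → orbOk (k * 22) = true := between_extend orbOk 22 0 43129 59 (o0u730) o0r731

theorem o0r732 : allRange orbOk 22 43188 59 = true := by decide +kernel
theorem o0u732 : ∀ k, 0 ≤ k → k < 43247 → orbOk (k * 22) = true := between_extend orbOk 22 0 43188 59 (o0u731) o0r732

theorem o0r733 : allRange orbOk 22 43247 59 = true := by decide +kernel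
theorem o0u733 : ∀ k, 0 ≤ k → k < 43306 → orbOk (k * 22) = true := between_extend orbOk 22 0 43247 59 (o0u732) o0r733

theorem o0r734 : allRange orbOk 22 43306 59 = true := by decide +kernel
theorem o0u734 : ∀ k, 0 ≤ k → k < 43365 → orbOk (k * 22) = true := between_extend orbOk 22 0 43306 59 (o0u733) o0r734

theorem o0r735 : allRange orbOk 22 43365 59 = true := by decide +kernel
theorem o0u735 : ∀ k, 0 ≤ k → k < 43424 → orbOk (k * 22) = true := between_extend orbOk 22 0 43365 59 (o0u734) o0r735

theorem o0r736 : allRange orbOk 22 43424 59 = true := by decide +kernel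
theorem o0u736 : ∀ k, 0 ≤ k → k < 43483 → orbOk (k * 22) = true := between_extend orbOk 22 0 43424 59 (o0u735) o0r736

theorem o0r737 : allRange orbOk 22 43483 59 = true := by decide +kernel
theorem o0u737 : ∀ k, 0 ≤ k → k < 43542 → orbOk (k * 22) = true := between_extend orbOk 22 0 43483 59 (o0u736) o0r737

theorem o0r738 : allRange orbOk 22 43542 59 = true := by decide +kernel
theorem o0u738 : ∀ k, 0 ≤ k → k < 43601 → orbOk (k * 22) = true := between_extend orbOk 22 0 43542 59 (o0u737) o0r738

theorem o0r739 : allRange orbOk 22 43601 59 = true := by decide +kernel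
theorem o0u739 : ∀ k, 0 ≤ k → k < 43660 → orbOk (k * 22) = true := between_extend orbOk 22 0 43601 59 (o0u738) o0r739

theorem o0r740 : allRange orbOk 22 43660 59 = true := by decide +kernel
theorem o0u740 : ∀ k, 0 ≤ k → k < 43719 → orbOk (k * 22) = true := between_extend orbOk 22 0 43660 59 (o0u739) o0r740

theorem o0r741 : allRange orbOk 22 43719 59 = true := by decide +kernel
theorem o0u741 : ∀ k, 0 ≤ k → k < 43778 → orbOk (k * 22) = true := between_extend orbOk 22 0 43719 59 (o0u740) o0r741

theorem o0r742 : allRange orbOk 22 43778 59 = true := by decide +kernel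
theorem o0u742 : ∀ k, 0 ≤ k → k < 43837 → orbOk (k * 22) = true := between_extend orbOk 22 0 43778 59 (o0u741) o0r742

theorem o0r743 : allRange orbOk 22 43837 59 = true := by decide +kernel
theorem o0u743 : ∀ k, 0 ≤ k → k < 43896 → orbOk (k * 22) = true := between_extend orbOk 22 0 43837 59 (o0u742) o0r743

theorem o0r744 : allRange orbOk 22 43896 59 = true := by decide +kernel
theorem o0u744 : ∀ k, 0 ≤ k → k < 43955 → orbOk (k * 22) = true := between_extend orbOk 22 0 43896 59 (o0u743) o0r744

theorem o0r745 : allRange orbOk 22 43955 59 = true := by decide +kernel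
theorem o0u745 : ∀ k, 0 ≤ k → k < 44014 → orbOk (k * 22) = true := between_extend orbOk 22 0 43955 59 (o0u744) o0r745

theorem o0r746 : allRange orbOk 22 44014 59 = true := by decide +kernel
theorem o0u746 : ∀ k, 0 ≤ k → k < 44073 → orbOk (k * 22) = true := between_extend orbOk 22 0 44014 59 (o0u745) o0r746

theorem o0r747 : allRange orbOk 22 44073 59 = true := by decide +kernel
theorem o0u747 : ∀ k, 0 ≤ k → k < 44132 → orbOk (k * 22) = true := between_extend orbOk 22 0 44073 59 (o0u746) o0r747

theorem o0r748 : allRange orbOk 22 44132 59 = true := by decide +kernel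
theorem o0u748 : ∀ k, 0 ≤ k → k < 44191 → orbOk (k * 22) = true := between_extend orbOk 22 0 44132 59 (o0u747) o0r748

theorem o0r749 : allRange orbOk 22 44191 59 = true := by decide +kernel
theorem o0u749 : ∀ k, 0 ≤ k → k < 44250 → orbOk (k * 22) = true := between_extend orbOk 22 0 44191 59 (o0u748) o0r749

theorem o0r750 : allRange orbOk 22 44250 59 = true := by decide +kernel
theorem o0u750 : ∀ k, 0 ≤ k → k < 44309 → orbOk (k * 22) = true := between_extend orbOk 22 0 44250 59 (o0u749) o0r750

theorem o0r751 : allRange orbOk 22 44309 59 = true := by decide +kernel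
theorem o0u751 : ∀ k, 0 ≤ k → k < 44368 → orbOk (k * 22) = true := between_extend orbOk 22 0 44309 59 (o0u750) o0r751

theorem o0r752 : allRange orbOk 22 44368 59 = true := by decide +kernel
theorem o0u752 : ∀ k, 0 ≤ k → k < 44427 → orbOk (k * 22) = true := between_extend orbOk 22 0 44368 59 (o0u751) o0r752

theorem o0r753 : allRange orbOk 22 44427 59 = true := by decide +kernel
theorem o0u753 : ∀ k, 0 ≤ k → k < 44486 → orbOk (k * 22) = true := between_extend orbOk 22 0 44427 59 (o0u752) o0r753

theorem o0r754 : allRange orbOk 22 44486 59 = true := by decide +kernel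
theorem o0u754 : ∀ k, 0 ≤ k → k < 44545 → orbOk (k * 22) = true := between_extend orbOk 22 0 44486 59 (o0u753) o0r754

theorem o0r755 : allRange orbOk 22 44545 59 = true := by decide +kernel
theorem o0u755 : ∀ k, 0 ≤ k → k < 44604 → orbOk (k * 22) = true := between_extend orbOk 22 0 44545 59 (o0u754) o0r755

theorem o0r756 : allRange orbOk 22 44604 59 = true := by decide +kernel
theorem o0u756 : ∀ k, 0 ≤ k → k < 44663 → orbOk (k * 22) = true := between_extend orbOk 22 0 44604 59 (o0u755) o0r756

theorem o0r757 : allRange orbOk 22 44663 59 = true := by decide +kernel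
theorem o0u757 : ∀ k, 0 ≤ k → k < 44722 → orbOk (k * 22) = true := between_extend orbOk 22 0 44663 59 (o0u756) o0r757

theorem o0r758 : allRange orbOk 22 44722 59 = true := by decide +kernel
theorem o0u758 : ∀ k, 0 ≤ k → k < 44781 → orbOk (k * 22) = true := between_extend orbOk 22 0 44722 59 (o0u757) o0r758

theorem o0r759 : allRange orbOk 22 44781 59 = true := by decide +kernel
theorem o0u759 : ∀ k, 0 ≤ k → k < 44840 → orbOk (k * 22) = true := between_extend orbOk 22 0 44781 59 (o0u758) o0r759

theorem o0r760 : allRange orbOk 22 44840 59 = true := by decide +kernel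
theorem o0u760 : ∀ k, 0 ≤ k → k < 44899 → orbOk (k * 22) = true := between_extend orbOk 22 0 44840 59 (o0u759) o0r760

theorem o0r761 : allRange orbOk 22 44899 59 = true := by decide +kernel
theorem o0u761 : ∀ k, 0 ≤ k → k < 44958 → orbOk (k * 22) = true := between_extend orbOk 22 0 44899 59 (o0u760) o0r761

theorem o0r762 : allRange orbOk 22 44958 59 = true := by decide +kernel
theorem o0u762 : ∀ k, 0 ≤ k → k < 45017 → orbOk (k * 22) = true := between_extend orbOk 22 0 44958 59 (o0u761) o0r762

theorem o0r763 : allRange orbOk 22 45017 59 = true := by decide +kernel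
theorem o0u763 : ∀ k, 0 ≤ k → k < 45076 → orbOk (k * 22) = true := between_extend orbOk 22 0 45017 59 (o0u762) o0r763

theorem o0r764 : allRange orbOk 22 45076 59 = true := by decide +kernel
theorem o0u764 : ∀ k, 0 ≤ k → k < 45135 → orbOk (k * 22) = true := between_extend orbOk 22 0 45076 59 (o0u763) o0r764

theorem o0r765 : allRange orbOk 22 45135 59 = true := by decide +kernel
theorem o0u765 : ∀ k, 0 ≤ k → k < 45194 → orbOk (k * 22) = true := between_extend orbOk 22 0 45135 59 (o0u764) o0r765

theorem o0r766 : allRange orbOk 22 45194 59 = true := by decide +kernel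
theorem o0u766 : ∀ k, 0 ≤ k → k < 45253 → orbOk (k * 22) = true := between_extend orbOk 22 0 45194 59 (o0u765) o0r766

theorem o0r767 : allRange orbOk 22 45253 59 = true := by decide +kernel
theorem o0u767 : ∀ k, 0 ≤ k → k < 45312 → orbOk (k * 22) = true := between_extend orbOk 22 0 45253 59 (o0u766) o0r767

theorem o0r768 : allRange orbOk 22 45312 59 = true := by decide +kernel
theorem o0u768 : ∀ k, 0 ≤ k → k < 45371 → orbOk (k * 22) = true := between_extend orbOk 22 0 45312 59 (o0u767) o0r768

theorem o0r769 : allRange orbOk 22 45371 59 = true := by decide +kernel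
theorem o0u769 : ∀ k, 0 ≤ k → k < 45430 → orbOk (k * 22) = true := between_extend orbOk 22 0 45371 59 (o0u768) o0r769

theorem o0r770 : allRange orbOk 22 45430 59 = true := by decide +kernel
theorem o0u770 : ∀ k, 0 ≤ k → k < 45489 → orbOk (k * 22) = true := between_extend orbOk 22 0 45430 59 (o0u769) o0r770

theorem o0r771 : allRange orbOk 22 45489 59 = true := by decide +kernel
theorem o0u771 : ∀ k, 0 ≤ k → k < 45548 → orbOk (k * 22) = true := between_extend orbOk 22 0 45489 59 (o0u770) o0r771

theorem o0r772 : allRange orbOk 22 45548 59 = true := by decide +kernel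
theorem o0u772 : ∀ k, 0 ≤ k → k < 45607 → orbOk (k * 22) = true := between_extend orbOk 22 0 45548 59 (o0u771) o0r772

theorem o0r773 : allRange orbOk 22 45607 59 = true := by decide +kernel
theorem o0u773 : ∀ k, 0 ≤ k → k < 45666 → orbOk (k * 22) = true := between_extend orbOk 22 0 45607 59 (o0u772) o0r773

theorem o0r774 : allRange orbOk 22 45666 59 = true := by decide +kernel
theorem o0u774 : ∀ k, 0 ≤ k → k < 45725 → orbOk (k * 22) = true := between_extend orbOk 22 0 45666 59 (o0u773) o0r774

theorem o0r775 : allRange orbOk 22 45725 59 = true := by decide +kernel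
theorem o0u775 : ∀ k, 0 ≤ k → k < 45784 → orbOk (k * 22) = true := between_extend orbOk 22 0 45725 59 (o0u774) o0r775

theorem o0r776 : allRange orbOk 22 45784 59 = true := by decide +kernel
theorem o0u776 : ∀ k, 0 ≤ k → k < 45843 → orbOk (k * 22) = true := between_extend orbOk 22 0 45784 59 (o0u775) o0r776

theorem o0r777 : allRange orbOk 22 45843 59 = true := by decide +kernel
theorem o0u777 : ∀ k, 0 ≤ k → k < 45902 → orbOk (k * 22) = true := between_extend orbOk 22 0 45843 59 (o0u776) o0r777

theorem o0r778 : allRange orbOk 22 45902 59 = true := by decide +kernel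
theorem o0u778 : ∀ k, 0 ≤ k → k < 45961 → orbOk (k * 22) = true := between_extend orbOk 22 0 45902 59 (o0u777) o0r778

theorem o0r779 : allRange orbOk 22 45961 59 = true := by decide +kernel
theorem o0u779 : ∀ k, 0 ≤ k → k < 46020 → orbOk (k * 22) = true := between_extend orbOk 22 0 45961 59 (o0u778) o0r779

theorem o0r780 : allRange orbOk 22 46020 59 = true := by decide +kernel
theorem o0u780 : ∀ k, 0 ≤ k → k < 46079 → orbOk (k * 22) = true := between_extend orbOk 22 0 46020 59 (o0u779) o0r780

theorem o0r781 : allRange orbOk 22 46079 59 = true := by decide +kernel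
theorem o0u781 : ∀ k, 0 ≤ k → k < 46138 → orbOk (k * 22) = true := between_extend orbOk 22 0 46079 59 (o0u780) o0r781

theorem o0r782 : allRange orbOk 22 46138 59 = true := by decide +kernel
theorem o0u782 : ∀ k, 0 ≤ k → k < 46197 → orbOk (k * 22) = true := between_extend orbOk 22 0 46138 59 (o0u781) o0r782

theorem o0r783 : allRange orbOk 22 46197 59 = true := by decide +kernel
theorem o0u783 : ∀ k, 0 ≤ k → k < 46256 → orbOk (k * 22) = true := between_extend orbOk 22 0 46197 59 (o0u782) o0r783

theorem o0r784 : allRange orbOk 22 46256 59 = true := by decide +kernel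
theorem o0u784 : ∀ k, 0 ≤ k → k < 46315 → orbOk (k * 22) = true := between_extend orbOk 22 0 46256 59 (o0u783) o0r784

theorem o0r785 : allRange orbOk 22 46315 59 = true := by decide +kernel
theorem o0u785 : ∀ k, 0 ≤ k → k < 46374 → orbOk (k * 22) = true := between_extend orbOk 22 0 46315 59 (o0u784) o0r785

theorem o0r786 : allRange orbOk 22 46374 59 = true := by decide +kernel
theorem o0u786 : ∀ k, 0 ≤ k → k < 46433 → orbOk (k * 22) = true := between_extend orbOk 22 0 46374 59 (o0u785) o0r786

theorem o0r787 : allRange orbOk 22 46433 59 = true := by decide +kernel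
theorem o0u787 : ∀ k, 0 ≤ k → k < 46492 → orbOk (k * 22) = true := between_extend orbOk 22 0 46433 59 (o0u786) o0r787

theorem o0r788 : allRange orbOk 22 46492 59 = true := by decide +kernel
theorem o0u788 : ∀ k, 0 ≤ k → k < 46551 → orbOk (k * 22) = true := between_extend orbOk 22 0 46492 59 (o0u787) o0r788

theorem o0r789 : allRange orbOk 22 46551 59 = true := by decide +kernel
theorem o0u789 : ∀ k, 0 ≤ k → k < 46610 → orbOk (k * 22) = true := between_extend orbOk 22 0 46551 59 (o0u788) o0r789

theorem o0r790 : allRange orbOk 22 46610 59 = true := by decide +kernel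
theorem o0u790 : ∀ k, 0 ≤ k → k < 46669 → orbOk (k * 22) = true := between_extend orbOk 22 0 46610 59 (o0u789) o0r790

theorem o0r791 : allRange orbOk 22 46669 59 = true := by decide +kernel
theorem o0u791 : ∀ k, 0 ≤ k → k < 46728 → orbOk (k * 22) = true := between_extend orbOk 22 0 46669 59 (o0u790) o0r791

theorem o0r792 : allRange orbOk 22 46728 59 = true := by decide +kernel
theorem o0u792 : ∀ k, 0 ≤ k → k < 46787 → orbOk (k * 22) = true := between_extend orbOk 22 0 46728 59 (o0u791) o0r792

theorem o0r793 : allRange orbOk 22 46787 59 = true := by decide +kernel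
theorem o0u793 : ∀ k, 0 ≤ k → k < 46846 → orbOk (k * 22) = true := between_extend orbOk 22 0 46787 59 (o0u792) o0r793

theorem o0r794 : allRange orbOk 22 46846 59 = true := by decide +kernel
theorem o0u794 : ∀ k, 0 ≤ k → k < 46905 → orbOk (k * 22) = true := between_extend orbOk 22 0 46846 59 (o0u793) o0r794

theorem o0r795 : allRange orbOk 22 46905 59 = true := by decide +kernel
theorem o0u795 : ∀ k, 0 ≤ k → k < 46964 → orbOk (k * 22) = true := between_extend orbOk 22 0 46905 59 (o0u794) o0r795

theorem o0r796 : allRange orbOk 22 46964 59 = true := by decide +kernel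
theorem o0u796 : ∀ k, 0 ≤ k → k < 47023 → orbOk (k * 22) = true := between_extend orbOk 22 0 46964 59 (o0u795) o0r796

theorem o0r797 : allRange orbOk 22 47023 59 = true := by decide +kernel
theorem o0u797 : ∀ k, 0 ≤ k → k < 47082 → orbOk (k * 22) = true := between_extend orbOk 22 0 47023 59 (o0u796) o0r797

theorem o0r798 : allRange orbOk 22 47082 59 = true := by decide +kernel
theorem o0u798 : ∀ k, 0 ≤ k → k < 47141 → orbOk (k * 22) = true := between_extend orbOk 22 0 47082 59 (o0u797) o0r798

theorem o0r799 : allRange orbOk 22 47141 59 = true := by decide +kernel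
theorem o0u799 : ∀ k, 0 ≤ k → k < 47200 → orbOk (k * 22) = true := between_extend orbOk 22 0 47141 59 (o0u798) o0r799

theorem o0r800 : allRange orbOk 22 47200 59 = true := by decide +kernel
theorem o0u800 : ∀ k, 0 ≤ k → k < 47259 → orbOk (k * 22) = true := between_extend orbOk 22 0 47200 59 (o0u799) o0r800

theorem o0r801 : allRange orbOk 22 47259 59 = true := by decide +kernel
theorem o0u801 : ∀ k, 0 ≤ k → k < 47318 → orbOk (k * 22) = true := between_extend orbOk 22 0 47259 59 (o0u800) o0r801

theorem o0r802 : allRange orbOk 22 47318 59 = true := by decide +kernel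
theorem o0u802 : ∀ k, 0 ≤ k → k < 47377 → orbOk (k * 22) = true := between_extend orbOk 22 0 47318 59 (o0u801) o0r802

theorem o0r803 : allRange orbOk 22 47377 59 = true := by decide +kernel
theorem o0u803 : ∀ k, 0 ≤ k → k < 47436 → orbOk (k * 22) = true := between_extend orbOk 22 0 47377 59 (o0u802) o0r803

theorem o0r804 : allRange orbOk 22 47436 59 = true := by decide +kernel
theorem o0u804 : ∀ k, 0 ≤ k → k < 47495 → orbOk (k * 22) = true := between_extend orbOk 22 0 47436 59 (o0u803) o0r804

theorem o0r805 : allRange orbOk 22 47495 59 = true := by decide +kernel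
theorem o0u805 : ∀ k, 0 ≤ k → k < 47554 → orbOk (k * 22) = true := between_extend orbOk 22 0 47495 59 (o0u804) o0r805

theorem o0r806 : allRange orbOk 22 47554 59 = true := by decide +kernel
theorem o0u806 : ∀ k, 0 ≤ k → k < 47613 → orbOk (k * 22) = true := between_extend orbOk 22 0 47554 59 (o0u805) o0r806

theorem o0r807 : allRange orbOk 22 47613 59 = true := by decide +kernel
theorem o0u807 : ∀ k, 0 ≤ k → k < 47672 → orbOk (k * 22) = true := between_extend orbOk 22 0 47613 59 (o0u806) o0r807

theorem o0r808 : allRange orbOk 22 47672 59 = true := by decide +kernel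
theorem o0u808 : ∀ k, 0 ≤ k → k < 47731 → orbOk (k * 22) = true := between_extend orbOk 22 0 47672 59 (o0u807) o0r808

theorem o0r809 : allRange orbOk 22 47731 59 = true := by decide +kernel
theorem o0u809 : ∀ k, 0 ≤ k → k < 47790 → orbOk (k * 22) = true := between_extend orbOk 22 0 47731 59 (o0u808) o0r809

theorem o0r810 : allRange orbOk 22 47790 59 = true := by decide +kernel
theorem o0u810 : ∀ k, 0 ≤ k → k < 47849 → orbOk (k * 22) = true := between_extend orbOk 22 0 47790 59 (o0u809) o0r810

theorem o0r811 : allRange orbOk 22 47849 59 = true := by decide +kernel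
theorem o0u811 : ∀ k, 0 ≤ k → k < 47908 → orbOk (k * 22) = true := between_extend orbOk 22 0 47849 59 (o0u810) o0r811

theorem o0r812 : allRange orbOk 22 47908 59 = true := by decide +kernel
theorem o0u812 : ∀ k, 0 ≤ k → k < 47967 → orbOk (k * 22) = true := between_extend orbOk 22 0 47908 59 (o0u811) o0r812

theorem o0r813 : allRange orbOk 22 47967 59 = true := by decide +kernel
theorem o0u813 : ∀ k, 0 ≤ k → k < 48026 → orbOk (k * 22) = true := between_extend orbOk 22 0 47967 59 (o0u812) o0r813

theorem o0r814 : allRange orbOk 22 48026 59 = true := by decide +kernel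
theorem o0u814 : ∀ k, 0 ≤ k → k < 48085 → orbOk (k * 22) = true := between_extend orbOk 22 0 48026 59 (o0u813) o0r814

theorem o0r815 : allRange orbOk 22 48085 59 = true := by decide +kernel
theorem o0u815 : ∀ k, 0 ≤ k → k < 48144 → orbOk (k * 22) = true := between_extend orbOk 22 0 48085 59 (o0u814) o0r815

theorem o0r816 : allRange orbOk 22 48144 59 = true := by decide +kernel
theorem o0u816 : ∀ k, 0 ≤ k → k < 48203 → orbOk (k * 22) = true := between_extend orbOk 22 0 48144 59 (o0u815) o0r816

theorem o0r817 : allRange orbOk 22 48203 59 = true := by decide +kernel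
theorem o0u817 : ∀ k, 0 ≤ k → k < 48262 → orbOk (k * 22) = true := between_extend orbOk 22 0 48203 59 (o0u816) o0r817

theorem o0r818 : allRange orbOk 22 48262 59 = true := by decide +kernel
theorem o0u818 : ∀ k, 0 ≤ k → k < 48321 → orbOk (k * 22) = true := between_extend orbOk 22 0 48262 59 (o0u817) o0r818

theorem o0r819 : allRange orbOk 22 48321 59 = true := by decide +kernel
theorem o0u819 : ∀ k, 0 ≤ k → k < 48380 → orbOk (k * 22) = true := between_extend orbOk 22 0 48321 59 (o0u818) o0r819

theorem o0r820 : allRange orbOk 22 48380 59 = true := by decide +kernel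
theorem o0u820 : ∀ k, 0 ≤ k → k < 48439 → orbOk (k * 22) = true := between_extend orbOk 22 0 48380 59 (o0u819) o0r820

theorem o0r821 : allRange orbOk 22 48439 59 = true := by decide +kernel
theorem o0u821 : ∀ k, 0 ≤ k → k < 48498 → orbOk (k * 22) = true := between_extend orbOk 22 0 48439 59 (o0u820) o0r821

theorem o0r822 : allRange orbOk 22 48498 59 = true := by decide +kernel
theorem o0u822 : ∀ k, 0 ≤ k → k < 48557 → orbOk (k * 22) = true := between_extend orbOk 22 0 48498 59 (o0u821) o0r822

theorem o0r823 : allRange orbOk 22 48557 59 = true := by decide +kernel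
theorem o0u823 : ∀ k, 0 ≤ k → k < 48616 → orbOk (k * 22) = true := between_extend orbOk 22 0 48557 59 (o0u822) o0r823

theorem o0r824 : allRange orbOk 22 48616 59 = true := by decide +kernel
theorem o0u824 : ∀ k, 0 ≤ k → k < 48675 → orbOk (k * 22) = true := between_extend orbOk 22 0 48616 59 (o0u823) o0r824

theorem o0r825 : allRange orbOk 22 48675 59 = true := by decide +kernel
theorem o0u825 : ∀ k, 0 ≤ k → k < 48734 → orbOk (k * 22) = true := between_extend orbOk 22 0 48675 59 (o0u824) o0r825

theorem o0r826 : allRange orbOk 22 48734 59 = true := by decide +kernel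
theorem o0u826 : ∀ k, 0 ≤ k → k < 48793 → orbOk (k * 22) = true := between_extend orbOk 22 0 48734 59 (o0u825) o0r826

theorem o0r827 : allRange orbOk 22 48793 59 = true := by decide +kernel
theorem o0u827 : ∀ k, 0 ≤ k → k < 48852 → orbOk (k * 22) = true := between_extend orbOk 22 0 48793 59 (o0u826) o0r827

theorem o0r828 : allRange orbOk 22 48852 59 = true := by decide +kernel
theorem o0u828 : ∀ k, 0 ≤ k → k < 48911 → orbOk (k * 22) = true := between_extend orbOk 22 0 48852 59 (o0u827) o0r828

theorem o0r829 : allRange orbOk 22 48911 59 = true := by decide +kernel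
theorem o0u829 : ∀ k, 0 ≤ k → k < 48970 → orbOk (k * 22) = true := between_extend orbOk 22 0 48911 59 (o0u828) o0r829

theorem o0r830 : allRange orbOk 22 48970 59 = true := by decide +kernel
theorem o0u830 : ∀ k, 0 ≤ k → k < 49029 → orbOk (k * 22) = true := between_extend orbOk 22 0 48970 59 (o0u829) o0r830

theorem o0r831 : allRange orbOk 22 49029 59 = true := by decide +kernel
theorem o0u831 : ∀ k, 0 ≤ k → k < 49088 → orbOk (k * 22) = true := between_extend orbOk 22 0 49029 59 (o0u830) o0r831

theorem o0r832 : allRange orbOk 22 49088 59 = true := by decide +kernel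
theorem o0u832 : ∀ k, 0 ≤ k → k < 49147 → orbOk (k * 22) = true := between_extend orbOk 22 0 49088 59 (o0u831) o0r832

theorem o0r833 : allRange orbOk 22 49147 59 = true := by decide +kernel
theorem o0u833 : ∀ k, 0 ≤ k → k < 49206 → orbOk (k * 22) = true := between_extend orbOk 22 0 49147 59 (o0u832) o0r833

theorem o0r834 : allRange orbOk 22 49206 59 = true := by decide +kernel
theorem o0u834 : ∀ k, 0 ≤ k → k < 49265 → orbOk (k * 22) = true := between_extend orbOk 22 0 49206 59 (o0u833) o0r834

theorem o0r835 : allRange orbOk 22 49265 59 = true := by decide +kernel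
theorem o0u835 : ∀ k, 0 ≤ k → k < 49324 → orbOk (k * 22) = true := between_extend orbOk 22 0 49265 59 (o0u834) o0r835

theorem o0r836 : allRange orbOk 22 49324 59 = true := by decide +kernel
theorem o0u836 : ∀ k, 0 ≤ k → k < 49383 → orbOk (k * 22) = true := between_extend orbOk 22 0 49324 59 (o0u835) o0r836

theorem o0r837 : allRange orbOk 22 49383 59 = true := by decide +kernel
theorem o0u837 : ∀ k, 0 ≤ k → k < 49442 → orbOk (k * 22) = true := between_extend orbOk 22 0 49383 59 (o0u836) o0r837

theorem o0r838 : allRange orbOk 22 49442 59 = true := by decide +kernel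
theorem o0u838 : ∀ k, 0 ≤ k → k < 49501 → orbOk (k * 22) = true := between_extend orbOk 22 0 49442 59 (o0u837) o0r838

theorem o0r839 : allRange orbOk 22 49501 59 = true := by decide +kernel
theorem o0u839 : ∀ k, 0 ≤ k → k < 49560 → orbOk (k * 22) = true := between_extend orbOk 22 0 49501 59 (o0u838) o0r839

theorem o0r840 : allRange orbOk 22 49560 59 = true := by decide +kernel
theorem o0u840 : ∀ k, 0 ≤ k → k < 49619 → orbOk (k * 22) = true := between_extend orbOk 22 0 49560 59 (o0u839) o0r840

theorem o0r841 : allRange orbOk 22 49619 59 = true := by decide +kernel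
theorem o0u841 : ∀ k, 0 ≤ k → k < 49678 → orbOk (k * 22) = true := between_extend orbOk 22 0 49619 59 (o0u840) o0r841

theorem o0r842 : allRange orbOk 22 49678 59 = true := by decide +kernel
theorem o0u842 : ∀ k, 0 ≤ k → k < 49737 → orbOk (k * 22) = true := between_extend orbOk 22 0 49678 59 (o0u841) o0r842

theorem o0r843 : allRange orbOk 22 49737 59 = true := by decide +kernel
theorem o0u843 : ∀ k, 0 ≤ k → k < 49796 → orbOk (k * 22) = true := between_extend orbOk 22 0 49737 59 (o0u842) o0r843

theorem o0r844 : allRange orbOk 22 49796 59 = true := by decide +kernel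
theorem o0u844 : ∀ k, 0 ≤ k → k < 49855 → orbOk (k * 22) = true := between_extend orbOk 22 0 49796 59 (o0u843) o0r844

theorem o0r845 : allRange orbOk 22 49855 59 = true := by decide +kernel
theorem o0u845 : ∀ k, 0 ≤ k → k < 49914 → orbOk (k * 22) = true := between_extend orbOk 22 0 49855 59 (o0u844) o0r845

theorem o0r846 : allRange orbOk 22 49914 59 = true := by decide +kernel
theorem o0u846 : ∀ k, 0 ≤ k → k < 49973 → orbOk (k * 22) = true := between_extend orbOk 22 0 49914 59 (o0u845) o0r846

theorem o0r847 : allRange orbOk 22 49973 59 = true := by decide +kernel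
theorem o0u847 : ∀ k, 0 ≤ k → k < 50032 → orbOk (k * 22) = true := between_extend orbOk 22 0 49973 59 (o0u846) o0r847

theorem o0r848 : allRange orbOk 22 50032 59 = true := by decide +kernel
theorem o0u848 : ∀ k, 0 ≤ k → k < 50091 → orbOk (k * 22) = true := between_extend orbOk 22 0 50032 59 (o0u847) o0r848

theorem o0r849 : allRange orbOk 22 50091 59 = true := by decide +kernel
theorem o0u849 : ∀ k, 0 ≤ k → k < 50150 → orbOk (k * 22) = true := between_extend orbOk 22 0 50091 59 (o0u848) o0r849

theorem o0r850 : allRange orbOk 22 50150 59 = true := by decide +kernel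
theorem o0u850 : ∀ k, 0 ≤ k → k < 50209 → orbOk (k * 22) = true := between_extend orbOk 22 0 50150 59 (o0u849) o0r850

theorem o0r851 : allRange orbOk 22 50209 59 = true := by decide +kernel
theorem o0u851 : ∀ k, 0 ≤ k → k < 50268 → orbOk (k * 22) = true := between_extend orbOk 22 0 50209 59 (o0u850) o0r851

theorem o0r852 : allRange orbOk 22 50268 59 = true := by decide +kernel
theorem o0u852 : ∀ k, 0 ≤ k → k < 50327 → orbOk (k * 22) = true := between_extend orbOk 22 0 50268 59 (o0u851) o0r852

theorem o0r853 : allRange orbOk 22 50327 59 = true := by decide +kernel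
theorem o0u853 : ∀ k, 0 ≤ k → k < 50386 → orbOk (k * 22) = true := between_extend orbOk 22 0 50327 59 (o0u852) o0r853

theorem o0r854 : allRange orbOk 22 50386 59 = true := by decide +kernel
theorem o0u854 : ∀ k, 0 ≤ k → k < 50445 → orbOk (k * 22) = true := between_extend orbOk 22 0 50386 59 (o0u853) o0r854

theorem o0r855 : allRange orbOk 22 50445 59 = true := by decide +kernel
theorem o0u855 : ∀ k, 0 ≤ k → k < 50504 → orbOk (k * 22) = true := between_extend orbOk 22 0 50445 59 (o0u854) o0r855

theorem o0r856 : allRange orbOk 22 50504 59 = true := by decide +kernel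
theorem o0u856 : ∀ k, 0 ≤ k → k < 50563 → orbOk (k * 22) = true := between_extend orbOk 22 0 50504 59 (o0u855) o0r856

theorem o0r857 : allRange orbOk 22 50563 59 = true := by decide +kernel
theorem o0u857 : ∀ k, 0 ≤ k → k < 50622 → orbOk (k * 22) = true := between_extend orbOk 22 0 50563 59 (o0u856) o0r857

theorem o0r858 : allRange orbOk 22 50622 59 = true := by decide +kernel
theorem o0u858 : ∀ k, 0 ≤ k → k < 50681 → orbOk (k * 22) = true := between_extend orbOk 22 0 50622 59 (o0u857) o0r858

theorem o0r859 : allRange orbOk 22 50681 59 = true := by decide +kernel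
theorem o0u859 : ∀ k, 0 ≤ k → k < 50740 → orbOk (k * 22) = true := between_extend orbOk 22 0 50681 59 (o0u858) o0r859

theorem o0r860 : allRange orbOk 22 50740 59 = true := by decide +kernel
theorem o0u860 : ∀ k, 0 ≤ k → k < 50799 → orbOk (k * 22) = true := between_extend orbOk 22 0 50740 59 (o0u859) o0r860

theorem o0r861 : allRange orbOk 22 50799 59 = true := by decide +kernel
theorem o0u861 : ∀ k, 0 ≤ k → k < 50858 → orbOk (k * 22) = true := between_extend orbOk 22 0 50799 59 (o0u860) o0r861

theorem o0r862 : allRange orbOk 22 50858 59 = true := by decide +kernel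
theorem o0u862 : ∀ k, 0 ≤ k → k < 50917 → orbOk (k * 22) = true := between_extend orbOk 22 0 50858 59 (o0u861) o0r862

theorem o0r863 : allRange orbOk 22 50917 59 = true := by decide +kernel
theorem o0u863 : ∀ k, 0 ≤ k → k < 50976 → orbOk (k * 22) = true := between_extend orbOk 22 0 50917 59 (o0u862) o0r863

theorem o0r864 : allRange orbOk 22 50976 59 = true := by decide +kernel
theorem o0u864 : ∀ k, 0 ≤ k → k < 51035 → orbOk (k * 22) = true := between_extend orbOk 22 0 50976 59 (o0u863) o0r864

theorem o0r865 : allRange orbOk 22 51035 59 = true := by decide +kernel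
theorem o0u865 : ∀ k, 0 ≤ k → k < 51094 → orbOk (k * 22) = true := between_extend orbOk 22 0 51035 59 (o0u864) o0r865

theorem o0r866 : allRange orbOk 22 51094 59 = true := by decide +kernel
theorem o0u866 : ∀ k, 0 ≤ k → k < 51153 → orbOk (k * 22) = true := between_extend orbOk 22 0 51094 59 (o0u865) o0r866

theorem o0r867 : allRange orbOk 22 51153 59 = true := by decide +kernel
theorem o0u867 : ∀ k, 0 ≤ k → k < 51212 → orbOk (k * 22) = true := between_extend orbOk 22 0 51153 59 (o0u866) o0r867

theorem o0r868 : allRange orbOk 22 51212 59 = true := by decide +kernel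
theorem o0u868 : ∀ k, 0 ≤ k → k < 51271 → orbOk (k * 22) = true := between_extend orbOk 22 0 51212 59 (o0u867) o0r868

theorem o0r869 : allRange orbOk 22 51271 59 = true := by decide +kernel
theorem o0u869 : ∀ k, 0 ≤ k → k < 51330 → orbOk (k * 22) = true := between_extend orbOk 22 0 51271 59 (o0u868) o0r869

theorem o0r870 : allRange orbOk 22 51330 59 = true := by decide +kernel
theorem o0u870 : ∀ k, 0 ≤ k → k < 51389 → orbOk (k * 22) = true := between_extend orbOk 22 0 51330 59 (o0u869) o0r870

theorem o0r871 : allRange orbOk 22 51389 59 = true := by decide +kernel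
theorem o0u871 : ∀ k, 0 ≤ k → k < 51448 → orbOk (k * 22) = true := between_extend orbOk 22 0 51389 59 (o0u870) o0r871

theorem o0r872 : allRange orbOk 22 51448 59 = true := by decide +kernel
theorem o0u872 : ∀ k, 0 ≤ k → k < 51507 → orbOk (k * 22) = true := between_extend orbOk 22 0 51448 59 (o0u871) o0r872

theorem o0r873 : allRange orbOk 22 51507 59 = true := by decide +kernel
theorem o0u873 : ∀ k, 0 ≤ k → k < 51566 → orbOk (k * 22) = true := between_extend orbOk 22 0 51507 59 (o0u872) o0r873

theorem o0r874 : allRange orbOk 22 51566 59 = true := by decide +kernel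
theorem o0u874 : ∀ k, 0 ≤ k → k < 51625 → orbOk (k * 22) = true := between_extend orbOk 22 0 51566 59 (o0u873) o0r874

theorem o0r875 : allRange orbOk 22 51625 59 = true := by decide +kernel
theorem o0u875 : ∀ k, 0 ≤ k → k < 51684 → orbOk (k * 22) = true := between_extend orbOk 22 0 51625 59 (o0u874) o0r875

theorem o0r876 : allRange orbOk 22 51684 59 = true := by decide +kernel
theorem o0u876 : ∀ k, 0 ≤ k → k < 51743 → orbOk (k * 22) = true := between_extend orbOk 22 0 51684 59 (o0u875) o0r876

theorem o0r877 : allRange orbOk 22 51743 59 = true := by decide +kernel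
theorem o0u877 : ∀ k, 0 ≤ k → k < 51802 → orbOk (k * 22) = true := between_extend orbOk 22 0 51743 59 (o0u876) o0r877

theorem o0r878 : allRange orbOk 22 51802 59 = true := by decide +kernel
theorem o0u878 : ∀ k, 0 ≤ k → k < 51861 → orbOk (k * 22) = true := between_extend orbOk 22 0 51802 59 (o0u877) o0r878

theorem o0r879 : allRange orbOk 22 51861 59 = true := by decide +kernel
theorem o0u879 : ∀ k, 0 ≤ k → k < 51920 → orbOk (k * 22) = true := between_extend orbOk 22 0 51861 59 (o0u878) o0r879

theorem o0r880 : allRange orbOk 22 51920 59 = true := by decide +kernel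
theorem o0u880 : ∀ k, 0 ≤ k → k < 51979 → orbOk (k * 22) = true := between_extend orbOk 22 0 51920 59 (o0u879) o0r880

theorem o0r881 : allRange orbOk 22 51979 59 = true := by decide +kernel
theorem o0u881 : ∀ k, 0 ≤ k → k < 52038 → orbOk (k * 22) = true := between_extend orbOk 22 0 51979 59 (o0u880) o0r881

theorem o0r882 : allRange orbOk 22 52038 59 = true := by decide +kernel
theorem o0u882 : ∀ k, 0 ≤ k → k < 52097 → orbOk (k * 22) = true := between_extend orbOk 22 0 52038 59 (o0u881) o0r882

theorem o0r883 : allRange orbOk 22 52097 59 = true := by decide +kernel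
theorem o0u883 : ∀ k, 0 ≤ k → k < 52156 → orbOk (k * 22) = true := between_extend orbOk 22 0 52097 59 (o0u882) o0r883

theorem o0r884 : allRange orbOk 22 52156 59 = true := by decide +kernel
theorem o0u884 : ∀ k, 0 ≤ k → k < 52215 → orbOk (k * 22) = true := between_extend orbOk 22 0 52156 59 (o0u883) o0r884

theorem o0r885 : allRange orbOk 22 52215 59 = true := by decide +kernel
theorem o0u885 : ∀ k, 0 ≤ k → k < 52274 → orbOk (k * 22) = true := between_extend orbOk 22 0 52215 59 (o0u884) o0r885

theorem o0r886 : allRange orbOk 22 52274 59 = true := by decide +kernel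
theorem o0u886 : ∀ k, 0 ≤ k → k < 52333 → orbOk (k * 22) = true := between_extend orbOk 22 0 52274 59 (o0u885) o0r886

theorem o0r887 : allRange orbOk 22 52333 59 = true := by decide +kernel
theorem o0u887 : ∀ k, 0 ≤ k → k < 52392 → orbOk (k * 22) = true := between_extend orbOk 22 0 52333 59 (o0u886) o0r887

theorem o0r888 : allRange orbOk 22 52392 59 = true := by decide +kernel
theorem o0u888 : ∀ k, 0 ≤ k → k < 52451 → orbOk (k * 22) = true := between_extend orbOk 22 0 52392 59 (o0u887) o0r888

theorem o0r889 : allRange orbOk 22 52451 59 = true := by decide +kernel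
theorem o0u889 : ∀ k, 0 ≤ k → k < 52510 → orbOk (k * 22) = true := between_extend orbOk 22 0 52451 59 (o0u888) o0r889

theorem o0r890 : allRange orbOk 22 52510 59 = true := by decide +kernel
theorem o0u890 : ∀ k, 0 ≤ k → k < 52569 → orbOk (k * 22) = true := between_extend orbOk 22 0 52510 59 (o0u889) o0r890

theorem o0r891 : allRange orbOk 22 52569 59 = true := by decide +kernel
theorem o0u891 : ∀ k, 0 ≤ k → k < 52628 → orbOk (k * 22) = true := between_extend orbOk 22 0 52569 59 (o0u890) o0r891

theorem o0r892 : allRange orbOk 22 52628 59 = true := by decide +kernel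
theorem o0u892 : ∀ k, 0 ≤ k → k < 52687 → orbOk (k * 22) = true := between_extend orbOk 22 0 52628 59 (o0u891) o0r892

theorem o0r893 : allRange orbOk 22 52687 59 = true := by decide +kernel
theorem o0u893 : ∀ k, 0 ≤ k → k < 52746 → orbOk (k * 22) = true := between_extend orbOk 22 0 52687 59 (o0u892) o0r893

theorem o0r894 : allRange orbOk 22 52746 59 = true := by decide +kernel
theorem o0u894 : ∀ k, 0 ≤ k → k < 52805 → orbOk (k * 22) = true := between_extend orbOk 22 0 52746 59 (o0u893) o0r894

theorem o0r895 : allRange orbOk 22 52805 59 = true := by decide +kernel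
theorem o0u895 : ∀ k, 0 ≤ k → k < 52864 → orbOk (k * 22) = true := between_extend orbOk 22 0 52805 59 (o0u894) o0r895

theorem o0r896 : allRange orbOk 22 52864 59 = true := by decide +kernel
theorem o0u896 : ∀ k, 0 ≤ k → k < 52923 → orbOk (k * 22) = true := between_extend orbOk 22 0 52864 59 (o0u895) o0r896

theorem o0r897 : allRange orbOk 22 52923 59 = true := by decide +kernel
theorem o0u897 : ∀ k, 0 ≤ k → k < 52982 → orbOk (k * 22) = true := between_extend orbOk 22 0 52923 59 (o0u896) o0r897

theorem o0r898 : allRange orbOk 22 52982 59 = true := by decide +kernel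
theorem o0u898 : ∀ k, 0 ≤ k → k < 53041 → orbOk (k * 22) = true := between_extend orbOk 22 0 52982 59 (o0u897) o0r898

theorem o0r899 : allRange orbOk 22 53041 59 = true := by decide +kernel
theorem o0u899 : ∀ k, 0 ≤ k → k < 53100 → orbOk (k * 22) = true := between_extend orbOk 22 0 53041 59 (o0u898) o0r899

theorem o0r900 : allRange orbOk 22 53100 59 = true := by decide +kernel
theorem o0u900 : ∀ k, 0 ≤ k → k < 53159 → orbOk (k * 22) = true := between_extend orbOk 22 0 53100 59 (o0u899) o0r900

theorem o0r901 : allRange orbOk 22 53159 59 = true := by decide +kernel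
theorem o0u901 : ∀ k, 0 ≤ k → k < 53218 → orbOk (k * 22) = true := between_extend orbOk 22 0 53159 59 (o0u900) o0r901

theorem o0r902 : allRange orbOk 22 53218 59 = true := by decide +kernel
theorem o0u902 : ∀ k, 0 ≤ k → k < 53277 → orbOk (k * 22) = true := between_extend orbOk 22 0 53218 59 (o0u901) o0r902

theorem o0r903 : allRange orbOk 22 53277 59 = true := by decide +kernel
theorem o0u903 : ∀ k, 0 ≤ k → k < 53336 → orbOk (k * 22) = true := between_extend orbOk 22 0 53277 59 (o0u902) o0r903

theorem o0r904 : allRange orbOk 22 53336 59 = true := by decide +kernel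
theorem o0u904 : ∀ k, 0 ≤ k → k < 53395 → orbOk (k * 22) = true := between_extend orbOk 22 0 53336 59 (o0u903) o0r904

theorem o0r905 : allRange orbOk 22 53395 59 = true := by decide +kernel
theorem o0u905 : ∀ k, 0 ≤ k → k < 53454 → orbOk (k * 22) = true := between_extend orbOk 22 0 53395 59 (o0u904) o0r905

theorem o0r906 : allRange orbOk 22 53454 59 = true := by decide +kernel
theorem o0u906 : ∀ k, 0 ≤ k → k < 53513 → orbOk (k * 22) = true := between_extend orbOk 22 0 53454 59 (o0u905) o0r906

theorem o0r907 : allRange orbOk 22 53513 59 = true := by decide +kernel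
theorem o0u907 : ∀ k, 0 ≤ k → k < 53572 → orbOk (k * 22) = true := between_extend orbOk 22 0 53513 59 (o0u906) o0r907

theorem o0r908 : allRange orbOk 22 53572 59 = true := by decide +kernel
theorem o0u908 : ∀ k, 0 ≤ k → k < 53631 → orbOk (k * 22) = true := between_extend orbOk 22 0 53572 59 (o0u907) o0r908

theorem o0r909 : allRange orbOk 22 53631 59 = true := by decide +kernel
theorem o0u909 : ∀ k, 0 ≤ k → k < 53690 → orbOk (k * 22) = true := between_extend orbOk 22 0 53631 59 (o0u908) o0r909

theorem o0r910 : allRange orbOk 22 53690 59 = true := by decide +kernel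
theorem o0u910 : ∀ k, 0 ≤ k → k < 53749 → orbOk (k * 22) = true := between_extend orbOk 22 0 53690 59 (o0u909) o0r910

theorem o0r911 : allRange orbOk 22 53749 59 = true := by decide +kernel
theorem o0u911 : ∀ k, 0 ≤ k → k < 53808 → orbOk (k * 22) = true := between_extend orbOk 22 0 53749 59 (o0u910) o0r911

theorem o0r912 : allRange orbOk 22 53808 59 = true := by decide +kernel
theorem o0u912 : ∀ k, 0 ≤ k → k < 53867 → orbOk (k * 22) = true := between_extend orbOk 22 0 53808 59 (o0u911) o0r912

theorem o0r913 : allRange orbOk 22 53867 59 = true := by decide +kernel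
theorem o0u913 : ∀ k, 0 ≤ k → k < 53926 → orbOk (k * 22) = true := between_extend orbOk 22 0 53867 59 (o0u912) o0r913

theorem o0r914 : allRange orbOk 22 53926 59 = true := by decide +kernel
theorem o0u914 : ∀ k, 0 ≤ k → k < 53985 → orbOk (k * 22) = true := between_extend orbOk 22 0 53926 59 (o0u913) o0r914

theorem o0r915 : allRange orbOk 22 53985 59 = true := by decide +kernel
theorem o0u915 : ∀ k, 0 ≤ k → k < 54044 → orbOk (k * 22) = true := between_extend orbOk 22 0 53985 59 (o0u914) o0r915

theorem o0r916 : allRange orbOk 22 54044 59 = true := by decide +kernel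
theorem o0u916 : ∀ k, 0 ≤ k → k < 54103 → orbOk (k * 22) = true := between_extend orbOk 22 0 54044 59 (o0u915) o0r916

theorem o0r917 : allRange orbOk 22 54103 59 = true := by decide +kernel
theorem o0u917 : ∀ k, 0 ≤ k → k < 54162 → orbOk (k * 22) = true := between_extend orbOk 22 0 54103 59 (o0u916) o0r917

theorem o0r918 : allRange orbOk 22 54162 59 = true := by decide +kernel
theorem o0u918 : ∀ k, 0 ≤ k → k < 54221 → orbOk (k * 22) = true := between_extend orbOk 22 0 54162 59 (o0u917) o0r918

theorem o0r919 : allRange orbOk 22 54221 59 = true := by decide +kernel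
theorem o0u919 : ∀ k, 0 ≤ k → k < 54280 → orbOk (k * 22) = true := between_extend orbOk 22 0 54221 59 (o0u918) o0r919

theorem o0r920 : allRange orbOk 22 54280 59 = true := by decide +kernel
theorem o0u920 : ∀ k, 0 ≤ k → k < 54339 → orbOk (k * 22) = true := between_extend orbOk 22 0 54280 59 (o0u919) o0r920

theorem o0r921 : allRange orbOk 22 54339 59 = true := by decide +kernel
theorem o0u921 : ∀ k, 0 ≤ k → k < 54398 → orbOk (k * 22) = true := between_extend orbOk 22 0 54339 59 (o0u920) o0r921

theorem o0r922 : allRange orbOk 22 54398 59 = true := by decide +kernel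
theorem o0u922 : ∀ k, 0 ≤ k → k < 54457 → orbOk (k * 22) = true := between_extend orbOk 22 0 54398 59 (o0u921) o0r922

theorem o0r923 : allRange orbOk 22 54457 59 = true := by decide +kernel
theorem o0u923 : ∀ k, 0 ≤ k → k < 54516 → orbOk (k * 22) = true := between_extend orbOk 22 0 54457 59 (o0u922) o0r923

theorem o0r924 : allRange orbOk 22 54516 59 = true := by decide +kernel
theorem o0u924 : ∀ k, 0 ≤ k → k < 54575 → orbOk (k * 22) = true := between_extend orbOk 22 0 54516 59 (o0u923) o0r924

theorem o0r925 : allRange orbOk 22 54575 59 = true := by decide +kernel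
theorem o0u925 : ∀ k, 0 ≤ k → k < 54634 → orbOk (k * 22) = true := between_extend orbOk 22 0 54575 59 (o0u924) o0r925

theorem o0r926 : allRange orbOk 22 54634 59 = true := by decide +kernel
theorem o0u926 : ∀ k, 0 ≤ k → k < 54693 → orbOk (k * 22) = true := between_extend orbOk 22 0 54634 59 (o0u925) o0r926

theorem o0r927 : allRange orbOk 22 54693 59 = true := by decide +kernel
theorem o0u927 : ∀ k, 0 ≤ k → k < 54752 → orbOk (k * 22) = true := between_extend orbOk 22 0 54693 59 (o0u926) o0r927

theorem o0r928 : allRange orbOk 22 54752 59 = true := by decide +kernel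
theorem o0u928 : ∀ k, 0 ≤ k → k < 54811 → orbOk (k * 22) = true := between_extend orbOk 22 0 54752 59 (o0u927) o0r928

theorem o0r929 : allRange orbOk 22 54811 59 = true := by decide +kernel
theorem o0u929 : ∀ k, 0 ≤ k → k < 54870 → orbOk (k * 22) = true := between_extend orbOk 22 0 54811 59 (o0u928) o0r929

theorem o0r930 : allRange orbOk 22 54870 59 = true := by decide +kernel
theorem o0u930 : ∀ k, 0 ≤ k → k < 54929 → orbOk (k * 22) = true := between_extend orbOk 22 0 54870 59 (o0u929) o0r930

theorem o0r931 : allRange orbOk 22 54929 59 = true := by decide +kernel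
theorem o0u931 : ∀ k, 0 ≤ k → k < 54988 → orbOk (k * 22) = true := between_extend orbOk 22 0 54929 59 (o0u930) o0r931

theorem o0r932 : allRange orbOk 22 54988 59 = true := by decide +kernel
theorem o0u932 : ∀ k, 0 ≤ k → k < 55047 → orbOk (k * 22) = true := between_extend orbOk 22 0 54988 59 (o0u931) o0r932

theorem o0r933 : allRange orbOk 22 55047 59 = true := by decide +kernel
theorem o0u933 : ∀ k, 0 ≤ k → k < 55106 → orbOk (k * 22) = true := between_extend orbOk 22 0 55047 59 (o0u932) o0r933

theorem o0r934 : allRange orbOk 22 55106 59 = true := by decide +kernel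
theorem o0u934 : ∀ k, 0 ≤ k → k < 55165 → orbOk (k * 22) = true := between_extend orbOk 22 0 55106 59 (o0u933) o0r934

theorem o0r935 : allRange orbOk 22 55165 59 = true := by decide +kernel
theorem o0u935 : ∀ k, 0 ≤ k → k < 55224 → orbOk (k * 22) = true := between_extend orbOk 22 0 55165 59 (o0u934) o0r935

theorem o0r936 : allRange orbOk 22 55224 59 = true := by decide +kernel
theorem o0u936 : ∀ k, 0 ≤ k → k < 55283 → orbOk (k * 22) = true := between_extend orbOk 22 0 55224 59 (o0u935) o0r936

theorem o0r937 : allRange orbOk 22 55283 59 = true := by decide +kernel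
theorem o0u937 : ∀ k, 0 ≤ k → k < 55342 → orbOk (k * 22) = true := between_extend orbOk 22 0 55283 59 (o0u936) o0r937

theorem o0r938 : allRange orbOk 22 55342 59 = true := by decide +kernel
theorem o0u938 : ∀ k, 0 ≤ k → k < 55401 → orbOk (k * 22) = true := between_extend orbOk 22 0 55342 59 (o0u937) o0r938

theorem o0r939 : allRange orbOk 22 55401 59 = true := by decide +kernel
theorem o0u939 : ∀ k, 0 ≤ k → k < 55460 → orbOk (k * 22) = true := between_extend orbOk 22 0 55401 59 (o0u938) o0r939

theorem o0r940 : allRange orbOk 22 55460 59 = true := by decide +kernel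
theorem o0u940 : ∀ k, 0 ≤ k → k < 55519 → orbOk (k * 22) = true := between_extend orbOk 22 0 55460 59 (o0u939) o0r940

theorem o0r941 : allRange orbOk 22 55519 59 = true := by decide +kernel
theorem o0u941 : ∀ k, 0 ≤ k → k < 55578 → orbOk (k * 22) = true := between_extend orbOk 22 0 55519 59 (o0u940) o0r941

theorem o0r942 : allRange orbOk 22 55578 59 = true := by decide +kernel
theorem o0u942 : ∀ k, 0 ≤ k → k < 55637 → orbOk (k * 22) = true := between_extend orbOk 22 0 55578 59 (o0u941) o0r942

theorem o0r943 : allRange orbOk 22 55637 59 = true := by decide +kernel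
theorem o0u943 : ∀ k, 0 ≤ k → k < 55696 → orbOk (k * 22) = true := between_extend orbOk 22 0 55637 59 (o0u942) o0r943

theorem o0r944 : allRange orbOk 22 55696 59 = true := by decide +kernel
theorem o0u944 : ∀ k, 0 ≤ k → k < 55755 → orbOk (k * 22) = true := between_extend orbOk 22 0 55696 59 (o0u943) o0r944

theorem o0r945 : allRange orbOk 22 55755 59 = true := by decide +kernel
theorem o0u945 : ∀ k, 0 ≤ k → k < 55814 → orbOk (k * 22) = true := between_extend orbOk 22 0 55755 59 (o0u944) o0r945

theorem o0r946 : allRange orbOk 22 55814 59 = true := by decide +kernel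
theorem o0u946 : ∀ k, 0 ≤ k → k < 55873 → orbOk (k * 22) = true := between_extend orbOk 22 0 55814 59 (o0u945) o0r946

theorem o0r947 : allRange orbOk 22 55873 59 = true := by decide +kernel
theorem o0u947 : ∀ k, 0 ≤ k → k < 55932 → orbOk (k * 22) = true := between_extend orbOk 22 0 55873 59 (o0u946) o0r947

theorem o0r948 : allRange orbOk 22 55932 59 = true := by decide +kernel
theorem o0u948 : ∀ k, 0 ≤ k → k < 55991 → orbOk (k * 22) = true := between_extend orbOk 22 0 55932 59 (o0u947) o0r948

theorem o0r949 : allRange orbOk 22 55991 59 = true := by decide +kernel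
theorem o0u949 : ∀ k, 0 ≤ k → k < 56050 → orbOk (k * 22) = true := between_extend orbOk 22 0 55991 59 (o0u948) o0r949

theorem o0r950 : allRange orbOk 22 56050 59 = true := by decide +kernel
theorem o0u950 : ∀ k, 0 ≤ k → k < 56109 → orbOk (k * 22) = true := between_extend orbOk 22 0 56050 59 (o0u949) o0r950

theorem o0r951 : allRange orbOk 22 56109 59 = true := by decide +kernel
theorem o0u951 : ∀ k, 0 ≤ k → k < 56168 → orbOk (k * 22) = true := between_extend orbOk 22 0 56109 59 (o0u950) o0r951

theorem o0r952 : allRange orbOk 22 56168 59 = true := by decide +kernel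
theorem o0u952 : ∀ k, 0 ≤ k → k < 56227 → orbOk (k * 22) = true := between_extend orbOk 22 0 56168 59 (o0u951) o0r952

theorem o0r953 : allRange orbOk 22 56227 59 = true := by decide +kernel
theorem o0u953 : ∀ k, 0 ≤ k → k < 56286 → orbOk (k * 22) = true := between_extend orbOk 22 0 56227 59 (o0u952) o0r953

theorem o0r954 : allRange orbOk 22 56286 59 = true := by decide +kernel
theorem o0u954 : ∀ k, 0 ≤ k → k < 56345 → orbOk (k * 22) = true := between_extend orbOk 22 0 56286 59 (o0u953) o0r954

theorem o0r955 : allRange orbOk 22 56345 59 = true := by decide +kernel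
theorem o0u955 : ∀ k, 0 ≤ k → k < 56404 → orbOk (k * 22) = true := between_extend orbOk 22 0 56345 59 (o0u954) o0r955

theorem o0r956 : allRange orbOk 22 56404 59 = true := by decide +kernel
theorem o0u956 : ∀ k, 0 ≤ k → k < 56463 → orbOk (k * 22) = true := between_extend orbOk 22 0 56404 59 (o0u955) o0r956

theorem o0r957 : allRange orbOk 22 56463 59 = true := by decide +kernel
theorem o0u957 : ∀ k, 0 ≤ k → k < 56522 → orbOk (k * 22) = true := between_extend orbOk 22 0 56463 59 (o0u956) o0r957

theorem o0r958 : allRange orbOk 22 56522 59 = true := by decide +kernel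
theorem o0u958 : ∀ k, 0 ≤ k → k < 56581 → orbOk (k * 22) = true := between_extend orbOk 22 0 56522 59 (o0u957) o0r958

theorem o0r959 : allRange orbOk 22 56581 59 = true := by decide +kernel
theorem o0u959 : ∀ k, 0 ≤ k → k < 56640 → orbOk (k * 22) = true := between_extend orbOk 22 0 56581 59 (o0u958) o0r959

theorem o0r960 : allRange orbOk 22 56640 59 = true := by decide +kernel
theorem o0u960 : ∀ k, 0 ≤ k → k < 56699 → orbOk (k * 22) = true := between_extend orbOk 22 0 56640 59 (o0u959) o0r960

theorem o0r961 : allRange orbOk 22 56699 59 = true := by decide +kernel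
theorem o0u961 : ∀ k, 0 ≤ k → k < 56758 → orbOk (k * 22) = true := between_extend orbOk 22 0 56699 59 (o0u960) o0r961

theorem o0r962 : allRange orbOk 22 56758 59 = true := by decide +kernel
theorem o0u962 : ∀ k, 0 ≤ k → k < 56817 → orbOk (k * 22) = true := between_extend orbOk 22 0 56758 59 (o0u961) o0r962

theorem o0r963 : allRange orbOk 22 56817 59 = true := by decide +kernel
theorem o0u963 : ∀ k, 0 ≤ k → k < 56876 → orbOk (k * 22) = true := between_extend orbOk 22 0 56817 59 (o0u962) o0r963

theorem o0r964 : allRange orbOk 22 56876 59 = true := by decide +kernel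
theorem o0u964 : ∀ k, 0 ≤ k → k < 56935 → orbOk (k * 22) = true := between_extend orbOk 22 0 56876 59 (o0u963) o0r964

theorem o0r965 : allRange orbOk 22 56935 59 = true := by decide +kernel
theorem o0u965 : ∀ k, 0 ≤ k → k < 56994 → orbOk (k * 22) = true := between_extend orbOk 22 0 56935 59 (o0u964) o0r965

theorem o0r966 : allRange orbOk 22 56994 59 = true := by decide +kernel
theorem o0u966 : ∀ k, 0 ≤ k → k < 57053 → orbOk (k * 22) = true := between_extend orbOk 22 0 56994 59 (o0u965) o0r966

theorem o0r967 : allRange orbOk 22 57053 59 = true := by decide +kernel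
theorem o0u967 : ∀ k, 0 ≤ k → k < 57112 → orbOk (k * 22) = true := between_extend orbOk 22 0 57053 59 (o0u966) o0r967

theorem o0r968 : allRange orbOk 22 57112 59 = true := by decide +kernel
theorem o0u968 : ∀ k, 0 ≤ k → k < 57171 → orbOk (k * 22) = true := between_extend orbOk 22 0 57112 59 (o0u967) o0r968

theorem o0r969 : allRange orbOk 22 57171 59 = true := by decide +kernel
theorem o0u969 : ∀ k, 0 ≤ k → k < 57230 → orbOk (k * 22) = true := between_extend orbOk 22 0 57171 59 (o0u968) o0r969

theorem o0r970 : allRange orbOk 22 57230 59 = true := by decide +kernel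
theorem o0u970 : ∀ k, 0 ≤ k → k < 57289 → orbOk (k * 22) = true := between_extend orbOk 22 0 57230 59 (o0u969) o0r970

theorem o0r971 : allRange orbOk 22 57289 59 = true := by decide +kernel
theorem o0u971 : ∀ k, 0 ≤ k → k < 57348 → orbOk (k * 22) = true := between_extend orbOk 22 0 57289 59 (o0u970) o0r971

theorem o0r972 : allRange orbOk 22 57348 59 = true := by decide +kernel
theorem o0u972 : ∀ k, 0 ≤ k → k < 57407 → orbOk (k * 22) = true := between_extend orbOk 22 0 57348 59 (o0u971) o0r972

theorem o0r973 : allRange orbOk 22 57407 59 = true := by decide +kernel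
theorem o0u973 : ∀ k, 0 ≤ k → k < 57466 → orbOk (k * 22) = true := between_extend orbOk 22 0 57407 59 (o0u972) o0r973

theorem o0r974 : allRange orbOk 22 57466 59 = true := by decide +kernel
theorem o0u974 : ∀ k, 0 ≤ k → k < 57525 → orbOk (k * 22) = true := between_extend orbOk 22 0 57466 59 (o0u973) o0r974

theorem o0r975 : allRange orbOk 22 57525 59 = true := by decide +kernel
theorem o0u975 : ∀ k, 0 ≤ k → k < 57584 → orbOk (k * 22) = true := between_extend orbOk 22 0 57525 59 (o0u974) o0r975

theorem o0r976 : allRange orbOk 22 57584 59 = true := by decide +kernel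
theorem o0u976 : ∀ k, 0 ≤ k → k < 57643 → orbOk (k * 22) = true := between_extend orbOk 22 0 57584 59 (o0u975) o0r976

theorem o0r977 : allRange orbOk 22 57643 59 = true := by decide +kernel
theorem o0u977 : ∀ k, 0 ≤ k → k < 57702 → orbOk (k * 22) = true := between_extend orbOk 22 0 57643 59 (o0u976) o0r977

theorem o0r978 : allRange orbOk 22 57702 59 = true := by decide +kernel
theorem o0u978 : ∀ k, 0 ≤ k → k < 57761 → orbOk (k * 22) = true := between_extend orbOk 22 0 57702 59 (o0u977) o0r978

theorem o0r979 : allRange orbOk 22 57761 59 = true := by decide +kernel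
theorem o0u979 : ∀ k, 0 ≤ k → k < 57820 → orbOk (k * 22) = true := between_extend orbOk 22 0 57761 59 (o0u978) o0r979

theorem o0r980 : allRange orbOk 22 57820 59 = true := by decide +kernel
theorem o0u980 : ∀ k, 0 ≤ k → k < 57879 → orbOk (k * 22) = true := between_extend orbOk 22 0 57820 59 (o0u979) o0r980

theorem o0r981 : allRange orbOk 22 57879 59 = true := by decide +kernel
theorem o0u981 : ∀ k, 0 ≤ k → k < 57938 → orbOk (k * 22) = true := between_extend orbOk 22 0 57879 59 (o0u980) o0r981

theorem o0r982 : allRange orbOk 22 57938 59 = true := by decide +kernel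
theorem o0u982 : ∀ k, 0 ≤ k → k < 57997 → orbOk (k * 22) = true := between_extend orbOk 22 0 57938 59 (o0u981) o0r982

theorem o0r983 : allRange orbOk 22 57997 59 = true := by decide +kernel
theorem o0u983 : ∀ k, 0 ≤ k → k < 58056 → orbOk (k * 22) = true := between_extend orbOk 22 0 57997 59 (o0u982) o0r983

theorem o0r984 : allRange orbOk 22 58056 59 = true := by decide +kernel
theorem o0u984 : ∀ k, 0 ≤ k → k < 58115 → orbOk (k * 22) = true := between_extend orbOk 22 0 58056 59 (o0u983) o0r984

theorem o0r985 : allRange orbOk 22 58115 59 = true := by decide +kernel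
theorem o0u985 : ∀ k, 0 ≤ k → k < 58174 → orbOk (k * 22) = true := between_extend orbOk 22 0 58115 59 (o0u984) o0r985

theorem o0r986 : allRange orbOk 22 58174 59 = true := by decide +kernel
theorem o0u986 : ∀ k, 0 ≤ k → k < 58233 → orbOk (k * 22) = true := between_extend orbOk 22 0 58174 59 (o0u985) o0r986

theorem o0r987 : allRange orbOk 22 58233 59 = true := by decide +kernel
theorem o0u987 : ∀ k, 0 ≤ k → k < 58292 → orbOk (k * 22) = true := between_extend orbOk 22 0 58233 59 (o0u986) o0r987

theorem o0r988 : allRange orbOk 22 58292 59 = true := by decide +kernel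
theorem o0u988 : ∀ k, 0 ≤ k → k < 58351 → orbOk (k * 22) = true := between_extend orbOk 22 0 58292 59 (o0u987) o0r988

theorem o0r989 : allRange orbOk 22 58351 59 = true := by decide +kernel
theorem o0u989 : ∀ k, 0 ≤ k → k < 58410 → orbOk (k * 22) = true := between_extend orbOk 22 0 58351 59 (o0u988) o0r989

theorem o0r990 : allRange orbOk 22 58410 59 = true := by decide +kernel
theorem o0u990 : ∀ k, 0 ≤ k → k < 58469 → orbOk (k * 22) = true := between_extend orbOk 22 0 58410 59 (o0u989) o0r990

theorem o0r991 : allRange orbOk 22 58469 59 = true := by decide +kernel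
theorem o0u991 : ∀ k, 0 ≤ k → k < 58528 → orbOk (k * 22) = true := between_extend orbOk 22 0 58469 59 (o0u990) o0r991

theorem o0r992 : allRange orbOk 22 58528 59 = true := by decide +kernel
theorem o0u992 : ∀ k, 0 ≤ k → k < 58587 → orbOk (k * 22) = true := between_extend orbOk 22 0 58528 59 (o0u991) o0r992

theorem o0r993 : allRange orbOk 22 58587 59 = true := by decide +kernel
theorem o0u993 : ∀ k, 0 ≤ k → k < 58646 → orbOk (k * 22) = true := between_extend orbOk 22 0 58587 59 (o0u992) o0r993

theorem o0r994 : allRange orbOk 22 58646 59 = true := by decide +kernel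
theorem o0u994 : ∀ k, 0 ≤ k → k < 58705 → orbOk (k * 22) = true := between_extend orbOk 22 0 58646 59 (o0u993) o0r994

theorem o0r995 : allRange orbOk 22 58705 59 = true := by decide +kernel
theorem o0u995 : ∀ k, 0 ≤ k → k < 58764 → orbOk (k * 22) = true := between_extend orbOk 22 0 58705 59 (o0u994) o0r995

theorem o0r996 : allRange orbOk 22 58764 59 = true := by decide +kernel
theorem o0u996 : ∀ k, 0 ≤ k → k < 58823 → orbOk (k * 22) = true := between_extend orbOk 22 0 58764 59 (o0u995) o0r996

theorem o0r997 : allRange orbOk 22 58823 59 = true := by decide +kernel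
theorem o0u997 : ∀ k, 0 ≤ k → k < 58882 → orbOk (k * 22) = true := between_extend orbOk 22 0 58823 59 (o0u996) o0r997

theorem o0r998 : allRange orbOk 22 58882 59 = true := by decide +kernel
theorem o0u998 : ∀ k, 0 ≤ k → k < 58941 → orbOk (k * 22) = true := between_extend orbOk 22 0 58882 59 (o0u997) o0r998

theorem o0r999 : allRange orbOk 22 58941 59 = true := by decide +kernel
theorem o0u999 : ∀ k, 0 ≤ k → k < 59000 → orbOk (k * 22) = true := between_extend orbOk 22 0 58941 59 (o0u998) o0r999

theorem o0r1000 : allRange orbOk 22 59000 59 = true := by decide +kernel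
theorem o0u1000 : ∀ k, 0 ≤ k → k < 59059 → orbOk (k * 22) = true := between_extend orbOk 22 0 59000 59 (o0u999) o0r1000

theorem o0r1001 : allRange orbOk 22 59059 59 = true := by decide +kernel
theorem o0u1001 : ∀ k, 0 ≤ k → k < 59118 → orbOk (k * 22) = true := between_extend orbOk 22 0 59059 59 (o0u1000) o0r1001

theorem o0r1002 : allRange orbOk 22 59118 59 = true := by decide +kernel
theorem o0u1002 : ∀ k, 0 ≤ k → k < 59177 → orbOk (k * 22) = true := between_extend orbOk 22 0 59118 59 (o0u1001) o0r1002

theorem o0r1003 : allRange orbOk 22 59177 59 = true := by decide +kernel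
theorem o0u1003 : ∀ k, 0 ≤ k → k < 59236 → orbOk (k * 22) = true := between_extend orbOk 22 0 59177 59 (o0u1002) o0r1003

theorem o0r1004 : allRange orbOk 22 59236 59 = true := by decide +kernel
theorem o0u1004 : ∀ k, 0 ≤ k → k < 59295 → orbOk (k * 22) = true := between_extend orbOk 22 0 59236 59 (o0u1003) o0r1004

theorem o0r1005 : allRange orbOk 22 59295 59 = true := by decide +kernel
theorem o0u1005 : ∀ k, 0 ≤ k → k < 59354 → orbOk (k * 22) = true := between_extend orbOk 22 0 59295 59 (o0u1004) o0r1005

theorem o0r1006 : allRange orbOk 22 59354 59 = true := by decide +kernel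
theorem o0u1006 : ∀ k, 0 ≤ k → k < 59413 → orbOk (k * 22) = true := between_extend orbOk 22 0 59354 59 (o0u1005) o0r1006

theorem o0r1007 : allRange orbOk 22 59413 59 = true := by decide +kernel
theorem o0u1007 : ∀ k, 0 ≤ k → k < 59472 → orbOk (k * 22) = true := between_extend orbOk 22 0 59413 59 (o0u1006) o0r1007

theorem o0r1008 : allRange orbOk 22 59472 59 = true := by decide +kernel
theorem o0u1008 : ∀ k, 0 ≤ k → k < 59531 → orbOk (k * 22) = true := between_extend orbOk 22 0 59472 59 (o0u1007) o0r1008

theorem o0r1009 : allRange orbOk 22 59531 59 = true := by decide +kernel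
theorem o0u1009 : ∀ k, 0 ≤ k → k < 59590 → orbOk (k * 22) = true := between_extend orbOk 22 0 59531 59 (o0u1008) o0r1009

theorem o0r1010 : allRange orbOk 22 59590 59 = true := by decide +kernel
theorem o0u1010 : ∀ k, 0 ≤ k → k < 59649 → orbOk (k * 22) = true := between_extend orbOk 22 0 59590 59 (o0u1009) o0r1010

theorem o0r1011 : allRange orbOk 22 59649 59 = true := by decide +kernel
theorem o0u1011 : ∀ k, 0 ≤ k → k < 59708 → orbOk (k * 22) = true := between_extend orbOk 22 0 59649 59 (o0u1010) o0r1011

theorem o0r1012 : allRange orbOk 22 59708 59 = true := by decide +kernel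
theorem o0u1012 : ∀ k, 0 ≤ k → k < 59767 → orbOk (k * 22) = true := between_extend orbOk 22 0 59708 59 (o0u1011) o0r1012

theorem o0r1013 : allRange orbOk 22 59767 59 = true := by decide +kernel
theorem o0u1013 : ∀ k, 0 ≤ k → k < 59826 → orbOk (k * 22) = true := between_extend orbOk 22 0 59767 59 (o0u1012) o0r1013

theorem o0r1014 : allRange orbOk 22 59826 59 = true := by decide +kernel
theorem o0u1014 : ∀ k, 0 ≤ k → k < 59885 → orbOk (k * 22) = true := between_extend orbOk 22 0 59826 59 (o0u1013) o0r1014

theorem o0r1015 : allRange orbOk 22 59885 59 = true := by decide +kernel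
theorem o0u1015 : ∀ k, 0 ≤ k → k < 59944 → orbOk (k * 22) = true := between_extend orbOk 22 0 59885 59 (o0u1014) o0r1015

theorem o0r1016 : allRange orbOk 22 59944 59 = true := by decide +kernel
theorem o0u1016 : ∀ k, 0 ≤ k → k < 60003 → orbOk (k * 22) = true := between_extend orbOk 22 0 59944 59 (o0u1015) o0r1016

theorem o0r1017 : allRange orbOk 22 60003 59 = true := by decide +kernel
theorem o0u1017 : ∀ k, 0 ≤ k → k < 60062 → orbOk (k * 22) = true := between_extend orbOk 22 0 60003 59 (o0u1016) o0r1017

theorem o0r1018 : allRange orbOk 22 60062 59 = true := by decide +kernel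
theorem o0u1018 : ∀ k, 0 ≤ k → k < 60121 → orbOk (k * 22) = true := between_extend orbOk 22 0 60062 59 (o0u1017) o0r1018

theorem o0r1019 : allRange orbOk 22 60121 59 = true := by decide +kernel
theorem o0u1019 : ∀ k, 0 ≤ k → k < 60180 → orbOk (k * 22) = true := between_extend orbOk 22 0 60121 59 (o0u1018) o0r1019

theorem o0r1020 : allRange orbOk 22 60180 59 = true := by decide +kernel
theorem o0u1020 : ∀ k, 0 ≤ k → k < 60239 → orbOk (k * 22) = true := between_extend orbOk 22 0 60180 59 (o0u1019) o0r1020

theorem o0r1021 : allRange orbOk 22 60239 59 = true := by decide +kernel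
theorem o0u1021 : ∀ k, 0 ≤ k → k < 60298 → orbOk (k * 22) = true := between_extend orbOk 22 0 60239 59 (o0u1020) o0r1021

theorem o0r1022 : allRange orbOk 22 60298 59 = true := by decide +kernel
theorem o0u1022 : ∀ k, 0 ≤ k → k < 60357 → orbOk (k * 22) = true := between_extend orbOk 22 0 60298 59 (o0u1021) o0r1022

theorem o0r1023 : allRange orbOk 22 60357 59 = true := by decide +kernel
theorem o0u1023 : ∀ k, 0 ≤ k → k < 60416 → orbOk (k * 22) = true := between_extend orbOk 22 0 60357 59 (o0u1022) o0r1023

theorem o0r1024 : allRange orbOk 22 60416 59 = true := by decide +kernel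
theorem o0u1024 : ∀ k, 0 ≤ k → k < 60475 → orbOk (k * 22) = true := between_extend orbOk 22 0 60416 59 (o0u1023) o0r1024

theorem o0r1025 : allRange orbOk 22 60475 59 = true := by decide +kernel
theorem o0u1025 : ∀ k, 0 ≤ k → k < 60534 → orbOk (k * 22) = true := between_extend orbOk 22 0 60475 59 (o0u1024) o0r1025

theorem o0r1026 : allRange orbOk 22 60534 59 = true := by decide +kernel
theorem o0u1026 : ∀ k, 0 ≤ k → k < 60593 → orbOk (k * 22) = true := between_extend orbOk 22 0 60534 59 (o0u1025) o0r1026

theorem o0r1027 : allRange orbOk 22 60593 59 = true := by decide +kernel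
theorem o0u1027 : ∀ k, 0 ≤ k → k < 60652 → orbOk (k * 22) = true := between_extend orbOk 22 0 60593 59 (o0u1026) o0r1027

theorem o0r1028 : allRange orbOk 22 60652 59 = true := by decide +kernel
theorem o0u1028 : ∀ k, 0 ≤ k → k < 60711 → orbOk (k * 22) = true := between_extend orbOk 22 0 60652 59 (o0u1027) o0r1028

theorem o0r1029 : allRange orbOk 22 60711 59 = true := by decide +kernel
theorem o0u1029 : ∀ k, 0 ≤ k → k < 60770 → orbOk (k * 22) = true := between_extend orbOk 22 0 60711 59 (o0u1028) o0r1029

theorem o0r1030 : allRange orbOk 22 60770 59 = true := by decide +kernel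
theorem o0u1030 : ∀ k, 0 ≤ k → k < 60829 → orbOk (k * 22) = true := between_extend orbOk 22 0 60770 59 (o0u1029) o0r1030

theorem o0r1031 : allRange orbOk 22 60829 59 = true := by decide +kernel
theorem o0u1031 : ∀ k, 0 ≤ k → k < 60888 → orbOk (k * 22) = true := between_extend orbOk 22 0 60829 59 (o0u1030) o0r1031

theorem o0r1032 : allRange orbOk 22 60888 59 = true := by decide +kernel
theorem o0u1032 : ∀ k, 0 ≤ k → k < 60947 → orbOk (k * 22) = true := between_extend orbOk 22 0 60888 59 (o0u1031) o0r1032

theorem o0r1033 : allRange orbOk 22 60947 59 = true := by decide +kernel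
theorem o0u1033 : ∀ k, 0 ≤ k → k < 61006 → orbOk (k * 22) = true := between_extend orbOk 22 0 60947 59 (o0u1032) o0r1033

theorem o0r1034 : allRange orbOk 22 61006 59 = true := by decide +kernel
theorem o0u1034 : ∀ k, 0 ≤ k → k < 61065 → orbOk (k * 22) = true := between_extend orbOk 22 0 61006 59 (o0u1033) o0r1034

theorem o0r1035 : allRange orbOk 22 61065 59 = true := by decide +kernel
theorem o0u1035 : ∀ k, 0 ≤ k → k < 61124 → orbOk (k * 22) = true := between_extend orbOk 22 0 61065 59 (o0u1034) o0r1035

theorem o0r1036 : allRange orbOk 22 61124 59 = true := by decide +kernel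
theorem o0u1036 : ∀ k, 0 ≤ k → k < 61183 → orbOk (k * 22) = true := between_extend orbOk 22 0 61124 59 (o0u1035) o0r1036

theorem o0r1037 : allRange orbOk 22 61183 59 = true := by decide +kernel
theorem o0u1037 : ∀ k, 0 ≤ k → k < 61242 → orbOk (k * 22) = true := between_extend orbOk 22 0 61183 59 (o0u1036) o0r1037

theorem o0r1038 : allRange orbOk 22 61242 59 = true := by decide +kernel
theorem o0u1038 : ∀ k, 0 ≤ k → k < 61301 → orbOk (k * 22) = true := between_extend orbOk 22 0 61242 59 (o0u1037) o0r1038

theorem o0r1039 : allRange orbOk 22 61301 59 = true := by decide +kernel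
theorem o0u1039 : ∀ k, 0 ≤ k → k < 61360 → orbOk (k * 22) = true := between_extend orbOk 22 0 61301 59 (o0u1038) o0r1039

theorem o0r1040 : allRange orbOk 22 61360 20 = true := by decide +kernel
theorem o0u1040 : ∀ k, 0 ≤ k → k < 61380 → orbOk (k * 22) = true := between_extend orbOk 22 0 61360 20 (o0u1039) o0r1040

theorem o0 : ∀ k, 0 ≤ k → k < 61380 → orbOk (k * 22) = true := o0u1040

end Cfsg.Agent.Lib.Helper28_S1692
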