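import Cfsg.Agent.Lib.Helper28_S1692P5  -- build-order chain (limits parallel memory use)
import Cfsg.Agent.Lib.Helper28_S1692Def

set_option autoImplicit false
set_option linter.constructorNameAsVariable false
set_option Elab.async false

namespace Cfsg.Agent.Lib.Helper28_S1692

open Cfsg.Agent.Lib.Helper28_CosetPerm

theorem o1r0 : allRange orbOk 22 61380 59 = true := by decide +kernel
theorem o1u0 : ∀ k, 61380 ≤ k → k < 61439 → orbOk (k * 22) = true := between_extend orbOk 22 61380 61380 59 (between_start orbOk 22 61380) o1r0

theorem o1r1 : allRange orbOk 22 61439 59 = true := by decide +kernel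
theorem o1u1 : ∀ k, 61380 ≤ k → k < 61498 → orbOk (k * 22) = true := between_extend orbOk 22 61380 61439 59 (o1u0) o1r1

theorem o1r2 : allRange orbOk 22 61498 59 = true := by decide +kernel
theorem o1u2 : ∀ k, 61380 ≤ k → k < 61557 → orbOk (k * 22) = true := between_extend orbOk 22 61380 61498 59 (o1u1) o1r2

theorem o1r3 : allRange orbOk 22 61557 59 = true := by decide +kernel
theorem o1u3 : ∀ k, 61380 ≤ k → k < 61616 → orbOk (k * 22) = true := between_extend orbOk 22 61380 61557 59 (o1u2) o1r3

theorem o1r4 : allRange orbOk 22 61616 59 = true := by decide +kernel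
theorem o1u4 : ∀ k, 61380 ≤ k → k < 61675 → orbOk (k * 22) = true := between_extend orbOk 22 61380 61616 59 (o1u3) o1r4

theorem o1r5 : allRange orbOk 22 61675 59 = true := by decide +kernel
theorem o1u5 : ∀ k, 61380 ≤ k → k < 61734 → orbOk (k * 22) = true := between_extend orbOk 22 61380 61675 59 (o1u4) o1r5

theorem o1r6 : allRange orbOk 22 61734 59 = true := by decide +kernel
theorem o1u6 : ∀ k, 61380 ≤ k → k < 61793 → orbOk (k * 22) = true := between_extend orbOk 22 61380 61734 59 (o1u5) o1r6

theorem o1r7 : allRange orbOk 22 61793 59 = true := by decide +kernel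
theorem o1u7 : ∀ k, 61380 ≤ k → k < 61852 → orbOk (k * 22) = true := between_extend orbOk 22 61380 61793 59 (o1u6) o1r7

theorem o1r8 : allRange orbOk 22 61852 59 = true := by decide +kernel
theorem o1u8 : ∀ k, 61380 ≤ k → k < 61911 → orbOk (k * 22) = true := between_extend orbOk 22 61380 61852 59 (o1u7) o1r8

theorem o1r9 : allRange orbOk 22 61911 59 = true := by decide +kernel
theorem o1u9 : ∀ k, 61380 ≤ k → k < 61970 → orbOk (k * 22) = true := between_extend orbOk 22 61380 61911 59 (o1u8) o1r9

theorem o1r10 : allRange orbOk 22 61970 59 = true := by decide +kernel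
theorem o1u10 : ∀ k, 61380 ≤ k → k < 62029 → orbOk (k * 22) = true := between_extend orbOk 22 61380 61970 59 (o1u9) o1r10

theorem o1r11 : allRange orbOk 22 62029 59 = true := by decide +kernel
theorem o1u11 : ∀ k, 61380 ≤ k → k < 62088 → orbOk (k * 22) = true := between_extend orbOk 22 61380 62029 59 (o1u10) o1r11

theorem o1r12 : allRange orbOk 22 62088 59 = true := by decide +kernel
theorem o1u12 : ∀ k, 61380 ≤ k → k < 62147 → orbOk (k * 22) = true := between_extend orbOk 22 61380 62088 59 (o1u11) o1r12

theorem o1r13 : allRange orbOk 22 62147 59 = true := by decide +kernel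
theorem o1u13 : ∀ k, 61380 ≤ k → k < 62206 → orbOk (k * 22) = true := between_extend orbOk 22 61380 62147 59 (o1u12) o1r13

theorem o1r14 : allRange orbOk 22 62206 59 = true := by decide +kernel
theorem o1u14 : ∀ k, 61380 ≤ k → k < 62265 → orbOk (k * 22) = true := between_extend orbOk 22 61380 62206 59 (o1u13) o1r14

theorem o1r15 : allRange orbOk 22 62265 59 = true := by decide +kernel
theorem o1u15 : ∀ k, 61380 ≤ k → k < 62324 → orbOk (k * 22) = true := between_extend orbOk 22 61380 62265 59 (o1u14) o1r15

theorem o1r16 : allRange orbOk 22 62324 59 = true := by decide +kernel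
theorem o1u16 : ∀ k, 61380 ≤ k → k < 62383 → orbOk (k * 22) = true := between_extend orbOk 22 61380 62324 59 (o1u15) o1r16

theorem o1r17 : allRange orbOk 22 62383 59 = true := by decide +kernel
theorem o1u17 : ∀ k, 61380 ≤ k → k < 62442 → orbOk (k * 22) = true := between_extend orbOk 22 61380 62383 59 (o1u16) o1r17

theorem o1r18 : allRange orbOk 22 62442 59 = true := by decide +kernel
theorem o1u18 : ∀ k, 61380 ≤ k → k < 62501 → orbOk (k * 22) = true := between_extend orbOk 22 61380 62442 59 (o1u17) o1r18

theorem o1r19 : allRange orbOk 22 62501 59 = true := by decide +kernel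
theorem o1u19 : ∀ k, 61380 ≤ k → k < 62560 → orbOk (k * 22) = true := between_extend orbOk 22 61380 62501 59 (o1u18) o1r19

theorem o1r20 : allRange orbOk 22 62560 59 = true := by decide +kernel
theorem o1u20 : ∀ k, 61380 ≤ k → k < 62619 → orbOk (k * 22) = true := between_extend orbOk 22 61380 62560 59 (o1u19) o1r20

theorem o1r21 : allRange orbOk 22 62619 59 = true := by decide +kernel
theorem o1u21 : ∀ k, 61380 ≤ k → k < 62678 → orbOk (k * 22) = true := between_extend orbOk 22 61380 62619 59 (o1u20) o1r21

theorem o1r22 : allRange orbOk 22 62678 59 = true := by decide +kernel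
theorem o1u22 : ∀ k, 61380 ≤ k → k < 62737 → orbOk (k * 22) = true := between_extend orbOk 22 61380 62678 59 (o1u21) o1r22

theorem o1r23 : allRange orbOk 22 62737 59 = true := by decide +kernel
theorem o1u23 : ∀ k, 61380 ≤ k → k < 62796 → orbOk (k * 22) = true := between_extend orbOk 22 61380 62737 59 (o1u22) o1r23

theorem o1r24 : allRange orbOk 22 62796 59 = true := by decide +kernel
theorem o1u24 : ∀ k, 61380 ≤ k → k < 62855 → orbOk (k * 22) = true := between_extend orbOk 22 61380 62796 59 (o1u23) o1r24

theorem o1r25 : allRange orbOk 22 62855 59 = true := by decide +kernel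
theorem o1u25 : ∀ k, 61380 ≤ k → k < 62914 → orbOk (k * 22) = true := between_extend orbOk 22 61380 62855 59 (o1u24) o1r25

theorem o1r26 : allRange orbOk 22 62914 59 = true := by decide +kernel
theorem o1u26 : ∀ k, 61380 ≤ k → k < 62973 → orbOk (k * 22) = true := between_extend orbOk 22 61380 62914 59 (o1u25) o1r26

theorem o1r27 : allRange orbOk 22 62973 59 = true := by decide +kernel
theorem o1u27 : ∀ k, 61380 ≤ k → k < 63032 → orbOk (k * 22) = true := between_extend orbOk 22 61380 62973 59 (o1u26) o1r27

theorem o1r28 : allRange orbOk 22 63032 59 = true := by decide +kernel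
theorem o1u28 : ∀ k, 61380 ≤ k → k < 63091 → orbOk (k * 22) = true := between_extend orbOk 22 61380 63032 59 (o1u27) o1r28

theorem o1r29 : allRange orbOk 22 63091 59 = true := by decide +kernel
theorem o1u29 : ∀ k, 61380 ≤ k → k < 63150 → orbOk (k * 22) = true := between_extend orbOk 22 61380 63091 59 (o1u28) o1r29

theorem o1r30 : allRange orbOk 22 63150 59 = true := by decide +kernel
theorem o1u30 : ∀ k, 61380 ≤ k → k < 63209 → orbOk (k * 22) = true := between_extend orbOk 22 61380 63150 59 (o1u29) o1r30

theorem o1r31 : allRange orbOk 22 63209 59 = true := by decide +kernel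
theorem o1u31 : ∀ k, 61380 ≤ k → k < 63268 → orbOk (k * 22) = true := between_extend orbOk 22 61380 63209 59 (o1u30) o1r31

theorem o1r32 : allRange orbOk 22 63268 59 = true := by decide +kernel
theorem o1u32 : ∀ k, 61380 ≤ k → k < 63327 → orbOk (k * 22) = true := between_extend orbOk 22 61380 63268 59 (o1u31) o1r32

theorem o1r33 : allRange orbOk 22 63327 59 = true := by decide +kernel
theorem o1u33 : ∀ k, 61380 ≤ k → k < 63386 → orbOk (k * 22) = true := between_extend orbOk 22 61380 63327 59 (o1u32) o1r33

theorem o1r34 : allRange orbOk 22 63386 59 = true := by decide +kernel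
theorem o1u34 : ∀ k, 61380 ≤ k → k < 63445 → orbOk (k * 22) = true := between_extend orbOk 22 61380 63386 59 (o1u33) o1r34

theorem o1r35 : allRange orbOk 22 63445 59 = true := by decide +kernel
theorem o1u35 : ∀ k, 61380 ≤ k → k < 63504 → orbOk (k * 22) = true := between_extend orbOk 22 61380 63445 59 (o1u34) o1r35

theorem o1r36 : allRange orbOk 22 63504 59 = true := by decide +kernel
theorem o1u36 : ∀ k, 61380 ≤ k → k < 63563 → orbOk (k * 22) = true := between_extend orbOk 22 61380 63504 59 (o1u35) o1r36

theorem o1r37 : allRange orbOk 22 63563 59 = true := by decide +kernel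
theorem o1u37 : ∀ k, 61380 ≤ k → k < 63622 → orbOk (k * 22) = true := between_extend orbOk 22 61380 63563 59 (o1u36) o1r37

theorem o1r38 : allRange orbOk 22 63622 59 = true := by decide +kernel
theorem o1u38 : ∀ k, 61380 ≤ k → k < 63681 → orbOk (k * 22) = true := between_extend orbOk 22 61380 63622 59 (o1u37) o1r38

theorem o1r39 : allRange orbOk 22 63681 59 = true := by decide +kernel
theorem o1u39 : ∀ k, 61380 ≤ k → k < 63740 → orbOk (k * 22) = true := between_extend orbOk 22 61380 63681 59 (o1u38) o1r39

theorem o1r40 : allRange orbOk 22 63740 59 = true := by decide +kernel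
theorem o1u40 : ∀ k, 61380 ≤ k → k < 63799 → orbOk (k * 22) = true := between_extend orbOk 22 61380 63740 59 (o1u39) o1r40

theorem o1r41 : allRange orbOk 22 63799 59 = true := by decide +kernel
theorem o1u41 : ∀ k, 61380 ≤ k → k < 63858 → orbOk (k * 22) = true := between_extend orbOk 22 61380 63799 59 (o1u40) o1r41

theorem o1r42 : allRange orbOk 22 63858 59 = true := by decide +kernel
theorem o1u42 : ∀ k, 61380 ≤ k → k < 63917 → orbOk (k * 22) = true := between_extend orbOk 22 61380 63858 59 (o1u41) o1r42

theorem o1r43 : allRange orbOk 22 63917 59 = true := by decide +kernel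
theorem o1u43 : ∀ k, 61380 ≤ k → k < 63976 → orbOk (k * 22) = true := between_extend orbOk 22 61380 63917 59 (o1u42) o1r43

theorem o1r44 : allRange orbOk 22 63976 59 = true := by decide +kernel
theorem o1u44 : ∀ k, 61380 ≤ k → k < 64035 → orbOk (k * 22) = true := between_extend orbOk 22 61380 63976 59 (o1u43) o1r44

theorem o1r45 : allRange orbOk 22 64035 59 = true := by decide +kernel
theorem o1u45 : ∀ k, 61380 ≤ k → k < 64094 → orbOk (k * 22) = true := between_extend orbOk 22 61380 64035 59 (o1u44) o1r45

theorem o1r46 : allRange orbOk 22 64094 59 = true := by decide +kernel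
theorem o1u46 : ∀ k, 61380 ≤ k → k < 64153 → orbOk (k * 22) = true := between_extend orbOk 22 61380 64094 59 (o1u45) o1r46

theorem o1r47 : allRange orbOk 22 64153 59 = true := by decide +kernel
theorem o1u47 : ∀ k, 61380 ≤ k → k < 64212 → orbOk (k * 22) = true := between_extend orbOk 22 61380 64153 59 (o1u46) o1r47

theorem o1r48 : allRange orbOk 22 64212 59 = true := by decide +kernel
theorem o1u48 : ∀ k, 61380 ≤ k → k < 64271 → orbOk (k * 22) = true := between_extend orbOk 22 61380 64212 59 (o1u47) o1r48

theorem o1r49 : allRange orbOk 22 64271 59 = true := by decide +kernel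
theorem o1u49 : ∀ k, 61380 ≤ k → k < 64330 → orbOk (k * 22) = true := between_extend orbOk 22 61380 64271 59 (o1u48) o1r49

theorem o1r50 : allRange orbOk 22 64330 59 = true := by decide +kernel
theorem o1u50 : ∀ k, 61380 ≤ k → k < 64389 → orbOk (k * 22) = true := between_extend orbOk 22 61380 64330 59 (o1u49) o1r50

theorem o1r51 : allRange orbOk 22 64389 59 = true := by decide +kernel
theorem o1u51 : ∀ k, 61380 ≤ k → k < 64448 → orbOk (k * 22) = true := between_extend orbOk 22 61380 64389 59 (o1u50) o1r51

theorem o1r52 : allRange orbOk 22 64448 59 = true := by decide +kernel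
theorem o1u52 : ∀ k, 61380 ≤ k → k < 64507 → orbOk (k * 22) = true := between_extend orbOk 22 61380 64448 59 (o1u51) o1r52

theorem o1r53 : allRange orbOk 22 64507 59 = true := by decide +kernel
theorem o1u53 : ∀ k, 61380 ≤ k → k < 64566 → orbOk (k * 22) = true := between_extend orbOk 22 61380 64507 59 (o1u52) o1r53

theorem o1r54 : allRange orbOk 22 64566 59 = true := by decide +kernel
theorem o1u54 : ∀ k, 61380 ≤ k → k < 64625 → orbOk (k * 22) = true := between_extend orbOk 22 61380 64566 59 (o1u53) o1r54

theorem o1r55 : allRange orbOk 22 64625 59 = true := by decide +kernel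
theorem o1u55 : ∀ k, 61380 ≤ k → k < 64684 → orbOk (k * 22) = true := between_extend orbOk 22 61380 64625 59 (o1u54) o1r55

theorem o1r56 : allRange orbOk 22 64684 59 = true := by decide +kernel
theorem o1u56 : ∀ k, 61380 ≤ k → k < 64743 → orbOk (k * 22) = true := between_extend orbOk 22 61380 64684 59 (o1u55) o1r56

theorem o1r57 : allRange orbOk 22 64743 59 = true := by decide +kernel
theorem o1u57 : ∀ k, 61380 ≤ k → k < 64802 → orbOk (k * 22) = true := between_extend orbOk 22 61380 64743 59 (o1u56) o1r57

theorem o1r58 : allRange orbOk 22 64802 59 = true := by decide +kernel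
theorem o1u58 : ∀ k, 61380 ≤ k → k < 64861 → orbOk (k * 22) = true := between_extend orbOk 22 61380 64802 59 (o1u57) o1r58

theorem o1r59 : allRange orbOk 22 64861 59 = true := by decide +kernel
theorem o1u59 : ∀ k, 61380 ≤ k → k < 64920 → orbOk (k * 22) = true := between_extend orbOk 22 61380 64861 59 (o1u58) o1r59

theorem o1r60 : allRange orbOk 22 64920 59 = true := by decide +kernel
theorem o1u60 : ∀ k, 61380 ≤ k → k < 64979 → orbOk (k * 22) = true := between_extend orbOk 22 61380 64920 59 (o1u59) o1r60

theorem o1r61 : allRange orbOk 22 64979 59 = true := by decide +kernel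
theorem o1u61 : ∀ k, 61380 ≤ k → k < 65038 → orbOk (k * 22) = true := between_extend orbOk 22 61380 64979 59 (o1u60) o1r61

theorem o1r62 : allRange orbOk 22 65038 59 = true := by decide +kernel
theorem o1u62 : ∀ k, 61380 ≤ k → k < 65097 → orbOk (k * 22) = true := between_extend orbOk 22 61380 65038 59 (o1u61) o1r62

theorem o1r63 : allRange orbOk 22 65097 59 = true := by decide +kernel
theorem o1u63 : ∀ k, 61380 ≤ k → k < 65156 → orbOk (k * 22) = true := between_extend orbOk 22 61380 65097 59 (o1u62) o1r63

theorem o1r64 : allRange orbOk 22 65156 59 = true := by decide +kernel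
theorem o1u64 : ∀ k, 61380 ≤ k → k < 65215 → orbOk (k * 22) = true := between_extend orbOk 22 61380 65156 59 (o1u63) o1r64

theorem o1r65 : allRange orbOk 22 65215 59 = true := by decide +kernel
theorem o1u65 : ∀ k, 61380 ≤ k → k < 65274 → orbOk (k * 22) = true := between_extend orbOk 22 61380 65215 59 (o1u64) o1r65

theorem o1r66 : allRange orbOk 22 65274 59 = true := by decide +kernel
theorem o1u66 : ∀ k, 61380 ≤ k → k < 65333 → orbOk (k * 22) = true := between_extend orbOk 22 61380 65274 59 (o1u65) o1r66

theorem o1r67 : allRange orbOk 22 65333 59 = true := by decide +kernel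
theorem o1u67 : ∀ k, 61380 ≤ k → k < 65392 → orbOk (k * 22) = true := between_extend orbOk 22 61380 65333 59 (o1u66) o1r67

theorem o1r68 : allRange orbOk 22 65392 59 = true := by decide +kernel
theorem o1u68 : ∀ k, 61380 ≤ k → k < 65451 → orbOk (k * 22) = true := between_extend orbOk 22 61380 65392 59 (o1u67) o1r68

theorem o1r69 : allRange orbOk 22 65451 59 = true := by decide +kernel
theorem o1u69 : ∀ k, 61380 ≤ k → k < 65510 → orbOk (k * 22) = true := between_extend orbOk 22 61380 65451 59 (o1u68) o1r69

theorem o1r70 : allRange orbOk 22 65510 59 = true := by decide +kernel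
theorem o1u70 : ∀ k, 61380 ≤ k → k < 65569 → orbOk (k * 22) = true := between_extend orbOk 22 61380 65510 59 (o1u69) o1r70

theorem o1r71 : allRange orbOk 22 65569 59 = true := by decide +kernel
theorem o1u71 : ∀ k, 61380 ≤ k → k < 65628 → orbOk (k * 22) = true := between_extend orbOk 22 61380 65569 59 (o1u70) o1r71

theorem o1r72 : allRange orbOk 22 65628 59 = true := by decide +kernel
theorem o1u72 : ∀ k, 61380 ≤ k → k < 65687 → orbOk (k * 22) = true := between_extend orbOk 22 61380 65628 59 (o1u71) o1r72

theorem o1r73 : allRange orbOk 22 65687 59 = true := by decide +kernel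
theorem o1u73 : ∀ k, 61380 ≤ k → k < 65746 → orbOk (k * 22) = true := between_extend orbOk 22 61380 65687 59 (o1u72) o1r73

theorem o1r74 : allRange orbOk 22 65746 59 = true := by decide +kernel
theorem o1u74 : ∀ k, 61380 ≤ k → k < 65805 → orbOk (k * 22) = true := between_extend orbOk 22 61380 65746 59 (o1u73) o1r74

theorem o1r75 : allRange orbOk 22 65805 59 = true := by decide +kernel
theorem o1u75 : ∀ k, 61380 ≤ k → k < 65864 → orbOk (k * 22) = true := between_extend orbOk 22 61380 65805 59 (o1u74) o1r75

theorem o1r76 : allRange orbOk 22 65864 59 = true := by decide +kernel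
theorem o1u76 : ∀ k, 61380 ≤ k → k < 65923 → orbOk (k * 22) = true := between_extend orbOk 22 61380 65864 59 (o1u75) o1r76

theorem o1r77 : allRange orbOk 22 65923 59 = true := by decide +kernel
theorem o1u77 : ∀ k, 61380 ≤ k → k < 65982 → orbOk (k * 22) = true := between_extend orbOk 22 61380 65923 59 (o1u76) o1r77

theorem o1r78 : allRange orbOk 22 65982 59 = true := by decide +kernel
theorem o1u78 : ∀ k, 61380 ≤ k → k < 66041 → orbOk (k * 22) = true := between_extend orbOk 22 61380 65982 59 (o1u77) o1r78

theorem o1r79 : allRange orbOk 22 66041 59 = true := by decide +kernel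
theorem o1u79 : ∀ k, 61380 ≤ k → k < 66100 → orbOk (k * 22) = true := between_extend orbOk 22 61380 66041 59 (o1u78) o1r79

theorem o1r80 : allRange orbOk 22 66100 59 = true := by decide +kernel
theorem o1u80 : ∀ k, 61380 ≤ k → k < 66159 → orbOk (k * 22) = true := between_extend orbOk 22 61380 66100 59 (o1u79) o1r80

theorem o1r81 : allRange orbOk 22 66159 59 = true := by decide +kernel
theorem o1u81 : ∀ k, 61380 ≤ k → k < 66218 → orbOk (k * 22) = true := between_extend orbOk 22 61380 66159 59 (o1u80) o1r81

theorem o1r82 : allRange orbOk 22 66218 59 = true := by decide +kernel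
theorem o1u82 : ∀ k, 61380 ≤ k → k < 66277 → orbOk (k * 22) = true := between_extend orbOk 22 61380 66218 59 (o1u81) o1r82

theorem o1r83 : allRange orbOk 22 66277 59 = true := by decide +kernel
theorem o1u83 : ∀ k, 61380 ≤ k → k < 66336 → orbOk (k * 22) = true := between_extend orbOk 22 61380 66277 59 (o1u82) o1r83

theorem o1r84 : allRange orbOk 22 66336 59 = true := by decide +kernel
theorem o1u84 : ∀ k, 61380 ≤ k → k < 66395 → orbOk (k * 22) = true := between_extend orbOk 22 61380 66336 59 (o1u83) o1r84

theorem o1r85 : allRange orbOk 22 66395 59 = true := by decide +kernel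
theorem o1u85 : ∀ k, 61380 ≤ k → k < 66454 → orbOk (k * 22) = true := between_extend orbOk 22 61380 66395 59 (o1u84) o1r85

theorem o1r86 : allRange orbOk 22 66454 59 = true := by decide +kernel
theorem o1u86 : ∀ k, 61380 ≤ k → k < 66513 → orbOk (k * 22) = true := between_extend orbOk 22 61380 66454 59 (o1u85) o1r86

theorem o1r87 : allRange orbOk 22 66513 59 = true := by decide +kernel
theorem o1u87 : ∀ k, 61380 ≤ k → k < 66572 → orbOk (k * 22) = true := between_extend orbOk 22 61380 66513 59 (o1u86) o1r87

theorem o1r88 : allRange orbOk 22 66572 59 = true := by decide +kernel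
theorem o1u88 : ∀ k, 61380 ≤ k → k < 66631 → orbOk (k * 22) = true := between_extend orbOk 22 61380 66572 59 (o1u87) o1r88

theorem o1r89 : allRange orbOk 22 66631 59 = true := by decide +kernel
theorem o1u89 : ∀ k, 61380 ≤ k → k < 66690 → orbOk (k * 22) = true := between_extend orbOk 22 61380 66631 59 (o1u88) o1r89

theorem o1r90 : allRange orbOk 22 66690 59 = true := by decide +kernel
theorem o1u90 : ∀ k, 61380 ≤ k → k < 66749 → orbOk (k * 22) = true := between_extend orbOk 22 61380 66690 59 (o1u89) o1r90

theorem o1r91 : allRange orbOk 22 66749 59 = true := by decide +kernel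
theorem o1u91 : ∀ k, 61380 ≤ k → k < 66808 → orbOk (k * 22) = true := between_extend orbOk 22 61380 66749 59 (o1u90) o1r91

theorem o1r92 : allRange orbOk 22 66808 59 = true := by decide +kernel
theorem o1u92 : ∀ k, 61380 ≤ k → k < 66867 → orbOk (k * 22) = true := between_extend orbOk 22 61380 66808 59 (o1u91) o1r92

theorem o1r93 : allRange orbOk 22 66867 59 = true := by decide +kernel
theorem o1u93 : ∀ k, 61380 ≤ k → k < 66926 → orbOk (k * 22) = true := between_extend orbOk 22 61380 66867 59 (o1u92) o1r93

theorem o1r94 : allRange orbOk 22 66926 59 = true := by decide +kernel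
theorem o1u94 : ∀ k, 61380 ≤ k → k < 66985 → orbOk (k * 22) = true := between_extend orbOk 22 61380 66926 59 (o1u93) o1r94

theorem o1r95 : allRange orbOk 22 66985 59 = true := by decide +kernel
theorem o1u95 : ∀ k, 61380 ≤ k → k < 67044 → orbOk (k * 22) = true := between_extend orbOk 22 61380 66985 59 (o1u94) o1r95

theorem o1r96 : allRange orbOk 22 67044 59 = true := by decide +kernel
theorem o1u96 : ∀ k, 61380 ≤ k → k < 67103 → orbOk (k * 22) = true := between_extend orbOk 22 61380 67044 59 (o1u95) o1r96

theorem o1r97 : allRange orbOk 22 67103 59 = true := by decide +kernel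
theorem o1u97 : ∀ k, 61380 ≤ k → k < 67162 → orbOk (k * 22) = true := between_extend orbOk 22 61380 67103 59 (o1u96) o1r97

theorem o1r98 : allRange orbOk 22 67162 59 = true := by decide +kernel
theorem o1u98 : ∀ k, 61380 ≤ k → k < 67221 → orbOk (k * 22) = true := between_extend orbOk 22 61380 67162 59 (o1u97) o1r98

theorem o1r99 : allRange orbOk 22 67221 59 = true := by decide +kernel
theorem o1u99 : ∀ k, 61380 ≤ k → k < 67280 → orbOk (k * 22) = true := between_extend orbOk 22 61380 67221 59 (o1u98) o1r99

theorem o1r100 : allRange orbOk 22 67280 59 = true := by decide +kernel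
theorem o1u100 : ∀ k, 61380 ≤ k → k < 67339 → orbOk (k * 22) = true := between_extend orbOk 22 61380 67280 59 (o1u99) o1r100

theorem o1r101 : allRange orbOk 22 67339 59 = true := by decide +kernel
theorem o1u101 : ∀ k, 61380 ≤ k → k < 67398 → orbOk (k * 22) = true := between_extend orbOk 22 61380 67339 59 (o1u100) o1r101

theorem o1r102 : allRange orbOk 22 67398 59 = true := by decide +kernel
theorem o1u102 : ∀ k, 61380 ≤ k → k < 67457 → orbOk (k * 22) = true := between_extend orbOk 22 61380 67398 59 (o1u101) o1r102

theorem o1r103 : allRange orbOk 22 67457 59 = true := by decide +kernel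
theorem o1u103 : ∀ k, 61380 ≤ k → k < 67516 → orbOk (k * 22) = true := between_extend orbOk 22 61380 67457 59 (o1u102) o1r103

theorem o1r104 : allRange orbOk 22 67516 59 = true := by decide +kernel
theorem o1u104 : ∀ k, 61380 ≤ k → k < 67575 → orbOk (k * 22) = true := between_extend orbOk 22 61380 67516 59 (o1u103) o1r104

theorem o1r105 : allRange orbOk 22 67575 59 = true := by decide +kernel
theorem o1u105 : ∀ k, 61380 ≤ k → k < 67634 → orbOk (k * 22) = true := between_extend orbOk 22 61380 67575 59 (o1u104) o1r105

theorem o1r106 : allRange orbOk 22 67634 59 = true := by decide +kernel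
theorem o1u106 : ∀ k, 61380 ≤ k → k < 67693 → orbOk (k * 22) = true := between_extend orbOk 22 61380 67634 59 (o1u105) o1r106

theorem o1r107 : allRange orbOk 22 67693 59 = true := by decide +kernel
theorem o1u107 : ∀ k, 61380 ≤ k → k < 67752 → orbOk (k * 22) = true := between_extend orbOk 22 61380 67693 59 (o1u106) o1r107

theorem o1r108 : allRange orbOk 22 67752 59 = true := by decide +kernel
theorem o1u108 : ∀ k, 61380 ≤ k → k < 67811 → orbOk (k * 22) = true := between_extend orbOk 22 61380 67752 59 (o1u107) o1r108

theorem o1r109 : allRange orbOk 22 67811 59 = true := by decide +kernel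
theorem o1u109 : ∀ k, 61380 ≤ k → k < 67870 → orbOk (k * 22) = true := between_extend orbOk 22 61380 67811 59 (o1u108) o1r109

theorem o1r110 : allRange orbOk 22 67870 59 = true := by decide +kernel
theorem o1u110 : ∀ k, 61380 ≤ k → k < 67929 → orbOk (k * 22) = true := between_extend orbOk 22 61380 67870 59 (o1u109) o1r110

theorem o1r111 : allRange orbOk 22 67929 59 = true := by decide +kernel
theorem o1u111 : ∀ k, 61380 ≤ k → k < 67988 → orbOk (k * 22) = true := between_extend orbOk 22 61380 67929 59 (o1u110) o1r111

theorem o1r112 : allRange orbOk 22 67988 59 = true := by decide +kernel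
theorem o1u112 : ∀ k, 61380 ≤ k → k < 68047 → orbOk (k * 22) = true := between_extend orbOk 22 61380 67988 59 (o1u111) o1r112

theorem o1r113 : allRange orbOk 22 68047 59 = true := by decide +kernel
theorem o1u113 : ∀ k, 61380 ≤ k → k < 68106 → orbOk (k * 22) = true := between_extend orbOk 22 61380 68047 59 (o1u112) o1r113

theorem o1r114 : allRange orbOk 22 68106 59 = true := by decide +kernel
theorem o1u114 : ∀ k, 61380 ≤ k → k < 68165 → orbOk (k * 22) = true := between_extend orbOk 22 61380 68106 59 (o1u113) o1r114

theorem o1r115 : allRange orbOk 22 68165 59 = true := by decide +kernel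
theorem o1u115 : ∀ k, 61380 ≤ k → k < 68224 → orbOk (k * 22) = true := between_extend orbOk 22 61380 68165 59 (o1u114) o1r115

theorem o1r116 : allRange orbOk 22 68224 59 = true := by decide +kernel
theorem o1u116 : ∀ k, 61380 ≤ k → k < 68283 → orbOk (k * 22) = true := between_extend orbOk 22 61380 68224 59 (o1u115) o1r116

theorem o1r117 : allRange orbOk 22 68283 59 = true := by decide +kernel
theorem o1u117 : ∀ k, 61380 ≤ k → k < 68342 → orbOk (k * 22) = true := between_extend orbOk 22 61380 68283 59 (o1u116) o1r117

theorem o1r118 : allRange orbOk 22 68342 59 = true := by decide +kernel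
theorem o1u118 : ∀ k, 61380 ≤ k → k < 68401 → orbOk (k * 22) = true := between_extend orbOk 22 61380 68342 59 (o1u117) o1r118

theorem o1r119 : allRange orbOk 22 68401 59 = true := by decide +kernel
theorem o1u119 : ∀ k, 61380 ≤ k → k < 68460 → orbOk (k * 22) = true := between_extend orbOk 22 61380 68401 59 (o1u118) o1r119

theorem o1r120 : allRange orbOk 22 68460 59 = true := by decide +kernel
theorem o1u120 : ∀ k, 61380 ≤ k → k < 68519 → orbOk (k * 22) = true := between_extend orbOk 22 61380 68460 59 (o1u119) o1r120

theorem o1r121 : allRange orbOk 22 68519 59 = true := by decide +kernel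
theorem o1u121 : ∀ k, 61380 ≤ k → k < 68578 → orbOk (k * 22) = true := between_extend orbOk 22 61380 68519 59 (o1u120) o1r121

theorem o1r122 : allRange orbOk 22 68578 59 = true := by decide +kernel
theorem o1u122 : ∀ k, 61380 ≤ k → k < 68637 → orbOk (k * 22) = true := between_extend orbOk 22 61380 68578 59 (o1u121) o1r122

theorem o1r123 : allRange orbOk 22 68637 59 = true := by decide +kernel
theorem o1u123 : ∀ k, 61380 ≤ k → k < 68696 → orbOk (k * 22) = true := between_extend orbOk 22 61380 68637 59 (o1u122) o1r123

theorem o1r124 : allRange orbOk 22 68696 59 = true := by decide +kernel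
theorem o1u124 : ∀ k, 61380 ≤ k → k < 68755 → orbOk (k * 22) = true := between_extend orbOk 22 61380 68696 59 (o1u123) o1r124

theorem o1r125 : allRange orbOk 22 68755 59 = true := by decide +kernel
theorem o1u125 : ∀ k, 61380 ≤ k → k < 68814 → orbOk (k * 22) = true := between_extend orbOk 22 61380 68755 59 (o1u124) o1r125

theorem o1r126 : allRange orbOk 22 68814 59 = true := by decide +kernel
theorem o1u126 : ∀ k, 61380 ≤ k → k < 68873 → orbOk (k * 22) = true := between_extend orbOk 22 61380 68814 59 (o1u125) o1r126

theorem o1r127 : allRange orbOk 22 68873 59 = true := by decide +kernel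
theorem o1u127 : ∀ k, 61380 ≤ k → k < 68932 → orbOk (k * 22) = true := between_extend orbOk 22 61380 68873 59 (o1u126) o1r127

theorem o1r128 : allRange orbOk 22 68932 59 = true := by decide +kernel
theorem o1u128 : ∀ k, 61380 ≤ k → k < 68991 → orbOk (k * 22) = true := between_extend orbOk 22 61380 68932 59 (o1u127) o1r128

theorem o1r129 : allRange orbOk 22 68991 59 = true := by decide +kernel
theorem o1u129 : ∀ k, 61380 ≤ k → k < 69050 → orbOk (k * 22) = true := between_extend orbOk 22 61380 68991 59 (o1u128) o1r129

theorem o1r130 : allRange orbOk 22 69050 59 = true := by decide +kernel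
theorem o1u130 : ∀ k, 61380 ≤ k → k < 69109 → orbOk (k * 22) = true := between_extend orbOk 22 61380 69050 59 (o1u129) o1r130

theorem o1r131 : allRange orbOk 22 69109 59 = true := by decide +kernel
theorem o1u131 : ∀ k, 61380 ≤ k → k < 69168 → orbOk (k * 22) = true := between_extend orbOk 22 61380 69109 59 (o1u130) o1r131

theorem o1r132 : allRange orbOk 22 69168 59 = true := by decide +kernel
theorem o1u132 : ∀ k, 61380 ≤ k → k < 69227 → orbOk (k * 22) = true := between_extend orbOk 22 61380 69168 59 (o1u131) o1r132

theorem o1r133 : allRange orbOk 22 69227 59 = true := by decide +kernel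
theorem o1u133 : ∀ k, 61380 ≤ k → k < 69286 → orbOk (k * 22) = true := between_extend orbOk 22 61380 69227 59 (o1u132) o1r133

theorem o1r134 : allRange orbOk 22 69286 59 = true := by decide +kernel
theorem o1u134 : ∀ k, 61380 ≤ k → k < 69345 → orbOk (k * 22) = true := between_extend orbOk 22 61380 69286 59 (o1u133) o1r134

theorem o1r135 : allRange orbOk 22 69345 59 = true := by decide +kernel
theorem o1u135 : ∀ k, 61380 ≤ k → k < 69404 → orbOk (k * 22) = true := between_extend orbOk 22 61380 69345 59 (o1u134) o1r135

theorem o1r136 : allRange orbOk 22 69404 59 = true := by decide +kernel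
theorem o1u136 : ∀ k, 61380 ≤ k → k < 69463 → orbOk (k * 22) = true := between_extend orbOk 22 61380 69404 59 (o1u135) o1r136

theorem o1r137 : allRange orbOk 22 69463 59 = true := by decide +kernel
theorem o1u137 : ∀ k, 61380 ≤ k → k < 69522 → orbOk (k * 22) = true := between_extend orbOk 22 61380 69463 59 (o1u136) o1r137

theorem o1r138 : allRange orbOk 22 69522 59 = true := by decide +kernel
theorem o1u138 : ∀ k, 61380 ≤ k → k < 69581 → orbOk (k * 22) = true := between_extend orbOk 22 61380 69522 59 (o1u137) o1r138

theorem o1r139 : allRange orbOk 22 69581 59 = true := by decide +kernel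
theorem o1u139 : ∀ k, 61380 ≤ k → k < 69640 → orbOk (k * 22) = true := between_extend orbOk 22 61380 69581 59 (o1u138) o1r139

theorem o1r140 : allRange orbOk 22 69640 59 = true := by decide +kernel
theorem o1u140 : ∀ k, 61380 ≤ k → k < 69699 → orbOk (k * 22) = true := between_extend orbOk 22 61380 69640 59 (o1u139) o1r140

theorem o1r141 : allRange orbOk 22 69699 59 = true := by decide +kernel
theorem o1u141 : ∀ k, 61380 ≤ k → k < 69758 → orbOk (k * 22) = true := between_extend orbOk 22 61380 69699 59 (o1u140) o1r141

theorem o1r142 : allRange orbOk 22 69758 59 = true := by decide +kernel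
theorem o1u142 : ∀ k, 61380 ≤ k → k < 69817 → orbOk (k * 22) = true := between_extend orbOk 22 61380 69758 59 (o1u141) o1r142

theorem o1r143 : allRange orbOk 22 69817 59 = true := by decide +kernel
theorem o1u143 : ∀ k, 61380 ≤ k → k < 69876 → orbOk (k * 22) = true := between_extend orbOk 22 61380 69817 59 (o1u142) o1r143

theorem o1r144 : allRange orbOk 22 69876 59 = true := by decide +kernel
theorem o1u144 : ∀ k, 61380 ≤ k → k < 69935 → orbOk (k * 22) = true := between_extend orbOk 22 61380 69876 59 (o1u143) o1r144

theorem o1r145 : allRange orbOk 22 69935 59 = true := by decide +kernel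
theorem o1u145 : ∀ k, 61380 ≤ k → k < 69994 → orbOk (k * 22) = true := between_extend orbOk 22 61380 69935 59 (o1u144) o1r145

theorem o1r146 : allRange orbOk 22 69994 59 = true := by decide +kernel
theorem o1u146 : ∀ k, 61380 ≤ k → k < 70053 → orbOk (k * 22) = true := between_extend orbOk 22 61380 69994 59 (o1u145) o1r146

theorem o1r147 : allRange orbOk 22 70053 59 = true := by decide +kernel
theorem o1u147 : ∀ k, 61380 ≤ k → k < 70112 → orbOk (k * 22) = true := between_extend orbOk 22 61380 70053 59 (o1u146) o1r147

theorem o1r148 : allRange orbOk 22 70112 59 = true := by decide +kernel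
theorem o1u148 : ∀ k, 61380 ≤ k → k < 70171 → orbOk (k * 22) = true := between_extend orbOk 22 61380 70112 59 (o1u147) o1r148

theorem o1r149 : allRange orbOk 22 70171 59 = true := by decide +kernel
theorem o1u149 : ∀ k, 61380 ≤ k → k < 70230 → orbOk (k * 22) = true := between_extend orbOk 22 61380 70171 59 (o1u148) o1r149

theorem o1r150 : allRange orbOk 22 70230 59 = true := by decide +kernel
theorem o1u150 : ∀ k, 61380 ≤ k → k < 70289 → orbOk (k * 22) = true := between_extend orbOk 22 61380 70230 59 (o1u149) o1r150

theorem o1r151 : allRange orbOk 22 70289 59 = true := by decide +kernel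
theorem o1u151 : ∀ k, 61380 ≤ k → k < 70348 → orbOk (k * 22) = true := between_extend orbOk 22 61380 70289 59 (o1u150) o1r151

theorem o1r152 : allRange orbOk 22 70348 59 = true := by decide +kernel
theorem o1u152 : ∀ k, 61380 ≤ k → k < 70407 → orbOk (k * 22) = true := between_extend orbOk 22 61380 70348 59 (o1u151) o1r152

theorem o1r153 : allRange orbOk 22 70407 59 = true := by decide +kernel
theorem o1u153 : ∀ k, 61380 ≤ k → k < 70466 → orbOk (k * 22) = true := between_extend orbOk 22 61380 70407 59 (o1u152) o1r153

theorem o1r154 : allRange orbOk 22 70466 59 = true := by decide +kernel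
theorem o1u154 : ∀ k, 61380 ≤ k → k < 70525 → orbOk (k * 22) = true := between_extend orbOk 22 61380 70466 59 (o1u153) o1r154

theorem o1r155 : allRange orbOk 22 70525 59 = true := by decide +kernel
theorem o1u155 : ∀ k, 61380 ≤ k → k < 70584 → orbOk (k * 22) = true := between_extend orbOk 22 61380 70525 59 (o1u154) o1r155

theorem o1r156 : allRange orbOk 22 70584 59 = true := by decide +kernel
theorem o1u156 : ∀ k, 61380 ≤ k → k < 70643 → orbOk (k * 22) = true := between_extend orbOk 22 61380 70584 59 (o1u155) o1r156

theorem o1r157 : allRange orbOk 22 70643 59 = true := by decide +kernel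
theorem o1u157 : ∀ k, 61380 ≤ k → k < 70702 → orbOk (k * 22) = true := between_extend orbOk 22 61380 70643 59 (o1u156) o1r157

theorem o1r158 : allRange orbOk 22 70702 59 = true := by decide +kernel
theorem o1u158 : ∀ k, 61380 ≤ k → k < 70761 → orbOk (k * 22) = true := between_extend orbOk 22 61380 70702 59 (o1u157) o1r158

theorem o1r159 : allRange orbOk 22 70761 59 = true := by decide +kernel
theorem o1u159 : ∀ k, 61380 ≤ k → k < 70820 → orbOk (k * 22) = true := between_extend orbOk 22 61380 70761 59 (o1u158) o1r159

theorem o1r160 : allRange orbOk 22 70820 59 = true := by decide +kernel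
theorem o1u160 : ∀ k, 61380 ≤ k → k < 70879 → orbOk (k * 22) = true := between_extend orbOk 22 61380 70820 59 (o1u159) o1r160

theorem o1r161 : allRange orbOk 22 70879 59 = true := by decide +kernel
theorem o1u161 : ∀ k, 61380 ≤ k → k < 70938 → orbOk (k * 22) = true := between_extend orbOk 22 61380 70879 59 (o1u160) o1r161

theorem o1r162 : allRange orbOk 22 70938 59 = true := by decide +kernel
theorem o1u162 : ∀ k, 61380 ≤ k → k < 70997 → orbOk (k * 22) = true := between_extend orbOk 22 61380 70938 59 (o1u161) o1r162

theorem o1r163 : allRange orbOk 22 70997 59 = true := by decide +kernel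
theorem o1u163 : ∀ k, 61380 ≤ k → k < 71056 → orbOk (k * 22) = true := between_extend orbOk 22 61380 70997 59 (o1u162) o1r163

theorem o1r164 : allRange orbOk 22 71056 59 = true := by decide +kernel
theorem o1u164 : ∀ k, 61380 ≤ k → k < 71115 → orbOk (k * 22) = true := between_extend orbOk 22 61380 71056 59 (o1u163) o1r164

theorem o1r165 : allRange orbOk 22 71115 59 = true := by decide +kernel
theorem o1u165 : ∀ k, 61380 ≤ k → k < 71174 → orbOk (k * 22) = true := between_extend orbOk 22 61380 71115 59 (o1u164) o1r165

theorem o1r166 : allRange orbOk 22 71174 59 = true := by decide +kernel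
theorem o1u166 : ∀ k, 61380 ≤ k → k < 71233 → orbOk (k * 22) = true := between_extend orbOk 22 61380 71174 59 (o1u165) o1r166

theorem o1r167 : allRange orbOk 22 71233 59 = true := by decide +kernel
theorem o1u167 : ∀ k, 61380 ≤ k → k < 71292 → orbOk (k * 22) = true := between_extend orbOk 22 61380 71233 59 (o1u166) o1r167

theorem o1r168 : allRange orbOk 22 71292 59 = true := by decide +kernel
theorem o1u168 : ∀ k, 61380 ≤ k → k < 71351 → orbOk (k * 22) = true := between_extend orbOk 22 61380 71292 59 (o1u167) o1r168

theorem o1r169 : allRange orbOk 22 71351 59 = true := by decide +kernel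
theorem o1u169 : ∀ k, 61380 ≤ k → k < 71410 → orbOk (k * 22) = true := between_extend orbOk 22 61380 71351 59 (o1u168) o1r169

theorem o1r170 : allRange orbOk 22 71410 59 = true := by decide +kernel
theorem o1u170 : ∀ k, 61380 ≤ k → k < 71469 → orbOk (k * 22) = true := between_extend orbOk 22 61380 71410 59 (o1u169) o1r170

theorem o1r171 : allRange orbOk 22 71469 59 = true := by decide +kernel
theorem o1u171 : ∀ k, 61380 ≤ k → k < 71528 → orbOk (k * 22) = true := between_extend orbOk 22 61380 71469 59 (o1u170) o1r171

theorem o1r172 : allRange orbOk 22 71528 59 = true := by decide +kernel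
theorem o1u172 : ∀ k, 61380 ≤ k → k < 71587 → orbOk (k * 22) = true := between_extend orbOk 22 61380 71528 59 (o1u171) o1r172

theorem o1r173 : allRange orbOk 22 71587 59 = true := by decide +kernel
theorem o1u173 : ∀ k, 61380 ≤ k → k < 71646 → orbOk (k * 22) = true := between_extend orbOk 22 61380 71587 59 (o1u172) o1r173

theorem o1r174 : allRange orbOk 22 71646 59 = true := by decide +kernel
theorem o1u174 : ∀ k, 61380 ≤ k → k < 71705 → orbOk (k * 22) = true := between_extend orbOk 22 61380 71646 59 (o1u173) o1r174

theorem o1r175 : allRange orbOk 22 71705 59 = true := by decide +kernel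
theorem o1u175 : ∀ k, 61380 ≤ k → k < 71764 → orbOk (k * 22) = true := between_extend orbOk 22 61380 71705 59 (o1u174) o1r175

theorem o1r176 : allRange orbOk 22 71764 59 = true := by decide +kernel
theorem o1u176 : ∀ k, 61380 ≤ k → k < 71823 → orbOk (k * 22) = true := between_extend orbOk 22 61380 71764 59 (o1u175) o1r176

theorem o1r177 : allRange orbOk 22 71823 59 = true := by decide +kernel
theorem o1u177 : ∀ k, 61380 ≤ k → k < 71882 → orbOk (k * 22) = true := between_extend orbOk 22 61380 71823 59 (o1u176) o1r177

theorem o1r178 : allRange orbOk 22 71882 59 = true := by decide +kernel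
theorem o1u178 : ∀ k, 61380 ≤ k → k < 71941 → orbOk (k * 22) = true := between_extend orbOk 22 61380 71882 59 (o1u177) o1r178

theorem o1r179 : allRange orbOk 22 71941 59 = true := by decide +kernel
theorem o1u179 : ∀ k, 61380 ≤ k → k < 72000 → orbOk (k * 22) = true := between_extend orbOk 22 61380 71941 59 (o1u178) o1r179

theorem o1r180 : allRange orbOk 22 72000 59 = true := by decide +kernel
theorem o1u180 : ∀ k, 61380 ≤ k → k < 72059 → orbOk (k * 22) = true := between_extend orbOk 22 61380 72000 59 (o1u179) o1r180

theorem o1r181 : allRange orbOk 22 72059 59 = true := by decide +kernel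
theorem o1u181 : ∀ k, 61380 ≤ k → k < 72118 → orbOk (k * 22) = true := between_extend orbOk 22 61380 72059 59 (o1u180) o1r181

theorem o1r182 : allRange orbOk 22 72118 59 = true := by decide +kernel
theorem o1u182 : ∀ k, 61380 ≤ k → k < 72177 → orbOk (k * 22) = true := between_extend orbOk 22 61380 72118 59 (o1u181) o1r182

theorem o1r183 : allRange orbOk 22 72177 59 = true := by decide +kernel
theorem o1u183 : ∀ k, 61380 ≤ k → k < 72236 → orbOk (k * 22) = true := between_extend orbOk 22 61380 72177 59 (o1u182) o1r183

theorem o1r184 : allRange orbOk 22 72236 59 = true := by decide +kernel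
theorem o1u184 : ∀ k, 61380 ≤ k → k < 72295 → orbOk (k * 22) = true := between_extend orbOk 22 61380 72236 59 (o1u183) o1r184

theorem o1r185 : allRange orbOk 22 72295 59 = true := by decide +kernel
theorem o1u185 : ∀ k, 61380 ≤ k → k < 72354 → orbOk (k * 22) = true := between_extend orbOk 22 61380 72295 59 (o1u184) o1r185

theorem o1r186 : allRange orbOk 22 72354 59 = true := by decide +kernel
theorem o1u186 : ∀ k, 61380 ≤ k → k < 72413 → orbOk (k * 22) = true := between_extend orbOk 22 61380 72354 59 (o1u185) o1r186

theorem o1r187 : allRange orbOk 22 72413 59 = true := by decide +kernel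
theorem o1u187 : ∀ k, 61380 ≤ k → k < 72472 → orbOk (k * 22) = true := between_extend orbOk 22 61380 72413 59 (o1u186) o1r187

theorem o1r188 : allRange orbOk 22 72472 59 = true := by decide +kernel
theorem o1u188 : ∀ k, 61380 ≤ k → k < 72531 → orbOk (k * 22) = true := between_extend orbOk 22 61380 72472 59 (o1u187) o1r188

theorem o1r189 : allRange orbOk 22 72531 59 = true := by decide +kernel
theorem o1u189 : ∀ k, 61380 ≤ k → k < 72590 → orbOk (k * 22) = true := between_extend orbOk 22 61380 72531 59 (o1u188) o1r189

theorem o1r190 : allRange orbOk 22 72590 59 = true := by decide +kernel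
theorem o1u190 : ∀ k, 61380 ≤ k → k < 72649 → orbOk (k * 22) = true := between_extend orbOk 22 61380 72590 59 (o1u189) o1r190

theorem o1r191 : allRange orbOk 22 72649 59 = true := by decide +kernel
theorem o1u191 : ∀ k, 61380 ≤ k → k < 72708 → orbOk (k * 22) = true := between_extend orbOk 22 61380 72649 59 (o1u190) o1r191

theorem o1r192 : allRange orbOk 22 72708 59 = true := by decide +kernel
theorem o1u192 : ∀ k, 61380 ≤ k → k < 72767 → orbOk (k * 22) = true := between_extend orbOk 22 61380 72708 59 (o1u191) o1r192

theorem o1r193 : allRange orbOk 22 72767 59 = true := by decide +kernel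
theorem o1u193 : ∀ k, 61380 ≤ k → k < 72826 → orbOk (k * 22) = true := between_extend orbOk 22 61380 72767 59 (o1u192) o1r193

theorem o1r194 : allRange orbOk 22 72826 59 = true := by decide +kernel
theorem o1u194 : ∀ k, 61380 ≤ k → k < 72885 → orbOk (k * 22) = true := between_extend orbOk 22 61380 72826 59 (o1u193) o1r194

theorem o1r195 : allRange orbOk 22 72885 59 = true := by decide +kernel
theorem o1u195 : ∀ k, 61380 ≤ k → k < 72944 → orbOk (k * 22) = true := between_extend orbOk 22 61380 72885 59 (o1u194) o1r195

theorem o1r196 : allRange orbOk 22 72944 59 = true := by decide +kernel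
theorem o1u196 : ∀ k, 61380 ≤ k → k < 73003 → orbOk (k * 22) = true := between_extend orbOk 22 61380 72944 59 (o1u195) o1r196

theorem o1r197 : allRange orbOk 22 73003 59 = true := by decide +kernel
theorem o1u197 : ∀ k, 61380 ≤ k → k < 73062 → orbOk (k * 22) = true := between_extend orbOk 22 61380 73003 59 (o1u196) o1r197

theorem o1r198 : allRange orbOk 22 73062 59 = true := by decide +kernel
theorem o1u198 : ∀ k, 61380 ≤ k → k < 73121 → orbOk (k * 22) = true := between_extend orbOk 22 61380 73062 59 (o1u197) o1r198

theorem o1r199 : allRange orbOk 22 73121 59 = true := by decide +kernel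
theorem o1u199 : ∀ k, 61380 ≤ k → k < 73180 → orbOk (k * 22) = true := between_extend orbOk 22 61380 73121 59 (o1u198) o1r199

theorem o1r200 : allRange orbOk 22 73180 59 = true := by decide +kernel
theorem o1u200 : ∀ k, 61380 ≤ k → k < 73239 → orbOk (k * 22) = true := between_extend orbOk 22 61380 73180 59 (o1u199) o1r200

theorem o1r201 : allRange orbOk 22 73239 59 = true := by decide +kernel
theorem o1u201 : ∀ k, 61380 ≤ k → k < 73298 → orbOk (k * 22) = true := between_extend orbOk 22 61380 73239 59 (o1u200) o1r201

theorem o1r202 : allRange orbOk 22 73298 59 = true := by decide +kernel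
theorem o1u202 : ∀ k, 61380 ≤ k → k < 73357 → orbOk (k * 22) = true := between_extend orbOk 22 61380 73298 59 (o1u201) o1r202

theorem o1r203 : allRange orbOk 22 73357 59 = true := by decide +kernel
theorem o1u203 : ∀ k, 61380 ≤ k → k < 73416 → orbOk (k * 22) = true := between_extend orbOk 22 61380 73357 59 (o1u202) o1r203

theorem o1r204 : allRange orbOk 22 73416 59 = true := by decide +kernel
theorem o1u204 : ∀ k, 61380 ≤ k → k < 73475 → orbOk (k * 22) = true := between_extend orbOk 22 61380 73416 59 (o1u203) o1r204

theorem o1r205 : allRange orbOk 22 73475 59 = true := by decide +kernel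
theorem o1u205 : ∀ k, 61380 ≤ k → k < 73534 → orbOk (k * 22) = true := between_extend orbOk 22 61380 73475 59 (o1u204) o1r205

theorem o1r206 : allRange orbOk 22 73534 59 = true := by decide +kernel
theorem o1u206 : ∀ k, 61380 ≤ k → k < 73593 → orbOk (k * 22) = true := between_extend orbOk 22 61380 73534 59 (o1u205) o1r206

theorem o1r207 : allRange orbOk 22 73593 59 = true := by decide +kernel
theorem o1u207 : ∀ k, 61380 ≤ k → k < 73652 → orbOk (k * 22) = true := between_extend orbOk 22 61380 73593 59 (o1u206) o1r207

theorem o1r208 : allRange orbOk 22 73652 59 = true := by decide +kernel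
theorem o1u208 : ∀ k, 61380 ≤ k → k < 73711 → orbOk (k * 22) = true := between_extend orbOk 22 61380 73652 59 (o1u207) o1r208

theorem o1r209 : allRange orbOk 22 73711 59 = true := by decide +kernel
theorem o1u209 : ∀ k, 61380 ≤ k → k < 73770 → orbOk (k * 22) = true := between_extend orbOk 22 61380 73711 59 (o1u208) o1r209

theorem o1r210 : allRange orbOk 22 73770 59 = true := by decide +kernel
theorem o1u210 : ∀ k, 61380 ≤ k → k < 73829 → orbOk (k * 22) = true := between_extend orbOk 22 61380 73770 59 (o1u209) o1r210

theorem o1r211 : allRange orbOk 22 73829 59 = true := by decide +kernel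
theorem o1u211 : ∀ k, 61380 ≤ k → k < 73888 → orbOk (k * 22) = true := between_extend orbOk 22 61380 73829 59 (o1u210) o1r211

theorem o1r212 : allRange orbOk 22 73888 59 = true := by decide +kernel
theorem o1u212 : ∀ k, 61380 ≤ k → k < 73947 → orbOk (k * 22) = true := between_extend orbOk 22 61380 73888 59 (o1u211) o1r212

theorem o1r213 : allRange orbOk 22 73947 59 = true := by decide +kernel
theorem o1u213 : ∀ k, 61380 ≤ k → k < 74006 → orbOk (k * 22) = true := between_extend orbOk 22 61380 73947 59 (o1u212) o1r213

theorem o1r214 : allRange orbOk 22 74006 59 = true := by decide +kernel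
theorem o1u214 : ∀ k, 61380 ≤ k → k < 74065 → orbOk (k * 22) = true := between_extend orbOk 22 61380 74006 59 (o1u213) o1r214

theorem o1r215 : allRange orbOk 22 74065 59 = true := by decide +kernel
theorem o1u215 : ∀ k, 61380 ≤ k → k < 74124 → orbOk (k * 22) = true := between_extend orbOk 22 61380 74065 59 (o1u214) o1r215

theorem o1r216 : allRange orbOk 22 74124 59 = true := by decide +kernel
theorem o1u216 : ∀ k, 61380 ≤ k → k < 74183 → orbOk (k * 22) = true := between_extend orbOk 22 61380 74124 59 (o1u215) o1r216

theorem o1r217 : allRange orbOk 22 74183 59 = true := by decide +kernel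
theorem o1u217 : ∀ k, 61380 ≤ k → k < 74242 → orbOk (k * 22) = true := between_extend orbOk 22 61380 74183 59 (o1u216) o1r217

theorem o1r218 : allRange orbOk 22 74242 59 = true := by decide +kernel
theorem o1u218 : ∀ k, 61380 ≤ k → k < 74301 → orbOk (k * 22) = true := between_extend orbOk 22 61380 74242 59 (o1u217) o1r218

theorem o1r219 : allRange orbOk 22 74301 59 = true := by decide +kernel
theorem o1u219 : ∀ k, 61380 ≤ k → k < 74360 → orbOk (k * 22) = true := between_extend orbOk 22 61380 74301 59 (o1u218) o1r219

theorem o1r220 : allRange orbOk 22 74360 59 = true := by decide +kernel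
theorem o1u220 : ∀ k, 61380 ≤ k → k < 74419 → orbOk (k * 22) = true := between_extend orbOk 22 61380 74360 59 (o1u219) o1r220

theorem o1r221 : allRange orbOk 22 74419 59 = true := by decide +kernel
theorem o1u221 : ∀ k, 61380 ≤ k → k < 74478 → orbOk (k * 22) = true := between_extend orbOk 22 61380 74419 59 (o1u220) o1r221

theorem o1r222 : allRange orbOk 22 74478 59 = true := by decide +kernel
theorem o1u222 : ∀ k, 61380 ≤ k → k < 74537 → orbOk (k * 22) = true := between_extend orbOk 22 61380 74478 59 (o1u221) o1r222

theorem o1r223 : allRange orbOk 22 74537 59 = true := by decide +kernel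
theorem o1u223 : ∀ k, 61380 ≤ k → k < 74596 → orbOk (k * 22) = true := between_extend orbOk 22 61380 74537 59 (o1u222) o1r223

theorem o1r224 : allRange orbOk 22 74596 59 = true := by decide +kernel
theorem o1u224 : ∀ k, 61380 ≤ k → k < 74655 → orbOk (k * 22) = true := between_extend orbOk 22 61380 74596 59 (o1u223) o1r224

theorem o1r225 : allRange orbOk 22 74655 59 = true := by decide +kernel
theorem o1u225 : ∀ k, 61380 ≤ k → k < 74714 → orbOk (k * 22) = true := between_extend orbOk 22 61380 74655 59 (o1u224) o1r225

theorem o1r226 : allRange orbOk 22 74714 59 = true := by decide +kernel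
theorem o1u226 : ∀ k, 61380 ≤ k → k < 74773 → orbOk (k * 22) = true := between_extend orbOk 22 61380 74714 59 (o1u225) o1r226

theorem o1r227 : allRange orbOk 22 74773 59 = true := by decide +kernel
theorem o1u227 : ∀ k, 61380 ≤ k → k < 74832 → orbOk (k * 22) = true := between_extend orbOk 22 61380 74773 59 (o1u226) o1r227

theorem o1r228 : allRange orbOk 22 74832 59 = true := by decide +kernel
theorem o1u228 : ∀ k, 61380 ≤ k → k < 74891 → orbOk (k * 22) = true := between_extend orbOk 22 61380 74832 59 (o1u227) o1r228

theorem o1r229 : allRange orbOk 22 74891 59 = true := by decide +kernel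
theorem o1u229 : ∀ k, 61380 ≤ k → k < 74950 → orbOk (k * 22) = true := between_extend orbOk 22 61380 74891 59 (o1u228) o1r229

theorem o1r230 : allRange orbOk 22 74950 59 = true := by decide +kernel
theorem o1u230 : ∀ k, 61380 ≤ k → k < 75009 → orbOk (k * 22) = true := between_extend orbOk 22 61380 74950 59 (o1u229) o1r230

theorem o1r231 : allRange orbOk 22 75009 59 = true := by decide +kernel
theorem o1u231 : ∀ k, 61380 ≤ k → k < 75068 → orbOk (k * 22) = true := between_extend orbOk 22 61380 75009 59 (o1u230) o1r231

theorem o1r232 : allRange orbOk 22 75068 59 = true := by decide +kernel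
theorem o1u232 : ∀ k, 61380 ≤ k → k < 75127 → orbOk (k * 22) = true := between_extend orbOk 22 61380 75068 59 (o1u231) o1r232

theorem o1r233 : allRange orbOk 22 75127 59 = true := by decide +kernel
theorem o1u233 : ∀ k, 61380 ≤ k → k < 75186 → orbOk (k * 22) = true := between_extend orbOk 22 61380 75127 59 (o1u232) o1r233

theorem o1r234 : allRange orbOk 22 75186 59 = true := by decide +kernel
theorem o1u234 : ∀ k, 61380 ≤ k → k < 75245 → orbOk (k * 22) = true := between_extend orbOk 22 61380 75186 59 (o1u233) o1r234

theorem o1r235 : allRange orbOk 22 75245 59 = true := by decide +kernel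
theorem o1u235 : ∀ k, 61380 ≤ k → k < 75304 → orbOk (k * 22) = true := between_extend orbOk 22 61380 75245 59 (o1u234) o1r235

theorem o1r236 : allRange orbOk 22 75304 59 = true := by decide +kernel
theorem o1u236 : ∀ k, 61380 ≤ k → k < 75363 → orbOk (k * 22) = true := between_extend orbOk 22 61380 75304 59 (o1u235) o1r236

theorem o1r237 : allRange orbOk 22 75363 59 = true := by decide +kernel
theorem o1u237 : ∀ k, 61380 ≤ k → k < 75422 → orbOk (k * 22) = true := between_extend orbOk 22 61380 75363 59 (o1u236) o1r237

theorem o1r238 : allRange orbOk 22 75422 59 = true := by decide +kernel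
theorem o1u238 : ∀ k, 61380 ≤ k → k < 75481 → orbOk (k * 22) = true := between_extend orbOk 22 61380 75422 59 (o1u237) o1r238

theorem o1r239 : allRange orbOk 22 75481 59 = true := by decide +kernel
theorem o1u239 : ∀ k, 61380 ≤ k → k < 75540 → orbOk (k * 22) = true := between_extend orbOk 22 61380 75481 59 (o1u238) o1r239

theorem o1r240 : allRange orbOk 22 75540 59 = true := by decide +kernel
theorem o1u240 : ∀ k, 61380 ≤ k → k < 75599 → orbOk (k * 22) = true := between_extend orbOk 22 61380 75540 59 (o1u239) o1r240

theorem o1r241 : allRange orbOk 22 75599 59 = true := by decide +kernel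
theorem o1u241 : ∀ k, 61380 ≤ k → k < 75658 → orbOk (k * 22) = true := between_extend orbOk 22 61380 75599 59 (o1u240) o1r241

theorem o1r242 : allRange orbOk 22 75658 59 = true := by decide +kernel
theorem o1u242 : ∀ k, 61380 ≤ k → k < 75717 → orbOk (k * 22) = true := between_extend orbOk 22 61380 75658 59 (o1u241) o1r242

theorem o1r243 : allRange orbOk 22 75717 59 = true := by decide +kernel
theorem o1u243 : ∀ k, 61380 ≤ k → k < 75776 → orbOk (k * 22) = true := between_extend orbOk 22 61380 75717 59 (o1u242) o1r243

theorem o1r244 : allRange orbOk 22 75776 59 = true := by decide +kernel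
theorem o1u244 : ∀ k, 61380 ≤ k → k < 75835 → orbOk (k * 22) = true := between_extend orbOk 22 61380 75776 59 (o1u243) o1r244

theorem o1r245 : allRange orbOk 22 75835 59 = true := by decide +kernel
theorem o1u245 : ∀ k, 61380 ≤ k → k < 75894 → orbOk (k * 22) = true := between_extend orbOk 22 61380 75835 59 (o1u244) o1r245

theorem o1r246 : allRange orbOk 22 75894 59 = true := by decide +kernel
theorem o1u246 : ∀ k, 61380 ≤ k → k < 75953 → orbOk (k * 22) = true := between_extend orbOk 22 61380 75894 59 (o1u245) o1r246

theorem o1r247 : allRange orbOk 22 75953 59 = true := by decide +kernel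
theorem o1u247 : ∀ k, 61380 ≤ k → k < 76012 → orbOk (k * 22) = true := between_extend orbOk 22 61380 75953 59 (o1u246) o1r247

theorem o1r248 : allRange orbOk 22 76012 59 = true := by decide +kernel
theorem o1u248 : ∀ k, 61380 ≤ k → k < 76071 → orbOk (k * 22) = true := between_extend orbOk 22 61380 76012 59 (o1u247) o1r248

theorem o1r249 : allRange orbOk 22 76071 59 = true := by decide +kernel
theorem o1u249 : ∀ k, 61380 ≤ k → k < 76130 → orbOk (k * 22) = true := between_extend orbOk 22 61380 76071 59 (o1u248) o1r249

theorem o1r250 : allRange orbOk 22 76130 59 = true := by decide +kernel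
theorem o1u250 : ∀ k, 61380 ≤ k → k < 76189 → orbOk (k * 22) = true := between_extend orbOk 22 61380 76130 59 (o1u249) o1r250

theorem o1r251 : allRange orbOk 22 76189 59 = true := by decide +kernel
theorem o1u251 : ∀ k, 61380 ≤ k → k < 76248 → orbOk (k * 22) = true := between_extend orbOk 22 61380 76189 59 (o1u250) o1r251

theorem o1r252 : allRange orbOk 22 76248 59 = true := by decide +kernel
theorem o1u252 : ∀ k, 61380 ≤ k → k < 76307 → orbOk (k * 22) = true := between_extend orbOk 22 61380 76248 59 (o1u251) o1r252

theorem o1r253 : allRange orbOk 22 76307 59 = true := by decide +kernel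
theorem o1u253 : ∀ k, 61380 ≤ k → k < 76366 → orbOk (k * 22) = true := between_extend orbOk 22 61380 76307 59 (o1u252) o1r253

theorem o1r254 : allRange orbOk 22 76366 59 = true := by decide +kernel
theorem o1u254 : ∀ k, 61380 ≤ k → k < 76425 → orbOk (k * 22) = true := between_extend orbOk 22 61380 76366 59 (o1u253) o1r254

theorem o1r255 : allRange orbOk 22 76425 59 = true := by decide +kernel
theorem o1u255 : ∀ k, 61380 ≤ k → k < 76484 → orbOk (k * 22) = true := between_extend orbOk 22 61380 76425 59 (o1u254) o1r255

theorem o1r256 : allRange orbOk 22 76484 59 = true := by decide +kernel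
theorem o1u256 : ∀ k, 61380 ≤ k → k < 76543 → orbOk (k * 22) = true := between_extend orbOk 22 61380 76484 59 (o1u255) o1r256

theorem o1r257 : allRange orbOk 22 76543 59 = true := by decide +kernel
theorem o1u257 : ∀ k, 61380 ≤ k → k < 76602 → orbOk (k * 22) = true := between_extend orbOk 22 61380 76543 59 (o1u256) o1r257

theorem o1r258 : allRange orbOk 22 76602 59 = true := by decide +kernel
theorem o1u258 : ∀ k, 61380 ≤ k → k < 76661 → orbOk (k * 22) = true := between_extend orbOk 22 61380 76602 59 (o1u257) o1r258

theorem o1r259 : allRange orbOk 22 76661 59 = true := by decide +kernel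
theorem o1u259 : ∀ k, 61380 ≤ k → k < 76720 → orbOk (k * 22) = true := between_extend orbOk 22 61380 76661 59 (o1u258) o1r259

theorem o1r260 : allRange orbOk 22 76720 59 = true := by decide +kernel
theorem o1u260 : ∀ k, 61380 ≤ k → k < 76779 → orbOk (k * 22) = true := between_extend orbOk 22 61380 76720 59 (o1u259) o1r260

theorem o1r261 : allRange orbOk 22 76779 59 = true := by decide +kernel
theorem o1u261 : ∀ k, 61380 ≤ k → k < 76838 → orbOk (k * 22) = true := between_extend orbOk 22 61380 76779 59 (o1u260) o1r261

theorem o1r262 : allRange orbOk 22 76838 59 = true := by decide +kernel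
theorem o1u262 : ∀ k, 61380 ≤ k → k < 76897 → orbOk (k * 22) = true := between_extend orbOk 22 61380 76838 59 (o1u261) o1r262

theorem o1r263 : allRange orbOk 22 76897 59 = true := by decide +kernel
theorem o1u263 : ∀ k, 61380 ≤ k → k < 76956 → orbOk (k * 22) = true := between_extend orbOk 22 61380 76897 59 (o1u262) o1r263

theorem o1r264 : allRange orbOk 22 76956 59 = true := by decide +kernel
theorem o1u264 : ∀ k, 61380 ≤ k → k < 77015 → orbOk (k * 22) = true := between_extend orbOk 22 61380 76956 59 (o1u263) o1r264

theorem o1r265 : allRange orbOk 22 77015 59 = true := by decide +kernel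
theorem o1u265 : ∀ k, 61380 ≤ k → k < 77074 → orbOk (k * 22) = true := between_extend orbOk 22 61380 77015 59 (o1u264) o1r265

theorem o1r266 : allRange orbOk 22 77074 59 = true := by decide +kernel
theorem o1u266 : ∀ k, 61380 ≤ k → k < 77133 → orbOk (k * 22) = true := between_extend orbOk 22 61380 77074 59 (o1u265) o1r266

theorem o1r267 : allRange orbOk 22 77133 59 = true := by decide +kernel
theorem o1u267 : ∀ k, 61380 ≤ k → k < 77192 → orbOk (k * 22) = true := between_extend orbOk 22 61380 77133 59 (o1u266) o1r267

theorem o1r268 : allRange orbOk 22 77192 59 = true := by decide +kernel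
theorem o1u268 : ∀ k, 61380 ≤ k → k < 77251 → orbOk (k * 22) = true := between_extend orbOk 22 61380 77192 59 (o1u267) o1r268

theorem o1r269 : allRange orbOk 22 77251 59 = true := by decide +kernel
theorem o1u269 : ∀ k, 61380 ≤ k → k < 77310 → orbOk (k * 22) = true := between_extend orbOk 22 61380 77251 59 (o1u268) o1r269

theorem o1r270 : allRange orbOk 22 77310 59 = true := by decide +kernel
theorem o1u270 : ∀ k, 61380 ≤ k → k < 77369 → orbOk (k * 22) = true := between_extend orbOk 22 61380 77310 59 (o1u269) o1r270

theorem o1r271 : allRange orbOk 22 77369 59 = true := by decide +kernel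
theorem o1u271 : ∀ k, 61380 ≤ k → k < 77428 → orbOk (k * 22) = true := between_extend orbOk 22 61380 77369 59 (o1u270) o1r271

theorem o1r272 : allRange orbOk 22 77428 59 = true := by decide +kernel
theorem o1u272 : ∀ k, 61380 ≤ k → k < 77487 → orbOk (k * 22) = true := between_extend orbOk 22 61380 77428 59 (o1u271) o1r272

theorem o1r273 : allRange orbOk 22 77487 59 = true := by decide +kernel
theorem o1u273 : ∀ k, 61380 ≤ k → k < 77546 → orbOk (k * 22) = true := between_extend orbOk 22 61380 77487 59 (o1u272) o1r273

theorem o1r274 : allRange orbOk 22 77546 59 = true := by decide +kernel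
theorem o1u274 : ∀ k, 61380 ≤ k → k < 77605 → orbOk (k * 22) = true := between_extend orbOk 22 61380 77546 59 (o1u273) o1r274

theorem o1r275 : allRange orbOk 22 77605 59 = true := by decide +kernel
theorem o1u275 : ∀ k, 61380 ≤ k → k < 77664 → orbOk (k * 22) = true := between_extend orbOk 22 61380 77605 59 (o1u274) o1r275

theorem o1r276 : allRange orbOk 22 77664 59 = true := by decide +kernel
theorem o1u276 : ∀ k, 61380 ≤ k → k < 77723 → orbOk (k * 22) = true := between_extend orbOk 22 61380 77664 59 (o1u275) o1r276

theorem o1r277 : allRange orbOk 22 77723 59 = true := by decide +kernel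
theorem o1u277 : ∀ k, 61380 ≤ k → k < 77782 → orbOk (k * 22) = true := between_extend orbOk 22 61380 77723 59 (o1u276) o1r277

theorem o1r278 : allRange orbOk 22 77782 59 = true := by decide +kernel
theorem o1u278 : ∀ k, 61380 ≤ k → k < 77841 → orbOk (k * 22) = true := between_extend orbOk 22 61380 77782 59 (o1u277) o1r278

theorem o1r279 : allRange orbOk 22 77841 59 = true := by decide +kernel
theorem o1u279 : ∀ k, 61380 ≤ k → k < 77900 → orbOk (k * 22) = true := between_extend orbOk 22 61380 77841 59 (o1u278) o1r279

theorem o1r280 : allRange orbOk 22 77900 59 = true := by decide +kernel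
theorem o1u280 : ∀ k, 61380 ≤ k → k < 77959 → orbOk (k * 22) = true := between_extend orbOk 22 61380 77900 59 (o1u279) o1r280

theorem o1r281 : allRange orbOk 22 77959 59 = true := by decide +kernel
theorem o1u281 : ∀ k, 61380 ≤ k → k < 78018 → orbOk (k * 22) = true := between_extend orbOk 22 61380 77959 59 (o1u280) o1r281

theorem o1r282 : allRange orbOk 22 78018 59 = true := by decide +kernel
theorem o1u282 : ∀ k, 61380 ≤ k → k < 78077 → orbOk (k * 22) = true := between_extend orbOk 22 61380 78018 59 (o1u281) o1r282

theorem o1r283 : allRange orbOk 22 78077 59 = true := by decide +kernel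
theorem o1u283 : ∀ k, 61380 ≤ k → k < 78136 → orbOk (k * 22) = true := between_extend orbOk 22 61380 78077 59 (o1u282) o1r283

theorem o1r284 : allRange orbOk 22 78136 59 = true := by decide +kernel
theorem o1u284 : ∀ k, 61380 ≤ k → k < 78195 → orbOk (k * 22) = true := between_extend orbOk 22 61380 78136 59 (o1u283) o1r284

theorem o1r285 : allRange orbOk 22 78195 59 = true := by decide +kernel
theorem o1u285 : ∀ k, 61380 ≤ k → k < 78254 → orbOk (k * 22) = true := between_extend orbOk 22 61380 78195 59 (o1u284) o1r285

theorem o1r286 : allRange orbOk 22 78254 59 = true := by decide +kernel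
theorem o1u286 : ∀ k, 61380 ≤ k → k < 78313 → orbOk (k * 22) = true := between_extend orbOk 22 61380 78254 59 (o1u285) o1r286

theorem o1r287 : allRange orbOk 22 78313 59 = true := by decide +kernel
theorem o1u287 : ∀ k, 61380 ≤ k → k < 78372 → orbOk (k * 22) = true := between_extend orbOk 22 61380 78313 59 (o1u286) o1r287

theorem o1r288 : allRange orbOk 22 78372 59 = true := by decide +kernel
theorem o1u288 : ∀ k, 61380 ≤ k → k < 78431 → orbOk (k * 22) = true := between_extend orbOk 22 61380 78372 59 (o1u287) o1r288

theorem o1r289 : allRange orbOk 22 78431 59 = true := by decide +kernel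
theorem o1u289 : ∀ k, 61380 ≤ k → k < 78490 → orbOk (k * 22) = true := between_extend orbOk 22 61380 78431 59 (o1u288) o1r289

theorem o1r290 : allRange orbOk 22 78490 59 = true := by decide +kernel
theorem o1u290 : ∀ k, 61380 ≤ k → k < 78549 → orbOk (k * 22) = true := between_extend orbOk 22 61380 78490 59 (o1u289) o1r290

theorem o1r291 : allRange orbOk 22 78549 59 = true := by decide +kernel
theorem o1u291 : ∀ k, 61380 ≤ k → k < 78608 → orbOk (k * 22) = true := between_extend orbOk 22 61380 78549 59 (o1u290) o1r291

theorem o1r292 : allRange orbOk 22 78608 59 = true := by decide +kernel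
theorem o1u292 : ∀ k, 61380 ≤ k → k < 78667 → orbOk (k * 22) = true := between_extend orbOk 22 61380 78608 59 (o1u291) o1r292

theorem o1r293 : allRange orbOk 22 78667 59 = true := by decide +kernel
theorem o1u293 : ∀ k, 61380 ≤ k → k < 78726 → orbOk (k * 22) = true := between_extend orbOk 22 61380 78667 59 (o1u292) o1r293

theorem o1r294 : allRange orbOk 22 78726 59 = true := by decide +kernel
theorem o1u294 : ∀ k, 61380 ≤ k → k < 78785 → orbOk (k * 22) = true := between_extend orbOk 22 61380 78726 59 (o1u293) o1r294

theorem o1r295 : allRange orbOk 22 78785 59 = true := by decide +kernel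
theorem o1u295 : ∀ k, 61380 ≤ k → k < 78844 → orbOk (k * 22) = true := between_extend orbOk 22 61380 78785 59 (o1u294) o1r295

theorem o1r296 : allRange orbOk 22 78844 59 = true := by decide +kernel
theorem o1u296 : ∀ k, 61380 ≤ k → k < 78903 → orbOk (k * 22) = true := between_extend orbOk 22 61380 78844 59 (o1u295) o1r296

theorem o1r297 : allRange orbOk 22 78903 59 = true := by decide +kernel
theorem o1u297 : ∀ k, 61380 ≤ k → k < 78962 → orbOk (k * 22) = true := between_extend orbOk 22 61380 78903 59 (o1u296) o1r297

theorem o1r298 : allRange orbOk 22 78962 59 = true := by decide +kernel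
theorem o1u298 : ∀ k, 61380 ≤ k → k < 79021 → orbOk (k * 22) = true := between_extend orbOk 22 61380 78962 59 (o1u297) o1r298

theorem o1r299 : allRange orbOk 22 79021 59 = true := by decide +kernel
theorem o1u299 : ∀ k, 61380 ≤ k → k < 79080 → orbOk (k * 22) = true := between_extend orbOk 22 61380 79021 59 (o1u298) o1r299

theorem o1r300 : allRange orbOk 22 79080 59 = true := by decide +kernel
theorem o1u300 : ∀ k, 61380 ≤ k → k < 79139 → orbOk (k * 22) = true := between_extend orbOk 22 61380 79080 59 (o1u299) o1r300

theorem o1r301 : allRange orbOk 22 79139 59 = true := by decide +kernel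
theorem o1u301 : ∀ k, 61380 ≤ k → k < 79198 → orbOk (k * 22) = true := between_extend orbOk 22 61380 79139 59 (o1u300) o1r301

theorem o1r302 : allRange orbOk 22 79198 59 = true := by decide +kernel
theorem o1u302 : ∀ k, 61380 ≤ k → k < 79257 → orbOk (k * 22) = true := between_extend orbOk 22 61380 79198 59 (o1u301) o1r302

theorem o1r303 : allRange orbOk 22 79257 59 = true := by decide +kernel
theorem o1u303 : ∀ k, 61380 ≤ k → k < 79316 → orbOk (k * 22) = true := between_extend orbOk 22 61380 79257 59 (o1u302) o1r303

theorem o1r304 : allRange orbOk 22 79316 59 = true := by decide +kernel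
theorem o1u304 : ∀ k, 61380 ≤ k → k < 79375 → orbOk (k * 22) = true := between_extend orbOk 22 61380 79316 59 (o1u303) o1r304

theorem o1r305 : allRange orbOk 22 79375 59 = true := by decide +kernel
theorem o1u305 : ∀ k, 61380 ≤ k → k < 79434 → orbOk (k * 22) = true := between_extend orbOk 22 61380 79375 59 (o1u304) o1r305

theorem o1r306 : allRange orbOk 22 79434 59 = true := by decide +kernel
theorem o1u306 : ∀ k, 61380 ≤ k → k < 79493 → orbOk (k * 22) = true := between_extend orbOk 22 61380 79434 59 (o1u305) o1r306

theorem o1r307 : allRange orbOk 22 79493 59 = true := by decide +kernel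
theorem o1u307 : ∀ k, 61380 ≤ k → k < 79552 → orbOk (k * 22) = true := between_extend orbOk 22 61380 79493 59 (o1u306) o1r307

theorem o1r308 : allRange orbOk 22 79552 59 = true := by decide +kernel
theorem o1u308 : ∀ k, 61380 ≤ k → k < 79611 → orbOk (k * 22) = true := between_extend orbOk 22 61380 79552 59 (o1u307) o1r308

theorem o1r309 : allRange orbOk 22 79611 59 = true := by decide +kernel
theorem o1u309 : ∀ k, 61380 ≤ k → k < 79670 → orbOk (k * 22) = true := between_extend orbOk 22 61380 79611 59 (o1u308) o1r309

theorem o1r310 : allRange orbOk 22 79670 59 = true := by decide +kernel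
theorem o1u310 : ∀ k, 61380 ≤ k → k < 79729 → orbOk (k * 22) = true := between_extend orbOk 22 61380 79670 59 (o1u309) o1r310

theorem o1r311 : allRange orbOk 22 79729 59 = true := by decide +kernel
theorem o1u311 : ∀ k, 61380 ≤ k → k < 79788 → orbOk (k * 22) = true := between_extend orbOk 22 61380 79729 59 (o1u310) o1r311

theorem o1r312 : allRange orbOk 22 79788 59 = true := by decide +kernel
theorem o1u312 : ∀ k, 61380 ≤ k → k < 79847 → orbOk (k * 22) = true := between_extend orbOk 22 61380 79788 59 (o1u311) o1r312

theorem o1r313 : allRange orbOk 22 79847 59 = true := by decide +kernel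
theorem o1u313 : ∀ k, 61380 ≤ k → k < 79906 → orbOk (k * 22) = true := between_extend orbOk 22 61380 79847 59 (o1u312) o1r313

theorem o1r314 : allRange orbOk 22 79906 59 = true := by decide +kernel
theorem o1u314 : ∀ k, 61380 ≤ k → k < 79965 → orbOk (k * 22) = true := between_extend orbOk 22 61380 79906 59 (o1u313) o1r314

theorem o1r315 : allRange orbOk 22 79965 59 = true := by decide +kernel
theorem o1u315 : ∀ k, 61380 ≤ k → k < 80024 → orbOk (k * 22) = true := between_extend orbOk 22 61380 79965 59 (o1u314) o1r315

theorem o1r316 : allRange orbOk 22 80024 59 = true := by decide +kernel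
theorem o1u316 : ∀ k, 61380 ≤ k → k < 80083 → orbOk (k * 22) = true := between_extend orbOk 22 61380 80024 59 (o1u315) o1r316

theorem o1r317 : allRange orbOk 22 80083 59 = true := by decide +kernel
theorem o1u317 : ∀ k, 61380 ≤ k → k < 80142 → orbOk (k * 22) = true := between_extend orbOk 22 61380 80083 59 (o1u316) o1r317

theorem o1r318 : allRange orbOk 22 80142 59 = true := by decide +kernel
theorem o1u318 : ∀ k, 61380 ≤ k → k < 80201 → orbOk (k * 22) = true := between_extend orbOk 22 61380 80142 59 (o1u317) o1r318

theorem o1r319 : allRange orbOk 22 80201 59 = true := by decide +kernel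
theorem o1u319 : ∀ k, 61380 ≤ k → k < 80260 → orbOk (k * 22) = true := between_extend orbOk 22 61380 80201 59 (o1u318) o1r319

theorem o1r320 : allRange orbOk 22 80260 59 = true := by decide +kernel
theorem o1u320 : ∀ k, 61380 ≤ k → k < 80319 → orbOk (k * 22) = true := between_extend orbOk 22 61380 80260 59 (o1u319) o1r320

theorem o1r321 : allRange orbOk 22 80319 59 = true := by decide +kernel
theorem o1u321 : ∀ k, 61380 ≤ k → k < 80378 → orbOk (k * 22) = true := between_extend orbOk 22 61380 80319 59 (o1u320) o1r321

theorem o1r322 : allRange orbOk 22 80378 59 = true := by decide +kernel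
theorem o1u322 : ∀ k, 61380 ≤ k → k < 80437 → orbOk (k * 22) = true := between_extend orbOk 22 61380 80378 59 (o1u321) o1r322

theorem o1r323 : allRange orbOk 22 80437 59 = true := by decide +kernel
theorem o1u323 : ∀ k, 61380 ≤ k → k < 80496 → orbOk (k * 22) = true := between_extend orbOk 22 61380 80437 59 (o1u322) o1r323

theorem o1r324 : allRange orbOk 22 80496 59 = true := by decide +kernel
theorem o1u324 : ∀ k, 61380 ≤ k → k < 80555 → orbOk (k * 22) = true := between_extend orbOk 22 61380 80496 59 (o1u323) o1r324

theorem o1r325 : allRange orbOk 22 80555 59 = true := by decide +kernel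
theorem o1u325 : ∀ k, 61380 ≤ k → k < 80614 → orbOk (k * 22) = true := between_extend orbOk 22 61380 80555 59 (o1u324) o1r325

theorem o1r326 : allRange orbOk 22 80614 59 = true := by decide +kernel
theorem o1u326 : ∀ k, 61380 ≤ k → k < 80673 → orbOk (k * 22) = true := between_extend orbOk 22 61380 80614 59 (o1u325) o1r326

theorem o1r327 : allRange orbOk 22 80673 59 = true := by decide +kernel
theorem o1u327 : ∀ k, 61380 ≤ k → k < 80732 → orbOk (k * 22) = true := between_extend orbOk 22 61380 80673 59 (o1u326) o1r327

theorem o1r328 : allRange orbOk 22 80732 59 = true := by decide +kernel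
theorem o1u328 : ∀ k, 61380 ≤ k → k < 80791 → orbOk (k * 22) = true := between_extend orbOk 22 61380 80732 59 (o1u327) o1r328

theorem o1r329 : allRange orbOk 22 80791 59 = true := by decide +kernel
theorem o1u329 : ∀ k, 61380 ≤ k → k < 80850 → orbOk (k * 22) = true := between_extend orbOk 22 61380 80791 59 (o1u328) o1r329

theorem o1r330 : allRange orbOk 22 80850 59 = true := by decide +kernel
theorem o1u330 : ∀ k, 61380 ≤ k → k < 80909 → orbOk (k * 22) = true := between_extend orbOk 22 61380 80850 59 (o1u329) o1r330

theorem o1r331 : allRange orbOk 22 80909 59 = true := by decide +kernel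
theorem o1u331 : ∀ k, 61380 ≤ k → k < 80968 → orbOk (k * 22) = true := between_extend orbOk 22 61380 80909 59 (o1u330) o1r331

theorem o1r332 : allRange orbOk 22 80968 59 = true := by decide +kernel
theorem o1u332 : ∀ k, 61380 ≤ k → k < 81027 → orbOk (k * 22) = true := between_extend orbOk 22 61380 80968 59 (o1u331) o1r332

theorem o1r333 : allRange orbOk 22 81027 59 = true := by decide +kernel
theorem o1u333 : ∀ k, 61380 ≤ k → k < 81086 → orbOk (k * 22) = true := between_extend orbOk 22 61380 81027 59 (o1u332) o1r333

theorem o1r334 : allRange orbOk 22 81086 59 = true := by decide +kernel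
theorem o1u334 : ∀ k, 61380 ≤ k → k < 81145 → orbOk (k * 22) = true := between_extend orbOk 22 61380 81086 59 (o1u333) o1r334

theorem o1r335 : allRange orbOk 22 81145 59 = true := by decide +kernel
theorem o1u335 : ∀ k, 61380 ≤ k → k < 81204 → orbOk (k * 22) = true := between_extend orbOk 22 61380 81145 59 (o1u334) o1r335

theorem o1r336 : allRange orbOk 22 81204 59 = true := by decide +kernel
theorem o1u336 : ∀ k, 61380 ≤ k → k < 81263 → orbOk (k * 22) = true := between_extend orbOk 22 61380 81204 59 (o1u335) o1r336

theorem o1r337 : allRange orbOk 22 81263 59 = true := by decide +kernel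
theorem o1u337 : ∀ k, 61380 ≤ k → k < 81322 → orbOk (k * 22) = true := between_extend orbOk 22 61380 81263 59 (o1u336) o1r337

theorem o1r338 : allRange orbOk 22 81322 59 = true := by decide +kernel
theorem o1u338 : ∀ k, 61380 ≤ k → k < 81381 → orbOk (k * 22) = true := between_extend orbOk 22 61380 81322 59 (o1u337) o1r338

theorem o1r339 : allRange orbOk 22 81381 59 = true := by decide +kernel
theorem o1u339 : ∀ k, 61380 ≤ k → k < 81440 → orbOk (k * 22) = true := between_extend orbOk 22 61380 81381 59 (o1u338) o1r339

theorem o1r340 : allRange orbOk 22 81440 59 = true := by decide +kernel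
theorem o1u340 : ∀ k, 61380 ≤ k → k < 81499 → orbOk (k * 22) = true := between_extend orbOk 22 61380 81440 59 (o1u339) o1r340

theorem o1r341 : allRange orbOk 22 81499 59 = true := by decide +kernel
theorem o1u341 : ∀ k, 61380 ≤ k → k < 81558 → orbOk (k * 22) = true := between_extend orbOk 22 61380 81499 59 (o1u340) o1r341

theorem o1r342 : allRange orbOk 22 81558 59 = true := by decide +kernel
theorem o1u342 : ∀ k, 61380 ≤ k → k < 81617 → orbOk (k * 22) = true := between_extend orbOk 22 61380 81558 59 (o1u341) o1r342

theorem o1r343 : allRange orbOk 22 81617 59 = true := by decide +kernel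
theorem o1u343 : ∀ k, 61380 ≤ k → k < 81676 → orbOk (k * 22) = true := between_extend orbOk 22 61380 81617 59 (o1u342) o1r343

theorem o1r344 : allRange orbOk 22 81676 59 = true := by decide +kernel
theorem o1u344 : ∀ k, 61380 ≤ k → k < 81735 → orbOk (k * 22) = true := between_extend orbOk 22 61380 81676 59 (o1u343) o1r344

theorem o1r345 : allRange orbOk 22 81735 59 = true := by decide +kernel
theorem o1u345 : ∀ k, 61380 ≤ k → k < 81794 → orbOk (k * 22) = true := between_extend orbOk 22 61380 81735 59 (o1u344) o1r345

theorem o1r346 : allRange orbOk 22 81794 59 = true := by decide +kernel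
theorem o1u346 : ∀ k, 61380 ≤ k → k < 81853 → orbOk (k * 22) = true := between_extend orbOk 22 61380 81794 59 (o1u345) o1r346

theorem o1r347 : allRange orbOk 22 81853 59 = true := by decide +kernel
theorem o1u347 : ∀ k, 61380 ≤ k → k < 81912 → orbOk (k * 22) = true := between_extend orbOk 22 61380 81853 59 (o1u346) o1r347

theorem o1r348 : allRange orbOk 22 81912 59 = true := by decide +kernel
theorem o1u348 : ∀ k, 61380 ≤ k → k < 81971 → orbOk (k * 22) = true := between_extend orbOk 22 61380 81912 59 (o1u347) o1r348

theorem o1r349 : allRange orbOk 22 81971 59 = true := by decide +kernel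
theorem o1u349 : ∀ k, 61380 ≤ k → k < 82030 → orbOk (k * 22) = true := between_extend orbOk 22 61380 81971 59 (o1u348) o1r349

theorem o1r350 : allRange orbOk 22 82030 59 = true := by decide +kernel
theorem o1u350 : ∀ k, 61380 ≤ k → k < 82089 → orbOk (k * 22) = true := between_extend orbOk 22 61380 82030 59 (o1u349) o1r350

theorem o1r351 : allRange orbOk 22 82089 59 = true := by decide +kernel
theorem o1u351 : ∀ k, 61380 ≤ k → k < 82148 → orbOk (k * 22) = true := between_extend orbOk 22 61380 82089 59 (o1u350) o1r351

theorem o1r352 : allRange orbOk 22 82148 59 = true := by decide +kernel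
theorem o1u352 : ∀ k, 61380 ≤ k → k < 82207 → orbOk (k * 22) = true := between_extend orbOk 22 61380 82148 59 (o1u351) o1r352

theorem o1r353 : allRange orbOk 22 82207 59 = true := by decide +kernel
theorem o1u353 : ∀ k, 61380 ≤ k → k < 82266 → orbOk (k * 22) = true := between_extend orbOk 22 61380 82207 59 (o1u352) o1r353

theorem o1r354 : allRange orbOk 22 82266 59 = true := by decide +kernel
theorem o1u354 : ∀ k, 61380 ≤ k → k < 82325 → orbOk (k * 22) = true := between_extend orbOk 22 61380 82266 59 (o1u353) o1r354

theorem o1r355 : allRange orbOk 22 82325 59 = true := by decide +kernel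
theorem o1u355 : ∀ k, 61380 ≤ k → k < 82384 → orbOk (k * 22) = true := between_extend orbOk 22 61380 82325 59 (o1u354) o1r355

theorem o1r356 : allRange orbOk 22 82384 59 = true := by decide +kernel
theorem o1u356 : ∀ k, 61380 ≤ k → k < 82443 → orbOk (k * 22) = true := between_extend orbOk 22 61380 82384 59 (o1u355) o1r356

theorem o1r357 : allRange orbOk 22 82443 59 = true := by decide +kernel
theorem o1u357 : ∀ k, 61380 ≤ k → k < 82502 → orbOk (k * 22) = true := between_extend orbOk 22 61380 82443 59 (o1u356) o1r357

theorem o1r358 : allRange orbOk 22 82502 59 = true := by decide +kernel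
theorem o1u358 : ∀ k, 61380 ≤ k → k < 82561 → orbOk (k * 22) = true := between_extend orbOk 22 61380 82502 59 (o1u357) o1r358

theorem o1r359 : allRange orbOk 22 82561 59 = true := by decide +kernel
theorem o1u359 : ∀ k, 61380 ≤ k → k < 82620 → orbOk (k * 22) = true := between_extend orbOk 22 61380 82561 59 (o1u358) o1r359

theorem o1r360 : allRange orbOk 22 82620 59 = true := by decide +kernel
theorem o1u360 : ∀ k, 61380 ≤ k → k < 82679 → orbOk (k * 22) = true := between_extend orbOk 22 61380 82620 59 (o1u359) o1r360

theorem o1r361 : allRange orbOk 22 82679 59 = true := by decide +kernel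
theorem o1u361 : ∀ k, 61380 ≤ k → k < 82738 → orbOk (k * 22) = true := between_extend orbOk 22 61380 82679 59 (o1u360) o1r361

theorem o1r362 : allRange orbOk 22 82738 59 = true := by decide +kernel
theorem o1u362 : ∀ k, 61380 ≤ k → k < 82797 → orbOk (k * 22) = true := between_extend orbOk 22 61380 82738 59 (o1u361) o1r362

theorem o1r363 : allRange orbOk 22 82797 59 = true := by decide +kernel
theorem o1u363 : ∀ k, 61380 ≤ k → k < 82856 → orbOk (k * 22) = true := between_extend orbOk 22 61380 82797 59 (o1u362) o1r363

theorem o1r364 : allRange orbOk 22 82856 59 = true := by decide +kernel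
theorem o1u364 : ∀ k, 61380 ≤ k → k < 82915 → orbOk (k * 22) = true := between_extend orbOk 22 61380 82856 59 (o1u363) o1r364

theorem o1r365 : allRange orbOk 22 82915 59 = true := by decide +kernel
theorem o1u365 : ∀ k, 61380 ≤ k → k < 82974 → orbOk (k * 22) = true := between_extend orbOk 22 61380 82915 59 (o1u364) o1r365

theorem o1r366 : allRange orbOk 22 82974 59 = true := by decide +kernel
theorem o1u366 : ∀ k, 61380 ≤ k → k < 83033 → orbOk (k * 22) = true := between_extend orbOk 22 61380 82974 59 (o1u365) o1r366

theorem o1r367 : allRange orbOk 22 83033 59 = true := by decide +kernel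
theorem o1u367 : ∀ k, 61380 ≤ k → k < 83092 → orbOk (k * 22) = true := between_extend orbOk 22 61380 83033 59 (o1u366) o1r367

theorem o1r368 : allRange orbOk 22 83092 59 = true := by decide +kernel
theorem o1u368 : ∀ k, 61380 ≤ k → k < 83151 → orbOk (k * 22) = true := between_extend orbOk 22 61380 83092 59 (o1u367) o1r368

theorem o1r369 : allRange orbOk 22 83151 59 = true := by decide +kernel
theorem o1u369 : ∀ k, 61380 ≤ k → k < 83210 → orbOk (k * 22) = true := between_extend orbOk 22 61380 83151 59 (o1u368) o1r369

theorem o1r370 : allRange orbOk 22 83210 59 = true := by decide +kernel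
theorem o1u370 : ∀ k, 61380 ≤ k → k < 83269 → orbOk (k * 22) = true := between_extend orbOk 22 61380 83210 59 (o1u369) o1r370

theorem o1r371 : allRange orbOk 22 83269 59 = true := by decide +kernel
theorem o1u371 : ∀ k, 61380 ≤ k → k < 83328 → orbOk (k * 22) = true := between_extend orbOk 22 61380 83269 59 (o1u370) o1r371

theorem o1r372 : allRange orbOk 22 83328 59 = true := by decide +kernel
theorem o1u372 : ∀ k, 61380 ≤ k → k < 83387 → orbOk (k * 22) = true := between_extend orbOk 22 61380 83328 59 (o1u371) o1r372

theorem o1r373 : allRange orbOk 22 83387 59 = true := by decide +kernel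
theorem o1u373 : ∀ k, 61380 ≤ k → k < 83446 → orbOk (k * 22) = true := between_extend orbOk 22 61380 83387 59 (o1u372) o1r373

theorem o1r374 : allRange orbOk 22 83446 59 = true := by decide +kernel
theorem o1u374 : ∀ k, 61380 ≤ k → k < 83505 → orbOk (k * 22) = true := between_extend orbOk 22 61380 83446 59 (o1u373) o1r374

theorem o1r375 : allRange orbOk 22 83505 59 = true := by decide +kernel
theorem o1u375 : ∀ k, 61380 ≤ k → k < 83564 → orbOk (k * 22) = true := between_extend orbOk 22 61380 83505 59 (o1u374) o1r375

theorem o1r376 : allRange orbOk 22 83564 59 = true := by decide +kernel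
theorem o1u376 : ∀ k, 61380 ≤ k → k < 83623 → orbOk (k * 22) = true := between_extend orbOk 22 61380 83564 59 (o1u375) o1r376

theorem o1r377 : allRange orbOk 22 83623 59 = true := by decide +kernel
theorem o1u377 : ∀ k, 61380 ≤ k → k < 83682 → orbOk (k * 22) = true := between_extend orbOk 22 61380 83623 59 (o1u376) o1r377

theorem o1r378 : allRange orbOk 22 83682 59 = true := by decide +kernel
theorem o1u378 : ∀ k, 61380 ≤ k → k < 83741 → orbOk (k * 22) = true := between_extend orbOk 22 61380 83682 59 (o1u377) o1r378

theorem o1r379 : allRange orbOk 22 83741 59 = true := by decide +kernel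
theorem o1u379 : ∀ k, 61380 ≤ k → k < 83800 → orbOk (k * 22) = true := between_extend orbOk 22 61380 83741 59 (o1u378) o1r379

theorem o1r380 : allRange orbOk 22 83800 59 = true := by decide +kernel
theorem o1u380 : ∀ k, 61380 ≤ k → k < 83859 → orbOk (k * 22) = true := between_extend orbOk 22 61380 83800 59 (o1u379) o1r380

theorem o1r381 : allRange orbOk 22 83859 59 = true := by decide +kernel
theorem o1u381 : ∀ k, 61380 ≤ k → k < 83918 → orbOk (k * 22) = true := between_extend orbOk 22 61380 83859 59 (o1u380) o1r381

theorem o1r382 : allRange orbOk 22 83918 59 = true := by decide +kernel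
theorem o1u382 : ∀ k, 61380 ≤ k → k < 83977 → orbOk (k * 22) = true := between_extend orbOk 22 61380 83918 59 (o1u381) o1r382

theorem o1r383 : allRange orbOk 22 83977 59 = true := by decide +kernel
theorem o1u383 : ∀ k, 61380 ≤ k → k < 84036 → orbOk (k * 22) = true := between_extend orbOk 22 61380 83977 59 (o1u382) o1r383

theorem o1r384 : allRange orbOk 22 84036 59 = true := by decide +kernel
theorem o1u384 : ∀ k, 61380 ≤ k → k < 84095 → orbOk (k * 22) = true := between_extend orbOk 22 61380 84036 59 (o1u383) o1r384

theorem o1r385 : allRange orbOk 22 84095 59 = true := by decide +kernel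
theorem o1u385 : ∀ k, 61380 ≤ k → k < 84154 → orbOk (k * 22) = true := between_extend orbOk 22 61380 84095 59 (o1u384) o1r385

theorem o1r386 : allRange orbOk 22 84154 59 = true := by decide +kernel
theorem o1u386 : ∀ k, 61380 ≤ k → k < 84213 → orbOk (k * 22) = true := between_extend orbOk 22 61380 84154 59 (o1u385) o1r386

theorem o1r387 : allRange orbOk 22 84213 59 = true := by decide +kernel
theorem o1u387 : ∀ k, 61380 ≤ k → k < 84272 → orbOk (k * 22) = true := between_extend orbOk 22 61380 84213 59 (o1u386) o1r387

theorem o1r388 : allRange orbOk 22 84272 59 = true := by decide +kernel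
theorem o1u388 : ∀ k, 61380 ≤ k → k < 84331 → orbOk (k * 22) = true := between_extend orbOk 22 61380 84272 59 (o1u387) o1r388

theorem o1r389 : allRange orbOk 22 84331 59 = true := by decide +kernel
theorem o1u389 : ∀ k, 61380 ≤ k → k < 84390 → orbOk (k * 22) = true := between_extend orbOk 22 61380 84331 59 (o1u388) o1r389

theorem o1r390 : allRange orbOk 22 84390 59 = true := by decide +kernel
theorem o1u390 : ∀ k, 61380 ≤ k → k < 84449 → orbOk (k * 22) = true := between_extend orbOk 22 61380 84390 59 (o1u389) o1r390

theorem o1r391 : allRange orbOk 22 84449 59 = true := by decide +kernel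
theorem o1u391 : ∀ k, 61380 ≤ k → k < 84508 → orbOk (k * 22) = true := between_extend orbOk 22 61380 84449 59 (o1u390) o1r391

theorem o1r392 : allRange orbOk 22 84508 59 = true := by decide +kernel
theorem o1u392 : ∀ k, 61380 ≤ k → k < 84567 → orbOk (k * 22) = true := between_extend orbOk 22 61380 84508 59 (o1u391) o1r392

theorem o1r393 : allRange orbOk 22 84567 59 = true := by decide +kernel
theorem o1u393 : ∀ k, 61380 ≤ k → k < 84626 → orbOk (k * 22) = true := between_extend orbOk 22 61380 84567 59 (o1u392) o1r393

theorem o1r394 : allRange orbOk 22 84626 59 = true := by decide +kernel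
theorem o1u394 : ∀ k, 61380 ≤ k → k < 84685 → orbOk (k * 22) = true := between_extend orbOk 22 61380 84626 59 (o1u393) o1r394

theorem o1r395 : allRange orbOk 22 84685 59 = true := by decide +kernel
theorem o1u395 : ∀ k, 61380 ≤ k → k < 84744 → orbOk (k * 22) = true := between_extend orbOk 22 61380 84685 59 (o1u394) o1r395

theorem o1r396 : allRange orbOk 22 84744 59 = true := by decide +kernel
theorem o1u396 : ∀ k, 61380 ≤ k → k < 84803 → orbOk (k * 22) = true := between_extend orbOk 22 61380 84744 59 (o1u395) o1r396

theorem o1r397 : allRange orbOk 22 84803 59 = true := by decide +kernel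
theorem o1u397 : ∀ k, 61380 ≤ k → k < 84862 → orbOk (k * 22) = true := between_extend orbOk 22 61380 84803 59 (o1u396) o1r397

theorem o1r398 : allRange orbOk 22 84862 59 = true := by decide +kernel
theorem o1u398 : ∀ k, 61380 ≤ k → k < 84921 → orbOk (k * 22) = true := between_extend orbOk 22 61380 84862 59 (o1u397) o1r398

theorem o1r399 : allRange orbOk 22 84921 59 = true := by decide +kernel
theorem o1u399 : ∀ k, 61380 ≤ k → k < 84980 → orbOk (k * 22) = true := between_extend orbOk 22 61380 84921 59 (o1u398) o1r399

theorem o1r400 : allRange orbOk 22 84980 59 = true := by decide +kernel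
theorem o1u400 : ∀ k, 61380 ≤ k → k < 85039 → orbOk (k * 22) = true := between_extend orbOk 22 61380 84980 59 (o1u399) o1r400

theorem o1r401 : allRange orbOk 22 85039 59 = true := by decide +kernel
theorem o1u401 : ∀ k, 61380 ≤ k → k < 85098 → orbOk (k * 22) = true := between_extend orbOk 22 61380 85039 59 (o1u400) o1r401

theorem o1r402 : allRange orbOk 22 85098 59 = true := by decide +kernel
theorem o1u402 : ∀ k, 61380 ≤ k → k < 85157 → orbOk (k * 22) = true := between_extend orbOk 22 61380 85098 59 (o1u401) o1r402

theorem o1r403 : allRange orbOk 22 85157 59 = true := by decide +kernel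
theorem o1u403 : ∀ k, 61380 ≤ k → k < 85216 → orbOk (k * 22) = true := between_extend orbOk 22 61380 85157 59 (o1u402) o1r403

theorem o1r404 : allRange orbOk 22 85216 59 = true := by decide +kernel
theorem o1u404 : ∀ k, 61380 ≤ k → k < 85275 → orbOk (k * 22) = true := between_extend orbOk 22 61380 85216 59 (o1u403) o1r404

theorem o1r405 : allRange orbOk 22 85275 59 = true := by decide +kernel
theorem o1u405 : ∀ k, 61380 ≤ k → k < 85334 → orbOk (k * 22) = true := between_extend orbOk 22 61380 85275 59 (o1u404) o1r405

theorem o1r406 : allRange orbOk 22 85334 59 = true := by decide +kernel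
theorem o1u406 : ∀ k, 61380 ≤ k → k < 85393 → orbOk (k * 22) = true := between_extend orbOk 22 61380 85334 59 (o1u405) o1r406

theorem o1r407 : allRange orbOk 22 85393 59 = true := by decide +kernel
theorem o1u407 : ∀ k, 61380 ≤ k → k < 85452 → orbOk (k * 22) = true := between_extend orbOk 22 61380 85393 59 (o1u406) o1r407

theorem o1r408 : allRange orbOk 22 85452 59 = true := by decide +kernel
theorem o1u408 : ∀ k, 61380 ≤ k → k < 85511 → orbOk (k * 22) = true := between_extend orbOk 22 61380 85452 59 (o1u407) o1r408

theorem o1r409 : allRange orbOk 22 85511 59 = true := by decide +kernel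
theorem o1u409 : ∀ k, 61380 ≤ k → k < 85570 → orbOk (k * 22) = true := between_extend orbOk 22 61380 85511 59 (o1u408) o1r409

theorem o1r410 : allRange orbOk 22 85570 59 = true := by decide +kernel
theorem o1u410 : ∀ k, 61380 ≤ k → k < 85629 → orbOk (k * 22) = true := between_extend orbOk 22 61380 85570 59 (o1u409) o1r410

theorem o1r411 : allRange orbOk 22 85629 59 = true := by decide +kernel
theorem o1u411 : ∀ k, 61380 ≤ k → k < 85688 → orbOk (k * 22) = true := between_extend orbOk 22 61380 85629 59 (o1u410) o1r411

theorem o1r412 : allRange orbOk 22 85688 59 = true := by decide +kernel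
theorem o1u412 : ∀ k, 61380 ≤ k → k < 85747 → orbOk (k * 22) = true := between_extend orbOk 22 61380 85688 59 (o1u411) o1r412

theorem o1r413 : allRange orbOk 22 85747 59 = true := by decide +kernel
theorem o1u413 : ∀ k, 61380 ≤ k → k < 85806 → orbOk (k * 22) = true := between_extend orbOk 22 61380 85747 59 (o1u412) o1r413

theorem o1r414 : allRange orbOk 22 85806 59 = true := by decide +kernel
theorem o1u414 : ∀ k, 61380 ≤ k → k < 85865 → orbOk (k * 22) = true := between_extend orbOk 22 61380 85806 59 (o1u413) o1r414

theorem o1r415 : allRange orbOk 22 85865 59 = true := by decide +kernel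
theorem o1u415 : ∀ k, 61380 ≤ k → k < 85924 → orbOk (k * 22) = true := between_extend orbOk 22 61380 85865 59 (o1u414) o1r415

theorem o1r416 : allRange orbOk 22 85924 59 = true := by decide +kernel
theorem o1u416 : ∀ k, 61380 ≤ k → k < 85983 → orbOk (k * 22) = true := between_extend orbOk 22 61380 85924 59 (o1u415) o1r416

theorem o1r417 : allRange orbOk 22 85983 59 = true := by decide +kernel
theorem o1u417 : ∀ k, 61380 ≤ k → k < 86042 → orbOk (k * 22) = true := between_extend orbOk 22 61380 85983 59 (o1u416) o1r417

theorem o1r418 : allRange orbOk 22 86042 59 = true := by decide +kernel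
theorem o1u418 : ∀ k, 61380 ≤ k → k < 86101 → orbOk (k * 22) = true := between_extend orbOk 22 61380 86042 59 (o1u417) o1r418

theorem o1r419 : allRange orbOk 22 86101 59 = true := by decide +kernel
theorem o1u419 : ∀ k, 61380 ≤ k → k < 86160 → orbOk (k * 22) = true := between_extend orbOk 22 61380 86101 59 (o1u418) o1r419

theorem o1r420 : allRange orbOk 22 86160 59 = true := by decide +kernel
theorem o1u420 : ∀ k, 61380 ≤ k → k < 86219 → orbOk (k * 22) = true := between_extend orbOk 22 61380 86160 59 (o1u419) o1r420

theorem o1r421 : allRange orbOk 22 86219 59 = true := by decide +kernel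
theorem o1u421 : ∀ k, 61380 ≤ k → k < 86278 → orbOk (k * 22) = true := between_extend orbOk 22 61380 86219 59 (o1u420) o1r421

theorem o1r422 : allRange orbOk 22 86278 59 = true := by decide +kernel
theorem o1u422 : ∀ k, 61380 ≤ k → k < 86337 → orbOk (k * 22) = true := between_extend orbOk 22 61380 86278 59 (o1u421) o1r422

theorem o1r423 : allRange orbOk 22 86337 59 = true := by decide +kernel
theorem o1u423 : ∀ k, 61380 ≤ k → k < 86396 → orbOk (k * 22) = true := between_extend orbOk 22 61380 86337 59 (o1u422) o1r423

theorem o1r424 : allRange orbOk 22 86396 59 = true := by decide +kernel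
theorem o1u424 : ∀ k, 61380 ≤ k → k < 86455 → orbOk (k * 22) = true := between_extend orbOk 22 61380 86396 59 (o1u423) o1r424

theorem o1r425 : allRange orbOk 22 86455 59 = true := by decide +kernel
theorem o1u425 : ∀ k, 61380 ≤ k → k < 86514 → orbOk (k * 22) = true := between_extend orbOk 22 61380 86455 59 (o1u424) o1r425

theorem o1r426 : allRange orbOk 22 86514 59 = true := by decide +kernel
theorem o1u426 : ∀ k, 61380 ≤ k → k < 86573 → orbOk (k * 22) = true := between_extend orbOk 22 61380 86514 59 (o1u425) o1r426

theorem o1r427 : allRange orbOk 22 86573 59 = true := by decide +kernel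
theorem o1u427 : ∀ k, 61380 ≤ k → k < 86632 → orbOk (k * 22) = true := between_extend orbOk 22 61380 86573 59 (o1u426) o1r427

theorem o1r428 : allRange orbOk 22 86632 59 = true := by decide +kernel
theorem o1u428 : ∀ k, 61380 ≤ k → k < 86691 → orbOk (k * 22) = true := between_extend orbOk 22 61380 86632 59 (o1u427) o1r428

theorem o1r429 : allRange orbOk 22 86691 59 = true := by decide +kernel
theorem o1u429 : ∀ k, 61380 ≤ k → k < 86750 → orbOk (k * 22) = true := between_extend orbOk 22 61380 86691 59 (o1u428) o1r429

theorem o1r430 : allRange orbOk 22 86750 59 = true := by decide +kernel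
theorem o1u430 : ∀ k, 61380 ≤ k → k < 86809 → orbOk (k * 22) = true := between_extend orbOk 22 61380 86750 59 (o1u429) o1r430

theorem o1r431 : allRange orbOk 22 86809 59 = true := by decide +kernel
theorem o1u431 : ∀ k, 61380 ≤ k → k < 86868 → orbOk (k * 22) = true := between_extend orbOk 22 61380 86809 59 (o1u430) o1r431

theorem o1r432 : allRange orbOk 22 86868 59 = true := by decide +kernel
theorem o1u432 : ∀ k, 61380 ≤ k → k < 86927 → orbOk (k * 22) = true := between_extend orbOk 22 61380 86868 59 (o1u431) o1r432

theorem o1r433 : allRange orbOk 22 86927 59 = true := by decide +kernel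
theorem o1u433 : ∀ k, 61380 ≤ k → k < 86986 → orbOk (k * 22) = true := between_extend orbOk 22 61380 86927 59 (o1u432) o1r433

theorem o1r434 : allRange orbOk 22 86986 59 = true := by decide +kernel
theorem o1u434 : ∀ k, 61380 ≤ k → k < 87045 → orbOk (k * 22) = true := between_extend orbOk 22 61380 86986 59 (o1u433) o1r434

theorem o1r435 : allRange orbOk 22 87045 59 = true := by decide +kernel
theorem o1u435 : ∀ k, 61380 ≤ k → k < 87104 → orbOk (k * 22) = true := between_extend orbOk 22 61380 87045 59 (o1u434) o1r435

theorem o1r436 : allRange orbOk 22 87104 59 = true := by decide +kernel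
theorem o1u436 : ∀ k, 61380 ≤ k → k < 87163 → orbOk (k * 22) = true := between_extend orbOk 22 61380 87104 59 (o1u435) o1r436

theorem o1r437 : allRange orbOk 22 87163 59 = true := by decide +kernel
theorem o1u437 : ∀ k, 61380 ≤ k → k < 87222 → orbOk (k * 22) = true := between_extend orbOk 22 61380 87163 59 (o1u436) o1r437

theorem o1r438 : allRange orbOk 22 87222 59 = true := by decide +kernel
theorem o1u438 : ∀ k, 61380 ≤ k → k < 87281 → orbOk (k * 22) = true := between_extend orbOk 22 61380 87222 59 (o1u437) o1r438

theorem o1r439 : allRange orbOk 22 87281 59 = true := by decide +kernel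
theorem o1u439 : ∀ k, 61380 ≤ k → k < 87340 → orbOk (k * 22) = true := between_extend orbOk 22 61380 87281 59 (o1u438) o1r439

theorem o1r440 : allRange orbOk 22 87340 59 = true := by decide +kernel
theorem o1u440 : ∀ k, 61380 ≤ k → k < 87399 → orbOk (k * 22) = true := between_extend orbOk 22 61380 87340 59 (o1u439) o1r440

theorem o1r441 : allRange orbOk 22 87399 59 = true := by decide +kernel
theorem o1u441 : ∀ k, 61380 ≤ k → k < 87458 → orbOk (k * 22) = true := between_extend orbOk 22 61380 87399 59 (o1u440) o1r441

theorem o1r442 : allRange orbOk 22 87458 59 = true := by decide +kernel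
theorem o1u442 : ∀ k, 61380 ≤ k → k < 87517 → orbOk (k * 22) = true := between_extend orbOk 22 61380 87458 59 (o1u441) o1r442

theorem o1r443 : allRange orbOk 22 87517 59 = true := by decide +kernel
theorem o1u443 : ∀ k, 61380 ≤ k → k < 87576 → orbOk (k * 22) = true := between_extend orbOk 22 61380 87517 59 (o1u442) o1r443

theorem o1r444 : allRange orbOk 22 87576 59 = true := by decide +kernel
theorem o1u444 : ∀ k, 61380 ≤ k → k < 87635 → orbOk (k * 22) = true := between_extend orbOk 22 61380 87576 59 (o1u443) o1r444

theorem o1r445 : allRange orbOk 22 87635 59 = true := by decide +kernel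
theorem o1u445 : ∀ k, 61380 ≤ k → k < 87694 → orbOk (k * 22) = true := between_extend orbOk 22 61380 87635 59 (o1u444) o1r445

theorem o1r446 : allRange orbOk 22 87694 59 = true := by decide +kernel
theorem o1u446 : ∀ k, 61380 ≤ k → k < 87753 → orbOk (k * 22) = true := between_extend orbOk 22 61380 87694 59 (o1u445) o1r446

theorem o1r447 : allRange orbOk 22 87753 59 = true := by decide +kernel
theorem o1u447 : ∀ k, 61380 ≤ k → k < 87812 → orbOk (k * 22) = true := between_extend orbOk 22 61380 87753 59 (o1u446) o1r447

theorem o1r448 : allRange orbOk 22 87812 59 = true := by decide +kernel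
theorem o1u448 : ∀ k, 61380 ≤ k → k < 87871 → orbOk (k * 22) = true := between_extend orbOk 22 61380 87812 59 (o1u447) o1r448

theorem o1r449 : allRange orbOk 22 87871 59 = true := by decide +kernel
theorem o1u449 : ∀ k, 61380 ≤ k → k < 87930 → orbOk (k * 22) = true := between_extend orbOk 22 61380 87871 59 (o1u448) o1r449

theorem o1r450 : allRange orbOk 22 87930 59 = true := by decide +kernel
theorem o1u450 : ∀ k, 61380 ≤ k → k < 87989 → orbOk (k * 22) = true := between_extend orbOk 22 61380 87930 59 (o1u449) o1r450

theorem o1r451 : allRange orbOk 22 87989 59 = true := by decide +kernel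
theorem o1u451 : ∀ k, 61380 ≤ k → k < 88048 → orbOk (k * 22) = true := between_extend orbOk 22 61380 87989 59 (o1u450) o1r451

theorem o1r452 : allRange orbOk 22 88048 59 = true := by decide +kernel
theorem o1u452 : ∀ k, 61380 ≤ k → k < 88107 → orbOk (k * 22) = true := between_extend orbOk 22 61380 88048 59 (o1u451) o1r452

theorem o1r453 : allRange orbOk 22 88107 59 = true := by decide +kernel
theorem o1u453 : ∀ k, 61380 ≤ k → k < 88166 → orbOk (k * 22) = true := between_extend orbOk 22 61380 88107 59 (o1u452) o1r453

theorem o1r454 : allRange orbOk 22 88166 59 = true := by decide +kernel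
theorem o1u454 : ∀ k, 61380 ≤ k → k < 88225 → orbOk (k * 22) = true := between_extend orbOk 22 61380 88166 59 (o1u453) o1r454

theorem o1r455 : allRange orbOk 22 88225 59 = true := by decide +kernel
theorem o1u455 : ∀ k, 61380 ≤ k → k < 88284 → orbOk (k * 22) = true := between_extend orbOk 22 61380 88225 59 (o1u454) o1r455

theorem o1r456 : allRange orbOk 22 88284 59 = true := by decide +kernel
theorem o1u456 : ∀ k, 61380 ≤ k → k < 88343 → orbOk (k * 22) = true := between_extend orbOk 22 61380 88284 59 (o1u455) o1r456

theorem o1r457 : allRange orbOk 22 88343 59 = true := by decide +kernel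
theorem o1u457 : ∀ k, 61380 ≤ k → k < 88402 → orbOk (k * 22) = true := between_extend orbOk 22 61380 88343 59 (o1u456) o1r457

theorem o1r458 : allRange orbOk 22 88402 59 = true := by decide +kernel
theorem o1u458 : ∀ k, 61380 ≤ k → k < 88461 → orbOk (k * 22) = true := between_extend orbOk 22 61380 88402 59 (o1u457) o1r458

theorem o1r459 : allRange orbOk 22 88461 59 = true := by decide +kernel
theorem o1u459 : ∀ k, 61380 ≤ k → k < 88520 → orbOk (k * 22) = true := between_extend orbOk 22 61380 88461 59 (o1u458) o1r459

theorem o1r460 : allRange orbOk 22 88520 59 = true := by decide +kernel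
theorem o1u460 : ∀ k, 61380 ≤ k → k < 88579 → orbOk (k * 22) = true := between_extend orbOk 22 61380 88520 59 (o1u459) o1r460

theorem o1r461 : allRange orbOk 22 88579 59 = true := by decide +kernel
theorem o1u461 : ∀ k, 61380 ≤ k → k < 88638 → orbOk (k * 22) = true := between_extend orbOk 22 61380 88579 59 (o1u460) o1r461

theorem o1r462 : allRange orbOk 22 88638 59 = true := by decide +kernel
theorem o1u462 : ∀ k, 61380 ≤ k → k < 88697 → orbOk (k * 22) = true := between_extend orbOk 22 61380 88638 59 (o1u461) o1r462

theorem o1r463 : allRange orbOk 22 88697 59 = true := by decide +kernel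
theorem o1u463 : ∀ k, 61380 ≤ k → k < 88756 → orbOk (k * 22) = true := between_extend orbOk 22 61380 88697 59 (o1u462) o1r463

theorem o1r464 : allRange orbOk 22 88756 59 = true := by decide +kernel
theorem o1u464 : ∀ k, 61380 ≤ k → k < 88815 → orbOk (k * 22) = true := between_extend orbOk 22 61380 88756 59 (o1u463) o1r464

theorem o1r465 : allRange orbOk 22 88815 59 = true := by decide +kernel
theorem o1u465 : ∀ k, 61380 ≤ k → k < 88874 → orbOk (k * 22) = true := between_extend orbOk 22 61380 88815 59 (o1u464) o1r465

theorem o1r466 : allRange orbOk 22 88874 59 = true := by decide +kernel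
theorem o1u466 : ∀ k, 61380 ≤ k → k < 88933 → orbOk (k * 22) = true := between_extend orbOk 22 61380 88874 59 (o1u465) o1r466

theorem o1r467 : allRange orbOk 22 88933 59 = true := by decide +kernel
theorem o1u467 : ∀ k, 61380 ≤ k → k < 88992 → orbOk (k * 22) = true := between_extend orbOk 22 61380 88933 59 (o1u466) o1r467

theorem o1r468 : allRange orbOk 22 88992 59 = true := by decide +kernel
theorem o1u468 : ∀ k, 61380 ≤ k → k < 89051 → orbOk (k * 22) = true := between_extend orbOk 22 61380 88992 59 (o1u467) o1r468

theorem o1r469 : allRange orbOk 22 89051 59 = true := by decide +kernel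
theorem o1u469 : ∀ k, 61380 ≤ k → k < 89110 → orbOk (k * 22) = true := between_extend orbOk 22 61380 89051 59 (o1u468) o1r469

theorem o1r470 : allRange orbOk 22 89110 59 = true := by decide +kernel
theorem o1u470 : ∀ k, 61380 ≤ k → k < 89169 → orbOk (k * 22) = true := between_extend orbOk 22 61380 89110 59 (o1u469) o1r470

theorem o1r471 : allRange orbOk 22 89169 59 = true := by decide +kernel
theorem o1u471 : ∀ k, 61380 ≤ k → k < 89228 → orbOk (k * 22) = true := between_extend orbOk 22 61380 89169 59 (o1u470) o1r471

theorem o1r472 : allRange orbOk 22 89228 59 = true := by decide +kernel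
theorem o1u472 : ∀ k, 61380 ≤ k → k < 89287 → orbOk (k * 22) = true := between_extend orbOk 22 61380 89228 59 (o1u471) o1r472

theorem o1r473 : allRange orbOk 22 89287 59 = true := by decide +kernel
theorem o1u473 : ∀ k, 61380 ≤ k → k < 89346 → orbOk (k * 22) = true := between_extend orbOk 22 61380 89287 59 (o1u472) o1r473

theorem o1r474 : allRange orbOk 22 89346 59 = true := by decide +kernel
theorem o1u474 : ∀ k, 61380 ≤ k → k < 89405 → orbOk (k * 22) = true := between_extend orbOk 22 61380 89346 59 (o1u473) o1r474

theorem o1r475 : allRange orbOk 22 89405 59 = true := by decide +kernel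
theorem o1u475 : ∀ k, 61380 ≤ k → k < 89464 → orbOk (k * 22) = true := between_extend orbOk 22 61380 89405 59 (o1u474) o1r475

theorem o1r476 : allRange orbOk 22 89464 59 = true := by decide +kernel
theorem o1u476 : ∀ k, 61380 ≤ k → k < 89523 → orbOk (k * 22) = true := between_extend orbOk 22 61380 89464 59 (o1u475) o1r476

theorem o1r477 : allRange orbOk 22 89523 59 = true := by decide +kernel
theorem o1u477 : ∀ k, 61380 ≤ k → k < 89582 → orbOk (k * 22) = true := between_extend orbOk 22 61380 89523 59 (o1u476) o1r477

theorem o1r478 : allRange orbOk 22 89582 59 = true := by decide +kernel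
theorem o1u478 : ∀ k, 61380 ≤ k → k < 89641 → orbOk (k * 22) = true := between_extend orbOk 22 61380 89582 59 (o1u477) o1r478

theorem o1r479 : allRange orbOk 22 89641 59 = true := by decide +kernel
theorem o1u479 : ∀ k, 61380 ≤ k → k < 89700 → orbOk (k * 22) = true := between_extend orbOk 22 61380 89641 59 (o1u478) o1r479

theorem o1r480 : allRange orbOk 22 89700 59 = true := by decide +kernel
theorem o1u480 : ∀ k, 61380 ≤ k → k < 89759 → orbOk (k * 22) = true := between_extend orbOk 22 61380 89700 59 (o1u479) o1r480

theorem o1r481 : allRange orbOk 22 89759 59 = true := by decide +kernel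
theorem o1u481 : ∀ k, 61380 ≤ k → k < 89818 → orbOk (k * 22) = true := between_extend orbOk 22 61380 89759 59 (o1u480) o1r481

theorem o1r482 : allRange orbOk 22 89818 59 = true := by decide +kernel
theorem o1u482 : ∀ k, 61380 ≤ k → k < 89877 → orbOk (k * 22) = true := between_extend orbOk 22 61380 89818 59 (o1u481) o1r482

theorem o1r483 : allRange orbOk 22 89877 59 = true := by decide +kernel
theorem o1u483 : ∀ k, 61380 ≤ k → k < 89936 → orbOk (k * 22) = true := between_extend orbOk 22 61380 89877 59 (o1u482) o1r483

theorem o1r484 : allRange orbOk 22 89936 59 = true := by decide +kernel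
theorem o1u484 : ∀ k, 61380 ≤ k → k < 89995 → orbOk (k * 22) = true := between_extend orbOk 22 61380 89936 59 (o1u483) o1r484

theorem o1r485 : allRange orbOk 22 89995 59 = true := by decide +kernel
theorem o1u485 : ∀ k, 61380 ≤ k → k < 90054 → orbOk (k * 22) = true := between_extend orbOk 22 61380 89995 59 (o1u484) o1r485

theorem o1r486 : allRange orbOk 22 90054 59 = true := by decide +kernel
theorem o1u486 : ∀ k, 61380 ≤ k → k < 90113 → orbOk (k * 22) = true := between_extend orbOk 22 61380 90054 59 (o1u485) o1r486

theorem o1r487 : allRange orbOk 22 90113 59 = true := by decide +kernel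
theorem o1u487 : ∀ k, 61380 ≤ k → k < 90172 → orbOk (k * 22) = true := between_extend orbOk 22 61380 90113 59 (o1u486) o1r487

theorem o1r488 : allRange orbOk 22 90172 59 = true := by decide +kernel
theorem o1u488 : ∀ k, 61380 ≤ k → k < 90231 → orbOk (k * 22) = true := between_extend orbOk 22 61380 90172 59 (o1u487) o1r488

theorem o1r489 : allRange orbOk 22 90231 59 = true := by decide +kernel
theorem o1u489 : ∀ k, 61380 ≤ k → k < 90290 → orbOk (k * 22) = true := between_extend orbOk 22 61380 90231 59 (o1u488) o1r489

theorem o1r490 : allRange orbOk 22 90290 59 = true := by decide +kernel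
theorem o1u490 : ∀ k, 61380 ≤ k → k < 90349 → orbOk (k * 22) = true := between_extend orbOk 22 61380 90290 59 (o1u489) o1r490

theorem o1r491 : allRange orbOk 22 90349 59 = true := by decide +kernel
theorem o1u491 : ∀ k, 61380 ≤ k → k < 90408 → orbOk (k * 22) = true := between_extend orbOk 22 61380 90349 59 (o1u490) o1r491

theorem o1r492 : allRange orbOk 22 90408 59 = true := by decide +kernel
theorem o1u492 : ∀ k, 61380 ≤ k → k < 90467 → orbOk (k * 22) = true := between_extend orbOk 22 61380 90408 59 (o1u491) o1r492

theorem o1r493 : allRange orbOk 22 90467 59 = true := by decide +kernel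
theorem o1u493 : ∀ k, 61380 ≤ k → k < 90526 → orbOk (k * 22) = true := between_extend orbOk 22 61380 90467 59 (o1u492) o1r493

theorem o1r494 : allRange orbOk 22 90526 59 = true := by decide +kernel
theorem o1u494 : ∀ k, 61380 ≤ k → k < 90585 → orbOk (k * 22) = true := between_extend orbOk 22 61380 90526 59 (o1u493) o1r494

theorem o1r495 : allRange orbOk 22 90585 59 = true := by decide +kernel
theorem o1u495 : ∀ k, 61380 ≤ k → k < 90644 → orbOk (k * 22) = true := between_extend orbOk 22 61380 90585 59 (o1u494) o1r495

theorem o1r496 : allRange orbOk 22 90644 59 = true := by decide +kernel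
theorem o1u496 : ∀ k, 61380 ≤ k → k < 90703 → orbOk (k * 22) = true := between_extend orbOk 22 61380 90644 59 (o1u495) o1r496

theorem o1r497 : allRange orbOk 22 90703 59 = true := by decide +kernel
theorem o1u497 : ∀ k, 61380 ≤ k → k < 90762 → orbOk (k * 22) = true := between_extend orbOk 22 61380 90703 59 (o1u496) o1r497

theorem o1r498 : allRange orbOk 22 90762 59 = true := by decide +kernel
theorem o1u498 : ∀ k, 61380 ≤ k → k < 90821 → orbOk (k * 22) = true := between_extend orbOk 22 61380 90762 59 (o1u497) o1r498

theorem o1r499 : allRange orbOk 22 90821 59 = true := by decide +kernel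
theorem o1u499 : ∀ k, 61380 ≤ k → k < 90880 → orbOk (k * 22) = true := between_extend orbOk 22 61380 90821 59 (o1u498) o1r499

theorem o1r500 : allRange orbOk 22 90880 59 = true := by decide +kernel
theorem o1u500 : ∀ k, 61380 ≤ k → k < 90939 → orbOk (k * 22) = true := between_extend orbOk 22 61380 90880 59 (o1u499) o1r500

theorem o1r501 : allRange orbOk 22 90939 59 = true := by decide +kernel
theorem o1u501 : ∀ k, 61380 ≤ k → k < 90998 → orbOk (k * 22) = true := between_extend orbOk 22 61380 90939 59 (o1u500) o1r501

theorem o1r502 : allRange orbOk 22 90998 59 = true := by decide +kernel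
theorem o1u502 : ∀ k, 61380 ≤ k → k < 91057 → orbOk (k * 22) = true := between_extend orbOk 22 61380 90998 59 (o1u501) o1r502

theorem o1r503 : allRange orbOk 22 91057 59 = true := by decide +kernel
theorem o1u503 : ∀ k, 61380 ≤ k → k < 91116 → orbOk (k * 22) = true := between_extend orbOk 22 61380 91057 59 (o1u502) o1r503

theorem o1r504 : allRange orbOk 22 91116 59 = true := by decide +kernel
theorem o1u504 : ∀ k, 61380 ≤ k → k < 91175 → orbOk (k * 22) = true := between_extend orbOk 22 61380 91116 59 (o1u503) o1r504

theorem o1r505 : allRange orbOk 22 91175 59 = true := by decide +kernel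
theorem o1u505 : ∀ k, 61380 ≤ k → k < 91234 → orbOk (k * 22) = true := between_extend orbOk 22 61380 91175 59 (o1u504) o1r505

theorem o1r506 : allRange orbOk 22 91234 59 = true := by decide +kernel
theorem o1u506 : ∀ k, 61380 ≤ k → k < 91293 → orbOk (k * 22) = true := between_extend orbOk 22 61380 91234 59 (o1u505) o1r506

theorem o1r507 : allRange orbOk 22 91293 59 = true := by decide +kernel
theorem o1u507 : ∀ k, 61380 ≤ k → k < 91352 → orbOk (k * 22) = true := between_extend orbOk 22 61380 91293 59 (o1u506) o1r507

theorem o1r508 : allRange orbOk 22 91352 59 = true := by decide +kernel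
theorem o1u508 : ∀ k, 61380 ≤ k → k < 91411 → orbOk (k * 22) = true := between_extend orbOk 22 61380 91352 59 (o1u507) o1r508

theorem o1r509 : allRange orbOk 22 91411 59 = true := by decide +kernel
theorem o1u509 : ∀ k, 61380 ≤ k → k < 91470 → orbOk (k * 22) = true := between_extend orbOk 22 61380 91411 59 (o1u508) o1r509

theorem o1r510 : allRange orbOk 22 91470 59 = true := by decide +kernel
theorem o1u510 : ∀ k, 61380 ≤ k → k < 91529 → orbOk (k * 22) = true := between_extend orbOk 22 61380 91470 59 (o1u509) o1r510

theorem o1r511 : allRange orbOk 22 91529 59 = true := by decide +kernel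
theorem o1u511 : ∀ k, 61380 ≤ k → k < 91588 → orbOk (k * 22) = true := between_extend orbOk 22 61380 91529 59 (o1u510) o1r511

theorem o1r512 : allRange orbOk 22 91588 59 = true := by decide +kernel
theorem o1u512 : ∀ k, 61380 ≤ k → k < 91647 → orbOk (k * 22) = true := between_extend orbOk 22 61380 91588 59 (o1u511) o1r512

theorem o1r513 : allRange orbOk 22 91647 59 = true := by decide +kernel
theorem o1u513 : ∀ k, 61380 ≤ k → k < 91706 → orbOk (k * 22) = true := between_extend orbOk 22 61380 91647 59 (o1u512) o1r513

theorem o1r514 : allRange orbOk 22 91706 59 = true := by decide +kernel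
theorem o1u514 : ∀ k, 61380 ≤ k → k < 91765 → orbOk (k * 22) = true := between_extend orbOk 22 61380 91706 59 (o1u513) o1r514

theorem o1r515 : allRange orbOk 22 91765 59 = true := by decide +kernel
theorem o1u515 : ∀ k, 61380 ≤ k → k < 91824 → orbOk (k * 22) = true := between_extend orbOk 22 61380 91765 59 (o1u514) o1r515

theorem o1r516 : allRange orbOk 22 91824 59 = true := by decide +kernel
theorem o1u516 : ∀ k, 61380 ≤ k → k < 91883 → orbOk (k * 22) = true := between_extend orbOk 22 61380 91824 59 (o1u515) o1r516

theorem o1r517 : allRange orbOk 22 91883 59 = true := by decide +kernel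
theorem o1u517 : ∀ k, 61380 ≤ k → k < 91942 → orbOk (k * 22) = true := between_extend orbOk 22 61380 91883 59 (o1u516) o1r517

theorem o1r518 : allRange orbOk 22 91942 59 = true := by decide +kernel
theorem o1u518 : ∀ k, 61380 ≤ k → k < 92001 → orbOk (k * 22) = true := between_extend orbOk 22 61380 91942 59 (o1u517) o1r518

theorem o1r519 : allRange orbOk 22 92001 59 = true := by decide +kernel
theorem o1u519 : ∀ k, 61380 ≤ k → k < 92060 → orbOk (k * 22) = true := between_extend orbOk 22 61380 92001 59 (o1u518) o1r519

theorem o1r520 : allRange orbOk 22 92060 59 = true := by decide +kernel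
theorem o1u520 : ∀ k, 61380 ≤ k → k < 92119 → orbOk (k * 22) = true := between_extend orbOk 22 61380 92060 59 (o1u519) o1r520

theorem o1r521 : allRange orbOk 22 92119 59 = true := by decide +kernel
theorem o1u521 : ∀ k, 61380 ≤ k → k < 92178 → orbOk (k * 22) = true := between_extend orbOk 22 61380 92119 59 (o1u520) o1r521

theorem o1r522 : allRange orbOk 22 92178 59 = true := by decide +kernel
theorem o1u522 : ∀ k, 61380 ≤ k → k < 92237 → orbOk (k * 22) = true := between_extend orbOk 22 61380 92178 59 (o1u521) o1r522

theorem o1r523 : allRange orbOk 22 92237 59 = true := by decide +kernel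
theorem o1u523 : ∀ k, 61380 ≤ k → k < 92296 → orbOk (k * 22) = true := between_extend orbOk 22 61380 92237 59 (o1u522) o1r523

theorem o1r524 : allRange orbOk 22 92296 59 = true := by decide +kernel
theorem o1u524 : ∀ k, 61380 ≤ k → k < 92355 → orbOk (k * 22) = true := between_extend orbOk 22 61380 92296 59 (o1u523) o1r524

theorem o1r525 : allRange orbOk 22 92355 59 = true := by decide +kernel
theorem o1u525 : ∀ k, 61380 ≤ k → k < 92414 → orbOk (k * 22) = true := between_extend orbOk 22 61380 92355 59 (o1u524) o1r525

theorem o1r526 : allRange orbOk 22 92414 59 = true := by decide +kernel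
theorem o1u526 : ∀ k, 61380 ≤ k → k < 92473 → orbOk (k * 22) = true := between_extend orbOk 22 61380 92414 59 (o1u525) o1r526

theorem o1r527 : allRange orbOk 22 92473 59 = true := by decide +kernel
theorem o1u527 : ∀ k, 61380 ≤ k → k < 92532 → orbOk (k * 22) = true := between_extend orbOk 22 61380 92473 59 (o1u526) o1r527

theorem o1r528 : allRange orbOk 22 92532 59 = true := by decide +kernel
theorem o1u528 : ∀ k, 61380 ≤ k → k < 92591 → orbOk (k * 22) = true := between_extend orbOk 22 61380 92532 59 (o1u527) o1r528

theorem o1r529 : allRange orbOk 22 92591 59 = true := by decide +kernel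
theorem o1u529 : ∀ k, 61380 ≤ k → k < 92650 → orbOk (k * 22) = true := between_extend orbOk 22 61380 92591 59 (o1u528) o1r529

theorem o1r530 : allRange orbOk 22 92650 59 = true := by decide +kernel
theorem o1u530 : ∀ k, 61380 ≤ k → k < 92709 → orbOk (k * 22) = true := between_extend orbOk 22 61380 92650 59 (o1u529) o1r530

theorem o1r531 : allRange orbOk 22 92709 59 = true := by decide +kernel
theorem o1u531 : ∀ k, 61380 ≤ k → k < 92768 → orbOk (k * 22) = true := between_extend orbOk 22 61380 92709 59 (o1u530) o1r531

theorem o1r532 : allRange orbOk 22 92768 59 = true := by decide +kernel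
theorem o1u532 : ∀ k, 61380 ≤ k → k < 92827 → orbOk (k * 22) = true := between_extend orbOk 22 61380 92768 59 (o1u531) o1r532

theorem o1r533 : allRange orbOk 22 92827 59 = true := by decide +kernel
theorem o1u533 : ∀ k, 61380 ≤ k → k < 92886 → orbOk (k * 22) = true := between_extend orbOk 22 61380 92827 59 (o1u532) o1r533

theorem o1r534 : allRange orbOk 22 92886 59 = true := by decide +kernel
theorem o1u534 : ∀ k, 61380 ≤ k → k < 92945 → orbOk (k * 22) = true := between_extend orbOk 22 61380 92886 59 (o1u533) o1r534

theorem o1r535 : allRange orbOk 22 92945 59 = true := by decide +kernel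
theorem o1u535 : ∀ k, 61380 ≤ k → k < 93004 → orbOk (k * 22) = true := between_extend orbOk 22 61380 92945 59 (o1u534) o1r535

theorem o1r536 : allRange orbOk 22 93004 59 = true := by decide +kernel
theorem o1u536 : ∀ k, 61380 ≤ k → k < 93063 → orbOk (k * 22) = true := between_extend orbOk 22 61380 93004 59 (o1u535) o1r536

theorem o1r537 : allRange orbOk 22 93063 59 = true := by decide +kernel
theorem o1u537 : ∀ k, 61380 ≤ k → k < 93122 → orbOk (k * 22) = true := between_extend orbOk 22 61380 93063 59 (o1u536) o1r537

theorem o1r538 : allRange orbOk 22 93122 59 = true := by decide +kernel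
theorem o1u538 : ∀ k, 61380 ≤ k → k < 93181 → orbOk (k * 22) = true := between_extend orbOk 22 61380 93122 59 (o1u537) o1r538

theorem o1r539 : allRange orbOk 22 93181 59 = true := by decide +kernel
theorem o1u539 : ∀ k, 61380 ≤ k → k < 93240 → orbOk (k * 22) = true := between_extend orbOk 22 61380 93181 59 (o1u538) o1r539

theorem o1r540 : allRange orbOk 22 93240 59 = true := by decide +kernel
theorem o1u540 : ∀ k, 61380 ≤ k → k < 93299 → orbOk (k * 22) = true := between_extend orbOk 22 61380 93240 59 (o1u539) o1r540

theorem o1r541 : allRange orbOk 22 93299 59 = true := by decide +kernel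
theorem o1u541 : ∀ k, 61380 ≤ k → k < 93358 → orbOk (k * 22) = true := between_extend orbOk 22 61380 93299 59 (o1u540) o1r541

theorem o1r542 : allRange orbOk 22 93358 59 = true := by decide +kernel
theorem o1u542 : ∀ k, 61380 ≤ k → k < 93417 → orbOk (k * 22) = true := between_extend orbOk 22 61380 93358 59 (o1u541) o1r542

theorem o1r543 : allRange orbOk 22 93417 59 = true := by decide +kernel
theorem o1u543 : ∀ k, 61380 ≤ k → k < 93476 → orbOk (k * 22) = true := between_extend orbOk 22 61380 93417 59 (o1u542) o1r543

theorem o1r544 : allRange orbOk 22 93476 59 = true := by decide +kernel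
theorem o1u544 : ∀ k, 61380 ≤ k → k < 93535 → orbOk (k * 22) = true := between_extend orbOk 22 61380 93476 59 (o1u543) o1r544

theorem o1r545 : allRange orbOk 22 93535 59 = true := by decide +kernel
theorem o1u545 : ∀ k, 61380 ≤ k → k < 93594 → orbOk (k * 22) = true := between_extend orbOk 22 61380 93535 59 (o1u544) o1r545

theorem o1r546 : allRange orbOk 22 93594 59 = true := by decide +kernel
theorem o1u546 : ∀ k, 61380 ≤ k → k < 93653 → orbOk (k * 22) = true := between_extend orbOk 22 61380 93594 59 (o1u545) o1r546

theorem o1r547 : allRange orbOk 22 93653 59 = true := by decide +kernel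
theorem o1u547 : ∀ k, 61380 ≤ k → k < 93712 → orbOk (k * 22) = true := between_extend orbOk 22 61380 93653 59 (o1u546) o1r547

theorem o1r548 : allRange orbOk 22 93712 59 = true := by decide +kernel
theorem o1u548 : ∀ k, 61380 ≤ k → k < 93771 → orbOk (k * 22) = true := between_extend orbOk 22 61380 93712 59 (o1u547) o1r548

theorem o1r549 : allRange orbOk 22 93771 59 = true := by decide +kernel
theorem o1u549 : ∀ k, 61380 ≤ k → k < 93830 → orbOk (k * 22) = true := between_extend orbOk 22 61380 93771 59 (o1u548) o1r549

theorem o1r550 : allRange orbOk 22 93830 59 = true := by decide +kernel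
theorem o1u550 : ∀ k, 61380 ≤ k → k < 93889 → orbOk (k * 22) = true := between_extend orbOk 22 61380 93830 59 (o1u549) o1r550

theorem o1r551 : allRange orbOk 22 93889 59 = true := by decide +kernel
theorem o1u551 : ∀ k, 61380 ≤ k → k < 93948 → orbOk (k * 22) = true := between_extend orbOk 22 61380 93889 59 (o1u550) o1r551

theorem o1r552 : allRange orbOk 22 93948 59 = true := by decide +kernel
theorem o1u552 : ∀ k, 61380 ≤ k → k < 94007 → orbOk (k * 22) = true := between_extend orbOk 22 61380 93948 59 (o1u551) o1r552

theorem o1r553 : allRange orbOk 22 94007 59 = true := by decide +kernel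
theorem o1u553 : ∀ k, 61380 ≤ k → k < 94066 → orbOk (k * 22) = true := between_extend orbOk 22 61380 94007 59 (o1u552) o1r553

theorem o1r554 : allRange orbOk 22 94066 59 = true := by decide +kernel
theorem o1u554 : ∀ k, 61380 ≤ k → k < 94125 → orbOk (k * 22) = true := between_extend orbOk 22 61380 94066 59 (o1u553) o1r554

theorem o1r555 : allRange orbOk 22 94125 59 = true := by decide +kernel
theorem o1u555 : ∀ k, 61380 ≤ k → k < 94184 → orbOk (k * 22) = true := between_extend orbOk 22 61380 94125 59 (o1u554) o1r555

theorem o1r556 : allRange orbOk 22 94184 59 = true := by decide +kernel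
theorem o1u556 : ∀ k, 61380 ≤ k → k < 94243 → orbOk (k * 22) = true := between_extend orbOk 22 61380 94184 59 (o1u555) o1r556

theorem o1r557 : allRange orbOk 22 94243 59 = true := by decide +kernel
theorem o1u557 : ∀ k, 61380 ≤ k → k < 94302 → orbOk (k * 22) = true := between_extend orbOk 22 61380 94243 59 (o1u556) o1r557

theorem o1r558 : allRange orbOk 22 94302 59 = true := by decide +kernel
theorem o1u558 : ∀ k, 61380 ≤ k → k < 94361 → orbOk (k * 22) = true := between_extend orbOk 22 61380 94302 59 (o1u557) o1r558

theorem o1r559 : allRange orbOk 22 94361 59 = true := by decide +kernel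
theorem o1u559 : ∀ k, 61380 ≤ k → k < 94420 → orbOk (k * 22) = true := between_extend orbOk 22 61380 94361 59 (o1u558) o1r559

theorem o1r560 : allRange orbOk 22 94420 59 = true := by decide +kernel
theorem o1u560 : ∀ k, 61380 ≤ k → k < 94479 → orbOk (k * 22) = true := between_extend orbOk 22 61380 94420 59 (o1u559) o1r560

theorem o1r561 : allRange orbOk 22 94479 59 = true := by decide +kernel
theorem o1u561 : ∀ k, 61380 ≤ k → k < 94538 → orbOk (k * 22) = true := between_extend orbOk 22 61380 94479 59 (o1u560) o1r561

theorem o1r562 : allRange orbOk 22 94538 59 = true := by decide +kernel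
theorem o1u562 : ∀ k, 61380 ≤ k → k < 94597 → orbOk (k * 22) = true := between_extend orbOk 22 61380 94538 59 (o1u561) o1r562

theorem o1r563 : allRange orbOk 22 94597 59 = true := by decide +kernel
theorem o1u563 : ∀ k, 61380 ≤ k → k < 94656 → orbOk (k * 22) = true := between_extend orbOk 22 61380 94597 59 (o1u562) o1r563

theorem o1r564 : allRange orbOk 22 94656 59 = true := by decide +kernel
theorem o1u564 : ∀ k, 61380 ≤ k → k < 94715 → orbOk (k * 22) = true := between_extend orbOk 22 61380 94656 59 (o1u563) o1r564

theorem o1r565 : allRange orbOk 22 94715 59 = true := by decide +kernel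
theorem o1u565 : ∀ k, 61380 ≤ k → k < 94774 → orbOk (k * 22) = true := between_extend orbOk 22 61380 94715 59 (o1u564) o1r565

theorem o1r566 : allRange orbOk 22 94774 59 = true := by decide +kernel
theorem o1u566 : ∀ k, 61380 ≤ k → k < 94833 → orbOk (k * 22) = true := between_extend orbOk 22 61380 94774 59 (o1u565) o1r566

theorem o1r567 : allRange orbOk 22 94833 59 = true := by decide +kernel
theorem o1u567 : ∀ k, 61380 ≤ k → k < 94892 → orbOk (k * 22) = true := between_extend orbOk 22 61380 94833 59 (o1u566) o1r567

theorem o1r568 : allRange orbOk 22 94892 59 = true := by decide +kernel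
theorem o1u568 : ∀ k, 61380 ≤ k → k < 94951 → orbOk (k * 22) = true := between_extend orbOk 22 61380 94892 59 (o1u567) o1r568

theorem o1r569 : allRange orbOk 22 94951 59 = true := by decide +kernel
theorem o1u569 : ∀ k, 61380 ≤ k → k < 95010 → orbOk (k * 22) = true := between_extend orbOk 22 61380 94951 59 (o1u568) o1r569

theorem o1r570 : allRange orbOk 22 95010 59 = true := by decide +kernel
theorem o1u570 : ∀ k, 61380 ≤ k → k < 95069 → orbOk (k * 22) = true := between_extend orbOk 22 61380 95010 59 (o1u569) o1r570

theorem o1r571 : allRange orbOk 22 95069 59 = true := by decide +kernel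
theorem o1u571 : ∀ k, 61380 ≤ k → k < 95128 → orbOk (k * 22) = true := between_extend orbOk 22 61380 95069 59 (o1u570) o1r571

theorem o1r572 : allRange orbOk 22 95128 59 = true := by decide +kernel
theorem o1u572 : ∀ k, 61380 ≤ k → k < 95187 → orbOk (k * 22) = true := between_extend orbOk 22 61380 95128 59 (o1u571) o1r572

theorem o1r573 : allRange orbOk 22 95187 59 = true := by decide +kernel
theorem o1u573 : ∀ k, 61380 ≤ k → k < 95246 → orbOk (k * 22) = true := between_extend orbOk 22 61380 95187 59 (o1u572) o1r573

theorem o1r574 : allRange orbOk 22 95246 59 = true := by decide +kernel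
theorem o1u574 : ∀ k, 61380 ≤ k → k < 95305 → orbOk (k * 22) = true := between_extend orbOk 22 61380 95246 59 (o1u573) o1r574

theorem o1r575 : allRange orbOk 22 95305 59 = true := by decide +kernel
theorem o1u575 : ∀ k, 61380 ≤ k → k < 95364 → orbOk (k * 22) = true := between_extend orbOk 22 61380 95305 59 (o1u574) o1r575

theorem o1r576 : allRange orbOk 22 95364 59 = true := by decide +kernel
theorem o1u576 : ∀ k, 61380 ≤ k → k < 95423 → orbOk (k * 22) = true := between_extend orbOk 22 61380 95364 59 (o1u575) o1r576

theorem o1r577 : allRange orbOk 22 95423 59 = true := by decide +kernel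
theorem o1u577 : ∀ k, 61380 ≤ k → k < 95482 → orbOk (k * 22) = true := between_extend orbOk 22 61380 95423 59 (o1u576) o1r577

theorem o1r578 : allRange orbOk 22 95482 59 = true := by decide +kernel
theorem o1u578 : ∀ k, 61380 ≤ k → k < 95541 → orbOk (k * 22) = true := between_extend orbOk 22 61380 95482 59 (o1u577) o1r578

theorem o1r579 : allRange orbOk 22 95541 59 = true := by decide +kernel
theorem o1u579 : ∀ k, 61380 ≤ k → k < 95600 → orbOk (k * 22) = true := between_extend orbOk 22 61380 95541 59 (o1u578) o1r579

theorem o1r580 : allRange orbOk 22 95600 59 = true := by decide +kernel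
theorem o1u580 : ∀ k, 61380 ≤ k → k < 95659 → orbOk (k * 22) = true := between_extend orbOk 22 61380 95600 59 (o1u579) o1r580

theorem o1r581 : allRange orbOk 22 95659 59 = true := by decide +kernel
theorem o1u581 : ∀ k, 61380 ≤ k → k < 95718 → orbOk (k * 22) = true := between_extend orbOk 22 61380 95659 59 (o1u580) o1r581

theorem o1r582 : allRange orbOk 22 95718 59 = true := by decide +kernel
theorem o1u582 : ∀ k, 61380 ≤ k → k < 95777 → orbOk (k * 22) = true := between_extend orbOk 22 61380 95718 59 (o1u581) o1r582

theorem o1r583 : allRange orbOk 22 95777 59 = true := by decide +kernel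
theorem o1u583 : ∀ k, 61380 ≤ k → k < 95836 → orbOk (k * 22) = true := between_extend orbOk 22 61380 95777 59 (o1u582) o1r583

theorem o1r584 : allRange orbOk 22 95836 59 = true := by decide +kernel
theorem o1u584 : ∀ k, 61380 ≤ k → k < 95895 → orbOk (k * 22) = true := between_extend orbOk 22 61380 95836 59 (o1u583) o1r584

theorem o1r585 : allRange orbOk 22 95895 59 = true := by decide +kernel
theorem o1u585 : ∀ k, 61380 ≤ k → k < 95954 → orbOk (k * 22) = true := between_extend orbOk 22 61380 95895 59 (o1u584) o1r585

theorem o1r586 : allRange orbOk 22 95954 59 = true := by decide +kernel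
theorem o1u586 : ∀ k, 61380 ≤ k → k < 96013 → orbOk (k * 22) = true := between_extend orbOk 22 61380 95954 59 (o1u585) o1r586

theorem o1r587 : allRange orbOk 22 96013 59 = true := by decide +kernel
theorem o1u587 : ∀ k, 61380 ≤ k → k < 96072 → orbOk (k * 22) = true := between_extend orbOk 22 61380 96013 59 (o1u586) o1r587

theorem o1r588 : allRange orbOk 22 96072 59 = true := by decide +kernel
theorem o1u588 : ∀ k, 61380 ≤ k → k < 96131 → orbOk (k * 22) = true := between_extend orbOk 22 61380 96072 59 (o1u587) o1r588

theorem o1r589 : allRange orbOk 22 96131 59 = true := by decide +kernel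
theorem o1u589 : ∀ k, 61380 ≤ k → k < 96190 → orbOk (k * 22) = true := between_extend orbOk 22 61380 96131 59 (o1u588) o1r589

theorem o1r590 : allRange orbOk 22 96190 59 = true := by decide +kernel
theorem o1u590 : ∀ k, 61380 ≤ k → k < 96249 → orbOk (k * 22) = true := between_extend orbOk 22 61380 96190 59 (o1u589) o1r590

theorem o1r591 : allRange orbOk 22 96249 59 = true := by decide +kernel
theorem o1u591 : ∀ k, 61380 ≤ k → k < 96308 → orbOk (k * 22) = true := between_extend orbOk 22 61380 96249 59 (o1u590) o1r591

theorem o1r592 : allRange orbOk 22 96308 59 = true := by decide +kernel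
theorem o1u592 : ∀ k, 61380 ≤ k → k < 96367 → orbOk (k * 22) = true := between_extend orbOk 22 61380 96308 59 (o1u591) o1r592

theorem o1r593 : allRange orbOk 22 96367 59 = true := by decide +kernel
theorem o1u593 : ∀ k, 61380 ≤ k → k < 96426 → orbOk (k * 22) = true := between_extend orbOk 22 61380 96367 59 (o1u592) o1r593

theorem o1r594 : allRange orbOk 22 96426 59 = true := by decide +kernel
theorem o1u594 : ∀ k, 61380 ≤ k → k < 96485 → orbOk (k * 22) = true := between_extend orbOk 22 61380 96426 59 (o1u593) o1r594

theorem o1r595 : allRange orbOk 22 96485 59 = true := by decide +kernel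
theorem o1u595 : ∀ k, 61380 ≤ k → k < 96544 → orbOk (k * 22) = true := between_extend orbOk 22 61380 96485 59 (o1u594) o1r595

theorem o1r596 : allRange orbOk 22 96544 59 = true := by decide +kernel
theorem o1u596 : ∀ k, 61380 ≤ k → k < 96603 → orbOk (k * 22) = true := between_extend orbOk 22 61380 96544 59 (o1u595) o1r596

theorem o1r597 : allRange orbOk 22 96603 59 = true := by decide +kernel
theorem o1u597 : ∀ k, 61380 ≤ k → k < 96662 → orbOk (k * 22) = true := between_extend orbOk 22 61380 96603 59 (o1u596) o1r597

theorem o1r598 : allRange orbOk 22 96662 59 = true := by decide +kernel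
theorem o1u598 : ∀ k, 61380 ≤ k → k < 96721 → orbOk (k * 22) = true := between_extend orbOk 22 61380 96662 59 (o1u597) o1r598

theorem o1r599 : allRange orbOk 22 96721 59 = true := by decide +kernel
theorem o1u599 : ∀ k, 61380 ≤ k → k < 96780 → orbOk (k * 22) = true := between_extend orbOk 22 61380 96721 59 (o1u598) o1r599

theorem o1r600 : allRange orbOk 22 96780 59 = true := by decide +kernel
theorem o1u600 : ∀ k, 61380 ≤ k → k < 96839 → orbOk (k * 22) = true := between_extend orbOk 22 61380 96780 59 (o1u599) o1r600

theorem o1r601 : allRange orbOk 22 96839 59 = true := by decide +kernel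
theorem o1u601 : ∀ k, 61380 ≤ k → k < 96898 → orbOk (k * 22) = true := between_extend orbOk 22 61380 96839 59 (o1u600) o1r601

theorem o1r602 : allRange orbOk 22 96898 59 = true := by decide +kernel
theorem o1u602 : ∀ k, 61380 ≤ k → k < 96957 → orbOk (k * 22) = true := between_extend orbOk 22 61380 96898 59 (o1u601) o1r602

theorem o1r603 : allRange orbOk 22 96957 59 = true := by decide +kernel
theorem o1u603 : ∀ k, 61380 ≤ k → k < 97016 → orbOk (k * 22) = true := between_extend orbOk 22 61380 96957 59 (o1u602) o1r603

theorem o1r604 : allRange orbOk 22 97016 59 = true := by decide +kernel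
theorem o1u604 : ∀ k, 61380 ≤ k → k < 97075 → orbOk (k * 22) = true := between_extend orbOk 22 61380 97016 59 (o1u603) o1r604

theorem o1r605 : allRange orbOk 22 97075 59 = true := by decide +kernel
theorem o1u605 : ∀ k, 61380 ≤ k → k < 97134 → orbOk (k * 22) = true := between_extend orbOk 22 61380 97075 59 (o1u604) o1r605

theorem o1r606 : allRange orbOk 22 97134 59 = true := by decide +kernel
theorem o1u606 : ∀ k, 61380 ≤ k → k < 97193 → orbOk (k * 22) = true := between_extend orbOk 22 61380 97134 59 (o1u605) o1r606

theorem o1r607 : allRange orbOk 22 97193 59 = true := by decide +kernel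
theorem o1u607 : ∀ k, 61380 ≤ k → k < 97252 → orbOk (k * 22) = true := between_extend orbOk 22 61380 97193 59 (o1u606) o1r607

theorem o1r608 : allRange orbOk 22 97252 59 = true := by decide +kernel
theorem o1u608 : ∀ k, 61380 ≤ k → k < 97311 → orbOk (k * 22) = true := between_extend orbOk 22 61380 97252 59 (o1u607) o1r608

theorem o1r609 : allRange orbOk 22 97311 59 = true := by decide +kernel
theorem o1u609 : ∀ k, 61380 ≤ k → k < 97370 → orbOk (k * 22) = true := between_extend orbOk 22 61380 97311 59 (o1u608) o1r609

theorem o1r610 : allRange orbOk 22 97370 59 = true := by decide +kernel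
theorem o1u610 : ∀ k, 61380 ≤ k → k < 97429 → orbOk (k * 22) = true := between_extend orbOk 22 61380 97370 59 (o1u609) o1r610

theorem o1r611 : allRange orbOk 22 97429 59 = true := by decide +kernel
theorem o1u611 : ∀ k, 61380 ≤ k → k < 97488 → orbOk (k * 22) = true := between_extend orbOk 22 61380 97429 59 (o1u610) o1r611

theorem o1r612 : allRange orbOk 22 97488 59 = true := by decide +kernel
theorem o1u612 : ∀ k, 61380 ≤ k → k < 97547 → orbOk (k * 22) = true := between_extend orbOk 22 61380 97488 59 (o1u611) o1r612

theorem o1r613 : allRange orbOk 22 97547 59 = true := by decide +kernel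
theorem o1u613 : ∀ k, 61380 ≤ k → k < 97606 → orbOk (k * 22) = true := between_extend orbOk 22 61380 97547 59 (o1u612) o1r613

theorem o1r614 : allRange orbOk 22 97606 59 = true := by decide +kernel
theorem o1u614 : ∀ k, 61380 ≤ k → k < 97665 → orbOk (k * 22) = true := between_extend orbOk 22 61380 97606 59 (o1u613) o1r614

theorem o1r615 : allRange orbOk 22 97665 59 = true := by decide +kernel
theorem o1u615 : ∀ k, 61380 ≤ k → k < 97724 → orbOk (k * 22) = true := between_extend orbOk 22 61380 97665 59 (o1u614) o1r615

theorem o1r616 : allRange orbOk 22 97724 59 = true := by decide +kernel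
theorem o1u616 : ∀ k, 61380 ≤ k → k < 97783 → orbOk (k * 22) = true := between_extend orbOk 22 61380 97724 59 (o1u615) o1r616

theorem o1r617 : allRange orbOk 22 97783 59 = true := by decide +kernel
theorem o1u617 : ∀ k, 61380 ≤ k → k < 97842 → orbOk (k * 22) = true := between_extend orbOk 22 61380 97783 59 (o1u616) o1r617

theorem o1r618 : allRange orbOk 22 97842 59 = true := by decide +kernel
theorem o1u618 : ∀ k, 61380 ≤ k → k < 97901 → orbOk (k * 22) = true := between_extend orbOk 22 61380 97842 59 (o1u617) o1r618

theorem o1r619 : allRange orbOk 22 97901 59 = true := by decide +kernel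
theorem o1u619 : ∀ k, 61380 ≤ k → k < 97960 → orbOk (k * 22) = true := between_extend orbOk 22 61380 97901 59 (o1u618) o1r619

theorem o1r620 : allRange orbOk 22 97960 59 = true := by decide +kernel
theorem o1u620 : ∀ k, 61380 ≤ k → k < 98019 → orbOk (k * 22) = true := between_extend orbOk 22 61380 97960 59 (o1u619) o1r620

theorem o1r621 : allRange orbOk 22 98019 59 = true := by decide +kernel
theorem o1u621 : ∀ k, 61380 ≤ k → k < 98078 → orbOk (k * 22) = true := between_extend orbOk 22 61380 98019 59 (o1u620) o1r621

theorem o1r622 : allRange orbOk 22 98078 59 = true := by decide +kernel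
theorem o1u622 : ∀ k, 61380 ≤ k → k < 98137 → orbOk (k * 22) = true := between_extend orbOk 22 61380 98078 59 (o1u621) o1r622

theorem o1r623 : allRange orbOk 22 98137 59 = true := by decide +kernel
theorem o1u623 : ∀ k, 61380 ≤ k → k < 98196 → orbOk (k * 22) = true := between_extend orbOk 22 61380 98137 59 (o1u622) o1r623

theorem o1r624 : allRange orbOk 22 98196 59 = true := by decide +kernel
theorem o1u624 : ∀ k, 61380 ≤ k → k < 98255 → orbOk (k * 22) = true := between_extend orbOk 22 61380 98196 59 (o1u623) o1r624

theorem o1r625 : allRange orbOk 22 98255 59 = true := by decide +kernel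
theorem o1u625 : ∀ k, 61380 ≤ k → k < 98314 → orbOk (k * 22) = true := between_extend orbOk 22 61380 98255 59 (o1u624) o1r625

theorem o1r626 : allRange orbOk 22 98314 59 = true := by decide +kernel
theorem o1u626 : ∀ k, 61380 ≤ k → k < 98373 → orbOk (k * 22) = true := between_extend orbOk 22 61380 98314 59 (o1u625) o1r626

theorem o1r627 : allRange orbOk 22 98373 59 = true := by decide +kernel
theorem o1u627 : ∀ k, 61380 ≤ k → k < 98432 → orbOk (k * 22) = true := between_extend orbOk 22 61380 98373 59 (o1u626) o1r627

theorem o1r628 : allRange orbOk 22 98432 59 = true := by decide +kernel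
theorem o1u628 : ∀ k, 61380 ≤ k → k < 98491 → orbOk (k * 22) = true := between_extend orbOk 22 61380 98432 59 (o1u627) o1r628

theorem o1r629 : allRange orbOk 22 98491 59 = true := by decide +kernel
theorem o1u629 : ∀ k, 61380 ≤ k → k < 98550 → orbOk (k * 22) = true := between_extend orbOk 22 61380 98491 59 (o1u628) o1r629

theorem o1r630 : allRange orbOk 22 98550 59 = true := by decide +kernel
theorem o1u630 : ∀ k, 61380 ≤ k → k < 98609 → orbOk (k * 22) = true := between_extend orbOk 22 61380 98550 59 (o1u629) o1r630

theorem o1r631 : allRange orbOk 22 98609 59 = true := by decide +kernel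
theorem o1u631 : ∀ k, 61380 ≤ k → k < 98668 → orbOk (k * 22) = true := between_extend orbOk 22 61380 98609 59 (o1u630) o1r631

theorem o1r632 : allRange orbOk 22 98668 59 = true := by decide +kernel
theorem o1u632 : ∀ k, 61380 ≤ k → k < 98727 → orbOk (k * 22) = true := between_extend orbOk 22 61380 98668 59 (o1u631) o1r632

theorem o1r633 : allRange orbOk 22 98727 59 = true := by decide +kernel
theorem o1u633 : ∀ k, 61380 ≤ k → k < 98786 → orbOk (k * 22) = true := between_extend orbOk 22 61380 98727 59 (o1u632) o1r633

theorem o1r634 : allRange orbOk 22 98786 59 = true := by decide +kernel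
theorem o1u634 : ∀ k, 61380 ≤ k → k < 98845 → orbOk (k * 22) = true := between_extend orbOk 22 61380 98786 59 (o1u633) o1r634

theorem o1r635 : allRange orbOk 22 98845 59 = true := by decide +kernel
theorem o1u635 : ∀ k, 61380 ≤ k → k < 98904 → orbOk (k * 22) = true := between_extend orbOk 22 61380 98845 59 (o1u634) o1r635

theorem o1r636 : allRange orbOk 22 98904 59 = true := by decide +kernel
theorem o1u636 : ∀ k, 61380 ≤ k → k < 98963 → orbOk (k * 22) = true := between_extend orbOk 22 61380 98904 59 (o1u635) o1r636

theorem o1r637 : allRange orbOk 22 98963 59 = true := by decide +kernel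
theorem o1u637 : ∀ k, 61380 ≤ k → k < 99022 → orbOk (k * 22) = true := between_extend orbOk 22 61380 98963 59 (o1u636) o1r637

theorem o1r638 : allRange orbOk 22 99022 59 = true := by decide +kernel
theorem o1u638 : ∀ k, 61380 ≤ k → k < 99081 → orbOk (k * 22) = true := between_extend orbOk 22 61380 99022 59 (o1u637) o1r638

theorem o1r639 : allRange orbOk 22 99081 59 = true := by decide +kernel
theorem o1u639 : ∀ k, 61380 ≤ k → k < 99140 → orbOk (k * 22) = true := between_extend orbOk 22 61380 99081 59 (o1u638) o1r639

theorem o1r640 : allRange orbOk 22 99140 59 = true := by decide +kernel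
theorem o1u640 : ∀ k, 61380 ≤ k → k < 99199 → orbOk (k * 22) = true := between_extend orbOk 22 61380 99140 59 (o1u639) o1r640

theorem o1r641 : allRange orbOk 22 99199 59 = true := by decide +kernel
theorem o1u641 : ∀ k, 61380 ≤ k → k < 99258 → orbOk (k * 22) = true := between_extend orbOk 22 61380 99199 59 (o1u640) o1r641

theorem o1r642 : allRange orbOk 22 99258 59 = true := by decide +kernel
theorem o1u642 : ∀ k, 61380 ≤ k → k < 99317 → orbOk (k * 22) = true := between_extend orbOk 22 61380 99258 59 (o1u641) o1r642

theorem o1r643 : allRange orbOk 22 99317 59 = true := by decide +kernel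
theorem o1u643 : ∀ k, 61380 ≤ k → k < 99376 → orbOk (k * 22) = true := between_extend orbOk 22 61380 99317 59 (o1u642) o1r643

theorem o1r644 : allRange orbOk 22 99376 59 = true := by decide +kernel
theorem o1u644 : ∀ k, 61380 ≤ k → k < 99435 → orbOk (k * 22) = true := between_extend orbOk 22 61380 99376 59 (o1u643) o1r644

theorem o1r645 : allRange orbOk 22 99435 59 = true := by decide +kernel
theorem o1u645 : ∀ k, 61380 ≤ k → k < 99494 → orbOk (k * 22) = true := between_extend orbOk 22 61380 99435 59 (o1u644) o1r645

theorem o1r646 : allRange orbOk 22 99494 59 = true := by decide +kernel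
theorem o1u646 : ∀ k, 61380 ≤ k → k < 99553 → orbOk (k * 22) = true := between_extend orbOk 22 61380 99494 59 (o1u645) o1r646

theorem o1r647 : allRange orbOk 22 99553 59 = true := by decide +kernel
theorem o1u647 : ∀ k, 61380 ≤ k → k < 99612 → orbOk (k * 22) = true := between_extend orbOk 22 61380 99553 59 (o1u646) o1r647

theorem o1r648 : allRange orbOk 22 99612 59 = true := by decide +kernel
theorem o1u648 : ∀ k, 61380 ≤ k → k < 99671 → orbOk (k * 22) = true := between_extend orbOk 22 61380 99612 59 (o1u647) o1r648

theorem o1r649 : allRange orbOk 22 99671 59 = true := by decide +kernel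
theorem o1u649 : ∀ k, 61380 ≤ k → k < 99730 → orbOk (k * 22) = true := between_extend orbOk 22 61380 99671 59 (o1u648) o1r649

theorem o1r650 : allRange orbOk 22 99730 59 = true := by decide +kernel
theorem o1u650 : ∀ k, 61380 ≤ k → k < 99789 → orbOk (k * 22) = true := between_extend orbOk 22 61380 99730 59 (o1u649) o1r650

theorem o1r651 : allRange orbOk 22 99789 59 = true := by decide +kernel
theorem o1u651 : ∀ k, 61380 ≤ k → k < 99848 → orbOk (k * 22) = true := between_extend orbOk 22 61380 99789 59 (o1u650) o1r651

theorem o1r652 : allRange orbOk 22 99848 59 = true := by decide +kernel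
theorem o1u652 : ∀ k, 61380 ≤ k → k < 99907 → orbOk (k * 22) = true := between_extend orbOk 22 61380 99848 59 (o1u651) o1r652

theorem o1r653 : allRange orbOk 22 99907 59 = true := by decide +kernel
theorem o1u653 : ∀ k, 61380 ≤ k → k < 99966 → orbOk (k * 22) = true := between_extend orbOk 22 61380 99907 59 (o1u652) o1r653

theorem o1r654 : allRange orbOk 22 99966 59 = true := by decide +kernel
theorem o1u654 : ∀ k, 61380 ≤ k → k < 100025 → orbOk (k * 22) = true := between_extend orbOk 22 61380 99966 59 (o1u653) o1r654

theorem o1r655 : allRange orbOk 22 100025 59 = true := by decide +kernel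
theorem o1u655 : ∀ k, 61380 ≤ k → k < 100084 → orbOk (k * 22) = true := between_extend orbOk 22 61380 100025 59 (o1u654) o1r655

theorem o1r656 : allRange orbOk 22 100084 59 = true := by decide +kernel
theorem o1u656 : ∀ k, 61380 ≤ k → k < 100143 → orbOk (k * 22) = true := between_extend orbOk 22 61380 100084 59 (o1u655) o1r656

theorem o1r657 : allRange orbOk 22 100143 59 = true := by decide +kernel
theorem o1u657 : ∀ k, 61380 ≤ k → k < 100202 → orbOk (k * 22) = true := between_extend orbOk 22 61380 100143 59 (o1u656) o1r657

theorem o1r658 : allRange orbOk 22 100202 59 = true := by decide +kernel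
theorem o1u658 : ∀ k, 61380 ≤ k → k < 100261 → orbOk (k * 22) = true := between_extend orbOk 22 61380 100202 59 (o1u657) o1r658

theorem o1r659 : allRange orbOk 22 100261 59 = true := by decide +kernel
theorem o1u659 : ∀ k, 61380 ≤ k → k < 100320 → orbOk (k * 22) = true := between_extend orbOk 22 61380 100261 59 (o1u658) o1r659

theorem o1r660 : allRange orbOk 22 100320 59 = true := by decide +kernel
theorem o1u660 : ∀ k, 61380 ≤ k → k < 100379 → orbOk (k * 22) = true := between_extend orbOk 22 61380 100320 59 (o1u659) o1r660

theorem o1r661 : allRange orbOk 22 100379 59 = true := by decide +kernel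
theorem o1u661 : ∀ k, 61380 ≤ k → k < 100438 → orbOk (k * 22) = true := between_extend orbOk 22 61380 100379 59 (o1u660) o1r661

theorem o1r662 : allRange orbOk 22 100438 59 = true := by decide +kernel
theorem o1u662 : ∀ k, 61380 ≤ k → k < 100497 → orbOk (k * 22) = true := between_extend orbOk 22 61380 100438 59 (o1u661) o1r662

theorem o1r663 : allRange orbOk 22 100497 59 = true := by decide +kernel
theorem o1u663 : ∀ k, 61380 ≤ k → k < 100556 → orbOk (k * 22) = true := between_extend orbOk 22 61380 100497 59 (o1u662) o1r663

theorem o1r664 : allRange orbOk 22 100556 59 = true := by decide +kernel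
theorem o1u664 : ∀ k, 61380 ≤ k → k < 100615 → orbOk (k * 22) = true := between_extend orbOk 22 61380 100556 59 (o1u663) o1r664

theorem o1r665 : allRange orbOk 22 100615 59 = true := by decide +kernel
theorem o1u665 : ∀ k, 61380 ≤ k → k < 100674 → orbOk (k * 22) = true := between_extend orbOk 22 61380 100615 59 (o1u664) o1r665

theorem o1r666 : allRange orbOk 22 100674 59 = true := by decide +kernel
theorem o1u666 : ∀ k, 61380 ≤ k → k < 100733 → orbOk (k * 22) = true := between_extend orbOk 22 61380 100674 59 (o1u665) o1r666

theorem o1r667 : allRange orbOk 22 100733 59 = true := by decide +kernel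
theorem o1u667 : ∀ k, 61380 ≤ k → k < 100792 → orbOk (k * 22) = true := between_extend orbOk 22 61380 100733 59 (o1u666) o1r667

theorem o1r668 : allRange orbOk 22 100792 59 = true := by decide +kernel
theorem o1u668 : ∀ k, 61380 ≤ k → k < 100851 → orbOk (k * 22) = true := between_extend orbOk 22 61380 100792 59 (o1u667) o1r668

theorem o1r669 : allRange orbOk 22 100851 59 = true := by decide +kernel
theorem o1u669 : ∀ k, 61380 ≤ k → k < 100910 → orbOk (k * 22) = true := between_extend orbOk 22 61380 100851 59 (o1u668) o1r669

theorem o1r670 : allRange orbOk 22 100910 59 = true := by decide +kernel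
theorem o1u670 : ∀ k, 61380 ≤ k → k < 100969 → orbOk (k * 22) = true := between_extend orbOk 22 61380 100910 59 (o1u669) o1r670

theorem o1r671 : allRange orbOk 22 100969 59 = true := by decide +kernel
theorem o1u671 : ∀ k, 61380 ≤ k → k < 101028 → orbOk (k * 22) = true := between_extend orbOk 22 61380 100969 59 (o1u670) o1r671

theorem o1r672 : allRange orbOk 22 101028 59 = true := by decide +kernel
theorem o1u672 : ∀ k, 61380 ≤ k → k < 101087 → orbOk (k * 22) = true := between_extend orbOk 22 61380 101028 59 (o1u671) o1r672

theorem o1r673 : allRange orbOk 22 101087 59 = true := by decide +kernel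
theorem o1u673 : ∀ k, 61380 ≤ k → k < 101146 → orbOk (k * 22) = true := between_extend orbOk 22 61380 101087 59 (o1u672) o1r673

theorem o1r674 : allRange orbOk 22 101146 59 = true := by decide +kernel
theorem o1u674 : ∀ k, 61380 ≤ k → k < 101205 → orbOk (k * 22) = true := between_extend orbOk 22 61380 101146 59 (o1u673) o1r674

theorem o1r675 : allRange orbOk 22 101205 59 = true := by decide +kernel
theorem o1u675 : ∀ k, 61380 ≤ k → k < 101264 → orbOk (k * 22) = true := between_extend orbOk 22 61380 101205 59 (o1u674) o1r675

theorem o1r676 : allRange orbOk 22 101264 59 = true := by decide +kernel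
theorem o1u676 : ∀ k, 61380 ≤ k → k < 101323 → orbOk (k * 22) = true := between_extend orbOk 22 61380 101264 59 (o1u675) o1r676

theorem o1r677 : allRange orbOk 22 101323 59 = true := by decide +kernel
theorem o1u677 : ∀ k, 61380 ≤ k → k < 101382 → orbOk (k * 22) = true := between_extend orbOk 22 61380 101323 59 (o1u676) o1r677

theorem o1r678 : allRange orbOk 22 101382 59 = true := by decide +kernel
theorem o1u678 : ∀ k, 61380 ≤ k → k < 101441 → orbOk (k * 22) = true := between_extend orbOk 22 61380 101382 59 (o1u677) o1r678

theorem o1r679 : allRange orbOk 22 101441 59 = true := by decide +kernel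
theorem o1u679 : ∀ k, 61380 ≤ k → k < 101500 → orbOk (k * 22) = true := between_extend orbOk 22 61380 101441 59 (o1u678) o1r679

theorem o1r680 : allRange orbOk 22 101500 59 = true := by decide +kernel
theorem o1u680 : ∀ k, 61380 ≤ k → k < 101559 → orbOk (k * 22) = true := between_extend orbOk 22 61380 101500 59 (o1u679) o1r680

theorem o1r681 : allRange orbOk 22 101559 59 = true := by decide +kernel
theorem o1u681 : ∀ k, 61380 ≤ k → k < 101618 → orbOk (k * 22) = true := between_extend orbOk 22 61380 101559 59 (o1u680) o1r681

theorem o1r682 : allRange orbOk 22 101618 59 = true := by decide +kernel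
theorem o1u682 : ∀ k, 61380 ≤ k → k < 101677 → orbOk (k * 22) = true := between_extend orbOk 22 61380 101618 59 (o1u681) o1r682

theorem o1r683 : allRange orbOk 22 101677 59 = true := by decide +kernel
theorem o1u683 : ∀ k, 61380 ≤ k → k < 101736 → orbOk (k * 22) = true := between_extend orbOk 22 61380 101677 59 (o1u682) o1r683

theorem o1r684 : allRange orbOk 22 101736 59 = true := by decide +kernel
theorem o1u684 : ∀ k, 61380 ≤ k → k < 101795 → orbOk (k * 22) = true := between_extend orbOk 22 61380 101736 59 (o1u683) o1r684

theorem o1r685 : allRange orbOk 22 101795 59 = true := by decide +kernel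
theorem o1u685 : ∀ k, 61380 ≤ k → k < 101854 → orbOk (k * 22) = true := between_extend orbOk 22 61380 101795 59 (o1u684) o1r685

theorem o1r686 : allRange orbOk 22 101854 59 = true := by decide +kernel
theorem o1u686 : ∀ k, 61380 ≤ k → k < 101913 → orbOk (k * 22) = true := between_extend orbOk 22 61380 101854 59 (o1u685) o1r686

theorem o1r687 : allRange orbOk 22 101913 59 = true := by decide +kernel
theorem o1u687 : ∀ k, 61380 ≤ k → k < 101972 → orbOk (k * 22) = true := between_extend orbOk 22 61380 101913 59 (o1u686) o1r687

theorem o1r688 : allRange orbOk 22 101972 59 = true := by decide +kernel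
theorem o1u688 : ∀ k, 61380 ≤ k → k < 102031 → orbOk (k * 22) = true := between_extend orbOk 22 61380 101972 59 (o1u687) o1r688

theorem o1r689 : allRange orbOk 22 102031 59 = true := by decide +kernel
theorem o1u689 : ∀ k, 61380 ≤ k → k < 102090 → orbOk (k * 22) = true := between_extend orbOk 22 61380 102031 59 (o1u688) o1r689

theorem o1r690 : allRange orbOk 22 102090 59 = true := by decide +kernel
theorem o1u690 : ∀ k, 61380 ≤ k → k < 102149 → orbOk (k * 22) = true := between_extend orbOk 22 61380 102090 59 (o1u689) o1r690

theorem o1r691 : allRange orbOk 22 102149 59 = true := by decide +kernel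
theorem o1u691 : ∀ k, 61380 ≤ k → k < 102208 → orbOk (k * 22) = true := between_extend orbOk 22 61380 102149 59 (o1u690) o1r691

theorem o1r692 : allRange orbOk 22 102208 59 = true := by decide +kernel
theorem o1u692 : ∀ k, 61380 ≤ k → k < 102267 → orbOk (k * 22) = true := between_extend orbOk 22 61380 102208 59 (o1u691) o1r692

theorem o1r693 : allRange orbOk 22 102267 59 = true := by decide +kernel
theorem o1u693 : ∀ k, 61380 ≤ k → k < 102326 → orbOk (k * 22) = true := between_extend orbOk 22 61380 102267 59 (o1u692) o1r693

theorem o1r694 : allRange orbOk 22 102326 59 = true := by decide +kernel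
theorem o1u694 : ∀ k, 61380 ≤ k → k < 102385 → orbOk (k * 22) = true := between_extend orbOk 22 61380 102326 59 (o1u693) o1r694

theorem o1r695 : allRange orbOk 22 102385 59 = true := by decide +kernel
theorem o1u695 : ∀ k, 61380 ≤ k → k < 102444 → orbOk (k * 22) = true := between_extend orbOk 22 61380 102385 59 (o1u694) o1r695

theorem o1r696 : allRange orbOk 22 102444 59 = true := by decide +kernel
theorem o1u696 : ∀ k, 61380 ≤ k → k < 102503 → orbOk (k * 22) = true := between_extend orbOk 22 61380 102444 59 (o1u695) o1r696

theorem o1r697 : allRange orbOk 22 102503 59 = true := by decide +kernel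
theorem o1u697 : ∀ k, 61380 ≤ k → k < 102562 → orbOk (k * 22) = true := between_extend orbOk 22 61380 102503 59 (o1u696) o1r697

theorem o1r698 : allRange orbOk 22 102562 59 = true := by decide +kernel
theorem o1u698 : ∀ k, 61380 ≤ k → k < 102621 → orbOk (k * 22) = true := between_extend orbOk 22 61380 102562 59 (o1u697) o1r698

theorem o1r699 : allRange orbOk 22 102621 59 = true := by decide +kernel
theorem o1u699 : ∀ k, 61380 ≤ k → k < 102680 → orbOk (k * 22) = true := between_extend orbOk 22 61380 102621 59 (o1u698) o1r699

theorem o1r700 : allRange orbOk 22 102680 59 = true := by decide +kernel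
theorem o1u700 : ∀ k, 61380 ≤ k → k < 102739 → orbOk (k * 22) = true := between_extend orbOk 22 61380 102680 59 (o1u699) o1r700

theorem o1r701 : allRange orbOk 22 102739 59 = true := by decide +kernel
theorem o1u701 : ∀ k, 61380 ≤ k → k < 102798 → orbOk (k * 22) = true := between_extend orbOk 22 61380 102739 59 (o1u700) o1r701

theorem o1r702 : allRange orbOk 22 102798 59 = true := by decide +kernel
theorem o1u702 : ∀ k, 61380 ≤ k → k < 102857 → orbOk (k * 22) = true := between_extend orbOk 22 61380 102798 59 (o1u701) o1r702

theorem o1r703 : allRange orbOk 22 102857 59 = true := by decide +kernel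
theorem o1u703 : ∀ k, 61380 ≤ k → k < 102916 → orbOk (k * 22) = true := between_extend orbOk 22 61380 102857 59 (o1u702) o1r703

theorem o1r704 : allRange orbOk 22 102916 59 = true := by decide +kernel
theorem o1u704 : ∀ k, 61380 ≤ k → k < 102975 → orbOk (k * 22) = true := between_extend orbOk 22 61380 102916 59 (o1u703) o1r704

theorem o1r705 : allRange orbOk 22 102975 59 = true := by decide +kernel
theorem o1u705 : ∀ k, 61380 ≤ k → k < 103034 → orbOk (k * 22) = true := between_extend orbOk 22 61380 102975 59 (o1u704) o1r705

theorem o1r706 : allRange orbOk 22 103034 59 = true := by decide +kernel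
theorem o1u706 : ∀ k, 61380 ≤ k → k < 103093 → orbOk (k * 22) = true := between_extend orbOk 22 61380 103034 59 (o1u705) o1r706

theorem o1r707 : allRange orbOk 22 103093 59 = true := by decide +kernel
theorem o1u707 : ∀ k, 61380 ≤ k → k < 103152 → orbOk (k * 22) = true := between_extend orbOk 22 61380 103093 59 (o1u706) o1r707

theorem o1r708 : allRange orbOk 22 103152 59 = true := by decide +kernel
theorem o1u708 : ∀ k, 61380 ≤ k → k < 103211 → orbOk (k * 22) = true := between_extend orbOk 22 61380 103152 59 (o1u707) o1r708

theorem o1r709 : allRange orbOk 22 103211 59 = true := by decide +kernel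
theorem o1u709 : ∀ k, 61380 ≤ k → k < 103270 → orbOk (k * 22) = true := between_extend orbOk 22 61380 103211 59 (o1u708) o1r709

theorem o1r710 : allRange orbOk 22 103270 59 = true := by decide +kernel
theorem o1u710 : ∀ k, 61380 ≤ k → k < 103329 → orbOk (k * 22) = true := between_extend orbOk 22 61380 103270 59 (o1u709) o1r710

theorem o1r711 : allRange orbOk 22 103329 59 = true := by decide +kernel
theorem o1u711 : ∀ k, 61380 ≤ k → k < 103388 → orbOk (k * 22) = true := between_extend orbOk 22 61380 103329 59 (o1u710) o1r711

theorem o1r712 : allRange orbOk 22 103388 59 = true := by decide +kernel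
theorem o1u712 : ∀ k, 61380 ≤ k → k < 103447 → orbOk (k * 22) = true := between_extend orbOk 22 61380 103388 59 (o1u711) o1r712

theorem o1r713 : allRange orbOk 22 103447 59 = true := by decide +kernel
theorem o1u713 : ∀ k, 61380 ≤ k → k < 103506 → orbOk (k * 22) = true := between_extend orbOk 22 61380 103447 59 (o1u712) o1r713

theorem o1r714 : allRange orbOk 22 103506 59 = true := by decide +kernel
theorem o1u714 : ∀ k, 61380 ≤ k → k < 103565 → orbOk (k * 22) = true := between_extend orbOk 22 61380 103506 59 (o1u713) o1r714

theorem o1r715 : allRange orbOk 22 103565 59 = true := by decide +kernel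
theorem o1u715 : ∀ k, 61380 ≤ k → k < 103624 → orbOk (k * 22) = true := between_extend orbOk 22 61380 103565 59 (o1u714) o1r715

theorem o1r716 : allRange orbOk 22 103624 59 = true := by decide +kernel
theorem o1u716 : ∀ k, 61380 ≤ k → k < 103683 → orbOk (k * 22) = true := between_extend orbOk 22 61380 103624 59 (o1u715) o1r716

theorem o1r717 : allRange orbOk 22 103683 59 = true := by decide +kernel
theorem o1u717 : ∀ k, 61380 ≤ k → k < 103742 → orbOk (k * 22) = true := between_extend orbOk 22 61380 103683 59 (o1u716) o1r717

theorem o1r718 : allRange orbOk 22 103742 59 = true := by decide +kernel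
theorem o1u718 : ∀ k, 61380 ≤ k → k < 103801 → orbOk (k * 22) = true := between_extend orbOk 22 61380 103742 59 (o1u717) o1r718

theorem o1r719 : allRange orbOk 22 103801 59 = true := by decide +kernel
theorem o1u719 : ∀ k, 61380 ≤ k → k < 103860 → orbOk (k * 22) = true := between_extend orbOk 22 61380 103801 59 (o1u718) o1r719

theorem o1r720 : allRange orbOk 22 103860 59 = true := by decide +kernel
theorem o1u720 : ∀ k, 61380 ≤ k → k < 103919 → orbOk (k * 22) = true := between_extend orbOk 22 61380 103860 59 (o1u719) o1r720

theorem o1r721 : allRange orbOk 22 103919 59 = true := by decide +kernel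
theorem o1u721 : ∀ k, 61380 ≤ k → k < 103978 → orbOk (k * 22) = true := between_extend orbOk 22 61380 103919 59 (o1u720) o1r721

theorem o1r722 : allRange orbOk 22 103978 59 = true := by decide +kernel
theorem o1u722 : ∀ k, 61380 ≤ k → k < 104037 → orbOk (k * 22) = true := between_extend orbOk 22 61380 103978 59 (o1u721) o1r722

theorem o1r723 : allRange orbOk 22 104037 59 = true := by decide +kernel
theorem o1u723 : ∀ k, 61380 ≤ k → k < 104096 → orbOk (k * 22) = true := between_extend orbOk 22 61380 104037 59 (o1u722) o1r723

theorem o1r724 : allRange orbOk 22 104096 59 = true := by decide +kernel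
theorem o1u724 : ∀ k, 61380 ≤ k → k < 104155 → orbOk (k * 22) = true := between_extend orbOk 22 61380 104096 59 (o1u723) o1r724

theorem o1r725 : allRange orbOk 22 104155 59 = true := by decide +kernel
theorem o1u725 : ∀ k, 61380 ≤ k → k < 104214 → orbOk (k * 22) = true := between_extend orbOk 22 61380 104155 59 (o1u724) o1r725

theorem o1r726 : allRange orbOk 22 104214 59 = true := by decide +kernel
theorem o1u726 : ∀ k, 61380 ≤ k → k < 104273 → orbOk (k * 22) = true := between_extend orbOk 22 61380 104214 59 (o1u725) o1r726

theorem o1r727 : allRange orbOk 22 104273 59 = true := by decide +kernel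
theorem o1u727 : ∀ k, 61380 ≤ k → k < 104332 → orbOk (k * 22) = true := between_extend orbOk 22 61380 104273 59 (o1u726) o1r727

theorem o1r728 : allRange orbOk 22 104332 59 = true := by decide +kernel
theorem o1u728 : ∀ k, 61380 ≤ k → k < 104391 → orbOk (k * 22) = true := between_extend orbOk 22 61380 104332 59 (o1u727) o1r728

theorem o1r729 : allRange orbOk 22 104391 59 = true := by decide +kernel
theorem o1u729 : ∀ k, 61380 ≤ k → k < 104450 → orbOk (k * 22) = true := between_extend orbOk 22 61380 104391 59 (o1u728) o1r729

theorem o1r730 : allRange orbOk 22 104450 59 = true := by decide +kernel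
theorem o1u730 : ∀ k, 61380 ≤ k → k < 104509 → orbOk (k * 22) = true := between_extend orbOk 22 61380 104450 59 (o1u729) o1r730

theorem o1r731 : allRange orbOk 22 104509 59 = true := by decide +kernel
theorem o1u731 : ∀ k, 61380 ≤ k → k < 104568 → orbOk (k * 22) = true := between_extend orbOk 22 61380 104509 59 (o1u730) o1r731

theorem o1r732 : allRange orbOk 22 104568 59 = true := by decide +kernel
theorem o1u732 : ∀ k, 61380 ≤ k → k < 104627 → orbOk (k * 22) = true := between_extend orbOk 22 61380 104568 59 (o1u731) o1r732

theorem o1r733 : allRange orbOk 22 104627 59 = true := by decide +kernel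
theorem o1u733 : ∀ k, 61380 ≤ k → k < 104686 → orbOk (k * 22) = true := between_extend orbOk 22 61380 104627 59 (o1u732) o1r733

theorem o1r734 : allRange orbOk 22 104686 59 = true := by decide +kernel
theorem o1u734 : ∀ k, 61380 ≤ k → k < 104745 → orbOk (k * 22) = true := between_extend orbOk 22 61380 104686 59 (o1u733) o1r734

theorem o1r735 : allRange orbOk 22 104745 59 = true := by decide +kernel
theorem o1u735 : ∀ k, 61380 ≤ k → k < 104804 → orbOk (k * 22) = true := between_extend orbOk 22 61380 104745 59 (o1u734) o1r735

theorem o1r736 : allRange orbOk 22 104804 59 = true := by decide +kernel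
theorem o1u736 : ∀ k, 61380 ≤ k → k < 104863 → orbOk (k * 22) = true := between_extend orbOk 22 61380 104804 59 (o1u735) o1r736

theorem o1r737 : allRange orbOk 22 104863 59 = true := by decide +kernel
theorem o1u737 : ∀ k, 61380 ≤ k → k < 104922 → orbOk (k * 22) = true := between_extend orbOk 22 61380 104863 59 (o1u736) o1r737

theorem o1r738 : allRange orbOk 22 104922 59 = true := by decide +kernel
theorem o1u738 : ∀ k, 61380 ≤ k → k < 104981 → orbOk (k * 22) = true := between_extend orbOk 22 61380 104922 59 (o1u737) o1r738

theorem o1r739 : allRange orbOk 22 104981 59 = true := by decide +kernel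
theorem o1u739 : ∀ k, 61380 ≤ k → k < 105040 → orbOk (k * 22) = true := between_extend orbOk 22 61380 104981 59 (o1u738) o1r739

theorem o1r740 : allRange orbOk 22 105040 59 = true := by decide +kernel
theorem o1u740 : ∀ k, 61380 ≤ k → k < 105099 → orbOk (k * 22) = true := between_extend orbOk 22 61380 105040 59 (o1u739) o1r740

theorem o1r741 : allRange orbOk 22 105099 59 = true := by decide +kernel
theorem o1u741 : ∀ k, 61380 ≤ k → k < 105158 → orbOk (k * 22) = true := between_extend orbOk 22 61380 105099 59 (o1u740) o1r741

theorem o1r742 : allRange orbOk 22 105158 59 = true := by decide +kernel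
theorem o1u742 : ∀ k, 61380 ≤ k → k < 105217 → orbOk (k * 22) = true := between_extend orbOk 22 61380 105158 59 (o1u741) o1r742

theorem o1r743 : allRange orbOk 22 105217 59 = true := by decide +kernel
theorem o1u743 : ∀ k, 61380 ≤ k → k < 105276 → orbOk (k * 22) = true := between_extend orbOk 22 61380 105217 59 (o1u742) o1r743

theorem o1r744 : allRange orbOk 22 105276 59 = true := by decide +kernel
theorem o1u744 : ∀ k, 61380 ≤ k → k < 105335 → orbOk (k * 22) = true := between_extend orbOk 22 61380 105276 59 (o1u743) o1r744

theorem o1r745 : allRange orbOk 22 105335 59 = true := by decide +kernel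
theorem o1u745 : ∀ k, 61380 ≤ k → k < 105394 → orbOk (k * 22) = true := between_extend orbOk 22 61380 105335 59 (o1u744) o1r745

theorem o1r746 : allRange orbOk 22 105394 59 = true := by decide +kernel
theorem o1u746 : ∀ k, 61380 ≤ k → k < 105453 → orbOk (k * 22) = true := between_extend orbOk 22 61380 105394 59 (o1u745) o1r746

theorem o1r747 : allRange orbOk 22 105453 59 = true := by decide +kernel
theorem o1u747 : ∀ k, 61380 ≤ k → k < 105512 → orbOk (k * 22) = true := between_extend orbOk 22 61380 105453 59 (o1u746) o1r747

theorem o1r748 : allRange orbOk 22 105512 59 = true := by decide +kernel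
theorem o1u748 : ∀ k, 61380 ≤ k → k < 105571 → orbOk (k * 22) = true := between_extend orbOk 22 61380 105512 59 (o1u747) o1r748

theorem o1r749 : allRange orbOk 22 105571 59 = true := by decide +kernel
theorem o1u749 : ∀ k, 61380 ≤ k → k < 105630 → orbOk (k * 22) = true := between_extend orbOk 22 61380 105571 59 (o1u748) o1r749

theorem o1r750 : allRange orbOk 22 105630 59 = true := by decide +kernel
theorem o1u750 : ∀ k, 61380 ≤ k → k < 105689 → orbOk (k * 22) = true := between_extend orbOk 22 61380 105630 59 (o1u749) o1r750

theorem o1r751 : allRange orbOk 22 105689 59 = true := by decide +kernel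
theorem o1u751 : ∀ k, 61380 ≤ k → k < 105748 → orbOk (k * 22) = true := between_extend orbOk 22 61380 105689 59 (o1u750) o1r751

theorem o1r752 : allRange orbOk 22 105748 59 = true := by decide +kernel
theorem o1u752 : ∀ k, 61380 ≤ k → k < 105807 → orbOk (k * 22) = true := between_extend orbOk 22 61380 105748 59 (o1u751) o1r752

theorem o1r753 : allRange orbOk 22 105807 59 = true := by decide +kernel
theorem o1u753 : ∀ k, 61380 ≤ k → k < 105866 → orbOk (k * 22) = true := between_extend orbOk 22 61380 105807 59 (o1u752) o1r753

theorem o1r754 : allRange orbOk 22 105866 59 = true := by decide +kernel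
theorem o1u754 : ∀ k, 61380 ≤ k → k < 105925 → orbOk (k * 22) = true := between_extend orbOk 22 61380 105866 59 (o1u753) o1r754

theorem o1r755 : allRange orbOk 22 105925 59 = true := by decide +kernel
theorem o1u755 : ∀ k, 61380 ≤ k → k < 105984 → orbOk (k * 22) = true := between_extend orbOk 22 61380 105925 59 (o1u754) o1r755

theorem o1r756 : allRange orbOk 22 105984 59 = true := by decide +kernel
theorem o1u756 : ∀ k, 61380 ≤ k → k < 106043 → orbOk (k * 22) = true := between_extend orbOk 22 61380 105984 59 (o1u755) o1r756

theorem o1r757 : allRange orbOk 22 106043 59 = true := by decide +kernel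
theorem o1u757 : ∀ k, 61380 ≤ k → k < 106102 → orbOk (k * 22) = true := between_extend orbOk 22 61380 106043 59 (o1u756) o1r757

theorem o1r758 : allRange orbOk 22 106102 59 = true := by decide +kernel
theorem o1u758 : ∀ k, 61380 ≤ k → k < 106161 → orbOk (k * 22) = true := between_extend orbOk 22 61380 106102 59 (o1u757) o1r758

theorem o1r759 : allRange orbOk 22 106161 59 = true := by decide +kernel
theorem o1u759 : ∀ k, 61380 ≤ k → k < 106220 → orbOk (k * 22) = true := between_extend orbOk 22 61380 106161 59 (o1u758) o1r759

theorem o1r760 : allRange orbOk 22 106220 59 = true := by decide +kernel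
theorem o1u760 : ∀ k, 61380 ≤ k → k < 106279 → orbOk (k * 22) = true := between_extend orbOk 22 61380 106220 59 (o1u759) o1r760

theorem o1r761 : allRange orbOk 22 106279 59 = true := by decide +kernel
theorem o1u761 : ∀ k, 61380 ≤ k → k < 106338 → orbOk (k * 22) = true := between_extend orbOk 22 61380 106279 59 (o1u760) o1r761

theorem o1r762 : allRange orbOk 22 106338 59 = true := by decide +kernel
theorem o1u762 : ∀ k, 61380 ≤ k → k < 106397 → orbOk (k * 22) = true := between_extend orbOk 22 61380 106338 59 (o1u761) o1r762

theorem o1r763 : allRange orbOk 22 106397 59 = true := by decide +kernel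
theorem o1u763 : ∀ k, 61380 ≤ k → k < 106456 → orbOk (k * 22) = true := between_extend orbOk 22 61380 106397 59 (o1u762) o1r763

theorem o1r764 : allRange orbOk 22 106456 59 = true := by decide +kernel
theorem o1u764 : ∀ k, 61380 ≤ k → k < 106515 → orbOk (k * 22) = true := between_extend orbOk 22 61380 106456 59 (o1u763) o1r764

theorem o1r765 : allRange orbOk 22 106515 59 = true := by decide +kernel
theorem o1u765 : ∀ k, 61380 ≤ k → k < 106574 → orbOk (k * 22) = true := between_extend orbOk 22 61380 106515 59 (o1u764) o1r765

theorem o1r766 : allRange orbOk 22 106574 59 = true := by decide +kernel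
theorem o1u766 : ∀ k, 61380 ≤ k → k < 106633 → orbOk (k * 22) = true := between_extend orbOk 22 61380 106574 59 (o1u765) o1r766

theorem o1r767 : allRange orbOk 22 106633 59 = true := by decide +kernel
theorem o1u767 : ∀ k, 61380 ≤ k → k < 106692 → orbOk (k * 22) = true := between_extend orbOk 22 61380 106633 59 (o1u766) o1r767

theorem o1r768 : allRange orbOk 22 106692 59 = true := by decide +kernel
theorem o1u768 : ∀ k, 61380 ≤ k → k < 106751 → orbOk (k * 22) = true := between_extend orbOk 22 61380 106692 59 (o1u767) o1r768

theorem o1r769 : allRange orbOk 22 106751 59 = true := by decide +kernel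
theorem o1u769 : ∀ k, 61380 ≤ k → k < 106810 → orbOk (k * 22) = true := between_extend orbOk 22 61380 106751 59 (o1u768) o1r769

theorem o1r770 : allRange orbOk 22 106810 59 = true := by decide +kernel
theorem o1u770 : ∀ k, 61380 ≤ k → k < 106869 → orbOk (k * 22) = true := between_extend orbOk 22 61380 106810 59 (o1u769) o1r770

theorem o1r771 : allRange orbOk 22 106869 59 = true := by decide +kernel
theorem o1u771 : ∀ k, 61380 ≤ k → k < 106928 → orbOk (k * 22) = true := between_extend orbOk 22 61380 106869 59 (o1u770) o1r771

theorem o1r772 : allRange orbOk 22 106928 59 = true := by decide +kernel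
theorem o1u772 : ∀ k, 61380 ≤ k → k < 106987 → orbOk (k * 22) = true := between_extend orbOk 22 61380 106928 59 (o1u771) o1r772

theorem o1r773 : allRange orbOk 22 106987 59 = true := by decide +kernel
theorem o1u773 : ∀ k, 61380 ≤ k → k < 107046 → orbOk (k * 22) = true := between_extend orbOk 22 61380 106987 59 (o1u772) o1r773

theorem o1r774 : allRange orbOk 22 107046 59 = true := by decide +kernel
theorem o1u774 : ∀ k, 61380 ≤ k → k < 107105 → orbOk (k * 22) = true := between_extend orbOk 22 61380 107046 59 (o1u773) o1r774

theorem o1r775 : allRange orbOk 22 107105 59 = true := by decide +kernel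
theorem o1u775 : ∀ k, 61380 ≤ k → k < 107164 → orbOk (k * 22) = true := between_extend orbOk 22 61380 107105 59 (o1u774) o1r775

theorem o1r776 : allRange orbOk 22 107164 59 = true := by decide +kernel
theorem o1u776 : ∀ k, 61380 ≤ k → k < 107223 → orbOk (k * 22) = true := between_extend orbOk 22 61380 107164 59 (o1u775) o1r776

theorem o1r777 : allRange orbOk 22 107223 59 = true := by decide +kernel
theorem o1u777 : ∀ k, 61380 ≤ k → k < 107282 → orbOk (k * 22) = true := between_extend orbOk 22 61380 107223 59 (o1u776) o1r777

theorem o1r778 : allRange orbOk 22 107282 59 = true := by decide +kernel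
theorem o1u778 : ∀ k, 61380 ≤ k → k < 107341 → orbOk (k * 22) = true := between_extend orbOk 22 61380 107282 59 (o1u777) o1r778

theorem o1r779 : allRange orbOk 22 107341 59 = true := by decide +kernel
theorem o1u779 : ∀ k, 61380 ≤ k → k < 107400 → orbOk (k * 22) = true := between_extend orbOk 22 61380 107341 59 (o1u778) o1r779

theorem o1r780 : allRange orbOk 22 107400 59 = true := by decide +kernel
theorem o1u780 : ∀ k, 61380 ≤ k → k < 107459 → orbOk (k * 22) = true := between_extend orbOk 22 61380 107400 59 (o1u779) o1r780

theorem o1r781 : allRange orbOk 22 107459 59 = true := by decide +kernel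
theorem o1u781 : ∀ k, 61380 ≤ k → k < 107518 → orbOk (k * 22) = true := between_extend orbOk 22 61380 107459 59 (o1u780) o1r781

theorem o1r782 : allRange orbOk 22 107518 59 = true := by decide +kernel
theorem o1u782 : ∀ k, 61380 ≤ k → k < 107577 → orbOk (k * 22) = true := between_extend orbOk 22 61380 107518 59 (o1u781) o1r782

theorem o1r783 : allRange orbOk 22 107577 59 = true := by decide +kernel
theorem o1u783 : ∀ k, 61380 ≤ k → k < 107636 → orbOk (k * 22) = true := between_extend orbOk 22 61380 107577 59 (o1u782) o1r783

theorem o1r784 : allRange orbOk 22 107636 59 = true := by decide +kernel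
theorem o1u784 : ∀ k, 61380 ≤ k → k < 107695 → orbOk (k * 22) = true := between_extend orbOk 22 61380 107636 59 (o1u783) o1r784

theorem o1r785 : allRange orbOk 22 107695 59 = true := by decide +kernel
theorem o1u785 : ∀ k, 61380 ≤ k → k < 107754 → orbOk (k * 22) = true := between_extend orbOk 22 61380 107695 59 (o1u784) o1r785

theorem o1r786 : allRange orbOk 22 107754 59 = true := by decide +kernel
theorem o1u786 : ∀ k, 61380 ≤ k → k < 107813 → orbOk (k * 22) = true := between_extend orbOk 22 61380 107754 59 (o1u785) o1r786

theorem o1r787 : allRange orbOk 22 107813 59 = true := by decide +kernel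
theorem o1u787 : ∀ k, 61380 ≤ k → k < 107872 → orbOk (k * 22) = true := between_extend orbOk 22 61380 107813 59 (o1u786) o1r787

theorem o1r788 : allRange orbOk 22 107872 59 = true := by decide +kernel
theorem o1u788 : ∀ k, 61380 ≤ k → k < 107931 → orbOk (k * 22) = true := between_extend orbOk 22 61380 107872 59 (o1u787) o1r788

theorem o1r789 : allRange orbOk 22 107931 59 = true := by decide +kernel
theorem o1u789 : ∀ k, 61380 ≤ k → k < 107990 → orbOk (k * 22) = true := between_extend orbOk 22 61380 107931 59 (o1u788) o1r789

theorem o1r790 : allRange orbOk 22 107990 59 = true := by decide +kernel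
theorem o1u790 : ∀ k, 61380 ≤ k → k < 108049 → orbOk (k * 22) = true := between_extend orbOk 22 61380 107990 59 (o1u789) o1r790

theorem o1r791 : allRange orbOk 22 108049 59 = true := by decide +kernel
theorem o1u791 : ∀ k, 61380 ≤ k → k < 108108 → orbOk (k * 22) = true := between_extend orbOk 22 61380 108049 59 (o1u790) o1r791

theorem o1r792 : allRange orbOk 22 108108 59 = true := by decide +kernel
theorem o1u792 : ∀ k, 61380 ≤ k → k < 108167 → orbOk (k * 22) = true := between_extend orbOk 22 61380 108108 59 (o1u791) o1r792

theorem o1r793 : allRange orbOk 22 108167 59 = true := by decide +kernel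
theorem o1u793 : ∀ k, 61380 ≤ k → k < 108226 → orbOk (k * 22) = true := between_extend orbOk 22 61380 108167 59 (o1u792) o1r793

theorem o1r794 : allRange orbOk 22 108226 59 = true := by decide +kernel
theorem o1u794 : ∀ k, 61380 ≤ k → k < 108285 → orbOk (k * 22) = true := between_extend orbOk 22 61380 108226 59 (o1u793) o1r794

theorem o1r795 : allRange orbOk 22 108285 59 = true := by decide +kernel
theorem o1u795 : ∀ k, 61380 ≤ k → k < 108344 → orbOk (k * 22) = true := between_extend orbOk 22 61380 108285 59 (o1u794) o1r795

theorem o1r796 : allRange orbOk 22 108344 59 = true := by decide +kernel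
theorem o1u796 : ∀ k, 61380 ≤ k → k < 108403 → orbOk (k * 22) = true := between_extend orbOk 22 61380 108344 59 (o1u795) o1r796

theorem o1r797 : allRange orbOk 22 108403 59 = true := by decide +kernel
theorem o1u797 : ∀ k, 61380 ≤ k → k < 108462 → orbOk (k * 22) = true := between_extend orbOk 22 61380 108403 59 (o1u796) o1r797

theorem o1r798 : allRange orbOk 22 108462 59 = true := by decide +kernel
theorem o1u798 : ∀ k, 61380 ≤ k → k < 108521 → orbOk (k * 22) = true := between_extend orbOk 22 61380 108462 59 (o1u797) o1r798

theorem o1r799 : allRange orbOk 22 108521 59 = true := by decide +kernel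
theorem o1u799 : ∀ k, 61380 ≤ k → k < 108580 → orbOk (k * 22) = true := between_extend orbOk 22 61380 108521 59 (o1u798) o1r799

theorem o1r800 : allRange orbOk 22 108580 59 = true := by decide +kernel
theorem o1u800 : ∀ k, 61380 ≤ k → k < 108639 → orbOk (k * 22) = true := between_extend orbOk 22 61380 108580 59 (o1u799) o1r800

theorem o1r801 : allRange orbOk 22 108639 59 = true := by decide +kernel
theorem o1u801 : ∀ k, 61380 ≤ k → k < 108698 → orbOk (k * 22) = true := between_extend orbOk 22 61380 108639 59 (o1u800) o1r801

theorem o1r802 : allRange orbOk 22 108698 59 = true := by decide +kernel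
theorem o1u802 : ∀ k, 61380 ≤ k → k < 108757 → orbOk (k * 22) = true := between_extend orbOk 22 61380 108698 59 (o1u801) o1r802

theorem o1r803 : allRange orbOk 22 108757 59 = true := by decide +kernel
theorem o1u803 : ∀ k, 61380 ≤ k → k < 108816 → orbOk (k * 22) = true := between_extend orbOk 22 61380 108757 59 (o1u802) o1r803

theorem o1r804 : allRange orbOk 22 108816 59 = true := by decide +kernel
theorem o1u804 : ∀ k, 61380 ≤ k → k < 108875 → orbOk (k * 22) = true := between_extend orbOk 22 61380 108816 59 (o1u803) o1r804

theorem o1r805 : allRange orbOk 22 108875 59 = true := by decide +kernel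
theorem o1u805 : ∀ k, 61380 ≤ k → k < 108934 → orbOk (k * 22) = true := between_extend orbOk 22 61380 108875 59 (o1u804) o1r805

theorem o1r806 : allRange orbOk 22 108934 59 = true := by decide +kernel
theorem o1u806 : ∀ k, 61380 ≤ k → k < 108993 → orbOk (k * 22) = true := between_extend orbOk 22 61380 108934 59 (o1u805) o1r806

theorem o1r807 : allRange orbOk 22 108993 59 = true := by decide +kernel
theorem o1u807 : ∀ k, 61380 ≤ k → k < 109052 → orbOk (k * 22) = true := between_extend orbOk 22 61380 108993 59 (o1u806) o1r807

theorem o1r808 : allRange orbOk 22 109052 59 = true := by decide +kernel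
theorem o1u808 : ∀ k, 61380 ≤ k → k < 109111 → orbOk (k * 22) = true := between_extend orbOk 22 61380 109052 59 (o1u807) o1r808

theorem o1r809 : allRange orbOk 22 109111 59 = true := by decide +kernel
theorem o1u809 : ∀ k, 61380 ≤ k → k < 109170 → orbOk (k * 22) = true := between_extend orbOk 22 61380 109111 59 (o1u808) o1r809

theorem o1r810 : allRange orbOk 22 109170 59 = true := by decide +kernel
theorem o1u810 : ∀ k, 61380 ≤ k → k < 109229 → orbOk (k * 22) = true := between_extend orbOk 22 61380 109170 59 (o1u809) o1r810

theorem o1r811 : allRange orbOk 22 109229 59 = true := by decide +kernel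
theorem o1u811 : ∀ k, 61380 ≤ k → k < 109288 → orbOk (k * 22) = true := between_extend orbOk 22 61380 109229 59 (o1u810) o1r811

theorem o1r812 : allRange orbOk 22 109288 59 = true := by decide +kernel
theorem o1u812 : ∀ k, 61380 ≤ k → k < 109347 → orbOk (k * 22) = true := between_extend orbOk 22 61380 109288 59 (o1u811) o1r812

theorem o1r813 : allRange orbOk 22 109347 59 = true := by decide +kernel
theorem o1u813 : ∀ k, 61380 ≤ k → k < 109406 → orbOk (k * 22) = true := between_extend orbOk 22 61380 109347 59 (o1u812) o1r813

theorem o1r814 : allRange orbOk 22 109406 59 = true := by decide +kernel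
theorem o1u814 : ∀ k, 61380 ≤ k → k < 109465 → orbOk (k * 22) = true := between_extend orbOk 22 61380 109406 59 (o1u813) o1r814

theorem o1r815 : allRange orbOk 22 109465 59 = true := by decide +kernel
theorem o1u815 : ∀ k, 61380 ≤ k → k < 109524 → orbOk (k * 22) = true := between_extend orbOk 22 61380 109465 59 (o1u814) o1r815

theorem o1r816 : allRange orbOk 22 109524 59 = true := by decide +kernel
theorem o1u816 : ∀ k, 61380 ≤ k → k < 109583 → orbOk (k * 22) = true := between_extend orbOk 22 61380 109524 59 (o1u815) o1r816

theorem o1r817 : allRange orbOk 22 109583 59 = true := by decide +kernel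
theorem o1u817 : ∀ k, 61380 ≤ k → k < 109642 → orbOk (k * 22) = true := between_extend orbOk 22 61380 109583 59 (o1u816) o1r817

theorem o1r818 : allRange orbOk 22 109642 59 = true := by decide +kernel
theorem o1u818 : ∀ k, 61380 ≤ k → k < 109701 → orbOk (k * 22) = true := between_extend orbOk 22 61380 109642 59 (o1u817) o1r818

theorem o1r819 : allRange orbOk 22 109701 59 = true := by decide +kernel
theorem o1u819 : ∀ k, 61380 ≤ k → k < 109760 → orbOk (k * 22) = true := between_extend orbOk 22 61380 109701 59 (o1u818) o1r819

theorem o1r820 : allRange orbOk 22 109760 59 = true := by decide +kernel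
theorem o1u820 : ∀ k, 61380 ≤ k → k < 109819 → orbOk (k * 22) = true := between_extend orbOk 22 61380 109760 59 (o1u819) o1r820

theorem o1r821 : allRange orbOk 22 109819 59 = true := by decide +kernel
theorem o1u821 : ∀ k, 61380 ≤ k → k < 109878 → orbOk (k * 22) = true := between_extend orbOk 22 61380 109819 59 (o1u820) o1r821

theorem o1r822 : allRange orbOk 22 109878 59 = true := by decide +kernel
theorem o1u822 : ∀ k, 61380 ≤ k → k < 109937 → orbOk (k * 22) = true := between_extend orbOk 22 61380 109878 59 (o1u821) o1r822

theorem o1r823 : allRange orbOk 22 109937 59 = true := by decide +kernel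
theorem o1u823 : ∀ k, 61380 ≤ k → k < 109996 → orbOk (k * 22) = true := between_extend orbOk 22 61380 109937 59 (o1u822) o1r823

theorem o1r824 : allRange orbOk 22 109996 59 = true := by decide +kernel
theorem o1u824 : ∀ k, 61380 ≤ k → k < 110055 → orbOk (k * 22) = true := between_extend orbOk 22 61380 109996 59 (o1u823) o1r824

theorem o1r825 : allRange orbOk 22 110055 59 = true := by decide +kernel
theorem o1u825 : ∀ k, 61380 ≤ k → k < 110114 → orbOk (k * 22) = true := between_extend orbOk 22 61380 110055 59 (o1u824) o1r825

theorem o1r826 : allRange orbOk 22 110114 59 = true := by decide +kernel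
theorem o1u826 : ∀ k, 61380 ≤ k → k < 110173 → orbOk (k * 22) = true := between_extend orbOk 22 61380 110114 59 (o1u825) o1r826

theorem o1r827 : allRange orbOk 22 110173 59 = true := by decide +kernel
theorem o1u827 : ∀ k, 61380 ≤ k → k < 110232 → orbOk (k * 22) = true := between_extend orbOk 22 61380 110173 59 (o1u826) o1r827

theorem o1r828 : allRange orbOk 22 110232 59 = true := by decide +kernel
theorem o1u828 : ∀ k, 61380 ≤ k → k < 110291 → orbOk (k * 22) = true := between_extend orbOk 22 61380 110232 59 (o1u827) o1r828

theorem o1r829 : allRange orbOk 22 110291 59 = true := by decide +kernel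
theorem o1u829 : ∀ k, 61380 ≤ k → k < 110350 → orbOk (k * 22) = true := between_extend orbOk 22 61380 110291 59 (o1u828) o1r829

theorem o1r830 : allRange orbOk 22 110350 59 = true := by decide +kernel
theorem o1u830 : ∀ k, 61380 ≤ k → k < 110409 → orbOk (k * 22) = true := between_extend orbOk 22 61380 110350 59 (o1u829) o1r830

theorem o1r831 : allRange orbOk 22 110409 59 = true := by decide +kernel
theorem o1u831 : ∀ k, 61380 ≤ k → k < 110468 → orbOk (k * 22) = true := between_extend orbOk 22 61380 110409 59 (o1u830) o1r831

theorem o1r832 : allRange orbOk 22 110468 59 = true := by decide +kernel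
theorem o1u832 : ∀ k, 61380 ≤ k → k < 110527 → orbOk (k * 22) = true := between_extend orbOk 22 61380 110468 59 (o1u831) o1r832

theorem o1r833 : allRange orbOk 22 110527 59 = true := by decide +kernel
theorem o1u833 : ∀ k, 61380 ≤ k → k < 110586 → orbOk (k * 22) = true := between_extend orbOk 22 61380 110527 59 (o1u832) o1r833

theorem o1r834 : allRange orbOk 22 110586 59 = true := by decide +kernel
theorem o1u834 : ∀ k, 61380 ≤ k → k < 110645 → orbOk (k * 22) = true := between_extend orbOk 22 61380 110586 59 (o1u833) o1r834

theorem o1r835 : allRange orbOk 22 110645 59 = true := by decide +kernel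
theorem o1u835 : ∀ k, 61380 ≤ k → k < 110704 → orbOk (k * 22) = true := between_extend orbOk 22 61380 110645 59 (o1u834) o1r835

theorem o1r836 : allRange orbOk 22 110704 59 = true := by decide +kernel
theorem o1u836 : ∀ k, 61380 ≤ k → k < 110763 → orbOk (k * 22) = true := between_extend orbOk 22 61380 110704 59 (o1u835) o1r836

theorem o1r837 : allRange orbOk 22 110763 59 = true := by decide +kernel
theorem o1u837 : ∀ k, 61380 ≤ k → k < 110822 → orbOk (k * 22) = true := between_extend orbOk 22 61380 110763 59 (o1u836) o1r837

theorem o1r838 : allRange orbOk 22 110822 59 = true := by decide +kernel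
theorem o1u838 : ∀ k, 61380 ≤ k → k < 110881 → orbOk (k * 22) = true := between_extend orbOk 22 61380 110822 59 (o1u837) o1r838

theorem o1r839 : allRange orbOk 22 110881 59 = true := by decide +kernel
theorem o1u839 : ∀ k, 61380 ≤ k → k < 110940 → orbOk (k * 22) = true := between_extend orbOk 22 61380 110881 59 (o1u838) o1r839

theorem o1r840 : allRange orbOk 22 110940 59 = true := by decide +kernel
theorem o1u840 : ∀ k, 61380 ≤ k → k < 110999 → orbOk (k * 22) = true := between_extend orbOk 22 61380 110940 59 (o1u839) o1r840

theorem o1r841 : allRange orbOk 22 110999 59 = true := by decide +kernel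
theorem o1u841 : ∀ k, 61380 ≤ k → k < 111058 → orbOk (k * 22) = true := between_extend orbOk 22 61380 110999 59 (o1u840) o1r841

theorem o1r842 : allRange orbOk 22 111058 59 = true := by decide +kernel
theorem o1u842 : ∀ k, 61380 ≤ k → k < 111117 → orbOk (k * 22) = true := between_extend orbOk 22 61380 111058 59 (o1u841) o1r842

theorem o1r843 : allRange orbOk 22 111117 59 = true := by decide +kernel
theorem o1u843 : ∀ k, 61380 ≤ k → k < 111176 → orbOk (k * 22) = true := between_extend orbOk 22 61380 111117 59 (o1u842) o1r843

theorem o1r844 : allRange orbOk 22 111176 59 = true := by decide +kernel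
theorem o1u844 : ∀ k, 61380 ≤ k → k < 111235 → orbOk (k * 22) = true := between_extend orbOk 22 61380 111176 59 (o1u843) o1r844

theorem o1r845 : allRange orbOk 22 111235 59 = true := by decide +kernel
theorem o1u845 : ∀ k, 61380 ≤ k → k < 111294 → orbOk (k * 22) = true := between_extend orbOk 22 61380 111235 59 (o1u844) o1r845

theorem o1r846 : allRange orbOk 22 111294 59 = true := by decide +kernel
theorem o1u846 : ∀ k, 61380 ≤ k → k < 111353 → orbOk (k * 22) = true := between_extend orbOk 22 61380 111294 59 (o1u845) o1r846

theorem o1r847 : allRange orbOk 22 111353 59 = true := by decide +kernel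
theorem o1u847 : ∀ k, 61380 ≤ k → k < 111412 → orbOk (k * 22) = true := between_extend orbOk 22 61380 111353 59 (o1u846) o1r847

theorem o1r848 : allRange orbOk 22 111412 59 = true := by decide +kernel
theorem o1u848 : ∀ k, 61380 ≤ k → k < 111471 → orbOk (k * 22) = true := between_extend orbOk 22 61380 111412 59 (o1u847) o1r848

theorem o1r849 : allRange orbOk 22 111471 59 = true := by decide +kernel
theorem o1u849 : ∀ k, 61380 ≤ k → k < 111530 → orbOk (k * 22) = true := between_extend orbOk 22 61380 111471 59 (o1u848) o1r849

theorem o1r850 : allRange orbOk 22 111530 59 = true := by decide +kernel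
theorem o1u850 : ∀ k, 61380 ≤ k → k < 111589 → orbOk (k * 22) = true := between_extend orbOk 22 61380 111530 59 (o1u849) o1r850

theorem o1r851 : allRange orbOk 22 111589 59 = true := by decide +kernel
theorem o1u851 : ∀ k, 61380 ≤ k → k < 111648 → orbOk (k * 22) = true := between_extend orbOk 22 61380 111589 59 (o1u850) o1r851

theorem o1r852 : allRange orbOk 22 111648 59 = true := by decide +kernel
theorem o1u852 : ∀ k, 61380 ≤ k → k < 111707 → orbOk (k * 22) = true := between_extend orbOk 22 61380 111648 59 (o1u851) o1r852

theorem o1r853 : allRange orbOk 22 111707 59 = true := by decide +kernel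
theorem o1u853 : ∀ k, 61380 ≤ k → k < 111766 → orbOk (k * 22) = true := between_extend orbOk 22 61380 111707 59 (o1u852) o1r853

theorem o1r854 : allRange orbOk 22 111766 59 = true := by decide +kernel
theorem o1u854 : ∀ k, 61380 ≤ k → k < 111825 → orbOk (k * 22) = true := between_extend orbOk 22 61380 111766 59 (o1u853) o1r854

theorem o1r855 : allRange orbOk 22 111825 59 = true := by decide +kernel
theorem o1u855 : ∀ k, 61380 ≤ k → k < 111884 → orbOk (k * 22) = true := between_extend orbOk 22 61380 111825 59 (o1u854) o1r855

theorem o1r856 : allRange orbOk 22 111884 59 = true := by decide +kernel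
theorem o1u856 : ∀ k, 61380 ≤ k → k < 111943 → orbOk (k * 22) = true := between_extend orbOk 22 61380 111884 59 (o1u855) o1r856

theorem o1r857 : allRange orbOk 22 111943 59 = true := by decide +kernel
theorem o1u857 : ∀ k, 61380 ≤ k → k < 112002 → orbOk (k * 22) = true := between_extend orbOk 22 61380 111943 59 (o1u856) o1r857

theorem o1r858 : allRange orbOk 22 112002 59 = true := by decide +kernel
theorem o1u858 : ∀ k, 61380 ≤ k → k < 112061 → orbOk (k * 22) = true := between_extend orbOk 22 61380 112002 59 (o1u857) o1r858

theorem o1r859 : allRange orbOk 22 112061 59 = true := by decide +kernel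
theorem o1u859 : ∀ k, 61380 ≤ k → k < 112120 → orbOk (k * 22) = true := between_extend orbOk 22 61380 112061 59 (o1u858) o1r859

theorem o1r860 : allRange orbOk 22 112120 59 = true := by decide +kernel
theorem o1u860 : ∀ k, 61380 ≤ k → k < 112179 → orbOk (k * 22) = true := between_extend orbOk 22 61380 112120 59 (o1u859) o1r860

theorem o1r861 : allRange orbOk 22 112179 59 = true := by decide +kernel
theorem o1u861 : ∀ k, 61380 ≤ k → k < 112238 → orbOk (k * 22) = true := between_extend orbOk 22 61380 112179 59 (o1u860) o1r861

theorem o1r862 : allRange orbOk 22 112238 59 = true := by decide +kernel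
theorem o1u862 : ∀ k, 61380 ≤ k → k < 112297 → orbOk (k * 22) = true := between_extend orbOk 22 61380 112238 59 (o1u861) o1r862

theorem o1r863 : allRange orbOk 22 112297 59 = true := by decide +kernel
theorem o1u863 : ∀ k, 61380 ≤ k → k < 112356 → orbOk (k * 22) = true := between_extend orbOk 22 61380 112297 59 (o1u862) o1r863

theorem o1r864 : allRange orbOk 22 112356 59 = true := by decide +kernel
theorem o1u864 : ∀ k, 61380 ≤ k → k < 112415 → orbOk (k * 22) = true := between_extend orbOk 22 61380 112356 59 (o1u863) o1r864

theorem o1r865 : allRange orbOk 22 112415 59 = true := by decide +kernel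
theorem o1u865 : ∀ k, 61380 ≤ k → k < 112474 → orbOk (k * 22) = true := between_extend orbOk 22 61380 112415 59 (o1u864) o1r865

theorem o1r866 : allRange orbOk 22 112474 59 = true := by decide +kernel
theorem o1u866 : ∀ k, 61380 ≤ k → k < 112533 → orbOk (k * 22) = true := between_extend orbOk 22 61380 112474 59 (o1u865) o1r866

theorem o1r867 : allRange orbOk 22 112533 59 = true := by decide +kernel
theorem o1u867 : ∀ k, 61380 ≤ k → k < 112592 → orbOk (k * 22) = true := between_extend orbOk 22 61380 112533 59 (o1u866) o1r867

theorem o1r868 : allRange orbOk 22 112592 59 = true := by decide +kernel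
theorem o1u868 : ∀ k, 61380 ≤ k → k < 112651 → orbOk (k * 22) = true := between_extend orbOk 22 61380 112592 59 (o1u867) o1r868

theorem o1r869 : allRange orbOk 22 112651 59 = true := by decide +kernel
theorem o1u869 : ∀ k, 61380 ≤ k → k < 112710 → orbOk (k * 22) = true := between_extend orbOk 22 61380 112651 59 (o1u868) o1r869

theorem o1r870 : allRange orbOk 22 112710 59 = true := by decide +kernel
theorem o1u870 : ∀ k, 61380 ≤ k → k < 112769 → orbOk (k * 22) = true := between_extend orbOk 22 61380 112710 59 (o1u869) o1r870

theorem o1r871 : allRange orbOk 22 112769 59 = true := by decide +kernel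
theorem o1u871 : ∀ k, 61380 ≤ k → k < 112828 → orbOk (k * 22) = true := between_extend orbOk 22 61380 112769 59 (o1u870) o1r871

theorem o1r872 : allRange orbOk 22 112828 59 = true := by decide +kernel
theorem o1u872 : ∀ k, 61380 ≤ k → k < 112887 → orbOk (k * 22) = true := between_extend orbOk 22 61380 112828 59 (o1u871) o1r872

theorem o1r873 : allRange orbOk 22 112887 59 = true := by decide +kernel
theorem o1u873 : ∀ k, 61380 ≤ k → k < 112946 → orbOk (k * 22) = true := between_extend orbOk 22 61380 112887 59 (o1u872) o1r873

theorem o1r874 : allRange orbOk 22 112946 59 = true := by decide +kernel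
theorem o1u874 : ∀ k, 61380 ≤ k → k < 113005 → orbOk (k * 22) = true := between_extend orbOk 22 61380 112946 59 (o1u873) o1r874

theorem o1r875 : allRange orbOk 22 113005 59 = true := by decide +kernel
theorem o1u875 : ∀ k, 61380 ≤ k → k < 113064 → orbOk (k * 22) = true := between_extend orbOk 22 61380 113005 59 (o1u874) o1r875

theorem o1r876 : allRange orbOk 22 113064 59 = true := by decide +kernel
theorem o1u876 : ∀ k, 61380 ≤ k → k < 113123 → orbOk (k * 22) = true := between_extend orbOk 22 61380 113064 59 (o1u875) o1r876

theorem o1r877 : allRange orbOk 22 113123 59 = true := by decide +kernel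
theorem o1u877 : ∀ k, 61380 ≤ k → k < 113182 → orbOk (k * 22) = true := between_extend orbOk 22 61380 113123 59 (o1u876) o1r877

theorem o1r878 : allRange orbOk 22 113182 59 = true := by decide +kernel
theorem o1u878 : ∀ k, 61380 ≤ k → k < 113241 → orbOk (k * 22) = true := between_extend orbOk 22 61380 113182 59 (o1u877) o1r878

theorem o1r879 : allRange orbOk 22 113241 59 = true := by decide +kernel
theorem o1u879 : ∀ k, 61380 ≤ k → k < 113300 → orbOk (k * 22) = true := between_extend orbOk 22 61380 113241 59 (o1u878) o1r879

theorem o1r880 : allRange orbOk 22 113300 59 = true := by decide +kernel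
theorem o1u880 : ∀ k, 61380 ≤ k → k < 113359 → orbOk (k * 22) = true := between_extend orbOk 22 61380 113300 59 (o1u879) o1r880

theorem o1r881 : allRange orbOk 22 113359 59 = true := by decide +kernel
theorem o1u881 : ∀ k, 61380 ≤ k → k < 113418 → orbOk (k * 22) = true := between_extend orbOk 22 61380 113359 59 (o1u880) o1r881

theorem o1r882 : allRange orbOk 22 113418 59 = true := by decide +kernel
theorem o1u882 : ∀ k, 61380 ≤ k → k < 113477 → orbOk (k * 22) = true := between_extend orbOk 22 61380 113418 59 (o1u881) o1r882

theorem o1r883 : allRange orbOk 22 113477 59 = true := by decide +kernel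
theorem o1u883 : ∀ k, 61380 ≤ k → k < 113536 → orbOk (k * 22) = true := between_extend orbOk 22 61380 113477 59 (o1u882) o1r883

theorem o1r884 : allRange orbOk 22 113536 59 = true := by decide +kernel
theorem o1u884 : ∀ k, 61380 ≤ k → k < 113595 → orbOk (k * 22) = true := between_extend orbOk 22 61380 113536 59 (o1u883) o1r884

theorem o1r885 : allRange orbOk 22 113595 59 = true := by decide +kernel
theorem o1u885 : ∀ k, 61380 ≤ k → k < 113654 → orbOk (k * 22) = true := between_extend orbOk 22 61380 113595 59 (o1u884) o1r885

theorem o1r886 : allRange orbOk 22 113654 59 = true := by decide +kernel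
theorem o1u886 : ∀ k, 61380 ≤ k → k < 113713 → orbOk (k * 22) = true := between_extend orbOk 22 61380 113654 59 (o1u885) o1r886

theorem o1r887 : allRange orbOk 22 113713 59 = true := by decide +kernel
theorem o1u887 : ∀ k, 61380 ≤ k → k < 113772 → orbOk (k * 22) = true := between_extend orbOk 22 61380 113713 59 (o1u886) o1r887

theorem o1r888 : allRange orbOk 22 113772 59 = true := by decide +kernel
theorem o1u888 : ∀ k, 61380 ≤ k → k < 113831 → orbOk (k * 22) = true := between_extend orbOk 22 61380 113772 59 (o1u887) o1r888

theorem o1r889 : allRange orbOk 22 113831 59 = true := by decide +kernel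
theorem o1u889 : ∀ k, 61380 ≤ k → k < 113890 → orbOk (k * 22) = true := between_extend orbOk 22 61380 113831 59 (o1u888) o1r889

theorem o1r890 : allRange orbOk 22 113890 59 = true := by decide +kernel
theorem o1u890 : ∀ k, 61380 ≤ k → k < 113949 → orbOk (k * 22) = true := between_extend orbOk 22 61380 113890 59 (o1u889) o1r890

theorem o1r891 : allRange orbOk 22 113949 59 = true := by decide +kernel
theorem o1u891 : ∀ k, 61380 ≤ k → k < 114008 → orbOk (k * 22) = true := between_extend orbOk 22 61380 113949 59 (o1u890) o1r891

theorem o1r892 : allRange orbOk 22 114008 59 = true := by decide +kernel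
theorem o1u892 : ∀ k, 61380 ≤ k → k < 114067 → orbOk (k * 22) = true := between_extend orbOk 22 61380 114008 59 (o1u891) o1r892

theorem o1r893 : allRange orbOk 22 114067 59 = true := by decide +kernel
theorem o1u893 : ∀ k, 61380 ≤ k → k < 114126 → orbOk (k * 22) = true := between_extend orbOk 22 61380 114067 59 (o1u892) o1r893

theorem o1r894 : allRange orbOk 22 114126 59 = true := by decide +kernel
theorem o1u894 : ∀ k, 61380 ≤ k → k < 114185 → orbOk (k * 22) = true := between_extend orbOk 22 61380 114126 59 (o1u893) o1r894

theorem o1r895 : allRange orbOk 22 114185 59 = true := by decide +kernel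
theorem o1u895 : ∀ k, 61380 ≤ k → k < 114244 → orbOk (k * 22) = true := between_extend orbOk 22 61380 114185 59 (o1u894) o1r895

theorem o1r896 : allRange orbOk 22 114244 59 = true := by decide +kernel
theorem o1u896 : ∀ k, 61380 ≤ k → k < 114303 → orbOk (k * 22) = true := between_extend orbOk 22 61380 114244 59 (o1u895) o1r896

theorem o1r897 : allRange orbOk 22 114303 59 = true := by decide +kernel
theorem o1u897 : ∀ k, 61380 ≤ k → k < 114362 → orbOk (k * 22) = true := between_extend orbOk 22 61380 114303 59 (o1u896) o1r897

theorem o1r898 : allRange orbOk 22 114362 59 = true := by decide +kernel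
theorem o1u898 : ∀ k, 61380 ≤ k → k < 114421 → orbOk (k * 22) = true := between_extend orbOk 22 61380 114362 59 (o1u897) o1r898

theorem o1r899 : allRange orbOk 22 114421 59 = true := by decide +kernel
theorem o1u899 : ∀ k, 61380 ≤ k → k < 114480 → orbOk (k * 22) = true := between_extend orbOk 22 61380 114421 59 (o1u898) o1r899

theorem o1r900 : allRange orbOk 22 114480 59 = true := by decide +kernel
theorem o1u900 : ∀ k, 61380 ≤ k → k < 114539 → orbOk (k * 22) = true := between_extend orbOk 22 61380 114480 59 (o1u899) o1r900

theorem o1r901 : allRange orbOk 22 114539 59 = true := by decide +kernel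
theorem o1u901 : ∀ k, 61380 ≤ k → k < 114598 → orbOk (k * 22) = true := between_extend orbOk 22 61380 114539 59 (o1u900) o1r901

theorem o1r902 : allRange orbOk 22 114598 59 = true := by decide +kernel
theorem o1u902 : ∀ k, 61380 ≤ k → k < 114657 → orbOk (k * 22) = true := between_extend orbOk 22 61380 114598 59 (o1u901) o1r902

theorem o1r903 : allRange orbOk 22 114657 59 = true := by decide +kernel
theorem o1u903 : ∀ k, 61380 ≤ k → k < 114716 → orbOk (k * 22) = true := between_extend orbOk 22 61380 114657 59 (o1u902) o1r903

theorem o1r904 : allRange orbOk 22 114716 59 = true := by decide +kernel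
theorem o1u904 : ∀ k, 61380 ≤ k → k < 114775 → orbOk (k * 22) = true := between_extend orbOk 22 61380 114716 59 (o1u903) o1r904

theorem o1r905 : allRange orbOk 22 114775 59 = true := by decide +kernel
theorem o1u905 : ∀ k, 61380 ≤ k → k < 114834 → orbOk (k * 22) = true := between_extend orbOk 22 61380 114775 59 (o1u904) o1r905

theorem o1r906 : allRange orbOk 22 114834 59 = true := by decide +kernel
theorem o1u906 : ∀ k, 61380 ≤ k → k < 114893 → orbOk (k * 22) = true := between_extend orbOk 22 61380 114834 59 (o1u905) o1r906

theorem o1r907 : allRange orbOk 22 114893 59 = true := by decide +kernel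
theorem o1u907 : ∀ k, 61380 ≤ k → k < 114952 → orbOk (k * 22) = true := between_extend orbOk 22 61380 114893 59 (o1u906) o1r907

theorem o1r908 : allRange orbOk 22 114952 59 = true := by decide +kernel
theorem o1u908 : ∀ k, 61380 ≤ k → k < 115011 → orbOk (k * 22) = true := between_extend orbOk 22 61380 114952 59 (o1u907) o1r908

theorem o1r909 : allRange orbOk 22 115011 59 = true := by decide +kernel
theorem o1u909 : ∀ k, 61380 ≤ k → k < 115070 → orbOk (k * 22) = true := between_extend orbOk 22 61380 115011 59 (o1u908) o1r909

theorem o1r910 : allRange orbOk 22 115070 59 = true := by decide +kernel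
theorem o1u910 : ∀ k, 61380 ≤ k → k < 115129 → orbOk (k * 22) = true := between_extend orbOk 22 61380 115070 59 (o1u909) o1r910

theorem o1r911 : allRange orbOk 22 115129 59 = true := by decide +kernel
theorem o1u911 : ∀ k, 61380 ≤ k → k < 115188 → orbOk (k * 22) = true := between_extend orbOk 22 61380 115129 59 (o1u910) o1r911

theorem o1r912 : allRange orbOk 22 115188 59 = true := by decide +kernel
theorem o1u912 : ∀ k, 61380 ≤ k → k < 115247 → orbOk (k * 22) = true := between_extend orbOk 22 61380 115188 59 (o1u911) o1r912

theorem o1r913 : allRange orbOk 22 115247 59 = true := by decide +kernel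
theorem o1u913 : ∀ k, 61380 ≤ k → k < 115306 → orbOk (k * 22) = true := between_extend orbOk 22 61380 115247 59 (o1u912) o1r913

theorem o1r914 : allRange orbOk 22 115306 59 = true := by decide +kernel
theorem o1u914 : ∀ k, 61380 ≤ k → k < 115365 → orbOk (k * 22) = true := between_extend orbOk 22 61380 115306 59 (o1u913) o1r914

theorem o1r915 : allRange orbOk 22 115365 59 = true := by decide +kernel
theorem o1u915 : ∀ k, 61380 ≤ k → k < 115424 → orbOk (k * 22) = true := between_extend orbOk 22 61380 115365 59 (o1u914) o1r915

theorem o1r916 : allRange orbOk 22 115424 59 = true := by decide +kernel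
theorem o1u916 : ∀ k, 61380 ≤ k → k < 115483 → orbOk (k * 22) = true := between_extend orbOk 22 61380 115424 59 (o1u915) o1r916

theorem o1r917 : allRange orbOk 22 115483 59 = true := by decide +kernel
theorem o1u917 : ∀ k, 61380 ≤ k → k < 115542 → orbOk (k * 22) = true := between_extend orbOk 22 61380 115483 59 (o1u916) o1r917

theorem o1r918 : allRange orbOk 22 115542 59 = true := by decide +kernel
theorem o1u918 : ∀ k, 61380 ≤ k → k < 115601 → orbOk (k * 22) = true := between_extend orbOk 22 61380 115542 59 (o1u917) o1r918

theorem o1r919 : allRange orbOk 22 115601 59 = true := by decide +kernel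
theorem o1u919 : ∀ k, 61380 ≤ k → k < 115660 → orbOk (k * 22) = true := between_extend orbOk 22 61380 115601 59 (o1u918) o1r919

theorem o1r920 : allRange orbOk 22 115660 59 = true := by decide +kernel
theorem o1u920 : ∀ k, 61380 ≤ k → k < 115719 → orbOk (k * 22) = true := between_extend orbOk 22 61380 115660 59 (o1u919) o1r920

theorem o1r921 : allRange orbOk 22 115719 59 = true := by decide +kernel
theorem o1u921 : ∀ k, 61380 ≤ k → k < 115778 → orbOk (k * 22) = true := between_extend orbOk 22 61380 115719 59 (o1u920) o1r921

theorem o1r922 : allRange orbOk 22 115778 59 = true := by decide +kernel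
theorem o1u922 : ∀ k, 61380 ≤ k → k < 115837 → orbOk (k * 22) = true := between_extend orbOk 22 61380 115778 59 (o1u921) o1r922

theorem o1r923 : allRange orbOk 22 115837 59 = true := by decide +kernel
theorem o1u923 : ∀ k, 61380 ≤ k → k < 115896 → orbOk (k * 22) = true := between_extend orbOk 22 61380 115837 59 (o1u922) o1r923

theorem o1r924 : allRange orbOk 22 115896 59 = true := by decide +kernel
theorem o1u924 : ∀ k, 61380 ≤ k → k < 115955 → orbOk (k * 22) = true := between_extend orbOk 22 61380 115896 59 (o1u923) o1r924

theorem o1r925 : allRange orbOk 22 115955 59 = true := by decide +kernel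
theorem o1u925 : ∀ k, 61380 ≤ k → k < 116014 → orbOk (k * 22) = true := between_extend orbOk 22 61380 115955 59 (o1u924) o1r925

theorem o1r926 : allRange orbOk 22 116014 59 = true := by decide +kernel
theorem o1u926 : ∀ k, 61380 ≤ k → k < 116073 → orbOk (k * 22) = true := between_extend orbOk 22 61380 116014 59 (o1u925) o1r926

theorem o1r927 : allRange orbOk 22 116073 59 = true := by decide +kernel
theorem o1u927 : ∀ k, 61380 ≤ k → k < 116132 → orbOk (k * 22) = true := between_extend orbOk 22 61380 116073 59 (o1u926) o1r927

theorem o1r928 : allRange orbOk 22 116132 59 = true := by decide +kernel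
theorem o1u928 : ∀ k, 61380 ≤ k → k < 116191 → orbOk (k * 22) = true := between_extend orbOk 22 61380 116132 59 (o1u927) o1r928

theorem o1r929 : allRange orbOk 22 116191 59 = true := by decide +kernel
theorem o1u929 : ∀ k, 61380 ≤ k → k < 116250 → orbOk (k * 22) = true := between_extend orbOk 22 61380 116191 59 (o1u928) o1r929

theorem o1r930 : allRange orbOk 22 116250 59 = true := by decide +kernel
theorem o1u930 : ∀ k, 61380 ≤ k → k < 116309 → orbOk (k * 22) = true := between_extend orbOk 22 61380 116250 59 (o1u929) o1r930

theorem o1r931 : allRange orbOk 22 116309 59 = true := by decide +kernel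
theorem o1u931 : ∀ k, 61380 ≤ k → k < 116368 → orbOk (k * 22) = true := between_extend orbOk 22 61380 116309 59 (o1u930) o1r931

theorem o1r932 : allRange orbOk 22 116368 59 = true := by decide +kernel
theorem o1u932 : ∀ k, 61380 ≤ k → k < 116427 → orbOk (k * 22) = true := between_extend orbOk 22 61380 116368 59 (o1u931) o1r932

theorem o1r933 : allRange orbOk 22 116427 59 = true := by decide +kernel
theorem o1u933 : ∀ k, 61380 ≤ k → k < 116486 → orbOk (k * 22) = true := between_extend orbOk 22 61380 116427 59 (o1u932) o1r933

theorem o1r934 : allRange orbOk 22 116486 59 = true := by decide +kernel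
theorem o1u934 : ∀ k, 61380 ≤ k → k < 116545 → orbOk (k * 22) = true := between_extend orbOk 22 61380 116486 59 (o1u933) o1r934

theorem o1r935 : allRange orbOk 22 116545 59 = true := by decide +kernel
theorem o1u935 : ∀ k, 61380 ≤ k → k < 116604 → orbOk (k * 22) = true := between_extend orbOk 22 61380 116545 59 (o1u934) o1r935

theorem o1r936 : allRange orbOk 22 116604 59 = true := by decide +kernel
theorem o1u936 : ∀ k, 61380 ≤ k → k < 116663 → orbOk (k * 22) = true := between_extend orbOk 22 61380 116604 59 (o1u935) o1r936

theorem o1r937 : allRange orbOk 22 116663 59 = true := by decide +kernel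
theorem o1u937 : ∀ k, 61380 ≤ k → k < 116722 → orbOk (k * 22) = true := between_extend orbOk 22 61380 116663 59 (o1u936) o1r937

theorem o1r938 : allRange orbOk 22 116722 59 = true := by decide +kernel
theorem o1u938 : ∀ k, 61380 ≤ k → k < 116781 → orbOk (k * 22) = true := between_extend orbOk 22 61380 116722 59 (o1u937) o1r938

theorem o1r939 : allRange orbOk 22 116781 59 = true := by decide +kernel
theorem o1u939 : ∀ k, 61380 ≤ k → k < 116840 → orbOk (k * 22) = true := between_extend orbOk 22 61380 116781 59 (o1u938) o1r939

theorem o1r940 : allRange orbOk 22 116840 59 = true := by decide +kernel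
theorem o1u940 : ∀ k, 61380 ≤ k → k < 116899 → orbOk (k * 22) = true := between_extend orbOk 22 61380 116840 59 (o1u939) o1r940

theorem o1r941 : allRange orbOk 22 116899 59 = true := by decide +kernel
theorem o1u941 : ∀ k, 61380 ≤ k → k < 116958 → orbOk (k * 22) = true := between_extend orbOk 22 61380 116899 59 (o1u940) o1r941

theorem o1r942 : allRange orbOk 22 116958 59 = true := by decide +kernel
theorem o1u942 : ∀ k, 61380 ≤ k → k < 117017 → orbOk (k * 22) = true := between_extend orbOk 22 61380 116958 59 (o1u941) o1r942

theorem o1r943 : allRange orbOk 22 117017 59 = true := by decide +kernel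
theorem o1u943 : ∀ k, 61380 ≤ k → k < 117076 → orbOk (k * 22) = true := between_extend orbOk 22 61380 117017 59 (o1u942) o1r943

theorem o1r944 : allRange orbOk 22 117076 59 = true := by decide +kernel
theorem o1u944 : ∀ k, 61380 ≤ k → k < 117135 → orbOk (k * 22) = true := between_extend orbOk 22 61380 117076 59 (o1u943) o1r944

theorem o1r945 : allRange orbOk 22 117135 59 = true := by decide +kernel
theorem o1u945 : ∀ k, 61380 ≤ k → k < 117194 → orbOk (k * 22) = true := between_extend orbOk 22 61380 117135 59 (o1u944) o1r945

theorem o1r946 : allRange orbOk 22 117194 59 = true := by decide +kernel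
theorem o1u946 : ∀ k, 61380 ≤ k → k < 117253 → orbOk (k * 22) = true := between_extend orbOk 22 61380 117194 59 (o1u945) o1r946

theorem o1r947 : allRange orbOk 22 117253 59 = true := by decide +kernel
theorem o1u947 : ∀ k, 61380 ≤ k → k < 117312 → orbOk (k * 22) = true := between_extend orbOk 22 61380 117253 59 (o1u946) o1r947

theorem o1r948 : allRange orbOk 22 117312 59 = true := by decide +kernel
theorem o1u948 : ∀ k, 61380 ≤ k → k < 117371 → orbOk (k * 22) = true := between_extend orbOk 22 61380 117312 59 (o1u947) o1r948

theorem o1r949 : allRange orbOk 22 117371 59 = true := by decide +kernel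
theorem o1u949 : ∀ k, 61380 ≤ k → k < 117430 → orbOk (k * 22) = true := between_extend orbOk 22 61380 117371 59 (o1u948) o1r949

theorem o1r950 : allRange orbOk 22 117430 59 = true := by decide +kernel
theorem o1u950 : ∀ k, 61380 ≤ k → k < 117489 → orbOk (k * 22) = true := between_extend orbOk 22 61380 117430 59 (o1u949) o1r950

theorem o1r951 : allRange orbOk 22 117489 59 = true := by decide +kernel
theorem o1u951 : ∀ k, 61380 ≤ k → k < 117548 → orbOk (k * 22) = true := between_extend orbOk 22 61380 117489 59 (o1u950) o1r951

theorem o1r952 : allRange orbOk 22 117548 59 = true := by decide +kernel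
theorem o1u952 : ∀ k, 61380 ≤ k → k < 117607 → orbOk (k * 22) = true := between_extend orbOk 22 61380 117548 59 (o1u951) o1r952

theorem o1r953 : allRange orbOk 22 117607 59 = true := by decide +kernel
theorem o1u953 : ∀ k, 61380 ≤ k → k < 117666 → orbOk (k * 22) = true := between_extend orbOk 22 61380 117607 59 (o1u952) o1r953

theorem o1r954 : allRange orbOk 22 117666 59 = true := by decide +kernel
theorem o1u954 : ∀ k, 61380 ≤ k → k < 117725 → orbOk (k * 22) = true := between_extend orbOk 22 61380 117666 59 (o1u953) o1r954

theorem o1r955 : allRange orbOk 22 117725 59 = true := by decide +kernel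
theorem o1u955 : ∀ k, 61380 ≤ k → k < 117784 → orbOk (k * 22) = true := between_extend orbOk 22 61380 117725 59 (o1u954) o1r955

theorem o1r956 : allRange orbOk 22 117784 59 = true := by decide +kernel
theorem o1u956 : ∀ k, 61380 ≤ k → k < 117843 → orbOk (k * 22) = true := between_extend orbOk 22 61380 117784 59 (o1u955) o1r956

theorem o1r957 : allRange orbOk 22 117843 59 = true := by decide +kernel
theorem o1u957 : ∀ k, 61380 ≤ k → k < 117902 → orbOk (k * 22) = true := between_extend orbOk 22 61380 117843 59 (o1u956) o1r957

theorem o1r958 : allRange orbOk 22 117902 59 = true := by decide +kernel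
theorem o1u958 : ∀ k, 61380 ≤ k → k < 117961 → orbOk (k * 22) = true := between_extend orbOk 22 61380 117902 59 (o1u957) o1r958

theorem o1r959 : allRange orbOk 22 117961 59 = true := by decide +kernel
theorem o1u959 : ∀ k, 61380 ≤ k → k < 118020 → orbOk (k * 22) = true := between_extend orbOk 22 61380 117961 59 (o1u958) o1r959

theorem o1r960 : allRange orbOk 22 118020 59 = true := by decide +kernel
theorem o1u960 : ∀ k, 61380 ≤ k → k < 118079 → orbOk (k * 22) = true := between_extend orbOk 22 61380 118020 59 (o1u959) o1r960

theorem o1r961 : allRange orbOk 22 118079 59 = true := by decide +kernel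
theorem o1u961 : ∀ k, 61380 ≤ k → k < 118138 → orbOk (k * 22) = true := between_extend orbOk 22 61380 118079 59 (o1u960) o1r961

theorem o1r962 : allRange orbOk 22 118138 59 = true := by decide +kernel
theorem o1u962 : ∀ k, 61380 ≤ k → k < 118197 → orbOk (k * 22) = true := between_extend orbOk 22 61380 118138 59 (o1u961) o1r962

theorem o1r963 : allRange orbOk 22 118197 59 = true := by decide +kernel
theorem o1u963 : ∀ k, 61380 ≤ k → k < 118256 → orbOk (k * 22) = true := between_extend orbOk 22 61380 118197 59 (o1u962) o1r963

theorem o1r964 : allRange orbOk 22 118256 59 = true := by decide +kernel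
theorem o1u964 : ∀ k, 61380 ≤ k → k < 118315 → orbOk (k * 22) = true := between_extend orbOk 22 61380 118256 59 (o1u963) o1r964

theorem o1r965 : allRange orbOk 22 118315 59 = true := by decide +kernel
theorem o1u965 : ∀ k, 61380 ≤ k → k < 118374 → orbOk (k * 22) = true := between_extend orbOk 22 61380 118315 59 (o1u964) o1r965

theorem o1r966 : allRange orbOk 22 118374 59 = true := by decide +kernel
theorem o1u966 : ∀ k, 61380 ≤ k → k < 118433 → orbOk (k * 22) = true := between_extend orbOk 22 61380 118374 59 (o1u965) o1r966

theorem o1r967 : allRange orbOk 22 118433 59 = true := by decide +kernel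
theorem o1u967 : ∀ k, 61380 ≤ k → k < 118492 → orbOk (k * 22) = true := between_extend orbOk 22 61380 118433 59 (o1u966) o1r967

theorem o1r968 : allRange orbOk 22 118492 59 = true := by decide +kernel
theorem o1u968 : ∀ k, 61380 ≤ k → k < 118551 → orbOk (k * 22) = true := between_extend orbOk 22 61380 118492 59 (o1u967) o1r968

theorem o1r969 : allRange orbOk 22 118551 59 = true := by decide +kernel
theorem o1u969 : ∀ k, 61380 ≤ k → k < 118610 → orbOk (k * 22) = true := between_extend orbOk 22 61380 118551 59 (o1u968) o1r969

theorem o1r970 : allRange orbOk 22 118610 59 = true := by decide +kernel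
theorem o1u970 : ∀ k, 61380 ≤ k → k < 118669 → orbOk (k * 22) = true := between_extend orbOk 22 61380 118610 59 (o1u969) o1r970

theorem o1r971 : allRange orbOk 22 118669 59 = true := by decide +kernel
theorem o1u971 : ∀ k, 61380 ≤ k → k < 118728 → orbOk (k * 22) = true := between_extend orbOk 22 61380 118669 59 (o1u970) o1r971

theorem o1r972 : allRange orbOk 22 118728 59 = true := by decide +kernel
theorem o1u972 : ∀ k, 61380 ≤ k → k < 118787 → orbOk (k * 22) = true := between_extend orbOk 22 61380 118728 59 (o1u971) o1r972

theorem o1r973 : allRange orbOk 22 118787 59 = true := by decide +kernel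
theorem o1u973 : ∀ k, 61380 ≤ k → k < 118846 → orbOk (k * 22) = true := between_extend orbOk 22 61380 118787 59 (o1u972) o1r973

theorem o1r974 : allRange orbOk 22 118846 59 = true := by decide +kernel
theorem o1u974 : ∀ k, 61380 ≤ k → k < 118905 → orbOk (k * 22) = true := between_extend orbOk 22 61380 118846 59 (o1u973) o1r974

theorem o1r975 : allRange orbOk 22 118905 59 = true := by decide +kernel
theorem o1u975 : ∀ k, 61380 ≤ k → k < 118964 → orbOk (k * 22) = true := between_extend orbOk 22 61380 118905 59 (o1u974) o1r975

theorem o1r976 : allRange orbOk 22 118964 59 = true := by decide +kernel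
theorem o1u976 : ∀ k, 61380 ≤ k → k < 119023 → orbOk (k * 22) = true := between_extend orbOk 22 61380 118964 59 (o1u975) o1r976

theorem o1r977 : allRange orbOk 22 119023 59 = true := by decide +kernel
theorem o1u977 : ∀ k, 61380 ≤ k → k < 119082 → orbOk (k * 22) = true := between_extend orbOk 22 61380 119023 59 (o1u976) o1r977

theorem o1r978 : allRange orbOk 22 119082 59 = true := by decide +kernel
theorem o1u978 : ∀ k, 61380 ≤ k → k < 119141 → orbOk (k * 22) = true := between_extend orbOk 22 61380 119082 59 (o1u977) o1r978

theorem o1r979 : allRange orbOk 22 119141 59 = true := by decide +kernel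
theorem o1u979 : ∀ k, 61380 ≤ k → k < 119200 → orbOk (k * 22) = true := between_extend orbOk 22 61380 119141 59 (o1u978) o1r979

theorem o1r980 : allRange orbOk 22 119200 59 = true := by decide +kernel
theorem o1u980 : ∀ k, 61380 ≤ k → k < 119259 → orbOk (k * 22) = true := between_extend orbOk 22 61380 119200 59 (o1u979) o1r980

theorem o1r981 : allRange orbOk 22 119259 59 = true := by decide +kernel
theorem o1u981 : ∀ k, 61380 ≤ k → k < 119318 → orbOk (k * 22) = true := between_extend orbOk 22 61380 119259 59 (o1u980) o1r981

theorem o1r982 : allRange orbOk 22 119318 59 = true := by decide +kernel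
theorem o1u982 : ∀ k, 61380 ≤ k → k < 119377 → orbOk (k * 22) = true := between_extend orbOk 22 61380 119318 59 (o1u981) o1r982

theorem o1r983 : allRange orbOk 22 119377 59 = true := by decide +kernel
theorem o1u983 : ∀ k, 61380 ≤ k → k < 119436 → orbOk (k * 22) = true := between_extend orbOk 22 61380 119377 59 (o1u982) o1r983

theorem o1r984 : allRange orbOk 22 119436 59 = true := by decide +kernel
theorem o1u984 : ∀ k, 61380 ≤ k → k < 119495 → orbOk (k * 22) = true := between_extend orbOk 22 61380 119436 59 (o1u983) o1r984

theorem o1r985 : allRange orbOk 22 119495 59 = true := by decide +kernel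
theorem o1u985 : ∀ k, 61380 ≤ k → k < 119554 → orbOk (k * 22) = true := between_extend orbOk 22 61380 119495 59 (o1u984) o1r985

theorem o1r986 : allRange orbOk 22 119554 59 = true := by decide +kernel
theorem o1u986 : ∀ k, 61380 ≤ k → k < 119613 → orbOk (k * 22) = true := between_extend orbOk 22 61380 119554 59 (o1u985) o1r986

theorem o1r987 : allRange orbOk 22 119613 59 = true := by decide +kernel
theorem o1u987 : ∀ k, 61380 ≤ k → k < 119672 → orbOk (k * 22) = true := between_extend orbOk 22 61380 119613 59 (o1u986) o1r987

theorem o1r988 : allRange orbOk 22 119672 59 = true := by decide +kernel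
theorem o1u988 : ∀ k, 61380 ≤ k → k < 119731 → orbOk (k * 22) = true := between_extend orbOk 22 61380 119672 59 (o1u987) o1r988

theorem o1r989 : allRange orbOk 22 119731 59 = true := by decide +kernel
theorem o1u989 : ∀ k, 61380 ≤ k → k < 119790 → orbOk (k * 22) = true := between_extend orbOk 22 61380 119731 59 (o1u988) o1r989

theorem o1r990 : allRange orbOk 22 119790 59 = true := by decide +kernel
theorem o1u990 : ∀ k, 61380 ≤ k → k < 119849 → orbOk (k * 22) = true := between_extend orbOk 22 61380 119790 59 (o1u989) o1r990

theorem o1r991 : allRange orbOk 22 119849 59 = true := by decide +kernel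
theorem o1u991 : ∀ k, 61380 ≤ k → k < 119908 → orbOk (k * 22) = true := between_extend orbOk 22 61380 119849 59 (o1u990) o1r991

theorem o1r992 : allRange orbOk 22 119908 59 = true := by decide +kernel
theorem o1u992 : ∀ k, 61380 ≤ k → k < 119967 → orbOk (k * 22) = true := between_extend orbOk 22 61380 119908 59 (o1u991) o1r992

theorem o1r993 : allRange orbOk 22 119967 59 = true := by decide +kernel
theorem o1u993 : ∀ k, 61380 ≤ k → k < 120026 → orbOk (k * 22) = true := between_extend orbOk 22 61380 119967 59 (o1u992) o1r993

theorem o1r994 : allRange orbOk 22 120026 59 = true := by decide +kernel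
theorem o1u994 : ∀ k, 61380 ≤ k → k < 120085 → orbOk (k * 22) = true := between_extend orbOk 22 61380 120026 59 (o1u993) o1r994

theorem o1r995 : allRange orbOk 22 120085 59 = true := by decide +kernel
theorem o1u995 : ∀ k, 61380 ≤ k → k < 120144 → orbOk (k * 22) = true := between_extend orbOk 22 61380 120085 59 (o1u994) o1r995

theorem o1r996 : allRange orbOk 22 120144 59 = true := by decide +kernel
theorem o1u996 : ∀ k, 61380 ≤ k → k < 120203 → orbOk (k * 22) = true := between_extend orbOk 22 61380 120144 59 (o1u995) o1r996

theorem o1r997 : allRange orbOk 22 120203 59 = true := by decide +kernel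
theorem o1u997 : ∀ k, 61380 ≤ k → k < 120262 → orbOk (k * 22) = true := between_extend orbOk 22 61380 120203 59 (o1u996) o1r997

theorem o1r998 : allRange orbOk 22 120262 59 = true := by decide +kernel
theorem o1u998 : ∀ k, 61380 ≤ k → k < 120321 → orbOk (k * 22) = true := between_extend orbOk 22 61380 120262 59 (o1u997) o1r998

theorem o1r999 : allRange orbOk 22 120321 59 = true := by decide +kernel
theorem o1u999 : ∀ k, 61380 ≤ k → k < 120380 → orbOk (k * 22) = true := between_extend orbOk 22 61380 120321 59 (o1u998) o1r999

theorem o1r1000 : allRange orbOk 22 120380 59 = true := by decide +kernel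
theorem o1u1000 : ∀ k, 61380 ≤ k → k < 120439 → orbOk (k * 22) = true := between_extend orbOk 22 61380 120380 59 (o1u999) o1r1000

theorem o1r1001 : allRange orbOk 22 120439 59 = true := by decide +kernel
theorem o1u1001 : ∀ k, 61380 ≤ k → k < 120498 → orbOk (k * 22) = true := between_extend orbOk 22 61380 120439 59 (o1u1000) o1r1001

theorem o1r1002 : allRange orbOk 22 120498 59 = true := by decide +kernel
theorem o1u1002 : ∀ k, 61380 ≤ k → k < 120557 → orbOk (k * 22) = true := between_extend orbOk 22 61380 120498 59 (o1u1001) o1r1002

theorem o1r1003 : allRange orbOk 22 120557 59 = true := by decide +kernel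
theorem o1u1003 : ∀ k, 61380 ≤ k → k < 120616 → orbOk (k * 22) = true := between_extend orbOk 22 61380 120557 59 (o1u1002) o1r1003

theorem o1r1004 : allRange orbOk 22 120616 59 = true := by decide +kernel
theorem o1u1004 : ∀ k, 61380 ≤ k → k < 120675 → orbOk (k * 22) = true := between_extend orbOk 22 61380 120616 59 (o1u1003) o1r1004

theorem o1r1005 : allRange orbOk 22 120675 59 = true := by decide +kernel
theorem o1u1005 : ∀ k, 61380 ≤ k → k < 120734 → orbOk (k * 22) = true := between_extend orbOk 22 61380 120675 59 (o1u1004) o1r1005

theorem o1r1006 : allRange orbOk 22 120734 59 = true := by decide +kernel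
theorem o1u1006 : ∀ k, 61380 ≤ k → k < 120793 → orbOk (k * 22) = true := between_extend orbOk 22 61380 120734 59 (o1u1005) o1r1006

theorem o1r1007 : allRange orbOk 22 120793 59 = true := by decide +kernel
theorem o1u1007 : ∀ k, 61380 ≤ k → k < 120852 → orbOk (k * 22) = true := between_extend orbOk 22 61380 120793 59 (o1u1006) o1r1007

theorem o1r1008 : allRange orbOk 22 120852 59 = true := by decide +kernel
theorem o1u1008 : ∀ k, 61380 ≤ k → k < 120911 → orbOk (k * 22) = true := between_extend orbOk 22 61380 120852 59 (o1u1007) o1r1008

theorem o1r1009 : allRange orbOk 22 120911 59 = true := by decide +kernel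
theorem o1u1009 : ∀ k, 61380 ≤ k → k < 120970 → orbOk (k * 22) = true := between_extend orbOk 22 61380 120911 59 (o1u1008) o1r1009

theorem o1r1010 : allRange orbOk 22 120970 59 = true := by decide +kernel
theorem o1u1010 : ∀ k, 61380 ≤ k → k < 121029 → orbOk (k * 22) = true := between_extend orbOk 22 61380 120970 59 (o1u1009) o1r1010

theorem o1r1011 : allRange orbOk 22 121029 59 = true := by decide +kernel
theorem o1u1011 : ∀ k, 61380 ≤ k → k < 121088 → orbOk (k * 22) = true := between_extend orbOk 22 61380 121029 59 (o1u1010) o1r1011

theorem o1r1012 : allRange orbOk 22 121088 59 = true := by decide +kernel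
theorem o1u1012 : ∀ k, 61380 ≤ k → k < 121147 → orbOk (k * 22) = true := between_extend orbOk 22 61380 121088 59 (o1u1011) o1r1012

theorem o1r1013 : allRange orbOk 22 121147 59 = true := by decide +kernel
theorem o1u1013 : ∀ k, 61380 ≤ k → k < 121206 → orbOk (k * 22) = true := between_extend orbOk 22 61380 121147 59 (o1u1012) o1r1013

theorem o1r1014 : allRange orbOk 22 121206 59 = true := by decide +kernel
theorem o1u1014 : ∀ k, 61380 ≤ k → k < 121265 → orbOk (k * 22) = true := between_extend orbOk 22 61380 121206 59 (o1u1013) o1r1014

theorem o1r1015 : allRange orbOk 22 121265 59 = true := by decide +kernel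
theorem o1u1015 : ∀ k, 61380 ≤ k → k < 121324 → orbOk (k * 22) = true := between_extend orbOk 22 61380 121265 59 (o1u1014) o1r1015

theorem o1r1016 : allRange orbOk 22 121324 59 = true := by decide +kernel
theorem o1u1016 : ∀ k, 61380 ≤ k → k < 121383 → orbOk (k * 22) = true := between_extend orbOk 22 61380 121324 59 (o1u1015) o1r1016

theorem o1r1017 : allRange orbOk 22 121383 59 = true := by decide +kernel
theorem o1u1017 : ∀ k, 61380 ≤ k → k < 121442 → orbOk (k * 22) = true := between_extend orbOk 22 61380 121383 59 (o1u1016) o1r1017

theorem o1r1018 : allRange orbOk 22 121442 59 = true := by decide +kernel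
theorem o1u1018 : ∀ k, 61380 ≤ k → k < 121501 → orbOk (k * 22) = true := between_extend orbOk 22 61380 121442 59 (o1u1017) o1r1018

theorem o1r1019 : allRange orbOk 22 121501 59 = true := by decide +kernel
theorem o1u1019 : ∀ k, 61380 ≤ k → k < 121560 → orbOk (k * 22) = true := between_extend orbOk 22 61380 121501 59 (o1u1018) o1r1019

theorem o1r1020 : allRange orbOk 22 121560 59 = true := by decide +kernel
theorem o1u1020 : ∀ k, 61380 ≤ k → k < 121619 → orbOk (k * 22) = true := between_extend orbOk 22 61380 121560 59 (o1u1019) o1r1020

theorem o1r1021 : allRange orbOk 22 121619 59 = true := by decide +kernel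
theorem o1u1021 : ∀ k, 61380 ≤ k → k < 121678 → orbOk (k * 22) = true := between_extend orbOk 22 61380 121619 59 (o1u1020) o1r1021

theorem o1r1022 : allRange orbOk 22 121678 59 = true := by decide +kernel
theorem o1u1022 : ∀ k, 61380 ≤ k → k < 121737 → orbOk (k * 22) = true := between_extend orbOk 22 61380 121678 59 (o1u1021) o1r1022

theorem o1r1023 : allRange orbOk 22 121737 59 = true := by decide +kernel
theorem o1u1023 : ∀ k, 61380 ≤ k → k < 121796 → orbOk (k * 22) = true := between_extend orbOk 22 61380 121737 59 (o1u1022) o1r1023

theorem o1r1024 : allRange orbOk 22 121796 59 = true := by decide +kernel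
theorem o1u1024 : ∀ k, 61380 ≤ k → k < 121855 → orbOk (k * 22) = true := between_extend orbOk 22 61380 121796 59 (o1u1023) o1r1024

theorem o1r1025 : allRange orbOk 22 121855 59 = true := by decide +kernel
theorem o1u1025 : ∀ k, 61380 ≤ k → k < 121914 → orbOk (k * 22) = true := between_extend orbOk 22 61380 121855 59 (o1u1024) o1r1025

theorem o1r1026 : allRange orbOk 22 121914 59 = true := by decide +kernel
theorem o1u1026 : ∀ k, 61380 ≤ k → k < 121973 → orbOk (k * 22) = true := between_extend orbOk 22 61380 121914 59 (o1u1025) o1r1026

theorem o1r1027 : allRange orbOk 22 121973 59 = true := by decide +kernel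
theorem o1u1027 : ∀ k, 61380 ≤ k → k < 122032 → orbOk (k * 22) = true := between_extend orbOk 22 61380 121973 59 (o1u1026) o1r1027

theorem o1r1028 : allRange orbOk 22 122032 59 = true := by decide +kernel
theorem o1u1028 : ∀ k, 61380 ≤ k → k < 122091 → orbOk (k * 22) = true := between_extend orbOk 22 61380 122032 59 (o1u1027) o1r1028

theorem o1r1029 : allRange orbOk 22 122091 59 = true := by decide +kernel
theorem o1u1029 : ∀ k, 61380 ≤ k → k < 122150 → orbOk (k * 22) = true := between_extend orbOk 22 61380 122091 59 (o1u1028) o1r1029

theorem o1r1030 : allRange orbOk 22 122150 59 = true := by decide +kernel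
theorem o1u1030 : ∀ k, 61380 ≤ k → k < 122209 → orbOk (k * 22) = true := between_extend orbOk 22 61380 122150 59 (o1u1029) o1r1030

theorem o1r1031 : allRange orbOk 22 122209 59 = true := by decide +kernel
theorem o1u1031 : ∀ k, 61380 ≤ k → k < 122268 → orbOk (k * 22) = true := between_extend orbOk 22 61380 122209 59 (o1u1030) o1r1031

theorem o1r1032 : allRange orbOk 22 122268 59 = true := by decide +kernel
theorem o1u1032 : ∀ k, 61380 ≤ k → k < 122327 → orbOk (k * 22) = true := between_extend orbOk 22 61380 122268 59 (o1u1031) o1r1032

theorem o1r1033 : allRange orbOk 22 122327 59 = true := by decide +kernel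
theorem o1u1033 : ∀ k, 61380 ≤ k → k < 122386 → orbOk (k * 22) = true := between_extend orbOk 22 61380 122327 59 (o1u1032) o1r1033

theorem o1r1034 : allRange orbOk 22 122386 59 = true := by decide +kernel
theorem o1u1034 : ∀ k, 61380 ≤ k → k < 122445 → orbOk (k * 22) = true := between_extend orbOk 22 61380 122386 59 (o1u1033) o1r1034

theorem o1r1035 : allRange orbOk 22 122445 59 = true := by decide +kernel
theorem o1u1035 : ∀ k, 61380 ≤ k → k < 122504 → orbOk (k * 22) = true := between_extend orbOk 22 61380 122445 59 (o1u1034) o1r1035

theorem o1r1036 : allRange orbOk 22 122504 59 = true := by decide +kernel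
theorem o1u1036 : ∀ k, 61380 ≤ k → k < 122563 → orbOk (k * 22) = true := between_extend orbOk 22 61380 122504 59 (o1u1035) o1r1036

theorem o1r1037 : allRange orbOk 22 122563 59 = true := by decide +kernel
theorem o1u1037 : ∀ k, 61380 ≤ k → k < 122622 → orbOk (k * 22) = true := between_extend orbOk 22 61380 122563 59 (o1u1036) o1r1037

theorem o1r1038 : allRange orbOk 22 122622 59 = true := by decide +kernel
theorem o1u1038 : ∀ k, 61380 ≤ k → k < 122681 → orbOk (k * 22) = true := between_extend orbOk 22 61380 122622 59 (o1u1037) o1r1038

theorem o1r1039 : allRange orbOk 22 122681 59 = true := by decide +kernel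
theorem o1u1039 : ∀ k, 61380 ≤ k → k < 122740 → orbOk (k * 22) = true := between_extend orbOk 22 61380 122681 59 (o1u1038) o1r1039

theorem o1r1040 : allRange orbOk 22 122740 20 = true := by decide +kernel
theorem o1u1040 : ∀ k, 61380 ≤ k → k < 122760 → orbOk (k * 22) = true := between_extend orbOk 22 61380 122740 20 (o1u1039) o1r1040

theorem o1 : ∀ k, 61380 ≤ k → k < 122760 → orbOk (k * 22) = true := o1u1040

end Cfsg.Agent.Lib.Helper28_S1692
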