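import Cfsg.Agent.Lib.Helper28_S1692Def

set_option autoImplicit false
set_option linter.constructorNameAsVariable false
set_option Elab.async false

namespace Cfsg.Agent.Lib.Helper28_S1692

open Cfsg.Agent.Lib.Helper28_CosetPerm

theorem p1r0 : allRange pointOk 22 15345 9 = true := by decide +kernel
theorem p1u0 : ∀ k, 15345 ≤ k → k < 15354 → pointOk (k * 22) = true := between_extend pointOk 22 15345 15345 9 (between_start pointOk 22 15345) p1r0

theorem p1r1 : allRange pointOk 22 15354 9 = true := by decide +kernel
theorem p1u1 : ∀ k, 15345 ≤ k → k < 15363 → pointOk (k * 22) = true := between_extend pointOk 22 15345 15354 9 (p1u0) p1r1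

theorem p1r2 : allRange pointOk 22 15363 9 = true := by decide +kernel
theorem p1u2 : ∀ k, 15345 ≤ k → k < 15372 → pointOk (k * 22) = true := between_extend pointOk 22 15345 15363 9 (p1u1) p1r2

theorem p1r3 : allRange pointOk 22 15372 9 = true := by decide +kernel
theorem p1u3 : ∀ k, 15345 ≤ k → k < 15381 → pointOk (k * 22) = true := between_extend pointOk 22 15345 15372 9 (p1u2) p1r3

theorem p1r4 : allRange pointOk 22 15381 9 = true := by decide +kernel
theorem p1u4 : ∀ k, 15345 ≤ k → k < 15390 → pointOk (k * 22) = true := between_extend pointOk 22 15345 15381 9 (p1u3) p1r4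

theorem p1r5 : allRange pointOk 22 15390 9 = true := by decide +kernel
theorem p1u5 : ∀ k, 15345 ≤ k → k < 15399 → pointOk (k * 22) = true := between_extend pointOk 22 15345 15390 9 (p1u4) p1r5

theorem p1r6 : allRange pointOk 22 15399 9 = true := by decide +kernel
theorem p1u6 : ∀ k, 15345 ≤ k → k < 15408 → pointOk (k * 22) = true := between_extend pointOk 22 15345 15399 9 (p1u5) p1r6

theorem p1r7 : allRange pointOk 22 15408 9 = true := by decide +kernel
theorem p1u7 : ∀ k, 15345 ≤ k → k < 15417 → pointOk (k * 22) = true := between_extend pointOk 22 15345 15408 9 (p1u6) p1r7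

theorem p1r8 : allRange pointOk 22 15417 9 = true := by decide +kernel
theorem p1u8 : ∀ k, 15345 ≤ k → k < 15426 → pointOk (k * 22) = true := between_extend pointOk 22 15345 15417 9 (p1u7) p1r8

theorem p1r9 : allRange pointOk 22 15426 9 = true := by decide +kernel
theorem p1u9 : ∀ k, 15345 ≤ k → k < 15435 → pointOk (k * 22) = true := between_extend pointOk 22 15345 15426 9 (p1u8) p1r9

theorem p1r10 : allRange pointOk 22 15435 9 = true := by decide +kernel
theorem p1u10 : ∀ k, 15345 ≤ k → k < 15444 → pointOk (k * 22) = true := between_extend pointOk 22 15345 15435 9 (p1u9) p1r10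

theorem p1r11 : allRange pointOk 22 15444 9 = true := by decide +kernel
theorem p1u11 : ∀ k, 15345 ≤ k → k < 15453 → pointOk (k * 22) = true := between_extend pointOk 22 15345 15444 9 (p1u10) p1r11

theorem p1r12 : allRange pointOk 22 15453 9 = true := by decide +kernel
theorem p1u12 : ∀ k, 15345 ≤ k → k < 15462 → pointOk (k * 22) = true := between_extend pointOk 22 15345 15453 9 (p1u11) p1r12

theorem p1r13 : allRange pointOk 22 15462 9 = true := by decide +kernel
theorem p1u13 : ∀ k, 15345 ≤ k → k < 15471 → pointOk (k * 22) = true := between_extend pointOk 22 15345 15462 9 (p1u12) p1r13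

theorem p1r14 : allRange pointOk 22 15471 9 = true := by decide +kernel
theorem p1u14 : ∀ k, 15345 ≤ k → k < 15480 → pointOk (k * 22) = true := between_extend pointOk 22 15345 15471 9 (p1u13) p1r14

theorem p1r15 : allRange pointOk 22 15480 9 = true := by decide +kernel
theorem p1u15 : ∀ k, 15345 ≤ k → k < 15489 → pointOk (k * 22) = true := between_extend pointOk 22 15345 15480 9 (p1u14) p1r15

theorem p1r16 : allRange pointOk 22 15489 9 = true := by decide +kernel
theorem p1u16 : ∀ k, 15345 ≤ k → k < 15498 → pointOk (k * 22) = true := between_extend pointOk 22 15345 15489 9 (p1u15) p1r16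

theorem p1r17 : allRange pointOk 22 15498 9 = true := by decide +kernel
theorem p1u17 : ∀ k, 15345 ≤ k → k < 15507 → pointOk (k * 22) = true := between_extend pointOk 22 15345 15498 9 (p1u16) p1r17

theorem p1r18 : allRange pointOk 22 15507 9 = true := by decide +kernel
theorem p1u18 : ∀ k, 15345 ≤ k → k < 15516 → pointOk (k * 22) = true := between_extend pointOk 22 15345 15507 9 (p1u17) p1r18

theorem p1r19 : allRange pointOk 22 15516 9 = true := by decide +kernel
theorem p1u19 : ∀ k, 15345 ≤ k → k < 15525 → pointOk (k * 22) = true := between_extend pointOk 22 15345 15516 9 (p1u18) p1r19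

theorem p1r20 : allRange pointOk 22 15525 9 = true := by decide +kernel
theorem p1u20 : ∀ k, 15345 ≤ k → k < 15534 → pointOk (k * 22) = true := between_extend pointOk 22 15345 15525 9 (p1u19) p1r20

theorem p1r21 : allRange pointOk 22 15534 9 = true := by decide +kernel
theorem p1u21 : ∀ k, 15345 ≤ k → k < 15543 → pointOk (k * 22) = true := between_extend pointOk 22 15345 15534 9 (p1u20) p1r21

theorem p1r22 : allRange pointOk 22 15543 9 = true := by decide +kernel
theorem p1u22 : ∀ k, 15345 ≤ k → k < 15552 → pointOk (k * 22) = true := between_extend pointOk 22 15345 15543 9 (p1u21) p1r22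

theorem p1r23 : allRange pointOk 22 15552 9 = true := by decide +kernel
theorem p1u23 : ∀ k, 15345 ≤ k → k < 15561 → pointOk (k * 22) = true := between_extend pointOk 22 15345 15552 9 (p1u22) p1r23

theorem p1r24 : allRange pointOk 22 15561 9 = true := by decide +kernel
theorem p1u24 : ∀ k, 15345 ≤ k → k < 15570 → pointOk (k * 22) = true := between_extend pointOk 22 15345 15561 9 (p1u23) p1r24

theorem p1r25 : allRange pointOk 22 15570 9 = true := by decide +kernel
theorem p1u25 : ∀ k, 15345 ≤ k → k < 15579 → pointOk (k * 22) = true := between_extend pointOk 22 15345 15570 9 (p1u24) p1r25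

theorem p1r26 : allRange pointOk 22 15579 9 = true := by decide +kernel
theorem p1u26 : ∀ k, 15345 ≤ k → k < 15588 → pointOk (k * 22) = true := between_extend pointOk 22 15345 15579 9 (p1u25) p1r26

theorem p1r27 : allRange pointOk 22 15588 9 = true := by decide +kernel
theorem p1u27 : ∀ k, 15345 ≤ k → k < 15597 → pointOk (k * 22) = true := between_extend pointOk 22 15345 15588 9 (p1u26) p1r27

theorem p1r28 : allRange pointOk 22 15597 9 = true := by decide +kernel
theorem p1u28 : ∀ k, 15345 ≤ k → k < 15606 → pointOk (k * 22) = true := between_extend pointOk 22 15345 15597 9 (p1u27) p1r28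

theorem p1r29 : allRange pointOk 22 15606 9 = true := by decide +kernel
theorem p1u29 : ∀ k, 15345 ≤ k → k < 15615 → pointOk (k * 22) = true := between_extend pointOk 22 15345 15606 9 (p1u28) p1r29

theorem p1r30 : allRange pointOk 22 15615 9 = true := by decide +kernel
theorem p1u30 : ∀ k, 15345 ≤ k → k < 15624 → pointOk (k * 22) = true := between_extend pointOk 22 15345 15615 9 (p1u29) p1r30

theorem p1r31 : allRange pointOk 22 15624 9 = true := by decide +kernel
theorem p1u31 : ∀ k, 15345 ≤ k → k < 15633 → pointOk (k * 22) = true := between_extend pointOk 22 15345 15624 9 (p1u30) p1r31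

theorem p1r32 : allRange pointOk 22 15633 9 = true := by decide +kernel
theorem p1u32 : ∀ k, 15345 ≤ k → k < 15642 → pointOk (k * 22) = true := between_extend pointOk 22 15345 15633 9 (p1u31) p1r32

theorem p1r33 : allRange pointOk 22 15642 9 = true := by decide +kernel
theorem p1u33 : ∀ k, 15345 ≤ k → k < 15651 → pointOk (k * 22) = true := between_extend pointOk 22 15345 15642 9 (p1u32) p1r33

theorem p1r34 : allRange pointOk 22 15651 9 = true := by decide +kernel
theorem p1u34 : ∀ k, 15345 ≤ k → k < 15660 → pointOk (k * 22) = true := between_extend pointOk 22 15345 15651 9 (p1u33) p1r34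

theorem p1r35 : allRange pointOk 22 15660 9 = true := by decide +kernel
theorem p1u35 : ∀ k, 15345 ≤ k → k < 15669 → pointOk (k * 22) = true := between_extend pointOk 22 15345 15660 9 (p1u34) p1r35

theorem p1r36 : allRange pointOk 22 15669 9 = true := by decide +kernel
theorem p1u36 : ∀ k, 15345 ≤ k → k < 15678 → pointOk (k * 22) = true := between_extend pointOk 22 15345 15669 9 (p1u35) p1r36

theorem p1r37 : allRange pointOk 22 15678 9 = true := by decide +kernel
theorem p1u37 : ∀ k, 15345 ≤ k → k < 15687 → pointOk (k * 22) = true := between_extend pointOk 22 15345 15678 9 (p1u36) p1r37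

theorem p1r38 : allRange pointOk 22 15687 9 = true := by decide +kernel
theorem p1u38 : ∀ k, 15345 ≤ k → k < 15696 → pointOk (k * 22) = true := between_extend pointOk 22 15345 15687 9 (p1u37) p1r38

theorem p1r39 : allRange pointOk 22 15696 9 = true := by decide +kernel
theorem p1u39 : ∀ k, 15345 ≤ k → k < 15705 → pointOk (k * 22) = true := between_extend pointOk 22 15345 15696 9 (p1u38) p1r39

theorem p1r40 : allRange pointOk 22 15705 9 = true := by decide +kernel
theorem p1u40 : ∀ k, 15345 ≤ k → k < 15714 → pointOk (k * 22) = true := between_extend pointOk 22 15345 15705 9 (p1u39) p1r40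

theorem p1r41 : allRange pointOk 22 15714 9 = true := by decide +kernel
theorem p1u41 : ∀ k, 15345 ≤ k → k < 15723 → pointOk (k * 22) = true := between_extend pointOk 22 15345 15714 9 (p1u40) p1r41

theorem p1r42 : allRange pointOk 22 15723 9 = true := by decide +kernel
theorem p1u42 : ∀ k, 15345 ≤ k → k < 15732 → pointOk (k * 22) = true := between_extend pointOk 22 15345 15723 9 (p1u41) p1r42

theorem p1r43 : allRange pointOk 22 15732 9 = true := by decide +kernel
theorem p1u43 : ∀ k, 15345 ≤ k → k < 15741 → pointOk (k * 22) = true := between_extend pointOk 22 15345 15732 9 (p1u42) p1r43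

theorem p1r44 : allRange pointOk 22 15741 9 = true := by decide +kernel
theorem p1u44 : ∀ k, 15345 ≤ k → k < 15750 → pointOk (k * 22) = true := between_extend pointOk 22 15345 15741 9 (p1u43) p1r44

theorem p1r45 : allRange pointOk 22 15750 9 = true := by decide +kernel
theorem p1u45 : ∀ k, 15345 ≤ k → k < 15759 → pointOk (k * 22) = true := between_extend pointOk 22 15345 15750 9 (p1u44) p1r45

theorem p1r46 : allRange pointOk 22 15759 9 = true := by decide +kernel
theorem p1u46 : ∀ k, 15345 ≤ k → k < 15768 → pointOk (k * 22) = true := between_extend pointOk 22 15345 15759 9 (p1u45) p1r46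

theorem p1r47 : allRange pointOk 22 15768 9 = true := by decide +kernel
theorem p1u47 : ∀ k, 15345 ≤ k → k < 15777 → pointOk (k * 22) = true := between_extend pointOk 22 15345 15768 9 (p1u46) p1r47

theorem p1r48 : allRange pointOk 22 15777 9 = true := by decide +kernel
theorem p1u48 : ∀ k, 15345 ≤ k → k < 15786 → pointOk (k * 22) = true := between_extend pointOk 22 15345 15777 9 (p1u47) p1r48

theorem p1r49 : allRange pointOk 22 15786 9 = true := by decide +kernel
theorem p1u49 : ∀ k, 15345 ≤ k → k < 15795 → pointOk (k * 22) = true := between_extend pointOk 22 15345 15786 9 (p1u48) p1r49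

theorem p1r50 : allRange pointOk 22 15795 9 = true := by decide +kernel
theorem p1u50 : ∀ k, 15345 ≤ k → k < 15804 → pointOk (k * 22) = true := between_extend pointOk 22 15345 15795 9 (p1u49) p1r50

theorem p1r51 : allRange pointOk 22 15804 9 = true := by decide +kernel
theorem p1u51 : ∀ k, 15345 ≤ k → k < 15813 → pointOk (k * 22) = true := between_extend pointOk 22 15345 15804 9 (p1u50) p1r51

theorem p1r52 : allRange pointOk 22 15813 9 = true := by decide +kernel
theorem p1u52 : ∀ k, 15345 ≤ k → k < 15822 → pointOk (k * 22) = true := between_extend pointOk 22 15345 15813 9 (p1u51) p1r52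

theorem p1r53 : allRange pointOk 22 15822 9 = true := by decide +kernel
theorem p1u53 : ∀ k, 15345 ≤ k → k < 15831 → pointOk (k * 22) = true := between_extend pointOk 22 15345 15822 9 (p1u52) p1r53

theorem p1r54 : allRange pointOk 22 15831 9 = true := by decide +kernel
theorem p1u54 : ∀ k, 15345 ≤ k → k < 15840 → pointOk (k * 22) = true := between_extend pointOk 22 15345 15831 9 (p1u53) p1r54

theorem p1r55 : allRange pointOk 22 15840 9 = true := by decide +kernel
theorem p1u55 : ∀ k, 15345 ≤ k → k < 15849 → pointOk (k * 22) = true := between_extend pointOk 22 15345 15840 9 (p1u54) p1r55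

theorem p1r56 : allRange pointOk 22 15849 9 = true := by decide +kernel
theorem p1u56 : ∀ k, 15345 ≤ k → k < 15858 → pointOk (k * 22) = true := between_extend pointOk 22 15345 15849 9 (p1u55) p1r56

theorem p1r57 : allRange pointOk 22 15858 9 = true := by decide +kernel
theorem p1u57 : ∀ k, 15345 ≤ k → k < 15867 → pointOk (k * 22) = true := between_extend pointOk 22 15345 15858 9 (p1u56) p1r57

theorem p1r58 : allRange pointOk 22 15867 9 = true := by decide +kernel
theorem p1u58 : ∀ k, 15345 ≤ k → k < 15876 → pointOk (k * 22) = true := between_extend pointOk 22 15345 15867 9 (p1u57) p1r58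

theorem p1r59 : allRange pointOk 22 15876 9 = true := by decide +kernel
theorem p1u59 : ∀ k, 15345 ≤ k → k < 15885 → pointOk (k * 22) = true := between_extend pointOk 22 15345 15876 9 (p1u58) p1r59

theorem p1r60 : allRange pointOk 22 15885 9 = true := by decide +kernel
theorem p1u60 : ∀ k, 15345 ≤ k → k < 15894 → pointOk (k * 22) = true := between_extend pointOk 22 15345 15885 9 (p1u59) p1r60

theorem p1r61 : allRange pointOk 22 15894 9 = true := by decide +kernel
theorem p1u61 : ∀ k, 15345 ≤ k → k < 15903 → pointOk (k * 22) = true := between_extend pointOk 22 15345 15894 9 (p1u60) p1r61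

theorem p1r62 : allRange pointOk 22 15903 9 = true := by decide +kernel
theorem p1u62 : ∀ k, 15345 ≤ k → k < 15912 → pointOk (k * 22) = true := between_extend pointOk 22 15345 15903 9 (p1u61) p1r62

theorem p1r63 : allRange pointOk 22 15912 9 = true := by decide +kernel
theorem p1u63 : ∀ k, 15345 ≤ k → k < 15921 → pointOk (k * 22) = true := between_extend pointOk 22 15345 15912 9 (p1u62) p1r63

theorem p1r64 : allRange pointOk 22 15921 9 = true := by decide +kernel
theorem p1u64 : ∀ k, 15345 ≤ k → k < 15930 → pointOk (k * 22) = true := between_extend pointOk 22 15345 15921 9 (p1u63) p1r64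

theorem p1r65 : allRange pointOk 22 15930 9 = true := by decide +kernel
theorem p1u65 : ∀ k, 15345 ≤ k → k < 15939 → pointOk (k * 22) = true := between_extend pointOk 22 15345 15930 9 (p1u64) p1r65

theorem p1r66 : allRange pointOk 22 15939 9 = true := by decide +kernel
theorem p1u66 : ∀ k, 15345 ≤ k → k < 15948 → pointOk (k * 22) = true := between_extend pointOk 22 15345 15939 9 (p1u65) p1r66

theorem p1r67 : allRange pointOk 22 15948 9 = true := by decide +kernel
theorem p1u67 : ∀ k, 15345 ≤ k → k < 15957 → pointOk (k * 22) = true := between_extend pointOk 22 15345 15948 9 (p1u66) p1r67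

theorem p1r68 : allRange pointOk 22 15957 9 = true := by decide +kernel
theorem p1u68 : ∀ k, 15345 ≤ k → k < 15966 → pointOk (k * 22) = true := between_extend pointOk 22 15345 15957 9 (p1u67) p1r68

theorem p1r69 : allRange pointOk 22 15966 9 = true := by decide +kernel
theorem p1u69 : ∀ k, 15345 ≤ k → k < 15975 → pointOk (k * 22) = true := between_extend pointOk 22 15345 15966 9 (p1u68) p1r69

theorem p1r70 : allRange pointOk 22 15975 9 = true := by decide +kernel
theorem p1u70 : ∀ k, 15345 ≤ k → k < 15984 → pointOk (k * 22) = true := between_extend pointOk 22 15345 15975 9 (p1u69) p1r70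

theorem p1r71 : allRange pointOk 22 15984 9 = true := by decide +kernel
theorem p1u71 : ∀ k, 15345 ≤ k → k < 15993 → pointOk (k * 22) = true := between_extend pointOk 22 15345 15984 9 (p1u70) p1r71

theorem p1r72 : allRange pointOk 22 15993 9 = true := by decide +kernel
theorem p1u72 : ∀ k, 15345 ≤ k → k < 16002 → pointOk (k * 22) = true := between_extend pointOk 22 15345 15993 9 (p1u71) p1r72

theorem p1r73 : allRange pointOk 22 16002 9 = true := by decide +kernel
theorem p1u73 : ∀ k, 15345 ≤ k → k < 16011 → pointOk (k * 22) = true := between_extend pointOk 22 15345 16002 9 (p1u72) p1r73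

theorem p1r74 : allRange pointOk 22 16011 9 = true := by decide +kernel
theorem p1u74 : ∀ k, 15345 ≤ k → k < 16020 → pointOk (k * 22) = true := between_extend pointOk 22 15345 16011 9 (p1u73) p1r74

theorem p1r75 : allRange pointOk 22 16020 9 = true := by decide +kernel
theorem p1u75 : ∀ k, 15345 ≤ k → k < 16029 → pointOk (k * 22) = true := between_extend pointOk 22 15345 16020 9 (p1u74) p1r75

theorem p1r76 : allRange pointOk 22 16029 9 = true := by decide +kernel
theorem p1u76 : ∀ k, 15345 ≤ k → k < 16038 → pointOk (k * 22) = true := between_extend pointOk 22 15345 16029 9 (p1u75) p1r76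

theorem p1r77 : allRange pointOk 22 16038 9 = true := by decide +kernel
theorem p1u77 : ∀ k, 15345 ≤ k → k < 16047 → pointOk (k * 22) = true := between_extend pointOk 22 15345 16038 9 (p1u76) p1r77

theorem p1r78 : allRange pointOk 22 16047 9 = true := by decide +kernel
theorem p1u78 : ∀ k, 15345 ≤ k → k < 16056 → pointOk (k * 22) = true := between_extend pointOk 22 15345 16047 9 (p1u77) p1r78

theorem p1r79 : allRange pointOk 22 16056 9 = true := by decide +kernel
theorem p1u79 : ∀ k, 15345 ≤ k → k < 16065 → pointOk (k * 22) = true := between_extend pointOk 22 15345 16056 9 (p1u78) p1r79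

theorem p1r80 : allRange pointOk 22 16065 9 = true := by decide +kernel
theorem p1u80 : ∀ k, 15345 ≤ k → k < 16074 → pointOk (k * 22) = true := between_extend pointOk 22 15345 16065 9 (p1u79) p1r80

theorem p1r81 : allRange pointOk 22 16074 9 = true := by decide +kernel
theorem p1u81 : ∀ k, 15345 ≤ k → k < 16083 → pointOk (k * 22) = true := between_extend pointOk 22 15345 16074 9 (p1u80) p1r81

theorem p1r82 : allRange pointOk 22 16083 9 = true := by decide +kernel
theorem p1u82 : ∀ k, 15345 ≤ k → k < 16092 → pointOk (k * 22) = true := between_extend pointOk 22 15345 16083 9 (p1u81) p1r82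

theorem p1r83 : allRange pointOk 22 16092 9 = true := by decide +kernel
theorem p1u83 : ∀ k, 15345 ≤ k → k < 16101 → pointOk (k * 22) = true := between_extend pointOk 22 15345 16092 9 (p1u82) p1r83

theorem p1r84 : allRange pointOk 22 16101 9 = true := by decide +kernel
theorem p1u84 : ∀ k, 15345 ≤ k → k < 16110 → pointOk (k * 22) = true := between_extend pointOk 22 15345 16101 9 (p1u83) p1r84

theorem p1r85 : allRange pointOk 22 16110 9 = true := by decide +kernel
theorem p1u85 : ∀ k, 15345 ≤ k → k < 16119 → pointOk (k * 22) = true := between_extend pointOk 22 15345 16110 9 (p1u84) p1r85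

theorem p1r86 : allRange pointOk 22 16119 9 = true := by decide +kernel
theorem p1u86 : ∀ k, 15345 ≤ k → k < 16128 → pointOk (k * 22) = true := between_extend pointOk 22 15345 16119 9 (p1u85) p1r86

theorem p1r87 : allRange pointOk 22 16128 9 = true := by decide +kernel
theorem p1u87 : ∀ k, 15345 ≤ k → k < 16137 → pointOk (k * 22) = true := between_extend pointOk 22 15345 16128 9 (p1u86) p1r87

theorem p1r88 : allRange pointOk 22 16137 9 = true := by decide +kernel
theorem p1u88 : ∀ k, 15345 ≤ k → k < 16146 → pointOk (k * 22) = true := between_extend pointOk 22 15345 16137 9 (p1u87) p1r88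

theorem p1r89 : allRange pointOk 22 16146 9 = true := by decide +kernel
theorem p1u89 : ∀ k, 15345 ≤ k → k < 16155 → pointOk (k * 22) = true := between_extend pointOk 22 15345 16146 9 (p1u88) p1r89

theorem p1r90 : allRange pointOk 22 16155 9 = true := by decide +kernel
theorem p1u90 : ∀ k, 15345 ≤ k → k < 16164 → pointOk (k * 22) = true := between_extend pointOk 22 15345 16155 9 (p1u89) p1r90

theorem p1r91 : allRange pointOk 22 16164 9 = true := by decide +kernel
theorem p1u91 : ∀ k, 15345 ≤ k → k < 16173 → pointOk (k * 22) = true := between_extend pointOk 22 15345 16164 9 (p1u90) p1r91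

theorem p1r92 : allRange pointOk 22 16173 9 = true := by decide +kernel
theorem p1u92 : ∀ k, 15345 ≤ k → k < 16182 → pointOk (k * 22) = true := between_extend pointOk 22 15345 16173 9 (p1u91) p1r92

theorem p1r93 : allRange pointOk 22 16182 9 = true := by decide +kernel
theorem p1u93 : ∀ k, 15345 ≤ k → k < 16191 → pointOk (k * 22) = true := between_extend pointOk 22 15345 16182 9 (p1u92) p1r93

theorem p1r94 : allRange pointOk 22 16191 9 = true := by decide +kernel
theorem p1u94 : ∀ k, 15345 ≤ k → k < 16200 → pointOk (k * 22) = true := between_extend pointOk 22 15345 16191 9 (p1u93) p1r94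

theorem p1r95 : allRange pointOk 22 16200 9 = true := by decide +kernel
theorem p1u95 : ∀ k, 15345 ≤ k → k < 16209 → pointOk (k * 22) = true := between_extend pointOk 22 15345 16200 9 (p1u94) p1r95

theorem p1r96 : allRange pointOk 22 16209 9 = true := by decide +kernel
theorem p1u96 : ∀ k, 15345 ≤ k → k < 16218 → pointOk (k * 22) = true := between_extend pointOk 22 15345 16209 9 (p1u95) p1r96

theorem p1r97 : allRange pointOk 22 16218 9 = true := by decide +kernel
theorem p1u97 : ∀ k, 15345 ≤ k → k < 16227 → pointOk (k * 22) = true := between_extend pointOk 22 15345 16218 9 (p1u96) p1r97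

theorem p1r98 : allRange pointOk 22 16227 9 = true := by decide +kernel
theorem p1u98 : ∀ k, 15345 ≤ k → k < 16236 → pointOk (k * 22) = true := between_extend pointOk 22 15345 16227 9 (p1u97) p1r98

theorem p1r99 : allRange pointOk 22 16236 9 = true := by decide +kernel
theorem p1u99 : ∀ k, 15345 ≤ k → k < 16245 → pointOk (k * 22) = true := between_extend pointOk 22 15345 16236 9 (p1u98) p1r99

theorem p1r100 : allRange pointOk 22 16245 9 = true := by decide +kernel
theorem p1u100 : ∀ k, 15345 ≤ k → k < 16254 → pointOk (k * 22) = true := between_extend pointOk 22 15345 16245 9 (p1u99) p1r100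

theorem p1r101 : allRange pointOk 22 16254 9 = true := by decide +kernel
theorem p1u101 : ∀ k, 15345 ≤ k → k < 16263 → pointOk (k * 22) = true := between_extend pointOk 22 15345 16254 9 (p1u100) p1r101

theorem p1r102 : allRange pointOk 22 16263 9 = true := by decide +kernel
theorem p1u102 : ∀ k, 15345 ≤ k → k < 16272 → pointOk (k * 22) = true := between_extend pointOk 22 15345 16263 9 (p1u101) p1r102

theorem p1r103 : allRange pointOk 22 16272 9 = true := by decide +kernel
theorem p1u103 : ∀ k, 15345 ≤ k → k < 16281 → pointOk (k * 22) = true := between_extend pointOk 22 15345 16272 9 (p1u102) p1r103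

theorem p1r104 : allRange pointOk 22 16281 9 = true := by decide +kernel
theorem p1u104 : ∀ k, 15345 ≤ k → k < 16290 → pointOk (k * 22) = true := between_extend pointOk 22 15345 16281 9 (p1u103) p1r104

theorem p1r105 : allRange pointOk 22 16290 9 = true := by decide +kernel
theorem p1u105 : ∀ k, 15345 ≤ k → k < 16299 → pointOk (k * 22) = true := between_extend pointOk 22 15345 16290 9 (p1u104) p1r105

theorem p1r106 : allRange pointOk 22 16299 9 = true := by decide +kernel
theorem p1u106 : ∀ k, 15345 ≤ k → k < 16308 → pointOk (k * 22) = true := between_extend pointOk 22 15345 16299 9 (p1u105) p1r106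

theorem p1r107 : allRange pointOk 22 16308 9 = true := by decide +kernel
theorem p1u107 : ∀ k, 15345 ≤ k → k < 16317 → pointOk (k * 22) = true := between_extend pointOk 22 15345 16308 9 (p1u106) p1r107

theorem p1r108 : allRange pointOk 22 16317 9 = true := by decide +kernel
theorem p1u108 : ∀ k, 15345 ≤ k → k < 16326 → pointOk (k * 22) = true := between_extend pointOk 22 15345 16317 9 (p1u107) p1r108

theorem p1r109 : allRange pointOk 22 16326 9 = true := by decide +kernel
theorem p1u109 : ∀ k, 15345 ≤ k → k < 16335 → pointOk (k * 22) = true := between_extend pointOk 22 15345 16326 9 (p1u108) p1r109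

theorem p1r110 : allRange pointOk 22 16335 9 = true := by decide +kernel
theorem p1u110 : ∀ k, 15345 ≤ k → k < 16344 → pointOk (k * 22) = true := between_extend pointOk 22 15345 16335 9 (p1u109) p1r110

theorem p1r111 : allRange pointOk 22 16344 9 = true := by decide +kernel
theorem p1u111 : ∀ k, 15345 ≤ k → k < 16353 → pointOk (k * 22) = true := between_extend pointOk 22 15345 16344 9 (p1u110) p1r111

theorem p1r112 : allRange pointOk 22 16353 9 = true := by decide +kernel
theorem p1u112 : ∀ k, 15345 ≤ k → k < 16362 → pointOk (k * 22) = true := between_extend pointOk 22 15345 16353 9 (p1u111) p1r112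

theorem p1r113 : allRange pointOk 22 16362 9 = true := by decide +kernel
theorem p1u113 : ∀ k, 15345 ≤ k → k < 16371 → pointOk (k * 22) = true := between_extend pointOk 22 15345 16362 9 (p1u112) p1r113

theorem p1r114 : allRange pointOk 22 16371 9 = true := by decide +kernel
theorem p1u114 : ∀ k, 15345 ≤ k → k < 16380 → pointOk (k * 22) = true := between_extend pointOk 22 15345 16371 9 (p1u113) p1r114

theorem p1r115 : allRange pointOk 22 16380 9 = true := by decide +kernel
theorem p1u115 : ∀ k, 15345 ≤ k → k < 16389 → pointOk (k * 22) = true := between_extend pointOk 22 15345 16380 9 (p1u114) p1r115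

theorem p1r116 : allRange pointOk 22 16389 9 = true := by decide +kernel
theorem p1u116 : ∀ k, 15345 ≤ k → k < 16398 → pointOk (k * 22) = true := between_extend pointOk 22 15345 16389 9 (p1u115) p1r116

theorem p1r117 : allRange pointOk 22 16398 9 = true := by decide +kernel
theorem p1u117 : ∀ k, 15345 ≤ k → k < 16407 → pointOk (k * 22) = true := between_extend pointOk 22 15345 16398 9 (p1u116) p1r117

theorem p1r118 : allRange pointOk 22 16407 9 = true := by decide +kernel
theorem p1u118 : ∀ k, 15345 ≤ k → k < 16416 → pointOk (k * 22) = true := between_extend pointOk 22 15345 16407 9 (p1u117) p1r118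

theorem p1r119 : allRange pointOk 22 16416 9 = true := by decide +kernel
theorem p1u119 : ∀ k, 15345 ≤ k → k < 16425 → pointOk (k * 22) = true := between_extend pointOk 22 15345 16416 9 (p1u118) p1r119

theorem p1r120 : allRange pointOk 22 16425 9 = true := by decide +kernel
theorem p1u120 : ∀ k, 15345 ≤ k → k < 16434 → pointOk (k * 22) = true := between_extend pointOk 22 15345 16425 9 (p1u119) p1r120

theorem p1r121 : allRange pointOk 22 16434 9 = true := by decide +kernel
theorem p1u121 : ∀ k, 15345 ≤ k → k < 16443 → pointOk (k * 22) = true := between_extend pointOk 22 15345 16434 9 (p1u120) p1r121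

theorem p1r122 : allRange pointOk 22 16443 9 = true := by decide +kernel
theorem p1u122 : ∀ k, 15345 ≤ k → k < 16452 → pointOk (k * 22) = true := between_extend pointOk 22 15345 16443 9 (p1u121) p1r122

theorem p1r123 : allRange pointOk 22 16452 9 = true := by decide +kernel
theorem p1u123 : ∀ k, 15345 ≤ k → k < 16461 → pointOk (k * 22) = true := between_extend pointOk 22 15345 16452 9 (p1u122) p1r123

theorem p1r124 : allRange pointOk 22 16461 9 = true := by decide +kernel
theorem p1u124 : ∀ k, 15345 ≤ k → k < 16470 → pointOk (k * 22) = true := between_extend pointOk 22 15345 16461 9 (p1u123) p1r124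

theorem p1r125 : allRange pointOk 22 16470 9 = true := by decide +kernel
theorem p1u125 : ∀ k, 15345 ≤ k → k < 16479 → pointOk (k * 22) = true := between_extend pointOk 22 15345 16470 9 (p1u124) p1r125

theorem p1r126 : allRange pointOk 22 16479 9 = true := by decide +kernel
theorem p1u126 : ∀ k, 15345 ≤ k → k < 16488 → pointOk (k * 22) = true := between_extend pointOk 22 15345 16479 9 (p1u125) p1r126

theorem p1r127 : allRange pointOk 22 16488 9 = true := by decide +kernel
theorem p1u127 : ∀ k, 15345 ≤ k → k < 16497 → pointOk (k * 22) = true := between_extend pointOk 22 15345 16488 9 (p1u126) p1r127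

theorem p1r128 : allRange pointOk 22 16497 9 = true := by decide +kernel
theorem p1u128 : ∀ k, 15345 ≤ k → k < 16506 → pointOk (k * 22) = true := between_extend pointOk 22 15345 16497 9 (p1u127) p1r128

theorem p1r129 : allRange pointOk 22 16506 9 = true := by decide +kernel
theorem p1u129 : ∀ k, 15345 ≤ k → k < 16515 → pointOk (k * 22) = true := between_extend pointOk 22 15345 16506 9 (p1u128) p1r129

theorem p1r130 : allRange pointOk 22 16515 9 = true := by decide +kernel
theorem p1u130 : ∀ k, 15345 ≤ k → k < 16524 → pointOk (k * 22) = true := between_extend pointOk 22 15345 16515 9 (p1u129) p1r130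

theorem p1r131 : allRange pointOk 22 16524 9 = true := by decide +kernel
theorem p1u131 : ∀ k, 15345 ≤ k → k < 16533 → pointOk (k * 22) = true := between_extend pointOk 22 15345 16524 9 (p1u130) p1r131

theorem p1r132 : allRange pointOk 22 16533 9 = true := by decide +kernel
theorem p1u132 : ∀ k, 15345 ≤ k → k < 16542 → pointOk (k * 22) = true := between_extend pointOk 22 15345 16533 9 (p1u131) p1r132

theorem p1r133 : allRange pointOk 22 16542 9 = true := by decide +kernel
theorem p1u133 : ∀ k, 15345 ≤ k → k < 16551 → pointOk (k * 22) = true := between_extend pointOk 22 15345 16542 9 (p1u132) p1r133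

theorem p1r134 : allRange pointOk 22 16551 9 = true := by decide +kernel
theorem p1u134 : ∀ k, 15345 ≤ k → k < 16560 → pointOk (k * 22) = true := between_extend pointOk 22 15345 16551 9 (p1u133) p1r134

theorem p1r135 : allRange pointOk 22 16560 9 = true := by decide +kernel
theorem p1u135 : ∀ k, 15345 ≤ k → k < 16569 → pointOk (k * 22) = true := between_extend pointOk 22 15345 16560 9 (p1u134) p1r135

theorem p1r136 : allRange pointOk 22 16569 9 = true := by decide +kernel
theorem p1u136 : ∀ k, 15345 ≤ k → k < 16578 → pointOk (k * 22) = true := between_extend pointOk 22 15345 16569 9 (p1u135) p1r136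

theorem p1r137 : allRange pointOk 22 16578 9 = true := by decide +kernel
theorem p1u137 : ∀ k, 15345 ≤ k → k < 16587 → pointOk (k * 22) = true := between_extend pointOk 22 15345 16578 9 (p1u136) p1r137

theorem p1r138 : allRange pointOk 22 16587 9 = true := by decide +kernel
theorem p1u138 : ∀ k, 15345 ≤ k → k < 16596 → pointOk (k * 22) = true := between_extend pointOk 22 15345 16587 9 (p1u137) p1r138

theorem p1r139 : allRange pointOk 22 16596 9 = true := by decide +kernel
theorem p1u139 : ∀ k, 15345 ≤ k → k < 16605 → pointOk (k * 22) = true := between_extend pointOk 22 15345 16596 9 (p1u138) p1r139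

theorem p1r140 : allRange pointOk 22 16605 9 = true := by decide +kernel
theorem p1u140 : ∀ k, 15345 ≤ k → k < 16614 → pointOk (k * 22) = true := between_extend pointOk 22 15345 16605 9 (p1u139) p1r140

theorem p1r141 : allRange pointOk 22 16614 9 = true := by decide +kernel
theorem p1u141 : ∀ k, 15345 ≤ k → k < 16623 → pointOk (k * 22) = true := between_extend pointOk 22 15345 16614 9 (p1u140) p1r141

theorem p1r142 : allRange pointOk 22 16623 9 = true := by decide +kernel
theorem p1u142 : ∀ k, 15345 ≤ k → k < 16632 → pointOk (k * 22) = true := between_extend pointOk 22 15345 16623 9 (p1u141) p1r142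

theorem p1r143 : allRange pointOk 22 16632 9 = true := by decide +kernel
theorem p1u143 : ∀ k, 15345 ≤ k → k < 16641 → pointOk (k * 22) = true := between_extend pointOk 22 15345 16632 9 (p1u142) p1r143

theorem p1r144 : allRange pointOk 22 16641 9 = true := by decide +kernel
theorem p1u144 : ∀ k, 15345 ≤ k → k < 16650 → pointOk (k * 22) = true := between_extend pointOk 22 15345 16641 9 (p1u143) p1r144

theorem p1r145 : allRange pointOk 22 16650 9 = true := by decide +kernel
theorem p1u145 : ∀ k, 15345 ≤ k → k < 16659 → pointOk (k * 22) = true := between_extend pointOk 22 15345 16650 9 (p1u144) p1r145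

theorem p1r146 : allRange pointOk 22 16659 9 = true := by decide +kernel
theorem p1u146 : ∀ k, 15345 ≤ k → k < 16668 → pointOk (k * 22) = true := between_extend pointOk 22 15345 16659 9 (p1u145) p1r146

theorem p1r147 : allRange pointOk 22 16668 9 = true := by decide +kernel
theorem p1u147 : ∀ k, 15345 ≤ k → k < 16677 → pointOk (k * 22) = true := between_extend pointOk 22 15345 16668 9 (p1u146) p1r147

theorem p1r148 : allRange pointOk 22 16677 9 = true := by decide +kernel
theorem p1u148 : ∀ k, 15345 ≤ k → k < 16686 → pointOk (k * 22) = true := between_extend pointOk 22 15345 16677 9 (p1u147) p1r148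

theorem p1r149 : allRange pointOk 22 16686 9 = true := by decide +kernel
theorem p1u149 : ∀ k, 15345 ≤ k → k < 16695 → pointOk (k * 22) = true := between_extend pointOk 22 15345 16686 9 (p1u148) p1r149

theorem p1r150 : allRange pointOk 22 16695 9 = true := by decide +kernel
theorem p1u150 : ∀ k, 15345 ≤ k → k < 16704 → pointOk (k * 22) = true := between_extend pointOk 22 15345 16695 9 (p1u149) p1r150

theorem p1r151 : allRange pointOk 22 16704 9 = true := by decide +kernel
theorem p1u151 : ∀ k, 15345 ≤ k → k < 16713 → pointOk (k * 22) = true := between_extend pointOk 22 15345 16704 9 (p1u150) p1r151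

theorem p1r152 : allRange pointOk 22 16713 9 = true := by decide +kernel
theorem p1u152 : ∀ k, 15345 ≤ k → k < 16722 → pointOk (k * 22) = true := between_extend pointOk 22 15345 16713 9 (p1u151) p1r152

theorem p1r153 : allRange pointOk 22 16722 9 = true := by decide +kernel
theorem p1u153 : ∀ k, 15345 ≤ k → k < 16731 → pointOk (k * 22) = true := between_extend pointOk 22 15345 16722 9 (p1u152) p1r153

theorem p1r154 : allRange pointOk 22 16731 9 = true := by decide +kernel
theorem p1u154 : ∀ k, 15345 ≤ k → k < 16740 → pointOk (k * 22) = true := between_extend pointOk 22 15345 16731 9 (p1u153) p1r154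

theorem p1r155 : allRange pointOk 22 16740 9 = true := by decide +kernel
theorem p1u155 : ∀ k, 15345 ≤ k → k < 16749 → pointOk (k * 22) = true := between_extend pointOk 22 15345 16740 9 (p1u154) p1r155

theorem p1r156 : allRange pointOk 22 16749 9 = true := by decide +kernel
theorem p1u156 : ∀ k, 15345 ≤ k → k < 16758 → pointOk (k * 22) = true := between_extend pointOk 22 15345 16749 9 (p1u155) p1r156

theorem p1r157 : allRange pointOk 22 16758 9 = true := by decide +kernel
theorem p1u157 : ∀ k, 15345 ≤ k → k < 16767 → pointOk (k * 22) = true := between_extend pointOk 22 15345 16758 9 (p1u156) p1r157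

theorem p1r158 : allRange pointOk 22 16767 9 = true := by decide +kernel
theorem p1u158 : ∀ k, 15345 ≤ k → k < 16776 → pointOk (k * 22) = true := between_extend pointOk 22 15345 16767 9 (p1u157) p1r158

theorem p1r159 : allRange pointOk 22 16776 9 = true := by decide +kernel
theorem p1u159 : ∀ k, 15345 ≤ k → k < 16785 → pointOk (k * 22) = true := between_extend pointOk 22 15345 16776 9 (p1u158) p1r159

theorem p1r160 : allRange pointOk 22 16785 9 = true := by decide +kernel
theorem p1u160 : ∀ k, 15345 ≤ k → k < 16794 → pointOk (k * 22) = true := between_extend pointOk 22 15345 16785 9 (p1u159) p1r160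

theorem p1r161 : allRange pointOk 22 16794 9 = true := by decide +kernel
theorem p1u161 : ∀ k, 15345 ≤ k → k < 16803 → pointOk (k * 22) = true := between_extend pointOk 22 15345 16794 9 (p1u160) p1r161

theorem p1r162 : allRange pointOk 22 16803 9 = true := by decide +kernel
theorem p1u162 : ∀ k, 15345 ≤ k → k < 16812 → pointOk (k * 22) = true := between_extend pointOk 22 15345 16803 9 (p1u161) p1r162

theorem p1r163 : allRange pointOk 22 16812 9 = true := by decide +kernel
theorem p1u163 : ∀ k, 15345 ≤ k → k < 16821 → pointOk (k * 22) = true := between_extend pointOk 22 15345 16812 9 (p1u162) p1r163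

theorem p1r164 : allRange pointOk 22 16821 9 = true := by decide +kernel
theorem p1u164 : ∀ k, 15345 ≤ k → k < 16830 → pointOk (k * 22) = true := between_extend pointOk 22 15345 16821 9 (p1u163) p1r164

theorem p1r165 : allRange pointOk 22 16830 9 = true := by decide +kernel
theorem p1u165 : ∀ k, 15345 ≤ k → k < 16839 → pointOk (k * 22) = true := between_extend pointOk 22 15345 16830 9 (p1u164) p1r165

theorem p1r166 : allRange pointOk 22 16839 9 = true := by decide +kernel
theorem p1u166 : ∀ k, 15345 ≤ k → k < 16848 → pointOk (k * 22) = true := between_extend pointOk 22 15345 16839 9 (p1u165) p1r166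

theorem p1r167 : allRange pointOk 22 16848 9 = true := by decide +kernel
theorem p1u167 : ∀ k, 15345 ≤ k → k < 16857 → pointOk (k * 22) = true := between_extend pointOk 22 15345 16848 9 (p1u166) p1r167

theorem p1r168 : allRange pointOk 22 16857 9 = true := by decide +kernel
theorem p1u168 : ∀ k, 15345 ≤ k → k < 16866 → pointOk (k * 22) = true := between_extend pointOk 22 15345 16857 9 (p1u167) p1r168

theorem p1r169 : allRange pointOk 22 16866 9 = true := by decide +kernel
theorem p1u169 : ∀ k, 15345 ≤ k → k < 16875 → pointOk (k * 22) = true := between_extend pointOk 22 15345 16866 9 (p1u168) p1r169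

theorem p1r170 : allRange pointOk 22 16875 9 = true := by decide +kernel
theorem p1u170 : ∀ k, 15345 ≤ k → k < 16884 → pointOk (k * 22) = true := between_extend pointOk 22 15345 16875 9 (p1u169) p1r170

theorem p1r171 : allRange pointOk 22 16884 9 = true := by decide +kernel
theorem p1u171 : ∀ k, 15345 ≤ k → k < 16893 → pointOk (k * 22) = true := between_extend pointOk 22 15345 16884 9 (p1u170) p1r171

theorem p1r172 : allRange pointOk 22 16893 9 = true := by decide +kernel
theorem p1u172 : ∀ k, 15345 ≤ k → k < 16902 → pointOk (k * 22) = true := between_extend pointOk 22 15345 16893 9 (p1u171) p1r172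

theorem p1r173 : allRange pointOk 22 16902 9 = true := by decide +kernel
theorem p1u173 : ∀ k, 15345 ≤ k → k < 16911 → pointOk (k * 22) = true := between_extend pointOk 22 15345 16902 9 (p1u172) p1r173

theorem p1r174 : allRange pointOk 22 16911 9 = true := by decide +kernel
theorem p1u174 : ∀ k, 15345 ≤ k → k < 16920 → pointOk (k * 22) = true := between_extend pointOk 22 15345 16911 9 (p1u173) p1r174

theorem p1r175 : allRange pointOk 22 16920 9 = true := by decide +kernel
theorem p1u175 : ∀ k, 15345 ≤ k → k < 16929 → pointOk (k * 22) = true := between_extend pointOk 22 15345 16920 9 (p1u174) p1r175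

theorem p1r176 : allRange pointOk 22 16929 9 = true := by decide +kernel
theorem p1u176 : ∀ k, 15345 ≤ k → k < 16938 → pointOk (k * 22) = true := between_extend pointOk 22 15345 16929 9 (p1u175) p1r176

theorem p1r177 : allRange pointOk 22 16938 9 = true := by decide +kernel
theorem p1u177 : ∀ k, 15345 ≤ k → k < 16947 → pointOk (k * 22) = true := between_extend pointOk 22 15345 16938 9 (p1u176) p1r177

theorem p1r178 : allRange pointOk 22 16947 9 = true := by decide +kernel
theorem p1u178 : ∀ k, 15345 ≤ k → k < 16956 → pointOk (k * 22) = true := between_extend pointOk 22 15345 16947 9 (p1u177) p1r178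

theorem p1r179 : allRange pointOk 22 16956 9 = true := by decide +kernel
theorem p1u179 : ∀ k, 15345 ≤ k → k < 16965 → pointOk (k * 22) = true := between_extend pointOk 22 15345 16956 9 (p1u178) p1r179

theorem p1r180 : allRange pointOk 22 16965 9 = true := by decide +kernel
theorem p1u180 : ∀ k, 15345 ≤ k → k < 16974 → pointOk (k * 22) = true := between_extend pointOk 22 15345 16965 9 (p1u179) p1r180

theorem p1r181 : allRange pointOk 22 16974 9 = true := by decide +kernel
theorem p1u181 : ∀ k, 15345 ≤ k → k < 16983 → pointOk (k * 22) = true := between_extend pointOk 22 15345 16974 9 (p1u180) p1r181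

theorem p1r182 : allRange pointOk 22 16983 9 = true := by decide +kernel
theorem p1u182 : ∀ k, 15345 ≤ k → k < 16992 → pointOk (k * 22) = true := between_extend pointOk 22 15345 16983 9 (p1u181) p1r182

theorem p1r183 : allRange pointOk 22 16992 9 = true := by decide +kernel
theorem p1u183 : ∀ k, 15345 ≤ k → k < 17001 → pointOk (k * 22) = true := between_extend pointOk 22 15345 16992 9 (p1u182) p1r183

theorem p1r184 : allRange pointOk 22 17001 9 = true := by decide +kernel
theorem p1u184 : ∀ k, 15345 ≤ k → k < 17010 → pointOk (k * 22) = true := between_extend pointOk 22 15345 17001 9 (p1u183) p1r184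

theorem p1r185 : allRange pointOk 22 17010 9 = true := by decide +kernel
theorem p1u185 : ∀ k, 15345 ≤ k → k < 17019 → pointOk (k * 22) = true := between_extend pointOk 22 15345 17010 9 (p1u184) p1r185

theorem p1r186 : allRange pointOk 22 17019 9 = true := by decide +kernel
theorem p1u186 : ∀ k, 15345 ≤ k → k < 17028 → pointOk (k * 22) = true := between_extend pointOk 22 15345 17019 9 (p1u185) p1r186

theorem p1r187 : allRange pointOk 22 17028 9 = true := by decide +kernel
theorem p1u187 : ∀ k, 15345 ≤ k → k < 17037 → pointOk (k * 22) = true := between_extend pointOk 22 15345 17028 9 (p1u186) p1r187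

theorem p1r188 : allRange pointOk 22 17037 9 = true := by decide +kernel
theorem p1u188 : ∀ k, 15345 ≤ k → k < 17046 → pointOk (k * 22) = true := between_extend pointOk 22 15345 17037 9 (p1u187) p1r188

theorem p1r189 : allRange pointOk 22 17046 9 = true := by decide +kernel
theorem p1u189 : ∀ k, 15345 ≤ k → k < 17055 → pointOk (k * 22) = true := between_extend pointOk 22 15345 17046 9 (p1u188) p1r189

theorem p1r190 : allRange pointOk 22 17055 9 = true := by decide +kernel
theorem p1u190 : ∀ k, 15345 ≤ k → k < 17064 → pointOk (k * 22) = true := between_extend pointOk 22 15345 17055 9 (p1u189) p1r190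

theorem p1r191 : allRange pointOk 22 17064 9 = true := by decide +kernel
theorem p1u191 : ∀ k, 15345 ≤ k → k < 17073 → pointOk (k * 22) = true := between_extend pointOk 22 15345 17064 9 (p1u190) p1r191

theorem p1r192 : allRange pointOk 22 17073 9 = true := by decide +kernel
theorem p1u192 : ∀ k, 15345 ≤ k → k < 17082 → pointOk (k * 22) = true := between_extend pointOk 22 15345 17073 9 (p1u191) p1r192

theorem p1r193 : allRange pointOk 22 17082 9 = true := by decide +kernel
theorem p1u193 : ∀ k, 15345 ≤ k → k < 17091 → pointOk (k * 22) = true := between_extend pointOk 22 15345 17082 9 (p1u192) p1r193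

theorem p1r194 : allRange pointOk 22 17091 9 = true := by decide +kernel
theorem p1u194 : ∀ k, 15345 ≤ k → k < 17100 → pointOk (k * 22) = true := between_extend pointOk 22 15345 17091 9 (p1u193) p1r194

theorem p1r195 : allRange pointOk 22 17100 9 = true := by decide +kernel
theorem p1u195 : ∀ k, 15345 ≤ k → k < 17109 → pointOk (k * 22) = true := between_extend pointOk 22 15345 17100 9 (p1u194) p1r195

theorem p1r196 : allRange pointOk 22 17109 9 = true := by decide +kernel
theorem p1u196 : ∀ k, 15345 ≤ k → k < 17118 → pointOk (k * 22) = true := between_extend pointOk 22 15345 17109 9 (p1u195) p1r196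

theorem p1r197 : allRange pointOk 22 17118 9 = true := by decide +kernel
theorem p1u197 : ∀ k, 15345 ≤ k → k < 17127 → pointOk (k * 22) = true := between_extend pointOk 22 15345 17118 9 (p1u196) p1r197

theorem p1r198 : allRange pointOk 22 17127 9 = true := by decide +kernel
theorem p1u198 : ∀ k, 15345 ≤ k → k < 17136 → pointOk (k * 22) = true := between_extend pointOk 22 15345 17127 9 (p1u197) p1r198

theorem p1r199 : allRange pointOk 22 17136 9 = true := by decide +kernel
theorem p1u199 : ∀ k, 15345 ≤ k → k < 17145 → pointOk (k * 22) = true := between_extend pointOk 22 15345 17136 9 (p1u198) p1r199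

theorem p1r200 : allRange pointOk 22 17145 9 = true := by decide +kernel
theorem p1u200 : ∀ k, 15345 ≤ k → k < 17154 → pointOk (k * 22) = true := between_extend pointOk 22 15345 17145 9 (p1u199) p1r200

theorem p1r201 : allRange pointOk 22 17154 9 = true := by decide +kernel
theorem p1u201 : ∀ k, 15345 ≤ k → k < 17163 → pointOk (k * 22) = true := between_extend pointOk 22 15345 17154 9 (p1u200) p1r201

theorem p1r202 : allRange pointOk 22 17163 9 = true := by decide +kernel
theorem p1u202 : ∀ k, 15345 ≤ k → k < 17172 → pointOk (k * 22) = true := between_extend pointOk 22 15345 17163 9 (p1u201) p1r202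

theorem p1r203 : allRange pointOk 22 17172 9 = true := by decide +kernel
theorem p1u203 : ∀ k, 15345 ≤ k → k < 17181 → pointOk (k * 22) = true := between_extend pointOk 22 15345 17172 9 (p1u202) p1r203

theorem p1r204 : allRange pointOk 22 17181 9 = true := by decide +kernel
theorem p1u204 : ∀ k, 15345 ≤ k → k < 17190 → pointOk (k * 22) = true := between_extend pointOk 22 15345 17181 9 (p1u203) p1r204

theorem p1r205 : allRange pointOk 22 17190 9 = true := by decide +kernel
theorem p1u205 : ∀ k, 15345 ≤ k → k < 17199 → pointOk (k * 22) = true := between_extend pointOk 22 15345 17190 9 (p1u204) p1r205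

theorem p1r206 : allRange pointOk 22 17199 9 = true := by decide +kernel
theorem p1u206 : ∀ k, 15345 ≤ k → k < 17208 → pointOk (k * 22) = true := between_extend pointOk 22 15345 17199 9 (p1u205) p1r206

theorem p1r207 : allRange pointOk 22 17208 9 = true := by decide +kernel
theorem p1u207 : ∀ k, 15345 ≤ k → k < 17217 → pointOk (k * 22) = true := between_extend pointOk 22 15345 17208 9 (p1u206) p1r207

theorem p1r208 : allRange pointOk 22 17217 9 = true := by decide +kernel
theorem p1u208 : ∀ k, 15345 ≤ k → k < 17226 → pointOk (k * 22) = true := between_extend pointOk 22 15345 17217 9 (p1u207) p1r208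

theorem p1r209 : allRange pointOk 22 17226 9 = true := by decide +kernel
theorem p1u209 : ∀ k, 15345 ≤ k → k < 17235 → pointOk (k * 22) = true := between_extend pointOk 22 15345 17226 9 (p1u208) p1r209

theorem p1r210 : allRange pointOk 22 17235 9 = true := by decide +kernel
theorem p1u210 : ∀ k, 15345 ≤ k → k < 17244 → pointOk (k * 22) = true := between_extend pointOk 22 15345 17235 9 (p1u209) p1r210

theorem p1r211 : allRange pointOk 22 17244 9 = true := by decide +kernel
theorem p1u211 : ∀ k, 15345 ≤ k → k < 17253 → pointOk (k * 22) = true := between_extend pointOk 22 15345 17244 9 (p1u210) p1r211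

theorem p1r212 : allRange pointOk 22 17253 9 = true := by decide +kernel
theorem p1u212 : ∀ k, 15345 ≤ k → k < 17262 → pointOk (k * 22) = true := between_extend pointOk 22 15345 17253 9 (p1u211) p1r212

theorem p1r213 : allRange pointOk 22 17262 9 = true := by decide +kernel
theorem p1u213 : ∀ k, 15345 ≤ k → k < 17271 → pointOk (k * 22) = true := between_extend pointOk 22 15345 17262 9 (p1u212) p1r213

theorem p1r214 : allRange pointOk 22 17271 9 = true := by decide +kernel
theorem p1u214 : ∀ k, 15345 ≤ k → k < 17280 → pointOk (k * 22) = true := between_extend pointOk 22 15345 17271 9 (p1u213) p1r214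

theorem p1r215 : allRange pointOk 22 17280 9 = true := by decide +kernel
theorem p1u215 : ∀ k, 15345 ≤ k → k < 17289 → pointOk (k * 22) = true := between_extend pointOk 22 15345 17280 9 (p1u214) p1r215

theorem p1r216 : allRange pointOk 22 17289 9 = true := by decide +kernel
theorem p1u216 : ∀ k, 15345 ≤ k → k < 17298 → pointOk (k * 22) = true := between_extend pointOk 22 15345 17289 9 (p1u215) p1r216

theorem p1r217 : allRange pointOk 22 17298 9 = true := by decide +kernel
theorem p1u217 : ∀ k, 15345 ≤ k → k < 17307 → pointOk (k * 22) = true := between_extend pointOk 22 15345 17298 9 (p1u216) p1r217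

theorem p1r218 : allRange pointOk 22 17307 9 = true := by decide +kernel
theorem p1u218 : ∀ k, 15345 ≤ k → k < 17316 → pointOk (k * 22) = true := between_extend pointOk 22 15345 17307 9 (p1u217) p1r218

theorem p1r219 : allRange pointOk 22 17316 9 = true := by decide +kernel
theorem p1u219 : ∀ k, 15345 ≤ k → k < 17325 → pointOk (k * 22) = true := between_extend pointOk 22 15345 17316 9 (p1u218) p1r219

theorem p1r220 : allRange pointOk 22 17325 9 = true := by decide +kernel
theorem p1u220 : ∀ k, 15345 ≤ k → k < 17334 → pointOk (k * 22) = true := between_extend pointOk 22 15345 17325 9 (p1u219) p1r220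

theorem p1r221 : allRange pointOk 22 17334 9 = true := by decide +kernel
theorem p1u221 : ∀ k, 15345 ≤ k → k < 17343 → pointOk (k * 22) = true := between_extend pointOk 22 15345 17334 9 (p1u220) p1r221

theorem p1r222 : allRange pointOk 22 17343 9 = true := by decide +kernel
theorem p1u222 : ∀ k, 15345 ≤ k → k < 17352 → pointOk (k * 22) = true := between_extend pointOk 22 15345 17343 9 (p1u221) p1r222

theorem p1r223 : allRange pointOk 22 17352 9 = true := by decide +kernel
theorem p1u223 : ∀ k, 15345 ≤ k → k < 17361 → pointOk (k * 22) = true := between_extend pointOk 22 15345 17352 9 (p1u222) p1r223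

theorem p1r224 : allRange pointOk 22 17361 9 = true := by decide +kernel
theorem p1u224 : ∀ k, 15345 ≤ k → k < 17370 → pointOk (k * 22) = true := between_extend pointOk 22 15345 17361 9 (p1u223) p1r224

theorem p1r225 : allRange pointOk 22 17370 9 = true := by decide +kernel
theorem p1u225 : ∀ k, 15345 ≤ k → k < 17379 → pointOk (k * 22) = true := between_extend pointOk 22 15345 17370 9 (p1u224) p1r225

theorem p1r226 : allRange pointOk 22 17379 9 = true := by decide +kernel
theorem p1u226 : ∀ k, 15345 ≤ k → k < 17388 → pointOk (k * 22) = true := between_extend pointOk 22 15345 17379 9 (p1u225) p1r226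

theorem p1r227 : allRange pointOk 22 17388 9 = true := by decide +kernel
theorem p1u227 : ∀ k, 15345 ≤ k → k < 17397 → pointOk (k * 22) = true := between_extend pointOk 22 15345 17388 9 (p1u226) p1r227

theorem p1r228 : allRange pointOk 22 17397 9 = true := by decide +kernel
theorem p1u228 : ∀ k, 15345 ≤ k → k < 17406 → pointOk (k * 22) = true := between_extend pointOk 22 15345 17397 9 (p1u227) p1r228

theorem p1r229 : allRange pointOk 22 17406 9 = true := by decide +kernel
theorem p1u229 : ∀ k, 15345 ≤ k → k < 17415 → pointOk (k * 22) = true := between_extend pointOk 22 15345 17406 9 (p1u228) p1r229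

theorem p1r230 : allRange pointOk 22 17415 9 = true := by decide +kernel
theorem p1u230 : ∀ k, 15345 ≤ k → k < 17424 → pointOk (k * 22) = true := between_extend pointOk 22 15345 17415 9 (p1u229) p1r230

theorem p1r231 : allRange pointOk 22 17424 9 = true := by decide +kernel
theorem p1u231 : ∀ k, 15345 ≤ k → k < 17433 → pointOk (k * 22) = true := between_extend pointOk 22 15345 17424 9 (p1u230) p1r231

theorem p1r232 : allRange pointOk 22 17433 9 = true := by decide +kernel
theorem p1u232 : ∀ k, 15345 ≤ k → k < 17442 → pointOk (k * 22) = true := between_extend pointOk 22 15345 17433 9 (p1u231) p1r232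

theorem p1r233 : allRange pointOk 22 17442 9 = true := by decide +kernel
theorem p1u233 : ∀ k, 15345 ≤ k → k < 17451 → pointOk (k * 22) = true := between_extend pointOk 22 15345 17442 9 (p1u232) p1r233

theorem p1r234 : allRange pointOk 22 17451 9 = true := by decide +kernel
theorem p1u234 : ∀ k, 15345 ≤ k → k < 17460 → pointOk (k * 22) = true := between_extend pointOk 22 15345 17451 9 (p1u233) p1r234

theorem p1r235 : allRange pointOk 22 17460 9 = true := by decide +kernel
theorem p1u235 : ∀ k, 15345 ≤ k → k < 17469 → pointOk (k * 22) = true := between_extend pointOk 22 15345 17460 9 (p1u234) p1r235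

theorem p1r236 : allRange pointOk 22 17469 9 = true := by decide +kernel
theorem p1u236 : ∀ k, 15345 ≤ k → k < 17478 → pointOk (k * 22) = true := between_extend pointOk 22 15345 17469 9 (p1u235) p1r236

theorem p1r237 : allRange pointOk 22 17478 9 = true := by decide +kernel
theorem p1u237 : ∀ k, 15345 ≤ k → k < 17487 → pointOk (k * 22) = true := between_extend pointOk 22 15345 17478 9 (p1u236) p1r237

theorem p1r238 : allRange pointOk 22 17487 9 = true := by decide +kernel
theorem p1u238 : ∀ k, 15345 ≤ k → k < 17496 → pointOk (k * 22) = true := between_extend pointOk 22 15345 17487 9 (p1u237) p1r238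

theorem p1r239 : allRange pointOk 22 17496 9 = true := by decide +kernel
theorem p1u239 : ∀ k, 15345 ≤ k → k < 17505 → pointOk (k * 22) = true := between_extend pointOk 22 15345 17496 9 (p1u238) p1r239

theorem p1r240 : allRange pointOk 22 17505 9 = true := by decide +kernel
theorem p1u240 : ∀ k, 15345 ≤ k → k < 17514 → pointOk (k * 22) = true := between_extend pointOk 22 15345 17505 9 (p1u239) p1r240

theorem p1r241 : allRange pointOk 22 17514 9 = true := by decide +kernel
theorem p1u241 : ∀ k, 15345 ≤ k → k < 17523 → pointOk (k * 22) = true := between_extend pointOk 22 15345 17514 9 (p1u240) p1r241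

theorem p1r242 : allRange pointOk 22 17523 9 = true := by decide +kernel
theorem p1u242 : ∀ k, 15345 ≤ k → k < 17532 → pointOk (k * 22) = true := between_extend pointOk 22 15345 17523 9 (p1u241) p1r242

theorem p1r243 : allRange pointOk 22 17532 9 = true := by decide +kernel
theorem p1u243 : ∀ k, 15345 ≤ k → k < 17541 → pointOk (k * 22) = true := between_extend pointOk 22 15345 17532 9 (p1u242) p1r243

theorem p1r244 : allRange pointOk 22 17541 9 = true := by decide +kernel
theorem p1u244 : ∀ k, 15345 ≤ k → k < 17550 → pointOk (k * 22) = true := between_extend pointOk 22 15345 17541 9 (p1u243) p1r244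

theorem p1r245 : allRange pointOk 22 17550 9 = true := by decide +kernel
theorem p1u245 : ∀ k, 15345 ≤ k → k < 17559 → pointOk (k * 22) = true := between_extend pointOk 22 15345 17550 9 (p1u244) p1r245

theorem p1r246 : allRange pointOk 22 17559 9 = true := by decide +kernel
theorem p1u246 : ∀ k, 15345 ≤ k → k < 17568 → pointOk (k * 22) = true := between_extend pointOk 22 15345 17559 9 (p1u245) p1r246

theorem p1r247 : allRange pointOk 22 17568 9 = true := by decide +kernel
theorem p1u247 : ∀ k, 15345 ≤ k → k < 17577 → pointOk (k * 22) = true := between_extend pointOk 22 15345 17568 9 (p1u246) p1r247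

theorem p1r248 : allRange pointOk 22 17577 9 = true := by decide +kernel
theorem p1u248 : ∀ k, 15345 ≤ k → k < 17586 → pointOk (k * 22) = true := between_extend pointOk 22 15345 17577 9 (p1u247) p1r248

theorem p1r249 : allRange pointOk 22 17586 9 = true := by decide +kernel
theorem p1u249 : ∀ k, 15345 ≤ k → k < 17595 → pointOk (k * 22) = true := between_extend pointOk 22 15345 17586 9 (p1u248) p1r249

theorem p1r250 : allRange pointOk 22 17595 9 = true := by decide +kernel
theorem p1u250 : ∀ k, 15345 ≤ k → k < 17604 → pointOk (k * 22) = true := between_extend pointOk 22 15345 17595 9 (p1u249) p1r250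

theorem p1r251 : allRange pointOk 22 17604 9 = true := by decide +kernel
theorem p1u251 : ∀ k, 15345 ≤ k → k < 17613 → pointOk (k * 22) = true := between_extend pointOk 22 15345 17604 9 (p1u250) p1r251

theorem p1r252 : allRange pointOk 22 17613 9 = true := by decide +kernel
theorem p1u252 : ∀ k, 15345 ≤ k → k < 17622 → pointOk (k * 22) = true := between_extend pointOk 22 15345 17613 9 (p1u251) p1r252

theorem p1r253 : allRange pointOk 22 17622 9 = true := by decide +kernel
theorem p1u253 : ∀ k, 15345 ≤ k → k < 17631 → pointOk (k * 22) = true := between_extend pointOk 22 15345 17622 9 (p1u252) p1r253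

theorem p1r254 : allRange pointOk 22 17631 9 = true := by decide +kernel
theorem p1u254 : ∀ k, 15345 ≤ k → k < 17640 → pointOk (k * 22) = true := between_extend pointOk 22 15345 17631 9 (p1u253) p1r254

theorem p1r255 : allRange pointOk 22 17640 9 = true := by decide +kernel
theorem p1u255 : ∀ k, 15345 ≤ k → k < 17649 → pointOk (k * 22) = true := between_extend pointOk 22 15345 17640 9 (p1u254) p1r255

theorem p1r256 : allRange pointOk 22 17649 9 = true := by decide +kernel
theorem p1u256 : ∀ k, 15345 ≤ k → k < 17658 → pointOk (k * 22) = true := between_extend pointOk 22 15345 17649 9 (p1u255) p1r256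

theorem p1r257 : allRange pointOk 22 17658 9 = true := by decide +kernel
theorem p1u257 : ∀ k, 15345 ≤ k → k < 17667 → pointOk (k * 22) = true := between_extend pointOk 22 15345 17658 9 (p1u256) p1r257

theorem p1r258 : allRange pointOk 22 17667 9 = true := by decide +kernel
theorem p1u258 : ∀ k, 15345 ≤ k → k < 17676 → pointOk (k * 22) = true := between_extend pointOk 22 15345 17667 9 (p1u257) p1r258

theorem p1r259 : allRange pointOk 22 17676 9 = true := by decide +kernel
theorem p1u259 : ∀ k, 15345 ≤ k → k < 17685 → pointOk (k * 22) = true := between_extend pointOk 22 15345 17676 9 (p1u258) p1r259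

theorem p1r260 : allRange pointOk 22 17685 9 = true := by decide +kernel
theorem p1u260 : ∀ k, 15345 ≤ k → k < 17694 → pointOk (k * 22) = true := between_extend pointOk 22 15345 17685 9 (p1u259) p1r260

theorem p1r261 : allRange pointOk 22 17694 9 = true := by decide +kernel
theorem p1u261 : ∀ k, 15345 ≤ k → k < 17703 → pointOk (k * 22) = true := between_extend pointOk 22 15345 17694 9 (p1u260) p1r261

theorem p1r262 : allRange pointOk 22 17703 9 = true := by decide +kernel
theorem p1u262 : ∀ k, 15345 ≤ k → k < 17712 → pointOk (k * 22) = true := between_extend pointOk 22 15345 17703 9 (p1u261) p1r262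

theorem p1r263 : allRange pointOk 22 17712 9 = true := by decide +kernel
theorem p1u263 : ∀ k, 15345 ≤ k → k < 17721 → pointOk (k * 22) = true := between_extend pointOk 22 15345 17712 9 (p1u262) p1r263

theorem p1r264 : allRange pointOk 22 17721 9 = true := by decide +kernel
theorem p1u264 : ∀ k, 15345 ≤ k → k < 17730 → pointOk (k * 22) = true := between_extend pointOk 22 15345 17721 9 (p1u263) p1r264

theorem p1r265 : allRange pointOk 22 17730 9 = true := by decide +kernel
theorem p1u265 : ∀ k, 15345 ≤ k → k < 17739 → pointOk (k * 22) = true := between_extend pointOk 22 15345 17730 9 (p1u264) p1r265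

theorem p1r266 : allRange pointOk 22 17739 9 = true := by decide +kernel
theorem p1u266 : ∀ k, 15345 ≤ k → k < 17748 → pointOk (k * 22) = true := between_extend pointOk 22 15345 17739 9 (p1u265) p1r266

theorem p1r267 : allRange pointOk 22 17748 9 = true := by decide +kernel
theorem p1u267 : ∀ k, 15345 ≤ k → k < 17757 → pointOk (k * 22) = true := between_extend pointOk 22 15345 17748 9 (p1u266) p1r267

theorem p1r268 : allRange pointOk 22 17757 9 = true := by decide +kernel
theorem p1u268 : ∀ k, 15345 ≤ k → k < 17766 → pointOk (k * 22) = true := between_extend pointOk 22 15345 17757 9 (p1u267) p1r268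

theorem p1r269 : allRange pointOk 22 17766 9 = true := by decide +kernel
theorem p1u269 : ∀ k, 15345 ≤ k → k < 17775 → pointOk (k * 22) = true := between_extend pointOk 22 15345 17766 9 (p1u268) p1r269

theorem p1r270 : allRange pointOk 22 17775 9 = true := by decide +kernel
theorem p1u270 : ∀ k, 15345 ≤ k → k < 17784 → pointOk (k * 22) = true := between_extend pointOk 22 15345 17775 9 (p1u269) p1r270

theorem p1r271 : allRange pointOk 22 17784 9 = true := by decide +kernel
theorem p1u271 : ∀ k, 15345 ≤ k → k < 17793 → pointOk (k * 22) = true := between_extend pointOk 22 15345 17784 9 (p1u270) p1r271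

theorem p1r272 : allRange pointOk 22 17793 9 = true := by decide +kernel
theorem p1u272 : ∀ k, 15345 ≤ k → k < 17802 → pointOk (k * 22) = true := between_extend pointOk 22 15345 17793 9 (p1u271) p1r272

theorem p1r273 : allRange pointOk 22 17802 9 = true := by decide +kernel
theorem p1u273 : ∀ k, 15345 ≤ k → k < 17811 → pointOk (k * 22) = true := between_extend pointOk 22 15345 17802 9 (p1u272) p1r273

theorem p1r274 : allRange pointOk 22 17811 9 = true := by decide +kernel
theorem p1u274 : ∀ k, 15345 ≤ k → k < 17820 → pointOk (k * 22) = true := between_extend pointOk 22 15345 17811 9 (p1u273) p1r274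

theorem p1r275 : allRange pointOk 22 17820 9 = true := by decide +kernel
theorem p1u275 : ∀ k, 15345 ≤ k → k < 17829 → pointOk (k * 22) = true := between_extend pointOk 22 15345 17820 9 (p1u274) p1r275

theorem p1r276 : allRange pointOk 22 17829 9 = true := by decide +kernel
theorem p1u276 : ∀ k, 15345 ≤ k → k < 17838 → pointOk (k * 22) = true := between_extend pointOk 22 15345 17829 9 (p1u275) p1r276

theorem p1r277 : allRange pointOk 22 17838 9 = true := by decide +kernel
theorem p1u277 : ∀ k, 15345 ≤ k → k < 17847 → pointOk (k * 22) = true := between_extend pointOk 22 15345 17838 9 (p1u276) p1r277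

theorem p1r278 : allRange pointOk 22 17847 9 = true := by decide +kernel
theorem p1u278 : ∀ k, 15345 ≤ k → k < 17856 → pointOk (k * 22) = true := between_extend pointOk 22 15345 17847 9 (p1u277) p1r278

theorem p1r279 : allRange pointOk 22 17856 9 = true := by decide +kernel
theorem p1u279 : ∀ k, 15345 ≤ k → k < 17865 → pointOk (k * 22) = true := between_extend pointOk 22 15345 17856 9 (p1u278) p1r279

theorem p1r280 : allRange pointOk 22 17865 9 = true := by decide +kernel
theorem p1u280 : ∀ k, 15345 ≤ k → k < 17874 → pointOk (k * 22) = true := between_extend pointOk 22 15345 17865 9 (p1u279) p1r280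

theorem p1r281 : allRange pointOk 22 17874 9 = true := by decide +kernel
theorem p1u281 : ∀ k, 15345 ≤ k → k < 17883 → pointOk (k * 22) = true := between_extend pointOk 22 15345 17874 9 (p1u280) p1r281

theorem p1r282 : allRange pointOk 22 17883 9 = true := by decide +kernel
theorem p1u282 : ∀ k, 15345 ≤ k → k < 17892 → pointOk (k * 22) = true := between_extend pointOk 22 15345 17883 9 (p1u281) p1r282

theorem p1r283 : allRange pointOk 22 17892 9 = true := by decide +kernel
theorem p1u283 : ∀ k, 15345 ≤ k → k < 17901 → pointOk (k * 22) = true := between_extend pointOk 22 15345 17892 9 (p1u282) p1r283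

theorem p1r284 : allRange pointOk 22 17901 9 = true := by decide +kernel
theorem p1u284 : ∀ k, 15345 ≤ k → k < 17910 → pointOk (k * 22) = true := between_extend pointOk 22 15345 17901 9 (p1u283) p1r284

theorem p1r285 : allRange pointOk 22 17910 9 = true := by decide +kernel
theorem p1u285 : ∀ k, 15345 ≤ k → k < 17919 → pointOk (k * 22) = true := between_extend pointOk 22 15345 17910 9 (p1u284) p1r285

theorem p1r286 : allRange pointOk 22 17919 9 = true := by decide +kernel
theorem p1u286 : ∀ k, 15345 ≤ k → k < 17928 → pointOk (k * 22) = true := between_extend pointOk 22 15345 17919 9 (p1u285) p1r286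

theorem p1r287 : allRange pointOk 22 17928 9 = true := by decide +kernel
theorem p1u287 : ∀ k, 15345 ≤ k → k < 17937 → pointOk (k * 22) = true := between_extend pointOk 22 15345 17928 9 (p1u286) p1r287

theorem p1r288 : allRange pointOk 22 17937 9 = true := by decide +kernel
theorem p1u288 : ∀ k, 15345 ≤ k → k < 17946 → pointOk (k * 22) = true := between_extend pointOk 22 15345 17937 9 (p1u287) p1r288

theorem p1r289 : allRange pointOk 22 17946 9 = true := by decide +kernel
theorem p1u289 : ∀ k, 15345 ≤ k → k < 17955 → pointOk (k * 22) = true := between_extend pointOk 22 15345 17946 9 (p1u288) p1r289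

theorem p1r290 : allRange pointOk 22 17955 9 = true := by decide +kernel
theorem p1u290 : ∀ k, 15345 ≤ k → k < 17964 → pointOk (k * 22) = true := between_extend pointOk 22 15345 17955 9 (p1u289) p1r290

theorem p1r291 : allRange pointOk 22 17964 9 = true := by decide +kernel
theorem p1u291 : ∀ k, 15345 ≤ k → k < 17973 → pointOk (k * 22) = true := between_extend pointOk 22 15345 17964 9 (p1u290) p1r291

theorem p1r292 : allRange pointOk 22 17973 9 = true := by decide +kernel
theorem p1u292 : ∀ k, 15345 ≤ k → k < 17982 → pointOk (k * 22) = true := between_extend pointOk 22 15345 17973 9 (p1u291) p1r292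

theorem p1r293 : allRange pointOk 22 17982 9 = true := by decide +kernel
theorem p1u293 : ∀ k, 15345 ≤ k → k < 17991 → pointOk (k * 22) = true := between_extend pointOk 22 15345 17982 9 (p1u292) p1r293

theorem p1r294 : allRange pointOk 22 17991 9 = true := by decide +kernel
theorem p1u294 : ∀ k, 15345 ≤ k → k < 18000 → pointOk (k * 22) = true := between_extend pointOk 22 15345 17991 9 (p1u293) p1r294

theorem p1r295 : allRange pointOk 22 18000 9 = true := by decide +kernel
theorem p1u295 : ∀ k, 15345 ≤ k → k < 18009 → pointOk (k * 22) = true := between_extend pointOk 22 15345 18000 9 (p1u294) p1r295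

theorem p1r296 : allRange pointOk 22 18009 9 = true := by decide +kernel
theorem p1u296 : ∀ k, 15345 ≤ k → k < 18018 → pointOk (k * 22) = true := between_extend pointOk 22 15345 18009 9 (p1u295) p1r296

theorem p1r297 : allRange pointOk 22 18018 9 = true := by decide +kernel
theorem p1u297 : ∀ k, 15345 ≤ k → k < 18027 → pointOk (k * 22) = true := between_extend pointOk 22 15345 18018 9 (p1u296) p1r297

theorem p1r298 : allRange pointOk 22 18027 9 = true := by decide +kernel
theorem p1u298 : ∀ k, 15345 ≤ k → k < 18036 → pointOk (k * 22) = true := between_extend pointOk 22 15345 18027 9 (p1u297) p1r298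

theorem p1r299 : allRange pointOk 22 18036 9 = true := by decide +kernel
theorem p1u299 : ∀ k, 15345 ≤ k → k < 18045 → pointOk (k * 22) = true := between_extend pointOk 22 15345 18036 9 (p1u298) p1r299

theorem p1r300 : allRange pointOk 22 18045 9 = true := by decide +kernel
theorem p1u300 : ∀ k, 15345 ≤ k → k < 18054 → pointOk (k * 22) = true := between_extend pointOk 22 15345 18045 9 (p1u299) p1r300

theorem p1r301 : allRange pointOk 22 18054 9 = true := by decide +kernel
theorem p1u301 : ∀ k, 15345 ≤ k → k < 18063 → pointOk (k * 22) = true := between_extend pointOk 22 15345 18054 9 (p1u300) p1r301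

theorem p1r302 : allRange pointOk 22 18063 9 = true := by decide +kernel
theorem p1u302 : ∀ k, 15345 ≤ k → k < 18072 → pointOk (k * 22) = true := between_extend pointOk 22 15345 18063 9 (p1u301) p1r302

theorem p1r303 : allRange pointOk 22 18072 9 = true := by decide +kernel
theorem p1u303 : ∀ k, 15345 ≤ k → k < 18081 → pointOk (k * 22) = true := between_extend pointOk 22 15345 18072 9 (p1u302) p1r303

theorem p1r304 : allRange pointOk 22 18081 9 = true := by decide +kernel
theorem p1u304 : ∀ k, 15345 ≤ k → k < 18090 → pointOk (k * 22) = true := between_extend pointOk 22 15345 18081 9 (p1u303) p1r304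

theorem p1r305 : allRange pointOk 22 18090 9 = true := by decide +kernel
theorem p1u305 : ∀ k, 15345 ≤ k → k < 18099 → pointOk (k * 22) = true := between_extend pointOk 22 15345 18090 9 (p1u304) p1r305

theorem p1r306 : allRange pointOk 22 18099 9 = true := by decide +kernel
theorem p1u306 : ∀ k, 15345 ≤ k → k < 18108 → pointOk (k * 22) = true := between_extend pointOk 22 15345 18099 9 (p1u305) p1r306

theorem p1r307 : allRange pointOk 22 18108 9 = true := by decide +kernel
theorem p1u307 : ∀ k, 15345 ≤ k → k < 18117 → pointOk (k * 22) = true := between_extend pointOk 22 15345 18108 9 (p1u306) p1r307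

theorem p1r308 : allRange pointOk 22 18117 9 = true := by decide +kernel
theorem p1u308 : ∀ k, 15345 ≤ k → k < 18126 → pointOk (k * 22) = true := between_extend pointOk 22 15345 18117 9 (p1u307) p1r308

theorem p1r309 : allRange pointOk 22 18126 9 = true := by decide +kernel
theorem p1u309 : ∀ k, 15345 ≤ k → k < 18135 → pointOk (k * 22) = true := between_extend pointOk 22 15345 18126 9 (p1u308) p1r309

theorem p1r310 : allRange pointOk 22 18135 9 = true := by decide +kernel
theorem p1u310 : ∀ k, 15345 ≤ k → k < 18144 → pointOk (k * 22) = true := between_extend pointOk 22 15345 18135 9 (p1u309) p1r310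

theorem p1r311 : allRange pointOk 22 18144 9 = true := by decide +kernel
theorem p1u311 : ∀ k, 15345 ≤ k → k < 18153 → pointOk (k * 22) = true := between_extend pointOk 22 15345 18144 9 (p1u310) p1r311

theorem p1r312 : allRange pointOk 22 18153 9 = true := by decide +kernel
theorem p1u312 : ∀ k, 15345 ≤ k → k < 18162 → pointOk (k * 22) = true := between_extend pointOk 22 15345 18153 9 (p1u311) p1r312

theorem p1r313 : allRange pointOk 22 18162 9 = true := by decide +kernel
theorem p1u313 : ∀ k, 15345 ≤ k → k < 18171 → pointOk (k * 22) = true := between_extend pointOk 22 15345 18162 9 (p1u312) p1r313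

theorem p1r314 : allRange pointOk 22 18171 9 = true := by decide +kernel
theorem p1u314 : ∀ k, 15345 ≤ k → k < 18180 → pointOk (k * 22) = true := between_extend pointOk 22 15345 18171 9 (p1u313) p1r314

theorem p1r315 : allRange pointOk 22 18180 9 = true := by decide +kernel
theorem p1u315 : ∀ k, 15345 ≤ k → k < 18189 → pointOk (k * 22) = true := between_extend pointOk 22 15345 18180 9 (p1u314) p1r315

theorem p1r316 : allRange pointOk 22 18189 9 = true := by decide +kernel
theorem p1u316 : ∀ k, 15345 ≤ k → k < 18198 → pointOk (k * 22) = true := between_extend pointOk 22 15345 18189 9 (p1u315) p1r316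

theorem p1r317 : allRange pointOk 22 18198 9 = true := by decide +kernel
theorem p1u317 : ∀ k, 15345 ≤ k → k < 18207 → pointOk (k * 22) = true := between_extend pointOk 22 15345 18198 9 (p1u316) p1r317

theorem p1r318 : allRange pointOk 22 18207 9 = true := by decide +kernel
theorem p1u318 : ∀ k, 15345 ≤ k → k < 18216 → pointOk (k * 22) = true := between_extend pointOk 22 15345 18207 9 (p1u317) p1r318

theorem p1r319 : allRange pointOk 22 18216 9 = true := by decide +kernel
theorem p1u319 : ∀ k, 15345 ≤ k → k < 18225 → pointOk (k * 22) = true := between_extend pointOk 22 15345 18216 9 (p1u318) p1r319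

theorem p1r320 : allRange pointOk 22 18225 9 = true := by decide +kernel
theorem p1u320 : ∀ k, 15345 ≤ k → k < 18234 → pointOk (k * 22) = true := between_extend pointOk 22 15345 18225 9 (p1u319) p1r320

theorem p1r321 : allRange pointOk 22 18234 9 = true := by decide +kernel
theorem p1u321 : ∀ k, 15345 ≤ k → k < 18243 → pointOk (k * 22) = true := between_extend pointOk 22 15345 18234 9 (p1u320) p1r321

theorem p1r322 : allRange pointOk 22 18243 9 = true := by decide +kernel
theorem p1u322 : ∀ k, 15345 ≤ k → k < 18252 → pointOk (k * 22) = true := between_extend pointOk 22 15345 18243 9 (p1u321) p1r322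

theorem p1r323 : allRange pointOk 22 18252 9 = true := by decide +kernel
theorem p1u323 : ∀ k, 15345 ≤ k → k < 18261 → pointOk (k * 22) = true := between_extend pointOk 22 15345 18252 9 (p1u322) p1r323

theorem p1r324 : allRange pointOk 22 18261 9 = true := by decide +kernel
theorem p1u324 : ∀ k, 15345 ≤ k → k < 18270 → pointOk (k * 22) = true := between_extend pointOk 22 15345 18261 9 (p1u323) p1r324

theorem p1r325 : allRange pointOk 22 18270 9 = true := by decide +kernel
theorem p1u325 : ∀ k, 15345 ≤ k → k < 18279 → pointOk (k * 22) = true := between_extend pointOk 22 15345 18270 9 (p1u324) p1r325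

theorem p1r326 : allRange pointOk 22 18279 9 = true := by decide +kernel
theorem p1u326 : ∀ k, 15345 ≤ k → k < 18288 → pointOk (k * 22) = true := between_extend pointOk 22 15345 18279 9 (p1u325) p1r326

theorem p1r327 : allRange pointOk 22 18288 9 = true := by decide +kernel
theorem p1u327 : ∀ k, 15345 ≤ k → k < 18297 → pointOk (k * 22) = true := between_extend pointOk 22 15345 18288 9 (p1u326) p1r327

theorem p1r328 : allRange pointOk 22 18297 9 = true := by decide +kernel
theorem p1u328 : ∀ k, 15345 ≤ k → k < 18306 → pointOk (k * 22) = true := between_extend pointOk 22 15345 18297 9 (p1u327) p1r328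

theorem p1r329 : allRange pointOk 22 18306 9 = true := by decide +kernel
theorem p1u329 : ∀ k, 15345 ≤ k → k < 18315 → pointOk (k * 22) = true := between_extend pointOk 22 15345 18306 9 (p1u328) p1r329

theorem p1r330 : allRange pointOk 22 18315 9 = true := by decide +kernel
theorem p1u330 : ∀ k, 15345 ≤ k → k < 18324 → pointOk (k * 22) = true := between_extend pointOk 22 15345 18315 9 (p1u329) p1r330

theorem p1r331 : allRange pointOk 22 18324 9 = true := by decide +kernel
theorem p1u331 : ∀ k, 15345 ≤ k → k < 18333 → pointOk (k * 22) = true := between_extend pointOk 22 15345 18324 9 (p1u330) p1r331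

theorem p1r332 : allRange pointOk 22 18333 9 = true := by decide +kernel
theorem p1u332 : ∀ k, 15345 ≤ k → k < 18342 → pointOk (k * 22) = true := between_extend pointOk 22 15345 18333 9 (p1u331) p1r332

theorem p1r333 : allRange pointOk 22 18342 9 = true := by decide +kernel
theorem p1u333 : ∀ k, 15345 ≤ k → k < 18351 → pointOk (k * 22) = true := between_extend pointOk 22 15345 18342 9 (p1u332) p1r333

theorem p1r334 : allRange pointOk 22 18351 9 = true := by decide +kernel
theorem p1u334 : ∀ k, 15345 ≤ k → k < 18360 → pointOk (k * 22) = true := between_extend pointOk 22 15345 18351 9 (p1u333) p1r334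

theorem p1r335 : allRange pointOk 22 18360 9 = true := by decide +kernel
theorem p1u335 : ∀ k, 15345 ≤ k → k < 18369 → pointOk (k * 22) = true := between_extend pointOk 22 15345 18360 9 (p1u334) p1r335

theorem p1r336 : allRange pointOk 22 18369 9 = true := by decide +kernel
theorem p1u336 : ∀ k, 15345 ≤ k → k < 18378 → pointOk (k * 22) = true := between_extend pointOk 22 15345 18369 9 (p1u335) p1r336

theorem p1r337 : allRange pointOk 22 18378 9 = true := by decide +kernel
theorem p1u337 : ∀ k, 15345 ≤ k → k < 18387 → pointOk (k * 22) = true := between_extend pointOk 22 15345 18378 9 (p1u336) p1r337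

theorem p1r338 : allRange pointOk 22 18387 9 = true := by decide +kernel
theorem p1u338 : ∀ k, 15345 ≤ k → k < 18396 → pointOk (k * 22) = true := between_extend pointOk 22 15345 18387 9 (p1u337) p1r338

theorem p1r339 : allRange pointOk 22 18396 9 = true := by decide +kernel
theorem p1u339 : ∀ k, 15345 ≤ k → k < 18405 → pointOk (k * 22) = true := between_extend pointOk 22 15345 18396 9 (p1u338) p1r339

theorem p1r340 : allRange pointOk 22 18405 9 = true := by decide +kernel
theorem p1u340 : ∀ k, 15345 ≤ k → k < 18414 → pointOk (k * 22) = true := between_extend pointOk 22 15345 18405 9 (p1u339) p1r340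

theorem p1r341 : allRange pointOk 22 18414 9 = true := by decide +kernel
theorem p1u341 : ∀ k, 15345 ≤ k → k < 18423 → pointOk (k * 22) = true := between_extend pointOk 22 15345 18414 9 (p1u340) p1r341

theorem p1r342 : allRange pointOk 22 18423 9 = true := by decide +kernel
theorem p1u342 : ∀ k, 15345 ≤ k → k < 18432 → pointOk (k * 22) = true := between_extend pointOk 22 15345 18423 9 (p1u341) p1r342

theorem p1r343 : allRange pointOk 22 18432 9 = true := by decide +kernel
theorem p1u343 : ∀ k, 15345 ≤ k → k < 18441 → pointOk (k * 22) = true := between_extend pointOk 22 15345 18432 9 (p1u342) p1r343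

theorem p1r344 : allRange pointOk 22 18441 9 = true := by decide +kernel
theorem p1u344 : ∀ k, 15345 ≤ k → k < 18450 → pointOk (k * 22) = true := between_extend pointOk 22 15345 18441 9 (p1u343) p1r344

theorem p1r345 : allRange pointOk 22 18450 9 = true := by decide +kernel
theorem p1u345 : ∀ k, 15345 ≤ k → k < 18459 → pointOk (k * 22) = true := between_extend pointOk 22 15345 18450 9 (p1u344) p1r345

theorem p1r346 : allRange pointOk 22 18459 9 = true := by decide +kernel
theorem p1u346 : ∀ k, 15345 ≤ k → k < 18468 → pointOk (k * 22) = true := between_extend pointOk 22 15345 18459 9 (p1u345) p1r346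

theorem p1r347 : allRange pointOk 22 18468 9 = true := by decide +kernel
theorem p1u347 : ∀ k, 15345 ≤ k → k < 18477 → pointOk (k * 22) = true := between_extend pointOk 22 15345 18468 9 (p1u346) p1r347

theorem p1r348 : allRange pointOk 22 18477 9 = true := by decide +kernel
theorem p1u348 : ∀ k, 15345 ≤ k → k < 18486 → pointOk (k * 22) = true := between_extend pointOk 22 15345 18477 9 (p1u347) p1r348

theorem p1r349 : allRange pointOk 22 18486 9 = true := by decide +kernel
theorem p1u349 : ∀ k, 15345 ≤ k → k < 18495 → pointOk (k * 22) = true := between_extend pointOk 22 15345 18486 9 (p1u348) p1r349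

theorem p1r350 : allRange pointOk 22 18495 9 = true := by decide +kernel
theorem p1u350 : ∀ k, 15345 ≤ k → k < 18504 → pointOk (k * 22) = true := between_extend pointOk 22 15345 18495 9 (p1u349) p1r350

theorem p1r351 : allRange pointOk 22 18504 9 = true := by decide +kernel
theorem p1u351 : ∀ k, 15345 ≤ k → k < 18513 → pointOk (k * 22) = true := between_extend pointOk 22 15345 18504 9 (p1u350) p1r351

theorem p1r352 : allRange pointOk 22 18513 9 = true := by decide +kernel
theorem p1u352 : ∀ k, 15345 ≤ k → k < 18522 → pointOk (k * 22) = true := between_extend pointOk 22 15345 18513 9 (p1u351) p1r352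

theorem p1r353 : allRange pointOk 22 18522 9 = true := by decide +kernel
theorem p1u353 : ∀ k, 15345 ≤ k → k < 18531 → pointOk (k * 22) = true := between_extend pointOk 22 15345 18522 9 (p1u352) p1r353

theorem p1r354 : allRange pointOk 22 18531 9 = true := by decide +kernel
theorem p1u354 : ∀ k, 15345 ≤ k → k < 18540 → pointOk (k * 22) = true := between_extend pointOk 22 15345 18531 9 (p1u353) p1r354

theorem p1r355 : allRange pointOk 22 18540 9 = true := by decide +kernel
theorem p1u355 : ∀ k, 15345 ≤ k → k < 18549 → pointOk (k * 22) = true := between_extend pointOk 22 15345 18540 9 (p1u354) p1r355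

theorem p1r356 : allRange pointOk 22 18549 9 = true := by decide +kernel
theorem p1u356 : ∀ k, 15345 ≤ k → k < 18558 → pointOk (k * 22) = true := between_extend pointOk 22 15345 18549 9 (p1u355) p1r356

theorem p1r357 : allRange pointOk 22 18558 9 = true := by decide +kernel
theorem p1u357 : ∀ k, 15345 ≤ k → k < 18567 → pointOk (k * 22) = true := between_extend pointOk 22 15345 18558 9 (p1u356) p1r357

theorem p1r358 : allRange pointOk 22 18567 9 = true := by decide +kernel
theorem p1u358 : ∀ k, 15345 ≤ k → k < 18576 → pointOk (k * 22) = true := between_extend pointOk 22 15345 18567 9 (p1u357) p1r358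

theorem p1r359 : allRange pointOk 22 18576 9 = true := by decide +kernel
theorem p1u359 : ∀ k, 15345 ≤ k → k < 18585 → pointOk (k * 22) = true := between_extend pointOk 22 15345 18576 9 (p1u358) p1r359

theorem p1r360 : allRange pointOk 22 18585 9 = true := by decide +kernel
theorem p1u360 : ∀ k, 15345 ≤ k → k < 18594 → pointOk (k * 22) = true := between_extend pointOk 22 15345 18585 9 (p1u359) p1r360

theorem p1r361 : allRange pointOk 22 18594 9 = true := by decide +kernel
theorem p1u361 : ∀ k, 15345 ≤ k → k < 18603 → pointOk (k * 22) = true := between_extend pointOk 22 15345 18594 9 (p1u360) p1r361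

theorem p1r362 : allRange pointOk 22 18603 9 = true := by decide +kernel
theorem p1u362 : ∀ k, 15345 ≤ k → k < 18612 → pointOk (k * 22) = true := between_extend pointOk 22 15345 18603 9 (p1u361) p1r362

theorem p1r363 : allRange pointOk 22 18612 9 = true := by decide +kernel
theorem p1u363 : ∀ k, 15345 ≤ k → k < 18621 → pointOk (k * 22) = true := between_extend pointOk 22 15345 18612 9 (p1u362) p1r363

theorem p1r364 : allRange pointOk 22 18621 9 = true := by decide +kernel
theorem p1u364 : ∀ k, 15345 ≤ k → k < 18630 → pointOk (k * 22) = true := between_extend pointOk 22 15345 18621 9 (p1u363) p1r364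

theorem p1r365 : allRange pointOk 22 18630 9 = true := by decide +kernel
theorem p1u365 : ∀ k, 15345 ≤ k → k < 18639 → pointOk (k * 22) = true := between_extend pointOk 22 15345 18630 9 (p1u364) p1r365

theorem p1r366 : allRange pointOk 22 18639 9 = true := by decide +kernel
theorem p1u366 : ∀ k, 15345 ≤ k → k < 18648 → pointOk (k * 22) = true := between_extend pointOk 22 15345 18639 9 (p1u365) p1r366

theorem p1r367 : allRange pointOk 22 18648 9 = true := by decide +kernel
theorem p1u367 : ∀ k, 15345 ≤ k → k < 18657 → pointOk (k * 22) = true := between_extend pointOk 22 15345 18648 9 (p1u366) p1r367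

theorem p1r368 : allRange pointOk 22 18657 9 = true := by decide +kernel
theorem p1u368 : ∀ k, 15345 ≤ k → k < 18666 → pointOk (k * 22) = true := between_extend pointOk 22 15345 18657 9 (p1u367) p1r368

theorem p1r369 : allRange pointOk 22 18666 9 = true := by decide +kernel
theorem p1u369 : ∀ k, 15345 ≤ k → k < 18675 → pointOk (k * 22) = true := between_extend pointOk 22 15345 18666 9 (p1u368) p1r369

theorem p1r370 : allRange pointOk 22 18675 9 = true := by decide +kernel
theorem p1u370 : ∀ k, 15345 ≤ k → k < 18684 → pointOk (k * 22) = true := between_extend pointOk 22 15345 18675 9 (p1u369) p1r370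

theorem p1r371 : allRange pointOk 22 18684 9 = true := by decide +kernel
theorem p1u371 : ∀ k, 15345 ≤ k → k < 18693 → pointOk (k * 22) = true := between_extend pointOk 22 15345 18684 9 (p1u370) p1r371

theorem p1r372 : allRange pointOk 22 18693 9 = true := by decide +kernel
theorem p1u372 : ∀ k, 15345 ≤ k → k < 18702 → pointOk (k * 22) = true := between_extend pointOk 22 15345 18693 9 (p1u371) p1r372

theorem p1r373 : allRange pointOk 22 18702 9 = true := by decide +kernel
theorem p1u373 : ∀ k, 15345 ≤ k → k < 18711 → pointOk (k * 22) = true := between_extend pointOk 22 15345 18702 9 (p1u372) p1r373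

theorem p1r374 : allRange pointOk 22 18711 9 = true := by decide +kernel
theorem p1u374 : ∀ k, 15345 ≤ k → k < 18720 → pointOk (k * 22) = true := between_extend pointOk 22 15345 18711 9 (p1u373) p1r374

theorem p1r375 : allRange pointOk 22 18720 9 = true := by decide +kernel
theorem p1u375 : ∀ k, 15345 ≤ k → k < 18729 → pointOk (k * 22) = true := between_extend pointOk 22 15345 18720 9 (p1u374) p1r375

theorem p1r376 : allRange pointOk 22 18729 9 = true := by decide +kernel
theorem p1u376 : ∀ k, 15345 ≤ k → k < 18738 → pointOk (k * 22) = true := between_extend pointOk 22 15345 18729 9 (p1u375) p1r376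

theorem p1r377 : allRange pointOk 22 18738 9 = true := by decide +kernel
theorem p1u377 : ∀ k, 15345 ≤ k → k < 18747 → pointOk (k * 22) = true := between_extend pointOk 22 15345 18738 9 (p1u376) p1r377

theorem p1r378 : allRange pointOk 22 18747 9 = true := by decide +kernel
theorem p1u378 : ∀ k, 15345 ≤ k → k < 18756 → pointOk (k * 22) = true := between_extend pointOk 22 15345 18747 9 (p1u377) p1r378

theorem p1r379 : allRange pointOk 22 18756 9 = true := by decide +kernel
theorem p1u379 : ∀ k, 15345 ≤ k → k < 18765 → pointOk (k * 22) = true := between_extend pointOk 22 15345 18756 9 (p1u378) p1r379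

theorem p1r380 : allRange pointOk 22 18765 9 = true := by decide +kernel
theorem p1u380 : ∀ k, 15345 ≤ k → k < 18774 → pointOk (k * 22) = true := between_extend pointOk 22 15345 18765 9 (p1u379) p1r380

theorem p1r381 : allRange pointOk 22 18774 9 = true := by decide +kernel
theorem p1u381 : ∀ k, 15345 ≤ k → k < 18783 → pointOk (k * 22) = true := between_extend pointOk 22 15345 18774 9 (p1u380) p1r381

theorem p1r382 : allRange pointOk 22 18783 9 = true := by decide +kernel
theorem p1u382 : ∀ k, 15345 ≤ k → k < 18792 → pointOk (k * 22) = true := between_extend pointOk 22 15345 18783 9 (p1u381) p1r382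

theorem p1r383 : allRange pointOk 22 18792 9 = true := by decide +kernel
theorem p1u383 : ∀ k, 15345 ≤ k → k < 18801 → pointOk (k * 22) = true := between_extend pointOk 22 15345 18792 9 (p1u382) p1r383

theorem p1r384 : allRange pointOk 22 18801 9 = true := by decide +kernel
theorem p1u384 : ∀ k, 15345 ≤ k → k < 18810 → pointOk (k * 22) = true := between_extend pointOk 22 15345 18801 9 (p1u383) p1r384

theorem p1r385 : allRange pointOk 22 18810 9 = true := by decide +kernel
theorem p1u385 : ∀ k, 15345 ≤ k → k < 18819 → pointOk (k * 22) = true := between_extend pointOk 22 15345 18810 9 (p1u384) p1r385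

theorem p1r386 : allRange pointOk 22 18819 9 = true := by decide +kernel
theorem p1u386 : ∀ k, 15345 ≤ k → k < 18828 → pointOk (k * 22) = true := between_extend pointOk 22 15345 18819 9 (p1u385) p1r386

theorem p1r387 : allRange pointOk 22 18828 9 = true := by decide +kernel
theorem p1u387 : ∀ k, 15345 ≤ k → k < 18837 → pointOk (k * 22) = true := between_extend pointOk 22 15345 18828 9 (p1u386) p1r387

theorem p1r388 : allRange pointOk 22 18837 9 = true := by decide +kernel
theorem p1u388 : ∀ k, 15345 ≤ k → k < 18846 → pointOk (k * 22) = true := between_extend pointOk 22 15345 18837 9 (p1u387) p1r388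

theorem p1r389 : allRange pointOk 22 18846 9 = true := by decide +kernel
theorem p1u389 : ∀ k, 15345 ≤ k → k < 18855 → pointOk (k * 22) = true := between_extend pointOk 22 15345 18846 9 (p1u388) p1r389

theorem p1r390 : allRange pointOk 22 18855 9 = true := by decide +kernel
theorem p1u390 : ∀ k, 15345 ≤ k → k < 18864 → pointOk (k * 22) = true := between_extend pointOk 22 15345 18855 9 (p1u389) p1r390

theorem p1r391 : allRange pointOk 22 18864 9 = true := by decide +kernel
theorem p1u391 : ∀ k, 15345 ≤ k → k < 18873 → pointOk (k * 22) = true := between_extend pointOk 22 15345 18864 9 (p1u390) p1r391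

theorem p1r392 : allRange pointOk 22 18873 9 = true := by decide +kernel
theorem p1u392 : ∀ k, 15345 ≤ k → k < 18882 → pointOk (k * 22) = true := between_extend pointOk 22 15345 18873 9 (p1u391) p1r392

theorem p1r393 : allRange pointOk 22 18882 9 = true := by decide +kernel
theorem p1u393 : ∀ k, 15345 ≤ k → k < 18891 → pointOk (k * 22) = true := between_extend pointOk 22 15345 18882 9 (p1u392) p1r393

theorem p1r394 : allRange pointOk 22 18891 9 = true := by decide +kernel
theorem p1u394 : ∀ k, 15345 ≤ k → k < 18900 → pointOk (k * 22) = true := between_extend pointOk 22 15345 18891 9 (p1u393) p1r394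

theorem p1r395 : allRange pointOk 22 18900 9 = true := by decide +kernel
theorem p1u395 : ∀ k, 15345 ≤ k → k < 18909 → pointOk (k * 22) = true := between_extend pointOk 22 15345 18900 9 (p1u394) p1r395

theorem p1r396 : allRange pointOk 22 18909 9 = true := by decide +kernel
theorem p1u396 : ∀ k, 15345 ≤ k → k < 18918 → pointOk (k * 22) = true := between_extend pointOk 22 15345 18909 9 (p1u395) p1r396

theorem p1r397 : allRange pointOk 22 18918 9 = true := by decide +kernel
theorem p1u397 : ∀ k, 15345 ≤ k → k < 18927 → pointOk (k * 22) = true := between_extend pointOk 22 15345 18918 9 (p1u396) p1r397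

theorem p1r398 : allRange pointOk 22 18927 9 = true := by decide +kernel
theorem p1u398 : ∀ k, 15345 ≤ k → k < 18936 → pointOk (k * 22) = true := between_extend pointOk 22 15345 18927 9 (p1u397) p1r398

theorem p1r399 : allRange pointOk 22 18936 9 = true := by decide +kernel
theorem p1u399 : ∀ k, 15345 ≤ k → k < 18945 → pointOk (k * 22) = true := between_extend pointOk 22 15345 18936 9 (p1u398) p1r399

theorem p1r400 : allRange pointOk 22 18945 9 = true := by decide +kernel
theorem p1u400 : ∀ k, 15345 ≤ k → k < 18954 → pointOk (k * 22) = true := between_extend pointOk 22 15345 18945 9 (p1u399) p1r400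

theorem p1r401 : allRange pointOk 22 18954 9 = true := by decide +kernel
theorem p1u401 : ∀ k, 15345 ≤ k → k < 18963 → pointOk (k * 22) = true := between_extend pointOk 22 15345 18954 9 (p1u400) p1r401

theorem p1r402 : allRange pointOk 22 18963 9 = true := by decide +kernel
theorem p1u402 : ∀ k, 15345 ≤ k → k < 18972 → pointOk (k * 22) = true := between_extend pointOk 22 15345 18963 9 (p1u401) p1r402

theorem p1r403 : allRange pointOk 22 18972 9 = true := by decide +kernel
theorem p1u403 : ∀ k, 15345 ≤ k → k < 18981 → pointOk (k * 22) = true := between_extend pointOk 22 15345 18972 9 (p1u402) p1r403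

theorem p1r404 : allRange pointOk 22 18981 9 = true := by decide +kernel
theorem p1u404 : ∀ k, 15345 ≤ k → k < 18990 → pointOk (k * 22) = true := between_extend pointOk 22 15345 18981 9 (p1u403) p1r404

theorem p1r405 : allRange pointOk 22 18990 9 = true := by decide +kernel
theorem p1u405 : ∀ k, 15345 ≤ k → k < 18999 → pointOk (k * 22) = true := between_extend pointOk 22 15345 18990 9 (p1u404) p1r405

theorem p1r406 : allRange pointOk 22 18999 9 = true := by decide +kernel
theorem p1u406 : ∀ k, 15345 ≤ k → k < 19008 → pointOk (k * 22) = true := between_extend pointOk 22 15345 18999 9 (p1u405) p1r406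

theorem p1r407 : allRange pointOk 22 19008 9 = true := by decide +kernel
theorem p1u407 : ∀ k, 15345 ≤ k → k < 19017 → pointOk (k * 22) = true := between_extend pointOk 22 15345 19008 9 (p1u406) p1r407

theorem p1r408 : allRange pointOk 22 19017 9 = true := by decide +kernel
theorem p1u408 : ∀ k, 15345 ≤ k → k < 19026 → pointOk (k * 22) = true := between_extend pointOk 22 15345 19017 9 (p1u407) p1r408

theorem p1r409 : allRange pointOk 22 19026 9 = true := by decide +kernel
theorem p1u409 : ∀ k, 15345 ≤ k → k < 19035 → pointOk (k * 22) = true := between_extend pointOk 22 15345 19026 9 (p1u408) p1r409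

theorem p1r410 : allRange pointOk 22 19035 9 = true := by decide +kernel
theorem p1u410 : ∀ k, 15345 ≤ k → k < 19044 → pointOk (k * 22) = true := between_extend pointOk 22 15345 19035 9 (p1u409) p1r410

theorem p1r411 : allRange pointOk 22 19044 9 = true := by decide +kernel
theorem p1u411 : ∀ k, 15345 ≤ k → k < 19053 → pointOk (k * 22) = true := between_extend pointOk 22 15345 19044 9 (p1u410) p1r411

theorem p1r412 : allRange pointOk 22 19053 9 = true := by decide +kernel
theorem p1u412 : ∀ k, 15345 ≤ k → k < 19062 → pointOk (k * 22) = true := between_extend pointOk 22 15345 19053 9 (p1u411) p1r412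

theorem p1r413 : allRange pointOk 22 19062 9 = true := by decide +kernel
theorem p1u413 : ∀ k, 15345 ≤ k → k < 19071 → pointOk (k * 22) = true := between_extend pointOk 22 15345 19062 9 (p1u412) p1r413

theorem p1r414 : allRange pointOk 22 19071 9 = true := by decide +kernel
theorem p1u414 : ∀ k, 15345 ≤ k → k < 19080 → pointOk (k * 22) = true := between_extend pointOk 22 15345 19071 9 (p1u413) p1r414

theorem p1r415 : allRange pointOk 22 19080 9 = true := by decide +kernel
theorem p1u415 : ∀ k, 15345 ≤ k → k < 19089 → pointOk (k * 22) = true := between_extend pointOk 22 15345 19080 9 (p1u414) p1r415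

theorem p1r416 : allRange pointOk 22 19089 9 = true := by decide +kernel
theorem p1u416 : ∀ k, 15345 ≤ k → k < 19098 → pointOk (k * 22) = true := between_extend pointOk 22 15345 19089 9 (p1u415) p1r416

theorem p1r417 : allRange pointOk 22 19098 9 = true := by decide +kernel
theorem p1u417 : ∀ k, 15345 ≤ k → k < 19107 → pointOk (k * 22) = true := between_extend pointOk 22 15345 19098 9 (p1u416) p1r417

theorem p1r418 : allRange pointOk 22 19107 9 = true := by decide +kernel
theorem p1u418 : ∀ k, 15345 ≤ k → k < 19116 → pointOk (k * 22) = true := between_extend pointOk 22 15345 19107 9 (p1u417) p1r418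

theorem p1r419 : allRange pointOk 22 19116 9 = true := by decide +kernel
theorem p1u419 : ∀ k, 15345 ≤ k → k < 19125 → pointOk (k * 22) = true := between_extend pointOk 22 15345 19116 9 (p1u418) p1r419

theorem p1r420 : allRange pointOk 22 19125 9 = true := by decide +kernel
theorem p1u420 : ∀ k, 15345 ≤ k → k < 19134 → pointOk (k * 22) = true := between_extend pointOk 22 15345 19125 9 (p1u419) p1r420

theorem p1r421 : allRange pointOk 22 19134 9 = true := by decide +kernel
theorem p1u421 : ∀ k, 15345 ≤ k → k < 19143 → pointOk (k * 22) = true := between_extend pointOk 22 15345 19134 9 (p1u420) p1r421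

theorem p1r422 : allRange pointOk 22 19143 9 = true := by decide +kernel
theorem p1u422 : ∀ k, 15345 ≤ k → k < 19152 → pointOk (k * 22) = true := between_extend pointOk 22 15345 19143 9 (p1u421) p1r422

theorem p1r423 : allRange pointOk 22 19152 9 = true := by decide +kernel
theorem p1u423 : ∀ k, 15345 ≤ k → k < 19161 → pointOk (k * 22) = true := between_extend pointOk 22 15345 19152 9 (p1u422) p1r423

theorem p1r424 : allRange pointOk 22 19161 9 = true := by decide +kernel
theorem p1u424 : ∀ k, 15345 ≤ k → k < 19170 → pointOk (k * 22) = true := between_extend pointOk 22 15345 19161 9 (p1u423) p1r424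

theorem p1r425 : allRange pointOk 22 19170 9 = true := by decide +kernel
theorem p1u425 : ∀ k, 15345 ≤ k → k < 19179 → pointOk (k * 22) = true := between_extend pointOk 22 15345 19170 9 (p1u424) p1r425

theorem p1r426 : allRange pointOk 22 19179 9 = true := by decide +kernel
theorem p1u426 : ∀ k, 15345 ≤ k → k < 19188 → pointOk (k * 22) = true := between_extend pointOk 22 15345 19179 9 (p1u425) p1r426

theorem p1r427 : allRange pointOk 22 19188 9 = true := by decide +kernel
theorem p1u427 : ∀ k, 15345 ≤ k → k < 19197 → pointOk (k * 22) = true := between_extend pointOk 22 15345 19188 9 (p1u426) p1r427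

theorem p1r428 : allRange pointOk 22 19197 9 = true := by decide +kernel
theorem p1u428 : ∀ k, 15345 ≤ k → k < 19206 → pointOk (k * 22) = true := between_extend pointOk 22 15345 19197 9 (p1u427) p1r428

theorem p1r429 : allRange pointOk 22 19206 9 = true := by decide +kernel
theorem p1u429 : ∀ k, 15345 ≤ k → k < 19215 → pointOk (k * 22) = true := between_extend pointOk 22 15345 19206 9 (p1u428) p1r429

theorem p1r430 : allRange pointOk 22 19215 9 = true := by decide +kernel
theorem p1u430 : ∀ k, 15345 ≤ k → k < 19224 → pointOk (k * 22) = true := between_extend pointOk 22 15345 19215 9 (p1u429) p1r430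

theorem p1r431 : allRange pointOk 22 19224 9 = true := by decide +kernel
theorem p1u431 : ∀ k, 15345 ≤ k → k < 19233 → pointOk (k * 22) = true := between_extend pointOk 22 15345 19224 9 (p1u430) p1r431

theorem p1r432 : allRange pointOk 22 19233 9 = true := by decide +kernel
theorem p1u432 : ∀ k, 15345 ≤ k → k < 19242 → pointOk (k * 22) = true := between_extend pointOk 22 15345 19233 9 (p1u431) p1r432

theorem p1r433 : allRange pointOk 22 19242 9 = true := by decide +kernel
theorem p1u433 : ∀ k, 15345 ≤ k → k < 19251 → pointOk (k * 22) = true := between_extend pointOk 22 15345 19242 9 (p1u432) p1r433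

theorem p1r434 : allRange pointOk 22 19251 9 = true := by decide +kernel
theorem p1u434 : ∀ k, 15345 ≤ k → k < 19260 → pointOk (k * 22) = true := between_extend pointOk 22 15345 19251 9 (p1u433) p1r434

theorem p1r435 : allRange pointOk 22 19260 9 = true := by decide +kernel
theorem p1u435 : ∀ k, 15345 ≤ k → k < 19269 → pointOk (k * 22) = true := between_extend pointOk 22 15345 19260 9 (p1u434) p1r435

theorem p1r436 : allRange pointOk 22 19269 9 = true := by decide +kernel
theorem p1u436 : ∀ k, 15345 ≤ k → k < 19278 → pointOk (k * 22) = true := between_extend pointOk 22 15345 19269 9 (p1u435) p1r436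

theorem p1r437 : allRange pointOk 22 19278 9 = true := by decide +kernel
theorem p1u437 : ∀ k, 15345 ≤ k → k < 19287 → pointOk (k * 22) = true := between_extend pointOk 22 15345 19278 9 (p1u436) p1r437

theorem p1r438 : allRange pointOk 22 19287 9 = true := by decide +kernel
theorem p1u438 : ∀ k, 15345 ≤ k → k < 19296 → pointOk (k * 22) = true := between_extend pointOk 22 15345 19287 9 (p1u437) p1r438

theorem p1r439 : allRange pointOk 22 19296 9 = true := by decide +kernel
theorem p1u439 : ∀ k, 15345 ≤ k → k < 19305 → pointOk (k * 22) = true := between_extend pointOk 22 15345 19296 9 (p1u438) p1r439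

theorem p1r440 : allRange pointOk 22 19305 9 = true := by decide +kernel
theorem p1u440 : ∀ k, 15345 ≤ k → k < 19314 → pointOk (k * 22) = true := between_extend pointOk 22 15345 19305 9 (p1u439) p1r440

theorem p1r441 : allRange pointOk 22 19314 9 = true := by decide +kernel
theorem p1u441 : ∀ k, 15345 ≤ k → k < 19323 → pointOk (k * 22) = true := between_extend pointOk 22 15345 19314 9 (p1u440) p1r441

theorem p1r442 : allRange pointOk 22 19323 9 = true := by decide +kernel
theorem p1u442 : ∀ k, 15345 ≤ k → k < 19332 → pointOk (k * 22) = true := between_extend pointOk 22 15345 19323 9 (p1u441) p1r442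

theorem p1r443 : allRange pointOk 22 19332 9 = true := by decide +kernel
theorem p1u443 : ∀ k, 15345 ≤ k → k < 19341 → pointOk (k * 22) = true := between_extend pointOk 22 15345 19332 9 (p1u442) p1r443

theorem p1r444 : allRange pointOk 22 19341 9 = true := by decide +kernel
theorem p1u444 : ∀ k, 15345 ≤ k → k < 19350 → pointOk (k * 22) = true := between_extend pointOk 22 15345 19341 9 (p1u443) p1r444

theorem p1r445 : allRange pointOk 22 19350 9 = true := by decide +kernel
theorem p1u445 : ∀ k, 15345 ≤ k → k < 19359 → pointOk (k * 22) = true := between_extend pointOk 22 15345 19350 9 (p1u444) p1r445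

theorem p1r446 : allRange pointOk 22 19359 9 = true := by decide +kernel
theorem p1u446 : ∀ k, 15345 ≤ k → k < 19368 → pointOk (k * 22) = true := between_extend pointOk 22 15345 19359 9 (p1u445) p1r446

theorem p1r447 : allRange pointOk 22 19368 9 = true := by decide +kernel
theorem p1u447 : ∀ k, 15345 ≤ k → k < 19377 → pointOk (k * 22) = true := between_extend pointOk 22 15345 19368 9 (p1u446) p1r447

theorem p1r448 : allRange pointOk 22 19377 9 = true := by decide +kernel
theorem p1u448 : ∀ k, 15345 ≤ k → k < 19386 → pointOk (k * 22) = true := between_extend pointOk 22 15345 19377 9 (p1u447) p1r448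

theorem p1r449 : allRange pointOk 22 19386 9 = true := by decide +kernel
theorem p1u449 : ∀ k, 15345 ≤ k → k < 19395 → pointOk (k * 22) = true := between_extend pointOk 22 15345 19386 9 (p1u448) p1r449

theorem p1r450 : allRange pointOk 22 19395 9 = true := by decide +kernel
theorem p1u450 : ∀ k, 15345 ≤ k → k < 19404 → pointOk (k * 22) = true := between_extend pointOk 22 15345 19395 9 (p1u449) p1r450

theorem p1r451 : allRange pointOk 22 19404 9 = true := by decide +kernel
theorem p1u451 : ∀ k, 15345 ≤ k → k < 19413 → pointOk (k * 22) = true := between_extend pointOk 22 15345 19404 9 (p1u450) p1r451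

theorem p1r452 : allRange pointOk 22 19413 9 = true := by decide +kernel
theorem p1u452 : ∀ k, 15345 ≤ k → k < 19422 → pointOk (k * 22) = true := between_extend pointOk 22 15345 19413 9 (p1u451) p1r452

theorem p1r453 : allRange pointOk 22 19422 9 = true := by decide +kernel
theorem p1u453 : ∀ k, 15345 ≤ k → k < 19431 → pointOk (k * 22) = true := between_extend pointOk 22 15345 19422 9 (p1u452) p1r453

theorem p1r454 : allRange pointOk 22 19431 9 = true := by decide +kernel
theorem p1u454 : ∀ k, 15345 ≤ k → k < 19440 → pointOk (k * 22) = true := between_extend pointOk 22 15345 19431 9 (p1u453) p1r454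

theorem p1r455 : allRange pointOk 22 19440 9 = true := by decide +kernel
theorem p1u455 : ∀ k, 15345 ≤ k → k < 19449 → pointOk (k * 22) = true := between_extend pointOk 22 15345 19440 9 (p1u454) p1r455

theorem p1r456 : allRange pointOk 22 19449 9 = true := by decide +kernel
theorem p1u456 : ∀ k, 15345 ≤ k → k < 19458 → pointOk (k * 22) = true := between_extend pointOk 22 15345 19449 9 (p1u455) p1r456

theorem p1r457 : allRange pointOk 22 19458 9 = true := by decide +kernel
theorem p1u457 : ∀ k, 15345 ≤ k → k < 19467 → pointOk (k * 22) = true := between_extend pointOk 22 15345 19458 9 (p1u456) p1r457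

theorem p1r458 : allRange pointOk 22 19467 9 = true := by decide +kernel
theorem p1u458 : ∀ k, 15345 ≤ k → k < 19476 → pointOk (k * 22) = true := between_extend pointOk 22 15345 19467 9 (p1u457) p1r458

theorem p1r459 : allRange pointOk 22 19476 9 = true := by decide +kernel
theorem p1u459 : ∀ k, 15345 ≤ k → k < 19485 → pointOk (k * 22) = true := between_extend pointOk 22 15345 19476 9 (p1u458) p1r459

theorem p1r460 : allRange pointOk 22 19485 9 = true := by decide +kernel
theorem p1u460 : ∀ k, 15345 ≤ k → k < 19494 → pointOk (k * 22) = true := between_extend pointOk 22 15345 19485 9 (p1u459) p1r460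

theorem p1r461 : allRange pointOk 22 19494 9 = true := by decide +kernel
theorem p1u461 : ∀ k, 15345 ≤ k → k < 19503 → pointOk (k * 22) = true := between_extend pointOk 22 15345 19494 9 (p1u460) p1r461

theorem p1r462 : allRange pointOk 22 19503 9 = true := by decide +kernel
theorem p1u462 : ∀ k, 15345 ≤ k → k < 19512 → pointOk (k * 22) = true := between_extend pointOk 22 15345 19503 9 (p1u461) p1r462

theorem p1r463 : allRange pointOk 22 19512 9 = true := by decide +kernel
theorem p1u463 : ∀ k, 15345 ≤ k → k < 19521 → pointOk (k * 22) = true := between_extend pointOk 22 15345 19512 9 (p1u462) p1r463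

theorem p1r464 : allRange pointOk 22 19521 9 = true := by decide +kernel
theorem p1u464 : ∀ k, 15345 ≤ k → k < 19530 → pointOk (k * 22) = true := between_extend pointOk 22 15345 19521 9 (p1u463) p1r464

theorem p1r465 : allRange pointOk 22 19530 9 = true := by decide +kernel
theorem p1u465 : ∀ k, 15345 ≤ k → k < 19539 → pointOk (k * 22) = true := between_extend pointOk 22 15345 19530 9 (p1u464) p1r465

theorem p1r466 : allRange pointOk 22 19539 9 = true := by decide +kernel
theorem p1u466 : ∀ k, 15345 ≤ k → k < 19548 → pointOk (k * 22) = true := between_extend pointOk 22 15345 19539 9 (p1u465) p1r466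

theorem p1r467 : allRange pointOk 22 19548 9 = true := by decide +kernel
theorem p1u467 : ∀ k, 15345 ≤ k → k < 19557 → pointOk (k * 22) = true := between_extend pointOk 22 15345 19548 9 (p1u466) p1r467

theorem p1r468 : allRange pointOk 22 19557 9 = true := by decide +kernel
theorem p1u468 : ∀ k, 15345 ≤ k → k < 19566 → pointOk (k * 22) = true := between_extend pointOk 22 15345 19557 9 (p1u467) p1r468

theorem p1r469 : allRange pointOk 22 19566 9 = true := by decide +kernel
theorem p1u469 : ∀ k, 15345 ≤ k → k < 19575 → pointOk (k * 22) = true := between_extend pointOk 22 15345 19566 9 (p1u468) p1r469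

theorem p1r470 : allRange pointOk 22 19575 9 = true := by decide +kernel
theorem p1u470 : ∀ k, 15345 ≤ k → k < 19584 → pointOk (k * 22) = true := between_extend pointOk 22 15345 19575 9 (p1u469) p1r470

theorem p1r471 : allRange pointOk 22 19584 9 = true := by decide +kernel
theorem p1u471 : ∀ k, 15345 ≤ k → k < 19593 → pointOk (k * 22) = true := between_extend pointOk 22 15345 19584 9 (p1u470) p1r471

theorem p1r472 : allRange pointOk 22 19593 9 = true := by decide +kernel
theorem p1u472 : ∀ k, 15345 ≤ k → k < 19602 → pointOk (k * 22) = true := between_extend pointOk 22 15345 19593 9 (p1u471) p1r472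

theorem p1r473 : allRange pointOk 22 19602 9 = true := by decide +kernel
theorem p1u473 : ∀ k, 15345 ≤ k → k < 19611 → pointOk (k * 22) = true := between_extend pointOk 22 15345 19602 9 (p1u472) p1r473

theorem p1r474 : allRange pointOk 22 19611 9 = true := by decide +kernel
theorem p1u474 : ∀ k, 15345 ≤ k → k < 19620 → pointOk (k * 22) = true := between_extend pointOk 22 15345 19611 9 (p1u473) p1r474

theorem p1r475 : allRange pointOk 22 19620 9 = true := by decide +kernel
theorem p1u475 : ∀ k, 15345 ≤ k → k < 19629 → pointOk (k * 22) = true := between_extend pointOk 22 15345 19620 9 (p1u474) p1r475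

theorem p1r476 : allRange pointOk 22 19629 9 = true := by decide +kernel
theorem p1u476 : ∀ k, 15345 ≤ k → k < 19638 → pointOk (k * 22) = true := between_extend pointOk 22 15345 19629 9 (p1u475) p1r476

theorem p1r477 : allRange pointOk 22 19638 9 = true := by decide +kernel
theorem p1u477 : ∀ k, 15345 ≤ k → k < 19647 → pointOk (k * 22) = true := between_extend pointOk 22 15345 19638 9 (p1u476) p1r477

theorem p1r478 : allRange pointOk 22 19647 9 = true := by decide +kernel
theorem p1u478 : ∀ k, 15345 ≤ k → k < 19656 → pointOk (k * 22) = true := between_extend pointOk 22 15345 19647 9 (p1u477) p1r478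

theorem p1r479 : allRange pointOk 22 19656 9 = true := by decide +kernel
theorem p1u479 : ∀ k, 15345 ≤ k → k < 19665 → pointOk (k * 22) = true := between_extend pointOk 22 15345 19656 9 (p1u478) p1r479

theorem p1r480 : allRange pointOk 22 19665 9 = true := by decide +kernel
theorem p1u480 : ∀ k, 15345 ≤ k → k < 19674 → pointOk (k * 22) = true := between_extend pointOk 22 15345 19665 9 (p1u479) p1r480

theorem p1r481 : allRange pointOk 22 19674 9 = true := by decide +kernel
theorem p1u481 : ∀ k, 15345 ≤ k → k < 19683 → pointOk (k * 22) = true := between_extend pointOk 22 15345 19674 9 (p1u480) p1r481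

theorem p1r482 : allRange pointOk 22 19683 9 = true := by decide +kernel
theorem p1u482 : ∀ k, 15345 ≤ k → k < 19692 → pointOk (k * 22) = true := between_extend pointOk 22 15345 19683 9 (p1u481) p1r482

theorem p1r483 : allRange pointOk 22 19692 9 = true := by decide +kernel
theorem p1u483 : ∀ k, 15345 ≤ k → k < 19701 → pointOk (k * 22) = true := between_extend pointOk 22 15345 19692 9 (p1u482) p1r483

theorem p1r484 : allRange pointOk 22 19701 9 = true := by decide +kernel
theorem p1u484 : ∀ k, 15345 ≤ k → k < 19710 → pointOk (k * 22) = true := between_extend pointOk 22 15345 19701 9 (p1u483) p1r484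

theorem p1r485 : allRange pointOk 22 19710 9 = true := by decide +kernel
theorem p1u485 : ∀ k, 15345 ≤ k → k < 19719 → pointOk (k * 22) = true := between_extend pointOk 22 15345 19710 9 (p1u484) p1r485

theorem p1r486 : allRange pointOk 22 19719 9 = true := by decide +kernel
theorem p1u486 : ∀ k, 15345 ≤ k → k < 19728 → pointOk (k * 22) = true := between_extend pointOk 22 15345 19719 9 (p1u485) p1r486

theorem p1r487 : allRange pointOk 22 19728 9 = true := by decide +kernel
theorem p1u487 : ∀ k, 15345 ≤ k → k < 19737 → pointOk (k * 22) = true := between_extend pointOk 22 15345 19728 9 (p1u486) p1r487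

theorem p1r488 : allRange pointOk 22 19737 9 = true := by decide +kernel
theorem p1u488 : ∀ k, 15345 ≤ k → k < 19746 → pointOk (k * 22) = true := between_extend pointOk 22 15345 19737 9 (p1u487) p1r488

theorem p1r489 : allRange pointOk 22 19746 9 = true := by decide +kernel
theorem p1u489 : ∀ k, 15345 ≤ k → k < 19755 → pointOk (k * 22) = true := between_extend pointOk 22 15345 19746 9 (p1u488) p1r489

theorem p1r490 : allRange pointOk 22 19755 9 = true := by decide +kernel
theorem p1u490 : ∀ k, 15345 ≤ k → k < 19764 → pointOk (k * 22) = true := between_extend pointOk 22 15345 19755 9 (p1u489) p1r490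

theorem p1r491 : allRange pointOk 22 19764 9 = true := by decide +kernel
theorem p1u491 : ∀ k, 15345 ≤ k → k < 19773 → pointOk (k * 22) = true := between_extend pointOk 22 15345 19764 9 (p1u490) p1r491

theorem p1r492 : allRange pointOk 22 19773 9 = true := by decide +kernel
theorem p1u492 : ∀ k, 15345 ≤ k → k < 19782 → pointOk (k * 22) = true := between_extend pointOk 22 15345 19773 9 (p1u491) p1r492

theorem p1r493 : allRange pointOk 22 19782 9 = true := by decide +kernel
theorem p1u493 : ∀ k, 15345 ≤ k → k < 19791 → pointOk (k * 22) = true := between_extend pointOk 22 15345 19782 9 (p1u492) p1r493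

theorem p1r494 : allRange pointOk 22 19791 9 = true := by decide +kernel
theorem p1u494 : ∀ k, 15345 ≤ k → k < 19800 → pointOk (k * 22) = true := between_extend pointOk 22 15345 19791 9 (p1u493) p1r494

theorem p1r495 : allRange pointOk 22 19800 9 = true := by decide +kernel
theorem p1u495 : ∀ k, 15345 ≤ k → k < 19809 → pointOk (k * 22) = true := between_extend pointOk 22 15345 19800 9 (p1u494) p1r495

theorem p1r496 : allRange pointOk 22 19809 9 = true := by decide +kernel
theorem p1u496 : ∀ k, 15345 ≤ k → k < 19818 → pointOk (k * 22) = true := between_extend pointOk 22 15345 19809 9 (p1u495) p1r496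

theorem p1r497 : allRange pointOk 22 19818 9 = true := by decide +kernel
theorem p1u497 : ∀ k, 15345 ≤ k → k < 19827 → pointOk (k * 22) = true := between_extend pointOk 22 15345 19818 9 (p1u496) p1r497

theorem p1r498 : allRange pointOk 22 19827 9 = true := by decide +kernel
theorem p1u498 : ∀ k, 15345 ≤ k → k < 19836 → pointOk (k * 22) = true := between_extend pointOk 22 15345 19827 9 (p1u497) p1r498

theorem p1r499 : allRange pointOk 22 19836 9 = true := by decide +kernel
theorem p1u499 : ∀ k, 15345 ≤ k → k < 19845 → pointOk (k * 22) = true := between_extend pointOk 22 15345 19836 9 (p1u498) p1r499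

theorem p1r500 : allRange pointOk 22 19845 9 = true := by decide +kernel
theorem p1u500 : ∀ k, 15345 ≤ k → k < 19854 → pointOk (k * 22) = true := between_extend pointOk 22 15345 19845 9 (p1u499) p1r500

theorem p1r501 : allRange pointOk 22 19854 9 = true := by decide +kernel
theorem p1u501 : ∀ k, 15345 ≤ k → k < 19863 → pointOk (k * 22) = true := between_extend pointOk 22 15345 19854 9 (p1u500) p1r501

theorem p1r502 : allRange pointOk 22 19863 9 = true := by decide +kernel
theorem p1u502 : ∀ k, 15345 ≤ k → k < 19872 → pointOk (k * 22) = true := between_extend pointOk 22 15345 19863 9 (p1u501) p1r502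

theorem p1r503 : allRange pointOk 22 19872 9 = true := by decide +kernel
theorem p1u503 : ∀ k, 15345 ≤ k → k < 19881 → pointOk (k * 22) = true := between_extend pointOk 22 15345 19872 9 (p1u502) p1r503

theorem p1r504 : allRange pointOk 22 19881 9 = true := by decide +kernel
theorem p1u504 : ∀ k, 15345 ≤ k → k < 19890 → pointOk (k * 22) = true := between_extend pointOk 22 15345 19881 9 (p1u503) p1r504

theorem p1r505 : allRange pointOk 22 19890 9 = true := by decide +kernel
theorem p1u505 : ∀ k, 15345 ≤ k → k < 19899 → pointOk (k * 22) = true := between_extend pointOk 22 15345 19890 9 (p1u504) p1r505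

theorem p1r506 : allRange pointOk 22 19899 9 = true := by decide +kernel
theorem p1u506 : ∀ k, 15345 ≤ k → k < 19908 → pointOk (k * 22) = true := between_extend pointOk 22 15345 19899 9 (p1u505) p1r506

theorem p1r507 : allRange pointOk 22 19908 9 = true := by decide +kernel
theorem p1u507 : ∀ k, 15345 ≤ k → k < 19917 → pointOk (k * 22) = true := between_extend pointOk 22 15345 19908 9 (p1u506) p1r507

theorem p1r508 : allRange pointOk 22 19917 9 = true := by decide +kernel
theorem p1u508 : ∀ k, 15345 ≤ k → k < 19926 → pointOk (k * 22) = true := between_extend pointOk 22 15345 19917 9 (p1u507) p1r508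

theorem p1r509 : allRange pointOk 22 19926 9 = true := by decide +kernel
theorem p1u509 : ∀ k, 15345 ≤ k → k < 19935 → pointOk (k * 22) = true := between_extend pointOk 22 15345 19926 9 (p1u508) p1r509

theorem p1r510 : allRange pointOk 22 19935 9 = true := by decide +kernel
theorem p1u510 : ∀ k, 15345 ≤ k → k < 19944 → pointOk (k * 22) = true := between_extend pointOk 22 15345 19935 9 (p1u509) p1r510

theorem p1r511 : allRange pointOk 22 19944 9 = true := by decide +kernel
theorem p1u511 : ∀ k, 15345 ≤ k → k < 19953 → pointOk (k * 22) = true := between_extend pointOk 22 15345 19944 9 (p1u510) p1r511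

theorem p1r512 : allRange pointOk 22 19953 9 = true := by decide +kernel
theorem p1u512 : ∀ k, 15345 ≤ k → k < 19962 → pointOk (k * 22) = true := between_extend pointOk 22 15345 19953 9 (p1u511) p1r512

theorem p1r513 : allRange pointOk 22 19962 9 = true := by decide +kernel
theorem p1u513 : ∀ k, 15345 ≤ k → k < 19971 → pointOk (k * 22) = true := between_extend pointOk 22 15345 19962 9 (p1u512) p1r513

theorem p1r514 : allRange pointOk 22 19971 9 = true := by decide +kernel
theorem p1u514 : ∀ k, 15345 ≤ k → k < 19980 → pointOk (k * 22) = true := between_extend pointOk 22 15345 19971 9 (p1u513) p1r514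

theorem p1r515 : allRange pointOk 22 19980 9 = true := by decide +kernel
theorem p1u515 : ∀ k, 15345 ≤ k → k < 19989 → pointOk (k * 22) = true := between_extend pointOk 22 15345 19980 9 (p1u514) p1r515

theorem p1r516 : allRange pointOk 22 19989 9 = true := by decide +kernel
theorem p1u516 : ∀ k, 15345 ≤ k → k < 19998 → pointOk (k * 22) = true := between_extend pointOk 22 15345 19989 9 (p1u515) p1r516

theorem p1r517 : allRange pointOk 22 19998 9 = true := by decide +kernel
theorem p1u517 : ∀ k, 15345 ≤ k → k < 20007 → pointOk (k * 22) = true := between_extend pointOk 22 15345 19998 9 (p1u516) p1r517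

theorem p1r518 : allRange pointOk 22 20007 9 = true := by decide +kernel
theorem p1u518 : ∀ k, 15345 ≤ k → k < 20016 → pointOk (k * 22) = true := between_extend pointOk 22 15345 20007 9 (p1u517) p1r518

theorem p1r519 : allRange pointOk 22 20016 9 = true := by decide +kernel
theorem p1u519 : ∀ k, 15345 ≤ k → k < 20025 → pointOk (k * 22) = true := between_extend pointOk 22 15345 20016 9 (p1u518) p1r519

theorem p1r520 : allRange pointOk 22 20025 9 = true := by decide +kernel
theorem p1u520 : ∀ k, 15345 ≤ k → k < 20034 → pointOk (k * 22) = true := between_extend pointOk 22 15345 20025 9 (p1u519) p1r520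

theorem p1r521 : allRange pointOk 22 20034 9 = true := by decide +kernel
theorem p1u521 : ∀ k, 15345 ≤ k → k < 20043 → pointOk (k * 22) = true := between_extend pointOk 22 15345 20034 9 (p1u520) p1r521

theorem p1r522 : allRange pointOk 22 20043 9 = true := by decide +kernel
theorem p1u522 : ∀ k, 15345 ≤ k → k < 20052 → pointOk (k * 22) = true := between_extend pointOk 22 15345 20043 9 (p1u521) p1r522

theorem p1r523 : allRange pointOk 22 20052 9 = true := by decide +kernel
theorem p1u523 : ∀ k, 15345 ≤ k → k < 20061 → pointOk (k * 22) = true := between_extend pointOk 22 15345 20052 9 (p1u522) p1r523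

theorem p1r524 : allRange pointOk 22 20061 9 = true := by decide +kernel
theorem p1u524 : ∀ k, 15345 ≤ k → k < 20070 → pointOk (k * 22) = true := between_extend pointOk 22 15345 20061 9 (p1u523) p1r524

theorem p1r525 : allRange pointOk 22 20070 9 = true := by decide +kernel
theorem p1u525 : ∀ k, 15345 ≤ k → k < 20079 → pointOk (k * 22) = true := between_extend pointOk 22 15345 20070 9 (p1u524) p1r525

theorem p1r526 : allRange pointOk 22 20079 9 = true := by decide +kernel
theorem p1u526 : ∀ k, 15345 ≤ k → k < 20088 → pointOk (k * 22) = true := between_extend pointOk 22 15345 20079 9 (p1u525) p1r526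

theorem p1r527 : allRange pointOk 22 20088 9 = true := by decide +kernel
theorem p1u527 : ∀ k, 15345 ≤ k → k < 20097 → pointOk (k * 22) = true := between_extend pointOk 22 15345 20088 9 (p1u526) p1r527

theorem p1r528 : allRange pointOk 22 20097 9 = true := by decide +kernel
theorem p1u528 : ∀ k, 15345 ≤ k → k < 20106 → pointOk (k * 22) = true := between_extend pointOk 22 15345 20097 9 (p1u527) p1r528

theorem p1r529 : allRange pointOk 22 20106 9 = true := by decide +kernel
theorem p1u529 : ∀ k, 15345 ≤ k → k < 20115 → pointOk (k * 22) = true := between_extend pointOk 22 15345 20106 9 (p1u528) p1r529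

theorem p1r530 : allRange pointOk 22 20115 9 = true := by decide +kernel
theorem p1u530 : ∀ k, 15345 ≤ k → k < 20124 → pointOk (k * 22) = true := between_extend pointOk 22 15345 20115 9 (p1u529) p1r530

theorem p1r531 : allRange pointOk 22 20124 9 = true := by decide +kernel
theorem p1u531 : ∀ k, 15345 ≤ k → k < 20133 → pointOk (k * 22) = true := between_extend pointOk 22 15345 20124 9 (p1u530) p1r531

theorem p1r532 : allRange pointOk 22 20133 9 = true := by decide +kernel
theorem p1u532 : ∀ k, 15345 ≤ k → k < 20142 → pointOk (k * 22) = true := between_extend pointOk 22 15345 20133 9 (p1u531) p1r532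

theorem p1r533 : allRange pointOk 22 20142 9 = true := by decide +kernel
theorem p1u533 : ∀ k, 15345 ≤ k → k < 20151 → pointOk (k * 22) = true := between_extend pointOk 22 15345 20142 9 (p1u532) p1r533

theorem p1r534 : allRange pointOk 22 20151 9 = true := by decide +kernel
theorem p1u534 : ∀ k, 15345 ≤ k → k < 20160 → pointOk (k * 22) = true := between_extend pointOk 22 15345 20151 9 (p1u533) p1r534

theorem p1r535 : allRange pointOk 22 20160 9 = true := by decide +kernel
theorem p1u535 : ∀ k, 15345 ≤ k → k < 20169 → pointOk (k * 22) = true := between_extend pointOk 22 15345 20160 9 (p1u534) p1r535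

theorem p1r536 : allRange pointOk 22 20169 9 = true := by decide +kernel
theorem p1u536 : ∀ k, 15345 ≤ k → k < 20178 → pointOk (k * 22) = true := between_extend pointOk 22 15345 20169 9 (p1u535) p1r536

theorem p1r537 : allRange pointOk 22 20178 9 = true := by decide +kernel
theorem p1u537 : ∀ k, 15345 ≤ k → k < 20187 → pointOk (k * 22) = true := between_extend pointOk 22 15345 20178 9 (p1u536) p1r537

theorem p1r538 : allRange pointOk 22 20187 9 = true := by decide +kernel
theorem p1u538 : ∀ k, 15345 ≤ k → k < 20196 → pointOk (k * 22) = true := between_extend pointOk 22 15345 20187 9 (p1u537) p1r538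

theorem p1r539 : allRange pointOk 22 20196 9 = true := by decide +kernel
theorem p1u539 : ∀ k, 15345 ≤ k → k < 20205 → pointOk (k * 22) = true := between_extend pointOk 22 15345 20196 9 (p1u538) p1r539

theorem p1r540 : allRange pointOk 22 20205 9 = true := by decide +kernel
theorem p1u540 : ∀ k, 15345 ≤ k → k < 20214 → pointOk (k * 22) = true := between_extend pointOk 22 15345 20205 9 (p1u539) p1r540

theorem p1r541 : allRange pointOk 22 20214 9 = true := by decide +kernel
theorem p1u541 : ∀ k, 15345 ≤ k → k < 20223 → pointOk (k * 22) = true := between_extend pointOk 22 15345 20214 9 (p1u540) p1r541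

theorem p1r542 : allRange pointOk 22 20223 9 = true := by decide +kernel
theorem p1u542 : ∀ k, 15345 ≤ k → k < 20232 → pointOk (k * 22) = true := between_extend pointOk 22 15345 20223 9 (p1u541) p1r542

theorem p1r543 : allRange pointOk 22 20232 9 = true := by decide +kernel
theorem p1u543 : ∀ k, 15345 ≤ k → k < 20241 → pointOk (k * 22) = true := between_extend pointOk 22 15345 20232 9 (p1u542) p1r543

theorem p1r544 : allRange pointOk 22 20241 9 = true := by decide +kernel
theorem p1u544 : ∀ k, 15345 ≤ k → k < 20250 → pointOk (k * 22) = true := between_extend pointOk 22 15345 20241 9 (p1u543) p1r544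

theorem p1r545 : allRange pointOk 22 20250 9 = true := by decide +kernel
theorem p1u545 : ∀ k, 15345 ≤ k → k < 20259 → pointOk (k * 22) = true := between_extend pointOk 22 15345 20250 9 (p1u544) p1r545

theorem p1r546 : allRange pointOk 22 20259 9 = true := by decide +kernel
theorem p1u546 : ∀ k, 15345 ≤ k → k < 20268 → pointOk (k * 22) = true := between_extend pointOk 22 15345 20259 9 (p1u545) p1r546

theorem p1r547 : allRange pointOk 22 20268 9 = true := by decide +kernel
theorem p1u547 : ∀ k, 15345 ≤ k → k < 20277 → pointOk (k * 22) = true := between_extend pointOk 22 15345 20268 9 (p1u546) p1r547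

theorem p1r548 : allRange pointOk 22 20277 9 = true := by decide +kernel
theorem p1u548 : ∀ k, 15345 ≤ k → k < 20286 → pointOk (k * 22) = true := between_extend pointOk 22 15345 20277 9 (p1u547) p1r548

theorem p1r549 : allRange pointOk 22 20286 9 = true := by decide +kernel
theorem p1u549 : ∀ k, 15345 ≤ k → k < 20295 → pointOk (k * 22) = true := between_extend pointOk 22 15345 20286 9 (p1u548) p1r549

theorem p1r550 : allRange pointOk 22 20295 9 = true := by decide +kernel
theorem p1u550 : ∀ k, 15345 ≤ k → k < 20304 → pointOk (k * 22) = true := between_extend pointOk 22 15345 20295 9 (p1u549) p1r550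

theorem p1r551 : allRange pointOk 22 20304 9 = true := by decide +kernel
theorem p1u551 : ∀ k, 15345 ≤ k → k < 20313 → pointOk (k * 22) = true := between_extend pointOk 22 15345 20304 9 (p1u550) p1r551

theorem p1r552 : allRange pointOk 22 20313 9 = true := by decide +kernel
theorem p1u552 : ∀ k, 15345 ≤ k → k < 20322 → pointOk (k * 22) = true := between_extend pointOk 22 15345 20313 9 (p1u551) p1r552

theorem p1r553 : allRange pointOk 22 20322 9 = true := by decide +kernel
theorem p1u553 : ∀ k, 15345 ≤ k → k < 20331 → pointOk (k * 22) = true := between_extend pointOk 22 15345 20322 9 (p1u552) p1r553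

theorem p1r554 : allRange pointOk 22 20331 9 = true := by decide +kernel
theorem p1u554 : ∀ k, 15345 ≤ k → k < 20340 → pointOk (k * 22) = true := between_extend pointOk 22 15345 20331 9 (p1u553) p1r554

theorem p1r555 : allRange pointOk 22 20340 9 = true := by decide +kernel
theorem p1u555 : ∀ k, 15345 ≤ k → k < 20349 → pointOk (k * 22) = true := between_extend pointOk 22 15345 20340 9 (p1u554) p1r555

theorem p1r556 : allRange pointOk 22 20349 9 = true := by decide +kernel
theorem p1u556 : ∀ k, 15345 ≤ k → k < 20358 → pointOk (k * 22) = true := between_extend pointOk 22 15345 20349 9 (p1u555) p1r556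

theorem p1r557 : allRange pointOk 22 20358 9 = true := by decide +kernel
theorem p1u557 : ∀ k, 15345 ≤ k → k < 20367 → pointOk (k * 22) = true := between_extend pointOk 22 15345 20358 9 (p1u556) p1r557

theorem p1r558 : allRange pointOk 22 20367 9 = true := by decide +kernel
theorem p1u558 : ∀ k, 15345 ≤ k → k < 20376 → pointOk (k * 22) = true := between_extend pointOk 22 15345 20367 9 (p1u557) p1r558

theorem p1r559 : allRange pointOk 22 20376 9 = true := by decide +kernel
theorem p1u559 : ∀ k, 15345 ≤ k → k < 20385 → pointOk (k * 22) = true := between_extend pointOk 22 15345 20376 9 (p1u558) p1r559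

theorem p1r560 : allRange pointOk 22 20385 9 = true := by decide +kernel
theorem p1u560 : ∀ k, 15345 ≤ k → k < 20394 → pointOk (k * 22) = true := between_extend pointOk 22 15345 20385 9 (p1u559) p1r560

theorem p1r561 : allRange pointOk 22 20394 9 = true := by decide +kernel
theorem p1u561 : ∀ k, 15345 ≤ k → k < 20403 → pointOk (k * 22) = true := between_extend pointOk 22 15345 20394 9 (p1u560) p1r561

theorem p1r562 : allRange pointOk 22 20403 9 = true := by decide +kernel
theorem p1u562 : ∀ k, 15345 ≤ k → k < 20412 → pointOk (k * 22) = true := between_extend pointOk 22 15345 20403 9 (p1u561) p1r562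

theorem p1r563 : allRange pointOk 22 20412 9 = true := by decide +kernel
theorem p1u563 : ∀ k, 15345 ≤ k → k < 20421 → pointOk (k * 22) = true := between_extend pointOk 22 15345 20412 9 (p1u562) p1r563

theorem p1r564 : allRange pointOk 22 20421 9 = true := by decide +kernel
theorem p1u564 : ∀ k, 15345 ≤ k → k < 20430 → pointOk (k * 22) = true := between_extend pointOk 22 15345 20421 9 (p1u563) p1r564

theorem p1r565 : allRange pointOk 22 20430 9 = true := by decide +kernel
theorem p1u565 : ∀ k, 15345 ≤ k → k < 20439 → pointOk (k * 22) = true := between_extend pointOk 22 15345 20430 9 (p1u564) p1r565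

theorem p1r566 : allRange pointOk 22 20439 9 = true := by decide +kernel
theorem p1u566 : ∀ k, 15345 ≤ k → k < 20448 → pointOk (k * 22) = true := between_extend pointOk 22 15345 20439 9 (p1u565) p1r566

theorem p1r567 : allRange pointOk 22 20448 9 = true := by decide +kernel
theorem p1u567 : ∀ k, 15345 ≤ k → k < 20457 → pointOk (k * 22) = true := between_extend pointOk 22 15345 20448 9 (p1u566) p1r567

theorem p1r568 : allRange pointOk 22 20457 9 = true := by decide +kernel
theorem p1u568 : ∀ k, 15345 ≤ k → k < 20466 → pointOk (k * 22) = true := between_extend pointOk 22 15345 20457 9 (p1u567) p1r568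

theorem p1r569 : allRange pointOk 22 20466 9 = true := by decide +kernel
theorem p1u569 : ∀ k, 15345 ≤ k → k < 20475 → pointOk (k * 22) = true := between_extend pointOk 22 15345 20466 9 (p1u568) p1r569

theorem p1r570 : allRange pointOk 22 20475 9 = true := by decide +kernel
theorem p1u570 : ∀ k, 15345 ≤ k → k < 20484 → pointOk (k * 22) = true := between_extend pointOk 22 15345 20475 9 (p1u569) p1r570

theorem p1r571 : allRange pointOk 22 20484 9 = true := by decide +kernel
theorem p1u571 : ∀ k, 15345 ≤ k → k < 20493 → pointOk (k * 22) = true := between_extend pointOk 22 15345 20484 9 (p1u570) p1r571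

theorem p1r572 : allRange pointOk 22 20493 9 = true := by decide +kernel
theorem p1u572 : ∀ k, 15345 ≤ k → k < 20502 → pointOk (k * 22) = true := between_extend pointOk 22 15345 20493 9 (p1u571) p1r572

theorem p1r573 : allRange pointOk 22 20502 9 = true := by decide +kernel
theorem p1u573 : ∀ k, 15345 ≤ k → k < 20511 → pointOk (k * 22) = true := between_extend pointOk 22 15345 20502 9 (p1u572) p1r573

theorem p1r574 : allRange pointOk 22 20511 9 = true := by decide +kernel
theorem p1u574 : ∀ k, 15345 ≤ k → k < 20520 → pointOk (k * 22) = true := between_extend pointOk 22 15345 20511 9 (p1u573) p1r574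

theorem p1r575 : allRange pointOk 22 20520 9 = true := by decide +kernel
theorem p1u575 : ∀ k, 15345 ≤ k → k < 20529 → pointOk (k * 22) = true := between_extend pointOk 22 15345 20520 9 (p1u574) p1r575

theorem p1r576 : allRange pointOk 22 20529 9 = true := by decide +kernel
theorem p1u576 : ∀ k, 15345 ≤ k → k < 20538 → pointOk (k * 22) = true := between_extend pointOk 22 15345 20529 9 (p1u575) p1r576

theorem p1r577 : allRange pointOk 22 20538 9 = true := by decide +kernel
theorem p1u577 : ∀ k, 15345 ≤ k → k < 20547 → pointOk (k * 22) = true := between_extend pointOk 22 15345 20538 9 (p1u576) p1r577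

theorem p1r578 : allRange pointOk 22 20547 9 = true := by decide +kernel
theorem p1u578 : ∀ k, 15345 ≤ k → k < 20556 → pointOk (k * 22) = true := between_extend pointOk 22 15345 20547 9 (p1u577) p1r578

theorem p1r579 : allRange pointOk 22 20556 9 = true := by decide +kernel
theorem p1u579 : ∀ k, 15345 ≤ k → k < 20565 → pointOk (k * 22) = true := between_extend pointOk 22 15345 20556 9 (p1u578) p1r579

theorem p1r580 : allRange pointOk 22 20565 9 = true := by decide +kernel
theorem p1u580 : ∀ k, 15345 ≤ k → k < 20574 → pointOk (k * 22) = true := between_extend pointOk 22 15345 20565 9 (p1u579) p1r580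

theorem p1r581 : allRange pointOk 22 20574 9 = true := by decide +kernel
theorem p1u581 : ∀ k, 15345 ≤ k → k < 20583 → pointOk (k * 22) = true := between_extend pointOk 22 15345 20574 9 (p1u580) p1r581

theorem p1r582 : allRange pointOk 22 20583 9 = true := by decide +kernel
theorem p1u582 : ∀ k, 15345 ≤ k → k < 20592 → pointOk (k * 22) = true := between_extend pointOk 22 15345 20583 9 (p1u581) p1r582

theorem p1r583 : allRange pointOk 22 20592 9 = true := by decide +kernel
theorem p1u583 : ∀ k, 15345 ≤ k → k < 20601 → pointOk (k * 22) = true := between_extend pointOk 22 15345 20592 9 (p1u582) p1r583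

theorem p1r584 : allRange pointOk 22 20601 9 = true := by decide +kernel
theorem p1u584 : ∀ k, 15345 ≤ k → k < 20610 → pointOk (k * 22) = true := between_extend pointOk 22 15345 20601 9 (p1u583) p1r584

theorem p1r585 : allRange pointOk 22 20610 9 = true := by decide +kernel
theorem p1u585 : ∀ k, 15345 ≤ k → k < 20619 → pointOk (k * 22) = true := between_extend pointOk 22 15345 20610 9 (p1u584) p1r585

theorem p1r586 : allRange pointOk 22 20619 9 = true := by decide +kernel
theorem p1u586 : ∀ k, 15345 ≤ k → k < 20628 → pointOk (k * 22) = true := between_extend pointOk 22 15345 20619 9 (p1u585) p1r586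

theorem p1r587 : allRange pointOk 22 20628 9 = true := by decide +kernel
theorem p1u587 : ∀ k, 15345 ≤ k → k < 20637 → pointOk (k * 22) = true := between_extend pointOk 22 15345 20628 9 (p1u586) p1r587

theorem p1r588 : allRange pointOk 22 20637 9 = true := by decide +kernel
theorem p1u588 : ∀ k, 15345 ≤ k → k < 20646 → pointOk (k * 22) = true := between_extend pointOk 22 15345 20637 9 (p1u587) p1r588

theorem p1r589 : allRange pointOk 22 20646 9 = true := by decide +kernel
theorem p1u589 : ∀ k, 15345 ≤ k → k < 20655 → pointOk (k * 22) = true := between_extend pointOk 22 15345 20646 9 (p1u588) p1r589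

theorem p1r590 : allRange pointOk 22 20655 9 = true := by decide +kernel
theorem p1u590 : ∀ k, 15345 ≤ k → k < 20664 → pointOk (k * 22) = true := between_extend pointOk 22 15345 20655 9 (p1u589) p1r590

theorem p1r591 : allRange pointOk 22 20664 9 = true := by decide +kernel
theorem p1u591 : ∀ k, 15345 ≤ k → k < 20673 → pointOk (k * 22) = true := between_extend pointOk 22 15345 20664 9 (p1u590) p1r591

theorem p1r592 : allRange pointOk 22 20673 9 = true := by decide +kernel
theorem p1u592 : ∀ k, 15345 ≤ k → k < 20682 → pointOk (k * 22) = true := between_extend pointOk 22 15345 20673 9 (p1u591) p1r592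

theorem p1r593 : allRange pointOk 22 20682 9 = true := by decide +kernel
theorem p1u593 : ∀ k, 15345 ≤ k → k < 20691 → pointOk (k * 22) = true := between_extend pointOk 22 15345 20682 9 (p1u592) p1r593

theorem p1r594 : allRange pointOk 22 20691 9 = true := by decide +kernel
theorem p1u594 : ∀ k, 15345 ≤ k → k < 20700 → pointOk (k * 22) = true := between_extend pointOk 22 15345 20691 9 (p1u593) p1r594

theorem p1r595 : allRange pointOk 22 20700 9 = true := by decide +kernel
theorem p1u595 : ∀ k, 15345 ≤ k → k < 20709 → pointOk (k * 22) = true := between_extend pointOk 22 15345 20700 9 (p1u594) p1r595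

theorem p1r596 : allRange pointOk 22 20709 9 = true := by decide +kernel
theorem p1u596 : ∀ k, 15345 ≤ k → k < 20718 → pointOk (k * 22) = true := between_extend pointOk 22 15345 20709 9 (p1u595) p1r596

theorem p1r597 : allRange pointOk 22 20718 9 = true := by decide +kernel
theorem p1u597 : ∀ k, 15345 ≤ k → k < 20727 → pointOk (k * 22) = true := between_extend pointOk 22 15345 20718 9 (p1u596) p1r597

theorem p1r598 : allRange pointOk 22 20727 9 = true := by decide +kernel
theorem p1u598 : ∀ k, 15345 ≤ k → k < 20736 → pointOk (k * 22) = true := between_extend pointOk 22 15345 20727 9 (p1u597) p1r598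

theorem p1r599 : allRange pointOk 22 20736 9 = true := by decide +kernel
theorem p1u599 : ∀ k, 15345 ≤ k → k < 20745 → pointOk (k * 22) = true := between_extend pointOk 22 15345 20736 9 (p1u598) p1r599

theorem p1r600 : allRange pointOk 22 20745 9 = true := by decide +kernel
theorem p1u600 : ∀ k, 15345 ≤ k → k < 20754 → pointOk (k * 22) = true := between_extend pointOk 22 15345 20745 9 (p1u599) p1r600

theorem p1r601 : allRange pointOk 22 20754 9 = true := by decide +kernel
theorem p1u601 : ∀ k, 15345 ≤ k → k < 20763 → pointOk (k * 22) = true := between_extend pointOk 22 15345 20754 9 (p1u600) p1r601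

theorem p1r602 : allRange pointOk 22 20763 9 = true := by decide +kernel
theorem p1u602 : ∀ k, 15345 ≤ k → k < 20772 → pointOk (k * 22) = true := between_extend pointOk 22 15345 20763 9 (p1u601) p1r602

theorem p1r603 : allRange pointOk 22 20772 9 = true := by decide +kernel
theorem p1u603 : ∀ k, 15345 ≤ k → k < 20781 → pointOk (k * 22) = true := between_extend pointOk 22 15345 20772 9 (p1u602) p1r603

theorem p1r604 : allRange pointOk 22 20781 9 = true := by decide +kernel
theorem p1u604 : ∀ k, 15345 ≤ k → k < 20790 → pointOk (k * 22) = true := between_extend pointOk 22 15345 20781 9 (p1u603) p1r604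

theorem p1r605 : allRange pointOk 22 20790 9 = true := by decide +kernel
theorem p1u605 : ∀ k, 15345 ≤ k → k < 20799 → pointOk (k * 22) = true := between_extend pointOk 22 15345 20790 9 (p1u604) p1r605

theorem p1r606 : allRange pointOk 22 20799 9 = true := by decide +kernel
theorem p1u606 : ∀ k, 15345 ≤ k → k < 20808 → pointOk (k * 22) = true := between_extend pointOk 22 15345 20799 9 (p1u605) p1r606

theorem p1r607 : allRange pointOk 22 20808 9 = true := by decide +kernel
theorem p1u607 : ∀ k, 15345 ≤ k → k < 20817 → pointOk (k * 22) = true := between_extend pointOk 22 15345 20808 9 (p1u606) p1r607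

theorem p1r608 : allRange pointOk 22 20817 9 = true := by decide +kernel
theorem p1u608 : ∀ k, 15345 ≤ k → k < 20826 → pointOk (k * 22) = true := between_extend pointOk 22 15345 20817 9 (p1u607) p1r608

theorem p1r609 : allRange pointOk 22 20826 9 = true := by decide +kernel
theorem p1u609 : ∀ k, 15345 ≤ k → k < 20835 → pointOk (k * 22) = true := between_extend pointOk 22 15345 20826 9 (p1u608) p1r609

theorem p1r610 : allRange pointOk 22 20835 9 = true := by decide +kernel
theorem p1u610 : ∀ k, 15345 ≤ k → k < 20844 → pointOk (k * 22) = true := between_extend pointOk 22 15345 20835 9 (p1u609) p1r610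

theorem p1r611 : allRange pointOk 22 20844 9 = true := by decide +kernel
theorem p1u611 : ∀ k, 15345 ≤ k → k < 20853 → pointOk (k * 22) = true := between_extend pointOk 22 15345 20844 9 (p1u610) p1r611

theorem p1r612 : allRange pointOk 22 20853 9 = true := by decide +kernel
theorem p1u612 : ∀ k, 15345 ≤ k → k < 20862 → pointOk (k * 22) = true := between_extend pointOk 22 15345 20853 9 (p1u611) p1r612

theorem p1r613 : allRange pointOk 22 20862 9 = true := by decide +kernel
theorem p1u613 : ∀ k, 15345 ≤ k → k < 20871 → pointOk (k * 22) = true := between_extend pointOk 22 15345 20862 9 (p1u612) p1r613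

theorem p1r614 : allRange pointOk 22 20871 9 = true := by decide +kernel
theorem p1u614 : ∀ k, 15345 ≤ k → k < 20880 → pointOk (k * 22) = true := between_extend pointOk 22 15345 20871 9 (p1u613) p1r614

theorem p1r615 : allRange pointOk 22 20880 9 = true := by decide +kernel
theorem p1u615 : ∀ k, 15345 ≤ k → k < 20889 → pointOk (k * 22) = true := between_extend pointOk 22 15345 20880 9 (p1u614) p1r615

theorem p1r616 : allRange pointOk 22 20889 9 = true := by decide +kernel
theorem p1u616 : ∀ k, 15345 ≤ k → k < 20898 → pointOk (k * 22) = true := between_extend pointOk 22 15345 20889 9 (p1u615) p1r616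

theorem p1r617 : allRange pointOk 22 20898 9 = true := by decide +kernel
theorem p1u617 : ∀ k, 15345 ≤ k → k < 20907 → pointOk (k * 22) = true := between_extend pointOk 22 15345 20898 9 (p1u616) p1r617

theorem p1r618 : allRange pointOk 22 20907 9 = true := by decide +kernel
theorem p1u618 : ∀ k, 15345 ≤ k → k < 20916 → pointOk (k * 22) = true := between_extend pointOk 22 15345 20907 9 (p1u617) p1r618

theorem p1r619 : allRange pointOk 22 20916 9 = true := by decide +kernel
theorem p1u619 : ∀ k, 15345 ≤ k → k < 20925 → pointOk (k * 22) = true := between_extend pointOk 22 15345 20916 9 (p1u618) p1r619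

theorem p1r620 : allRange pointOk 22 20925 9 = true := by decide +kernel
theorem p1u620 : ∀ k, 15345 ≤ k → k < 20934 → pointOk (k * 22) = true := between_extend pointOk 22 15345 20925 9 (p1u619) p1r620

theorem p1r621 : allRange pointOk 22 20934 9 = true := by decide +kernel
theorem p1u621 : ∀ k, 15345 ≤ k → k < 20943 → pointOk (k * 22) = true := between_extend pointOk 22 15345 20934 9 (p1u620) p1r621

theorem p1r622 : allRange pointOk 22 20943 9 = true := by decide +kernel
theorem p1u622 : ∀ k, 15345 ≤ k → k < 20952 → pointOk (k * 22) = true := between_extend pointOk 22 15345 20943 9 (p1u621) p1r622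

theorem p1r623 : allRange pointOk 22 20952 9 = true := by decide +kernel
theorem p1u623 : ∀ k, 15345 ≤ k → k < 20961 → pointOk (k * 22) = true := between_extend pointOk 22 15345 20952 9 (p1u622) p1r623

theorem p1r624 : allRange pointOk 22 20961 9 = true := by decide +kernel
theorem p1u624 : ∀ k, 15345 ≤ k → k < 20970 → pointOk (k * 22) = true := between_extend pointOk 22 15345 20961 9 (p1u623) p1r624

theorem p1r625 : allRange pointOk 22 20970 9 = true := by decide +kernel
theorem p1u625 : ∀ k, 15345 ≤ k → k < 20979 → pointOk (k * 22) = true := between_extend pointOk 22 15345 20970 9 (p1u624) p1r625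

theorem p1r626 : allRange pointOk 22 20979 9 = true := by decide +kernel
theorem p1u626 : ∀ k, 15345 ≤ k → k < 20988 → pointOk (k * 22) = true := between_extend pointOk 22 15345 20979 9 (p1u625) p1r626

theorem p1r627 : allRange pointOk 22 20988 9 = true := by decide +kernel
theorem p1u627 : ∀ k, 15345 ≤ k → k < 20997 → pointOk (k * 22) = true := between_extend pointOk 22 15345 20988 9 (p1u626) p1r627

theorem p1r628 : allRange pointOk 22 20997 9 = true := by decide +kernel
theorem p1u628 : ∀ k, 15345 ≤ k → k < 21006 → pointOk (k * 22) = true := between_extend pointOk 22 15345 20997 9 (p1u627) p1r628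

theorem p1r629 : allRange pointOk 22 21006 9 = true := by decide +kernel
theorem p1u629 : ∀ k, 15345 ≤ k → k < 21015 → pointOk (k * 22) = true := between_extend pointOk 22 15345 21006 9 (p1u628) p1r629

theorem p1r630 : allRange pointOk 22 21015 9 = true := by decide +kernel
theorem p1u630 : ∀ k, 15345 ≤ k → k < 21024 → pointOk (k * 22) = true := between_extend pointOk 22 15345 21015 9 (p1u629) p1r630

theorem p1r631 : allRange pointOk 22 21024 9 = true := by decide +kernel
theorem p1u631 : ∀ k, 15345 ≤ k → k < 21033 → pointOk (k * 22) = true := between_extend pointOk 22 15345 21024 9 (p1u630) p1r631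

theorem p1r632 : allRange pointOk 22 21033 9 = true := by decide +kernel
theorem p1u632 : ∀ k, 15345 ≤ k → k < 21042 → pointOk (k * 22) = true := between_extend pointOk 22 15345 21033 9 (p1u631) p1r632

theorem p1r633 : allRange pointOk 22 21042 9 = true := by decide +kernel
theorem p1u633 : ∀ k, 15345 ≤ k → k < 21051 → pointOk (k * 22) = true := between_extend pointOk 22 15345 21042 9 (p1u632) p1r633

theorem p1r634 : allRange pointOk 22 21051 9 = true := by decide +kernel
theorem p1u634 : ∀ k, 15345 ≤ k → k < 21060 → pointOk (k * 22) = true := between_extend pointOk 22 15345 21051 9 (p1u633) p1r634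

theorem p1r635 : allRange pointOk 22 21060 9 = true := by decide +kernel
theorem p1u635 : ∀ k, 15345 ≤ k → k < 21069 → pointOk (k * 22) = true := between_extend pointOk 22 15345 21060 9 (p1u634) p1r635

theorem p1r636 : allRange pointOk 22 21069 9 = true := by decide +kernel
theorem p1u636 : ∀ k, 15345 ≤ k → k < 21078 → pointOk (k * 22) = true := between_extend pointOk 22 15345 21069 9 (p1u635) p1r636

theorem p1r637 : allRange pointOk 22 21078 9 = true := by decide +kernel
theorem p1u637 : ∀ k, 15345 ≤ k → k < 21087 → pointOk (k * 22) = true := between_extend pointOk 22 15345 21078 9 (p1u636) p1r637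

theorem p1r638 : allRange pointOk 22 21087 9 = true := by decide +kernel
theorem p1u638 : ∀ k, 15345 ≤ k → k < 21096 → pointOk (k * 22) = true := between_extend pointOk 22 15345 21087 9 (p1u637) p1r638

theorem p1r639 : allRange pointOk 22 21096 9 = true := by decide +kernel
theorem p1u639 : ∀ k, 15345 ≤ k → k < 21105 → pointOk (k * 22) = true := between_extend pointOk 22 15345 21096 9 (p1u638) p1r639

theorem p1r640 : allRange pointOk 22 21105 9 = true := by decide +kernel
theorem p1u640 : ∀ k, 15345 ≤ k → k < 21114 → pointOk (k * 22) = true := between_extend pointOk 22 15345 21105 9 (p1u639) p1r640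

theorem p1r641 : allRange pointOk 22 21114 9 = true := by decide +kernel
theorem p1u641 : ∀ k, 15345 ≤ k → k < 21123 → pointOk (k * 22) = true := between_extend pointOk 22 15345 21114 9 (p1u640) p1r641

theorem p1r642 : allRange pointOk 22 21123 9 = true := by decide +kernel
theorem p1u642 : ∀ k, 15345 ≤ k → k < 21132 → pointOk (k * 22) = true := between_extend pointOk 22 15345 21123 9 (p1u641) p1r642

theorem p1r643 : allRange pointOk 22 21132 9 = true := by decide +kernel
theorem p1u643 : ∀ k, 15345 ≤ k → k < 21141 → pointOk (k * 22) = true := between_extend pointOk 22 15345 21132 9 (p1u642) p1r643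

theorem p1r644 : allRange pointOk 22 21141 9 = true := by decide +kernel
theorem p1u644 : ∀ k, 15345 ≤ k → k < 21150 → pointOk (k * 22) = true := between_extend pointOk 22 15345 21141 9 (p1u643) p1r644

theorem p1r645 : allRange pointOk 22 21150 9 = true := by decide +kernel
theorem p1u645 : ∀ k, 15345 ≤ k → k < 21159 → pointOk (k * 22) = true := between_extend pointOk 22 15345 21150 9 (p1u644) p1r645

theorem p1r646 : allRange pointOk 22 21159 9 = true := by decide +kernel
theorem p1u646 : ∀ k, 15345 ≤ k → k < 21168 → pointOk (k * 22) = true := between_extend pointOk 22 15345 21159 9 (p1u645) p1r646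

theorem p1r647 : allRange pointOk 22 21168 9 = true := by decide +kernel
theorem p1u647 : ∀ k, 15345 ≤ k → k < 21177 → pointOk (k * 22) = true := between_extend pointOk 22 15345 21168 9 (p1u646) p1r647

theorem p1r648 : allRange pointOk 22 21177 9 = true := by decide +kernel
theorem p1u648 : ∀ k, 15345 ≤ k → k < 21186 → pointOk (k * 22) = true := between_extend pointOk 22 15345 21177 9 (p1u647) p1r648

theorem p1r649 : allRange pointOk 22 21186 9 = true := by decide +kernel
theorem p1u649 : ∀ k, 15345 ≤ k → k < 21195 → pointOk (k * 22) = true := between_extend pointOk 22 15345 21186 9 (p1u648) p1r649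

theorem p1r650 : allRange pointOk 22 21195 9 = true := by decide +kernel
theorem p1u650 : ∀ k, 15345 ≤ k → k < 21204 → pointOk (k * 22) = true := between_extend pointOk 22 15345 21195 9 (p1u649) p1r650

theorem p1r651 : allRange pointOk 22 21204 9 = true := by decide +kernel
theorem p1u651 : ∀ k, 15345 ≤ k → k < 21213 → pointOk (k * 22) = true := between_extend pointOk 22 15345 21204 9 (p1u650) p1r651

theorem p1r652 : allRange pointOk 22 21213 9 = true := by decide +kernel
theorem p1u652 : ∀ k, 15345 ≤ k → k < 21222 → pointOk (k * 22) = true := between_extend pointOk 22 15345 21213 9 (p1u651) p1r652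

theorem p1r653 : allRange pointOk 22 21222 9 = true := by decide +kernel
theorem p1u653 : ∀ k, 15345 ≤ k → k < 21231 → pointOk (k * 22) = true := between_extend pointOk 22 15345 21222 9 (p1u652) p1r653

theorem p1r654 : allRange pointOk 22 21231 9 = true := by decide +kernel
theorem p1u654 : ∀ k, 15345 ≤ k → k < 21240 → pointOk (k * 22) = true := between_extend pointOk 22 15345 21231 9 (p1u653) p1r654

theorem p1r655 : allRange pointOk 22 21240 9 = true := by decide +kernel
theorem p1u655 : ∀ k, 15345 ≤ k → k < 21249 → pointOk (k * 22) = true := between_extend pointOk 22 15345 21240 9 (p1u654) p1r655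

theorem p1r656 : allRange pointOk 22 21249 9 = true := by decide +kernel
theorem p1u656 : ∀ k, 15345 ≤ k → k < 21258 → pointOk (k * 22) = true := between_extend pointOk 22 15345 21249 9 (p1u655) p1r656

theorem p1r657 : allRange pointOk 22 21258 9 = true := by decide +kernel
theorem p1u657 : ∀ k, 15345 ≤ k → k < 21267 → pointOk (k * 22) = true := between_extend pointOk 22 15345 21258 9 (p1u656) p1r657

theorem p1r658 : allRange pointOk 22 21267 9 = true := by decide +kernel
theorem p1u658 : ∀ k, 15345 ≤ k → k < 21276 → pointOk (k * 22) = true := between_extend pointOk 22 15345 21267 9 (p1u657) p1r658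

theorem p1r659 : allRange pointOk 22 21276 9 = true := by decide +kernel
theorem p1u659 : ∀ k, 15345 ≤ k → k < 21285 → pointOk (k * 22) = true := between_extend pointOk 22 15345 21276 9 (p1u658) p1r659

theorem p1r660 : allRange pointOk 22 21285 9 = true := by decide +kernel
theorem p1u660 : ∀ k, 15345 ≤ k → k < 21294 → pointOk (k * 22) = true := between_extend pointOk 22 15345 21285 9 (p1u659) p1r660

theorem p1r661 : allRange pointOk 22 21294 9 = true := by decide +kernel
theorem p1u661 : ∀ k, 15345 ≤ k → k < 21303 → pointOk (k * 22) = true := between_extend pointOk 22 15345 21294 9 (p1u660) p1r661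

theorem p1r662 : allRange pointOk 22 21303 9 = true := by decide +kernel
theorem p1u662 : ∀ k, 15345 ≤ k → k < 21312 → pointOk (k * 22) = true := between_extend pointOk 22 15345 21303 9 (p1u661) p1r662

theorem p1r663 : allRange pointOk 22 21312 9 = true := by decide +kernel
theorem p1u663 : ∀ k, 15345 ≤ k → k < 21321 → pointOk (k * 22) = true := between_extend pointOk 22 15345 21312 9 (p1u662) p1r663

theorem p1r664 : allRange pointOk 22 21321 9 = true := by decide +kernel
theorem p1u664 : ∀ k, 15345 ≤ k → k < 21330 → pointOk (k * 22) = true := between_extend pointOk 22 15345 21321 9 (p1u663) p1r664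

theorem p1r665 : allRange pointOk 22 21330 9 = true := by decide +kernel
theorem p1u665 : ∀ k, 15345 ≤ k → k < 21339 → pointOk (k * 22) = true := between_extend pointOk 22 15345 21330 9 (p1u664) p1r665

theorem p1r666 : allRange pointOk 22 21339 9 = true := by decide +kernel
theorem p1u666 : ∀ k, 15345 ≤ k → k < 21348 → pointOk (k * 22) = true := between_extend pointOk 22 15345 21339 9 (p1u665) p1r666

theorem p1r667 : allRange pointOk 22 21348 9 = true := by decide +kernel
theorem p1u667 : ∀ k, 15345 ≤ k → k < 21357 → pointOk (k * 22) = true := between_extend pointOk 22 15345 21348 9 (p1u666) p1r667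

theorem p1r668 : allRange pointOk 22 21357 9 = true := by decide +kernel
theorem p1u668 : ∀ k, 15345 ≤ k → k < 21366 → pointOk (k * 22) = true := between_extend pointOk 22 15345 21357 9 (p1u667) p1r668

theorem p1r669 : allRange pointOk 22 21366 9 = true := by decide +kernel
theorem p1u669 : ∀ k, 15345 ≤ k → k < 21375 → pointOk (k * 22) = true := between_extend pointOk 22 15345 21366 9 (p1u668) p1r669

theorem p1r670 : allRange pointOk 22 21375 9 = true := by decide +kernel
theorem p1u670 : ∀ k, 15345 ≤ k → k < 21384 → pointOk (k * 22) = true := between_extend pointOk 22 15345 21375 9 (p1u669) p1r670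

theorem p1r671 : allRange pointOk 22 21384 9 = true := by decide +kernel
theorem p1u671 : ∀ k, 15345 ≤ k → k < 21393 → pointOk (k * 22) = true := between_extend pointOk 22 15345 21384 9 (p1u670) p1r671

theorem p1r672 : allRange pointOk 22 21393 9 = true := by decide +kernel
theorem p1u672 : ∀ k, 15345 ≤ k → k < 21402 → pointOk (k * 22) = true := between_extend pointOk 22 15345 21393 9 (p1u671) p1r672

theorem p1r673 : allRange pointOk 22 21402 9 = true := by decide +kernel
theorem p1u673 : ∀ k, 15345 ≤ k → k < 21411 → pointOk (k * 22) = true := between_extend pointOk 22 15345 21402 9 (p1u672) p1r673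

theorem p1r674 : allRange pointOk 22 21411 9 = true := by decide +kernel
theorem p1u674 : ∀ k, 15345 ≤ k → k < 21420 → pointOk (k * 22) = true := between_extend pointOk 22 15345 21411 9 (p1u673) p1r674

theorem p1r675 : allRange pointOk 22 21420 9 = true := by decide +kernel
theorem p1u675 : ∀ k, 15345 ≤ k → k < 21429 → pointOk (k * 22) = true := between_extend pointOk 22 15345 21420 9 (p1u674) p1r675

theorem p1r676 : allRange pointOk 22 21429 9 = true := by decide +kernel
theorem p1u676 : ∀ k, 15345 ≤ k → k < 21438 → pointOk (k * 22) = true := between_extend pointOk 22 15345 21429 9 (p1u675) p1r676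

theorem p1r677 : allRange pointOk 22 21438 9 = true := by decide +kernel
theorem p1u677 : ∀ k, 15345 ≤ k → k < 21447 → pointOk (k * 22) = true := between_extend pointOk 22 15345 21438 9 (p1u676) p1r677

theorem p1r678 : allRange pointOk 22 21447 9 = true := by decide +kernel
theorem p1u678 : ∀ k, 15345 ≤ k → k < 21456 → pointOk (k * 22) = true := between_extend pointOk 22 15345 21447 9 (p1u677) p1r678

theorem p1r679 : allRange pointOk 22 21456 9 = true := by decide +kernel
theorem p1u679 : ∀ k, 15345 ≤ k → k < 21465 → pointOk (k * 22) = true := between_extend pointOk 22 15345 21456 9 (p1u678) p1r679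

theorem p1r680 : allRange pointOk 22 21465 9 = true := by decide +kernel
theorem p1u680 : ∀ k, 15345 ≤ k → k < 21474 → pointOk (k * 22) = true := between_extend pointOk 22 15345 21465 9 (p1u679) p1r680

theorem p1r681 : allRange pointOk 22 21474 9 = true := by decide +kernel
theorem p1u681 : ∀ k, 15345 ≤ k → k < 21483 → pointOk (k * 22) = true := between_extend pointOk 22 15345 21474 9 (p1u680) p1r681

theorem p1r682 : allRange pointOk 22 21483 9 = true := by decide +kernel
theorem p1u682 : ∀ k, 15345 ≤ k → k < 21492 → pointOk (k * 22) = true := between_extend pointOk 22 15345 21483 9 (p1u681) p1r682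

theorem p1r683 : allRange pointOk 22 21492 9 = true := by decide +kernel
theorem p1u683 : ∀ k, 15345 ≤ k → k < 21501 → pointOk (k * 22) = true := between_extend pointOk 22 15345 21492 9 (p1u682) p1r683

theorem p1r684 : allRange pointOk 22 21501 9 = true := by decide +kernel
theorem p1u684 : ∀ k, 15345 ≤ k → k < 21510 → pointOk (k * 22) = true := between_extend pointOk 22 15345 21501 9 (p1u683) p1r684

theorem p1r685 : allRange pointOk 22 21510 9 = true := by decide +kernel
theorem p1u685 : ∀ k, 15345 ≤ k → k < 21519 → pointOk (k * 22) = true := between_extend pointOk 22 15345 21510 9 (p1u684) p1r685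

theorem p1r686 : allRange pointOk 22 21519 9 = true := by decide +kernel
theorem p1u686 : ∀ k, 15345 ≤ k → k < 21528 → pointOk (k * 22) = true := between_extend pointOk 22 15345 21519 9 (p1u685) p1r686

theorem p1r687 : allRange pointOk 22 21528 9 = true := by decide +kernel
theorem p1u687 : ∀ k, 15345 ≤ k → k < 21537 → pointOk (k * 22) = true := between_extend pointOk 22 15345 21528 9 (p1u686) p1r687

theorem p1r688 : allRange pointOk 22 21537 9 = true := by decide +kernel
theorem p1u688 : ∀ k, 15345 ≤ k → k < 21546 → pointOk (k * 22) = true := between_extend pointOk 22 15345 21537 9 (p1u687) p1r688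

theorem p1r689 : allRange pointOk 22 21546 9 = true := by decide +kernel
theorem p1u689 : ∀ k, 15345 ≤ k → k < 21555 → pointOk (k * 22) = true := between_extend pointOk 22 15345 21546 9 (p1u688) p1r689

theorem p1r690 : allRange pointOk 22 21555 9 = true := by decide +kernel
theorem p1u690 : ∀ k, 15345 ≤ k → k < 21564 → pointOk (k * 22) = true := between_extend pointOk 22 15345 21555 9 (p1u689) p1r690

theorem p1r691 : allRange pointOk 22 21564 9 = true := by decide +kernel
theorem p1u691 : ∀ k, 15345 ≤ k → k < 21573 → pointOk (k * 22) = true := between_extend pointOk 22 15345 21564 9 (p1u690) p1r691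

theorem p1r692 : allRange pointOk 22 21573 9 = true := by decide +kernel
theorem p1u692 : ∀ k, 15345 ≤ k → k < 21582 → pointOk (k * 22) = true := between_extend pointOk 22 15345 21573 9 (p1u691) p1r692

theorem p1r693 : allRange pointOk 22 21582 9 = true := by decide +kernel
theorem p1u693 : ∀ k, 15345 ≤ k → k < 21591 → pointOk (k * 22) = true := between_extend pointOk 22 15345 21582 9 (p1u692) p1r693

theorem p1r694 : allRange pointOk 22 21591 9 = true := by decide +kernel
theorem p1u694 : ∀ k, 15345 ≤ k → k < 21600 → pointOk (k * 22) = true := between_extend pointOk 22 15345 21591 9 (p1u693) p1r694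

theorem p1r695 : allRange pointOk 22 21600 9 = true := by decide +kernel
theorem p1u695 : ∀ k, 15345 ≤ k → k < 21609 → pointOk (k * 22) = true := between_extend pointOk 22 15345 21600 9 (p1u694) p1r695

theorem p1r696 : allRange pointOk 22 21609 9 = true := by decide +kernel
theorem p1u696 : ∀ k, 15345 ≤ k → k < 21618 → pointOk (k * 22) = true := between_extend pointOk 22 15345 21609 9 (p1u695) p1r696

theorem p1r697 : allRange pointOk 22 21618 9 = true := by decide +kernel
theorem p1u697 : ∀ k, 15345 ≤ k → k < 21627 → pointOk (k * 22) = true := between_extend pointOk 22 15345 21618 9 (p1u696) p1r697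

theorem p1r698 : allRange pointOk 22 21627 9 = true := by decide +kernel
theorem p1u698 : ∀ k, 15345 ≤ k → k < 21636 → pointOk (k * 22) = true := between_extend pointOk 22 15345 21627 9 (p1u697) p1r698

theorem p1r699 : allRange pointOk 22 21636 9 = true := by decide +kernel
theorem p1u699 : ∀ k, 15345 ≤ k → k < 21645 → pointOk (k * 22) = true := between_extend pointOk 22 15345 21636 9 (p1u698) p1r699

theorem p1r700 : allRange pointOk 22 21645 9 = true := by decide +kernel
theorem p1u700 : ∀ k, 15345 ≤ k → k < 21654 → pointOk (k * 22) = true := between_extend pointOk 22 15345 21645 9 (p1u699) p1r700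

theorem p1r701 : allRange pointOk 22 21654 9 = true := by decide +kernel
theorem p1u701 : ∀ k, 15345 ≤ k → k < 21663 → pointOk (k * 22) = true := between_extend pointOk 22 15345 21654 9 (p1u700) p1r701

theorem p1r702 : allRange pointOk 22 21663 9 = true := by decide +kernel
theorem p1u702 : ∀ k, 15345 ≤ k → k < 21672 → pointOk (k * 22) = true := between_extend pointOk 22 15345 21663 9 (p1u701) p1r702

theorem p1r703 : allRange pointOk 22 21672 9 = true := by decide +kernel
theorem p1u703 : ∀ k, 15345 ≤ k → k < 21681 → pointOk (k * 22) = true := between_extend pointOk 22 15345 21672 9 (p1u702) p1r703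

theorem p1r704 : allRange pointOk 22 21681 9 = true := by decide +kernel
theorem p1u704 : ∀ k, 15345 ≤ k → k < 21690 → pointOk (k * 22) = true := between_extend pointOk 22 15345 21681 9 (p1u703) p1r704

theorem p1r705 : allRange pointOk 22 21690 9 = true := by decide +kernel
theorem p1u705 : ∀ k, 15345 ≤ k → k < 21699 → pointOk (k * 22) = true := between_extend pointOk 22 15345 21690 9 (p1u704) p1r705

theorem p1r706 : allRange pointOk 22 21699 9 = true := by decide +kernel
theorem p1u706 : ∀ k, 15345 ≤ k → k < 21708 → pointOk (k * 22) = true := between_extend pointOk 22 15345 21699 9 (p1u705) p1r706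

theorem p1r707 : allRange pointOk 22 21708 9 = true := by decide +kernel
theorem p1u707 : ∀ k, 15345 ≤ k → k < 21717 → pointOk (k * 22) = true := between_extend pointOk 22 15345 21708 9 (p1u706) p1r707

theorem p1r708 : allRange pointOk 22 21717 9 = true := by decide +kernel
theorem p1u708 : ∀ k, 15345 ≤ k → k < 21726 → pointOk (k * 22) = true := between_extend pointOk 22 15345 21717 9 (p1u707) p1r708

theorem p1r709 : allRange pointOk 22 21726 9 = true := by decide +kernel
theorem p1u709 : ∀ k, 15345 ≤ k → k < 21735 → pointOk (k * 22) = true := between_extend pointOk 22 15345 21726 9 (p1u708) p1r709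

theorem p1r710 : allRange pointOk 22 21735 9 = true := by decide +kernel
theorem p1u710 : ∀ k, 15345 ≤ k → k < 21744 → pointOk (k * 22) = true := between_extend pointOk 22 15345 21735 9 (p1u709) p1r710

theorem p1r711 : allRange pointOk 22 21744 9 = true := by decide +kernel
theorem p1u711 : ∀ k, 15345 ≤ k → k < 21753 → pointOk (k * 22) = true := between_extend pointOk 22 15345 21744 9 (p1u710) p1r711

theorem p1r712 : allRange pointOk 22 21753 9 = true := by decide +kernel
theorem p1u712 : ∀ k, 15345 ≤ k → k < 21762 → pointOk (k * 22) = true := between_extend pointOk 22 15345 21753 9 (p1u711) p1r712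

theorem p1r713 : allRange pointOk 22 21762 9 = true := by decide +kernel
theorem p1u713 : ∀ k, 15345 ≤ k → k < 21771 → pointOk (k * 22) = true := between_extend pointOk 22 15345 21762 9 (p1u712) p1r713

theorem p1r714 : allRange pointOk 22 21771 9 = true := by decide +kernel
theorem p1u714 : ∀ k, 15345 ≤ k → k < 21780 → pointOk (k * 22) = true := between_extend pointOk 22 15345 21771 9 (p1u713) p1r714

theorem p1r715 : allRange pointOk 22 21780 9 = true := by decide +kernel
theorem p1u715 : ∀ k, 15345 ≤ k → k < 21789 → pointOk (k * 22) = true := between_extend pointOk 22 15345 21780 9 (p1u714) p1r715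

theorem p1r716 : allRange pointOk 22 21789 9 = true := by decide +kernel
theorem p1u716 : ∀ k, 15345 ≤ k → k < 21798 → pointOk (k * 22) = true := between_extend pointOk 22 15345 21789 9 (p1u715) p1r716

theorem p1r717 : allRange pointOk 22 21798 9 = true := by decide +kernel
theorem p1u717 : ∀ k, 15345 ≤ k → k < 21807 → pointOk (k * 22) = true := between_extend pointOk 22 15345 21798 9 (p1u716) p1r717

theorem p1r718 : allRange pointOk 22 21807 9 = true := by decide +kernel
theorem p1u718 : ∀ k, 15345 ≤ k → k < 21816 → pointOk (k * 22) = true := between_extend pointOk 22 15345 21807 9 (p1u717) p1r718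

theorem p1r719 : allRange pointOk 22 21816 9 = true := by decide +kernel
theorem p1u719 : ∀ k, 15345 ≤ k → k < 21825 → pointOk (k * 22) = true := between_extend pointOk 22 15345 21816 9 (p1u718) p1r719

theorem p1r720 : allRange pointOk 22 21825 9 = true := by decide +kernel
theorem p1u720 : ∀ k, 15345 ≤ k → k < 21834 → pointOk (k * 22) = true := between_extend pointOk 22 15345 21825 9 (p1u719) p1r720

theorem p1r721 : allRange pointOk 22 21834 9 = true := by decide +kernel
theorem p1u721 : ∀ k, 15345 ≤ k → k < 21843 → pointOk (k * 22) = true := between_extend pointOk 22 15345 21834 9 (p1u720) p1r721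

theorem p1r722 : allRange pointOk 22 21843 9 = true := by decide +kernel
theorem p1u722 : ∀ k, 15345 ≤ k → k < 21852 → pointOk (k * 22) = true := between_extend pointOk 22 15345 21843 9 (p1u721) p1r722

theorem p1r723 : allRange pointOk 22 21852 9 = true := by decide +kernel
theorem p1u723 : ∀ k, 15345 ≤ k → k < 21861 → pointOk (k * 22) = true := between_extend pointOk 22 15345 21852 9 (p1u722) p1r723

theorem p1r724 : allRange pointOk 22 21861 9 = true := by decide +kernel
theorem p1u724 : ∀ k, 15345 ≤ k → k < 21870 → pointOk (k * 22) = true := between_extend pointOk 22 15345 21861 9 (p1u723) p1r724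

theorem p1r725 : allRange pointOk 22 21870 9 = true := by decide +kernel
theorem p1u725 : ∀ k, 15345 ≤ k → k < 21879 → pointOk (k * 22) = true := between_extend pointOk 22 15345 21870 9 (p1u724) p1r725

theorem p1r726 : allRange pointOk 22 21879 9 = true := by decide +kernel
theorem p1u726 : ∀ k, 15345 ≤ k → k < 21888 → pointOk (k * 22) = true := between_extend pointOk 22 15345 21879 9 (p1u725) p1r726

theorem p1r727 : allRange pointOk 22 21888 9 = true := by decide +kernel
theorem p1u727 : ∀ k, 15345 ≤ k → k < 21897 → pointOk (k * 22) = true := between_extend pointOk 22 15345 21888 9 (p1u726) p1r727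

theorem p1r728 : allRange pointOk 22 21897 9 = true := by decide +kernel
theorem p1u728 : ∀ k, 15345 ≤ k → k < 21906 → pointOk (k * 22) = true := between_extend pointOk 22 15345 21897 9 (p1u727) p1r728

theorem p1r729 : allRange pointOk 22 21906 9 = true := by decide +kernel
theorem p1u729 : ∀ k, 15345 ≤ k → k < 21915 → pointOk (k * 22) = true := between_extend pointOk 22 15345 21906 9 (p1u728) p1r729

theorem p1r730 : allRange pointOk 22 21915 9 = true := by decide +kernel
theorem p1u730 : ∀ k, 15345 ≤ k → k < 21924 → pointOk (k * 22) = true := between_extend pointOk 22 15345 21915 9 (p1u729) p1r730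

theorem p1r731 : allRange pointOk 22 21924 9 = true := by decide +kernel
theorem p1u731 : ∀ k, 15345 ≤ k → k < 21933 → pointOk (k * 22) = true := between_extend pointOk 22 15345 21924 9 (p1u730) p1r731

theorem p1r732 : allRange pointOk 22 21933 9 = true := by decide +kernel
theorem p1u732 : ∀ k, 15345 ≤ k → k < 21942 → pointOk (k * 22) = true := between_extend pointOk 22 15345 21933 9 (p1u731) p1r732

theorem p1r733 : allRange pointOk 22 21942 9 = true := by decide +kernel
theorem p1u733 : ∀ k, 15345 ≤ k → k < 21951 → pointOk (k * 22) = true := between_extend pointOk 22 15345 21942 9 (p1u732) p1r733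

theorem p1r734 : allRange pointOk 22 21951 9 = true := by decide +kernel
theorem p1u734 : ∀ k, 15345 ≤ k → k < 21960 → pointOk (k * 22) = true := between_extend pointOk 22 15345 21951 9 (p1u733) p1r734

theorem p1r735 : allRange pointOk 22 21960 9 = true := by decide +kernel
theorem p1u735 : ∀ k, 15345 ≤ k → k < 21969 → pointOk (k * 22) = true := between_extend pointOk 22 15345 21960 9 (p1u734) p1r735

theorem p1r736 : allRange pointOk 22 21969 9 = true := by decide +kernel
theorem p1u736 : ∀ k, 15345 ≤ k → k < 21978 → pointOk (k * 22) = true := between_extend pointOk 22 15345 21969 9 (p1u735) p1r736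

theorem p1r737 : allRange pointOk 22 21978 9 = true := by decide +kernel
theorem p1u737 : ∀ k, 15345 ≤ k → k < 21987 → pointOk (k * 22) = true := between_extend pointOk 22 15345 21978 9 (p1u736) p1r737

theorem p1r738 : allRange pointOk 22 21987 9 = true := by decide +kernel
theorem p1u738 : ∀ k, 15345 ≤ k → k < 21996 → pointOk (k * 22) = true := between_extend pointOk 22 15345 21987 9 (p1u737) p1r738

theorem p1r739 : allRange pointOk 22 21996 9 = true := by decide +kernel
theorem p1u739 : ∀ k, 15345 ≤ k → k < 22005 → pointOk (k * 22) = true := between_extend pointOk 22 15345 21996 9 (p1u738) p1r739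

theorem p1r740 : allRange pointOk 22 22005 9 = true := by decide +kernel
theorem p1u740 : ∀ k, 15345 ≤ k → k < 22014 → pointOk (k * 22) = true := between_extend pointOk 22 15345 22005 9 (p1u739) p1r740

theorem p1r741 : allRange pointOk 22 22014 9 = true := by decide +kernel
theorem p1u741 : ∀ k, 15345 ≤ k → k < 22023 → pointOk (k * 22) = true := between_extend pointOk 22 15345 22014 9 (p1u740) p1r741

theorem p1r742 : allRange pointOk 22 22023 9 = true := by decide +kernel
theorem p1u742 : ∀ k, 15345 ≤ k → k < 22032 → pointOk (k * 22) = true := between_extend pointOk 22 15345 22023 9 (p1u741) p1r742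

theorem p1r743 : allRange pointOk 22 22032 9 = true := by decide +kernel
theorem p1u743 : ∀ k, 15345 ≤ k → k < 22041 → pointOk (k * 22) = true := between_extend pointOk 22 15345 22032 9 (p1u742) p1r743

theorem p1r744 : allRange pointOk 22 22041 9 = true := by decide +kernel
theorem p1u744 : ∀ k, 15345 ≤ k → k < 22050 → pointOk (k * 22) = true := between_extend pointOk 22 15345 22041 9 (p1u743) p1r744

theorem p1r745 : allRange pointOk 22 22050 9 = true := by decide +kernel
theorem p1u745 : ∀ k, 15345 ≤ k → k < 22059 → pointOk (k * 22) = true := between_extend pointOk 22 15345 22050 9 (p1u744) p1r745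

theorem p1r746 : allRange pointOk 22 22059 9 = true := by decide +kernel
theorem p1u746 : ∀ k, 15345 ≤ k → k < 22068 → pointOk (k * 22) = true := between_extend pointOk 22 15345 22059 9 (p1u745) p1r746

theorem p1r747 : allRange pointOk 22 22068 9 = true := by decide +kernel
theorem p1u747 : ∀ k, 15345 ≤ k → k < 22077 → pointOk (k * 22) = true := between_extend pointOk 22 15345 22068 9 (p1u746) p1r747

theorem p1r748 : allRange pointOk 22 22077 9 = true := by decide +kernel
theorem p1u748 : ∀ k, 15345 ≤ k → k < 22086 → pointOk (k * 22) = true := between_extend pointOk 22 15345 22077 9 (p1u747) p1r748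

theorem p1r749 : allRange pointOk 22 22086 9 = true := by decide +kernel
theorem p1u749 : ∀ k, 15345 ≤ k → k < 22095 → pointOk (k * 22) = true := between_extend pointOk 22 15345 22086 9 (p1u748) p1r749

theorem p1r750 : allRange pointOk 22 22095 9 = true := by decide +kernel
theorem p1u750 : ∀ k, 15345 ≤ k → k < 22104 → pointOk (k * 22) = true := between_extend pointOk 22 15345 22095 9 (p1u749) p1r750

theorem p1r751 : allRange pointOk 22 22104 9 = true := by decide +kernel
theorem p1u751 : ∀ k, 15345 ≤ k → k < 22113 → pointOk (k * 22) = true := between_extend pointOk 22 15345 22104 9 (p1u750) p1r751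

theorem p1r752 : allRange pointOk 22 22113 9 = true := by decide +kernel
theorem p1u752 : ∀ k, 15345 ≤ k → k < 22122 → pointOk (k * 22) = true := between_extend pointOk 22 15345 22113 9 (p1u751) p1r752

theorem p1r753 : allRange pointOk 22 22122 9 = true := by decide +kernel
theorem p1u753 : ∀ k, 15345 ≤ k → k < 22131 → pointOk (k * 22) = true := between_extend pointOk 22 15345 22122 9 (p1u752) p1r753

theorem p1r754 : allRange pointOk 22 22131 9 = true := by decide +kernel
theorem p1u754 : ∀ k, 15345 ≤ k → k < 22140 → pointOk (k * 22) = true := between_extend pointOk 22 15345 22131 9 (p1u753) p1r754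

theorem p1r755 : allRange pointOk 22 22140 9 = true := by decide +kernel
theorem p1u755 : ∀ k, 15345 ≤ k → k < 22149 → pointOk (k * 22) = true := between_extend pointOk 22 15345 22140 9 (p1u754) p1r755

theorem p1r756 : allRange pointOk 22 22149 9 = true := by decide +kernel
theorem p1u756 : ∀ k, 15345 ≤ k → k < 22158 → pointOk (k * 22) = true := between_extend pointOk 22 15345 22149 9 (p1u755) p1r756

theorem p1r757 : allRange pointOk 22 22158 9 = true := by decide +kernel
theorem p1u757 : ∀ k, 15345 ≤ k → k < 22167 → pointOk (k * 22) = true := between_extend pointOk 22 15345 22158 9 (p1u756) p1r757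

theorem p1r758 : allRange pointOk 22 22167 9 = true := by decide +kernel
theorem p1u758 : ∀ k, 15345 ≤ k → k < 22176 → pointOk (k * 22) = true := between_extend pointOk 22 15345 22167 9 (p1u757) p1r758

theorem p1r759 : allRange pointOk 22 22176 9 = true := by decide +kernel
theorem p1u759 : ∀ k, 15345 ≤ k → k < 22185 → pointOk (k * 22) = true := between_extend pointOk 22 15345 22176 9 (p1u758) p1r759

theorem p1r760 : allRange pointOk 22 22185 9 = true := by decide +kernel
theorem p1u760 : ∀ k, 15345 ≤ k → k < 22194 → pointOk (k * 22) = true := between_extend pointOk 22 15345 22185 9 (p1u759) p1r760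

theorem p1r761 : allRange pointOk 22 22194 9 = true := by decide +kernel
theorem p1u761 : ∀ k, 15345 ≤ k → k < 22203 → pointOk (k * 22) = true := between_extend pointOk 22 15345 22194 9 (p1u760) p1r761

theorem p1r762 : allRange pointOk 22 22203 9 = true := by decide +kernel
theorem p1u762 : ∀ k, 15345 ≤ k → k < 22212 → pointOk (k * 22) = true := between_extend pointOk 22 15345 22203 9 (p1u761) p1r762

theorem p1r763 : allRange pointOk 22 22212 9 = true := by decide +kernel
theorem p1u763 : ∀ k, 15345 ≤ k → k < 22221 → pointOk (k * 22) = true := between_extend pointOk 22 15345 22212 9 (p1u762) p1r763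

theorem p1r764 : allRange pointOk 22 22221 9 = true := by decide +kernel
theorem p1u764 : ∀ k, 15345 ≤ k → k < 22230 → pointOk (k * 22) = true := between_extend pointOk 22 15345 22221 9 (p1u763) p1r764

theorem p1r765 : allRange pointOk 22 22230 9 = true := by decide +kernel
theorem p1u765 : ∀ k, 15345 ≤ k → k < 22239 → pointOk (k * 22) = true := between_extend pointOk 22 15345 22230 9 (p1u764) p1r765

theorem p1r766 : allRange pointOk 22 22239 9 = true := by decide +kernel
theorem p1u766 : ∀ k, 15345 ≤ k → k < 22248 → pointOk (k * 22) = true := between_extend pointOk 22 15345 22239 9 (p1u765) p1r766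

theorem p1r767 : allRange pointOk 22 22248 9 = true := by decide +kernel
theorem p1u767 : ∀ k, 15345 ≤ k → k < 22257 → pointOk (k * 22) = true := between_extend pointOk 22 15345 22248 9 (p1u766) p1r767

theorem p1r768 : allRange pointOk 22 22257 9 = true := by decide +kernel
theorem p1u768 : ∀ k, 15345 ≤ k → k < 22266 → pointOk (k * 22) = true := between_extend pointOk 22 15345 22257 9 (p1u767) p1r768

theorem p1r769 : allRange pointOk 22 22266 9 = true := by decide +kernel
theorem p1u769 : ∀ k, 15345 ≤ k → k < 22275 → pointOk (k * 22) = true := between_extend pointOk 22 15345 22266 9 (p1u768) p1r769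

theorem p1r770 : allRange pointOk 22 22275 9 = true := by decide +kernel
theorem p1u770 : ∀ k, 15345 ≤ k → k < 22284 → pointOk (k * 22) = true := between_extend pointOk 22 15345 22275 9 (p1u769) p1r770

theorem p1r771 : allRange pointOk 22 22284 9 = true := by decide +kernel
theorem p1u771 : ∀ k, 15345 ≤ k → k < 22293 → pointOk (k * 22) = true := between_extend pointOk 22 15345 22284 9 (p1u770) p1r771

theorem p1r772 : allRange pointOk 22 22293 9 = true := by decide +kernel
theorem p1u772 : ∀ k, 15345 ≤ k → k < 22302 → pointOk (k * 22) = true := between_extend pointOk 22 15345 22293 9 (p1u771) p1r772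

theorem p1r773 : allRange pointOk 22 22302 9 = true := by decide +kernel
theorem p1u773 : ∀ k, 15345 ≤ k → k < 22311 → pointOk (k * 22) = true := between_extend pointOk 22 15345 22302 9 (p1u772) p1r773

theorem p1r774 : allRange pointOk 22 22311 9 = true := by decide +kernel
theorem p1u774 : ∀ k, 15345 ≤ k → k < 22320 → pointOk (k * 22) = true := between_extend pointOk 22 15345 22311 9 (p1u773) p1r774

theorem p1r775 : allRange pointOk 22 22320 9 = true := by decide +kernel
theorem p1u775 : ∀ k, 15345 ≤ k → k < 22329 → pointOk (k * 22) = true := between_extend pointOk 22 15345 22320 9 (p1u774) p1r775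

theorem p1r776 : allRange pointOk 22 22329 9 = true := by decide +kernel
theorem p1u776 : ∀ k, 15345 ≤ k → k < 22338 → pointOk (k * 22) = true := between_extend pointOk 22 15345 22329 9 (p1u775) p1r776

theorem p1r777 : allRange pointOk 22 22338 9 = true := by decide +kernel
theorem p1u777 : ∀ k, 15345 ≤ k → k < 22347 → pointOk (k * 22) = true := between_extend pointOk 22 15345 22338 9 (p1u776) p1r777

theorem p1r778 : allRange pointOk 22 22347 9 = true := by decide +kernel
theorem p1u778 : ∀ k, 15345 ≤ k → k < 22356 → pointOk (k * 22) = true := between_extend pointOk 22 15345 22347 9 (p1u777) p1r778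

theorem p1r779 : allRange pointOk 22 22356 9 = true := by decide +kernel
theorem p1u779 : ∀ k, 15345 ≤ k → k < 22365 → pointOk (k * 22) = true := between_extend pointOk 22 15345 22356 9 (p1u778) p1r779

theorem p1r780 : allRange pointOk 22 22365 9 = true := by decide +kernel
theorem p1u780 : ∀ k, 15345 ≤ k → k < 22374 → pointOk (k * 22) = true := between_extend pointOk 22 15345 22365 9 (p1u779) p1r780

theorem p1r781 : allRange pointOk 22 22374 9 = true := by decide +kernel
theorem p1u781 : ∀ k, 15345 ≤ k → k < 22383 → pointOk (k * 22) = true := between_extend pointOk 22 15345 22374 9 (p1u780) p1r781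

theorem p1r782 : allRange pointOk 22 22383 9 = true := by decide +kernel
theorem p1u782 : ∀ k, 15345 ≤ k → k < 22392 → pointOk (k * 22) = true := between_extend pointOk 22 15345 22383 9 (p1u781) p1r782

theorem p1r783 : allRange pointOk 22 22392 9 = true := by decide +kernel
theorem p1u783 : ∀ k, 15345 ≤ k → k < 22401 → pointOk (k * 22) = true := between_extend pointOk 22 15345 22392 9 (p1u782) p1r783

theorem p1r784 : allRange pointOk 22 22401 9 = true := by decide +kernel
theorem p1u784 : ∀ k, 15345 ≤ k → k < 22410 → pointOk (k * 22) = true := between_extend pointOk 22 15345 22401 9 (p1u783) p1r784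

theorem p1r785 : allRange pointOk 22 22410 9 = true := by decide +kernel
theorem p1u785 : ∀ k, 15345 ≤ k → k < 22419 → pointOk (k * 22) = true := between_extend pointOk 22 15345 22410 9 (p1u784) p1r785

theorem p1r786 : allRange pointOk 22 22419 9 = true := by decide +kernel
theorem p1u786 : ∀ k, 15345 ≤ k → k < 22428 → pointOk (k * 22) = true := between_extend pointOk 22 15345 22419 9 (p1u785) p1r786

theorem p1r787 : allRange pointOk 22 22428 9 = true := by decide +kernel
theorem p1u787 : ∀ k, 15345 ≤ k → k < 22437 → pointOk (k * 22) = true := between_extend pointOk 22 15345 22428 9 (p1u786) p1r787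

theorem p1r788 : allRange pointOk 22 22437 9 = true := by decide +kernel
theorem p1u788 : ∀ k, 15345 ≤ k → k < 22446 → pointOk (k * 22) = true := between_extend pointOk 22 15345 22437 9 (p1u787) p1r788

theorem p1r789 : allRange pointOk 22 22446 9 = true := by decide +kernel
theorem p1u789 : ∀ k, 15345 ≤ k → k < 22455 → pointOk (k * 22) = true := between_extend pointOk 22 15345 22446 9 (p1u788) p1r789

theorem p1r790 : allRange pointOk 22 22455 9 = true := by decide +kernel
theorem p1u790 : ∀ k, 15345 ≤ k → k < 22464 → pointOk (k * 22) = true := between_extend pointOk 22 15345 22455 9 (p1u789) p1r790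

theorem p1r791 : allRange pointOk 22 22464 9 = true := by decide +kernel
theorem p1u791 : ∀ k, 15345 ≤ k → k < 22473 → pointOk (k * 22) = true := between_extend pointOk 22 15345 22464 9 (p1u790) p1r791

theorem p1r792 : allRange pointOk 22 22473 9 = true := by decide +kernel
theorem p1u792 : ∀ k, 15345 ≤ k → k < 22482 → pointOk (k * 22) = true := between_extend pointOk 22 15345 22473 9 (p1u791) p1r792

theorem p1r793 : allRange pointOk 22 22482 9 = true := by decide +kernel
theorem p1u793 : ∀ k, 15345 ≤ k → k < 22491 → pointOk (k * 22) = true := between_extend pointOk 22 15345 22482 9 (p1u792) p1r793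

theorem p1r794 : allRange pointOk 22 22491 9 = true := by decide +kernel
theorem p1u794 : ∀ k, 15345 ≤ k → k < 22500 → pointOk (k * 22) = true := between_extend pointOk 22 15345 22491 9 (p1u793) p1r794

theorem p1r795 : allRange pointOk 22 22500 9 = true := by decide +kernel
theorem p1u795 : ∀ k, 15345 ≤ k → k < 22509 → pointOk (k * 22) = true := between_extend pointOk 22 15345 22500 9 (p1u794) p1r795

theorem p1r796 : allRange pointOk 22 22509 9 = true := by decide +kernel
theorem p1u796 : ∀ k, 15345 ≤ k → k < 22518 → pointOk (k * 22) = true := between_extend pointOk 22 15345 22509 9 (p1u795) p1r796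

theorem p1r797 : allRange pointOk 22 22518 9 = true := by decide +kernel
theorem p1u797 : ∀ k, 15345 ≤ k → k < 22527 → pointOk (k * 22) = true := between_extend pointOk 22 15345 22518 9 (p1u796) p1r797

theorem p1r798 : allRange pointOk 22 22527 9 = true := by decide +kernel
theorem p1u798 : ∀ k, 15345 ≤ k → k < 22536 → pointOk (k * 22) = true := between_extend pointOk 22 15345 22527 9 (p1u797) p1r798

theorem p1r799 : allRange pointOk 22 22536 9 = true := by decide +kernel
theorem p1u799 : ∀ k, 15345 ≤ k → k < 22545 → pointOk (k * 22) = true := between_extend pointOk 22 15345 22536 9 (p1u798) p1r799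

theorem p1r800 : allRange pointOk 22 22545 9 = true := by decide +kernel
theorem p1u800 : ∀ k, 15345 ≤ k → k < 22554 → pointOk (k * 22) = true := between_extend pointOk 22 15345 22545 9 (p1u799) p1r800

theorem p1r801 : allRange pointOk 22 22554 9 = true := by decide +kernel
theorem p1u801 : ∀ k, 15345 ≤ k → k < 22563 → pointOk (k * 22) = true := between_extend pointOk 22 15345 22554 9 (p1u800) p1r801

theorem p1r802 : allRange pointOk 22 22563 9 = true := by decide +kernel
theorem p1u802 : ∀ k, 15345 ≤ k → k < 22572 → pointOk (k * 22) = true := between_extend pointOk 22 15345 22563 9 (p1u801) p1r802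

theorem p1r803 : allRange pointOk 22 22572 9 = true := by decide +kernel
theorem p1u803 : ∀ k, 15345 ≤ k → k < 22581 → pointOk (k * 22) = true := between_extend pointOk 22 15345 22572 9 (p1u802) p1r803

theorem p1r804 : allRange pointOk 22 22581 9 = true := by decide +kernel
theorem p1u804 : ∀ k, 15345 ≤ k → k < 22590 → pointOk (k * 22) = true := between_extend pointOk 22 15345 22581 9 (p1u803) p1r804

theorem p1r805 : allRange pointOk 22 22590 9 = true := by decide +kernel
theorem p1u805 : ∀ k, 15345 ≤ k → k < 22599 → pointOk (k * 22) = true := between_extend pointOk 22 15345 22590 9 (p1u804) p1r805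

theorem p1r806 : allRange pointOk 22 22599 9 = true := by decide +kernel
theorem p1u806 : ∀ k, 15345 ≤ k → k < 22608 → pointOk (k * 22) = true := between_extend pointOk 22 15345 22599 9 (p1u805) p1r806

theorem p1r807 : allRange pointOk 22 22608 9 = true := by decide +kernel
theorem p1u807 : ∀ k, 15345 ≤ k → k < 22617 → pointOk (k * 22) = true := between_extend pointOk 22 15345 22608 9 (p1u806) p1r807

theorem p1r808 : allRange pointOk 22 22617 9 = true := by decide +kernel
theorem p1u808 : ∀ k, 15345 ≤ k → k < 22626 → pointOk (k * 22) = true := between_extend pointOk 22 15345 22617 9 (p1u807) p1r808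

theorem p1r809 : allRange pointOk 22 22626 9 = true := by decide +kernel
theorem p1u809 : ∀ k, 15345 ≤ k → k < 22635 → pointOk (k * 22) = true := between_extend pointOk 22 15345 22626 9 (p1u808) p1r809

theorem p1r810 : allRange pointOk 22 22635 9 = true := by decide +kernel
theorem p1u810 : ∀ k, 15345 ≤ k → k < 22644 → pointOk (k * 22) = true := between_extend pointOk 22 15345 22635 9 (p1u809) p1r810

theorem p1r811 : allRange pointOk 22 22644 9 = true := by decide +kernel
theorem p1u811 : ∀ k, 15345 ≤ k → k < 22653 → pointOk (k * 22) = true := between_extend pointOk 22 15345 22644 9 (p1u810) p1r811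

theorem p1r812 : allRange pointOk 22 22653 9 = true := by decide +kernel
theorem p1u812 : ∀ k, 15345 ≤ k → k < 22662 → pointOk (k * 22) = true := between_extend pointOk 22 15345 22653 9 (p1u811) p1r812

theorem p1r813 : allRange pointOk 22 22662 9 = true := by decide +kernel
theorem p1u813 : ∀ k, 15345 ≤ k → k < 22671 → pointOk (k * 22) = true := between_extend pointOk 22 15345 22662 9 (p1u812) p1r813

theorem p1r814 : allRange pointOk 22 22671 9 = true := by decide +kernel
theorem p1u814 : ∀ k, 15345 ≤ k → k < 22680 → pointOk (k * 22) = true := between_extend pointOk 22 15345 22671 9 (p1u813) p1r814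

theorem p1r815 : allRange pointOk 22 22680 9 = true := by decide +kernel
theorem p1u815 : ∀ k, 15345 ≤ k → k < 22689 → pointOk (k * 22) = true := between_extend pointOk 22 15345 22680 9 (p1u814) p1r815

theorem p1r816 : allRange pointOk 22 22689 9 = true := by decide +kernel
theorem p1u816 : ∀ k, 15345 ≤ k → k < 22698 → pointOk (k * 22) = true := between_extend pointOk 22 15345 22689 9 (p1u815) p1r816

theorem p1r817 : allRange pointOk 22 22698 9 = true := by decide +kernel
theorem p1u817 : ∀ k, 15345 ≤ k → k < 22707 → pointOk (k * 22) = true := between_extend pointOk 22 15345 22698 9 (p1u816) p1r817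

theorem p1r818 : allRange pointOk 22 22707 9 = true := by decide +kernel
theorem p1u818 : ∀ k, 15345 ≤ k → k < 22716 → pointOk (k * 22) = true := between_extend pointOk 22 15345 22707 9 (p1u817) p1r818

theorem p1r819 : allRange pointOk 22 22716 9 = true := by decide +kernel
theorem p1u819 : ∀ k, 15345 ≤ k → k < 22725 → pointOk (k * 22) = true := between_extend pointOk 22 15345 22716 9 (p1u818) p1r819

theorem p1r820 : allRange pointOk 22 22725 9 = true := by decide +kernel
theorem p1u820 : ∀ k, 15345 ≤ k → k < 22734 → pointOk (k * 22) = true := between_extend pointOk 22 15345 22725 9 (p1u819) p1r820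

theorem p1r821 : allRange pointOk 22 22734 9 = true := by decide +kernel
theorem p1u821 : ∀ k, 15345 ≤ k → k < 22743 → pointOk (k * 22) = true := between_extend pointOk 22 15345 22734 9 (p1u820) p1r821

theorem p1r822 : allRange pointOk 22 22743 9 = true := by decide +kernel
theorem p1u822 : ∀ k, 15345 ≤ k → k < 22752 → pointOk (k * 22) = true := between_extend pointOk 22 15345 22743 9 (p1u821) p1r822

theorem p1r823 : allRange pointOk 22 22752 9 = true := by decide +kernel
theorem p1u823 : ∀ k, 15345 ≤ k → k < 22761 → pointOk (k * 22) = true := between_extend pointOk 22 15345 22752 9 (p1u822) p1r823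

theorem p1r824 : allRange pointOk 22 22761 9 = true := by decide +kernel
theorem p1u824 : ∀ k, 15345 ≤ k → k < 22770 → pointOk (k * 22) = true := between_extend pointOk 22 15345 22761 9 (p1u823) p1r824

theorem p1r825 : allRange pointOk 22 22770 9 = true := by decide +kernel
theorem p1u825 : ∀ k, 15345 ≤ k → k < 22779 → pointOk (k * 22) = true := between_extend pointOk 22 15345 22770 9 (p1u824) p1r825

theorem p1r826 : allRange pointOk 22 22779 9 = true := by decide +kernel
theorem p1u826 : ∀ k, 15345 ≤ k → k < 22788 → pointOk (k * 22) = true := between_extend pointOk 22 15345 22779 9 (p1u825) p1r826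

theorem p1r827 : allRange pointOk 22 22788 9 = true := by decide +kernel
theorem p1u827 : ∀ k, 15345 ≤ k → k < 22797 → pointOk (k * 22) = true := between_extend pointOk 22 15345 22788 9 (p1u826) p1r827

theorem p1r828 : allRange pointOk 22 22797 9 = true := by decide +kernel
theorem p1u828 : ∀ k, 15345 ≤ k → k < 22806 → pointOk (k * 22) = true := between_extend pointOk 22 15345 22797 9 (p1u827) p1r828

theorem p1r829 : allRange pointOk 22 22806 9 = true := by decide +kernel
theorem p1u829 : ∀ k, 15345 ≤ k → k < 22815 → pointOk (k * 22) = true := between_extend pointOk 22 15345 22806 9 (p1u828) p1r829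

theorem p1r830 : allRange pointOk 22 22815 9 = true := by decide +kernel
theorem p1u830 : ∀ k, 15345 ≤ k → k < 22824 → pointOk (k * 22) = true := between_extend pointOk 22 15345 22815 9 (p1u829) p1r830

theorem p1r831 : allRange pointOk 22 22824 9 = true := by decide +kernel
theorem p1u831 : ∀ k, 15345 ≤ k → k < 22833 → pointOk (k * 22) = true := between_extend pointOk 22 15345 22824 9 (p1u830) p1r831

theorem p1r832 : allRange pointOk 22 22833 9 = true := by decide +kernel
theorem p1u832 : ∀ k, 15345 ≤ k → k < 22842 → pointOk (k * 22) = true := between_extend pointOk 22 15345 22833 9 (p1u831) p1r832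

theorem p1r833 : allRange pointOk 22 22842 9 = true := by decide +kernel
theorem p1u833 : ∀ k, 15345 ≤ k → k < 22851 → pointOk (k * 22) = true := between_extend pointOk 22 15345 22842 9 (p1u832) p1r833

theorem p1r834 : allRange pointOk 22 22851 9 = true := by decide +kernel
theorem p1u834 : ∀ k, 15345 ≤ k → k < 22860 → pointOk (k * 22) = true := between_extend pointOk 22 15345 22851 9 (p1u833) p1r834

theorem p1r835 : allRange pointOk 22 22860 9 = true := by decide +kernel
theorem p1u835 : ∀ k, 15345 ≤ k → k < 22869 → pointOk (k * 22) = true := between_extend pointOk 22 15345 22860 9 (p1u834) p1r835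

theorem p1r836 : allRange pointOk 22 22869 9 = true := by decide +kernel
theorem p1u836 : ∀ k, 15345 ≤ k → k < 22878 → pointOk (k * 22) = true := between_extend pointOk 22 15345 22869 9 (p1u835) p1r836

theorem p1r837 : allRange pointOk 22 22878 9 = true := by decide +kernel
theorem p1u837 : ∀ k, 15345 ≤ k → k < 22887 → pointOk (k * 22) = true := between_extend pointOk 22 15345 22878 9 (p1u836) p1r837

theorem p1r838 : allRange pointOk 22 22887 9 = true := by decide +kernel
theorem p1u838 : ∀ k, 15345 ≤ k → k < 22896 → pointOk (k * 22) = true := between_extend pointOk 22 15345 22887 9 (p1u837) p1r838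

theorem p1r839 : allRange pointOk 22 22896 9 = true := by decide +kernel
theorem p1u839 : ∀ k, 15345 ≤ k → k < 22905 → pointOk (k * 22) = true := between_extend pointOk 22 15345 22896 9 (p1u838) p1r839

theorem p1r840 : allRange pointOk 22 22905 9 = true := by decide +kernel
theorem p1u840 : ∀ k, 15345 ≤ k → k < 22914 → pointOk (k * 22) = true := between_extend pointOk 22 15345 22905 9 (p1u839) p1r840

theorem p1r841 : allRange pointOk 22 22914 9 = true := by decide +kernel
theorem p1u841 : ∀ k, 15345 ≤ k → k < 22923 → pointOk (k * 22) = true := between_extend pointOk 22 15345 22914 9 (p1u840) p1r841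

theorem p1r842 : allRange pointOk 22 22923 9 = true := by decide +kernel
theorem p1u842 : ∀ k, 15345 ≤ k → k < 22932 → pointOk (k * 22) = true := between_extend pointOk 22 15345 22923 9 (p1u841) p1r842

theorem p1r843 : allRange pointOk 22 22932 9 = true := by decide +kernel
theorem p1u843 : ∀ k, 15345 ≤ k → k < 22941 → pointOk (k * 22) = true := between_extend pointOk 22 15345 22932 9 (p1u842) p1r843

theorem p1r844 : allRange pointOk 22 22941 9 = true := by decide +kernel
theorem p1u844 : ∀ k, 15345 ≤ k → k < 22950 → pointOk (k * 22) = true := between_extend pointOk 22 15345 22941 9 (p1u843) p1r844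

theorem p1r845 : allRange pointOk 22 22950 9 = true := by decide +kernel
theorem p1u845 : ∀ k, 15345 ≤ k → k < 22959 → pointOk (k * 22) = true := between_extend pointOk 22 15345 22950 9 (p1u844) p1r845

theorem p1r846 : allRange pointOk 22 22959 9 = true := by decide +kernel
theorem p1u846 : ∀ k, 15345 ≤ k → k < 22968 → pointOk (k * 22) = true := between_extend pointOk 22 15345 22959 9 (p1u845) p1r846

theorem p1r847 : allRange pointOk 22 22968 9 = true := by decide +kernel
theorem p1u847 : ∀ k, 15345 ≤ k → k < 22977 → pointOk (k * 22) = true := between_extend pointOk 22 15345 22968 9 (p1u846) p1r847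

theorem p1r848 : allRange pointOk 22 22977 9 = true := by decide +kernel
theorem p1u848 : ∀ k, 15345 ≤ k → k < 22986 → pointOk (k * 22) = true := between_extend pointOk 22 15345 22977 9 (p1u847) p1r848

theorem p1r849 : allRange pointOk 22 22986 9 = true := by decide +kernel
theorem p1u849 : ∀ k, 15345 ≤ k → k < 22995 → pointOk (k * 22) = true := between_extend pointOk 22 15345 22986 9 (p1u848) p1r849

theorem p1r850 : allRange pointOk 22 22995 9 = true := by decide +kernel
theorem p1u850 : ∀ k, 15345 ≤ k → k < 23004 → pointOk (k * 22) = true := between_extend pointOk 22 15345 22995 9 (p1u849) p1r850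

theorem p1r851 : allRange pointOk 22 23004 9 = true := by decide +kernel
theorem p1u851 : ∀ k, 15345 ≤ k → k < 23013 → pointOk (k * 22) = true := between_extend pointOk 22 15345 23004 9 (p1u850) p1r851

theorem p1r852 : allRange pointOk 22 23013 9 = true := by decide +kernel
theorem p1u852 : ∀ k, 15345 ≤ k → k < 23022 → pointOk (k * 22) = true := between_extend pointOk 22 15345 23013 9 (p1u851) p1r852

theorem p1r853 : allRange pointOk 22 23022 9 = true := by decide +kernel
theorem p1u853 : ∀ k, 15345 ≤ k → k < 23031 → pointOk (k * 22) = true := between_extend pointOk 22 15345 23022 9 (p1u852) p1r853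

theorem p1r854 : allRange pointOk 22 23031 9 = true := by decide +kernel
theorem p1u854 : ∀ k, 15345 ≤ k → k < 23040 → pointOk (k * 22) = true := between_extend pointOk 22 15345 23031 9 (p1u853) p1r854

theorem p1r855 : allRange pointOk 22 23040 9 = true := by decide +kernel
theorem p1u855 : ∀ k, 15345 ≤ k → k < 23049 → pointOk (k * 22) = true := between_extend pointOk 22 15345 23040 9 (p1u854) p1r855

theorem p1r856 : allRange pointOk 22 23049 9 = true := by decide +kernel
theorem p1u856 : ∀ k, 15345 ≤ k → k < 23058 → pointOk (k * 22) = true := between_extend pointOk 22 15345 23049 9 (p1u855) p1r856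

theorem p1r857 : allRange pointOk 22 23058 9 = true := by decide +kernel
theorem p1u857 : ∀ k, 15345 ≤ k → k < 23067 → pointOk (k * 22) = true := between_extend pointOk 22 15345 23058 9 (p1u856) p1r857

theorem p1r858 : allRange pointOk 22 23067 9 = true := by decide +kernel
theorem p1u858 : ∀ k, 15345 ≤ k → k < 23076 → pointOk (k * 22) = true := between_extend pointOk 22 15345 23067 9 (p1u857) p1r858

theorem p1r859 : allRange pointOk 22 23076 9 = true := by decide +kernel
theorem p1u859 : ∀ k, 15345 ≤ k → k < 23085 → pointOk (k * 22) = true := between_extend pointOk 22 15345 23076 9 (p1u858) p1r859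

theorem p1r860 : allRange pointOk 22 23085 9 = true := by decide +kernel
theorem p1u860 : ∀ k, 15345 ≤ k → k < 23094 → pointOk (k * 22) = true := between_extend pointOk 22 15345 23085 9 (p1u859) p1r860

theorem p1r861 : allRange pointOk 22 23094 9 = true := by decide +kernel
theorem p1u861 : ∀ k, 15345 ≤ k → k < 23103 → pointOk (k * 22) = true := between_extend pointOk 22 15345 23094 9 (p1u860) p1r861

theorem p1r862 : allRange pointOk 22 23103 9 = true := by decide +kernel
theorem p1u862 : ∀ k, 15345 ≤ k → k < 23112 → pointOk (k * 22) = true := between_extend pointOk 22 15345 23103 9 (p1u861) p1r862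

theorem p1r863 : allRange pointOk 22 23112 9 = true := by decide +kernel
theorem p1u863 : ∀ k, 15345 ≤ k → k < 23121 → pointOk (k * 22) = true := between_extend pointOk 22 15345 23112 9 (p1u862) p1r863

theorem p1r864 : allRange pointOk 22 23121 9 = true := by decide +kernel
theorem p1u864 : ∀ k, 15345 ≤ k → k < 23130 → pointOk (k * 22) = true := between_extend pointOk 22 15345 23121 9 (p1u863) p1r864

theorem p1r865 : allRange pointOk 22 23130 9 = true := by decide +kernel
theorem p1u865 : ∀ k, 15345 ≤ k → k < 23139 → pointOk (k * 22) = true := between_extend pointOk 22 15345 23130 9 (p1u864) p1r865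

theorem p1r866 : allRange pointOk 22 23139 9 = true := by decide +kernel
theorem p1u866 : ∀ k, 15345 ≤ k → k < 23148 → pointOk (k * 22) = true := between_extend pointOk 22 15345 23139 9 (p1u865) p1r866

theorem p1r867 : allRange pointOk 22 23148 9 = true := by decide +kernel
theorem p1u867 : ∀ k, 15345 ≤ k → k < 23157 → pointOk (k * 22) = true := between_extend pointOk 22 15345 23148 9 (p1u866) p1r867

theorem p1r868 : allRange pointOk 22 23157 9 = true := by decide +kernel
theorem p1u868 : ∀ k, 15345 ≤ k → k < 23166 → pointOk (k * 22) = true := between_extend pointOk 22 15345 23157 9 (p1u867) p1r868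

theorem p1r869 : allRange pointOk 22 23166 9 = true := by decide +kernel
theorem p1u869 : ∀ k, 15345 ≤ k → k < 23175 → pointOk (k * 22) = true := between_extend pointOk 22 15345 23166 9 (p1u868) p1r869

theorem p1r870 : allRange pointOk 22 23175 9 = true := by decide +kernel
theorem p1u870 : ∀ k, 15345 ≤ k → k < 23184 → pointOk (k * 22) = true := between_extend pointOk 22 15345 23175 9 (p1u869) p1r870

theorem p1r871 : allRange pointOk 22 23184 9 = true := by decide +kernel
theorem p1u871 : ∀ k, 15345 ≤ k → k < 23193 → pointOk (k * 22) = true := between_extend pointOk 22 15345 23184 9 (p1u870) p1r871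

theorem p1r872 : allRange pointOk 22 23193 9 = true := by decide +kernel
theorem p1u872 : ∀ k, 15345 ≤ k → k < 23202 → pointOk (k * 22) = true := between_extend pointOk 22 15345 23193 9 (p1u871) p1r872

theorem p1r873 : allRange pointOk 22 23202 9 = true := by decide +kernel
theorem p1u873 : ∀ k, 15345 ≤ k → k < 23211 → pointOk (k * 22) = true := between_extend pointOk 22 15345 23202 9 (p1u872) p1r873

theorem p1r874 : allRange pointOk 22 23211 9 = true := by decide +kernel
theorem p1u874 : ∀ k, 15345 ≤ k → k < 23220 → pointOk (k * 22) = true := between_extend pointOk 22 15345 23211 9 (p1u873) p1r874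

theorem p1r875 : allRange pointOk 22 23220 9 = true := by decide +kernel
theorem p1u875 : ∀ k, 15345 ≤ k → k < 23229 → pointOk (k * 22) = true := between_extend pointOk 22 15345 23220 9 (p1u874) p1r875

theorem p1r876 : allRange pointOk 22 23229 9 = true := by decide +kernel
theorem p1u876 : ∀ k, 15345 ≤ k → k < 23238 → pointOk (k * 22) = true := between_extend pointOk 22 15345 23229 9 (p1u875) p1r876

theorem p1r877 : allRange pointOk 22 23238 9 = true := by decide +kernel
theorem p1u877 : ∀ k, 15345 ≤ k → k < 23247 → pointOk (k * 22) = true := between_extend pointOk 22 15345 23238 9 (p1u876) p1r877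

theorem p1r878 : allRange pointOk 22 23247 9 = true := by decide +kernel
theorem p1u878 : ∀ k, 15345 ≤ k → k < 23256 → pointOk (k * 22) = true := between_extend pointOk 22 15345 23247 9 (p1u877) p1r878

theorem p1r879 : allRange pointOk 22 23256 9 = true := by decide +kernel
theorem p1u879 : ∀ k, 15345 ≤ k → k < 23265 → pointOk (k * 22) = true := between_extend pointOk 22 15345 23256 9 (p1u878) p1r879

theorem p1r880 : allRange pointOk 22 23265 9 = true := by decide +kernel
theorem p1u880 : ∀ k, 15345 ≤ k → k < 23274 → pointOk (k * 22) = true := between_extend pointOk 22 15345 23265 9 (p1u879) p1r880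

theorem p1r881 : allRange pointOk 22 23274 9 = true := by decide +kernel
theorem p1u881 : ∀ k, 15345 ≤ k → k < 23283 → pointOk (k * 22) = true := between_extend pointOk 22 15345 23274 9 (p1u880) p1r881

theorem p1r882 : allRange pointOk 22 23283 9 = true := by decide +kernel
theorem p1u882 : ∀ k, 15345 ≤ k → k < 23292 → pointOk (k * 22) = true := between_extend pointOk 22 15345 23283 9 (p1u881) p1r882

theorem p1r883 : allRange pointOk 22 23292 9 = true := by decide +kernel
theorem p1u883 : ∀ k, 15345 ≤ k → k < 23301 → pointOk (k * 22) = true := between_extend pointOk 22 15345 23292 9 (p1u882) p1r883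

theorem p1r884 : allRange pointOk 22 23301 9 = true := by decide +kernel
theorem p1u884 : ∀ k, 15345 ≤ k → k < 23310 → pointOk (k * 22) = true := between_extend pointOk 22 15345 23301 9 (p1u883) p1r884

theorem p1r885 : allRange pointOk 22 23310 9 = true := by decide +kernel
theorem p1u885 : ∀ k, 15345 ≤ k → k < 23319 → pointOk (k * 22) = true := between_extend pointOk 22 15345 23310 9 (p1u884) p1r885

theorem p1r886 : allRange pointOk 22 23319 9 = true := by decide +kernel
theorem p1u886 : ∀ k, 15345 ≤ k → k < 23328 → pointOk (k * 22) = true := between_extend pointOk 22 15345 23319 9 (p1u885) p1r886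

theorem p1r887 : allRange pointOk 22 23328 9 = true := by decide +kernel
theorem p1u887 : ∀ k, 15345 ≤ k → k < 23337 → pointOk (k * 22) = true := between_extend pointOk 22 15345 23328 9 (p1u886) p1r887

theorem p1r888 : allRange pointOk 22 23337 9 = true := by decide +kernel
theorem p1u888 : ∀ k, 15345 ≤ k → k < 23346 → pointOk (k * 22) = true := between_extend pointOk 22 15345 23337 9 (p1u887) p1r888

theorem p1r889 : allRange pointOk 22 23346 9 = true := by decide +kernel
theorem p1u889 : ∀ k, 15345 ≤ k → k < 23355 → pointOk (k * 22) = true := between_extend pointOk 22 15345 23346 9 (p1u888) p1r889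

theorem p1r890 : allRange pointOk 22 23355 9 = true := by decide +kernel
theorem p1u890 : ∀ k, 15345 ≤ k → k < 23364 → pointOk (k * 22) = true := between_extend pointOk 22 15345 23355 9 (p1u889) p1r890

theorem p1r891 : allRange pointOk 22 23364 9 = true := by decide +kernel
theorem p1u891 : ∀ k, 15345 ≤ k → k < 23373 → pointOk (k * 22) = true := between_extend pointOk 22 15345 23364 9 (p1u890) p1r891

theorem p1r892 : allRange pointOk 22 23373 9 = true := by decide +kernel
theorem p1u892 : ∀ k, 15345 ≤ k → k < 23382 → pointOk (k * 22) = true := between_extend pointOk 22 15345 23373 9 (p1u891) p1r892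

theorem p1r893 : allRange pointOk 22 23382 9 = true := by decide +kernel
theorem p1u893 : ∀ k, 15345 ≤ k → k < 23391 → pointOk (k * 22) = true := between_extend pointOk 22 15345 23382 9 (p1u892) p1r893

theorem p1r894 : allRange pointOk 22 23391 9 = true := by decide +kernel
theorem p1u894 : ∀ k, 15345 ≤ k → k < 23400 → pointOk (k * 22) = true := between_extend pointOk 22 15345 23391 9 (p1u893) p1r894

theorem p1r895 : allRange pointOk 22 23400 9 = true := by decide +kernel
theorem p1u895 : ∀ k, 15345 ≤ k → k < 23409 → pointOk (k * 22) = true := between_extend pointOk 22 15345 23400 9 (p1u894) p1r895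

theorem p1r896 : allRange pointOk 22 23409 9 = true := by decide +kernel
theorem p1u896 : ∀ k, 15345 ≤ k → k < 23418 → pointOk (k * 22) = true := between_extend pointOk 22 15345 23409 9 (p1u895) p1r896

theorem p1r897 : allRange pointOk 22 23418 9 = true := by decide +kernel
theorem p1u897 : ∀ k, 15345 ≤ k → k < 23427 → pointOk (k * 22) = true := between_extend pointOk 22 15345 23418 9 (p1u896) p1r897

theorem p1r898 : allRange pointOk 22 23427 9 = true := by decide +kernel
theorem p1u898 : ∀ k, 15345 ≤ k → k < 23436 → pointOk (k * 22) = true := between_extend pointOk 22 15345 23427 9 (p1u897) p1r898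

theorem p1r899 : allRange pointOk 22 23436 9 = true := by decide +kernel
theorem p1u899 : ∀ k, 15345 ≤ k → k < 23445 → pointOk (k * 22) = true := between_extend pointOk 22 15345 23436 9 (p1u898) p1r899

theorem p1r900 : allRange pointOk 22 23445 9 = true := by decide +kernel
theorem p1u900 : ∀ k, 15345 ≤ k → k < 23454 → pointOk (k * 22) = true := between_extend pointOk 22 15345 23445 9 (p1u899) p1r900

theorem p1r901 : allRange pointOk 22 23454 9 = true := by decide +kernel
theorem p1u901 : ∀ k, 15345 ≤ k → k < 23463 → pointOk (k * 22) = true := between_extend pointOk 22 15345 23454 9 (p1u900) p1r901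

theorem p1r902 : allRange pointOk 22 23463 9 = true := by decide +kernel
theorem p1u902 : ∀ k, 15345 ≤ k → k < 23472 → pointOk (k * 22) = true := between_extend pointOk 22 15345 23463 9 (p1u901) p1r902

theorem p1r903 : allRange pointOk 22 23472 9 = true := by decide +kernel
theorem p1u903 : ∀ k, 15345 ≤ k → k < 23481 → pointOk (k * 22) = true := between_extend pointOk 22 15345 23472 9 (p1u902) p1r903

theorem p1r904 : allRange pointOk 22 23481 9 = true := by decide +kernel
theorem p1u904 : ∀ k, 15345 ≤ k → k < 23490 → pointOk (k * 22) = true := between_extend pointOk 22 15345 23481 9 (p1u903) p1r904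

theorem p1r905 : allRange pointOk 22 23490 9 = true := by decide +kernel
theorem p1u905 : ∀ k, 15345 ≤ k → k < 23499 → pointOk (k * 22) = true := between_extend pointOk 22 15345 23490 9 (p1u904) p1r905

theorem p1r906 : allRange pointOk 22 23499 9 = true := by decide +kernel
theorem p1u906 : ∀ k, 15345 ≤ k → k < 23508 → pointOk (k * 22) = true := between_extend pointOk 22 15345 23499 9 (p1u905) p1r906

theorem p1r907 : allRange pointOk 22 23508 9 = true := by decide +kernel
theorem p1u907 : ∀ k, 15345 ≤ k → k < 23517 → pointOk (k * 22) = true := between_extend pointOk 22 15345 23508 9 (p1u906) p1r907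

theorem p1r908 : allRange pointOk 22 23517 9 = true := by decide +kernel
theorem p1u908 : ∀ k, 15345 ≤ k → k < 23526 → pointOk (k * 22) = true := between_extend pointOk 22 15345 23517 9 (p1u907) p1r908

theorem p1r909 : allRange pointOk 22 23526 9 = true := by decide +kernel
theorem p1u909 : ∀ k, 15345 ≤ k → k < 23535 → pointOk (k * 22) = true := between_extend pointOk 22 15345 23526 9 (p1u908) p1r909

theorem p1r910 : allRange pointOk 22 23535 9 = true := by decide +kernel
theorem p1u910 : ∀ k, 15345 ≤ k → k < 23544 → pointOk (k * 22) = true := between_extend pointOk 22 15345 23535 9 (p1u909) p1r910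

theorem p1r911 : allRange pointOk 22 23544 9 = true := by decide +kernel
theorem p1u911 : ∀ k, 15345 ≤ k → k < 23553 → pointOk (k * 22) = true := between_extend pointOk 22 15345 23544 9 (p1u910) p1r911

theorem p1r912 : allRange pointOk 22 23553 9 = true := by decide +kernel
theorem p1u912 : ∀ k, 15345 ≤ k → k < 23562 → pointOk (k * 22) = true := between_extend pointOk 22 15345 23553 9 (p1u911) p1r912

theorem p1r913 : allRange pointOk 22 23562 9 = true := by decide +kernel
theorem p1u913 : ∀ k, 15345 ≤ k → k < 23571 → pointOk (k * 22) = true := between_extend pointOk 22 15345 23562 9 (p1u912) p1r913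

theorem p1r914 : allRange pointOk 22 23571 9 = true := by decide +kernel
theorem p1u914 : ∀ k, 15345 ≤ k → k < 23580 → pointOk (k * 22) = true := between_extend pointOk 22 15345 23571 9 (p1u913) p1r914

theorem p1r915 : allRange pointOk 22 23580 9 = true := by decide +kernel
theorem p1u915 : ∀ k, 15345 ≤ k → k < 23589 → pointOk (k * 22) = true := between_extend pointOk 22 15345 23580 9 (p1u914) p1r915

theorem p1r916 : allRange pointOk 22 23589 9 = true := by decide +kernel
theorem p1u916 : ∀ k, 15345 ≤ k → k < 23598 → pointOk (k * 22) = true := between_extend pointOk 22 15345 23589 9 (p1u915) p1r916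

theorem p1r917 : allRange pointOk 22 23598 9 = true := by decide +kernel
theorem p1u917 : ∀ k, 15345 ≤ k → k < 23607 → pointOk (k * 22) = true := between_extend pointOk 22 15345 23598 9 (p1u916) p1r917

theorem p1r918 : allRange pointOk 22 23607 9 = true := by decide +kernel
theorem p1u918 : ∀ k, 15345 ≤ k → k < 23616 → pointOk (k * 22) = true := between_extend pointOk 22 15345 23607 9 (p1u917) p1r918

theorem p1r919 : allRange pointOk 22 23616 9 = true := by decide +kernel
theorem p1u919 : ∀ k, 15345 ≤ k → k < 23625 → pointOk (k * 22) = true := between_extend pointOk 22 15345 23616 9 (p1u918) p1r919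

theorem p1r920 : allRange pointOk 22 23625 9 = true := by decide +kernel
theorem p1u920 : ∀ k, 15345 ≤ k → k < 23634 → pointOk (k * 22) = true := between_extend pointOk 22 15345 23625 9 (p1u919) p1r920

theorem p1r921 : allRange pointOk 22 23634 9 = true := by decide +kernel
theorem p1u921 : ∀ k, 15345 ≤ k → k < 23643 → pointOk (k * 22) = true := between_extend pointOk 22 15345 23634 9 (p1u920) p1r921

theorem p1r922 : allRange pointOk 22 23643 9 = true := by decide +kernel
theorem p1u922 : ∀ k, 15345 ≤ k → k < 23652 → pointOk (k * 22) = true := between_extend pointOk 22 15345 23643 9 (p1u921) p1r922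

theorem p1r923 : allRange pointOk 22 23652 9 = true := by decide +kernel
theorem p1u923 : ∀ k, 15345 ≤ k → k < 23661 → pointOk (k * 22) = true := between_extend pointOk 22 15345 23652 9 (p1u922) p1r923

theorem p1r924 : allRange pointOk 22 23661 9 = true := by decide +kernel
theorem p1u924 : ∀ k, 15345 ≤ k → k < 23670 → pointOk (k * 22) = true := between_extend pointOk 22 15345 23661 9 (p1u923) p1r924

theorem p1r925 : allRange pointOk 22 23670 9 = true := by decide +kernel
theorem p1u925 : ∀ k, 15345 ≤ k → k < 23679 → pointOk (k * 22) = true := between_extend pointOk 22 15345 23670 9 (p1u924) p1r925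

theorem p1r926 : allRange pointOk 22 23679 9 = true := by decide +kernel
theorem p1u926 : ∀ k, 15345 ≤ k → k < 23688 → pointOk (k * 22) = true := between_extend pointOk 22 15345 23679 9 (p1u925) p1r926

theorem p1r927 : allRange pointOk 22 23688 9 = true := by decide +kernel
theorem p1u927 : ∀ k, 15345 ≤ k → k < 23697 → pointOk (k * 22) = true := between_extend pointOk 22 15345 23688 9 (p1u926) p1r927

theorem p1r928 : allRange pointOk 22 23697 9 = true := by decide +kernel
theorem p1u928 : ∀ k, 15345 ≤ k → k < 23706 → pointOk (k * 22) = true := between_extend pointOk 22 15345 23697 9 (p1u927) p1r928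

theorem p1r929 : allRange pointOk 22 23706 9 = true := by decide +kernel
theorem p1u929 : ∀ k, 15345 ≤ k → k < 23715 → pointOk (k * 22) = true := between_extend pointOk 22 15345 23706 9 (p1u928) p1r929

theorem p1r930 : allRange pointOk 22 23715 9 = true := by decide +kernel
theorem p1u930 : ∀ k, 15345 ≤ k → k < 23724 → pointOk (k * 22) = true := between_extend pointOk 22 15345 23715 9 (p1u929) p1r930

theorem p1r931 : allRange pointOk 22 23724 9 = true := by decide +kernel
theorem p1u931 : ∀ k, 15345 ≤ k → k < 23733 → pointOk (k * 22) = true := between_extend pointOk 22 15345 23724 9 (p1u930) p1r931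

theorem p1r932 : allRange pointOk 22 23733 9 = true := by decide +kernel
theorem p1u932 : ∀ k, 15345 ≤ k → k < 23742 → pointOk (k * 22) = true := between_extend pointOk 22 15345 23733 9 (p1u931) p1r932

theorem p1r933 : allRange pointOk 22 23742 9 = true := by decide +kernel
theorem p1u933 : ∀ k, 15345 ≤ k → k < 23751 → pointOk (k * 22) = true := between_extend pointOk 22 15345 23742 9 (p1u932) p1r933

theorem p1r934 : allRange pointOk 22 23751 9 = true := by decide +kernel
theorem p1u934 : ∀ k, 15345 ≤ k → k < 23760 → pointOk (k * 22) = true := between_extend pointOk 22 15345 23751 9 (p1u933) p1r934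

theorem p1r935 : allRange pointOk 22 23760 9 = true := by decide +kernel
theorem p1u935 : ∀ k, 15345 ≤ k → k < 23769 → pointOk (k * 22) = true := between_extend pointOk 22 15345 23760 9 (p1u934) p1r935

theorem p1r936 : allRange pointOk 22 23769 9 = true := by decide +kernel
theorem p1u936 : ∀ k, 15345 ≤ k → k < 23778 → pointOk (k * 22) = true := between_extend pointOk 22 15345 23769 9 (p1u935) p1r936

theorem p1r937 : allRange pointOk 22 23778 9 = true := by decide +kernel
theorem p1u937 : ∀ k, 15345 ≤ k → k < 23787 → pointOk (k * 22) = true := between_extend pointOk 22 15345 23778 9 (p1u936) p1r937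

theorem p1r938 : allRange pointOk 22 23787 9 = true := by decide +kernel
theorem p1u938 : ∀ k, 15345 ≤ k → k < 23796 → pointOk (k * 22) = true := between_extend pointOk 22 15345 23787 9 (p1u937) p1r938

theorem p1r939 : allRange pointOk 22 23796 9 = true := by decide +kernel
theorem p1u939 : ∀ k, 15345 ≤ k → k < 23805 → pointOk (k * 22) = true := between_extend pointOk 22 15345 23796 9 (p1u938) p1r939

theorem p1r940 : allRange pointOk 22 23805 9 = true := by decide +kernel
theorem p1u940 : ∀ k, 15345 ≤ k → k < 23814 → pointOk (k * 22) = true := between_extend pointOk 22 15345 23805 9 (p1u939) p1r940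

theorem p1r941 : allRange pointOk 22 23814 9 = true := by decide +kernel
theorem p1u941 : ∀ k, 15345 ≤ k → k < 23823 → pointOk (k * 22) = true := between_extend pointOk 22 15345 23814 9 (p1u940) p1r941

theorem p1r942 : allRange pointOk 22 23823 9 = true := by decide +kernel
theorem p1u942 : ∀ k, 15345 ≤ k → k < 23832 → pointOk (k * 22) = true := between_extend pointOk 22 15345 23823 9 (p1u941) p1r942

theorem p1r943 : allRange pointOk 22 23832 9 = true := by decide +kernel
theorem p1u943 : ∀ k, 15345 ≤ k → k < 23841 → pointOk (k * 22) = true := between_extend pointOk 22 15345 23832 9 (p1u942) p1r943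

theorem p1r944 : allRange pointOk 22 23841 9 = true := by decide +kernel
theorem p1u944 : ∀ k, 15345 ≤ k → k < 23850 → pointOk (k * 22) = true := between_extend pointOk 22 15345 23841 9 (p1u943) p1r944

theorem p1r945 : allRange pointOk 22 23850 9 = true := by decide +kernel
theorem p1u945 : ∀ k, 15345 ≤ k → k < 23859 → pointOk (k * 22) = true := between_extend pointOk 22 15345 23850 9 (p1u944) p1r945

theorem p1r946 : allRange pointOk 22 23859 9 = true := by decide +kernel
theorem p1u946 : ∀ k, 15345 ≤ k → k < 23868 → pointOk (k * 22) = true := between_extend pointOk 22 15345 23859 9 (p1u945) p1r946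

theorem p1r947 : allRange pointOk 22 23868 9 = true := by decide +kernel
theorem p1u947 : ∀ k, 15345 ≤ k → k < 23877 → pointOk (k * 22) = true := between_extend pointOk 22 15345 23868 9 (p1u946) p1r947

theorem p1r948 : allRange pointOk 22 23877 9 = true := by decide +kernel
theorem p1u948 : ∀ k, 15345 ≤ k → k < 23886 → pointOk (k * 22) = true := between_extend pointOk 22 15345 23877 9 (p1u947) p1r948

theorem p1r949 : allRange pointOk 22 23886 9 = true := by decide +kernel
theorem p1u949 : ∀ k, 15345 ≤ k → k < 23895 → pointOk (k * 22) = true := between_extend pointOk 22 15345 23886 9 (p1u948) p1r949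

theorem p1r950 : allRange pointOk 22 23895 9 = true := by decide +kernel
theorem p1u950 : ∀ k, 15345 ≤ k → k < 23904 → pointOk (k * 22) = true := between_extend pointOk 22 15345 23895 9 (p1u949) p1r950

theorem p1r951 : allRange pointOk 22 23904 9 = true := by decide +kernel
theorem p1u951 : ∀ k, 15345 ≤ k → k < 23913 → pointOk (k * 22) = true := between_extend pointOk 22 15345 23904 9 (p1u950) p1r951

theorem p1r952 : allRange pointOk 22 23913 9 = true := by decide +kernel
theorem p1u952 : ∀ k, 15345 ≤ k → k < 23922 → pointOk (k * 22) = true := between_extend pointOk 22 15345 23913 9 (p1u951) p1r952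

theorem p1r953 : allRange pointOk 22 23922 9 = true := by decide +kernel
theorem p1u953 : ∀ k, 15345 ≤ k → k < 23931 → pointOk (k * 22) = true := between_extend pointOk 22 15345 23922 9 (p1u952) p1r953

theorem p1r954 : allRange pointOk 22 23931 9 = true := by decide +kernel
theorem p1u954 : ∀ k, 15345 ≤ k → k < 23940 → pointOk (k * 22) = true := between_extend pointOk 22 15345 23931 9 (p1u953) p1r954

theorem p1r955 : allRange pointOk 22 23940 9 = true := by decide +kernel
theorem p1u955 : ∀ k, 15345 ≤ k → k < 23949 → pointOk (k * 22) = true := between_extend pointOk 22 15345 23940 9 (p1u954) p1r955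

theorem p1r956 : allRange pointOk 22 23949 9 = true := by decide +kernel
theorem p1u956 : ∀ k, 15345 ≤ k → k < 23958 → pointOk (k * 22) = true := between_extend pointOk 22 15345 23949 9 (p1u955) p1r956

theorem p1r957 : allRange pointOk 22 23958 9 = true := by decide +kernel
theorem p1u957 : ∀ k, 15345 ≤ k → k < 23967 → pointOk (k * 22) = true := between_extend pointOk 22 15345 23958 9 (p1u956) p1r957

theorem p1r958 : allRange pointOk 22 23967 9 = true := by decide +kernel
theorem p1u958 : ∀ k, 15345 ≤ k → k < 23976 → pointOk (k * 22) = true := between_extend pointOk 22 15345 23967 9 (p1u957) p1r958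

theorem p1r959 : allRange pointOk 22 23976 9 = true := by decide +kernel
theorem p1u959 : ∀ k, 15345 ≤ k → k < 23985 → pointOk (k * 22) = true := between_extend pointOk 22 15345 23976 9 (p1u958) p1r959

theorem p1r960 : allRange pointOk 22 23985 9 = true := by decide +kernel
theorem p1u960 : ∀ k, 15345 ≤ k → k < 23994 → pointOk (k * 22) = true := between_extend pointOk 22 15345 23985 9 (p1u959) p1r960

theorem p1r961 : allRange pointOk 22 23994 9 = true := by decide +kernel
theorem p1u961 : ∀ k, 15345 ≤ k → k < 24003 → pointOk (k * 22) = true := between_extend pointOk 22 15345 23994 9 (p1u960) p1r961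

theorem p1r962 : allRange pointOk 22 24003 9 = true := by decide +kernel
theorem p1u962 : ∀ k, 15345 ≤ k → k < 24012 → pointOk (k * 22) = true := between_extend pointOk 22 15345 24003 9 (p1u961) p1r962

theorem p1r963 : allRange pointOk 22 24012 9 = true := by decide +kernel
theorem p1u963 : ∀ k, 15345 ≤ k → k < 24021 → pointOk (k * 22) = true := between_extend pointOk 22 15345 24012 9 (p1u962) p1r963

theorem p1r964 : allRange pointOk 22 24021 9 = true := by decide +kernel
theorem p1u964 : ∀ k, 15345 ≤ k → k < 24030 → pointOk (k * 22) = true := between_extend pointOk 22 15345 24021 9 (p1u963) p1r964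

theorem p1r965 : allRange pointOk 22 24030 9 = true := by decide +kernel
theorem p1u965 : ∀ k, 15345 ≤ k → k < 24039 → pointOk (k * 22) = true := between_extend pointOk 22 15345 24030 9 (p1u964) p1r965

theorem p1r966 : allRange pointOk 22 24039 9 = true := by decide +kernel
theorem p1u966 : ∀ k, 15345 ≤ k → k < 24048 → pointOk (k * 22) = true := between_extend pointOk 22 15345 24039 9 (p1u965) p1r966

theorem p1r967 : allRange pointOk 22 24048 9 = true := by decide +kernel
theorem p1u967 : ∀ k, 15345 ≤ k → k < 24057 → pointOk (k * 22) = true := between_extend pointOk 22 15345 24048 9 (p1u966) p1r967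

theorem p1r968 : allRange pointOk 22 24057 9 = true := by decide +kernel
theorem p1u968 : ∀ k, 15345 ≤ k → k < 24066 → pointOk (k * 22) = true := between_extend pointOk 22 15345 24057 9 (p1u967) p1r968

theorem p1r969 : allRange pointOk 22 24066 9 = true := by decide +kernel
theorem p1u969 : ∀ k, 15345 ≤ k → k < 24075 → pointOk (k * 22) = true := between_extend pointOk 22 15345 24066 9 (p1u968) p1r969

theorem p1r970 : allRange pointOk 22 24075 9 = true := by decide +kernel
theorem p1u970 : ∀ k, 15345 ≤ k → k < 24084 → pointOk (k * 22) = true := between_extend pointOk 22 15345 24075 9 (p1u969) p1r970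

theorem p1r971 : allRange pointOk 22 24084 9 = true := by decide +kernel
theorem p1u971 : ∀ k, 15345 ≤ k → k < 24093 → pointOk (k * 22) = true := between_extend pointOk 22 15345 24084 9 (p1u970) p1r971

theorem p1r972 : allRange pointOk 22 24093 9 = true := by decide +kernel
theorem p1u972 : ∀ k, 15345 ≤ k → k < 24102 → pointOk (k * 22) = true := between_extend pointOk 22 15345 24093 9 (p1u971) p1r972

theorem p1r973 : allRange pointOk 22 24102 9 = true := by decide +kernel
theorem p1u973 : ∀ k, 15345 ≤ k → k < 24111 → pointOk (k * 22) = true := between_extend pointOk 22 15345 24102 9 (p1u972) p1r973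

theorem p1r974 : allRange pointOk 22 24111 9 = true := by decide +kernel
theorem p1u974 : ∀ k, 15345 ≤ k → k < 24120 → pointOk (k * 22) = true := between_extend pointOk 22 15345 24111 9 (p1u973) p1r974

theorem p1r975 : allRange pointOk 22 24120 9 = true := by decide +kernel
theorem p1u975 : ∀ k, 15345 ≤ k → k < 24129 → pointOk (k * 22) = true := between_extend pointOk 22 15345 24120 9 (p1u974) p1r975

theorem p1r976 : allRange pointOk 22 24129 9 = true := by decide +kernel
theorem p1u976 : ∀ k, 15345 ≤ k → k < 24138 → pointOk (k * 22) = true := between_extend pointOk 22 15345 24129 9 (p1u975) p1r976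

theorem p1r977 : allRange pointOk 22 24138 9 = true := by decide +kernel
theorem p1u977 : ∀ k, 15345 ≤ k → k < 24147 → pointOk (k * 22) = true := between_extend pointOk 22 15345 24138 9 (p1u976) p1r977

theorem p1r978 : allRange pointOk 22 24147 9 = true := by decide +kernel
theorem p1u978 : ∀ k, 15345 ≤ k → k < 24156 → pointOk (k * 22) = true := between_extend pointOk 22 15345 24147 9 (p1u977) p1r978

theorem p1r979 : allRange pointOk 22 24156 9 = true := by decide +kernel
theorem p1u979 : ∀ k, 15345 ≤ k → k < 24165 → pointOk (k * 22) = true := between_extend pointOk 22 15345 24156 9 (p1u978) p1r979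

theorem p1r980 : allRange pointOk 22 24165 9 = true := by decide +kernel
theorem p1u980 : ∀ k, 15345 ≤ k → k < 24174 → pointOk (k * 22) = true := between_extend pointOk 22 15345 24165 9 (p1u979) p1r980

theorem p1r981 : allRange pointOk 22 24174 9 = true := by decide +kernel
theorem p1u981 : ∀ k, 15345 ≤ k → k < 24183 → pointOk (k * 22) = true := between_extend pointOk 22 15345 24174 9 (p1u980) p1r981

theorem p1r982 : allRange pointOk 22 24183 9 = true := by decide +kernel
theorem p1u982 : ∀ k, 15345 ≤ k → k < 24192 → pointOk (k * 22) = true := between_extend pointOk 22 15345 24183 9 (p1u981) p1r982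

theorem p1r983 : allRange pointOk 22 24192 9 = true := by decide +kernel
theorem p1u983 : ∀ k, 15345 ≤ k → k < 24201 → pointOk (k * 22) = true := between_extend pointOk 22 15345 24192 9 (p1u982) p1r983

theorem p1r984 : allRange pointOk 22 24201 9 = true := by decide +kernel
theorem p1u984 : ∀ k, 15345 ≤ k → k < 24210 → pointOk (k * 22) = true := between_extend pointOk 22 15345 24201 9 (p1u983) p1r984

theorem p1r985 : allRange pointOk 22 24210 9 = true := by decide +kernel
theorem p1u985 : ∀ k, 15345 ≤ k → k < 24219 → pointOk (k * 22) = true := between_extend pointOk 22 15345 24210 9 (p1u984) p1r985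

theorem p1r986 : allRange pointOk 22 24219 9 = true := by decide +kernel
theorem p1u986 : ∀ k, 15345 ≤ k → k < 24228 → pointOk (k * 22) = true := between_extend pointOk 22 15345 24219 9 (p1u985) p1r986

theorem p1r987 : allRange pointOk 22 24228 9 = true := by decide +kernel
theorem p1u987 : ∀ k, 15345 ≤ k → k < 24237 → pointOk (k * 22) = true := between_extend pointOk 22 15345 24228 9 (p1u986) p1r987

theorem p1r988 : allRange pointOk 22 24237 9 = true := by decide +kernel
theorem p1u988 : ∀ k, 15345 ≤ k → k < 24246 → pointOk (k * 22) = true := between_extend pointOk 22 15345 24237 9 (p1u987) p1r988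

theorem p1r989 : allRange pointOk 22 24246 9 = true := by decide +kernel
theorem p1u989 : ∀ k, 15345 ≤ k → k < 24255 → pointOk (k * 22) = true := between_extend pointOk 22 15345 24246 9 (p1u988) p1r989

theorem p1r990 : allRange pointOk 22 24255 9 = true := by decide +kernel
theorem p1u990 : ∀ k, 15345 ≤ k → k < 24264 → pointOk (k * 22) = true := between_extend pointOk 22 15345 24255 9 (p1u989) p1r990

theorem p1r991 : allRange pointOk 22 24264 9 = true := by decide +kernel
theorem p1u991 : ∀ k, 15345 ≤ k → k < 24273 → pointOk (k * 22) = true := between_extend pointOk 22 15345 24264 9 (p1u990) p1r991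

theorem p1r992 : allRange pointOk 22 24273 9 = true := by decide +kernel
theorem p1u992 : ∀ k, 15345 ≤ k → k < 24282 → pointOk (k * 22) = true := between_extend pointOk 22 15345 24273 9 (p1u991) p1r992

theorem p1r993 : allRange pointOk 22 24282 9 = true := by decide +kernel
theorem p1u993 : ∀ k, 15345 ≤ k → k < 24291 → pointOk (k * 22) = true := between_extend pointOk 22 15345 24282 9 (p1u992) p1r993

theorem p1r994 : allRange pointOk 22 24291 9 = true := by decide +kernel
theorem p1u994 : ∀ k, 15345 ≤ k → k < 24300 → pointOk (k * 22) = true := between_extend pointOk 22 15345 24291 9 (p1u993) p1r994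

theorem p1r995 : allRange pointOk 22 24300 9 = true := by decide +kernel
theorem p1u995 : ∀ k, 15345 ≤ k → k < 24309 → pointOk (k * 22) = true := between_extend pointOk 22 15345 24300 9 (p1u994) p1r995

theorem p1r996 : allRange pointOk 22 24309 9 = true := by decide +kernel
theorem p1u996 : ∀ k, 15345 ≤ k → k < 24318 → pointOk (k * 22) = true := between_extend pointOk 22 15345 24309 9 (p1u995) p1r996

theorem p1r997 : allRange pointOk 22 24318 9 = true := by decide +kernel
theorem p1u997 : ∀ k, 15345 ≤ k → k < 24327 → pointOk (k * 22) = true := between_extend pointOk 22 15345 24318 9 (p1u996) p1r997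

theorem p1r998 : allRange pointOk 22 24327 9 = true := by decide +kernel
theorem p1u998 : ∀ k, 15345 ≤ k → k < 24336 → pointOk (k * 22) = true := between_extend pointOk 22 15345 24327 9 (p1u997) p1r998

theorem p1r999 : allRange pointOk 22 24336 9 = true := by decide +kernel
theorem p1u999 : ∀ k, 15345 ≤ k → k < 24345 → pointOk (k * 22) = true := between_extend pointOk 22 15345 24336 9 (p1u998) p1r999

theorem p1r1000 : allRange pointOk 22 24345 9 = true := by decide +kernel
theorem p1u1000 : ∀ k, 15345 ≤ k → k < 24354 → pointOk (k * 22) = true := between_extend pointOk 22 15345 24345 9 (p1u999) p1r1000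

theorem p1r1001 : allRange pointOk 22 24354 9 = true := by decide +kernel
theorem p1u1001 : ∀ k, 15345 ≤ k → k < 24363 → pointOk (k * 22) = true := between_extend pointOk 22 15345 24354 9 (p1u1000) p1r1001

theorem p1r1002 : allRange pointOk 22 24363 9 = true := by decide +kernel
theorem p1u1002 : ∀ k, 15345 ≤ k → k < 24372 → pointOk (k * 22) = true := between_extend pointOk 22 15345 24363 9 (p1u1001) p1r1002

theorem p1r1003 : allRange pointOk 22 24372 9 = true := by decide +kernel
theorem p1u1003 : ∀ k, 15345 ≤ k → k < 24381 → pointOk (k * 22) = true := between_extend pointOk 22 15345 24372 9 (p1u1002) p1r1003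

theorem p1r1004 : allRange pointOk 22 24381 9 = true := by decide +kernel
theorem p1u1004 : ∀ k, 15345 ≤ k → k < 24390 → pointOk (k * 22) = true := between_extend pointOk 22 15345 24381 9 (p1u1003) p1r1004

theorem p1r1005 : allRange pointOk 22 24390 9 = true := by decide +kernel
theorem p1u1005 : ∀ k, 15345 ≤ k → k < 24399 → pointOk (k * 22) = true := between_extend pointOk 22 15345 24390 9 (p1u1004) p1r1005

theorem p1r1006 : allRange pointOk 22 24399 9 = true := by decide +kernel
theorem p1u1006 : ∀ k, 15345 ≤ k → k < 24408 → pointOk (k * 22) = true := between_extend pointOk 22 15345 24399 9 (p1u1005) p1r1006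

theorem p1r1007 : allRange pointOk 22 24408 9 = true := by decide +kernel
theorem p1u1007 : ∀ k, 15345 ≤ k → k < 24417 → pointOk (k * 22) = true := between_extend pointOk 22 15345 24408 9 (p1u1006) p1r1007

theorem p1r1008 : allRange pointOk 22 24417 9 = true := by decide +kernel
theorem p1u1008 : ∀ k, 15345 ≤ k → k < 24426 → pointOk (k * 22) = true := between_extend pointOk 22 15345 24417 9 (p1u1007) p1r1008

theorem p1r1009 : allRange pointOk 22 24426 9 = true := by decide +kernel
theorem p1u1009 : ∀ k, 15345 ≤ k → k < 24435 → pointOk (k * 22) = true := between_extend pointOk 22 15345 24426 9 (p1u1008) p1r1009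

theorem p1r1010 : allRange pointOk 22 24435 9 = true := by decide +kernel
theorem p1u1010 : ∀ k, 15345 ≤ k → k < 24444 → pointOk (k * 22) = true := between_extend pointOk 22 15345 24435 9 (p1u1009) p1r1010

theorem p1r1011 : allRange pointOk 22 24444 9 = true := by decide +kernel
theorem p1u1011 : ∀ k, 15345 ≤ k → k < 24453 → pointOk (k * 22) = true := between_extend pointOk 22 15345 24444 9 (p1u1010) p1r1011

theorem p1r1012 : allRange pointOk 22 24453 9 = true := by decide +kernel
theorem p1u1012 : ∀ k, 15345 ≤ k → k < 24462 → pointOk (k * 22) = true := between_extend pointOk 22 15345 24453 9 (p1u1011) p1r1012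

theorem p1r1013 : allRange pointOk 22 24462 9 = true := by decide +kernel
theorem p1u1013 : ∀ k, 15345 ≤ k → k < 24471 → pointOk (k * 22) = true := between_extend pointOk 22 15345 24462 9 (p1u1012) p1r1013

theorem p1r1014 : allRange pointOk 22 24471 9 = true := by decide +kernel
theorem p1u1014 : ∀ k, 15345 ≤ k → k < 24480 → pointOk (k * 22) = true := between_extend pointOk 22 15345 24471 9 (p1u1013) p1r1014

theorem p1r1015 : allRange pointOk 22 24480 9 = true := by decide +kernel
theorem p1u1015 : ∀ k, 15345 ≤ k → k < 24489 → pointOk (k * 22) = true := between_extend pointOk 22 15345 24480 9 (p1u1014) p1r1015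

theorem p1r1016 : allRange pointOk 22 24489 9 = true := by decide +kernel
theorem p1u1016 : ∀ k, 15345 ≤ k → k < 24498 → pointOk (k * 22) = true := between_extend pointOk 22 15345 24489 9 (p1u1015) p1r1016

theorem p1r1017 : allRange pointOk 22 24498 9 = true := by decide +kernel
theorem p1u1017 : ∀ k, 15345 ≤ k → k < 24507 → pointOk (k * 22) = true := between_extend pointOk 22 15345 24498 9 (p1u1016) p1r1017

theorem p1r1018 : allRange pointOk 22 24507 9 = true := by decide +kernel
theorem p1u1018 : ∀ k, 15345 ≤ k → k < 24516 → pointOk (k * 22) = true := between_extend pointOk 22 15345 24507 9 (p1u1017) p1r1018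

theorem p1r1019 : allRange pointOk 22 24516 9 = true := by decide +kernel
theorem p1u1019 : ∀ k, 15345 ≤ k → k < 24525 → pointOk (k * 22) = true := between_extend pointOk 22 15345 24516 9 (p1u1018) p1r1019

theorem p1r1020 : allRange pointOk 22 24525 9 = true := by decide +kernel
theorem p1u1020 : ∀ k, 15345 ≤ k → k < 24534 → pointOk (k * 22) = true := between_extend pointOk 22 15345 24525 9 (p1u1019) p1r1020

theorem p1r1021 : allRange pointOk 22 24534 9 = true := by decide +kernel
theorem p1u1021 : ∀ k, 15345 ≤ k → k < 24543 → pointOk (k * 22) = true := between_extend pointOk 22 15345 24534 9 (p1u1020) p1r1021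

theorem p1r1022 : allRange pointOk 22 24543 9 = true := by decide +kernel
theorem p1u1022 : ∀ k, 15345 ≤ k → k < 24552 → pointOk (k * 22) = true := between_extend pointOk 22 15345 24543 9 (p1u1021) p1r1022

theorem p1r1023 : allRange pointOk 22 24552 9 = true := by decide +kernel
theorem p1u1023 : ∀ k, 15345 ≤ k → k < 24561 → pointOk (k * 22) = true := between_extend pointOk 22 15345 24552 9 (p1u1022) p1r1023

theorem p1r1024 : allRange pointOk 22 24561 9 = true := by decide +kernel
theorem p1u1024 : ∀ k, 15345 ≤ k → k < 24570 → pointOk (k * 22) = true := between_extend pointOk 22 15345 24561 9 (p1u1023) p1r1024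

theorem p1r1025 : allRange pointOk 22 24570 9 = true := by decide +kernel
theorem p1u1025 : ∀ k, 15345 ≤ k → k < 24579 → pointOk (k * 22) = true := between_extend pointOk 22 15345 24570 9 (p1u1024) p1r1025

theorem p1r1026 : allRange pointOk 22 24579 9 = true := by decide +kernel
theorem p1u1026 : ∀ k, 15345 ≤ k → k < 24588 → pointOk (k * 22) = true := between_extend pointOk 22 15345 24579 9 (p1u1025) p1r1026

theorem p1r1027 : allRange pointOk 22 24588 9 = true := by decide +kernel
theorem p1u1027 : ∀ k, 15345 ≤ k → k < 24597 → pointOk (k * 22) = true := between_extend pointOk 22 15345 24588 9 (p1u1026) p1r1027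

theorem p1r1028 : allRange pointOk 22 24597 9 = true := by decide +kernel
theorem p1u1028 : ∀ k, 15345 ≤ k → k < 24606 → pointOk (k * 22) = true := between_extend pointOk 22 15345 24597 9 (p1u1027) p1r1028

theorem p1r1029 : allRange pointOk 22 24606 9 = true := by decide +kernel
theorem p1u1029 : ∀ k, 15345 ≤ k → k < 24615 → pointOk (k * 22) = true := between_extend pointOk 22 15345 24606 9 (p1u1028) p1r1029

theorem p1r1030 : allRange pointOk 22 24615 9 = true := by decide +kernel
theorem p1u1030 : ∀ k, 15345 ≤ k → k < 24624 → pointOk (k * 22) = true := between_extend pointOk 22 15345 24615 9 (p1u1029) p1r1030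

theorem p1r1031 : allRange pointOk 22 24624 9 = true := by decide +kernel
theorem p1u1031 : ∀ k, 15345 ≤ k → k < 24633 → pointOk (k * 22) = true := between_extend pointOk 22 15345 24624 9 (p1u1030) p1r1031

theorem p1r1032 : allRange pointOk 22 24633 9 = true := by decide +kernel
theorem p1u1032 : ∀ k, 15345 ≤ k → k < 24642 → pointOk (k * 22) = true := between_extend pointOk 22 15345 24633 9 (p1u1031) p1r1032

theorem p1r1033 : allRange pointOk 22 24642 9 = true := by decide +kernel
theorem p1u1033 : ∀ k, 15345 ≤ k → k < 24651 → pointOk (k * 22) = true := between_extend pointOk 22 15345 24642 9 (p1u1032) p1r1033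

theorem p1r1034 : allRange pointOk 22 24651 9 = true := by decide +kernel
theorem p1u1034 : ∀ k, 15345 ≤ k → k < 24660 → pointOk (k * 22) = true := between_extend pointOk 22 15345 24651 9 (p1u1033) p1r1034

theorem p1r1035 : allRange pointOk 22 24660 9 = true := by decide +kernel
theorem p1u1035 : ∀ k, 15345 ≤ k → k < 24669 → pointOk (k * 22) = true := between_extend pointOk 22 15345 24660 9 (p1u1034) p1r1035

theorem p1r1036 : allRange pointOk 22 24669 9 = true := by decide +kernel
theorem p1u1036 : ∀ k, 15345 ≤ k → k < 24678 → pointOk (k * 22) = true := between_extend pointOk 22 15345 24669 9 (p1u1035) p1r1036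

theorem p1r1037 : allRange pointOk 22 24678 9 = true := by decide +kernel
theorem p1u1037 : ∀ k, 15345 ≤ k → k < 24687 → pointOk (k * 22) = true := between_extend pointOk 22 15345 24678 9 (p1u1036) p1r1037

theorem p1r1038 : allRange pointOk 22 24687 9 = true := by decide +kernel
theorem p1u1038 : ∀ k, 15345 ≤ k → k < 24696 → pointOk (k * 22) = true := between_extend pointOk 22 15345 24687 9 (p1u1037) p1r1038

theorem p1r1039 : allRange pointOk 22 24696 9 = true := by decide +kernel
theorem p1u1039 : ∀ k, 15345 ≤ k → k < 24705 → pointOk (k * 22) = true := between_extend pointOk 22 15345 24696 9 (p1u1038) p1r1039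

theorem p1r1040 : allRange pointOk 22 24705 9 = true := by decide +kernel
theorem p1u1040 : ∀ k, 15345 ≤ k → k < 24714 → pointOk (k * 22) = true := between_extend pointOk 22 15345 24705 9 (p1u1039) p1r1040

theorem p1r1041 : allRange pointOk 22 24714 9 = true := by decide +kernel
theorem p1u1041 : ∀ k, 15345 ≤ k → k < 24723 → pointOk (k * 22) = true := between_extend pointOk 22 15345 24714 9 (p1u1040) p1r1041

theorem p1r1042 : allRange pointOk 22 24723 9 = true := by decide +kernel
theorem p1u1042 : ∀ k, 15345 ≤ k → k < 24732 → pointOk (k * 22) = true := between_extend pointOk 22 15345 24723 9 (p1u1041) p1r1042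

theorem p1r1043 : allRange pointOk 22 24732 9 = true := by decide +kernel
theorem p1u1043 : ∀ k, 15345 ≤ k → k < 24741 → pointOk (k * 22) = true := between_extend pointOk 22 15345 24732 9 (p1u1042) p1r1043

theorem p1r1044 : allRange pointOk 22 24741 9 = true := by decide +kernel
theorem p1u1044 : ∀ k, 15345 ≤ k → k < 24750 → pointOk (k * 22) = true := between_extend pointOk 22 15345 24741 9 (p1u1043) p1r1044

theorem p1r1045 : allRange pointOk 22 24750 9 = true := by decide +kernel
theorem p1u1045 : ∀ k, 15345 ≤ k → k < 24759 → pointOk (k * 22) = true := between_extend pointOk 22 15345 24750 9 (p1u1044) p1r1045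

theorem p1r1046 : allRange pointOk 22 24759 9 = true := by decide +kernel
theorem p1u1046 : ∀ k, 15345 ≤ k → k < 24768 → pointOk (k * 22) = true := between_extend pointOk 22 15345 24759 9 (p1u1045) p1r1046

theorem p1r1047 : allRange pointOk 22 24768 9 = true := by decide +kernel
theorem p1u1047 : ∀ k, 15345 ≤ k → k < 24777 → pointOk (k * 22) = true := between_extend pointOk 22 15345 24768 9 (p1u1046) p1r1047

theorem p1r1048 : allRange pointOk 22 24777 9 = true := by decide +kernel
theorem p1u1048 : ∀ k, 15345 ≤ k → k < 24786 → pointOk (k * 22) = true := between_extend pointOk 22 15345 24777 9 (p1u1047) p1r1048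

theorem p1r1049 : allRange pointOk 22 24786 9 = true := by decide +kernel
theorem p1u1049 : ∀ k, 15345 ≤ k → k < 24795 → pointOk (k * 22) = true := between_extend pointOk 22 15345 24786 9 (p1u1048) p1r1049

theorem p1r1050 : allRange pointOk 22 24795 9 = true := by decide +kernel
theorem p1u1050 : ∀ k, 15345 ≤ k → k < 24804 → pointOk (k * 22) = true := between_extend pointOk 22 15345 24795 9 (p1u1049) p1r1050

theorem p1r1051 : allRange pointOk 22 24804 9 = true := by decide +kernel
theorem p1u1051 : ∀ k, 15345 ≤ k → k < 24813 → pointOk (k * 22) = true := between_extend pointOk 22 15345 24804 9 (p1u1050) p1r1051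

theorem p1r1052 : allRange pointOk 22 24813 9 = true := by decide +kernel
theorem p1u1052 : ∀ k, 15345 ≤ k → k < 24822 → pointOk (k * 22) = true := between_extend pointOk 22 15345 24813 9 (p1u1051) p1r1052

theorem p1r1053 : allRange pointOk 22 24822 9 = true := by decide +kernel
theorem p1u1053 : ∀ k, 15345 ≤ k → k < 24831 → pointOk (k * 22) = true := between_extend pointOk 22 15345 24822 9 (p1u1052) p1r1053

theorem p1r1054 : allRange pointOk 22 24831 9 = true := by decide +kernel
theorem p1u1054 : ∀ k, 15345 ≤ k → k < 24840 → pointOk (k * 22) = true := between_extend pointOk 22 15345 24831 9 (p1u1053) p1r1054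

theorem p1r1055 : allRange pointOk 22 24840 9 = true := by decide +kernel
theorem p1u1055 : ∀ k, 15345 ≤ k → k < 24849 → pointOk (k * 22) = true := between_extend pointOk 22 15345 24840 9 (p1u1054) p1r1055

theorem p1r1056 : allRange pointOk 22 24849 9 = true := by decide +kernel
theorem p1u1056 : ∀ k, 15345 ≤ k → k < 24858 → pointOk (k * 22) = true := between_extend pointOk 22 15345 24849 9 (p1u1055) p1r1056

theorem p1r1057 : allRange pointOk 22 24858 9 = true := by decide +kernel
theorem p1u1057 : ∀ k, 15345 ≤ k → k < 24867 → pointOk (k * 22) = true := between_extend pointOk 22 15345 24858 9 (p1u1056) p1r1057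

theorem p1r1058 : allRange pointOk 22 24867 9 = true := by decide +kernel
theorem p1u1058 : ∀ k, 15345 ≤ k → k < 24876 → pointOk (k * 22) = true := between_extend pointOk 22 15345 24867 9 (p1u1057) p1r1058

theorem p1r1059 : allRange pointOk 22 24876 9 = true := by decide +kernel
theorem p1u1059 : ∀ k, 15345 ≤ k → k < 24885 → pointOk (k * 22) = true := between_extend pointOk 22 15345 24876 9 (p1u1058) p1r1059

theorem p1r1060 : allRange pointOk 22 24885 9 = true := by decide +kernel
theorem p1u1060 : ∀ k, 15345 ≤ k → k < 24894 → pointOk (k * 22) = true := between_extend pointOk 22 15345 24885 9 (p1u1059) p1r1060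

theorem p1r1061 : allRange pointOk 22 24894 9 = true := by decide +kernel
theorem p1u1061 : ∀ k, 15345 ≤ k → k < 24903 → pointOk (k * 22) = true := between_extend pointOk 22 15345 24894 9 (p1u1060) p1r1061

theorem p1r1062 : allRange pointOk 22 24903 9 = true := by decide +kernel
theorem p1u1062 : ∀ k, 15345 ≤ k → k < 24912 → pointOk (k * 22) = true := between_extend pointOk 22 15345 24903 9 (p1u1061) p1r1062

theorem p1r1063 : allRange pointOk 22 24912 9 = true := by decide +kernel
theorem p1u1063 : ∀ k, 15345 ≤ k → k < 24921 → pointOk (k * 22) = true := between_extend pointOk 22 15345 24912 9 (p1u1062) p1r1063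

theorem p1r1064 : allRange pointOk 22 24921 9 = true := by decide +kernel
theorem p1u1064 : ∀ k, 15345 ≤ k → k < 24930 → pointOk (k * 22) = true := between_extend pointOk 22 15345 24921 9 (p1u1063) p1r1064

theorem p1r1065 : allRange pointOk 22 24930 9 = true := by decide +kernel
theorem p1u1065 : ∀ k, 15345 ≤ k → k < 24939 → pointOk (k * 22) = true := between_extend pointOk 22 15345 24930 9 (p1u1064) p1r1065

theorem p1r1066 : allRange pointOk 22 24939 9 = true := by decide +kernel
theorem p1u1066 : ∀ k, 15345 ≤ k → k < 24948 → pointOk (k * 22) = true := between_extend pointOk 22 15345 24939 9 (p1u1065) p1r1066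

theorem p1r1067 : allRange pointOk 22 24948 9 = true := by decide +kernel
theorem p1u1067 : ∀ k, 15345 ≤ k → k < 24957 → pointOk (k * 22) = true := between_extend pointOk 22 15345 24948 9 (p1u1066) p1r1067

theorem p1r1068 : allRange pointOk 22 24957 9 = true := by decide +kernel
theorem p1u1068 : ∀ k, 15345 ≤ k → k < 24966 → pointOk (k * 22) = true := between_extend pointOk 22 15345 24957 9 (p1u1067) p1r1068

theorem p1r1069 : allRange pointOk 22 24966 9 = true := by decide +kernel
theorem p1u1069 : ∀ k, 15345 ≤ k → k < 24975 → pointOk (k * 22) = true := between_extend pointOk 22 15345 24966 9 (p1u1068) p1r1069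

theorem p1r1070 : allRange pointOk 22 24975 9 = true := by decide +kernel
theorem p1u1070 : ∀ k, 15345 ≤ k → k < 24984 → pointOk (k * 22) = true := between_extend pointOk 22 15345 24975 9 (p1u1069) p1r1070

theorem p1r1071 : allRange pointOk 22 24984 9 = true := by decide +kernel
theorem p1u1071 : ∀ k, 15345 ≤ k → k < 24993 → pointOk (k * 22) = true := between_extend pointOk 22 15345 24984 9 (p1u1070) p1r1071

theorem p1r1072 : allRange pointOk 22 24993 9 = true := by decide +kernel
theorem p1u1072 : ∀ k, 15345 ≤ k → k < 25002 → pointOk (k * 22) = true := between_extend pointOk 22 15345 24993 9 (p1u1071) p1r1072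

theorem p1r1073 : allRange pointOk 22 25002 9 = true := by decide +kernel
theorem p1u1073 : ∀ k, 15345 ≤ k → k < 25011 → pointOk (k * 22) = true := between_extend pointOk 22 15345 25002 9 (p1u1072) p1r1073

theorem p1r1074 : allRange pointOk 22 25011 9 = true := by decide +kernel
theorem p1u1074 : ∀ k, 15345 ≤ k → k < 25020 → pointOk (k * 22) = true := between_extend pointOk 22 15345 25011 9 (p1u1073) p1r1074

theorem p1r1075 : allRange pointOk 22 25020 9 = true := by decide +kernel
theorem p1u1075 : ∀ k, 15345 ≤ k → k < 25029 → pointOk (k * 22) = true := between_extend pointOk 22 15345 25020 9 (p1u1074) p1r1075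

theorem p1r1076 : allRange pointOk 22 25029 9 = true := by decide +kernel
theorem p1u1076 : ∀ k, 15345 ≤ k → k < 25038 → pointOk (k * 22) = true := between_extend pointOk 22 15345 25029 9 (p1u1075) p1r1076

theorem p1r1077 : allRange pointOk 22 25038 9 = true := by decide +kernel
theorem p1u1077 : ∀ k, 15345 ≤ k → k < 25047 → pointOk (k * 22) = true := between_extend pointOk 22 15345 25038 9 (p1u1076) p1r1077

theorem p1r1078 : allRange pointOk 22 25047 9 = true := by decide +kernel
theorem p1u1078 : ∀ k, 15345 ≤ k → k < 25056 → pointOk (k * 22) = true := between_extend pointOk 22 15345 25047 9 (p1u1077) p1r1078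

theorem p1r1079 : allRange pointOk 22 25056 9 = true := by decide +kernel
theorem p1u1079 : ∀ k, 15345 ≤ k → k < 25065 → pointOk (k * 22) = true := between_extend pointOk 22 15345 25056 9 (p1u1078) p1r1079

theorem p1r1080 : allRange pointOk 22 25065 9 = true := by decide +kernel
theorem p1u1080 : ∀ k, 15345 ≤ k → k < 25074 → pointOk (k * 22) = true := between_extend pointOk 22 15345 25065 9 (p1u1079) p1r1080

theorem p1r1081 : allRange pointOk 22 25074 9 = true := by decide +kernel
theorem p1u1081 : ∀ k, 15345 ≤ k → k < 25083 → pointOk (k * 22) = true := between_extend pointOk 22 15345 25074 9 (p1u1080) p1r1081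

theorem p1r1082 : allRange pointOk 22 25083 9 = true := by decide +kernel
theorem p1u1082 : ∀ k, 15345 ≤ k → k < 25092 → pointOk (k * 22) = true := between_extend pointOk 22 15345 25083 9 (p1u1081) p1r1082

theorem p1r1083 : allRange pointOk 22 25092 9 = true := by decide +kernel
theorem p1u1083 : ∀ k, 15345 ≤ k → k < 25101 → pointOk (k * 22) = true := between_extend pointOk 22 15345 25092 9 (p1u1082) p1r1083

theorem p1r1084 : allRange pointOk 22 25101 9 = true := by decide +kernel
theorem p1u1084 : ∀ k, 15345 ≤ k → k < 25110 → pointOk (k * 22) = true := between_extend pointOk 22 15345 25101 9 (p1u1083) p1r1084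

theorem p1r1085 : allRange pointOk 22 25110 9 = true := by decide +kernel
theorem p1u1085 : ∀ k, 15345 ≤ k → k < 25119 → pointOk (k * 22) = true := between_extend pointOk 22 15345 25110 9 (p1u1084) p1r1085

theorem p1r1086 : allRange pointOk 22 25119 9 = true := by decide +kernel
theorem p1u1086 : ∀ k, 15345 ≤ k → k < 25128 → pointOk (k * 22) = true := between_extend pointOk 22 15345 25119 9 (p1u1085) p1r1086

theorem p1r1087 : allRange pointOk 22 25128 9 = true := by decide +kernel
theorem p1u1087 : ∀ k, 15345 ≤ k → k < 25137 → pointOk (k * 22) = true := between_extend pointOk 22 15345 25128 9 (p1u1086) p1r1087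

theorem p1r1088 : allRange pointOk 22 25137 9 = true := by decide +kernel
theorem p1u1088 : ∀ k, 15345 ≤ k → k < 25146 → pointOk (k * 22) = true := between_extend pointOk 22 15345 25137 9 (p1u1087) p1r1088

theorem p1r1089 : allRange pointOk 22 25146 9 = true := by decide +kernel
theorem p1u1089 : ∀ k, 15345 ≤ k → k < 25155 → pointOk (k * 22) = true := between_extend pointOk 22 15345 25146 9 (p1u1088) p1r1089

theorem p1r1090 : allRange pointOk 22 25155 9 = true := by decide +kernel
theorem p1u1090 : ∀ k, 15345 ≤ k → k < 25164 → pointOk (k * 22) = true := between_extend pointOk 22 15345 25155 9 (p1u1089) p1r1090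

theorem p1r1091 : allRange pointOk 22 25164 9 = true := by decide +kernel
theorem p1u1091 : ∀ k, 15345 ≤ k → k < 25173 → pointOk (k * 22) = true := between_extend pointOk 22 15345 25164 9 (p1u1090) p1r1091

theorem p1r1092 : allRange pointOk 22 25173 9 = true := by decide +kernel
theorem p1u1092 : ∀ k, 15345 ≤ k → k < 25182 → pointOk (k * 22) = true := between_extend pointOk 22 15345 25173 9 (p1u1091) p1r1092

theorem p1r1093 : allRange pointOk 22 25182 9 = true := by decide +kernel
theorem p1u1093 : ∀ k, 15345 ≤ k → k < 25191 → pointOk (k * 22) = true := between_extend pointOk 22 15345 25182 9 (p1u1092) p1r1093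

theorem p1r1094 : allRange pointOk 22 25191 9 = true := by decide +kernel
theorem p1u1094 : ∀ k, 15345 ≤ k → k < 25200 → pointOk (k * 22) = true := between_extend pointOk 22 15345 25191 9 (p1u1093) p1r1094

theorem p1r1095 : allRange pointOk 22 25200 9 = true := by decide +kernel
theorem p1u1095 : ∀ k, 15345 ≤ k → k < 25209 → pointOk (k * 22) = true := between_extend pointOk 22 15345 25200 9 (p1u1094) p1r1095

theorem p1r1096 : allRange pointOk 22 25209 9 = true := by decide +kernel
theorem p1u1096 : ∀ k, 15345 ≤ k → k < 25218 → pointOk (k * 22) = true := between_extend pointOk 22 15345 25209 9 (p1u1095) p1r1096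

theorem p1r1097 : allRange pointOk 22 25218 9 = true := by decide +kernel
theorem p1u1097 : ∀ k, 15345 ≤ k → k < 25227 → pointOk (k * 22) = true := between_extend pointOk 22 15345 25218 9 (p1u1096) p1r1097

theorem p1r1098 : allRange pointOk 22 25227 9 = true := by decide +kernel
theorem p1u1098 : ∀ k, 15345 ≤ k → k < 25236 → pointOk (k * 22) = true := between_extend pointOk 22 15345 25227 9 (p1u1097) p1r1098

theorem p1r1099 : allRange pointOk 22 25236 9 = true := by decide +kernel
theorem p1u1099 : ∀ k, 15345 ≤ k → k < 25245 → pointOk (k * 22) = true := between_extend pointOk 22 15345 25236 9 (p1u1098) p1r1099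

theorem p1r1100 : allRange pointOk 22 25245 9 = true := by decide +kernel
theorem p1u1100 : ∀ k, 15345 ≤ k → k < 25254 → pointOk (k * 22) = true := between_extend pointOk 22 15345 25245 9 (p1u1099) p1r1100

theorem p1r1101 : allRange pointOk 22 25254 9 = true := by decide +kernel
theorem p1u1101 : ∀ k, 15345 ≤ k → k < 25263 → pointOk (k * 22) = true := between_extend pointOk 22 15345 25254 9 (p1u1100) p1r1101

theorem p1r1102 : allRange pointOk 22 25263 9 = true := by decide +kernel
theorem p1u1102 : ∀ k, 15345 ≤ k → k < 25272 → pointOk (k * 22) = true := between_extend pointOk 22 15345 25263 9 (p1u1101) p1r1102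

theorem p1r1103 : allRange pointOk 22 25272 9 = true := by decide +kernel
theorem p1u1103 : ∀ k, 15345 ≤ k → k < 25281 → pointOk (k * 22) = true := between_extend pointOk 22 15345 25272 9 (p1u1102) p1r1103

theorem p1r1104 : allRange pointOk 22 25281 9 = true := by decide +kernel
theorem p1u1104 : ∀ k, 15345 ≤ k → k < 25290 → pointOk (k * 22) = true := between_extend pointOk 22 15345 25281 9 (p1u1103) p1r1104

theorem p1r1105 : allRange pointOk 22 25290 9 = true := by decide +kernel
theorem p1u1105 : ∀ k, 15345 ≤ k → k < 25299 → pointOk (k * 22) = true := between_extend pointOk 22 15345 25290 9 (p1u1104) p1r1105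

theorem p1r1106 : allRange pointOk 22 25299 9 = true := by decide +kernel
theorem p1u1106 : ∀ k, 15345 ≤ k → k < 25308 → pointOk (k * 22) = true := between_extend pointOk 22 15345 25299 9 (p1u1105) p1r1106

theorem p1r1107 : allRange pointOk 22 25308 9 = true := by decide +kernel
theorem p1u1107 : ∀ k, 15345 ≤ k → k < 25317 → pointOk (k * 22) = true := between_extend pointOk 22 15345 25308 9 (p1u1106) p1r1107

theorem p1r1108 : allRange pointOk 22 25317 9 = true := by decide +kernel
theorem p1u1108 : ∀ k, 15345 ≤ k → k < 25326 → pointOk (k * 22) = true := between_extend pointOk 22 15345 25317 9 (p1u1107) p1r1108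

theorem p1r1109 : allRange pointOk 22 25326 9 = true := by decide +kernel
theorem p1u1109 : ∀ k, 15345 ≤ k → k < 25335 → pointOk (k * 22) = true := between_extend pointOk 22 15345 25326 9 (p1u1108) p1r1109

theorem p1r1110 : allRange pointOk 22 25335 9 = true := by decide +kernel
theorem p1u1110 : ∀ k, 15345 ≤ k → k < 25344 → pointOk (k * 22) = true := between_extend pointOk 22 15345 25335 9 (p1u1109) p1r1110

theorem p1r1111 : allRange pointOk 22 25344 9 = true := by decide +kernel
theorem p1u1111 : ∀ k, 15345 ≤ k → k < 25353 → pointOk (k * 22) = true := between_extend pointOk 22 15345 25344 9 (p1u1110) p1r1111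

theorem p1r1112 : allRange pointOk 22 25353 9 = true := by decide +kernel
theorem p1u1112 : ∀ k, 15345 ≤ k → k < 25362 → pointOk (k * 22) = true := between_extend pointOk 22 15345 25353 9 (p1u1111) p1r1112

theorem p1r1113 : allRange pointOk 22 25362 9 = true := by decide +kernel
theorem p1u1113 : ∀ k, 15345 ≤ k → k < 25371 → pointOk (k * 22) = true := between_extend pointOk 22 15345 25362 9 (p1u1112) p1r1113

theorem p1r1114 : allRange pointOk 22 25371 9 = true := by decide +kernel
theorem p1u1114 : ∀ k, 15345 ≤ k → k < 25380 → pointOk (k * 22) = true := between_extend pointOk 22 15345 25371 9 (p1u1113) p1r1114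

theorem p1r1115 : allRange pointOk 22 25380 9 = true := by decide +kernel
theorem p1u1115 : ∀ k, 15345 ≤ k → k < 25389 → pointOk (k * 22) = true := between_extend pointOk 22 15345 25380 9 (p1u1114) p1r1115

theorem p1r1116 : allRange pointOk 22 25389 9 = true := by decide +kernel
theorem p1u1116 : ∀ k, 15345 ≤ k → k < 25398 → pointOk (k * 22) = true := between_extend pointOk 22 15345 25389 9 (p1u1115) p1r1116

theorem p1r1117 : allRange pointOk 22 25398 9 = true := by decide +kernel
theorem p1u1117 : ∀ k, 15345 ≤ k → k < 25407 → pointOk (k * 22) = true := between_extend pointOk 22 15345 25398 9 (p1u1116) p1r1117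

theorem p1r1118 : allRange pointOk 22 25407 9 = true := by decide +kernel
theorem p1u1118 : ∀ k, 15345 ≤ k → k < 25416 → pointOk (k * 22) = true := between_extend pointOk 22 15345 25407 9 (p1u1117) p1r1118

theorem p1r1119 : allRange pointOk 22 25416 9 = true := by decide +kernel
theorem p1u1119 : ∀ k, 15345 ≤ k → k < 25425 → pointOk (k * 22) = true := between_extend pointOk 22 15345 25416 9 (p1u1118) p1r1119

theorem p1r1120 : allRange pointOk 22 25425 9 = true := by decide +kernel
theorem p1u1120 : ∀ k, 15345 ≤ k → k < 25434 → pointOk (k * 22) = true := between_extend pointOk 22 15345 25425 9 (p1u1119) p1r1120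

theorem p1r1121 : allRange pointOk 22 25434 9 = true := by decide +kernel
theorem p1u1121 : ∀ k, 15345 ≤ k → k < 25443 → pointOk (k * 22) = true := between_extend pointOk 22 15345 25434 9 (p1u1120) p1r1121

theorem p1r1122 : allRange pointOk 22 25443 9 = true := by decide +kernel
theorem p1u1122 : ∀ k, 15345 ≤ k → k < 25452 → pointOk (k * 22) = true := between_extend pointOk 22 15345 25443 9 (p1u1121) p1r1122

theorem p1r1123 : allRange pointOk 22 25452 9 = true := by decide +kernel
theorem p1u1123 : ∀ k, 15345 ≤ k → k < 25461 → pointOk (k * 22) = true := between_extend pointOk 22 15345 25452 9 (p1u1122) p1r1123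

theorem p1r1124 : allRange pointOk 22 25461 9 = true := by decide +kernel
theorem p1u1124 : ∀ k, 15345 ≤ k → k < 25470 → pointOk (k * 22) = true := between_extend pointOk 22 15345 25461 9 (p1u1123) p1r1124

theorem p1r1125 : allRange pointOk 22 25470 9 = true := by decide +kernel
theorem p1u1125 : ∀ k, 15345 ≤ k → k < 25479 → pointOk (k * 22) = true := between_extend pointOk 22 15345 25470 9 (p1u1124) p1r1125

theorem p1r1126 : allRange pointOk 22 25479 9 = true := by decide +kernel
theorem p1u1126 : ∀ k, 15345 ≤ k → k < 25488 → pointOk (k * 22) = true := between_extend pointOk 22 15345 25479 9 (p1u1125) p1r1126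

theorem p1r1127 : allRange pointOk 22 25488 9 = true := by decide +kernel
theorem p1u1127 : ∀ k, 15345 ≤ k → k < 25497 → pointOk (k * 22) = true := between_extend pointOk 22 15345 25488 9 (p1u1126) p1r1127

theorem p1r1128 : allRange pointOk 22 25497 9 = true := by decide +kernel
theorem p1u1128 : ∀ k, 15345 ≤ k → k < 25506 → pointOk (k * 22) = true := between_extend pointOk 22 15345 25497 9 (p1u1127) p1r1128

theorem p1r1129 : allRange pointOk 22 25506 9 = true := by decide +kernel
theorem p1u1129 : ∀ k, 15345 ≤ k → k < 25515 → pointOk (k * 22) = true := between_extend pointOk 22 15345 25506 9 (p1u1128) p1r1129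

theorem p1r1130 : allRange pointOk 22 25515 9 = true := by decide +kernel
theorem p1u1130 : ∀ k, 15345 ≤ k → k < 25524 → pointOk (k * 22) = true := between_extend pointOk 22 15345 25515 9 (p1u1129) p1r1130

theorem p1r1131 : allRange pointOk 22 25524 9 = true := by decide +kernel
theorem p1u1131 : ∀ k, 15345 ≤ k → k < 25533 → pointOk (k * 22) = true := between_extend pointOk 22 15345 25524 9 (p1u1130) p1r1131

theorem p1r1132 : allRange pointOk 22 25533 9 = true := by decide +kernel
theorem p1u1132 : ∀ k, 15345 ≤ k → k < 25542 → pointOk (k * 22) = true := between_extend pointOk 22 15345 25533 9 (p1u1131) p1r1132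

theorem p1r1133 : allRange pointOk 22 25542 9 = true := by decide +kernel
theorem p1u1133 : ∀ k, 15345 ≤ k → k < 25551 → pointOk (k * 22) = true := between_extend pointOk 22 15345 25542 9 (p1u1132) p1r1133

theorem p1r1134 : allRange pointOk 22 25551 9 = true := by decide +kernel
theorem p1u1134 : ∀ k, 15345 ≤ k → k < 25560 → pointOk (k * 22) = true := between_extend pointOk 22 15345 25551 9 (p1u1133) p1r1134

theorem p1r1135 : allRange pointOk 22 25560 9 = true := by decide +kernel
theorem p1u1135 : ∀ k, 15345 ≤ k → k < 25569 → pointOk (k * 22) = true := between_extend pointOk 22 15345 25560 9 (p1u1134) p1r1135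

theorem p1r1136 : allRange pointOk 22 25569 9 = true := by decide +kernel
theorem p1u1136 : ∀ k, 15345 ≤ k → k < 25578 → pointOk (k * 22) = true := between_extend pointOk 22 15345 25569 9 (p1u1135) p1r1136

theorem p1r1137 : allRange pointOk 22 25578 9 = true := by decide +kernel
theorem p1u1137 : ∀ k, 15345 ≤ k → k < 25587 → pointOk (k * 22) = true := between_extend pointOk 22 15345 25578 9 (p1u1136) p1r1137

theorem p1r1138 : allRange pointOk 22 25587 9 = true := by decide +kernel
theorem p1u1138 : ∀ k, 15345 ≤ k → k < 25596 → pointOk (k * 22) = true := between_extend pointOk 22 15345 25587 9 (p1u1137) p1r1138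

theorem p1r1139 : allRange pointOk 22 25596 9 = true := by decide +kernel
theorem p1u1139 : ∀ k, 15345 ≤ k → k < 25605 → pointOk (k * 22) = true := between_extend pointOk 22 15345 25596 9 (p1u1138) p1r1139

theorem p1r1140 : allRange pointOk 22 25605 9 = true := by decide +kernel
theorem p1u1140 : ∀ k, 15345 ≤ k → k < 25614 → pointOk (k * 22) = true := between_extend pointOk 22 15345 25605 9 (p1u1139) p1r1140

theorem p1r1141 : allRange pointOk 22 25614 9 = true := by decide +kernel
theorem p1u1141 : ∀ k, 15345 ≤ k → k < 25623 → pointOk (k * 22) = true := between_extend pointOk 22 15345 25614 9 (p1u1140) p1r1141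

theorem p1r1142 : allRange pointOk 22 25623 9 = true := by decide +kernel
theorem p1u1142 : ∀ k, 15345 ≤ k → k < 25632 → pointOk (k * 22) = true := between_extend pointOk 22 15345 25623 9 (p1u1141) p1r1142

theorem p1r1143 : allRange pointOk 22 25632 9 = true := by decide +kernel
theorem p1u1143 : ∀ k, 15345 ≤ k → k < 25641 → pointOk (k * 22) = true := between_extend pointOk 22 15345 25632 9 (p1u1142) p1r1143

theorem p1r1144 : allRange pointOk 22 25641 9 = true := by decide +kernel
theorem p1u1144 : ∀ k, 15345 ≤ k → k < 25650 → pointOk (k * 22) = true := between_extend pointOk 22 15345 25641 9 (p1u1143) p1r1144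

theorem p1r1145 : allRange pointOk 22 25650 9 = true := by decide +kernel
theorem p1u1145 : ∀ k, 15345 ≤ k → k < 25659 → pointOk (k * 22) = true := between_extend pointOk 22 15345 25650 9 (p1u1144) p1r1145

theorem p1r1146 : allRange pointOk 22 25659 9 = true := by decide +kernel
theorem p1u1146 : ∀ k, 15345 ≤ k → k < 25668 → pointOk (k * 22) = true := between_extend pointOk 22 15345 25659 9 (p1u1145) p1r1146

theorem p1r1147 : allRange pointOk 22 25668 9 = true := by decide +kernel
theorem p1u1147 : ∀ k, 15345 ≤ k → k < 25677 → pointOk (k * 22) = true := between_extend pointOk 22 15345 25668 9 (p1u1146) p1r1147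

theorem p1r1148 : allRange pointOk 22 25677 9 = true := by decide +kernel
theorem p1u1148 : ∀ k, 15345 ≤ k → k < 25686 → pointOk (k * 22) = true := between_extend pointOk 22 15345 25677 9 (p1u1147) p1r1148

theorem p1r1149 : allRange pointOk 22 25686 9 = true := by decide +kernel
theorem p1u1149 : ∀ k, 15345 ≤ k → k < 25695 → pointOk (k * 22) = true := between_extend pointOk 22 15345 25686 9 (p1u1148) p1r1149

theorem p1r1150 : allRange pointOk 22 25695 9 = true := by decide +kernel
theorem p1u1150 : ∀ k, 15345 ≤ k → k < 25704 → pointOk (k * 22) = true := between_extend pointOk 22 15345 25695 9 (p1u1149) p1r1150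

theorem p1r1151 : allRange pointOk 22 25704 9 = true := by decide +kernel
theorem p1u1151 : ∀ k, 15345 ≤ k → k < 25713 → pointOk (k * 22) = true := between_extend pointOk 22 15345 25704 9 (p1u1150) p1r1151

theorem p1r1152 : allRange pointOk 22 25713 9 = true := by decide +kernel
theorem p1u1152 : ∀ k, 15345 ≤ k → k < 25722 → pointOk (k * 22) = true := between_extend pointOk 22 15345 25713 9 (p1u1151) p1r1152

theorem p1r1153 : allRange pointOk 22 25722 9 = true := by decide +kernel
theorem p1u1153 : ∀ k, 15345 ≤ k → k < 25731 → pointOk (k * 22) = true := between_extend pointOk 22 15345 25722 9 (p1u1152) p1r1153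

theorem p1r1154 : allRange pointOk 22 25731 9 = true := by decide +kernel
theorem p1u1154 : ∀ k, 15345 ≤ k → k < 25740 → pointOk (k * 22) = true := between_extend pointOk 22 15345 25731 9 (p1u1153) p1r1154

theorem p1r1155 : allRange pointOk 22 25740 9 = true := by decide +kernel
theorem p1u1155 : ∀ k, 15345 ≤ k → k < 25749 → pointOk (k * 22) = true := between_extend pointOk 22 15345 25740 9 (p1u1154) p1r1155

theorem p1r1156 : allRange pointOk 22 25749 9 = true := by decide +kernel
theorem p1u1156 : ∀ k, 15345 ≤ k → k < 25758 → pointOk (k * 22) = true := between_extend pointOk 22 15345 25749 9 (p1u1155) p1r1156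

theorem p1r1157 : allRange pointOk 22 25758 9 = true := by decide +kernel
theorem p1u1157 : ∀ k, 15345 ≤ k → k < 25767 → pointOk (k * 22) = true := between_extend pointOk 22 15345 25758 9 (p1u1156) p1r1157

theorem p1r1158 : allRange pointOk 22 25767 9 = true := by decide +kernel
theorem p1u1158 : ∀ k, 15345 ≤ k → k < 25776 → pointOk (k * 22) = true := between_extend pointOk 22 15345 25767 9 (p1u1157) p1r1158

theorem p1r1159 : allRange pointOk 22 25776 9 = true := by decide +kernel
theorem p1u1159 : ∀ k, 15345 ≤ k → k < 25785 → pointOk (k * 22) = true := between_extend pointOk 22 15345 25776 9 (p1u1158) p1r1159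

theorem p1r1160 : allRange pointOk 22 25785 9 = true := by decide +kernel
theorem p1u1160 : ∀ k, 15345 ≤ k → k < 25794 → pointOk (k * 22) = true := between_extend pointOk 22 15345 25785 9 (p1u1159) p1r1160

theorem p1r1161 : allRange pointOk 22 25794 9 = true := by decide +kernel
theorem p1u1161 : ∀ k, 15345 ≤ k → k < 25803 → pointOk (k * 22) = true := between_extend pointOk 22 15345 25794 9 (p1u1160) p1r1161

theorem p1r1162 : allRange pointOk 22 25803 9 = true := by decide +kernel
theorem p1u1162 : ∀ k, 15345 ≤ k → k < 25812 → pointOk (k * 22) = true := between_extend pointOk 22 15345 25803 9 (p1u1161) p1r1162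

theorem p1r1163 : allRange pointOk 22 25812 9 = true := by decide +kernel
theorem p1u1163 : ∀ k, 15345 ≤ k → k < 25821 → pointOk (k * 22) = true := between_extend pointOk 22 15345 25812 9 (p1u1162) p1r1163

theorem p1r1164 : allRange pointOk 22 25821 9 = true := by decide +kernel
theorem p1u1164 : ∀ k, 15345 ≤ k → k < 25830 → pointOk (k * 22) = true := between_extend pointOk 22 15345 25821 9 (p1u1163) p1r1164

theorem p1r1165 : allRange pointOk 22 25830 9 = true := by decide +kernel
theorem p1u1165 : ∀ k, 15345 ≤ k → k < 25839 → pointOk (k * 22) = true := between_extend pointOk 22 15345 25830 9 (p1u1164) p1r1165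

theorem p1r1166 : allRange pointOk 22 25839 9 = true := by decide +kernel
theorem p1u1166 : ∀ k, 15345 ≤ k → k < 25848 → pointOk (k * 22) = true := between_extend pointOk 22 15345 25839 9 (p1u1165) p1r1166

theorem p1r1167 : allRange pointOk 22 25848 9 = true := by decide +kernel
theorem p1u1167 : ∀ k, 15345 ≤ k → k < 25857 → pointOk (k * 22) = true := between_extend pointOk 22 15345 25848 9 (p1u1166) p1r1167

theorem p1r1168 : allRange pointOk 22 25857 9 = true := by decide +kernel
theorem p1u1168 : ∀ k, 15345 ≤ k → k < 25866 → pointOk (k * 22) = true := between_extend pointOk 22 15345 25857 9 (p1u1167) p1r1168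

theorem p1r1169 : allRange pointOk 22 25866 9 = true := by decide +kernel
theorem p1u1169 : ∀ k, 15345 ≤ k → k < 25875 → pointOk (k * 22) = true := between_extend pointOk 22 15345 25866 9 (p1u1168) p1r1169

theorem p1r1170 : allRange pointOk 22 25875 9 = true := by decide +kernel
theorem p1u1170 : ∀ k, 15345 ≤ k → k < 25884 → pointOk (k * 22) = true := between_extend pointOk 22 15345 25875 9 (p1u1169) p1r1170

theorem p1r1171 : allRange pointOk 22 25884 9 = true := by decide +kernel
theorem p1u1171 : ∀ k, 15345 ≤ k → k < 25893 → pointOk (k * 22) = true := between_extend pointOk 22 15345 25884 9 (p1u1170) p1r1171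

theorem p1r1172 : allRange pointOk 22 25893 9 = true := by decide +kernel
theorem p1u1172 : ∀ k, 15345 ≤ k → k < 25902 → pointOk (k * 22) = true := between_extend pointOk 22 15345 25893 9 (p1u1171) p1r1172

theorem p1r1173 : allRange pointOk 22 25902 9 = true := by decide +kernel
theorem p1u1173 : ∀ k, 15345 ≤ k → k < 25911 → pointOk (k * 22) = true := between_extend pointOk 22 15345 25902 9 (p1u1172) p1r1173

theorem p1r1174 : allRange pointOk 22 25911 9 = true := by decide +kernel
theorem p1u1174 : ∀ k, 15345 ≤ k → k < 25920 → pointOk (k * 22) = true := between_extend pointOk 22 15345 25911 9 (p1u1173) p1r1174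

theorem p1r1175 : allRange pointOk 22 25920 9 = true := by decide +kernel
theorem p1u1175 : ∀ k, 15345 ≤ k → k < 25929 → pointOk (k * 22) = true := between_extend pointOk 22 15345 25920 9 (p1u1174) p1r1175

theorem p1r1176 : allRange pointOk 22 25929 9 = true := by decide +kernel
theorem p1u1176 : ∀ k, 15345 ≤ k → k < 25938 → pointOk (k * 22) = true := between_extend pointOk 22 15345 25929 9 (p1u1175) p1r1176

theorem p1r1177 : allRange pointOk 22 25938 9 = true := by decide +kernel
theorem p1u1177 : ∀ k, 15345 ≤ k → k < 25947 → pointOk (k * 22) = true := between_extend pointOk 22 15345 25938 9 (p1u1176) p1r1177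

theorem p1r1178 : allRange pointOk 22 25947 9 = true := by decide +kernel
theorem p1u1178 : ∀ k, 15345 ≤ k → k < 25956 → pointOk (k * 22) = true := between_extend pointOk 22 15345 25947 9 (p1u1177) p1r1178

theorem p1r1179 : allRange pointOk 22 25956 9 = true := by decide +kernel
theorem p1u1179 : ∀ k, 15345 ≤ k → k < 25965 → pointOk (k * 22) = true := between_extend pointOk 22 15345 25956 9 (p1u1178) p1r1179

theorem p1r1180 : allRange pointOk 22 25965 9 = true := by decide +kernel
theorem p1u1180 : ∀ k, 15345 ≤ k → k < 25974 → pointOk (k * 22) = true := between_extend pointOk 22 15345 25965 9 (p1u1179) p1r1180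

theorem p1r1181 : allRange pointOk 22 25974 9 = true := by decide +kernel
theorem p1u1181 : ∀ k, 15345 ≤ k → k < 25983 → pointOk (k * 22) = true := between_extend pointOk 22 15345 25974 9 (p1u1180) p1r1181

theorem p1r1182 : allRange pointOk 22 25983 9 = true := by decide +kernel
theorem p1u1182 : ∀ k, 15345 ≤ k → k < 25992 → pointOk (k * 22) = true := between_extend pointOk 22 15345 25983 9 (p1u1181) p1r1182

theorem p1r1183 : allRange pointOk 22 25992 9 = true := by decide +kernel
theorem p1u1183 : ∀ k, 15345 ≤ k → k < 26001 → pointOk (k * 22) = true := between_extend pointOk 22 15345 25992 9 (p1u1182) p1r1183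

theorem p1r1184 : allRange pointOk 22 26001 9 = true := by decide +kernel
theorem p1u1184 : ∀ k, 15345 ≤ k → k < 26010 → pointOk (k * 22) = true := between_extend pointOk 22 15345 26001 9 (p1u1183) p1r1184

theorem p1r1185 : allRange pointOk 22 26010 9 = true := by decide +kernel
theorem p1u1185 : ∀ k, 15345 ≤ k → k < 26019 → pointOk (k * 22) = true := between_extend pointOk 22 15345 26010 9 (p1u1184) p1r1185

theorem p1r1186 : allRange pointOk 22 26019 9 = true := by decide +kernel
theorem p1u1186 : ∀ k, 15345 ≤ k → k < 26028 → pointOk (k * 22) = true := between_extend pointOk 22 15345 26019 9 (p1u1185) p1r1186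

theorem p1r1187 : allRange pointOk 22 26028 9 = true := by decide +kernel
theorem p1u1187 : ∀ k, 15345 ≤ k → k < 26037 → pointOk (k * 22) = true := between_extend pointOk 22 15345 26028 9 (p1u1186) p1r1187

theorem p1r1188 : allRange pointOk 22 26037 9 = true := by decide +kernel
theorem p1u1188 : ∀ k, 15345 ≤ k → k < 26046 → pointOk (k * 22) = true := between_extend pointOk 22 15345 26037 9 (p1u1187) p1r1188

theorem p1r1189 : allRange pointOk 22 26046 9 = true := by decide +kernel
theorem p1u1189 : ∀ k, 15345 ≤ k → k < 26055 → pointOk (k * 22) = true := between_extend pointOk 22 15345 26046 9 (p1u1188) p1r1189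

theorem p1r1190 : allRange pointOk 22 26055 9 = true := by decide +kernel
theorem p1u1190 : ∀ k, 15345 ≤ k → k < 26064 → pointOk (k * 22) = true := between_extend pointOk 22 15345 26055 9 (p1u1189) p1r1190

theorem p1r1191 : allRange pointOk 22 26064 9 = true := by decide +kernel
theorem p1u1191 : ∀ k, 15345 ≤ k → k < 26073 → pointOk (k * 22) = true := between_extend pointOk 22 15345 26064 9 (p1u1190) p1r1191

theorem p1r1192 : allRange pointOk 22 26073 9 = true := by decide +kernel
theorem p1u1192 : ∀ k, 15345 ≤ k → k < 26082 → pointOk (k * 22) = true := between_extend pointOk 22 15345 26073 9 (p1u1191) p1r1192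

theorem p1r1193 : allRange pointOk 22 26082 9 = true := by decide +kernel
theorem p1u1193 : ∀ k, 15345 ≤ k → k < 26091 → pointOk (k * 22) = true := between_extend pointOk 22 15345 26082 9 (p1u1192) p1r1193

theorem p1r1194 : allRange pointOk 22 26091 9 = true := by decide +kernel
theorem p1u1194 : ∀ k, 15345 ≤ k → k < 26100 → pointOk (k * 22) = true := between_extend pointOk 22 15345 26091 9 (p1u1193) p1r1194

theorem p1r1195 : allRange pointOk 22 26100 9 = true := by decide +kernel
theorem p1u1195 : ∀ k, 15345 ≤ k → k < 26109 → pointOk (k * 22) = true := between_extend pointOk 22 15345 26100 9 (p1u1194) p1r1195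

theorem p1r1196 : allRange pointOk 22 26109 9 = true := by decide +kernel
theorem p1u1196 : ∀ k, 15345 ≤ k → k < 26118 → pointOk (k * 22) = true := between_extend pointOk 22 15345 26109 9 (p1u1195) p1r1196

theorem p1r1197 : allRange pointOk 22 26118 9 = true := by decide +kernel
theorem p1u1197 : ∀ k, 15345 ≤ k → k < 26127 → pointOk (k * 22) = true := between_extend pointOk 22 15345 26118 9 (p1u1196) p1r1197

theorem p1r1198 : allRange pointOk 22 26127 9 = true := by decide +kernel
theorem p1u1198 : ∀ k, 15345 ≤ k → k < 26136 → pointOk (k * 22) = true := between_extend pointOk 22 15345 26127 9 (p1u1197) p1r1198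

theorem p1r1199 : allRange pointOk 22 26136 9 = true := by decide +kernel
theorem p1u1199 : ∀ k, 15345 ≤ k → k < 26145 → pointOk (k * 22) = true := between_extend pointOk 22 15345 26136 9 (p1u1198) p1r1199

theorem p1r1200 : allRange pointOk 22 26145 9 = true := by decide +kernel
theorem p1u1200 : ∀ k, 15345 ≤ k → k < 26154 → pointOk (k * 22) = true := between_extend pointOk 22 15345 26145 9 (p1u1199) p1r1200

theorem p1r1201 : allRange pointOk 22 26154 9 = true := by decide +kernel
theorem p1u1201 : ∀ k, 15345 ≤ k → k < 26163 → pointOk (k * 22) = true := between_extend pointOk 22 15345 26154 9 (p1u1200) p1r1201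

theorem p1r1202 : allRange pointOk 22 26163 9 = true := by decide +kernel
theorem p1u1202 : ∀ k, 15345 ≤ k → k < 26172 → pointOk (k * 22) = true := between_extend pointOk 22 15345 26163 9 (p1u1201) p1r1202

theorem p1r1203 : allRange pointOk 22 26172 9 = true := by decide +kernel
theorem p1u1203 : ∀ k, 15345 ≤ k → k < 26181 → pointOk (k * 22) = true := between_extend pointOk 22 15345 26172 9 (p1u1202) p1r1203

theorem p1r1204 : allRange pointOk 22 26181 9 = true := by decide +kernel
theorem p1u1204 : ∀ k, 15345 ≤ k → k < 26190 → pointOk (k * 22) = true := between_extend pointOk 22 15345 26181 9 (p1u1203) p1r1204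

theorem p1r1205 : allRange pointOk 22 26190 9 = true := by decide +kernel
theorem p1u1205 : ∀ k, 15345 ≤ k → k < 26199 → pointOk (k * 22) = true := between_extend pointOk 22 15345 26190 9 (p1u1204) p1r1205

theorem p1r1206 : allRange pointOk 22 26199 9 = true := by decide +kernel
theorem p1u1206 : ∀ k, 15345 ≤ k → k < 26208 → pointOk (k * 22) = true := between_extend pointOk 22 15345 26199 9 (p1u1205) p1r1206

theorem p1r1207 : allRange pointOk 22 26208 9 = true := by decide +kernel
theorem p1u1207 : ∀ k, 15345 ≤ k → k < 26217 → pointOk (k * 22) = true := between_extend pointOk 22 15345 26208 9 (p1u1206) p1r1207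

theorem p1r1208 : allRange pointOk 22 26217 9 = true := by decide +kernel
theorem p1u1208 : ∀ k, 15345 ≤ k → k < 26226 → pointOk (k * 22) = true := between_extend pointOk 22 15345 26217 9 (p1u1207) p1r1208

theorem p1r1209 : allRange pointOk 22 26226 9 = true := by decide +kernel
theorem p1u1209 : ∀ k, 15345 ≤ k → k < 26235 → pointOk (k * 22) = true := between_extend pointOk 22 15345 26226 9 (p1u1208) p1r1209

theorem p1r1210 : allRange pointOk 22 26235 9 = true := by decide +kernel
theorem p1u1210 : ∀ k, 15345 ≤ k → k < 26244 → pointOk (k * 22) = true := between_extend pointOk 22 15345 26235 9 (p1u1209) p1r1210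

theorem p1r1211 : allRange pointOk 22 26244 9 = true := by decide +kernel
theorem p1u1211 : ∀ k, 15345 ≤ k → k < 26253 → pointOk (k * 22) = true := between_extend pointOk 22 15345 26244 9 (p1u1210) p1r1211

theorem p1r1212 : allRange pointOk 22 26253 9 = true := by decide +kernel
theorem p1u1212 : ∀ k, 15345 ≤ k → k < 26262 → pointOk (k * 22) = true := between_extend pointOk 22 15345 26253 9 (p1u1211) p1r1212

theorem p1r1213 : allRange pointOk 22 26262 9 = true := by decide +kernel
theorem p1u1213 : ∀ k, 15345 ≤ k → k < 26271 → pointOk (k * 22) = true := between_extend pointOk 22 15345 26262 9 (p1u1212) p1r1213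

theorem p1r1214 : allRange pointOk 22 26271 9 = true := by decide +kernel
theorem p1u1214 : ∀ k, 15345 ≤ k → k < 26280 → pointOk (k * 22) = true := between_extend pointOk 22 15345 26271 9 (p1u1213) p1r1214

theorem p1r1215 : allRange pointOk 22 26280 9 = true := by decide +kernel
theorem p1u1215 : ∀ k, 15345 ≤ k → k < 26289 → pointOk (k * 22) = true := between_extend pointOk 22 15345 26280 9 (p1u1214) p1r1215

theorem p1r1216 : allRange pointOk 22 26289 9 = true := by decide +kernel
theorem p1u1216 : ∀ k, 15345 ≤ k → k < 26298 → pointOk (k * 22) = true := between_extend pointOk 22 15345 26289 9 (p1u1215) p1r1216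

theorem p1r1217 : allRange pointOk 22 26298 9 = true := by decide +kernel
theorem p1u1217 : ∀ k, 15345 ≤ k → k < 26307 → pointOk (k * 22) = true := between_extend pointOk 22 15345 26298 9 (p1u1216) p1r1217

theorem p1r1218 : allRange pointOk 22 26307 9 = true := by decide +kernel
theorem p1u1218 : ∀ k, 15345 ≤ k → k < 26316 → pointOk (k * 22) = true := between_extend pointOk 22 15345 26307 9 (p1u1217) p1r1218

theorem p1r1219 : allRange pointOk 22 26316 9 = true := by decide +kernel
theorem p1u1219 : ∀ k, 15345 ≤ k → k < 26325 → pointOk (k * 22) = true := between_extend pointOk 22 15345 26316 9 (p1u1218) p1r1219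

theorem p1r1220 : allRange pointOk 22 26325 9 = true := by decide +kernel
theorem p1u1220 : ∀ k, 15345 ≤ k → k < 26334 → pointOk (k * 22) = true := between_extend pointOk 22 15345 26325 9 (p1u1219) p1r1220

theorem p1r1221 : allRange pointOk 22 26334 9 = true := by decide +kernel
theorem p1u1221 : ∀ k, 15345 ≤ k → k < 26343 → pointOk (k * 22) = true := between_extend pointOk 22 15345 26334 9 (p1u1220) p1r1221

theorem p1r1222 : allRange pointOk 22 26343 9 = true := by decide +kernel
theorem p1u1222 : ∀ k, 15345 ≤ k → k < 26352 → pointOk (k * 22) = true := between_extend pointOk 22 15345 26343 9 (p1u1221) p1r1222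

theorem p1r1223 : allRange pointOk 22 26352 9 = true := by decide +kernel
theorem p1u1223 : ∀ k, 15345 ≤ k → k < 26361 → pointOk (k * 22) = true := between_extend pointOk 22 15345 26352 9 (p1u1222) p1r1223

theorem p1r1224 : allRange pointOk 22 26361 9 = true := by decide +kernel
theorem p1u1224 : ∀ k, 15345 ≤ k → k < 26370 → pointOk (k * 22) = true := between_extend pointOk 22 15345 26361 9 (p1u1223) p1r1224

theorem p1r1225 : allRange pointOk 22 26370 9 = true := by decide +kernel
theorem p1u1225 : ∀ k, 15345 ≤ k → k < 26379 → pointOk (k * 22) = true := between_extend pointOk 22 15345 26370 9 (p1u1224) p1r1225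

theorem p1r1226 : allRange pointOk 22 26379 9 = true := by decide +kernel
theorem p1u1226 : ∀ k, 15345 ≤ k → k < 26388 → pointOk (k * 22) = true := between_extend pointOk 22 15345 26379 9 (p1u1225) p1r1226

theorem p1r1227 : allRange pointOk 22 26388 9 = true := by decide +kernel
theorem p1u1227 : ∀ k, 15345 ≤ k → k < 26397 → pointOk (k * 22) = true := between_extend pointOk 22 15345 26388 9 (p1u1226) p1r1227

theorem p1r1228 : allRange pointOk 22 26397 9 = true := by decide +kernel
theorem p1u1228 : ∀ k, 15345 ≤ k → k < 26406 → pointOk (k * 22) = true := between_extend pointOk 22 15345 26397 9 (p1u1227) p1r1228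

theorem p1r1229 : allRange pointOk 22 26406 9 = true := by decide +kernel
theorem p1u1229 : ∀ k, 15345 ≤ k → k < 26415 → pointOk (k * 22) = true := between_extend pointOk 22 15345 26406 9 (p1u1228) p1r1229

theorem p1r1230 : allRange pointOk 22 26415 9 = true := by decide +kernel
theorem p1u1230 : ∀ k, 15345 ≤ k → k < 26424 → pointOk (k * 22) = true := between_extend pointOk 22 15345 26415 9 (p1u1229) p1r1230

theorem p1r1231 : allRange pointOk 22 26424 9 = true := by decide +kernel
theorem p1u1231 : ∀ k, 15345 ≤ k → k < 26433 → pointOk (k * 22) = true := between_extend pointOk 22 15345 26424 9 (p1u1230) p1r1231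

theorem p1r1232 : allRange pointOk 22 26433 9 = true := by decide +kernel
theorem p1u1232 : ∀ k, 15345 ≤ k → k < 26442 → pointOk (k * 22) = true := between_extend pointOk 22 15345 26433 9 (p1u1231) p1r1232

theorem p1r1233 : allRange pointOk 22 26442 9 = true := by decide +kernel
theorem p1u1233 : ∀ k, 15345 ≤ k → k < 26451 → pointOk (k * 22) = true := between_extend pointOk 22 15345 26442 9 (p1u1232) p1r1233

theorem p1r1234 : allRange pointOk 22 26451 9 = true := by decide +kernel
theorem p1u1234 : ∀ k, 15345 ≤ k → k < 26460 → pointOk (k * 22) = true := between_extend pointOk 22 15345 26451 9 (p1u1233) p1r1234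

theorem p1r1235 : allRange pointOk 22 26460 9 = true := by decide +kernel
theorem p1u1235 : ∀ k, 15345 ≤ k → k < 26469 → pointOk (k * 22) = true := between_extend pointOk 22 15345 26460 9 (p1u1234) p1r1235

theorem p1r1236 : allRange pointOk 22 26469 9 = true := by decide +kernel
theorem p1u1236 : ∀ k, 15345 ≤ k → k < 26478 → pointOk (k * 22) = true := between_extend pointOk 22 15345 26469 9 (p1u1235) p1r1236

theorem p1r1237 : allRange pointOk 22 26478 9 = true := by decide +kernel
theorem p1u1237 : ∀ k, 15345 ≤ k → k < 26487 → pointOk (k * 22) = true := between_extend pointOk 22 15345 26478 9 (p1u1236) p1r1237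

theorem p1r1238 : allRange pointOk 22 26487 9 = true := by decide +kernel
theorem p1u1238 : ∀ k, 15345 ≤ k → k < 26496 → pointOk (k * 22) = true := between_extend pointOk 22 15345 26487 9 (p1u1237) p1r1238

theorem p1r1239 : allRange pointOk 22 26496 9 = true := by decide +kernel
theorem p1u1239 : ∀ k, 15345 ≤ k → k < 26505 → pointOk (k * 22) = true := between_extend pointOk 22 15345 26496 9 (p1u1238) p1r1239

theorem p1r1240 : allRange pointOk 22 26505 9 = true := by decide +kernel
theorem p1u1240 : ∀ k, 15345 ≤ k → k < 26514 → pointOk (k * 22) = true := between_extend pointOk 22 15345 26505 9 (p1u1239) p1r1240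

theorem p1r1241 : allRange pointOk 22 26514 9 = true := by decide +kernel
theorem p1u1241 : ∀ k, 15345 ≤ k → k < 26523 → pointOk (k * 22) = true := between_extend pointOk 22 15345 26514 9 (p1u1240) p1r1241

theorem p1r1242 : allRange pointOk 22 26523 9 = true := by decide +kernel
theorem p1u1242 : ∀ k, 15345 ≤ k → k < 26532 → pointOk (k * 22) = true := between_extend pointOk 22 15345 26523 9 (p1u1241) p1r1242

theorem p1r1243 : allRange pointOk 22 26532 9 = true := by decide +kernel
theorem p1u1243 : ∀ k, 15345 ≤ k → k < 26541 → pointOk (k * 22) = true := between_extend pointOk 22 15345 26532 9 (p1u1242) p1r1243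

theorem p1r1244 : allRange pointOk 22 26541 9 = true := by decide +kernel
theorem p1u1244 : ∀ k, 15345 ≤ k → k < 26550 → pointOk (k * 22) = true := between_extend pointOk 22 15345 26541 9 (p1u1243) p1r1244

theorem p1r1245 : allRange pointOk 22 26550 9 = true := by decide +kernel
theorem p1u1245 : ∀ k, 15345 ≤ k → k < 26559 → pointOk (k * 22) = true := between_extend pointOk 22 15345 26550 9 (p1u1244) p1r1245

theorem p1r1246 : allRange pointOk 22 26559 9 = true := by decide +kernel
theorem p1u1246 : ∀ k, 15345 ≤ k → k < 26568 → pointOk (k * 22) = true := between_extend pointOk 22 15345 26559 9 (p1u1245) p1r1246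

theorem p1r1247 : allRange pointOk 22 26568 9 = true := by decide +kernel
theorem p1u1247 : ∀ k, 15345 ≤ k → k < 26577 → pointOk (k * 22) = true := between_extend pointOk 22 15345 26568 9 (p1u1246) p1r1247

theorem p1r1248 : allRange pointOk 22 26577 9 = true := by decide +kernel
theorem p1u1248 : ∀ k, 15345 ≤ k → k < 26586 → pointOk (k * 22) = true := between_extend pointOk 22 15345 26577 9 (p1u1247) p1r1248

theorem p1r1249 : allRange pointOk 22 26586 9 = true := by decide +kernel
theorem p1u1249 : ∀ k, 15345 ≤ k → k < 26595 → pointOk (k * 22) = true := between_extend pointOk 22 15345 26586 9 (p1u1248) p1r1249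

theorem p1r1250 : allRange pointOk 22 26595 9 = true := by decide +kernel
theorem p1u1250 : ∀ k, 15345 ≤ k → k < 26604 → pointOk (k * 22) = true := between_extend pointOk 22 15345 26595 9 (p1u1249) p1r1250

theorem p1r1251 : allRange pointOk 22 26604 9 = true := by decide +kernel
theorem p1u1251 : ∀ k, 15345 ≤ k → k < 26613 → pointOk (k * 22) = true := between_extend pointOk 22 15345 26604 9 (p1u1250) p1r1251

theorem p1r1252 : allRange pointOk 22 26613 9 = true := by decide +kernel
theorem p1u1252 : ∀ k, 15345 ≤ k → k < 26622 → pointOk (k * 22) = true := between_extend pointOk 22 15345 26613 9 (p1u1251) p1r1252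

theorem p1r1253 : allRange pointOk 22 26622 9 = true := by decide +kernel
theorem p1u1253 : ∀ k, 15345 ≤ k → k < 26631 → pointOk (k * 22) = true := between_extend pointOk 22 15345 26622 9 (p1u1252) p1r1253

theorem p1r1254 : allRange pointOk 22 26631 9 = true := by decide +kernel
theorem p1u1254 : ∀ k, 15345 ≤ k → k < 26640 → pointOk (k * 22) = true := between_extend pointOk 22 15345 26631 9 (p1u1253) p1r1254

theorem p1r1255 : allRange pointOk 22 26640 9 = true := by decide +kernel
theorem p1u1255 : ∀ k, 15345 ≤ k → k < 26649 → pointOk (k * 22) = true := between_extend pointOk 22 15345 26640 9 (p1u1254) p1r1255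

theorem p1r1256 : allRange pointOk 22 26649 9 = true := by decide +kernel
theorem p1u1256 : ∀ k, 15345 ≤ k → k < 26658 → pointOk (k * 22) = true := between_extend pointOk 22 15345 26649 9 (p1u1255) p1r1256

theorem p1r1257 : allRange pointOk 22 26658 9 = true := by decide +kernel
theorem p1u1257 : ∀ k, 15345 ≤ k → k < 26667 → pointOk (k * 22) = true := between_extend pointOk 22 15345 26658 9 (p1u1256) p1r1257

theorem p1r1258 : allRange pointOk 22 26667 9 = true := by decide +kernel
theorem p1u1258 : ∀ k, 15345 ≤ k → k < 26676 → pointOk (k * 22) = true := between_extend pointOk 22 15345 26667 9 (p1u1257) p1r1258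

theorem p1r1259 : allRange pointOk 22 26676 9 = true := by decide +kernel
theorem p1u1259 : ∀ k, 15345 ≤ k → k < 26685 → pointOk (k * 22) = true := between_extend pointOk 22 15345 26676 9 (p1u1258) p1r1259

theorem p1r1260 : allRange pointOk 22 26685 9 = true := by decide +kernel
theorem p1u1260 : ∀ k, 15345 ≤ k → k < 26694 → pointOk (k * 22) = true := between_extend pointOk 22 15345 26685 9 (p1u1259) p1r1260

theorem p1r1261 : allRange pointOk 22 26694 9 = true := by decide +kernel
theorem p1u1261 : ∀ k, 15345 ≤ k → k < 26703 → pointOk (k * 22) = true := between_extend pointOk 22 15345 26694 9 (p1u1260) p1r1261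

theorem p1r1262 : allRange pointOk 22 26703 9 = true := by decide +kernel
theorem p1u1262 : ∀ k, 15345 ≤ k → k < 26712 → pointOk (k * 22) = true := between_extend pointOk 22 15345 26703 9 (p1u1261) p1r1262

theorem p1r1263 : allRange pointOk 22 26712 9 = true := by decide +kernel
theorem p1u1263 : ∀ k, 15345 ≤ k → k < 26721 → pointOk (k * 22) = true := between_extend pointOk 22 15345 26712 9 (p1u1262) p1r1263

theorem p1r1264 : allRange pointOk 22 26721 9 = true := by decide +kernel
theorem p1u1264 : ∀ k, 15345 ≤ k → k < 26730 → pointOk (k * 22) = true := between_extend pointOk 22 15345 26721 9 (p1u1263) p1r1264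

theorem p1r1265 : allRange pointOk 22 26730 9 = true := by decide +kernel
theorem p1u1265 : ∀ k, 15345 ≤ k → k < 26739 → pointOk (k * 22) = true := between_extend pointOk 22 15345 26730 9 (p1u1264) p1r1265

theorem p1r1266 : allRange pointOk 22 26739 9 = true := by decide +kernel
theorem p1u1266 : ∀ k, 15345 ≤ k → k < 26748 → pointOk (k * 22) = true := between_extend pointOk 22 15345 26739 9 (p1u1265) p1r1266

theorem p1r1267 : allRange pointOk 22 26748 9 = true := by decide +kernel
theorem p1u1267 : ∀ k, 15345 ≤ k → k < 26757 → pointOk (k * 22) = true := between_extend pointOk 22 15345 26748 9 (p1u1266) p1r1267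

theorem p1r1268 : allRange pointOk 22 26757 9 = true := by decide +kernel
theorem p1u1268 : ∀ k, 15345 ≤ k → k < 26766 → pointOk (k * 22) = true := between_extend pointOk 22 15345 26757 9 (p1u1267) p1r1268

theorem p1r1269 : allRange pointOk 22 26766 9 = true := by decide +kernel
theorem p1u1269 : ∀ k, 15345 ≤ k → k < 26775 → pointOk (k * 22) = true := between_extend pointOk 22 15345 26766 9 (p1u1268) p1r1269

theorem p1r1270 : allRange pointOk 22 26775 9 = true := by decide +kernel
theorem p1u1270 : ∀ k, 15345 ≤ k → k < 26784 → pointOk (k * 22) = true := between_extend pointOk 22 15345 26775 9 (p1u1269) p1r1270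

theorem p1r1271 : allRange pointOk 22 26784 9 = true := by decide +kernel
theorem p1u1271 : ∀ k, 15345 ≤ k → k < 26793 → pointOk (k * 22) = true := between_extend pointOk 22 15345 26784 9 (p1u1270) p1r1271

theorem p1r1272 : allRange pointOk 22 26793 9 = true := by decide +kernel
theorem p1u1272 : ∀ k, 15345 ≤ k → k < 26802 → pointOk (k * 22) = true := between_extend pointOk 22 15345 26793 9 (p1u1271) p1r1272

theorem p1r1273 : allRange pointOk 22 26802 9 = true := by decide +kernel
theorem p1u1273 : ∀ k, 15345 ≤ k → k < 26811 → pointOk (k * 22) = true := between_extend pointOk 22 15345 26802 9 (p1u1272) p1r1273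

theorem p1r1274 : allRange pointOk 22 26811 9 = true := by decide +kernel
theorem p1u1274 : ∀ k, 15345 ≤ k → k < 26820 → pointOk (k * 22) = true := between_extend pointOk 22 15345 26811 9 (p1u1273) p1r1274

theorem p1r1275 : allRange pointOk 22 26820 9 = true := by decide +kernel
theorem p1u1275 : ∀ k, 15345 ≤ k → k < 26829 → pointOk (k * 22) = true := between_extend pointOk 22 15345 26820 9 (p1u1274) p1r1275

theorem p1r1276 : allRange pointOk 22 26829 9 = true := by decide +kernel
theorem p1u1276 : ∀ k, 15345 ≤ k → k < 26838 → pointOk (k * 22) = true := between_extend pointOk 22 15345 26829 9 (p1u1275) p1r1276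

theorem p1r1277 : allRange pointOk 22 26838 9 = true := by decide +kernel
theorem p1u1277 : ∀ k, 15345 ≤ k → k < 26847 → pointOk (k * 22) = true := between_extend pointOk 22 15345 26838 9 (p1u1276) p1r1277

theorem p1r1278 : allRange pointOk 22 26847 9 = true := by decide +kernel
theorem p1u1278 : ∀ k, 15345 ≤ k → k < 26856 → pointOk (k * 22) = true := between_extend pointOk 22 15345 26847 9 (p1u1277) p1r1278

theorem p1r1279 : allRange pointOk 22 26856 9 = true := by decide +kernel
theorem p1u1279 : ∀ k, 15345 ≤ k → k < 26865 → pointOk (k * 22) = true := between_extend pointOk 22 15345 26856 9 (p1u1278) p1r1279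

theorem p1r1280 : allRange pointOk 22 26865 9 = true := by decide +kernel
theorem p1u1280 : ∀ k, 15345 ≤ k → k < 26874 → pointOk (k * 22) = true := between_extend pointOk 22 15345 26865 9 (p1u1279) p1r1280

theorem p1r1281 : allRange pointOk 22 26874 9 = true := by decide +kernel
theorem p1u1281 : ∀ k, 15345 ≤ k → k < 26883 → pointOk (k * 22) = true := between_extend pointOk 22 15345 26874 9 (p1u1280) p1r1281

theorem p1r1282 : allRange pointOk 22 26883 9 = true := by decide +kernel
theorem p1u1282 : ∀ k, 15345 ≤ k → k < 26892 → pointOk (k * 22) = true := between_extend pointOk 22 15345 26883 9 (p1u1281) p1r1282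

theorem p1r1283 : allRange pointOk 22 26892 9 = true := by decide +kernel
theorem p1u1283 : ∀ k, 15345 ≤ k → k < 26901 → pointOk (k * 22) = true := between_extend pointOk 22 15345 26892 9 (p1u1282) p1r1283

theorem p1r1284 : allRange pointOk 22 26901 9 = true := by decide +kernel
theorem p1u1284 : ∀ k, 15345 ≤ k → k < 26910 → pointOk (k * 22) = true := between_extend pointOk 22 15345 26901 9 (p1u1283) p1r1284

theorem p1r1285 : allRange pointOk 22 26910 9 = true := by decide +kernel
theorem p1u1285 : ∀ k, 15345 ≤ k → k < 26919 → pointOk (k * 22) = true := between_extend pointOk 22 15345 26910 9 (p1u1284) p1r1285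

theorem p1r1286 : allRange pointOk 22 26919 9 = true := by decide +kernel
theorem p1u1286 : ∀ k, 15345 ≤ k → k < 26928 → pointOk (k * 22) = true := between_extend pointOk 22 15345 26919 9 (p1u1285) p1r1286

theorem p1r1287 : allRange pointOk 22 26928 9 = true := by decide +kernel
theorem p1u1287 : ∀ k, 15345 ≤ k → k < 26937 → pointOk (k * 22) = true := between_extend pointOk 22 15345 26928 9 (p1u1286) p1r1287

theorem p1r1288 : allRange pointOk 22 26937 9 = true := by decide +kernel
theorem p1u1288 : ∀ k, 15345 ≤ k → k < 26946 → pointOk (k * 22) = true := between_extend pointOk 22 15345 26937 9 (p1u1287) p1r1288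

theorem p1r1289 : allRange pointOk 22 26946 9 = true := by decide +kernel
theorem p1u1289 : ∀ k, 15345 ≤ k → k < 26955 → pointOk (k * 22) = true := between_extend pointOk 22 15345 26946 9 (p1u1288) p1r1289

theorem p1r1290 : allRange pointOk 22 26955 9 = true := by decide +kernel
theorem p1u1290 : ∀ k, 15345 ≤ k → k < 26964 → pointOk (k * 22) = true := between_extend pointOk 22 15345 26955 9 (p1u1289) p1r1290

theorem p1r1291 : allRange pointOk 22 26964 9 = true := by decide +kernel
theorem p1u1291 : ∀ k, 15345 ≤ k → k < 26973 → pointOk (k * 22) = true := between_extend pointOk 22 15345 26964 9 (p1u1290) p1r1291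

theorem p1r1292 : allRange pointOk 22 26973 9 = true := by decide +kernel
theorem p1u1292 : ∀ k, 15345 ≤ k → k < 26982 → pointOk (k * 22) = true := between_extend pointOk 22 15345 26973 9 (p1u1291) p1r1292

theorem p1r1293 : allRange pointOk 22 26982 9 = true := by decide +kernel
theorem p1u1293 : ∀ k, 15345 ≤ k → k < 26991 → pointOk (k * 22) = true := between_extend pointOk 22 15345 26982 9 (p1u1292) p1r1293

theorem p1r1294 : allRange pointOk 22 26991 9 = true := by decide +kernel
theorem p1u1294 : ∀ k, 15345 ≤ k → k < 27000 → pointOk (k * 22) = true := between_extend pointOk 22 15345 26991 9 (p1u1293) p1r1294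

theorem p1r1295 : allRange pointOk 22 27000 9 = true := by decide +kernel
theorem p1u1295 : ∀ k, 15345 ≤ k → k < 27009 → pointOk (k * 22) = true := between_extend pointOk 22 15345 27000 9 (p1u1294) p1r1295

theorem p1r1296 : allRange pointOk 22 27009 9 = true := by decide +kernel
theorem p1u1296 : ∀ k, 15345 ≤ k → k < 27018 → pointOk (k * 22) = true := between_extend pointOk 22 15345 27009 9 (p1u1295) p1r1296

theorem p1r1297 : allRange pointOk 22 27018 9 = true := by decide +kernel
theorem p1u1297 : ∀ k, 15345 ≤ k → k < 27027 → pointOk (k * 22) = true := between_extend pointOk 22 15345 27018 9 (p1u1296) p1r1297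

theorem p1r1298 : allRange pointOk 22 27027 9 = true := by decide +kernel
theorem p1u1298 : ∀ k, 15345 ≤ k → k < 27036 → pointOk (k * 22) = true := between_extend pointOk 22 15345 27027 9 (p1u1297) p1r1298

theorem p1r1299 : allRange pointOk 22 27036 9 = true := by decide +kernel
theorem p1u1299 : ∀ k, 15345 ≤ k → k < 27045 → pointOk (k * 22) = true := between_extend pointOk 22 15345 27036 9 (p1u1298) p1r1299

theorem p1r1300 : allRange pointOk 22 27045 9 = true := by decide +kernel
theorem p1u1300 : ∀ k, 15345 ≤ k → k < 27054 → pointOk (k * 22) = true := between_extend pointOk 22 15345 27045 9 (p1u1299) p1r1300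

theorem p1r1301 : allRange pointOk 22 27054 9 = true := by decide +kernel
theorem p1u1301 : ∀ k, 15345 ≤ k → k < 27063 → pointOk (k * 22) = true := between_extend pointOk 22 15345 27054 9 (p1u1300) p1r1301

theorem p1r1302 : allRange pointOk 22 27063 9 = true := by decide +kernel
theorem p1u1302 : ∀ k, 15345 ≤ k → k < 27072 → pointOk (k * 22) = true := between_extend pointOk 22 15345 27063 9 (p1u1301) p1r1302

theorem p1r1303 : allRange pointOk 22 27072 9 = true := by decide +kernel
theorem p1u1303 : ∀ k, 15345 ≤ k → k < 27081 → pointOk (k * 22) = true := between_extend pointOk 22 15345 27072 9 (p1u1302) p1r1303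

theorem p1r1304 : allRange pointOk 22 27081 9 = true := by decide +kernel
theorem p1u1304 : ∀ k, 15345 ≤ k → k < 27090 → pointOk (k * 22) = true := between_extend pointOk 22 15345 27081 9 (p1u1303) p1r1304

theorem p1r1305 : allRange pointOk 22 27090 9 = true := by decide +kernel
theorem p1u1305 : ∀ k, 15345 ≤ k → k < 27099 → pointOk (k * 22) = true := between_extend pointOk 22 15345 27090 9 (p1u1304) p1r1305

theorem p1r1306 : allRange pointOk 22 27099 9 = true := by decide +kernel
theorem p1u1306 : ∀ k, 15345 ≤ k → k < 27108 → pointOk (k * 22) = true := between_extend pointOk 22 15345 27099 9 (p1u1305) p1r1306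

theorem p1r1307 : allRange pointOk 22 27108 9 = true := by decide +kernel
theorem p1u1307 : ∀ k, 15345 ≤ k → k < 27117 → pointOk (k * 22) = true := between_extend pointOk 22 15345 27108 9 (p1u1306) p1r1307

theorem p1r1308 : allRange pointOk 22 27117 9 = true := by decide +kernel
theorem p1u1308 : ∀ k, 15345 ≤ k → k < 27126 → pointOk (k * 22) = true := between_extend pointOk 22 15345 27117 9 (p1u1307) p1r1308

theorem p1r1309 : allRange pointOk 22 27126 9 = true := by decide +kernel
theorem p1u1309 : ∀ k, 15345 ≤ k → k < 27135 → pointOk (k * 22) = true := between_extend pointOk 22 15345 27126 9 (p1u1308) p1r1309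

theorem p1r1310 : allRange pointOk 22 27135 9 = true := by decide +kernel
theorem p1u1310 : ∀ k, 15345 ≤ k → k < 27144 → pointOk (k * 22) = true := between_extend pointOk 22 15345 27135 9 (p1u1309) p1r1310

theorem p1r1311 : allRange pointOk 22 27144 9 = true := by decide +kernel
theorem p1u1311 : ∀ k, 15345 ≤ k → k < 27153 → pointOk (k * 22) = true := between_extend pointOk 22 15345 27144 9 (p1u1310) p1r1311

theorem p1r1312 : allRange pointOk 22 27153 9 = true := by decide +kernel
theorem p1u1312 : ∀ k, 15345 ≤ k → k < 27162 → pointOk (k * 22) = true := between_extend pointOk 22 15345 27153 9 (p1u1311) p1r1312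

theorem p1r1313 : allRange pointOk 22 27162 9 = true := by decide +kernel
theorem p1u1313 : ∀ k, 15345 ≤ k → k < 27171 → pointOk (k * 22) = true := between_extend pointOk 22 15345 27162 9 (p1u1312) p1r1313

theorem p1r1314 : allRange pointOk 22 27171 9 = true := by decide +kernel
theorem p1u1314 : ∀ k, 15345 ≤ k → k < 27180 → pointOk (k * 22) = true := between_extend pointOk 22 15345 27171 9 (p1u1313) p1r1314

theorem p1r1315 : allRange pointOk 22 27180 9 = true := by decide +kernel
theorem p1u1315 : ∀ k, 15345 ≤ k → k < 27189 → pointOk (k * 22) = true := between_extend pointOk 22 15345 27180 9 (p1u1314) p1r1315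

theorem p1r1316 : allRange pointOk 22 27189 9 = true := by decide +kernel
theorem p1u1316 : ∀ k, 15345 ≤ k → k < 27198 → pointOk (k * 22) = true := between_extend pointOk 22 15345 27189 9 (p1u1315) p1r1316

theorem p1r1317 : allRange pointOk 22 27198 9 = true := by decide +kernel
theorem p1u1317 : ∀ k, 15345 ≤ k → k < 27207 → pointOk (k * 22) = true := between_extend pointOk 22 15345 27198 9 (p1u1316) p1r1317

theorem p1r1318 : allRange pointOk 22 27207 9 = true := by decide +kernel
theorem p1u1318 : ∀ k, 15345 ≤ k → k < 27216 → pointOk (k * 22) = true := between_extend pointOk 22 15345 27207 9 (p1u1317) p1r1318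

theorem p1r1319 : allRange pointOk 22 27216 9 = true := by decide +kernel
theorem p1u1319 : ∀ k, 15345 ≤ k → k < 27225 → pointOk (k * 22) = true := between_extend pointOk 22 15345 27216 9 (p1u1318) p1r1319

theorem p1r1320 : allRange pointOk 22 27225 9 = true := by decide +kernel
theorem p1u1320 : ∀ k, 15345 ≤ k → k < 27234 → pointOk (k * 22) = true := between_extend pointOk 22 15345 27225 9 (p1u1319) p1r1320

theorem p1r1321 : allRange pointOk 22 27234 9 = true := by decide +kernel
theorem p1u1321 : ∀ k, 15345 ≤ k → k < 27243 → pointOk (k * 22) = true := between_extend pointOk 22 15345 27234 9 (p1u1320) p1r1321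

theorem p1r1322 : allRange pointOk 22 27243 9 = true := by decide +kernel
theorem p1u1322 : ∀ k, 15345 ≤ k → k < 27252 → pointOk (k * 22) = true := between_extend pointOk 22 15345 27243 9 (p1u1321) p1r1322

theorem p1r1323 : allRange pointOk 22 27252 9 = true := by decide +kernel
theorem p1u1323 : ∀ k, 15345 ≤ k → k < 27261 → pointOk (k * 22) = true := between_extend pointOk 22 15345 27252 9 (p1u1322) p1r1323

theorem p1r1324 : allRange pointOk 22 27261 9 = true := by decide +kernel
theorem p1u1324 : ∀ k, 15345 ≤ k → k < 27270 → pointOk (k * 22) = true := between_extend pointOk 22 15345 27261 9 (p1u1323) p1r1324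

theorem p1r1325 : allRange pointOk 22 27270 9 = true := by decide +kernel
theorem p1u1325 : ∀ k, 15345 ≤ k → k < 27279 → pointOk (k * 22) = true := between_extend pointOk 22 15345 27270 9 (p1u1324) p1r1325

theorem p1r1326 : allRange pointOk 22 27279 9 = true := by decide +kernel
theorem p1u1326 : ∀ k, 15345 ≤ k → k < 27288 → pointOk (k * 22) = true := between_extend pointOk 22 15345 27279 9 (p1u1325) p1r1326

theorem p1r1327 : allRange pointOk 22 27288 9 = true := by decide +kernel
theorem p1u1327 : ∀ k, 15345 ≤ k → k < 27297 → pointOk (k * 22) = true := between_extend pointOk 22 15345 27288 9 (p1u1326) p1r1327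

theorem p1r1328 : allRange pointOk 22 27297 9 = true := by decide +kernel
theorem p1u1328 : ∀ k, 15345 ≤ k → k < 27306 → pointOk (k * 22) = true := between_extend pointOk 22 15345 27297 9 (p1u1327) p1r1328

theorem p1r1329 : allRange pointOk 22 27306 9 = true := by decide +kernel
theorem p1u1329 : ∀ k, 15345 ≤ k → k < 27315 → pointOk (k * 22) = true := between_extend pointOk 22 15345 27306 9 (p1u1328) p1r1329

theorem p1r1330 : allRange pointOk 22 27315 9 = true := by decide +kernel
theorem p1u1330 : ∀ k, 15345 ≤ k → k < 27324 → pointOk (k * 22) = true := between_extend pointOk 22 15345 27315 9 (p1u1329) p1r1330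

theorem p1r1331 : allRange pointOk 22 27324 9 = true := by decide +kernel
theorem p1u1331 : ∀ k, 15345 ≤ k → k < 27333 → pointOk (k * 22) = true := between_extend pointOk 22 15345 27324 9 (p1u1330) p1r1331

theorem p1r1332 : allRange pointOk 22 27333 9 = true := by decide +kernel
theorem p1u1332 : ∀ k, 15345 ≤ k → k < 27342 → pointOk (k * 22) = true := between_extend pointOk 22 15345 27333 9 (p1u1331) p1r1332

theorem p1r1333 : allRange pointOk 22 27342 9 = true := by decide +kernel
theorem p1u1333 : ∀ k, 15345 ≤ k → k < 27351 → pointOk (k * 22) = true := between_extend pointOk 22 15345 27342 9 (p1u1332) p1r1333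

theorem p1r1334 : allRange pointOk 22 27351 9 = true := by decide +kernel
theorem p1u1334 : ∀ k, 15345 ≤ k → k < 27360 → pointOk (k * 22) = true := between_extend pointOk 22 15345 27351 9 (p1u1333) p1r1334

theorem p1r1335 : allRange pointOk 22 27360 9 = true := by decide +kernel
theorem p1u1335 : ∀ k, 15345 ≤ k → k < 27369 → pointOk (k * 22) = true := between_extend pointOk 22 15345 27360 9 (p1u1334) p1r1335

theorem p1r1336 : allRange pointOk 22 27369 9 = true := by decide +kernel
theorem p1u1336 : ∀ k, 15345 ≤ k → k < 27378 → pointOk (k * 22) = true := between_extend pointOk 22 15345 27369 9 (p1u1335) p1r1336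

theorem p1r1337 : allRange pointOk 22 27378 9 = true := by decide +kernel
theorem p1u1337 : ∀ k, 15345 ≤ k → k < 27387 → pointOk (k * 22) = true := between_extend pointOk 22 15345 27378 9 (p1u1336) p1r1337

theorem p1r1338 : allRange pointOk 22 27387 9 = true := by decide +kernel
theorem p1u1338 : ∀ k, 15345 ≤ k → k < 27396 → pointOk (k * 22) = true := between_extend pointOk 22 15345 27387 9 (p1u1337) p1r1338

theorem p1r1339 : allRange pointOk 22 27396 9 = true := by decide +kernel
theorem p1u1339 : ∀ k, 15345 ≤ k → k < 27405 → pointOk (k * 22) = true := between_extend pointOk 22 15345 27396 9 (p1u1338) p1r1339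

theorem p1r1340 : allRange pointOk 22 27405 9 = true := by decide +kernel
theorem p1u1340 : ∀ k, 15345 ≤ k → k < 27414 → pointOk (k * 22) = true := between_extend pointOk 22 15345 27405 9 (p1u1339) p1r1340

theorem p1r1341 : allRange pointOk 22 27414 9 = true := by decide +kernel
theorem p1u1341 : ∀ k, 15345 ≤ k → k < 27423 → pointOk (k * 22) = true := between_extend pointOk 22 15345 27414 9 (p1u1340) p1r1341

theorem p1r1342 : allRange pointOk 22 27423 9 = true := by decide +kernel
theorem p1u1342 : ∀ k, 15345 ≤ k → k < 27432 → pointOk (k * 22) = true := between_extend pointOk 22 15345 27423 9 (p1u1341) p1r1342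

theorem p1r1343 : allRange pointOk 22 27432 9 = true := by decide +kernel
theorem p1u1343 : ∀ k, 15345 ≤ k → k < 27441 → pointOk (k * 22) = true := between_extend pointOk 22 15345 27432 9 (p1u1342) p1r1343

theorem p1r1344 : allRange pointOk 22 27441 9 = true := by decide +kernel
theorem p1u1344 : ∀ k, 15345 ≤ k → k < 27450 → pointOk (k * 22) = true := between_extend pointOk 22 15345 27441 9 (p1u1343) p1r1344

theorem p1r1345 : allRange pointOk 22 27450 9 = true := by decide +kernel
theorem p1u1345 : ∀ k, 15345 ≤ k → k < 27459 → pointOk (k * 22) = true := between_extend pointOk 22 15345 27450 9 (p1u1344) p1r1345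

theorem p1r1346 : allRange pointOk 22 27459 9 = true := by decide +kernel
theorem p1u1346 : ∀ k, 15345 ≤ k → k < 27468 → pointOk (k * 22) = true := between_extend pointOk 22 15345 27459 9 (p1u1345) p1r1346

theorem p1r1347 : allRange pointOk 22 27468 9 = true := by decide +kernel
theorem p1u1347 : ∀ k, 15345 ≤ k → k < 27477 → pointOk (k * 22) = true := between_extend pointOk 22 15345 27468 9 (p1u1346) p1r1347

theorem p1r1348 : allRange pointOk 22 27477 9 = true := by decide +kernel
theorem p1u1348 : ∀ k, 15345 ≤ k → k < 27486 → pointOk (k * 22) = true := between_extend pointOk 22 15345 27477 9 (p1u1347) p1r1348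

theorem p1r1349 : allRange pointOk 22 27486 9 = true := by decide +kernel
theorem p1u1349 : ∀ k, 15345 ≤ k → k < 27495 → pointOk (k * 22) = true := between_extend pointOk 22 15345 27486 9 (p1u1348) p1r1349

theorem p1r1350 : allRange pointOk 22 27495 9 = true := by decide +kernel
theorem p1u1350 : ∀ k, 15345 ≤ k → k < 27504 → pointOk (k * 22) = true := between_extend pointOk 22 15345 27495 9 (p1u1349) p1r1350

theorem p1r1351 : allRange pointOk 22 27504 9 = true := by decide +kernel
theorem p1u1351 : ∀ k, 15345 ≤ k → k < 27513 → pointOk (k * 22) = true := between_extend pointOk 22 15345 27504 9 (p1u1350) p1r1351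

theorem p1r1352 : allRange pointOk 22 27513 9 = true := by decide +kernel
theorem p1u1352 : ∀ k, 15345 ≤ k → k < 27522 → pointOk (k * 22) = true := between_extend pointOk 22 15345 27513 9 (p1u1351) p1r1352

theorem p1r1353 : allRange pointOk 22 27522 9 = true := by decide +kernel
theorem p1u1353 : ∀ k, 15345 ≤ k → k < 27531 → pointOk (k * 22) = true := between_extend pointOk 22 15345 27522 9 (p1u1352) p1r1353

theorem p1r1354 : allRange pointOk 22 27531 9 = true := by decide +kernel
theorem p1u1354 : ∀ k, 15345 ≤ k → k < 27540 → pointOk (k * 22) = true := between_extend pointOk 22 15345 27531 9 (p1u1353) p1r1354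

theorem p1r1355 : allRange pointOk 22 27540 9 = true := by decide +kernel
theorem p1u1355 : ∀ k, 15345 ≤ k → k < 27549 → pointOk (k * 22) = true := between_extend pointOk 22 15345 27540 9 (p1u1354) p1r1355

theorem p1r1356 : allRange pointOk 22 27549 9 = true := by decide +kernel
theorem p1u1356 : ∀ k, 15345 ≤ k → k < 27558 → pointOk (k * 22) = true := between_extend pointOk 22 15345 27549 9 (p1u1355) p1r1356

theorem p1r1357 : allRange pointOk 22 27558 9 = true := by decide +kernel
theorem p1u1357 : ∀ k, 15345 ≤ k → k < 27567 → pointOk (k * 22) = true := between_extend pointOk 22 15345 27558 9 (p1u1356) p1r1357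

theorem p1r1358 : allRange pointOk 22 27567 9 = true := by decide +kernel
theorem p1u1358 : ∀ k, 15345 ≤ k → k < 27576 → pointOk (k * 22) = true := between_extend pointOk 22 15345 27567 9 (p1u1357) p1r1358

theorem p1r1359 : allRange pointOk 22 27576 9 = true := by decide +kernel
theorem p1u1359 : ∀ k, 15345 ≤ k → k < 27585 → pointOk (k * 22) = true := between_extend pointOk 22 15345 27576 9 (p1u1358) p1r1359

theorem p1r1360 : allRange pointOk 22 27585 9 = true := by decide +kernel
theorem p1u1360 : ∀ k, 15345 ≤ k → k < 27594 → pointOk (k * 22) = true := between_extend pointOk 22 15345 27585 9 (p1u1359) p1r1360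

theorem p1r1361 : allRange pointOk 22 27594 9 = true := by decide +kernel
theorem p1u1361 : ∀ k, 15345 ≤ k → k < 27603 → pointOk (k * 22) = true := between_extend pointOk 22 15345 27594 9 (p1u1360) p1r1361

theorem p1r1362 : allRange pointOk 22 27603 9 = true := by decide +kernel
theorem p1u1362 : ∀ k, 15345 ≤ k → k < 27612 → pointOk (k * 22) = true := between_extend pointOk 22 15345 27603 9 (p1u1361) p1r1362

theorem p1r1363 : allRange pointOk 22 27612 9 = true := by decide +kernel
theorem p1u1363 : ∀ k, 15345 ≤ k → k < 27621 → pointOk (k * 22) = true := between_extend pointOk 22 15345 27612 9 (p1u1362) p1r1363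

theorem p1r1364 : allRange pointOk 22 27621 9 = true := by decide +kernel
theorem p1u1364 : ∀ k, 15345 ≤ k → k < 27630 → pointOk (k * 22) = true := between_extend pointOk 22 15345 27621 9 (p1u1363) p1r1364

theorem p1r1365 : allRange pointOk 22 27630 9 = true := by decide +kernel
theorem p1u1365 : ∀ k, 15345 ≤ k → k < 27639 → pointOk (k * 22) = true := between_extend pointOk 22 15345 27630 9 (p1u1364) p1r1365

theorem p1r1366 : allRange pointOk 22 27639 9 = true := by decide +kernel
theorem p1u1366 : ∀ k, 15345 ≤ k → k < 27648 → pointOk (k * 22) = true := between_extend pointOk 22 15345 27639 9 (p1u1365) p1r1366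

theorem p1r1367 : allRange pointOk 22 27648 9 = true := by decide +kernel
theorem p1u1367 : ∀ k, 15345 ≤ k → k < 27657 → pointOk (k * 22) = true := between_extend pointOk 22 15345 27648 9 (p1u1366) p1r1367

theorem p1r1368 : allRange pointOk 22 27657 9 = true := by decide +kernel
theorem p1u1368 : ∀ k, 15345 ≤ k → k < 27666 → pointOk (k * 22) = true := between_extend pointOk 22 15345 27657 9 (p1u1367) p1r1368

theorem p1r1369 : allRange pointOk 22 27666 9 = true := by decide +kernel
theorem p1u1369 : ∀ k, 15345 ≤ k → k < 27675 → pointOk (k * 22) = true := between_extend pointOk 22 15345 27666 9 (p1u1368) p1r1369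

theorem p1r1370 : allRange pointOk 22 27675 9 = true := by decide +kernel
theorem p1u1370 : ∀ k, 15345 ≤ k → k < 27684 → pointOk (k * 22) = true := between_extend pointOk 22 15345 27675 9 (p1u1369) p1r1370

theorem p1r1371 : allRange pointOk 22 27684 9 = true := by decide +kernel
theorem p1u1371 : ∀ k, 15345 ≤ k → k < 27693 → pointOk (k * 22) = true := between_extend pointOk 22 15345 27684 9 (p1u1370) p1r1371

theorem p1r1372 : allRange pointOk 22 27693 9 = true := by decide +kernel
theorem p1u1372 : ∀ k, 15345 ≤ k → k < 27702 → pointOk (k * 22) = true := between_extend pointOk 22 15345 27693 9 (p1u1371) p1r1372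

theorem p1r1373 : allRange pointOk 22 27702 9 = true := by decide +kernel
theorem p1u1373 : ∀ k, 15345 ≤ k → k < 27711 → pointOk (k * 22) = true := between_extend pointOk 22 15345 27702 9 (p1u1372) p1r1373

theorem p1r1374 : allRange pointOk 22 27711 9 = true := by decide +kernel
theorem p1u1374 : ∀ k, 15345 ≤ k → k < 27720 → pointOk (k * 22) = true := between_extend pointOk 22 15345 27711 9 (p1u1373) p1r1374

theorem p1r1375 : allRange pointOk 22 27720 9 = true := by decide +kernel
theorem p1u1375 : ∀ k, 15345 ≤ k → k < 27729 → pointOk (k * 22) = true := between_extend pointOk 22 15345 27720 9 (p1u1374) p1r1375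

theorem p1r1376 : allRange pointOk 22 27729 9 = true := by decide +kernel
theorem p1u1376 : ∀ k, 15345 ≤ k → k < 27738 → pointOk (k * 22) = true := between_extend pointOk 22 15345 27729 9 (p1u1375) p1r1376

theorem p1r1377 : allRange pointOk 22 27738 9 = true := by decide +kernel
theorem p1u1377 : ∀ k, 15345 ≤ k → k < 27747 → pointOk (k * 22) = true := between_extend pointOk 22 15345 27738 9 (p1u1376) p1r1377

theorem p1r1378 : allRange pointOk 22 27747 9 = true := by decide +kernel
theorem p1u1378 : ∀ k, 15345 ≤ k → k < 27756 → pointOk (k * 22) = true := between_extend pointOk 22 15345 27747 9 (p1u1377) p1r1378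

theorem p1r1379 : allRange pointOk 22 27756 9 = true := by decide +kernel
theorem p1u1379 : ∀ k, 15345 ≤ k → k < 27765 → pointOk (k * 22) = true := between_extend pointOk 22 15345 27756 9 (p1u1378) p1r1379

theorem p1r1380 : allRange pointOk 22 27765 9 = true := by decide +kernel
theorem p1u1380 : ∀ k, 15345 ≤ k → k < 27774 → pointOk (k * 22) = true := between_extend pointOk 22 15345 27765 9 (p1u1379) p1r1380

theorem p1r1381 : allRange pointOk 22 27774 9 = true := by decide +kernel
theorem p1u1381 : ∀ k, 15345 ≤ k → k < 27783 → pointOk (k * 22) = true := between_extend pointOk 22 15345 27774 9 (p1u1380) p1r1381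

theorem p1r1382 : allRange pointOk 22 27783 9 = true := by decide +kernel
theorem p1u1382 : ∀ k, 15345 ≤ k → k < 27792 → pointOk (k * 22) = true := between_extend pointOk 22 15345 27783 9 (p1u1381) p1r1382

theorem p1r1383 : allRange pointOk 22 27792 9 = true := by decide +kernel
theorem p1u1383 : ∀ k, 15345 ≤ k → k < 27801 → pointOk (k * 22) = true := between_extend pointOk 22 15345 27792 9 (p1u1382) p1r1383

theorem p1r1384 : allRange pointOk 22 27801 9 = true := by decide +kernel
theorem p1u1384 : ∀ k, 15345 ≤ k → k < 27810 → pointOk (k * 22) = true := between_extend pointOk 22 15345 27801 9 (p1u1383) p1r1384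

theorem p1r1385 : allRange pointOk 22 27810 9 = true := by decide +kernel
theorem p1u1385 : ∀ k, 15345 ≤ k → k < 27819 → pointOk (k * 22) = true := between_extend pointOk 22 15345 27810 9 (p1u1384) p1r1385

theorem p1r1386 : allRange pointOk 22 27819 9 = true := by decide +kernel
theorem p1u1386 : ∀ k, 15345 ≤ k → k < 27828 → pointOk (k * 22) = true := between_extend pointOk 22 15345 27819 9 (p1u1385) p1r1386

theorem p1r1387 : allRange pointOk 22 27828 9 = true := by decide +kernel
theorem p1u1387 : ∀ k, 15345 ≤ k → k < 27837 → pointOk (k * 22) = true := between_extend pointOk 22 15345 27828 9 (p1u1386) p1r1387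

theorem p1r1388 : allRange pointOk 22 27837 9 = true := by decide +kernel
theorem p1u1388 : ∀ k, 15345 ≤ k → k < 27846 → pointOk (k * 22) = true := between_extend pointOk 22 15345 27837 9 (p1u1387) p1r1388

theorem p1r1389 : allRange pointOk 22 27846 9 = true := by decide +kernel
theorem p1u1389 : ∀ k, 15345 ≤ k → k < 27855 → pointOk (k * 22) = true := between_extend pointOk 22 15345 27846 9 (p1u1388) p1r1389

theorem p1r1390 : allRange pointOk 22 27855 9 = true := by decide +kernel
theorem p1u1390 : ∀ k, 15345 ≤ k → k < 27864 → pointOk (k * 22) = true := between_extend pointOk 22 15345 27855 9 (p1u1389) p1r1390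

theorem p1r1391 : allRange pointOk 22 27864 9 = true := by decide +kernel
theorem p1u1391 : ∀ k, 15345 ≤ k → k < 27873 → pointOk (k * 22) = true := between_extend pointOk 22 15345 27864 9 (p1u1390) p1r1391

theorem p1r1392 : allRange pointOk 22 27873 9 = true := by decide +kernel
theorem p1u1392 : ∀ k, 15345 ≤ k → k < 27882 → pointOk (k * 22) = true := between_extend pointOk 22 15345 27873 9 (p1u1391) p1r1392

theorem p1r1393 : allRange pointOk 22 27882 9 = true := by decide +kernel
theorem p1u1393 : ∀ k, 15345 ≤ k → k < 27891 → pointOk (k * 22) = true := between_extend pointOk 22 15345 27882 9 (p1u1392) p1r1393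

theorem p1r1394 : allRange pointOk 22 27891 9 = true := by decide +kernel
theorem p1u1394 : ∀ k, 15345 ≤ k → k < 27900 → pointOk (k * 22) = true := between_extend pointOk 22 15345 27891 9 (p1u1393) p1r1394

theorem p1r1395 : allRange pointOk 22 27900 9 = true := by decide +kernel
theorem p1u1395 : ∀ k, 15345 ≤ k → k < 27909 → pointOk (k * 22) = true := between_extend pointOk 22 15345 27900 9 (p1u1394) p1r1395

theorem p1r1396 : allRange pointOk 22 27909 9 = true := by decide +kernel
theorem p1u1396 : ∀ k, 15345 ≤ k → k < 27918 → pointOk (k * 22) = true := between_extend pointOk 22 15345 27909 9 (p1u1395) p1r1396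

theorem p1r1397 : allRange pointOk 22 27918 9 = true := by decide +kernel
theorem p1u1397 : ∀ k, 15345 ≤ k → k < 27927 → pointOk (k * 22) = true := between_extend pointOk 22 15345 27918 9 (p1u1396) p1r1397

theorem p1r1398 : allRange pointOk 22 27927 9 = true := by decide +kernel
theorem p1u1398 : ∀ k, 15345 ≤ k → k < 27936 → pointOk (k * 22) = true := between_extend pointOk 22 15345 27927 9 (p1u1397) p1r1398

theorem p1r1399 : allRange pointOk 22 27936 9 = true := by decide +kernel
theorem p1u1399 : ∀ k, 15345 ≤ k → k < 27945 → pointOk (k * 22) = true := between_extend pointOk 22 15345 27936 9 (p1u1398) p1r1399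

theorem p1r1400 : allRange pointOk 22 27945 9 = true := by decide +kernel
theorem p1u1400 : ∀ k, 15345 ≤ k → k < 27954 → pointOk (k * 22) = true := between_extend pointOk 22 15345 27945 9 (p1u1399) p1r1400

theorem p1r1401 : allRange pointOk 22 27954 9 = true := by decide +kernel
theorem p1u1401 : ∀ k, 15345 ≤ k → k < 27963 → pointOk (k * 22) = true := between_extend pointOk 22 15345 27954 9 (p1u1400) p1r1401

theorem p1r1402 : allRange pointOk 22 27963 9 = true := by decide +kernel
theorem p1u1402 : ∀ k, 15345 ≤ k → k < 27972 → pointOk (k * 22) = true := between_extend pointOk 22 15345 27963 9 (p1u1401) p1r1402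

theorem p1r1403 : allRange pointOk 22 27972 9 = true := by decide +kernel
theorem p1u1403 : ∀ k, 15345 ≤ k → k < 27981 → pointOk (k * 22) = true := between_extend pointOk 22 15345 27972 9 (p1u1402) p1r1403

theorem p1r1404 : allRange pointOk 22 27981 9 = true := by decide +kernel
theorem p1u1404 : ∀ k, 15345 ≤ k → k < 27990 → pointOk (k * 22) = true := between_extend pointOk 22 15345 27981 9 (p1u1403) p1r1404

theorem p1r1405 : allRange pointOk 22 27990 9 = true := by decide +kernel
theorem p1u1405 : ∀ k, 15345 ≤ k → k < 27999 → pointOk (k * 22) = true := between_extend pointOk 22 15345 27990 9 (p1u1404) p1r1405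

theorem p1r1406 : allRange pointOk 22 27999 9 = true := by decide +kernel
theorem p1u1406 : ∀ k, 15345 ≤ k → k < 28008 → pointOk (k * 22) = true := between_extend pointOk 22 15345 27999 9 (p1u1405) p1r1406

theorem p1r1407 : allRange pointOk 22 28008 9 = true := by decide +kernel
theorem p1u1407 : ∀ k, 15345 ≤ k → k < 28017 → pointOk (k * 22) = true := between_extend pointOk 22 15345 28008 9 (p1u1406) p1r1407

theorem p1r1408 : allRange pointOk 22 28017 9 = true := by decide +kernel
theorem p1u1408 : ∀ k, 15345 ≤ k → k < 28026 → pointOk (k * 22) = true := between_extend pointOk 22 15345 28017 9 (p1u1407) p1r1408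

theorem p1r1409 : allRange pointOk 22 28026 9 = true := by decide +kernel
theorem p1u1409 : ∀ k, 15345 ≤ k → k < 28035 → pointOk (k * 22) = true := between_extend pointOk 22 15345 28026 9 (p1u1408) p1r1409

theorem p1r1410 : allRange pointOk 22 28035 9 = true := by decide +kernel
theorem p1u1410 : ∀ k, 15345 ≤ k → k < 28044 → pointOk (k * 22) = true := between_extend pointOk 22 15345 28035 9 (p1u1409) p1r1410

theorem p1r1411 : allRange pointOk 22 28044 9 = true := by decide +kernel
theorem p1u1411 : ∀ k, 15345 ≤ k → k < 28053 → pointOk (k * 22) = true := between_extend pointOk 22 15345 28044 9 (p1u1410) p1r1411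

theorem p1r1412 : allRange pointOk 22 28053 9 = true := by decide +kernel
theorem p1u1412 : ∀ k, 15345 ≤ k → k < 28062 → pointOk (k * 22) = true := between_extend pointOk 22 15345 28053 9 (p1u1411) p1r1412

theorem p1r1413 : allRange pointOk 22 28062 9 = true := by decide +kernel
theorem p1u1413 : ∀ k, 15345 ≤ k → k < 28071 → pointOk (k * 22) = true := between_extend pointOk 22 15345 28062 9 (p1u1412) p1r1413

theorem p1r1414 : allRange pointOk 22 28071 9 = true := by decide +kernel
theorem p1u1414 : ∀ k, 15345 ≤ k → k < 28080 → pointOk (k * 22) = true := between_extend pointOk 22 15345 28071 9 (p1u1413) p1r1414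

theorem p1r1415 : allRange pointOk 22 28080 9 = true := by decide +kernel
theorem p1u1415 : ∀ k, 15345 ≤ k → k < 28089 → pointOk (k * 22) = true := between_extend pointOk 22 15345 28080 9 (p1u1414) p1r1415

theorem p1r1416 : allRange pointOk 22 28089 9 = true := by decide +kernel
theorem p1u1416 : ∀ k, 15345 ≤ k → k < 28098 → pointOk (k * 22) = true := between_extend pointOk 22 15345 28089 9 (p1u1415) p1r1416

theorem p1r1417 : allRange pointOk 22 28098 9 = true := by decide +kernel
theorem p1u1417 : ∀ k, 15345 ≤ k → k < 28107 → pointOk (k * 22) = true := between_extend pointOk 22 15345 28098 9 (p1u1416) p1r1417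

theorem p1r1418 : allRange pointOk 22 28107 9 = true := by decide +kernel
theorem p1u1418 : ∀ k, 15345 ≤ k → k < 28116 → pointOk (k * 22) = true := between_extend pointOk 22 15345 28107 9 (p1u1417) p1r1418

theorem p1r1419 : allRange pointOk 22 28116 9 = true := by decide +kernel
theorem p1u1419 : ∀ k, 15345 ≤ k → k < 28125 → pointOk (k * 22) = true := between_extend pointOk 22 15345 28116 9 (p1u1418) p1r1419

theorem p1r1420 : allRange pointOk 22 28125 9 = true := by decide +kernel
theorem p1u1420 : ∀ k, 15345 ≤ k → k < 28134 → pointOk (k * 22) = true := between_extend pointOk 22 15345 28125 9 (p1u1419) p1r1420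

theorem p1r1421 : allRange pointOk 22 28134 9 = true := by decide +kernel
theorem p1u1421 : ∀ k, 15345 ≤ k → k < 28143 → pointOk (k * 22) = true := between_extend pointOk 22 15345 28134 9 (p1u1420) p1r1421

theorem p1r1422 : allRange pointOk 22 28143 9 = true := by decide +kernel
theorem p1u1422 : ∀ k, 15345 ≤ k → k < 28152 → pointOk (k * 22) = true := between_extend pointOk 22 15345 28143 9 (p1u1421) p1r1422

theorem p1r1423 : allRange pointOk 22 28152 9 = true := by decide +kernel
theorem p1u1423 : ∀ k, 15345 ≤ k → k < 28161 → pointOk (k * 22) = true := between_extend pointOk 22 15345 28152 9 (p1u1422) p1r1423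

theorem p1r1424 : allRange pointOk 22 28161 9 = true := by decide +kernel
theorem p1u1424 : ∀ k, 15345 ≤ k → k < 28170 → pointOk (k * 22) = true := between_extend pointOk 22 15345 28161 9 (p1u1423) p1r1424

theorem p1r1425 : allRange pointOk 22 28170 9 = true := by decide +kernel
theorem p1u1425 : ∀ k, 15345 ≤ k → k < 28179 → pointOk (k * 22) = true := between_extend pointOk 22 15345 28170 9 (p1u1424) p1r1425

theorem p1r1426 : allRange pointOk 22 28179 9 = true := by decide +kernel
theorem p1u1426 : ∀ k, 15345 ≤ k → k < 28188 → pointOk (k * 22) = true := between_extend pointOk 22 15345 28179 9 (p1u1425) p1r1426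

theorem p1r1427 : allRange pointOk 22 28188 9 = true := by decide +kernel
theorem p1u1427 : ∀ k, 15345 ≤ k → k < 28197 → pointOk (k * 22) = true := between_extend pointOk 22 15345 28188 9 (p1u1426) p1r1427

theorem p1r1428 : allRange pointOk 22 28197 9 = true := by decide +kernel
theorem p1u1428 : ∀ k, 15345 ≤ k → k < 28206 → pointOk (k * 22) = true := between_extend pointOk 22 15345 28197 9 (p1u1427) p1r1428

theorem p1r1429 : allRange pointOk 22 28206 9 = true := by decide +kernel
theorem p1u1429 : ∀ k, 15345 ≤ k → k < 28215 → pointOk (k * 22) = true := between_extend pointOk 22 15345 28206 9 (p1u1428) p1r1429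

theorem p1r1430 : allRange pointOk 22 28215 9 = true := by decide +kernel
theorem p1u1430 : ∀ k, 15345 ≤ k → k < 28224 → pointOk (k * 22) = true := between_extend pointOk 22 15345 28215 9 (p1u1429) p1r1430

theorem p1r1431 : allRange pointOk 22 28224 9 = true := by decide +kernel
theorem p1u1431 : ∀ k, 15345 ≤ k → k < 28233 → pointOk (k * 22) = true := between_extend pointOk 22 15345 28224 9 (p1u1430) p1r1431

theorem p1r1432 : allRange pointOk 22 28233 9 = true := by decide +kernel
theorem p1u1432 : ∀ k, 15345 ≤ k → k < 28242 → pointOk (k * 22) = true := between_extend pointOk 22 15345 28233 9 (p1u1431) p1r1432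

theorem p1r1433 : allRange pointOk 22 28242 9 = true := by decide +kernel
theorem p1u1433 : ∀ k, 15345 ≤ k → k < 28251 → pointOk (k * 22) = true := between_extend pointOk 22 15345 28242 9 (p1u1432) p1r1433

theorem p1r1434 : allRange pointOk 22 28251 9 = true := by decide +kernel
theorem p1u1434 : ∀ k, 15345 ≤ k → k < 28260 → pointOk (k * 22) = true := between_extend pointOk 22 15345 28251 9 (p1u1433) p1r1434

theorem p1r1435 : allRange pointOk 22 28260 9 = true := by decide +kernel
theorem p1u1435 : ∀ k, 15345 ≤ k → k < 28269 → pointOk (k * 22) = true := between_extend pointOk 22 15345 28260 9 (p1u1434) p1r1435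

theorem p1r1436 : allRange pointOk 22 28269 9 = true := by decide +kernel
theorem p1u1436 : ∀ k, 15345 ≤ k → k < 28278 → pointOk (k * 22) = true := between_extend pointOk 22 15345 28269 9 (p1u1435) p1r1436

theorem p1r1437 : allRange pointOk 22 28278 9 = true := by decide +kernel
theorem p1u1437 : ∀ k, 15345 ≤ k → k < 28287 → pointOk (k * 22) = true := between_extend pointOk 22 15345 28278 9 (p1u1436) p1r1437

theorem p1r1438 : allRange pointOk 22 28287 9 = true := by decide +kernel
theorem p1u1438 : ∀ k, 15345 ≤ k → k < 28296 → pointOk (k * 22) = true := between_extend pointOk 22 15345 28287 9 (p1u1437) p1r1438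

theorem p1r1439 : allRange pointOk 22 28296 9 = true := by decide +kernel
theorem p1u1439 : ∀ k, 15345 ≤ k → k < 28305 → pointOk (k * 22) = true := between_extend pointOk 22 15345 28296 9 (p1u1438) p1r1439

theorem p1r1440 : allRange pointOk 22 28305 9 = true := by decide +kernel
theorem p1u1440 : ∀ k, 15345 ≤ k → k < 28314 → pointOk (k * 22) = true := between_extend pointOk 22 15345 28305 9 (p1u1439) p1r1440

theorem p1r1441 : allRange pointOk 22 28314 9 = true := by decide +kernel
theorem p1u1441 : ∀ k, 15345 ≤ k → k < 28323 → pointOk (k * 22) = true := between_extend pointOk 22 15345 28314 9 (p1u1440) p1r1441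

theorem p1r1442 : allRange pointOk 22 28323 9 = true := by decide +kernel
theorem p1u1442 : ∀ k, 15345 ≤ k → k < 28332 → pointOk (k * 22) = true := between_extend pointOk 22 15345 28323 9 (p1u1441) p1r1442

theorem p1r1443 : allRange pointOk 22 28332 9 = true := by decide +kernel
theorem p1u1443 : ∀ k, 15345 ≤ k → k < 28341 → pointOk (k * 22) = true := between_extend pointOk 22 15345 28332 9 (p1u1442) p1r1443

theorem p1r1444 : allRange pointOk 22 28341 9 = true := by decide +kernel
theorem p1u1444 : ∀ k, 15345 ≤ k → k < 28350 → pointOk (k * 22) = true := between_extend pointOk 22 15345 28341 9 (p1u1443) p1r1444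

theorem p1r1445 : allRange pointOk 22 28350 9 = true := by decide +kernel
theorem p1u1445 : ∀ k, 15345 ≤ k → k < 28359 → pointOk (k * 22) = true := between_extend pointOk 22 15345 28350 9 (p1u1444) p1r1445

theorem p1r1446 : allRange pointOk 22 28359 9 = true := by decide +kernel
theorem p1u1446 : ∀ k, 15345 ≤ k → k < 28368 → pointOk (k * 22) = true := between_extend pointOk 22 15345 28359 9 (p1u1445) p1r1446

theorem p1r1447 : allRange pointOk 22 28368 9 = true := by decide +kernel
theorem p1u1447 : ∀ k, 15345 ≤ k → k < 28377 → pointOk (k * 22) = true := between_extend pointOk 22 15345 28368 9 (p1u1446) p1r1447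

theorem p1r1448 : allRange pointOk 22 28377 9 = true := by decide +kernel
theorem p1u1448 : ∀ k, 15345 ≤ k → k < 28386 → pointOk (k * 22) = true := between_extend pointOk 22 15345 28377 9 (p1u1447) p1r1448

theorem p1r1449 : allRange pointOk 22 28386 9 = true := by decide +kernel
theorem p1u1449 : ∀ k, 15345 ≤ k → k < 28395 → pointOk (k * 22) = true := between_extend pointOk 22 15345 28386 9 (p1u1448) p1r1449

theorem p1r1450 : allRange pointOk 22 28395 9 = true := by decide +kernel
theorem p1u1450 : ∀ k, 15345 ≤ k → k < 28404 → pointOk (k * 22) = true := between_extend pointOk 22 15345 28395 9 (p1u1449) p1r1450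

theorem p1r1451 : allRange pointOk 22 28404 9 = true := by decide +kernel
theorem p1u1451 : ∀ k, 15345 ≤ k → k < 28413 → pointOk (k * 22) = true := between_extend pointOk 22 15345 28404 9 (p1u1450) p1r1451

theorem p1r1452 : allRange pointOk 22 28413 9 = true := by decide +kernel
theorem p1u1452 : ∀ k, 15345 ≤ k → k < 28422 → pointOk (k * 22) = true := between_extend pointOk 22 15345 28413 9 (p1u1451) p1r1452

theorem p1r1453 : allRange pointOk 22 28422 9 = true := by decide +kernel
theorem p1u1453 : ∀ k, 15345 ≤ k → k < 28431 → pointOk (k * 22) = true := between_extend pointOk 22 15345 28422 9 (p1u1452) p1r1453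

theorem p1r1454 : allRange pointOk 22 28431 9 = true := by decide +kernel
theorem p1u1454 : ∀ k, 15345 ≤ k → k < 28440 → pointOk (k * 22) = true := between_extend pointOk 22 15345 28431 9 (p1u1453) p1r1454

theorem p1r1455 : allRange pointOk 22 28440 9 = true := by decide +kernel
theorem p1u1455 : ∀ k, 15345 ≤ k → k < 28449 → pointOk (k * 22) = true := between_extend pointOk 22 15345 28440 9 (p1u1454) p1r1455

theorem p1r1456 : allRange pointOk 22 28449 9 = true := by decide +kernel
theorem p1u1456 : ∀ k, 15345 ≤ k → k < 28458 → pointOk (k * 22) = true := between_extend pointOk 22 15345 28449 9 (p1u1455) p1r1456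

theorem p1r1457 : allRange pointOk 22 28458 9 = true := by decide +kernel
theorem p1u1457 : ∀ k, 15345 ≤ k → k < 28467 → pointOk (k * 22) = true := between_extend pointOk 22 15345 28458 9 (p1u1456) p1r1457

theorem p1r1458 : allRange pointOk 22 28467 9 = true := by decide +kernel
theorem p1u1458 : ∀ k, 15345 ≤ k → k < 28476 → pointOk (k * 22) = true := between_extend pointOk 22 15345 28467 9 (p1u1457) p1r1458

theorem p1r1459 : allRange pointOk 22 28476 9 = true := by decide +kernel
theorem p1u1459 : ∀ k, 15345 ≤ k → k < 28485 → pointOk (k * 22) = true := between_extend pointOk 22 15345 28476 9 (p1u1458) p1r1459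

theorem p1r1460 : allRange pointOk 22 28485 9 = true := by decide +kernel
theorem p1u1460 : ∀ k, 15345 ≤ k → k < 28494 → pointOk (k * 22) = true := between_extend pointOk 22 15345 28485 9 (p1u1459) p1r1460

theorem p1r1461 : allRange pointOk 22 28494 9 = true := by decide +kernel
theorem p1u1461 : ∀ k, 15345 ≤ k → k < 28503 → pointOk (k * 22) = true := between_extend pointOk 22 15345 28494 9 (p1u1460) p1r1461

theorem p1r1462 : allRange pointOk 22 28503 9 = true := by decide +kernel
theorem p1u1462 : ∀ k, 15345 ≤ k → k < 28512 → pointOk (k * 22) = true := between_extend pointOk 22 15345 28503 9 (p1u1461) p1r1462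

theorem p1r1463 : allRange pointOk 22 28512 9 = true := by decide +kernel
theorem p1u1463 : ∀ k, 15345 ≤ k → k < 28521 → pointOk (k * 22) = true := between_extend pointOk 22 15345 28512 9 (p1u1462) p1r1463

theorem p1r1464 : allRange pointOk 22 28521 9 = true := by decide +kernel
theorem p1u1464 : ∀ k, 15345 ≤ k → k < 28530 → pointOk (k * 22) = true := between_extend pointOk 22 15345 28521 9 (p1u1463) p1r1464

theorem p1r1465 : allRange pointOk 22 28530 9 = true := by decide +kernel
theorem p1u1465 : ∀ k, 15345 ≤ k → k < 28539 → pointOk (k * 22) = true := between_extend pointOk 22 15345 28530 9 (p1u1464) p1r1465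

theorem p1r1466 : allRange pointOk 22 28539 9 = true := by decide +kernel
theorem p1u1466 : ∀ k, 15345 ≤ k → k < 28548 → pointOk (k * 22) = true := between_extend pointOk 22 15345 28539 9 (p1u1465) p1r1466

theorem p1r1467 : allRange pointOk 22 28548 9 = true := by decide +kernel
theorem p1u1467 : ∀ k, 15345 ≤ k → k < 28557 → pointOk (k * 22) = true := between_extend pointOk 22 15345 28548 9 (p1u1466) p1r1467

theorem p1r1468 : allRange pointOk 22 28557 9 = true := by decide +kernel
theorem p1u1468 : ∀ k, 15345 ≤ k → k < 28566 → pointOk (k * 22) = true := between_extend pointOk 22 15345 28557 9 (p1u1467) p1r1468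

theorem p1r1469 : allRange pointOk 22 28566 9 = true := by decide +kernel
theorem p1u1469 : ∀ k, 15345 ≤ k → k < 28575 → pointOk (k * 22) = true := between_extend pointOk 22 15345 28566 9 (p1u1468) p1r1469

theorem p1r1470 : allRange pointOk 22 28575 9 = true := by decide +kernel
theorem p1u1470 : ∀ k, 15345 ≤ k → k < 28584 → pointOk (k * 22) = true := between_extend pointOk 22 15345 28575 9 (p1u1469) p1r1470

theorem p1r1471 : allRange pointOk 22 28584 9 = true := by decide +kernel
theorem p1u1471 : ∀ k, 15345 ≤ k → k < 28593 → pointOk (k * 22) = true := between_extend pointOk 22 15345 28584 9 (p1u1470) p1r1471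

theorem p1r1472 : allRange pointOk 22 28593 9 = true := by decide +kernel
theorem p1u1472 : ∀ k, 15345 ≤ k → k < 28602 → pointOk (k * 22) = true := between_extend pointOk 22 15345 28593 9 (p1u1471) p1r1472

theorem p1r1473 : allRange pointOk 22 28602 9 = true := by decide +kernel
theorem p1u1473 : ∀ k, 15345 ≤ k → k < 28611 → pointOk (k * 22) = true := between_extend pointOk 22 15345 28602 9 (p1u1472) p1r1473

theorem p1r1474 : allRange pointOk 22 28611 9 = true := by decide +kernel
theorem p1u1474 : ∀ k, 15345 ≤ k → k < 28620 → pointOk (k * 22) = true := between_extend pointOk 22 15345 28611 9 (p1u1473) p1r1474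

theorem p1r1475 : allRange pointOk 22 28620 9 = true := by decide +kernel
theorem p1u1475 : ∀ k, 15345 ≤ k → k < 28629 → pointOk (k * 22) = true := between_extend pointOk 22 15345 28620 9 (p1u1474) p1r1475

theorem p1r1476 : allRange pointOk 22 28629 9 = true := by decide +kernel
theorem p1u1476 : ∀ k, 15345 ≤ k → k < 28638 → pointOk (k * 22) = true := between_extend pointOk 22 15345 28629 9 (p1u1475) p1r1476

theorem p1r1477 : allRange pointOk 22 28638 9 = true := by decide +kernel
theorem p1u1477 : ∀ k, 15345 ≤ k → k < 28647 → pointOk (k * 22) = true := between_extend pointOk 22 15345 28638 9 (p1u1476) p1r1477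

theorem p1r1478 : allRange pointOk 22 28647 9 = true := by decide +kernel
theorem p1u1478 : ∀ k, 15345 ≤ k → k < 28656 → pointOk (k * 22) = true := between_extend pointOk 22 15345 28647 9 (p1u1477) p1r1478

theorem p1r1479 : allRange pointOk 22 28656 9 = true := by decide +kernel
theorem p1u1479 : ∀ k, 15345 ≤ k → k < 28665 → pointOk (k * 22) = true := between_extend pointOk 22 15345 28656 9 (p1u1478) p1r1479

theorem p1r1480 : allRange pointOk 22 28665 9 = true := by decide +kernel
theorem p1u1480 : ∀ k, 15345 ≤ k → k < 28674 → pointOk (k * 22) = true := between_extend pointOk 22 15345 28665 9 (p1u1479) p1r1480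

theorem p1r1481 : allRange pointOk 22 28674 9 = true := by decide +kernel
theorem p1u1481 : ∀ k, 15345 ≤ k → k < 28683 → pointOk (k * 22) = true := between_extend pointOk 22 15345 28674 9 (p1u1480) p1r1481

theorem p1r1482 : allRange pointOk 22 28683 9 = true := by decide +kernel
theorem p1u1482 : ∀ k, 15345 ≤ k → k < 28692 → pointOk (k * 22) = true := between_extend pointOk 22 15345 28683 9 (p1u1481) p1r1482

theorem p1r1483 : allRange pointOk 22 28692 9 = true := by decide +kernel
theorem p1u1483 : ∀ k, 15345 ≤ k → k < 28701 → pointOk (k * 22) = true := between_extend pointOk 22 15345 28692 9 (p1u1482) p1r1483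

theorem p1r1484 : allRange pointOk 22 28701 9 = true := by decide +kernel
theorem p1u1484 : ∀ k, 15345 ≤ k → k < 28710 → pointOk (k * 22) = true := between_extend pointOk 22 15345 28701 9 (p1u1483) p1r1484

theorem p1r1485 : allRange pointOk 22 28710 9 = true := by decide +kernel
theorem p1u1485 : ∀ k, 15345 ≤ k → k < 28719 → pointOk (k * 22) = true := between_extend pointOk 22 15345 28710 9 (p1u1484) p1r1485

theorem p1r1486 : allRange pointOk 22 28719 9 = true := by decide +kernel
theorem p1u1486 : ∀ k, 15345 ≤ k → k < 28728 → pointOk (k * 22) = true := between_extend pointOk 22 15345 28719 9 (p1u1485) p1r1486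

theorem p1r1487 : allRange pointOk 22 28728 9 = true := by decide +kernel
theorem p1u1487 : ∀ k, 15345 ≤ k → k < 28737 → pointOk (k * 22) = true := between_extend pointOk 22 15345 28728 9 (p1u1486) p1r1487

theorem p1r1488 : allRange pointOk 22 28737 9 = true := by decide +kernel
theorem p1u1488 : ∀ k, 15345 ≤ k → k < 28746 → pointOk (k * 22) = true := between_extend pointOk 22 15345 28737 9 (p1u1487) p1r1488

theorem p1r1489 : allRange pointOk 22 28746 9 = true := by decide +kernel
theorem p1u1489 : ∀ k, 15345 ≤ k → k < 28755 → pointOk (k * 22) = true := between_extend pointOk 22 15345 28746 9 (p1u1488) p1r1489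

theorem p1r1490 : allRange pointOk 22 28755 9 = true := by decide +kernel
theorem p1u1490 : ∀ k, 15345 ≤ k → k < 28764 → pointOk (k * 22) = true := between_extend pointOk 22 15345 28755 9 (p1u1489) p1r1490

theorem p1r1491 : allRange pointOk 22 28764 9 = true := by decide +kernel
theorem p1u1491 : ∀ k, 15345 ≤ k → k < 28773 → pointOk (k * 22) = true := between_extend pointOk 22 15345 28764 9 (p1u1490) p1r1491

theorem p1r1492 : allRange pointOk 22 28773 9 = true := by decide +kernel
theorem p1u1492 : ∀ k, 15345 ≤ k → k < 28782 → pointOk (k * 22) = true := between_extend pointOk 22 15345 28773 9 (p1u1491) p1r1492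

theorem p1r1493 : allRange pointOk 22 28782 9 = true := by decide +kernel
theorem p1u1493 : ∀ k, 15345 ≤ k → k < 28791 → pointOk (k * 22) = true := between_extend pointOk 22 15345 28782 9 (p1u1492) p1r1493

theorem p1r1494 : allRange pointOk 22 28791 9 = true := by decide +kernel
theorem p1u1494 : ∀ k, 15345 ≤ k → k < 28800 → pointOk (k * 22) = true := between_extend pointOk 22 15345 28791 9 (p1u1493) p1r1494

theorem p1r1495 : allRange pointOk 22 28800 9 = true := by decide +kernel
theorem p1u1495 : ∀ k, 15345 ≤ k → k < 28809 → pointOk (k * 22) = true := between_extend pointOk 22 15345 28800 9 (p1u1494) p1r1495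

theorem p1r1496 : allRange pointOk 22 28809 9 = true := by decide +kernel
theorem p1u1496 : ∀ k, 15345 ≤ k → k < 28818 → pointOk (k * 22) = true := between_extend pointOk 22 15345 28809 9 (p1u1495) p1r1496

theorem p1r1497 : allRange pointOk 22 28818 9 = true := by decide +kernel
theorem p1u1497 : ∀ k, 15345 ≤ k → k < 28827 → pointOk (k * 22) = true := between_extend pointOk 22 15345 28818 9 (p1u1496) p1r1497

theorem p1r1498 : allRange pointOk 22 28827 9 = true := by decide +kernel
theorem p1u1498 : ∀ k, 15345 ≤ k → k < 28836 → pointOk (k * 22) = true := between_extend pointOk 22 15345 28827 9 (p1u1497) p1r1498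

theorem p1r1499 : allRange pointOk 22 28836 9 = true := by decide +kernel
theorem p1u1499 : ∀ k, 15345 ≤ k → k < 28845 → pointOk (k * 22) = true := between_extend pointOk 22 15345 28836 9 (p1u1498) p1r1499

theorem p1r1500 : allRange pointOk 22 28845 9 = true := by decide +kernel
theorem p1u1500 : ∀ k, 15345 ≤ k → k < 28854 → pointOk (k * 22) = true := between_extend pointOk 22 15345 28845 9 (p1u1499) p1r1500

theorem p1r1501 : allRange pointOk 22 28854 9 = true := by decide +kernel
theorem p1u1501 : ∀ k, 15345 ≤ k → k < 28863 → pointOk (k * 22) = true := between_extend pointOk 22 15345 28854 9 (p1u1500) p1r1501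

theorem p1r1502 : allRange pointOk 22 28863 9 = true := by decide +kernel
theorem p1u1502 : ∀ k, 15345 ≤ k → k < 28872 → pointOk (k * 22) = true := between_extend pointOk 22 15345 28863 9 (p1u1501) p1r1502

theorem p1r1503 : allRange pointOk 22 28872 9 = true := by decide +kernel
theorem p1u1503 : ∀ k, 15345 ≤ k → k < 28881 → pointOk (k * 22) = true := between_extend pointOk 22 15345 28872 9 (p1u1502) p1r1503

theorem p1r1504 : allRange pointOk 22 28881 9 = true := by decide +kernel
theorem p1u1504 : ∀ k, 15345 ≤ k → k < 28890 → pointOk (k * 22) = true := between_extend pointOk 22 15345 28881 9 (p1u1503) p1r1504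

theorem p1r1505 : allRange pointOk 22 28890 9 = true := by decide +kernel
theorem p1u1505 : ∀ k, 15345 ≤ k → k < 28899 → pointOk (k * 22) = true := between_extend pointOk 22 15345 28890 9 (p1u1504) p1r1505

theorem p1r1506 : allRange pointOk 22 28899 9 = true := by decide +kernel
theorem p1u1506 : ∀ k, 15345 ≤ k → k < 28908 → pointOk (k * 22) = true := between_extend pointOk 22 15345 28899 9 (p1u1505) p1r1506

theorem p1r1507 : allRange pointOk 22 28908 9 = true := by decide +kernel
theorem p1u1507 : ∀ k, 15345 ≤ k → k < 28917 → pointOk (k * 22) = true := between_extend pointOk 22 15345 28908 9 (p1u1506) p1r1507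

theorem p1r1508 : allRange pointOk 22 28917 9 = true := by decide +kernel
theorem p1u1508 : ∀ k, 15345 ≤ k → k < 28926 → pointOk (k * 22) = true := between_extend pointOk 22 15345 28917 9 (p1u1507) p1r1508

theorem p1r1509 : allRange pointOk 22 28926 9 = true := by decide +kernel
theorem p1u1509 : ∀ k, 15345 ≤ k → k < 28935 → pointOk (k * 22) = true := between_extend pointOk 22 15345 28926 9 (p1u1508) p1r1509

theorem p1r1510 : allRange pointOk 22 28935 9 = true := by decide +kernel
theorem p1u1510 : ∀ k, 15345 ≤ k → k < 28944 → pointOk (k * 22) = true := between_extend pointOk 22 15345 28935 9 (p1u1509) p1r1510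

theorem p1r1511 : allRange pointOk 22 28944 9 = true := by decide +kernel
theorem p1u1511 : ∀ k, 15345 ≤ k → k < 28953 → pointOk (k * 22) = true := between_extend pointOk 22 15345 28944 9 (p1u1510) p1r1511

theorem p1r1512 : allRange pointOk 22 28953 9 = true := by decide +kernel
theorem p1u1512 : ∀ k, 15345 ≤ k → k < 28962 → pointOk (k * 22) = true := between_extend pointOk 22 15345 28953 9 (p1u1511) p1r1512

theorem p1r1513 : allRange pointOk 22 28962 9 = true := by decide +kernel
theorem p1u1513 : ∀ k, 15345 ≤ k → k < 28971 → pointOk (k * 22) = true := between_extend pointOk 22 15345 28962 9 (p1u1512) p1r1513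

theorem p1r1514 : allRange pointOk 22 28971 9 = true := by decide +kernel
theorem p1u1514 : ∀ k, 15345 ≤ k → k < 28980 → pointOk (k * 22) = true := between_extend pointOk 22 15345 28971 9 (p1u1513) p1r1514

theorem p1r1515 : allRange pointOk 22 28980 9 = true := by decide +kernel
theorem p1u1515 : ∀ k, 15345 ≤ k → k < 28989 → pointOk (k * 22) = true := between_extend pointOk 22 15345 28980 9 (p1u1514) p1r1515

theorem p1r1516 : allRange pointOk 22 28989 9 = true := by decide +kernel
theorem p1u1516 : ∀ k, 15345 ≤ k → k < 28998 → pointOk (k * 22) = true := between_extend pointOk 22 15345 28989 9 (p1u1515) p1r1516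

theorem p1r1517 : allRange pointOk 22 28998 9 = true := by decide +kernel
theorem p1u1517 : ∀ k, 15345 ≤ k → k < 29007 → pointOk (k * 22) = true := between_extend pointOk 22 15345 28998 9 (p1u1516) p1r1517

theorem p1r1518 : allRange pointOk 22 29007 9 = true := by decide +kernel
theorem p1u1518 : ∀ k, 15345 ≤ k → k < 29016 → pointOk (k * 22) = true := between_extend pointOk 22 15345 29007 9 (p1u1517) p1r1518

theorem p1r1519 : allRange pointOk 22 29016 9 = true := by decide +kernel
theorem p1u1519 : ∀ k, 15345 ≤ k → k < 29025 → pointOk (k * 22) = true := between_extend pointOk 22 15345 29016 9 (p1u1518) p1r1519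

theorem p1r1520 : allRange pointOk 22 29025 9 = true := by decide +kernel
theorem p1u1520 : ∀ k, 15345 ≤ k → k < 29034 → pointOk (k * 22) = true := between_extend pointOk 22 15345 29025 9 (p1u1519) p1r1520

theorem p1r1521 : allRange pointOk 22 29034 9 = true := by decide +kernel
theorem p1u1521 : ∀ k, 15345 ≤ k → k < 29043 → pointOk (k * 22) = true := between_extend pointOk 22 15345 29034 9 (p1u1520) p1r1521

theorem p1r1522 : allRange pointOk 22 29043 9 = true := by decide +kernel
theorem p1u1522 : ∀ k, 15345 ≤ k → k < 29052 → pointOk (k * 22) = true := between_extend pointOk 22 15345 29043 9 (p1u1521) p1r1522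

theorem p1r1523 : allRange pointOk 22 29052 9 = true := by decide +kernel
theorem p1u1523 : ∀ k, 15345 ≤ k → k < 29061 → pointOk (k * 22) = true := between_extend pointOk 22 15345 29052 9 (p1u1522) p1r1523

theorem p1r1524 : allRange pointOk 22 29061 9 = true := by decide +kernel
theorem p1u1524 : ∀ k, 15345 ≤ k → k < 29070 → pointOk (k * 22) = true := between_extend pointOk 22 15345 29061 9 (p1u1523) p1r1524

theorem p1r1525 : allRange pointOk 22 29070 9 = true := by decide +kernel
theorem p1u1525 : ∀ k, 15345 ≤ k → k < 29079 → pointOk (k * 22) = true := between_extend pointOk 22 15345 29070 9 (p1u1524) p1r1525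

theorem p1r1526 : allRange pointOk 22 29079 9 = true := by decide +kernel
theorem p1u1526 : ∀ k, 15345 ≤ k → k < 29088 → pointOk (k * 22) = true := between_extend pointOk 22 15345 29079 9 (p1u1525) p1r1526

theorem p1r1527 : allRange pointOk 22 29088 9 = true := by decide +kernel
theorem p1u1527 : ∀ k, 15345 ≤ k → k < 29097 → pointOk (k * 22) = true := between_extend pointOk 22 15345 29088 9 (p1u1526) p1r1527

theorem p1r1528 : allRange pointOk 22 29097 9 = true := by decide +kernel
theorem p1u1528 : ∀ k, 15345 ≤ k → k < 29106 → pointOk (k * 22) = true := between_extend pointOk 22 15345 29097 9 (p1u1527) p1r1528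

theorem p1r1529 : allRange pointOk 22 29106 9 = true := by decide +kernel
theorem p1u1529 : ∀ k, 15345 ≤ k → k < 29115 → pointOk (k * 22) = true := between_extend pointOk 22 15345 29106 9 (p1u1528) p1r1529

theorem p1r1530 : allRange pointOk 22 29115 9 = true := by decide +kernel
theorem p1u1530 : ∀ k, 15345 ≤ k → k < 29124 → pointOk (k * 22) = true := between_extend pointOk 22 15345 29115 9 (p1u1529) p1r1530

theorem p1r1531 : allRange pointOk 22 29124 9 = true := by decide +kernel
theorem p1u1531 : ∀ k, 15345 ≤ k → k < 29133 → pointOk (k * 22) = true := between_extend pointOk 22 15345 29124 9 (p1u1530) p1r1531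

theorem p1r1532 : allRange pointOk 22 29133 9 = true := by decide +kernel
theorem p1u1532 : ∀ k, 15345 ≤ k → k < 29142 → pointOk (k * 22) = true := between_extend pointOk 22 15345 29133 9 (p1u1531) p1r1532

theorem p1r1533 : allRange pointOk 22 29142 9 = true := by decide +kernel
theorem p1u1533 : ∀ k, 15345 ≤ k → k < 29151 → pointOk (k * 22) = true := between_extend pointOk 22 15345 29142 9 (p1u1532) p1r1533

theorem p1r1534 : allRange pointOk 22 29151 9 = true := by decide +kernel
theorem p1u1534 : ∀ k, 15345 ≤ k → k < 29160 → pointOk (k * 22) = true := between_extend pointOk 22 15345 29151 9 (p1u1533) p1r1534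

theorem p1r1535 : allRange pointOk 22 29160 9 = true := by decide +kernel
theorem p1u1535 : ∀ k, 15345 ≤ k → k < 29169 → pointOk (k * 22) = true := between_extend pointOk 22 15345 29160 9 (p1u1534) p1r1535

theorem p1r1536 : allRange pointOk 22 29169 9 = true := by decide +kernel
theorem p1u1536 : ∀ k, 15345 ≤ k → k < 29178 → pointOk (k * 22) = true := between_extend pointOk 22 15345 29169 9 (p1u1535) p1r1536

theorem p1r1537 : allRange pointOk 22 29178 9 = true := by decide +kernel
theorem p1u1537 : ∀ k, 15345 ≤ k → k < 29187 → pointOk (k * 22) = true := between_extend pointOk 22 15345 29178 9 (p1u1536) p1r1537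

theorem p1r1538 : allRange pointOk 22 29187 9 = true := by decide +kernel
theorem p1u1538 : ∀ k, 15345 ≤ k → k < 29196 → pointOk (k * 22) = true := between_extend pointOk 22 15345 29187 9 (p1u1537) p1r1538

theorem p1r1539 : allRange pointOk 22 29196 9 = true := by decide +kernel
theorem p1u1539 : ∀ k, 15345 ≤ k → k < 29205 → pointOk (k * 22) = true := between_extend pointOk 22 15345 29196 9 (p1u1538) p1r1539

theorem p1r1540 : allRange pointOk 22 29205 9 = true := by decide +kernel
theorem p1u1540 : ∀ k, 15345 ≤ k → k < 29214 → pointOk (k * 22) = true := between_extend pointOk 22 15345 29205 9 (p1u1539) p1r1540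

theorem p1r1541 : allRange pointOk 22 29214 9 = true := by decide +kernel
theorem p1u1541 : ∀ k, 15345 ≤ k → k < 29223 → pointOk (k * 22) = true := between_extend pointOk 22 15345 29214 9 (p1u1540) p1r1541

theorem p1r1542 : allRange pointOk 22 29223 9 = true := by decide +kernel
theorem p1u1542 : ∀ k, 15345 ≤ k → k < 29232 → pointOk (k * 22) = true := between_extend pointOk 22 15345 29223 9 (p1u1541) p1r1542

theorem p1r1543 : allRange pointOk 22 29232 9 = true := by decide +kernel
theorem p1u1543 : ∀ k, 15345 ≤ k → k < 29241 → pointOk (k * 22) = true := between_extend pointOk 22 15345 29232 9 (p1u1542) p1r1543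

theorem p1r1544 : allRange pointOk 22 29241 9 = true := by decide +kernel
theorem p1u1544 : ∀ k, 15345 ≤ k → k < 29250 → pointOk (k * 22) = true := between_extend pointOk 22 15345 29241 9 (p1u1543) p1r1544

theorem p1r1545 : allRange pointOk 22 29250 9 = true := by decide +kernel
theorem p1u1545 : ∀ k, 15345 ≤ k → k < 29259 → pointOk (k * 22) = true := between_extend pointOk 22 15345 29250 9 (p1u1544) p1r1545

theorem p1r1546 : allRange pointOk 22 29259 9 = true := by decide +kernel
theorem p1u1546 : ∀ k, 15345 ≤ k → k < 29268 → pointOk (k * 22) = true := between_extend pointOk 22 15345 29259 9 (p1u1545) p1r1546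

theorem p1r1547 : allRange pointOk 22 29268 9 = true := by decide +kernel
theorem p1u1547 : ∀ k, 15345 ≤ k → k < 29277 → pointOk (k * 22) = true := between_extend pointOk 22 15345 29268 9 (p1u1546) p1r1547

theorem p1r1548 : allRange pointOk 22 29277 9 = true := by decide +kernel
theorem p1u1548 : ∀ k, 15345 ≤ k → k < 29286 → pointOk (k * 22) = true := between_extend pointOk 22 15345 29277 9 (p1u1547) p1r1548

theorem p1r1549 : allRange pointOk 22 29286 9 = true := by decide +kernel
theorem p1u1549 : ∀ k, 15345 ≤ k → k < 29295 → pointOk (k * 22) = true := between_extend pointOk 22 15345 29286 9 (p1u1548) p1r1549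

theorem p1r1550 : allRange pointOk 22 29295 9 = true := by decide +kernel
theorem p1u1550 : ∀ k, 15345 ≤ k → k < 29304 → pointOk (k * 22) = true := between_extend pointOk 22 15345 29295 9 (p1u1549) p1r1550

theorem p1r1551 : allRange pointOk 22 29304 9 = true := by decide +kernel
theorem p1u1551 : ∀ k, 15345 ≤ k → k < 29313 → pointOk (k * 22) = true := between_extend pointOk 22 15345 29304 9 (p1u1550) p1r1551

theorem p1r1552 : allRange pointOk 22 29313 9 = true := by decide +kernel
theorem p1u1552 : ∀ k, 15345 ≤ k → k < 29322 → pointOk (k * 22) = true := between_extend pointOk 22 15345 29313 9 (p1u1551) p1r1552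

theorem p1r1553 : allRange pointOk 22 29322 9 = true := by decide +kernel
theorem p1u1553 : ∀ k, 15345 ≤ k → k < 29331 → pointOk (k * 22) = true := between_extend pointOk 22 15345 29322 9 (p1u1552) p1r1553

theorem p1r1554 : allRange pointOk 22 29331 9 = true := by decide +kernel
theorem p1u1554 : ∀ k, 15345 ≤ k → k < 29340 → pointOk (k * 22) = true := between_extend pointOk 22 15345 29331 9 (p1u1553) p1r1554

theorem p1r1555 : allRange pointOk 22 29340 9 = true := by decide +kernel
theorem p1u1555 : ∀ k, 15345 ≤ k → k < 29349 → pointOk (k * 22) = true := between_extend pointOk 22 15345 29340 9 (p1u1554) p1r1555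

theorem p1r1556 : allRange pointOk 22 29349 9 = true := by decide +kernel
theorem p1u1556 : ∀ k, 15345 ≤ k → k < 29358 → pointOk (k * 22) = true := between_extend pointOk 22 15345 29349 9 (p1u1555) p1r1556

theorem p1r1557 : allRange pointOk 22 29358 9 = true := by decide +kernel
theorem p1u1557 : ∀ k, 15345 ≤ k → k < 29367 → pointOk (k * 22) = true := between_extend pointOk 22 15345 29358 9 (p1u1556) p1r1557

theorem p1r1558 : allRange pointOk 22 29367 9 = true := by decide +kernel
theorem p1u1558 : ∀ k, 15345 ≤ k → k < 29376 → pointOk (k * 22) = true := between_extend pointOk 22 15345 29367 9 (p1u1557) p1r1558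

theorem p1r1559 : allRange pointOk 22 29376 9 = true := by decide +kernel
theorem p1u1559 : ∀ k, 15345 ≤ k → k < 29385 → pointOk (k * 22) = true := between_extend pointOk 22 15345 29376 9 (p1u1558) p1r1559

theorem p1r1560 : allRange pointOk 22 29385 9 = true := by decide +kernel
theorem p1u1560 : ∀ k, 15345 ≤ k → k < 29394 → pointOk (k * 22) = true := between_extend pointOk 22 15345 29385 9 (p1u1559) p1r1560

theorem p1r1561 : allRange pointOk 22 29394 9 = true := by decide +kernel
theorem p1u1561 : ∀ k, 15345 ≤ k → k < 29403 → pointOk (k * 22) = true := between_extend pointOk 22 15345 29394 9 (p1u1560) p1r1561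

theorem p1r1562 : allRange pointOk 22 29403 9 = true := by decide +kernel
theorem p1u1562 : ∀ k, 15345 ≤ k → k < 29412 → pointOk (k * 22) = true := between_extend pointOk 22 15345 29403 9 (p1u1561) p1r1562

theorem p1r1563 : allRange pointOk 22 29412 9 = true := by decide +kernel
theorem p1u1563 : ∀ k, 15345 ≤ k → k < 29421 → pointOk (k * 22) = true := between_extend pointOk 22 15345 29412 9 (p1u1562) p1r1563

theorem p1r1564 : allRange pointOk 22 29421 9 = true := by decide +kernel
theorem p1u1564 : ∀ k, 15345 ≤ k → k < 29430 → pointOk (k * 22) = true := between_extend pointOk 22 15345 29421 9 (p1u1563) p1r1564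

theorem p1r1565 : allRange pointOk 22 29430 9 = true := by decide +kernel
theorem p1u1565 : ∀ k, 15345 ≤ k → k < 29439 → pointOk (k * 22) = true := between_extend pointOk 22 15345 29430 9 (p1u1564) p1r1565

theorem p1r1566 : allRange pointOk 22 29439 9 = true := by decide +kernel
theorem p1u1566 : ∀ k, 15345 ≤ k → k < 29448 → pointOk (k * 22) = true := between_extend pointOk 22 15345 29439 9 (p1u1565) p1r1566

theorem p1r1567 : allRange pointOk 22 29448 9 = true := by decide +kernel
theorem p1u1567 : ∀ k, 15345 ≤ k → k < 29457 → pointOk (k * 22) = true := between_extend pointOk 22 15345 29448 9 (p1u1566) p1r1567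

theorem p1r1568 : allRange pointOk 22 29457 9 = true := by decide +kernel
theorem p1u1568 : ∀ k, 15345 ≤ k → k < 29466 → pointOk (k * 22) = true := between_extend pointOk 22 15345 29457 9 (p1u1567) p1r1568

theorem p1r1569 : allRange pointOk 22 29466 9 = true := by decide +kernel
theorem p1u1569 : ∀ k, 15345 ≤ k → k < 29475 → pointOk (k * 22) = true := between_extend pointOk 22 15345 29466 9 (p1u1568) p1r1569

theorem p1r1570 : allRange pointOk 22 29475 9 = true := by decide +kernel
theorem p1u1570 : ∀ k, 15345 ≤ k → k < 29484 → pointOk (k * 22) = true := between_extend pointOk 22 15345 29475 9 (p1u1569) p1r1570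

theorem p1r1571 : allRange pointOk 22 29484 9 = true := by decide +kernel
theorem p1u1571 : ∀ k, 15345 ≤ k → k < 29493 → pointOk (k * 22) = true := between_extend pointOk 22 15345 29484 9 (p1u1570) p1r1571

theorem p1r1572 : allRange pointOk 22 29493 9 = true := by decide +kernel
theorem p1u1572 : ∀ k, 15345 ≤ k → k < 29502 → pointOk (k * 22) = true := between_extend pointOk 22 15345 29493 9 (p1u1571) p1r1572

theorem p1r1573 : allRange pointOk 22 29502 9 = true := by decide +kernel
theorem p1u1573 : ∀ k, 15345 ≤ k → k < 29511 → pointOk (k * 22) = true := between_extend pointOk 22 15345 29502 9 (p1u1572) p1r1573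

theorem p1r1574 : allRange pointOk 22 29511 9 = true := by decide +kernel
theorem p1u1574 : ∀ k, 15345 ≤ k → k < 29520 → pointOk (k * 22) = true := between_extend pointOk 22 15345 29511 9 (p1u1573) p1r1574

theorem p1r1575 : allRange pointOk 22 29520 9 = true := by decide +kernel
theorem p1u1575 : ∀ k, 15345 ≤ k → k < 29529 → pointOk (k * 22) = true := between_extend pointOk 22 15345 29520 9 (p1u1574) p1r1575

theorem p1r1576 : allRange pointOk 22 29529 9 = true := by decide +kernel
theorem p1u1576 : ∀ k, 15345 ≤ k → k < 29538 → pointOk (k * 22) = true := between_extend pointOk 22 15345 29529 9 (p1u1575) p1r1576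

theorem p1r1577 : allRange pointOk 22 29538 9 = true := by decide +kernel
theorem p1u1577 : ∀ k, 15345 ≤ k → k < 29547 → pointOk (k * 22) = true := between_extend pointOk 22 15345 29538 9 (p1u1576) p1r1577

theorem p1r1578 : allRange pointOk 22 29547 9 = true := by decide +kernel
theorem p1u1578 : ∀ k, 15345 ≤ k → k < 29556 → pointOk (k * 22) = true := between_extend pointOk 22 15345 29547 9 (p1u1577) p1r1578

theorem p1r1579 : allRange pointOk 22 29556 9 = true := by decide +kernel
theorem p1u1579 : ∀ k, 15345 ≤ k → k < 29565 → pointOk (k * 22) = true := between_extend pointOk 22 15345 29556 9 (p1u1578) p1r1579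

theorem p1r1580 : allRange pointOk 22 29565 9 = true := by decide +kernel
theorem p1u1580 : ∀ k, 15345 ≤ k → k < 29574 → pointOk (k * 22) = true := between_extend pointOk 22 15345 29565 9 (p1u1579) p1r1580

theorem p1r1581 : allRange pointOk 22 29574 9 = true := by decide +kernel
theorem p1u1581 : ∀ k, 15345 ≤ k → k < 29583 → pointOk (k * 22) = true := between_extend pointOk 22 15345 29574 9 (p1u1580) p1r1581

theorem p1r1582 : allRange pointOk 22 29583 9 = true := by decide +kernel
theorem p1u1582 : ∀ k, 15345 ≤ k → k < 29592 → pointOk (k * 22) = true := between_extend pointOk 22 15345 29583 9 (p1u1581) p1r1582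

theorem p1r1583 : allRange pointOk 22 29592 9 = true := by decide +kernel
theorem p1u1583 : ∀ k, 15345 ≤ k → k < 29601 → pointOk (k * 22) = true := between_extend pointOk 22 15345 29592 9 (p1u1582) p1r1583

theorem p1r1584 : allRange pointOk 22 29601 9 = true := by decide +kernel
theorem p1u1584 : ∀ k, 15345 ≤ k → k < 29610 → pointOk (k * 22) = true := between_extend pointOk 22 15345 29601 9 (p1u1583) p1r1584

theorem p1r1585 : allRange pointOk 22 29610 9 = true := by decide +kernel
theorem p1u1585 : ∀ k, 15345 ≤ k → k < 29619 → pointOk (k * 22) = true := between_extend pointOk 22 15345 29610 9 (p1u1584) p1r1585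

theorem p1r1586 : allRange pointOk 22 29619 9 = true := by decide +kernel
theorem p1u1586 : ∀ k, 15345 ≤ k → k < 29628 → pointOk (k * 22) = true := between_extend pointOk 22 15345 29619 9 (p1u1585) p1r1586

theorem p1r1587 : allRange pointOk 22 29628 9 = true := by decide +kernel
theorem p1u1587 : ∀ k, 15345 ≤ k → k < 29637 → pointOk (k * 22) = true := between_extend pointOk 22 15345 29628 9 (p1u1586) p1r1587

theorem p1r1588 : allRange pointOk 22 29637 9 = true := by decide +kernel
theorem p1u1588 : ∀ k, 15345 ≤ k → k < 29646 → pointOk (k * 22) = true := between_extend pointOk 22 15345 29637 9 (p1u1587) p1r1588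

theorem p1r1589 : allRange pointOk 22 29646 9 = true := by decide +kernel
theorem p1u1589 : ∀ k, 15345 ≤ k → k < 29655 → pointOk (k * 22) = true := between_extend pointOk 22 15345 29646 9 (p1u1588) p1r1589

theorem p1r1590 : allRange pointOk 22 29655 9 = true := by decide +kernel
theorem p1u1590 : ∀ k, 15345 ≤ k → k < 29664 → pointOk (k * 22) = true := between_extend pointOk 22 15345 29655 9 (p1u1589) p1r1590

theorem p1r1591 : allRange pointOk 22 29664 9 = true := by decide +kernel
theorem p1u1591 : ∀ k, 15345 ≤ k → k < 29673 → pointOk (k * 22) = true := between_extend pointOk 22 15345 29664 9 (p1u1590) p1r1591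

theorem p1r1592 : allRange pointOk 22 29673 9 = true := by decide +kernel
theorem p1u1592 : ∀ k, 15345 ≤ k → k < 29682 → pointOk (k * 22) = true := between_extend pointOk 22 15345 29673 9 (p1u1591) p1r1592

theorem p1r1593 : allRange pointOk 22 29682 9 = true := by decide +kernel
theorem p1u1593 : ∀ k, 15345 ≤ k → k < 29691 → pointOk (k * 22) = true := between_extend pointOk 22 15345 29682 9 (p1u1592) p1r1593

theorem p1r1594 : allRange pointOk 22 29691 9 = true := by decide +kernel
theorem p1u1594 : ∀ k, 15345 ≤ k → k < 29700 → pointOk (k * 22) = true := between_extend pointOk 22 15345 29691 9 (p1u1593) p1r1594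

theorem p1r1595 : allRange pointOk 22 29700 9 = true := by decide +kernel
theorem p1u1595 : ∀ k, 15345 ≤ k → k < 29709 → pointOk (k * 22) = true := between_extend pointOk 22 15345 29700 9 (p1u1594) p1r1595

theorem p1r1596 : allRange pointOk 22 29709 9 = true := by decide +kernel
theorem p1u1596 : ∀ k, 15345 ≤ k → k < 29718 → pointOk (k * 22) = true := between_extend pointOk 22 15345 29709 9 (p1u1595) p1r1596

theorem p1r1597 : allRange pointOk 22 29718 9 = true := by decide +kernel
theorem p1u1597 : ∀ k, 15345 ≤ k → k < 29727 → pointOk (k * 22) = true := between_extend pointOk 22 15345 29718 9 (p1u1596) p1r1597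

theorem p1r1598 : allRange pointOk 22 29727 9 = true := by decide +kernel
theorem p1u1598 : ∀ k, 15345 ≤ k → k < 29736 → pointOk (k * 22) = true := between_extend pointOk 22 15345 29727 9 (p1u1597) p1r1598

theorem p1r1599 : allRange pointOk 22 29736 9 = true := by decide +kernel
theorem p1u1599 : ∀ k, 15345 ≤ k → k < 29745 → pointOk (k * 22) = true := between_extend pointOk 22 15345 29736 9 (p1u1598) p1r1599

theorem p1r1600 : allRange pointOk 22 29745 9 = true := by decide +kernel
theorem p1u1600 : ∀ k, 15345 ≤ k → k < 29754 → pointOk (k * 22) = true := between_extend pointOk 22 15345 29745 9 (p1u1599) p1r1600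

theorem p1r1601 : allRange pointOk 22 29754 9 = true := by decide +kernel
theorem p1u1601 : ∀ k, 15345 ≤ k → k < 29763 → pointOk (k * 22) = true := between_extend pointOk 22 15345 29754 9 (p1u1600) p1r1601

theorem p1r1602 : allRange pointOk 22 29763 9 = true := by decide +kernel
theorem p1u1602 : ∀ k, 15345 ≤ k → k < 29772 → pointOk (k * 22) = true := between_extend pointOk 22 15345 29763 9 (p1u1601) p1r1602

theorem p1r1603 : allRange pointOk 22 29772 9 = true := by decide +kernel
theorem p1u1603 : ∀ k, 15345 ≤ k → k < 29781 → pointOk (k * 22) = true := between_extend pointOk 22 15345 29772 9 (p1u1602) p1r1603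

theorem p1r1604 : allRange pointOk 22 29781 9 = true := by decide +kernel
theorem p1u1604 : ∀ k, 15345 ≤ k → k < 29790 → pointOk (k * 22) = true := between_extend pointOk 22 15345 29781 9 (p1u1603) p1r1604

theorem p1r1605 : allRange pointOk 22 29790 9 = true := by decide +kernel
theorem p1u1605 : ∀ k, 15345 ≤ k → k < 29799 → pointOk (k * 22) = true := between_extend pointOk 22 15345 29790 9 (p1u1604) p1r1605

theorem p1r1606 : allRange pointOk 22 29799 9 = true := by decide +kernel
theorem p1u1606 : ∀ k, 15345 ≤ k → k < 29808 → pointOk (k * 22) = true := between_extend pointOk 22 15345 29799 9 (p1u1605) p1r1606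

theorem p1r1607 : allRange pointOk 22 29808 9 = true := by decide +kernel
theorem p1u1607 : ∀ k, 15345 ≤ k → k < 29817 → pointOk (k * 22) = true := between_extend pointOk 22 15345 29808 9 (p1u1606) p1r1607

theorem p1r1608 : allRange pointOk 22 29817 9 = true := by decide +kernel
theorem p1u1608 : ∀ k, 15345 ≤ k → k < 29826 → pointOk (k * 22) = true := between_extend pointOk 22 15345 29817 9 (p1u1607) p1r1608

theorem p1r1609 : allRange pointOk 22 29826 9 = true := by decide +kernel
theorem p1u1609 : ∀ k, 15345 ≤ k → k < 29835 → pointOk (k * 22) = true := between_extend pointOk 22 15345 29826 9 (p1u1608) p1r1609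

theorem p1r1610 : allRange pointOk 22 29835 9 = true := by decide +kernel
theorem p1u1610 : ∀ k, 15345 ≤ k → k < 29844 → pointOk (k * 22) = true := between_extend pointOk 22 15345 29835 9 (p1u1609) p1r1610

theorem p1r1611 : allRange pointOk 22 29844 9 = true := by decide +kernel
theorem p1u1611 : ∀ k, 15345 ≤ k → k < 29853 → pointOk (k * 22) = true := between_extend pointOk 22 15345 29844 9 (p1u1610) p1r1611

theorem p1r1612 : allRange pointOk 22 29853 9 = true := by decide +kernel
theorem p1u1612 : ∀ k, 15345 ≤ k → k < 29862 → pointOk (k * 22) = true := between_extend pointOk 22 15345 29853 9 (p1u1611) p1r1612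

theorem p1r1613 : allRange pointOk 22 29862 9 = true := by decide +kernel
theorem p1u1613 : ∀ k, 15345 ≤ k → k < 29871 → pointOk (k * 22) = true := between_extend pointOk 22 15345 29862 9 (p1u1612) p1r1613

theorem p1r1614 : allRange pointOk 22 29871 9 = true := by decide +kernel
theorem p1u1614 : ∀ k, 15345 ≤ k → k < 29880 → pointOk (k * 22) = true := between_extend pointOk 22 15345 29871 9 (p1u1613) p1r1614

theorem p1r1615 : allRange pointOk 22 29880 9 = true := by decide +kernel
theorem p1u1615 : ∀ k, 15345 ≤ k → k < 29889 → pointOk (k * 22) = true := between_extend pointOk 22 15345 29880 9 (p1u1614) p1r1615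

theorem p1r1616 : allRange pointOk 22 29889 9 = true := by decide +kernel
theorem p1u1616 : ∀ k, 15345 ≤ k → k < 29898 → pointOk (k * 22) = true := between_extend pointOk 22 15345 29889 9 (p1u1615) p1r1616

theorem p1r1617 : allRange pointOk 22 29898 9 = true := by decide +kernel
theorem p1u1617 : ∀ k, 15345 ≤ k → k < 29907 → pointOk (k * 22) = true := between_extend pointOk 22 15345 29898 9 (p1u1616) p1r1617

theorem p1r1618 : allRange pointOk 22 29907 9 = true := by decide +kernel
theorem p1u1618 : ∀ k, 15345 ≤ k → k < 29916 → pointOk (k * 22) = true := between_extend pointOk 22 15345 29907 9 (p1u1617) p1r1618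

theorem p1r1619 : allRange pointOk 22 29916 9 = true := by decide +kernel
theorem p1u1619 : ∀ k, 15345 ≤ k → k < 29925 → pointOk (k * 22) = true := between_extend pointOk 22 15345 29916 9 (p1u1618) p1r1619

theorem p1r1620 : allRange pointOk 22 29925 9 = true := by decide +kernel
theorem p1u1620 : ∀ k, 15345 ≤ k → k < 29934 → pointOk (k * 22) = true := between_extend pointOk 22 15345 29925 9 (p1u1619) p1r1620

theorem p1r1621 : allRange pointOk 22 29934 9 = true := by decide +kernel
theorem p1u1621 : ∀ k, 15345 ≤ k → k < 29943 → pointOk (k * 22) = true := between_extend pointOk 22 15345 29934 9 (p1u1620) p1r1621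

theorem p1r1622 : allRange pointOk 22 29943 9 = true := by decide +kernel
theorem p1u1622 : ∀ k, 15345 ≤ k → k < 29952 → pointOk (k * 22) = true := between_extend pointOk 22 15345 29943 9 (p1u1621) p1r1622

theorem p1r1623 : allRange pointOk 22 29952 9 = true := by decide +kernel
theorem p1u1623 : ∀ k, 15345 ≤ k → k < 29961 → pointOk (k * 22) = true := between_extend pointOk 22 15345 29952 9 (p1u1622) p1r1623

theorem p1r1624 : allRange pointOk 22 29961 9 = true := by decide +kernel
theorem p1u1624 : ∀ k, 15345 ≤ k → k < 29970 → pointOk (k * 22) = true := between_extend pointOk 22 15345 29961 9 (p1u1623) p1r1624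

theorem p1r1625 : allRange pointOk 22 29970 9 = true := by decide +kernel
theorem p1u1625 : ∀ k, 15345 ≤ k → k < 29979 → pointOk (k * 22) = true := between_extend pointOk 22 15345 29970 9 (p1u1624) p1r1625

theorem p1r1626 : allRange pointOk 22 29979 9 = true := by decide +kernel
theorem p1u1626 : ∀ k, 15345 ≤ k → k < 29988 → pointOk (k * 22) = true := between_extend pointOk 22 15345 29979 9 (p1u1625) p1r1626

theorem p1r1627 : allRange pointOk 22 29988 9 = true := by decide +kernel
theorem p1u1627 : ∀ k, 15345 ≤ k → k < 29997 → pointOk (k * 22) = true := between_extend pointOk 22 15345 29988 9 (p1u1626) p1r1627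

theorem p1r1628 : allRange pointOk 22 29997 9 = true := by decide +kernel
theorem p1u1628 : ∀ k, 15345 ≤ k → k < 30006 → pointOk (k * 22) = true := between_extend pointOk 22 15345 29997 9 (p1u1627) p1r1628

theorem p1r1629 : allRange pointOk 22 30006 9 = true := by decide +kernel
theorem p1u1629 : ∀ k, 15345 ≤ k → k < 30015 → pointOk (k * 22) = true := between_extend pointOk 22 15345 30006 9 (p1u1628) p1r1629

theorem p1r1630 : allRange pointOk 22 30015 9 = true := by decide +kernel
theorem p1u1630 : ∀ k, 15345 ≤ k → k < 30024 → pointOk (k * 22) = true := between_extend pointOk 22 15345 30015 9 (p1u1629) p1r1630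

theorem p1r1631 : allRange pointOk 22 30024 9 = true := by decide +kernel
theorem p1u1631 : ∀ k, 15345 ≤ k → k < 30033 → pointOk (k * 22) = true := between_extend pointOk 22 15345 30024 9 (p1u1630) p1r1631

theorem p1r1632 : allRange pointOk 22 30033 9 = true := by decide +kernel
theorem p1u1632 : ∀ k, 15345 ≤ k → k < 30042 → pointOk (k * 22) = true := between_extend pointOk 22 15345 30033 9 (p1u1631) p1r1632

theorem p1r1633 : allRange pointOk 22 30042 9 = true := by decide +kernel
theorem p1u1633 : ∀ k, 15345 ≤ k → k < 30051 → pointOk (k * 22) = true := between_extend pointOk 22 15345 30042 9 (p1u1632) p1r1633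

theorem p1r1634 : allRange pointOk 22 30051 9 = true := by decide +kernel
theorem p1u1634 : ∀ k, 15345 ≤ k → k < 30060 → pointOk (k * 22) = true := between_extend pointOk 22 15345 30051 9 (p1u1633) p1r1634

theorem p1r1635 : allRange pointOk 22 30060 9 = true := by decide +kernel
theorem p1u1635 : ∀ k, 15345 ≤ k → k < 30069 → pointOk (k * 22) = true := between_extend pointOk 22 15345 30060 9 (p1u1634) p1r1635

theorem p1r1636 : allRange pointOk 22 30069 9 = true := by decide +kernel
theorem p1u1636 : ∀ k, 15345 ≤ k → k < 30078 → pointOk (k * 22) = true := between_extend pointOk 22 15345 30069 9 (p1u1635) p1r1636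

theorem p1r1637 : allRange pointOk 22 30078 9 = true := by decide +kernel
theorem p1u1637 : ∀ k, 15345 ≤ k → k < 30087 → pointOk (k * 22) = true := between_extend pointOk 22 15345 30078 9 (p1u1636) p1r1637

theorem p1r1638 : allRange pointOk 22 30087 9 = true := by decide +kernel
theorem p1u1638 : ∀ k, 15345 ≤ k → k < 30096 → pointOk (k * 22) = true := between_extend pointOk 22 15345 30087 9 (p1u1637) p1r1638

theorem p1r1639 : allRange pointOk 22 30096 9 = true := by decide +kernel
theorem p1u1639 : ∀ k, 15345 ≤ k → k < 30105 → pointOk (k * 22) = true := between_extend pointOk 22 15345 30096 9 (p1u1638) p1r1639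

theorem p1r1640 : allRange pointOk 22 30105 9 = true := by decide +kernel
theorem p1u1640 : ∀ k, 15345 ≤ k → k < 30114 → pointOk (k * 22) = true := between_extend pointOk 22 15345 30105 9 (p1u1639) p1r1640

theorem p1r1641 : allRange pointOk 22 30114 9 = true := by decide +kernel
theorem p1u1641 : ∀ k, 15345 ≤ k → k < 30123 → pointOk (k * 22) = true := between_extend pointOk 22 15345 30114 9 (p1u1640) p1r1641

theorem p1r1642 : allRange pointOk 22 30123 9 = true := by decide +kernel
theorem p1u1642 : ∀ k, 15345 ≤ k → k < 30132 → pointOk (k * 22) = true := between_extend pointOk 22 15345 30123 9 (p1u1641) p1r1642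

theorem p1r1643 : allRange pointOk 22 30132 9 = true := by decide +kernel
theorem p1u1643 : ∀ k, 15345 ≤ k → k < 30141 → pointOk (k * 22) = true := between_extend pointOk 22 15345 30132 9 (p1u1642) p1r1643

theorem p1r1644 : allRange pointOk 22 30141 9 = true := by decide +kernel
theorem p1u1644 : ∀ k, 15345 ≤ k → k < 30150 → pointOk (k * 22) = true := between_extend pointOk 22 15345 30141 9 (p1u1643) p1r1644

theorem p1r1645 : allRange pointOk 22 30150 9 = true := by decide +kernel
theorem p1u1645 : ∀ k, 15345 ≤ k → k < 30159 → pointOk (k * 22) = true := between_extend pointOk 22 15345 30150 9 (p1u1644) p1r1645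

theorem p1r1646 : allRange pointOk 22 30159 9 = true := by decide +kernel
theorem p1u1646 : ∀ k, 15345 ≤ k → k < 30168 → pointOk (k * 22) = true := between_extend pointOk 22 15345 30159 9 (p1u1645) p1r1646

theorem p1r1647 : allRange pointOk 22 30168 9 = true := by decide +kernel
theorem p1u1647 : ∀ k, 15345 ≤ k → k < 30177 → pointOk (k * 22) = true := between_extend pointOk 22 15345 30168 9 (p1u1646) p1r1647

theorem p1r1648 : allRange pointOk 22 30177 9 = true := by decide +kernel
theorem p1u1648 : ∀ k, 15345 ≤ k → k < 30186 → pointOk (k * 22) = true := between_extend pointOk 22 15345 30177 9 (p1u1647) p1r1648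

theorem p1r1649 : allRange pointOk 22 30186 9 = true := by decide +kernel
theorem p1u1649 : ∀ k, 15345 ≤ k → k < 30195 → pointOk (k * 22) = true := between_extend pointOk 22 15345 30186 9 (p1u1648) p1r1649

theorem p1r1650 : allRange pointOk 22 30195 9 = true := by decide +kernel
theorem p1u1650 : ∀ k, 15345 ≤ k → k < 30204 → pointOk (k * 22) = true := between_extend pointOk 22 15345 30195 9 (p1u1649) p1r1650

theorem p1r1651 : allRange pointOk 22 30204 9 = true := by decide +kernel
theorem p1u1651 : ∀ k, 15345 ≤ k → k < 30213 → pointOk (k * 22) = true := between_extend pointOk 22 15345 30204 9 (p1u1650) p1r1651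

theorem p1r1652 : allRange pointOk 22 30213 9 = true := by decide +kernel
theorem p1u1652 : ∀ k, 15345 ≤ k → k < 30222 → pointOk (k * 22) = true := between_extend pointOk 22 15345 30213 9 (p1u1651) p1r1652

theorem p1r1653 : allRange pointOk 22 30222 9 = true := by decide +kernel
theorem p1u1653 : ∀ k, 15345 ≤ k → k < 30231 → pointOk (k * 22) = true := between_extend pointOk 22 15345 30222 9 (p1u1652) p1r1653

theorem p1r1654 : allRange pointOk 22 30231 9 = true := by decide +kernel
theorem p1u1654 : ∀ k, 15345 ≤ k → k < 30240 → pointOk (k * 22) = true := between_extend pointOk 22 15345 30231 9 (p1u1653) p1r1654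

theorem p1r1655 : allRange pointOk 22 30240 9 = true := by decide +kernel
theorem p1u1655 : ∀ k, 15345 ≤ k → k < 30249 → pointOk (k * 22) = true := between_extend pointOk 22 15345 30240 9 (p1u1654) p1r1655

theorem p1r1656 : allRange pointOk 22 30249 9 = true := by decide +kernel
theorem p1u1656 : ∀ k, 15345 ≤ k → k < 30258 → pointOk (k * 22) = true := between_extend pointOk 22 15345 30249 9 (p1u1655) p1r1656

theorem p1r1657 : allRange pointOk 22 30258 9 = true := by decide +kernel
theorem p1u1657 : ∀ k, 15345 ≤ k → k < 30267 → pointOk (k * 22) = true := between_extend pointOk 22 15345 30258 9 (p1u1656) p1r1657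

theorem p1r1658 : allRange pointOk 22 30267 9 = true := by decide +kernel
theorem p1u1658 : ∀ k, 15345 ≤ k → k < 30276 → pointOk (k * 22) = true := between_extend pointOk 22 15345 30267 9 (p1u1657) p1r1658

theorem p1r1659 : allRange pointOk 22 30276 9 = true := by decide +kernel
theorem p1u1659 : ∀ k, 15345 ≤ k → k < 30285 → pointOk (k * 22) = true := between_extend pointOk 22 15345 30276 9 (p1u1658) p1r1659

theorem p1r1660 : allRange pointOk 22 30285 9 = true := by decide +kernel
theorem p1u1660 : ∀ k, 15345 ≤ k → k < 30294 → pointOk (k * 22) = true := between_extend pointOk 22 15345 30285 9 (p1u1659) p1r1660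

theorem p1r1661 : allRange pointOk 22 30294 9 = true := by decide +kernel
theorem p1u1661 : ∀ k, 15345 ≤ k → k < 30303 → pointOk (k * 22) = true := between_extend pointOk 22 15345 30294 9 (p1u1660) p1r1661

theorem p1r1662 : allRange pointOk 22 30303 9 = true := by decide +kernel
theorem p1u1662 : ∀ k, 15345 ≤ k → k < 30312 → pointOk (k * 22) = true := between_extend pointOk 22 15345 30303 9 (p1u1661) p1r1662

theorem p1r1663 : allRange pointOk 22 30312 9 = true := by decide +kernel
theorem p1u1663 : ∀ k, 15345 ≤ k → k < 30321 → pointOk (k * 22) = true := between_extend pointOk 22 15345 30312 9 (p1u1662) p1r1663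

theorem p1r1664 : allRange pointOk 22 30321 9 = true := by decide +kernel
theorem p1u1664 : ∀ k, 15345 ≤ k → k < 30330 → pointOk (k * 22) = true := between_extend pointOk 22 15345 30321 9 (p1u1663) p1r1664

theorem p1r1665 : allRange pointOk 22 30330 9 = true := by decide +kernel
theorem p1u1665 : ∀ k, 15345 ≤ k → k < 30339 → pointOk (k * 22) = true := between_extend pointOk 22 15345 30330 9 (p1u1664) p1r1665

theorem p1r1666 : allRange pointOk 22 30339 9 = true := by decide +kernel
theorem p1u1666 : ∀ k, 15345 ≤ k → k < 30348 → pointOk (k * 22) = true := between_extend pointOk 22 15345 30339 9 (p1u1665) p1r1666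

theorem p1r1667 : allRange pointOk 22 30348 9 = true := by decide +kernel
theorem p1u1667 : ∀ k, 15345 ≤ k → k < 30357 → pointOk (k * 22) = true := between_extend pointOk 22 15345 30348 9 (p1u1666) p1r1667

theorem p1r1668 : allRange pointOk 22 30357 9 = true := by decide +kernel
theorem p1u1668 : ∀ k, 15345 ≤ k → k < 30366 → pointOk (k * 22) = true := between_extend pointOk 22 15345 30357 9 (p1u1667) p1r1668

theorem p1r1669 : allRange pointOk 22 30366 9 = true := by decide +kernel
theorem p1u1669 : ∀ k, 15345 ≤ k → k < 30375 → pointOk (k * 22) = true := between_extend pointOk 22 15345 30366 9 (p1u1668) p1r1669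

theorem p1r1670 : allRange pointOk 22 30375 9 = true := by decide +kernel
theorem p1u1670 : ∀ k, 15345 ≤ k → k < 30384 → pointOk (k * 22) = true := between_extend pointOk 22 15345 30375 9 (p1u1669) p1r1670

theorem p1r1671 : allRange pointOk 22 30384 9 = true := by decide +kernel
theorem p1u1671 : ∀ k, 15345 ≤ k → k < 30393 → pointOk (k * 22) = true := between_extend pointOk 22 15345 30384 9 (p1u1670) p1r1671

theorem p1r1672 : allRange pointOk 22 30393 9 = true := by decide +kernel
theorem p1u1672 : ∀ k, 15345 ≤ k → k < 30402 → pointOk (k * 22) = true := between_extend pointOk 22 15345 30393 9 (p1u1671) p1r1672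

theorem p1r1673 : allRange pointOk 22 30402 9 = true := by decide +kernel
theorem p1u1673 : ∀ k, 15345 ≤ k → k < 30411 → pointOk (k * 22) = true := between_extend pointOk 22 15345 30402 9 (p1u1672) p1r1673

theorem p1r1674 : allRange pointOk 22 30411 9 = true := by decide +kernel
theorem p1u1674 : ∀ k, 15345 ≤ k → k < 30420 → pointOk (k * 22) = true := between_extend pointOk 22 15345 30411 9 (p1u1673) p1r1674

theorem p1r1675 : allRange pointOk 22 30420 9 = true := by decide +kernel
theorem p1u1675 : ∀ k, 15345 ≤ k → k < 30429 → pointOk (k * 22) = true := between_extend pointOk 22 15345 30420 9 (p1u1674) p1r1675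

theorem p1r1676 : allRange pointOk 22 30429 9 = true := by decide +kernel
theorem p1u1676 : ∀ k, 15345 ≤ k → k < 30438 → pointOk (k * 22) = true := between_extend pointOk 22 15345 30429 9 (p1u1675) p1r1676

theorem p1r1677 : allRange pointOk 22 30438 9 = true := by decide +kernel
theorem p1u1677 : ∀ k, 15345 ≤ k → k < 30447 → pointOk (k * 22) = true := between_extend pointOk 22 15345 30438 9 (p1u1676) p1r1677

theorem p1r1678 : allRange pointOk 22 30447 9 = true := by decide +kernel
theorem p1u1678 : ∀ k, 15345 ≤ k → k < 30456 → pointOk (k * 22) = true := between_extend pointOk 22 15345 30447 9 (p1u1677) p1r1678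

theorem p1r1679 : allRange pointOk 22 30456 9 = true := by decide +kernel
theorem p1u1679 : ∀ k, 15345 ≤ k → k < 30465 → pointOk (k * 22) = true := between_extend pointOk 22 15345 30456 9 (p1u1678) p1r1679

theorem p1r1680 : allRange pointOk 22 30465 9 = true := by decide +kernel
theorem p1u1680 : ∀ k, 15345 ≤ k → k < 30474 → pointOk (k * 22) = true := between_extend pointOk 22 15345 30465 9 (p1u1679) p1r1680

theorem p1r1681 : allRange pointOk 22 30474 9 = true := by decide +kernel
theorem p1u1681 : ∀ k, 15345 ≤ k → k < 30483 → pointOk (k * 22) = true := between_extend pointOk 22 15345 30474 9 (p1u1680) p1r1681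

theorem p1r1682 : allRange pointOk 22 30483 9 = true := by decide +kernel
theorem p1u1682 : ∀ k, 15345 ≤ k → k < 30492 → pointOk (k * 22) = true := between_extend pointOk 22 15345 30483 9 (p1u1681) p1r1682

theorem p1r1683 : allRange pointOk 22 30492 9 = true := by decide +kernel
theorem p1u1683 : ∀ k, 15345 ≤ k → k < 30501 → pointOk (k * 22) = true := between_extend pointOk 22 15345 30492 9 (p1u1682) p1r1683

theorem p1r1684 : allRange pointOk 22 30501 9 = true := by decide +kernel
theorem p1u1684 : ∀ k, 15345 ≤ k → k < 30510 → pointOk (k * 22) = true := between_extend pointOk 22 15345 30501 9 (p1u1683) p1r1684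

theorem p1r1685 : allRange pointOk 22 30510 9 = true := by decide +kernel
theorem p1u1685 : ∀ k, 15345 ≤ k → k < 30519 → pointOk (k * 22) = true := between_extend pointOk 22 15345 30510 9 (p1u1684) p1r1685

theorem p1r1686 : allRange pointOk 22 30519 9 = true := by decide +kernel
theorem p1u1686 : ∀ k, 15345 ≤ k → k < 30528 → pointOk (k * 22) = true := between_extend pointOk 22 15345 30519 9 (p1u1685) p1r1686

theorem p1r1687 : allRange pointOk 22 30528 9 = true := by decide +kernel
theorem p1u1687 : ∀ k, 15345 ≤ k → k < 30537 → pointOk (k * 22) = true := between_extend pointOk 22 15345 30528 9 (p1u1686) p1r1687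

theorem p1r1688 : allRange pointOk 22 30537 9 = true := by decide +kernel
theorem p1u1688 : ∀ k, 15345 ≤ k → k < 30546 → pointOk (k * 22) = true := between_extend pointOk 22 15345 30537 9 (p1u1687) p1r1688

theorem p1r1689 : allRange pointOk 22 30546 9 = true := by decide +kernel
theorem p1u1689 : ∀ k, 15345 ≤ k → k < 30555 → pointOk (k * 22) = true := between_extend pointOk 22 15345 30546 9 (p1u1688) p1r1689

theorem p1r1690 : allRange pointOk 22 30555 9 = true := by decide +kernel
theorem p1u1690 : ∀ k, 15345 ≤ k → k < 30564 → pointOk (k * 22) = true := between_extend pointOk 22 15345 30555 9 (p1u1689) p1r1690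

theorem p1r1691 : allRange pointOk 22 30564 9 = true := by decide +kernel
theorem p1u1691 : ∀ k, 15345 ≤ k → k < 30573 → pointOk (k * 22) = true := between_extend pointOk 22 15345 30564 9 (p1u1690) p1r1691

theorem p1r1692 : allRange pointOk 22 30573 9 = true := by decide +kernel
theorem p1u1692 : ∀ k, 15345 ≤ k → k < 30582 → pointOk (k * 22) = true := between_extend pointOk 22 15345 30573 9 (p1u1691) p1r1692

theorem p1r1693 : allRange pointOk 22 30582 9 = true := by decide +kernel
theorem p1u1693 : ∀ k, 15345 ≤ k → k < 30591 → pointOk (k * 22) = true := between_extend pointOk 22 15345 30582 9 (p1u1692) p1r1693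

theorem p1r1694 : allRange pointOk 22 30591 9 = true := by decide +kernel
theorem p1u1694 : ∀ k, 15345 ≤ k → k < 30600 → pointOk (k * 22) = true := between_extend pointOk 22 15345 30591 9 (p1u1693) p1r1694

theorem p1r1695 : allRange pointOk 22 30600 9 = true := by decide +kernel
theorem p1u1695 : ∀ k, 15345 ≤ k → k < 30609 → pointOk (k * 22) = true := between_extend pointOk 22 15345 30600 9 (p1u1694) p1r1695

theorem p1r1696 : allRange pointOk 22 30609 9 = true := by decide +kernel
theorem p1u1696 : ∀ k, 15345 ≤ k → k < 30618 → pointOk (k * 22) = true := between_extend pointOk 22 15345 30609 9 (p1u1695) p1r1696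

theorem p1r1697 : allRange pointOk 22 30618 9 = true := by decide +kernel
theorem p1u1697 : ∀ k, 15345 ≤ k → k < 30627 → pointOk (k * 22) = true := between_extend pointOk 22 15345 30618 9 (p1u1696) p1r1697

theorem p1r1698 : allRange pointOk 22 30627 9 = true := by decide +kernel
theorem p1u1698 : ∀ k, 15345 ≤ k → k < 30636 → pointOk (k * 22) = true := between_extend pointOk 22 15345 30627 9 (p1u1697) p1r1698

theorem p1r1699 : allRange pointOk 22 30636 9 = true := by decide +kernel
theorem p1u1699 : ∀ k, 15345 ≤ k → k < 30645 → pointOk (k * 22) = true := between_extend pointOk 22 15345 30636 9 (p1u1698) p1r1699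

theorem p1r1700 : allRange pointOk 22 30645 9 = true := by decide +kernel
theorem p1u1700 : ∀ k, 15345 ≤ k → k < 30654 → pointOk (k * 22) = true := between_extend pointOk 22 15345 30645 9 (p1u1699) p1r1700

theorem p1r1701 : allRange pointOk 22 30654 9 = true := by decide +kernel
theorem p1u1701 : ∀ k, 15345 ≤ k → k < 30663 → pointOk (k * 22) = true := between_extend pointOk 22 15345 30654 9 (p1u1700) p1r1701

theorem p1r1702 : allRange pointOk 22 30663 9 = true := by decide +kernel
theorem p1u1702 : ∀ k, 15345 ≤ k → k < 30672 → pointOk (k * 22) = true := between_extend pointOk 22 15345 30663 9 (p1u1701) p1r1702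

theorem p1r1703 : allRange pointOk 22 30672 9 = true := by decide +kernel
theorem p1u1703 : ∀ k, 15345 ≤ k → k < 30681 → pointOk (k * 22) = true := between_extend pointOk 22 15345 30672 9 (p1u1702) p1r1703

theorem p1r1704 : allRange pointOk 22 30681 9 = true := by decide +kernel
theorem p1u1704 : ∀ k, 15345 ≤ k → k < 30690 → pointOk (k * 22) = true := between_extend pointOk 22 15345 30681 9 (p1u1703) p1r1704

theorem p1 : ∀ k, 15345 ≤ k → k < 30690 → pointOk (k * 22) = true := p1u1704

end Cfsg.Agent.Lib.Helper28_S1692
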