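import Cfsg.Agent.Lib.Helper28_S1692Def

set_option autoImplicit false
set_option linter.constructorNameAsVariable false
set_option Elab.async false

namespace Cfsg.Agent.Lib.Helper28_S1692

open Cfsg.Agent.Lib.Helper28_CosetPerm

theorem p2r0 : allRange pointOk 22 30690 9 = true := by decide +kernel
theorem p2u0 : ∀ k, 30690 ≤ k → k < 30699 → pointOk (k * 22) = true := between_extend pointOk 22 30690 30690 9 (between_start pointOk 22 30690) p2r0

theorem p2r1 : allRange pointOk 22 30699 9 = true := by decide +kernel
theorem p2u1 : ∀ k, 30690 ≤ k → k < 30708 → pointOk (k * 22) = true := between_extend pointOk 22 30690 30699 9 (p2u0) p2r1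

theorem p2r2 : allRange pointOk 22 30708 9 = true := by decide +kernel
theorem p2u2 : ∀ k, 30690 ≤ k → k < 30717 → pointOk (k * 22) = true := between_extend pointOk 22 30690 30708 9 (p2u1) p2r2

theorem p2r3 : allRange pointOk 22 30717 9 = true := by decide +kernel
theorem p2u3 : ∀ k, 30690 ≤ k → k < 30726 → pointOk (k * 22) = true := between_extend pointOk 22 30690 30717 9 (p2u2) p2r3

theorem p2r4 : allRange pointOk 22 30726 9 = true := by decide +kernel
theorem p2u4 : ∀ k, 30690 ≤ k → k < 30735 → pointOk (k * 22) = true := between_extend pointOk 22 30690 30726 9 (p2u3) p2r4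

theorem p2r5 : allRange pointOk 22 30735 9 = true := by decide +kernel
theorem p2u5 : ∀ k, 30690 ≤ k → k < 30744 → pointOk (k * 22) = true := between_extend pointOk 22 30690 30735 9 (p2u4) p2r5

theorem p2r6 : allRange pointOk 22 30744 9 = true := by decide +kernel
theorem p2u6 : ∀ k, 30690 ≤ k → k < 30753 → pointOk (k * 22) = true := between_extend pointOk 22 30690 30744 9 (p2u5) p2r6

theorem p2r7 : allRange pointOk 22 30753 9 = true := by decide +kernel
theorem p2u7 : ∀ k, 30690 ≤ k → k < 30762 → pointOk (k * 22) = true := between_extend pointOk 22 30690 30753 9 (p2u6) p2r7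

theorem p2r8 : allRange pointOk 22 30762 9 = true := by decide +kernel
theorem p2u8 : ∀ k, 30690 ≤ k → k < 30771 → pointOk (k * 22) = true := between_extend pointOk 22 30690 30762 9 (p2u7) p2r8

theorem p2r9 : allRange pointOk 22 30771 9 = true := by decide +kernel
theorem p2u9 : ∀ k, 30690 ≤ k → k < 30780 → pointOk (k * 22) = true := between_extend pointOk 22 30690 30771 9 (p2u8) p2r9

theorem p2r10 : allRange pointOk 22 30780 9 = true := by decide +kernel
theorem p2u10 : ∀ k, 30690 ≤ k → k < 30789 → pointOk (k * 22) = true := between_extend pointOk 22 30690 30780 9 (p2u9) p2r10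

theorem p2r11 : allRange pointOk 22 30789 9 = true := by decide +kernel
theorem p2u11 : ∀ k, 30690 ≤ k → k < 30798 → pointOk (k * 22) = true := between_extend pointOk 22 30690 30789 9 (p2u10) p2r11

theorem p2r12 : allRange pointOk 22 30798 9 = true := by decide +kernel
theorem p2u12 : ∀ k, 30690 ≤ k → k < 30807 → pointOk (k * 22) = true := between_extend pointOk 22 30690 30798 9 (p2u11) p2r12

theorem p2r13 : allRange pointOk 22 30807 9 = true := by decide +kernel
theorem p2u13 : ∀ k, 30690 ≤ k → k < 30816 → pointOk (k * 22) = true := between_extend pointOk 22 30690 30807 9 (p2u12) p2r13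

theorem p2r14 : allRange pointOk 22 30816 9 = true := by decide +kernel
theorem p2u14 : ∀ k, 30690 ≤ k → k < 30825 → pointOk (k * 22) = true := between_extend pointOk 22 30690 30816 9 (p2u13) p2r14

theorem p2r15 : allRange pointOk 22 30825 9 = true := by decide +kernel
theorem p2u15 : ∀ k, 30690 ≤ k → k < 30834 → pointOk (k * 22) = true := between_extend pointOk 22 30690 30825 9 (p2u14) p2r15

theorem p2r16 : allRange pointOk 22 30834 9 = true := by decide +kernel
theorem p2u16 : ∀ k, 30690 ≤ k → k < 30843 → pointOk (k * 22) = true := between_extend pointOk 22 30690 30834 9 (p2u15) p2r16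

theorem p2r17 : allRange pointOk 22 30843 9 = true := by decide +kernel
theorem p2u17 : ∀ k, 30690 ≤ k → k < 30852 → pointOk (k * 22) = true := between_extend pointOk 22 30690 30843 9 (p2u16) p2r17

theorem p2r18 : allRange pointOk 22 30852 9 = true := by decide +kernel
theorem p2u18 : ∀ k, 30690 ≤ k → k < 30861 → pointOk (k * 22) = true := between_extend pointOk 22 30690 30852 9 (p2u17) p2r18

theorem p2r19 : allRange pointOk 22 30861 9 = true := by decide +kernel
theorem p2u19 : ∀ k, 30690 ≤ k → k < 30870 → pointOk (k * 22) = true := between_extend pointOk 22 30690 30861 9 (p2u18) p2r19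

theorem p2r20 : allRange pointOk 22 30870 9 = true := by decide +kernel
theorem p2u20 : ∀ k, 30690 ≤ k → k < 30879 → pointOk (k * 22) = true := between_extend pointOk 22 30690 30870 9 (p2u19) p2r20

theorem p2r21 : allRange pointOk 22 30879 9 = true := by decide +kernel
theorem p2u21 : ∀ k, 30690 ≤ k → k < 30888 → pointOk (k * 22) = true := between_extend pointOk 22 30690 30879 9 (p2u20) p2r21

theorem p2r22 : allRange pointOk 22 30888 9 = true := by decide +kernel
theorem p2u22 : ∀ k, 30690 ≤ k → k < 30897 → pointOk (k * 22) = true := between_extend pointOk 22 30690 30888 9 (p2u21) p2r22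

theorem p2r23 : allRange pointOk 22 30897 9 = true := by decide +kernel
theorem p2u23 : ∀ k, 30690 ≤ k → k < 30906 → pointOk (k * 22) = true := between_extend pointOk 22 30690 30897 9 (p2u22) p2r23

theorem p2r24 : allRange pointOk 22 30906 9 = true := by decide +kernel
theorem p2u24 : ∀ k, 30690 ≤ k → k < 30915 → pointOk (k * 22) = true := between_extend pointOk 22 30690 30906 9 (p2u23) p2r24

theorem p2r25 : allRange pointOk 22 30915 9 = true := by decide +kernel
theorem p2u25 : ∀ k, 30690 ≤ k → k < 30924 → pointOk (k * 22) = true := between_extend pointOk 22 30690 30915 9 (p2u24) p2r25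

theorem p2r26 : allRange pointOk 22 30924 9 = true := by decide +kernel
theorem p2u26 : ∀ k, 30690 ≤ k → k < 30933 → pointOk (k * 22) = true := between_extend pointOk 22 30690 30924 9 (p2u25) p2r26

theorem p2r27 : allRange pointOk 22 30933 9 = true := by decide +kernel
theorem p2u27 : ∀ k, 30690 ≤ k → k < 30942 → pointOk (k * 22) = true := between_extend pointOk 22 30690 30933 9 (p2u26) p2r27

theorem p2r28 : allRange pointOk 22 30942 9 = true := by decide +kernel
theorem p2u28 : ∀ k, 30690 ≤ k → k < 30951 → pointOk (k * 22) = true := between_extend pointOk 22 30690 30942 9 (p2u27) p2r28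

theorem p2r29 : allRange pointOk 22 30951 9 = true := by decide +kernel
theorem p2u29 : ∀ k, 30690 ≤ k → k < 30960 → pointOk (k * 22) = true := between_extend pointOk 22 30690 30951 9 (p2u28) p2r29

theorem p2r30 : allRange pointOk 22 30960 9 = true := by decide +kernel
theorem p2u30 : ∀ k, 30690 ≤ k → k < 30969 → pointOk (k * 22) = true := between_extend pointOk 22 30690 30960 9 (p2u29) p2r30

theorem p2r31 : allRange pointOk 22 30969 9 = true := by decide +kernel
theorem p2u31 : ∀ k, 30690 ≤ k → k < 30978 → pointOk (k * 22) = true := between_extend pointOk 22 30690 30969 9 (p2u30) p2r31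

theorem p2r32 : allRange pointOk 22 30978 9 = true := by decide +kernel
theorem p2u32 : ∀ k, 30690 ≤ k → k < 30987 → pointOk (k * 22) = true := between_extend pointOk 22 30690 30978 9 (p2u31) p2r32

theorem p2r33 : allRange pointOk 22 30987 9 = true := by decide +kernel
theorem p2u33 : ∀ k, 30690 ≤ k → k < 30996 → pointOk (k * 22) = true := between_extend pointOk 22 30690 30987 9 (p2u32) p2r33

theorem p2r34 : allRange pointOk 22 30996 9 = true := by decide +kernel
theorem p2u34 : ∀ k, 30690 ≤ k → k < 31005 → pointOk (k * 22) = true := between_extend pointOk 22 30690 30996 9 (p2u33) p2r34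

theorem p2r35 : allRange pointOk 22 31005 9 = true := by decide +kernel
theorem p2u35 : ∀ k, 30690 ≤ k → k < 31014 → pointOk (k * 22) = true := between_extend pointOk 22 30690 31005 9 (p2u34) p2r35

theorem p2r36 : allRange pointOk 22 31014 9 = true := by decide +kernel
theorem p2u36 : ∀ k, 30690 ≤ k → k < 31023 → pointOk (k * 22) = true := between_extend pointOk 22 30690 31014 9 (p2u35) p2r36

theorem p2r37 : allRange pointOk 22 31023 9 = true := by decide +kernel
theorem p2u37 : ∀ k, 30690 ≤ k → k < 31032 → pointOk (k * 22) = true := between_extend pointOk 22 30690 31023 9 (p2u36) p2r37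

theorem p2r38 : allRange pointOk 22 31032 9 = true := by decide +kernel
theorem p2u38 : ∀ k, 30690 ≤ k → k < 31041 → pointOk (k * 22) = true := between_extend pointOk 22 30690 31032 9 (p2u37) p2r38

theorem p2r39 : allRange pointOk 22 31041 9 = true := by decide +kernel
theorem p2u39 : ∀ k, 30690 ≤ k → k < 31050 → pointOk (k * 22) = true := between_extend pointOk 22 30690 31041 9 (p2u38) p2r39

theorem p2r40 : allRange pointOk 22 31050 9 = true := by decide +kernel
theorem p2u40 : ∀ k, 30690 ≤ k → k < 31059 → pointOk (k * 22) = true := between_extend pointOk 22 30690 31050 9 (p2u39) p2r40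

theorem p2r41 : allRange pointOk 22 31059 9 = true := by decide +kernel
theorem p2u41 : ∀ k, 30690 ≤ k → k < 31068 → pointOk (k * 22) = true := between_extend pointOk 22 30690 31059 9 (p2u40) p2r41

theorem p2r42 : allRange pointOk 22 31068 9 = true := by decide +kernel
theorem p2u42 : ∀ k, 30690 ≤ k → k < 31077 → pointOk (k * 22) = true := between_extend pointOk 22 30690 31068 9 (p2u41) p2r42

theorem p2r43 : allRange pointOk 22 31077 9 = true := by decide +kernel
theorem p2u43 : ∀ k, 30690 ≤ k → k < 31086 → pointOk (k * 22) = true := between_extend pointOk 22 30690 31077 9 (p2u42) p2r43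

theorem p2r44 : allRange pointOk 22 31086 9 = true := by decide +kernel
theorem p2u44 : ∀ k, 30690 ≤ k → k < 31095 → pointOk (k * 22) = true := between_extend pointOk 22 30690 31086 9 (p2u43) p2r44

theorem p2r45 : allRange pointOk 22 31095 9 = true := by decide +kernel
theorem p2u45 : ∀ k, 30690 ≤ k → k < 31104 → pointOk (k * 22) = true := between_extend pointOk 22 30690 31095 9 (p2u44) p2r45

theorem p2r46 : allRange pointOk 22 31104 9 = true := by decide +kernel
theorem p2u46 : ∀ k, 30690 ≤ k → k < 31113 → pointOk (k * 22) = true := between_extend pointOk 22 30690 31104 9 (p2u45) p2r46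

theorem p2r47 : allRange pointOk 22 31113 9 = true := by decide +kernel
theorem p2u47 : ∀ k, 30690 ≤ k → k < 31122 → pointOk (k * 22) = true := between_extend pointOk 22 30690 31113 9 (p2u46) p2r47

theorem p2r48 : allRange pointOk 22 31122 9 = true := by decide +kernel
theorem p2u48 : ∀ k, 30690 ≤ k → k < 31131 → pointOk (k * 22) = true := between_extend pointOk 22 30690 31122 9 (p2u47) p2r48

theorem p2r49 : allRange pointOk 22 31131 9 = true := by decide +kernel
theorem p2u49 : ∀ k, 30690 ≤ k → k < 31140 → pointOk (k * 22) = true := between_extend pointOk 22 30690 31131 9 (p2u48) p2r49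

theorem p2r50 : allRange pointOk 22 31140 9 = true := by decide +kernel
theorem p2u50 : ∀ k, 30690 ≤ k → k < 31149 → pointOk (k * 22) = true := between_extend pointOk 22 30690 31140 9 (p2u49) p2r50

theorem p2r51 : allRange pointOk 22 31149 9 = true := by decide +kernel
theorem p2u51 : ∀ k, 30690 ≤ k → k < 31158 → pointOk (k * 22) = true := between_extend pointOk 22 30690 31149 9 (p2u50) p2r51

theorem p2r52 : allRange pointOk 22 31158 9 = true := by decide +kernel
theorem p2u52 : ∀ k, 30690 ≤ k → k < 31167 → pointOk (k * 22) = true := between_extend pointOk 22 30690 31158 9 (p2u51) p2r52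

theorem p2r53 : allRange pointOk 22 31167 9 = true := by decide +kernel
theorem p2u53 : ∀ k, 30690 ≤ k → k < 31176 → pointOk (k * 22) = true := between_extend pointOk 22 30690 31167 9 (p2u52) p2r53

theorem p2r54 : allRange pointOk 22 31176 9 = true := by decide +kernel
theorem p2u54 : ∀ k, 30690 ≤ k → k < 31185 → pointOk (k * 22) = true := between_extend pointOk 22 30690 31176 9 (p2u53) p2r54

theorem p2r55 : allRange pointOk 22 31185 9 = true := by decide +kernel
theorem p2u55 : ∀ k, 30690 ≤ k → k < 31194 → pointOk (k * 22) = true := between_extend pointOk 22 30690 31185 9 (p2u54) p2r55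

theorem p2r56 : allRange pointOk 22 31194 9 = true := by decide +kernel
theorem p2u56 : ∀ k, 30690 ≤ k → k < 31203 → pointOk (k * 22) = true := between_extend pointOk 22 30690 31194 9 (p2u55) p2r56

theorem p2r57 : allRange pointOk 22 31203 9 = true := by decide +kernel
theorem p2u57 : ∀ k, 30690 ≤ k → k < 31212 → pointOk (k * 22) = true := between_extend pointOk 22 30690 31203 9 (p2u56) p2r57

theorem p2r58 : allRange pointOk 22 31212 9 = true := by decide +kernel
theorem p2u58 : ∀ k, 30690 ≤ k → k < 31221 → pointOk (k * 22) = true := between_extend pointOk 22 30690 31212 9 (p2u57) p2r58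

theorem p2r59 : allRange pointOk 22 31221 9 = true := by decide +kernel
theorem p2u59 : ∀ k, 30690 ≤ k → k < 31230 → pointOk (k * 22) = true := between_extend pointOk 22 30690 31221 9 (p2u58) p2r59

theorem p2r60 : allRange pointOk 22 31230 9 = true := by decide +kernel
theorem p2u60 : ∀ k, 30690 ≤ k → k < 31239 → pointOk (k * 22) = true := between_extend pointOk 22 30690 31230 9 (p2u59) p2r60

theorem p2r61 : allRange pointOk 22 31239 9 = true := by decide +kernel
theorem p2u61 : ∀ k, 30690 ≤ k → k < 31248 → pointOk (k * 22) = true := between_extend pointOk 22 30690 31239 9 (p2u60) p2r61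

theorem p2r62 : allRange pointOk 22 31248 9 = true := by decide +kernel
theorem p2u62 : ∀ k, 30690 ≤ k → k < 31257 → pointOk (k * 22) = true := between_extend pointOk 22 30690 31248 9 (p2u61) p2r62

theorem p2r63 : allRange pointOk 22 31257 9 = true := by decide +kernel
theorem p2u63 : ∀ k, 30690 ≤ k → k < 31266 → pointOk (k * 22) = true := between_extend pointOk 22 30690 31257 9 (p2u62) p2r63

theorem p2r64 : allRange pointOk 22 31266 9 = true := by decide +kernel
theorem p2u64 : ∀ k, 30690 ≤ k → k < 31275 → pointOk (k * 22) = true := between_extend pointOk 22 30690 31266 9 (p2u63) p2r64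

theorem p2r65 : allRange pointOk 22 31275 9 = true := by decide +kernel
theorem p2u65 : ∀ k, 30690 ≤ k → k < 31284 → pointOk (k * 22) = true := between_extend pointOk 22 30690 31275 9 (p2u64) p2r65

theorem p2r66 : allRange pointOk 22 31284 9 = true := by decide +kernel
theorem p2u66 : ∀ k, 30690 ≤ k → k < 31293 → pointOk (k * 22) = true := between_extend pointOk 22 30690 31284 9 (p2u65) p2r66

theorem p2r67 : allRange pointOk 22 31293 9 = true := by decide +kernel
theorem p2u67 : ∀ k, 30690 ≤ k → k < 31302 → pointOk (k * 22) = true := between_extend pointOk 22 30690 31293 9 (p2u66) p2r67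

theorem p2r68 : allRange pointOk 22 31302 9 = true := by decide +kernel
theorem p2u68 : ∀ k, 30690 ≤ k → k < 31311 → pointOk (k * 22) = true := between_extend pointOk 22 30690 31302 9 (p2u67) p2r68

theorem p2r69 : allRange pointOk 22 31311 9 = true := by decide +kernel
theorem p2u69 : ∀ k, 30690 ≤ k → k < 31320 → pointOk (k * 22) = true := between_extend pointOk 22 30690 31311 9 (p2u68) p2r69

theorem p2r70 : allRange pointOk 22 31320 9 = true := by decide +kernel
theorem p2u70 : ∀ k, 30690 ≤ k → k < 31329 → pointOk (k * 22) = true := between_extend pointOk 22 30690 31320 9 (p2u69) p2r70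

theorem p2r71 : allRange pointOk 22 31329 9 = true := by decide +kernel
theorem p2u71 : ∀ k, 30690 ≤ k → k < 31338 → pointOk (k * 22) = true := between_extend pointOk 22 30690 31329 9 (p2u70) p2r71

theorem p2r72 : allRange pointOk 22 31338 9 = true := by decide +kernel
theorem p2u72 : ∀ k, 30690 ≤ k → k < 31347 → pointOk (k * 22) = true := between_extend pointOk 22 30690 31338 9 (p2u71) p2r72

theorem p2r73 : allRange pointOk 22 31347 9 = true := by decide +kernel
theorem p2u73 : ∀ k, 30690 ≤ k → k < 31356 → pointOk (k * 22) = true := between_extend pointOk 22 30690 31347 9 (p2u72) p2r73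

theorem p2r74 : allRange pointOk 22 31356 9 = true := by decide +kernel
theorem p2u74 : ∀ k, 30690 ≤ k → k < 31365 → pointOk (k * 22) = true := between_extend pointOk 22 30690 31356 9 (p2u73) p2r74

theorem p2r75 : allRange pointOk 22 31365 9 = true := by decide +kernel
theorem p2u75 : ∀ k, 30690 ≤ k → k < 31374 → pointOk (k * 22) = true := between_extend pointOk 22 30690 31365 9 (p2u74) p2r75

theorem p2r76 : allRange pointOk 22 31374 9 = true := by decide +kernel
theorem p2u76 : ∀ k, 30690 ≤ k → k < 31383 → pointOk (k * 22) = true := between_extend pointOk 22 30690 31374 9 (p2u75) p2r76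

theorem p2r77 : allRange pointOk 22 31383 9 = true := by decide +kernel
theorem p2u77 : ∀ k, 30690 ≤ k → k < 31392 → pointOk (k * 22) = true := between_extend pointOk 22 30690 31383 9 (p2u76) p2r77

theorem p2r78 : allRange pointOk 22 31392 9 = true := by decide +kernel
theorem p2u78 : ∀ k, 30690 ≤ k → k < 31401 → pointOk (k * 22) = true := between_extend pointOk 22 30690 31392 9 (p2u77) p2r78

theorem p2r79 : allRange pointOk 22 31401 9 = true := by decide +kernel
theorem p2u79 : ∀ k, 30690 ≤ k → k < 31410 → pointOk (k * 22) = true := between_extend pointOk 22 30690 31401 9 (p2u78) p2r79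

theorem p2r80 : allRange pointOk 22 31410 9 = true := by decide +kernel
theorem p2u80 : ∀ k, 30690 ≤ k → k < 31419 → pointOk (k * 22) = true := between_extend pointOk 22 30690 31410 9 (p2u79) p2r80

theorem p2r81 : allRange pointOk 22 31419 9 = true := by decide +kernel
theorem p2u81 : ∀ k, 30690 ≤ k → k < 31428 → pointOk (k * 22) = true := between_extend pointOk 22 30690 31419 9 (p2u80) p2r81

theorem p2r82 : allRange pointOk 22 31428 9 = true := by decide +kernel
theorem p2u82 : ∀ k, 30690 ≤ k → k < 31437 → pointOk (k * 22) = true := between_extend pointOk 22 30690 31428 9 (p2u81) p2r82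

theorem p2r83 : allRange pointOk 22 31437 9 = true := by decide +kernel
theorem p2u83 : ∀ k, 30690 ≤ k → k < 31446 → pointOk (k * 22) = true := between_extend pointOk 22 30690 31437 9 (p2u82) p2r83

theorem p2r84 : allRange pointOk 22 31446 9 = true := by decide +kernel
theorem p2u84 : ∀ k, 30690 ≤ k → k < 31455 → pointOk (k * 22) = true := between_extend pointOk 22 30690 31446 9 (p2u83) p2r84

theorem p2r85 : allRange pointOk 22 31455 9 = true := by decide +kernel
theorem p2u85 : ∀ k, 30690 ≤ k → k < 31464 → pointOk (k * 22) = true := between_extend pointOk 22 30690 31455 9 (p2u84) p2r85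

theorem p2r86 : allRange pointOk 22 31464 9 = true := by decide +kernel
theorem p2u86 : ∀ k, 30690 ≤ k → k < 31473 → pointOk (k * 22) = true := between_extend pointOk 22 30690 31464 9 (p2u85) p2r86

theorem p2r87 : allRange pointOk 22 31473 9 = true := by decide +kernel
theorem p2u87 : ∀ k, 30690 ≤ k → k < 31482 → pointOk (k * 22) = true := between_extend pointOk 22 30690 31473 9 (p2u86) p2r87

theorem p2r88 : allRange pointOk 22 31482 9 = true := by decide +kernel
theorem p2u88 : ∀ k, 30690 ≤ k → k < 31491 → pointOk (k * 22) = true := between_extend pointOk 22 30690 31482 9 (p2u87) p2r88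

theorem p2r89 : allRange pointOk 22 31491 9 = true := by decide +kernel
theorem p2u89 : ∀ k, 30690 ≤ k → k < 31500 → pointOk (k * 22) = true := between_extend pointOk 22 30690 31491 9 (p2u88) p2r89

theorem p2r90 : allRange pointOk 22 31500 9 = true := by decide +kernel
theorem p2u90 : ∀ k, 30690 ≤ k → k < 31509 → pointOk (k * 22) = true := between_extend pointOk 22 30690 31500 9 (p2u89) p2r90

theorem p2r91 : allRange pointOk 22 31509 9 = true := by decide +kernel
theorem p2u91 : ∀ k, 30690 ≤ k → k < 31518 → pointOk (k * 22) = true := between_extend pointOk 22 30690 31509 9 (p2u90) p2r91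

theorem p2r92 : allRange pointOk 22 31518 9 = true := by decide +kernel
theorem p2u92 : ∀ k, 30690 ≤ k → k < 31527 → pointOk (k * 22) = true := between_extend pointOk 22 30690 31518 9 (p2u91) p2r92

theorem p2r93 : allRange pointOk 22 31527 9 = true := by decide +kernel
theorem p2u93 : ∀ k, 30690 ≤ k → k < 31536 → pointOk (k * 22) = true := between_extend pointOk 22 30690 31527 9 (p2u92) p2r93

theorem p2r94 : allRange pointOk 22 31536 9 = true := by decide +kernel
theorem p2u94 : ∀ k, 30690 ≤ k → k < 31545 → pointOk (k * 22) = true := between_extend pointOk 22 30690 31536 9 (p2u93) p2r94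

theorem p2r95 : allRange pointOk 22 31545 9 = true := by decide +kernel
theorem p2u95 : ∀ k, 30690 ≤ k → k < 31554 → pointOk (k * 22) = true := between_extend pointOk 22 30690 31545 9 (p2u94) p2r95

theorem p2r96 : allRange pointOk 22 31554 9 = true := by decide +kernel
theorem p2u96 : ∀ k, 30690 ≤ k → k < 31563 → pointOk (k * 22) = true := between_extend pointOk 22 30690 31554 9 (p2u95) p2r96

theorem p2r97 : allRange pointOk 22 31563 9 = true := by decide +kernel
theorem p2u97 : ∀ k, 30690 ≤ k → k < 31572 → pointOk (k * 22) = true := between_extend pointOk 22 30690 31563 9 (p2u96) p2r97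

theorem p2r98 : allRange pointOk 22 31572 9 = true := by decide +kernel
theorem p2u98 : ∀ k, 30690 ≤ k → k < 31581 → pointOk (k * 22) = true := between_extend pointOk 22 30690 31572 9 (p2u97) p2r98

theorem p2r99 : allRange pointOk 22 31581 9 = true := by decide +kernel
theorem p2u99 : ∀ k, 30690 ≤ k → k < 31590 → pointOk (k * 22) = true := between_extend pointOk 22 30690 31581 9 (p2u98) p2r99

theorem p2r100 : allRange pointOk 22 31590 9 = true := by decide +kernel
theorem p2u100 : ∀ k, 30690 ≤ k → k < 31599 → pointOk (k * 22) = true := between_extend pointOk 22 30690 31590 9 (p2u99) p2r100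

theorem p2r101 : allRange pointOk 22 31599 9 = true := by decide +kernel
theorem p2u101 : ∀ k, 30690 ≤ k → k < 31608 → pointOk (k * 22) = true := between_extend pointOk 22 30690 31599 9 (p2u100) p2r101

theorem p2r102 : allRange pointOk 22 31608 9 = true := by decide +kernel
theorem p2u102 : ∀ k, 30690 ≤ k → k < 31617 → pointOk (k * 22) = true := between_extend pointOk 22 30690 31608 9 (p2u101) p2r102

theorem p2r103 : allRange pointOk 22 31617 9 = true := by decide +kernel
theorem p2u103 : ∀ k, 30690 ≤ k → k < 31626 → pointOk (k * 22) = true := between_extend pointOk 22 30690 31617 9 (p2u102) p2r103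

theorem p2r104 : allRange pointOk 22 31626 9 = true := by decide +kernel
theorem p2u104 : ∀ k, 30690 ≤ k → k < 31635 → pointOk (k * 22) = true := between_extend pointOk 22 30690 31626 9 (p2u103) p2r104

theorem p2r105 : allRange pointOk 22 31635 9 = true := by decide +kernel
theorem p2u105 : ∀ k, 30690 ≤ k → k < 31644 → pointOk (k * 22) = true := between_extend pointOk 22 30690 31635 9 (p2u104) p2r105

theorem p2r106 : allRange pointOk 22 31644 9 = true := by decide +kernel
theorem p2u106 : ∀ k, 30690 ≤ k → k < 31653 → pointOk (k * 22) = true := between_extend pointOk 22 30690 31644 9 (p2u105) p2r106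

theorem p2r107 : allRange pointOk 22 31653 9 = true := by decide +kernel
theorem p2u107 : ∀ k, 30690 ≤ k → k < 31662 → pointOk (k * 22) = true := between_extend pointOk 22 30690 31653 9 (p2u106) p2r107

theorem p2r108 : allRange pointOk 22 31662 9 = true := by decide +kernel
theorem p2u108 : ∀ k, 30690 ≤ k → k < 31671 → pointOk (k * 22) = true := between_extend pointOk 22 30690 31662 9 (p2u107) p2r108

theorem p2r109 : allRange pointOk 22 31671 9 = true := by decide +kernel
theorem p2u109 : ∀ k, 30690 ≤ k → k < 31680 → pointOk (k * 22) = true := between_extend pointOk 22 30690 31671 9 (p2u108) p2r109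

theorem p2r110 : allRange pointOk 22 31680 9 = true := by decide +kernel
theorem p2u110 : ∀ k, 30690 ≤ k → k < 31689 → pointOk (k * 22) = true := between_extend pointOk 22 30690 31680 9 (p2u109) p2r110

theorem p2r111 : allRange pointOk 22 31689 9 = true := by decide +kernel
theorem p2u111 : ∀ k, 30690 ≤ k → k < 31698 → pointOk (k * 22) = true := between_extend pointOk 22 30690 31689 9 (p2u110) p2r111

theorem p2r112 : allRange pointOk 22 31698 9 = true := by decide +kernel
theorem p2u112 : ∀ k, 30690 ≤ k → k < 31707 → pointOk (k * 22) = true := between_extend pointOk 22 30690 31698 9 (p2u111) p2r112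

theorem p2r113 : allRange pointOk 22 31707 9 = true := by decide +kernel
theorem p2u113 : ∀ k, 30690 ≤ k → k < 31716 → pointOk (k * 22) = true := between_extend pointOk 22 30690 31707 9 (p2u112) p2r113

theorem p2r114 : allRange pointOk 22 31716 9 = true := by decide +kernel
theorem p2u114 : ∀ k, 30690 ≤ k → k < 31725 → pointOk (k * 22) = true := between_extend pointOk 22 30690 31716 9 (p2u113) p2r114

theorem p2r115 : allRange pointOk 22 31725 9 = true := by decide +kernel
theorem p2u115 : ∀ k, 30690 ≤ k → k < 31734 → pointOk (k * 22) = true := between_extend pointOk 22 30690 31725 9 (p2u114) p2r115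

theorem p2r116 : allRange pointOk 22 31734 9 = true := by decide +kernel
theorem p2u116 : ∀ k, 30690 ≤ k → k < 31743 → pointOk (k * 22) = true := between_extend pointOk 22 30690 31734 9 (p2u115) p2r116

theorem p2r117 : allRange pointOk 22 31743 9 = true := by decide +kernel
theorem p2u117 : ∀ k, 30690 ≤ k → k < 31752 → pointOk (k * 22) = true := between_extend pointOk 22 30690 31743 9 (p2u116) p2r117

theorem p2r118 : allRange pointOk 22 31752 9 = true := by decide +kernel
theorem p2u118 : ∀ k, 30690 ≤ k → k < 31761 → pointOk (k * 22) = true := between_extend pointOk 22 30690 31752 9 (p2u117) p2r118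

theorem p2r119 : allRange pointOk 22 31761 9 = true := by decide +kernel
theorem p2u119 : ∀ k, 30690 ≤ k → k < 31770 → pointOk (k * 22) = true := between_extend pointOk 22 30690 31761 9 (p2u118) p2r119

theorem p2r120 : allRange pointOk 22 31770 9 = true := by decide +kernel
theorem p2u120 : ∀ k, 30690 ≤ k → k < 31779 → pointOk (k * 22) = true := between_extend pointOk 22 30690 31770 9 (p2u119) p2r120

theorem p2r121 : allRange pointOk 22 31779 9 = true := by decide +kernel
theorem p2u121 : ∀ k, 30690 ≤ k → k < 31788 → pointOk (k * 22) = true := between_extend pointOk 22 30690 31779 9 (p2u120) p2r121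

theorem p2r122 : allRange pointOk 22 31788 9 = true := by decide +kernel
theorem p2u122 : ∀ k, 30690 ≤ k → k < 31797 → pointOk (k * 22) = true := between_extend pointOk 22 30690 31788 9 (p2u121) p2r122

theorem p2r123 : allRange pointOk 22 31797 9 = true := by decide +kernel
theorem p2u123 : ∀ k, 30690 ≤ k → k < 31806 → pointOk (k * 22) = true := between_extend pointOk 22 30690 31797 9 (p2u122) p2r123

theorem p2r124 : allRange pointOk 22 31806 9 = true := by decide +kernel
theorem p2u124 : ∀ k, 30690 ≤ k → k < 31815 → pointOk (k * 22) = true := between_extend pointOk 22 30690 31806 9 (p2u123) p2r124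

theorem p2r125 : allRange pointOk 22 31815 9 = true := by decide +kernel
theorem p2u125 : ∀ k, 30690 ≤ k → k < 31824 → pointOk (k * 22) = true := between_extend pointOk 22 30690 31815 9 (p2u124) p2r125

theorem p2r126 : allRange pointOk 22 31824 9 = true := by decide +kernel
theorem p2u126 : ∀ k, 30690 ≤ k → k < 31833 → pointOk (k * 22) = true := between_extend pointOk 22 30690 31824 9 (p2u125) p2r126

theorem p2r127 : allRange pointOk 22 31833 9 = true := by decide +kernel
theorem p2u127 : ∀ k, 30690 ≤ k → k < 31842 → pointOk (k * 22) = true := between_extend pointOk 22 30690 31833 9 (p2u126) p2r127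

theorem p2r128 : allRange pointOk 22 31842 9 = true := by decide +kernel
theorem p2u128 : ∀ k, 30690 ≤ k → k < 31851 → pointOk (k * 22) = true := between_extend pointOk 22 30690 31842 9 (p2u127) p2r128

theorem p2r129 : allRange pointOk 22 31851 9 = true := by decide +kernel
theorem p2u129 : ∀ k, 30690 ≤ k → k < 31860 → pointOk (k * 22) = true := between_extend pointOk 22 30690 31851 9 (p2u128) p2r129

theorem p2r130 : allRange pointOk 22 31860 9 = true := by decide +kernel
theorem p2u130 : ∀ k, 30690 ≤ k → k < 31869 → pointOk (k * 22) = true := between_extend pointOk 22 30690 31860 9 (p2u129) p2r130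

theorem p2r131 : allRange pointOk 22 31869 9 = true := by decide +kernel
theorem p2u131 : ∀ k, 30690 ≤ k → k < 31878 → pointOk (k * 22) = true := between_extend pointOk 22 30690 31869 9 (p2u130) p2r131

theorem p2r132 : allRange pointOk 22 31878 9 = true := by decide +kernel
theorem p2u132 : ∀ k, 30690 ≤ k → k < 31887 → pointOk (k * 22) = true := between_extend pointOk 22 30690 31878 9 (p2u131) p2r132

theorem p2r133 : allRange pointOk 22 31887 9 = true := by decide +kernel
theorem p2u133 : ∀ k, 30690 ≤ k → k < 31896 → pointOk (k * 22) = true := between_extend pointOk 22 30690 31887 9 (p2u132) p2r133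

theorem p2r134 : allRange pointOk 22 31896 9 = true := by decide +kernel
theorem p2u134 : ∀ k, 30690 ≤ k → k < 31905 → pointOk (k * 22) = true := between_extend pointOk 22 30690 31896 9 (p2u133) p2r134

theorem p2r135 : allRange pointOk 22 31905 9 = true := by decide +kernel
theorem p2u135 : ∀ k, 30690 ≤ k → k < 31914 → pointOk (k * 22) = true := between_extend pointOk 22 30690 31905 9 (p2u134) p2r135

theorem p2r136 : allRange pointOk 22 31914 9 = true := by decide +kernel
theorem p2u136 : ∀ k, 30690 ≤ k → k < 31923 → pointOk (k * 22) = true := between_extend pointOk 22 30690 31914 9 (p2u135) p2r136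

theorem p2r137 : allRange pointOk 22 31923 9 = true := by decide +kernel
theorem p2u137 : ∀ k, 30690 ≤ k → k < 31932 → pointOk (k * 22) = true := between_extend pointOk 22 30690 31923 9 (p2u136) p2r137

theorem p2r138 : allRange pointOk 22 31932 9 = true := by decide +kernel
theorem p2u138 : ∀ k, 30690 ≤ k → k < 31941 → pointOk (k * 22) = true := between_extend pointOk 22 30690 31932 9 (p2u137) p2r138

theorem p2r139 : allRange pointOk 22 31941 9 = true := by decide +kernel
theorem p2u139 : ∀ k, 30690 ≤ k → k < 31950 → pointOk (k * 22) = true := between_extend pointOk 22 30690 31941 9 (p2u138) p2r139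

theorem p2r140 : allRange pointOk 22 31950 9 = true := by decide +kernel
theorem p2u140 : ∀ k, 30690 ≤ k → k < 31959 → pointOk (k * 22) = true := between_extend pointOk 22 30690 31950 9 (p2u139) p2r140

theorem p2r141 : allRange pointOk 22 31959 9 = true := by decide +kernel
theorem p2u141 : ∀ k, 30690 ≤ k → k < 31968 → pointOk (k * 22) = true := between_extend pointOk 22 30690 31959 9 (p2u140) p2r141

theorem p2r142 : allRange pointOk 22 31968 9 = true := by decide +kernel
theorem p2u142 : ∀ k, 30690 ≤ k → k < 31977 → pointOk (k * 22) = true := between_extend pointOk 22 30690 31968 9 (p2u141) p2r142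

theorem p2r143 : allRange pointOk 22 31977 9 = true := by decide +kernel
theorem p2u143 : ∀ k, 30690 ≤ k → k < 31986 → pointOk (k * 22) = true := between_extend pointOk 22 30690 31977 9 (p2u142) p2r143

theorem p2r144 : allRange pointOk 22 31986 9 = true := by decide +kernel
theorem p2u144 : ∀ k, 30690 ≤ k → k < 31995 → pointOk (k * 22) = true := between_extend pointOk 22 30690 31986 9 (p2u143) p2r144

theorem p2r145 : allRange pointOk 22 31995 9 = true := by decide +kernel
theorem p2u145 : ∀ k, 30690 ≤ k → k < 32004 → pointOk (k * 22) = true := between_extend pointOk 22 30690 31995 9 (p2u144) p2r145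

theorem p2r146 : allRange pointOk 22 32004 9 = true := by decide +kernel
theorem p2u146 : ∀ k, 30690 ≤ k → k < 32013 → pointOk (k * 22) = true := between_extend pointOk 22 30690 32004 9 (p2u145) p2r146

theorem p2r147 : allRange pointOk 22 32013 9 = true := by decide +kernel
theorem p2u147 : ∀ k, 30690 ≤ k → k < 32022 → pointOk (k * 22) = true := between_extend pointOk 22 30690 32013 9 (p2u146) p2r147

theorem p2r148 : allRange pointOk 22 32022 9 = true := by decide +kernel
theorem p2u148 : ∀ k, 30690 ≤ k → k < 32031 → pointOk (k * 22) = true := between_extend pointOk 22 30690 32022 9 (p2u147) p2r148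

theorem p2r149 : allRange pointOk 22 32031 9 = true := by decide +kernel
theorem p2u149 : ∀ k, 30690 ≤ k → k < 32040 → pointOk (k * 22) = true := between_extend pointOk 22 30690 32031 9 (p2u148) p2r149

theorem p2r150 : allRange pointOk 22 32040 9 = true := by decide +kernel
theorem p2u150 : ∀ k, 30690 ≤ k → k < 32049 → pointOk (k * 22) = true := between_extend pointOk 22 30690 32040 9 (p2u149) p2r150

theorem p2r151 : allRange pointOk 22 32049 9 = true := by decide +kernel
theorem p2u151 : ∀ k, 30690 ≤ k → k < 32058 → pointOk (k * 22) = true := between_extend pointOk 22 30690 32049 9 (p2u150) p2r151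

theorem p2r152 : allRange pointOk 22 32058 9 = true := by decide +kernel
theorem p2u152 : ∀ k, 30690 ≤ k → k < 32067 → pointOk (k * 22) = true := between_extend pointOk 22 30690 32058 9 (p2u151) p2r152

theorem p2r153 : allRange pointOk 22 32067 9 = true := by decide +kernel
theorem p2u153 : ∀ k, 30690 ≤ k → k < 32076 → pointOk (k * 22) = true := between_extend pointOk 22 30690 32067 9 (p2u152) p2r153

theorem p2r154 : allRange pointOk 22 32076 9 = true := by decide +kernel
theorem p2u154 : ∀ k, 30690 ≤ k → k < 32085 → pointOk (k * 22) = true := between_extend pointOk 22 30690 32076 9 (p2u153) p2r154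

theorem p2r155 : allRange pointOk 22 32085 9 = true := by decide +kernel
theorem p2u155 : ∀ k, 30690 ≤ k → k < 32094 → pointOk (k * 22) = true := between_extend pointOk 22 30690 32085 9 (p2u154) p2r155

theorem p2r156 : allRange pointOk 22 32094 9 = true := by decide +kernel
theorem p2u156 : ∀ k, 30690 ≤ k → k < 32103 → pointOk (k * 22) = true := between_extend pointOk 22 30690 32094 9 (p2u155) p2r156

theorem p2r157 : allRange pointOk 22 32103 9 = true := by decide +kernel
theorem p2u157 : ∀ k, 30690 ≤ k → k < 32112 → pointOk (k * 22) = true := between_extend pointOk 22 30690 32103 9 (p2u156) p2r157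

theorem p2r158 : allRange pointOk 22 32112 9 = true := by decide +kernel
theorem p2u158 : ∀ k, 30690 ≤ k → k < 32121 → pointOk (k * 22) = true := between_extend pointOk 22 30690 32112 9 (p2u157) p2r158

theorem p2r159 : allRange pointOk 22 32121 9 = true := by decide +kernel
theorem p2u159 : ∀ k, 30690 ≤ k → k < 32130 → pointOk (k * 22) = true := between_extend pointOk 22 30690 32121 9 (p2u158) p2r159

theorem p2r160 : allRange pointOk 22 32130 9 = true := by decide +kernel
theorem p2u160 : ∀ k, 30690 ≤ k → k < 32139 → pointOk (k * 22) = true := between_extend pointOk 22 30690 32130 9 (p2u159) p2r160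

theorem p2r161 : allRange pointOk 22 32139 9 = true := by decide +kernel
theorem p2u161 : ∀ k, 30690 ≤ k → k < 32148 → pointOk (k * 22) = true := between_extend pointOk 22 30690 32139 9 (p2u160) p2r161

theorem p2r162 : allRange pointOk 22 32148 9 = true := by decide +kernel
theorem p2u162 : ∀ k, 30690 ≤ k → k < 32157 → pointOk (k * 22) = true := between_extend pointOk 22 30690 32148 9 (p2u161) p2r162

theorem p2r163 : allRange pointOk 22 32157 9 = true := by decide +kernel
theorem p2u163 : ∀ k, 30690 ≤ k → k < 32166 → pointOk (k * 22) = true := between_extend pointOk 22 30690 32157 9 (p2u162) p2r163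

theorem p2r164 : allRange pointOk 22 32166 9 = true := by decide +kernel
theorem p2u164 : ∀ k, 30690 ≤ k → k < 32175 → pointOk (k * 22) = true := between_extend pointOk 22 30690 32166 9 (p2u163) p2r164

theorem p2r165 : allRange pointOk 22 32175 9 = true := by decide +kernel
theorem p2u165 : ∀ k, 30690 ≤ k → k < 32184 → pointOk (k * 22) = true := between_extend pointOk 22 30690 32175 9 (p2u164) p2r165

theorem p2r166 : allRange pointOk 22 32184 9 = true := by decide +kernel
theorem p2u166 : ∀ k, 30690 ≤ k → k < 32193 → pointOk (k * 22) = true := between_extend pointOk 22 30690 32184 9 (p2u165) p2r166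

theorem p2r167 : allRange pointOk 22 32193 9 = true := by decide +kernel
theorem p2u167 : ∀ k, 30690 ≤ k → k < 32202 → pointOk (k * 22) = true := between_extend pointOk 22 30690 32193 9 (p2u166) p2r167

theorem p2r168 : allRange pointOk 22 32202 9 = true := by decide +kernel
theorem p2u168 : ∀ k, 30690 ≤ k → k < 32211 → pointOk (k * 22) = true := between_extend pointOk 22 30690 32202 9 (p2u167) p2r168

theorem p2r169 : allRange pointOk 22 32211 9 = true := by decide +kernel
theorem p2u169 : ∀ k, 30690 ≤ k → k < 32220 → pointOk (k * 22) = true := between_extend pointOk 22 30690 32211 9 (p2u168) p2r169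

theorem p2r170 : allRange pointOk 22 32220 9 = true := by decide +kernel
theorem p2u170 : ∀ k, 30690 ≤ k → k < 32229 → pointOk (k * 22) = true := between_extend pointOk 22 30690 32220 9 (p2u169) p2r170

theorem p2r171 : allRange pointOk 22 32229 9 = true := by decide +kernel
theorem p2u171 : ∀ k, 30690 ≤ k → k < 32238 → pointOk (k * 22) = true := between_extend pointOk 22 30690 32229 9 (p2u170) p2r171

theorem p2r172 : allRange pointOk 22 32238 9 = true := by decide +kernel
theorem p2u172 : ∀ k, 30690 ≤ k → k < 32247 → pointOk (k * 22) = true := between_extend pointOk 22 30690 32238 9 (p2u171) p2r172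

theorem p2r173 : allRange pointOk 22 32247 9 = true := by decide +kernel
theorem p2u173 : ∀ k, 30690 ≤ k → k < 32256 → pointOk (k * 22) = true := between_extend pointOk 22 30690 32247 9 (p2u172) p2r173

theorem p2r174 : allRange pointOk 22 32256 9 = true := by decide +kernel
theorem p2u174 : ∀ k, 30690 ≤ k → k < 32265 → pointOk (k * 22) = true := between_extend pointOk 22 30690 32256 9 (p2u173) p2r174

theorem p2r175 : allRange pointOk 22 32265 9 = true := by decide +kernel
theorem p2u175 : ∀ k, 30690 ≤ k → k < 32274 → pointOk (k * 22) = true := between_extend pointOk 22 30690 32265 9 (p2u174) p2r175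

theorem p2r176 : allRange pointOk 22 32274 9 = true := by decide +kernel
theorem p2u176 : ∀ k, 30690 ≤ k → k < 32283 → pointOk (k * 22) = true := between_extend pointOk 22 30690 32274 9 (p2u175) p2r176

theorem p2r177 : allRange pointOk 22 32283 9 = true := by decide +kernel
theorem p2u177 : ∀ k, 30690 ≤ k → k < 32292 → pointOk (k * 22) = true := between_extend pointOk 22 30690 32283 9 (p2u176) p2r177

theorem p2r178 : allRange pointOk 22 32292 9 = true := by decide +kernel
theorem p2u178 : ∀ k, 30690 ≤ k → k < 32301 → pointOk (k * 22) = true := between_extend pointOk 22 30690 32292 9 (p2u177) p2r178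

theorem p2r179 : allRange pointOk 22 32301 9 = true := by decide +kernel
theorem p2u179 : ∀ k, 30690 ≤ k → k < 32310 → pointOk (k * 22) = true := between_extend pointOk 22 30690 32301 9 (p2u178) p2r179

theorem p2r180 : allRange pointOk 22 32310 9 = true := by decide +kernel
theorem p2u180 : ∀ k, 30690 ≤ k → k < 32319 → pointOk (k * 22) = true := between_extend pointOk 22 30690 32310 9 (p2u179) p2r180

theorem p2r181 : allRange pointOk 22 32319 9 = true := by decide +kernel
theorem p2u181 : ∀ k, 30690 ≤ k → k < 32328 → pointOk (k * 22) = true := between_extend pointOk 22 30690 32319 9 (p2u180) p2r181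

theorem p2r182 : allRange pointOk 22 32328 9 = true := by decide +kernel
theorem p2u182 : ∀ k, 30690 ≤ k → k < 32337 → pointOk (k * 22) = true := between_extend pointOk 22 30690 32328 9 (p2u181) p2r182

theorem p2r183 : allRange pointOk 22 32337 9 = true := by decide +kernel
theorem p2u183 : ∀ k, 30690 ≤ k → k < 32346 → pointOk (k * 22) = true := between_extend pointOk 22 30690 32337 9 (p2u182) p2r183

theorem p2r184 : allRange pointOk 22 32346 9 = true := by decide +kernel
theorem p2u184 : ∀ k, 30690 ≤ k → k < 32355 → pointOk (k * 22) = true := between_extend pointOk 22 30690 32346 9 (p2u183) p2r184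

theorem p2r185 : allRange pointOk 22 32355 9 = true := by decide +kernel
theorem p2u185 : ∀ k, 30690 ≤ k → k < 32364 → pointOk (k * 22) = true := between_extend pointOk 22 30690 32355 9 (p2u184) p2r185

theorem p2r186 : allRange pointOk 22 32364 9 = true := by decide +kernel
theorem p2u186 : ∀ k, 30690 ≤ k → k < 32373 → pointOk (k * 22) = true := between_extend pointOk 22 30690 32364 9 (p2u185) p2r186

theorem p2r187 : allRange pointOk 22 32373 9 = true := by decide +kernel
theorem p2u187 : ∀ k, 30690 ≤ k → k < 32382 → pointOk (k * 22) = true := between_extend pointOk 22 30690 32373 9 (p2u186) p2r187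

theorem p2r188 : allRange pointOk 22 32382 9 = true := by decide +kernel
theorem p2u188 : ∀ k, 30690 ≤ k → k < 32391 → pointOk (k * 22) = true := between_extend pointOk 22 30690 32382 9 (p2u187) p2r188

theorem p2r189 : allRange pointOk 22 32391 9 = true := by decide +kernel
theorem p2u189 : ∀ k, 30690 ≤ k → k < 32400 → pointOk (k * 22) = true := between_extend pointOk 22 30690 32391 9 (p2u188) p2r189

theorem p2r190 : allRange pointOk 22 32400 9 = true := by decide +kernel
theorem p2u190 : ∀ k, 30690 ≤ k → k < 32409 → pointOk (k * 22) = true := between_extend pointOk 22 30690 32400 9 (p2u189) p2r190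

theorem p2r191 : allRange pointOk 22 32409 9 = true := by decide +kernel
theorem p2u191 : ∀ k, 30690 ≤ k → k < 32418 → pointOk (k * 22) = true := between_extend pointOk 22 30690 32409 9 (p2u190) p2r191

theorem p2r192 : allRange pointOk 22 32418 9 = true := by decide +kernel
theorem p2u192 : ∀ k, 30690 ≤ k → k < 32427 → pointOk (k * 22) = true := between_extend pointOk 22 30690 32418 9 (p2u191) p2r192

theorem p2r193 : allRange pointOk 22 32427 9 = true := by decide +kernel
theorem p2u193 : ∀ k, 30690 ≤ k → k < 32436 → pointOk (k * 22) = true := between_extend pointOk 22 30690 32427 9 (p2u192) p2r193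

theorem p2r194 : allRange pointOk 22 32436 9 = true := by decide +kernel
theorem p2u194 : ∀ k, 30690 ≤ k → k < 32445 → pointOk (k * 22) = true := between_extend pointOk 22 30690 32436 9 (p2u193) p2r194

theorem p2r195 : allRange pointOk 22 32445 9 = true := by decide +kernel
theorem p2u195 : ∀ k, 30690 ≤ k → k < 32454 → pointOk (k * 22) = true := between_extend pointOk 22 30690 32445 9 (p2u194) p2r195

theorem p2r196 : allRange pointOk 22 32454 9 = true := by decide +kernel
theorem p2u196 : ∀ k, 30690 ≤ k → k < 32463 → pointOk (k * 22) = true := between_extend pointOk 22 30690 32454 9 (p2u195) p2r196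

theorem p2r197 : allRange pointOk 22 32463 9 = true := by decide +kernel
theorem p2u197 : ∀ k, 30690 ≤ k → k < 32472 → pointOk (k * 22) = true := between_extend pointOk 22 30690 32463 9 (p2u196) p2r197

theorem p2r198 : allRange pointOk 22 32472 9 = true := by decide +kernel
theorem p2u198 : ∀ k, 30690 ≤ k → k < 32481 → pointOk (k * 22) = true := between_extend pointOk 22 30690 32472 9 (p2u197) p2r198

theorem p2r199 : allRange pointOk 22 32481 9 = true := by decide +kernel
theorem p2u199 : ∀ k, 30690 ≤ k → k < 32490 → pointOk (k * 22) = true := between_extend pointOk 22 30690 32481 9 (p2u198) p2r199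

theorem p2r200 : allRange pointOk 22 32490 9 = true := by decide +kernel
theorem p2u200 : ∀ k, 30690 ≤ k → k < 32499 → pointOk (k * 22) = true := between_extend pointOk 22 30690 32490 9 (p2u199) p2r200

theorem p2r201 : allRange pointOk 22 32499 9 = true := by decide +kernel
theorem p2u201 : ∀ k, 30690 ≤ k → k < 32508 → pointOk (k * 22) = true := between_extend pointOk 22 30690 32499 9 (p2u200) p2r201

theorem p2r202 : allRange pointOk 22 32508 9 = true := by decide +kernel
theorem p2u202 : ∀ k, 30690 ≤ k → k < 32517 → pointOk (k * 22) = true := between_extend pointOk 22 30690 32508 9 (p2u201) p2r202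

theorem p2r203 : allRange pointOk 22 32517 9 = true := by decide +kernel
theorem p2u203 : ∀ k, 30690 ≤ k → k < 32526 → pointOk (k * 22) = true := between_extend pointOk 22 30690 32517 9 (p2u202) p2r203

theorem p2r204 : allRange pointOk 22 32526 9 = true := by decide +kernel
theorem p2u204 : ∀ k, 30690 ≤ k → k < 32535 → pointOk (k * 22) = true := between_extend pointOk 22 30690 32526 9 (p2u203) p2r204

theorem p2r205 : allRange pointOk 22 32535 9 = true := by decide +kernel
theorem p2u205 : ∀ k, 30690 ≤ k → k < 32544 → pointOk (k * 22) = true := between_extend pointOk 22 30690 32535 9 (p2u204) p2r205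

theorem p2r206 : allRange pointOk 22 32544 9 = true := by decide +kernel
theorem p2u206 : ∀ k, 30690 ≤ k → k < 32553 → pointOk (k * 22) = true := between_extend pointOk 22 30690 32544 9 (p2u205) p2r206

theorem p2r207 : allRange pointOk 22 32553 9 = true := by decide +kernel
theorem p2u207 : ∀ k, 30690 ≤ k → k < 32562 → pointOk (k * 22) = true := between_extend pointOk 22 30690 32553 9 (p2u206) p2r207

theorem p2r208 : allRange pointOk 22 32562 9 = true := by decide +kernel
theorem p2u208 : ∀ k, 30690 ≤ k → k < 32571 → pointOk (k * 22) = true := between_extend pointOk 22 30690 32562 9 (p2u207) p2r208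

theorem p2r209 : allRange pointOk 22 32571 9 = true := by decide +kernel
theorem p2u209 : ∀ k, 30690 ≤ k → k < 32580 → pointOk (k * 22) = true := between_extend pointOk 22 30690 32571 9 (p2u208) p2r209

theorem p2r210 : allRange pointOk 22 32580 9 = true := by decide +kernel
theorem p2u210 : ∀ k, 30690 ≤ k → k < 32589 → pointOk (k * 22) = true := between_extend pointOk 22 30690 32580 9 (p2u209) p2r210

theorem p2r211 : allRange pointOk 22 32589 9 = true := by decide +kernel
theorem p2u211 : ∀ k, 30690 ≤ k → k < 32598 → pointOk (k * 22) = true := between_extend pointOk 22 30690 32589 9 (p2u210) p2r211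

theorem p2r212 : allRange pointOk 22 32598 9 = true := by decide +kernel
theorem p2u212 : ∀ k, 30690 ≤ k → k < 32607 → pointOk (k * 22) = true := between_extend pointOk 22 30690 32598 9 (p2u211) p2r212

theorem p2r213 : allRange pointOk 22 32607 9 = true := by decide +kernel
theorem p2u213 : ∀ k, 30690 ≤ k → k < 32616 → pointOk (k * 22) = true := between_extend pointOk 22 30690 32607 9 (p2u212) p2r213

theorem p2r214 : allRange pointOk 22 32616 9 = true := by decide +kernel
theorem p2u214 : ∀ k, 30690 ≤ k → k < 32625 → pointOk (k * 22) = true := between_extend pointOk 22 30690 32616 9 (p2u213) p2r214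

theorem p2r215 : allRange pointOk 22 32625 9 = true := by decide +kernel
theorem p2u215 : ∀ k, 30690 ≤ k → k < 32634 → pointOk (k * 22) = true := between_extend pointOk 22 30690 32625 9 (p2u214) p2r215

theorem p2r216 : allRange pointOk 22 32634 9 = true := by decide +kernel
theorem p2u216 : ∀ k, 30690 ≤ k → k < 32643 → pointOk (k * 22) = true := between_extend pointOk 22 30690 32634 9 (p2u215) p2r216

theorem p2r217 : allRange pointOk 22 32643 9 = true := by decide +kernel
theorem p2u217 : ∀ k, 30690 ≤ k → k < 32652 → pointOk (k * 22) = true := between_extend pointOk 22 30690 32643 9 (p2u216) p2r217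

theorem p2r218 : allRange pointOk 22 32652 9 = true := by decide +kernel
theorem p2u218 : ∀ k, 30690 ≤ k → k < 32661 → pointOk (k * 22) = true := between_extend pointOk 22 30690 32652 9 (p2u217) p2r218

theorem p2r219 : allRange pointOk 22 32661 9 = true := by decide +kernel
theorem p2u219 : ∀ k, 30690 ≤ k → k < 32670 → pointOk (k * 22) = true := between_extend pointOk 22 30690 32661 9 (p2u218) p2r219

theorem p2r220 : allRange pointOk 22 32670 9 = true := by decide +kernel
theorem p2u220 : ∀ k, 30690 ≤ k → k < 32679 → pointOk (k * 22) = true := between_extend pointOk 22 30690 32670 9 (p2u219) p2r220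

theorem p2r221 : allRange pointOk 22 32679 9 = true := by decide +kernel
theorem p2u221 : ∀ k, 30690 ≤ k → k < 32688 → pointOk (k * 22) = true := between_extend pointOk 22 30690 32679 9 (p2u220) p2r221

theorem p2r222 : allRange pointOk 22 32688 9 = true := by decide +kernel
theorem p2u222 : ∀ k, 30690 ≤ k → k < 32697 → pointOk (k * 22) = true := between_extend pointOk 22 30690 32688 9 (p2u221) p2r222

theorem p2r223 : allRange pointOk 22 32697 9 = true := by decide +kernel
theorem p2u223 : ∀ k, 30690 ≤ k → k < 32706 → pointOk (k * 22) = true := between_extend pointOk 22 30690 32697 9 (p2u222) p2r223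

theorem p2r224 : allRange pointOk 22 32706 9 = true := by decide +kernel
theorem p2u224 : ∀ k, 30690 ≤ k → k < 32715 → pointOk (k * 22) = true := between_extend pointOk 22 30690 32706 9 (p2u223) p2r224

theorem p2r225 : allRange pointOk 22 32715 9 = true := by decide +kernel
theorem p2u225 : ∀ k, 30690 ≤ k → k < 32724 → pointOk (k * 22) = true := between_extend pointOk 22 30690 32715 9 (p2u224) p2r225

theorem p2r226 : allRange pointOk 22 32724 9 = true := by decide +kernel
theorem p2u226 : ∀ k, 30690 ≤ k → k < 32733 → pointOk (k * 22) = true := between_extend pointOk 22 30690 32724 9 (p2u225) p2r226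

theorem p2r227 : allRange pointOk 22 32733 9 = true := by decide +kernel
theorem p2u227 : ∀ k, 30690 ≤ k → k < 32742 → pointOk (k * 22) = true := between_extend pointOk 22 30690 32733 9 (p2u226) p2r227

theorem p2r228 : allRange pointOk 22 32742 9 = true := by decide +kernel
theorem p2u228 : ∀ k, 30690 ≤ k → k < 32751 → pointOk (k * 22) = true := between_extend pointOk 22 30690 32742 9 (p2u227) p2r228

theorem p2r229 : allRange pointOk 22 32751 9 = true := by decide +kernel
theorem p2u229 : ∀ k, 30690 ≤ k → k < 32760 → pointOk (k * 22) = true := between_extend pointOk 22 30690 32751 9 (p2u228) p2r229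

theorem p2r230 : allRange pointOk 22 32760 9 = true := by decide +kernel
theorem p2u230 : ∀ k, 30690 ≤ k → k < 32769 → pointOk (k * 22) = true := between_extend pointOk 22 30690 32760 9 (p2u229) p2r230

theorem p2r231 : allRange pointOk 22 32769 9 = true := by decide +kernel
theorem p2u231 : ∀ k, 30690 ≤ k → k < 32778 → pointOk (k * 22) = true := between_extend pointOk 22 30690 32769 9 (p2u230) p2r231

theorem p2r232 : allRange pointOk 22 32778 9 = true := by decide +kernel
theorem p2u232 : ∀ k, 30690 ≤ k → k < 32787 → pointOk (k * 22) = true := between_extend pointOk 22 30690 32778 9 (p2u231) p2r232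

theorem p2r233 : allRange pointOk 22 32787 9 = true := by decide +kernel
theorem p2u233 : ∀ k, 30690 ≤ k → k < 32796 → pointOk (k * 22) = true := between_extend pointOk 22 30690 32787 9 (p2u232) p2r233

theorem p2r234 : allRange pointOk 22 32796 9 = true := by decide +kernel
theorem p2u234 : ∀ k, 30690 ≤ k → k < 32805 → pointOk (k * 22) = true := between_extend pointOk 22 30690 32796 9 (p2u233) p2r234

theorem p2r235 : allRange pointOk 22 32805 9 = true := by decide +kernel
theorem p2u235 : ∀ k, 30690 ≤ k → k < 32814 → pointOk (k * 22) = true := between_extend pointOk 22 30690 32805 9 (p2u234) p2r235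

theorem p2r236 : allRange pointOk 22 32814 9 = true := by decide +kernel
theorem p2u236 : ∀ k, 30690 ≤ k → k < 32823 → pointOk (k * 22) = true := between_extend pointOk 22 30690 32814 9 (p2u235) p2r236

theorem p2r237 : allRange pointOk 22 32823 9 = true := by decide +kernel
theorem p2u237 : ∀ k, 30690 ≤ k → k < 32832 → pointOk (k * 22) = true := between_extend pointOk 22 30690 32823 9 (p2u236) p2r237

theorem p2r238 : allRange pointOk 22 32832 9 = true := by decide +kernel
theorem p2u238 : ∀ k, 30690 ≤ k → k < 32841 → pointOk (k * 22) = true := between_extend pointOk 22 30690 32832 9 (p2u237) p2r238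

theorem p2r239 : allRange pointOk 22 32841 9 = true := by decide +kernel
theorem p2u239 : ∀ k, 30690 ≤ k → k < 32850 → pointOk (k * 22) = true := between_extend pointOk 22 30690 32841 9 (p2u238) p2r239

theorem p2r240 : allRange pointOk 22 32850 9 = true := by decide +kernel
theorem p2u240 : ∀ k, 30690 ≤ k → k < 32859 → pointOk (k * 22) = true := between_extend pointOk 22 30690 32850 9 (p2u239) p2r240

theorem p2r241 : allRange pointOk 22 32859 9 = true := by decide +kernel
theorem p2u241 : ∀ k, 30690 ≤ k → k < 32868 → pointOk (k * 22) = true := between_extend pointOk 22 30690 32859 9 (p2u240) p2r241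

theorem p2r242 : allRange pointOk 22 32868 9 = true := by decide +kernel
theorem p2u242 : ∀ k, 30690 ≤ k → k < 32877 → pointOk (k * 22) = true := between_extend pointOk 22 30690 32868 9 (p2u241) p2r242

theorem p2r243 : allRange pointOk 22 32877 9 = true := by decide +kernel
theorem p2u243 : ∀ k, 30690 ≤ k → k < 32886 → pointOk (k * 22) = true := between_extend pointOk 22 30690 32877 9 (p2u242) p2r243

theorem p2r244 : allRange pointOk 22 32886 9 = true := by decide +kernel
theorem p2u244 : ∀ k, 30690 ≤ k → k < 32895 → pointOk (k * 22) = true := between_extend pointOk 22 30690 32886 9 (p2u243) p2r244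

theorem p2r245 : allRange pointOk 22 32895 9 = true := by decide +kernel
theorem p2u245 : ∀ k, 30690 ≤ k → k < 32904 → pointOk (k * 22) = true := between_extend pointOk 22 30690 32895 9 (p2u244) p2r245

theorem p2r246 : allRange pointOk 22 32904 9 = true := by decide +kernel
theorem p2u246 : ∀ k, 30690 ≤ k → k < 32913 → pointOk (k * 22) = true := between_extend pointOk 22 30690 32904 9 (p2u245) p2r246

theorem p2r247 : allRange pointOk 22 32913 9 = true := by decide +kernel
theorem p2u247 : ∀ k, 30690 ≤ k → k < 32922 → pointOk (k * 22) = true := between_extend pointOk 22 30690 32913 9 (p2u246) p2r247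

theorem p2r248 : allRange pointOk 22 32922 9 = true := by decide +kernel
theorem p2u248 : ∀ k, 30690 ≤ k → k < 32931 → pointOk (k * 22) = true := between_extend pointOk 22 30690 32922 9 (p2u247) p2r248

theorem p2r249 : allRange pointOk 22 32931 9 = true := by decide +kernel
theorem p2u249 : ∀ k, 30690 ≤ k → k < 32940 → pointOk (k * 22) = true := between_extend pointOk 22 30690 32931 9 (p2u248) p2r249

theorem p2r250 : allRange pointOk 22 32940 9 = true := by decide +kernel
theorem p2u250 : ∀ k, 30690 ≤ k → k < 32949 → pointOk (k * 22) = true := between_extend pointOk 22 30690 32940 9 (p2u249) p2r250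

theorem p2r251 : allRange pointOk 22 32949 9 = true := by decide +kernel
theorem p2u251 : ∀ k, 30690 ≤ k → k < 32958 → pointOk (k * 22) = true := between_extend pointOk 22 30690 32949 9 (p2u250) p2r251

theorem p2r252 : allRange pointOk 22 32958 9 = true := by decide +kernel
theorem p2u252 : ∀ k, 30690 ≤ k → k < 32967 → pointOk (k * 22) = true := between_extend pointOk 22 30690 32958 9 (p2u251) p2r252

theorem p2r253 : allRange pointOk 22 32967 9 = true := by decide +kernel
theorem p2u253 : ∀ k, 30690 ≤ k → k < 32976 → pointOk (k * 22) = true := between_extend pointOk 22 30690 32967 9 (p2u252) p2r253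

theorem p2r254 : allRange pointOk 22 32976 9 = true := by decide +kernel
theorem p2u254 : ∀ k, 30690 ≤ k → k < 32985 → pointOk (k * 22) = true := between_extend pointOk 22 30690 32976 9 (p2u253) p2r254

theorem p2r255 : allRange pointOk 22 32985 9 = true := by decide +kernel
theorem p2u255 : ∀ k, 30690 ≤ k → k < 32994 → pointOk (k * 22) = true := between_extend pointOk 22 30690 32985 9 (p2u254) p2r255

theorem p2r256 : allRange pointOk 22 32994 9 = true := by decide +kernel
theorem p2u256 : ∀ k, 30690 ≤ k → k < 33003 → pointOk (k * 22) = true := between_extend pointOk 22 30690 32994 9 (p2u255) p2r256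

theorem p2r257 : allRange pointOk 22 33003 9 = true := by decide +kernel
theorem p2u257 : ∀ k, 30690 ≤ k → k < 33012 → pointOk (k * 22) = true := between_extend pointOk 22 30690 33003 9 (p2u256) p2r257

theorem p2r258 : allRange pointOk 22 33012 9 = true := by decide +kernel
theorem p2u258 : ∀ k, 30690 ≤ k → k < 33021 → pointOk (k * 22) = true := between_extend pointOk 22 30690 33012 9 (p2u257) p2r258

theorem p2r259 : allRange pointOk 22 33021 9 = true := by decide +kernel
theorem p2u259 : ∀ k, 30690 ≤ k → k < 33030 → pointOk (k * 22) = true := between_extend pointOk 22 30690 33021 9 (p2u258) p2r259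

theorem p2r260 : allRange pointOk 22 33030 9 = true := by decide +kernel
theorem p2u260 : ∀ k, 30690 ≤ k → k < 33039 → pointOk (k * 22) = true := between_extend pointOk 22 30690 33030 9 (p2u259) p2r260

theorem p2r261 : allRange pointOk 22 33039 9 = true := by decide +kernel
theorem p2u261 : ∀ k, 30690 ≤ k → k < 33048 → pointOk (k * 22) = true := between_extend pointOk 22 30690 33039 9 (p2u260) p2r261

theorem p2r262 : allRange pointOk 22 33048 9 = true := by decide +kernel
theorem p2u262 : ∀ k, 30690 ≤ k → k < 33057 → pointOk (k * 22) = true := between_extend pointOk 22 30690 33048 9 (p2u261) p2r262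

theorem p2r263 : allRange pointOk 22 33057 9 = true := by decide +kernel
theorem p2u263 : ∀ k, 30690 ≤ k → k < 33066 → pointOk (k * 22) = true := between_extend pointOk 22 30690 33057 9 (p2u262) p2r263

theorem p2r264 : allRange pointOk 22 33066 9 = true := by decide +kernel
theorem p2u264 : ∀ k, 30690 ≤ k → k < 33075 → pointOk (k * 22) = true := between_extend pointOk 22 30690 33066 9 (p2u263) p2r264

theorem p2r265 : allRange pointOk 22 33075 9 = true := by decide +kernel
theorem p2u265 : ∀ k, 30690 ≤ k → k < 33084 → pointOk (k * 22) = true := between_extend pointOk 22 30690 33075 9 (p2u264) p2r265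

theorem p2r266 : allRange pointOk 22 33084 9 = true := by decide +kernel
theorem p2u266 : ∀ k, 30690 ≤ k → k < 33093 → pointOk (k * 22) = true := between_extend pointOk 22 30690 33084 9 (p2u265) p2r266

theorem p2r267 : allRange pointOk 22 33093 9 = true := by decide +kernel
theorem p2u267 : ∀ k, 30690 ≤ k → k < 33102 → pointOk (k * 22) = true := between_extend pointOk 22 30690 33093 9 (p2u266) p2r267

theorem p2r268 : allRange pointOk 22 33102 9 = true := by decide +kernel
theorem p2u268 : ∀ k, 30690 ≤ k → k < 33111 → pointOk (k * 22) = true := between_extend pointOk 22 30690 33102 9 (p2u267) p2r268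

theorem p2r269 : allRange pointOk 22 33111 9 = true := by decide +kernel
theorem p2u269 : ∀ k, 30690 ≤ k → k < 33120 → pointOk (k * 22) = true := between_extend pointOk 22 30690 33111 9 (p2u268) p2r269

theorem p2r270 : allRange pointOk 22 33120 9 = true := by decide +kernel
theorem p2u270 : ∀ k, 30690 ≤ k → k < 33129 → pointOk (k * 22) = true := between_extend pointOk 22 30690 33120 9 (p2u269) p2r270

theorem p2r271 : allRange pointOk 22 33129 9 = true := by decide +kernel
theorem p2u271 : ∀ k, 30690 ≤ k → k < 33138 → pointOk (k * 22) = true := between_extend pointOk 22 30690 33129 9 (p2u270) p2r271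

theorem p2r272 : allRange pointOk 22 33138 9 = true := by decide +kernel
theorem p2u272 : ∀ k, 30690 ≤ k → k < 33147 → pointOk (k * 22) = true := between_extend pointOk 22 30690 33138 9 (p2u271) p2r272

theorem p2r273 : allRange pointOk 22 33147 9 = true := by decide +kernel
theorem p2u273 : ∀ k, 30690 ≤ k → k < 33156 → pointOk (k * 22) = true := between_extend pointOk 22 30690 33147 9 (p2u272) p2r273

theorem p2r274 : allRange pointOk 22 33156 9 = true := by decide +kernel
theorem p2u274 : ∀ k, 30690 ≤ k → k < 33165 → pointOk (k * 22) = true := between_extend pointOk 22 30690 33156 9 (p2u273) p2r274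

theorem p2r275 : allRange pointOk 22 33165 9 = true := by decide +kernel
theorem p2u275 : ∀ k, 30690 ≤ k → k < 33174 → pointOk (k * 22) = true := between_extend pointOk 22 30690 33165 9 (p2u274) p2r275

theorem p2r276 : allRange pointOk 22 33174 9 = true := by decide +kernel
theorem p2u276 : ∀ k, 30690 ≤ k → k < 33183 → pointOk (k * 22) = true := between_extend pointOk 22 30690 33174 9 (p2u275) p2r276

theorem p2r277 : allRange pointOk 22 33183 9 = true := by decide +kernel
theorem p2u277 : ∀ k, 30690 ≤ k → k < 33192 → pointOk (k * 22) = true := between_extend pointOk 22 30690 33183 9 (p2u276) p2r277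

theorem p2r278 : allRange pointOk 22 33192 9 = true := by decide +kernel
theorem p2u278 : ∀ k, 30690 ≤ k → k < 33201 → pointOk (k * 22) = true := between_extend pointOk 22 30690 33192 9 (p2u277) p2r278

theorem p2r279 : allRange pointOk 22 33201 9 = true := by decide +kernel
theorem p2u279 : ∀ k, 30690 ≤ k → k < 33210 → pointOk (k * 22) = true := between_extend pointOk 22 30690 33201 9 (p2u278) p2r279

theorem p2r280 : allRange pointOk 22 33210 9 = true := by decide +kernel
theorem p2u280 : ∀ k, 30690 ≤ k → k < 33219 → pointOk (k * 22) = true := between_extend pointOk 22 30690 33210 9 (p2u279) p2r280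

theorem p2r281 : allRange pointOk 22 33219 9 = true := by decide +kernel
theorem p2u281 : ∀ k, 30690 ≤ k → k < 33228 → pointOk (k * 22) = true := between_extend pointOk 22 30690 33219 9 (p2u280) p2r281

theorem p2r282 : allRange pointOk 22 33228 9 = true := by decide +kernel
theorem p2u282 : ∀ k, 30690 ≤ k → k < 33237 → pointOk (k * 22) = true := between_extend pointOk 22 30690 33228 9 (p2u281) p2r282

theorem p2r283 : allRange pointOk 22 33237 9 = true := by decide +kernel
theorem p2u283 : ∀ k, 30690 ≤ k → k < 33246 → pointOk (k * 22) = true := between_extend pointOk 22 30690 33237 9 (p2u282) p2r283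

theorem p2r284 : allRange pointOk 22 33246 9 = true := by decide +kernel
theorem p2u284 : ∀ k, 30690 ≤ k → k < 33255 → pointOk (k * 22) = true := between_extend pointOk 22 30690 33246 9 (p2u283) p2r284

theorem p2r285 : allRange pointOk 22 33255 9 = true := by decide +kernel
theorem p2u285 : ∀ k, 30690 ≤ k → k < 33264 → pointOk (k * 22) = true := between_extend pointOk 22 30690 33255 9 (p2u284) p2r285

theorem p2r286 : allRange pointOk 22 33264 9 = true := by decide +kernel
theorem p2u286 : ∀ k, 30690 ≤ k → k < 33273 → pointOk (k * 22) = true := between_extend pointOk 22 30690 33264 9 (p2u285) p2r286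

theorem p2r287 : allRange pointOk 22 33273 9 = true := by decide +kernel
theorem p2u287 : ∀ k, 30690 ≤ k → k < 33282 → pointOk (k * 22) = true := between_extend pointOk 22 30690 33273 9 (p2u286) p2r287

theorem p2r288 : allRange pointOk 22 33282 9 = true := by decide +kernel
theorem p2u288 : ∀ k, 30690 ≤ k → k < 33291 → pointOk (k * 22) = true := between_extend pointOk 22 30690 33282 9 (p2u287) p2r288

theorem p2r289 : allRange pointOk 22 33291 9 = true := by decide +kernel
theorem p2u289 : ∀ k, 30690 ≤ k → k < 33300 → pointOk (k * 22) = true := between_extend pointOk 22 30690 33291 9 (p2u288) p2r289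

theorem p2r290 : allRange pointOk 22 33300 9 = true := by decide +kernel
theorem p2u290 : ∀ k, 30690 ≤ k → k < 33309 → pointOk (k * 22) = true := between_extend pointOk 22 30690 33300 9 (p2u289) p2r290

theorem p2r291 : allRange pointOk 22 33309 9 = true := by decide +kernel
theorem p2u291 : ∀ k, 30690 ≤ k → k < 33318 → pointOk (k * 22) = true := between_extend pointOk 22 30690 33309 9 (p2u290) p2r291

theorem p2r292 : allRange pointOk 22 33318 9 = true := by decide +kernel
theorem p2u292 : ∀ k, 30690 ≤ k → k < 33327 → pointOk (k * 22) = true := between_extend pointOk 22 30690 33318 9 (p2u291) p2r292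

theorem p2r293 : allRange pointOk 22 33327 9 = true := by decide +kernel
theorem p2u293 : ∀ k, 30690 ≤ k → k < 33336 → pointOk (k * 22) = true := between_extend pointOk 22 30690 33327 9 (p2u292) p2r293

theorem p2r294 : allRange pointOk 22 33336 9 = true := by decide +kernel
theorem p2u294 : ∀ k, 30690 ≤ k → k < 33345 → pointOk (k * 22) = true := between_extend pointOk 22 30690 33336 9 (p2u293) p2r294

theorem p2r295 : allRange pointOk 22 33345 9 = true := by decide +kernel
theorem p2u295 : ∀ k, 30690 ≤ k → k < 33354 → pointOk (k * 22) = true := between_extend pointOk 22 30690 33345 9 (p2u294) p2r295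

theorem p2r296 : allRange pointOk 22 33354 9 = true := by decide +kernel
theorem p2u296 : ∀ k, 30690 ≤ k → k < 33363 → pointOk (k * 22) = true := between_extend pointOk 22 30690 33354 9 (p2u295) p2r296

theorem p2r297 : allRange pointOk 22 33363 9 = true := by decide +kernel
theorem p2u297 : ∀ k, 30690 ≤ k → k < 33372 → pointOk (k * 22) = true := between_extend pointOk 22 30690 33363 9 (p2u296) p2r297

theorem p2r298 : allRange pointOk 22 33372 9 = true := by decide +kernel
theorem p2u298 : ∀ k, 30690 ≤ k → k < 33381 → pointOk (k * 22) = true := between_extend pointOk 22 30690 33372 9 (p2u297) p2r298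

theorem p2r299 : allRange pointOk 22 33381 9 = true := by decide +kernel
theorem p2u299 : ∀ k, 30690 ≤ k → k < 33390 → pointOk (k * 22) = true := between_extend pointOk 22 30690 33381 9 (p2u298) p2r299

theorem p2r300 : allRange pointOk 22 33390 9 = true := by decide +kernel
theorem p2u300 : ∀ k, 30690 ≤ k → k < 33399 → pointOk (k * 22) = true := between_extend pointOk 22 30690 33390 9 (p2u299) p2r300

theorem p2r301 : allRange pointOk 22 33399 9 = true := by decide +kernel
theorem p2u301 : ∀ k, 30690 ≤ k → k < 33408 → pointOk (k * 22) = true := between_extend pointOk 22 30690 33399 9 (p2u300) p2r301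

theorem p2r302 : allRange pointOk 22 33408 9 = true := by decide +kernel
theorem p2u302 : ∀ k, 30690 ≤ k → k < 33417 → pointOk (k * 22) = true := between_extend pointOk 22 30690 33408 9 (p2u301) p2r302

theorem p2r303 : allRange pointOk 22 33417 9 = true := by decide +kernel
theorem p2u303 : ∀ k, 30690 ≤ k → k < 33426 → pointOk (k * 22) = true := between_extend pointOk 22 30690 33417 9 (p2u302) p2r303

theorem p2r304 : allRange pointOk 22 33426 9 = true := by decide +kernel
theorem p2u304 : ∀ k, 30690 ≤ k → k < 33435 → pointOk (k * 22) = true := between_extend pointOk 22 30690 33426 9 (p2u303) p2r304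

theorem p2r305 : allRange pointOk 22 33435 9 = true := by decide +kernel
theorem p2u305 : ∀ k, 30690 ≤ k → k < 33444 → pointOk (k * 22) = true := between_extend pointOk 22 30690 33435 9 (p2u304) p2r305

theorem p2r306 : allRange pointOk 22 33444 9 = true := by decide +kernel
theorem p2u306 : ∀ k, 30690 ≤ k → k < 33453 → pointOk (k * 22) = true := between_extend pointOk 22 30690 33444 9 (p2u305) p2r306

theorem p2r307 : allRange pointOk 22 33453 9 = true := by decide +kernel
theorem p2u307 : ∀ k, 30690 ≤ k → k < 33462 → pointOk (k * 22) = true := between_extend pointOk 22 30690 33453 9 (p2u306) p2r307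

theorem p2r308 : allRange pointOk 22 33462 9 = true := by decide +kernel
theorem p2u308 : ∀ k, 30690 ≤ k → k < 33471 → pointOk (k * 22) = true := between_extend pointOk 22 30690 33462 9 (p2u307) p2r308

theorem p2r309 : allRange pointOk 22 33471 9 = true := by decide +kernel
theorem p2u309 : ∀ k, 30690 ≤ k → k < 33480 → pointOk (k * 22) = true := between_extend pointOk 22 30690 33471 9 (p2u308) p2r309

theorem p2r310 : allRange pointOk 22 33480 9 = true := by decide +kernel
theorem p2u310 : ∀ k, 30690 ≤ k → k < 33489 → pointOk (k * 22) = true := between_extend pointOk 22 30690 33480 9 (p2u309) p2r310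

theorem p2r311 : allRange pointOk 22 33489 9 = true := by decide +kernel
theorem p2u311 : ∀ k, 30690 ≤ k → k < 33498 → pointOk (k * 22) = true := between_extend pointOk 22 30690 33489 9 (p2u310) p2r311

theorem p2r312 : allRange pointOk 22 33498 9 = true := by decide +kernel
theorem p2u312 : ∀ k, 30690 ≤ k → k < 33507 → pointOk (k * 22) = true := between_extend pointOk 22 30690 33498 9 (p2u311) p2r312

theorem p2r313 : allRange pointOk 22 33507 9 = true := by decide +kernel
theorem p2u313 : ∀ k, 30690 ≤ k → k < 33516 → pointOk (k * 22) = true := between_extend pointOk 22 30690 33507 9 (p2u312) p2r313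

theorem p2r314 : allRange pointOk 22 33516 9 = true := by decide +kernel
theorem p2u314 : ∀ k, 30690 ≤ k → k < 33525 → pointOk (k * 22) = true := between_extend pointOk 22 30690 33516 9 (p2u313) p2r314

theorem p2r315 : allRange pointOk 22 33525 9 = true := by decide +kernel
theorem p2u315 : ∀ k, 30690 ≤ k → k < 33534 → pointOk (k * 22) = true := between_extend pointOk 22 30690 33525 9 (p2u314) p2r315

theorem p2r316 : allRange pointOk 22 33534 9 = true := by decide +kernel
theorem p2u316 : ∀ k, 30690 ≤ k → k < 33543 → pointOk (k * 22) = true := between_extend pointOk 22 30690 33534 9 (p2u315) p2r316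

theorem p2r317 : allRange pointOk 22 33543 9 = true := by decide +kernel
theorem p2u317 : ∀ k, 30690 ≤ k → k < 33552 → pointOk (k * 22) = true := between_extend pointOk 22 30690 33543 9 (p2u316) p2r317

theorem p2r318 : allRange pointOk 22 33552 9 = true := by decide +kernel
theorem p2u318 : ∀ k, 30690 ≤ k → k < 33561 → pointOk (k * 22) = true := between_extend pointOk 22 30690 33552 9 (p2u317) p2r318

theorem p2r319 : allRange pointOk 22 33561 9 = true := by decide +kernel
theorem p2u319 : ∀ k, 30690 ≤ k → k < 33570 → pointOk (k * 22) = true := between_extend pointOk 22 30690 33561 9 (p2u318) p2r319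

theorem p2r320 : allRange pointOk 22 33570 9 = true := by decide +kernel
theorem p2u320 : ∀ k, 30690 ≤ k → k < 33579 → pointOk (k * 22) = true := between_extend pointOk 22 30690 33570 9 (p2u319) p2r320

theorem p2r321 : allRange pointOk 22 33579 9 = true := by decide +kernel
theorem p2u321 : ∀ k, 30690 ≤ k → k < 33588 → pointOk (k * 22) = true := between_extend pointOk 22 30690 33579 9 (p2u320) p2r321

theorem p2r322 : allRange pointOk 22 33588 9 = true := by decide +kernel
theorem p2u322 : ∀ k, 30690 ≤ k → k < 33597 → pointOk (k * 22) = true := between_extend pointOk 22 30690 33588 9 (p2u321) p2r322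

theorem p2r323 : allRange pointOk 22 33597 9 = true := by decide +kernel
theorem p2u323 : ∀ k, 30690 ≤ k → k < 33606 → pointOk (k * 22) = true := between_extend pointOk 22 30690 33597 9 (p2u322) p2r323

theorem p2r324 : allRange pointOk 22 33606 9 = true := by decide +kernel
theorem p2u324 : ∀ k, 30690 ≤ k → k < 33615 → pointOk (k * 22) = true := between_extend pointOk 22 30690 33606 9 (p2u323) p2r324

theorem p2r325 : allRange pointOk 22 33615 9 = true := by decide +kernel
theorem p2u325 : ∀ k, 30690 ≤ k → k < 33624 → pointOk (k * 22) = true := between_extend pointOk 22 30690 33615 9 (p2u324) p2r325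

theorem p2r326 : allRange pointOk 22 33624 9 = true := by decide +kernel
theorem p2u326 : ∀ k, 30690 ≤ k → k < 33633 → pointOk (k * 22) = true := between_extend pointOk 22 30690 33624 9 (p2u325) p2r326

theorem p2r327 : allRange pointOk 22 33633 9 = true := by decide +kernel
theorem p2u327 : ∀ k, 30690 ≤ k → k < 33642 → pointOk (k * 22) = true := between_extend pointOk 22 30690 33633 9 (p2u326) p2r327

theorem p2r328 : allRange pointOk 22 33642 9 = true := by decide +kernel
theorem p2u328 : ∀ k, 30690 ≤ k → k < 33651 → pointOk (k * 22) = true := between_extend pointOk 22 30690 33642 9 (p2u327) p2r328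

theorem p2r329 : allRange pointOk 22 33651 9 = true := by decide +kernel
theorem p2u329 : ∀ k, 30690 ≤ k → k < 33660 → pointOk (k * 22) = true := between_extend pointOk 22 30690 33651 9 (p2u328) p2r329

theorem p2r330 : allRange pointOk 22 33660 9 = true := by decide +kernel
theorem p2u330 : ∀ k, 30690 ≤ k → k < 33669 → pointOk (k * 22) = true := between_extend pointOk 22 30690 33660 9 (p2u329) p2r330

theorem p2r331 : allRange pointOk 22 33669 9 = true := by decide +kernel
theorem p2u331 : ∀ k, 30690 ≤ k → k < 33678 → pointOk (k * 22) = true := between_extend pointOk 22 30690 33669 9 (p2u330) p2r331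

theorem p2r332 : allRange pointOk 22 33678 9 = true := by decide +kernel
theorem p2u332 : ∀ k, 30690 ≤ k → k < 33687 → pointOk (k * 22) = true := between_extend pointOk 22 30690 33678 9 (p2u331) p2r332

theorem p2r333 : allRange pointOk 22 33687 9 = true := by decide +kernel
theorem p2u333 : ∀ k, 30690 ≤ k → k < 33696 → pointOk (k * 22) = true := between_extend pointOk 22 30690 33687 9 (p2u332) p2r333

theorem p2r334 : allRange pointOk 22 33696 9 = true := by decide +kernel
theorem p2u334 : ∀ k, 30690 ≤ k → k < 33705 → pointOk (k * 22) = true := between_extend pointOk 22 30690 33696 9 (p2u333) p2r334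

theorem p2r335 : allRange pointOk 22 33705 9 = true := by decide +kernel
theorem p2u335 : ∀ k, 30690 ≤ k → k < 33714 → pointOk (k * 22) = true := between_extend pointOk 22 30690 33705 9 (p2u334) p2r335

theorem p2r336 : allRange pointOk 22 33714 9 = true := by decide +kernel
theorem p2u336 : ∀ k, 30690 ≤ k → k < 33723 → pointOk (k * 22) = true := between_extend pointOk 22 30690 33714 9 (p2u335) p2r336

theorem p2r337 : allRange pointOk 22 33723 9 = true := by decide +kernel
theorem p2u337 : ∀ k, 30690 ≤ k → k < 33732 → pointOk (k * 22) = true := between_extend pointOk 22 30690 33723 9 (p2u336) p2r337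

theorem p2r338 : allRange pointOk 22 33732 9 = true := by decide +kernel
theorem p2u338 : ∀ k, 30690 ≤ k → k < 33741 → pointOk (k * 22) = true := between_extend pointOk 22 30690 33732 9 (p2u337) p2r338

theorem p2r339 : allRange pointOk 22 33741 9 = true := by decide +kernel
theorem p2u339 : ∀ k, 30690 ≤ k → k < 33750 → pointOk (k * 22) = true := between_extend pointOk 22 30690 33741 9 (p2u338) p2r339

theorem p2r340 : allRange pointOk 22 33750 9 = true := by decide +kernel
theorem p2u340 : ∀ k, 30690 ≤ k → k < 33759 → pointOk (k * 22) = true := between_extend pointOk 22 30690 33750 9 (p2u339) p2r340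

theorem p2r341 : allRange pointOk 22 33759 9 = true := by decide +kernel
theorem p2u341 : ∀ k, 30690 ≤ k → k < 33768 → pointOk (k * 22) = true := between_extend pointOk 22 30690 33759 9 (p2u340) p2r341

theorem p2r342 : allRange pointOk 22 33768 9 = true := by decide +kernel
theorem p2u342 : ∀ k, 30690 ≤ k → k < 33777 → pointOk (k * 22) = true := between_extend pointOk 22 30690 33768 9 (p2u341) p2r342

theorem p2r343 : allRange pointOk 22 33777 9 = true := by decide +kernel
theorem p2u343 : ∀ k, 30690 ≤ k → k < 33786 → pointOk (k * 22) = true := between_extend pointOk 22 30690 33777 9 (p2u342) p2r343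

theorem p2r344 : allRange pointOk 22 33786 9 = true := by decide +kernel
theorem p2u344 : ∀ k, 30690 ≤ k → k < 33795 → pointOk (k * 22) = true := between_extend pointOk 22 30690 33786 9 (p2u343) p2r344

theorem p2r345 : allRange pointOk 22 33795 9 = true := by decide +kernel
theorem p2u345 : ∀ k, 30690 ≤ k → k < 33804 → pointOk (k * 22) = true := between_extend pointOk 22 30690 33795 9 (p2u344) p2r345

theorem p2r346 : allRange pointOk 22 33804 9 = true := by decide +kernel
theorem p2u346 : ∀ k, 30690 ≤ k → k < 33813 → pointOk (k * 22) = true := between_extend pointOk 22 30690 33804 9 (p2u345) p2r346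

theorem p2r347 : allRange pointOk 22 33813 9 = true := by decide +kernel
theorem p2u347 : ∀ k, 30690 ≤ k → k < 33822 → pointOk (k * 22) = true := between_extend pointOk 22 30690 33813 9 (p2u346) p2r347

theorem p2r348 : allRange pointOk 22 33822 9 = true := by decide +kernel
theorem p2u348 : ∀ k, 30690 ≤ k → k < 33831 → pointOk (k * 22) = true := between_extend pointOk 22 30690 33822 9 (p2u347) p2r348

theorem p2r349 : allRange pointOk 22 33831 9 = true := by decide +kernel
theorem p2u349 : ∀ k, 30690 ≤ k → k < 33840 → pointOk (k * 22) = true := between_extend pointOk 22 30690 33831 9 (p2u348) p2r349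

theorem p2r350 : allRange pointOk 22 33840 9 = true := by decide +kernel
theorem p2u350 : ∀ k, 30690 ≤ k → k < 33849 → pointOk (k * 22) = true := between_extend pointOk 22 30690 33840 9 (p2u349) p2r350

theorem p2r351 : allRange pointOk 22 33849 9 = true := by decide +kernel
theorem p2u351 : ∀ k, 30690 ≤ k → k < 33858 → pointOk (k * 22) = true := between_extend pointOk 22 30690 33849 9 (p2u350) p2r351

theorem p2r352 : allRange pointOk 22 33858 9 = true := by decide +kernel
theorem p2u352 : ∀ k, 30690 ≤ k → k < 33867 → pointOk (k * 22) = true := between_extend pointOk 22 30690 33858 9 (p2u351) p2r352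

theorem p2r353 : allRange pointOk 22 33867 9 = true := by decide +kernel
theorem p2u353 : ∀ k, 30690 ≤ k → k < 33876 → pointOk (k * 22) = true := between_extend pointOk 22 30690 33867 9 (p2u352) p2r353

theorem p2r354 : allRange pointOk 22 33876 9 = true := by decide +kernel
theorem p2u354 : ∀ k, 30690 ≤ k → k < 33885 → pointOk (k * 22) = true := between_extend pointOk 22 30690 33876 9 (p2u353) p2r354

theorem p2r355 : allRange pointOk 22 33885 9 = true := by decide +kernel
theorem p2u355 : ∀ k, 30690 ≤ k → k < 33894 → pointOk (k * 22) = true := between_extend pointOk 22 30690 33885 9 (p2u354) p2r355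

theorem p2r356 : allRange pointOk 22 33894 9 = true := by decide +kernel
theorem p2u356 : ∀ k, 30690 ≤ k → k < 33903 → pointOk (k * 22) = true := between_extend pointOk 22 30690 33894 9 (p2u355) p2r356

theorem p2r357 : allRange pointOk 22 33903 9 = true := by decide +kernel
theorem p2u357 : ∀ k, 30690 ≤ k → k < 33912 → pointOk (k * 22) = true := between_extend pointOk 22 30690 33903 9 (p2u356) p2r357

theorem p2r358 : allRange pointOk 22 33912 9 = true := by decide +kernel
theorem p2u358 : ∀ k, 30690 ≤ k → k < 33921 → pointOk (k * 22) = true := between_extend pointOk 22 30690 33912 9 (p2u357) p2r358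

theorem p2r359 : allRange pointOk 22 33921 9 = true := by decide +kernel
theorem p2u359 : ∀ k, 30690 ≤ k → k < 33930 → pointOk (k * 22) = true := between_extend pointOk 22 30690 33921 9 (p2u358) p2r359

theorem p2r360 : allRange pointOk 22 33930 9 = true := by decide +kernel
theorem p2u360 : ∀ k, 30690 ≤ k → k < 33939 → pointOk (k * 22) = true := between_extend pointOk 22 30690 33930 9 (p2u359) p2r360

theorem p2r361 : allRange pointOk 22 33939 9 = true := by decide +kernel
theorem p2u361 : ∀ k, 30690 ≤ k → k < 33948 → pointOk (k * 22) = true := between_extend pointOk 22 30690 33939 9 (p2u360) p2r361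

theorem p2r362 : allRange pointOk 22 33948 9 = true := by decide +kernel
theorem p2u362 : ∀ k, 30690 ≤ k → k < 33957 → pointOk (k * 22) = true := between_extend pointOk 22 30690 33948 9 (p2u361) p2r362

theorem p2r363 : allRange pointOk 22 33957 9 = true := by decide +kernel
theorem p2u363 : ∀ k, 30690 ≤ k → k < 33966 → pointOk (k * 22) = true := between_extend pointOk 22 30690 33957 9 (p2u362) p2r363

theorem p2r364 : allRange pointOk 22 33966 9 = true := by decide +kernel
theorem p2u364 : ∀ k, 30690 ≤ k → k < 33975 → pointOk (k * 22) = true := between_extend pointOk 22 30690 33966 9 (p2u363) p2r364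

theorem p2r365 : allRange pointOk 22 33975 9 = true := by decide +kernel
theorem p2u365 : ∀ k, 30690 ≤ k → k < 33984 → pointOk (k * 22) = true := between_extend pointOk 22 30690 33975 9 (p2u364) p2r365

theorem p2r366 : allRange pointOk 22 33984 9 = true := by decide +kernel
theorem p2u366 : ∀ k, 30690 ≤ k → k < 33993 → pointOk (k * 22) = true := between_extend pointOk 22 30690 33984 9 (p2u365) p2r366

theorem p2r367 : allRange pointOk 22 33993 9 = true := by decide +kernel
theorem p2u367 : ∀ k, 30690 ≤ k → k < 34002 → pointOk (k * 22) = true := between_extend pointOk 22 30690 33993 9 (p2u366) p2r367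

theorem p2r368 : allRange pointOk 22 34002 9 = true := by decide +kernel
theorem p2u368 : ∀ k, 30690 ≤ k → k < 34011 → pointOk (k * 22) = true := between_extend pointOk 22 30690 34002 9 (p2u367) p2r368

theorem p2r369 : allRange pointOk 22 34011 9 = true := by decide +kernel
theorem p2u369 : ∀ k, 30690 ≤ k → k < 34020 → pointOk (k * 22) = true := between_extend pointOk 22 30690 34011 9 (p2u368) p2r369

theorem p2r370 : allRange pointOk 22 34020 9 = true := by decide +kernel
theorem p2u370 : ∀ k, 30690 ≤ k → k < 34029 → pointOk (k * 22) = true := between_extend pointOk 22 30690 34020 9 (p2u369) p2r370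

theorem p2r371 : allRange pointOk 22 34029 9 = true := by decide +kernel
theorem p2u371 : ∀ k, 30690 ≤ k → k < 34038 → pointOk (k * 22) = true := between_extend pointOk 22 30690 34029 9 (p2u370) p2r371

theorem p2r372 : allRange pointOk 22 34038 9 = true := by decide +kernel
theorem p2u372 : ∀ k, 30690 ≤ k → k < 34047 → pointOk (k * 22) = true := between_extend pointOk 22 30690 34038 9 (p2u371) p2r372

theorem p2r373 : allRange pointOk 22 34047 9 = true := by decide +kernel
theorem p2u373 : ∀ k, 30690 ≤ k → k < 34056 → pointOk (k * 22) = true := between_extend pointOk 22 30690 34047 9 (p2u372) p2r373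

theorem p2r374 : allRange pointOk 22 34056 9 = true := by decide +kernel
theorem p2u374 : ∀ k, 30690 ≤ k → k < 34065 → pointOk (k * 22) = true := between_extend pointOk 22 30690 34056 9 (p2u373) p2r374

theorem p2r375 : allRange pointOk 22 34065 9 = true := by decide +kernel
theorem p2u375 : ∀ k, 30690 ≤ k → k < 34074 → pointOk (k * 22) = true := between_extend pointOk 22 30690 34065 9 (p2u374) p2r375

theorem p2r376 : allRange pointOk 22 34074 9 = true := by decide +kernel
theorem p2u376 : ∀ k, 30690 ≤ k → k < 34083 → pointOk (k * 22) = true := between_extend pointOk 22 30690 34074 9 (p2u375) p2r376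

theorem p2r377 : allRange pointOk 22 34083 9 = true := by decide +kernel
theorem p2u377 : ∀ k, 30690 ≤ k → k < 34092 → pointOk (k * 22) = true := between_extend pointOk 22 30690 34083 9 (p2u376) p2r377

theorem p2r378 : allRange pointOk 22 34092 9 = true := by decide +kernel
theorem p2u378 : ∀ k, 30690 ≤ k → k < 34101 → pointOk (k * 22) = true := between_extend pointOk 22 30690 34092 9 (p2u377) p2r378

theorem p2r379 : allRange pointOk 22 34101 9 = true := by decide +kernel
theorem p2u379 : ∀ k, 30690 ≤ k → k < 34110 → pointOk (k * 22) = true := between_extend pointOk 22 30690 34101 9 (p2u378) p2r379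

theorem p2r380 : allRange pointOk 22 34110 9 = true := by decide +kernel
theorem p2u380 : ∀ k, 30690 ≤ k → k < 34119 → pointOk (k * 22) = true := between_extend pointOk 22 30690 34110 9 (p2u379) p2r380

theorem p2r381 : allRange pointOk 22 34119 9 = true := by decide +kernel
theorem p2u381 : ∀ k, 30690 ≤ k → k < 34128 → pointOk (k * 22) = true := between_extend pointOk 22 30690 34119 9 (p2u380) p2r381

theorem p2r382 : allRange pointOk 22 34128 9 = true := by decide +kernel
theorem p2u382 : ∀ k, 30690 ≤ k → k < 34137 → pointOk (k * 22) = true := between_extend pointOk 22 30690 34128 9 (p2u381) p2r382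

theorem p2r383 : allRange pointOk 22 34137 9 = true := by decide +kernel
theorem p2u383 : ∀ k, 30690 ≤ k → k < 34146 → pointOk (k * 22) = true := between_extend pointOk 22 30690 34137 9 (p2u382) p2r383

theorem p2r384 : allRange pointOk 22 34146 9 = true := by decide +kernel
theorem p2u384 : ∀ k, 30690 ≤ k → k < 34155 → pointOk (k * 22) = true := between_extend pointOk 22 30690 34146 9 (p2u383) p2r384

theorem p2r385 : allRange pointOk 22 34155 9 = true := by decide +kernel
theorem p2u385 : ∀ k, 30690 ≤ k → k < 34164 → pointOk (k * 22) = true := between_extend pointOk 22 30690 34155 9 (p2u384) p2r385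

theorem p2r386 : allRange pointOk 22 34164 9 = true := by decide +kernel
theorem p2u386 : ∀ k, 30690 ≤ k → k < 34173 → pointOk (k * 22) = true := between_extend pointOk 22 30690 34164 9 (p2u385) p2r386

theorem p2r387 : allRange pointOk 22 34173 9 = true := by decide +kernel
theorem p2u387 : ∀ k, 30690 ≤ k → k < 34182 → pointOk (k * 22) = true := between_extend pointOk 22 30690 34173 9 (p2u386) p2r387

theorem p2r388 : allRange pointOk 22 34182 9 = true := by decide +kernel
theorem p2u388 : ∀ k, 30690 ≤ k → k < 34191 → pointOk (k * 22) = true := between_extend pointOk 22 30690 34182 9 (p2u387) p2r388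

theorem p2r389 : allRange pointOk 22 34191 9 = true := by decide +kernel
theorem p2u389 : ∀ k, 30690 ≤ k → k < 34200 → pointOk (k * 22) = true := between_extend pointOk 22 30690 34191 9 (p2u388) p2r389

theorem p2r390 : allRange pointOk 22 34200 9 = true := by decide +kernel
theorem p2u390 : ∀ k, 30690 ≤ k → k < 34209 → pointOk (k * 22) = true := between_extend pointOk 22 30690 34200 9 (p2u389) p2r390

theorem p2r391 : allRange pointOk 22 34209 9 = true := by decide +kernel
theorem p2u391 : ∀ k, 30690 ≤ k → k < 34218 → pointOk (k * 22) = true := between_extend pointOk 22 30690 34209 9 (p2u390) p2r391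

theorem p2r392 : allRange pointOk 22 34218 9 = true := by decide +kernel
theorem p2u392 : ∀ k, 30690 ≤ k → k < 34227 → pointOk (k * 22) = true := between_extend pointOk 22 30690 34218 9 (p2u391) p2r392

theorem p2r393 : allRange pointOk 22 34227 9 = true := by decide +kernel
theorem p2u393 : ∀ k, 30690 ≤ k → k < 34236 → pointOk (k * 22) = true := between_extend pointOk 22 30690 34227 9 (p2u392) p2r393

theorem p2r394 : allRange pointOk 22 34236 9 = true := by decide +kernel
theorem p2u394 : ∀ k, 30690 ≤ k → k < 34245 → pointOk (k * 22) = true := between_extend pointOk 22 30690 34236 9 (p2u393) p2r394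

theorem p2r395 : allRange pointOk 22 34245 9 = true := by decide +kernel
theorem p2u395 : ∀ k, 30690 ≤ k → k < 34254 → pointOk (k * 22) = true := between_extend pointOk 22 30690 34245 9 (p2u394) p2r395

theorem p2r396 : allRange pointOk 22 34254 9 = true := by decide +kernel
theorem p2u396 : ∀ k, 30690 ≤ k → k < 34263 → pointOk (k * 22) = true := between_extend pointOk 22 30690 34254 9 (p2u395) p2r396

theorem p2r397 : allRange pointOk 22 34263 9 = true := by decide +kernel
theorem p2u397 : ∀ k, 30690 ≤ k → k < 34272 → pointOk (k * 22) = true := between_extend pointOk 22 30690 34263 9 (p2u396) p2r397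

theorem p2r398 : allRange pointOk 22 34272 9 = true := by decide +kernel
theorem p2u398 : ∀ k, 30690 ≤ k → k < 34281 → pointOk (k * 22) = true := between_extend pointOk 22 30690 34272 9 (p2u397) p2r398

theorem p2r399 : allRange pointOk 22 34281 9 = true := by decide +kernel
theorem p2u399 : ∀ k, 30690 ≤ k → k < 34290 → pointOk (k * 22) = true := between_extend pointOk 22 30690 34281 9 (p2u398) p2r399

theorem p2r400 : allRange pointOk 22 34290 9 = true := by decide +kernel
theorem p2u400 : ∀ k, 30690 ≤ k → k < 34299 → pointOk (k * 22) = true := between_extend pointOk 22 30690 34290 9 (p2u399) p2r400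

theorem p2r401 : allRange pointOk 22 34299 9 = true := by decide +kernel
theorem p2u401 : ∀ k, 30690 ≤ k → k < 34308 → pointOk (k * 22) = true := between_extend pointOk 22 30690 34299 9 (p2u400) p2r401

theorem p2r402 : allRange pointOk 22 34308 9 = true := by decide +kernel
theorem p2u402 : ∀ k, 30690 ≤ k → k < 34317 → pointOk (k * 22) = true := between_extend pointOk 22 30690 34308 9 (p2u401) p2r402

theorem p2r403 : allRange pointOk 22 34317 9 = true := by decide +kernel
theorem p2u403 : ∀ k, 30690 ≤ k → k < 34326 → pointOk (k * 22) = true := between_extend pointOk 22 30690 34317 9 (p2u402) p2r403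

theorem p2r404 : allRange pointOk 22 34326 9 = true := by decide +kernel
theorem p2u404 : ∀ k, 30690 ≤ k → k < 34335 → pointOk (k * 22) = true := between_extend pointOk 22 30690 34326 9 (p2u403) p2r404

theorem p2r405 : allRange pointOk 22 34335 9 = true := by decide +kernel
theorem p2u405 : ∀ k, 30690 ≤ k → k < 34344 → pointOk (k * 22) = true := between_extend pointOk 22 30690 34335 9 (p2u404) p2r405

theorem p2r406 : allRange pointOk 22 34344 9 = true := by decide +kernel
theorem p2u406 : ∀ k, 30690 ≤ k → k < 34353 → pointOk (k * 22) = true := between_extend pointOk 22 30690 34344 9 (p2u405) p2r406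

theorem p2r407 : allRange pointOk 22 34353 9 = true := by decide +kernel
theorem p2u407 : ∀ k, 30690 ≤ k → k < 34362 → pointOk (k * 22) = true := between_extend pointOk 22 30690 34353 9 (p2u406) p2r407

theorem p2r408 : allRange pointOk 22 34362 9 = true := by decide +kernel
theorem p2u408 : ∀ k, 30690 ≤ k → k < 34371 → pointOk (k * 22) = true := between_extend pointOk 22 30690 34362 9 (p2u407) p2r408

theorem p2r409 : allRange pointOk 22 34371 9 = true := by decide +kernel
theorem p2u409 : ∀ k, 30690 ≤ k → k < 34380 → pointOk (k * 22) = true := between_extend pointOk 22 30690 34371 9 (p2u408) p2r409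

theorem p2r410 : allRange pointOk 22 34380 9 = true := by decide +kernel
theorem p2u410 : ∀ k, 30690 ≤ k → k < 34389 → pointOk (k * 22) = true := between_extend pointOk 22 30690 34380 9 (p2u409) p2r410

theorem p2r411 : allRange pointOk 22 34389 9 = true := by decide +kernel
theorem p2u411 : ∀ k, 30690 ≤ k → k < 34398 → pointOk (k * 22) = true := between_extend pointOk 22 30690 34389 9 (p2u410) p2r411

theorem p2r412 : allRange pointOk 22 34398 9 = true := by decide +kernel
theorem p2u412 : ∀ k, 30690 ≤ k → k < 34407 → pointOk (k * 22) = true := between_extend pointOk 22 30690 34398 9 (p2u411) p2r412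

theorem p2r413 : allRange pointOk 22 34407 9 = true := by decide +kernel
theorem p2u413 : ∀ k, 30690 ≤ k → k < 34416 → pointOk (k * 22) = true := between_extend pointOk 22 30690 34407 9 (p2u412) p2r413

theorem p2r414 : allRange pointOk 22 34416 9 = true := by decide +kernel
theorem p2u414 : ∀ k, 30690 ≤ k → k < 34425 → pointOk (k * 22) = true := between_extend pointOk 22 30690 34416 9 (p2u413) p2r414

theorem p2r415 : allRange pointOk 22 34425 9 = true := by decide +kernel
theorem p2u415 : ∀ k, 30690 ≤ k → k < 34434 → pointOk (k * 22) = true := between_extend pointOk 22 30690 34425 9 (p2u414) p2r415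

theorem p2r416 : allRange pointOk 22 34434 9 = true := by decide +kernel
theorem p2u416 : ∀ k, 30690 ≤ k → k < 34443 → pointOk (k * 22) = true := between_extend pointOk 22 30690 34434 9 (p2u415) p2r416

theorem p2r417 : allRange pointOk 22 34443 9 = true := by decide +kernel
theorem p2u417 : ∀ k, 30690 ≤ k → k < 34452 → pointOk (k * 22) = true := between_extend pointOk 22 30690 34443 9 (p2u416) p2r417

theorem p2r418 : allRange pointOk 22 34452 9 = true := by decide +kernel
theorem p2u418 : ∀ k, 30690 ≤ k → k < 34461 → pointOk (k * 22) = true := between_extend pointOk 22 30690 34452 9 (p2u417) p2r418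

theorem p2r419 : allRange pointOk 22 34461 9 = true := by decide +kernel
theorem p2u419 : ∀ k, 30690 ≤ k → k < 34470 → pointOk (k * 22) = true := between_extend pointOk 22 30690 34461 9 (p2u418) p2r419

theorem p2r420 : allRange pointOk 22 34470 9 = true := by decide +kernel
theorem p2u420 : ∀ k, 30690 ≤ k → k < 34479 → pointOk (k * 22) = true := between_extend pointOk 22 30690 34470 9 (p2u419) p2r420

theorem p2r421 : allRange pointOk 22 34479 9 = true := by decide +kernel
theorem p2u421 : ∀ k, 30690 ≤ k → k < 34488 → pointOk (k * 22) = true := between_extend pointOk 22 30690 34479 9 (p2u420) p2r421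

theorem p2r422 : allRange pointOk 22 34488 9 = true := by decide +kernel
theorem p2u422 : ∀ k, 30690 ≤ k → k < 34497 → pointOk (k * 22) = true := between_extend pointOk 22 30690 34488 9 (p2u421) p2r422

theorem p2r423 : allRange pointOk 22 34497 9 = true := by decide +kernel
theorem p2u423 : ∀ k, 30690 ≤ k → k < 34506 → pointOk (k * 22) = true := between_extend pointOk 22 30690 34497 9 (p2u422) p2r423

theorem p2r424 : allRange pointOk 22 34506 9 = true := by decide +kernel
theorem p2u424 : ∀ k, 30690 ≤ k → k < 34515 → pointOk (k * 22) = true := between_extend pointOk 22 30690 34506 9 (p2u423) p2r424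

theorem p2r425 : allRange pointOk 22 34515 9 = true := by decide +kernel
theorem p2u425 : ∀ k, 30690 ≤ k → k < 34524 → pointOk (k * 22) = true := between_extend pointOk 22 30690 34515 9 (p2u424) p2r425

theorem p2r426 : allRange pointOk 22 34524 9 = true := by decide +kernel
theorem p2u426 : ∀ k, 30690 ≤ k → k < 34533 → pointOk (k * 22) = true := between_extend pointOk 22 30690 34524 9 (p2u425) p2r426

theorem p2r427 : allRange pointOk 22 34533 9 = true := by decide +kernel
theorem p2u427 : ∀ k, 30690 ≤ k → k < 34542 → pointOk (k * 22) = true := between_extend pointOk 22 30690 34533 9 (p2u426) p2r427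

theorem p2r428 : allRange pointOk 22 34542 9 = true := by decide +kernel
theorem p2u428 : ∀ k, 30690 ≤ k → k < 34551 → pointOk (k * 22) = true := between_extend pointOk 22 30690 34542 9 (p2u427) p2r428

theorem p2r429 : allRange pointOk 22 34551 9 = true := by decide +kernel
theorem p2u429 : ∀ k, 30690 ≤ k → k < 34560 → pointOk (k * 22) = true := between_extend pointOk 22 30690 34551 9 (p2u428) p2r429

theorem p2r430 : allRange pointOk 22 34560 9 = true := by decide +kernel
theorem p2u430 : ∀ k, 30690 ≤ k → k < 34569 → pointOk (k * 22) = true := between_extend pointOk 22 30690 34560 9 (p2u429) p2r430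

theorem p2r431 : allRange pointOk 22 34569 9 = true := by decide +kernel
theorem p2u431 : ∀ k, 30690 ≤ k → k < 34578 → pointOk (k * 22) = true := between_extend pointOk 22 30690 34569 9 (p2u430) p2r431

theorem p2r432 : allRange pointOk 22 34578 9 = true := by decide +kernel
theorem p2u432 : ∀ k, 30690 ≤ k → k < 34587 → pointOk (k * 22) = true := between_extend pointOk 22 30690 34578 9 (p2u431) p2r432

theorem p2r433 : allRange pointOk 22 34587 9 = true := by decide +kernel
theorem p2u433 : ∀ k, 30690 ≤ k → k < 34596 → pointOk (k * 22) = true := between_extend pointOk 22 30690 34587 9 (p2u432) p2r433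

theorem p2r434 : allRange pointOk 22 34596 9 = true := by decide +kernel
theorem p2u434 : ∀ k, 30690 ≤ k → k < 34605 → pointOk (k * 22) = true := between_extend pointOk 22 30690 34596 9 (p2u433) p2r434

theorem p2r435 : allRange pointOk 22 34605 9 = true := by decide +kernel
theorem p2u435 : ∀ k, 30690 ≤ k → k < 34614 → pointOk (k * 22) = true := between_extend pointOk 22 30690 34605 9 (p2u434) p2r435

theorem p2r436 : allRange pointOk 22 34614 9 = true := by decide +kernel
theorem p2u436 : ∀ k, 30690 ≤ k → k < 34623 → pointOk (k * 22) = true := between_extend pointOk 22 30690 34614 9 (p2u435) p2r436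

theorem p2r437 : allRange pointOk 22 34623 9 = true := by decide +kernel
theorem p2u437 : ∀ k, 30690 ≤ k → k < 34632 → pointOk (k * 22) = true := between_extend pointOk 22 30690 34623 9 (p2u436) p2r437

theorem p2r438 : allRange pointOk 22 34632 9 = true := by decide +kernel
theorem p2u438 : ∀ k, 30690 ≤ k → k < 34641 → pointOk (k * 22) = true := between_extend pointOk 22 30690 34632 9 (p2u437) p2r438

theorem p2r439 : allRange pointOk 22 34641 9 = true := by decide +kernel
theorem p2u439 : ∀ k, 30690 ≤ k → k < 34650 → pointOk (k * 22) = true := between_extend pointOk 22 30690 34641 9 (p2u438) p2r439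

theorem p2r440 : allRange pointOk 22 34650 9 = true := by decide +kernel
theorem p2u440 : ∀ k, 30690 ≤ k → k < 34659 → pointOk (k * 22) = true := between_extend pointOk 22 30690 34650 9 (p2u439) p2r440

theorem p2r441 : allRange pointOk 22 34659 9 = true := by decide +kernel
theorem p2u441 : ∀ k, 30690 ≤ k → k < 34668 → pointOk (k * 22) = true := between_extend pointOk 22 30690 34659 9 (p2u440) p2r441

theorem p2r442 : allRange pointOk 22 34668 9 = true := by decide +kernel
theorem p2u442 : ∀ k, 30690 ≤ k → k < 34677 → pointOk (k * 22) = true := between_extend pointOk 22 30690 34668 9 (p2u441) p2r442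

theorem p2r443 : allRange pointOk 22 34677 9 = true := by decide +kernel
theorem p2u443 : ∀ k, 30690 ≤ k → k < 34686 → pointOk (k * 22) = true := between_extend pointOk 22 30690 34677 9 (p2u442) p2r443

theorem p2r444 : allRange pointOk 22 34686 9 = true := by decide +kernel
theorem p2u444 : ∀ k, 30690 ≤ k → k < 34695 → pointOk (k * 22) = true := between_extend pointOk 22 30690 34686 9 (p2u443) p2r444

theorem p2r445 : allRange pointOk 22 34695 9 = true := by decide +kernel
theorem p2u445 : ∀ k, 30690 ≤ k → k < 34704 → pointOk (k * 22) = true := between_extend pointOk 22 30690 34695 9 (p2u444) p2r445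

theorem p2r446 : allRange pointOk 22 34704 9 = true := by decide +kernel
theorem p2u446 : ∀ k, 30690 ≤ k → k < 34713 → pointOk (k * 22) = true := between_extend pointOk 22 30690 34704 9 (p2u445) p2r446

theorem p2r447 : allRange pointOk 22 34713 9 = true := by decide +kernel
theorem p2u447 : ∀ k, 30690 ≤ k → k < 34722 → pointOk (k * 22) = true := between_extend pointOk 22 30690 34713 9 (p2u446) p2r447

theorem p2r448 : allRange pointOk 22 34722 9 = true := by decide +kernel
theorem p2u448 : ∀ k, 30690 ≤ k → k < 34731 → pointOk (k * 22) = true := between_extend pointOk 22 30690 34722 9 (p2u447) p2r448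

theorem p2r449 : allRange pointOk 22 34731 9 = true := by decide +kernel
theorem p2u449 : ∀ k, 30690 ≤ k → k < 34740 → pointOk (k * 22) = true := between_extend pointOk 22 30690 34731 9 (p2u448) p2r449

theorem p2r450 : allRange pointOk 22 34740 9 = true := by decide +kernel
theorem p2u450 : ∀ k, 30690 ≤ k → k < 34749 → pointOk (k * 22) = true := between_extend pointOk 22 30690 34740 9 (p2u449) p2r450

theorem p2r451 : allRange pointOk 22 34749 9 = true := by decide +kernel
theorem p2u451 : ∀ k, 30690 ≤ k → k < 34758 → pointOk (k * 22) = true := between_extend pointOk 22 30690 34749 9 (p2u450) p2r451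

theorem p2r452 : allRange pointOk 22 34758 9 = true := by decide +kernel
theorem p2u452 : ∀ k, 30690 ≤ k → k < 34767 → pointOk (k * 22) = true := between_extend pointOk 22 30690 34758 9 (p2u451) p2r452

theorem p2r453 : allRange pointOk 22 34767 9 = true := by decide +kernel
theorem p2u453 : ∀ k, 30690 ≤ k → k < 34776 → pointOk (k * 22) = true := between_extend pointOk 22 30690 34767 9 (p2u452) p2r453

theorem p2r454 : allRange pointOk 22 34776 9 = true := by decide +kernel
theorem p2u454 : ∀ k, 30690 ≤ k → k < 34785 → pointOk (k * 22) = true := between_extend pointOk 22 30690 34776 9 (p2u453) p2r454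

theorem p2r455 : allRange pointOk 22 34785 9 = true := by decide +kernel
theorem p2u455 : ∀ k, 30690 ≤ k → k < 34794 → pointOk (k * 22) = true := between_extend pointOk 22 30690 34785 9 (p2u454) p2r455

theorem p2r456 : allRange pointOk 22 34794 9 = true := by decide +kernel
theorem p2u456 : ∀ k, 30690 ≤ k → k < 34803 → pointOk (k * 22) = true := between_extend pointOk 22 30690 34794 9 (p2u455) p2r456

theorem p2r457 : allRange pointOk 22 34803 9 = true := by decide +kernel
theorem p2u457 : ∀ k, 30690 ≤ k → k < 34812 → pointOk (k * 22) = true := between_extend pointOk 22 30690 34803 9 (p2u456) p2r457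

theorem p2r458 : allRange pointOk 22 34812 9 = true := by decide +kernel
theorem p2u458 : ∀ k, 30690 ≤ k → k < 34821 → pointOk (k * 22) = true := between_extend pointOk 22 30690 34812 9 (p2u457) p2r458

theorem p2r459 : allRange pointOk 22 34821 9 = true := by decide +kernel
theorem p2u459 : ∀ k, 30690 ≤ k → k < 34830 → pointOk (k * 22) = true := between_extend pointOk 22 30690 34821 9 (p2u458) p2r459

theorem p2r460 : allRange pointOk 22 34830 9 = true := by decide +kernel
theorem p2u460 : ∀ k, 30690 ≤ k → k < 34839 → pointOk (k * 22) = true := between_extend pointOk 22 30690 34830 9 (p2u459) p2r460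

theorem p2r461 : allRange pointOk 22 34839 9 = true := by decide +kernel
theorem p2u461 : ∀ k, 30690 ≤ k → k < 34848 → pointOk (k * 22) = true := between_extend pointOk 22 30690 34839 9 (p2u460) p2r461

theorem p2r462 : allRange pointOk 22 34848 9 = true := by decide +kernel
theorem p2u462 : ∀ k, 30690 ≤ k → k < 34857 → pointOk (k * 22) = true := between_extend pointOk 22 30690 34848 9 (p2u461) p2r462

theorem p2r463 : allRange pointOk 22 34857 9 = true := by decide +kernel
theorem p2u463 : ∀ k, 30690 ≤ k → k < 34866 → pointOk (k * 22) = true := between_extend pointOk 22 30690 34857 9 (p2u462) p2r463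

theorem p2r464 : allRange pointOk 22 34866 9 = true := by decide +kernel
theorem p2u464 : ∀ k, 30690 ≤ k → k < 34875 → pointOk (k * 22) = true := between_extend pointOk 22 30690 34866 9 (p2u463) p2r464

theorem p2r465 : allRange pointOk 22 34875 9 = true := by decide +kernel
theorem p2u465 : ∀ k, 30690 ≤ k → k < 34884 → pointOk (k * 22) = true := between_extend pointOk 22 30690 34875 9 (p2u464) p2r465

theorem p2r466 : allRange pointOk 22 34884 9 = true := by decide +kernel
theorem p2u466 : ∀ k, 30690 ≤ k → k < 34893 → pointOk (k * 22) = true := between_extend pointOk 22 30690 34884 9 (p2u465) p2r466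

theorem p2r467 : allRange pointOk 22 34893 9 = true := by decide +kernel
theorem p2u467 : ∀ k, 30690 ≤ k → k < 34902 → pointOk (k * 22) = true := between_extend pointOk 22 30690 34893 9 (p2u466) p2r467

theorem p2r468 : allRange pointOk 22 34902 9 = true := by decide +kernel
theorem p2u468 : ∀ k, 30690 ≤ k → k < 34911 → pointOk (k * 22) = true := between_extend pointOk 22 30690 34902 9 (p2u467) p2r468

theorem p2r469 : allRange pointOk 22 34911 9 = true := by decide +kernel
theorem p2u469 : ∀ k, 30690 ≤ k → k < 34920 → pointOk (k * 22) = true := between_extend pointOk 22 30690 34911 9 (p2u468) p2r469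

theorem p2r470 : allRange pointOk 22 34920 9 = true := by decide +kernel
theorem p2u470 : ∀ k, 30690 ≤ k → k < 34929 → pointOk (k * 22) = true := between_extend pointOk 22 30690 34920 9 (p2u469) p2r470

theorem p2r471 : allRange pointOk 22 34929 9 = true := by decide +kernel
theorem p2u471 : ∀ k, 30690 ≤ k → k < 34938 → pointOk (k * 22) = true := between_extend pointOk 22 30690 34929 9 (p2u470) p2r471

theorem p2r472 : allRange pointOk 22 34938 9 = true := by decide +kernel
theorem p2u472 : ∀ k, 30690 ≤ k → k < 34947 → pointOk (k * 22) = true := between_extend pointOk 22 30690 34938 9 (p2u471) p2r472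

theorem p2r473 : allRange pointOk 22 34947 9 = true := by decide +kernel
theorem p2u473 : ∀ k, 30690 ≤ k → k < 34956 → pointOk (k * 22) = true := between_extend pointOk 22 30690 34947 9 (p2u472) p2r473

theorem p2r474 : allRange pointOk 22 34956 9 = true := by decide +kernel
theorem p2u474 : ∀ k, 30690 ≤ k → k < 34965 → pointOk (k * 22) = true := between_extend pointOk 22 30690 34956 9 (p2u473) p2r474

theorem p2r475 : allRange pointOk 22 34965 9 = true := by decide +kernel
theorem p2u475 : ∀ k, 30690 ≤ k → k < 34974 → pointOk (k * 22) = true := between_extend pointOk 22 30690 34965 9 (p2u474) p2r475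

theorem p2r476 : allRange pointOk 22 34974 9 = true := by decide +kernel
theorem p2u476 : ∀ k, 30690 ≤ k → k < 34983 → pointOk (k * 22) = true := between_extend pointOk 22 30690 34974 9 (p2u475) p2r476

theorem p2r477 : allRange pointOk 22 34983 9 = true := by decide +kernel
theorem p2u477 : ∀ k, 30690 ≤ k → k < 34992 → pointOk (k * 22) = true := between_extend pointOk 22 30690 34983 9 (p2u476) p2r477

theorem p2r478 : allRange pointOk 22 34992 9 = true := by decide +kernel
theorem p2u478 : ∀ k, 30690 ≤ k → k < 35001 → pointOk (k * 22) = true := between_extend pointOk 22 30690 34992 9 (p2u477) p2r478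

theorem p2r479 : allRange pointOk 22 35001 9 = true := by decide +kernel
theorem p2u479 : ∀ k, 30690 ≤ k → k < 35010 → pointOk (k * 22) = true := between_extend pointOk 22 30690 35001 9 (p2u478) p2r479

theorem p2r480 : allRange pointOk 22 35010 9 = true := by decide +kernel
theorem p2u480 : ∀ k, 30690 ≤ k → k < 35019 → pointOk (k * 22) = true := between_extend pointOk 22 30690 35010 9 (p2u479) p2r480

theorem p2r481 : allRange pointOk 22 35019 9 = true := by decide +kernel
theorem p2u481 : ∀ k, 30690 ≤ k → k < 35028 → pointOk (k * 22) = true := between_extend pointOk 22 30690 35019 9 (p2u480) p2r481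

theorem p2r482 : allRange pointOk 22 35028 9 = true := by decide +kernel
theorem p2u482 : ∀ k, 30690 ≤ k → k < 35037 → pointOk (k * 22) = true := between_extend pointOk 22 30690 35028 9 (p2u481) p2r482

theorem p2r483 : allRange pointOk 22 35037 9 = true := by decide +kernel
theorem p2u483 : ∀ k, 30690 ≤ k → k < 35046 → pointOk (k * 22) = true := between_extend pointOk 22 30690 35037 9 (p2u482) p2r483

theorem p2r484 : allRange pointOk 22 35046 9 = true := by decide +kernel
theorem p2u484 : ∀ k, 30690 ≤ k → k < 35055 → pointOk (k * 22) = true := between_extend pointOk 22 30690 35046 9 (p2u483) p2r484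

theorem p2r485 : allRange pointOk 22 35055 9 = true := by decide +kernel
theorem p2u485 : ∀ k, 30690 ≤ k → k < 35064 → pointOk (k * 22) = true := between_extend pointOk 22 30690 35055 9 (p2u484) p2r485

theorem p2r486 : allRange pointOk 22 35064 9 = true := by decide +kernel
theorem p2u486 : ∀ k, 30690 ≤ k → k < 35073 → pointOk (k * 22) = true := between_extend pointOk 22 30690 35064 9 (p2u485) p2r486

theorem p2r487 : allRange pointOk 22 35073 9 = true := by decide +kernel
theorem p2u487 : ∀ k, 30690 ≤ k → k < 35082 → pointOk (k * 22) = true := between_extend pointOk 22 30690 35073 9 (p2u486) p2r487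

theorem p2r488 : allRange pointOk 22 35082 9 = true := by decide +kernel
theorem p2u488 : ∀ k, 30690 ≤ k → k < 35091 → pointOk (k * 22) = true := between_extend pointOk 22 30690 35082 9 (p2u487) p2r488

theorem p2r489 : allRange pointOk 22 35091 9 = true := by decide +kernel
theorem p2u489 : ∀ k, 30690 ≤ k → k < 35100 → pointOk (k * 22) = true := between_extend pointOk 22 30690 35091 9 (p2u488) p2r489

theorem p2r490 : allRange pointOk 22 35100 9 = true := by decide +kernel
theorem p2u490 : ∀ k, 30690 ≤ k → k < 35109 → pointOk (k * 22) = true := between_extend pointOk 22 30690 35100 9 (p2u489) p2r490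

theorem p2r491 : allRange pointOk 22 35109 9 = true := by decide +kernel
theorem p2u491 : ∀ k, 30690 ≤ k → k < 35118 → pointOk (k * 22) = true := between_extend pointOk 22 30690 35109 9 (p2u490) p2r491

theorem p2r492 : allRange pointOk 22 35118 9 = true := by decide +kernel
theorem p2u492 : ∀ k, 30690 ≤ k → k < 35127 → pointOk (k * 22) = true := between_extend pointOk 22 30690 35118 9 (p2u491) p2r492

theorem p2r493 : allRange pointOk 22 35127 9 = true := by decide +kernel
theorem p2u493 : ∀ k, 30690 ≤ k → k < 35136 → pointOk (k * 22) = true := between_extend pointOk 22 30690 35127 9 (p2u492) p2r493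

theorem p2r494 : allRange pointOk 22 35136 9 = true := by decide +kernel
theorem p2u494 : ∀ k, 30690 ≤ k → k < 35145 → pointOk (k * 22) = true := between_extend pointOk 22 30690 35136 9 (p2u493) p2r494

theorem p2r495 : allRange pointOk 22 35145 9 = true := by decide +kernel
theorem p2u495 : ∀ k, 30690 ≤ k → k < 35154 → pointOk (k * 22) = true := between_extend pointOk 22 30690 35145 9 (p2u494) p2r495

theorem p2r496 : allRange pointOk 22 35154 9 = true := by decide +kernel
theorem p2u496 : ∀ k, 30690 ≤ k → k < 35163 → pointOk (k * 22) = true := between_extend pointOk 22 30690 35154 9 (p2u495) p2r496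

theorem p2r497 : allRange pointOk 22 35163 9 = true := by decide +kernel
theorem p2u497 : ∀ k, 30690 ≤ k → k < 35172 → pointOk (k * 22) = true := between_extend pointOk 22 30690 35163 9 (p2u496) p2r497

theorem p2r498 : allRange pointOk 22 35172 9 = true := by decide +kernel
theorem p2u498 : ∀ k, 30690 ≤ k → k < 35181 → pointOk (k * 22) = true := between_extend pointOk 22 30690 35172 9 (p2u497) p2r498

theorem p2r499 : allRange pointOk 22 35181 9 = true := by decide +kernel
theorem p2u499 : ∀ k, 30690 ≤ k → k < 35190 → pointOk (k * 22) = true := between_extend pointOk 22 30690 35181 9 (p2u498) p2r499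

theorem p2r500 : allRange pointOk 22 35190 9 = true := by decide +kernel
theorem p2u500 : ∀ k, 30690 ≤ k → k < 35199 → pointOk (k * 22) = true := between_extend pointOk 22 30690 35190 9 (p2u499) p2r500

theorem p2r501 : allRange pointOk 22 35199 9 = true := by decide +kernel
theorem p2u501 : ∀ k, 30690 ≤ k → k < 35208 → pointOk (k * 22) = true := between_extend pointOk 22 30690 35199 9 (p2u500) p2r501

theorem p2r502 : allRange pointOk 22 35208 9 = true := by decide +kernel
theorem p2u502 : ∀ k, 30690 ≤ k → k < 35217 → pointOk (k * 22) = true := between_extend pointOk 22 30690 35208 9 (p2u501) p2r502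

theorem p2r503 : allRange pointOk 22 35217 9 = true := by decide +kernel
theorem p2u503 : ∀ k, 30690 ≤ k → k < 35226 → pointOk (k * 22) = true := between_extend pointOk 22 30690 35217 9 (p2u502) p2r503

theorem p2r504 : allRange pointOk 22 35226 9 = true := by decide +kernel
theorem p2u504 : ∀ k, 30690 ≤ k → k < 35235 → pointOk (k * 22) = true := between_extend pointOk 22 30690 35226 9 (p2u503) p2r504

theorem p2r505 : allRange pointOk 22 35235 9 = true := by decide +kernel
theorem p2u505 : ∀ k, 30690 ≤ k → k < 35244 → pointOk (k * 22) = true := between_extend pointOk 22 30690 35235 9 (p2u504) p2r505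

theorem p2r506 : allRange pointOk 22 35244 9 = true := by decide +kernel
theorem p2u506 : ∀ k, 30690 ≤ k → k < 35253 → pointOk (k * 22) = true := between_extend pointOk 22 30690 35244 9 (p2u505) p2r506

theorem p2r507 : allRange pointOk 22 35253 9 = true := by decide +kernel
theorem p2u507 : ∀ k, 30690 ≤ k → k < 35262 → pointOk (k * 22) = true := between_extend pointOk 22 30690 35253 9 (p2u506) p2r507

theorem p2r508 : allRange pointOk 22 35262 9 = true := by decide +kernel
theorem p2u508 : ∀ k, 30690 ≤ k → k < 35271 → pointOk (k * 22) = true := between_extend pointOk 22 30690 35262 9 (p2u507) p2r508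

theorem p2r509 : allRange pointOk 22 35271 9 = true := by decide +kernel
theorem p2u509 : ∀ k, 30690 ≤ k → k < 35280 → pointOk (k * 22) = true := between_extend pointOk 22 30690 35271 9 (p2u508) p2r509

theorem p2r510 : allRange pointOk 22 35280 9 = true := by decide +kernel
theorem p2u510 : ∀ k, 30690 ≤ k → k < 35289 → pointOk (k * 22) = true := between_extend pointOk 22 30690 35280 9 (p2u509) p2r510

theorem p2r511 : allRange pointOk 22 35289 9 = true := by decide +kernel
theorem p2u511 : ∀ k, 30690 ≤ k → k < 35298 → pointOk (k * 22) = true := between_extend pointOk 22 30690 35289 9 (p2u510) p2r511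

theorem p2r512 : allRange pointOk 22 35298 9 = true := by decide +kernel
theorem p2u512 : ∀ k, 30690 ≤ k → k < 35307 → pointOk (k * 22) = true := between_extend pointOk 22 30690 35298 9 (p2u511) p2r512

theorem p2r513 : allRange pointOk 22 35307 9 = true := by decide +kernel
theorem p2u513 : ∀ k, 30690 ≤ k → k < 35316 → pointOk (k * 22) = true := between_extend pointOk 22 30690 35307 9 (p2u512) p2r513

theorem p2r514 : allRange pointOk 22 35316 9 = true := by decide +kernel
theorem p2u514 : ∀ k, 30690 ≤ k → k < 35325 → pointOk (k * 22) = true := between_extend pointOk 22 30690 35316 9 (p2u513) p2r514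

theorem p2r515 : allRange pointOk 22 35325 9 = true := by decide +kernel
theorem p2u515 : ∀ k, 30690 ≤ k → k < 35334 → pointOk (k * 22) = true := between_extend pointOk 22 30690 35325 9 (p2u514) p2r515

theorem p2r516 : allRange pointOk 22 35334 9 = true := by decide +kernel
theorem p2u516 : ∀ k, 30690 ≤ k → k < 35343 → pointOk (k * 22) = true := between_extend pointOk 22 30690 35334 9 (p2u515) p2r516

theorem p2r517 : allRange pointOk 22 35343 9 = true := by decide +kernel
theorem p2u517 : ∀ k, 30690 ≤ k → k < 35352 → pointOk (k * 22) = true := between_extend pointOk 22 30690 35343 9 (p2u516) p2r517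

theorem p2r518 : allRange pointOk 22 35352 9 = true := by decide +kernel
theorem p2u518 : ∀ k, 30690 ≤ k → k < 35361 → pointOk (k * 22) = true := between_extend pointOk 22 30690 35352 9 (p2u517) p2r518

theorem p2r519 : allRange pointOk 22 35361 9 = true := by decide +kernel
theorem p2u519 : ∀ k, 30690 ≤ k → k < 35370 → pointOk (k * 22) = true := between_extend pointOk 22 30690 35361 9 (p2u518) p2r519

theorem p2r520 : allRange pointOk 22 35370 9 = true := by decide +kernel
theorem p2u520 : ∀ k, 30690 ≤ k → k < 35379 → pointOk (k * 22) = true := between_extend pointOk 22 30690 35370 9 (p2u519) p2r520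

theorem p2r521 : allRange pointOk 22 35379 9 = true := by decide +kernel
theorem p2u521 : ∀ k, 30690 ≤ k → k < 35388 → pointOk (k * 22) = true := between_extend pointOk 22 30690 35379 9 (p2u520) p2r521

theorem p2r522 : allRange pointOk 22 35388 9 = true := by decide +kernel
theorem p2u522 : ∀ k, 30690 ≤ k → k < 35397 → pointOk (k * 22) = true := between_extend pointOk 22 30690 35388 9 (p2u521) p2r522

theorem p2r523 : allRange pointOk 22 35397 9 = true := by decide +kernel
theorem p2u523 : ∀ k, 30690 ≤ k → k < 35406 → pointOk (k * 22) = true := between_extend pointOk 22 30690 35397 9 (p2u522) p2r523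

theorem p2r524 : allRange pointOk 22 35406 9 = true := by decide +kernel
theorem p2u524 : ∀ k, 30690 ≤ k → k < 35415 → pointOk (k * 22) = true := between_extend pointOk 22 30690 35406 9 (p2u523) p2r524

theorem p2r525 : allRange pointOk 22 35415 9 = true := by decide +kernel
theorem p2u525 : ∀ k, 30690 ≤ k → k < 35424 → pointOk (k * 22) = true := between_extend pointOk 22 30690 35415 9 (p2u524) p2r525

theorem p2r526 : allRange pointOk 22 35424 9 = true := by decide +kernel
theorem p2u526 : ∀ k, 30690 ≤ k → k < 35433 → pointOk (k * 22) = true := between_extend pointOk 22 30690 35424 9 (p2u525) p2r526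

theorem p2r527 : allRange pointOk 22 35433 9 = true := by decide +kernel
theorem p2u527 : ∀ k, 30690 ≤ k → k < 35442 → pointOk (k * 22) = true := between_extend pointOk 22 30690 35433 9 (p2u526) p2r527

theorem p2r528 : allRange pointOk 22 35442 9 = true := by decide +kernel
theorem p2u528 : ∀ k, 30690 ≤ k → k < 35451 → pointOk (k * 22) = true := between_extend pointOk 22 30690 35442 9 (p2u527) p2r528

theorem p2r529 : allRange pointOk 22 35451 9 = true := by decide +kernel
theorem p2u529 : ∀ k, 30690 ≤ k → k < 35460 → pointOk (k * 22) = true := between_extend pointOk 22 30690 35451 9 (p2u528) p2r529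

theorem p2r530 : allRange pointOk 22 35460 9 = true := by decide +kernel
theorem p2u530 : ∀ k, 30690 ≤ k → k < 35469 → pointOk (k * 22) = true := between_extend pointOk 22 30690 35460 9 (p2u529) p2r530

theorem p2r531 : allRange pointOk 22 35469 9 = true := by decide +kernel
theorem p2u531 : ∀ k, 30690 ≤ k → k < 35478 → pointOk (k * 22) = true := between_extend pointOk 22 30690 35469 9 (p2u530) p2r531

theorem p2r532 : allRange pointOk 22 35478 9 = true := by decide +kernel
theorem p2u532 : ∀ k, 30690 ≤ k → k < 35487 → pointOk (k * 22) = true := between_extend pointOk 22 30690 35478 9 (p2u531) p2r532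

theorem p2r533 : allRange pointOk 22 35487 9 = true := by decide +kernel
theorem p2u533 : ∀ k, 30690 ≤ k → k < 35496 → pointOk (k * 22) = true := between_extend pointOk 22 30690 35487 9 (p2u532) p2r533

theorem p2r534 : allRange pointOk 22 35496 9 = true := by decide +kernel
theorem p2u534 : ∀ k, 30690 ≤ k → k < 35505 → pointOk (k * 22) = true := between_extend pointOk 22 30690 35496 9 (p2u533) p2r534

theorem p2r535 : allRange pointOk 22 35505 9 = true := by decide +kernel
theorem p2u535 : ∀ k, 30690 ≤ k → k < 35514 → pointOk (k * 22) = true := between_extend pointOk 22 30690 35505 9 (p2u534) p2r535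

theorem p2r536 : allRange pointOk 22 35514 9 = true := by decide +kernel
theorem p2u536 : ∀ k, 30690 ≤ k → k < 35523 → pointOk (k * 22) = true := between_extend pointOk 22 30690 35514 9 (p2u535) p2r536

theorem p2r537 : allRange pointOk 22 35523 9 = true := by decide +kernel
theorem p2u537 : ∀ k, 30690 ≤ k → k < 35532 → pointOk (k * 22) = true := between_extend pointOk 22 30690 35523 9 (p2u536) p2r537

theorem p2r538 : allRange pointOk 22 35532 9 = true := by decide +kernel
theorem p2u538 : ∀ k, 30690 ≤ k → k < 35541 → pointOk (k * 22) = true := between_extend pointOk 22 30690 35532 9 (p2u537) p2r538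

theorem p2r539 : allRange pointOk 22 35541 9 = true := by decide +kernel
theorem p2u539 : ∀ k, 30690 ≤ k → k < 35550 → pointOk (k * 22) = true := between_extend pointOk 22 30690 35541 9 (p2u538) p2r539

theorem p2r540 : allRange pointOk 22 35550 9 = true := by decide +kernel
theorem p2u540 : ∀ k, 30690 ≤ k → k < 35559 → pointOk (k * 22) = true := between_extend pointOk 22 30690 35550 9 (p2u539) p2r540

theorem p2r541 : allRange pointOk 22 35559 9 = true := by decide +kernel
theorem p2u541 : ∀ k, 30690 ≤ k → k < 35568 → pointOk (k * 22) = true := between_extend pointOk 22 30690 35559 9 (p2u540) p2r541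

theorem p2r542 : allRange pointOk 22 35568 9 = true := by decide +kernel
theorem p2u542 : ∀ k, 30690 ≤ k → k < 35577 → pointOk (k * 22) = true := between_extend pointOk 22 30690 35568 9 (p2u541) p2r542

theorem p2r543 : allRange pointOk 22 35577 9 = true := by decide +kernel
theorem p2u543 : ∀ k, 30690 ≤ k → k < 35586 → pointOk (k * 22) = true := between_extend pointOk 22 30690 35577 9 (p2u542) p2r543

theorem p2r544 : allRange pointOk 22 35586 9 = true := by decide +kernel
theorem p2u544 : ∀ k, 30690 ≤ k → k < 35595 → pointOk (k * 22) = true := between_extend pointOk 22 30690 35586 9 (p2u543) p2r544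

theorem p2r545 : allRange pointOk 22 35595 9 = true := by decide +kernel
theorem p2u545 : ∀ k, 30690 ≤ k → k < 35604 → pointOk (k * 22) = true := between_extend pointOk 22 30690 35595 9 (p2u544) p2r545

theorem p2r546 : allRange pointOk 22 35604 9 = true := by decide +kernel
theorem p2u546 : ∀ k, 30690 ≤ k → k < 35613 → pointOk (k * 22) = true := between_extend pointOk 22 30690 35604 9 (p2u545) p2r546

theorem p2r547 : allRange pointOk 22 35613 9 = true := by decide +kernel
theorem p2u547 : ∀ k, 30690 ≤ k → k < 35622 → pointOk (k * 22) = true := between_extend pointOk 22 30690 35613 9 (p2u546) p2r547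

theorem p2r548 : allRange pointOk 22 35622 9 = true := by decide +kernel
theorem p2u548 : ∀ k, 30690 ≤ k → k < 35631 → pointOk (k * 22) = true := between_extend pointOk 22 30690 35622 9 (p2u547) p2r548

theorem p2r549 : allRange pointOk 22 35631 9 = true := by decide +kernel
theorem p2u549 : ∀ k, 30690 ≤ k → k < 35640 → pointOk (k * 22) = true := between_extend pointOk 22 30690 35631 9 (p2u548) p2r549

theorem p2r550 : allRange pointOk 22 35640 9 = true := by decide +kernel
theorem p2u550 : ∀ k, 30690 ≤ k → k < 35649 → pointOk (k * 22) = true := between_extend pointOk 22 30690 35640 9 (p2u549) p2r550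

theorem p2r551 : allRange pointOk 22 35649 9 = true := by decide +kernel
theorem p2u551 : ∀ k, 30690 ≤ k → k < 35658 → pointOk (k * 22) = true := between_extend pointOk 22 30690 35649 9 (p2u550) p2r551

theorem p2r552 : allRange pointOk 22 35658 9 = true := by decide +kernel
theorem p2u552 : ∀ k, 30690 ≤ k → k < 35667 → pointOk (k * 22) = true := between_extend pointOk 22 30690 35658 9 (p2u551) p2r552

theorem p2r553 : allRange pointOk 22 35667 9 = true := by decide +kernel
theorem p2u553 : ∀ k, 30690 ≤ k → k < 35676 → pointOk (k * 22) = true := between_extend pointOk 22 30690 35667 9 (p2u552) p2r553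

theorem p2r554 : allRange pointOk 22 35676 9 = true := by decide +kernel
theorem p2u554 : ∀ k, 30690 ≤ k → k < 35685 → pointOk (k * 22) = true := between_extend pointOk 22 30690 35676 9 (p2u553) p2r554

theorem p2r555 : allRange pointOk 22 35685 9 = true := by decide +kernel
theorem p2u555 : ∀ k, 30690 ≤ k → k < 35694 → pointOk (k * 22) = true := between_extend pointOk 22 30690 35685 9 (p2u554) p2r555

theorem p2r556 : allRange pointOk 22 35694 9 = true := by decide +kernel
theorem p2u556 : ∀ k, 30690 ≤ k → k < 35703 → pointOk (k * 22) = true := between_extend pointOk 22 30690 35694 9 (p2u555) p2r556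

theorem p2r557 : allRange pointOk 22 35703 9 = true := by decide +kernel
theorem p2u557 : ∀ k, 30690 ≤ k → k < 35712 → pointOk (k * 22) = true := between_extend pointOk 22 30690 35703 9 (p2u556) p2r557

theorem p2r558 : allRange pointOk 22 35712 9 = true := by decide +kernel
theorem p2u558 : ∀ k, 30690 ≤ k → k < 35721 → pointOk (k * 22) = true := between_extend pointOk 22 30690 35712 9 (p2u557) p2r558

theorem p2r559 : allRange pointOk 22 35721 9 = true := by decide +kernel
theorem p2u559 : ∀ k, 30690 ≤ k → k < 35730 → pointOk (k * 22) = true := between_extend pointOk 22 30690 35721 9 (p2u558) p2r559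

theorem p2r560 : allRange pointOk 22 35730 9 = true := by decide +kernel
theorem p2u560 : ∀ k, 30690 ≤ k → k < 35739 → pointOk (k * 22) = true := between_extend pointOk 22 30690 35730 9 (p2u559) p2r560

theorem p2r561 : allRange pointOk 22 35739 9 = true := by decide +kernel
theorem p2u561 : ∀ k, 30690 ≤ k → k < 35748 → pointOk (k * 22) = true := between_extend pointOk 22 30690 35739 9 (p2u560) p2r561

theorem p2r562 : allRange pointOk 22 35748 9 = true := by decide +kernel
theorem p2u562 : ∀ k, 30690 ≤ k → k < 35757 → pointOk (k * 22) = true := between_extend pointOk 22 30690 35748 9 (p2u561) p2r562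

theorem p2r563 : allRange pointOk 22 35757 9 = true := by decide +kernel
theorem p2u563 : ∀ k, 30690 ≤ k → k < 35766 → pointOk (k * 22) = true := between_extend pointOk 22 30690 35757 9 (p2u562) p2r563

theorem p2r564 : allRange pointOk 22 35766 9 = true := by decide +kernel
theorem p2u564 : ∀ k, 30690 ≤ k → k < 35775 → pointOk (k * 22) = true := between_extend pointOk 22 30690 35766 9 (p2u563) p2r564

theorem p2r565 : allRange pointOk 22 35775 9 = true := by decide +kernel
theorem p2u565 : ∀ k, 30690 ≤ k → k < 35784 → pointOk (k * 22) = true := between_extend pointOk 22 30690 35775 9 (p2u564) p2r565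

theorem p2r566 : allRange pointOk 22 35784 9 = true := by decide +kernel
theorem p2u566 : ∀ k, 30690 ≤ k → k < 35793 → pointOk (k * 22) = true := between_extend pointOk 22 30690 35784 9 (p2u565) p2r566

theorem p2r567 : allRange pointOk 22 35793 9 = true := by decide +kernel
theorem p2u567 : ∀ k, 30690 ≤ k → k < 35802 → pointOk (k * 22) = true := between_extend pointOk 22 30690 35793 9 (p2u566) p2r567

theorem p2r568 : allRange pointOk 22 35802 9 = true := by decide +kernel
theorem p2u568 : ∀ k, 30690 ≤ k → k < 35811 → pointOk (k * 22) = true := between_extend pointOk 22 30690 35802 9 (p2u567) p2r568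

theorem p2r569 : allRange pointOk 22 35811 9 = true := by decide +kernel
theorem p2u569 : ∀ k, 30690 ≤ k → k < 35820 → pointOk (k * 22) = true := between_extend pointOk 22 30690 35811 9 (p2u568) p2r569

theorem p2r570 : allRange pointOk 22 35820 9 = true := by decide +kernel
theorem p2u570 : ∀ k, 30690 ≤ k → k < 35829 → pointOk (k * 22) = true := between_extend pointOk 22 30690 35820 9 (p2u569) p2r570

theorem p2r571 : allRange pointOk 22 35829 9 = true := by decide +kernel
theorem p2u571 : ∀ k, 30690 ≤ k → k < 35838 → pointOk (k * 22) = true := between_extend pointOk 22 30690 35829 9 (p2u570) p2r571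

theorem p2r572 : allRange pointOk 22 35838 9 = true := by decide +kernel
theorem p2u572 : ∀ k, 30690 ≤ k → k < 35847 → pointOk (k * 22) = true := between_extend pointOk 22 30690 35838 9 (p2u571) p2r572

theorem p2r573 : allRange pointOk 22 35847 9 = true := by decide +kernel
theorem p2u573 : ∀ k, 30690 ≤ k → k < 35856 → pointOk (k * 22) = true := between_extend pointOk 22 30690 35847 9 (p2u572) p2r573

theorem p2r574 : allRange pointOk 22 35856 9 = true := by decide +kernel
theorem p2u574 : ∀ k, 30690 ≤ k → k < 35865 → pointOk (k * 22) = true := between_extend pointOk 22 30690 35856 9 (p2u573) p2r574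

theorem p2r575 : allRange pointOk 22 35865 9 = true := by decide +kernel
theorem p2u575 : ∀ k, 30690 ≤ k → k < 35874 → pointOk (k * 22) = true := between_extend pointOk 22 30690 35865 9 (p2u574) p2r575

theorem p2r576 : allRange pointOk 22 35874 9 = true := by decide +kernel
theorem p2u576 : ∀ k, 30690 ≤ k → k < 35883 → pointOk (k * 22) = true := between_extend pointOk 22 30690 35874 9 (p2u575) p2r576

theorem p2r577 : allRange pointOk 22 35883 9 = true := by decide +kernel
theorem p2u577 : ∀ k, 30690 ≤ k → k < 35892 → pointOk (k * 22) = true := between_extend pointOk 22 30690 35883 9 (p2u576) p2r577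

theorem p2r578 : allRange pointOk 22 35892 9 = true := by decide +kernel
theorem p2u578 : ∀ k, 30690 ≤ k → k < 35901 → pointOk (k * 22) = true := between_extend pointOk 22 30690 35892 9 (p2u577) p2r578

theorem p2r579 : allRange pointOk 22 35901 9 = true := by decide +kernel
theorem p2u579 : ∀ k, 30690 ≤ k → k < 35910 → pointOk (k * 22) = true := between_extend pointOk 22 30690 35901 9 (p2u578) p2r579

theorem p2r580 : allRange pointOk 22 35910 9 = true := by decide +kernel
theorem p2u580 : ∀ k, 30690 ≤ k → k < 35919 → pointOk (k * 22) = true := between_extend pointOk 22 30690 35910 9 (p2u579) p2r580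

theorem p2r581 : allRange pointOk 22 35919 9 = true := by decide +kernel
theorem p2u581 : ∀ k, 30690 ≤ k → k < 35928 → pointOk (k * 22) = true := between_extend pointOk 22 30690 35919 9 (p2u580) p2r581

theorem p2r582 : allRange pointOk 22 35928 9 = true := by decide +kernel
theorem p2u582 : ∀ k, 30690 ≤ k → k < 35937 → pointOk (k * 22) = true := between_extend pointOk 22 30690 35928 9 (p2u581) p2r582

theorem p2r583 : allRange pointOk 22 35937 9 = true := by decide +kernel
theorem p2u583 : ∀ k, 30690 ≤ k → k < 35946 → pointOk (k * 22) = true := between_extend pointOk 22 30690 35937 9 (p2u582) p2r583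

theorem p2r584 : allRange pointOk 22 35946 9 = true := by decide +kernel
theorem p2u584 : ∀ k, 30690 ≤ k → k < 35955 → pointOk (k * 22) = true := between_extend pointOk 22 30690 35946 9 (p2u583) p2r584

theorem p2r585 : allRange pointOk 22 35955 9 = true := by decide +kernel
theorem p2u585 : ∀ k, 30690 ≤ k → k < 35964 → pointOk (k * 22) = true := between_extend pointOk 22 30690 35955 9 (p2u584) p2r585

theorem p2r586 : allRange pointOk 22 35964 9 = true := by decide +kernel
theorem p2u586 : ∀ k, 30690 ≤ k → k < 35973 → pointOk (k * 22) = true := between_extend pointOk 22 30690 35964 9 (p2u585) p2r586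

theorem p2r587 : allRange pointOk 22 35973 9 = true := by decide +kernel
theorem p2u587 : ∀ k, 30690 ≤ k → k < 35982 → pointOk (k * 22) = true := between_extend pointOk 22 30690 35973 9 (p2u586) p2r587

theorem p2r588 : allRange pointOk 22 35982 9 = true := by decide +kernel
theorem p2u588 : ∀ k, 30690 ≤ k → k < 35991 → pointOk (k * 22) = true := between_extend pointOk 22 30690 35982 9 (p2u587) p2r588

theorem p2r589 : allRange pointOk 22 35991 9 = true := by decide +kernel
theorem p2u589 : ∀ k, 30690 ≤ k → k < 36000 → pointOk (k * 22) = true := between_extend pointOk 22 30690 35991 9 (p2u588) p2r589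

theorem p2r590 : allRange pointOk 22 36000 9 = true := by decide +kernel
theorem p2u590 : ∀ k, 30690 ≤ k → k < 36009 → pointOk (k * 22) = true := between_extend pointOk 22 30690 36000 9 (p2u589) p2r590

theorem p2r591 : allRange pointOk 22 36009 9 = true := by decide +kernel
theorem p2u591 : ∀ k, 30690 ≤ k → k < 36018 → pointOk (k * 22) = true := between_extend pointOk 22 30690 36009 9 (p2u590) p2r591

theorem p2r592 : allRange pointOk 22 36018 9 = true := by decide +kernel
theorem p2u592 : ∀ k, 30690 ≤ k → k < 36027 → pointOk (k * 22) = true := between_extend pointOk 22 30690 36018 9 (p2u591) p2r592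

theorem p2r593 : allRange pointOk 22 36027 9 = true := by decide +kernel
theorem p2u593 : ∀ k, 30690 ≤ k → k < 36036 → pointOk (k * 22) = true := between_extend pointOk 22 30690 36027 9 (p2u592) p2r593

theorem p2r594 : allRange pointOk 22 36036 9 = true := by decide +kernel
theorem p2u594 : ∀ k, 30690 ≤ k → k < 36045 → pointOk (k * 22) = true := between_extend pointOk 22 30690 36036 9 (p2u593) p2r594

theorem p2r595 : allRange pointOk 22 36045 9 = true := by decide +kernel
theorem p2u595 : ∀ k, 30690 ≤ k → k < 36054 → pointOk (k * 22) = true := between_extend pointOk 22 30690 36045 9 (p2u594) p2r595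

theorem p2r596 : allRange pointOk 22 36054 9 = true := by decide +kernel
theorem p2u596 : ∀ k, 30690 ≤ k → k < 36063 → pointOk (k * 22) = true := between_extend pointOk 22 30690 36054 9 (p2u595) p2r596

theorem p2r597 : allRange pointOk 22 36063 9 = true := by decide +kernel
theorem p2u597 : ∀ k, 30690 ≤ k → k < 36072 → pointOk (k * 22) = true := between_extend pointOk 22 30690 36063 9 (p2u596) p2r597

theorem p2r598 : allRange pointOk 22 36072 9 = true := by decide +kernel
theorem p2u598 : ∀ k, 30690 ≤ k → k < 36081 → pointOk (k * 22) = true := between_extend pointOk 22 30690 36072 9 (p2u597) p2r598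

theorem p2r599 : allRange pointOk 22 36081 9 = true := by decide +kernel
theorem p2u599 : ∀ k, 30690 ≤ k → k < 36090 → pointOk (k * 22) = true := between_extend pointOk 22 30690 36081 9 (p2u598) p2r599

theorem p2r600 : allRange pointOk 22 36090 9 = true := by decide +kernel
theorem p2u600 : ∀ k, 30690 ≤ k → k < 36099 → pointOk (k * 22) = true := between_extend pointOk 22 30690 36090 9 (p2u599) p2r600

theorem p2r601 : allRange pointOk 22 36099 9 = true := by decide +kernel
theorem p2u601 : ∀ k, 30690 ≤ k → k < 36108 → pointOk (k * 22) = true := between_extend pointOk 22 30690 36099 9 (p2u600) p2r601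

theorem p2r602 : allRange pointOk 22 36108 9 = true := by decide +kernel
theorem p2u602 : ∀ k, 30690 ≤ k → k < 36117 → pointOk (k * 22) = true := between_extend pointOk 22 30690 36108 9 (p2u601) p2r602

theorem p2r603 : allRange pointOk 22 36117 9 = true := by decide +kernel
theorem p2u603 : ∀ k, 30690 ≤ k → k < 36126 → pointOk (k * 22) = true := between_extend pointOk 22 30690 36117 9 (p2u602) p2r603

theorem p2r604 : allRange pointOk 22 36126 9 = true := by decide +kernel
theorem p2u604 : ∀ k, 30690 ≤ k → k < 36135 → pointOk (k * 22) = true := between_extend pointOk 22 30690 36126 9 (p2u603) p2r604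

theorem p2r605 : allRange pointOk 22 36135 9 = true := by decide +kernel
theorem p2u605 : ∀ k, 30690 ≤ k → k < 36144 → pointOk (k * 22) = true := between_extend pointOk 22 30690 36135 9 (p2u604) p2r605

theorem p2r606 : allRange pointOk 22 36144 9 = true := by decide +kernel
theorem p2u606 : ∀ k, 30690 ≤ k → k < 36153 → pointOk (k * 22) = true := between_extend pointOk 22 30690 36144 9 (p2u605) p2r606

theorem p2r607 : allRange pointOk 22 36153 9 = true := by decide +kernel
theorem p2u607 : ∀ k, 30690 ≤ k → k < 36162 → pointOk (k * 22) = true := between_extend pointOk 22 30690 36153 9 (p2u606) p2r607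

theorem p2r608 : allRange pointOk 22 36162 9 = true := by decide +kernel
theorem p2u608 : ∀ k, 30690 ≤ k → k < 36171 → pointOk (k * 22) = true := between_extend pointOk 22 30690 36162 9 (p2u607) p2r608

theorem p2r609 : allRange pointOk 22 36171 9 = true := by decide +kernel
theorem p2u609 : ∀ k, 30690 ≤ k → k < 36180 → pointOk (k * 22) = true := between_extend pointOk 22 30690 36171 9 (p2u608) p2r609

theorem p2r610 : allRange pointOk 22 36180 9 = true := by decide +kernel
theorem p2u610 : ∀ k, 30690 ≤ k → k < 36189 → pointOk (k * 22) = true := between_extend pointOk 22 30690 36180 9 (p2u609) p2r610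

theorem p2r611 : allRange pointOk 22 36189 9 = true := by decide +kernel
theorem p2u611 : ∀ k, 30690 ≤ k → k < 36198 → pointOk (k * 22) = true := between_extend pointOk 22 30690 36189 9 (p2u610) p2r611

theorem p2r612 : allRange pointOk 22 36198 9 = true := by decide +kernel
theorem p2u612 : ∀ k, 30690 ≤ k → k < 36207 → pointOk (k * 22) = true := between_extend pointOk 22 30690 36198 9 (p2u611) p2r612

theorem p2r613 : allRange pointOk 22 36207 9 = true := by decide +kernel
theorem p2u613 : ∀ k, 30690 ≤ k → k < 36216 → pointOk (k * 22) = true := between_extend pointOk 22 30690 36207 9 (p2u612) p2r613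

theorem p2r614 : allRange pointOk 22 36216 9 = true := by decide +kernel
theorem p2u614 : ∀ k, 30690 ≤ k → k < 36225 → pointOk (k * 22) = true := between_extend pointOk 22 30690 36216 9 (p2u613) p2r614

theorem p2r615 : allRange pointOk 22 36225 9 = true := by decide +kernel
theorem p2u615 : ∀ k, 30690 ≤ k → k < 36234 → pointOk (k * 22) = true := between_extend pointOk 22 30690 36225 9 (p2u614) p2r615

theorem p2r616 : allRange pointOk 22 36234 9 = true := by decide +kernel
theorem p2u616 : ∀ k, 30690 ≤ k → k < 36243 → pointOk (k * 22) = true := between_extend pointOk 22 30690 36234 9 (p2u615) p2r616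

theorem p2r617 : allRange pointOk 22 36243 9 = true := by decide +kernel
theorem p2u617 : ∀ k, 30690 ≤ k → k < 36252 → pointOk (k * 22) = true := between_extend pointOk 22 30690 36243 9 (p2u616) p2r617

theorem p2r618 : allRange pointOk 22 36252 9 = true := by decide +kernel
theorem p2u618 : ∀ k, 30690 ≤ k → k < 36261 → pointOk (k * 22) = true := between_extend pointOk 22 30690 36252 9 (p2u617) p2r618

theorem p2r619 : allRange pointOk 22 36261 9 = true := by decide +kernel
theorem p2u619 : ∀ k, 30690 ≤ k → k < 36270 → pointOk (k * 22) = true := between_extend pointOk 22 30690 36261 9 (p2u618) p2r619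

theorem p2r620 : allRange pointOk 22 36270 9 = true := by decide +kernel
theorem p2u620 : ∀ k, 30690 ≤ k → k < 36279 → pointOk (k * 22) = true := between_extend pointOk 22 30690 36270 9 (p2u619) p2r620

theorem p2r621 : allRange pointOk 22 36279 9 = true := by decide +kernel
theorem p2u621 : ∀ k, 30690 ≤ k → k < 36288 → pointOk (k * 22) = true := between_extend pointOk 22 30690 36279 9 (p2u620) p2r621

theorem p2r622 : allRange pointOk 22 36288 9 = true := by decide +kernel
theorem p2u622 : ∀ k, 30690 ≤ k → k < 36297 → pointOk (k * 22) = true := between_extend pointOk 22 30690 36288 9 (p2u621) p2r622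

theorem p2r623 : allRange pointOk 22 36297 9 = true := by decide +kernel
theorem p2u623 : ∀ k, 30690 ≤ k → k < 36306 → pointOk (k * 22) = true := between_extend pointOk 22 30690 36297 9 (p2u622) p2r623

theorem p2r624 : allRange pointOk 22 36306 9 = true := by decide +kernel
theorem p2u624 : ∀ k, 30690 ≤ k → k < 36315 → pointOk (k * 22) = true := between_extend pointOk 22 30690 36306 9 (p2u623) p2r624

theorem p2r625 : allRange pointOk 22 36315 9 = true := by decide +kernel
theorem p2u625 : ∀ k, 30690 ≤ k → k < 36324 → pointOk (k * 22) = true := between_extend pointOk 22 30690 36315 9 (p2u624) p2r625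

theorem p2r626 : allRange pointOk 22 36324 9 = true := by decide +kernel
theorem p2u626 : ∀ k, 30690 ≤ k → k < 36333 → pointOk (k * 22) = true := between_extend pointOk 22 30690 36324 9 (p2u625) p2r626

theorem p2r627 : allRange pointOk 22 36333 9 = true := by decide +kernel
theorem p2u627 : ∀ k, 30690 ≤ k → k < 36342 → pointOk (k * 22) = true := between_extend pointOk 22 30690 36333 9 (p2u626) p2r627

theorem p2r628 : allRange pointOk 22 36342 9 = true := by decide +kernel
theorem p2u628 : ∀ k, 30690 ≤ k → k < 36351 → pointOk (k * 22) = true := between_extend pointOk 22 30690 36342 9 (p2u627) p2r628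

theorem p2r629 : allRange pointOk 22 36351 9 = true := by decide +kernel
theorem p2u629 : ∀ k, 30690 ≤ k → k < 36360 → pointOk (k * 22) = true := between_extend pointOk 22 30690 36351 9 (p2u628) p2r629

theorem p2r630 : allRange pointOk 22 36360 9 = true := by decide +kernel
theorem p2u630 : ∀ k, 30690 ≤ k → k < 36369 → pointOk (k * 22) = true := between_extend pointOk 22 30690 36360 9 (p2u629) p2r630

theorem p2r631 : allRange pointOk 22 36369 9 = true := by decide +kernel
theorem p2u631 : ∀ k, 30690 ≤ k → k < 36378 → pointOk (k * 22) = true := between_extend pointOk 22 30690 36369 9 (p2u630) p2r631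

theorem p2r632 : allRange pointOk 22 36378 9 = true := by decide +kernel
theorem p2u632 : ∀ k, 30690 ≤ k → k < 36387 → pointOk (k * 22) = true := between_extend pointOk 22 30690 36378 9 (p2u631) p2r632

theorem p2r633 : allRange pointOk 22 36387 9 = true := by decide +kernel
theorem p2u633 : ∀ k, 30690 ≤ k → k < 36396 → pointOk (k * 22) = true := between_extend pointOk 22 30690 36387 9 (p2u632) p2r633

theorem p2r634 : allRange pointOk 22 36396 9 = true := by decide +kernel
theorem p2u634 : ∀ k, 30690 ≤ k → k < 36405 → pointOk (k * 22) = true := between_extend pointOk 22 30690 36396 9 (p2u633) p2r634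

theorem p2r635 : allRange pointOk 22 36405 9 = true := by decide +kernel
theorem p2u635 : ∀ k, 30690 ≤ k → k < 36414 → pointOk (k * 22) = true := between_extend pointOk 22 30690 36405 9 (p2u634) p2r635

theorem p2r636 : allRange pointOk 22 36414 9 = true := by decide +kernel
theorem p2u636 : ∀ k, 30690 ≤ k → k < 36423 → pointOk (k * 22) = true := between_extend pointOk 22 30690 36414 9 (p2u635) p2r636

theorem p2r637 : allRange pointOk 22 36423 9 = true := by decide +kernel
theorem p2u637 : ∀ k, 30690 ≤ k → k < 36432 → pointOk (k * 22) = true := between_extend pointOk 22 30690 36423 9 (p2u636) p2r637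

theorem p2r638 : allRange pointOk 22 36432 9 = true := by decide +kernel
theorem p2u638 : ∀ k, 30690 ≤ k → k < 36441 → pointOk (k * 22) = true := between_extend pointOk 22 30690 36432 9 (p2u637) p2r638

theorem p2r639 : allRange pointOk 22 36441 9 = true := by decide +kernel
theorem p2u639 : ∀ k, 30690 ≤ k → k < 36450 → pointOk (k * 22) = true := between_extend pointOk 22 30690 36441 9 (p2u638) p2r639

theorem p2r640 : allRange pointOk 22 36450 9 = true := by decide +kernel
theorem p2u640 : ∀ k, 30690 ≤ k → k < 36459 → pointOk (k * 22) = true := between_extend pointOk 22 30690 36450 9 (p2u639) p2r640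

theorem p2r641 : allRange pointOk 22 36459 9 = true := by decide +kernel
theorem p2u641 : ∀ k, 30690 ≤ k → k < 36468 → pointOk (k * 22) = true := between_extend pointOk 22 30690 36459 9 (p2u640) p2r641

theorem p2r642 : allRange pointOk 22 36468 9 = true := by decide +kernel
theorem p2u642 : ∀ k, 30690 ≤ k → k < 36477 → pointOk (k * 22) = true := between_extend pointOk 22 30690 36468 9 (p2u641) p2r642

theorem p2r643 : allRange pointOk 22 36477 9 = true := by decide +kernel
theorem p2u643 : ∀ k, 30690 ≤ k → k < 36486 → pointOk (k * 22) = true := between_extend pointOk 22 30690 36477 9 (p2u642) p2r643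

theorem p2r644 : allRange pointOk 22 36486 9 = true := by decide +kernel
theorem p2u644 : ∀ k, 30690 ≤ k → k < 36495 → pointOk (k * 22) = true := between_extend pointOk 22 30690 36486 9 (p2u643) p2r644

theorem p2r645 : allRange pointOk 22 36495 9 = true := by decide +kernel
theorem p2u645 : ∀ k, 30690 ≤ k → k < 36504 → pointOk (k * 22) = true := between_extend pointOk 22 30690 36495 9 (p2u644) p2r645

theorem p2r646 : allRange pointOk 22 36504 9 = true := by decide +kernel
theorem p2u646 : ∀ k, 30690 ≤ k → k < 36513 → pointOk (k * 22) = true := between_extend pointOk 22 30690 36504 9 (p2u645) p2r646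

theorem p2r647 : allRange pointOk 22 36513 9 = true := by decide +kernel
theorem p2u647 : ∀ k, 30690 ≤ k → k < 36522 → pointOk (k * 22) = true := between_extend pointOk 22 30690 36513 9 (p2u646) p2r647

theorem p2r648 : allRange pointOk 22 36522 9 = true := by decide +kernel
theorem p2u648 : ∀ k, 30690 ≤ k → k < 36531 → pointOk (k * 22) = true := between_extend pointOk 22 30690 36522 9 (p2u647) p2r648

theorem p2r649 : allRange pointOk 22 36531 9 = true := by decide +kernel
theorem p2u649 : ∀ k, 30690 ≤ k → k < 36540 → pointOk (k * 22) = true := between_extend pointOk 22 30690 36531 9 (p2u648) p2r649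

theorem p2r650 : allRange pointOk 22 36540 9 = true := by decide +kernel
theorem p2u650 : ∀ k, 30690 ≤ k → k < 36549 → pointOk (k * 22) = true := between_extend pointOk 22 30690 36540 9 (p2u649) p2r650

theorem p2r651 : allRange pointOk 22 36549 9 = true := by decide +kernel
theorem p2u651 : ∀ k, 30690 ≤ k → k < 36558 → pointOk (k * 22) = true := between_extend pointOk 22 30690 36549 9 (p2u650) p2r651

theorem p2r652 : allRange pointOk 22 36558 9 = true := by decide +kernel
theorem p2u652 : ∀ k, 30690 ≤ k → k < 36567 → pointOk (k * 22) = true := between_extend pointOk 22 30690 36558 9 (p2u651) p2r652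

theorem p2r653 : allRange pointOk 22 36567 9 = true := by decide +kernel
theorem p2u653 : ∀ k, 30690 ≤ k → k < 36576 → pointOk (k * 22) = true := between_extend pointOk 22 30690 36567 9 (p2u652) p2r653

theorem p2r654 : allRange pointOk 22 36576 9 = true := by decide +kernel
theorem p2u654 : ∀ k, 30690 ≤ k → k < 36585 → pointOk (k * 22) = true := between_extend pointOk 22 30690 36576 9 (p2u653) p2r654

theorem p2r655 : allRange pointOk 22 36585 9 = true := by decide +kernel
theorem p2u655 : ∀ k, 30690 ≤ k → k < 36594 → pointOk (k * 22) = true := between_extend pointOk 22 30690 36585 9 (p2u654) p2r655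

theorem p2r656 : allRange pointOk 22 36594 9 = true := by decide +kernel
theorem p2u656 : ∀ k, 30690 ≤ k → k < 36603 → pointOk (k * 22) = true := between_extend pointOk 22 30690 36594 9 (p2u655) p2r656

theorem p2r657 : allRange pointOk 22 36603 9 = true := by decide +kernel
theorem p2u657 : ∀ k, 30690 ≤ k → k < 36612 → pointOk (k * 22) = true := between_extend pointOk 22 30690 36603 9 (p2u656) p2r657

theorem p2r658 : allRange pointOk 22 36612 9 = true := by decide +kernel
theorem p2u658 : ∀ k, 30690 ≤ k → k < 36621 → pointOk (k * 22) = true := between_extend pointOk 22 30690 36612 9 (p2u657) p2r658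

theorem p2r659 : allRange pointOk 22 36621 9 = true := by decide +kernel
theorem p2u659 : ∀ k, 30690 ≤ k → k < 36630 → pointOk (k * 22) = true := between_extend pointOk 22 30690 36621 9 (p2u658) p2r659

theorem p2r660 : allRange pointOk 22 36630 9 = true := by decide +kernel
theorem p2u660 : ∀ k, 30690 ≤ k → k < 36639 → pointOk (k * 22) = true := between_extend pointOk 22 30690 36630 9 (p2u659) p2r660

theorem p2r661 : allRange pointOk 22 36639 9 = true := by decide +kernel
theorem p2u661 : ∀ k, 30690 ≤ k → k < 36648 → pointOk (k * 22) = true := between_extend pointOk 22 30690 36639 9 (p2u660) p2r661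

theorem p2r662 : allRange pointOk 22 36648 9 = true := by decide +kernel
theorem p2u662 : ∀ k, 30690 ≤ k → k < 36657 → pointOk (k * 22) = true := between_extend pointOk 22 30690 36648 9 (p2u661) p2r662

theorem p2r663 : allRange pointOk 22 36657 9 = true := by decide +kernel
theorem p2u663 : ∀ k, 30690 ≤ k → k < 36666 → pointOk (k * 22) = true := between_extend pointOk 22 30690 36657 9 (p2u662) p2r663

theorem p2r664 : allRange pointOk 22 36666 9 = true := by decide +kernel
theorem p2u664 : ∀ k, 30690 ≤ k → k < 36675 → pointOk (k * 22) = true := between_extend pointOk 22 30690 36666 9 (p2u663) p2r664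

theorem p2r665 : allRange pointOk 22 36675 9 = true := by decide +kernel
theorem p2u665 : ∀ k, 30690 ≤ k → k < 36684 → pointOk (k * 22) = true := between_extend pointOk 22 30690 36675 9 (p2u664) p2r665

theorem p2r666 : allRange pointOk 22 36684 9 = true := by decide +kernel
theorem p2u666 : ∀ k, 30690 ≤ k → k < 36693 → pointOk (k * 22) = true := between_extend pointOk 22 30690 36684 9 (p2u665) p2r666

theorem p2r667 : allRange pointOk 22 36693 9 = true := by decide +kernel
theorem p2u667 : ∀ k, 30690 ≤ k → k < 36702 → pointOk (k * 22) = true := between_extend pointOk 22 30690 36693 9 (p2u666) p2r667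

theorem p2r668 : allRange pointOk 22 36702 9 = true := by decide +kernel
theorem p2u668 : ∀ k, 30690 ≤ k → k < 36711 → pointOk (k * 22) = true := between_extend pointOk 22 30690 36702 9 (p2u667) p2r668

theorem p2r669 : allRange pointOk 22 36711 9 = true := by decide +kernel
theorem p2u669 : ∀ k, 30690 ≤ k → k < 36720 → pointOk (k * 22) = true := between_extend pointOk 22 30690 36711 9 (p2u668) p2r669

theorem p2r670 : allRange pointOk 22 36720 9 = true := by decide +kernel
theorem p2u670 : ∀ k, 30690 ≤ k → k < 36729 → pointOk (k * 22) = true := between_extend pointOk 22 30690 36720 9 (p2u669) p2r670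

theorem p2r671 : allRange pointOk 22 36729 9 = true := by decide +kernel
theorem p2u671 : ∀ k, 30690 ≤ k → k < 36738 → pointOk (k * 22) = true := between_extend pointOk 22 30690 36729 9 (p2u670) p2r671

theorem p2r672 : allRange pointOk 22 36738 9 = true := by decide +kernel
theorem p2u672 : ∀ k, 30690 ≤ k → k < 36747 → pointOk (k * 22) = true := between_extend pointOk 22 30690 36738 9 (p2u671) p2r672

theorem p2r673 : allRange pointOk 22 36747 9 = true := by decide +kernel
theorem p2u673 : ∀ k, 30690 ≤ k → k < 36756 → pointOk (k * 22) = true := between_extend pointOk 22 30690 36747 9 (p2u672) p2r673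

theorem p2r674 : allRange pointOk 22 36756 9 = true := by decide +kernel
theorem p2u674 : ∀ k, 30690 ≤ k → k < 36765 → pointOk (k * 22) = true := between_extend pointOk 22 30690 36756 9 (p2u673) p2r674

theorem p2r675 : allRange pointOk 22 36765 9 = true := by decide +kernel
theorem p2u675 : ∀ k, 30690 ≤ k → k < 36774 → pointOk (k * 22) = true := between_extend pointOk 22 30690 36765 9 (p2u674) p2r675

theorem p2r676 : allRange pointOk 22 36774 9 = true := by decide +kernel
theorem p2u676 : ∀ k, 30690 ≤ k → k < 36783 → pointOk (k * 22) = true := between_extend pointOk 22 30690 36774 9 (p2u675) p2r676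

theorem p2r677 : allRange pointOk 22 36783 9 = true := by decide +kernel
theorem p2u677 : ∀ k, 30690 ≤ k → k < 36792 → pointOk (k * 22) = true := between_extend pointOk 22 30690 36783 9 (p2u676) p2r677

theorem p2r678 : allRange pointOk 22 36792 9 = true := by decide +kernel
theorem p2u678 : ∀ k, 30690 ≤ k → k < 36801 → pointOk (k * 22) = true := between_extend pointOk 22 30690 36792 9 (p2u677) p2r678

theorem p2r679 : allRange pointOk 22 36801 9 = true := by decide +kernel
theorem p2u679 : ∀ k, 30690 ≤ k → k < 36810 → pointOk (k * 22) = true := between_extend pointOk 22 30690 36801 9 (p2u678) p2r679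

theorem p2r680 : allRange pointOk 22 36810 9 = true := by decide +kernel
theorem p2u680 : ∀ k, 30690 ≤ k → k < 36819 → pointOk (k * 22) = true := between_extend pointOk 22 30690 36810 9 (p2u679) p2r680

theorem p2r681 : allRange pointOk 22 36819 9 = true := by decide +kernel
theorem p2u681 : ∀ k, 30690 ≤ k → k < 36828 → pointOk (k * 22) = true := between_extend pointOk 22 30690 36819 9 (p2u680) p2r681

theorem p2r682 : allRange pointOk 22 36828 9 = true := by decide +kernel
theorem p2u682 : ∀ k, 30690 ≤ k → k < 36837 → pointOk (k * 22) = true := between_extend pointOk 22 30690 36828 9 (p2u681) p2r682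

theorem p2r683 : allRange pointOk 22 36837 9 = true := by decide +kernel
theorem p2u683 : ∀ k, 30690 ≤ k → k < 36846 → pointOk (k * 22) = true := between_extend pointOk 22 30690 36837 9 (p2u682) p2r683

theorem p2r684 : allRange pointOk 22 36846 9 = true := by decide +kernel
theorem p2u684 : ∀ k, 30690 ≤ k → k < 36855 → pointOk (k * 22) = true := between_extend pointOk 22 30690 36846 9 (p2u683) p2r684

theorem p2r685 : allRange pointOk 22 36855 9 = true := by decide +kernel
theorem p2u685 : ∀ k, 30690 ≤ k → k < 36864 → pointOk (k * 22) = true := between_extend pointOk 22 30690 36855 9 (p2u684) p2r685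

theorem p2r686 : allRange pointOk 22 36864 9 = true := by decide +kernel
theorem p2u686 : ∀ k, 30690 ≤ k → k < 36873 → pointOk (k * 22) = true := between_extend pointOk 22 30690 36864 9 (p2u685) p2r686

theorem p2r687 : allRange pointOk 22 36873 9 = true := by decide +kernel
theorem p2u687 : ∀ k, 30690 ≤ k → k < 36882 → pointOk (k * 22) = true := between_extend pointOk 22 30690 36873 9 (p2u686) p2r687

theorem p2r688 : allRange pointOk 22 36882 9 = true := by decide +kernel
theorem p2u688 : ∀ k, 30690 ≤ k → k < 36891 → pointOk (k * 22) = true := between_extend pointOk 22 30690 36882 9 (p2u687) p2r688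

theorem p2r689 : allRange pointOk 22 36891 9 = true := by decide +kernel
theorem p2u689 : ∀ k, 30690 ≤ k → k < 36900 → pointOk (k * 22) = true := between_extend pointOk 22 30690 36891 9 (p2u688) p2r689

theorem p2r690 : allRange pointOk 22 36900 9 = true := by decide +kernel
theorem p2u690 : ∀ k, 30690 ≤ k → k < 36909 → pointOk (k * 22) = true := between_extend pointOk 22 30690 36900 9 (p2u689) p2r690

theorem p2r691 : allRange pointOk 22 36909 9 = true := by decide +kernel
theorem p2u691 : ∀ k, 30690 ≤ k → k < 36918 → pointOk (k * 22) = true := between_extend pointOk 22 30690 36909 9 (p2u690) p2r691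

theorem p2r692 : allRange pointOk 22 36918 9 = true := by decide +kernel
theorem p2u692 : ∀ k, 30690 ≤ k → k < 36927 → pointOk (k * 22) = true := between_extend pointOk 22 30690 36918 9 (p2u691) p2r692

theorem p2r693 : allRange pointOk 22 36927 9 = true := by decide +kernel
theorem p2u693 : ∀ k, 30690 ≤ k → k < 36936 → pointOk (k * 22) = true := between_extend pointOk 22 30690 36927 9 (p2u692) p2r693

theorem p2r694 : allRange pointOk 22 36936 9 = true := by decide +kernel
theorem p2u694 : ∀ k, 30690 ≤ k → k < 36945 → pointOk (k * 22) = true := between_extend pointOk 22 30690 36936 9 (p2u693) p2r694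

theorem p2r695 : allRange pointOk 22 36945 9 = true := by decide +kernel
theorem p2u695 : ∀ k, 30690 ≤ k → k < 36954 → pointOk (k * 22) = true := between_extend pointOk 22 30690 36945 9 (p2u694) p2r695

theorem p2r696 : allRange pointOk 22 36954 9 = true := by decide +kernel
theorem p2u696 : ∀ k, 30690 ≤ k → k < 36963 → pointOk (k * 22) = true := between_extend pointOk 22 30690 36954 9 (p2u695) p2r696

theorem p2r697 : allRange pointOk 22 36963 9 = true := by decide +kernel
theorem p2u697 : ∀ k, 30690 ≤ k → k < 36972 → pointOk (k * 22) = true := between_extend pointOk 22 30690 36963 9 (p2u696) p2r697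

theorem p2r698 : allRange pointOk 22 36972 9 = true := by decide +kernel
theorem p2u698 : ∀ k, 30690 ≤ k → k < 36981 → pointOk (k * 22) = true := between_extend pointOk 22 30690 36972 9 (p2u697) p2r698

theorem p2r699 : allRange pointOk 22 36981 9 = true := by decide +kernel
theorem p2u699 : ∀ k, 30690 ≤ k → k < 36990 → pointOk (k * 22) = true := between_extend pointOk 22 30690 36981 9 (p2u698) p2r699

theorem p2r700 : allRange pointOk 22 36990 9 = true := by decide +kernel
theorem p2u700 : ∀ k, 30690 ≤ k → k < 36999 → pointOk (k * 22) = true := between_extend pointOk 22 30690 36990 9 (p2u699) p2r700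

theorem p2r701 : allRange pointOk 22 36999 9 = true := by decide +kernel
theorem p2u701 : ∀ k, 30690 ≤ k → k < 37008 → pointOk (k * 22) = true := between_extend pointOk 22 30690 36999 9 (p2u700) p2r701

theorem p2r702 : allRange pointOk 22 37008 9 = true := by decide +kernel
theorem p2u702 : ∀ k, 30690 ≤ k → k < 37017 → pointOk (k * 22) = true := between_extend pointOk 22 30690 37008 9 (p2u701) p2r702

theorem p2r703 : allRange pointOk 22 37017 9 = true := by decide +kernel
theorem p2u703 : ∀ k, 30690 ≤ k → k < 37026 → pointOk (k * 22) = true := between_extend pointOk 22 30690 37017 9 (p2u702) p2r703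

theorem p2r704 : allRange pointOk 22 37026 9 = true := by decide +kernel
theorem p2u704 : ∀ k, 30690 ≤ k → k < 37035 → pointOk (k * 22) = true := between_extend pointOk 22 30690 37026 9 (p2u703) p2r704

theorem p2r705 : allRange pointOk 22 37035 9 = true := by decide +kernel
theorem p2u705 : ∀ k, 30690 ≤ k → k < 37044 → pointOk (k * 22) = true := between_extend pointOk 22 30690 37035 9 (p2u704) p2r705

theorem p2r706 : allRange pointOk 22 37044 9 = true := by decide +kernel
theorem p2u706 : ∀ k, 30690 ≤ k → k < 37053 → pointOk (k * 22) = true := between_extend pointOk 22 30690 37044 9 (p2u705) p2r706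

theorem p2r707 : allRange pointOk 22 37053 9 = true := by decide +kernel
theorem p2u707 : ∀ k, 30690 ≤ k → k < 37062 → pointOk (k * 22) = true := between_extend pointOk 22 30690 37053 9 (p2u706) p2r707

theorem p2r708 : allRange pointOk 22 37062 9 = true := by decide +kernel
theorem p2u708 : ∀ k, 30690 ≤ k → k < 37071 → pointOk (k * 22) = true := between_extend pointOk 22 30690 37062 9 (p2u707) p2r708

theorem p2r709 : allRange pointOk 22 37071 9 = true := by decide +kernel
theorem p2u709 : ∀ k, 30690 ≤ k → k < 37080 → pointOk (k * 22) = true := between_extend pointOk 22 30690 37071 9 (p2u708) p2r709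

theorem p2r710 : allRange pointOk 22 37080 9 = true := by decide +kernel
theorem p2u710 : ∀ k, 30690 ≤ k → k < 37089 → pointOk (k * 22) = true := between_extend pointOk 22 30690 37080 9 (p2u709) p2r710

theorem p2r711 : allRange pointOk 22 37089 9 = true := by decide +kernel
theorem p2u711 : ∀ k, 30690 ≤ k → k < 37098 → pointOk (k * 22) = true := between_extend pointOk 22 30690 37089 9 (p2u710) p2r711

theorem p2r712 : allRange pointOk 22 37098 9 = true := by decide +kernel
theorem p2u712 : ∀ k, 30690 ≤ k → k < 37107 → pointOk (k * 22) = true := between_extend pointOk 22 30690 37098 9 (p2u711) p2r712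

theorem p2r713 : allRange pointOk 22 37107 9 = true := by decide +kernel
theorem p2u713 : ∀ k, 30690 ≤ k → k < 37116 → pointOk (k * 22) = true := between_extend pointOk 22 30690 37107 9 (p2u712) p2r713

theorem p2r714 : allRange pointOk 22 37116 9 = true := by decide +kernel
theorem p2u714 : ∀ k, 30690 ≤ k → k < 37125 → pointOk (k * 22) = true := between_extend pointOk 22 30690 37116 9 (p2u713) p2r714

theorem p2r715 : allRange pointOk 22 37125 9 = true := by decide +kernel
theorem p2u715 : ∀ k, 30690 ≤ k → k < 37134 → pointOk (k * 22) = true := between_extend pointOk 22 30690 37125 9 (p2u714) p2r715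

theorem p2r716 : allRange pointOk 22 37134 9 = true := by decide +kernel
theorem p2u716 : ∀ k, 30690 ≤ k → k < 37143 → pointOk (k * 22) = true := between_extend pointOk 22 30690 37134 9 (p2u715) p2r716

theorem p2r717 : allRange pointOk 22 37143 9 = true := by decide +kernel
theorem p2u717 : ∀ k, 30690 ≤ k → k < 37152 → pointOk (k * 22) = true := between_extend pointOk 22 30690 37143 9 (p2u716) p2r717

theorem p2r718 : allRange pointOk 22 37152 9 = true := by decide +kernel
theorem p2u718 : ∀ k, 30690 ≤ k → k < 37161 → pointOk (k * 22) = true := between_extend pointOk 22 30690 37152 9 (p2u717) p2r718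

theorem p2r719 : allRange pointOk 22 37161 9 = true := by decide +kernel
theorem p2u719 : ∀ k, 30690 ≤ k → k < 37170 → pointOk (k * 22) = true := between_extend pointOk 22 30690 37161 9 (p2u718) p2r719

theorem p2r720 : allRange pointOk 22 37170 9 = true := by decide +kernel
theorem p2u720 : ∀ k, 30690 ≤ k → k < 37179 → pointOk (k * 22) = true := between_extend pointOk 22 30690 37170 9 (p2u719) p2r720

theorem p2r721 : allRange pointOk 22 37179 9 = true := by decide +kernel
theorem p2u721 : ∀ k, 30690 ≤ k → k < 37188 → pointOk (k * 22) = true := between_extend pointOk 22 30690 37179 9 (p2u720) p2r721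

theorem p2r722 : allRange pointOk 22 37188 9 = true := by decide +kernel
theorem p2u722 : ∀ k, 30690 ≤ k → k < 37197 → pointOk (k * 22) = true := between_extend pointOk 22 30690 37188 9 (p2u721) p2r722

theorem p2r723 : allRange pointOk 22 37197 9 = true := by decide +kernel
theorem p2u723 : ∀ k, 30690 ≤ k → k < 37206 → pointOk (k * 22) = true := between_extend pointOk 22 30690 37197 9 (p2u722) p2r723

theorem p2r724 : allRange pointOk 22 37206 9 = true := by decide +kernel
theorem p2u724 : ∀ k, 30690 ≤ k → k < 37215 → pointOk (k * 22) = true := between_extend pointOk 22 30690 37206 9 (p2u723) p2r724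

theorem p2r725 : allRange pointOk 22 37215 9 = true := by decide +kernel
theorem p2u725 : ∀ k, 30690 ≤ k → k < 37224 → pointOk (k * 22) = true := between_extend pointOk 22 30690 37215 9 (p2u724) p2r725

theorem p2r726 : allRange pointOk 22 37224 9 = true := by decide +kernel
theorem p2u726 : ∀ k, 30690 ≤ k → k < 37233 → pointOk (k * 22) = true := between_extend pointOk 22 30690 37224 9 (p2u725) p2r726

theorem p2r727 : allRange pointOk 22 37233 9 = true := by decide +kernel
theorem p2u727 : ∀ k, 30690 ≤ k → k < 37242 → pointOk (k * 22) = true := between_extend pointOk 22 30690 37233 9 (p2u726) p2r727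

theorem p2r728 : allRange pointOk 22 37242 9 = true := by decide +kernel
theorem p2u728 : ∀ k, 30690 ≤ k → k < 37251 → pointOk (k * 22) = true := between_extend pointOk 22 30690 37242 9 (p2u727) p2r728

theorem p2r729 : allRange pointOk 22 37251 9 = true := by decide +kernel
theorem p2u729 : ∀ k, 30690 ≤ k → k < 37260 → pointOk (k * 22) = true := between_extend pointOk 22 30690 37251 9 (p2u728) p2r729

theorem p2r730 : allRange pointOk 22 37260 9 = true := by decide +kernel
theorem p2u730 : ∀ k, 30690 ≤ k → k < 37269 → pointOk (k * 22) = true := between_extend pointOk 22 30690 37260 9 (p2u729) p2r730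

theorem p2r731 : allRange pointOk 22 37269 9 = true := by decide +kernel
theorem p2u731 : ∀ k, 30690 ≤ k → k < 37278 → pointOk (k * 22) = true := between_extend pointOk 22 30690 37269 9 (p2u730) p2r731

theorem p2r732 : allRange pointOk 22 37278 9 = true := by decide +kernel
theorem p2u732 : ∀ k, 30690 ≤ k → k < 37287 → pointOk (k * 22) = true := between_extend pointOk 22 30690 37278 9 (p2u731) p2r732

theorem p2r733 : allRange pointOk 22 37287 9 = true := by decide +kernel
theorem p2u733 : ∀ k, 30690 ≤ k → k < 37296 → pointOk (k * 22) = true := between_extend pointOk 22 30690 37287 9 (p2u732) p2r733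

theorem p2r734 : allRange pointOk 22 37296 9 = true := by decide +kernel
theorem p2u734 : ∀ k, 30690 ≤ k → k < 37305 → pointOk (k * 22) = true := between_extend pointOk 22 30690 37296 9 (p2u733) p2r734

theorem p2r735 : allRange pointOk 22 37305 9 = true := by decide +kernel
theorem p2u735 : ∀ k, 30690 ≤ k → k < 37314 → pointOk (k * 22) = true := between_extend pointOk 22 30690 37305 9 (p2u734) p2r735

theorem p2r736 : allRange pointOk 22 37314 9 = true := by decide +kernel
theorem p2u736 : ∀ k, 30690 ≤ k → k < 37323 → pointOk (k * 22) = true := between_extend pointOk 22 30690 37314 9 (p2u735) p2r736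

theorem p2r737 : allRange pointOk 22 37323 9 = true := by decide +kernel
theorem p2u737 : ∀ k, 30690 ≤ k → k < 37332 → pointOk (k * 22) = true := between_extend pointOk 22 30690 37323 9 (p2u736) p2r737

theorem p2r738 : allRange pointOk 22 37332 9 = true := by decide +kernel
theorem p2u738 : ∀ k, 30690 ≤ k → k < 37341 → pointOk (k * 22) = true := between_extend pointOk 22 30690 37332 9 (p2u737) p2r738

theorem p2r739 : allRange pointOk 22 37341 9 = true := by decide +kernel
theorem p2u739 : ∀ k, 30690 ≤ k → k < 37350 → pointOk (k * 22) = true := between_extend pointOk 22 30690 37341 9 (p2u738) p2r739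

theorem p2r740 : allRange pointOk 22 37350 9 = true := by decide +kernel
theorem p2u740 : ∀ k, 30690 ≤ k → k < 37359 → pointOk (k * 22) = true := between_extend pointOk 22 30690 37350 9 (p2u739) p2r740

theorem p2r741 : allRange pointOk 22 37359 9 = true := by decide +kernel
theorem p2u741 : ∀ k, 30690 ≤ k → k < 37368 → pointOk (k * 22) = true := between_extend pointOk 22 30690 37359 9 (p2u740) p2r741

theorem p2r742 : allRange pointOk 22 37368 9 = true := by decide +kernel
theorem p2u742 : ∀ k, 30690 ≤ k → k < 37377 → pointOk (k * 22) = true := between_extend pointOk 22 30690 37368 9 (p2u741) p2r742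

theorem p2r743 : allRange pointOk 22 37377 9 = true := by decide +kernel
theorem p2u743 : ∀ k, 30690 ≤ k → k < 37386 → pointOk (k * 22) = true := between_extend pointOk 22 30690 37377 9 (p2u742) p2r743

theorem p2r744 : allRange pointOk 22 37386 9 = true := by decide +kernel
theorem p2u744 : ∀ k, 30690 ≤ k → k < 37395 → pointOk (k * 22) = true := between_extend pointOk 22 30690 37386 9 (p2u743) p2r744

theorem p2r745 : allRange pointOk 22 37395 9 = true := by decide +kernel
theorem p2u745 : ∀ k, 30690 ≤ k → k < 37404 → pointOk (k * 22) = true := between_extend pointOk 22 30690 37395 9 (p2u744) p2r745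

theorem p2r746 : allRange pointOk 22 37404 9 = true := by decide +kernel
theorem p2u746 : ∀ k, 30690 ≤ k → k < 37413 → pointOk (k * 22) = true := between_extend pointOk 22 30690 37404 9 (p2u745) p2r746

theorem p2r747 : allRange pointOk 22 37413 9 = true := by decide +kernel
theorem p2u747 : ∀ k, 30690 ≤ k → k < 37422 → pointOk (k * 22) = true := between_extend pointOk 22 30690 37413 9 (p2u746) p2r747

theorem p2r748 : allRange pointOk 22 37422 9 = true := by decide +kernel
theorem p2u748 : ∀ k, 30690 ≤ k → k < 37431 → pointOk (k * 22) = true := between_extend pointOk 22 30690 37422 9 (p2u747) p2r748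

theorem p2r749 : allRange pointOk 22 37431 9 = true := by decide +kernel
theorem p2u749 : ∀ k, 30690 ≤ k → k < 37440 → pointOk (k * 22) = true := between_extend pointOk 22 30690 37431 9 (p2u748) p2r749

theorem p2r750 : allRange pointOk 22 37440 9 = true := by decide +kernel
theorem p2u750 : ∀ k, 30690 ≤ k → k < 37449 → pointOk (k * 22) = true := between_extend pointOk 22 30690 37440 9 (p2u749) p2r750

theorem p2r751 : allRange pointOk 22 37449 9 = true := by decide +kernel
theorem p2u751 : ∀ k, 30690 ≤ k → k < 37458 → pointOk (k * 22) = true := between_extend pointOk 22 30690 37449 9 (p2u750) p2r751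

theorem p2r752 : allRange pointOk 22 37458 9 = true := by decide +kernel
theorem p2u752 : ∀ k, 30690 ≤ k → k < 37467 → pointOk (k * 22) = true := between_extend pointOk 22 30690 37458 9 (p2u751) p2r752

theorem p2r753 : allRange pointOk 22 37467 9 = true := by decide +kernel
theorem p2u753 : ∀ k, 30690 ≤ k → k < 37476 → pointOk (k * 22) = true := between_extend pointOk 22 30690 37467 9 (p2u752) p2r753

theorem p2r754 : allRange pointOk 22 37476 9 = true := by decide +kernel
theorem p2u754 : ∀ k, 30690 ≤ k → k < 37485 → pointOk (k * 22) = true := between_extend pointOk 22 30690 37476 9 (p2u753) p2r754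

theorem p2r755 : allRange pointOk 22 37485 9 = true := by decide +kernel
theorem p2u755 : ∀ k, 30690 ≤ k → k < 37494 → pointOk (k * 22) = true := between_extend pointOk 22 30690 37485 9 (p2u754) p2r755

theorem p2r756 : allRange pointOk 22 37494 9 = true := by decide +kernel
theorem p2u756 : ∀ k, 30690 ≤ k → k < 37503 → pointOk (k * 22) = true := between_extend pointOk 22 30690 37494 9 (p2u755) p2r756

theorem p2r757 : allRange pointOk 22 37503 9 = true := by decide +kernel
theorem p2u757 : ∀ k, 30690 ≤ k → k < 37512 → pointOk (k * 22) = true := between_extend pointOk 22 30690 37503 9 (p2u756) p2r757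

theorem p2r758 : allRange pointOk 22 37512 9 = true := by decide +kernel
theorem p2u758 : ∀ k, 30690 ≤ k → k < 37521 → pointOk (k * 22) = true := between_extend pointOk 22 30690 37512 9 (p2u757) p2r758

theorem p2r759 : allRange pointOk 22 37521 9 = true := by decide +kernel
theorem p2u759 : ∀ k, 30690 ≤ k → k < 37530 → pointOk (k * 22) = true := between_extend pointOk 22 30690 37521 9 (p2u758) p2r759

theorem p2r760 : allRange pointOk 22 37530 9 = true := by decide +kernel
theorem p2u760 : ∀ k, 30690 ≤ k → k < 37539 → pointOk (k * 22) = true := between_extend pointOk 22 30690 37530 9 (p2u759) p2r760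

theorem p2r761 : allRange pointOk 22 37539 9 = true := by decide +kernel
theorem p2u761 : ∀ k, 30690 ≤ k → k < 37548 → pointOk (k * 22) = true := between_extend pointOk 22 30690 37539 9 (p2u760) p2r761

theorem p2r762 : allRange pointOk 22 37548 9 = true := by decide +kernel
theorem p2u762 : ∀ k, 30690 ≤ k → k < 37557 → pointOk (k * 22) = true := between_extend pointOk 22 30690 37548 9 (p2u761) p2r762

theorem p2r763 : allRange pointOk 22 37557 9 = true := by decide +kernel
theorem p2u763 : ∀ k, 30690 ≤ k → k < 37566 → pointOk (k * 22) = true := between_extend pointOk 22 30690 37557 9 (p2u762) p2r763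

theorem p2r764 : allRange pointOk 22 37566 9 = true := by decide +kernel
theorem p2u764 : ∀ k, 30690 ≤ k → k < 37575 → pointOk (k * 22) = true := between_extend pointOk 22 30690 37566 9 (p2u763) p2r764

theorem p2r765 : allRange pointOk 22 37575 9 = true := by decide +kernel
theorem p2u765 : ∀ k, 30690 ≤ k → k < 37584 → pointOk (k * 22) = true := between_extend pointOk 22 30690 37575 9 (p2u764) p2r765

theorem p2r766 : allRange pointOk 22 37584 9 = true := by decide +kernel
theorem p2u766 : ∀ k, 30690 ≤ k → k < 37593 → pointOk (k * 22) = true := between_extend pointOk 22 30690 37584 9 (p2u765) p2r766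

theorem p2r767 : allRange pointOk 22 37593 9 = true := by decide +kernel
theorem p2u767 : ∀ k, 30690 ≤ k → k < 37602 → pointOk (k * 22) = true := between_extend pointOk 22 30690 37593 9 (p2u766) p2r767

theorem p2r768 : allRange pointOk 22 37602 9 = true := by decide +kernel
theorem p2u768 : ∀ k, 30690 ≤ k → k < 37611 → pointOk (k * 22) = true := between_extend pointOk 22 30690 37602 9 (p2u767) p2r768

theorem p2r769 : allRange pointOk 22 37611 9 = true := by decide +kernel
theorem p2u769 : ∀ k, 30690 ≤ k → k < 37620 → pointOk (k * 22) = true := between_extend pointOk 22 30690 37611 9 (p2u768) p2r769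

theorem p2r770 : allRange pointOk 22 37620 9 = true := by decide +kernel
theorem p2u770 : ∀ k, 30690 ≤ k → k < 37629 → pointOk (k * 22) = true := between_extend pointOk 22 30690 37620 9 (p2u769) p2r770

theorem p2r771 : allRange pointOk 22 37629 9 = true := by decide +kernel
theorem p2u771 : ∀ k, 30690 ≤ k → k < 37638 → pointOk (k * 22) = true := between_extend pointOk 22 30690 37629 9 (p2u770) p2r771

theorem p2r772 : allRange pointOk 22 37638 9 = true := by decide +kernel
theorem p2u772 : ∀ k, 30690 ≤ k → k < 37647 → pointOk (k * 22) = true := between_extend pointOk 22 30690 37638 9 (p2u771) p2r772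

theorem p2r773 : allRange pointOk 22 37647 9 = true := by decide +kernel
theorem p2u773 : ∀ k, 30690 ≤ k → k < 37656 → pointOk (k * 22) = true := between_extend pointOk 22 30690 37647 9 (p2u772) p2r773

theorem p2r774 : allRange pointOk 22 37656 9 = true := by decide +kernel
theorem p2u774 : ∀ k, 30690 ≤ k → k < 37665 → pointOk (k * 22) = true := between_extend pointOk 22 30690 37656 9 (p2u773) p2r774

theorem p2r775 : allRange pointOk 22 37665 9 = true := by decide +kernel
theorem p2u775 : ∀ k, 30690 ≤ k → k < 37674 → pointOk (k * 22) = true := between_extend pointOk 22 30690 37665 9 (p2u774) p2r775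

theorem p2r776 : allRange pointOk 22 37674 9 = true := by decide +kernel
theorem p2u776 : ∀ k, 30690 ≤ k → k < 37683 → pointOk (k * 22) = true := between_extend pointOk 22 30690 37674 9 (p2u775) p2r776

theorem p2r777 : allRange pointOk 22 37683 9 = true := by decide +kernel
theorem p2u777 : ∀ k, 30690 ≤ k → k < 37692 → pointOk (k * 22) = true := between_extend pointOk 22 30690 37683 9 (p2u776) p2r777

theorem p2r778 : allRange pointOk 22 37692 9 = true := by decide +kernel
theorem p2u778 : ∀ k, 30690 ≤ k → k < 37701 → pointOk (k * 22) = true := between_extend pointOk 22 30690 37692 9 (p2u777) p2r778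

theorem p2r779 : allRange pointOk 22 37701 9 = true := by decide +kernel
theorem p2u779 : ∀ k, 30690 ≤ k → k < 37710 → pointOk (k * 22) = true := between_extend pointOk 22 30690 37701 9 (p2u778) p2r779

theorem p2r780 : allRange pointOk 22 37710 9 = true := by decide +kernel
theorem p2u780 : ∀ k, 30690 ≤ k → k < 37719 → pointOk (k * 22) = true := between_extend pointOk 22 30690 37710 9 (p2u779) p2r780

theorem p2r781 : allRange pointOk 22 37719 9 = true := by decide +kernel
theorem p2u781 : ∀ k, 30690 ≤ k → k < 37728 → pointOk (k * 22) = true := between_extend pointOk 22 30690 37719 9 (p2u780) p2r781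

theorem p2r782 : allRange pointOk 22 37728 9 = true := by decide +kernel
theorem p2u782 : ∀ k, 30690 ≤ k → k < 37737 → pointOk (k * 22) = true := between_extend pointOk 22 30690 37728 9 (p2u781) p2r782

theorem p2r783 : allRange pointOk 22 37737 9 = true := by decide +kernel
theorem p2u783 : ∀ k, 30690 ≤ k → k < 37746 → pointOk (k * 22) = true := between_extend pointOk 22 30690 37737 9 (p2u782) p2r783

theorem p2r784 : allRange pointOk 22 37746 9 = true := by decide +kernel
theorem p2u784 : ∀ k, 30690 ≤ k → k < 37755 → pointOk (k * 22) = true := between_extend pointOk 22 30690 37746 9 (p2u783) p2r784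

theorem p2r785 : allRange pointOk 22 37755 9 = true := by decide +kernel
theorem p2u785 : ∀ k, 30690 ≤ k → k < 37764 → pointOk (k * 22) = true := between_extend pointOk 22 30690 37755 9 (p2u784) p2r785

theorem p2r786 : allRange pointOk 22 37764 9 = true := by decide +kernel
theorem p2u786 : ∀ k, 30690 ≤ k → k < 37773 → pointOk (k * 22) = true := between_extend pointOk 22 30690 37764 9 (p2u785) p2r786

theorem p2r787 : allRange pointOk 22 37773 9 = true := by decide +kernel
theorem p2u787 : ∀ k, 30690 ≤ k → k < 37782 → pointOk (k * 22) = true := between_extend pointOk 22 30690 37773 9 (p2u786) p2r787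

theorem p2r788 : allRange pointOk 22 37782 9 = true := by decide +kernel
theorem p2u788 : ∀ k, 30690 ≤ k → k < 37791 → pointOk (k * 22) = true := between_extend pointOk 22 30690 37782 9 (p2u787) p2r788

theorem p2r789 : allRange pointOk 22 37791 9 = true := by decide +kernel
theorem p2u789 : ∀ k, 30690 ≤ k → k < 37800 → pointOk (k * 22) = true := between_extend pointOk 22 30690 37791 9 (p2u788) p2r789

theorem p2r790 : allRange pointOk 22 37800 9 = true := by decide +kernel
theorem p2u790 : ∀ k, 30690 ≤ k → k < 37809 → pointOk (k * 22) = true := between_extend pointOk 22 30690 37800 9 (p2u789) p2r790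

theorem p2r791 : allRange pointOk 22 37809 9 = true := by decide +kernel
theorem p2u791 : ∀ k, 30690 ≤ k → k < 37818 → pointOk (k * 22) = true := between_extend pointOk 22 30690 37809 9 (p2u790) p2r791

theorem p2r792 : allRange pointOk 22 37818 9 = true := by decide +kernel
theorem p2u792 : ∀ k, 30690 ≤ k → k < 37827 → pointOk (k * 22) = true := between_extend pointOk 22 30690 37818 9 (p2u791) p2r792

theorem p2r793 : allRange pointOk 22 37827 9 = true := by decide +kernel
theorem p2u793 : ∀ k, 30690 ≤ k → k < 37836 → pointOk (k * 22) = true := between_extend pointOk 22 30690 37827 9 (p2u792) p2r793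

theorem p2r794 : allRange pointOk 22 37836 9 = true := by decide +kernel
theorem p2u794 : ∀ k, 30690 ≤ k → k < 37845 → pointOk (k * 22) = true := between_extend pointOk 22 30690 37836 9 (p2u793) p2r794

theorem p2r795 : allRange pointOk 22 37845 9 = true := by decide +kernel
theorem p2u795 : ∀ k, 30690 ≤ k → k < 37854 → pointOk (k * 22) = true := between_extend pointOk 22 30690 37845 9 (p2u794) p2r795

theorem p2r796 : allRange pointOk 22 37854 9 = true := by decide +kernel
theorem p2u796 : ∀ k, 30690 ≤ k → k < 37863 → pointOk (k * 22) = true := between_extend pointOk 22 30690 37854 9 (p2u795) p2r796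

theorem p2r797 : allRange pointOk 22 37863 9 = true := by decide +kernel
theorem p2u797 : ∀ k, 30690 ≤ k → k < 37872 → pointOk (k * 22) = true := between_extend pointOk 22 30690 37863 9 (p2u796) p2r797

theorem p2r798 : allRange pointOk 22 37872 9 = true := by decide +kernel
theorem p2u798 : ∀ k, 30690 ≤ k → k < 37881 → pointOk (k * 22) = true := between_extend pointOk 22 30690 37872 9 (p2u797) p2r798

theorem p2r799 : allRange pointOk 22 37881 9 = true := by decide +kernel
theorem p2u799 : ∀ k, 30690 ≤ k → k < 37890 → pointOk (k * 22) = true := between_extend pointOk 22 30690 37881 9 (p2u798) p2r799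

theorem p2r800 : allRange pointOk 22 37890 9 = true := by decide +kernel
theorem p2u800 : ∀ k, 30690 ≤ k → k < 37899 → pointOk (k * 22) = true := between_extend pointOk 22 30690 37890 9 (p2u799) p2r800

theorem p2r801 : allRange pointOk 22 37899 9 = true := by decide +kernel
theorem p2u801 : ∀ k, 30690 ≤ k → k < 37908 → pointOk (k * 22) = true := between_extend pointOk 22 30690 37899 9 (p2u800) p2r801

theorem p2r802 : allRange pointOk 22 37908 9 = true := by decide +kernel
theorem p2u802 : ∀ k, 30690 ≤ k → k < 37917 → pointOk (k * 22) = true := between_extend pointOk 22 30690 37908 9 (p2u801) p2r802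

theorem p2r803 : allRange pointOk 22 37917 9 = true := by decide +kernel
theorem p2u803 : ∀ k, 30690 ≤ k → k < 37926 → pointOk (k * 22) = true := between_extend pointOk 22 30690 37917 9 (p2u802) p2r803

theorem p2r804 : allRange pointOk 22 37926 9 = true := by decide +kernel
theorem p2u804 : ∀ k, 30690 ≤ k → k < 37935 → pointOk (k * 22) = true := between_extend pointOk 22 30690 37926 9 (p2u803) p2r804

theorem p2r805 : allRange pointOk 22 37935 9 = true := by decide +kernel
theorem p2u805 : ∀ k, 30690 ≤ k → k < 37944 → pointOk (k * 22) = true := between_extend pointOk 22 30690 37935 9 (p2u804) p2r805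

theorem p2r806 : allRange pointOk 22 37944 9 = true := by decide +kernel
theorem p2u806 : ∀ k, 30690 ≤ k → k < 37953 → pointOk (k * 22) = true := between_extend pointOk 22 30690 37944 9 (p2u805) p2r806

theorem p2r807 : allRange pointOk 22 37953 9 = true := by decide +kernel
theorem p2u807 : ∀ k, 30690 ≤ k → k < 37962 → pointOk (k * 22) = true := between_extend pointOk 22 30690 37953 9 (p2u806) p2r807

theorem p2r808 : allRange pointOk 22 37962 9 = true := by decide +kernel
theorem p2u808 : ∀ k, 30690 ≤ k → k < 37971 → pointOk (k * 22) = true := between_extend pointOk 22 30690 37962 9 (p2u807) p2r808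

theorem p2r809 : allRange pointOk 22 37971 9 = true := by decide +kernel
theorem p2u809 : ∀ k, 30690 ≤ k → k < 37980 → pointOk (k * 22) = true := between_extend pointOk 22 30690 37971 9 (p2u808) p2r809

theorem p2r810 : allRange pointOk 22 37980 9 = true := by decide +kernel
theorem p2u810 : ∀ k, 30690 ≤ k → k < 37989 → pointOk (k * 22) = true := between_extend pointOk 22 30690 37980 9 (p2u809) p2r810

theorem p2r811 : allRange pointOk 22 37989 9 = true := by decide +kernel
theorem p2u811 : ∀ k, 30690 ≤ k → k < 37998 → pointOk (k * 22) = true := between_extend pointOk 22 30690 37989 9 (p2u810) p2r811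

theorem p2r812 : allRange pointOk 22 37998 9 = true := by decide +kernel
theorem p2u812 : ∀ k, 30690 ≤ k → k < 38007 → pointOk (k * 22) = true := between_extend pointOk 22 30690 37998 9 (p2u811) p2r812

theorem p2r813 : allRange pointOk 22 38007 9 = true := by decide +kernel
theorem p2u813 : ∀ k, 30690 ≤ k → k < 38016 → pointOk (k * 22) = true := between_extend pointOk 22 30690 38007 9 (p2u812) p2r813

theorem p2r814 : allRange pointOk 22 38016 9 = true := by decide +kernel
theorem p2u814 : ∀ k, 30690 ≤ k → k < 38025 → pointOk (k * 22) = true := between_extend pointOk 22 30690 38016 9 (p2u813) p2r814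

theorem p2r815 : allRange pointOk 22 38025 9 = true := by decide +kernel
theorem p2u815 : ∀ k, 30690 ≤ k → k < 38034 → pointOk (k * 22) = true := between_extend pointOk 22 30690 38025 9 (p2u814) p2r815

theorem p2r816 : allRange pointOk 22 38034 9 = true := by decide +kernel
theorem p2u816 : ∀ k, 30690 ≤ k → k < 38043 → pointOk (k * 22) = true := between_extend pointOk 22 30690 38034 9 (p2u815) p2r816

theorem p2r817 : allRange pointOk 22 38043 9 = true := by decide +kernel
theorem p2u817 : ∀ k, 30690 ≤ k → k < 38052 → pointOk (k * 22) = true := between_extend pointOk 22 30690 38043 9 (p2u816) p2r817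

theorem p2r818 : allRange pointOk 22 38052 9 = true := by decide +kernel
theorem p2u818 : ∀ k, 30690 ≤ k → k < 38061 → pointOk (k * 22) = true := between_extend pointOk 22 30690 38052 9 (p2u817) p2r818

theorem p2r819 : allRange pointOk 22 38061 9 = true := by decide +kernel
theorem p2u819 : ∀ k, 30690 ≤ k → k < 38070 → pointOk (k * 22) = true := between_extend pointOk 22 30690 38061 9 (p2u818) p2r819

theorem p2r820 : allRange pointOk 22 38070 9 = true := by decide +kernel
theorem p2u820 : ∀ k, 30690 ≤ k → k < 38079 → pointOk (k * 22) = true := between_extend pointOk 22 30690 38070 9 (p2u819) p2r820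

theorem p2r821 : allRange pointOk 22 38079 9 = true := by decide +kernel
theorem p2u821 : ∀ k, 30690 ≤ k → k < 38088 → pointOk (k * 22) = true := between_extend pointOk 22 30690 38079 9 (p2u820) p2r821

theorem p2r822 : allRange pointOk 22 38088 9 = true := by decide +kernel
theorem p2u822 : ∀ k, 30690 ≤ k → k < 38097 → pointOk (k * 22) = true := between_extend pointOk 22 30690 38088 9 (p2u821) p2r822

theorem p2r823 : allRange pointOk 22 38097 9 = true := by decide +kernel
theorem p2u823 : ∀ k, 30690 ≤ k → k < 38106 → pointOk (k * 22) = true := between_extend pointOk 22 30690 38097 9 (p2u822) p2r823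

theorem p2r824 : allRange pointOk 22 38106 9 = true := by decide +kernel
theorem p2u824 : ∀ k, 30690 ≤ k → k < 38115 → pointOk (k * 22) = true := between_extend pointOk 22 30690 38106 9 (p2u823) p2r824

theorem p2r825 : allRange pointOk 22 38115 9 = true := by decide +kernel
theorem p2u825 : ∀ k, 30690 ≤ k → k < 38124 → pointOk (k * 22) = true := between_extend pointOk 22 30690 38115 9 (p2u824) p2r825

theorem p2r826 : allRange pointOk 22 38124 9 = true := by decide +kernel
theorem p2u826 : ∀ k, 30690 ≤ k → k < 38133 → pointOk (k * 22) = true := between_extend pointOk 22 30690 38124 9 (p2u825) p2r826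

theorem p2r827 : allRange pointOk 22 38133 9 = true := by decide +kernel
theorem p2u827 : ∀ k, 30690 ≤ k → k < 38142 → pointOk (k * 22) = true := between_extend pointOk 22 30690 38133 9 (p2u826) p2r827

theorem p2r828 : allRange pointOk 22 38142 9 = true := by decide +kernel
theorem p2u828 : ∀ k, 30690 ≤ k → k < 38151 → pointOk (k * 22) = true := between_extend pointOk 22 30690 38142 9 (p2u827) p2r828

theorem p2r829 : allRange pointOk 22 38151 9 = true := by decide +kernel
theorem p2u829 : ∀ k, 30690 ≤ k → k < 38160 → pointOk (k * 22) = true := between_extend pointOk 22 30690 38151 9 (p2u828) p2r829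

theorem p2r830 : allRange pointOk 22 38160 9 = true := by decide +kernel
theorem p2u830 : ∀ k, 30690 ≤ k → k < 38169 → pointOk (k * 22) = true := between_extend pointOk 22 30690 38160 9 (p2u829) p2r830

theorem p2r831 : allRange pointOk 22 38169 9 = true := by decide +kernel
theorem p2u831 : ∀ k, 30690 ≤ k → k < 38178 → pointOk (k * 22) = true := between_extend pointOk 22 30690 38169 9 (p2u830) p2r831

theorem p2r832 : allRange pointOk 22 38178 9 = true := by decide +kernel
theorem p2u832 : ∀ k, 30690 ≤ k → k < 38187 → pointOk (k * 22) = true := between_extend pointOk 22 30690 38178 9 (p2u831) p2r832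

theorem p2r833 : allRange pointOk 22 38187 9 = true := by decide +kernel
theorem p2u833 : ∀ k, 30690 ≤ k → k < 38196 → pointOk (k * 22) = true := between_extend pointOk 22 30690 38187 9 (p2u832) p2r833

theorem p2r834 : allRange pointOk 22 38196 9 = true := by decide +kernel
theorem p2u834 : ∀ k, 30690 ≤ k → k < 38205 → pointOk (k * 22) = true := between_extend pointOk 22 30690 38196 9 (p2u833) p2r834

theorem p2r835 : allRange pointOk 22 38205 9 = true := by decide +kernel
theorem p2u835 : ∀ k, 30690 ≤ k → k < 38214 → pointOk (k * 22) = true := between_extend pointOk 22 30690 38205 9 (p2u834) p2r835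

theorem p2r836 : allRange pointOk 22 38214 9 = true := by decide +kernel
theorem p2u836 : ∀ k, 30690 ≤ k → k < 38223 → pointOk (k * 22) = true := between_extend pointOk 22 30690 38214 9 (p2u835) p2r836

theorem p2r837 : allRange pointOk 22 38223 9 = true := by decide +kernel
theorem p2u837 : ∀ k, 30690 ≤ k → k < 38232 → pointOk (k * 22) = true := between_extend pointOk 22 30690 38223 9 (p2u836) p2r837

theorem p2r838 : allRange pointOk 22 38232 9 = true := by decide +kernel
theorem p2u838 : ∀ k, 30690 ≤ k → k < 38241 → pointOk (k * 22) = true := between_extend pointOk 22 30690 38232 9 (p2u837) p2r838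

theorem p2r839 : allRange pointOk 22 38241 9 = true := by decide +kernel
theorem p2u839 : ∀ k, 30690 ≤ k → k < 38250 → pointOk (k * 22) = true := between_extend pointOk 22 30690 38241 9 (p2u838) p2r839

theorem p2r840 : allRange pointOk 22 38250 9 = true := by decide +kernel
theorem p2u840 : ∀ k, 30690 ≤ k → k < 38259 → pointOk (k * 22) = true := between_extend pointOk 22 30690 38250 9 (p2u839) p2r840

theorem p2r841 : allRange pointOk 22 38259 9 = true := by decide +kernel
theorem p2u841 : ∀ k, 30690 ≤ k → k < 38268 → pointOk (k * 22) = true := between_extend pointOk 22 30690 38259 9 (p2u840) p2r841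

theorem p2r842 : allRange pointOk 22 38268 9 = true := by decide +kernel
theorem p2u842 : ∀ k, 30690 ≤ k → k < 38277 → pointOk (k * 22) = true := between_extend pointOk 22 30690 38268 9 (p2u841) p2r842

theorem p2r843 : allRange pointOk 22 38277 9 = true := by decide +kernel
theorem p2u843 : ∀ k, 30690 ≤ k → k < 38286 → pointOk (k * 22) = true := between_extend pointOk 22 30690 38277 9 (p2u842) p2r843

theorem p2r844 : allRange pointOk 22 38286 9 = true := by decide +kernel
theorem p2u844 : ∀ k, 30690 ≤ k → k < 38295 → pointOk (k * 22) = true := between_extend pointOk 22 30690 38286 9 (p2u843) p2r844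

theorem p2r845 : allRange pointOk 22 38295 9 = true := by decide +kernel
theorem p2u845 : ∀ k, 30690 ≤ k → k < 38304 → pointOk (k * 22) = true := between_extend pointOk 22 30690 38295 9 (p2u844) p2r845

theorem p2r846 : allRange pointOk 22 38304 9 = true := by decide +kernel
theorem p2u846 : ∀ k, 30690 ≤ k → k < 38313 → pointOk (k * 22) = true := between_extend pointOk 22 30690 38304 9 (p2u845) p2r846

theorem p2r847 : allRange pointOk 22 38313 9 = true := by decide +kernel
theorem p2u847 : ∀ k, 30690 ≤ k → k < 38322 → pointOk (k * 22) = true := between_extend pointOk 22 30690 38313 9 (p2u846) p2r847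

theorem p2r848 : allRange pointOk 22 38322 9 = true := by decide +kernel
theorem p2u848 : ∀ k, 30690 ≤ k → k < 38331 → pointOk (k * 22) = true := between_extend pointOk 22 30690 38322 9 (p2u847) p2r848

theorem p2r849 : allRange pointOk 22 38331 9 = true := by decide +kernel
theorem p2u849 : ∀ k, 30690 ≤ k → k < 38340 → pointOk (k * 22) = true := between_extend pointOk 22 30690 38331 9 (p2u848) p2r849

theorem p2r850 : allRange pointOk 22 38340 9 = true := by decide +kernel
theorem p2u850 : ∀ k, 30690 ≤ k → k < 38349 → pointOk (k * 22) = true := between_extend pointOk 22 30690 38340 9 (p2u849) p2r850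

theorem p2r851 : allRange pointOk 22 38349 9 = true := by decide +kernel
theorem p2u851 : ∀ k, 30690 ≤ k → k < 38358 → pointOk (k * 22) = true := between_extend pointOk 22 30690 38349 9 (p2u850) p2r851

theorem p2r852 : allRange pointOk 22 38358 9 = true := by decide +kernel
theorem p2u852 : ∀ k, 30690 ≤ k → k < 38367 → pointOk (k * 22) = true := between_extend pointOk 22 30690 38358 9 (p2u851) p2r852

theorem p2r853 : allRange pointOk 22 38367 9 = true := by decide +kernel
theorem p2u853 : ∀ k, 30690 ≤ k → k < 38376 → pointOk (k * 22) = true := between_extend pointOk 22 30690 38367 9 (p2u852) p2r853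

theorem p2r854 : allRange pointOk 22 38376 9 = true := by decide +kernel
theorem p2u854 : ∀ k, 30690 ≤ k → k < 38385 → pointOk (k * 22) = true := between_extend pointOk 22 30690 38376 9 (p2u853) p2r854

theorem p2r855 : allRange pointOk 22 38385 9 = true := by decide +kernel
theorem p2u855 : ∀ k, 30690 ≤ k → k < 38394 → pointOk (k * 22) = true := between_extend pointOk 22 30690 38385 9 (p2u854) p2r855

theorem p2r856 : allRange pointOk 22 38394 9 = true := by decide +kernel
theorem p2u856 : ∀ k, 30690 ≤ k → k < 38403 → pointOk (k * 22) = true := between_extend pointOk 22 30690 38394 9 (p2u855) p2r856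

theorem p2r857 : allRange pointOk 22 38403 9 = true := by decide +kernel
theorem p2u857 : ∀ k, 30690 ≤ k → k < 38412 → pointOk (k * 22) = true := between_extend pointOk 22 30690 38403 9 (p2u856) p2r857

theorem p2r858 : allRange pointOk 22 38412 9 = true := by decide +kernel
theorem p2u858 : ∀ k, 30690 ≤ k → k < 38421 → pointOk (k * 22) = true := between_extend pointOk 22 30690 38412 9 (p2u857) p2r858

theorem p2r859 : allRange pointOk 22 38421 9 = true := by decide +kernel
theorem p2u859 : ∀ k, 30690 ≤ k → k < 38430 → pointOk (k * 22) = true := between_extend pointOk 22 30690 38421 9 (p2u858) p2r859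

theorem p2r860 : allRange pointOk 22 38430 9 = true := by decide +kernel
theorem p2u860 : ∀ k, 30690 ≤ k → k < 38439 → pointOk (k * 22) = true := between_extend pointOk 22 30690 38430 9 (p2u859) p2r860

theorem p2r861 : allRange pointOk 22 38439 9 = true := by decide +kernel
theorem p2u861 : ∀ k, 30690 ≤ k → k < 38448 → pointOk (k * 22) = true := between_extend pointOk 22 30690 38439 9 (p2u860) p2r861

theorem p2r862 : allRange pointOk 22 38448 9 = true := by decide +kernel
theorem p2u862 : ∀ k, 30690 ≤ k → k < 38457 → pointOk (k * 22) = true := between_extend pointOk 22 30690 38448 9 (p2u861) p2r862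

theorem p2r863 : allRange pointOk 22 38457 9 = true := by decide +kernel
theorem p2u863 : ∀ k, 30690 ≤ k → k < 38466 → pointOk (k * 22) = true := between_extend pointOk 22 30690 38457 9 (p2u862) p2r863

theorem p2r864 : allRange pointOk 22 38466 9 = true := by decide +kernel
theorem p2u864 : ∀ k, 30690 ≤ k → k < 38475 → pointOk (k * 22) = true := between_extend pointOk 22 30690 38466 9 (p2u863) p2r864

theorem p2r865 : allRange pointOk 22 38475 9 = true := by decide +kernel
theorem p2u865 : ∀ k, 30690 ≤ k → k < 38484 → pointOk (k * 22) = true := between_extend pointOk 22 30690 38475 9 (p2u864) p2r865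

theorem p2r866 : allRange pointOk 22 38484 9 = true := by decide +kernel
theorem p2u866 : ∀ k, 30690 ≤ k → k < 38493 → pointOk (k * 22) = true := between_extend pointOk 22 30690 38484 9 (p2u865) p2r866

theorem p2r867 : allRange pointOk 22 38493 9 = true := by decide +kernel
theorem p2u867 : ∀ k, 30690 ≤ k → k < 38502 → pointOk (k * 22) = true := between_extend pointOk 22 30690 38493 9 (p2u866) p2r867

theorem p2r868 : allRange pointOk 22 38502 9 = true := by decide +kernel
theorem p2u868 : ∀ k, 30690 ≤ k → k < 38511 → pointOk (k * 22) = true := between_extend pointOk 22 30690 38502 9 (p2u867) p2r868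

theorem p2r869 : allRange pointOk 22 38511 9 = true := by decide +kernel
theorem p2u869 : ∀ k, 30690 ≤ k → k < 38520 → pointOk (k * 22) = true := between_extend pointOk 22 30690 38511 9 (p2u868) p2r869

theorem p2r870 : allRange pointOk 22 38520 9 = true := by decide +kernel
theorem p2u870 : ∀ k, 30690 ≤ k → k < 38529 → pointOk (k * 22) = true := between_extend pointOk 22 30690 38520 9 (p2u869) p2r870

theorem p2r871 : allRange pointOk 22 38529 9 = true := by decide +kernel
theorem p2u871 : ∀ k, 30690 ≤ k → k < 38538 → pointOk (k * 22) = true := between_extend pointOk 22 30690 38529 9 (p2u870) p2r871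

theorem p2r872 : allRange pointOk 22 38538 9 = true := by decide +kernel
theorem p2u872 : ∀ k, 30690 ≤ k → k < 38547 → pointOk (k * 22) = true := between_extend pointOk 22 30690 38538 9 (p2u871) p2r872

theorem p2r873 : allRange pointOk 22 38547 9 = true := by decide +kernel
theorem p2u873 : ∀ k, 30690 ≤ k → k < 38556 → pointOk (k * 22) = true := between_extend pointOk 22 30690 38547 9 (p2u872) p2r873

theorem p2r874 : allRange pointOk 22 38556 9 = true := by decide +kernel
theorem p2u874 : ∀ k, 30690 ≤ k → k < 38565 → pointOk (k * 22) = true := between_extend pointOk 22 30690 38556 9 (p2u873) p2r874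

theorem p2r875 : allRange pointOk 22 38565 9 = true := by decide +kernel
theorem p2u875 : ∀ k, 30690 ≤ k → k < 38574 → pointOk (k * 22) = true := between_extend pointOk 22 30690 38565 9 (p2u874) p2r875

theorem p2r876 : allRange pointOk 22 38574 9 = true := by decide +kernel
theorem p2u876 : ∀ k, 30690 ≤ k → k < 38583 → pointOk (k * 22) = true := between_extend pointOk 22 30690 38574 9 (p2u875) p2r876

theorem p2r877 : allRange pointOk 22 38583 9 = true := by decide +kernel
theorem p2u877 : ∀ k, 30690 ≤ k → k < 38592 → pointOk (k * 22) = true := between_extend pointOk 22 30690 38583 9 (p2u876) p2r877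

theorem p2r878 : allRange pointOk 22 38592 9 = true := by decide +kernel
theorem p2u878 : ∀ k, 30690 ≤ k → k < 38601 → pointOk (k * 22) = true := between_extend pointOk 22 30690 38592 9 (p2u877) p2r878

theorem p2r879 : allRange pointOk 22 38601 9 = true := by decide +kernel
theorem p2u879 : ∀ k, 30690 ≤ k → k < 38610 → pointOk (k * 22) = true := between_extend pointOk 22 30690 38601 9 (p2u878) p2r879

theorem p2r880 : allRange pointOk 22 38610 9 = true := by decide +kernel
theorem p2u880 : ∀ k, 30690 ≤ k → k < 38619 → pointOk (k * 22) = true := between_extend pointOk 22 30690 38610 9 (p2u879) p2r880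

theorem p2r881 : allRange pointOk 22 38619 9 = true := by decide +kernel
theorem p2u881 : ∀ k, 30690 ≤ k → k < 38628 → pointOk (k * 22) = true := between_extend pointOk 22 30690 38619 9 (p2u880) p2r881

theorem p2r882 : allRange pointOk 22 38628 9 = true := by decide +kernel
theorem p2u882 : ∀ k, 30690 ≤ k → k < 38637 → pointOk (k * 22) = true := between_extend pointOk 22 30690 38628 9 (p2u881) p2r882

theorem p2r883 : allRange pointOk 22 38637 9 = true := by decide +kernel
theorem p2u883 : ∀ k, 30690 ≤ k → k < 38646 → pointOk (k * 22) = true := between_extend pointOk 22 30690 38637 9 (p2u882) p2r883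

theorem p2r884 : allRange pointOk 22 38646 9 = true := by decide +kernel
theorem p2u884 : ∀ k, 30690 ≤ k → k < 38655 → pointOk (k * 22) = true := between_extend pointOk 22 30690 38646 9 (p2u883) p2r884

theorem p2r885 : allRange pointOk 22 38655 9 = true := by decide +kernel
theorem p2u885 : ∀ k, 30690 ≤ k → k < 38664 → pointOk (k * 22) = true := between_extend pointOk 22 30690 38655 9 (p2u884) p2r885

theorem p2r886 : allRange pointOk 22 38664 9 = true := by decide +kernel
theorem p2u886 : ∀ k, 30690 ≤ k → k < 38673 → pointOk (k * 22) = true := between_extend pointOk 22 30690 38664 9 (p2u885) p2r886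

theorem p2r887 : allRange pointOk 22 38673 9 = true := by decide +kernel
theorem p2u887 : ∀ k, 30690 ≤ k → k < 38682 → pointOk (k * 22) = true := between_extend pointOk 22 30690 38673 9 (p2u886) p2r887

theorem p2r888 : allRange pointOk 22 38682 9 = true := by decide +kernel
theorem p2u888 : ∀ k, 30690 ≤ k → k < 38691 → pointOk (k * 22) = true := between_extend pointOk 22 30690 38682 9 (p2u887) p2r888

theorem p2r889 : allRange pointOk 22 38691 9 = true := by decide +kernel
theorem p2u889 : ∀ k, 30690 ≤ k → k < 38700 → pointOk (k * 22) = true := between_extend pointOk 22 30690 38691 9 (p2u888) p2r889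

theorem p2r890 : allRange pointOk 22 38700 9 = true := by decide +kernel
theorem p2u890 : ∀ k, 30690 ≤ k → k < 38709 → pointOk (k * 22) = true := between_extend pointOk 22 30690 38700 9 (p2u889) p2r890

theorem p2r891 : allRange pointOk 22 38709 9 = true := by decide +kernel
theorem p2u891 : ∀ k, 30690 ≤ k → k < 38718 → pointOk (k * 22) = true := between_extend pointOk 22 30690 38709 9 (p2u890) p2r891

theorem p2r892 : allRange pointOk 22 38718 9 = true := by decide +kernel
theorem p2u892 : ∀ k, 30690 ≤ k → k < 38727 → pointOk (k * 22) = true := between_extend pointOk 22 30690 38718 9 (p2u891) p2r892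

theorem p2r893 : allRange pointOk 22 38727 9 = true := by decide +kernel
theorem p2u893 : ∀ k, 30690 ≤ k → k < 38736 → pointOk (k * 22) = true := between_extend pointOk 22 30690 38727 9 (p2u892) p2r893

theorem p2r894 : allRange pointOk 22 38736 9 = true := by decide +kernel
theorem p2u894 : ∀ k, 30690 ≤ k → k < 38745 → pointOk (k * 22) = true := between_extend pointOk 22 30690 38736 9 (p2u893) p2r894

theorem p2r895 : allRange pointOk 22 38745 9 = true := by decide +kernel
theorem p2u895 : ∀ k, 30690 ≤ k → k < 38754 → pointOk (k * 22) = true := between_extend pointOk 22 30690 38745 9 (p2u894) p2r895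

theorem p2r896 : allRange pointOk 22 38754 9 = true := by decide +kernel
theorem p2u896 : ∀ k, 30690 ≤ k → k < 38763 → pointOk (k * 22) = true := between_extend pointOk 22 30690 38754 9 (p2u895) p2r896

theorem p2r897 : allRange pointOk 22 38763 9 = true := by decide +kernel
theorem p2u897 : ∀ k, 30690 ≤ k → k < 38772 → pointOk (k * 22) = true := between_extend pointOk 22 30690 38763 9 (p2u896) p2r897

theorem p2r898 : allRange pointOk 22 38772 9 = true := by decide +kernel
theorem p2u898 : ∀ k, 30690 ≤ k → k < 38781 → pointOk (k * 22) = true := between_extend pointOk 22 30690 38772 9 (p2u897) p2r898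

theorem p2r899 : allRange pointOk 22 38781 9 = true := by decide +kernel
theorem p2u899 : ∀ k, 30690 ≤ k → k < 38790 → pointOk (k * 22) = true := between_extend pointOk 22 30690 38781 9 (p2u898) p2r899

theorem p2r900 : allRange pointOk 22 38790 9 = true := by decide +kernel
theorem p2u900 : ∀ k, 30690 ≤ k → k < 38799 → pointOk (k * 22) = true := between_extend pointOk 22 30690 38790 9 (p2u899) p2r900

theorem p2r901 : allRange pointOk 22 38799 9 = true := by decide +kernel
theorem p2u901 : ∀ k, 30690 ≤ k → k < 38808 → pointOk (k * 22) = true := between_extend pointOk 22 30690 38799 9 (p2u900) p2r901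

theorem p2r902 : allRange pointOk 22 38808 9 = true := by decide +kernel
theorem p2u902 : ∀ k, 30690 ≤ k → k < 38817 → pointOk (k * 22) = true := between_extend pointOk 22 30690 38808 9 (p2u901) p2r902

theorem p2r903 : allRange pointOk 22 38817 9 = true := by decide +kernel
theorem p2u903 : ∀ k, 30690 ≤ k → k < 38826 → pointOk (k * 22) = true := between_extend pointOk 22 30690 38817 9 (p2u902) p2r903

theorem p2r904 : allRange pointOk 22 38826 9 = true := by decide +kernel
theorem p2u904 : ∀ k, 30690 ≤ k → k < 38835 → pointOk (k * 22) = true := between_extend pointOk 22 30690 38826 9 (p2u903) p2r904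

theorem p2r905 : allRange pointOk 22 38835 9 = true := by decide +kernel
theorem p2u905 : ∀ k, 30690 ≤ k → k < 38844 → pointOk (k * 22) = true := between_extend pointOk 22 30690 38835 9 (p2u904) p2r905

theorem p2r906 : allRange pointOk 22 38844 9 = true := by decide +kernel
theorem p2u906 : ∀ k, 30690 ≤ k → k < 38853 → pointOk (k * 22) = true := between_extend pointOk 22 30690 38844 9 (p2u905) p2r906

theorem p2r907 : allRange pointOk 22 38853 9 = true := by decide +kernel
theorem p2u907 : ∀ k, 30690 ≤ k → k < 38862 → pointOk (k * 22) = true := between_extend pointOk 22 30690 38853 9 (p2u906) p2r907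

theorem p2r908 : allRange pointOk 22 38862 9 = true := by decide +kernel
theorem p2u908 : ∀ k, 30690 ≤ k → k < 38871 → pointOk (k * 22) = true := between_extend pointOk 22 30690 38862 9 (p2u907) p2r908

theorem p2r909 : allRange pointOk 22 38871 9 = true := by decide +kernel
theorem p2u909 : ∀ k, 30690 ≤ k → k < 38880 → pointOk (k * 22) = true := between_extend pointOk 22 30690 38871 9 (p2u908) p2r909

theorem p2r910 : allRange pointOk 22 38880 9 = true := by decide +kernel
theorem p2u910 : ∀ k, 30690 ≤ k → k < 38889 → pointOk (k * 22) = true := between_extend pointOk 22 30690 38880 9 (p2u909) p2r910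

theorem p2r911 : allRange pointOk 22 38889 9 = true := by decide +kernel
theorem p2u911 : ∀ k, 30690 ≤ k → k < 38898 → pointOk (k * 22) = true := between_extend pointOk 22 30690 38889 9 (p2u910) p2r911

theorem p2r912 : allRange pointOk 22 38898 9 = true := by decide +kernel
theorem p2u912 : ∀ k, 30690 ≤ k → k < 38907 → pointOk (k * 22) = true := between_extend pointOk 22 30690 38898 9 (p2u911) p2r912

theorem p2r913 : allRange pointOk 22 38907 9 = true := by decide +kernel
theorem p2u913 : ∀ k, 30690 ≤ k → k < 38916 → pointOk (k * 22) = true := between_extend pointOk 22 30690 38907 9 (p2u912) p2r913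

theorem p2r914 : allRange pointOk 22 38916 9 = true := by decide +kernel
theorem p2u914 : ∀ k, 30690 ≤ k → k < 38925 → pointOk (k * 22) = true := between_extend pointOk 22 30690 38916 9 (p2u913) p2r914

theorem p2r915 : allRange pointOk 22 38925 9 = true := by decide +kernel
theorem p2u915 : ∀ k, 30690 ≤ k → k < 38934 → pointOk (k * 22) = true := between_extend pointOk 22 30690 38925 9 (p2u914) p2r915

theorem p2r916 : allRange pointOk 22 38934 9 = true := by decide +kernel
theorem p2u916 : ∀ k, 30690 ≤ k → k < 38943 → pointOk (k * 22) = true := between_extend pointOk 22 30690 38934 9 (p2u915) p2r916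

theorem p2r917 : allRange pointOk 22 38943 9 = true := by decide +kernel
theorem p2u917 : ∀ k, 30690 ≤ k → k < 38952 → pointOk (k * 22) = true := between_extend pointOk 22 30690 38943 9 (p2u916) p2r917

theorem p2r918 : allRange pointOk 22 38952 9 = true := by decide +kernel
theorem p2u918 : ∀ k, 30690 ≤ k → k < 38961 → pointOk (k * 22) = true := between_extend pointOk 22 30690 38952 9 (p2u917) p2r918

theorem p2r919 : allRange pointOk 22 38961 9 = true := by decide +kernel
theorem p2u919 : ∀ k, 30690 ≤ k → k < 38970 → pointOk (k * 22) = true := between_extend pointOk 22 30690 38961 9 (p2u918) p2r919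

theorem p2r920 : allRange pointOk 22 38970 9 = true := by decide +kernel
theorem p2u920 : ∀ k, 30690 ≤ k → k < 38979 → pointOk (k * 22) = true := between_extend pointOk 22 30690 38970 9 (p2u919) p2r920

theorem p2r921 : allRange pointOk 22 38979 9 = true := by decide +kernel
theorem p2u921 : ∀ k, 30690 ≤ k → k < 38988 → pointOk (k * 22) = true := between_extend pointOk 22 30690 38979 9 (p2u920) p2r921

theorem p2r922 : allRange pointOk 22 38988 9 = true := by decide +kernel
theorem p2u922 : ∀ k, 30690 ≤ k → k < 38997 → pointOk (k * 22) = true := between_extend pointOk 22 30690 38988 9 (p2u921) p2r922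

theorem p2r923 : allRange pointOk 22 38997 9 = true := by decide +kernel
theorem p2u923 : ∀ k, 30690 ≤ k → k < 39006 → pointOk (k * 22) = true := between_extend pointOk 22 30690 38997 9 (p2u922) p2r923

theorem p2r924 : allRange pointOk 22 39006 9 = true := by decide +kernel
theorem p2u924 : ∀ k, 30690 ≤ k → k < 39015 → pointOk (k * 22) = true := between_extend pointOk 22 30690 39006 9 (p2u923) p2r924

theorem p2r925 : allRange pointOk 22 39015 9 = true := by decide +kernel
theorem p2u925 : ∀ k, 30690 ≤ k → k < 39024 → pointOk (k * 22) = true := between_extend pointOk 22 30690 39015 9 (p2u924) p2r925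

theorem p2r926 : allRange pointOk 22 39024 9 = true := by decide +kernel
theorem p2u926 : ∀ k, 30690 ≤ k → k < 39033 → pointOk (k * 22) = true := between_extend pointOk 22 30690 39024 9 (p2u925) p2r926

theorem p2r927 : allRange pointOk 22 39033 9 = true := by decide +kernel
theorem p2u927 : ∀ k, 30690 ≤ k → k < 39042 → pointOk (k * 22) = true := between_extend pointOk 22 30690 39033 9 (p2u926) p2r927

theorem p2r928 : allRange pointOk 22 39042 9 = true := by decide +kernel
theorem p2u928 : ∀ k, 30690 ≤ k → k < 39051 → pointOk (k * 22) = true := between_extend pointOk 22 30690 39042 9 (p2u927) p2r928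

theorem p2r929 : allRange pointOk 22 39051 9 = true := by decide +kernel
theorem p2u929 : ∀ k, 30690 ≤ k → k < 39060 → pointOk (k * 22) = true := between_extend pointOk 22 30690 39051 9 (p2u928) p2r929

theorem p2r930 : allRange pointOk 22 39060 9 = true := by decide +kernel
theorem p2u930 : ∀ k, 30690 ≤ k → k < 39069 → pointOk (k * 22) = true := between_extend pointOk 22 30690 39060 9 (p2u929) p2r930

theorem p2r931 : allRange pointOk 22 39069 9 = true := by decide +kernel
theorem p2u931 : ∀ k, 30690 ≤ k → k < 39078 → pointOk (k * 22) = true := between_extend pointOk 22 30690 39069 9 (p2u930) p2r931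

theorem p2r932 : allRange pointOk 22 39078 9 = true := by decide +kernel
theorem p2u932 : ∀ k, 30690 ≤ k → k < 39087 → pointOk (k * 22) = true := between_extend pointOk 22 30690 39078 9 (p2u931) p2r932

theorem p2r933 : allRange pointOk 22 39087 9 = true := by decide +kernel
theorem p2u933 : ∀ k, 30690 ≤ k → k < 39096 → pointOk (k * 22) = true := between_extend pointOk 22 30690 39087 9 (p2u932) p2r933

theorem p2r934 : allRange pointOk 22 39096 9 = true := by decide +kernel
theorem p2u934 : ∀ k, 30690 ≤ k → k < 39105 → pointOk (k * 22) = true := between_extend pointOk 22 30690 39096 9 (p2u933) p2r934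

theorem p2r935 : allRange pointOk 22 39105 9 = true := by decide +kernel
theorem p2u935 : ∀ k, 30690 ≤ k → k < 39114 → pointOk (k * 22) = true := between_extend pointOk 22 30690 39105 9 (p2u934) p2r935

theorem p2r936 : allRange pointOk 22 39114 9 = true := by decide +kernel
theorem p2u936 : ∀ k, 30690 ≤ k → k < 39123 → pointOk (k * 22) = true := between_extend pointOk 22 30690 39114 9 (p2u935) p2r936

theorem p2r937 : allRange pointOk 22 39123 9 = true := by decide +kernel
theorem p2u937 : ∀ k, 30690 ≤ k → k < 39132 → pointOk (k * 22) = true := between_extend pointOk 22 30690 39123 9 (p2u936) p2r937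

theorem p2r938 : allRange pointOk 22 39132 9 = true := by decide +kernel
theorem p2u938 : ∀ k, 30690 ≤ k → k < 39141 → pointOk (k * 22) = true := between_extend pointOk 22 30690 39132 9 (p2u937) p2r938

theorem p2r939 : allRange pointOk 22 39141 9 = true := by decide +kernel
theorem p2u939 : ∀ k, 30690 ≤ k → k < 39150 → pointOk (k * 22) = true := between_extend pointOk 22 30690 39141 9 (p2u938) p2r939

theorem p2r940 : allRange pointOk 22 39150 9 = true := by decide +kernel
theorem p2u940 : ∀ k, 30690 ≤ k → k < 39159 → pointOk (k * 22) = true := between_extend pointOk 22 30690 39150 9 (p2u939) p2r940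

theorem p2r941 : allRange pointOk 22 39159 9 = true := by decide +kernel
theorem p2u941 : ∀ k, 30690 ≤ k → k < 39168 → pointOk (k * 22) = true := between_extend pointOk 22 30690 39159 9 (p2u940) p2r941

theorem p2r942 : allRange pointOk 22 39168 9 = true := by decide +kernel
theorem p2u942 : ∀ k, 30690 ≤ k → k < 39177 → pointOk (k * 22) = true := between_extend pointOk 22 30690 39168 9 (p2u941) p2r942

theorem p2r943 : allRange pointOk 22 39177 9 = true := by decide +kernel
theorem p2u943 : ∀ k, 30690 ≤ k → k < 39186 → pointOk (k * 22) = true := between_extend pointOk 22 30690 39177 9 (p2u942) p2r943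

theorem p2r944 : allRange pointOk 22 39186 9 = true := by decide +kernel
theorem p2u944 : ∀ k, 30690 ≤ k → k < 39195 → pointOk (k * 22) = true := between_extend pointOk 22 30690 39186 9 (p2u943) p2r944

theorem p2r945 : allRange pointOk 22 39195 9 = true := by decide +kernel
theorem p2u945 : ∀ k, 30690 ≤ k → k < 39204 → pointOk (k * 22) = true := between_extend pointOk 22 30690 39195 9 (p2u944) p2r945

theorem p2r946 : allRange pointOk 22 39204 9 = true := by decide +kernel
theorem p2u946 : ∀ k, 30690 ≤ k → k < 39213 → pointOk (k * 22) = true := between_extend pointOk 22 30690 39204 9 (p2u945) p2r946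

theorem p2r947 : allRange pointOk 22 39213 9 = true := by decide +kernel
theorem p2u947 : ∀ k, 30690 ≤ k → k < 39222 → pointOk (k * 22) = true := between_extend pointOk 22 30690 39213 9 (p2u946) p2r947

theorem p2r948 : allRange pointOk 22 39222 9 = true := by decide +kernel
theorem p2u948 : ∀ k, 30690 ≤ k → k < 39231 → pointOk (k * 22) = true := between_extend pointOk 22 30690 39222 9 (p2u947) p2r948

theorem p2r949 : allRange pointOk 22 39231 9 = true := by decide +kernel
theorem p2u949 : ∀ k, 30690 ≤ k → k < 39240 → pointOk (k * 22) = true := between_extend pointOk 22 30690 39231 9 (p2u948) p2r949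

theorem p2r950 : allRange pointOk 22 39240 9 = true := by decide +kernel
theorem p2u950 : ∀ k, 30690 ≤ k → k < 39249 → pointOk (k * 22) = true := between_extend pointOk 22 30690 39240 9 (p2u949) p2r950

theorem p2r951 : allRange pointOk 22 39249 9 = true := by decide +kernel
theorem p2u951 : ∀ k, 30690 ≤ k → k < 39258 → pointOk (k * 22) = true := between_extend pointOk 22 30690 39249 9 (p2u950) p2r951

theorem p2r952 : allRange pointOk 22 39258 9 = true := by decide +kernel
theorem p2u952 : ∀ k, 30690 ≤ k → k < 39267 → pointOk (k * 22) = true := between_extend pointOk 22 30690 39258 9 (p2u951) p2r952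

theorem p2r953 : allRange pointOk 22 39267 9 = true := by decide +kernel
theorem p2u953 : ∀ k, 30690 ≤ k → k < 39276 → pointOk (k * 22) = true := between_extend pointOk 22 30690 39267 9 (p2u952) p2r953

theorem p2r954 : allRange pointOk 22 39276 9 = true := by decide +kernel
theorem p2u954 : ∀ k, 30690 ≤ k → k < 39285 → pointOk (k * 22) = true := between_extend pointOk 22 30690 39276 9 (p2u953) p2r954

theorem p2r955 : allRange pointOk 22 39285 9 = true := by decide +kernel
theorem p2u955 : ∀ k, 30690 ≤ k → k < 39294 → pointOk (k * 22) = true := between_extend pointOk 22 30690 39285 9 (p2u954) p2r955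

theorem p2r956 : allRange pointOk 22 39294 9 = true := by decide +kernel
theorem p2u956 : ∀ k, 30690 ≤ k → k < 39303 → pointOk (k * 22) = true := between_extend pointOk 22 30690 39294 9 (p2u955) p2r956

theorem p2r957 : allRange pointOk 22 39303 9 = true := by decide +kernel
theorem p2u957 : ∀ k, 30690 ≤ k → k < 39312 → pointOk (k * 22) = true := between_extend pointOk 22 30690 39303 9 (p2u956) p2r957

theorem p2r958 : allRange pointOk 22 39312 9 = true := by decide +kernel
theorem p2u958 : ∀ k, 30690 ≤ k → k < 39321 → pointOk (k * 22) = true := between_extend pointOk 22 30690 39312 9 (p2u957) p2r958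

theorem p2r959 : allRange pointOk 22 39321 9 = true := by decide +kernel
theorem p2u959 : ∀ k, 30690 ≤ k → k < 39330 → pointOk (k * 22) = true := between_extend pointOk 22 30690 39321 9 (p2u958) p2r959

theorem p2r960 : allRange pointOk 22 39330 9 = true := by decide +kernel
theorem p2u960 : ∀ k, 30690 ≤ k → k < 39339 → pointOk (k * 22) = true := between_extend pointOk 22 30690 39330 9 (p2u959) p2r960

theorem p2r961 : allRange pointOk 22 39339 9 = true := by decide +kernel
theorem p2u961 : ∀ k, 30690 ≤ k → k < 39348 → pointOk (k * 22) = true := between_extend pointOk 22 30690 39339 9 (p2u960) p2r961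

theorem p2r962 : allRange pointOk 22 39348 9 = true := by decide +kernel
theorem p2u962 : ∀ k, 30690 ≤ k → k < 39357 → pointOk (k * 22) = true := between_extend pointOk 22 30690 39348 9 (p2u961) p2r962

theorem p2r963 : allRange pointOk 22 39357 9 = true := by decide +kernel
theorem p2u963 : ∀ k, 30690 ≤ k → k < 39366 → pointOk (k * 22) = true := between_extend pointOk 22 30690 39357 9 (p2u962) p2r963

theorem p2r964 : allRange pointOk 22 39366 9 = true := by decide +kernel
theorem p2u964 : ∀ k, 30690 ≤ k → k < 39375 → pointOk (k * 22) = true := between_extend pointOk 22 30690 39366 9 (p2u963) p2r964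

theorem p2r965 : allRange pointOk 22 39375 9 = true := by decide +kernel
theorem p2u965 : ∀ k, 30690 ≤ k → k < 39384 → pointOk (k * 22) = true := between_extend pointOk 22 30690 39375 9 (p2u964) p2r965

theorem p2r966 : allRange pointOk 22 39384 9 = true := by decide +kernel
theorem p2u966 : ∀ k, 30690 ≤ k → k < 39393 → pointOk (k * 22) = true := between_extend pointOk 22 30690 39384 9 (p2u965) p2r966

theorem p2r967 : allRange pointOk 22 39393 9 = true := by decide +kernel
theorem p2u967 : ∀ k, 30690 ≤ k → k < 39402 → pointOk (k * 22) = true := between_extend pointOk 22 30690 39393 9 (p2u966) p2r967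

theorem p2r968 : allRange pointOk 22 39402 9 = true := by decide +kernel
theorem p2u968 : ∀ k, 30690 ≤ k → k < 39411 → pointOk (k * 22) = true := between_extend pointOk 22 30690 39402 9 (p2u967) p2r968

theorem p2r969 : allRange pointOk 22 39411 9 = true := by decide +kernel
theorem p2u969 : ∀ k, 30690 ≤ k → k < 39420 → pointOk (k * 22) = true := between_extend pointOk 22 30690 39411 9 (p2u968) p2r969

theorem p2r970 : allRange pointOk 22 39420 9 = true := by decide +kernel
theorem p2u970 : ∀ k, 30690 ≤ k → k < 39429 → pointOk (k * 22) = true := between_extend pointOk 22 30690 39420 9 (p2u969) p2r970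

theorem p2r971 : allRange pointOk 22 39429 9 = true := by decide +kernel
theorem p2u971 : ∀ k, 30690 ≤ k → k < 39438 → pointOk (k * 22) = true := between_extend pointOk 22 30690 39429 9 (p2u970) p2r971

theorem p2r972 : allRange pointOk 22 39438 9 = true := by decide +kernel
theorem p2u972 : ∀ k, 30690 ≤ k → k < 39447 → pointOk (k * 22) = true := between_extend pointOk 22 30690 39438 9 (p2u971) p2r972

theorem p2r973 : allRange pointOk 22 39447 9 = true := by decide +kernel
theorem p2u973 : ∀ k, 30690 ≤ k → k < 39456 → pointOk (k * 22) = true := between_extend pointOk 22 30690 39447 9 (p2u972) p2r973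

theorem p2r974 : allRange pointOk 22 39456 9 = true := by decide +kernel
theorem p2u974 : ∀ k, 30690 ≤ k → k < 39465 → pointOk (k * 22) = true := between_extend pointOk 22 30690 39456 9 (p2u973) p2r974

theorem p2r975 : allRange pointOk 22 39465 9 = true := by decide +kernel
theorem p2u975 : ∀ k, 30690 ≤ k → k < 39474 → pointOk (k * 22) = true := between_extend pointOk 22 30690 39465 9 (p2u974) p2r975

theorem p2r976 : allRange pointOk 22 39474 9 = true := by decide +kernel
theorem p2u976 : ∀ k, 30690 ≤ k → k < 39483 → pointOk (k * 22) = true := between_extend pointOk 22 30690 39474 9 (p2u975) p2r976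

theorem p2r977 : allRange pointOk 22 39483 9 = true := by decide +kernel
theorem p2u977 : ∀ k, 30690 ≤ k → k < 39492 → pointOk (k * 22) = true := between_extend pointOk 22 30690 39483 9 (p2u976) p2r977

theorem p2r978 : allRange pointOk 22 39492 9 = true := by decide +kernel
theorem p2u978 : ∀ k, 30690 ≤ k → k < 39501 → pointOk (k * 22) = true := between_extend pointOk 22 30690 39492 9 (p2u977) p2r978

theorem p2r979 : allRange pointOk 22 39501 9 = true := by decide +kernel
theorem p2u979 : ∀ k, 30690 ≤ k → k < 39510 → pointOk (k * 22) = true := between_extend pointOk 22 30690 39501 9 (p2u978) p2r979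

theorem p2r980 : allRange pointOk 22 39510 9 = true := by decide +kernel
theorem p2u980 : ∀ k, 30690 ≤ k → k < 39519 → pointOk (k * 22) = true := between_extend pointOk 22 30690 39510 9 (p2u979) p2r980

theorem p2r981 : allRange pointOk 22 39519 9 = true := by decide +kernel
theorem p2u981 : ∀ k, 30690 ≤ k → k < 39528 → pointOk (k * 22) = true := between_extend pointOk 22 30690 39519 9 (p2u980) p2r981

theorem p2r982 : allRange pointOk 22 39528 9 = true := by decide +kernel
theorem p2u982 : ∀ k, 30690 ≤ k → k < 39537 → pointOk (k * 22) = true := between_extend pointOk 22 30690 39528 9 (p2u981) p2r982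

theorem p2r983 : allRange pointOk 22 39537 9 = true := by decide +kernel
theorem p2u983 : ∀ k, 30690 ≤ k → k < 39546 → pointOk (k * 22) = true := between_extend pointOk 22 30690 39537 9 (p2u982) p2r983

theorem p2r984 : allRange pointOk 22 39546 9 = true := by decide +kernel
theorem p2u984 : ∀ k, 30690 ≤ k → k < 39555 → pointOk (k * 22) = true := between_extend pointOk 22 30690 39546 9 (p2u983) p2r984

theorem p2r985 : allRange pointOk 22 39555 9 = true := by decide +kernel
theorem p2u985 : ∀ k, 30690 ≤ k → k < 39564 → pointOk (k * 22) = true := between_extend pointOk 22 30690 39555 9 (p2u984) p2r985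

theorem p2r986 : allRange pointOk 22 39564 9 = true := by decide +kernel
theorem p2u986 : ∀ k, 30690 ≤ k → k < 39573 → pointOk (k * 22) = true := between_extend pointOk 22 30690 39564 9 (p2u985) p2r986

theorem p2r987 : allRange pointOk 22 39573 9 = true := by decide +kernel
theorem p2u987 : ∀ k, 30690 ≤ k → k < 39582 → pointOk (k * 22) = true := between_extend pointOk 22 30690 39573 9 (p2u986) p2r987

theorem p2r988 : allRange pointOk 22 39582 9 = true := by decide +kernel
theorem p2u988 : ∀ k, 30690 ≤ k → k < 39591 → pointOk (k * 22) = true := between_extend pointOk 22 30690 39582 9 (p2u987) p2r988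

theorem p2r989 : allRange pointOk 22 39591 9 = true := by decide +kernel
theorem p2u989 : ∀ k, 30690 ≤ k → k < 39600 → pointOk (k * 22) = true := between_extend pointOk 22 30690 39591 9 (p2u988) p2r989

theorem p2r990 : allRange pointOk 22 39600 9 = true := by decide +kernel
theorem p2u990 : ∀ k, 30690 ≤ k → k < 39609 → pointOk (k * 22) = true := between_extend pointOk 22 30690 39600 9 (p2u989) p2r990

theorem p2r991 : allRange pointOk 22 39609 9 = true := by decide +kernel
theorem p2u991 : ∀ k, 30690 ≤ k → k < 39618 → pointOk (k * 22) = true := between_extend pointOk 22 30690 39609 9 (p2u990) p2r991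

theorem p2r992 : allRange pointOk 22 39618 9 = true := by decide +kernel
theorem p2u992 : ∀ k, 30690 ≤ k → k < 39627 → pointOk (k * 22) = true := between_extend pointOk 22 30690 39618 9 (p2u991) p2r992

theorem p2r993 : allRange pointOk 22 39627 9 = true := by decide +kernel
theorem p2u993 : ∀ k, 30690 ≤ k → k < 39636 → pointOk (k * 22) = true := between_extend pointOk 22 30690 39627 9 (p2u992) p2r993

theorem p2r994 : allRange pointOk 22 39636 9 = true := by decide +kernel
theorem p2u994 : ∀ k, 30690 ≤ k → k < 39645 → pointOk (k * 22) = true := between_extend pointOk 22 30690 39636 9 (p2u993) p2r994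

theorem p2r995 : allRange pointOk 22 39645 9 = true := by decide +kernel
theorem p2u995 : ∀ k, 30690 ≤ k → k < 39654 → pointOk (k * 22) = true := between_extend pointOk 22 30690 39645 9 (p2u994) p2r995

theorem p2r996 : allRange pointOk 22 39654 9 = true := by decide +kernel
theorem p2u996 : ∀ k, 30690 ≤ k → k < 39663 → pointOk (k * 22) = true := between_extend pointOk 22 30690 39654 9 (p2u995) p2r996

theorem p2r997 : allRange pointOk 22 39663 9 = true := by decide +kernel
theorem p2u997 : ∀ k, 30690 ≤ k → k < 39672 → pointOk (k * 22) = true := between_extend pointOk 22 30690 39663 9 (p2u996) p2r997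

theorem p2r998 : allRange pointOk 22 39672 9 = true := by decide +kernel
theorem p2u998 : ∀ k, 30690 ≤ k → k < 39681 → pointOk (k * 22) = true := between_extend pointOk 22 30690 39672 9 (p2u997) p2r998

theorem p2r999 : allRange pointOk 22 39681 9 = true := by decide +kernel
theorem p2u999 : ∀ k, 30690 ≤ k → k < 39690 → pointOk (k * 22) = true := between_extend pointOk 22 30690 39681 9 (p2u998) p2r999

theorem p2r1000 : allRange pointOk 22 39690 9 = true := by decide +kernel
theorem p2u1000 : ∀ k, 30690 ≤ k → k < 39699 → pointOk (k * 22) = true := between_extend pointOk 22 30690 39690 9 (p2u999) p2r1000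

theorem p2r1001 : allRange pointOk 22 39699 9 = true := by decide +kernel
theorem p2u1001 : ∀ k, 30690 ≤ k → k < 39708 → pointOk (k * 22) = true := between_extend pointOk 22 30690 39699 9 (p2u1000) p2r1001

theorem p2r1002 : allRange pointOk 22 39708 9 = true := by decide +kernel
theorem p2u1002 : ∀ k, 30690 ≤ k → k < 39717 → pointOk (k * 22) = true := between_extend pointOk 22 30690 39708 9 (p2u1001) p2r1002

theorem p2r1003 : allRange pointOk 22 39717 9 = true := by decide +kernel
theorem p2u1003 : ∀ k, 30690 ≤ k → k < 39726 → pointOk (k * 22) = true := between_extend pointOk 22 30690 39717 9 (p2u1002) p2r1003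

theorem p2r1004 : allRange pointOk 22 39726 9 = true := by decide +kernel
theorem p2u1004 : ∀ k, 30690 ≤ k → k < 39735 → pointOk (k * 22) = true := between_extend pointOk 22 30690 39726 9 (p2u1003) p2r1004

theorem p2r1005 : allRange pointOk 22 39735 9 = true := by decide +kernel
theorem p2u1005 : ∀ k, 30690 ≤ k → k < 39744 → pointOk (k * 22) = true := between_extend pointOk 22 30690 39735 9 (p2u1004) p2r1005

theorem p2r1006 : allRange pointOk 22 39744 9 = true := by decide +kernel
theorem p2u1006 : ∀ k, 30690 ≤ k → k < 39753 → pointOk (k * 22) = true := between_extend pointOk 22 30690 39744 9 (p2u1005) p2r1006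

theorem p2r1007 : allRange pointOk 22 39753 9 = true := by decide +kernel
theorem p2u1007 : ∀ k, 30690 ≤ k → k < 39762 → pointOk (k * 22) = true := between_extend pointOk 22 30690 39753 9 (p2u1006) p2r1007

theorem p2r1008 : allRange pointOk 22 39762 9 = true := by decide +kernel
theorem p2u1008 : ∀ k, 30690 ≤ k → k < 39771 → pointOk (k * 22) = true := between_extend pointOk 22 30690 39762 9 (p2u1007) p2r1008

theorem p2r1009 : allRange pointOk 22 39771 9 = true := by decide +kernel
theorem p2u1009 : ∀ k, 30690 ≤ k → k < 39780 → pointOk (k * 22) = true := between_extend pointOk 22 30690 39771 9 (p2u1008) p2r1009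

theorem p2r1010 : allRange pointOk 22 39780 9 = true := by decide +kernel
theorem p2u1010 : ∀ k, 30690 ≤ k → k < 39789 → pointOk (k * 22) = true := between_extend pointOk 22 30690 39780 9 (p2u1009) p2r1010

theorem p2r1011 : allRange pointOk 22 39789 9 = true := by decide +kernel
theorem p2u1011 : ∀ k, 30690 ≤ k → k < 39798 → pointOk (k * 22) = true := between_extend pointOk 22 30690 39789 9 (p2u1010) p2r1011

theorem p2r1012 : allRange pointOk 22 39798 9 = true := by decide +kernel
theorem p2u1012 : ∀ k, 30690 ≤ k → k < 39807 → pointOk (k * 22) = true := between_extend pointOk 22 30690 39798 9 (p2u1011) p2r1012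

theorem p2r1013 : allRange pointOk 22 39807 9 = true := by decide +kernel
theorem p2u1013 : ∀ k, 30690 ≤ k → k < 39816 → pointOk (k * 22) = true := between_extend pointOk 22 30690 39807 9 (p2u1012) p2r1013

theorem p2r1014 : allRange pointOk 22 39816 9 = true := by decide +kernel
theorem p2u1014 : ∀ k, 30690 ≤ k → k < 39825 → pointOk (k * 22) = true := between_extend pointOk 22 30690 39816 9 (p2u1013) p2r1014

theorem p2r1015 : allRange pointOk 22 39825 9 = true := by decide +kernel
theorem p2u1015 : ∀ k, 30690 ≤ k → k < 39834 → pointOk (k * 22) = true := between_extend pointOk 22 30690 39825 9 (p2u1014) p2r1015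

theorem p2r1016 : allRange pointOk 22 39834 9 = true := by decide +kernel
theorem p2u1016 : ∀ k, 30690 ≤ k → k < 39843 → pointOk (k * 22) = true := between_extend pointOk 22 30690 39834 9 (p2u1015) p2r1016

theorem p2r1017 : allRange pointOk 22 39843 9 = true := by decide +kernel
theorem p2u1017 : ∀ k, 30690 ≤ k → k < 39852 → pointOk (k * 22) = true := between_extend pointOk 22 30690 39843 9 (p2u1016) p2r1017

theorem p2r1018 : allRange pointOk 22 39852 9 = true := by decide +kernel
theorem p2u1018 : ∀ k, 30690 ≤ k → k < 39861 → pointOk (k * 22) = true := between_extend pointOk 22 30690 39852 9 (p2u1017) p2r1018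

theorem p2r1019 : allRange pointOk 22 39861 9 = true := by decide +kernel
theorem p2u1019 : ∀ k, 30690 ≤ k → k < 39870 → pointOk (k * 22) = true := between_extend pointOk 22 30690 39861 9 (p2u1018) p2r1019

theorem p2r1020 : allRange pointOk 22 39870 9 = true := by decide +kernel
theorem p2u1020 : ∀ k, 30690 ≤ k → k < 39879 → pointOk (k * 22) = true := between_extend pointOk 22 30690 39870 9 (p2u1019) p2r1020

theorem p2r1021 : allRange pointOk 22 39879 9 = true := by decide +kernel
theorem p2u1021 : ∀ k, 30690 ≤ k → k < 39888 → pointOk (k * 22) = true := between_extend pointOk 22 30690 39879 9 (p2u1020) p2r1021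

theorem p2r1022 : allRange pointOk 22 39888 9 = true := by decide +kernel
theorem p2u1022 : ∀ k, 30690 ≤ k → k < 39897 → pointOk (k * 22) = true := between_extend pointOk 22 30690 39888 9 (p2u1021) p2r1022

theorem p2r1023 : allRange pointOk 22 39897 9 = true := by decide +kernel
theorem p2u1023 : ∀ k, 30690 ≤ k → k < 39906 → pointOk (k * 22) = true := between_extend pointOk 22 30690 39897 9 (p2u1022) p2r1023

theorem p2r1024 : allRange pointOk 22 39906 9 = true := by decide +kernel
theorem p2u1024 : ∀ k, 30690 ≤ k → k < 39915 → pointOk (k * 22) = true := between_extend pointOk 22 30690 39906 9 (p2u1023) p2r1024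

theorem p2r1025 : allRange pointOk 22 39915 9 = true := by decide +kernel
theorem p2u1025 : ∀ k, 30690 ≤ k → k < 39924 → pointOk (k * 22) = true := between_extend pointOk 22 30690 39915 9 (p2u1024) p2r1025

theorem p2r1026 : allRange pointOk 22 39924 9 = true := by decide +kernel
theorem p2u1026 : ∀ k, 30690 ≤ k → k < 39933 → pointOk (k * 22) = true := between_extend pointOk 22 30690 39924 9 (p2u1025) p2r1026

theorem p2r1027 : allRange pointOk 22 39933 9 = true := by decide +kernel
theorem p2u1027 : ∀ k, 30690 ≤ k → k < 39942 → pointOk (k * 22) = true := between_extend pointOk 22 30690 39933 9 (p2u1026) p2r1027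

theorem p2r1028 : allRange pointOk 22 39942 9 = true := by decide +kernel
theorem p2u1028 : ∀ k, 30690 ≤ k → k < 39951 → pointOk (k * 22) = true := between_extend pointOk 22 30690 39942 9 (p2u1027) p2r1028

theorem p2r1029 : allRange pointOk 22 39951 9 = true := by decide +kernel
theorem p2u1029 : ∀ k, 30690 ≤ k → k < 39960 → pointOk (k * 22) = true := between_extend pointOk 22 30690 39951 9 (p2u1028) p2r1029

theorem p2r1030 : allRange pointOk 22 39960 9 = true := by decide +kernel
theorem p2u1030 : ∀ k, 30690 ≤ k → k < 39969 → pointOk (k * 22) = true := between_extend pointOk 22 30690 39960 9 (p2u1029) p2r1030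

theorem p2r1031 : allRange pointOk 22 39969 9 = true := by decide +kernel
theorem p2u1031 : ∀ k, 30690 ≤ k → k < 39978 → pointOk (k * 22) = true := between_extend pointOk 22 30690 39969 9 (p2u1030) p2r1031

theorem p2r1032 : allRange pointOk 22 39978 9 = true := by decide +kernel
theorem p2u1032 : ∀ k, 30690 ≤ k → k < 39987 → pointOk (k * 22) = true := between_extend pointOk 22 30690 39978 9 (p2u1031) p2r1032

theorem p2r1033 : allRange pointOk 22 39987 9 = true := by decide +kernel
theorem p2u1033 : ∀ k, 30690 ≤ k → k < 39996 → pointOk (k * 22) = true := between_extend pointOk 22 30690 39987 9 (p2u1032) p2r1033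

theorem p2r1034 : allRange pointOk 22 39996 9 = true := by decide +kernel
theorem p2u1034 : ∀ k, 30690 ≤ k → k < 40005 → pointOk (k * 22) = true := between_extend pointOk 22 30690 39996 9 (p2u1033) p2r1034

theorem p2r1035 : allRange pointOk 22 40005 9 = true := by decide +kernel
theorem p2u1035 : ∀ k, 30690 ≤ k → k < 40014 → pointOk (k * 22) = true := between_extend pointOk 22 30690 40005 9 (p2u1034) p2r1035

theorem p2r1036 : allRange pointOk 22 40014 9 = true := by decide +kernel
theorem p2u1036 : ∀ k, 30690 ≤ k → k < 40023 → pointOk (k * 22) = true := between_extend pointOk 22 30690 40014 9 (p2u1035) p2r1036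

theorem p2r1037 : allRange pointOk 22 40023 9 = true := by decide +kernel
theorem p2u1037 : ∀ k, 30690 ≤ k → k < 40032 → pointOk (k * 22) = true := between_extend pointOk 22 30690 40023 9 (p2u1036) p2r1037

theorem p2r1038 : allRange pointOk 22 40032 9 = true := by decide +kernel
theorem p2u1038 : ∀ k, 30690 ≤ k → k < 40041 → pointOk (k * 22) = true := between_extend pointOk 22 30690 40032 9 (p2u1037) p2r1038

theorem p2r1039 : allRange pointOk 22 40041 9 = true := by decide +kernel
theorem p2u1039 : ∀ k, 30690 ≤ k → k < 40050 → pointOk (k * 22) = true := between_extend pointOk 22 30690 40041 9 (p2u1038) p2r1039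

theorem p2r1040 : allRange pointOk 22 40050 9 = true := by decide +kernel
theorem p2u1040 : ∀ k, 30690 ≤ k → k < 40059 → pointOk (k * 22) = true := between_extend pointOk 22 30690 40050 9 (p2u1039) p2r1040

theorem p2r1041 : allRange pointOk 22 40059 9 = true := by decide +kernel
theorem p2u1041 : ∀ k, 30690 ≤ k → k < 40068 → pointOk (k * 22) = true := between_extend pointOk 22 30690 40059 9 (p2u1040) p2r1041

theorem p2r1042 : allRange pointOk 22 40068 9 = true := by decide +kernel
theorem p2u1042 : ∀ k, 30690 ≤ k → k < 40077 → pointOk (k * 22) = true := between_extend pointOk 22 30690 40068 9 (p2u1041) p2r1042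

theorem p2r1043 : allRange pointOk 22 40077 9 = true := by decide +kernel
theorem p2u1043 : ∀ k, 30690 ≤ k → k < 40086 → pointOk (k * 22) = true := between_extend pointOk 22 30690 40077 9 (p2u1042) p2r1043

theorem p2r1044 : allRange pointOk 22 40086 9 = true := by decide +kernel
theorem p2u1044 : ∀ k, 30690 ≤ k → k < 40095 → pointOk (k * 22) = true := between_extend pointOk 22 30690 40086 9 (p2u1043) p2r1044

theorem p2r1045 : allRange pointOk 22 40095 9 = true := by decide +kernel
theorem p2u1045 : ∀ k, 30690 ≤ k → k < 40104 → pointOk (k * 22) = true := between_extend pointOk 22 30690 40095 9 (p2u1044) p2r1045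

theorem p2r1046 : allRange pointOk 22 40104 9 = true := by decide +kernel
theorem p2u1046 : ∀ k, 30690 ≤ k → k < 40113 → pointOk (k * 22) = true := between_extend pointOk 22 30690 40104 9 (p2u1045) p2r1046

theorem p2r1047 : allRange pointOk 22 40113 9 = true := by decide +kernel
theorem p2u1047 : ∀ k, 30690 ≤ k → k < 40122 → pointOk (k * 22) = true := between_extend pointOk 22 30690 40113 9 (p2u1046) p2r1047

theorem p2r1048 : allRange pointOk 22 40122 9 = true := by decide +kernel
theorem p2u1048 : ∀ k, 30690 ≤ k → k < 40131 → pointOk (k * 22) = true := between_extend pointOk 22 30690 40122 9 (p2u1047) p2r1048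

theorem p2r1049 : allRange pointOk 22 40131 9 = true := by decide +kernel
theorem p2u1049 : ∀ k, 30690 ≤ k → k < 40140 → pointOk (k * 22) = true := between_extend pointOk 22 30690 40131 9 (p2u1048) p2r1049

theorem p2r1050 : allRange pointOk 22 40140 9 = true := by decide +kernel
theorem p2u1050 : ∀ k, 30690 ≤ k → k < 40149 → pointOk (k * 22) = true := between_extend pointOk 22 30690 40140 9 (p2u1049) p2r1050

theorem p2r1051 : allRange pointOk 22 40149 9 = true := by decide +kernel
theorem p2u1051 : ∀ k, 30690 ≤ k → k < 40158 → pointOk (k * 22) = true := between_extend pointOk 22 30690 40149 9 (p2u1050) p2r1051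

theorem p2r1052 : allRange pointOk 22 40158 9 = true := by decide +kernel
theorem p2u1052 : ∀ k, 30690 ≤ k → k < 40167 → pointOk (k * 22) = true := between_extend pointOk 22 30690 40158 9 (p2u1051) p2r1052

theorem p2r1053 : allRange pointOk 22 40167 9 = true := by decide +kernel
theorem p2u1053 : ∀ k, 30690 ≤ k → k < 40176 → pointOk (k * 22) = true := between_extend pointOk 22 30690 40167 9 (p2u1052) p2r1053

theorem p2r1054 : allRange pointOk 22 40176 9 = true := by decide +kernel
theorem p2u1054 : ∀ k, 30690 ≤ k → k < 40185 → pointOk (k * 22) = true := between_extend pointOk 22 30690 40176 9 (p2u1053) p2r1054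

theorem p2r1055 : allRange pointOk 22 40185 9 = true := by decide +kernel
theorem p2u1055 : ∀ k, 30690 ≤ k → k < 40194 → pointOk (k * 22) = true := between_extend pointOk 22 30690 40185 9 (p2u1054) p2r1055

theorem p2r1056 : allRange pointOk 22 40194 9 = true := by decide +kernel
theorem p2u1056 : ∀ k, 30690 ≤ k → k < 40203 → pointOk (k * 22) = true := between_extend pointOk 22 30690 40194 9 (p2u1055) p2r1056

theorem p2r1057 : allRange pointOk 22 40203 9 = true := by decide +kernel
theorem p2u1057 : ∀ k, 30690 ≤ k → k < 40212 → pointOk (k * 22) = true := between_extend pointOk 22 30690 40203 9 (p2u1056) p2r1057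

theorem p2r1058 : allRange pointOk 22 40212 9 = true := by decide +kernel
theorem p2u1058 : ∀ k, 30690 ≤ k → k < 40221 → pointOk (k * 22) = true := between_extend pointOk 22 30690 40212 9 (p2u1057) p2r1058

theorem p2r1059 : allRange pointOk 22 40221 9 = true := by decide +kernel
theorem p2u1059 : ∀ k, 30690 ≤ k → k < 40230 → pointOk (k * 22) = true := between_extend pointOk 22 30690 40221 9 (p2u1058) p2r1059

theorem p2r1060 : allRange pointOk 22 40230 9 = true := by decide +kernel
theorem p2u1060 : ∀ k, 30690 ≤ k → k < 40239 → pointOk (k * 22) = true := between_extend pointOk 22 30690 40230 9 (p2u1059) p2r1060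

theorem p2r1061 : allRange pointOk 22 40239 9 = true := by decide +kernel
theorem p2u1061 : ∀ k, 30690 ≤ k → k < 40248 → pointOk (k * 22) = true := between_extend pointOk 22 30690 40239 9 (p2u1060) p2r1061

theorem p2r1062 : allRange pointOk 22 40248 9 = true := by decide +kernel
theorem p2u1062 : ∀ k, 30690 ≤ k → k < 40257 → pointOk (k * 22) = true := between_extend pointOk 22 30690 40248 9 (p2u1061) p2r1062

theorem p2r1063 : allRange pointOk 22 40257 9 = true := by decide +kernel
theorem p2u1063 : ∀ k, 30690 ≤ k → k < 40266 → pointOk (k * 22) = true := between_extend pointOk 22 30690 40257 9 (p2u1062) p2r1063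

theorem p2r1064 : allRange pointOk 22 40266 9 = true := by decide +kernel
theorem p2u1064 : ∀ k, 30690 ≤ k → k < 40275 → pointOk (k * 22) = true := between_extend pointOk 22 30690 40266 9 (p2u1063) p2r1064

theorem p2r1065 : allRange pointOk 22 40275 9 = true := by decide +kernel
theorem p2u1065 : ∀ k, 30690 ≤ k → k < 40284 → pointOk (k * 22) = true := between_extend pointOk 22 30690 40275 9 (p2u1064) p2r1065

theorem p2r1066 : allRange pointOk 22 40284 9 = true := by decide +kernel
theorem p2u1066 : ∀ k, 30690 ≤ k → k < 40293 → pointOk (k * 22) = true := between_extend pointOk 22 30690 40284 9 (p2u1065) p2r1066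

theorem p2r1067 : allRange pointOk 22 40293 9 = true := by decide +kernel
theorem p2u1067 : ∀ k, 30690 ≤ k → k < 40302 → pointOk (k * 22) = true := between_extend pointOk 22 30690 40293 9 (p2u1066) p2r1067

theorem p2r1068 : allRange pointOk 22 40302 9 = true := by decide +kernel
theorem p2u1068 : ∀ k, 30690 ≤ k → k < 40311 → pointOk (k * 22) = true := between_extend pointOk 22 30690 40302 9 (p2u1067) p2r1068

theorem p2r1069 : allRange pointOk 22 40311 9 = true := by decide +kernel
theorem p2u1069 : ∀ k, 30690 ≤ k → k < 40320 → pointOk (k * 22) = true := between_extend pointOk 22 30690 40311 9 (p2u1068) p2r1069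

theorem p2r1070 : allRange pointOk 22 40320 9 = true := by decide +kernel
theorem p2u1070 : ∀ k, 30690 ≤ k → k < 40329 → pointOk (k * 22) = true := between_extend pointOk 22 30690 40320 9 (p2u1069) p2r1070

theorem p2r1071 : allRange pointOk 22 40329 9 = true := by decide +kernel
theorem p2u1071 : ∀ k, 30690 ≤ k → k < 40338 → pointOk (k * 22) = true := between_extend pointOk 22 30690 40329 9 (p2u1070) p2r1071

theorem p2r1072 : allRange pointOk 22 40338 9 = true := by decide +kernel
theorem p2u1072 : ∀ k, 30690 ≤ k → k < 40347 → pointOk (k * 22) = true := between_extend pointOk 22 30690 40338 9 (p2u1071) p2r1072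

theorem p2r1073 : allRange pointOk 22 40347 9 = true := by decide +kernel
theorem p2u1073 : ∀ k, 30690 ≤ k → k < 40356 → pointOk (k * 22) = true := between_extend pointOk 22 30690 40347 9 (p2u1072) p2r1073

theorem p2r1074 : allRange pointOk 22 40356 9 = true := by decide +kernel
theorem p2u1074 : ∀ k, 30690 ≤ k → k < 40365 → pointOk (k * 22) = true := between_extend pointOk 22 30690 40356 9 (p2u1073) p2r1074

theorem p2r1075 : allRange pointOk 22 40365 9 = true := by decide +kernel
theorem p2u1075 : ∀ k, 30690 ≤ k → k < 40374 → pointOk (k * 22) = true := between_extend pointOk 22 30690 40365 9 (p2u1074) p2r1075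

theorem p2r1076 : allRange pointOk 22 40374 9 = true := by decide +kernel
theorem p2u1076 : ∀ k, 30690 ≤ k → k < 40383 → pointOk (k * 22) = true := between_extend pointOk 22 30690 40374 9 (p2u1075) p2r1076

theorem p2r1077 : allRange pointOk 22 40383 9 = true := by decide +kernel
theorem p2u1077 : ∀ k, 30690 ≤ k → k < 40392 → pointOk (k * 22) = true := between_extend pointOk 22 30690 40383 9 (p2u1076) p2r1077

theorem p2r1078 : allRange pointOk 22 40392 9 = true := by decide +kernel
theorem p2u1078 : ∀ k, 30690 ≤ k → k < 40401 → pointOk (k * 22) = true := between_extend pointOk 22 30690 40392 9 (p2u1077) p2r1078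

theorem p2r1079 : allRange pointOk 22 40401 9 = true := by decide +kernel
theorem p2u1079 : ∀ k, 30690 ≤ k → k < 40410 → pointOk (k * 22) = true := between_extend pointOk 22 30690 40401 9 (p2u1078) p2r1079

theorem p2r1080 : allRange pointOk 22 40410 9 = true := by decide +kernel
theorem p2u1080 : ∀ k, 30690 ≤ k → k < 40419 → pointOk (k * 22) = true := between_extend pointOk 22 30690 40410 9 (p2u1079) p2r1080

theorem p2r1081 : allRange pointOk 22 40419 9 = true := by decide +kernel
theorem p2u1081 : ∀ k, 30690 ≤ k → k < 40428 → pointOk (k * 22) = true := between_extend pointOk 22 30690 40419 9 (p2u1080) p2r1081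

theorem p2r1082 : allRange pointOk 22 40428 9 = true := by decide +kernel
theorem p2u1082 : ∀ k, 30690 ≤ k → k < 40437 → pointOk (k * 22) = true := between_extend pointOk 22 30690 40428 9 (p2u1081) p2r1082

theorem p2r1083 : allRange pointOk 22 40437 9 = true := by decide +kernel
theorem p2u1083 : ∀ k, 30690 ≤ k → k < 40446 → pointOk (k * 22) = true := between_extend pointOk 22 30690 40437 9 (p2u1082) p2r1083

theorem p2r1084 : allRange pointOk 22 40446 9 = true := by decide +kernel
theorem p2u1084 : ∀ k, 30690 ≤ k → k < 40455 → pointOk (k * 22) = true := between_extend pointOk 22 30690 40446 9 (p2u1083) p2r1084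

theorem p2r1085 : allRange pointOk 22 40455 9 = true := by decide +kernel
theorem p2u1085 : ∀ k, 30690 ≤ k → k < 40464 → pointOk (k * 22) = true := between_extend pointOk 22 30690 40455 9 (p2u1084) p2r1085

theorem p2r1086 : allRange pointOk 22 40464 9 = true := by decide +kernel
theorem p2u1086 : ∀ k, 30690 ≤ k → k < 40473 → pointOk (k * 22) = true := between_extend pointOk 22 30690 40464 9 (p2u1085) p2r1086

theorem p2r1087 : allRange pointOk 22 40473 9 = true := by decide +kernel
theorem p2u1087 : ∀ k, 30690 ≤ k → k < 40482 → pointOk (k * 22) = true := between_extend pointOk 22 30690 40473 9 (p2u1086) p2r1087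

theorem p2r1088 : allRange pointOk 22 40482 9 = true := by decide +kernel
theorem p2u1088 : ∀ k, 30690 ≤ k → k < 40491 → pointOk (k * 22) = true := between_extend pointOk 22 30690 40482 9 (p2u1087) p2r1088

theorem p2r1089 : allRange pointOk 22 40491 9 = true := by decide +kernel
theorem p2u1089 : ∀ k, 30690 ≤ k → k < 40500 → pointOk (k * 22) = true := between_extend pointOk 22 30690 40491 9 (p2u1088) p2r1089

theorem p2r1090 : allRange pointOk 22 40500 9 = true := by decide +kernel
theorem p2u1090 : ∀ k, 30690 ≤ k → k < 40509 → pointOk (k * 22) = true := between_extend pointOk 22 30690 40500 9 (p2u1089) p2r1090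

theorem p2r1091 : allRange pointOk 22 40509 9 = true := by decide +kernel
theorem p2u1091 : ∀ k, 30690 ≤ k → k < 40518 → pointOk (k * 22) = true := between_extend pointOk 22 30690 40509 9 (p2u1090) p2r1091

theorem p2r1092 : allRange pointOk 22 40518 9 = true := by decide +kernel
theorem p2u1092 : ∀ k, 30690 ≤ k → k < 40527 → pointOk (k * 22) = true := between_extend pointOk 22 30690 40518 9 (p2u1091) p2r1092

theorem p2r1093 : allRange pointOk 22 40527 9 = true := by decide +kernel
theorem p2u1093 : ∀ k, 30690 ≤ k → k < 40536 → pointOk (k * 22) = true := between_extend pointOk 22 30690 40527 9 (p2u1092) p2r1093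

theorem p2r1094 : allRange pointOk 22 40536 9 = true := by decide +kernel
theorem p2u1094 : ∀ k, 30690 ≤ k → k < 40545 → pointOk (k * 22) = true := between_extend pointOk 22 30690 40536 9 (p2u1093) p2r1094

theorem p2r1095 : allRange pointOk 22 40545 9 = true := by decide +kernel
theorem p2u1095 : ∀ k, 30690 ≤ k → k < 40554 → pointOk (k * 22) = true := between_extend pointOk 22 30690 40545 9 (p2u1094) p2r1095

theorem p2r1096 : allRange pointOk 22 40554 9 = true := by decide +kernel
theorem p2u1096 : ∀ k, 30690 ≤ k → k < 40563 → pointOk (k * 22) = true := between_extend pointOk 22 30690 40554 9 (p2u1095) p2r1096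

theorem p2r1097 : allRange pointOk 22 40563 9 = true := by decide +kernel
theorem p2u1097 : ∀ k, 30690 ≤ k → k < 40572 → pointOk (k * 22) = true := between_extend pointOk 22 30690 40563 9 (p2u1096) p2r1097

theorem p2r1098 : allRange pointOk 22 40572 9 = true := by decide +kernel
theorem p2u1098 : ∀ k, 30690 ≤ k → k < 40581 → pointOk (k * 22) = true := between_extend pointOk 22 30690 40572 9 (p2u1097) p2r1098

theorem p2r1099 : allRange pointOk 22 40581 9 = true := by decide +kernel
theorem p2u1099 : ∀ k, 30690 ≤ k → k < 40590 → pointOk (k * 22) = true := between_extend pointOk 22 30690 40581 9 (p2u1098) p2r1099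

theorem p2r1100 : allRange pointOk 22 40590 9 = true := by decide +kernel
theorem p2u1100 : ∀ k, 30690 ≤ k → k < 40599 → pointOk (k * 22) = true := between_extend pointOk 22 30690 40590 9 (p2u1099) p2r1100

theorem p2r1101 : allRange pointOk 22 40599 9 = true := by decide +kernel
theorem p2u1101 : ∀ k, 30690 ≤ k → k < 40608 → pointOk (k * 22) = true := between_extend pointOk 22 30690 40599 9 (p2u1100) p2r1101

theorem p2r1102 : allRange pointOk 22 40608 9 = true := by decide +kernel
theorem p2u1102 : ∀ k, 30690 ≤ k → k < 40617 → pointOk (k * 22) = true := between_extend pointOk 22 30690 40608 9 (p2u1101) p2r1102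

theorem p2r1103 : allRange pointOk 22 40617 9 = true := by decide +kernel
theorem p2u1103 : ∀ k, 30690 ≤ k → k < 40626 → pointOk (k * 22) = true := between_extend pointOk 22 30690 40617 9 (p2u1102) p2r1103

theorem p2r1104 : allRange pointOk 22 40626 9 = true := by decide +kernel
theorem p2u1104 : ∀ k, 30690 ≤ k → k < 40635 → pointOk (k * 22) = true := between_extend pointOk 22 30690 40626 9 (p2u1103) p2r1104

theorem p2r1105 : allRange pointOk 22 40635 9 = true := by decide +kernel
theorem p2u1105 : ∀ k, 30690 ≤ k → k < 40644 → pointOk (k * 22) = true := between_extend pointOk 22 30690 40635 9 (p2u1104) p2r1105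

theorem p2r1106 : allRange pointOk 22 40644 9 = true := by decide +kernel
theorem p2u1106 : ∀ k, 30690 ≤ k → k < 40653 → pointOk (k * 22) = true := between_extend pointOk 22 30690 40644 9 (p2u1105) p2r1106

theorem p2r1107 : allRange pointOk 22 40653 9 = true := by decide +kernel
theorem p2u1107 : ∀ k, 30690 ≤ k → k < 40662 → pointOk (k * 22) = true := between_extend pointOk 22 30690 40653 9 (p2u1106) p2r1107

theorem p2r1108 : allRange pointOk 22 40662 9 = true := by decide +kernel
theorem p2u1108 : ∀ k, 30690 ≤ k → k < 40671 → pointOk (k * 22) = true := between_extend pointOk 22 30690 40662 9 (p2u1107) p2r1108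

theorem p2r1109 : allRange pointOk 22 40671 9 = true := by decide +kernel
theorem p2u1109 : ∀ k, 30690 ≤ k → k < 40680 → pointOk (k * 22) = true := between_extend pointOk 22 30690 40671 9 (p2u1108) p2r1109

theorem p2r1110 : allRange pointOk 22 40680 9 = true := by decide +kernel
theorem p2u1110 : ∀ k, 30690 ≤ k → k < 40689 → pointOk (k * 22) = true := between_extend pointOk 22 30690 40680 9 (p2u1109) p2r1110

theorem p2r1111 : allRange pointOk 22 40689 9 = true := by decide +kernel
theorem p2u1111 : ∀ k, 30690 ≤ k → k < 40698 → pointOk (k * 22) = true := between_extend pointOk 22 30690 40689 9 (p2u1110) p2r1111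

theorem p2r1112 : allRange pointOk 22 40698 9 = true := by decide +kernel
theorem p2u1112 : ∀ k, 30690 ≤ k → k < 40707 → pointOk (k * 22) = true := between_extend pointOk 22 30690 40698 9 (p2u1111) p2r1112

theorem p2r1113 : allRange pointOk 22 40707 9 = true := by decide +kernel
theorem p2u1113 : ∀ k, 30690 ≤ k → k < 40716 → pointOk (k * 22) = true := between_extend pointOk 22 30690 40707 9 (p2u1112) p2r1113

theorem p2r1114 : allRange pointOk 22 40716 9 = true := by decide +kernel
theorem p2u1114 : ∀ k, 30690 ≤ k → k < 40725 → pointOk (k * 22) = true := between_extend pointOk 22 30690 40716 9 (p2u1113) p2r1114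

theorem p2r1115 : allRange pointOk 22 40725 9 = true := by decide +kernel
theorem p2u1115 : ∀ k, 30690 ≤ k → k < 40734 → pointOk (k * 22) = true := between_extend pointOk 22 30690 40725 9 (p2u1114) p2r1115

theorem p2r1116 : allRange pointOk 22 40734 9 = true := by decide +kernel
theorem p2u1116 : ∀ k, 30690 ≤ k → k < 40743 → pointOk (k * 22) = true := between_extend pointOk 22 30690 40734 9 (p2u1115) p2r1116

theorem p2r1117 : allRange pointOk 22 40743 9 = true := by decide +kernel
theorem p2u1117 : ∀ k, 30690 ≤ k → k < 40752 → pointOk (k * 22) = true := between_extend pointOk 22 30690 40743 9 (p2u1116) p2r1117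

theorem p2r1118 : allRange pointOk 22 40752 9 = true := by decide +kernel
theorem p2u1118 : ∀ k, 30690 ≤ k → k < 40761 → pointOk (k * 22) = true := between_extend pointOk 22 30690 40752 9 (p2u1117) p2r1118

theorem p2r1119 : allRange pointOk 22 40761 9 = true := by decide +kernel
theorem p2u1119 : ∀ k, 30690 ≤ k → k < 40770 → pointOk (k * 22) = true := between_extend pointOk 22 30690 40761 9 (p2u1118) p2r1119

theorem p2r1120 : allRange pointOk 22 40770 9 = true := by decide +kernel
theorem p2u1120 : ∀ k, 30690 ≤ k → k < 40779 → pointOk (k * 22) = true := between_extend pointOk 22 30690 40770 9 (p2u1119) p2r1120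

theorem p2r1121 : allRange pointOk 22 40779 9 = true := by decide +kernel
theorem p2u1121 : ∀ k, 30690 ≤ k → k < 40788 → pointOk (k * 22) = true := between_extend pointOk 22 30690 40779 9 (p2u1120) p2r1121

theorem p2r1122 : allRange pointOk 22 40788 9 = true := by decide +kernel
theorem p2u1122 : ∀ k, 30690 ≤ k → k < 40797 → pointOk (k * 22) = true := between_extend pointOk 22 30690 40788 9 (p2u1121) p2r1122

theorem p2r1123 : allRange pointOk 22 40797 9 = true := by decide +kernel
theorem p2u1123 : ∀ k, 30690 ≤ k → k < 40806 → pointOk (k * 22) = true := between_extend pointOk 22 30690 40797 9 (p2u1122) p2r1123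

theorem p2r1124 : allRange pointOk 22 40806 9 = true := by decide +kernel
theorem p2u1124 : ∀ k, 30690 ≤ k → k < 40815 → pointOk (k * 22) = true := between_extend pointOk 22 30690 40806 9 (p2u1123) p2r1124

theorem p2r1125 : allRange pointOk 22 40815 9 = true := by decide +kernel
theorem p2u1125 : ∀ k, 30690 ≤ k → k < 40824 → pointOk (k * 22) = true := between_extend pointOk 22 30690 40815 9 (p2u1124) p2r1125

theorem p2r1126 : allRange pointOk 22 40824 9 = true := by decide +kernel
theorem p2u1126 : ∀ k, 30690 ≤ k → k < 40833 → pointOk (k * 22) = true := between_extend pointOk 22 30690 40824 9 (p2u1125) p2r1126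

theorem p2r1127 : allRange pointOk 22 40833 9 = true := by decide +kernel
theorem p2u1127 : ∀ k, 30690 ≤ k → k < 40842 → pointOk (k * 22) = true := between_extend pointOk 22 30690 40833 9 (p2u1126) p2r1127

theorem p2r1128 : allRange pointOk 22 40842 9 = true := by decide +kernel
theorem p2u1128 : ∀ k, 30690 ≤ k → k < 40851 → pointOk (k * 22) = true := between_extend pointOk 22 30690 40842 9 (p2u1127) p2r1128

theorem p2r1129 : allRange pointOk 22 40851 9 = true := by decide +kernel
theorem p2u1129 : ∀ k, 30690 ≤ k → k < 40860 → pointOk (k * 22) = true := between_extend pointOk 22 30690 40851 9 (p2u1128) p2r1129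

theorem p2r1130 : allRange pointOk 22 40860 9 = true := by decide +kernel
theorem p2u1130 : ∀ k, 30690 ≤ k → k < 40869 → pointOk (k * 22) = true := between_extend pointOk 22 30690 40860 9 (p2u1129) p2r1130

theorem p2r1131 : allRange pointOk 22 40869 9 = true := by decide +kernel
theorem p2u1131 : ∀ k, 30690 ≤ k → k < 40878 → pointOk (k * 22) = true := between_extend pointOk 22 30690 40869 9 (p2u1130) p2r1131

theorem p2r1132 : allRange pointOk 22 40878 9 = true := by decide +kernel
theorem p2u1132 : ∀ k, 30690 ≤ k → k < 40887 → pointOk (k * 22) = true := between_extend pointOk 22 30690 40878 9 (p2u1131) p2r1132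

theorem p2r1133 : allRange pointOk 22 40887 9 = true := by decide +kernel
theorem p2u1133 : ∀ k, 30690 ≤ k → k < 40896 → pointOk (k * 22) = true := between_extend pointOk 22 30690 40887 9 (p2u1132) p2r1133

theorem p2r1134 : allRange pointOk 22 40896 9 = true := by decide +kernel
theorem p2u1134 : ∀ k, 30690 ≤ k → k < 40905 → pointOk (k * 22) = true := between_extend pointOk 22 30690 40896 9 (p2u1133) p2r1134

theorem p2r1135 : allRange pointOk 22 40905 9 = true := by decide +kernel
theorem p2u1135 : ∀ k, 30690 ≤ k → k < 40914 → pointOk (k * 22) = true := between_extend pointOk 22 30690 40905 9 (p2u1134) p2r1135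

theorem p2r1136 : allRange pointOk 22 40914 9 = true := by decide +kernel
theorem p2u1136 : ∀ k, 30690 ≤ k → k < 40923 → pointOk (k * 22) = true := between_extend pointOk 22 30690 40914 9 (p2u1135) p2r1136

theorem p2r1137 : allRange pointOk 22 40923 9 = true := by decide +kernel
theorem p2u1137 : ∀ k, 30690 ≤ k → k < 40932 → pointOk (k * 22) = true := between_extend pointOk 22 30690 40923 9 (p2u1136) p2r1137

theorem p2r1138 : allRange pointOk 22 40932 9 = true := by decide +kernel
theorem p2u1138 : ∀ k, 30690 ≤ k → k < 40941 → pointOk (k * 22) = true := between_extend pointOk 22 30690 40932 9 (p2u1137) p2r1138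

theorem p2r1139 : allRange pointOk 22 40941 9 = true := by decide +kernel
theorem p2u1139 : ∀ k, 30690 ≤ k → k < 40950 → pointOk (k * 22) = true := between_extend pointOk 22 30690 40941 9 (p2u1138) p2r1139

theorem p2r1140 : allRange pointOk 22 40950 9 = true := by decide +kernel
theorem p2u1140 : ∀ k, 30690 ≤ k → k < 40959 → pointOk (k * 22) = true := between_extend pointOk 22 30690 40950 9 (p2u1139) p2r1140

theorem p2r1141 : allRange pointOk 22 40959 9 = true := by decide +kernel
theorem p2u1141 : ∀ k, 30690 ≤ k → k < 40968 → pointOk (k * 22) = true := between_extend pointOk 22 30690 40959 9 (p2u1140) p2r1141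

theorem p2r1142 : allRange pointOk 22 40968 9 = true := by decide +kernel
theorem p2u1142 : ∀ k, 30690 ≤ k → k < 40977 → pointOk (k * 22) = true := between_extend pointOk 22 30690 40968 9 (p2u1141) p2r1142

theorem p2r1143 : allRange pointOk 22 40977 9 = true := by decide +kernel
theorem p2u1143 : ∀ k, 30690 ≤ k → k < 40986 → pointOk (k * 22) = true := between_extend pointOk 22 30690 40977 9 (p2u1142) p2r1143

theorem p2r1144 : allRange pointOk 22 40986 9 = true := by decide +kernel
theorem p2u1144 : ∀ k, 30690 ≤ k → k < 40995 → pointOk (k * 22) = true := between_extend pointOk 22 30690 40986 9 (p2u1143) p2r1144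

theorem p2r1145 : allRange pointOk 22 40995 9 = true := by decide +kernel
theorem p2u1145 : ∀ k, 30690 ≤ k → k < 41004 → pointOk (k * 22) = true := between_extend pointOk 22 30690 40995 9 (p2u1144) p2r1145

theorem p2r1146 : allRange pointOk 22 41004 9 = true := by decide +kernel
theorem p2u1146 : ∀ k, 30690 ≤ k → k < 41013 → pointOk (k * 22) = true := between_extend pointOk 22 30690 41004 9 (p2u1145) p2r1146

theorem p2r1147 : allRange pointOk 22 41013 9 = true := by decide +kernel
theorem p2u1147 : ∀ k, 30690 ≤ k → k < 41022 → pointOk (k * 22) = true := between_extend pointOk 22 30690 41013 9 (p2u1146) p2r1147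

theorem p2r1148 : allRange pointOk 22 41022 9 = true := by decide +kernel
theorem p2u1148 : ∀ k, 30690 ≤ k → k < 41031 → pointOk (k * 22) = true := between_extend pointOk 22 30690 41022 9 (p2u1147) p2r1148

theorem p2r1149 : allRange pointOk 22 41031 9 = true := by decide +kernel
theorem p2u1149 : ∀ k, 30690 ≤ k → k < 41040 → pointOk (k * 22) = true := between_extend pointOk 22 30690 41031 9 (p2u1148) p2r1149

theorem p2r1150 : allRange pointOk 22 41040 9 = true := by decide +kernel
theorem p2u1150 : ∀ k, 30690 ≤ k → k < 41049 → pointOk (k * 22) = true := between_extend pointOk 22 30690 41040 9 (p2u1149) p2r1150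

theorem p2r1151 : allRange pointOk 22 41049 9 = true := by decide +kernel
theorem p2u1151 : ∀ k, 30690 ≤ k → k < 41058 → pointOk (k * 22) = true := between_extend pointOk 22 30690 41049 9 (p2u1150) p2r1151

theorem p2r1152 : allRange pointOk 22 41058 9 = true := by decide +kernel
theorem p2u1152 : ∀ k, 30690 ≤ k → k < 41067 → pointOk (k * 22) = true := between_extend pointOk 22 30690 41058 9 (p2u1151) p2r1152

theorem p2r1153 : allRange pointOk 22 41067 9 = true := by decide +kernel
theorem p2u1153 : ∀ k, 30690 ≤ k → k < 41076 → pointOk (k * 22) = true := between_extend pointOk 22 30690 41067 9 (p2u1152) p2r1153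

theorem p2r1154 : allRange pointOk 22 41076 9 = true := by decide +kernel
theorem p2u1154 : ∀ k, 30690 ≤ k → k < 41085 → pointOk (k * 22) = true := between_extend pointOk 22 30690 41076 9 (p2u1153) p2r1154

theorem p2r1155 : allRange pointOk 22 41085 9 = true := by decide +kernel
theorem p2u1155 : ∀ k, 30690 ≤ k → k < 41094 → pointOk (k * 22) = true := between_extend pointOk 22 30690 41085 9 (p2u1154) p2r1155

theorem p2r1156 : allRange pointOk 22 41094 9 = true := by decide +kernel
theorem p2u1156 : ∀ k, 30690 ≤ k → k < 41103 → pointOk (k * 22) = true := between_extend pointOk 22 30690 41094 9 (p2u1155) p2r1156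

theorem p2r1157 : allRange pointOk 22 41103 9 = true := by decide +kernel
theorem p2u1157 : ∀ k, 30690 ≤ k → k < 41112 → pointOk (k * 22) = true := between_extend pointOk 22 30690 41103 9 (p2u1156) p2r1157

theorem p2r1158 : allRange pointOk 22 41112 9 = true := by decide +kernel
theorem p2u1158 : ∀ k, 30690 ≤ k → k < 41121 → pointOk (k * 22) = true := between_extend pointOk 22 30690 41112 9 (p2u1157) p2r1158

theorem p2r1159 : allRange pointOk 22 41121 9 = true := by decide +kernel
theorem p2u1159 : ∀ k, 30690 ≤ k → k < 41130 → pointOk (k * 22) = true := between_extend pointOk 22 30690 41121 9 (p2u1158) p2r1159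

theorem p2r1160 : allRange pointOk 22 41130 9 = true := by decide +kernel
theorem p2u1160 : ∀ k, 30690 ≤ k → k < 41139 → pointOk (k * 22) = true := between_extend pointOk 22 30690 41130 9 (p2u1159) p2r1160

theorem p2r1161 : allRange pointOk 22 41139 9 = true := by decide +kernel
theorem p2u1161 : ∀ k, 30690 ≤ k → k < 41148 → pointOk (k * 22) = true := between_extend pointOk 22 30690 41139 9 (p2u1160) p2r1161

theorem p2r1162 : allRange pointOk 22 41148 9 = true := by decide +kernel
theorem p2u1162 : ∀ k, 30690 ≤ k → k < 41157 → pointOk (k * 22) = true := between_extend pointOk 22 30690 41148 9 (p2u1161) p2r1162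

theorem p2r1163 : allRange pointOk 22 41157 9 = true := by decide +kernel
theorem p2u1163 : ∀ k, 30690 ≤ k → k < 41166 → pointOk (k * 22) = true := between_extend pointOk 22 30690 41157 9 (p2u1162) p2r1163

theorem p2r1164 : allRange pointOk 22 41166 9 = true := by decide +kernel
theorem p2u1164 : ∀ k, 30690 ≤ k → k < 41175 → pointOk (k * 22) = true := between_extend pointOk 22 30690 41166 9 (p2u1163) p2r1164

theorem p2r1165 : allRange pointOk 22 41175 9 = true := by decide +kernel
theorem p2u1165 : ∀ k, 30690 ≤ k → k < 41184 → pointOk (k * 22) = true := between_extend pointOk 22 30690 41175 9 (p2u1164) p2r1165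

theorem p2r1166 : allRange pointOk 22 41184 9 = true := by decide +kernel
theorem p2u1166 : ∀ k, 30690 ≤ k → k < 41193 → pointOk (k * 22) = true := between_extend pointOk 22 30690 41184 9 (p2u1165) p2r1166

theorem p2r1167 : allRange pointOk 22 41193 9 = true := by decide +kernel
theorem p2u1167 : ∀ k, 30690 ≤ k → k < 41202 → pointOk (k * 22) = true := between_extend pointOk 22 30690 41193 9 (p2u1166) p2r1167

theorem p2r1168 : allRange pointOk 22 41202 9 = true := by decide +kernel
theorem p2u1168 : ∀ k, 30690 ≤ k → k < 41211 → pointOk (k * 22) = true := between_extend pointOk 22 30690 41202 9 (p2u1167) p2r1168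

theorem p2r1169 : allRange pointOk 22 41211 9 = true := by decide +kernel
theorem p2u1169 : ∀ k, 30690 ≤ k → k < 41220 → pointOk (k * 22) = true := between_extend pointOk 22 30690 41211 9 (p2u1168) p2r1169

theorem p2r1170 : allRange pointOk 22 41220 9 = true := by decide +kernel
theorem p2u1170 : ∀ k, 30690 ≤ k → k < 41229 → pointOk (k * 22) = true := between_extend pointOk 22 30690 41220 9 (p2u1169) p2r1170

theorem p2r1171 : allRange pointOk 22 41229 9 = true := by decide +kernel
theorem p2u1171 : ∀ k, 30690 ≤ k → k < 41238 → pointOk (k * 22) = true := between_extend pointOk 22 30690 41229 9 (p2u1170) p2r1171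

theorem p2r1172 : allRange pointOk 22 41238 9 = true := by decide +kernel
theorem p2u1172 : ∀ k, 30690 ≤ k → k < 41247 → pointOk (k * 22) = true := between_extend pointOk 22 30690 41238 9 (p2u1171) p2r1172

theorem p2r1173 : allRange pointOk 22 41247 9 = true := by decide +kernel
theorem p2u1173 : ∀ k, 30690 ≤ k → k < 41256 → pointOk (k * 22) = true := between_extend pointOk 22 30690 41247 9 (p2u1172) p2r1173

theorem p2r1174 : allRange pointOk 22 41256 9 = true := by decide +kernel
theorem p2u1174 : ∀ k, 30690 ≤ k → k < 41265 → pointOk (k * 22) = true := between_extend pointOk 22 30690 41256 9 (p2u1173) p2r1174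

theorem p2r1175 : allRange pointOk 22 41265 9 = true := by decide +kernel
theorem p2u1175 : ∀ k, 30690 ≤ k → k < 41274 → pointOk (k * 22) = true := between_extend pointOk 22 30690 41265 9 (p2u1174) p2r1175

theorem p2r1176 : allRange pointOk 22 41274 9 = true := by decide +kernel
theorem p2u1176 : ∀ k, 30690 ≤ k → k < 41283 → pointOk (k * 22) = true := between_extend pointOk 22 30690 41274 9 (p2u1175) p2r1176

theorem p2r1177 : allRange pointOk 22 41283 9 = true := by decide +kernel
theorem p2u1177 : ∀ k, 30690 ≤ k → k < 41292 → pointOk (k * 22) = true := between_extend pointOk 22 30690 41283 9 (p2u1176) p2r1177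

theorem p2r1178 : allRange pointOk 22 41292 9 = true := by decide +kernel
theorem p2u1178 : ∀ k, 30690 ≤ k → k < 41301 → pointOk (k * 22) = true := between_extend pointOk 22 30690 41292 9 (p2u1177) p2r1178

theorem p2r1179 : allRange pointOk 22 41301 9 = true := by decide +kernel
theorem p2u1179 : ∀ k, 30690 ≤ k → k < 41310 → pointOk (k * 22) = true := between_extend pointOk 22 30690 41301 9 (p2u1178) p2r1179

theorem p2r1180 : allRange pointOk 22 41310 9 = true := by decide +kernel
theorem p2u1180 : ∀ k, 30690 ≤ k → k < 41319 → pointOk (k * 22) = true := between_extend pointOk 22 30690 41310 9 (p2u1179) p2r1180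

theorem p2r1181 : allRange pointOk 22 41319 9 = true := by decide +kernel
theorem p2u1181 : ∀ k, 30690 ≤ k → k < 41328 → pointOk (k * 22) = true := between_extend pointOk 22 30690 41319 9 (p2u1180) p2r1181

theorem p2r1182 : allRange pointOk 22 41328 9 = true := by decide +kernel
theorem p2u1182 : ∀ k, 30690 ≤ k → k < 41337 → pointOk (k * 22) = true := between_extend pointOk 22 30690 41328 9 (p2u1181) p2r1182

theorem p2r1183 : allRange pointOk 22 41337 9 = true := by decide +kernel
theorem p2u1183 : ∀ k, 30690 ≤ k → k < 41346 → pointOk (k * 22) = true := between_extend pointOk 22 30690 41337 9 (p2u1182) p2r1183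

theorem p2r1184 : allRange pointOk 22 41346 9 = true := by decide +kernel
theorem p2u1184 : ∀ k, 30690 ≤ k → k < 41355 → pointOk (k * 22) = true := between_extend pointOk 22 30690 41346 9 (p2u1183) p2r1184

theorem p2r1185 : allRange pointOk 22 41355 9 = true := by decide +kernel
theorem p2u1185 : ∀ k, 30690 ≤ k → k < 41364 → pointOk (k * 22) = true := between_extend pointOk 22 30690 41355 9 (p2u1184) p2r1185

theorem p2r1186 : allRange pointOk 22 41364 9 = true := by decide +kernel
theorem p2u1186 : ∀ k, 30690 ≤ k → k < 41373 → pointOk (k * 22) = true := between_extend pointOk 22 30690 41364 9 (p2u1185) p2r1186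

theorem p2r1187 : allRange pointOk 22 41373 9 = true := by decide +kernel
theorem p2u1187 : ∀ k, 30690 ≤ k → k < 41382 → pointOk (k * 22) = true := between_extend pointOk 22 30690 41373 9 (p2u1186) p2r1187

theorem p2r1188 : allRange pointOk 22 41382 9 = true := by decide +kernel
theorem p2u1188 : ∀ k, 30690 ≤ k → k < 41391 → pointOk (k * 22) = true := between_extend pointOk 22 30690 41382 9 (p2u1187) p2r1188

theorem p2r1189 : allRange pointOk 22 41391 9 = true := by decide +kernel
theorem p2u1189 : ∀ k, 30690 ≤ k → k < 41400 → pointOk (k * 22) = true := between_extend pointOk 22 30690 41391 9 (p2u1188) p2r1189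

theorem p2r1190 : allRange pointOk 22 41400 9 = true := by decide +kernel
theorem p2u1190 : ∀ k, 30690 ≤ k → k < 41409 → pointOk (k * 22) = true := between_extend pointOk 22 30690 41400 9 (p2u1189) p2r1190

theorem p2r1191 : allRange pointOk 22 41409 9 = true := by decide +kernel
theorem p2u1191 : ∀ k, 30690 ≤ k → k < 41418 → pointOk (k * 22) = true := between_extend pointOk 22 30690 41409 9 (p2u1190) p2r1191

theorem p2r1192 : allRange pointOk 22 41418 9 = true := by decide +kernel
theorem p2u1192 : ∀ k, 30690 ≤ k → k < 41427 → pointOk (k * 22) = true := between_extend pointOk 22 30690 41418 9 (p2u1191) p2r1192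

theorem p2r1193 : allRange pointOk 22 41427 9 = true := by decide +kernel
theorem p2u1193 : ∀ k, 30690 ≤ k → k < 41436 → pointOk (k * 22) = true := between_extend pointOk 22 30690 41427 9 (p2u1192) p2r1193

theorem p2r1194 : allRange pointOk 22 41436 9 = true := by decide +kernel
theorem p2u1194 : ∀ k, 30690 ≤ k → k < 41445 → pointOk (k * 22) = true := between_extend pointOk 22 30690 41436 9 (p2u1193) p2r1194

theorem p2r1195 : allRange pointOk 22 41445 9 = true := by decide +kernel
theorem p2u1195 : ∀ k, 30690 ≤ k → k < 41454 → pointOk (k * 22) = true := between_extend pointOk 22 30690 41445 9 (p2u1194) p2r1195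

theorem p2r1196 : allRange pointOk 22 41454 9 = true := by decide +kernel
theorem p2u1196 : ∀ k, 30690 ≤ k → k < 41463 → pointOk (k * 22) = true := between_extend pointOk 22 30690 41454 9 (p2u1195) p2r1196

theorem p2r1197 : allRange pointOk 22 41463 9 = true := by decide +kernel
theorem p2u1197 : ∀ k, 30690 ≤ k → k < 41472 → pointOk (k * 22) = true := between_extend pointOk 22 30690 41463 9 (p2u1196) p2r1197

theorem p2r1198 : allRange pointOk 22 41472 9 = true := by decide +kernel
theorem p2u1198 : ∀ k, 30690 ≤ k → k < 41481 → pointOk (k * 22) = true := between_extend pointOk 22 30690 41472 9 (p2u1197) p2r1198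

theorem p2r1199 : allRange pointOk 22 41481 9 = true := by decide +kernel
theorem p2u1199 : ∀ k, 30690 ≤ k → k < 41490 → pointOk (k * 22) = true := between_extend pointOk 22 30690 41481 9 (p2u1198) p2r1199

theorem p2r1200 : allRange pointOk 22 41490 9 = true := by decide +kernel
theorem p2u1200 : ∀ k, 30690 ≤ k → k < 41499 → pointOk (k * 22) = true := between_extend pointOk 22 30690 41490 9 (p2u1199) p2r1200

theorem p2r1201 : allRange pointOk 22 41499 9 = true := by decide +kernel
theorem p2u1201 : ∀ k, 30690 ≤ k → k < 41508 → pointOk (k * 22) = true := between_extend pointOk 22 30690 41499 9 (p2u1200) p2r1201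

theorem p2r1202 : allRange pointOk 22 41508 9 = true := by decide +kernel
theorem p2u1202 : ∀ k, 30690 ≤ k → k < 41517 → pointOk (k * 22) = true := between_extend pointOk 22 30690 41508 9 (p2u1201) p2r1202

theorem p2r1203 : allRange pointOk 22 41517 9 = true := by decide +kernel
theorem p2u1203 : ∀ k, 30690 ≤ k → k < 41526 → pointOk (k * 22) = true := between_extend pointOk 22 30690 41517 9 (p2u1202) p2r1203

theorem p2r1204 : allRange pointOk 22 41526 9 = true := by decide +kernel
theorem p2u1204 : ∀ k, 30690 ≤ k → k < 41535 → pointOk (k * 22) = true := between_extend pointOk 22 30690 41526 9 (p2u1203) p2r1204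

theorem p2r1205 : allRange pointOk 22 41535 9 = true := by decide +kernel
theorem p2u1205 : ∀ k, 30690 ≤ k → k < 41544 → pointOk (k * 22) = true := between_extend pointOk 22 30690 41535 9 (p2u1204) p2r1205

theorem p2r1206 : allRange pointOk 22 41544 9 = true := by decide +kernel
theorem p2u1206 : ∀ k, 30690 ≤ k → k < 41553 → pointOk (k * 22) = true := between_extend pointOk 22 30690 41544 9 (p2u1205) p2r1206

theorem p2r1207 : allRange pointOk 22 41553 9 = true := by decide +kernel
theorem p2u1207 : ∀ k, 30690 ≤ k → k < 41562 → pointOk (k * 22) = true := between_extend pointOk 22 30690 41553 9 (p2u1206) p2r1207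

theorem p2r1208 : allRange pointOk 22 41562 9 = true := by decide +kernel
theorem p2u1208 : ∀ k, 30690 ≤ k → k < 41571 → pointOk (k * 22) = true := between_extend pointOk 22 30690 41562 9 (p2u1207) p2r1208

theorem p2r1209 : allRange pointOk 22 41571 9 = true := by decide +kernel
theorem p2u1209 : ∀ k, 30690 ≤ k → k < 41580 → pointOk (k * 22) = true := between_extend pointOk 22 30690 41571 9 (p2u1208) p2r1209

theorem p2r1210 : allRange pointOk 22 41580 9 = true := by decide +kernel
theorem p2u1210 : ∀ k, 30690 ≤ k → k < 41589 → pointOk (k * 22) = true := between_extend pointOk 22 30690 41580 9 (p2u1209) p2r1210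

theorem p2r1211 : allRange pointOk 22 41589 9 = true := by decide +kernel
theorem p2u1211 : ∀ k, 30690 ≤ k → k < 41598 → pointOk (k * 22) = true := between_extend pointOk 22 30690 41589 9 (p2u1210) p2r1211

theorem p2r1212 : allRange pointOk 22 41598 9 = true := by decide +kernel
theorem p2u1212 : ∀ k, 30690 ≤ k → k < 41607 → pointOk (k * 22) = true := between_extend pointOk 22 30690 41598 9 (p2u1211) p2r1212

theorem p2r1213 : allRange pointOk 22 41607 9 = true := by decide +kernel
theorem p2u1213 : ∀ k, 30690 ≤ k → k < 41616 → pointOk (k * 22) = true := between_extend pointOk 22 30690 41607 9 (p2u1212) p2r1213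

theorem p2r1214 : allRange pointOk 22 41616 9 = true := by decide +kernel
theorem p2u1214 : ∀ k, 30690 ≤ k → k < 41625 → pointOk (k * 22) = true := between_extend pointOk 22 30690 41616 9 (p2u1213) p2r1214

theorem p2r1215 : allRange pointOk 22 41625 9 = true := by decide +kernel
theorem p2u1215 : ∀ k, 30690 ≤ k → k < 41634 → pointOk (k * 22) = true := between_extend pointOk 22 30690 41625 9 (p2u1214) p2r1215

theorem p2r1216 : allRange pointOk 22 41634 9 = true := by decide +kernel
theorem p2u1216 : ∀ k, 30690 ≤ k → k < 41643 → pointOk (k * 22) = true := between_extend pointOk 22 30690 41634 9 (p2u1215) p2r1216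

theorem p2r1217 : allRange pointOk 22 41643 9 = true := by decide +kernel
theorem p2u1217 : ∀ k, 30690 ≤ k → k < 41652 → pointOk (k * 22) = true := between_extend pointOk 22 30690 41643 9 (p2u1216) p2r1217

theorem p2r1218 : allRange pointOk 22 41652 9 = true := by decide +kernel
theorem p2u1218 : ∀ k, 30690 ≤ k → k < 41661 → pointOk (k * 22) = true := between_extend pointOk 22 30690 41652 9 (p2u1217) p2r1218

theorem p2r1219 : allRange pointOk 22 41661 9 = true := by decide +kernel
theorem p2u1219 : ∀ k, 30690 ≤ k → k < 41670 → pointOk (k * 22) = true := between_extend pointOk 22 30690 41661 9 (p2u1218) p2r1219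

theorem p2r1220 : allRange pointOk 22 41670 9 = true := by decide +kernel
theorem p2u1220 : ∀ k, 30690 ≤ k → k < 41679 → pointOk (k * 22) = true := between_extend pointOk 22 30690 41670 9 (p2u1219) p2r1220

theorem p2r1221 : allRange pointOk 22 41679 9 = true := by decide +kernel
theorem p2u1221 : ∀ k, 30690 ≤ k → k < 41688 → pointOk (k * 22) = true := between_extend pointOk 22 30690 41679 9 (p2u1220) p2r1221

theorem p2r1222 : allRange pointOk 22 41688 9 = true := by decide +kernel
theorem p2u1222 : ∀ k, 30690 ≤ k → k < 41697 → pointOk (k * 22) = true := between_extend pointOk 22 30690 41688 9 (p2u1221) p2r1222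

theorem p2r1223 : allRange pointOk 22 41697 9 = true := by decide +kernel
theorem p2u1223 : ∀ k, 30690 ≤ k → k < 41706 → pointOk (k * 22) = true := between_extend pointOk 22 30690 41697 9 (p2u1222) p2r1223

theorem p2r1224 : allRange pointOk 22 41706 9 = true := by decide +kernel
theorem p2u1224 : ∀ k, 30690 ≤ k → k < 41715 → pointOk (k * 22) = true := between_extend pointOk 22 30690 41706 9 (p2u1223) p2r1224

theorem p2r1225 : allRange pointOk 22 41715 9 = true := by decide +kernel
theorem p2u1225 : ∀ k, 30690 ≤ k → k < 41724 → pointOk (k * 22) = true := between_extend pointOk 22 30690 41715 9 (p2u1224) p2r1225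

theorem p2r1226 : allRange pointOk 22 41724 9 = true := by decide +kernel
theorem p2u1226 : ∀ k, 30690 ≤ k → k < 41733 → pointOk (k * 22) = true := between_extend pointOk 22 30690 41724 9 (p2u1225) p2r1226

theorem p2r1227 : allRange pointOk 22 41733 9 = true := by decide +kernel
theorem p2u1227 : ∀ k, 30690 ≤ k → k < 41742 → pointOk (k * 22) = true := between_extend pointOk 22 30690 41733 9 (p2u1226) p2r1227

theorem p2r1228 : allRange pointOk 22 41742 9 = true := by decide +kernel
theorem p2u1228 : ∀ k, 30690 ≤ k → k < 41751 → pointOk (k * 22) = true := between_extend pointOk 22 30690 41742 9 (p2u1227) p2r1228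

theorem p2r1229 : allRange pointOk 22 41751 9 = true := by decide +kernel
theorem p2u1229 : ∀ k, 30690 ≤ k → k < 41760 → pointOk (k * 22) = true := between_extend pointOk 22 30690 41751 9 (p2u1228) p2r1229

theorem p2r1230 : allRange pointOk 22 41760 9 = true := by decide +kernel
theorem p2u1230 : ∀ k, 30690 ≤ k → k < 41769 → pointOk (k * 22) = true := between_extend pointOk 22 30690 41760 9 (p2u1229) p2r1230

theorem p2r1231 : allRange pointOk 22 41769 9 = true := by decide +kernel
theorem p2u1231 : ∀ k, 30690 ≤ k → k < 41778 → pointOk (k * 22) = true := between_extend pointOk 22 30690 41769 9 (p2u1230) p2r1231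

theorem p2r1232 : allRange pointOk 22 41778 9 = true := by decide +kernel
theorem p2u1232 : ∀ k, 30690 ≤ k → k < 41787 → pointOk (k * 22) = true := between_extend pointOk 22 30690 41778 9 (p2u1231) p2r1232

theorem p2r1233 : allRange pointOk 22 41787 9 = true := by decide +kernel
theorem p2u1233 : ∀ k, 30690 ≤ k → k < 41796 → pointOk (k * 22) = true := between_extend pointOk 22 30690 41787 9 (p2u1232) p2r1233

theorem p2r1234 : allRange pointOk 22 41796 9 = true := by decide +kernel
theorem p2u1234 : ∀ k, 30690 ≤ k → k < 41805 → pointOk (k * 22) = true := between_extend pointOk 22 30690 41796 9 (p2u1233) p2r1234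

theorem p2r1235 : allRange pointOk 22 41805 9 = true := by decide +kernel
theorem p2u1235 : ∀ k, 30690 ≤ k → k < 41814 → pointOk (k * 22) = true := between_extend pointOk 22 30690 41805 9 (p2u1234) p2r1235

theorem p2r1236 : allRange pointOk 22 41814 9 = true := by decide +kernel
theorem p2u1236 : ∀ k, 30690 ≤ k → k < 41823 → pointOk (k * 22) = true := between_extend pointOk 22 30690 41814 9 (p2u1235) p2r1236

theorem p2r1237 : allRange pointOk 22 41823 9 = true := by decide +kernel
theorem p2u1237 : ∀ k, 30690 ≤ k → k < 41832 → pointOk (k * 22) = true := between_extend pointOk 22 30690 41823 9 (p2u1236) p2r1237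

theorem p2r1238 : allRange pointOk 22 41832 9 = true := by decide +kernel
theorem p2u1238 : ∀ k, 30690 ≤ k → k < 41841 → pointOk (k * 22) = true := between_extend pointOk 22 30690 41832 9 (p2u1237) p2r1238

theorem p2r1239 : allRange pointOk 22 41841 9 = true := by decide +kernel
theorem p2u1239 : ∀ k, 30690 ≤ k → k < 41850 → pointOk (k * 22) = true := between_extend pointOk 22 30690 41841 9 (p2u1238) p2r1239

theorem p2r1240 : allRange pointOk 22 41850 9 = true := by decide +kernel
theorem p2u1240 : ∀ k, 30690 ≤ k → k < 41859 → pointOk (k * 22) = true := between_extend pointOk 22 30690 41850 9 (p2u1239) p2r1240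

theorem p2r1241 : allRange pointOk 22 41859 9 = true := by decide +kernel
theorem p2u1241 : ∀ k, 30690 ≤ k → k < 41868 → pointOk (k * 22) = true := between_extend pointOk 22 30690 41859 9 (p2u1240) p2r1241

theorem p2r1242 : allRange pointOk 22 41868 9 = true := by decide +kernel
theorem p2u1242 : ∀ k, 30690 ≤ k → k < 41877 → pointOk (k * 22) = true := between_extend pointOk 22 30690 41868 9 (p2u1241) p2r1242

theorem p2r1243 : allRange pointOk 22 41877 9 = true := by decide +kernel
theorem p2u1243 : ∀ k, 30690 ≤ k → k < 41886 → pointOk (k * 22) = true := between_extend pointOk 22 30690 41877 9 (p2u1242) p2r1243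

theorem p2r1244 : allRange pointOk 22 41886 9 = true := by decide +kernel
theorem p2u1244 : ∀ k, 30690 ≤ k → k < 41895 → pointOk (k * 22) = true := between_extend pointOk 22 30690 41886 9 (p2u1243) p2r1244

theorem p2r1245 : allRange pointOk 22 41895 9 = true := by decide +kernel
theorem p2u1245 : ∀ k, 30690 ≤ k → k < 41904 → pointOk (k * 22) = true := between_extend pointOk 22 30690 41895 9 (p2u1244) p2r1245

theorem p2r1246 : allRange pointOk 22 41904 9 = true := by decide +kernel
theorem p2u1246 : ∀ k, 30690 ≤ k → k < 41913 → pointOk (k * 22) = true := between_extend pointOk 22 30690 41904 9 (p2u1245) p2r1246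

theorem p2r1247 : allRange pointOk 22 41913 9 = true := by decide +kernel
theorem p2u1247 : ∀ k, 30690 ≤ k → k < 41922 → pointOk (k * 22) = true := between_extend pointOk 22 30690 41913 9 (p2u1246) p2r1247

theorem p2r1248 : allRange pointOk 22 41922 9 = true := by decide +kernel
theorem p2u1248 : ∀ k, 30690 ≤ k → k < 41931 → pointOk (k * 22) = true := between_extend pointOk 22 30690 41922 9 (p2u1247) p2r1248

theorem p2r1249 : allRange pointOk 22 41931 9 = true := by decide +kernel
theorem p2u1249 : ∀ k, 30690 ≤ k → k < 41940 → pointOk (k * 22) = true := between_extend pointOk 22 30690 41931 9 (p2u1248) p2r1249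

theorem p2r1250 : allRange pointOk 22 41940 9 = true := by decide +kernel
theorem p2u1250 : ∀ k, 30690 ≤ k → k < 41949 → pointOk (k * 22) = true := between_extend pointOk 22 30690 41940 9 (p2u1249) p2r1250

theorem p2r1251 : allRange pointOk 22 41949 9 = true := by decide +kernel
theorem p2u1251 : ∀ k, 30690 ≤ k → k < 41958 → pointOk (k * 22) = true := between_extend pointOk 22 30690 41949 9 (p2u1250) p2r1251

theorem p2r1252 : allRange pointOk 22 41958 9 = true := by decide +kernel
theorem p2u1252 : ∀ k, 30690 ≤ k → k < 41967 → pointOk (k * 22) = true := between_extend pointOk 22 30690 41958 9 (p2u1251) p2r1252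

theorem p2r1253 : allRange pointOk 22 41967 9 = true := by decide +kernel
theorem p2u1253 : ∀ k, 30690 ≤ k → k < 41976 → pointOk (k * 22) = true := between_extend pointOk 22 30690 41967 9 (p2u1252) p2r1253

theorem p2r1254 : allRange pointOk 22 41976 9 = true := by decide +kernel
theorem p2u1254 : ∀ k, 30690 ≤ k → k < 41985 → pointOk (k * 22) = true := between_extend pointOk 22 30690 41976 9 (p2u1253) p2r1254

theorem p2r1255 : allRange pointOk 22 41985 9 = true := by decide +kernel
theorem p2u1255 : ∀ k, 30690 ≤ k → k < 41994 → pointOk (k * 22) = true := between_extend pointOk 22 30690 41985 9 (p2u1254) p2r1255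

theorem p2r1256 : allRange pointOk 22 41994 9 = true := by decide +kernel
theorem p2u1256 : ∀ k, 30690 ≤ k → k < 42003 → pointOk (k * 22) = true := between_extend pointOk 22 30690 41994 9 (p2u1255) p2r1256

theorem p2r1257 : allRange pointOk 22 42003 9 = true := by decide +kernel
theorem p2u1257 : ∀ k, 30690 ≤ k → k < 42012 → pointOk (k * 22) = true := between_extend pointOk 22 30690 42003 9 (p2u1256) p2r1257

theorem p2r1258 : allRange pointOk 22 42012 9 = true := by decide +kernel
theorem p2u1258 : ∀ k, 30690 ≤ k → k < 42021 → pointOk (k * 22) = true := between_extend pointOk 22 30690 42012 9 (p2u1257) p2r1258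

theorem p2r1259 : allRange pointOk 22 42021 9 = true := by decide +kernel
theorem p2u1259 : ∀ k, 30690 ≤ k → k < 42030 → pointOk (k * 22) = true := between_extend pointOk 22 30690 42021 9 (p2u1258) p2r1259

theorem p2r1260 : allRange pointOk 22 42030 9 = true := by decide +kernel
theorem p2u1260 : ∀ k, 30690 ≤ k → k < 42039 → pointOk (k * 22) = true := between_extend pointOk 22 30690 42030 9 (p2u1259) p2r1260

theorem p2r1261 : allRange pointOk 22 42039 9 = true := by decide +kernel
theorem p2u1261 : ∀ k, 30690 ≤ k → k < 42048 → pointOk (k * 22) = true := between_extend pointOk 22 30690 42039 9 (p2u1260) p2r1261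

theorem p2r1262 : allRange pointOk 22 42048 9 = true := by decide +kernel
theorem p2u1262 : ∀ k, 30690 ≤ k → k < 42057 → pointOk (k * 22) = true := between_extend pointOk 22 30690 42048 9 (p2u1261) p2r1262

theorem p2r1263 : allRange pointOk 22 42057 9 = true := by decide +kernel
theorem p2u1263 : ∀ k, 30690 ≤ k → k < 42066 → pointOk (k * 22) = true := between_extend pointOk 22 30690 42057 9 (p2u1262) p2r1263

theorem p2r1264 : allRange pointOk 22 42066 9 = true := by decide +kernel
theorem p2u1264 : ∀ k, 30690 ≤ k → k < 42075 → pointOk (k * 22) = true := between_extend pointOk 22 30690 42066 9 (p2u1263) p2r1264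

theorem p2r1265 : allRange pointOk 22 42075 9 = true := by decide +kernel
theorem p2u1265 : ∀ k, 30690 ≤ k → k < 42084 → pointOk (k * 22) = true := between_extend pointOk 22 30690 42075 9 (p2u1264) p2r1265

theorem p2r1266 : allRange pointOk 22 42084 9 = true := by decide +kernel
theorem p2u1266 : ∀ k, 30690 ≤ k → k < 42093 → pointOk (k * 22) = true := between_extend pointOk 22 30690 42084 9 (p2u1265) p2r1266

theorem p2r1267 : allRange pointOk 22 42093 9 = true := by decide +kernel
theorem p2u1267 : ∀ k, 30690 ≤ k → k < 42102 → pointOk (k * 22) = true := between_extend pointOk 22 30690 42093 9 (p2u1266) p2r1267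

theorem p2r1268 : allRange pointOk 22 42102 9 = true := by decide +kernel
theorem p2u1268 : ∀ k, 30690 ≤ k → k < 42111 → pointOk (k * 22) = true := between_extend pointOk 22 30690 42102 9 (p2u1267) p2r1268

theorem p2r1269 : allRange pointOk 22 42111 9 = true := by decide +kernel
theorem p2u1269 : ∀ k, 30690 ≤ k → k < 42120 → pointOk (k * 22) = true := between_extend pointOk 22 30690 42111 9 (p2u1268) p2r1269

theorem p2r1270 : allRange pointOk 22 42120 9 = true := by decide +kernel
theorem p2u1270 : ∀ k, 30690 ≤ k → k < 42129 → pointOk (k * 22) = true := between_extend pointOk 22 30690 42120 9 (p2u1269) p2r1270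

theorem p2r1271 : allRange pointOk 22 42129 9 = true := by decide +kernel
theorem p2u1271 : ∀ k, 30690 ≤ k → k < 42138 → pointOk (k * 22) = true := between_extend pointOk 22 30690 42129 9 (p2u1270) p2r1271

theorem p2r1272 : allRange pointOk 22 42138 9 = true := by decide +kernel
theorem p2u1272 : ∀ k, 30690 ≤ k → k < 42147 → pointOk (k * 22) = true := between_extend pointOk 22 30690 42138 9 (p2u1271) p2r1272

theorem p2r1273 : allRange pointOk 22 42147 9 = true := by decide +kernel
theorem p2u1273 : ∀ k, 30690 ≤ k → k < 42156 → pointOk (k * 22) = true := between_extend pointOk 22 30690 42147 9 (p2u1272) p2r1273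

theorem p2r1274 : allRange pointOk 22 42156 9 = true := by decide +kernel
theorem p2u1274 : ∀ k, 30690 ≤ k → k < 42165 → pointOk (k * 22) = true := between_extend pointOk 22 30690 42156 9 (p2u1273) p2r1274

theorem p2r1275 : allRange pointOk 22 42165 9 = true := by decide +kernel
theorem p2u1275 : ∀ k, 30690 ≤ k → k < 42174 → pointOk (k * 22) = true := between_extend pointOk 22 30690 42165 9 (p2u1274) p2r1275

theorem p2r1276 : allRange pointOk 22 42174 9 = true := by decide +kernel
theorem p2u1276 : ∀ k, 30690 ≤ k → k < 42183 → pointOk (k * 22) = true := between_extend pointOk 22 30690 42174 9 (p2u1275) p2r1276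

theorem p2r1277 : allRange pointOk 22 42183 9 = true := by decide +kernel
theorem p2u1277 : ∀ k, 30690 ≤ k → k < 42192 → pointOk (k * 22) = true := between_extend pointOk 22 30690 42183 9 (p2u1276) p2r1277

theorem p2r1278 : allRange pointOk 22 42192 9 = true := by decide +kernel
theorem p2u1278 : ∀ k, 30690 ≤ k → k < 42201 → pointOk (k * 22) = true := between_extend pointOk 22 30690 42192 9 (p2u1277) p2r1278

theorem p2r1279 : allRange pointOk 22 42201 9 = true := by decide +kernel
theorem p2u1279 : ∀ k, 30690 ≤ k → k < 42210 → pointOk (k * 22) = true := between_extend pointOk 22 30690 42201 9 (p2u1278) p2r1279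

theorem p2r1280 : allRange pointOk 22 42210 9 = true := by decide +kernel
theorem p2u1280 : ∀ k, 30690 ≤ k → k < 42219 → pointOk (k * 22) = true := between_extend pointOk 22 30690 42210 9 (p2u1279) p2r1280

theorem p2r1281 : allRange pointOk 22 42219 9 = true := by decide +kernel
theorem p2u1281 : ∀ k, 30690 ≤ k → k < 42228 → pointOk (k * 22) = true := between_extend pointOk 22 30690 42219 9 (p2u1280) p2r1281

theorem p2r1282 : allRange pointOk 22 42228 9 = true := by decide +kernel
theorem p2u1282 : ∀ k, 30690 ≤ k → k < 42237 → pointOk (k * 22) = true := between_extend pointOk 22 30690 42228 9 (p2u1281) p2r1282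

theorem p2r1283 : allRange pointOk 22 42237 9 = true := by decide +kernel
theorem p2u1283 : ∀ k, 30690 ≤ k → k < 42246 → pointOk (k * 22) = true := between_extend pointOk 22 30690 42237 9 (p2u1282) p2r1283

theorem p2r1284 : allRange pointOk 22 42246 9 = true := by decide +kernel
theorem p2u1284 : ∀ k, 30690 ≤ k → k < 42255 → pointOk (k * 22) = true := between_extend pointOk 22 30690 42246 9 (p2u1283) p2r1284

theorem p2r1285 : allRange pointOk 22 42255 9 = true := by decide +kernel
theorem p2u1285 : ∀ k, 30690 ≤ k → k < 42264 → pointOk (k * 22) = true := between_extend pointOk 22 30690 42255 9 (p2u1284) p2r1285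

theorem p2r1286 : allRange pointOk 22 42264 9 = true := by decide +kernel
theorem p2u1286 : ∀ k, 30690 ≤ k → k < 42273 → pointOk (k * 22) = true := between_extend pointOk 22 30690 42264 9 (p2u1285) p2r1286

theorem p2r1287 : allRange pointOk 22 42273 9 = true := by decide +kernel
theorem p2u1287 : ∀ k, 30690 ≤ k → k < 42282 → pointOk (k * 22) = true := between_extend pointOk 22 30690 42273 9 (p2u1286) p2r1287

theorem p2r1288 : allRange pointOk 22 42282 9 = true := by decide +kernel
theorem p2u1288 : ∀ k, 30690 ≤ k → k < 42291 → pointOk (k * 22) = true := between_extend pointOk 22 30690 42282 9 (p2u1287) p2r1288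

theorem p2r1289 : allRange pointOk 22 42291 9 = true := by decide +kernel
theorem p2u1289 : ∀ k, 30690 ≤ k → k < 42300 → pointOk (k * 22) = true := between_extend pointOk 22 30690 42291 9 (p2u1288) p2r1289

theorem p2r1290 : allRange pointOk 22 42300 9 = true := by decide +kernel
theorem p2u1290 : ∀ k, 30690 ≤ k → k < 42309 → pointOk (k * 22) = true := between_extend pointOk 22 30690 42300 9 (p2u1289) p2r1290

theorem p2r1291 : allRange pointOk 22 42309 9 = true := by decide +kernel
theorem p2u1291 : ∀ k, 30690 ≤ k → k < 42318 → pointOk (k * 22) = true := between_extend pointOk 22 30690 42309 9 (p2u1290) p2r1291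

theorem p2r1292 : allRange pointOk 22 42318 9 = true := by decide +kernel
theorem p2u1292 : ∀ k, 30690 ≤ k → k < 42327 → pointOk (k * 22) = true := between_extend pointOk 22 30690 42318 9 (p2u1291) p2r1292

theorem p2r1293 : allRange pointOk 22 42327 9 = true := by decide +kernel
theorem p2u1293 : ∀ k, 30690 ≤ k → k < 42336 → pointOk (k * 22) = true := between_extend pointOk 22 30690 42327 9 (p2u1292) p2r1293

theorem p2r1294 : allRange pointOk 22 42336 9 = true := by decide +kernel
theorem p2u1294 : ∀ k, 30690 ≤ k → k < 42345 → pointOk (k * 22) = true := between_extend pointOk 22 30690 42336 9 (p2u1293) p2r1294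

theorem p2r1295 : allRange pointOk 22 42345 9 = true := by decide +kernel
theorem p2u1295 : ∀ k, 30690 ≤ k → k < 42354 → pointOk (k * 22) = true := between_extend pointOk 22 30690 42345 9 (p2u1294) p2r1295

theorem p2r1296 : allRange pointOk 22 42354 9 = true := by decide +kernel
theorem p2u1296 : ∀ k, 30690 ≤ k → k < 42363 → pointOk (k * 22) = true := between_extend pointOk 22 30690 42354 9 (p2u1295) p2r1296

theorem p2r1297 : allRange pointOk 22 42363 9 = true := by decide +kernel
theorem p2u1297 : ∀ k, 30690 ≤ k → k < 42372 → pointOk (k * 22) = true := between_extend pointOk 22 30690 42363 9 (p2u1296) p2r1297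

theorem p2r1298 : allRange pointOk 22 42372 9 = true := by decide +kernel
theorem p2u1298 : ∀ k, 30690 ≤ k → k < 42381 → pointOk (k * 22) = true := between_extend pointOk 22 30690 42372 9 (p2u1297) p2r1298

theorem p2r1299 : allRange pointOk 22 42381 9 = true := by decide +kernel
theorem p2u1299 : ∀ k, 30690 ≤ k → k < 42390 → pointOk (k * 22) = true := between_extend pointOk 22 30690 42381 9 (p2u1298) p2r1299

theorem p2r1300 : allRange pointOk 22 42390 9 = true := by decide +kernel
theorem p2u1300 : ∀ k, 30690 ≤ k → k < 42399 → pointOk (k * 22) = true := between_extend pointOk 22 30690 42390 9 (p2u1299) p2r1300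

theorem p2r1301 : allRange pointOk 22 42399 9 = true := by decide +kernel
theorem p2u1301 : ∀ k, 30690 ≤ k → k < 42408 → pointOk (k * 22) = true := between_extend pointOk 22 30690 42399 9 (p2u1300) p2r1301

theorem p2r1302 : allRange pointOk 22 42408 9 = true := by decide +kernel
theorem p2u1302 : ∀ k, 30690 ≤ k → k < 42417 → pointOk (k * 22) = true := between_extend pointOk 22 30690 42408 9 (p2u1301) p2r1302

theorem p2r1303 : allRange pointOk 22 42417 9 = true := by decide +kernel
theorem p2u1303 : ∀ k, 30690 ≤ k → k < 42426 → pointOk (k * 22) = true := between_extend pointOk 22 30690 42417 9 (p2u1302) p2r1303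

theorem p2r1304 : allRange pointOk 22 42426 9 = true := by decide +kernel
theorem p2u1304 : ∀ k, 30690 ≤ k → k < 42435 → pointOk (k * 22) = true := between_extend pointOk 22 30690 42426 9 (p2u1303) p2r1304

theorem p2r1305 : allRange pointOk 22 42435 9 = true := by decide +kernel
theorem p2u1305 : ∀ k, 30690 ≤ k → k < 42444 → pointOk (k * 22) = true := between_extend pointOk 22 30690 42435 9 (p2u1304) p2r1305

theorem p2r1306 : allRange pointOk 22 42444 9 = true := by decide +kernel
theorem p2u1306 : ∀ k, 30690 ≤ k → k < 42453 → pointOk (k * 22) = true := between_extend pointOk 22 30690 42444 9 (p2u1305) p2r1306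

theorem p2r1307 : allRange pointOk 22 42453 9 = true := by decide +kernel
theorem p2u1307 : ∀ k, 30690 ≤ k → k < 42462 → pointOk (k * 22) = true := between_extend pointOk 22 30690 42453 9 (p2u1306) p2r1307

theorem p2r1308 : allRange pointOk 22 42462 9 = true := by decide +kernel
theorem p2u1308 : ∀ k, 30690 ≤ k → k < 42471 → pointOk (k * 22) = true := between_extend pointOk 22 30690 42462 9 (p2u1307) p2r1308

theorem p2r1309 : allRange pointOk 22 42471 9 = true := by decide +kernel
theorem p2u1309 : ∀ k, 30690 ≤ k → k < 42480 → pointOk (k * 22) = true := between_extend pointOk 22 30690 42471 9 (p2u1308) p2r1309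

theorem p2r1310 : allRange pointOk 22 42480 9 = true := by decide +kernel
theorem p2u1310 : ∀ k, 30690 ≤ k → k < 42489 → pointOk (k * 22) = true := between_extend pointOk 22 30690 42480 9 (p2u1309) p2r1310

theorem p2r1311 : allRange pointOk 22 42489 9 = true := by decide +kernel
theorem p2u1311 : ∀ k, 30690 ≤ k → k < 42498 → pointOk (k * 22) = true := between_extend pointOk 22 30690 42489 9 (p2u1310) p2r1311

theorem p2r1312 : allRange pointOk 22 42498 9 = true := by decide +kernel
theorem p2u1312 : ∀ k, 30690 ≤ k → k < 42507 → pointOk (k * 22) = true := between_extend pointOk 22 30690 42498 9 (p2u1311) p2r1312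

theorem p2r1313 : allRange pointOk 22 42507 9 = true := by decide +kernel
theorem p2u1313 : ∀ k, 30690 ≤ k → k < 42516 → pointOk (k * 22) = true := between_extend pointOk 22 30690 42507 9 (p2u1312) p2r1313

theorem p2r1314 : allRange pointOk 22 42516 9 = true := by decide +kernel
theorem p2u1314 : ∀ k, 30690 ≤ k → k < 42525 → pointOk (k * 22) = true := between_extend pointOk 22 30690 42516 9 (p2u1313) p2r1314

theorem p2r1315 : allRange pointOk 22 42525 9 = true := by decide +kernel
theorem p2u1315 : ∀ k, 30690 ≤ k → k < 42534 → pointOk (k * 22) = true := between_extend pointOk 22 30690 42525 9 (p2u1314) p2r1315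

theorem p2r1316 : allRange pointOk 22 42534 9 = true := by decide +kernel
theorem p2u1316 : ∀ k, 30690 ≤ k → k < 42543 → pointOk (k * 22) = true := between_extend pointOk 22 30690 42534 9 (p2u1315) p2r1316

theorem p2r1317 : allRange pointOk 22 42543 9 = true := by decide +kernel
theorem p2u1317 : ∀ k, 30690 ≤ k → k < 42552 → pointOk (k * 22) = true := between_extend pointOk 22 30690 42543 9 (p2u1316) p2r1317

theorem p2r1318 : allRange pointOk 22 42552 9 = true := by decide +kernel
theorem p2u1318 : ∀ k, 30690 ≤ k → k < 42561 → pointOk (k * 22) = true := between_extend pointOk 22 30690 42552 9 (p2u1317) p2r1318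

theorem p2r1319 : allRange pointOk 22 42561 9 = true := by decide +kernel
theorem p2u1319 : ∀ k, 30690 ≤ k → k < 42570 → pointOk (k * 22) = true := between_extend pointOk 22 30690 42561 9 (p2u1318) p2r1319

theorem p2r1320 : allRange pointOk 22 42570 9 = true := by decide +kernel
theorem p2u1320 : ∀ k, 30690 ≤ k → k < 42579 → pointOk (k * 22) = true := between_extend pointOk 22 30690 42570 9 (p2u1319) p2r1320

theorem p2r1321 : allRange pointOk 22 42579 9 = true := by decide +kernel
theorem p2u1321 : ∀ k, 30690 ≤ k → k < 42588 → pointOk (k * 22) = true := between_extend pointOk 22 30690 42579 9 (p2u1320) p2r1321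

theorem p2r1322 : allRange pointOk 22 42588 9 = true := by decide +kernel
theorem p2u1322 : ∀ k, 30690 ≤ k → k < 42597 → pointOk (k * 22) = true := between_extend pointOk 22 30690 42588 9 (p2u1321) p2r1322

theorem p2r1323 : allRange pointOk 22 42597 9 = true := by decide +kernel
theorem p2u1323 : ∀ k, 30690 ≤ k → k < 42606 → pointOk (k * 22) = true := between_extend pointOk 22 30690 42597 9 (p2u1322) p2r1323

theorem p2r1324 : allRange pointOk 22 42606 9 = true := by decide +kernel
theorem p2u1324 : ∀ k, 30690 ≤ k → k < 42615 → pointOk (k * 22) = true := between_extend pointOk 22 30690 42606 9 (p2u1323) p2r1324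

theorem p2r1325 : allRange pointOk 22 42615 9 = true := by decide +kernel
theorem p2u1325 : ∀ k, 30690 ≤ k → k < 42624 → pointOk (k * 22) = true := between_extend pointOk 22 30690 42615 9 (p2u1324) p2r1325

theorem p2r1326 : allRange pointOk 22 42624 9 = true := by decide +kernel
theorem p2u1326 : ∀ k, 30690 ≤ k → k < 42633 → pointOk (k * 22) = true := between_extend pointOk 22 30690 42624 9 (p2u1325) p2r1326

theorem p2r1327 : allRange pointOk 22 42633 9 = true := by decide +kernel
theorem p2u1327 : ∀ k, 30690 ≤ k → k < 42642 → pointOk (k * 22) = true := between_extend pointOk 22 30690 42633 9 (p2u1326) p2r1327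

theorem p2r1328 : allRange pointOk 22 42642 9 = true := by decide +kernel
theorem p2u1328 : ∀ k, 30690 ≤ k → k < 42651 → pointOk (k * 22) = true := between_extend pointOk 22 30690 42642 9 (p2u1327) p2r1328

theorem p2r1329 : allRange pointOk 22 42651 9 = true := by decide +kernel
theorem p2u1329 : ∀ k, 30690 ≤ k → k < 42660 → pointOk (k * 22) = true := between_extend pointOk 22 30690 42651 9 (p2u1328) p2r1329

theorem p2r1330 : allRange pointOk 22 42660 9 = true := by decide +kernel
theorem p2u1330 : ∀ k, 30690 ≤ k → k < 42669 → pointOk (k * 22) = true := between_extend pointOk 22 30690 42660 9 (p2u1329) p2r1330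

theorem p2r1331 : allRange pointOk 22 42669 9 = true := by decide +kernel
theorem p2u1331 : ∀ k, 30690 ≤ k → k < 42678 → pointOk (k * 22) = true := between_extend pointOk 22 30690 42669 9 (p2u1330) p2r1331

theorem p2r1332 : allRange pointOk 22 42678 9 = true := by decide +kernel
theorem p2u1332 : ∀ k, 30690 ≤ k → k < 42687 → pointOk (k * 22) = true := between_extend pointOk 22 30690 42678 9 (p2u1331) p2r1332

theorem p2r1333 : allRange pointOk 22 42687 9 = true := by decide +kernel
theorem p2u1333 : ∀ k, 30690 ≤ k → k < 42696 → pointOk (k * 22) = true := between_extend pointOk 22 30690 42687 9 (p2u1332) p2r1333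

theorem p2r1334 : allRange pointOk 22 42696 9 = true := by decide +kernel
theorem p2u1334 : ∀ k, 30690 ≤ k → k < 42705 → pointOk (k * 22) = true := between_extend pointOk 22 30690 42696 9 (p2u1333) p2r1334

theorem p2r1335 : allRange pointOk 22 42705 9 = true := by decide +kernel
theorem p2u1335 : ∀ k, 30690 ≤ k → k < 42714 → pointOk (k * 22) = true := between_extend pointOk 22 30690 42705 9 (p2u1334) p2r1335

theorem p2r1336 : allRange pointOk 22 42714 9 = true := by decide +kernel
theorem p2u1336 : ∀ k, 30690 ≤ k → k < 42723 → pointOk (k * 22) = true := between_extend pointOk 22 30690 42714 9 (p2u1335) p2r1336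

theorem p2r1337 : allRange pointOk 22 42723 9 = true := by decide +kernel
theorem p2u1337 : ∀ k, 30690 ≤ k → k < 42732 → pointOk (k * 22) = true := between_extend pointOk 22 30690 42723 9 (p2u1336) p2r1337

theorem p2r1338 : allRange pointOk 22 42732 9 = true := by decide +kernel
theorem p2u1338 : ∀ k, 30690 ≤ k → k < 42741 → pointOk (k * 22) = true := between_extend pointOk 22 30690 42732 9 (p2u1337) p2r1338

theorem p2r1339 : allRange pointOk 22 42741 9 = true := by decide +kernel
theorem p2u1339 : ∀ k, 30690 ≤ k → k < 42750 → pointOk (k * 22) = true := between_extend pointOk 22 30690 42741 9 (p2u1338) p2r1339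

theorem p2r1340 : allRange pointOk 22 42750 9 = true := by decide +kernel
theorem p2u1340 : ∀ k, 30690 ≤ k → k < 42759 → pointOk (k * 22) = true := between_extend pointOk 22 30690 42750 9 (p2u1339) p2r1340

theorem p2r1341 : allRange pointOk 22 42759 9 = true := by decide +kernel
theorem p2u1341 : ∀ k, 30690 ≤ k → k < 42768 → pointOk (k * 22) = true := between_extend pointOk 22 30690 42759 9 (p2u1340) p2r1341

theorem p2r1342 : allRange pointOk 22 42768 9 = true := by decide +kernel
theorem p2u1342 : ∀ k, 30690 ≤ k → k < 42777 → pointOk (k * 22) = true := between_extend pointOk 22 30690 42768 9 (p2u1341) p2r1342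

theorem p2r1343 : allRange pointOk 22 42777 9 = true := by decide +kernel
theorem p2u1343 : ∀ k, 30690 ≤ k → k < 42786 → pointOk (k * 22) = true := between_extend pointOk 22 30690 42777 9 (p2u1342) p2r1343

theorem p2r1344 : allRange pointOk 22 42786 9 = true := by decide +kernel
theorem p2u1344 : ∀ k, 30690 ≤ k → k < 42795 → pointOk (k * 22) = true := between_extend pointOk 22 30690 42786 9 (p2u1343) p2r1344

theorem p2r1345 : allRange pointOk 22 42795 9 = true := by decide +kernel
theorem p2u1345 : ∀ k, 30690 ≤ k → k < 42804 → pointOk (k * 22) = true := between_extend pointOk 22 30690 42795 9 (p2u1344) p2r1345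

theorem p2r1346 : allRange pointOk 22 42804 9 = true := by decide +kernel
theorem p2u1346 : ∀ k, 30690 ≤ k → k < 42813 → pointOk (k * 22) = true := between_extend pointOk 22 30690 42804 9 (p2u1345) p2r1346

theorem p2r1347 : allRange pointOk 22 42813 9 = true := by decide +kernel
theorem p2u1347 : ∀ k, 30690 ≤ k → k < 42822 → pointOk (k * 22) = true := between_extend pointOk 22 30690 42813 9 (p2u1346) p2r1347

theorem p2r1348 : allRange pointOk 22 42822 9 = true := by decide +kernel
theorem p2u1348 : ∀ k, 30690 ≤ k → k < 42831 → pointOk (k * 22) = true := between_extend pointOk 22 30690 42822 9 (p2u1347) p2r1348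

theorem p2r1349 : allRange pointOk 22 42831 9 = true := by decide +kernel
theorem p2u1349 : ∀ k, 30690 ≤ k → k < 42840 → pointOk (k * 22) = true := between_extend pointOk 22 30690 42831 9 (p2u1348) p2r1349

theorem p2r1350 : allRange pointOk 22 42840 9 = true := by decide +kernel
theorem p2u1350 : ∀ k, 30690 ≤ k → k < 42849 → pointOk (k * 22) = true := between_extend pointOk 22 30690 42840 9 (p2u1349) p2r1350

theorem p2r1351 : allRange pointOk 22 42849 9 = true := by decide +kernel
theorem p2u1351 : ∀ k, 30690 ≤ k → k < 42858 → pointOk (k * 22) = true := between_extend pointOk 22 30690 42849 9 (p2u1350) p2r1351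

theorem p2r1352 : allRange pointOk 22 42858 9 = true := by decide +kernel
theorem p2u1352 : ∀ k, 30690 ≤ k → k < 42867 → pointOk (k * 22) = true := between_extend pointOk 22 30690 42858 9 (p2u1351) p2r1352

theorem p2r1353 : allRange pointOk 22 42867 9 = true := by decide +kernel
theorem p2u1353 : ∀ k, 30690 ≤ k → k < 42876 → pointOk (k * 22) = true := between_extend pointOk 22 30690 42867 9 (p2u1352) p2r1353

theorem p2r1354 : allRange pointOk 22 42876 9 = true := by decide +kernel
theorem p2u1354 : ∀ k, 30690 ≤ k → k < 42885 → pointOk (k * 22) = true := between_extend pointOk 22 30690 42876 9 (p2u1353) p2r1354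

theorem p2r1355 : allRange pointOk 22 42885 9 = true := by decide +kernel
theorem p2u1355 : ∀ k, 30690 ≤ k → k < 42894 → pointOk (k * 22) = true := between_extend pointOk 22 30690 42885 9 (p2u1354) p2r1355

theorem p2r1356 : allRange pointOk 22 42894 9 = true := by decide +kernel
theorem p2u1356 : ∀ k, 30690 ≤ k → k < 42903 → pointOk (k * 22) = true := between_extend pointOk 22 30690 42894 9 (p2u1355) p2r1356

theorem p2r1357 : allRange pointOk 22 42903 9 = true := by decide +kernel
theorem p2u1357 : ∀ k, 30690 ≤ k → k < 42912 → pointOk (k * 22) = true := between_extend pointOk 22 30690 42903 9 (p2u1356) p2r1357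

theorem p2r1358 : allRange pointOk 22 42912 9 = true := by decide +kernel
theorem p2u1358 : ∀ k, 30690 ≤ k → k < 42921 → pointOk (k * 22) = true := between_extend pointOk 22 30690 42912 9 (p2u1357) p2r1358

theorem p2r1359 : allRange pointOk 22 42921 9 = true := by decide +kernel
theorem p2u1359 : ∀ k, 30690 ≤ k → k < 42930 → pointOk (k * 22) = true := between_extend pointOk 22 30690 42921 9 (p2u1358) p2r1359

theorem p2r1360 : allRange pointOk 22 42930 9 = true := by decide +kernel
theorem p2u1360 : ∀ k, 30690 ≤ k → k < 42939 → pointOk (k * 22) = true := between_extend pointOk 22 30690 42930 9 (p2u1359) p2r1360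

theorem p2r1361 : allRange pointOk 22 42939 9 = true := by decide +kernel
theorem p2u1361 : ∀ k, 30690 ≤ k → k < 42948 → pointOk (k * 22) = true := between_extend pointOk 22 30690 42939 9 (p2u1360) p2r1361

theorem p2r1362 : allRange pointOk 22 42948 9 = true := by decide +kernel
theorem p2u1362 : ∀ k, 30690 ≤ k → k < 42957 → pointOk (k * 22) = true := between_extend pointOk 22 30690 42948 9 (p2u1361) p2r1362

theorem p2r1363 : allRange pointOk 22 42957 9 = true := by decide +kernel
theorem p2u1363 : ∀ k, 30690 ≤ k → k < 42966 → pointOk (k * 22) = true := between_extend pointOk 22 30690 42957 9 (p2u1362) p2r1363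

theorem p2r1364 : allRange pointOk 22 42966 9 = true := by decide +kernel
theorem p2u1364 : ∀ k, 30690 ≤ k → k < 42975 → pointOk (k * 22) = true := between_extend pointOk 22 30690 42966 9 (p2u1363) p2r1364

theorem p2r1365 : allRange pointOk 22 42975 9 = true := by decide +kernel
theorem p2u1365 : ∀ k, 30690 ≤ k → k < 42984 → pointOk (k * 22) = true := between_extend pointOk 22 30690 42975 9 (p2u1364) p2r1365

theorem p2r1366 : allRange pointOk 22 42984 9 = true := by decide +kernel
theorem p2u1366 : ∀ k, 30690 ≤ k → k < 42993 → pointOk (k * 22) = true := between_extend pointOk 22 30690 42984 9 (p2u1365) p2r1366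

theorem p2r1367 : allRange pointOk 22 42993 9 = true := by decide +kernel
theorem p2u1367 : ∀ k, 30690 ≤ k → k < 43002 → pointOk (k * 22) = true := between_extend pointOk 22 30690 42993 9 (p2u1366) p2r1367

theorem p2r1368 : allRange pointOk 22 43002 9 = true := by decide +kernel
theorem p2u1368 : ∀ k, 30690 ≤ k → k < 43011 → pointOk (k * 22) = true := between_extend pointOk 22 30690 43002 9 (p2u1367) p2r1368

theorem p2r1369 : allRange pointOk 22 43011 9 = true := by decide +kernel
theorem p2u1369 : ∀ k, 30690 ≤ k → k < 43020 → pointOk (k * 22) = true := between_extend pointOk 22 30690 43011 9 (p2u1368) p2r1369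

theorem p2r1370 : allRange pointOk 22 43020 9 = true := by decide +kernel
theorem p2u1370 : ∀ k, 30690 ≤ k → k < 43029 → pointOk (k * 22) = true := between_extend pointOk 22 30690 43020 9 (p2u1369) p2r1370

theorem p2r1371 : allRange pointOk 22 43029 9 = true := by decide +kernel
theorem p2u1371 : ∀ k, 30690 ≤ k → k < 43038 → pointOk (k * 22) = true := between_extend pointOk 22 30690 43029 9 (p2u1370) p2r1371

theorem p2r1372 : allRange pointOk 22 43038 9 = true := by decide +kernel
theorem p2u1372 : ∀ k, 30690 ≤ k → k < 43047 → pointOk (k * 22) = true := between_extend pointOk 22 30690 43038 9 (p2u1371) p2r1372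

theorem p2r1373 : allRange pointOk 22 43047 9 = true := by decide +kernel
theorem p2u1373 : ∀ k, 30690 ≤ k → k < 43056 → pointOk (k * 22) = true := between_extend pointOk 22 30690 43047 9 (p2u1372) p2r1373

theorem p2r1374 : allRange pointOk 22 43056 9 = true := by decide +kernel
theorem p2u1374 : ∀ k, 30690 ≤ k → k < 43065 → pointOk (k * 22) = true := between_extend pointOk 22 30690 43056 9 (p2u1373) p2r1374

theorem p2r1375 : allRange pointOk 22 43065 9 = true := by decide +kernel
theorem p2u1375 : ∀ k, 30690 ≤ k → k < 43074 → pointOk (k * 22) = true := between_extend pointOk 22 30690 43065 9 (p2u1374) p2r1375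

theorem p2r1376 : allRange pointOk 22 43074 9 = true := by decide +kernel
theorem p2u1376 : ∀ k, 30690 ≤ k → k < 43083 → pointOk (k * 22) = true := between_extend pointOk 22 30690 43074 9 (p2u1375) p2r1376

theorem p2r1377 : allRange pointOk 22 43083 9 = true := by decide +kernel
theorem p2u1377 : ∀ k, 30690 ≤ k → k < 43092 → pointOk (k * 22) = true := between_extend pointOk 22 30690 43083 9 (p2u1376) p2r1377

theorem p2r1378 : allRange pointOk 22 43092 9 = true := by decide +kernel
theorem p2u1378 : ∀ k, 30690 ≤ k → k < 43101 → pointOk (k * 22) = true := between_extend pointOk 22 30690 43092 9 (p2u1377) p2r1378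

theorem p2r1379 : allRange pointOk 22 43101 9 = true := by decide +kernel
theorem p2u1379 : ∀ k, 30690 ≤ k → k < 43110 → pointOk (k * 22) = true := between_extend pointOk 22 30690 43101 9 (p2u1378) p2r1379

theorem p2r1380 : allRange pointOk 22 43110 9 = true := by decide +kernel
theorem p2u1380 : ∀ k, 30690 ≤ k → k < 43119 → pointOk (k * 22) = true := between_extend pointOk 22 30690 43110 9 (p2u1379) p2r1380

theorem p2r1381 : allRange pointOk 22 43119 9 = true := by decide +kernel
theorem p2u1381 : ∀ k, 30690 ≤ k → k < 43128 → pointOk (k * 22) = true := between_extend pointOk 22 30690 43119 9 (p2u1380) p2r1381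

theorem p2r1382 : allRange pointOk 22 43128 9 = true := by decide +kernel
theorem p2u1382 : ∀ k, 30690 ≤ k → k < 43137 → pointOk (k * 22) = true := between_extend pointOk 22 30690 43128 9 (p2u1381) p2r1382

theorem p2r1383 : allRange pointOk 22 43137 9 = true := by decide +kernel
theorem p2u1383 : ∀ k, 30690 ≤ k → k < 43146 → pointOk (k * 22) = true := between_extend pointOk 22 30690 43137 9 (p2u1382) p2r1383

theorem p2r1384 : allRange pointOk 22 43146 9 = true := by decide +kernel
theorem p2u1384 : ∀ k, 30690 ≤ k → k < 43155 → pointOk (k * 22) = true := between_extend pointOk 22 30690 43146 9 (p2u1383) p2r1384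

theorem p2r1385 : allRange pointOk 22 43155 9 = true := by decide +kernel
theorem p2u1385 : ∀ k, 30690 ≤ k → k < 43164 → pointOk (k * 22) = true := between_extend pointOk 22 30690 43155 9 (p2u1384) p2r1385

theorem p2r1386 : allRange pointOk 22 43164 9 = true := by decide +kernel
theorem p2u1386 : ∀ k, 30690 ≤ k → k < 43173 → pointOk (k * 22) = true := between_extend pointOk 22 30690 43164 9 (p2u1385) p2r1386

theorem p2r1387 : allRange pointOk 22 43173 9 = true := by decide +kernel
theorem p2u1387 : ∀ k, 30690 ≤ k → k < 43182 → pointOk (k * 22) = true := between_extend pointOk 22 30690 43173 9 (p2u1386) p2r1387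

theorem p2r1388 : allRange pointOk 22 43182 9 = true := by decide +kernel
theorem p2u1388 : ∀ k, 30690 ≤ k → k < 43191 → pointOk (k * 22) = true := between_extend pointOk 22 30690 43182 9 (p2u1387) p2r1388

theorem p2r1389 : allRange pointOk 22 43191 9 = true := by decide +kernel
theorem p2u1389 : ∀ k, 30690 ≤ k → k < 43200 → pointOk (k * 22) = true := between_extend pointOk 22 30690 43191 9 (p2u1388) p2r1389

theorem p2r1390 : allRange pointOk 22 43200 9 = true := by decide +kernel
theorem p2u1390 : ∀ k, 30690 ≤ k → k < 43209 → pointOk (k * 22) = true := between_extend pointOk 22 30690 43200 9 (p2u1389) p2r1390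

theorem p2r1391 : allRange pointOk 22 43209 9 = true := by decide +kernel
theorem p2u1391 : ∀ k, 30690 ≤ k → k < 43218 → pointOk (k * 22) = true := between_extend pointOk 22 30690 43209 9 (p2u1390) p2r1391

theorem p2r1392 : allRange pointOk 22 43218 9 = true := by decide +kernel
theorem p2u1392 : ∀ k, 30690 ≤ k → k < 43227 → pointOk (k * 22) = true := between_extend pointOk 22 30690 43218 9 (p2u1391) p2r1392

theorem p2r1393 : allRange pointOk 22 43227 9 = true := by decide +kernel
theorem p2u1393 : ∀ k, 30690 ≤ k → k < 43236 → pointOk (k * 22) = true := between_extend pointOk 22 30690 43227 9 (p2u1392) p2r1393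

theorem p2r1394 : allRange pointOk 22 43236 9 = true := by decide +kernel
theorem p2u1394 : ∀ k, 30690 ≤ k → k < 43245 → pointOk (k * 22) = true := between_extend pointOk 22 30690 43236 9 (p2u1393) p2r1394

theorem p2r1395 : allRange pointOk 22 43245 9 = true := by decide +kernel
theorem p2u1395 : ∀ k, 30690 ≤ k → k < 43254 → pointOk (k * 22) = true := between_extend pointOk 22 30690 43245 9 (p2u1394) p2r1395

theorem p2r1396 : allRange pointOk 22 43254 9 = true := by decide +kernel
theorem p2u1396 : ∀ k, 30690 ≤ k → k < 43263 → pointOk (k * 22) = true := between_extend pointOk 22 30690 43254 9 (p2u1395) p2r1396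

theorem p2r1397 : allRange pointOk 22 43263 9 = true := by decide +kernel
theorem p2u1397 : ∀ k, 30690 ≤ k → k < 43272 → pointOk (k * 22) = true := between_extend pointOk 22 30690 43263 9 (p2u1396) p2r1397

theorem p2r1398 : allRange pointOk 22 43272 9 = true := by decide +kernel
theorem p2u1398 : ∀ k, 30690 ≤ k → k < 43281 → pointOk (k * 22) = true := between_extend pointOk 22 30690 43272 9 (p2u1397) p2r1398

theorem p2r1399 : allRange pointOk 22 43281 9 = true := by decide +kernel
theorem p2u1399 : ∀ k, 30690 ≤ k → k < 43290 → pointOk (k * 22) = true := between_extend pointOk 22 30690 43281 9 (p2u1398) p2r1399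

theorem p2r1400 : allRange pointOk 22 43290 9 = true := by decide +kernel
theorem p2u1400 : ∀ k, 30690 ≤ k → k < 43299 → pointOk (k * 22) = true := between_extend pointOk 22 30690 43290 9 (p2u1399) p2r1400

theorem p2r1401 : allRange pointOk 22 43299 9 = true := by decide +kernel
theorem p2u1401 : ∀ k, 30690 ≤ k → k < 43308 → pointOk (k * 22) = true := between_extend pointOk 22 30690 43299 9 (p2u1400) p2r1401

theorem p2r1402 : allRange pointOk 22 43308 9 = true := by decide +kernel
theorem p2u1402 : ∀ k, 30690 ≤ k → k < 43317 → pointOk (k * 22) = true := between_extend pointOk 22 30690 43308 9 (p2u1401) p2r1402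

theorem p2r1403 : allRange pointOk 22 43317 9 = true := by decide +kernel
theorem p2u1403 : ∀ k, 30690 ≤ k → k < 43326 → pointOk (k * 22) = true := between_extend pointOk 22 30690 43317 9 (p2u1402) p2r1403

theorem p2r1404 : allRange pointOk 22 43326 9 = true := by decide +kernel
theorem p2u1404 : ∀ k, 30690 ≤ k → k < 43335 → pointOk (k * 22) = true := between_extend pointOk 22 30690 43326 9 (p2u1403) p2r1404

theorem p2r1405 : allRange pointOk 22 43335 9 = true := by decide +kernel
theorem p2u1405 : ∀ k, 30690 ≤ k → k < 43344 → pointOk (k * 22) = true := between_extend pointOk 22 30690 43335 9 (p2u1404) p2r1405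

theorem p2r1406 : allRange pointOk 22 43344 9 = true := by decide +kernel
theorem p2u1406 : ∀ k, 30690 ≤ k → k < 43353 → pointOk (k * 22) = true := between_extend pointOk 22 30690 43344 9 (p2u1405) p2r1406

theorem p2r1407 : allRange pointOk 22 43353 9 = true := by decide +kernel
theorem p2u1407 : ∀ k, 30690 ≤ k → k < 43362 → pointOk (k * 22) = true := between_extend pointOk 22 30690 43353 9 (p2u1406) p2r1407

theorem p2r1408 : allRange pointOk 22 43362 9 = true := by decide +kernel
theorem p2u1408 : ∀ k, 30690 ≤ k → k < 43371 → pointOk (k * 22) = true := between_extend pointOk 22 30690 43362 9 (p2u1407) p2r1408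

theorem p2r1409 : allRange pointOk 22 43371 9 = true := by decide +kernel
theorem p2u1409 : ∀ k, 30690 ≤ k → k < 43380 → pointOk (k * 22) = true := between_extend pointOk 22 30690 43371 9 (p2u1408) p2r1409

theorem p2r1410 : allRange pointOk 22 43380 9 = true := by decide +kernel
theorem p2u1410 : ∀ k, 30690 ≤ k → k < 43389 → pointOk (k * 22) = true := between_extend pointOk 22 30690 43380 9 (p2u1409) p2r1410

theorem p2r1411 : allRange pointOk 22 43389 9 = true := by decide +kernel
theorem p2u1411 : ∀ k, 30690 ≤ k → k < 43398 → pointOk (k * 22) = true := between_extend pointOk 22 30690 43389 9 (p2u1410) p2r1411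

theorem p2r1412 : allRange pointOk 22 43398 9 = true := by decide +kernel
theorem p2u1412 : ∀ k, 30690 ≤ k → k < 43407 → pointOk (k * 22) = true := between_extend pointOk 22 30690 43398 9 (p2u1411) p2r1412

theorem p2r1413 : allRange pointOk 22 43407 9 = true := by decide +kernel
theorem p2u1413 : ∀ k, 30690 ≤ k → k < 43416 → pointOk (k * 22) = true := between_extend pointOk 22 30690 43407 9 (p2u1412) p2r1413

theorem p2r1414 : allRange pointOk 22 43416 9 = true := by decide +kernel
theorem p2u1414 : ∀ k, 30690 ≤ k → k < 43425 → pointOk (k * 22) = true := between_extend pointOk 22 30690 43416 9 (p2u1413) p2r1414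

theorem p2r1415 : allRange pointOk 22 43425 9 = true := by decide +kernel
theorem p2u1415 : ∀ k, 30690 ≤ k → k < 43434 → pointOk (k * 22) = true := between_extend pointOk 22 30690 43425 9 (p2u1414) p2r1415

theorem p2r1416 : allRange pointOk 22 43434 9 = true := by decide +kernel
theorem p2u1416 : ∀ k, 30690 ≤ k → k < 43443 → pointOk (k * 22) = true := between_extend pointOk 22 30690 43434 9 (p2u1415) p2r1416

theorem p2r1417 : allRange pointOk 22 43443 9 = true := by decide +kernel
theorem p2u1417 : ∀ k, 30690 ≤ k → k < 43452 → pointOk (k * 22) = true := between_extend pointOk 22 30690 43443 9 (p2u1416) p2r1417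

theorem p2r1418 : allRange pointOk 22 43452 9 = true := by decide +kernel
theorem p2u1418 : ∀ k, 30690 ≤ k → k < 43461 → pointOk (k * 22) = true := between_extend pointOk 22 30690 43452 9 (p2u1417) p2r1418

theorem p2r1419 : allRange pointOk 22 43461 9 = true := by decide +kernel
theorem p2u1419 : ∀ k, 30690 ≤ k → k < 43470 → pointOk (k * 22) = true := between_extend pointOk 22 30690 43461 9 (p2u1418) p2r1419

theorem p2r1420 : allRange pointOk 22 43470 9 = true := by decide +kernel
theorem p2u1420 : ∀ k, 30690 ≤ k → k < 43479 → pointOk (k * 22) = true := between_extend pointOk 22 30690 43470 9 (p2u1419) p2r1420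

theorem p2r1421 : allRange pointOk 22 43479 9 = true := by decide +kernel
theorem p2u1421 : ∀ k, 30690 ≤ k → k < 43488 → pointOk (k * 22) = true := between_extend pointOk 22 30690 43479 9 (p2u1420) p2r1421

theorem p2r1422 : allRange pointOk 22 43488 9 = true := by decide +kernel
theorem p2u1422 : ∀ k, 30690 ≤ k → k < 43497 → pointOk (k * 22) = true := between_extend pointOk 22 30690 43488 9 (p2u1421) p2r1422

theorem p2r1423 : allRange pointOk 22 43497 9 = true := by decide +kernel
theorem p2u1423 : ∀ k, 30690 ≤ k → k < 43506 → pointOk (k * 22) = true := between_extend pointOk 22 30690 43497 9 (p2u1422) p2r1423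

theorem p2r1424 : allRange pointOk 22 43506 9 = true := by decide +kernel
theorem p2u1424 : ∀ k, 30690 ≤ k → k < 43515 → pointOk (k * 22) = true := between_extend pointOk 22 30690 43506 9 (p2u1423) p2r1424

theorem p2r1425 : allRange pointOk 22 43515 9 = true := by decide +kernel
theorem p2u1425 : ∀ k, 30690 ≤ k → k < 43524 → pointOk (k * 22) = true := between_extend pointOk 22 30690 43515 9 (p2u1424) p2r1425

theorem p2r1426 : allRange pointOk 22 43524 9 = true := by decide +kernel
theorem p2u1426 : ∀ k, 30690 ≤ k → k < 43533 → pointOk (k * 22) = true := between_extend pointOk 22 30690 43524 9 (p2u1425) p2r1426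

theorem p2r1427 : allRange pointOk 22 43533 9 = true := by decide +kernel
theorem p2u1427 : ∀ k, 30690 ≤ k → k < 43542 → pointOk (k * 22) = true := between_extend pointOk 22 30690 43533 9 (p2u1426) p2r1427

theorem p2r1428 : allRange pointOk 22 43542 9 = true := by decide +kernel
theorem p2u1428 : ∀ k, 30690 ≤ k → k < 43551 → pointOk (k * 22) = true := between_extend pointOk 22 30690 43542 9 (p2u1427) p2r1428

theorem p2r1429 : allRange pointOk 22 43551 9 = true := by decide +kernel
theorem p2u1429 : ∀ k, 30690 ≤ k → k < 43560 → pointOk (k * 22) = true := between_extend pointOk 22 30690 43551 9 (p2u1428) p2r1429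

theorem p2r1430 : allRange pointOk 22 43560 9 = true := by decide +kernel
theorem p2u1430 : ∀ k, 30690 ≤ k → k < 43569 → pointOk (k * 22) = true := between_extend pointOk 22 30690 43560 9 (p2u1429) p2r1430

theorem p2r1431 : allRange pointOk 22 43569 9 = true := by decide +kernel
theorem p2u1431 : ∀ k, 30690 ≤ k → k < 43578 → pointOk (k * 22) = true := between_extend pointOk 22 30690 43569 9 (p2u1430) p2r1431

theorem p2r1432 : allRange pointOk 22 43578 9 = true := by decide +kernel
theorem p2u1432 : ∀ k, 30690 ≤ k → k < 43587 → pointOk (k * 22) = true := between_extend pointOk 22 30690 43578 9 (p2u1431) p2r1432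

theorem p2r1433 : allRange pointOk 22 43587 9 = true := by decide +kernel
theorem p2u1433 : ∀ k, 30690 ≤ k → k < 43596 → pointOk (k * 22) = true := between_extend pointOk 22 30690 43587 9 (p2u1432) p2r1433

theorem p2r1434 : allRange pointOk 22 43596 9 = true := by decide +kernel
theorem p2u1434 : ∀ k, 30690 ≤ k → k < 43605 → pointOk (k * 22) = true := between_extend pointOk 22 30690 43596 9 (p2u1433) p2r1434

theorem p2r1435 : allRange pointOk 22 43605 9 = true := by decide +kernel
theorem p2u1435 : ∀ k, 30690 ≤ k → k < 43614 → pointOk (k * 22) = true := between_extend pointOk 22 30690 43605 9 (p2u1434) p2r1435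

theorem p2r1436 : allRange pointOk 22 43614 9 = true := by decide +kernel
theorem p2u1436 : ∀ k, 30690 ≤ k → k < 43623 → pointOk (k * 22) = true := between_extend pointOk 22 30690 43614 9 (p2u1435) p2r1436

theorem p2r1437 : allRange pointOk 22 43623 9 = true := by decide +kernel
theorem p2u1437 : ∀ k, 30690 ≤ k → k < 43632 → pointOk (k * 22) = true := between_extend pointOk 22 30690 43623 9 (p2u1436) p2r1437

theorem p2r1438 : allRange pointOk 22 43632 9 = true := by decide +kernel
theorem p2u1438 : ∀ k, 30690 ≤ k → k < 43641 → pointOk (k * 22) = true := between_extend pointOk 22 30690 43632 9 (p2u1437) p2r1438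

theorem p2r1439 : allRange pointOk 22 43641 9 = true := by decide +kernel
theorem p2u1439 : ∀ k, 30690 ≤ k → k < 43650 → pointOk (k * 22) = true := between_extend pointOk 22 30690 43641 9 (p2u1438) p2r1439

theorem p2r1440 : allRange pointOk 22 43650 9 = true := by decide +kernel
theorem p2u1440 : ∀ k, 30690 ≤ k → k < 43659 → pointOk (k * 22) = true := between_extend pointOk 22 30690 43650 9 (p2u1439) p2r1440

theorem p2r1441 : allRange pointOk 22 43659 9 = true := by decide +kernel
theorem p2u1441 : ∀ k, 30690 ≤ k → k < 43668 → pointOk (k * 22) = true := between_extend pointOk 22 30690 43659 9 (p2u1440) p2r1441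

theorem p2r1442 : allRange pointOk 22 43668 9 = true := by decide +kernel
theorem p2u1442 : ∀ k, 30690 ≤ k → k < 43677 → pointOk (k * 22) = true := between_extend pointOk 22 30690 43668 9 (p2u1441) p2r1442

theorem p2r1443 : allRange pointOk 22 43677 9 = true := by decide +kernel
theorem p2u1443 : ∀ k, 30690 ≤ k → k < 43686 → pointOk (k * 22) = true := between_extend pointOk 22 30690 43677 9 (p2u1442) p2r1443

theorem p2r1444 : allRange pointOk 22 43686 9 = true := by decide +kernel
theorem p2u1444 : ∀ k, 30690 ≤ k → k < 43695 → pointOk (k * 22) = true := between_extend pointOk 22 30690 43686 9 (p2u1443) p2r1444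

theorem p2r1445 : allRange pointOk 22 43695 9 = true := by decide +kernel
theorem p2u1445 : ∀ k, 30690 ≤ k → k < 43704 → pointOk (k * 22) = true := between_extend pointOk 22 30690 43695 9 (p2u1444) p2r1445

theorem p2r1446 : allRange pointOk 22 43704 9 = true := by decide +kernel
theorem p2u1446 : ∀ k, 30690 ≤ k → k < 43713 → pointOk (k * 22) = true := between_extend pointOk 22 30690 43704 9 (p2u1445) p2r1446

theorem p2r1447 : allRange pointOk 22 43713 9 = true := by decide +kernel
theorem p2u1447 : ∀ k, 30690 ≤ k → k < 43722 → pointOk (k * 22) = true := between_extend pointOk 22 30690 43713 9 (p2u1446) p2r1447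

theorem p2r1448 : allRange pointOk 22 43722 9 = true := by decide +kernel
theorem p2u1448 : ∀ k, 30690 ≤ k → k < 43731 → pointOk (k * 22) = true := between_extend pointOk 22 30690 43722 9 (p2u1447) p2r1448

theorem p2r1449 : allRange pointOk 22 43731 9 = true := by decide +kernel
theorem p2u1449 : ∀ k, 30690 ≤ k → k < 43740 → pointOk (k * 22) = true := between_extend pointOk 22 30690 43731 9 (p2u1448) p2r1449

theorem p2r1450 : allRange pointOk 22 43740 9 = true := by decide +kernel
theorem p2u1450 : ∀ k, 30690 ≤ k → k < 43749 → pointOk (k * 22) = true := between_extend pointOk 22 30690 43740 9 (p2u1449) p2r1450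

theorem p2r1451 : allRange pointOk 22 43749 9 = true := by decide +kernel
theorem p2u1451 : ∀ k, 30690 ≤ k → k < 43758 → pointOk (k * 22) = true := between_extend pointOk 22 30690 43749 9 (p2u1450) p2r1451

theorem p2r1452 : allRange pointOk 22 43758 9 = true := by decide +kernel
theorem p2u1452 : ∀ k, 30690 ≤ k → k < 43767 → pointOk (k * 22) = true := between_extend pointOk 22 30690 43758 9 (p2u1451) p2r1452

theorem p2r1453 : allRange pointOk 22 43767 9 = true := by decide +kernel
theorem p2u1453 : ∀ k, 30690 ≤ k → k < 43776 → pointOk (k * 22) = true := between_extend pointOk 22 30690 43767 9 (p2u1452) p2r1453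

theorem p2r1454 : allRange pointOk 22 43776 9 = true := by decide +kernel
theorem p2u1454 : ∀ k, 30690 ≤ k → k < 43785 → pointOk (k * 22) = true := between_extend pointOk 22 30690 43776 9 (p2u1453) p2r1454

theorem p2r1455 : allRange pointOk 22 43785 9 = true := by decide +kernel
theorem p2u1455 : ∀ k, 30690 ≤ k → k < 43794 → pointOk (k * 22) = true := between_extend pointOk 22 30690 43785 9 (p2u1454) p2r1455

theorem p2r1456 : allRange pointOk 22 43794 9 = true := by decide +kernel
theorem p2u1456 : ∀ k, 30690 ≤ k → k < 43803 → pointOk (k * 22) = true := between_extend pointOk 22 30690 43794 9 (p2u1455) p2r1456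

theorem p2r1457 : allRange pointOk 22 43803 9 = true := by decide +kernel
theorem p2u1457 : ∀ k, 30690 ≤ k → k < 43812 → pointOk (k * 22) = true := between_extend pointOk 22 30690 43803 9 (p2u1456) p2r1457

theorem p2r1458 : allRange pointOk 22 43812 9 = true := by decide +kernel
theorem p2u1458 : ∀ k, 30690 ≤ k → k < 43821 → pointOk (k * 22) = true := between_extend pointOk 22 30690 43812 9 (p2u1457) p2r1458

theorem p2r1459 : allRange pointOk 22 43821 9 = true := by decide +kernel
theorem p2u1459 : ∀ k, 30690 ≤ k → k < 43830 → pointOk (k * 22) = true := between_extend pointOk 22 30690 43821 9 (p2u1458) p2r1459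

theorem p2r1460 : allRange pointOk 22 43830 9 = true := by decide +kernel
theorem p2u1460 : ∀ k, 30690 ≤ k → k < 43839 → pointOk (k * 22) = true := between_extend pointOk 22 30690 43830 9 (p2u1459) p2r1460

theorem p2r1461 : allRange pointOk 22 43839 9 = true := by decide +kernel
theorem p2u1461 : ∀ k, 30690 ≤ k → k < 43848 → pointOk (k * 22) = true := between_extend pointOk 22 30690 43839 9 (p2u1460) p2r1461

theorem p2r1462 : allRange pointOk 22 43848 9 = true := by decide +kernel
theorem p2u1462 : ∀ k, 30690 ≤ k → k < 43857 → pointOk (k * 22) = true := between_extend pointOk 22 30690 43848 9 (p2u1461) p2r1462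

theorem p2r1463 : allRange pointOk 22 43857 9 = true := by decide +kernel
theorem p2u1463 : ∀ k, 30690 ≤ k → k < 43866 → pointOk (k * 22) = true := between_extend pointOk 22 30690 43857 9 (p2u1462) p2r1463

theorem p2r1464 : allRange pointOk 22 43866 9 = true := by decide +kernel
theorem p2u1464 : ∀ k, 30690 ≤ k → k < 43875 → pointOk (k * 22) = true := between_extend pointOk 22 30690 43866 9 (p2u1463) p2r1464

theorem p2r1465 : allRange pointOk 22 43875 9 = true := by decide +kernel
theorem p2u1465 : ∀ k, 30690 ≤ k → k < 43884 → pointOk (k * 22) = true := between_extend pointOk 22 30690 43875 9 (p2u1464) p2r1465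

theorem p2r1466 : allRange pointOk 22 43884 9 = true := by decide +kernel
theorem p2u1466 : ∀ k, 30690 ≤ k → k < 43893 → pointOk (k * 22) = true := between_extend pointOk 22 30690 43884 9 (p2u1465) p2r1466

theorem p2r1467 : allRange pointOk 22 43893 9 = true := by decide +kernel
theorem p2u1467 : ∀ k, 30690 ≤ k → k < 43902 → pointOk (k * 22) = true := between_extend pointOk 22 30690 43893 9 (p2u1466) p2r1467

theorem p2r1468 : allRange pointOk 22 43902 9 = true := by decide +kernel
theorem p2u1468 : ∀ k, 30690 ≤ k → k < 43911 → pointOk (k * 22) = true := between_extend pointOk 22 30690 43902 9 (p2u1467) p2r1468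

theorem p2r1469 : allRange pointOk 22 43911 9 = true := by decide +kernel
theorem p2u1469 : ∀ k, 30690 ≤ k → k < 43920 → pointOk (k * 22) = true := between_extend pointOk 22 30690 43911 9 (p2u1468) p2r1469

theorem p2r1470 : allRange pointOk 22 43920 9 = true := by decide +kernel
theorem p2u1470 : ∀ k, 30690 ≤ k → k < 43929 → pointOk (k * 22) = true := between_extend pointOk 22 30690 43920 9 (p2u1469) p2r1470

theorem p2r1471 : allRange pointOk 22 43929 9 = true := by decide +kernel
theorem p2u1471 : ∀ k, 30690 ≤ k → k < 43938 → pointOk (k * 22) = true := between_extend pointOk 22 30690 43929 9 (p2u1470) p2r1471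

theorem p2r1472 : allRange pointOk 22 43938 9 = true := by decide +kernel
theorem p2u1472 : ∀ k, 30690 ≤ k → k < 43947 → pointOk (k * 22) = true := between_extend pointOk 22 30690 43938 9 (p2u1471) p2r1472

theorem p2r1473 : allRange pointOk 22 43947 9 = true := by decide +kernel
theorem p2u1473 : ∀ k, 30690 ≤ k → k < 43956 → pointOk (k * 22) = true := between_extend pointOk 22 30690 43947 9 (p2u1472) p2r1473

theorem p2r1474 : allRange pointOk 22 43956 9 = true := by decide +kernel
theorem p2u1474 : ∀ k, 30690 ≤ k → k < 43965 → pointOk (k * 22) = true := between_extend pointOk 22 30690 43956 9 (p2u1473) p2r1474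

theorem p2r1475 : allRange pointOk 22 43965 9 = true := by decide +kernel
theorem p2u1475 : ∀ k, 30690 ≤ k → k < 43974 → pointOk (k * 22) = true := between_extend pointOk 22 30690 43965 9 (p2u1474) p2r1475

theorem p2r1476 : allRange pointOk 22 43974 9 = true := by decide +kernel
theorem p2u1476 : ∀ k, 30690 ≤ k → k < 43983 → pointOk (k * 22) = true := between_extend pointOk 22 30690 43974 9 (p2u1475) p2r1476

theorem p2r1477 : allRange pointOk 22 43983 9 = true := by decide +kernel
theorem p2u1477 : ∀ k, 30690 ≤ k → k < 43992 → pointOk (k * 22) = true := between_extend pointOk 22 30690 43983 9 (p2u1476) p2r1477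

theorem p2r1478 : allRange pointOk 22 43992 9 = true := by decide +kernel
theorem p2u1478 : ∀ k, 30690 ≤ k → k < 44001 → pointOk (k * 22) = true := between_extend pointOk 22 30690 43992 9 (p2u1477) p2r1478

theorem p2r1479 : allRange pointOk 22 44001 9 = true := by decide +kernel
theorem p2u1479 : ∀ k, 30690 ≤ k → k < 44010 → pointOk (k * 22) = true := between_extend pointOk 22 30690 44001 9 (p2u1478) p2r1479

theorem p2r1480 : allRange pointOk 22 44010 9 = true := by decide +kernel
theorem p2u1480 : ∀ k, 30690 ≤ k → k < 44019 → pointOk (k * 22) = true := between_extend pointOk 22 30690 44010 9 (p2u1479) p2r1480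

theorem p2r1481 : allRange pointOk 22 44019 9 = true := by decide +kernel
theorem p2u1481 : ∀ k, 30690 ≤ k → k < 44028 → pointOk (k * 22) = true := between_extend pointOk 22 30690 44019 9 (p2u1480) p2r1481

theorem p2r1482 : allRange pointOk 22 44028 9 = true := by decide +kernel
theorem p2u1482 : ∀ k, 30690 ≤ k → k < 44037 → pointOk (k * 22) = true := between_extend pointOk 22 30690 44028 9 (p2u1481) p2r1482

theorem p2r1483 : allRange pointOk 22 44037 9 = true := by decide +kernel
theorem p2u1483 : ∀ k, 30690 ≤ k → k < 44046 → pointOk (k * 22) = true := between_extend pointOk 22 30690 44037 9 (p2u1482) p2r1483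

theorem p2r1484 : allRange pointOk 22 44046 9 = true := by decide +kernel
theorem p2u1484 : ∀ k, 30690 ≤ k → k < 44055 → pointOk (k * 22) = true := between_extend pointOk 22 30690 44046 9 (p2u1483) p2r1484

theorem p2r1485 : allRange pointOk 22 44055 9 = true := by decide +kernel
theorem p2u1485 : ∀ k, 30690 ≤ k → k < 44064 → pointOk (k * 22) = true := between_extend pointOk 22 30690 44055 9 (p2u1484) p2r1485

theorem p2r1486 : allRange pointOk 22 44064 9 = true := by decide +kernel
theorem p2u1486 : ∀ k, 30690 ≤ k → k < 44073 → pointOk (k * 22) = true := between_extend pointOk 22 30690 44064 9 (p2u1485) p2r1486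

theorem p2r1487 : allRange pointOk 22 44073 9 = true := by decide +kernel
theorem p2u1487 : ∀ k, 30690 ≤ k → k < 44082 → pointOk (k * 22) = true := between_extend pointOk 22 30690 44073 9 (p2u1486) p2r1487

theorem p2r1488 : allRange pointOk 22 44082 9 = true := by decide +kernel
theorem p2u1488 : ∀ k, 30690 ≤ k → k < 44091 → pointOk (k * 22) = true := between_extend pointOk 22 30690 44082 9 (p2u1487) p2r1488

theorem p2r1489 : allRange pointOk 22 44091 9 = true := by decide +kernel
theorem p2u1489 : ∀ k, 30690 ≤ k → k < 44100 → pointOk (k * 22) = true := between_extend pointOk 22 30690 44091 9 (p2u1488) p2r1489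

theorem p2r1490 : allRange pointOk 22 44100 9 = true := by decide +kernel
theorem p2u1490 : ∀ k, 30690 ≤ k → k < 44109 → pointOk (k * 22) = true := between_extend pointOk 22 30690 44100 9 (p2u1489) p2r1490

theorem p2r1491 : allRange pointOk 22 44109 9 = true := by decide +kernel
theorem p2u1491 : ∀ k, 30690 ≤ k → k < 44118 → pointOk (k * 22) = true := between_extend pointOk 22 30690 44109 9 (p2u1490) p2r1491

theorem p2r1492 : allRange pointOk 22 44118 9 = true := by decide +kernel
theorem p2u1492 : ∀ k, 30690 ≤ k → k < 44127 → pointOk (k * 22) = true := between_extend pointOk 22 30690 44118 9 (p2u1491) p2r1492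

theorem p2r1493 : allRange pointOk 22 44127 9 = true := by decide +kernel
theorem p2u1493 : ∀ k, 30690 ≤ k → k < 44136 → pointOk (k * 22) = true := between_extend pointOk 22 30690 44127 9 (p2u1492) p2r1493

theorem p2r1494 : allRange pointOk 22 44136 9 = true := by decide +kernel
theorem p2u1494 : ∀ k, 30690 ≤ k → k < 44145 → pointOk (k * 22) = true := between_extend pointOk 22 30690 44136 9 (p2u1493) p2r1494

theorem p2r1495 : allRange pointOk 22 44145 9 = true := by decide +kernel
theorem p2u1495 : ∀ k, 30690 ≤ k → k < 44154 → pointOk (k * 22) = true := between_extend pointOk 22 30690 44145 9 (p2u1494) p2r1495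

theorem p2r1496 : allRange pointOk 22 44154 9 = true := by decide +kernel
theorem p2u1496 : ∀ k, 30690 ≤ k → k < 44163 → pointOk (k * 22) = true := between_extend pointOk 22 30690 44154 9 (p2u1495) p2r1496

theorem p2r1497 : allRange pointOk 22 44163 9 = true := by decide +kernel
theorem p2u1497 : ∀ k, 30690 ≤ k → k < 44172 → pointOk (k * 22) = true := between_extend pointOk 22 30690 44163 9 (p2u1496) p2r1497

theorem p2r1498 : allRange pointOk 22 44172 9 = true := by decide +kernel
theorem p2u1498 : ∀ k, 30690 ≤ k → k < 44181 → pointOk (k * 22) = true := between_extend pointOk 22 30690 44172 9 (p2u1497) p2r1498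

theorem p2r1499 : allRange pointOk 22 44181 9 = true := by decide +kernel
theorem p2u1499 : ∀ k, 30690 ≤ k → k < 44190 → pointOk (k * 22) = true := between_extend pointOk 22 30690 44181 9 (p2u1498) p2r1499

theorem p2r1500 : allRange pointOk 22 44190 9 = true := by decide +kernel
theorem p2u1500 : ∀ k, 30690 ≤ k → k < 44199 → pointOk (k * 22) = true := between_extend pointOk 22 30690 44190 9 (p2u1499) p2r1500

theorem p2r1501 : allRange pointOk 22 44199 9 = true := by decide +kernel
theorem p2u1501 : ∀ k, 30690 ≤ k → k < 44208 → pointOk (k * 22) = true := between_extend pointOk 22 30690 44199 9 (p2u1500) p2r1501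

theorem p2r1502 : allRange pointOk 22 44208 9 = true := by decide +kernel
theorem p2u1502 : ∀ k, 30690 ≤ k → k < 44217 → pointOk (k * 22) = true := between_extend pointOk 22 30690 44208 9 (p2u1501) p2r1502

theorem p2r1503 : allRange pointOk 22 44217 9 = true := by decide +kernel
theorem p2u1503 : ∀ k, 30690 ≤ k → k < 44226 → pointOk (k * 22) = true := between_extend pointOk 22 30690 44217 9 (p2u1502) p2r1503

theorem p2r1504 : allRange pointOk 22 44226 9 = true := by decide +kernel
theorem p2u1504 : ∀ k, 30690 ≤ k → k < 44235 → pointOk (k * 22) = true := between_extend pointOk 22 30690 44226 9 (p2u1503) p2r1504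

theorem p2r1505 : allRange pointOk 22 44235 9 = true := by decide +kernel
theorem p2u1505 : ∀ k, 30690 ≤ k → k < 44244 → pointOk (k * 22) = true := between_extend pointOk 22 30690 44235 9 (p2u1504) p2r1505

theorem p2r1506 : allRange pointOk 22 44244 9 = true := by decide +kernel
theorem p2u1506 : ∀ k, 30690 ≤ k → k < 44253 → pointOk (k * 22) = true := between_extend pointOk 22 30690 44244 9 (p2u1505) p2r1506

theorem p2r1507 : allRange pointOk 22 44253 9 = true := by decide +kernel
theorem p2u1507 : ∀ k, 30690 ≤ k → k < 44262 → pointOk (k * 22) = true := between_extend pointOk 22 30690 44253 9 (p2u1506) p2r1507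

theorem p2r1508 : allRange pointOk 22 44262 9 = true := by decide +kernel
theorem p2u1508 : ∀ k, 30690 ≤ k → k < 44271 → pointOk (k * 22) = true := between_extend pointOk 22 30690 44262 9 (p2u1507) p2r1508

theorem p2r1509 : allRange pointOk 22 44271 9 = true := by decide +kernel
theorem p2u1509 : ∀ k, 30690 ≤ k → k < 44280 → pointOk (k * 22) = true := between_extend pointOk 22 30690 44271 9 (p2u1508) p2r1509

theorem p2r1510 : allRange pointOk 22 44280 9 = true := by decide +kernel
theorem p2u1510 : ∀ k, 30690 ≤ k → k < 44289 → pointOk (k * 22) = true := between_extend pointOk 22 30690 44280 9 (p2u1509) p2r1510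

theorem p2r1511 : allRange pointOk 22 44289 9 = true := by decide +kernel
theorem p2u1511 : ∀ k, 30690 ≤ k → k < 44298 → pointOk (k * 22) = true := between_extend pointOk 22 30690 44289 9 (p2u1510) p2r1511

theorem p2r1512 : allRange pointOk 22 44298 9 = true := by decide +kernel
theorem p2u1512 : ∀ k, 30690 ≤ k → k < 44307 → pointOk (k * 22) = true := between_extend pointOk 22 30690 44298 9 (p2u1511) p2r1512

theorem p2r1513 : allRange pointOk 22 44307 9 = true := by decide +kernel
theorem p2u1513 : ∀ k, 30690 ≤ k → k < 44316 → pointOk (k * 22) = true := between_extend pointOk 22 30690 44307 9 (p2u1512) p2r1513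

theorem p2r1514 : allRange pointOk 22 44316 9 = true := by decide +kernel
theorem p2u1514 : ∀ k, 30690 ≤ k → k < 44325 → pointOk (k * 22) = true := between_extend pointOk 22 30690 44316 9 (p2u1513) p2r1514

theorem p2r1515 : allRange pointOk 22 44325 9 = true := by decide +kernel
theorem p2u1515 : ∀ k, 30690 ≤ k → k < 44334 → pointOk (k * 22) = true := between_extend pointOk 22 30690 44325 9 (p2u1514) p2r1515

theorem p2r1516 : allRange pointOk 22 44334 9 = true := by decide +kernel
theorem p2u1516 : ∀ k, 30690 ≤ k → k < 44343 → pointOk (k * 22) = true := between_extend pointOk 22 30690 44334 9 (p2u1515) p2r1516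

theorem p2r1517 : allRange pointOk 22 44343 9 = true := by decide +kernel
theorem p2u1517 : ∀ k, 30690 ≤ k → k < 44352 → pointOk (k * 22) = true := between_extend pointOk 22 30690 44343 9 (p2u1516) p2r1517

theorem p2r1518 : allRange pointOk 22 44352 9 = true := by decide +kernel
theorem p2u1518 : ∀ k, 30690 ≤ k → k < 44361 → pointOk (k * 22) = true := between_extend pointOk 22 30690 44352 9 (p2u1517) p2r1518

theorem p2r1519 : allRange pointOk 22 44361 9 = true := by decide +kernel
theorem p2u1519 : ∀ k, 30690 ≤ k → k < 44370 → pointOk (k * 22) = true := between_extend pointOk 22 30690 44361 9 (p2u1518) p2r1519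

theorem p2r1520 : allRange pointOk 22 44370 9 = true := by decide +kernel
theorem p2u1520 : ∀ k, 30690 ≤ k → k < 44379 → pointOk (k * 22) = true := between_extend pointOk 22 30690 44370 9 (p2u1519) p2r1520

theorem p2r1521 : allRange pointOk 22 44379 9 = true := by decide +kernel
theorem p2u1521 : ∀ k, 30690 ≤ k → k < 44388 → pointOk (k * 22) = true := between_extend pointOk 22 30690 44379 9 (p2u1520) p2r1521

theorem p2r1522 : allRange pointOk 22 44388 9 = true := by decide +kernel
theorem p2u1522 : ∀ k, 30690 ≤ k → k < 44397 → pointOk (k * 22) = true := between_extend pointOk 22 30690 44388 9 (p2u1521) p2r1522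

theorem p2r1523 : allRange pointOk 22 44397 9 = true := by decide +kernel
theorem p2u1523 : ∀ k, 30690 ≤ k → k < 44406 → pointOk (k * 22) = true := between_extend pointOk 22 30690 44397 9 (p2u1522) p2r1523

theorem p2r1524 : allRange pointOk 22 44406 9 = true := by decide +kernel
theorem p2u1524 : ∀ k, 30690 ≤ k → k < 44415 → pointOk (k * 22) = true := between_extend pointOk 22 30690 44406 9 (p2u1523) p2r1524

theorem p2r1525 : allRange pointOk 22 44415 9 = true := by decide +kernel
theorem p2u1525 : ∀ k, 30690 ≤ k → k < 44424 → pointOk (k * 22) = true := between_extend pointOk 22 30690 44415 9 (p2u1524) p2r1525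

theorem p2r1526 : allRange pointOk 22 44424 9 = true := by decide +kernel
theorem p2u1526 : ∀ k, 30690 ≤ k → k < 44433 → pointOk (k * 22) = true := between_extend pointOk 22 30690 44424 9 (p2u1525) p2r1526

theorem p2r1527 : allRange pointOk 22 44433 9 = true := by decide +kernel
theorem p2u1527 : ∀ k, 30690 ≤ k → k < 44442 → pointOk (k * 22) = true := between_extend pointOk 22 30690 44433 9 (p2u1526) p2r1527

theorem p2r1528 : allRange pointOk 22 44442 9 = true := by decide +kernel
theorem p2u1528 : ∀ k, 30690 ≤ k → k < 44451 → pointOk (k * 22) = true := between_extend pointOk 22 30690 44442 9 (p2u1527) p2r1528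

theorem p2r1529 : allRange pointOk 22 44451 9 = true := by decide +kernel
theorem p2u1529 : ∀ k, 30690 ≤ k → k < 44460 → pointOk (k * 22) = true := between_extend pointOk 22 30690 44451 9 (p2u1528) p2r1529

theorem p2r1530 : allRange pointOk 22 44460 9 = true := by decide +kernel
theorem p2u1530 : ∀ k, 30690 ≤ k → k < 44469 → pointOk (k * 22) = true := between_extend pointOk 22 30690 44460 9 (p2u1529) p2r1530

theorem p2r1531 : allRange pointOk 22 44469 9 = true := by decide +kernel
theorem p2u1531 : ∀ k, 30690 ≤ k → k < 44478 → pointOk (k * 22) = true := between_extend pointOk 22 30690 44469 9 (p2u1530) p2r1531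

theorem p2r1532 : allRange pointOk 22 44478 9 = true := by decide +kernel
theorem p2u1532 : ∀ k, 30690 ≤ k → k < 44487 → pointOk (k * 22) = true := between_extend pointOk 22 30690 44478 9 (p2u1531) p2r1532

theorem p2r1533 : allRange pointOk 22 44487 9 = true := by decide +kernel
theorem p2u1533 : ∀ k, 30690 ≤ k → k < 44496 → pointOk (k * 22) = true := between_extend pointOk 22 30690 44487 9 (p2u1532) p2r1533

theorem p2r1534 : allRange pointOk 22 44496 9 = true := by decide +kernel
theorem p2u1534 : ∀ k, 30690 ≤ k → k < 44505 → pointOk (k * 22) = true := between_extend pointOk 22 30690 44496 9 (p2u1533) p2r1534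

theorem p2r1535 : allRange pointOk 22 44505 9 = true := by decide +kernel
theorem p2u1535 : ∀ k, 30690 ≤ k → k < 44514 → pointOk (k * 22) = true := between_extend pointOk 22 30690 44505 9 (p2u1534) p2r1535

theorem p2r1536 : allRange pointOk 22 44514 9 = true := by decide +kernel
theorem p2u1536 : ∀ k, 30690 ≤ k → k < 44523 → pointOk (k * 22) = true := between_extend pointOk 22 30690 44514 9 (p2u1535) p2r1536

theorem p2r1537 : allRange pointOk 22 44523 9 = true := by decide +kernel
theorem p2u1537 : ∀ k, 30690 ≤ k → k < 44532 → pointOk (k * 22) = true := between_extend pointOk 22 30690 44523 9 (p2u1536) p2r1537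

theorem p2r1538 : allRange pointOk 22 44532 9 = true := by decide +kernel
theorem p2u1538 : ∀ k, 30690 ≤ k → k < 44541 → pointOk (k * 22) = true := between_extend pointOk 22 30690 44532 9 (p2u1537) p2r1538

theorem p2r1539 : allRange pointOk 22 44541 9 = true := by decide +kernel
theorem p2u1539 : ∀ k, 30690 ≤ k → k < 44550 → pointOk (k * 22) = true := between_extend pointOk 22 30690 44541 9 (p2u1538) p2r1539

theorem p2r1540 : allRange pointOk 22 44550 9 = true := by decide +kernel
theorem p2u1540 : ∀ k, 30690 ≤ k → k < 44559 → pointOk (k * 22) = true := between_extend pointOk 22 30690 44550 9 (p2u1539) p2r1540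

theorem p2r1541 : allRange pointOk 22 44559 9 = true := by decide +kernel
theorem p2u1541 : ∀ k, 30690 ≤ k → k < 44568 → pointOk (k * 22) = true := between_extend pointOk 22 30690 44559 9 (p2u1540) p2r1541

theorem p2r1542 : allRange pointOk 22 44568 9 = true := by decide +kernel
theorem p2u1542 : ∀ k, 30690 ≤ k → k < 44577 → pointOk (k * 22) = true := between_extend pointOk 22 30690 44568 9 (p2u1541) p2r1542

theorem p2r1543 : allRange pointOk 22 44577 9 = true := by decide +kernel
theorem p2u1543 : ∀ k, 30690 ≤ k → k < 44586 → pointOk (k * 22) = true := between_extend pointOk 22 30690 44577 9 (p2u1542) p2r1543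

theorem p2r1544 : allRange pointOk 22 44586 9 = true := by decide +kernel
theorem p2u1544 : ∀ k, 30690 ≤ k → k < 44595 → pointOk (k * 22) = true := between_extend pointOk 22 30690 44586 9 (p2u1543) p2r1544

theorem p2r1545 : allRange pointOk 22 44595 9 = true := by decide +kernel
theorem p2u1545 : ∀ k, 30690 ≤ k → k < 44604 → pointOk (k * 22) = true := between_extend pointOk 22 30690 44595 9 (p2u1544) p2r1545

theorem p2r1546 : allRange pointOk 22 44604 9 = true := by decide +kernel
theorem p2u1546 : ∀ k, 30690 ≤ k → k < 44613 → pointOk (k * 22) = true := between_extend pointOk 22 30690 44604 9 (p2u1545) p2r1546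

theorem p2r1547 : allRange pointOk 22 44613 9 = true := by decide +kernel
theorem p2u1547 : ∀ k, 30690 ≤ k → k < 44622 → pointOk (k * 22) = true := between_extend pointOk 22 30690 44613 9 (p2u1546) p2r1547

theorem p2r1548 : allRange pointOk 22 44622 9 = true := by decide +kernel
theorem p2u1548 : ∀ k, 30690 ≤ k → k < 44631 → pointOk (k * 22) = true := between_extend pointOk 22 30690 44622 9 (p2u1547) p2r1548

theorem p2r1549 : allRange pointOk 22 44631 9 = true := by decide +kernel
theorem p2u1549 : ∀ k, 30690 ≤ k → k < 44640 → pointOk (k * 22) = true := between_extend pointOk 22 30690 44631 9 (p2u1548) p2r1549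

theorem p2r1550 : allRange pointOk 22 44640 9 = true := by decide +kernel
theorem p2u1550 : ∀ k, 30690 ≤ k → k < 44649 → pointOk (k * 22) = true := between_extend pointOk 22 30690 44640 9 (p2u1549) p2r1550

theorem p2r1551 : allRange pointOk 22 44649 9 = true := by decide +kernel
theorem p2u1551 : ∀ k, 30690 ≤ k → k < 44658 → pointOk (k * 22) = true := between_extend pointOk 22 30690 44649 9 (p2u1550) p2r1551

theorem p2r1552 : allRange pointOk 22 44658 9 = true := by decide +kernel
theorem p2u1552 : ∀ k, 30690 ≤ k → k < 44667 → pointOk (k * 22) = true := between_extend pointOk 22 30690 44658 9 (p2u1551) p2r1552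

theorem p2r1553 : allRange pointOk 22 44667 9 = true := by decide +kernel
theorem p2u1553 : ∀ k, 30690 ≤ k → k < 44676 → pointOk (k * 22) = true := between_extend pointOk 22 30690 44667 9 (p2u1552) p2r1553

theorem p2r1554 : allRange pointOk 22 44676 9 = true := by decide +kernel
theorem p2u1554 : ∀ k, 30690 ≤ k → k < 44685 → pointOk (k * 22) = true := between_extend pointOk 22 30690 44676 9 (p2u1553) p2r1554

theorem p2r1555 : allRange pointOk 22 44685 9 = true := by decide +kernel
theorem p2u1555 : ∀ k, 30690 ≤ k → k < 44694 → pointOk (k * 22) = true := between_extend pointOk 22 30690 44685 9 (p2u1554) p2r1555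

theorem p2r1556 : allRange pointOk 22 44694 9 = true := by decide +kernel
theorem p2u1556 : ∀ k, 30690 ≤ k → k < 44703 → pointOk (k * 22) = true := between_extend pointOk 22 30690 44694 9 (p2u1555) p2r1556

theorem p2r1557 : allRange pointOk 22 44703 9 = true := by decide +kernel
theorem p2u1557 : ∀ k, 30690 ≤ k → k < 44712 → pointOk (k * 22) = true := between_extend pointOk 22 30690 44703 9 (p2u1556) p2r1557

theorem p2r1558 : allRange pointOk 22 44712 9 = true := by decide +kernel
theorem p2u1558 : ∀ k, 30690 ≤ k → k < 44721 → pointOk (k * 22) = true := between_extend pointOk 22 30690 44712 9 (p2u1557) p2r1558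

theorem p2r1559 : allRange pointOk 22 44721 9 = true := by decide +kernel
theorem p2u1559 : ∀ k, 30690 ≤ k → k < 44730 → pointOk (k * 22) = true := between_extend pointOk 22 30690 44721 9 (p2u1558) p2r1559

theorem p2r1560 : allRange pointOk 22 44730 9 = true := by decide +kernel
theorem p2u1560 : ∀ k, 30690 ≤ k → k < 44739 → pointOk (k * 22) = true := between_extend pointOk 22 30690 44730 9 (p2u1559) p2r1560

theorem p2r1561 : allRange pointOk 22 44739 9 = true := by decide +kernel
theorem p2u1561 : ∀ k, 30690 ≤ k → k < 44748 → pointOk (k * 22) = true := between_extend pointOk 22 30690 44739 9 (p2u1560) p2r1561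

theorem p2r1562 : allRange pointOk 22 44748 9 = true := by decide +kernel
theorem p2u1562 : ∀ k, 30690 ≤ k → k < 44757 → pointOk (k * 22) = true := between_extend pointOk 22 30690 44748 9 (p2u1561) p2r1562

theorem p2r1563 : allRange pointOk 22 44757 9 = true := by decide +kernel
theorem p2u1563 : ∀ k, 30690 ≤ k → k < 44766 → pointOk (k * 22) = true := between_extend pointOk 22 30690 44757 9 (p2u1562) p2r1563

theorem p2r1564 : allRange pointOk 22 44766 9 = true := by decide +kernel
theorem p2u1564 : ∀ k, 30690 ≤ k → k < 44775 → pointOk (k * 22) = true := between_extend pointOk 22 30690 44766 9 (p2u1563) p2r1564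

theorem p2r1565 : allRange pointOk 22 44775 9 = true := by decide +kernel
theorem p2u1565 : ∀ k, 30690 ≤ k → k < 44784 → pointOk (k * 22) = true := between_extend pointOk 22 30690 44775 9 (p2u1564) p2r1565

theorem p2r1566 : allRange pointOk 22 44784 9 = true := by decide +kernel
theorem p2u1566 : ∀ k, 30690 ≤ k → k < 44793 → pointOk (k * 22) = true := between_extend pointOk 22 30690 44784 9 (p2u1565) p2r1566

theorem p2r1567 : allRange pointOk 22 44793 9 = true := by decide +kernel
theorem p2u1567 : ∀ k, 30690 ≤ k → k < 44802 → pointOk (k * 22) = true := between_extend pointOk 22 30690 44793 9 (p2u1566) p2r1567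

theorem p2r1568 : allRange pointOk 22 44802 9 = true := by decide +kernel
theorem p2u1568 : ∀ k, 30690 ≤ k → k < 44811 → pointOk (k * 22) = true := between_extend pointOk 22 30690 44802 9 (p2u1567) p2r1568

theorem p2r1569 : allRange pointOk 22 44811 9 = true := by decide +kernel
theorem p2u1569 : ∀ k, 30690 ≤ k → k < 44820 → pointOk (k * 22) = true := between_extend pointOk 22 30690 44811 9 (p2u1568) p2r1569

theorem p2r1570 : allRange pointOk 22 44820 9 = true := by decide +kernel
theorem p2u1570 : ∀ k, 30690 ≤ k → k < 44829 → pointOk (k * 22) = true := between_extend pointOk 22 30690 44820 9 (p2u1569) p2r1570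

theorem p2r1571 : allRange pointOk 22 44829 9 = true := by decide +kernel
theorem p2u1571 : ∀ k, 30690 ≤ k → k < 44838 → pointOk (k * 22) = true := between_extend pointOk 22 30690 44829 9 (p2u1570) p2r1571

theorem p2r1572 : allRange pointOk 22 44838 9 = true := by decide +kernel
theorem p2u1572 : ∀ k, 30690 ≤ k → k < 44847 → pointOk (k * 22) = true := between_extend pointOk 22 30690 44838 9 (p2u1571) p2r1572

theorem p2r1573 : allRange pointOk 22 44847 9 = true := by decide +kernel
theorem p2u1573 : ∀ k, 30690 ≤ k → k < 44856 → pointOk (k * 22) = true := between_extend pointOk 22 30690 44847 9 (p2u1572) p2r1573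

theorem p2r1574 : allRange pointOk 22 44856 9 = true := by decide +kernel
theorem p2u1574 : ∀ k, 30690 ≤ k → k < 44865 → pointOk (k * 22) = true := between_extend pointOk 22 30690 44856 9 (p2u1573) p2r1574

theorem p2r1575 : allRange pointOk 22 44865 9 = true := by decide +kernel
theorem p2u1575 : ∀ k, 30690 ≤ k → k < 44874 → pointOk (k * 22) = true := between_extend pointOk 22 30690 44865 9 (p2u1574) p2r1575

theorem p2r1576 : allRange pointOk 22 44874 9 = true := by decide +kernel
theorem p2u1576 : ∀ k, 30690 ≤ k → k < 44883 → pointOk (k * 22) = true := between_extend pointOk 22 30690 44874 9 (p2u1575) p2r1576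

theorem p2r1577 : allRange pointOk 22 44883 9 = true := by decide +kernel
theorem p2u1577 : ∀ k, 30690 ≤ k → k < 44892 → pointOk (k * 22) = true := between_extend pointOk 22 30690 44883 9 (p2u1576) p2r1577

theorem p2r1578 : allRange pointOk 22 44892 9 = true := by decide +kernel
theorem p2u1578 : ∀ k, 30690 ≤ k → k < 44901 → pointOk (k * 22) = true := between_extend pointOk 22 30690 44892 9 (p2u1577) p2r1578

theorem p2r1579 : allRange pointOk 22 44901 9 = true := by decide +kernel
theorem p2u1579 : ∀ k, 30690 ≤ k → k < 44910 → pointOk (k * 22) = true := between_extend pointOk 22 30690 44901 9 (p2u1578) p2r1579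

theorem p2r1580 : allRange pointOk 22 44910 9 = true := by decide +kernel
theorem p2u1580 : ∀ k, 30690 ≤ k → k < 44919 → pointOk (k * 22) = true := between_extend pointOk 22 30690 44910 9 (p2u1579) p2r1580

theorem p2r1581 : allRange pointOk 22 44919 9 = true := by decide +kernel
theorem p2u1581 : ∀ k, 30690 ≤ k → k < 44928 → pointOk (k * 22) = true := between_extend pointOk 22 30690 44919 9 (p2u1580) p2r1581

theorem p2r1582 : allRange pointOk 22 44928 9 = true := by decide +kernel
theorem p2u1582 : ∀ k, 30690 ≤ k → k < 44937 → pointOk (k * 22) = true := between_extend pointOk 22 30690 44928 9 (p2u1581) p2r1582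

theorem p2r1583 : allRange pointOk 22 44937 9 = true := by decide +kernel
theorem p2u1583 : ∀ k, 30690 ≤ k → k < 44946 → pointOk (k * 22) = true := between_extend pointOk 22 30690 44937 9 (p2u1582) p2r1583

theorem p2r1584 : allRange pointOk 22 44946 9 = true := by decide +kernel
theorem p2u1584 : ∀ k, 30690 ≤ k → k < 44955 → pointOk (k * 22) = true := between_extend pointOk 22 30690 44946 9 (p2u1583) p2r1584

theorem p2r1585 : allRange pointOk 22 44955 9 = true := by decide +kernel
theorem p2u1585 : ∀ k, 30690 ≤ k → k < 44964 → pointOk (k * 22) = true := between_extend pointOk 22 30690 44955 9 (p2u1584) p2r1585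

theorem p2r1586 : allRange pointOk 22 44964 9 = true := by decide +kernel
theorem p2u1586 : ∀ k, 30690 ≤ k → k < 44973 → pointOk (k * 22) = true := between_extend pointOk 22 30690 44964 9 (p2u1585) p2r1586

theorem p2r1587 : allRange pointOk 22 44973 9 = true := by decide +kernel
theorem p2u1587 : ∀ k, 30690 ≤ k → k < 44982 → pointOk (k * 22) = true := between_extend pointOk 22 30690 44973 9 (p2u1586) p2r1587

theorem p2r1588 : allRange pointOk 22 44982 9 = true := by decide +kernel
theorem p2u1588 : ∀ k, 30690 ≤ k → k < 44991 → pointOk (k * 22) = true := between_extend pointOk 22 30690 44982 9 (p2u1587) p2r1588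

theorem p2r1589 : allRange pointOk 22 44991 9 = true := by decide +kernel
theorem p2u1589 : ∀ k, 30690 ≤ k → k < 45000 → pointOk (k * 22) = true := between_extend pointOk 22 30690 44991 9 (p2u1588) p2r1589

theorem p2r1590 : allRange pointOk 22 45000 9 = true := by decide +kernel
theorem p2u1590 : ∀ k, 30690 ≤ k → k < 45009 → pointOk (k * 22) = true := between_extend pointOk 22 30690 45000 9 (p2u1589) p2r1590

theorem p2r1591 : allRange pointOk 22 45009 9 = true := by decide +kernel
theorem p2u1591 : ∀ k, 30690 ≤ k → k < 45018 → pointOk (k * 22) = true := between_extend pointOk 22 30690 45009 9 (p2u1590) p2r1591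

theorem p2r1592 : allRange pointOk 22 45018 9 = true := by decide +kernel
theorem p2u1592 : ∀ k, 30690 ≤ k → k < 45027 → pointOk (k * 22) = true := between_extend pointOk 22 30690 45018 9 (p2u1591) p2r1592

theorem p2r1593 : allRange pointOk 22 45027 9 = true := by decide +kernel
theorem p2u1593 : ∀ k, 30690 ≤ k → k < 45036 → pointOk (k * 22) = true := between_extend pointOk 22 30690 45027 9 (p2u1592) p2r1593

theorem p2r1594 : allRange pointOk 22 45036 9 = true := by decide +kernel
theorem p2u1594 : ∀ k, 30690 ≤ k → k < 45045 → pointOk (k * 22) = true := between_extend pointOk 22 30690 45036 9 (p2u1593) p2r1594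

theorem p2r1595 : allRange pointOk 22 45045 9 = true := by decide +kernel
theorem p2u1595 : ∀ k, 30690 ≤ k → k < 45054 → pointOk (k * 22) = true := between_extend pointOk 22 30690 45045 9 (p2u1594) p2r1595

theorem p2r1596 : allRange pointOk 22 45054 9 = true := by decide +kernel
theorem p2u1596 : ∀ k, 30690 ≤ k → k < 45063 → pointOk (k * 22) = true := between_extend pointOk 22 30690 45054 9 (p2u1595) p2r1596

theorem p2r1597 : allRange pointOk 22 45063 9 = true := by decide +kernel
theorem p2u1597 : ∀ k, 30690 ≤ k → k < 45072 → pointOk (k * 22) = true := between_extend pointOk 22 30690 45063 9 (p2u1596) p2r1597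

theorem p2r1598 : allRange pointOk 22 45072 9 = true := by decide +kernel
theorem p2u1598 : ∀ k, 30690 ≤ k → k < 45081 → pointOk (k * 22) = true := between_extend pointOk 22 30690 45072 9 (p2u1597) p2r1598

theorem p2r1599 : allRange pointOk 22 45081 9 = true := by decide +kernel
theorem p2u1599 : ∀ k, 30690 ≤ k → k < 45090 → pointOk (k * 22) = true := between_extend pointOk 22 30690 45081 9 (p2u1598) p2r1599

theorem p2r1600 : allRange pointOk 22 45090 9 = true := by decide +kernel
theorem p2u1600 : ∀ k, 30690 ≤ k → k < 45099 → pointOk (k * 22) = true := between_extend pointOk 22 30690 45090 9 (p2u1599) p2r1600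

theorem p2r1601 : allRange pointOk 22 45099 9 = true := by decide +kernel
theorem p2u1601 : ∀ k, 30690 ≤ k → k < 45108 → pointOk (k * 22) = true := between_extend pointOk 22 30690 45099 9 (p2u1600) p2r1601

theorem p2r1602 : allRange pointOk 22 45108 9 = true := by decide +kernel
theorem p2u1602 : ∀ k, 30690 ≤ k → k < 45117 → pointOk (k * 22) = true := between_extend pointOk 22 30690 45108 9 (p2u1601) p2r1602

theorem p2r1603 : allRange pointOk 22 45117 9 = true := by decide +kernel
theorem p2u1603 : ∀ k, 30690 ≤ k → k < 45126 → pointOk (k * 22) = true := between_extend pointOk 22 30690 45117 9 (p2u1602) p2r1603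

theorem p2r1604 : allRange pointOk 22 45126 9 = true := by decide +kernel
theorem p2u1604 : ∀ k, 30690 ≤ k → k < 45135 → pointOk (k * 22) = true := between_extend pointOk 22 30690 45126 9 (p2u1603) p2r1604

theorem p2r1605 : allRange pointOk 22 45135 9 = true := by decide +kernel
theorem p2u1605 : ∀ k, 30690 ≤ k → k < 45144 → pointOk (k * 22) = true := between_extend pointOk 22 30690 45135 9 (p2u1604) p2r1605

theorem p2r1606 : allRange pointOk 22 45144 9 = true := by decide +kernel
theorem p2u1606 : ∀ k, 30690 ≤ k → k < 45153 → pointOk (k * 22) = true := between_extend pointOk 22 30690 45144 9 (p2u1605) p2r1606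

theorem p2r1607 : allRange pointOk 22 45153 9 = true := by decide +kernel
theorem p2u1607 : ∀ k, 30690 ≤ k → k < 45162 → pointOk (k * 22) = true := between_extend pointOk 22 30690 45153 9 (p2u1606) p2r1607

theorem p2r1608 : allRange pointOk 22 45162 9 = true := by decide +kernel
theorem p2u1608 : ∀ k, 30690 ≤ k → k < 45171 → pointOk (k * 22) = true := between_extend pointOk 22 30690 45162 9 (p2u1607) p2r1608

theorem p2r1609 : allRange pointOk 22 45171 9 = true := by decide +kernel
theorem p2u1609 : ∀ k, 30690 ≤ k → k < 45180 → pointOk (k * 22) = true := between_extend pointOk 22 30690 45171 9 (p2u1608) p2r1609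

theorem p2r1610 : allRange pointOk 22 45180 9 = true := by decide +kernel
theorem p2u1610 : ∀ k, 30690 ≤ k → k < 45189 → pointOk (k * 22) = true := between_extend pointOk 22 30690 45180 9 (p2u1609) p2r1610

theorem p2r1611 : allRange pointOk 22 45189 9 = true := by decide +kernel
theorem p2u1611 : ∀ k, 30690 ≤ k → k < 45198 → pointOk (k * 22) = true := between_extend pointOk 22 30690 45189 9 (p2u1610) p2r1611

theorem p2r1612 : allRange pointOk 22 45198 9 = true := by decide +kernel
theorem p2u1612 : ∀ k, 30690 ≤ k → k < 45207 → pointOk (k * 22) = true := between_extend pointOk 22 30690 45198 9 (p2u1611) p2r1612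

theorem p2r1613 : allRange pointOk 22 45207 9 = true := by decide +kernel
theorem p2u1613 : ∀ k, 30690 ≤ k → k < 45216 → pointOk (k * 22) = true := between_extend pointOk 22 30690 45207 9 (p2u1612) p2r1613

theorem p2r1614 : allRange pointOk 22 45216 9 = true := by decide +kernel
theorem p2u1614 : ∀ k, 30690 ≤ k → k < 45225 → pointOk (k * 22) = true := between_extend pointOk 22 30690 45216 9 (p2u1613) p2r1614

theorem p2r1615 : allRange pointOk 22 45225 9 = true := by decide +kernel
theorem p2u1615 : ∀ k, 30690 ≤ k → k < 45234 → pointOk (k * 22) = true := between_extend pointOk 22 30690 45225 9 (p2u1614) p2r1615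

theorem p2r1616 : allRange pointOk 22 45234 9 = true := by decide +kernel
theorem p2u1616 : ∀ k, 30690 ≤ k → k < 45243 → pointOk (k * 22) = true := between_extend pointOk 22 30690 45234 9 (p2u1615) p2r1616

theorem p2r1617 : allRange pointOk 22 45243 9 = true := by decide +kernel
theorem p2u1617 : ∀ k, 30690 ≤ k → k < 45252 → pointOk (k * 22) = true := between_extend pointOk 22 30690 45243 9 (p2u1616) p2r1617

theorem p2r1618 : allRange pointOk 22 45252 9 = true := by decide +kernel
theorem p2u1618 : ∀ k, 30690 ≤ k → k < 45261 → pointOk (k * 22) = true := between_extend pointOk 22 30690 45252 9 (p2u1617) p2r1618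

theorem p2r1619 : allRange pointOk 22 45261 9 = true := by decide +kernel
theorem p2u1619 : ∀ k, 30690 ≤ k → k < 45270 → pointOk (k * 22) = true := between_extend pointOk 22 30690 45261 9 (p2u1618) p2r1619

theorem p2r1620 : allRange pointOk 22 45270 9 = true := by decide +kernel
theorem p2u1620 : ∀ k, 30690 ≤ k → k < 45279 → pointOk (k * 22) = true := between_extend pointOk 22 30690 45270 9 (p2u1619) p2r1620

theorem p2r1621 : allRange pointOk 22 45279 9 = true := by decide +kernel
theorem p2u1621 : ∀ k, 30690 ≤ k → k < 45288 → pointOk (k * 22) = true := between_extend pointOk 22 30690 45279 9 (p2u1620) p2r1621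

theorem p2r1622 : allRange pointOk 22 45288 9 = true := by decide +kernel
theorem p2u1622 : ∀ k, 30690 ≤ k → k < 45297 → pointOk (k * 22) = true := between_extend pointOk 22 30690 45288 9 (p2u1621) p2r1622

theorem p2r1623 : allRange pointOk 22 45297 9 = true := by decide +kernel
theorem p2u1623 : ∀ k, 30690 ≤ k → k < 45306 → pointOk (k * 22) = true := between_extend pointOk 22 30690 45297 9 (p2u1622) p2r1623

theorem p2r1624 : allRange pointOk 22 45306 9 = true := by decide +kernel
theorem p2u1624 : ∀ k, 30690 ≤ k → k < 45315 → pointOk (k * 22) = true := between_extend pointOk 22 30690 45306 9 (p2u1623) p2r1624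

theorem p2r1625 : allRange pointOk 22 45315 9 = true := by decide +kernel
theorem p2u1625 : ∀ k, 30690 ≤ k → k < 45324 → pointOk (k * 22) = true := between_extend pointOk 22 30690 45315 9 (p2u1624) p2r1625

theorem p2r1626 : allRange pointOk 22 45324 9 = true := by decide +kernel
theorem p2u1626 : ∀ k, 30690 ≤ k → k < 45333 → pointOk (k * 22) = true := between_extend pointOk 22 30690 45324 9 (p2u1625) p2r1626

theorem p2r1627 : allRange pointOk 22 45333 9 = true := by decide +kernel
theorem p2u1627 : ∀ k, 30690 ≤ k → k < 45342 → pointOk (k * 22) = true := between_extend pointOk 22 30690 45333 9 (p2u1626) p2r1627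

theorem p2r1628 : allRange pointOk 22 45342 9 = true := by decide +kernel
theorem p2u1628 : ∀ k, 30690 ≤ k → k < 45351 → pointOk (k * 22) = true := between_extend pointOk 22 30690 45342 9 (p2u1627) p2r1628

theorem p2r1629 : allRange pointOk 22 45351 9 = true := by decide +kernel
theorem p2u1629 : ∀ k, 30690 ≤ k → k < 45360 → pointOk (k * 22) = true := between_extend pointOk 22 30690 45351 9 (p2u1628) p2r1629

theorem p2r1630 : allRange pointOk 22 45360 9 = true := by decide +kernel
theorem p2u1630 : ∀ k, 30690 ≤ k → k < 45369 → pointOk (k * 22) = true := between_extend pointOk 22 30690 45360 9 (p2u1629) p2r1630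

theorem p2r1631 : allRange pointOk 22 45369 9 = true := by decide +kernel
theorem p2u1631 : ∀ k, 30690 ≤ k → k < 45378 → pointOk (k * 22) = true := between_extend pointOk 22 30690 45369 9 (p2u1630) p2r1631

theorem p2r1632 : allRange pointOk 22 45378 9 = true := by decide +kernel
theorem p2u1632 : ∀ k, 30690 ≤ k → k < 45387 → pointOk (k * 22) = true := between_extend pointOk 22 30690 45378 9 (p2u1631) p2r1632

theorem p2r1633 : allRange pointOk 22 45387 9 = true := by decide +kernel
theorem p2u1633 : ∀ k, 30690 ≤ k → k < 45396 → pointOk (k * 22) = true := between_extend pointOk 22 30690 45387 9 (p2u1632) p2r1633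

theorem p2r1634 : allRange pointOk 22 45396 9 = true := by decide +kernel
theorem p2u1634 : ∀ k, 30690 ≤ k → k < 45405 → pointOk (k * 22) = true := between_extend pointOk 22 30690 45396 9 (p2u1633) p2r1634

theorem p2r1635 : allRange pointOk 22 45405 9 = true := by decide +kernel
theorem p2u1635 : ∀ k, 30690 ≤ k → k < 45414 → pointOk (k * 22) = true := between_extend pointOk 22 30690 45405 9 (p2u1634) p2r1635

theorem p2r1636 : allRange pointOk 22 45414 9 = true := by decide +kernel
theorem p2u1636 : ∀ k, 30690 ≤ k → k < 45423 → pointOk (k * 22) = true := between_extend pointOk 22 30690 45414 9 (p2u1635) p2r1636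

theorem p2r1637 : allRange pointOk 22 45423 9 = true := by decide +kernel
theorem p2u1637 : ∀ k, 30690 ≤ k → k < 45432 → pointOk (k * 22) = true := between_extend pointOk 22 30690 45423 9 (p2u1636) p2r1637

theorem p2r1638 : allRange pointOk 22 45432 9 = true := by decide +kernel
theorem p2u1638 : ∀ k, 30690 ≤ k → k < 45441 → pointOk (k * 22) = true := between_extend pointOk 22 30690 45432 9 (p2u1637) p2r1638

theorem p2r1639 : allRange pointOk 22 45441 9 = true := by decide +kernel
theorem p2u1639 : ∀ k, 30690 ≤ k → k < 45450 → pointOk (k * 22) = true := between_extend pointOk 22 30690 45441 9 (p2u1638) p2r1639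

theorem p2r1640 : allRange pointOk 22 45450 9 = true := by decide +kernel
theorem p2u1640 : ∀ k, 30690 ≤ k → k < 45459 → pointOk (k * 22) = true := between_extend pointOk 22 30690 45450 9 (p2u1639) p2r1640

theorem p2r1641 : allRange pointOk 22 45459 9 = true := by decide +kernel
theorem p2u1641 : ∀ k, 30690 ≤ k → k < 45468 → pointOk (k * 22) = true := between_extend pointOk 22 30690 45459 9 (p2u1640) p2r1641

theorem p2r1642 : allRange pointOk 22 45468 9 = true := by decide +kernel
theorem p2u1642 : ∀ k, 30690 ≤ k → k < 45477 → pointOk (k * 22) = true := between_extend pointOk 22 30690 45468 9 (p2u1641) p2r1642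

theorem p2r1643 : allRange pointOk 22 45477 9 = true := by decide +kernel
theorem p2u1643 : ∀ k, 30690 ≤ k → k < 45486 → pointOk (k * 22) = true := between_extend pointOk 22 30690 45477 9 (p2u1642) p2r1643

theorem p2r1644 : allRange pointOk 22 45486 9 = true := by decide +kernel
theorem p2u1644 : ∀ k, 30690 ≤ k → k < 45495 → pointOk (k * 22) = true := between_extend pointOk 22 30690 45486 9 (p2u1643) p2r1644

theorem p2r1645 : allRange pointOk 22 45495 9 = true := by decide +kernel
theorem p2u1645 : ∀ k, 30690 ≤ k → k < 45504 → pointOk (k * 22) = true := between_extend pointOk 22 30690 45495 9 (p2u1644) p2r1645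

theorem p2r1646 : allRange pointOk 22 45504 9 = true := by decide +kernel
theorem p2u1646 : ∀ k, 30690 ≤ k → k < 45513 → pointOk (k * 22) = true := between_extend pointOk 22 30690 45504 9 (p2u1645) p2r1646

theorem p2r1647 : allRange pointOk 22 45513 9 = true := by decide +kernel
theorem p2u1647 : ∀ k, 30690 ≤ k → k < 45522 → pointOk (k * 22) = true := between_extend pointOk 22 30690 45513 9 (p2u1646) p2r1647

theorem p2r1648 : allRange pointOk 22 45522 9 = true := by decide +kernel
theorem p2u1648 : ∀ k, 30690 ≤ k → k < 45531 → pointOk (k * 22) = true := between_extend pointOk 22 30690 45522 9 (p2u1647) p2r1648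

theorem p2r1649 : allRange pointOk 22 45531 9 = true := by decide +kernel
theorem p2u1649 : ∀ k, 30690 ≤ k → k < 45540 → pointOk (k * 22) = true := between_extend pointOk 22 30690 45531 9 (p2u1648) p2r1649

theorem p2r1650 : allRange pointOk 22 45540 9 = true := by decide +kernel
theorem p2u1650 : ∀ k, 30690 ≤ k → k < 45549 → pointOk (k * 22) = true := between_extend pointOk 22 30690 45540 9 (p2u1649) p2r1650

theorem p2r1651 : allRange pointOk 22 45549 9 = true := by decide +kernel
theorem p2u1651 : ∀ k, 30690 ≤ k → k < 45558 → pointOk (k * 22) = true := between_extend pointOk 22 30690 45549 9 (p2u1650) p2r1651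

theorem p2r1652 : allRange pointOk 22 45558 9 = true := by decide +kernel
theorem p2u1652 : ∀ k, 30690 ≤ k → k < 45567 → pointOk (k * 22) = true := between_extend pointOk 22 30690 45558 9 (p2u1651) p2r1652

theorem p2r1653 : allRange pointOk 22 45567 9 = true := by decide +kernel
theorem p2u1653 : ∀ k, 30690 ≤ k → k < 45576 → pointOk (k * 22) = true := between_extend pointOk 22 30690 45567 9 (p2u1652) p2r1653

theorem p2r1654 : allRange pointOk 22 45576 9 = true := by decide +kernel
theorem p2u1654 : ∀ k, 30690 ≤ k → k < 45585 → pointOk (k * 22) = true := between_extend pointOk 22 30690 45576 9 (p2u1653) p2r1654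

theorem p2r1655 : allRange pointOk 22 45585 9 = true := by decide +kernel
theorem p2u1655 : ∀ k, 30690 ≤ k → k < 45594 → pointOk (k * 22) = true := between_extend pointOk 22 30690 45585 9 (p2u1654) p2r1655

theorem p2r1656 : allRange pointOk 22 45594 9 = true := by decide +kernel
theorem p2u1656 : ∀ k, 30690 ≤ k → k < 45603 → pointOk (k * 22) = true := between_extend pointOk 22 30690 45594 9 (p2u1655) p2r1656

theorem p2r1657 : allRange pointOk 22 45603 9 = true := by decide +kernel
theorem p2u1657 : ∀ k, 30690 ≤ k → k < 45612 → pointOk (k * 22) = true := between_extend pointOk 22 30690 45603 9 (p2u1656) p2r1657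

theorem p2r1658 : allRange pointOk 22 45612 9 = true := by decide +kernel
theorem p2u1658 : ∀ k, 30690 ≤ k → k < 45621 → pointOk (k * 22) = true := between_extend pointOk 22 30690 45612 9 (p2u1657) p2r1658

theorem p2r1659 : allRange pointOk 22 45621 9 = true := by decide +kernel
theorem p2u1659 : ∀ k, 30690 ≤ k → k < 45630 → pointOk (k * 22) = true := between_extend pointOk 22 30690 45621 9 (p2u1658) p2r1659

theorem p2r1660 : allRange pointOk 22 45630 9 = true := by decide +kernel
theorem p2u1660 : ∀ k, 30690 ≤ k → k < 45639 → pointOk (k * 22) = true := between_extend pointOk 22 30690 45630 9 (p2u1659) p2r1660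

theorem p2r1661 : allRange pointOk 22 45639 9 = true := by decide +kernel
theorem p2u1661 : ∀ k, 30690 ≤ k → k < 45648 → pointOk (k * 22) = true := between_extend pointOk 22 30690 45639 9 (p2u1660) p2r1661

theorem p2r1662 : allRange pointOk 22 45648 9 = true := by decide +kernel
theorem p2u1662 : ∀ k, 30690 ≤ k → k < 45657 → pointOk (k * 22) = true := between_extend pointOk 22 30690 45648 9 (p2u1661) p2r1662

theorem p2r1663 : allRange pointOk 22 45657 9 = true := by decide +kernel
theorem p2u1663 : ∀ k, 30690 ≤ k → k < 45666 → pointOk (k * 22) = true := between_extend pointOk 22 30690 45657 9 (p2u1662) p2r1663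

theorem p2r1664 : allRange pointOk 22 45666 9 = true := by decide +kernel
theorem p2u1664 : ∀ k, 30690 ≤ k → k < 45675 → pointOk (k * 22) = true := between_extend pointOk 22 30690 45666 9 (p2u1663) p2r1664

theorem p2r1665 : allRange pointOk 22 45675 9 = true := by decide +kernel
theorem p2u1665 : ∀ k, 30690 ≤ k → k < 45684 → pointOk (k * 22) = true := between_extend pointOk 22 30690 45675 9 (p2u1664) p2r1665

theorem p2r1666 : allRange pointOk 22 45684 9 = true := by decide +kernel
theorem p2u1666 : ∀ k, 30690 ≤ k → k < 45693 → pointOk (k * 22) = true := between_extend pointOk 22 30690 45684 9 (p2u1665) p2r1666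

theorem p2r1667 : allRange pointOk 22 45693 9 = true := by decide +kernel
theorem p2u1667 : ∀ k, 30690 ≤ k → k < 45702 → pointOk (k * 22) = true := between_extend pointOk 22 30690 45693 9 (p2u1666) p2r1667

theorem p2r1668 : allRange pointOk 22 45702 9 = true := by decide +kernel
theorem p2u1668 : ∀ k, 30690 ≤ k → k < 45711 → pointOk (k * 22) = true := between_extend pointOk 22 30690 45702 9 (p2u1667) p2r1668

theorem p2r1669 : allRange pointOk 22 45711 9 = true := by decide +kernel
theorem p2u1669 : ∀ k, 30690 ≤ k → k < 45720 → pointOk (k * 22) = true := between_extend pointOk 22 30690 45711 9 (p2u1668) p2r1669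

theorem p2r1670 : allRange pointOk 22 45720 9 = true := by decide +kernel
theorem p2u1670 : ∀ k, 30690 ≤ k → k < 45729 → pointOk (k * 22) = true := between_extend pointOk 22 30690 45720 9 (p2u1669) p2r1670

theorem p2r1671 : allRange pointOk 22 45729 9 = true := by decide +kernel
theorem p2u1671 : ∀ k, 30690 ≤ k → k < 45738 → pointOk (k * 22) = true := between_extend pointOk 22 30690 45729 9 (p2u1670) p2r1671

theorem p2r1672 : allRange pointOk 22 45738 9 = true := by decide +kernel
theorem p2u1672 : ∀ k, 30690 ≤ k → k < 45747 → pointOk (k * 22) = true := between_extend pointOk 22 30690 45738 9 (p2u1671) p2r1672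

theorem p2r1673 : allRange pointOk 22 45747 9 = true := by decide +kernel
theorem p2u1673 : ∀ k, 30690 ≤ k → k < 45756 → pointOk (k * 22) = true := between_extend pointOk 22 30690 45747 9 (p2u1672) p2r1673

theorem p2r1674 : allRange pointOk 22 45756 9 = true := by decide +kernel
theorem p2u1674 : ∀ k, 30690 ≤ k → k < 45765 → pointOk (k * 22) = true := between_extend pointOk 22 30690 45756 9 (p2u1673) p2r1674

theorem p2r1675 : allRange pointOk 22 45765 9 = true := by decide +kernel
theorem p2u1675 : ∀ k, 30690 ≤ k → k < 45774 → pointOk (k * 22) = true := between_extend pointOk 22 30690 45765 9 (p2u1674) p2r1675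

theorem p2r1676 : allRange pointOk 22 45774 9 = true := by decide +kernel
theorem p2u1676 : ∀ k, 30690 ≤ k → k < 45783 → pointOk (k * 22) = true := between_extend pointOk 22 30690 45774 9 (p2u1675) p2r1676

theorem p2r1677 : allRange pointOk 22 45783 9 = true := by decide +kernel
theorem p2u1677 : ∀ k, 30690 ≤ k → k < 45792 → pointOk (k * 22) = true := between_extend pointOk 22 30690 45783 9 (p2u1676) p2r1677

theorem p2r1678 : allRange pointOk 22 45792 9 = true := by decide +kernel
theorem p2u1678 : ∀ k, 30690 ≤ k → k < 45801 → pointOk (k * 22) = true := between_extend pointOk 22 30690 45792 9 (p2u1677) p2r1678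

theorem p2r1679 : allRange pointOk 22 45801 9 = true := by decide +kernel
theorem p2u1679 : ∀ k, 30690 ≤ k → k < 45810 → pointOk (k * 22) = true := between_extend pointOk 22 30690 45801 9 (p2u1678) p2r1679

theorem p2r1680 : allRange pointOk 22 45810 9 = true := by decide +kernel
theorem p2u1680 : ∀ k, 30690 ≤ k → k < 45819 → pointOk (k * 22) = true := between_extend pointOk 22 30690 45810 9 (p2u1679) p2r1680

theorem p2r1681 : allRange pointOk 22 45819 9 = true := by decide +kernel
theorem p2u1681 : ∀ k, 30690 ≤ k → k < 45828 → pointOk (k * 22) = true := between_extend pointOk 22 30690 45819 9 (p2u1680) p2r1681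

theorem p2r1682 : allRange pointOk 22 45828 9 = true := by decide +kernel
theorem p2u1682 : ∀ k, 30690 ≤ k → k < 45837 → pointOk (k * 22) = true := between_extend pointOk 22 30690 45828 9 (p2u1681) p2r1682

theorem p2r1683 : allRange pointOk 22 45837 9 = true := by decide +kernel
theorem p2u1683 : ∀ k, 30690 ≤ k → k < 45846 → pointOk (k * 22) = true := between_extend pointOk 22 30690 45837 9 (p2u1682) p2r1683

theorem p2r1684 : allRange pointOk 22 45846 9 = true := by decide +kernel
theorem p2u1684 : ∀ k, 30690 ≤ k → k < 45855 → pointOk (k * 22) = true := between_extend pointOk 22 30690 45846 9 (p2u1683) p2r1684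

theorem p2r1685 : allRange pointOk 22 45855 9 = true := by decide +kernel
theorem p2u1685 : ∀ k, 30690 ≤ k → k < 45864 → pointOk (k * 22) = true := between_extend pointOk 22 30690 45855 9 (p2u1684) p2r1685

theorem p2r1686 : allRange pointOk 22 45864 9 = true := by decide +kernel
theorem p2u1686 : ∀ k, 30690 ≤ k → k < 45873 → pointOk (k * 22) = true := between_extend pointOk 22 30690 45864 9 (p2u1685) p2r1686

theorem p2r1687 : allRange pointOk 22 45873 9 = true := by decide +kernel
theorem p2u1687 : ∀ k, 30690 ≤ k → k < 45882 → pointOk (k * 22) = true := between_extend pointOk 22 30690 45873 9 (p2u1686) p2r1687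

theorem p2r1688 : allRange pointOk 22 45882 9 = true := by decide +kernel
theorem p2u1688 : ∀ k, 30690 ≤ k → k < 45891 → pointOk (k * 22) = true := between_extend pointOk 22 30690 45882 9 (p2u1687) p2r1688

theorem p2r1689 : allRange pointOk 22 45891 9 = true := by decide +kernel
theorem p2u1689 : ∀ k, 30690 ≤ k → k < 45900 → pointOk (k * 22) = true := between_extend pointOk 22 30690 45891 9 (p2u1688) p2r1689

theorem p2r1690 : allRange pointOk 22 45900 9 = true := by decide +kernel
theorem p2u1690 : ∀ k, 30690 ≤ k → k < 45909 → pointOk (k * 22) = true := between_extend pointOk 22 30690 45900 9 (p2u1689) p2r1690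

theorem p2r1691 : allRange pointOk 22 45909 9 = true := by decide +kernel
theorem p2u1691 : ∀ k, 30690 ≤ k → k < 45918 → pointOk (k * 22) = true := between_extend pointOk 22 30690 45909 9 (p2u1690) p2r1691

theorem p2r1692 : allRange pointOk 22 45918 9 = true := by decide +kernel
theorem p2u1692 : ∀ k, 30690 ≤ k → k < 45927 → pointOk (k * 22) = true := between_extend pointOk 22 30690 45918 9 (p2u1691) p2r1692

theorem p2r1693 : allRange pointOk 22 45927 9 = true := by decide +kernel
theorem p2u1693 : ∀ k, 30690 ≤ k → k < 45936 → pointOk (k * 22) = true := between_extend pointOk 22 30690 45927 9 (p2u1692) p2r1693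

theorem p2r1694 : allRange pointOk 22 45936 9 = true := by decide +kernel
theorem p2u1694 : ∀ k, 30690 ≤ k → k < 45945 → pointOk (k * 22) = true := between_extend pointOk 22 30690 45936 9 (p2u1693) p2r1694

theorem p2r1695 : allRange pointOk 22 45945 9 = true := by decide +kernel
theorem p2u1695 : ∀ k, 30690 ≤ k → k < 45954 → pointOk (k * 22) = true := between_extend pointOk 22 30690 45945 9 (p2u1694) p2r1695

theorem p2r1696 : allRange pointOk 22 45954 9 = true := by decide +kernel
theorem p2u1696 : ∀ k, 30690 ≤ k → k < 45963 → pointOk (k * 22) = true := between_extend pointOk 22 30690 45954 9 (p2u1695) p2r1696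

theorem p2r1697 : allRange pointOk 22 45963 9 = true := by decide +kernel
theorem p2u1697 : ∀ k, 30690 ≤ k → k < 45972 → pointOk (k * 22) = true := between_extend pointOk 22 30690 45963 9 (p2u1696) p2r1697

theorem p2r1698 : allRange pointOk 22 45972 9 = true := by decide +kernel
theorem p2u1698 : ∀ k, 30690 ≤ k → k < 45981 → pointOk (k * 22) = true := between_extend pointOk 22 30690 45972 9 (p2u1697) p2r1698

theorem p2r1699 : allRange pointOk 22 45981 9 = true := by decide +kernel
theorem p2u1699 : ∀ k, 30690 ≤ k → k < 45990 → pointOk (k * 22) = true := between_extend pointOk 22 30690 45981 9 (p2u1698) p2r1699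

theorem p2r1700 : allRange pointOk 22 45990 9 = true := by decide +kernel
theorem p2u1700 : ∀ k, 30690 ≤ k → k < 45999 → pointOk (k * 22) = true := between_extend pointOk 22 30690 45990 9 (p2u1699) p2r1700

theorem p2r1701 : allRange pointOk 22 45999 9 = true := by decide +kernel
theorem p2u1701 : ∀ k, 30690 ≤ k → k < 46008 → pointOk (k * 22) = true := between_extend pointOk 22 30690 45999 9 (p2u1700) p2r1701

theorem p2r1702 : allRange pointOk 22 46008 9 = true := by decide +kernel
theorem p2u1702 : ∀ k, 30690 ≤ k → k < 46017 → pointOk (k * 22) = true := between_extend pointOk 22 30690 46008 9 (p2u1701) p2r1702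

theorem p2r1703 : allRange pointOk 22 46017 9 = true := by decide +kernel
theorem p2u1703 : ∀ k, 30690 ≤ k → k < 46026 → pointOk (k * 22) = true := between_extend pointOk 22 30690 46017 9 (p2u1702) p2r1703

theorem p2r1704 : allRange pointOk 22 46026 9 = true := by decide +kernel
theorem p2u1704 : ∀ k, 30690 ≤ k → k < 46035 → pointOk (k * 22) = true := between_extend pointOk 22 30690 46026 9 (p2u1703) p2r1704

theorem p2 : ∀ k, 30690 ≤ k → k < 46035 → pointOk (k * 22) = true := p2u1704

end Cfsg.Agent.Lib.Helper28_S1692
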