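import Cfsg.Agent.Lib.Helper28_S1692Def

set_option autoImplicit false
set_option linter.constructorNameAsVariable false
set_option Elab.async false

namespace Cfsg.Agent.Lib.Helper28_S1692

open Cfsg.Agent.Lib.Helper28_CosetPerm

theorem p3r0 : allRange pointOk 22 46035 9 = true := by decide +kernel
theorem p3u0 : ∀ k, 46035 ≤ k → k < 46044 → pointOk (k * 22) = true := between_extend pointOk 22 46035 46035 9 (between_start pointOk 22 46035) p3r0

theorem p3r1 : allRange pointOk 22 46044 9 = true := by decide +kernel
theorem p3u1 : ∀ k, 46035 ≤ k → k < 46053 → pointOk (k * 22) = true := between_extend pointOk 22 46035 46044 9 (p3u0) p3r1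

theorem p3r2 : allRange pointOk 22 46053 9 = true := by decide +kernel
theorem p3u2 : ∀ k, 46035 ≤ k → k < 46062 → pointOk (k * 22) = true := between_extend pointOk 22 46035 46053 9 (p3u1) p3r2

theorem p3r3 : allRange pointOk 22 46062 9 = true := by decide +kernel
theorem p3u3 : ∀ k, 46035 ≤ k → k < 46071 → pointOk (k * 22) = true := between_extend pointOk 22 46035 46062 9 (p3u2) p3r3

theorem p3r4 : allRange pointOk 22 46071 9 = true := by decide +kernel
theorem p3u4 : ∀ k, 46035 ≤ k → k < 46080 → pointOk (k * 22) = true := between_extend pointOk 22 46035 46071 9 (p3u3) p3r4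

theorem p3r5 : allRange pointOk 22 46080 9 = true := by decide +kernel
theorem p3u5 : ∀ k, 46035 ≤ k → k < 46089 → pointOk (k * 22) = true := between_extend pointOk 22 46035 46080 9 (p3u4) p3r5

theorem p3r6 : allRange pointOk 22 46089 9 = true := by decide +kernel
theorem p3u6 : ∀ k, 46035 ≤ k → k < 46098 → pointOk (k * 22) = true := between_extend pointOk 22 46035 46089 9 (p3u5) p3r6

theorem p3r7 : allRange pointOk 22 46098 9 = true := by decide +kernel
theorem p3u7 : ∀ k, 46035 ≤ k → k < 46107 → pointOk (k * 22) = true := between_extend pointOk 22 46035 46098 9 (p3u6) p3r7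

theorem p3r8 : allRange pointOk 22 46107 9 = true := by decide +kernel
theorem p3u8 : ∀ k, 46035 ≤ k → k < 46116 → pointOk (k * 22) = true := between_extend pointOk 22 46035 46107 9 (p3u7) p3r8

theorem p3r9 : allRange pointOk 22 46116 9 = true := by decide +kernel
theorem p3u9 : ∀ k, 46035 ≤ k → k < 46125 → pointOk (k * 22) = true := between_extend pointOk 22 46035 46116 9 (p3u8) p3r9

theorem p3r10 : allRange pointOk 22 46125 9 = true := by decide +kernel
theorem p3u10 : ∀ k, 46035 ≤ k → k < 46134 → pointOk (k * 22) = true := between_extend pointOk 22 46035 46125 9 (p3u9) p3r10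

theorem p3r11 : allRange pointOk 22 46134 9 = true := by decide +kernel
theorem p3u11 : ∀ k, 46035 ≤ k → k < 46143 → pointOk (k * 22) = true := between_extend pointOk 22 46035 46134 9 (p3u10) p3r11

theorem p3r12 : allRange pointOk 22 46143 9 = true := by decide +kernel
theorem p3u12 : ∀ k, 46035 ≤ k → k < 46152 → pointOk (k * 22) = true := between_extend pointOk 22 46035 46143 9 (p3u11) p3r12

theorem p3r13 : allRange pointOk 22 46152 9 = true := by decide +kernel
theorem p3u13 : ∀ k, 46035 ≤ k → k < 46161 → pointOk (k * 22) = true := between_extend pointOk 22 46035 46152 9 (p3u12) p3r13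

theorem p3r14 : allRange pointOk 22 46161 9 = true := by decide +kernel
theorem p3u14 : ∀ k, 46035 ≤ k → k < 46170 → pointOk (k * 22) = true := between_extend pointOk 22 46035 46161 9 (p3u13) p3r14

theorem p3r15 : allRange pointOk 22 46170 9 = true := by decide +kernel
theorem p3u15 : ∀ k, 46035 ≤ k → k < 46179 → pointOk (k * 22) = true := between_extend pointOk 22 46035 46170 9 (p3u14) p3r15

theorem p3r16 : allRange pointOk 22 46179 9 = true := by decide +kernel
theorem p3u16 : ∀ k, 46035 ≤ k → k < 46188 → pointOk (k * 22) = true := between_extend pointOk 22 46035 46179 9 (p3u15) p3r16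

theorem p3r17 : allRange pointOk 22 46188 9 = true := by decide +kernel
theorem p3u17 : ∀ k, 46035 ≤ k → k < 46197 → pointOk (k * 22) = true := between_extend pointOk 22 46035 46188 9 (p3u16) p3r17

theorem p3r18 : allRange pointOk 22 46197 9 = true := by decide +kernel
theorem p3u18 : ∀ k, 46035 ≤ k → k < 46206 → pointOk (k * 22) = true := between_extend pointOk 22 46035 46197 9 (p3u17) p3r18

theorem p3r19 : allRange pointOk 22 46206 9 = true := by decide +kernel
theorem p3u19 : ∀ k, 46035 ≤ k → k < 46215 → pointOk (k * 22) = true := between_extend pointOk 22 46035 46206 9 (p3u18) p3r19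

theorem p3r20 : allRange pointOk 22 46215 9 = true := by decide +kernel
theorem p3u20 : ∀ k, 46035 ≤ k → k < 46224 → pointOk (k * 22) = true := between_extend pointOk 22 46035 46215 9 (p3u19) p3r20

theorem p3r21 : allRange pointOk 22 46224 9 = true := by decide +kernel
theorem p3u21 : ∀ k, 46035 ≤ k → k < 46233 → pointOk (k * 22) = true := between_extend pointOk 22 46035 46224 9 (p3u20) p3r21

theorem p3r22 : allRange pointOk 22 46233 9 = true := by decide +kernel
theorem p3u22 : ∀ k, 46035 ≤ k → k < 46242 → pointOk (k * 22) = true := between_extend pointOk 22 46035 46233 9 (p3u21) p3r22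

theorem p3r23 : allRange pointOk 22 46242 9 = true := by decide +kernel
theorem p3u23 : ∀ k, 46035 ≤ k → k < 46251 → pointOk (k * 22) = true := between_extend pointOk 22 46035 46242 9 (p3u22) p3r23

theorem p3r24 : allRange pointOk 22 46251 9 = true := by decide +kernel
theorem p3u24 : ∀ k, 46035 ≤ k → k < 46260 → pointOk (k * 22) = true := between_extend pointOk 22 46035 46251 9 (p3u23) p3r24

theorem p3r25 : allRange pointOk 22 46260 9 = true := by decide +kernel
theorem p3u25 : ∀ k, 46035 ≤ k → k < 46269 → pointOk (k * 22) = true := between_extend pointOk 22 46035 46260 9 (p3u24) p3r25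

theorem p3r26 : allRange pointOk 22 46269 9 = true := by decide +kernel
theorem p3u26 : ∀ k, 46035 ≤ k → k < 46278 → pointOk (k * 22) = true := between_extend pointOk 22 46035 46269 9 (p3u25) p3r26

theorem p3r27 : allRange pointOk 22 46278 9 = true := by decide +kernel
theorem p3u27 : ∀ k, 46035 ≤ k → k < 46287 → pointOk (k * 22) = true := between_extend pointOk 22 46035 46278 9 (p3u26) p3r27

theorem p3r28 : allRange pointOk 22 46287 9 = true := by decide +kernel
theorem p3u28 : ∀ k, 46035 ≤ k → k < 46296 → pointOk (k * 22) = true := between_extend pointOk 22 46035 46287 9 (p3u27) p3r28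

theorem p3r29 : allRange pointOk 22 46296 9 = true := by decide +kernel
theorem p3u29 : ∀ k, 46035 ≤ k → k < 46305 → pointOk (k * 22) = true := between_extend pointOk 22 46035 46296 9 (p3u28) p3r29

theorem p3r30 : allRange pointOk 22 46305 9 = true := by decide +kernel
theorem p3u30 : ∀ k, 46035 ≤ k → k < 46314 → pointOk (k * 22) = true := between_extend pointOk 22 46035 46305 9 (p3u29) p3r30

theorem p3r31 : allRange pointOk 22 46314 9 = true := by decide +kernel
theorem p3u31 : ∀ k, 46035 ≤ k → k < 46323 → pointOk (k * 22) = true := between_extend pointOk 22 46035 46314 9 (p3u30) p3r31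

theorem p3r32 : allRange pointOk 22 46323 9 = true := by decide +kernel
theorem p3u32 : ∀ k, 46035 ≤ k → k < 46332 → pointOk (k * 22) = true := between_extend pointOk 22 46035 46323 9 (p3u31) p3r32

theorem p3r33 : allRange pointOk 22 46332 9 = true := by decide +kernel
theorem p3u33 : ∀ k, 46035 ≤ k → k < 46341 → pointOk (k * 22) = true := between_extend pointOk 22 46035 46332 9 (p3u32) p3r33

theorem p3r34 : allRange pointOk 22 46341 9 = true := by decide +kernel
theorem p3u34 : ∀ k, 46035 ≤ k → k < 46350 → pointOk (k * 22) = true := between_extend pointOk 22 46035 46341 9 (p3u33) p3r34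

theorem p3r35 : allRange pointOk 22 46350 9 = true := by decide +kernel
theorem p3u35 : ∀ k, 46035 ≤ k → k < 46359 → pointOk (k * 22) = true := between_extend pointOk 22 46035 46350 9 (p3u34) p3r35

theorem p3r36 : allRange pointOk 22 46359 9 = true := by decide +kernel
theorem p3u36 : ∀ k, 46035 ≤ k → k < 46368 → pointOk (k * 22) = true := between_extend pointOk 22 46035 46359 9 (p3u35) p3r36

theorem p3r37 : allRange pointOk 22 46368 9 = true := by decide +kernel
theorem p3u37 : ∀ k, 46035 ≤ k → k < 46377 → pointOk (k * 22) = true := between_extend pointOk 22 46035 46368 9 (p3u36) p3r37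

theorem p3r38 : allRange pointOk 22 46377 9 = true := by decide +kernel
theorem p3u38 : ∀ k, 46035 ≤ k → k < 46386 → pointOk (k * 22) = true := between_extend pointOk 22 46035 46377 9 (p3u37) p3r38

theorem p3r39 : allRange pointOk 22 46386 9 = true := by decide +kernel
theorem p3u39 : ∀ k, 46035 ≤ k → k < 46395 → pointOk (k * 22) = true := between_extend pointOk 22 46035 46386 9 (p3u38) p3r39

theorem p3r40 : allRange pointOk 22 46395 9 = true := by decide +kernel
theorem p3u40 : ∀ k, 46035 ≤ k → k < 46404 → pointOk (k * 22) = true := between_extend pointOk 22 46035 46395 9 (p3u39) p3r40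

theorem p3r41 : allRange pointOk 22 46404 9 = true := by decide +kernel
theorem p3u41 : ∀ k, 46035 ≤ k → k < 46413 → pointOk (k * 22) = true := between_extend pointOk 22 46035 46404 9 (p3u40) p3r41

theorem p3r42 : allRange pointOk 22 46413 9 = true := by decide +kernel
theorem p3u42 : ∀ k, 46035 ≤ k → k < 46422 → pointOk (k * 22) = true := between_extend pointOk 22 46035 46413 9 (p3u41) p3r42

theorem p3r43 : allRange pointOk 22 46422 9 = true := by decide +kernel
theorem p3u43 : ∀ k, 46035 ≤ k → k < 46431 → pointOk (k * 22) = true := between_extend pointOk 22 46035 46422 9 (p3u42) p3r43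

theorem p3r44 : allRange pointOk 22 46431 9 = true := by decide +kernel
theorem p3u44 : ∀ k, 46035 ≤ k → k < 46440 → pointOk (k * 22) = true := between_extend pointOk 22 46035 46431 9 (p3u43) p3r44

theorem p3r45 : allRange pointOk 22 46440 9 = true := by decide +kernel
theorem p3u45 : ∀ k, 46035 ≤ k → k < 46449 → pointOk (k * 22) = true := between_extend pointOk 22 46035 46440 9 (p3u44) p3r45

theorem p3r46 : allRange pointOk 22 46449 9 = true := by decide +kernel
theorem p3u46 : ∀ k, 46035 ≤ k → k < 46458 → pointOk (k * 22) = true := between_extend pointOk 22 46035 46449 9 (p3u45) p3r46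

theorem p3r47 : allRange pointOk 22 46458 9 = true := by decide +kernel
theorem p3u47 : ∀ k, 46035 ≤ k → k < 46467 → pointOk (k * 22) = true := between_extend pointOk 22 46035 46458 9 (p3u46) p3r47

theorem p3r48 : allRange pointOk 22 46467 9 = true := by decide +kernel
theorem p3u48 : ∀ k, 46035 ≤ k → k < 46476 → pointOk (k * 22) = true := between_extend pointOk 22 46035 46467 9 (p3u47) p3r48

theorem p3r49 : allRange pointOk 22 46476 9 = true := by decide +kernel
theorem p3u49 : ∀ k, 46035 ≤ k → k < 46485 → pointOk (k * 22) = true := between_extend pointOk 22 46035 46476 9 (p3u48) p3r49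

theorem p3r50 : allRange pointOk 22 46485 9 = true := by decide +kernel
theorem p3u50 : ∀ k, 46035 ≤ k → k < 46494 → pointOk (k * 22) = true := between_extend pointOk 22 46035 46485 9 (p3u49) p3r50

theorem p3r51 : allRange pointOk 22 46494 9 = true := by decide +kernel
theorem p3u51 : ∀ k, 46035 ≤ k → k < 46503 → pointOk (k * 22) = true := between_extend pointOk 22 46035 46494 9 (p3u50) p3r51

theorem p3r52 : allRange pointOk 22 46503 9 = true := by decide +kernel
theorem p3u52 : ∀ k, 46035 ≤ k → k < 46512 → pointOk (k * 22) = true := between_extend pointOk 22 46035 46503 9 (p3u51) p3r52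

theorem p3r53 : allRange pointOk 22 46512 9 = true := by decide +kernel
theorem p3u53 : ∀ k, 46035 ≤ k → k < 46521 → pointOk (k * 22) = true := between_extend pointOk 22 46035 46512 9 (p3u52) p3r53

theorem p3r54 : allRange pointOk 22 46521 9 = true := by decide +kernel
theorem p3u54 : ∀ k, 46035 ≤ k → k < 46530 → pointOk (k * 22) = true := between_extend pointOk 22 46035 46521 9 (p3u53) p3r54

theorem p3r55 : allRange pointOk 22 46530 9 = true := by decide +kernel
theorem p3u55 : ∀ k, 46035 ≤ k → k < 46539 → pointOk (k * 22) = true := between_extend pointOk 22 46035 46530 9 (p3u54) p3r55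

theorem p3r56 : allRange pointOk 22 46539 9 = true := by decide +kernel
theorem p3u56 : ∀ k, 46035 ≤ k → k < 46548 → pointOk (k * 22) = true := between_extend pointOk 22 46035 46539 9 (p3u55) p3r56

theorem p3r57 : allRange pointOk 22 46548 9 = true := by decide +kernel
theorem p3u57 : ∀ k, 46035 ≤ k → k < 46557 → pointOk (k * 22) = true := between_extend pointOk 22 46035 46548 9 (p3u56) p3r57

theorem p3r58 : allRange pointOk 22 46557 9 = true := by decide +kernel
theorem p3u58 : ∀ k, 46035 ≤ k → k < 46566 → pointOk (k * 22) = true := between_extend pointOk 22 46035 46557 9 (p3u57) p3r58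

theorem p3r59 : allRange pointOk 22 46566 9 = true := by decide +kernel
theorem p3u59 : ∀ k, 46035 ≤ k → k < 46575 → pointOk (k * 22) = true := between_extend pointOk 22 46035 46566 9 (p3u58) p3r59

theorem p3r60 : allRange pointOk 22 46575 9 = true := by decide +kernel
theorem p3u60 : ∀ k, 46035 ≤ k → k < 46584 → pointOk (k * 22) = true := between_extend pointOk 22 46035 46575 9 (p3u59) p3r60

theorem p3r61 : allRange pointOk 22 46584 9 = true := by decide +kernel
theorem p3u61 : ∀ k, 46035 ≤ k → k < 46593 → pointOk (k * 22) = true := between_extend pointOk 22 46035 46584 9 (p3u60) p3r61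

theorem p3r62 : allRange pointOk 22 46593 9 = true := by decide +kernel
theorem p3u62 : ∀ k, 46035 ≤ k → k < 46602 → pointOk (k * 22) = true := between_extend pointOk 22 46035 46593 9 (p3u61) p3r62

theorem p3r63 : allRange pointOk 22 46602 9 = true := by decide +kernel
theorem p3u63 : ∀ k, 46035 ≤ k → k < 46611 → pointOk (k * 22) = true := between_extend pointOk 22 46035 46602 9 (p3u62) p3r63

theorem p3r64 : allRange pointOk 22 46611 9 = true := by decide +kernel
theorem p3u64 : ∀ k, 46035 ≤ k → k < 46620 → pointOk (k * 22) = true := between_extend pointOk 22 46035 46611 9 (p3u63) p3r64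

theorem p3r65 : allRange pointOk 22 46620 9 = true := by decide +kernel
theorem p3u65 : ∀ k, 46035 ≤ k → k < 46629 → pointOk (k * 22) = true := between_extend pointOk 22 46035 46620 9 (p3u64) p3r65

theorem p3r66 : allRange pointOk 22 46629 9 = true := by decide +kernel
theorem p3u66 : ∀ k, 46035 ≤ k → k < 46638 → pointOk (k * 22) = true := between_extend pointOk 22 46035 46629 9 (p3u65) p3r66

theorem p3r67 : allRange pointOk 22 46638 9 = true := by decide +kernel
theorem p3u67 : ∀ k, 46035 ≤ k → k < 46647 → pointOk (k * 22) = true := between_extend pointOk 22 46035 46638 9 (p3u66) p3r67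

theorem p3r68 : allRange pointOk 22 46647 9 = true := by decide +kernel
theorem p3u68 : ∀ k, 46035 ≤ k → k < 46656 → pointOk (k * 22) = true := between_extend pointOk 22 46035 46647 9 (p3u67) p3r68

theorem p3r69 : allRange pointOk 22 46656 9 = true := by decide +kernel
theorem p3u69 : ∀ k, 46035 ≤ k → k < 46665 → pointOk (k * 22) = true := between_extend pointOk 22 46035 46656 9 (p3u68) p3r69

theorem p3r70 : allRange pointOk 22 46665 9 = true := by decide +kernel
theorem p3u70 : ∀ k, 46035 ≤ k → k < 46674 → pointOk (k * 22) = true := between_extend pointOk 22 46035 46665 9 (p3u69) p3r70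

theorem p3r71 : allRange pointOk 22 46674 9 = true := by decide +kernel
theorem p3u71 : ∀ k, 46035 ≤ k → k < 46683 → pointOk (k * 22) = true := between_extend pointOk 22 46035 46674 9 (p3u70) p3r71

theorem p3r72 : allRange pointOk 22 46683 9 = true := by decide +kernel
theorem p3u72 : ∀ k, 46035 ≤ k → k < 46692 → pointOk (k * 22) = true := between_extend pointOk 22 46035 46683 9 (p3u71) p3r72

theorem p3r73 : allRange pointOk 22 46692 9 = true := by decide +kernel
theorem p3u73 : ∀ k, 46035 ≤ k → k < 46701 → pointOk (k * 22) = true := between_extend pointOk 22 46035 46692 9 (p3u72) p3r73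

theorem p3r74 : allRange pointOk 22 46701 9 = true := by decide +kernel
theorem p3u74 : ∀ k, 46035 ≤ k → k < 46710 → pointOk (k * 22) = true := between_extend pointOk 22 46035 46701 9 (p3u73) p3r74

theorem p3r75 : allRange pointOk 22 46710 9 = true := by decide +kernel
theorem p3u75 : ∀ k, 46035 ≤ k → k < 46719 → pointOk (k * 22) = true := between_extend pointOk 22 46035 46710 9 (p3u74) p3r75

theorem p3r76 : allRange pointOk 22 46719 9 = true := by decide +kernel
theorem p3u76 : ∀ k, 46035 ≤ k → k < 46728 → pointOk (k * 22) = true := between_extend pointOk 22 46035 46719 9 (p3u75) p3r76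

theorem p3r77 : allRange pointOk 22 46728 9 = true := by decide +kernel
theorem p3u77 : ∀ k, 46035 ≤ k → k < 46737 → pointOk (k * 22) = true := between_extend pointOk 22 46035 46728 9 (p3u76) p3r77

theorem p3r78 : allRange pointOk 22 46737 9 = true := by decide +kernel
theorem p3u78 : ∀ k, 46035 ≤ k → k < 46746 → pointOk (k * 22) = true := between_extend pointOk 22 46035 46737 9 (p3u77) p3r78

theorem p3r79 : allRange pointOk 22 46746 9 = true := by decide +kernel
theorem p3u79 : ∀ k, 46035 ≤ k → k < 46755 → pointOk (k * 22) = true := between_extend pointOk 22 46035 46746 9 (p3u78) p3r79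

theorem p3r80 : allRange pointOk 22 46755 9 = true := by decide +kernel
theorem p3u80 : ∀ k, 46035 ≤ k → k < 46764 → pointOk (k * 22) = true := between_extend pointOk 22 46035 46755 9 (p3u79) p3r80

theorem p3r81 : allRange pointOk 22 46764 9 = true := by decide +kernel
theorem p3u81 : ∀ k, 46035 ≤ k → k < 46773 → pointOk (k * 22) = true := between_extend pointOk 22 46035 46764 9 (p3u80) p3r81

theorem p3r82 : allRange pointOk 22 46773 9 = true := by decide +kernel
theorem p3u82 : ∀ k, 46035 ≤ k → k < 46782 → pointOk (k * 22) = true := between_extend pointOk 22 46035 46773 9 (p3u81) p3r82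

theorem p3r83 : allRange pointOk 22 46782 9 = true := by decide +kernel
theorem p3u83 : ∀ k, 46035 ≤ k → k < 46791 → pointOk (k * 22) = true := between_extend pointOk 22 46035 46782 9 (p3u82) p3r83

theorem p3r84 : allRange pointOk 22 46791 9 = true := by decide +kernel
theorem p3u84 : ∀ k, 46035 ≤ k → k < 46800 → pointOk (k * 22) = true := between_extend pointOk 22 46035 46791 9 (p3u83) p3r84

theorem p3r85 : allRange pointOk 22 46800 9 = true := by decide +kernel
theorem p3u85 : ∀ k, 46035 ≤ k → k < 46809 → pointOk (k * 22) = true := between_extend pointOk 22 46035 46800 9 (p3u84) p3r85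

theorem p3r86 : allRange pointOk 22 46809 9 = true := by decide +kernel
theorem p3u86 : ∀ k, 46035 ≤ k → k < 46818 → pointOk (k * 22) = true := between_extend pointOk 22 46035 46809 9 (p3u85) p3r86

theorem p3r87 : allRange pointOk 22 46818 9 = true := by decide +kernel
theorem p3u87 : ∀ k, 46035 ≤ k → k < 46827 → pointOk (k * 22) = true := between_extend pointOk 22 46035 46818 9 (p3u86) p3r87

theorem p3r88 : allRange pointOk 22 46827 9 = true := by decide +kernel
theorem p3u88 : ∀ k, 46035 ≤ k → k < 46836 → pointOk (k * 22) = true := between_extend pointOk 22 46035 46827 9 (p3u87) p3r88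

theorem p3r89 : allRange pointOk 22 46836 9 = true := by decide +kernel
theorem p3u89 : ∀ k, 46035 ≤ k → k < 46845 → pointOk (k * 22) = true := between_extend pointOk 22 46035 46836 9 (p3u88) p3r89

theorem p3r90 : allRange pointOk 22 46845 9 = true := by decide +kernel
theorem p3u90 : ∀ k, 46035 ≤ k → k < 46854 → pointOk (k * 22) = true := between_extend pointOk 22 46035 46845 9 (p3u89) p3r90

theorem p3r91 : allRange pointOk 22 46854 9 = true := by decide +kernel
theorem p3u91 : ∀ k, 46035 ≤ k → k < 46863 → pointOk (k * 22) = true := between_extend pointOk 22 46035 46854 9 (p3u90) p3r91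

theorem p3r92 : allRange pointOk 22 46863 9 = true := by decide +kernel
theorem p3u92 : ∀ k, 46035 ≤ k → k < 46872 → pointOk (k * 22) = true := between_extend pointOk 22 46035 46863 9 (p3u91) p3r92

theorem p3r93 : allRange pointOk 22 46872 9 = true := by decide +kernel
theorem p3u93 : ∀ k, 46035 ≤ k → k < 46881 → pointOk (k * 22) = true := between_extend pointOk 22 46035 46872 9 (p3u92) p3r93

theorem p3r94 : allRange pointOk 22 46881 9 = true := by decide +kernel
theorem p3u94 : ∀ k, 46035 ≤ k → k < 46890 → pointOk (k * 22) = true := between_extend pointOk 22 46035 46881 9 (p3u93) p3r94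

theorem p3r95 : allRange pointOk 22 46890 9 = true := by decide +kernel
theorem p3u95 : ∀ k, 46035 ≤ k → k < 46899 → pointOk (k * 22) = true := between_extend pointOk 22 46035 46890 9 (p3u94) p3r95

theorem p3r96 : allRange pointOk 22 46899 9 = true := by decide +kernel
theorem p3u96 : ∀ k, 46035 ≤ k → k < 46908 → pointOk (k * 22) = true := between_extend pointOk 22 46035 46899 9 (p3u95) p3r96

theorem p3r97 : allRange pointOk 22 46908 9 = true := by decide +kernel
theorem p3u97 : ∀ k, 46035 ≤ k → k < 46917 → pointOk (k * 22) = true := between_extend pointOk 22 46035 46908 9 (p3u96) p3r97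

theorem p3r98 : allRange pointOk 22 46917 9 = true := by decide +kernel
theorem p3u98 : ∀ k, 46035 ≤ k → k < 46926 → pointOk (k * 22) = true := between_extend pointOk 22 46035 46917 9 (p3u97) p3r98

theorem p3r99 : allRange pointOk 22 46926 9 = true := by decide +kernel
theorem p3u99 : ∀ k, 46035 ≤ k → k < 46935 → pointOk (k * 22) = true := between_extend pointOk 22 46035 46926 9 (p3u98) p3r99

theorem p3r100 : allRange pointOk 22 46935 9 = true := by decide +kernel
theorem p3u100 : ∀ k, 46035 ≤ k → k < 46944 → pointOk (k * 22) = true := between_extend pointOk 22 46035 46935 9 (p3u99) p3r100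

theorem p3r101 : allRange pointOk 22 46944 9 = true := by decide +kernel
theorem p3u101 : ∀ k, 46035 ≤ k → k < 46953 → pointOk (k * 22) = true := between_extend pointOk 22 46035 46944 9 (p3u100) p3r101

theorem p3r102 : allRange pointOk 22 46953 9 = true := by decide +kernel
theorem p3u102 : ∀ k, 46035 ≤ k → k < 46962 → pointOk (k * 22) = true := between_extend pointOk 22 46035 46953 9 (p3u101) p3r102

theorem p3r103 : allRange pointOk 22 46962 9 = true := by decide +kernel
theorem p3u103 : ∀ k, 46035 ≤ k → k < 46971 → pointOk (k * 22) = true := between_extend pointOk 22 46035 46962 9 (p3u102) p3r103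

theorem p3r104 : allRange pointOk 22 46971 9 = true := by decide +kernel
theorem p3u104 : ∀ k, 46035 ≤ k → k < 46980 → pointOk (k * 22) = true := between_extend pointOk 22 46035 46971 9 (p3u103) p3r104

theorem p3r105 : allRange pointOk 22 46980 9 = true := by decide +kernel
theorem p3u105 : ∀ k, 46035 ≤ k → k < 46989 → pointOk (k * 22) = true := between_extend pointOk 22 46035 46980 9 (p3u104) p3r105

theorem p3r106 : allRange pointOk 22 46989 9 = true := by decide +kernel
theorem p3u106 : ∀ k, 46035 ≤ k → k < 46998 → pointOk (k * 22) = true := between_extend pointOk 22 46035 46989 9 (p3u105) p3r106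

theorem p3r107 : allRange pointOk 22 46998 9 = true := by decide +kernel
theorem p3u107 : ∀ k, 46035 ≤ k → k < 47007 → pointOk (k * 22) = true := between_extend pointOk 22 46035 46998 9 (p3u106) p3r107

theorem p3r108 : allRange pointOk 22 47007 9 = true := by decide +kernel
theorem p3u108 : ∀ k, 46035 ≤ k → k < 47016 → pointOk (k * 22) = true := between_extend pointOk 22 46035 47007 9 (p3u107) p3r108

theorem p3r109 : allRange pointOk 22 47016 9 = true := by decide +kernel
theorem p3u109 : ∀ k, 46035 ≤ k → k < 47025 → pointOk (k * 22) = true := between_extend pointOk 22 46035 47016 9 (p3u108) p3r109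

theorem p3r110 : allRange pointOk 22 47025 9 = true := by decide +kernel
theorem p3u110 : ∀ k, 46035 ≤ k → k < 47034 → pointOk (k * 22) = true := between_extend pointOk 22 46035 47025 9 (p3u109) p3r110

theorem p3r111 : allRange pointOk 22 47034 9 = true := by decide +kernel
theorem p3u111 : ∀ k, 46035 ≤ k → k < 47043 → pointOk (k * 22) = true := between_extend pointOk 22 46035 47034 9 (p3u110) p3r111

theorem p3r112 : allRange pointOk 22 47043 9 = true := by decide +kernel
theorem p3u112 : ∀ k, 46035 ≤ k → k < 47052 → pointOk (k * 22) = true := between_extend pointOk 22 46035 47043 9 (p3u111) p3r112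

theorem p3r113 : allRange pointOk 22 47052 9 = true := by decide +kernel
theorem p3u113 : ∀ k, 46035 ≤ k → k < 47061 → pointOk (k * 22) = true := between_extend pointOk 22 46035 47052 9 (p3u112) p3r113

theorem p3r114 : allRange pointOk 22 47061 9 = true := by decide +kernel
theorem p3u114 : ∀ k, 46035 ≤ k → k < 47070 → pointOk (k * 22) = true := between_extend pointOk 22 46035 47061 9 (p3u113) p3r114

theorem p3r115 : allRange pointOk 22 47070 9 = true := by decide +kernel
theorem p3u115 : ∀ k, 46035 ≤ k → k < 47079 → pointOk (k * 22) = true := between_extend pointOk 22 46035 47070 9 (p3u114) p3r115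

theorem p3r116 : allRange pointOk 22 47079 9 = true := by decide +kernel
theorem p3u116 : ∀ k, 46035 ≤ k → k < 47088 → pointOk (k * 22) = true := between_extend pointOk 22 46035 47079 9 (p3u115) p3r116

theorem p3r117 : allRange pointOk 22 47088 9 = true := by decide +kernel
theorem p3u117 : ∀ k, 46035 ≤ k → k < 47097 → pointOk (k * 22) = true := between_extend pointOk 22 46035 47088 9 (p3u116) p3r117

theorem p3r118 : allRange pointOk 22 47097 9 = true := by decide +kernel
theorem p3u118 : ∀ k, 46035 ≤ k → k < 47106 → pointOk (k * 22) = true := between_extend pointOk 22 46035 47097 9 (p3u117) p3r118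

theorem p3r119 : allRange pointOk 22 47106 9 = true := by decide +kernel
theorem p3u119 : ∀ k, 46035 ≤ k → k < 47115 → pointOk (k * 22) = true := between_extend pointOk 22 46035 47106 9 (p3u118) p3r119

theorem p3r120 : allRange pointOk 22 47115 9 = true := by decide +kernel
theorem p3u120 : ∀ k, 46035 ≤ k → k < 47124 → pointOk (k * 22) = true := between_extend pointOk 22 46035 47115 9 (p3u119) p3r120

theorem p3r121 : allRange pointOk 22 47124 9 = true := by decide +kernel
theorem p3u121 : ∀ k, 46035 ≤ k → k < 47133 → pointOk (k * 22) = true := between_extend pointOk 22 46035 47124 9 (p3u120) p3r121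

theorem p3r122 : allRange pointOk 22 47133 9 = true := by decide +kernel
theorem p3u122 : ∀ k, 46035 ≤ k → k < 47142 → pointOk (k * 22) = true := between_extend pointOk 22 46035 47133 9 (p3u121) p3r122

theorem p3r123 : allRange pointOk 22 47142 9 = true := by decide +kernel
theorem p3u123 : ∀ k, 46035 ≤ k → k < 47151 → pointOk (k * 22) = true := between_extend pointOk 22 46035 47142 9 (p3u122) p3r123

theorem p3r124 : allRange pointOk 22 47151 9 = true := by decide +kernel
theorem p3u124 : ∀ k, 46035 ≤ k → k < 47160 → pointOk (k * 22) = true := between_extend pointOk 22 46035 47151 9 (p3u123) p3r124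

theorem p3r125 : allRange pointOk 22 47160 9 = true := by decide +kernel
theorem p3u125 : ∀ k, 46035 ≤ k → k < 47169 → pointOk (k * 22) = true := between_extend pointOk 22 46035 47160 9 (p3u124) p3r125

theorem p3r126 : allRange pointOk 22 47169 9 = true := by decide +kernel
theorem p3u126 : ∀ k, 46035 ≤ k → k < 47178 → pointOk (k * 22) = true := between_extend pointOk 22 46035 47169 9 (p3u125) p3r126

theorem p3r127 : allRange pointOk 22 47178 9 = true := by decide +kernel
theorem p3u127 : ∀ k, 46035 ≤ k → k < 47187 → pointOk (k * 22) = true := between_extend pointOk 22 46035 47178 9 (p3u126) p3r127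

theorem p3r128 : allRange pointOk 22 47187 9 = true := by decide +kernel
theorem p3u128 : ∀ k, 46035 ≤ k → k < 47196 → pointOk (k * 22) = true := between_extend pointOk 22 46035 47187 9 (p3u127) p3r128

theorem p3r129 : allRange pointOk 22 47196 9 = true := by decide +kernel
theorem p3u129 : ∀ k, 46035 ≤ k → k < 47205 → pointOk (k * 22) = true := between_extend pointOk 22 46035 47196 9 (p3u128) p3r129

theorem p3r130 : allRange pointOk 22 47205 9 = true := by decide +kernel
theorem p3u130 : ∀ k, 46035 ≤ k → k < 47214 → pointOk (k * 22) = true := between_extend pointOk 22 46035 47205 9 (p3u129) p3r130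

theorem p3r131 : allRange pointOk 22 47214 9 = true := by decide +kernel
theorem p3u131 : ∀ k, 46035 ≤ k → k < 47223 → pointOk (k * 22) = true := between_extend pointOk 22 46035 47214 9 (p3u130) p3r131

theorem p3r132 : allRange pointOk 22 47223 9 = true := by decide +kernel
theorem p3u132 : ∀ k, 46035 ≤ k → k < 47232 → pointOk (k * 22) = true := between_extend pointOk 22 46035 47223 9 (p3u131) p3r132

theorem p3r133 : allRange pointOk 22 47232 9 = true := by decide +kernel
theorem p3u133 : ∀ k, 46035 ≤ k → k < 47241 → pointOk (k * 22) = true := between_extend pointOk 22 46035 47232 9 (p3u132) p3r133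

theorem p3r134 : allRange pointOk 22 47241 9 = true := by decide +kernel
theorem p3u134 : ∀ k, 46035 ≤ k → k < 47250 → pointOk (k * 22) = true := between_extend pointOk 22 46035 47241 9 (p3u133) p3r134

theorem p3r135 : allRange pointOk 22 47250 9 = true := by decide +kernel
theorem p3u135 : ∀ k, 46035 ≤ k → k < 47259 → pointOk (k * 22) = true := between_extend pointOk 22 46035 47250 9 (p3u134) p3r135

theorem p3r136 : allRange pointOk 22 47259 9 = true := by decide +kernel
theorem p3u136 : ∀ k, 46035 ≤ k → k < 47268 → pointOk (k * 22) = true := between_extend pointOk 22 46035 47259 9 (p3u135) p3r136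

theorem p3r137 : allRange pointOk 22 47268 9 = true := by decide +kernel
theorem p3u137 : ∀ k, 46035 ≤ k → k < 47277 → pointOk (k * 22) = true := between_extend pointOk 22 46035 47268 9 (p3u136) p3r137

theorem p3r138 : allRange pointOk 22 47277 9 = true := by decide +kernel
theorem p3u138 : ∀ k, 46035 ≤ k → k < 47286 → pointOk (k * 22) = true := between_extend pointOk 22 46035 47277 9 (p3u137) p3r138

theorem p3r139 : allRange pointOk 22 47286 9 = true := by decide +kernel
theorem p3u139 : ∀ k, 46035 ≤ k → k < 47295 → pointOk (k * 22) = true := between_extend pointOk 22 46035 47286 9 (p3u138) p3r139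

theorem p3r140 : allRange pointOk 22 47295 9 = true := by decide +kernel
theorem p3u140 : ∀ k, 46035 ≤ k → k < 47304 → pointOk (k * 22) = true := between_extend pointOk 22 46035 47295 9 (p3u139) p3r140

theorem p3r141 : allRange pointOk 22 47304 9 = true := by decide +kernel
theorem p3u141 : ∀ k, 46035 ≤ k → k < 47313 → pointOk (k * 22) = true := between_extend pointOk 22 46035 47304 9 (p3u140) p3r141

theorem p3r142 : allRange pointOk 22 47313 9 = true := by decide +kernel
theorem p3u142 : ∀ k, 46035 ≤ k → k < 47322 → pointOk (k * 22) = true := between_extend pointOk 22 46035 47313 9 (p3u141) p3r142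

theorem p3r143 : allRange pointOk 22 47322 9 = true := by decide +kernel
theorem p3u143 : ∀ k, 46035 ≤ k → k < 47331 → pointOk (k * 22) = true := between_extend pointOk 22 46035 47322 9 (p3u142) p3r143

theorem p3r144 : allRange pointOk 22 47331 9 = true := by decide +kernel
theorem p3u144 : ∀ k, 46035 ≤ k → k < 47340 → pointOk (k * 22) = true := between_extend pointOk 22 46035 47331 9 (p3u143) p3r144

theorem p3r145 : allRange pointOk 22 47340 9 = true := by decide +kernel
theorem p3u145 : ∀ k, 46035 ≤ k → k < 47349 → pointOk (k * 22) = true := between_extend pointOk 22 46035 47340 9 (p3u144) p3r145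

theorem p3r146 : allRange pointOk 22 47349 9 = true := by decide +kernel
theorem p3u146 : ∀ k, 46035 ≤ k → k < 47358 → pointOk (k * 22) = true := between_extend pointOk 22 46035 47349 9 (p3u145) p3r146

theorem p3r147 : allRange pointOk 22 47358 9 = true := by decide +kernel
theorem p3u147 : ∀ k, 46035 ≤ k → k < 47367 → pointOk (k * 22) = true := between_extend pointOk 22 46035 47358 9 (p3u146) p3r147

theorem p3r148 : allRange pointOk 22 47367 9 = true := by decide +kernel
theorem p3u148 : ∀ k, 46035 ≤ k → k < 47376 → pointOk (k * 22) = true := between_extend pointOk 22 46035 47367 9 (p3u147) p3r148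

theorem p3r149 : allRange pointOk 22 47376 9 = true := by decide +kernel
theorem p3u149 : ∀ k, 46035 ≤ k → k < 47385 → pointOk (k * 22) = true := between_extend pointOk 22 46035 47376 9 (p3u148) p3r149

theorem p3r150 : allRange pointOk 22 47385 9 = true := by decide +kernel
theorem p3u150 : ∀ k, 46035 ≤ k → k < 47394 → pointOk (k * 22) = true := between_extend pointOk 22 46035 47385 9 (p3u149) p3r150

theorem p3r151 : allRange pointOk 22 47394 9 = true := by decide +kernel
theorem p3u151 : ∀ k, 46035 ≤ k → k < 47403 → pointOk (k * 22) = true := between_extend pointOk 22 46035 47394 9 (p3u150) p3r151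

theorem p3r152 : allRange pointOk 22 47403 9 = true := by decide +kernel
theorem p3u152 : ∀ k, 46035 ≤ k → k < 47412 → pointOk (k * 22) = true := between_extend pointOk 22 46035 47403 9 (p3u151) p3r152

theorem p3r153 : allRange pointOk 22 47412 9 = true := by decide +kernel
theorem p3u153 : ∀ k, 46035 ≤ k → k < 47421 → pointOk (k * 22) = true := between_extend pointOk 22 46035 47412 9 (p3u152) p3r153

theorem p3r154 : allRange pointOk 22 47421 9 = true := by decide +kernel
theorem p3u154 : ∀ k, 46035 ≤ k → k < 47430 → pointOk (k * 22) = true := between_extend pointOk 22 46035 47421 9 (p3u153) p3r154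

theorem p3r155 : allRange pointOk 22 47430 9 = true := by decide +kernel
theorem p3u155 : ∀ k, 46035 ≤ k → k < 47439 → pointOk (k * 22) = true := between_extend pointOk 22 46035 47430 9 (p3u154) p3r155

theorem p3r156 : allRange pointOk 22 47439 9 = true := by decide +kernel
theorem p3u156 : ∀ k, 46035 ≤ k → k < 47448 → pointOk (k * 22) = true := between_extend pointOk 22 46035 47439 9 (p3u155) p3r156

theorem p3r157 : allRange pointOk 22 47448 9 = true := by decide +kernel
theorem p3u157 : ∀ k, 46035 ≤ k → k < 47457 → pointOk (k * 22) = true := between_extend pointOk 22 46035 47448 9 (p3u156) p3r157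

theorem p3r158 : allRange pointOk 22 47457 9 = true := by decide +kernel
theorem p3u158 : ∀ k, 46035 ≤ k → k < 47466 → pointOk (k * 22) = true := between_extend pointOk 22 46035 47457 9 (p3u157) p3r158

theorem p3r159 : allRange pointOk 22 47466 9 = true := by decide +kernel
theorem p3u159 : ∀ k, 46035 ≤ k → k < 47475 → pointOk (k * 22) = true := between_extend pointOk 22 46035 47466 9 (p3u158) p3r159

theorem p3r160 : allRange pointOk 22 47475 9 = true := by decide +kernel
theorem p3u160 : ∀ k, 46035 ≤ k → k < 47484 → pointOk (k * 22) = true := between_extend pointOk 22 46035 47475 9 (p3u159) p3r160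

theorem p3r161 : allRange pointOk 22 47484 9 = true := by decide +kernel
theorem p3u161 : ∀ k, 46035 ≤ k → k < 47493 → pointOk (k * 22) = true := between_extend pointOk 22 46035 47484 9 (p3u160) p3r161

theorem p3r162 : allRange pointOk 22 47493 9 = true := by decide +kernel
theorem p3u162 : ∀ k, 46035 ≤ k → k < 47502 → pointOk (k * 22) = true := between_extend pointOk 22 46035 47493 9 (p3u161) p3r162

theorem p3r163 : allRange pointOk 22 47502 9 = true := by decide +kernel
theorem p3u163 : ∀ k, 46035 ≤ k → k < 47511 → pointOk (k * 22) = true := between_extend pointOk 22 46035 47502 9 (p3u162) p3r163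

theorem p3r164 : allRange pointOk 22 47511 9 = true := by decide +kernel
theorem p3u164 : ∀ k, 46035 ≤ k → k < 47520 → pointOk (k * 22) = true := between_extend pointOk 22 46035 47511 9 (p3u163) p3r164

theorem p3r165 : allRange pointOk 22 47520 9 = true := by decide +kernel
theorem p3u165 : ∀ k, 46035 ≤ k → k < 47529 → pointOk (k * 22) = true := between_extend pointOk 22 46035 47520 9 (p3u164) p3r165

theorem p3r166 : allRange pointOk 22 47529 9 = true := by decide +kernel
theorem p3u166 : ∀ k, 46035 ≤ k → k < 47538 → pointOk (k * 22) = true := between_extend pointOk 22 46035 47529 9 (p3u165) p3r166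

theorem p3r167 : allRange pointOk 22 47538 9 = true := by decide +kernel
theorem p3u167 : ∀ k, 46035 ≤ k → k < 47547 → pointOk (k * 22) = true := between_extend pointOk 22 46035 47538 9 (p3u166) p3r167

theorem p3r168 : allRange pointOk 22 47547 9 = true := by decide +kernel
theorem p3u168 : ∀ k, 46035 ≤ k → k < 47556 → pointOk (k * 22) = true := between_extend pointOk 22 46035 47547 9 (p3u167) p3r168

theorem p3r169 : allRange pointOk 22 47556 9 = true := by decide +kernel
theorem p3u169 : ∀ k, 46035 ≤ k → k < 47565 → pointOk (k * 22) = true := between_extend pointOk 22 46035 47556 9 (p3u168) p3r169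

theorem p3r170 : allRange pointOk 22 47565 9 = true := by decide +kernel
theorem p3u170 : ∀ k, 46035 ≤ k → k < 47574 → pointOk (k * 22) = true := between_extend pointOk 22 46035 47565 9 (p3u169) p3r170

theorem p3r171 : allRange pointOk 22 47574 9 = true := by decide +kernel
theorem p3u171 : ∀ k, 46035 ≤ k → k < 47583 → pointOk (k * 22) = true := between_extend pointOk 22 46035 47574 9 (p3u170) p3r171

theorem p3r172 : allRange pointOk 22 47583 9 = true := by decide +kernel
theorem p3u172 : ∀ k, 46035 ≤ k → k < 47592 → pointOk (k * 22) = true := between_extend pointOk 22 46035 47583 9 (p3u171) p3r172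

theorem p3r173 : allRange pointOk 22 47592 9 = true := by decide +kernel
theorem p3u173 : ∀ k, 46035 ≤ k → k < 47601 → pointOk (k * 22) = true := between_extend pointOk 22 46035 47592 9 (p3u172) p3r173

theorem p3r174 : allRange pointOk 22 47601 9 = true := by decide +kernel
theorem p3u174 : ∀ k, 46035 ≤ k → k < 47610 → pointOk (k * 22) = true := between_extend pointOk 22 46035 47601 9 (p3u173) p3r174

theorem p3r175 : allRange pointOk 22 47610 9 = true := by decide +kernel
theorem p3u175 : ∀ k, 46035 ≤ k → k < 47619 → pointOk (k * 22) = true := between_extend pointOk 22 46035 47610 9 (p3u174) p3r175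

theorem p3r176 : allRange pointOk 22 47619 9 = true := by decide +kernel
theorem p3u176 : ∀ k, 46035 ≤ k → k < 47628 → pointOk (k * 22) = true := between_extend pointOk 22 46035 47619 9 (p3u175) p3r176

theorem p3r177 : allRange pointOk 22 47628 9 = true := by decide +kernel
theorem p3u177 : ∀ k, 46035 ≤ k → k < 47637 → pointOk (k * 22) = true := between_extend pointOk 22 46035 47628 9 (p3u176) p3r177

theorem p3r178 : allRange pointOk 22 47637 9 = true := by decide +kernel
theorem p3u178 : ∀ k, 46035 ≤ k → k < 47646 → pointOk (k * 22) = true := between_extend pointOk 22 46035 47637 9 (p3u177) p3r178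

theorem p3r179 : allRange pointOk 22 47646 9 = true := by decide +kernel
theorem p3u179 : ∀ k, 46035 ≤ k → k < 47655 → pointOk (k * 22) = true := between_extend pointOk 22 46035 47646 9 (p3u178) p3r179

theorem p3r180 : allRange pointOk 22 47655 9 = true := by decide +kernel
theorem p3u180 : ∀ k, 46035 ≤ k → k < 47664 → pointOk (k * 22) = true := between_extend pointOk 22 46035 47655 9 (p3u179) p3r180

theorem p3r181 : allRange pointOk 22 47664 9 = true := by decide +kernel
theorem p3u181 : ∀ k, 46035 ≤ k → k < 47673 → pointOk (k * 22) = true := between_extend pointOk 22 46035 47664 9 (p3u180) p3r181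

theorem p3r182 : allRange pointOk 22 47673 9 = true := by decide +kernel
theorem p3u182 : ∀ k, 46035 ≤ k → k < 47682 → pointOk (k * 22) = true := between_extend pointOk 22 46035 47673 9 (p3u181) p3r182

theorem p3r183 : allRange pointOk 22 47682 9 = true := by decide +kernel
theorem p3u183 : ∀ k, 46035 ≤ k → k < 47691 → pointOk (k * 22) = true := between_extend pointOk 22 46035 47682 9 (p3u182) p3r183

theorem p3r184 : allRange pointOk 22 47691 9 = true := by decide +kernel
theorem p3u184 : ∀ k, 46035 ≤ k → k < 47700 → pointOk (k * 22) = true := between_extend pointOk 22 46035 47691 9 (p3u183) p3r184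

theorem p3r185 : allRange pointOk 22 47700 9 = true := by decide +kernel
theorem p3u185 : ∀ k, 46035 ≤ k → k < 47709 → pointOk (k * 22) = true := between_extend pointOk 22 46035 47700 9 (p3u184) p3r185

theorem p3r186 : allRange pointOk 22 47709 9 = true := by decide +kernel
theorem p3u186 : ∀ k, 46035 ≤ k → k < 47718 → pointOk (k * 22) = true := between_extend pointOk 22 46035 47709 9 (p3u185) p3r186

theorem p3r187 : allRange pointOk 22 47718 9 = true := by decide +kernel
theorem p3u187 : ∀ k, 46035 ≤ k → k < 47727 → pointOk (k * 22) = true := between_extend pointOk 22 46035 47718 9 (p3u186) p3r187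

theorem p3r188 : allRange pointOk 22 47727 9 = true := by decide +kernel
theorem p3u188 : ∀ k, 46035 ≤ k → k < 47736 → pointOk (k * 22) = true := between_extend pointOk 22 46035 47727 9 (p3u187) p3r188

theorem p3r189 : allRange pointOk 22 47736 9 = true := by decide +kernel
theorem p3u189 : ∀ k, 46035 ≤ k → k < 47745 → pointOk (k * 22) = true := between_extend pointOk 22 46035 47736 9 (p3u188) p3r189

theorem p3r190 : allRange pointOk 22 47745 9 = true := by decide +kernel
theorem p3u190 : ∀ k, 46035 ≤ k → k < 47754 → pointOk (k * 22) = true := between_extend pointOk 22 46035 47745 9 (p3u189) p3r190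

theorem p3r191 : allRange pointOk 22 47754 9 = true := by decide +kernel
theorem p3u191 : ∀ k, 46035 ≤ k → k < 47763 → pointOk (k * 22) = true := between_extend pointOk 22 46035 47754 9 (p3u190) p3r191

theorem p3r192 : allRange pointOk 22 47763 9 = true := by decide +kernel
theorem p3u192 : ∀ k, 46035 ≤ k → k < 47772 → pointOk (k * 22) = true := between_extend pointOk 22 46035 47763 9 (p3u191) p3r192

theorem p3r193 : allRange pointOk 22 47772 9 = true := by decide +kernel
theorem p3u193 : ∀ k, 46035 ≤ k → k < 47781 → pointOk (k * 22) = true := between_extend pointOk 22 46035 47772 9 (p3u192) p3r193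

theorem p3r194 : allRange pointOk 22 47781 9 = true := by decide +kernel
theorem p3u194 : ∀ k, 46035 ≤ k → k < 47790 → pointOk (k * 22) = true := between_extend pointOk 22 46035 47781 9 (p3u193) p3r194

theorem p3r195 : allRange pointOk 22 47790 9 = true := by decide +kernel
theorem p3u195 : ∀ k, 46035 ≤ k → k < 47799 → pointOk (k * 22) = true := between_extend pointOk 22 46035 47790 9 (p3u194) p3r195

theorem p3r196 : allRange pointOk 22 47799 9 = true := by decide +kernel
theorem p3u196 : ∀ k, 46035 ≤ k → k < 47808 → pointOk (k * 22) = true := between_extend pointOk 22 46035 47799 9 (p3u195) p3r196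

theorem p3r197 : allRange pointOk 22 47808 9 = true := by decide +kernel
theorem p3u197 : ∀ k, 46035 ≤ k → k < 47817 → pointOk (k * 22) = true := between_extend pointOk 22 46035 47808 9 (p3u196) p3r197

theorem p3r198 : allRange pointOk 22 47817 9 = true := by decide +kernel
theorem p3u198 : ∀ k, 46035 ≤ k → k < 47826 → pointOk (k * 22) = true := between_extend pointOk 22 46035 47817 9 (p3u197) p3r198

theorem p3r199 : allRange pointOk 22 47826 9 = true := by decide +kernel
theorem p3u199 : ∀ k, 46035 ≤ k → k < 47835 → pointOk (k * 22) = true := between_extend pointOk 22 46035 47826 9 (p3u198) p3r199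

theorem p3r200 : allRange pointOk 22 47835 9 = true := by decide +kernel
theorem p3u200 : ∀ k, 46035 ≤ k → k < 47844 → pointOk (k * 22) = true := between_extend pointOk 22 46035 47835 9 (p3u199) p3r200

theorem p3r201 : allRange pointOk 22 47844 9 = true := by decide +kernel
theorem p3u201 : ∀ k, 46035 ≤ k → k < 47853 → pointOk (k * 22) = true := between_extend pointOk 22 46035 47844 9 (p3u200) p3r201

theorem p3r202 : allRange pointOk 22 47853 9 = true := by decide +kernel
theorem p3u202 : ∀ k, 46035 ≤ k → k < 47862 → pointOk (k * 22) = true := between_extend pointOk 22 46035 47853 9 (p3u201) p3r202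

theorem p3r203 : allRange pointOk 22 47862 9 = true := by decide +kernel
theorem p3u203 : ∀ k, 46035 ≤ k → k < 47871 → pointOk (k * 22) = true := between_extend pointOk 22 46035 47862 9 (p3u202) p3r203

theorem p3r204 : allRange pointOk 22 47871 9 = true := by decide +kernel
theorem p3u204 : ∀ k, 46035 ≤ k → k < 47880 → pointOk (k * 22) = true := between_extend pointOk 22 46035 47871 9 (p3u203) p3r204

theorem p3r205 : allRange pointOk 22 47880 9 = true := by decide +kernel
theorem p3u205 : ∀ k, 46035 ≤ k → k < 47889 → pointOk (k * 22) = true := between_extend pointOk 22 46035 47880 9 (p3u204) p3r205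

theorem p3r206 : allRange pointOk 22 47889 9 = true := by decide +kernel
theorem p3u206 : ∀ k, 46035 ≤ k → k < 47898 → pointOk (k * 22) = true := between_extend pointOk 22 46035 47889 9 (p3u205) p3r206

theorem p3r207 : allRange pointOk 22 47898 9 = true := by decide +kernel
theorem p3u207 : ∀ k, 46035 ≤ k → k < 47907 → pointOk (k * 22) = true := between_extend pointOk 22 46035 47898 9 (p3u206) p3r207

theorem p3r208 : allRange pointOk 22 47907 9 = true := by decide +kernel
theorem p3u208 : ∀ k, 46035 ≤ k → k < 47916 → pointOk (k * 22) = true := between_extend pointOk 22 46035 47907 9 (p3u207) p3r208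

theorem p3r209 : allRange pointOk 22 47916 9 = true := by decide +kernel
theorem p3u209 : ∀ k, 46035 ≤ k → k < 47925 → pointOk (k * 22) = true := between_extend pointOk 22 46035 47916 9 (p3u208) p3r209

theorem p3r210 : allRange pointOk 22 47925 9 = true := by decide +kernel
theorem p3u210 : ∀ k, 46035 ≤ k → k < 47934 → pointOk (k * 22) = true := between_extend pointOk 22 46035 47925 9 (p3u209) p3r210

theorem p3r211 : allRange pointOk 22 47934 9 = true := by decide +kernel
theorem p3u211 : ∀ k, 46035 ≤ k → k < 47943 → pointOk (k * 22) = true := between_extend pointOk 22 46035 47934 9 (p3u210) p3r211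

theorem p3r212 : allRange pointOk 22 47943 9 = true := by decide +kernel
theorem p3u212 : ∀ k, 46035 ≤ k → k < 47952 → pointOk (k * 22) = true := between_extend pointOk 22 46035 47943 9 (p3u211) p3r212

theorem p3r213 : allRange pointOk 22 47952 9 = true := by decide +kernel
theorem p3u213 : ∀ k, 46035 ≤ k → k < 47961 → pointOk (k * 22) = true := between_extend pointOk 22 46035 47952 9 (p3u212) p3r213

theorem p3r214 : allRange pointOk 22 47961 9 = true := by decide +kernel
theorem p3u214 : ∀ k, 46035 ≤ k → k < 47970 → pointOk (k * 22) = true := between_extend pointOk 22 46035 47961 9 (p3u213) p3r214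

theorem p3r215 : allRange pointOk 22 47970 9 = true := by decide +kernel
theorem p3u215 : ∀ k, 46035 ≤ k → k < 47979 → pointOk (k * 22) = true := between_extend pointOk 22 46035 47970 9 (p3u214) p3r215

theorem p3r216 : allRange pointOk 22 47979 9 = true := by decide +kernel
theorem p3u216 : ∀ k, 46035 ≤ k → k < 47988 → pointOk (k * 22) = true := between_extend pointOk 22 46035 47979 9 (p3u215) p3r216

theorem p3r217 : allRange pointOk 22 47988 9 = true := by decide +kernel
theorem p3u217 : ∀ k, 46035 ≤ k → k < 47997 → pointOk (k * 22) = true := between_extend pointOk 22 46035 47988 9 (p3u216) p3r217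

theorem p3r218 : allRange pointOk 22 47997 9 = true := by decide +kernel
theorem p3u218 : ∀ k, 46035 ≤ k → k < 48006 → pointOk (k * 22) = true := between_extend pointOk 22 46035 47997 9 (p3u217) p3r218

theorem p3r219 : allRange pointOk 22 48006 9 = true := by decide +kernel
theorem p3u219 : ∀ k, 46035 ≤ k → k < 48015 → pointOk (k * 22) = true := between_extend pointOk 22 46035 48006 9 (p3u218) p3r219

theorem p3r220 : allRange pointOk 22 48015 9 = true := by decide +kernel
theorem p3u220 : ∀ k, 46035 ≤ k → k < 48024 → pointOk (k * 22) = true := between_extend pointOk 22 46035 48015 9 (p3u219) p3r220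

theorem p3r221 : allRange pointOk 22 48024 9 = true := by decide +kernel
theorem p3u221 : ∀ k, 46035 ≤ k → k < 48033 → pointOk (k * 22) = true := between_extend pointOk 22 46035 48024 9 (p3u220) p3r221

theorem p3r222 : allRange pointOk 22 48033 9 = true := by decide +kernel
theorem p3u222 : ∀ k, 46035 ≤ k → k < 48042 → pointOk (k * 22) = true := between_extend pointOk 22 46035 48033 9 (p3u221) p3r222

theorem p3r223 : allRange pointOk 22 48042 9 = true := by decide +kernel
theorem p3u223 : ∀ k, 46035 ≤ k → k < 48051 → pointOk (k * 22) = true := between_extend pointOk 22 46035 48042 9 (p3u222) p3r223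

theorem p3r224 : allRange pointOk 22 48051 9 = true := by decide +kernel
theorem p3u224 : ∀ k, 46035 ≤ k → k < 48060 → pointOk (k * 22) = true := between_extend pointOk 22 46035 48051 9 (p3u223) p3r224

theorem p3r225 : allRange pointOk 22 48060 9 = true := by decide +kernel
theorem p3u225 : ∀ k, 46035 ≤ k → k < 48069 → pointOk (k * 22) = true := between_extend pointOk 22 46035 48060 9 (p3u224) p3r225

theorem p3r226 : allRange pointOk 22 48069 9 = true := by decide +kernel
theorem p3u226 : ∀ k, 46035 ≤ k → k < 48078 → pointOk (k * 22) = true := between_extend pointOk 22 46035 48069 9 (p3u225) p3r226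

theorem p3r227 : allRange pointOk 22 48078 9 = true := by decide +kernel
theorem p3u227 : ∀ k, 46035 ≤ k → k < 48087 → pointOk (k * 22) = true := between_extend pointOk 22 46035 48078 9 (p3u226) p3r227

theorem p3r228 : allRange pointOk 22 48087 9 = true := by decide +kernel
theorem p3u228 : ∀ k, 46035 ≤ k → k < 48096 → pointOk (k * 22) = true := between_extend pointOk 22 46035 48087 9 (p3u227) p3r228

theorem p3r229 : allRange pointOk 22 48096 9 = true := by decide +kernel
theorem p3u229 : ∀ k, 46035 ≤ k → k < 48105 → pointOk (k * 22) = true := between_extend pointOk 22 46035 48096 9 (p3u228) p3r229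

theorem p3r230 : allRange pointOk 22 48105 9 = true := by decide +kernel
theorem p3u230 : ∀ k, 46035 ≤ k → k < 48114 → pointOk (k * 22) = true := between_extend pointOk 22 46035 48105 9 (p3u229) p3r230

theorem p3r231 : allRange pointOk 22 48114 9 = true := by decide +kernel
theorem p3u231 : ∀ k, 46035 ≤ k → k < 48123 → pointOk (k * 22) = true := between_extend pointOk 22 46035 48114 9 (p3u230) p3r231

theorem p3r232 : allRange pointOk 22 48123 9 = true := by decide +kernel
theorem p3u232 : ∀ k, 46035 ≤ k → k < 48132 → pointOk (k * 22) = true := between_extend pointOk 22 46035 48123 9 (p3u231) p3r232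

theorem p3r233 : allRange pointOk 22 48132 9 = true := by decide +kernel
theorem p3u233 : ∀ k, 46035 ≤ k → k < 48141 → pointOk (k * 22) = true := between_extend pointOk 22 46035 48132 9 (p3u232) p3r233

theorem p3r234 : allRange pointOk 22 48141 9 = true := by decide +kernel
theorem p3u234 : ∀ k, 46035 ≤ k → k < 48150 → pointOk (k * 22) = true := between_extend pointOk 22 46035 48141 9 (p3u233) p3r234

theorem p3r235 : allRange pointOk 22 48150 9 = true := by decide +kernel
theorem p3u235 : ∀ k, 46035 ≤ k → k < 48159 → pointOk (k * 22) = true := between_extend pointOk 22 46035 48150 9 (p3u234) p3r235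

theorem p3r236 : allRange pointOk 22 48159 9 = true := by decide +kernel
theorem p3u236 : ∀ k, 46035 ≤ k → k < 48168 → pointOk (k * 22) = true := between_extend pointOk 22 46035 48159 9 (p3u235) p3r236

theorem p3r237 : allRange pointOk 22 48168 9 = true := by decide +kernel
theorem p3u237 : ∀ k, 46035 ≤ k → k < 48177 → pointOk (k * 22) = true := between_extend pointOk 22 46035 48168 9 (p3u236) p3r237

theorem p3r238 : allRange pointOk 22 48177 9 = true := by decide +kernel
theorem p3u238 : ∀ k, 46035 ≤ k → k < 48186 → pointOk (k * 22) = true := between_extend pointOk 22 46035 48177 9 (p3u237) p3r238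

theorem p3r239 : allRange pointOk 22 48186 9 = true := by decide +kernel
theorem p3u239 : ∀ k, 46035 ≤ k → k < 48195 → pointOk (k * 22) = true := between_extend pointOk 22 46035 48186 9 (p3u238) p3r239

theorem p3r240 : allRange pointOk 22 48195 9 = true := by decide +kernel
theorem p3u240 : ∀ k, 46035 ≤ k → k < 48204 → pointOk (k * 22) = true := between_extend pointOk 22 46035 48195 9 (p3u239) p3r240

theorem p3r241 : allRange pointOk 22 48204 9 = true := by decide +kernel
theorem p3u241 : ∀ k, 46035 ≤ k → k < 48213 → pointOk (k * 22) = true := between_extend pointOk 22 46035 48204 9 (p3u240) p3r241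

theorem p3r242 : allRange pointOk 22 48213 9 = true := by decide +kernel
theorem p3u242 : ∀ k, 46035 ≤ k → k < 48222 → pointOk (k * 22) = true := between_extend pointOk 22 46035 48213 9 (p3u241) p3r242

theorem p3r243 : allRange pointOk 22 48222 9 = true := by decide +kernel
theorem p3u243 : ∀ k, 46035 ≤ k → k < 48231 → pointOk (k * 22) = true := between_extend pointOk 22 46035 48222 9 (p3u242) p3r243

theorem p3r244 : allRange pointOk 22 48231 9 = true := by decide +kernel
theorem p3u244 : ∀ k, 46035 ≤ k → k < 48240 → pointOk (k * 22) = true := between_extend pointOk 22 46035 48231 9 (p3u243) p3r244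

theorem p3r245 : allRange pointOk 22 48240 9 = true := by decide +kernel
theorem p3u245 : ∀ k, 46035 ≤ k → k < 48249 → pointOk (k * 22) = true := between_extend pointOk 22 46035 48240 9 (p3u244) p3r245

theorem p3r246 : allRange pointOk 22 48249 9 = true := by decide +kernel
theorem p3u246 : ∀ k, 46035 ≤ k → k < 48258 → pointOk (k * 22) = true := between_extend pointOk 22 46035 48249 9 (p3u245) p3r246

theorem p3r247 : allRange pointOk 22 48258 9 = true := by decide +kernel
theorem p3u247 : ∀ k, 46035 ≤ k → k < 48267 → pointOk (k * 22) = true := between_extend pointOk 22 46035 48258 9 (p3u246) p3r247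

theorem p3r248 : allRange pointOk 22 48267 9 = true := by decide +kernel
theorem p3u248 : ∀ k, 46035 ≤ k → k < 48276 → pointOk (k * 22) = true := between_extend pointOk 22 46035 48267 9 (p3u247) p3r248

theorem p3r249 : allRange pointOk 22 48276 9 = true := by decide +kernel
theorem p3u249 : ∀ k, 46035 ≤ k → k < 48285 → pointOk (k * 22) = true := between_extend pointOk 22 46035 48276 9 (p3u248) p3r249

theorem p3r250 : allRange pointOk 22 48285 9 = true := by decide +kernel
theorem p3u250 : ∀ k, 46035 ≤ k → k < 48294 → pointOk (k * 22) = true := between_extend pointOk 22 46035 48285 9 (p3u249) p3r250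

theorem p3r251 : allRange pointOk 22 48294 9 = true := by decide +kernel
theorem p3u251 : ∀ k, 46035 ≤ k → k < 48303 → pointOk (k * 22) = true := between_extend pointOk 22 46035 48294 9 (p3u250) p3r251

theorem p3r252 : allRange pointOk 22 48303 9 = true := by decide +kernel
theorem p3u252 : ∀ k, 46035 ≤ k → k < 48312 → pointOk (k * 22) = true := between_extend pointOk 22 46035 48303 9 (p3u251) p3r252

theorem p3r253 : allRange pointOk 22 48312 9 = true := by decide +kernel
theorem p3u253 : ∀ k, 46035 ≤ k → k < 48321 → pointOk (k * 22) = true := between_extend pointOk 22 46035 48312 9 (p3u252) p3r253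

theorem p3r254 : allRange pointOk 22 48321 9 = true := by decide +kernel
theorem p3u254 : ∀ k, 46035 ≤ k → k < 48330 → pointOk (k * 22) = true := between_extend pointOk 22 46035 48321 9 (p3u253) p3r254

theorem p3r255 : allRange pointOk 22 48330 9 = true := by decide +kernel
theorem p3u255 : ∀ k, 46035 ≤ k → k < 48339 → pointOk (k * 22) = true := between_extend pointOk 22 46035 48330 9 (p3u254) p3r255

theorem p3r256 : allRange pointOk 22 48339 9 = true := by decide +kernel
theorem p3u256 : ∀ k, 46035 ≤ k → k < 48348 → pointOk (k * 22) = true := between_extend pointOk 22 46035 48339 9 (p3u255) p3r256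

theorem p3r257 : allRange pointOk 22 48348 9 = true := by decide +kernel
theorem p3u257 : ∀ k, 46035 ≤ k → k < 48357 → pointOk (k * 22) = true := between_extend pointOk 22 46035 48348 9 (p3u256) p3r257

theorem p3r258 : allRange pointOk 22 48357 9 = true := by decide +kernel
theorem p3u258 : ∀ k, 46035 ≤ k → k < 48366 → pointOk (k * 22) = true := between_extend pointOk 22 46035 48357 9 (p3u257) p3r258

theorem p3r259 : allRange pointOk 22 48366 9 = true := by decide +kernel
theorem p3u259 : ∀ k, 46035 ≤ k → k < 48375 → pointOk (k * 22) = true := between_extend pointOk 22 46035 48366 9 (p3u258) p3r259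

theorem p3r260 : allRange pointOk 22 48375 9 = true := by decide +kernel
theorem p3u260 : ∀ k, 46035 ≤ k → k < 48384 → pointOk (k * 22) = true := between_extend pointOk 22 46035 48375 9 (p3u259) p3r260

theorem p3r261 : allRange pointOk 22 48384 9 = true := by decide +kernel
theorem p3u261 : ∀ k, 46035 ≤ k → k < 48393 → pointOk (k * 22) = true := between_extend pointOk 22 46035 48384 9 (p3u260) p3r261

theorem p3r262 : allRange pointOk 22 48393 9 = true := by decide +kernel
theorem p3u262 : ∀ k, 46035 ≤ k → k < 48402 → pointOk (k * 22) = true := between_extend pointOk 22 46035 48393 9 (p3u261) p3r262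

theorem p3r263 : allRange pointOk 22 48402 9 = true := by decide +kernel
theorem p3u263 : ∀ k, 46035 ≤ k → k < 48411 → pointOk (k * 22) = true := between_extend pointOk 22 46035 48402 9 (p3u262) p3r263

theorem p3r264 : allRange pointOk 22 48411 9 = true := by decide +kernel
theorem p3u264 : ∀ k, 46035 ≤ k → k < 48420 → pointOk (k * 22) = true := between_extend pointOk 22 46035 48411 9 (p3u263) p3r264

theorem p3r265 : allRange pointOk 22 48420 9 = true := by decide +kernel
theorem p3u265 : ∀ k, 46035 ≤ k → k < 48429 → pointOk (k * 22) = true := between_extend pointOk 22 46035 48420 9 (p3u264) p3r265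

theorem p3r266 : allRange pointOk 22 48429 9 = true := by decide +kernel
theorem p3u266 : ∀ k, 46035 ≤ k → k < 48438 → pointOk (k * 22) = true := between_extend pointOk 22 46035 48429 9 (p3u265) p3r266

theorem p3r267 : allRange pointOk 22 48438 9 = true := by decide +kernel
theorem p3u267 : ∀ k, 46035 ≤ k → k < 48447 → pointOk (k * 22) = true := between_extend pointOk 22 46035 48438 9 (p3u266) p3r267

theorem p3r268 : allRange pointOk 22 48447 9 = true := by decide +kernel
theorem p3u268 : ∀ k, 46035 ≤ k → k < 48456 → pointOk (k * 22) = true := between_extend pointOk 22 46035 48447 9 (p3u267) p3r268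

theorem p3r269 : allRange pointOk 22 48456 9 = true := by decide +kernel
theorem p3u269 : ∀ k, 46035 ≤ k → k < 48465 → pointOk (k * 22) = true := between_extend pointOk 22 46035 48456 9 (p3u268) p3r269

theorem p3r270 : allRange pointOk 22 48465 9 = true := by decide +kernel
theorem p3u270 : ∀ k, 46035 ≤ k → k < 48474 → pointOk (k * 22) = true := between_extend pointOk 22 46035 48465 9 (p3u269) p3r270

theorem p3r271 : allRange pointOk 22 48474 9 = true := by decide +kernel
theorem p3u271 : ∀ k, 46035 ≤ k → k < 48483 → pointOk (k * 22) = true := between_extend pointOk 22 46035 48474 9 (p3u270) p3r271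

theorem p3r272 : allRange pointOk 22 48483 9 = true := by decide +kernel
theorem p3u272 : ∀ k, 46035 ≤ k → k < 48492 → pointOk (k * 22) = true := between_extend pointOk 22 46035 48483 9 (p3u271) p3r272

theorem p3r273 : allRange pointOk 22 48492 9 = true := by decide +kernel
theorem p3u273 : ∀ k, 46035 ≤ k → k < 48501 → pointOk (k * 22) = true := between_extend pointOk 22 46035 48492 9 (p3u272) p3r273

theorem p3r274 : allRange pointOk 22 48501 9 = true := by decide +kernel
theorem p3u274 : ∀ k, 46035 ≤ k → k < 48510 → pointOk (k * 22) = true := between_extend pointOk 22 46035 48501 9 (p3u273) p3r274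

theorem p3r275 : allRange pointOk 22 48510 9 = true := by decide +kernel
theorem p3u275 : ∀ k, 46035 ≤ k → k < 48519 → pointOk (k * 22) = true := between_extend pointOk 22 46035 48510 9 (p3u274) p3r275

theorem p3r276 : allRange pointOk 22 48519 9 = true := by decide +kernel
theorem p3u276 : ∀ k, 46035 ≤ k → k < 48528 → pointOk (k * 22) = true := between_extend pointOk 22 46035 48519 9 (p3u275) p3r276

theorem p3r277 : allRange pointOk 22 48528 9 = true := by decide +kernel
theorem p3u277 : ∀ k, 46035 ≤ k → k < 48537 → pointOk (k * 22) = true := between_extend pointOk 22 46035 48528 9 (p3u276) p3r277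

theorem p3r278 : allRange pointOk 22 48537 9 = true := by decide +kernel
theorem p3u278 : ∀ k, 46035 ≤ k → k < 48546 → pointOk (k * 22) = true := between_extend pointOk 22 46035 48537 9 (p3u277) p3r278

theorem p3r279 : allRange pointOk 22 48546 9 = true := by decide +kernel
theorem p3u279 : ∀ k, 46035 ≤ k → k < 48555 → pointOk (k * 22) = true := between_extend pointOk 22 46035 48546 9 (p3u278) p3r279

theorem p3r280 : allRange pointOk 22 48555 9 = true := by decide +kernel
theorem p3u280 : ∀ k, 46035 ≤ k → k < 48564 → pointOk (k * 22) = true := between_extend pointOk 22 46035 48555 9 (p3u279) p3r280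

theorem p3r281 : allRange pointOk 22 48564 9 = true := by decide +kernel
theorem p3u281 : ∀ k, 46035 ≤ k → k < 48573 → pointOk (k * 22) = true := between_extend pointOk 22 46035 48564 9 (p3u280) p3r281

theorem p3r282 : allRange pointOk 22 48573 9 = true := by decide +kernel
theorem p3u282 : ∀ k, 46035 ≤ k → k < 48582 → pointOk (k * 22) = true := between_extend pointOk 22 46035 48573 9 (p3u281) p3r282

theorem p3r283 : allRange pointOk 22 48582 9 = true := by decide +kernel
theorem p3u283 : ∀ k, 46035 ≤ k → k < 48591 → pointOk (k * 22) = true := between_extend pointOk 22 46035 48582 9 (p3u282) p3r283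

theorem p3r284 : allRange pointOk 22 48591 9 = true := by decide +kernel
theorem p3u284 : ∀ k, 46035 ≤ k → k < 48600 → pointOk (k * 22) = true := between_extend pointOk 22 46035 48591 9 (p3u283) p3r284

theorem p3r285 : allRange pointOk 22 48600 9 = true := by decide +kernel
theorem p3u285 : ∀ k, 46035 ≤ k → k < 48609 → pointOk (k * 22) = true := between_extend pointOk 22 46035 48600 9 (p3u284) p3r285

theorem p3r286 : allRange pointOk 22 48609 9 = true := by decide +kernel
theorem p3u286 : ∀ k, 46035 ≤ k → k < 48618 → pointOk (k * 22) = true := between_extend pointOk 22 46035 48609 9 (p3u285) p3r286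

theorem p3r287 : allRange pointOk 22 48618 9 = true := by decide +kernel
theorem p3u287 : ∀ k, 46035 ≤ k → k < 48627 → pointOk (k * 22) = true := between_extend pointOk 22 46035 48618 9 (p3u286) p3r287

theorem p3r288 : allRange pointOk 22 48627 9 = true := by decide +kernel
theorem p3u288 : ∀ k, 46035 ≤ k → k < 48636 → pointOk (k * 22) = true := between_extend pointOk 22 46035 48627 9 (p3u287) p3r288

theorem p3r289 : allRange pointOk 22 48636 9 = true := by decide +kernel
theorem p3u289 : ∀ k, 46035 ≤ k → k < 48645 → pointOk (k * 22) = true := between_extend pointOk 22 46035 48636 9 (p3u288) p3r289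

theorem p3r290 : allRange pointOk 22 48645 9 = true := by decide +kernel
theorem p3u290 : ∀ k, 46035 ≤ k → k < 48654 → pointOk (k * 22) = true := between_extend pointOk 22 46035 48645 9 (p3u289) p3r290

theorem p3r291 : allRange pointOk 22 48654 9 = true := by decide +kernel
theorem p3u291 : ∀ k, 46035 ≤ k → k < 48663 → pointOk (k * 22) = true := between_extend pointOk 22 46035 48654 9 (p3u290) p3r291

theorem p3r292 : allRange pointOk 22 48663 9 = true := by decide +kernel
theorem p3u292 : ∀ k, 46035 ≤ k → k < 48672 → pointOk (k * 22) = true := between_extend pointOk 22 46035 48663 9 (p3u291) p3r292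

theorem p3r293 : allRange pointOk 22 48672 9 = true := by decide +kernel
theorem p3u293 : ∀ k, 46035 ≤ k → k < 48681 → pointOk (k * 22) = true := between_extend pointOk 22 46035 48672 9 (p3u292) p3r293

theorem p3r294 : allRange pointOk 22 48681 9 = true := by decide +kernel
theorem p3u294 : ∀ k, 46035 ≤ k → k < 48690 → pointOk (k * 22) = true := between_extend pointOk 22 46035 48681 9 (p3u293) p3r294

theorem p3r295 : allRange pointOk 22 48690 9 = true := by decide +kernel
theorem p3u295 : ∀ k, 46035 ≤ k → k < 48699 → pointOk (k * 22) = true := between_extend pointOk 22 46035 48690 9 (p3u294) p3r295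

theorem p3r296 : allRange pointOk 22 48699 9 = true := by decide +kernel
theorem p3u296 : ∀ k, 46035 ≤ k → k < 48708 → pointOk (k * 22) = true := between_extend pointOk 22 46035 48699 9 (p3u295) p3r296

theorem p3r297 : allRange pointOk 22 48708 9 = true := by decide +kernel
theorem p3u297 : ∀ k, 46035 ≤ k → k < 48717 → pointOk (k * 22) = true := between_extend pointOk 22 46035 48708 9 (p3u296) p3r297

theorem p3r298 : allRange pointOk 22 48717 9 = true := by decide +kernel
theorem p3u298 : ∀ k, 46035 ≤ k → k < 48726 → pointOk (k * 22) = true := between_extend pointOk 22 46035 48717 9 (p3u297) p3r298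

theorem p3r299 : allRange pointOk 22 48726 9 = true := by decide +kernel
theorem p3u299 : ∀ k, 46035 ≤ k → k < 48735 → pointOk (k * 22) = true := between_extend pointOk 22 46035 48726 9 (p3u298) p3r299

theorem p3r300 : allRange pointOk 22 48735 9 = true := by decide +kernel
theorem p3u300 : ∀ k, 46035 ≤ k → k < 48744 → pointOk (k * 22) = true := between_extend pointOk 22 46035 48735 9 (p3u299) p3r300

theorem p3r301 : allRange pointOk 22 48744 9 = true := by decide +kernel
theorem p3u301 : ∀ k, 46035 ≤ k → k < 48753 → pointOk (k * 22) = true := between_extend pointOk 22 46035 48744 9 (p3u300) p3r301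

theorem p3r302 : allRange pointOk 22 48753 9 = true := by decide +kernel
theorem p3u302 : ∀ k, 46035 ≤ k → k < 48762 → pointOk (k * 22) = true := between_extend pointOk 22 46035 48753 9 (p3u301) p3r302

theorem p3r303 : allRange pointOk 22 48762 9 = true := by decide +kernel
theorem p3u303 : ∀ k, 46035 ≤ k → k < 48771 → pointOk (k * 22) = true := between_extend pointOk 22 46035 48762 9 (p3u302) p3r303

theorem p3r304 : allRange pointOk 22 48771 9 = true := by decide +kernel
theorem p3u304 : ∀ k, 46035 ≤ k → k < 48780 → pointOk (k * 22) = true := between_extend pointOk 22 46035 48771 9 (p3u303) p3r304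

theorem p3r305 : allRange pointOk 22 48780 9 = true := by decide +kernel
theorem p3u305 : ∀ k, 46035 ≤ k → k < 48789 → pointOk (k * 22) = true := between_extend pointOk 22 46035 48780 9 (p3u304) p3r305

theorem p3r306 : allRange pointOk 22 48789 9 = true := by decide +kernel
theorem p3u306 : ∀ k, 46035 ≤ k → k < 48798 → pointOk (k * 22) = true := between_extend pointOk 22 46035 48789 9 (p3u305) p3r306

theorem p3r307 : allRange pointOk 22 48798 9 = true := by decide +kernel
theorem p3u307 : ∀ k, 46035 ≤ k → k < 48807 → pointOk (k * 22) = true := between_extend pointOk 22 46035 48798 9 (p3u306) p3r307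

theorem p3r308 : allRange pointOk 22 48807 9 = true := by decide +kernel
theorem p3u308 : ∀ k, 46035 ≤ k → k < 48816 → pointOk (k * 22) = true := between_extend pointOk 22 46035 48807 9 (p3u307) p3r308

theorem p3r309 : allRange pointOk 22 48816 9 = true := by decide +kernel
theorem p3u309 : ∀ k, 46035 ≤ k → k < 48825 → pointOk (k * 22) = true := between_extend pointOk 22 46035 48816 9 (p3u308) p3r309

theorem p3r310 : allRange pointOk 22 48825 9 = true := by decide +kernel
theorem p3u310 : ∀ k, 46035 ≤ k → k < 48834 → pointOk (k * 22) = true := between_extend pointOk 22 46035 48825 9 (p3u309) p3r310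

theorem p3r311 : allRange pointOk 22 48834 9 = true := by decide +kernel
theorem p3u311 : ∀ k, 46035 ≤ k → k < 48843 → pointOk (k * 22) = true := between_extend pointOk 22 46035 48834 9 (p3u310) p3r311

theorem p3r312 : allRange pointOk 22 48843 9 = true := by decide +kernel
theorem p3u312 : ∀ k, 46035 ≤ k → k < 48852 → pointOk (k * 22) = true := between_extend pointOk 22 46035 48843 9 (p3u311) p3r312

theorem p3r313 : allRange pointOk 22 48852 9 = true := by decide +kernel
theorem p3u313 : ∀ k, 46035 ≤ k → k < 48861 → pointOk (k * 22) = true := between_extend pointOk 22 46035 48852 9 (p3u312) p3r313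

theorem p3r314 : allRange pointOk 22 48861 9 = true := by decide +kernel
theorem p3u314 : ∀ k, 46035 ≤ k → k < 48870 → pointOk (k * 22) = true := between_extend pointOk 22 46035 48861 9 (p3u313) p3r314

theorem p3r315 : allRange pointOk 22 48870 9 = true := by decide +kernel
theorem p3u315 : ∀ k, 46035 ≤ k → k < 48879 → pointOk (k * 22) = true := between_extend pointOk 22 46035 48870 9 (p3u314) p3r315

theorem p3r316 : allRange pointOk 22 48879 9 = true := by decide +kernel
theorem p3u316 : ∀ k, 46035 ≤ k → k < 48888 → pointOk (k * 22) = true := between_extend pointOk 22 46035 48879 9 (p3u315) p3r316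

theorem p3r317 : allRange pointOk 22 48888 9 = true := by decide +kernel
theorem p3u317 : ∀ k, 46035 ≤ k → k < 48897 → pointOk (k * 22) = true := between_extend pointOk 22 46035 48888 9 (p3u316) p3r317

theorem p3r318 : allRange pointOk 22 48897 9 = true := by decide +kernel
theorem p3u318 : ∀ k, 46035 ≤ k → k < 48906 → pointOk (k * 22) = true := between_extend pointOk 22 46035 48897 9 (p3u317) p3r318

theorem p3r319 : allRange pointOk 22 48906 9 = true := by decide +kernel
theorem p3u319 : ∀ k, 46035 ≤ k → k < 48915 → pointOk (k * 22) = true := between_extend pointOk 22 46035 48906 9 (p3u318) p3r319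

theorem p3r320 : allRange pointOk 22 48915 9 = true := by decide +kernel
theorem p3u320 : ∀ k, 46035 ≤ k → k < 48924 → pointOk (k * 22) = true := between_extend pointOk 22 46035 48915 9 (p3u319) p3r320

theorem p3r321 : allRange pointOk 22 48924 9 = true := by decide +kernel
theorem p3u321 : ∀ k, 46035 ≤ k → k < 48933 → pointOk (k * 22) = true := between_extend pointOk 22 46035 48924 9 (p3u320) p3r321

theorem p3r322 : allRange pointOk 22 48933 9 = true := by decide +kernel
theorem p3u322 : ∀ k, 46035 ≤ k → k < 48942 → pointOk (k * 22) = true := between_extend pointOk 22 46035 48933 9 (p3u321) p3r322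

theorem p3r323 : allRange pointOk 22 48942 9 = true := by decide +kernel
theorem p3u323 : ∀ k, 46035 ≤ k → k < 48951 → pointOk (k * 22) = true := between_extend pointOk 22 46035 48942 9 (p3u322) p3r323

theorem p3r324 : allRange pointOk 22 48951 9 = true := by decide +kernel
theorem p3u324 : ∀ k, 46035 ≤ k → k < 48960 → pointOk (k * 22) = true := between_extend pointOk 22 46035 48951 9 (p3u323) p3r324

theorem p3r325 : allRange pointOk 22 48960 9 = true := by decide +kernel
theorem p3u325 : ∀ k, 46035 ≤ k → k < 48969 → pointOk (k * 22) = true := between_extend pointOk 22 46035 48960 9 (p3u324) p3r325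

theorem p3r326 : allRange pointOk 22 48969 9 = true := by decide +kernel
theorem p3u326 : ∀ k, 46035 ≤ k → k < 48978 → pointOk (k * 22) = true := between_extend pointOk 22 46035 48969 9 (p3u325) p3r326

theorem p3r327 : allRange pointOk 22 48978 9 = true := by decide +kernel
theorem p3u327 : ∀ k, 46035 ≤ k → k < 48987 → pointOk (k * 22) = true := between_extend pointOk 22 46035 48978 9 (p3u326) p3r327

theorem p3r328 : allRange pointOk 22 48987 9 = true := by decide +kernel
theorem p3u328 : ∀ k, 46035 ≤ k → k < 48996 → pointOk (k * 22) = true := between_extend pointOk 22 46035 48987 9 (p3u327) p3r328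

theorem p3r329 : allRange pointOk 22 48996 9 = true := by decide +kernel
theorem p3u329 : ∀ k, 46035 ≤ k → k < 49005 → pointOk (k * 22) = true := between_extend pointOk 22 46035 48996 9 (p3u328) p3r329

theorem p3r330 : allRange pointOk 22 49005 9 = true := by decide +kernel
theorem p3u330 : ∀ k, 46035 ≤ k → k < 49014 → pointOk (k * 22) = true := between_extend pointOk 22 46035 49005 9 (p3u329) p3r330

theorem p3r331 : allRange pointOk 22 49014 9 = true := by decide +kernel
theorem p3u331 : ∀ k, 46035 ≤ k → k < 49023 → pointOk (k * 22) = true := between_extend pointOk 22 46035 49014 9 (p3u330) p3r331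

theorem p3r332 : allRange pointOk 22 49023 9 = true := by decide +kernel
theorem p3u332 : ∀ k, 46035 ≤ k → k < 49032 → pointOk (k * 22) = true := between_extend pointOk 22 46035 49023 9 (p3u331) p3r332

theorem p3r333 : allRange pointOk 22 49032 9 = true := by decide +kernel
theorem p3u333 : ∀ k, 46035 ≤ k → k < 49041 → pointOk (k * 22) = true := between_extend pointOk 22 46035 49032 9 (p3u332) p3r333

theorem p3r334 : allRange pointOk 22 49041 9 = true := by decide +kernel
theorem p3u334 : ∀ k, 46035 ≤ k → k < 49050 → pointOk (k * 22) = true := between_extend pointOk 22 46035 49041 9 (p3u333) p3r334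

theorem p3r335 : allRange pointOk 22 49050 9 = true := by decide +kernel
theorem p3u335 : ∀ k, 46035 ≤ k → k < 49059 → pointOk (k * 22) = true := between_extend pointOk 22 46035 49050 9 (p3u334) p3r335

theorem p3r336 : allRange pointOk 22 49059 9 = true := by decide +kernel
theorem p3u336 : ∀ k, 46035 ≤ k → k < 49068 → pointOk (k * 22) = true := between_extend pointOk 22 46035 49059 9 (p3u335) p3r336

theorem p3r337 : allRange pointOk 22 49068 9 = true := by decide +kernel
theorem p3u337 : ∀ k, 46035 ≤ k → k < 49077 → pointOk (k * 22) = true := between_extend pointOk 22 46035 49068 9 (p3u336) p3r337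

theorem p3r338 : allRange pointOk 22 49077 9 = true := by decide +kernel
theorem p3u338 : ∀ k, 46035 ≤ k → k < 49086 → pointOk (k * 22) = true := between_extend pointOk 22 46035 49077 9 (p3u337) p3r338

theorem p3r339 : allRange pointOk 22 49086 9 = true := by decide +kernel
theorem p3u339 : ∀ k, 46035 ≤ k → k < 49095 → pointOk (k * 22) = true := between_extend pointOk 22 46035 49086 9 (p3u338) p3r339

theorem p3r340 : allRange pointOk 22 49095 9 = true := by decide +kernel
theorem p3u340 : ∀ k, 46035 ≤ k → k < 49104 → pointOk (k * 22) = true := between_extend pointOk 22 46035 49095 9 (p3u339) p3r340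

theorem p3r341 : allRange pointOk 22 49104 9 = true := by decide +kernel
theorem p3u341 : ∀ k, 46035 ≤ k → k < 49113 → pointOk (k * 22) = true := between_extend pointOk 22 46035 49104 9 (p3u340) p3r341

theorem p3r342 : allRange pointOk 22 49113 9 = true := by decide +kernel
theorem p3u342 : ∀ k, 46035 ≤ k → k < 49122 → pointOk (k * 22) = true := between_extend pointOk 22 46035 49113 9 (p3u341) p3r342

theorem p3r343 : allRange pointOk 22 49122 9 = true := by decide +kernel
theorem p3u343 : ∀ k, 46035 ≤ k → k < 49131 → pointOk (k * 22) = true := between_extend pointOk 22 46035 49122 9 (p3u342) p3r343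

theorem p3r344 : allRange pointOk 22 49131 9 = true := by decide +kernel
theorem p3u344 : ∀ k, 46035 ≤ k → k < 49140 → pointOk (k * 22) = true := between_extend pointOk 22 46035 49131 9 (p3u343) p3r344

theorem p3r345 : allRange pointOk 22 49140 9 = true := by decide +kernel
theorem p3u345 : ∀ k, 46035 ≤ k → k < 49149 → pointOk (k * 22) = true := between_extend pointOk 22 46035 49140 9 (p3u344) p3r345

theorem p3r346 : allRange pointOk 22 49149 9 = true := by decide +kernel
theorem p3u346 : ∀ k, 46035 ≤ k → k < 49158 → pointOk (k * 22) = true := between_extend pointOk 22 46035 49149 9 (p3u345) p3r346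

theorem p3r347 : allRange pointOk 22 49158 9 = true := by decide +kernel
theorem p3u347 : ∀ k, 46035 ≤ k → k < 49167 → pointOk (k * 22) = true := between_extend pointOk 22 46035 49158 9 (p3u346) p3r347

theorem p3r348 : allRange pointOk 22 49167 9 = true := by decide +kernel
theorem p3u348 : ∀ k, 46035 ≤ k → k < 49176 → pointOk (k * 22) = true := between_extend pointOk 22 46035 49167 9 (p3u347) p3r348

theorem p3r349 : allRange pointOk 22 49176 9 = true := by decide +kernel
theorem p3u349 : ∀ k, 46035 ≤ k → k < 49185 → pointOk (k * 22) = true := between_extend pointOk 22 46035 49176 9 (p3u348) p3r349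

theorem p3r350 : allRange pointOk 22 49185 9 = true := by decide +kernel
theorem p3u350 : ∀ k, 46035 ≤ k → k < 49194 → pointOk (k * 22) = true := between_extend pointOk 22 46035 49185 9 (p3u349) p3r350

theorem p3r351 : allRange pointOk 22 49194 9 = true := by decide +kernel
theorem p3u351 : ∀ k, 46035 ≤ k → k < 49203 → pointOk (k * 22) = true := between_extend pointOk 22 46035 49194 9 (p3u350) p3r351

theorem p3r352 : allRange pointOk 22 49203 9 = true := by decide +kernel
theorem p3u352 : ∀ k, 46035 ≤ k → k < 49212 → pointOk (k * 22) = true := between_extend pointOk 22 46035 49203 9 (p3u351) p3r352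

theorem p3r353 : allRange pointOk 22 49212 9 = true := by decide +kernel
theorem p3u353 : ∀ k, 46035 ≤ k → k < 49221 → pointOk (k * 22) = true := between_extend pointOk 22 46035 49212 9 (p3u352) p3r353

theorem p3r354 : allRange pointOk 22 49221 9 = true := by decide +kernel
theorem p3u354 : ∀ k, 46035 ≤ k → k < 49230 → pointOk (k * 22) = true := between_extend pointOk 22 46035 49221 9 (p3u353) p3r354

theorem p3r355 : allRange pointOk 22 49230 9 = true := by decide +kernel
theorem p3u355 : ∀ k, 46035 ≤ k → k < 49239 → pointOk (k * 22) = true := between_extend pointOk 22 46035 49230 9 (p3u354) p3r355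

theorem p3r356 : allRange pointOk 22 49239 9 = true := by decide +kernel
theorem p3u356 : ∀ k, 46035 ≤ k → k < 49248 → pointOk (k * 22) = true := between_extend pointOk 22 46035 49239 9 (p3u355) p3r356

theorem p3r357 : allRange pointOk 22 49248 9 = true := by decide +kernel
theorem p3u357 : ∀ k, 46035 ≤ k → k < 49257 → pointOk (k * 22) = true := between_extend pointOk 22 46035 49248 9 (p3u356) p3r357

theorem p3r358 : allRange pointOk 22 49257 9 = true := by decide +kernel
theorem p3u358 : ∀ k, 46035 ≤ k → k < 49266 → pointOk (k * 22) = true := between_extend pointOk 22 46035 49257 9 (p3u357) p3r358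

theorem p3r359 : allRange pointOk 22 49266 9 = true := by decide +kernel
theorem p3u359 : ∀ k, 46035 ≤ k → k < 49275 → pointOk (k * 22) = true := between_extend pointOk 22 46035 49266 9 (p3u358) p3r359

theorem p3r360 : allRange pointOk 22 49275 9 = true := by decide +kernel
theorem p3u360 : ∀ k, 46035 ≤ k → k < 49284 → pointOk (k * 22) = true := between_extend pointOk 22 46035 49275 9 (p3u359) p3r360

theorem p3r361 : allRange pointOk 22 49284 9 = true := by decide +kernel
theorem p3u361 : ∀ k, 46035 ≤ k → k < 49293 → pointOk (k * 22) = true := between_extend pointOk 22 46035 49284 9 (p3u360) p3r361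

theorem p3r362 : allRange pointOk 22 49293 9 = true := by decide +kernel
theorem p3u362 : ∀ k, 46035 ≤ k → k < 49302 → pointOk (k * 22) = true := between_extend pointOk 22 46035 49293 9 (p3u361) p3r362

theorem p3r363 : allRange pointOk 22 49302 9 = true := by decide +kernel
theorem p3u363 : ∀ k, 46035 ≤ k → k < 49311 → pointOk (k * 22) = true := between_extend pointOk 22 46035 49302 9 (p3u362) p3r363

theorem p3r364 : allRange pointOk 22 49311 9 = true := by decide +kernel
theorem p3u364 : ∀ k, 46035 ≤ k → k < 49320 → pointOk (k * 22) = true := between_extend pointOk 22 46035 49311 9 (p3u363) p3r364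

theorem p3r365 : allRange pointOk 22 49320 9 = true := by decide +kernel
theorem p3u365 : ∀ k, 46035 ≤ k → k < 49329 → pointOk (k * 22) = true := between_extend pointOk 22 46035 49320 9 (p3u364) p3r365

theorem p3r366 : allRange pointOk 22 49329 9 = true := by decide +kernel
theorem p3u366 : ∀ k, 46035 ≤ k → k < 49338 → pointOk (k * 22) = true := between_extend pointOk 22 46035 49329 9 (p3u365) p3r366

theorem p3r367 : allRange pointOk 22 49338 9 = true := by decide +kernel
theorem p3u367 : ∀ k, 46035 ≤ k → k < 49347 → pointOk (k * 22) = true := between_extend pointOk 22 46035 49338 9 (p3u366) p3r367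

theorem p3r368 : allRange pointOk 22 49347 9 = true := by decide +kernel
theorem p3u368 : ∀ k, 46035 ≤ k → k < 49356 → pointOk (k * 22) = true := between_extend pointOk 22 46035 49347 9 (p3u367) p3r368

theorem p3r369 : allRange pointOk 22 49356 9 = true := by decide +kernel
theorem p3u369 : ∀ k, 46035 ≤ k → k < 49365 → pointOk (k * 22) = true := between_extend pointOk 22 46035 49356 9 (p3u368) p3r369

theorem p3r370 : allRange pointOk 22 49365 9 = true := by decide +kernel
theorem p3u370 : ∀ k, 46035 ≤ k → k < 49374 → pointOk (k * 22) = true := between_extend pointOk 22 46035 49365 9 (p3u369) p3r370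

theorem p3r371 : allRange pointOk 22 49374 9 = true := by decide +kernel
theorem p3u371 : ∀ k, 46035 ≤ k → k < 49383 → pointOk (k * 22) = true := between_extend pointOk 22 46035 49374 9 (p3u370) p3r371

theorem p3r372 : allRange pointOk 22 49383 9 = true := by decide +kernel
theorem p3u372 : ∀ k, 46035 ≤ k → k < 49392 → pointOk (k * 22) = true := between_extend pointOk 22 46035 49383 9 (p3u371) p3r372

theorem p3r373 : allRange pointOk 22 49392 9 = true := by decide +kernel
theorem p3u373 : ∀ k, 46035 ≤ k → k < 49401 → pointOk (k * 22) = true := between_extend pointOk 22 46035 49392 9 (p3u372) p3r373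

theorem p3r374 : allRange pointOk 22 49401 9 = true := by decide +kernel
theorem p3u374 : ∀ k, 46035 ≤ k → k < 49410 → pointOk (k * 22) = true := between_extend pointOk 22 46035 49401 9 (p3u373) p3r374

theorem p3r375 : allRange pointOk 22 49410 9 = true := by decide +kernel
theorem p3u375 : ∀ k, 46035 ≤ k → k < 49419 → pointOk (k * 22) = true := between_extend pointOk 22 46035 49410 9 (p3u374) p3r375

theorem p3r376 : allRange pointOk 22 49419 9 = true := by decide +kernel
theorem p3u376 : ∀ k, 46035 ≤ k → k < 49428 → pointOk (k * 22) = true := between_extend pointOk 22 46035 49419 9 (p3u375) p3r376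

theorem p3r377 : allRange pointOk 22 49428 9 = true := by decide +kernel
theorem p3u377 : ∀ k, 46035 ≤ k → k < 49437 → pointOk (k * 22) = true := between_extend pointOk 22 46035 49428 9 (p3u376) p3r377

theorem p3r378 : allRange pointOk 22 49437 9 = true := by decide +kernel
theorem p3u378 : ∀ k, 46035 ≤ k → k < 49446 → pointOk (k * 22) = true := between_extend pointOk 22 46035 49437 9 (p3u377) p3r378

theorem p3r379 : allRange pointOk 22 49446 9 = true := by decide +kernel
theorem p3u379 : ∀ k, 46035 ≤ k → k < 49455 → pointOk (k * 22) = true := between_extend pointOk 22 46035 49446 9 (p3u378) p3r379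

theorem p3r380 : allRange pointOk 22 49455 9 = true := by decide +kernel
theorem p3u380 : ∀ k, 46035 ≤ k → k < 49464 → pointOk (k * 22) = true := between_extend pointOk 22 46035 49455 9 (p3u379) p3r380

theorem p3r381 : allRange pointOk 22 49464 9 = true := by decide +kernel
theorem p3u381 : ∀ k, 46035 ≤ k → k < 49473 → pointOk (k * 22) = true := between_extend pointOk 22 46035 49464 9 (p3u380) p3r381

theorem p3r382 : allRange pointOk 22 49473 9 = true := by decide +kernel
theorem p3u382 : ∀ k, 46035 ≤ k → k < 49482 → pointOk (k * 22) = true := between_extend pointOk 22 46035 49473 9 (p3u381) p3r382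

theorem p3r383 : allRange pointOk 22 49482 9 = true := by decide +kernel
theorem p3u383 : ∀ k, 46035 ≤ k → k < 49491 → pointOk (k * 22) = true := between_extend pointOk 22 46035 49482 9 (p3u382) p3r383

theorem p3r384 : allRange pointOk 22 49491 9 = true := by decide +kernel
theorem p3u384 : ∀ k, 46035 ≤ k → k < 49500 → pointOk (k * 22) = true := between_extend pointOk 22 46035 49491 9 (p3u383) p3r384

theorem p3r385 : allRange pointOk 22 49500 9 = true := by decide +kernel
theorem p3u385 : ∀ k, 46035 ≤ k → k < 49509 → pointOk (k * 22) = true := between_extend pointOk 22 46035 49500 9 (p3u384) p3r385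

theorem p3r386 : allRange pointOk 22 49509 9 = true := by decide +kernel
theorem p3u386 : ∀ k, 46035 ≤ k → k < 49518 → pointOk (k * 22) = true := between_extend pointOk 22 46035 49509 9 (p3u385) p3r386

theorem p3r387 : allRange pointOk 22 49518 9 = true := by decide +kernel
theorem p3u387 : ∀ k, 46035 ≤ k → k < 49527 → pointOk (k * 22) = true := between_extend pointOk 22 46035 49518 9 (p3u386) p3r387

theorem p3r388 : allRange pointOk 22 49527 9 = true := by decide +kernel
theorem p3u388 : ∀ k, 46035 ≤ k → k < 49536 → pointOk (k * 22) = true := between_extend pointOk 22 46035 49527 9 (p3u387) p3r388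

theorem p3r389 : allRange pointOk 22 49536 9 = true := by decide +kernel
theorem p3u389 : ∀ k, 46035 ≤ k → k < 49545 → pointOk (k * 22) = true := between_extend pointOk 22 46035 49536 9 (p3u388) p3r389

theorem p3r390 : allRange pointOk 22 49545 9 = true := by decide +kernel
theorem p3u390 : ∀ k, 46035 ≤ k → k < 49554 → pointOk (k * 22) = true := between_extend pointOk 22 46035 49545 9 (p3u389) p3r390

theorem p3r391 : allRange pointOk 22 49554 9 = true := by decide +kernel
theorem p3u391 : ∀ k, 46035 ≤ k → k < 49563 → pointOk (k * 22) = true := between_extend pointOk 22 46035 49554 9 (p3u390) p3r391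

theorem p3r392 : allRange pointOk 22 49563 9 = true := by decide +kernel
theorem p3u392 : ∀ k, 46035 ≤ k → k < 49572 → pointOk (k * 22) = true := between_extend pointOk 22 46035 49563 9 (p3u391) p3r392

theorem p3r393 : allRange pointOk 22 49572 9 = true := by decide +kernel
theorem p3u393 : ∀ k, 46035 ≤ k → k < 49581 → pointOk (k * 22) = true := between_extend pointOk 22 46035 49572 9 (p3u392) p3r393

theorem p3r394 : allRange pointOk 22 49581 9 = true := by decide +kernel
theorem p3u394 : ∀ k, 46035 ≤ k → k < 49590 → pointOk (k * 22) = true := between_extend pointOk 22 46035 49581 9 (p3u393) p3r394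

theorem p3r395 : allRange pointOk 22 49590 9 = true := by decide +kernel
theorem p3u395 : ∀ k, 46035 ≤ k → k < 49599 → pointOk (k * 22) = true := between_extend pointOk 22 46035 49590 9 (p3u394) p3r395

theorem p3r396 : allRange pointOk 22 49599 9 = true := by decide +kernel
theorem p3u396 : ∀ k, 46035 ≤ k → k < 49608 → pointOk (k * 22) = true := between_extend pointOk 22 46035 49599 9 (p3u395) p3r396

theorem p3r397 : allRange pointOk 22 49608 9 = true := by decide +kernel
theorem p3u397 : ∀ k, 46035 ≤ k → k < 49617 → pointOk (k * 22) = true := between_extend pointOk 22 46035 49608 9 (p3u396) p3r397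

theorem p3r398 : allRange pointOk 22 49617 9 = true := by decide +kernel
theorem p3u398 : ∀ k, 46035 ≤ k → k < 49626 → pointOk (k * 22) = true := between_extend pointOk 22 46035 49617 9 (p3u397) p3r398

theorem p3r399 : allRange pointOk 22 49626 9 = true := by decide +kernel
theorem p3u399 : ∀ k, 46035 ≤ k → k < 49635 → pointOk (k * 22) = true := between_extend pointOk 22 46035 49626 9 (p3u398) p3r399

theorem p3r400 : allRange pointOk 22 49635 9 = true := by decide +kernel
theorem p3u400 : ∀ k, 46035 ≤ k → k < 49644 → pointOk (k * 22) = true := between_extend pointOk 22 46035 49635 9 (p3u399) p3r400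

theorem p3r401 : allRange pointOk 22 49644 9 = true := by decide +kernel
theorem p3u401 : ∀ k, 46035 ≤ k → k < 49653 → pointOk (k * 22) = true := between_extend pointOk 22 46035 49644 9 (p3u400) p3r401

theorem p3r402 : allRange pointOk 22 49653 9 = true := by decide +kernel
theorem p3u402 : ∀ k, 46035 ≤ k → k < 49662 → pointOk (k * 22) = true := between_extend pointOk 22 46035 49653 9 (p3u401) p3r402

theorem p3r403 : allRange pointOk 22 49662 9 = true := by decide +kernel
theorem p3u403 : ∀ k, 46035 ≤ k → k < 49671 → pointOk (k * 22) = true := between_extend pointOk 22 46035 49662 9 (p3u402) p3r403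

theorem p3r404 : allRange pointOk 22 49671 9 = true := by decide +kernel
theorem p3u404 : ∀ k, 46035 ≤ k → k < 49680 → pointOk (k * 22) = true := between_extend pointOk 22 46035 49671 9 (p3u403) p3r404

theorem p3r405 : allRange pointOk 22 49680 9 = true := by decide +kernel
theorem p3u405 : ∀ k, 46035 ≤ k → k < 49689 → pointOk (k * 22) = true := between_extend pointOk 22 46035 49680 9 (p3u404) p3r405

theorem p3r406 : allRange pointOk 22 49689 9 = true := by decide +kernel
theorem p3u406 : ∀ k, 46035 ≤ k → k < 49698 → pointOk (k * 22) = true := between_extend pointOk 22 46035 49689 9 (p3u405) p3r406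

theorem p3r407 : allRange pointOk 22 49698 9 = true := by decide +kernel
theorem p3u407 : ∀ k, 46035 ≤ k → k < 49707 → pointOk (k * 22) = true := between_extend pointOk 22 46035 49698 9 (p3u406) p3r407

theorem p3r408 : allRange pointOk 22 49707 9 = true := by decide +kernel
theorem p3u408 : ∀ k, 46035 ≤ k → k < 49716 → pointOk (k * 22) = true := between_extend pointOk 22 46035 49707 9 (p3u407) p3r408

theorem p3r409 : allRange pointOk 22 49716 9 = true := by decide +kernel
theorem p3u409 : ∀ k, 46035 ≤ k → k < 49725 → pointOk (k * 22) = true := between_extend pointOk 22 46035 49716 9 (p3u408) p3r409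

theorem p3r410 : allRange pointOk 22 49725 9 = true := by decide +kernel
theorem p3u410 : ∀ k, 46035 ≤ k → k < 49734 → pointOk (k * 22) = true := between_extend pointOk 22 46035 49725 9 (p3u409) p3r410

theorem p3r411 : allRange pointOk 22 49734 9 = true := by decide +kernel
theorem p3u411 : ∀ k, 46035 ≤ k → k < 49743 → pointOk (k * 22) = true := between_extend pointOk 22 46035 49734 9 (p3u410) p3r411

theorem p3r412 : allRange pointOk 22 49743 9 = true := by decide +kernel
theorem p3u412 : ∀ k, 46035 ≤ k → k < 49752 → pointOk (k * 22) = true := between_extend pointOk 22 46035 49743 9 (p3u411) p3r412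

theorem p3r413 : allRange pointOk 22 49752 9 = true := by decide +kernel
theorem p3u413 : ∀ k, 46035 ≤ k → k < 49761 → pointOk (k * 22) = true := between_extend pointOk 22 46035 49752 9 (p3u412) p3r413

theorem p3r414 : allRange pointOk 22 49761 9 = true := by decide +kernel
theorem p3u414 : ∀ k, 46035 ≤ k → k < 49770 → pointOk (k * 22) = true := between_extend pointOk 22 46035 49761 9 (p3u413) p3r414

theorem p3r415 : allRange pointOk 22 49770 9 = true := by decide +kernel
theorem p3u415 : ∀ k, 46035 ≤ k → k < 49779 → pointOk (k * 22) = true := between_extend pointOk 22 46035 49770 9 (p3u414) p3r415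

theorem p3r416 : allRange pointOk 22 49779 9 = true := by decide +kernel
theorem p3u416 : ∀ k, 46035 ≤ k → k < 49788 → pointOk (k * 22) = true := between_extend pointOk 22 46035 49779 9 (p3u415) p3r416

theorem p3r417 : allRange pointOk 22 49788 9 = true := by decide +kernel
theorem p3u417 : ∀ k, 46035 ≤ k → k < 49797 → pointOk (k * 22) = true := between_extend pointOk 22 46035 49788 9 (p3u416) p3r417

theorem p3r418 : allRange pointOk 22 49797 9 = true := by decide +kernel
theorem p3u418 : ∀ k, 46035 ≤ k → k < 49806 → pointOk (k * 22) = true := between_extend pointOk 22 46035 49797 9 (p3u417) p3r418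

theorem p3r419 : allRange pointOk 22 49806 9 = true := by decide +kernel
theorem p3u419 : ∀ k, 46035 ≤ k → k < 49815 → pointOk (k * 22) = true := between_extend pointOk 22 46035 49806 9 (p3u418) p3r419

theorem p3r420 : allRange pointOk 22 49815 9 = true := by decide +kernel
theorem p3u420 : ∀ k, 46035 ≤ k → k < 49824 → pointOk (k * 22) = true := between_extend pointOk 22 46035 49815 9 (p3u419) p3r420

theorem p3r421 : allRange pointOk 22 49824 9 = true := by decide +kernel
theorem p3u421 : ∀ k, 46035 ≤ k → k < 49833 → pointOk (k * 22) = true := between_extend pointOk 22 46035 49824 9 (p3u420) p3r421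

theorem p3r422 : allRange pointOk 22 49833 9 = true := by decide +kernel
theorem p3u422 : ∀ k, 46035 ≤ k → k < 49842 → pointOk (k * 22) = true := between_extend pointOk 22 46035 49833 9 (p3u421) p3r422

theorem p3r423 : allRange pointOk 22 49842 9 = true := by decide +kernel
theorem p3u423 : ∀ k, 46035 ≤ k → k < 49851 → pointOk (k * 22) = true := between_extend pointOk 22 46035 49842 9 (p3u422) p3r423

theorem p3r424 : allRange pointOk 22 49851 9 = true := by decide +kernel
theorem p3u424 : ∀ k, 46035 ≤ k → k < 49860 → pointOk (k * 22) = true := between_extend pointOk 22 46035 49851 9 (p3u423) p3r424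

theorem p3r425 : allRange pointOk 22 49860 9 = true := by decide +kernel
theorem p3u425 : ∀ k, 46035 ≤ k → k < 49869 → pointOk (k * 22) = true := between_extend pointOk 22 46035 49860 9 (p3u424) p3r425

theorem p3r426 : allRange pointOk 22 49869 9 = true := by decide +kernel
theorem p3u426 : ∀ k, 46035 ≤ k → k < 49878 → pointOk (k * 22) = true := between_extend pointOk 22 46035 49869 9 (p3u425) p3r426

theorem p3r427 : allRange pointOk 22 49878 9 = true := by decide +kernel
theorem p3u427 : ∀ k, 46035 ≤ k → k < 49887 → pointOk (k * 22) = true := between_extend pointOk 22 46035 49878 9 (p3u426) p3r427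

theorem p3r428 : allRange pointOk 22 49887 9 = true := by decide +kernel
theorem p3u428 : ∀ k, 46035 ≤ k → k < 49896 → pointOk (k * 22) = true := between_extend pointOk 22 46035 49887 9 (p3u427) p3r428

theorem p3r429 : allRange pointOk 22 49896 9 = true := by decide +kernel
theorem p3u429 : ∀ k, 46035 ≤ k → k < 49905 → pointOk (k * 22) = true := between_extend pointOk 22 46035 49896 9 (p3u428) p3r429

theorem p3r430 : allRange pointOk 22 49905 9 = true := by decide +kernel
theorem p3u430 : ∀ k, 46035 ≤ k → k < 49914 → pointOk (k * 22) = true := between_extend pointOk 22 46035 49905 9 (p3u429) p3r430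

theorem p3r431 : allRange pointOk 22 49914 9 = true := by decide +kernel
theorem p3u431 : ∀ k, 46035 ≤ k → k < 49923 → pointOk (k * 22) = true := between_extend pointOk 22 46035 49914 9 (p3u430) p3r431

theorem p3r432 : allRange pointOk 22 49923 9 = true := by decide +kernel
theorem p3u432 : ∀ k, 46035 ≤ k → k < 49932 → pointOk (k * 22) = true := between_extend pointOk 22 46035 49923 9 (p3u431) p3r432

theorem p3r433 : allRange pointOk 22 49932 9 = true := by decide +kernel
theorem p3u433 : ∀ k, 46035 ≤ k → k < 49941 → pointOk (k * 22) = true := between_extend pointOk 22 46035 49932 9 (p3u432) p3r433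

theorem p3r434 : allRange pointOk 22 49941 9 = true := by decide +kernel
theorem p3u434 : ∀ k, 46035 ≤ k → k < 49950 → pointOk (k * 22) = true := between_extend pointOk 22 46035 49941 9 (p3u433) p3r434

theorem p3r435 : allRange pointOk 22 49950 9 = true := by decide +kernel
theorem p3u435 : ∀ k, 46035 ≤ k → k < 49959 → pointOk (k * 22) = true := between_extend pointOk 22 46035 49950 9 (p3u434) p3r435

theorem p3r436 : allRange pointOk 22 49959 9 = true := by decide +kernel
theorem p3u436 : ∀ k, 46035 ≤ k → k < 49968 → pointOk (k * 22) = true := between_extend pointOk 22 46035 49959 9 (p3u435) p3r436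

theorem p3r437 : allRange pointOk 22 49968 9 = true := by decide +kernel
theorem p3u437 : ∀ k, 46035 ≤ k → k < 49977 → pointOk (k * 22) = true := between_extend pointOk 22 46035 49968 9 (p3u436) p3r437

theorem p3r438 : allRange pointOk 22 49977 9 = true := by decide +kernel
theorem p3u438 : ∀ k, 46035 ≤ k → k < 49986 → pointOk (k * 22) = true := between_extend pointOk 22 46035 49977 9 (p3u437) p3r438

theorem p3r439 : allRange pointOk 22 49986 9 = true := by decide +kernel
theorem p3u439 : ∀ k, 46035 ≤ k → k < 49995 → pointOk (k * 22) = true := between_extend pointOk 22 46035 49986 9 (p3u438) p3r439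

theorem p3r440 : allRange pointOk 22 49995 9 = true := by decide +kernel
theorem p3u440 : ∀ k, 46035 ≤ k → k < 50004 → pointOk (k * 22) = true := between_extend pointOk 22 46035 49995 9 (p3u439) p3r440

theorem p3r441 : allRange pointOk 22 50004 9 = true := by decide +kernel
theorem p3u441 : ∀ k, 46035 ≤ k → k < 50013 → pointOk (k * 22) = true := between_extend pointOk 22 46035 50004 9 (p3u440) p3r441

theorem p3r442 : allRange pointOk 22 50013 9 = true := by decide +kernel
theorem p3u442 : ∀ k, 46035 ≤ k → k < 50022 → pointOk (k * 22) = true := between_extend pointOk 22 46035 50013 9 (p3u441) p3r442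

theorem p3r443 : allRange pointOk 22 50022 9 = true := by decide +kernel
theorem p3u443 : ∀ k, 46035 ≤ k → k < 50031 → pointOk (k * 22) = true := between_extend pointOk 22 46035 50022 9 (p3u442) p3r443

theorem p3r444 : allRange pointOk 22 50031 9 = true := by decide +kernel
theorem p3u444 : ∀ k, 46035 ≤ k → k < 50040 → pointOk (k * 22) = true := between_extend pointOk 22 46035 50031 9 (p3u443) p3r444

theorem p3r445 : allRange pointOk 22 50040 9 = true := by decide +kernel
theorem p3u445 : ∀ k, 46035 ≤ k → k < 50049 → pointOk (k * 22) = true := between_extend pointOk 22 46035 50040 9 (p3u444) p3r445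

theorem p3r446 : allRange pointOk 22 50049 9 = true := by decide +kernel
theorem p3u446 : ∀ k, 46035 ≤ k → k < 50058 → pointOk (k * 22) = true := between_extend pointOk 22 46035 50049 9 (p3u445) p3r446

theorem p3r447 : allRange pointOk 22 50058 9 = true := by decide +kernel
theorem p3u447 : ∀ k, 46035 ≤ k → k < 50067 → pointOk (k * 22) = true := between_extend pointOk 22 46035 50058 9 (p3u446) p3r447

theorem p3r448 : allRange pointOk 22 50067 9 = true := by decide +kernel
theorem p3u448 : ∀ k, 46035 ≤ k → k < 50076 → pointOk (k * 22) = true := between_extend pointOk 22 46035 50067 9 (p3u447) p3r448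

theorem p3r449 : allRange pointOk 22 50076 9 = true := by decide +kernel
theorem p3u449 : ∀ k, 46035 ≤ k → k < 50085 → pointOk (k * 22) = true := between_extend pointOk 22 46035 50076 9 (p3u448) p3r449

theorem p3r450 : allRange pointOk 22 50085 9 = true := by decide +kernel
theorem p3u450 : ∀ k, 46035 ≤ k → k < 50094 → pointOk (k * 22) = true := between_extend pointOk 22 46035 50085 9 (p3u449) p3r450

theorem p3r451 : allRange pointOk 22 50094 9 = true := by decide +kernel
theorem p3u451 : ∀ k, 46035 ≤ k → k < 50103 → pointOk (k * 22) = true := between_extend pointOk 22 46035 50094 9 (p3u450) p3r451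

theorem p3r452 : allRange pointOk 22 50103 9 = true := by decide +kernel
theorem p3u452 : ∀ k, 46035 ≤ k → k < 50112 → pointOk (k * 22) = true := between_extend pointOk 22 46035 50103 9 (p3u451) p3r452

theorem p3r453 : allRange pointOk 22 50112 9 = true := by decide +kernel
theorem p3u453 : ∀ k, 46035 ≤ k → k < 50121 → pointOk (k * 22) = true := between_extend pointOk 22 46035 50112 9 (p3u452) p3r453

theorem p3r454 : allRange pointOk 22 50121 9 = true := by decide +kernel
theorem p3u454 : ∀ k, 46035 ≤ k → k < 50130 → pointOk (k * 22) = true := between_extend pointOk 22 46035 50121 9 (p3u453) p3r454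

theorem p3r455 : allRange pointOk 22 50130 9 = true := by decide +kernel
theorem p3u455 : ∀ k, 46035 ≤ k → k < 50139 → pointOk (k * 22) = true := between_extend pointOk 22 46035 50130 9 (p3u454) p3r455

theorem p3r456 : allRange pointOk 22 50139 9 = true := by decide +kernel
theorem p3u456 : ∀ k, 46035 ≤ k → k < 50148 → pointOk (k * 22) = true := between_extend pointOk 22 46035 50139 9 (p3u455) p3r456

theorem p3r457 : allRange pointOk 22 50148 9 = true := by decide +kernel
theorem p3u457 : ∀ k, 46035 ≤ k → k < 50157 → pointOk (k * 22) = true := between_extend pointOk 22 46035 50148 9 (p3u456) p3r457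

theorem p3r458 : allRange pointOk 22 50157 9 = true := by decide +kernel
theorem p3u458 : ∀ k, 46035 ≤ k → k < 50166 → pointOk (k * 22) = true := between_extend pointOk 22 46035 50157 9 (p3u457) p3r458

theorem p3r459 : allRange pointOk 22 50166 9 = true := by decide +kernel
theorem p3u459 : ∀ k, 46035 ≤ k → k < 50175 → pointOk (k * 22) = true := between_extend pointOk 22 46035 50166 9 (p3u458) p3r459

theorem p3r460 : allRange pointOk 22 50175 9 = true := by decide +kernel
theorem p3u460 : ∀ k, 46035 ≤ k → k < 50184 → pointOk (k * 22) = true := between_extend pointOk 22 46035 50175 9 (p3u459) p3r460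

theorem p3r461 : allRange pointOk 22 50184 9 = true := by decide +kernel
theorem p3u461 : ∀ k, 46035 ≤ k → k < 50193 → pointOk (k * 22) = true := between_extend pointOk 22 46035 50184 9 (p3u460) p3r461

theorem p3r462 : allRange pointOk 22 50193 9 = true := by decide +kernel
theorem p3u462 : ∀ k, 46035 ≤ k → k < 50202 → pointOk (k * 22) = true := between_extend pointOk 22 46035 50193 9 (p3u461) p3r462

theorem p3r463 : allRange pointOk 22 50202 9 = true := by decide +kernel
theorem p3u463 : ∀ k, 46035 ≤ k → k < 50211 → pointOk (k * 22) = true := between_extend pointOk 22 46035 50202 9 (p3u462) p3r463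

theorem p3r464 : allRange pointOk 22 50211 9 = true := by decide +kernel
theorem p3u464 : ∀ k, 46035 ≤ k → k < 50220 → pointOk (k * 22) = true := between_extend pointOk 22 46035 50211 9 (p3u463) p3r464

theorem p3r465 : allRange pointOk 22 50220 9 = true := by decide +kernel
theorem p3u465 : ∀ k, 46035 ≤ k → k < 50229 → pointOk (k * 22) = true := between_extend pointOk 22 46035 50220 9 (p3u464) p3r465

theorem p3r466 : allRange pointOk 22 50229 9 = true := by decide +kernel
theorem p3u466 : ∀ k, 46035 ≤ k → k < 50238 → pointOk (k * 22) = true := between_extend pointOk 22 46035 50229 9 (p3u465) p3r466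

theorem p3r467 : allRange pointOk 22 50238 9 = true := by decide +kernel
theorem p3u467 : ∀ k, 46035 ≤ k → k < 50247 → pointOk (k * 22) = true := between_extend pointOk 22 46035 50238 9 (p3u466) p3r467

theorem p3r468 : allRange pointOk 22 50247 9 = true := by decide +kernel
theorem p3u468 : ∀ k, 46035 ≤ k → k < 50256 → pointOk (k * 22) = true := between_extend pointOk 22 46035 50247 9 (p3u467) p3r468

theorem p3r469 : allRange pointOk 22 50256 9 = true := by decide +kernel
theorem p3u469 : ∀ k, 46035 ≤ k → k < 50265 → pointOk (k * 22) = true := between_extend pointOk 22 46035 50256 9 (p3u468) p3r469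

theorem p3r470 : allRange pointOk 22 50265 9 = true := by decide +kernel
theorem p3u470 : ∀ k, 46035 ≤ k → k < 50274 → pointOk (k * 22) = true := between_extend pointOk 22 46035 50265 9 (p3u469) p3r470

theorem p3r471 : allRange pointOk 22 50274 9 = true := by decide +kernel
theorem p3u471 : ∀ k, 46035 ≤ k → k < 50283 → pointOk (k * 22) = true := between_extend pointOk 22 46035 50274 9 (p3u470) p3r471

theorem p3r472 : allRange pointOk 22 50283 9 = true := by decide +kernel
theorem p3u472 : ∀ k, 46035 ≤ k → k < 50292 → pointOk (k * 22) = true := between_extend pointOk 22 46035 50283 9 (p3u471) p3r472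

theorem p3r473 : allRange pointOk 22 50292 9 = true := by decide +kernel
theorem p3u473 : ∀ k, 46035 ≤ k → k < 50301 → pointOk (k * 22) = true := between_extend pointOk 22 46035 50292 9 (p3u472) p3r473

theorem p3r474 : allRange pointOk 22 50301 9 = true := by decide +kernel
theorem p3u474 : ∀ k, 46035 ≤ k → k < 50310 → pointOk (k * 22) = true := between_extend pointOk 22 46035 50301 9 (p3u473) p3r474

theorem p3r475 : allRange pointOk 22 50310 9 = true := by decide +kernel
theorem p3u475 : ∀ k, 46035 ≤ k → k < 50319 → pointOk (k * 22) = true := between_extend pointOk 22 46035 50310 9 (p3u474) p3r475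

theorem p3r476 : allRange pointOk 22 50319 9 = true := by decide +kernel
theorem p3u476 : ∀ k, 46035 ≤ k → k < 50328 → pointOk (k * 22) = true := between_extend pointOk 22 46035 50319 9 (p3u475) p3r476

theorem p3r477 : allRange pointOk 22 50328 9 = true := by decide +kernel
theorem p3u477 : ∀ k, 46035 ≤ k → k < 50337 → pointOk (k * 22) = true := between_extend pointOk 22 46035 50328 9 (p3u476) p3r477

theorem p3r478 : allRange pointOk 22 50337 9 = true := by decide +kernel
theorem p3u478 : ∀ k, 46035 ≤ k → k < 50346 → pointOk (k * 22) = true := between_extend pointOk 22 46035 50337 9 (p3u477) p3r478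

theorem p3r479 : allRange pointOk 22 50346 9 = true := by decide +kernel
theorem p3u479 : ∀ k, 46035 ≤ k → k < 50355 → pointOk (k * 22) = true := between_extend pointOk 22 46035 50346 9 (p3u478) p3r479

theorem p3r480 : allRange pointOk 22 50355 9 = true := by decide +kernel
theorem p3u480 : ∀ k, 46035 ≤ k → k < 50364 → pointOk (k * 22) = true := between_extend pointOk 22 46035 50355 9 (p3u479) p3r480

theorem p3r481 : allRange pointOk 22 50364 9 = true := by decide +kernel
theorem p3u481 : ∀ k, 46035 ≤ k → k < 50373 → pointOk (k * 22) = true := between_extend pointOk 22 46035 50364 9 (p3u480) p3r481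

theorem p3r482 : allRange pointOk 22 50373 9 = true := by decide +kernel
theorem p3u482 : ∀ k, 46035 ≤ k → k < 50382 → pointOk (k * 22) = true := between_extend pointOk 22 46035 50373 9 (p3u481) p3r482

theorem p3r483 : allRange pointOk 22 50382 9 = true := by decide +kernel
theorem p3u483 : ∀ k, 46035 ≤ k → k < 50391 → pointOk (k * 22) = true := between_extend pointOk 22 46035 50382 9 (p3u482) p3r483

theorem p3r484 : allRange pointOk 22 50391 9 = true := by decide +kernel
theorem p3u484 : ∀ k, 46035 ≤ k → k < 50400 → pointOk (k * 22) = true := between_extend pointOk 22 46035 50391 9 (p3u483) p3r484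

theorem p3r485 : allRange pointOk 22 50400 9 = true := by decide +kernel
theorem p3u485 : ∀ k, 46035 ≤ k → k < 50409 → pointOk (k * 22) = true := between_extend pointOk 22 46035 50400 9 (p3u484) p3r485

theorem p3r486 : allRange pointOk 22 50409 9 = true := by decide +kernel
theorem p3u486 : ∀ k, 46035 ≤ k → k < 50418 → pointOk (k * 22) = true := between_extend pointOk 22 46035 50409 9 (p3u485) p3r486

theorem p3r487 : allRange pointOk 22 50418 9 = true := by decide +kernel
theorem p3u487 : ∀ k, 46035 ≤ k → k < 50427 → pointOk (k * 22) = true := between_extend pointOk 22 46035 50418 9 (p3u486) p3r487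

theorem p3r488 : allRange pointOk 22 50427 9 = true := by decide +kernel
theorem p3u488 : ∀ k, 46035 ≤ k → k < 50436 → pointOk (k * 22) = true := between_extend pointOk 22 46035 50427 9 (p3u487) p3r488

theorem p3r489 : allRange pointOk 22 50436 9 = true := by decide +kernel
theorem p3u489 : ∀ k, 46035 ≤ k → k < 50445 → pointOk (k * 22) = true := between_extend pointOk 22 46035 50436 9 (p3u488) p3r489

theorem p3r490 : allRange pointOk 22 50445 9 = true := by decide +kernel
theorem p3u490 : ∀ k, 46035 ≤ k → k < 50454 → pointOk (k * 22) = true := between_extend pointOk 22 46035 50445 9 (p3u489) p3r490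

theorem p3r491 : allRange pointOk 22 50454 9 = true := by decide +kernel
theorem p3u491 : ∀ k, 46035 ≤ k → k < 50463 → pointOk (k * 22) = true := between_extend pointOk 22 46035 50454 9 (p3u490) p3r491

theorem p3r492 : allRange pointOk 22 50463 9 = true := by decide +kernel
theorem p3u492 : ∀ k, 46035 ≤ k → k < 50472 → pointOk (k * 22) = true := between_extend pointOk 22 46035 50463 9 (p3u491) p3r492

theorem p3r493 : allRange pointOk 22 50472 9 = true := by decide +kernel
theorem p3u493 : ∀ k, 46035 ≤ k → k < 50481 → pointOk (k * 22) = true := between_extend pointOk 22 46035 50472 9 (p3u492) p3r493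

theorem p3r494 : allRange pointOk 22 50481 9 = true := by decide +kernel
theorem p3u494 : ∀ k, 46035 ≤ k → k < 50490 → pointOk (k * 22) = true := between_extend pointOk 22 46035 50481 9 (p3u493) p3r494

theorem p3r495 : allRange pointOk 22 50490 9 = true := by decide +kernel
theorem p3u495 : ∀ k, 46035 ≤ k → k < 50499 → pointOk (k * 22) = true := between_extend pointOk 22 46035 50490 9 (p3u494) p3r495

theorem p3r496 : allRange pointOk 22 50499 9 = true := by decide +kernel
theorem p3u496 : ∀ k, 46035 ≤ k → k < 50508 → pointOk (k * 22) = true := between_extend pointOk 22 46035 50499 9 (p3u495) p3r496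

theorem p3r497 : allRange pointOk 22 50508 9 = true := by decide +kernel
theorem p3u497 : ∀ k, 46035 ≤ k → k < 50517 → pointOk (k * 22) = true := between_extend pointOk 22 46035 50508 9 (p3u496) p3r497

theorem p3r498 : allRange pointOk 22 50517 9 = true := by decide +kernel
theorem p3u498 : ∀ k, 46035 ≤ k → k < 50526 → pointOk (k * 22) = true := between_extend pointOk 22 46035 50517 9 (p3u497) p3r498

theorem p3r499 : allRange pointOk 22 50526 9 = true := by decide +kernel
theorem p3u499 : ∀ k, 46035 ≤ k → k < 50535 → pointOk (k * 22) = true := between_extend pointOk 22 46035 50526 9 (p3u498) p3r499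

theorem p3r500 : allRange pointOk 22 50535 9 = true := by decide +kernel
theorem p3u500 : ∀ k, 46035 ≤ k → k < 50544 → pointOk (k * 22) = true := between_extend pointOk 22 46035 50535 9 (p3u499) p3r500

theorem p3r501 : allRange pointOk 22 50544 9 = true := by decide +kernel
theorem p3u501 : ∀ k, 46035 ≤ k → k < 50553 → pointOk (k * 22) = true := between_extend pointOk 22 46035 50544 9 (p3u500) p3r501

theorem p3r502 : allRange pointOk 22 50553 9 = true := by decide +kernel
theorem p3u502 : ∀ k, 46035 ≤ k → k < 50562 → pointOk (k * 22) = true := between_extend pointOk 22 46035 50553 9 (p3u501) p3r502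

theorem p3r503 : allRange pointOk 22 50562 9 = true := by decide +kernel
theorem p3u503 : ∀ k, 46035 ≤ k → k < 50571 → pointOk (k * 22) = true := between_extend pointOk 22 46035 50562 9 (p3u502) p3r503

theorem p3r504 : allRange pointOk 22 50571 9 = true := by decide +kernel
theorem p3u504 : ∀ k, 46035 ≤ k → k < 50580 → pointOk (k * 22) = true := between_extend pointOk 22 46035 50571 9 (p3u503) p3r504

theorem p3r505 : allRange pointOk 22 50580 9 = true := by decide +kernel
theorem p3u505 : ∀ k, 46035 ≤ k → k < 50589 → pointOk (k * 22) = true := between_extend pointOk 22 46035 50580 9 (p3u504) p3r505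

theorem p3r506 : allRange pointOk 22 50589 9 = true := by decide +kernel
theorem p3u506 : ∀ k, 46035 ≤ k → k < 50598 → pointOk (k * 22) = true := between_extend pointOk 22 46035 50589 9 (p3u505) p3r506

theorem p3r507 : allRange pointOk 22 50598 9 = true := by decide +kernel
theorem p3u507 : ∀ k, 46035 ≤ k → k < 50607 → pointOk (k * 22) = true := between_extend pointOk 22 46035 50598 9 (p3u506) p3r507

theorem p3r508 : allRange pointOk 22 50607 9 = true := by decide +kernel
theorem p3u508 : ∀ k, 46035 ≤ k → k < 50616 → pointOk (k * 22) = true := between_extend pointOk 22 46035 50607 9 (p3u507) p3r508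

theorem p3r509 : allRange pointOk 22 50616 9 = true := by decide +kernel
theorem p3u509 : ∀ k, 46035 ≤ k → k < 50625 → pointOk (k * 22) = true := between_extend pointOk 22 46035 50616 9 (p3u508) p3r509

theorem p3r510 : allRange pointOk 22 50625 9 = true := by decide +kernel
theorem p3u510 : ∀ k, 46035 ≤ k → k < 50634 → pointOk (k * 22) = true := between_extend pointOk 22 46035 50625 9 (p3u509) p3r510

theorem p3r511 : allRange pointOk 22 50634 9 = true := by decide +kernel
theorem p3u511 : ∀ k, 46035 ≤ k → k < 50643 → pointOk (k * 22) = true := between_extend pointOk 22 46035 50634 9 (p3u510) p3r511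

theorem p3r512 : allRange pointOk 22 50643 9 = true := by decide +kernel
theorem p3u512 : ∀ k, 46035 ≤ k → k < 50652 → pointOk (k * 22) = true := between_extend pointOk 22 46035 50643 9 (p3u511) p3r512

theorem p3r513 : allRange pointOk 22 50652 9 = true := by decide +kernel
theorem p3u513 : ∀ k, 46035 ≤ k → k < 50661 → pointOk (k * 22) = true := between_extend pointOk 22 46035 50652 9 (p3u512) p3r513

theorem p3r514 : allRange pointOk 22 50661 9 = true := by decide +kernel
theorem p3u514 : ∀ k, 46035 ≤ k → k < 50670 → pointOk (k * 22) = true := between_extend pointOk 22 46035 50661 9 (p3u513) p3r514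

theorem p3r515 : allRange pointOk 22 50670 9 = true := by decide +kernel
theorem p3u515 : ∀ k, 46035 ≤ k → k < 50679 → pointOk (k * 22) = true := between_extend pointOk 22 46035 50670 9 (p3u514) p3r515

theorem p3r516 : allRange pointOk 22 50679 9 = true := by decide +kernel
theorem p3u516 : ∀ k, 46035 ≤ k → k < 50688 → pointOk (k * 22) = true := between_extend pointOk 22 46035 50679 9 (p3u515) p3r516

theorem p3r517 : allRange pointOk 22 50688 9 = true := by decide +kernel
theorem p3u517 : ∀ k, 46035 ≤ k → k < 50697 → pointOk (k * 22) = true := between_extend pointOk 22 46035 50688 9 (p3u516) p3r517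

theorem p3r518 : allRange pointOk 22 50697 9 = true := by decide +kernel
theorem p3u518 : ∀ k, 46035 ≤ k → k < 50706 → pointOk (k * 22) = true := between_extend pointOk 22 46035 50697 9 (p3u517) p3r518

theorem p3r519 : allRange pointOk 22 50706 9 = true := by decide +kernel
theorem p3u519 : ∀ k, 46035 ≤ k → k < 50715 → pointOk (k * 22) = true := between_extend pointOk 22 46035 50706 9 (p3u518) p3r519

theorem p3r520 : allRange pointOk 22 50715 9 = true := by decide +kernel
theorem p3u520 : ∀ k, 46035 ≤ k → k < 50724 → pointOk (k * 22) = true := between_extend pointOk 22 46035 50715 9 (p3u519) p3r520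

theorem p3r521 : allRange pointOk 22 50724 9 = true := by decide +kernel
theorem p3u521 : ∀ k, 46035 ≤ k → k < 50733 → pointOk (k * 22) = true := between_extend pointOk 22 46035 50724 9 (p3u520) p3r521

theorem p3r522 : allRange pointOk 22 50733 9 = true := by decide +kernel
theorem p3u522 : ∀ k, 46035 ≤ k → k < 50742 → pointOk (k * 22) = true := between_extend pointOk 22 46035 50733 9 (p3u521) p3r522

theorem p3r523 : allRange pointOk 22 50742 9 = true := by decide +kernel
theorem p3u523 : ∀ k, 46035 ≤ k → k < 50751 → pointOk (k * 22) = true := between_extend pointOk 22 46035 50742 9 (p3u522) p3r523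

theorem p3r524 : allRange pointOk 22 50751 9 = true := by decide +kernel
theorem p3u524 : ∀ k, 46035 ≤ k → k < 50760 → pointOk (k * 22) = true := between_extend pointOk 22 46035 50751 9 (p3u523) p3r524

theorem p3r525 : allRange pointOk 22 50760 9 = true := by decide +kernel
theorem p3u525 : ∀ k, 46035 ≤ k → k < 50769 → pointOk (k * 22) = true := between_extend pointOk 22 46035 50760 9 (p3u524) p3r525

theorem p3r526 : allRange pointOk 22 50769 9 = true := by decide +kernel
theorem p3u526 : ∀ k, 46035 ≤ k → k < 50778 → pointOk (k * 22) = true := between_extend pointOk 22 46035 50769 9 (p3u525) p3r526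

theorem p3r527 : allRange pointOk 22 50778 9 = true := by decide +kernel
theorem p3u527 : ∀ k, 46035 ≤ k → k < 50787 → pointOk (k * 22) = true := between_extend pointOk 22 46035 50778 9 (p3u526) p3r527

theorem p3r528 : allRange pointOk 22 50787 9 = true := by decide +kernel
theorem p3u528 : ∀ k, 46035 ≤ k → k < 50796 → pointOk (k * 22) = true := between_extend pointOk 22 46035 50787 9 (p3u527) p3r528

theorem p3r529 : allRange pointOk 22 50796 9 = true := by decide +kernel
theorem p3u529 : ∀ k, 46035 ≤ k → k < 50805 → pointOk (k * 22) = true := between_extend pointOk 22 46035 50796 9 (p3u528) p3r529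

theorem p3r530 : allRange pointOk 22 50805 9 = true := by decide +kernel
theorem p3u530 : ∀ k, 46035 ≤ k → k < 50814 → pointOk (k * 22) = true := between_extend pointOk 22 46035 50805 9 (p3u529) p3r530

theorem p3r531 : allRange pointOk 22 50814 9 = true := by decide +kernel
theorem p3u531 : ∀ k, 46035 ≤ k → k < 50823 → pointOk (k * 22) = true := between_extend pointOk 22 46035 50814 9 (p3u530) p3r531

theorem p3r532 : allRange pointOk 22 50823 9 = true := by decide +kernel
theorem p3u532 : ∀ k, 46035 ≤ k → k < 50832 → pointOk (k * 22) = true := between_extend pointOk 22 46035 50823 9 (p3u531) p3r532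

theorem p3r533 : allRange pointOk 22 50832 9 = true := by decide +kernel
theorem p3u533 : ∀ k, 46035 ≤ k → k < 50841 → pointOk (k * 22) = true := between_extend pointOk 22 46035 50832 9 (p3u532) p3r533

theorem p3r534 : allRange pointOk 22 50841 9 = true := by decide +kernel
theorem p3u534 : ∀ k, 46035 ≤ k → k < 50850 → pointOk (k * 22) = true := between_extend pointOk 22 46035 50841 9 (p3u533) p3r534

theorem p3r535 : allRange pointOk 22 50850 9 = true := by decide +kernel
theorem p3u535 : ∀ k, 46035 ≤ k → k < 50859 → pointOk (k * 22) = true := between_extend pointOk 22 46035 50850 9 (p3u534) p3r535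

theorem p3r536 : allRange pointOk 22 50859 9 = true := by decide +kernel
theorem p3u536 : ∀ k, 46035 ≤ k → k < 50868 → pointOk (k * 22) = true := between_extend pointOk 22 46035 50859 9 (p3u535) p3r536

theorem p3r537 : allRange pointOk 22 50868 9 = true := by decide +kernel
theorem p3u537 : ∀ k, 46035 ≤ k → k < 50877 → pointOk (k * 22) = true := between_extend pointOk 22 46035 50868 9 (p3u536) p3r537

theorem p3r538 : allRange pointOk 22 50877 9 = true := by decide +kernel
theorem p3u538 : ∀ k, 46035 ≤ k → k < 50886 → pointOk (k * 22) = true := between_extend pointOk 22 46035 50877 9 (p3u537) p3r538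

theorem p3r539 : allRange pointOk 22 50886 9 = true := by decide +kernel
theorem p3u539 : ∀ k, 46035 ≤ k → k < 50895 → pointOk (k * 22) = true := between_extend pointOk 22 46035 50886 9 (p3u538) p3r539

theorem p3r540 : allRange pointOk 22 50895 9 = true := by decide +kernel
theorem p3u540 : ∀ k, 46035 ≤ k → k < 50904 → pointOk (k * 22) = true := between_extend pointOk 22 46035 50895 9 (p3u539) p3r540

theorem p3r541 : allRange pointOk 22 50904 9 = true := by decide +kernel
theorem p3u541 : ∀ k, 46035 ≤ k → k < 50913 → pointOk (k * 22) = true := between_extend pointOk 22 46035 50904 9 (p3u540) p3r541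

theorem p3r542 : allRange pointOk 22 50913 9 = true := by decide +kernel
theorem p3u542 : ∀ k, 46035 ≤ k → k < 50922 → pointOk (k * 22) = true := between_extend pointOk 22 46035 50913 9 (p3u541) p3r542

theorem p3r543 : allRange pointOk 22 50922 9 = true := by decide +kernel
theorem p3u543 : ∀ k, 46035 ≤ k → k < 50931 → pointOk (k * 22) = true := between_extend pointOk 22 46035 50922 9 (p3u542) p3r543

theorem p3r544 : allRange pointOk 22 50931 9 = true := by decide +kernel
theorem p3u544 : ∀ k, 46035 ≤ k → k < 50940 → pointOk (k * 22) = true := between_extend pointOk 22 46035 50931 9 (p3u543) p3r544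

theorem p3r545 : allRange pointOk 22 50940 9 = true := by decide +kernel
theorem p3u545 : ∀ k, 46035 ≤ k → k < 50949 → pointOk (k * 22) = true := between_extend pointOk 22 46035 50940 9 (p3u544) p3r545

theorem p3r546 : allRange pointOk 22 50949 9 = true := by decide +kernel
theorem p3u546 : ∀ k, 46035 ≤ k → k < 50958 → pointOk (k * 22) = true := between_extend pointOk 22 46035 50949 9 (p3u545) p3r546

theorem p3r547 : allRange pointOk 22 50958 9 = true := by decide +kernel
theorem p3u547 : ∀ k, 46035 ≤ k → k < 50967 → pointOk (k * 22) = true := between_extend pointOk 22 46035 50958 9 (p3u546) p3r547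

theorem p3r548 : allRange pointOk 22 50967 9 = true := by decide +kernel
theorem p3u548 : ∀ k, 46035 ≤ k → k < 50976 → pointOk (k * 22) = true := between_extend pointOk 22 46035 50967 9 (p3u547) p3r548

theorem p3r549 : allRange pointOk 22 50976 9 = true := by decide +kernel
theorem p3u549 : ∀ k, 46035 ≤ k → k < 50985 → pointOk (k * 22) = true := between_extend pointOk 22 46035 50976 9 (p3u548) p3r549

theorem p3r550 : allRange pointOk 22 50985 9 = true := by decide +kernel
theorem p3u550 : ∀ k, 46035 ≤ k → k < 50994 → pointOk (k * 22) = true := between_extend pointOk 22 46035 50985 9 (p3u549) p3r550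

theorem p3r551 : allRange pointOk 22 50994 9 = true := by decide +kernel
theorem p3u551 : ∀ k, 46035 ≤ k → k < 51003 → pointOk (k * 22) = true := between_extend pointOk 22 46035 50994 9 (p3u550) p3r551

theorem p3r552 : allRange pointOk 22 51003 9 = true := by decide +kernel
theorem p3u552 : ∀ k, 46035 ≤ k → k < 51012 → pointOk (k * 22) = true := between_extend pointOk 22 46035 51003 9 (p3u551) p3r552

theorem p3r553 : allRange pointOk 22 51012 9 = true := by decide +kernel
theorem p3u553 : ∀ k, 46035 ≤ k → k < 51021 → pointOk (k * 22) = true := between_extend pointOk 22 46035 51012 9 (p3u552) p3r553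

theorem p3r554 : allRange pointOk 22 51021 9 = true := by decide +kernel
theorem p3u554 : ∀ k, 46035 ≤ k → k < 51030 → pointOk (k * 22) = true := between_extend pointOk 22 46035 51021 9 (p3u553) p3r554

theorem p3r555 : allRange pointOk 22 51030 9 = true := by decide +kernel
theorem p3u555 : ∀ k, 46035 ≤ k → k < 51039 → pointOk (k * 22) = true := between_extend pointOk 22 46035 51030 9 (p3u554) p3r555

theorem p3r556 : allRange pointOk 22 51039 9 = true := by decide +kernel
theorem p3u556 : ∀ k, 46035 ≤ k → k < 51048 → pointOk (k * 22) = true := between_extend pointOk 22 46035 51039 9 (p3u555) p3r556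

theorem p3r557 : allRange pointOk 22 51048 9 = true := by decide +kernel
theorem p3u557 : ∀ k, 46035 ≤ k → k < 51057 → pointOk (k * 22) = true := between_extend pointOk 22 46035 51048 9 (p3u556) p3r557

theorem p3r558 : allRange pointOk 22 51057 9 = true := by decide +kernel
theorem p3u558 : ∀ k, 46035 ≤ k → k < 51066 → pointOk (k * 22) = true := between_extend pointOk 22 46035 51057 9 (p3u557) p3r558

theorem p3r559 : allRange pointOk 22 51066 9 = true := by decide +kernel
theorem p3u559 : ∀ k, 46035 ≤ k → k < 51075 → pointOk (k * 22) = true := between_extend pointOk 22 46035 51066 9 (p3u558) p3r559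

theorem p3r560 : allRange pointOk 22 51075 9 = true := by decide +kernel
theorem p3u560 : ∀ k, 46035 ≤ k → k < 51084 → pointOk (k * 22) = true := between_extend pointOk 22 46035 51075 9 (p3u559) p3r560

theorem p3r561 : allRange pointOk 22 51084 9 = true := by decide +kernel
theorem p3u561 : ∀ k, 46035 ≤ k → k < 51093 → pointOk (k * 22) = true := between_extend pointOk 22 46035 51084 9 (p3u560) p3r561

theorem p3r562 : allRange pointOk 22 51093 9 = true := by decide +kernel
theorem p3u562 : ∀ k, 46035 ≤ k → k < 51102 → pointOk (k * 22) = true := between_extend pointOk 22 46035 51093 9 (p3u561) p3r562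

theorem p3r563 : allRange pointOk 22 51102 9 = true := by decide +kernel
theorem p3u563 : ∀ k, 46035 ≤ k → k < 51111 → pointOk (k * 22) = true := between_extend pointOk 22 46035 51102 9 (p3u562) p3r563

theorem p3r564 : allRange pointOk 22 51111 9 = true := by decide +kernel
theorem p3u564 : ∀ k, 46035 ≤ k → k < 51120 → pointOk (k * 22) = true := between_extend pointOk 22 46035 51111 9 (p3u563) p3r564

theorem p3r565 : allRange pointOk 22 51120 9 = true := by decide +kernel
theorem p3u565 : ∀ k, 46035 ≤ k → k < 51129 → pointOk (k * 22) = true := between_extend pointOk 22 46035 51120 9 (p3u564) p3r565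

theorem p3r566 : allRange pointOk 22 51129 9 = true := by decide +kernel
theorem p3u566 : ∀ k, 46035 ≤ k → k < 51138 → pointOk (k * 22) = true := between_extend pointOk 22 46035 51129 9 (p3u565) p3r566

theorem p3r567 : allRange pointOk 22 51138 9 = true := by decide +kernel
theorem p3u567 : ∀ k, 46035 ≤ k → k < 51147 → pointOk (k * 22) = true := between_extend pointOk 22 46035 51138 9 (p3u566) p3r567

theorem p3r568 : allRange pointOk 22 51147 9 = true := by decide +kernel
theorem p3u568 : ∀ k, 46035 ≤ k → k < 51156 → pointOk (k * 22) = true := between_extend pointOk 22 46035 51147 9 (p3u567) p3r568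

theorem p3r569 : allRange pointOk 22 51156 9 = true := by decide +kernel
theorem p3u569 : ∀ k, 46035 ≤ k → k < 51165 → pointOk (k * 22) = true := between_extend pointOk 22 46035 51156 9 (p3u568) p3r569

theorem p3r570 : allRange pointOk 22 51165 9 = true := by decide +kernel
theorem p3u570 : ∀ k, 46035 ≤ k → k < 51174 → pointOk (k * 22) = true := between_extend pointOk 22 46035 51165 9 (p3u569) p3r570

theorem p3r571 : allRange pointOk 22 51174 9 = true := by decide +kernel
theorem p3u571 : ∀ k, 46035 ≤ k → k < 51183 → pointOk (k * 22) = true := between_extend pointOk 22 46035 51174 9 (p3u570) p3r571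

theorem p3r572 : allRange pointOk 22 51183 9 = true := by decide +kernel
theorem p3u572 : ∀ k, 46035 ≤ k → k < 51192 → pointOk (k * 22) = true := between_extend pointOk 22 46035 51183 9 (p3u571) p3r572

theorem p3r573 : allRange pointOk 22 51192 9 = true := by decide +kernel
theorem p3u573 : ∀ k, 46035 ≤ k → k < 51201 → pointOk (k * 22) = true := between_extend pointOk 22 46035 51192 9 (p3u572) p3r573

theorem p3r574 : allRange pointOk 22 51201 9 = true := by decide +kernel
theorem p3u574 : ∀ k, 46035 ≤ k → k < 51210 → pointOk (k * 22) = true := between_extend pointOk 22 46035 51201 9 (p3u573) p3r574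

theorem p3r575 : allRange pointOk 22 51210 9 = true := by decide +kernel
theorem p3u575 : ∀ k, 46035 ≤ k → k < 51219 → pointOk (k * 22) = true := between_extend pointOk 22 46035 51210 9 (p3u574) p3r575

theorem p3r576 : allRange pointOk 22 51219 9 = true := by decide +kernel
theorem p3u576 : ∀ k, 46035 ≤ k → k < 51228 → pointOk (k * 22) = true := between_extend pointOk 22 46035 51219 9 (p3u575) p3r576

theorem p3r577 : allRange pointOk 22 51228 9 = true := by decide +kernel
theorem p3u577 : ∀ k, 46035 ≤ k → k < 51237 → pointOk (k * 22) = true := between_extend pointOk 22 46035 51228 9 (p3u576) p3r577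

theorem p3r578 : allRange pointOk 22 51237 9 = true := by decide +kernel
theorem p3u578 : ∀ k, 46035 ≤ k → k < 51246 → pointOk (k * 22) = true := between_extend pointOk 22 46035 51237 9 (p3u577) p3r578

theorem p3r579 : allRange pointOk 22 51246 9 = true := by decide +kernel
theorem p3u579 : ∀ k, 46035 ≤ k → k < 51255 → pointOk (k * 22) = true := between_extend pointOk 22 46035 51246 9 (p3u578) p3r579

theorem p3r580 : allRange pointOk 22 51255 9 = true := by decide +kernel
theorem p3u580 : ∀ k, 46035 ≤ k → k < 51264 → pointOk (k * 22) = true := between_extend pointOk 22 46035 51255 9 (p3u579) p3r580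

theorem p3r581 : allRange pointOk 22 51264 9 = true := by decide +kernel
theorem p3u581 : ∀ k, 46035 ≤ k → k < 51273 → pointOk (k * 22) = true := between_extend pointOk 22 46035 51264 9 (p3u580) p3r581

theorem p3r582 : allRange pointOk 22 51273 9 = true := by decide +kernel
theorem p3u582 : ∀ k, 46035 ≤ k → k < 51282 → pointOk (k * 22) = true := between_extend pointOk 22 46035 51273 9 (p3u581) p3r582

theorem p3r583 : allRange pointOk 22 51282 9 = true := by decide +kernel
theorem p3u583 : ∀ k, 46035 ≤ k → k < 51291 → pointOk (k * 22) = true := between_extend pointOk 22 46035 51282 9 (p3u582) p3r583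

theorem p3r584 : allRange pointOk 22 51291 9 = true := by decide +kernel
theorem p3u584 : ∀ k, 46035 ≤ k → k < 51300 → pointOk (k * 22) = true := between_extend pointOk 22 46035 51291 9 (p3u583) p3r584

theorem p3r585 : allRange pointOk 22 51300 9 = true := by decide +kernel
theorem p3u585 : ∀ k, 46035 ≤ k → k < 51309 → pointOk (k * 22) = true := between_extend pointOk 22 46035 51300 9 (p3u584) p3r585

theorem p3r586 : allRange pointOk 22 51309 9 = true := by decide +kernel
theorem p3u586 : ∀ k, 46035 ≤ k → k < 51318 → pointOk (k * 22) = true := between_extend pointOk 22 46035 51309 9 (p3u585) p3r586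

theorem p3r587 : allRange pointOk 22 51318 9 = true := by decide +kernel
theorem p3u587 : ∀ k, 46035 ≤ k → k < 51327 → pointOk (k * 22) = true := between_extend pointOk 22 46035 51318 9 (p3u586) p3r587

theorem p3r588 : allRange pointOk 22 51327 9 = true := by decide +kernel
theorem p3u588 : ∀ k, 46035 ≤ k → k < 51336 → pointOk (k * 22) = true := between_extend pointOk 22 46035 51327 9 (p3u587) p3r588

theorem p3r589 : allRange pointOk 22 51336 9 = true := by decide +kernel
theorem p3u589 : ∀ k, 46035 ≤ k → k < 51345 → pointOk (k * 22) = true := between_extend pointOk 22 46035 51336 9 (p3u588) p3r589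

theorem p3r590 : allRange pointOk 22 51345 9 = true := by decide +kernel
theorem p3u590 : ∀ k, 46035 ≤ k → k < 51354 → pointOk (k * 22) = true := between_extend pointOk 22 46035 51345 9 (p3u589) p3r590

theorem p3r591 : allRange pointOk 22 51354 9 = true := by decide +kernel
theorem p3u591 : ∀ k, 46035 ≤ k → k < 51363 → pointOk (k * 22) = true := between_extend pointOk 22 46035 51354 9 (p3u590) p3r591

theorem p3r592 : allRange pointOk 22 51363 9 = true := by decide +kernel
theorem p3u592 : ∀ k, 46035 ≤ k → k < 51372 → pointOk (k * 22) = true := between_extend pointOk 22 46035 51363 9 (p3u591) p3r592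

theorem p3r593 : allRange pointOk 22 51372 9 = true := by decide +kernel
theorem p3u593 : ∀ k, 46035 ≤ k → k < 51381 → pointOk (k * 22) = true := between_extend pointOk 22 46035 51372 9 (p3u592) p3r593

theorem p3r594 : allRange pointOk 22 51381 9 = true := by decide +kernel
theorem p3u594 : ∀ k, 46035 ≤ k → k < 51390 → pointOk (k * 22) = true := between_extend pointOk 22 46035 51381 9 (p3u593) p3r594

theorem p3r595 : allRange pointOk 22 51390 9 = true := by decide +kernel
theorem p3u595 : ∀ k, 46035 ≤ k → k < 51399 → pointOk (k * 22) = true := between_extend pointOk 22 46035 51390 9 (p3u594) p3r595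

theorem p3r596 : allRange pointOk 22 51399 9 = true := by decide +kernel
theorem p3u596 : ∀ k, 46035 ≤ k → k < 51408 → pointOk (k * 22) = true := between_extend pointOk 22 46035 51399 9 (p3u595) p3r596

theorem p3r597 : allRange pointOk 22 51408 9 = true := by decide +kernel
theorem p3u597 : ∀ k, 46035 ≤ k → k < 51417 → pointOk (k * 22) = true := between_extend pointOk 22 46035 51408 9 (p3u596) p3r597

theorem p3r598 : allRange pointOk 22 51417 9 = true := by decide +kernel
theorem p3u598 : ∀ k, 46035 ≤ k → k < 51426 → pointOk (k * 22) = true := between_extend pointOk 22 46035 51417 9 (p3u597) p3r598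

theorem p3r599 : allRange pointOk 22 51426 9 = true := by decide +kernel
theorem p3u599 : ∀ k, 46035 ≤ k → k < 51435 → pointOk (k * 22) = true := between_extend pointOk 22 46035 51426 9 (p3u598) p3r599

theorem p3r600 : allRange pointOk 22 51435 9 = true := by decide +kernel
theorem p3u600 : ∀ k, 46035 ≤ k → k < 51444 → pointOk (k * 22) = true := between_extend pointOk 22 46035 51435 9 (p3u599) p3r600

theorem p3r601 : allRange pointOk 22 51444 9 = true := by decide +kernel
theorem p3u601 : ∀ k, 46035 ≤ k → k < 51453 → pointOk (k * 22) = true := between_extend pointOk 22 46035 51444 9 (p3u600) p3r601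

theorem p3r602 : allRange pointOk 22 51453 9 = true := by decide +kernel
theorem p3u602 : ∀ k, 46035 ≤ k → k < 51462 → pointOk (k * 22) = true := between_extend pointOk 22 46035 51453 9 (p3u601) p3r602

theorem p3r603 : allRange pointOk 22 51462 9 = true := by decide +kernel
theorem p3u603 : ∀ k, 46035 ≤ k → k < 51471 → pointOk (k * 22) = true := between_extend pointOk 22 46035 51462 9 (p3u602) p3r603

theorem p3r604 : allRange pointOk 22 51471 9 = true := by decide +kernel
theorem p3u604 : ∀ k, 46035 ≤ k → k < 51480 → pointOk (k * 22) = true := between_extend pointOk 22 46035 51471 9 (p3u603) p3r604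

theorem p3r605 : allRange pointOk 22 51480 9 = true := by decide +kernel
theorem p3u605 : ∀ k, 46035 ≤ k → k < 51489 → pointOk (k * 22) = true := between_extend pointOk 22 46035 51480 9 (p3u604) p3r605

theorem p3r606 : allRange pointOk 22 51489 9 = true := by decide +kernel
theorem p3u606 : ∀ k, 46035 ≤ k → k < 51498 → pointOk (k * 22) = true := between_extend pointOk 22 46035 51489 9 (p3u605) p3r606

theorem p3r607 : allRange pointOk 22 51498 9 = true := by decide +kernel
theorem p3u607 : ∀ k, 46035 ≤ k → k < 51507 → pointOk (k * 22) = true := between_extend pointOk 22 46035 51498 9 (p3u606) p3r607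

theorem p3r608 : allRange pointOk 22 51507 9 = true := by decide +kernel
theorem p3u608 : ∀ k, 46035 ≤ k → k < 51516 → pointOk (k * 22) = true := between_extend pointOk 22 46035 51507 9 (p3u607) p3r608

theorem p3r609 : allRange pointOk 22 51516 9 = true := by decide +kernel
theorem p3u609 : ∀ k, 46035 ≤ k → k < 51525 → pointOk (k * 22) = true := between_extend pointOk 22 46035 51516 9 (p3u608) p3r609

theorem p3r610 : allRange pointOk 22 51525 9 = true := by decide +kernel
theorem p3u610 : ∀ k, 46035 ≤ k → k < 51534 → pointOk (k * 22) = true := between_extend pointOk 22 46035 51525 9 (p3u609) p3r610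

theorem p3r611 : allRange pointOk 22 51534 9 = true := by decide +kernel
theorem p3u611 : ∀ k, 46035 ≤ k → k < 51543 → pointOk (k * 22) = true := between_extend pointOk 22 46035 51534 9 (p3u610) p3r611

theorem p3r612 : allRange pointOk 22 51543 9 = true := by decide +kernel
theorem p3u612 : ∀ k, 46035 ≤ k → k < 51552 → pointOk (k * 22) = true := between_extend pointOk 22 46035 51543 9 (p3u611) p3r612

theorem p3r613 : allRange pointOk 22 51552 9 = true := by decide +kernel
theorem p3u613 : ∀ k, 46035 ≤ k → k < 51561 → pointOk (k * 22) = true := between_extend pointOk 22 46035 51552 9 (p3u612) p3r613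

theorem p3r614 : allRange pointOk 22 51561 9 = true := by decide +kernel
theorem p3u614 : ∀ k, 46035 ≤ k → k < 51570 → pointOk (k * 22) = true := between_extend pointOk 22 46035 51561 9 (p3u613) p3r614

theorem p3r615 : allRange pointOk 22 51570 9 = true := by decide +kernel
theorem p3u615 : ∀ k, 46035 ≤ k → k < 51579 → pointOk (k * 22) = true := between_extend pointOk 22 46035 51570 9 (p3u614) p3r615

theorem p3r616 : allRange pointOk 22 51579 9 = true := by decide +kernel
theorem p3u616 : ∀ k, 46035 ≤ k → k < 51588 → pointOk (k * 22) = true := between_extend pointOk 22 46035 51579 9 (p3u615) p3r616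

theorem p3r617 : allRange pointOk 22 51588 9 = true := by decide +kernel
theorem p3u617 : ∀ k, 46035 ≤ k → k < 51597 → pointOk (k * 22) = true := between_extend pointOk 22 46035 51588 9 (p3u616) p3r617

theorem p3r618 : allRange pointOk 22 51597 9 = true := by decide +kernel
theorem p3u618 : ∀ k, 46035 ≤ k → k < 51606 → pointOk (k * 22) = true := between_extend pointOk 22 46035 51597 9 (p3u617) p3r618

theorem p3r619 : allRange pointOk 22 51606 9 = true := by decide +kernel
theorem p3u619 : ∀ k, 46035 ≤ k → k < 51615 → pointOk (k * 22) = true := between_extend pointOk 22 46035 51606 9 (p3u618) p3r619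

theorem p3r620 : allRange pointOk 22 51615 9 = true := by decide +kernel
theorem p3u620 : ∀ k, 46035 ≤ k → k < 51624 → pointOk (k * 22) = true := between_extend pointOk 22 46035 51615 9 (p3u619) p3r620

theorem p3r621 : allRange pointOk 22 51624 9 = true := by decide +kernel
theorem p3u621 : ∀ k, 46035 ≤ k → k < 51633 → pointOk (k * 22) = true := between_extend pointOk 22 46035 51624 9 (p3u620) p3r621

theorem p3r622 : allRange pointOk 22 51633 9 = true := by decide +kernel
theorem p3u622 : ∀ k, 46035 ≤ k → k < 51642 → pointOk (k * 22) = true := between_extend pointOk 22 46035 51633 9 (p3u621) p3r622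

theorem p3r623 : allRange pointOk 22 51642 9 = true := by decide +kernel
theorem p3u623 : ∀ k, 46035 ≤ k → k < 51651 → pointOk (k * 22) = true := between_extend pointOk 22 46035 51642 9 (p3u622) p3r623

theorem p3r624 : allRange pointOk 22 51651 9 = true := by decide +kernel
theorem p3u624 : ∀ k, 46035 ≤ k → k < 51660 → pointOk (k * 22) = true := between_extend pointOk 22 46035 51651 9 (p3u623) p3r624

theorem p3r625 : allRange pointOk 22 51660 9 = true := by decide +kernel
theorem p3u625 : ∀ k, 46035 ≤ k → k < 51669 → pointOk (k * 22) = true := between_extend pointOk 22 46035 51660 9 (p3u624) p3r625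

theorem p3r626 : allRange pointOk 22 51669 9 = true := by decide +kernel
theorem p3u626 : ∀ k, 46035 ≤ k → k < 51678 → pointOk (k * 22) = true := between_extend pointOk 22 46035 51669 9 (p3u625) p3r626

theorem p3r627 : allRange pointOk 22 51678 9 = true := by decide +kernel
theorem p3u627 : ∀ k, 46035 ≤ k → k < 51687 → pointOk (k * 22) = true := between_extend pointOk 22 46035 51678 9 (p3u626) p3r627

theorem p3r628 : allRange pointOk 22 51687 9 = true := by decide +kernel
theorem p3u628 : ∀ k, 46035 ≤ k → k < 51696 → pointOk (k * 22) = true := between_extend pointOk 22 46035 51687 9 (p3u627) p3r628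

theorem p3r629 : allRange pointOk 22 51696 9 = true := by decide +kernel
theorem p3u629 : ∀ k, 46035 ≤ k → k < 51705 → pointOk (k * 22) = true := between_extend pointOk 22 46035 51696 9 (p3u628) p3r629

theorem p3r630 : allRange pointOk 22 51705 9 = true := by decide +kernel
theorem p3u630 : ∀ k, 46035 ≤ k → k < 51714 → pointOk (k * 22) = true := between_extend pointOk 22 46035 51705 9 (p3u629) p3r630

theorem p3r631 : allRange pointOk 22 51714 9 = true := by decide +kernel
theorem p3u631 : ∀ k, 46035 ≤ k → k < 51723 → pointOk (k * 22) = true := between_extend pointOk 22 46035 51714 9 (p3u630) p3r631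

theorem p3r632 : allRange pointOk 22 51723 9 = true := by decide +kernel
theorem p3u632 : ∀ k, 46035 ≤ k → k < 51732 → pointOk (k * 22) = true := between_extend pointOk 22 46035 51723 9 (p3u631) p3r632

theorem p3r633 : allRange pointOk 22 51732 9 = true := by decide +kernel
theorem p3u633 : ∀ k, 46035 ≤ k → k < 51741 → pointOk (k * 22) = true := between_extend pointOk 22 46035 51732 9 (p3u632) p3r633

theorem p3r634 : allRange pointOk 22 51741 9 = true := by decide +kernel
theorem p3u634 : ∀ k, 46035 ≤ k → k < 51750 → pointOk (k * 22) = true := between_extend pointOk 22 46035 51741 9 (p3u633) p3r634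

theorem p3r635 : allRange pointOk 22 51750 9 = true := by decide +kernel
theorem p3u635 : ∀ k, 46035 ≤ k → k < 51759 → pointOk (k * 22) = true := between_extend pointOk 22 46035 51750 9 (p3u634) p3r635

theorem p3r636 : allRange pointOk 22 51759 9 = true := by decide +kernel
theorem p3u636 : ∀ k, 46035 ≤ k → k < 51768 → pointOk (k * 22) = true := between_extend pointOk 22 46035 51759 9 (p3u635) p3r636

theorem p3r637 : allRange pointOk 22 51768 9 = true := by decide +kernel
theorem p3u637 : ∀ k, 46035 ≤ k → k < 51777 → pointOk (k * 22) = true := between_extend pointOk 22 46035 51768 9 (p3u636) p3r637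

theorem p3r638 : allRange pointOk 22 51777 9 = true := by decide +kernel
theorem p3u638 : ∀ k, 46035 ≤ k → k < 51786 → pointOk (k * 22) = true := between_extend pointOk 22 46035 51777 9 (p3u637) p3r638

theorem p3r639 : allRange pointOk 22 51786 9 = true := by decide +kernel
theorem p3u639 : ∀ k, 46035 ≤ k → k < 51795 → pointOk (k * 22) = true := between_extend pointOk 22 46035 51786 9 (p3u638) p3r639

theorem p3r640 : allRange pointOk 22 51795 9 = true := by decide +kernel
theorem p3u640 : ∀ k, 46035 ≤ k → k < 51804 → pointOk (k * 22) = true := between_extend pointOk 22 46035 51795 9 (p3u639) p3r640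

theorem p3r641 : allRange pointOk 22 51804 9 = true := by decide +kernel
theorem p3u641 : ∀ k, 46035 ≤ k → k < 51813 → pointOk (k * 22) = true := between_extend pointOk 22 46035 51804 9 (p3u640) p3r641

theorem p3r642 : allRange pointOk 22 51813 9 = true := by decide +kernel
theorem p3u642 : ∀ k, 46035 ≤ k → k < 51822 → pointOk (k * 22) = true := between_extend pointOk 22 46035 51813 9 (p3u641) p3r642

theorem p3r643 : allRange pointOk 22 51822 9 = true := by decide +kernel
theorem p3u643 : ∀ k, 46035 ≤ k → k < 51831 → pointOk (k * 22) = true := between_extend pointOk 22 46035 51822 9 (p3u642) p3r643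

theorem p3r644 : allRange pointOk 22 51831 9 = true := by decide +kernel
theorem p3u644 : ∀ k, 46035 ≤ k → k < 51840 → pointOk (k * 22) = true := between_extend pointOk 22 46035 51831 9 (p3u643) p3r644

theorem p3r645 : allRange pointOk 22 51840 9 = true := by decide +kernel
theorem p3u645 : ∀ k, 46035 ≤ k → k < 51849 → pointOk (k * 22) = true := between_extend pointOk 22 46035 51840 9 (p3u644) p3r645

theorem p3r646 : allRange pointOk 22 51849 9 = true := by decide +kernel
theorem p3u646 : ∀ k, 46035 ≤ k → k < 51858 → pointOk (k * 22) = true := between_extend pointOk 22 46035 51849 9 (p3u645) p3r646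

theorem p3r647 : allRange pointOk 22 51858 9 = true := by decide +kernel
theorem p3u647 : ∀ k, 46035 ≤ k → k < 51867 → pointOk (k * 22) = true := between_extend pointOk 22 46035 51858 9 (p3u646) p3r647

theorem p3r648 : allRange pointOk 22 51867 9 = true := by decide +kernel
theorem p3u648 : ∀ k, 46035 ≤ k → k < 51876 → pointOk (k * 22) = true := between_extend pointOk 22 46035 51867 9 (p3u647) p3r648

theorem p3r649 : allRange pointOk 22 51876 9 = true := by decide +kernel
theorem p3u649 : ∀ k, 46035 ≤ k → k < 51885 → pointOk (k * 22) = true := between_extend pointOk 22 46035 51876 9 (p3u648) p3r649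

theorem p3r650 : allRange pointOk 22 51885 9 = true := by decide +kernel
theorem p3u650 : ∀ k, 46035 ≤ k → k < 51894 → pointOk (k * 22) = true := between_extend pointOk 22 46035 51885 9 (p3u649) p3r650

theorem p3r651 : allRange pointOk 22 51894 9 = true := by decide +kernel
theorem p3u651 : ∀ k, 46035 ≤ k → k < 51903 → pointOk (k * 22) = true := between_extend pointOk 22 46035 51894 9 (p3u650) p3r651

theorem p3r652 : allRange pointOk 22 51903 9 = true := by decide +kernel
theorem p3u652 : ∀ k, 46035 ≤ k → k < 51912 → pointOk (k * 22) = true := between_extend pointOk 22 46035 51903 9 (p3u651) p3r652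

theorem p3r653 : allRange pointOk 22 51912 9 = true := by decide +kernel
theorem p3u653 : ∀ k, 46035 ≤ k → k < 51921 → pointOk (k * 22) = true := between_extend pointOk 22 46035 51912 9 (p3u652) p3r653

theorem p3r654 : allRange pointOk 22 51921 9 = true := by decide +kernel
theorem p3u654 : ∀ k, 46035 ≤ k → k < 51930 → pointOk (k * 22) = true := between_extend pointOk 22 46035 51921 9 (p3u653) p3r654

theorem p3r655 : allRange pointOk 22 51930 9 = true := by decide +kernel
theorem p3u655 : ∀ k, 46035 ≤ k → k < 51939 → pointOk (k * 22) = true := between_extend pointOk 22 46035 51930 9 (p3u654) p3r655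

theorem p3r656 : allRange pointOk 22 51939 9 = true := by decide +kernel
theorem p3u656 : ∀ k, 46035 ≤ k → k < 51948 → pointOk (k * 22) = true := between_extend pointOk 22 46035 51939 9 (p3u655) p3r656

theorem p3r657 : allRange pointOk 22 51948 9 = true := by decide +kernel
theorem p3u657 : ∀ k, 46035 ≤ k → k < 51957 → pointOk (k * 22) = true := between_extend pointOk 22 46035 51948 9 (p3u656) p3r657

theorem p3r658 : allRange pointOk 22 51957 9 = true := by decide +kernel
theorem p3u658 : ∀ k, 46035 ≤ k → k < 51966 → pointOk (k * 22) = true := between_extend pointOk 22 46035 51957 9 (p3u657) p3r658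

theorem p3r659 : allRange pointOk 22 51966 9 = true := by decide +kernel
theorem p3u659 : ∀ k, 46035 ≤ k → k < 51975 → pointOk (k * 22) = true := between_extend pointOk 22 46035 51966 9 (p3u658) p3r659

theorem p3r660 : allRange pointOk 22 51975 9 = true := by decide +kernel
theorem p3u660 : ∀ k, 46035 ≤ k → k < 51984 → pointOk (k * 22) = true := between_extend pointOk 22 46035 51975 9 (p3u659) p3r660

theorem p3r661 : allRange pointOk 22 51984 9 = true := by decide +kernel
theorem p3u661 : ∀ k, 46035 ≤ k → k < 51993 → pointOk (k * 22) = true := between_extend pointOk 22 46035 51984 9 (p3u660) p3r661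

theorem p3r662 : allRange pointOk 22 51993 9 = true := by decide +kernel
theorem p3u662 : ∀ k, 46035 ≤ k → k < 52002 → pointOk (k * 22) = true := between_extend pointOk 22 46035 51993 9 (p3u661) p3r662

theorem p3r663 : allRange pointOk 22 52002 9 = true := by decide +kernel
theorem p3u663 : ∀ k, 46035 ≤ k → k < 52011 → pointOk (k * 22) = true := between_extend pointOk 22 46035 52002 9 (p3u662) p3r663

theorem p3r664 : allRange pointOk 22 52011 9 = true := by decide +kernel
theorem p3u664 : ∀ k, 46035 ≤ k → k < 52020 → pointOk (k * 22) = true := between_extend pointOk 22 46035 52011 9 (p3u663) p3r664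

theorem p3r665 : allRange pointOk 22 52020 9 = true := by decide +kernel
theorem p3u665 : ∀ k, 46035 ≤ k → k < 52029 → pointOk (k * 22) = true := between_extend pointOk 22 46035 52020 9 (p3u664) p3r665

theorem p3r666 : allRange pointOk 22 52029 9 = true := by decide +kernel
theorem p3u666 : ∀ k, 46035 ≤ k → k < 52038 → pointOk (k * 22) = true := between_extend pointOk 22 46035 52029 9 (p3u665) p3r666

theorem p3r667 : allRange pointOk 22 52038 9 = true := by decide +kernel
theorem p3u667 : ∀ k, 46035 ≤ k → k < 52047 → pointOk (k * 22) = true := between_extend pointOk 22 46035 52038 9 (p3u666) p3r667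

theorem p3r668 : allRange pointOk 22 52047 9 = true := by decide +kernel
theorem p3u668 : ∀ k, 46035 ≤ k → k < 52056 → pointOk (k * 22) = true := between_extend pointOk 22 46035 52047 9 (p3u667) p3r668

theorem p3r669 : allRange pointOk 22 52056 9 = true := by decide +kernel
theorem p3u669 : ∀ k, 46035 ≤ k → k < 52065 → pointOk (k * 22) = true := between_extend pointOk 22 46035 52056 9 (p3u668) p3r669

theorem p3r670 : allRange pointOk 22 52065 9 = true := by decide +kernel
theorem p3u670 : ∀ k, 46035 ≤ k → k < 52074 → pointOk (k * 22) = true := between_extend pointOk 22 46035 52065 9 (p3u669) p3r670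

theorem p3r671 : allRange pointOk 22 52074 9 = true := by decide +kernel
theorem p3u671 : ∀ k, 46035 ≤ k → k < 52083 → pointOk (k * 22) = true := between_extend pointOk 22 46035 52074 9 (p3u670) p3r671

theorem p3r672 : allRange pointOk 22 52083 9 = true := by decide +kernel
theorem p3u672 : ∀ k, 46035 ≤ k → k < 52092 → pointOk (k * 22) = true := between_extend pointOk 22 46035 52083 9 (p3u671) p3r672

theorem p3r673 : allRange pointOk 22 52092 9 = true := by decide +kernel
theorem p3u673 : ∀ k, 46035 ≤ k → k < 52101 → pointOk (k * 22) = true := between_extend pointOk 22 46035 52092 9 (p3u672) p3r673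

theorem p3r674 : allRange pointOk 22 52101 9 = true := by decide +kernel
theorem p3u674 : ∀ k, 46035 ≤ k → k < 52110 → pointOk (k * 22) = true := between_extend pointOk 22 46035 52101 9 (p3u673) p3r674

theorem p3r675 : allRange pointOk 22 52110 9 = true := by decide +kernel
theorem p3u675 : ∀ k, 46035 ≤ k → k < 52119 → pointOk (k * 22) = true := between_extend pointOk 22 46035 52110 9 (p3u674) p3r675

theorem p3r676 : allRange pointOk 22 52119 9 = true := by decide +kernel
theorem p3u676 : ∀ k, 46035 ≤ k → k < 52128 → pointOk (k * 22) = true := between_extend pointOk 22 46035 52119 9 (p3u675) p3r676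

theorem p3r677 : allRange pointOk 22 52128 9 = true := by decide +kernel
theorem p3u677 : ∀ k, 46035 ≤ k → k < 52137 → pointOk (k * 22) = true := between_extend pointOk 22 46035 52128 9 (p3u676) p3r677

theorem p3r678 : allRange pointOk 22 52137 9 = true := by decide +kernel
theorem p3u678 : ∀ k, 46035 ≤ k → k < 52146 → pointOk (k * 22) = true := between_extend pointOk 22 46035 52137 9 (p3u677) p3r678

theorem p3r679 : allRange pointOk 22 52146 9 = true := by decide +kernel
theorem p3u679 : ∀ k, 46035 ≤ k → k < 52155 → pointOk (k * 22) = true := between_extend pointOk 22 46035 52146 9 (p3u678) p3r679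

theorem p3r680 : allRange pointOk 22 52155 9 = true := by decide +kernel
theorem p3u680 : ∀ k, 46035 ≤ k → k < 52164 → pointOk (k * 22) = true := between_extend pointOk 22 46035 52155 9 (p3u679) p3r680

theorem p3r681 : allRange pointOk 22 52164 9 = true := by decide +kernel
theorem p3u681 : ∀ k, 46035 ≤ k → k < 52173 → pointOk (k * 22) = true := between_extend pointOk 22 46035 52164 9 (p3u680) p3r681

theorem p3r682 : allRange pointOk 22 52173 9 = true := by decide +kernel
theorem p3u682 : ∀ k, 46035 ≤ k → k < 52182 → pointOk (k * 22) = true := between_extend pointOk 22 46035 52173 9 (p3u681) p3r682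

theorem p3r683 : allRange pointOk 22 52182 9 = true := by decide +kernel
theorem p3u683 : ∀ k, 46035 ≤ k → k < 52191 → pointOk (k * 22) = true := between_extend pointOk 22 46035 52182 9 (p3u682) p3r683

theorem p3r684 : allRange pointOk 22 52191 9 = true := by decide +kernel
theorem p3u684 : ∀ k, 46035 ≤ k → k < 52200 → pointOk (k * 22) = true := between_extend pointOk 22 46035 52191 9 (p3u683) p3r684

theorem p3r685 : allRange pointOk 22 52200 9 = true := by decide +kernel
theorem p3u685 : ∀ k, 46035 ≤ k → k < 52209 → pointOk (k * 22) = true := between_extend pointOk 22 46035 52200 9 (p3u684) p3r685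

theorem p3r686 : allRange pointOk 22 52209 9 = true := by decide +kernel
theorem p3u686 : ∀ k, 46035 ≤ k → k < 52218 → pointOk (k * 22) = true := between_extend pointOk 22 46035 52209 9 (p3u685) p3r686

theorem p3r687 : allRange pointOk 22 52218 9 = true := by decide +kernel
theorem p3u687 : ∀ k, 46035 ≤ k → k < 52227 → pointOk (k * 22) = true := between_extend pointOk 22 46035 52218 9 (p3u686) p3r687

theorem p3r688 : allRange pointOk 22 52227 9 = true := by decide +kernel
theorem p3u688 : ∀ k, 46035 ≤ k → k < 52236 → pointOk (k * 22) = true := between_extend pointOk 22 46035 52227 9 (p3u687) p3r688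

theorem p3r689 : allRange pointOk 22 52236 9 = true := by decide +kernel
theorem p3u689 : ∀ k, 46035 ≤ k → k < 52245 → pointOk (k * 22) = true := between_extend pointOk 22 46035 52236 9 (p3u688) p3r689

theorem p3r690 : allRange pointOk 22 52245 9 = true := by decide +kernel
theorem p3u690 : ∀ k, 46035 ≤ k → k < 52254 → pointOk (k * 22) = true := between_extend pointOk 22 46035 52245 9 (p3u689) p3r690

theorem p3r691 : allRange pointOk 22 52254 9 = true := by decide +kernel
theorem p3u691 : ∀ k, 46035 ≤ k → k < 52263 → pointOk (k * 22) = true := between_extend pointOk 22 46035 52254 9 (p3u690) p3r691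

theorem p3r692 : allRange pointOk 22 52263 9 = true := by decide +kernel
theorem p3u692 : ∀ k, 46035 ≤ k → k < 52272 → pointOk (k * 22) = true := between_extend pointOk 22 46035 52263 9 (p3u691) p3r692

theorem p3r693 : allRange pointOk 22 52272 9 = true := by decide +kernel
theorem p3u693 : ∀ k, 46035 ≤ k → k < 52281 → pointOk (k * 22) = true := between_extend pointOk 22 46035 52272 9 (p3u692) p3r693

theorem p3r694 : allRange pointOk 22 52281 9 = true := by decide +kernel
theorem p3u694 : ∀ k, 46035 ≤ k → k < 52290 → pointOk (k * 22) = true := between_extend pointOk 22 46035 52281 9 (p3u693) p3r694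

theorem p3r695 : allRange pointOk 22 52290 9 = true := by decide +kernel
theorem p3u695 : ∀ k, 46035 ≤ k → k < 52299 → pointOk (k * 22) = true := between_extend pointOk 22 46035 52290 9 (p3u694) p3r695

theorem p3r696 : allRange pointOk 22 52299 9 = true := by decide +kernel
theorem p3u696 : ∀ k, 46035 ≤ k → k < 52308 → pointOk (k * 22) = true := between_extend pointOk 22 46035 52299 9 (p3u695) p3r696

theorem p3r697 : allRange pointOk 22 52308 9 = true := by decide +kernel
theorem p3u697 : ∀ k, 46035 ≤ k → k < 52317 → pointOk (k * 22) = true := between_extend pointOk 22 46035 52308 9 (p3u696) p3r697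

theorem p3r698 : allRange pointOk 22 52317 9 = true := by decide +kernel
theorem p3u698 : ∀ k, 46035 ≤ k → k < 52326 → pointOk (k * 22) = true := between_extend pointOk 22 46035 52317 9 (p3u697) p3r698

theorem p3r699 : allRange pointOk 22 52326 9 = true := by decide +kernel
theorem p3u699 : ∀ k, 46035 ≤ k → k < 52335 → pointOk (k * 22) = true := between_extend pointOk 22 46035 52326 9 (p3u698) p3r699

theorem p3r700 : allRange pointOk 22 52335 9 = true := by decide +kernel
theorem p3u700 : ∀ k, 46035 ≤ k → k < 52344 → pointOk (k * 22) = true := between_extend pointOk 22 46035 52335 9 (p3u699) p3r700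

theorem p3r701 : allRange pointOk 22 52344 9 = true := by decide +kernel
theorem p3u701 : ∀ k, 46035 ≤ k → k < 52353 → pointOk (k * 22) = true := between_extend pointOk 22 46035 52344 9 (p3u700) p3r701

theorem p3r702 : allRange pointOk 22 52353 9 = true := by decide +kernel
theorem p3u702 : ∀ k, 46035 ≤ k → k < 52362 → pointOk (k * 22) = true := between_extend pointOk 22 46035 52353 9 (p3u701) p3r702

theorem p3r703 : allRange pointOk 22 52362 9 = true := by decide +kernel
theorem p3u703 : ∀ k, 46035 ≤ k → k < 52371 → pointOk (k * 22) = true := between_extend pointOk 22 46035 52362 9 (p3u702) p3r703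

theorem p3r704 : allRange pointOk 22 52371 9 = true := by decide +kernel
theorem p3u704 : ∀ k, 46035 ≤ k → k < 52380 → pointOk (k * 22) = true := between_extend pointOk 22 46035 52371 9 (p3u703) p3r704

theorem p3r705 : allRange pointOk 22 52380 9 = true := by decide +kernel
theorem p3u705 : ∀ k, 46035 ≤ k → k < 52389 → pointOk (k * 22) = true := between_extend pointOk 22 46035 52380 9 (p3u704) p3r705

theorem p3r706 : allRange pointOk 22 52389 9 = true := by decide +kernel
theorem p3u706 : ∀ k, 46035 ≤ k → k < 52398 → pointOk (k * 22) = true := between_extend pointOk 22 46035 52389 9 (p3u705) p3r706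

theorem p3r707 : allRange pointOk 22 52398 9 = true := by decide +kernel
theorem p3u707 : ∀ k, 46035 ≤ k → k < 52407 → pointOk (k * 22) = true := between_extend pointOk 22 46035 52398 9 (p3u706) p3r707

theorem p3r708 : allRange pointOk 22 52407 9 = true := by decide +kernel
theorem p3u708 : ∀ k, 46035 ≤ k → k < 52416 → pointOk (k * 22) = true := between_extend pointOk 22 46035 52407 9 (p3u707) p3r708

theorem p3r709 : allRange pointOk 22 52416 9 = true := by decide +kernel
theorem p3u709 : ∀ k, 46035 ≤ k → k < 52425 → pointOk (k * 22) = true := between_extend pointOk 22 46035 52416 9 (p3u708) p3r709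

theorem p3r710 : allRange pointOk 22 52425 9 = true := by decide +kernel
theorem p3u710 : ∀ k, 46035 ≤ k → k < 52434 → pointOk (k * 22) = true := between_extend pointOk 22 46035 52425 9 (p3u709) p3r710

theorem p3r711 : allRange pointOk 22 52434 9 = true := by decide +kernel
theorem p3u711 : ∀ k, 46035 ≤ k → k < 52443 → pointOk (k * 22) = true := between_extend pointOk 22 46035 52434 9 (p3u710) p3r711

theorem p3r712 : allRange pointOk 22 52443 9 = true := by decide +kernel
theorem p3u712 : ∀ k, 46035 ≤ k → k < 52452 → pointOk (k * 22) = true := between_extend pointOk 22 46035 52443 9 (p3u711) p3r712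

theorem p3r713 : allRange pointOk 22 52452 9 = true := by decide +kernel
theorem p3u713 : ∀ k, 46035 ≤ k → k < 52461 → pointOk (k * 22) = true := between_extend pointOk 22 46035 52452 9 (p3u712) p3r713

theorem p3r714 : allRange pointOk 22 52461 9 = true := by decide +kernel
theorem p3u714 : ∀ k, 46035 ≤ k → k < 52470 → pointOk (k * 22) = true := between_extend pointOk 22 46035 52461 9 (p3u713) p3r714

theorem p3r715 : allRange pointOk 22 52470 9 = true := by decide +kernel
theorem p3u715 : ∀ k, 46035 ≤ k → k < 52479 → pointOk (k * 22) = true := between_extend pointOk 22 46035 52470 9 (p3u714) p3r715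

theorem p3r716 : allRange pointOk 22 52479 9 = true := by decide +kernel
theorem p3u716 : ∀ k, 46035 ≤ k → k < 52488 → pointOk (k * 22) = true := between_extend pointOk 22 46035 52479 9 (p3u715) p3r716

theorem p3r717 : allRange pointOk 22 52488 9 = true := by decide +kernel
theorem p3u717 : ∀ k, 46035 ≤ k → k < 52497 → pointOk (k * 22) = true := between_extend pointOk 22 46035 52488 9 (p3u716) p3r717

theorem p3r718 : allRange pointOk 22 52497 9 = true := by decide +kernel
theorem p3u718 : ∀ k, 46035 ≤ k → k < 52506 → pointOk (k * 22) = true := between_extend pointOk 22 46035 52497 9 (p3u717) p3r718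

theorem p3r719 : allRange pointOk 22 52506 9 = true := by decide +kernel
theorem p3u719 : ∀ k, 46035 ≤ k → k < 52515 → pointOk (k * 22) = true := between_extend pointOk 22 46035 52506 9 (p3u718) p3r719

theorem p3r720 : allRange pointOk 22 52515 9 = true := by decide +kernel
theorem p3u720 : ∀ k, 46035 ≤ k → k < 52524 → pointOk (k * 22) = true := between_extend pointOk 22 46035 52515 9 (p3u719) p3r720

theorem p3r721 : allRange pointOk 22 52524 9 = true := by decide +kernel
theorem p3u721 : ∀ k, 46035 ≤ k → k < 52533 → pointOk (k * 22) = true := between_extend pointOk 22 46035 52524 9 (p3u720) p3r721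

theorem p3r722 : allRange pointOk 22 52533 9 = true := by decide +kernel
theorem p3u722 : ∀ k, 46035 ≤ k → k < 52542 → pointOk (k * 22) = true := between_extend pointOk 22 46035 52533 9 (p3u721) p3r722

theorem p3r723 : allRange pointOk 22 52542 9 = true := by decide +kernel
theorem p3u723 : ∀ k, 46035 ≤ k → k < 52551 → pointOk (k * 22) = true := between_extend pointOk 22 46035 52542 9 (p3u722) p3r723

theorem p3r724 : allRange pointOk 22 52551 9 = true := by decide +kernel
theorem p3u724 : ∀ k, 46035 ≤ k → k < 52560 → pointOk (k * 22) = true := between_extend pointOk 22 46035 52551 9 (p3u723) p3r724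

theorem p3r725 : allRange pointOk 22 52560 9 = true := by decide +kernel
theorem p3u725 : ∀ k, 46035 ≤ k → k < 52569 → pointOk (k * 22) = true := between_extend pointOk 22 46035 52560 9 (p3u724) p3r725

theorem p3r726 : allRange pointOk 22 52569 9 = true := by decide +kernel
theorem p3u726 : ∀ k, 46035 ≤ k → k < 52578 → pointOk (k * 22) = true := between_extend pointOk 22 46035 52569 9 (p3u725) p3r726

theorem p3r727 : allRange pointOk 22 52578 9 = true := by decide +kernel
theorem p3u727 : ∀ k, 46035 ≤ k → k < 52587 → pointOk (k * 22) = true := between_extend pointOk 22 46035 52578 9 (p3u726) p3r727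

theorem p3r728 : allRange pointOk 22 52587 9 = true := by decide +kernel
theorem p3u728 : ∀ k, 46035 ≤ k → k < 52596 → pointOk (k * 22) = true := between_extend pointOk 22 46035 52587 9 (p3u727) p3r728

theorem p3r729 : allRange pointOk 22 52596 9 = true := by decide +kernel
theorem p3u729 : ∀ k, 46035 ≤ k → k < 52605 → pointOk (k * 22) = true := between_extend pointOk 22 46035 52596 9 (p3u728) p3r729

theorem p3r730 : allRange pointOk 22 52605 9 = true := by decide +kernel
theorem p3u730 : ∀ k, 46035 ≤ k → k < 52614 → pointOk (k * 22) = true := between_extend pointOk 22 46035 52605 9 (p3u729) p3r730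

theorem p3r731 : allRange pointOk 22 52614 9 = true := by decide +kernel
theorem p3u731 : ∀ k, 46035 ≤ k → k < 52623 → pointOk (k * 22) = true := between_extend pointOk 22 46035 52614 9 (p3u730) p3r731

theorem p3r732 : allRange pointOk 22 52623 9 = true := by decide +kernel
theorem p3u732 : ∀ k, 46035 ≤ k → k < 52632 → pointOk (k * 22) = true := between_extend pointOk 22 46035 52623 9 (p3u731) p3r732

theorem p3r733 : allRange pointOk 22 52632 9 = true := by decide +kernel
theorem p3u733 : ∀ k, 46035 ≤ k → k < 52641 → pointOk (k * 22) = true := between_extend pointOk 22 46035 52632 9 (p3u732) p3r733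

theorem p3r734 : allRange pointOk 22 52641 9 = true := by decide +kernel
theorem p3u734 : ∀ k, 46035 ≤ k → k < 52650 → pointOk (k * 22) = true := between_extend pointOk 22 46035 52641 9 (p3u733) p3r734

theorem p3r735 : allRange pointOk 22 52650 9 = true := by decide +kernel
theorem p3u735 : ∀ k, 46035 ≤ k → k < 52659 → pointOk (k * 22) = true := between_extend pointOk 22 46035 52650 9 (p3u734) p3r735

theorem p3r736 : allRange pointOk 22 52659 9 = true := by decide +kernel
theorem p3u736 : ∀ k, 46035 ≤ k → k < 52668 → pointOk (k * 22) = true := between_extend pointOk 22 46035 52659 9 (p3u735) p3r736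

theorem p3r737 : allRange pointOk 22 52668 9 = true := by decide +kernel
theorem p3u737 : ∀ k, 46035 ≤ k → k < 52677 → pointOk (k * 22) = true := between_extend pointOk 22 46035 52668 9 (p3u736) p3r737

theorem p3r738 : allRange pointOk 22 52677 9 = true := by decide +kernel
theorem p3u738 : ∀ k, 46035 ≤ k → k < 52686 → pointOk (k * 22) = true := between_extend pointOk 22 46035 52677 9 (p3u737) p3r738

theorem p3r739 : allRange pointOk 22 52686 9 = true := by decide +kernel
theorem p3u739 : ∀ k, 46035 ≤ k → k < 52695 → pointOk (k * 22) = true := between_extend pointOk 22 46035 52686 9 (p3u738) p3r739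

theorem p3r740 : allRange pointOk 22 52695 9 = true := by decide +kernel
theorem p3u740 : ∀ k, 46035 ≤ k → k < 52704 → pointOk (k * 22) = true := between_extend pointOk 22 46035 52695 9 (p3u739) p3r740

theorem p3r741 : allRange pointOk 22 52704 9 = true := by decide +kernel
theorem p3u741 : ∀ k, 46035 ≤ k → k < 52713 → pointOk (k * 22) = true := between_extend pointOk 22 46035 52704 9 (p3u740) p3r741

theorem p3r742 : allRange pointOk 22 52713 9 = true := by decide +kernel
theorem p3u742 : ∀ k, 46035 ≤ k → k < 52722 → pointOk (k * 22) = true := between_extend pointOk 22 46035 52713 9 (p3u741) p3r742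

theorem p3r743 : allRange pointOk 22 52722 9 = true := by decide +kernel
theorem p3u743 : ∀ k, 46035 ≤ k → k < 52731 → pointOk (k * 22) = true := between_extend pointOk 22 46035 52722 9 (p3u742) p3r743

theorem p3r744 : allRange pointOk 22 52731 9 = true := by decide +kernel
theorem p3u744 : ∀ k, 46035 ≤ k → k < 52740 → pointOk (k * 22) = true := between_extend pointOk 22 46035 52731 9 (p3u743) p3r744

theorem p3r745 : allRange pointOk 22 52740 9 = true := by decide +kernel
theorem p3u745 : ∀ k, 46035 ≤ k → k < 52749 → pointOk (k * 22) = true := between_extend pointOk 22 46035 52740 9 (p3u744) p3r745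

theorem p3r746 : allRange pointOk 22 52749 9 = true := by decide +kernel
theorem p3u746 : ∀ k, 46035 ≤ k → k < 52758 → pointOk (k * 22) = true := between_extend pointOk 22 46035 52749 9 (p3u745) p3r746

theorem p3r747 : allRange pointOk 22 52758 9 = true := by decide +kernel
theorem p3u747 : ∀ k, 46035 ≤ k → k < 52767 → pointOk (k * 22) = true := between_extend pointOk 22 46035 52758 9 (p3u746) p3r747

theorem p3r748 : allRange pointOk 22 52767 9 = true := by decide +kernel
theorem p3u748 : ∀ k, 46035 ≤ k → k < 52776 → pointOk (k * 22) = true := between_extend pointOk 22 46035 52767 9 (p3u747) p3r748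

theorem p3r749 : allRange pointOk 22 52776 9 = true := by decide +kernel
theorem p3u749 : ∀ k, 46035 ≤ k → k < 52785 → pointOk (k * 22) = true := between_extend pointOk 22 46035 52776 9 (p3u748) p3r749

theorem p3r750 : allRange pointOk 22 52785 9 = true := by decide +kernel
theorem p3u750 : ∀ k, 46035 ≤ k → k < 52794 → pointOk (k * 22) = true := between_extend pointOk 22 46035 52785 9 (p3u749) p3r750

theorem p3r751 : allRange pointOk 22 52794 9 = true := by decide +kernel
theorem p3u751 : ∀ k, 46035 ≤ k → k < 52803 → pointOk (k * 22) = true := between_extend pointOk 22 46035 52794 9 (p3u750) p3r751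

theorem p3r752 : allRange pointOk 22 52803 9 = true := by decide +kernel
theorem p3u752 : ∀ k, 46035 ≤ k → k < 52812 → pointOk (k * 22) = true := between_extend pointOk 22 46035 52803 9 (p3u751) p3r752

theorem p3r753 : allRange pointOk 22 52812 9 = true := by decide +kernel
theorem p3u753 : ∀ k, 46035 ≤ k → k < 52821 → pointOk (k * 22) = true := between_extend pointOk 22 46035 52812 9 (p3u752) p3r753

theorem p3r754 : allRange pointOk 22 52821 9 = true := by decide +kernel
theorem p3u754 : ∀ k, 46035 ≤ k → k < 52830 → pointOk (k * 22) = true := between_extend pointOk 22 46035 52821 9 (p3u753) p3r754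

theorem p3r755 : allRange pointOk 22 52830 9 = true := by decide +kernel
theorem p3u755 : ∀ k, 46035 ≤ k → k < 52839 → pointOk (k * 22) = true := between_extend pointOk 22 46035 52830 9 (p3u754) p3r755

theorem p3r756 : allRange pointOk 22 52839 9 = true := by decide +kernel
theorem p3u756 : ∀ k, 46035 ≤ k → k < 52848 → pointOk (k * 22) = true := between_extend pointOk 22 46035 52839 9 (p3u755) p3r756

theorem p3r757 : allRange pointOk 22 52848 9 = true := by decide +kernel
theorem p3u757 : ∀ k, 46035 ≤ k → k < 52857 → pointOk (k * 22) = true := between_extend pointOk 22 46035 52848 9 (p3u756) p3r757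

theorem p3r758 : allRange pointOk 22 52857 9 = true := by decide +kernel
theorem p3u758 : ∀ k, 46035 ≤ k → k < 52866 → pointOk (k * 22) = true := between_extend pointOk 22 46035 52857 9 (p3u757) p3r758

theorem p3r759 : allRange pointOk 22 52866 9 = true := by decide +kernel
theorem p3u759 : ∀ k, 46035 ≤ k → k < 52875 → pointOk (k * 22) = true := between_extend pointOk 22 46035 52866 9 (p3u758) p3r759

theorem p3r760 : allRange pointOk 22 52875 9 = true := by decide +kernel
theorem p3u760 : ∀ k, 46035 ≤ k → k < 52884 → pointOk (k * 22) = true := between_extend pointOk 22 46035 52875 9 (p3u759) p3r760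

theorem p3r761 : allRange pointOk 22 52884 9 = true := by decide +kernel
theorem p3u761 : ∀ k, 46035 ≤ k → k < 52893 → pointOk (k * 22) = true := between_extend pointOk 22 46035 52884 9 (p3u760) p3r761

theorem p3r762 : allRange pointOk 22 52893 9 = true := by decide +kernel
theorem p3u762 : ∀ k, 46035 ≤ k → k < 52902 → pointOk (k * 22) = true := between_extend pointOk 22 46035 52893 9 (p3u761) p3r762

theorem p3r763 : allRange pointOk 22 52902 9 = true := by decide +kernel
theorem p3u763 : ∀ k, 46035 ≤ k → k < 52911 → pointOk (k * 22) = true := between_extend pointOk 22 46035 52902 9 (p3u762) p3r763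

theorem p3r764 : allRange pointOk 22 52911 9 = true := by decide +kernel
theorem p3u764 : ∀ k, 46035 ≤ k → k < 52920 → pointOk (k * 22) = true := between_extend pointOk 22 46035 52911 9 (p3u763) p3r764

theorem p3r765 : allRange pointOk 22 52920 9 = true := by decide +kernel
theorem p3u765 : ∀ k, 46035 ≤ k → k < 52929 → pointOk (k * 22) = true := between_extend pointOk 22 46035 52920 9 (p3u764) p3r765

theorem p3r766 : allRange pointOk 22 52929 9 = true := by decide +kernel
theorem p3u766 : ∀ k, 46035 ≤ k → k < 52938 → pointOk (k * 22) = true := between_extend pointOk 22 46035 52929 9 (p3u765) p3r766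

theorem p3r767 : allRange pointOk 22 52938 9 = true := by decide +kernel
theorem p3u767 : ∀ k, 46035 ≤ k → k < 52947 → pointOk (k * 22) = true := between_extend pointOk 22 46035 52938 9 (p3u766) p3r767

theorem p3r768 : allRange pointOk 22 52947 9 = true := by decide +kernel
theorem p3u768 : ∀ k, 46035 ≤ k → k < 52956 → pointOk (k * 22) = true := between_extend pointOk 22 46035 52947 9 (p3u767) p3r768

theorem p3r769 : allRange pointOk 22 52956 9 = true := by decide +kernel
theorem p3u769 : ∀ k, 46035 ≤ k → k < 52965 → pointOk (k * 22) = true := between_extend pointOk 22 46035 52956 9 (p3u768) p3r769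

theorem p3r770 : allRange pointOk 22 52965 9 = true := by decide +kernel
theorem p3u770 : ∀ k, 46035 ≤ k → k < 52974 → pointOk (k * 22) = true := between_extend pointOk 22 46035 52965 9 (p3u769) p3r770

theorem p3r771 : allRange pointOk 22 52974 9 = true := by decide +kernel
theorem p3u771 : ∀ k, 46035 ≤ k → k < 52983 → pointOk (k * 22) = true := between_extend pointOk 22 46035 52974 9 (p3u770) p3r771

theorem p3r772 : allRange pointOk 22 52983 9 = true := by decide +kernel
theorem p3u772 : ∀ k, 46035 ≤ k → k < 52992 → pointOk (k * 22) = true := between_extend pointOk 22 46035 52983 9 (p3u771) p3r772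

theorem p3r773 : allRange pointOk 22 52992 9 = true := by decide +kernel
theorem p3u773 : ∀ k, 46035 ≤ k → k < 53001 → pointOk (k * 22) = true := between_extend pointOk 22 46035 52992 9 (p3u772) p3r773

theorem p3r774 : allRange pointOk 22 53001 9 = true := by decide +kernel
theorem p3u774 : ∀ k, 46035 ≤ k → k < 53010 → pointOk (k * 22) = true := between_extend pointOk 22 46035 53001 9 (p3u773) p3r774

theorem p3r775 : allRange pointOk 22 53010 9 = true := by decide +kernel
theorem p3u775 : ∀ k, 46035 ≤ k → k < 53019 → pointOk (k * 22) = true := between_extend pointOk 22 46035 53010 9 (p3u774) p3r775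

theorem p3r776 : allRange pointOk 22 53019 9 = true := by decide +kernel
theorem p3u776 : ∀ k, 46035 ≤ k → k < 53028 → pointOk (k * 22) = true := between_extend pointOk 22 46035 53019 9 (p3u775) p3r776

theorem p3r777 : allRange pointOk 22 53028 9 = true := by decide +kernel
theorem p3u777 : ∀ k, 46035 ≤ k → k < 53037 → pointOk (k * 22) = true := between_extend pointOk 22 46035 53028 9 (p3u776) p3r777

theorem p3r778 : allRange pointOk 22 53037 9 = true := by decide +kernel
theorem p3u778 : ∀ k, 46035 ≤ k → k < 53046 → pointOk (k * 22) = true := between_extend pointOk 22 46035 53037 9 (p3u777) p3r778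

theorem p3r779 : allRange pointOk 22 53046 9 = true := by decide +kernel
theorem p3u779 : ∀ k, 46035 ≤ k → k < 53055 → pointOk (k * 22) = true := between_extend pointOk 22 46035 53046 9 (p3u778) p3r779

theorem p3r780 : allRange pointOk 22 53055 9 = true := by decide +kernel
theorem p3u780 : ∀ k, 46035 ≤ k → k < 53064 → pointOk (k * 22) = true := between_extend pointOk 22 46035 53055 9 (p3u779) p3r780

theorem p3r781 : allRange pointOk 22 53064 9 = true := by decide +kernel
theorem p3u781 : ∀ k, 46035 ≤ k → k < 53073 → pointOk (k * 22) = true := between_extend pointOk 22 46035 53064 9 (p3u780) p3r781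

theorem p3r782 : allRange pointOk 22 53073 9 = true := by decide +kernel
theorem p3u782 : ∀ k, 46035 ≤ k → k < 53082 → pointOk (k * 22) = true := between_extend pointOk 22 46035 53073 9 (p3u781) p3r782

theorem p3r783 : allRange pointOk 22 53082 9 = true := by decide +kernel
theorem p3u783 : ∀ k, 46035 ≤ k → k < 53091 → pointOk (k * 22) = true := between_extend pointOk 22 46035 53082 9 (p3u782) p3r783

theorem p3r784 : allRange pointOk 22 53091 9 = true := by decide +kernel
theorem p3u784 : ∀ k, 46035 ≤ k → k < 53100 → pointOk (k * 22) = true := between_extend pointOk 22 46035 53091 9 (p3u783) p3r784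

theorem p3r785 : allRange pointOk 22 53100 9 = true := by decide +kernel
theorem p3u785 : ∀ k, 46035 ≤ k → k < 53109 → pointOk (k * 22) = true := between_extend pointOk 22 46035 53100 9 (p3u784) p3r785

theorem p3r786 : allRange pointOk 22 53109 9 = true := by decide +kernel
theorem p3u786 : ∀ k, 46035 ≤ k → k < 53118 → pointOk (k * 22) = true := between_extend pointOk 22 46035 53109 9 (p3u785) p3r786

theorem p3r787 : allRange pointOk 22 53118 9 = true := by decide +kernel
theorem p3u787 : ∀ k, 46035 ≤ k → k < 53127 → pointOk (k * 22) = true := between_extend pointOk 22 46035 53118 9 (p3u786) p3r787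

theorem p3r788 : allRange pointOk 22 53127 9 = true := by decide +kernel
theorem p3u788 : ∀ k, 46035 ≤ k → k < 53136 → pointOk (k * 22) = true := between_extend pointOk 22 46035 53127 9 (p3u787) p3r788

theorem p3r789 : allRange pointOk 22 53136 9 = true := by decide +kernel
theorem p3u789 : ∀ k, 46035 ≤ k → k < 53145 → pointOk (k * 22) = true := between_extend pointOk 22 46035 53136 9 (p3u788) p3r789

theorem p3r790 : allRange pointOk 22 53145 9 = true := by decide +kernel
theorem p3u790 : ∀ k, 46035 ≤ k → k < 53154 → pointOk (k * 22) = true := between_extend pointOk 22 46035 53145 9 (p3u789) p3r790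

theorem p3r791 : allRange pointOk 22 53154 9 = true := by decide +kernel
theorem p3u791 : ∀ k, 46035 ≤ k → k < 53163 → pointOk (k * 22) = true := between_extend pointOk 22 46035 53154 9 (p3u790) p3r791

theorem p3r792 : allRange pointOk 22 53163 9 = true := by decide +kernel
theorem p3u792 : ∀ k, 46035 ≤ k → k < 53172 → pointOk (k * 22) = true := between_extend pointOk 22 46035 53163 9 (p3u791) p3r792

theorem p3r793 : allRange pointOk 22 53172 9 = true := by decide +kernel
theorem p3u793 : ∀ k, 46035 ≤ k → k < 53181 → pointOk (k * 22) = true := between_extend pointOk 22 46035 53172 9 (p3u792) p3r793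

theorem p3r794 : allRange pointOk 22 53181 9 = true := by decide +kernel
theorem p3u794 : ∀ k, 46035 ≤ k → k < 53190 → pointOk (k * 22) = true := between_extend pointOk 22 46035 53181 9 (p3u793) p3r794

theorem p3r795 : allRange pointOk 22 53190 9 = true := by decide +kernel
theorem p3u795 : ∀ k, 46035 ≤ k → k < 53199 → pointOk (k * 22) = true := between_extend pointOk 22 46035 53190 9 (p3u794) p3r795

theorem p3r796 : allRange pointOk 22 53199 9 = true := by decide +kernel
theorem p3u796 : ∀ k, 46035 ≤ k → k < 53208 → pointOk (k * 22) = true := between_extend pointOk 22 46035 53199 9 (p3u795) p3r796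

theorem p3r797 : allRange pointOk 22 53208 9 = true := by decide +kernel
theorem p3u797 : ∀ k, 46035 ≤ k → k < 53217 → pointOk (k * 22) = true := between_extend pointOk 22 46035 53208 9 (p3u796) p3r797

theorem p3r798 : allRange pointOk 22 53217 9 = true := by decide +kernel
theorem p3u798 : ∀ k, 46035 ≤ k → k < 53226 → pointOk (k * 22) = true := between_extend pointOk 22 46035 53217 9 (p3u797) p3r798

theorem p3r799 : allRange pointOk 22 53226 9 = true := by decide +kernel
theorem p3u799 : ∀ k, 46035 ≤ k → k < 53235 → pointOk (k * 22) = true := between_extend pointOk 22 46035 53226 9 (p3u798) p3r799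

theorem p3r800 : allRange pointOk 22 53235 9 = true := by decide +kernel
theorem p3u800 : ∀ k, 46035 ≤ k → k < 53244 → pointOk (k * 22) = true := between_extend pointOk 22 46035 53235 9 (p3u799) p3r800

theorem p3r801 : allRange pointOk 22 53244 9 = true := by decide +kernel
theorem p3u801 : ∀ k, 46035 ≤ k → k < 53253 → pointOk (k * 22) = true := between_extend pointOk 22 46035 53244 9 (p3u800) p3r801

theorem p3r802 : allRange pointOk 22 53253 9 = true := by decide +kernel
theorem p3u802 : ∀ k, 46035 ≤ k → k < 53262 → pointOk (k * 22) = true := between_extend pointOk 22 46035 53253 9 (p3u801) p3r802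

theorem p3r803 : allRange pointOk 22 53262 9 = true := by decide +kernel
theorem p3u803 : ∀ k, 46035 ≤ k → k < 53271 → pointOk (k * 22) = true := between_extend pointOk 22 46035 53262 9 (p3u802) p3r803

theorem p3r804 : allRange pointOk 22 53271 9 = true := by decide +kernel
theorem p3u804 : ∀ k, 46035 ≤ k → k < 53280 → pointOk (k * 22) = true := between_extend pointOk 22 46035 53271 9 (p3u803) p3r804

theorem p3r805 : allRange pointOk 22 53280 9 = true := by decide +kernel
theorem p3u805 : ∀ k, 46035 ≤ k → k < 53289 → pointOk (k * 22) = true := between_extend pointOk 22 46035 53280 9 (p3u804) p3r805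

theorem p3r806 : allRange pointOk 22 53289 9 = true := by decide +kernel
theorem p3u806 : ∀ k, 46035 ≤ k → k < 53298 → pointOk (k * 22) = true := between_extend pointOk 22 46035 53289 9 (p3u805) p3r806

theorem p3r807 : allRange pointOk 22 53298 9 = true := by decide +kernel
theorem p3u807 : ∀ k, 46035 ≤ k → k < 53307 → pointOk (k * 22) = true := between_extend pointOk 22 46035 53298 9 (p3u806) p3r807

theorem p3r808 : allRange pointOk 22 53307 9 = true := by decide +kernel
theorem p3u808 : ∀ k, 46035 ≤ k → k < 53316 → pointOk (k * 22) = true := between_extend pointOk 22 46035 53307 9 (p3u807) p3r808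

theorem p3r809 : allRange pointOk 22 53316 9 = true := by decide +kernel
theorem p3u809 : ∀ k, 46035 ≤ k → k < 53325 → pointOk (k * 22) = true := between_extend pointOk 22 46035 53316 9 (p3u808) p3r809

theorem p3r810 : allRange pointOk 22 53325 9 = true := by decide +kernel
theorem p3u810 : ∀ k, 46035 ≤ k → k < 53334 → pointOk (k * 22) = true := between_extend pointOk 22 46035 53325 9 (p3u809) p3r810

theorem p3r811 : allRange pointOk 22 53334 9 = true := by decide +kernel
theorem p3u811 : ∀ k, 46035 ≤ k → k < 53343 → pointOk (k * 22) = true := between_extend pointOk 22 46035 53334 9 (p3u810) p3r811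

theorem p3r812 : allRange pointOk 22 53343 9 = true := by decide +kernel
theorem p3u812 : ∀ k, 46035 ≤ k → k < 53352 → pointOk (k * 22) = true := between_extend pointOk 22 46035 53343 9 (p3u811) p3r812

theorem p3r813 : allRange pointOk 22 53352 9 = true := by decide +kernel
theorem p3u813 : ∀ k, 46035 ≤ k → k < 53361 → pointOk (k * 22) = true := between_extend pointOk 22 46035 53352 9 (p3u812) p3r813

theorem p3r814 : allRange pointOk 22 53361 9 = true := by decide +kernel
theorem p3u814 : ∀ k, 46035 ≤ k → k < 53370 → pointOk (k * 22) = true := between_extend pointOk 22 46035 53361 9 (p3u813) p3r814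

theorem p3r815 : allRange pointOk 22 53370 9 = true := by decide +kernel
theorem p3u815 : ∀ k, 46035 ≤ k → k < 53379 → pointOk (k * 22) = true := between_extend pointOk 22 46035 53370 9 (p3u814) p3r815

theorem p3r816 : allRange pointOk 22 53379 9 = true := by decide +kernel
theorem p3u816 : ∀ k, 46035 ≤ k → k < 53388 → pointOk (k * 22) = true := between_extend pointOk 22 46035 53379 9 (p3u815) p3r816

theorem p3r817 : allRange pointOk 22 53388 9 = true := by decide +kernel
theorem p3u817 : ∀ k, 46035 ≤ k → k < 53397 → pointOk (k * 22) = true := between_extend pointOk 22 46035 53388 9 (p3u816) p3r817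

theorem p3r818 : allRange pointOk 22 53397 9 = true := by decide +kernel
theorem p3u818 : ∀ k, 46035 ≤ k → k < 53406 → pointOk (k * 22) = true := between_extend pointOk 22 46035 53397 9 (p3u817) p3r818

theorem p3r819 : allRange pointOk 22 53406 9 = true := by decide +kernel
theorem p3u819 : ∀ k, 46035 ≤ k → k < 53415 → pointOk (k * 22) = true := between_extend pointOk 22 46035 53406 9 (p3u818) p3r819

theorem p3r820 : allRange pointOk 22 53415 9 = true := by decide +kernel
theorem p3u820 : ∀ k, 46035 ≤ k → k < 53424 → pointOk (k * 22) = true := between_extend pointOk 22 46035 53415 9 (p3u819) p3r820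

theorem p3r821 : allRange pointOk 22 53424 9 = true := by decide +kernel
theorem p3u821 : ∀ k, 46035 ≤ k → k < 53433 → pointOk (k * 22) = true := between_extend pointOk 22 46035 53424 9 (p3u820) p3r821

theorem p3r822 : allRange pointOk 22 53433 9 = true := by decide +kernel
theorem p3u822 : ∀ k, 46035 ≤ k → k < 53442 → pointOk (k * 22) = true := between_extend pointOk 22 46035 53433 9 (p3u821) p3r822

theorem p3r823 : allRange pointOk 22 53442 9 = true := by decide +kernel
theorem p3u823 : ∀ k, 46035 ≤ k → k < 53451 → pointOk (k * 22) = true := between_extend pointOk 22 46035 53442 9 (p3u822) p3r823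

theorem p3r824 : allRange pointOk 22 53451 9 = true := by decide +kernel
theorem p3u824 : ∀ k, 46035 ≤ k → k < 53460 → pointOk (k * 22) = true := between_extend pointOk 22 46035 53451 9 (p3u823) p3r824

theorem p3r825 : allRange pointOk 22 53460 9 = true := by decide +kernel
theorem p3u825 : ∀ k, 46035 ≤ k → k < 53469 → pointOk (k * 22) = true := between_extend pointOk 22 46035 53460 9 (p3u824) p3r825

theorem p3r826 : allRange pointOk 22 53469 9 = true := by decide +kernel
theorem p3u826 : ∀ k, 46035 ≤ k → k < 53478 → pointOk (k * 22) = true := between_extend pointOk 22 46035 53469 9 (p3u825) p3r826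

theorem p3r827 : allRange pointOk 22 53478 9 = true := by decide +kernel
theorem p3u827 : ∀ k, 46035 ≤ k → k < 53487 → pointOk (k * 22) = true := between_extend pointOk 22 46035 53478 9 (p3u826) p3r827

theorem p3r828 : allRange pointOk 22 53487 9 = true := by decide +kernel
theorem p3u828 : ∀ k, 46035 ≤ k → k < 53496 → pointOk (k * 22) = true := between_extend pointOk 22 46035 53487 9 (p3u827) p3r828

theorem p3r829 : allRange pointOk 22 53496 9 = true := by decide +kernel
theorem p3u829 : ∀ k, 46035 ≤ k → k < 53505 → pointOk (k * 22) = true := between_extend pointOk 22 46035 53496 9 (p3u828) p3r829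

theorem p3r830 : allRange pointOk 22 53505 9 = true := by decide +kernel
theorem p3u830 : ∀ k, 46035 ≤ k → k < 53514 → pointOk (k * 22) = true := between_extend pointOk 22 46035 53505 9 (p3u829) p3r830

theorem p3r831 : allRange pointOk 22 53514 9 = true := by decide +kernel
theorem p3u831 : ∀ k, 46035 ≤ k → k < 53523 → pointOk (k * 22) = true := between_extend pointOk 22 46035 53514 9 (p3u830) p3r831

theorem p3r832 : allRange pointOk 22 53523 9 = true := by decide +kernel
theorem p3u832 : ∀ k, 46035 ≤ k → k < 53532 → pointOk (k * 22) = true := between_extend pointOk 22 46035 53523 9 (p3u831) p3r832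

theorem p3r833 : allRange pointOk 22 53532 9 = true := by decide +kernel
theorem p3u833 : ∀ k, 46035 ≤ k → k < 53541 → pointOk (k * 22) = true := between_extend pointOk 22 46035 53532 9 (p3u832) p3r833

theorem p3r834 : allRange pointOk 22 53541 9 = true := by decide +kernel
theorem p3u834 : ∀ k, 46035 ≤ k → k < 53550 → pointOk (k * 22) = true := between_extend pointOk 22 46035 53541 9 (p3u833) p3r834

theorem p3r835 : allRange pointOk 22 53550 9 = true := by decide +kernel
theorem p3u835 : ∀ k, 46035 ≤ k → k < 53559 → pointOk (k * 22) = true := between_extend pointOk 22 46035 53550 9 (p3u834) p3r835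

theorem p3r836 : allRange pointOk 22 53559 9 = true := by decide +kernel
theorem p3u836 : ∀ k, 46035 ≤ k → k < 53568 → pointOk (k * 22) = true := between_extend pointOk 22 46035 53559 9 (p3u835) p3r836

theorem p3r837 : allRange pointOk 22 53568 9 = true := by decide +kernel
theorem p3u837 : ∀ k, 46035 ≤ k → k < 53577 → pointOk (k * 22) = true := between_extend pointOk 22 46035 53568 9 (p3u836) p3r837

theorem p3r838 : allRange pointOk 22 53577 9 = true := by decide +kernel
theorem p3u838 : ∀ k, 46035 ≤ k → k < 53586 → pointOk (k * 22) = true := between_extend pointOk 22 46035 53577 9 (p3u837) p3r838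

theorem p3r839 : allRange pointOk 22 53586 9 = true := by decide +kernel
theorem p3u839 : ∀ k, 46035 ≤ k → k < 53595 → pointOk (k * 22) = true := between_extend pointOk 22 46035 53586 9 (p3u838) p3r839

theorem p3r840 : allRange pointOk 22 53595 9 = true := by decide +kernel
theorem p3u840 : ∀ k, 46035 ≤ k → k < 53604 → pointOk (k * 22) = true := between_extend pointOk 22 46035 53595 9 (p3u839) p3r840

theorem p3r841 : allRange pointOk 22 53604 9 = true := by decide +kernel
theorem p3u841 : ∀ k, 46035 ≤ k → k < 53613 → pointOk (k * 22) = true := between_extend pointOk 22 46035 53604 9 (p3u840) p3r841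

theorem p3r842 : allRange pointOk 22 53613 9 = true := by decide +kernel
theorem p3u842 : ∀ k, 46035 ≤ k → k < 53622 → pointOk (k * 22) = true := between_extend pointOk 22 46035 53613 9 (p3u841) p3r842

theorem p3r843 : allRange pointOk 22 53622 9 = true := by decide +kernel
theorem p3u843 : ∀ k, 46035 ≤ k → k < 53631 → pointOk (k * 22) = true := between_extend pointOk 22 46035 53622 9 (p3u842) p3r843

theorem p3r844 : allRange pointOk 22 53631 9 = true := by decide +kernel
theorem p3u844 : ∀ k, 46035 ≤ k → k < 53640 → pointOk (k * 22) = true := between_extend pointOk 22 46035 53631 9 (p3u843) p3r844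

theorem p3r845 : allRange pointOk 22 53640 9 = true := by decide +kernel
theorem p3u845 : ∀ k, 46035 ≤ k → k < 53649 → pointOk (k * 22) = true := between_extend pointOk 22 46035 53640 9 (p3u844) p3r845

theorem p3r846 : allRange pointOk 22 53649 9 = true := by decide +kernel
theorem p3u846 : ∀ k, 46035 ≤ k → k < 53658 → pointOk (k * 22) = true := between_extend pointOk 22 46035 53649 9 (p3u845) p3r846

theorem p3r847 : allRange pointOk 22 53658 9 = true := by decide +kernel
theorem p3u847 : ∀ k, 46035 ≤ k → k < 53667 → pointOk (k * 22) = true := between_extend pointOk 22 46035 53658 9 (p3u846) p3r847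

theorem p3r848 : allRange pointOk 22 53667 9 = true := by decide +kernel
theorem p3u848 : ∀ k, 46035 ≤ k → k < 53676 → pointOk (k * 22) = true := between_extend pointOk 22 46035 53667 9 (p3u847) p3r848

theorem p3r849 : allRange pointOk 22 53676 9 = true := by decide +kernel
theorem p3u849 : ∀ k, 46035 ≤ k → k < 53685 → pointOk (k * 22) = true := between_extend pointOk 22 46035 53676 9 (p3u848) p3r849

theorem p3r850 : allRange pointOk 22 53685 9 = true := by decide +kernel
theorem p3u850 : ∀ k, 46035 ≤ k → k < 53694 → pointOk (k * 22) = true := between_extend pointOk 22 46035 53685 9 (p3u849) p3r850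

theorem p3r851 : allRange pointOk 22 53694 9 = true := by decide +kernel
theorem p3u851 : ∀ k, 46035 ≤ k → k < 53703 → pointOk (k * 22) = true := between_extend pointOk 22 46035 53694 9 (p3u850) p3r851

theorem p3r852 : allRange pointOk 22 53703 9 = true := by decide +kernel
theorem p3u852 : ∀ k, 46035 ≤ k → k < 53712 → pointOk (k * 22) = true := between_extend pointOk 22 46035 53703 9 (p3u851) p3r852

theorem p3r853 : allRange pointOk 22 53712 9 = true := by decide +kernel
theorem p3u853 : ∀ k, 46035 ≤ k → k < 53721 → pointOk (k * 22) = true := between_extend pointOk 22 46035 53712 9 (p3u852) p3r853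

theorem p3r854 : allRange pointOk 22 53721 9 = true := by decide +kernel
theorem p3u854 : ∀ k, 46035 ≤ k → k < 53730 → pointOk (k * 22) = true := between_extend pointOk 22 46035 53721 9 (p3u853) p3r854

theorem p3r855 : allRange pointOk 22 53730 9 = true := by decide +kernel
theorem p3u855 : ∀ k, 46035 ≤ k → k < 53739 → pointOk (k * 22) = true := between_extend pointOk 22 46035 53730 9 (p3u854) p3r855

theorem p3r856 : allRange pointOk 22 53739 9 = true := by decide +kernel
theorem p3u856 : ∀ k, 46035 ≤ k → k < 53748 → pointOk (k * 22) = true := between_extend pointOk 22 46035 53739 9 (p3u855) p3r856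

theorem p3r857 : allRange pointOk 22 53748 9 = true := by decide +kernel
theorem p3u857 : ∀ k, 46035 ≤ k → k < 53757 → pointOk (k * 22) = true := between_extend pointOk 22 46035 53748 9 (p3u856) p3r857

theorem p3r858 : allRange pointOk 22 53757 9 = true := by decide +kernel
theorem p3u858 : ∀ k, 46035 ≤ k → k < 53766 → pointOk (k * 22) = true := between_extend pointOk 22 46035 53757 9 (p3u857) p3r858

theorem p3r859 : allRange pointOk 22 53766 9 = true := by decide +kernel
theorem p3u859 : ∀ k, 46035 ≤ k → k < 53775 → pointOk (k * 22) = true := between_extend pointOk 22 46035 53766 9 (p3u858) p3r859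

theorem p3r860 : allRange pointOk 22 53775 9 = true := by decide +kernel
theorem p3u860 : ∀ k, 46035 ≤ k → k < 53784 → pointOk (k * 22) = true := between_extend pointOk 22 46035 53775 9 (p3u859) p3r860

theorem p3r861 : allRange pointOk 22 53784 9 = true := by decide +kernel
theorem p3u861 : ∀ k, 46035 ≤ k → k < 53793 → pointOk (k * 22) = true := between_extend pointOk 22 46035 53784 9 (p3u860) p3r861

theorem p3r862 : allRange pointOk 22 53793 9 = true := by decide +kernel
theorem p3u862 : ∀ k, 46035 ≤ k → k < 53802 → pointOk (k * 22) = true := between_extend pointOk 22 46035 53793 9 (p3u861) p3r862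

theorem p3r863 : allRange pointOk 22 53802 9 = true := by decide +kernel
theorem p3u863 : ∀ k, 46035 ≤ k → k < 53811 → pointOk (k * 22) = true := between_extend pointOk 22 46035 53802 9 (p3u862) p3r863

theorem p3r864 : allRange pointOk 22 53811 9 = true := by decide +kernel
theorem p3u864 : ∀ k, 46035 ≤ k → k < 53820 → pointOk (k * 22) = true := between_extend pointOk 22 46035 53811 9 (p3u863) p3r864

theorem p3r865 : allRange pointOk 22 53820 9 = true := by decide +kernel
theorem p3u865 : ∀ k, 46035 ≤ k → k < 53829 → pointOk (k * 22) = true := between_extend pointOk 22 46035 53820 9 (p3u864) p3r865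

theorem p3r866 : allRange pointOk 22 53829 9 = true := by decide +kernel
theorem p3u866 : ∀ k, 46035 ≤ k → k < 53838 → pointOk (k * 22) = true := between_extend pointOk 22 46035 53829 9 (p3u865) p3r866

theorem p3r867 : allRange pointOk 22 53838 9 = true := by decide +kernel
theorem p3u867 : ∀ k, 46035 ≤ k → k < 53847 → pointOk (k * 22) = true := between_extend pointOk 22 46035 53838 9 (p3u866) p3r867

theorem p3r868 : allRange pointOk 22 53847 9 = true := by decide +kernel
theorem p3u868 : ∀ k, 46035 ≤ k → k < 53856 → pointOk (k * 22) = true := between_extend pointOk 22 46035 53847 9 (p3u867) p3r868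

theorem p3r869 : allRange pointOk 22 53856 9 = true := by decide +kernel
theorem p3u869 : ∀ k, 46035 ≤ k → k < 53865 → pointOk (k * 22) = true := between_extend pointOk 22 46035 53856 9 (p3u868) p3r869

theorem p3r870 : allRange pointOk 22 53865 9 = true := by decide +kernel
theorem p3u870 : ∀ k, 46035 ≤ k → k < 53874 → pointOk (k * 22) = true := between_extend pointOk 22 46035 53865 9 (p3u869) p3r870

theorem p3r871 : allRange pointOk 22 53874 9 = true := by decide +kernel
theorem p3u871 : ∀ k, 46035 ≤ k → k < 53883 → pointOk (k * 22) = true := between_extend pointOk 22 46035 53874 9 (p3u870) p3r871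

theorem p3r872 : allRange pointOk 22 53883 9 = true := by decide +kernel
theorem p3u872 : ∀ k, 46035 ≤ k → k < 53892 → pointOk (k * 22) = true := between_extend pointOk 22 46035 53883 9 (p3u871) p3r872

theorem p3r873 : allRange pointOk 22 53892 9 = true := by decide +kernel
theorem p3u873 : ∀ k, 46035 ≤ k → k < 53901 → pointOk (k * 22) = true := between_extend pointOk 22 46035 53892 9 (p3u872) p3r873

theorem p3r874 : allRange pointOk 22 53901 9 = true := by decide +kernel
theorem p3u874 : ∀ k, 46035 ≤ k → k < 53910 → pointOk (k * 22) = true := between_extend pointOk 22 46035 53901 9 (p3u873) p3r874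

theorem p3r875 : allRange pointOk 22 53910 9 = true := by decide +kernel
theorem p3u875 : ∀ k, 46035 ≤ k → k < 53919 → pointOk (k * 22) = true := between_extend pointOk 22 46035 53910 9 (p3u874) p3r875

theorem p3r876 : allRange pointOk 22 53919 9 = true := by decide +kernel
theorem p3u876 : ∀ k, 46035 ≤ k → k < 53928 → pointOk (k * 22) = true := between_extend pointOk 22 46035 53919 9 (p3u875) p3r876

theorem p3r877 : allRange pointOk 22 53928 9 = true := by decide +kernel
theorem p3u877 : ∀ k, 46035 ≤ k → k < 53937 → pointOk (k * 22) = true := between_extend pointOk 22 46035 53928 9 (p3u876) p3r877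

theorem p3r878 : allRange pointOk 22 53937 9 = true := by decide +kernel
theorem p3u878 : ∀ k, 46035 ≤ k → k < 53946 → pointOk (k * 22) = true := between_extend pointOk 22 46035 53937 9 (p3u877) p3r878

theorem p3r879 : allRange pointOk 22 53946 9 = true := by decide +kernel
theorem p3u879 : ∀ k, 46035 ≤ k → k < 53955 → pointOk (k * 22) = true := between_extend pointOk 22 46035 53946 9 (p3u878) p3r879

theorem p3r880 : allRange pointOk 22 53955 9 = true := by decide +kernel
theorem p3u880 : ∀ k, 46035 ≤ k → k < 53964 → pointOk (k * 22) = true := between_extend pointOk 22 46035 53955 9 (p3u879) p3r880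

theorem p3r881 : allRange pointOk 22 53964 9 = true := by decide +kernel
theorem p3u881 : ∀ k, 46035 ≤ k → k < 53973 → pointOk (k * 22) = true := between_extend pointOk 22 46035 53964 9 (p3u880) p3r881

theorem p3r882 : allRange pointOk 22 53973 9 = true := by decide +kernel
theorem p3u882 : ∀ k, 46035 ≤ k → k < 53982 → pointOk (k * 22) = true := between_extend pointOk 22 46035 53973 9 (p3u881) p3r882

theorem p3r883 : allRange pointOk 22 53982 9 = true := by decide +kernel
theorem p3u883 : ∀ k, 46035 ≤ k → k < 53991 → pointOk (k * 22) = true := between_extend pointOk 22 46035 53982 9 (p3u882) p3r883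

theorem p3r884 : allRange pointOk 22 53991 9 = true := by decide +kernel
theorem p3u884 : ∀ k, 46035 ≤ k → k < 54000 → pointOk (k * 22) = true := between_extend pointOk 22 46035 53991 9 (p3u883) p3r884

theorem p3r885 : allRange pointOk 22 54000 9 = true := by decide +kernel
theorem p3u885 : ∀ k, 46035 ≤ k → k < 54009 → pointOk (k * 22) = true := between_extend pointOk 22 46035 54000 9 (p3u884) p3r885

theorem p3r886 : allRange pointOk 22 54009 9 = true := by decide +kernel
theorem p3u886 : ∀ k, 46035 ≤ k → k < 54018 → pointOk (k * 22) = true := between_extend pointOk 22 46035 54009 9 (p3u885) p3r886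

theorem p3r887 : allRange pointOk 22 54018 9 = true := by decide +kernel
theorem p3u887 : ∀ k, 46035 ≤ k → k < 54027 → pointOk (k * 22) = true := between_extend pointOk 22 46035 54018 9 (p3u886) p3r887

theorem p3r888 : allRange pointOk 22 54027 9 = true := by decide +kernel
theorem p3u888 : ∀ k, 46035 ≤ k → k < 54036 → pointOk (k * 22) = true := between_extend pointOk 22 46035 54027 9 (p3u887) p3r888

theorem p3r889 : allRange pointOk 22 54036 9 = true := by decide +kernel
theorem p3u889 : ∀ k, 46035 ≤ k → k < 54045 → pointOk (k * 22) = true := between_extend pointOk 22 46035 54036 9 (p3u888) p3r889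

theorem p3r890 : allRange pointOk 22 54045 9 = true := by decide +kernel
theorem p3u890 : ∀ k, 46035 ≤ k → k < 54054 → pointOk (k * 22) = true := between_extend pointOk 22 46035 54045 9 (p3u889) p3r890

theorem p3r891 : allRange pointOk 22 54054 9 = true := by decide +kernel
theorem p3u891 : ∀ k, 46035 ≤ k → k < 54063 → pointOk (k * 22) = true := between_extend pointOk 22 46035 54054 9 (p3u890) p3r891

theorem p3r892 : allRange pointOk 22 54063 9 = true := by decide +kernel
theorem p3u892 : ∀ k, 46035 ≤ k → k < 54072 → pointOk (k * 22) = true := between_extend pointOk 22 46035 54063 9 (p3u891) p3r892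

theorem p3r893 : allRange pointOk 22 54072 9 = true := by decide +kernel
theorem p3u893 : ∀ k, 46035 ≤ k → k < 54081 → pointOk (k * 22) = true := between_extend pointOk 22 46035 54072 9 (p3u892) p3r893

theorem p3r894 : allRange pointOk 22 54081 9 = true := by decide +kernel
theorem p3u894 : ∀ k, 46035 ≤ k → k < 54090 → pointOk (k * 22) = true := between_extend pointOk 22 46035 54081 9 (p3u893) p3r894

theorem p3r895 : allRange pointOk 22 54090 9 = true := by decide +kernel
theorem p3u895 : ∀ k, 46035 ≤ k → k < 54099 → pointOk (k * 22) = true := between_extend pointOk 22 46035 54090 9 (p3u894) p3r895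

theorem p3r896 : allRange pointOk 22 54099 9 = true := by decide +kernel
theorem p3u896 : ∀ k, 46035 ≤ k → k < 54108 → pointOk (k * 22) = true := between_extend pointOk 22 46035 54099 9 (p3u895) p3r896

theorem p3r897 : allRange pointOk 22 54108 9 = true := by decide +kernel
theorem p3u897 : ∀ k, 46035 ≤ k → k < 54117 → pointOk (k * 22) = true := between_extend pointOk 22 46035 54108 9 (p3u896) p3r897

theorem p3r898 : allRange pointOk 22 54117 9 = true := by decide +kernel
theorem p3u898 : ∀ k, 46035 ≤ k → k < 54126 → pointOk (k * 22) = true := between_extend pointOk 22 46035 54117 9 (p3u897) p3r898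

theorem p3r899 : allRange pointOk 22 54126 9 = true := by decide +kernel
theorem p3u899 : ∀ k, 46035 ≤ k → k < 54135 → pointOk (k * 22) = true := between_extend pointOk 22 46035 54126 9 (p3u898) p3r899

theorem p3r900 : allRange pointOk 22 54135 9 = true := by decide +kernel
theorem p3u900 : ∀ k, 46035 ≤ k → k < 54144 → pointOk (k * 22) = true := between_extend pointOk 22 46035 54135 9 (p3u899) p3r900

theorem p3r901 : allRange pointOk 22 54144 9 = true := by decide +kernel
theorem p3u901 : ∀ k, 46035 ≤ k → k < 54153 → pointOk (k * 22) = true := between_extend pointOk 22 46035 54144 9 (p3u900) p3r901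

theorem p3r902 : allRange pointOk 22 54153 9 = true := by decide +kernel
theorem p3u902 : ∀ k, 46035 ≤ k → k < 54162 → pointOk (k * 22) = true := between_extend pointOk 22 46035 54153 9 (p3u901) p3r902

theorem p3r903 : allRange pointOk 22 54162 9 = true := by decide +kernel
theorem p3u903 : ∀ k, 46035 ≤ k → k < 54171 → pointOk (k * 22) = true := between_extend pointOk 22 46035 54162 9 (p3u902) p3r903

theorem p3r904 : allRange pointOk 22 54171 9 = true := by decide +kernel
theorem p3u904 : ∀ k, 46035 ≤ k → k < 54180 → pointOk (k * 22) = true := between_extend pointOk 22 46035 54171 9 (p3u903) p3r904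

theorem p3r905 : allRange pointOk 22 54180 9 = true := by decide +kernel
theorem p3u905 : ∀ k, 46035 ≤ k → k < 54189 → pointOk (k * 22) = true := between_extend pointOk 22 46035 54180 9 (p3u904) p3r905

theorem p3r906 : allRange pointOk 22 54189 9 = true := by decide +kernel
theorem p3u906 : ∀ k, 46035 ≤ k → k < 54198 → pointOk (k * 22) = true := between_extend pointOk 22 46035 54189 9 (p3u905) p3r906

theorem p3r907 : allRange pointOk 22 54198 9 = true := by decide +kernel
theorem p3u907 : ∀ k, 46035 ≤ k → k < 54207 → pointOk (k * 22) = true := between_extend pointOk 22 46035 54198 9 (p3u906) p3r907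

theorem p3r908 : allRange pointOk 22 54207 9 = true := by decide +kernel
theorem p3u908 : ∀ k, 46035 ≤ k → k < 54216 → pointOk (k * 22) = true := between_extend pointOk 22 46035 54207 9 (p3u907) p3r908

theorem p3r909 : allRange pointOk 22 54216 9 = true := by decide +kernel
theorem p3u909 : ∀ k, 46035 ≤ k → k < 54225 → pointOk (k * 22) = true := between_extend pointOk 22 46035 54216 9 (p3u908) p3r909

theorem p3r910 : allRange pointOk 22 54225 9 = true := by decide +kernel
theorem p3u910 : ∀ k, 46035 ≤ k → k < 54234 → pointOk (k * 22) = true := between_extend pointOk 22 46035 54225 9 (p3u909) p3r910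

theorem p3r911 : allRange pointOk 22 54234 9 = true := by decide +kernel
theorem p3u911 : ∀ k, 46035 ≤ k → k < 54243 → pointOk (k * 22) = true := between_extend pointOk 22 46035 54234 9 (p3u910) p3r911

theorem p3r912 : allRange pointOk 22 54243 9 = true := by decide +kernel
theorem p3u912 : ∀ k, 46035 ≤ k → k < 54252 → pointOk (k * 22) = true := between_extend pointOk 22 46035 54243 9 (p3u911) p3r912

theorem p3r913 : allRange pointOk 22 54252 9 = true := by decide +kernel
theorem p3u913 : ∀ k, 46035 ≤ k → k < 54261 → pointOk (k * 22) = true := between_extend pointOk 22 46035 54252 9 (p3u912) p3r913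

theorem p3r914 : allRange pointOk 22 54261 9 = true := by decide +kernel
theorem p3u914 : ∀ k, 46035 ≤ k → k < 54270 → pointOk (k * 22) = true := between_extend pointOk 22 46035 54261 9 (p3u913) p3r914

theorem p3r915 : allRange pointOk 22 54270 9 = true := by decide +kernel
theorem p3u915 : ∀ k, 46035 ≤ k → k < 54279 → pointOk (k * 22) = true := between_extend pointOk 22 46035 54270 9 (p3u914) p3r915

theorem p3r916 : allRange pointOk 22 54279 9 = true := by decide +kernel
theorem p3u916 : ∀ k, 46035 ≤ k → k < 54288 → pointOk (k * 22) = true := between_extend pointOk 22 46035 54279 9 (p3u915) p3r916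

theorem p3r917 : allRange pointOk 22 54288 9 = true := by decide +kernel
theorem p3u917 : ∀ k, 46035 ≤ k → k < 54297 → pointOk (k * 22) = true := between_extend pointOk 22 46035 54288 9 (p3u916) p3r917

theorem p3r918 : allRange pointOk 22 54297 9 = true := by decide +kernel
theorem p3u918 : ∀ k, 46035 ≤ k → k < 54306 → pointOk (k * 22) = true := between_extend pointOk 22 46035 54297 9 (p3u917) p3r918

theorem p3r919 : allRange pointOk 22 54306 9 = true := by decide +kernel
theorem p3u919 : ∀ k, 46035 ≤ k → k < 54315 → pointOk (k * 22) = true := between_extend pointOk 22 46035 54306 9 (p3u918) p3r919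

theorem p3r920 : allRange pointOk 22 54315 9 = true := by decide +kernel
theorem p3u920 : ∀ k, 46035 ≤ k → k < 54324 → pointOk (k * 22) = true := between_extend pointOk 22 46035 54315 9 (p3u919) p3r920

theorem p3r921 : allRange pointOk 22 54324 9 = true := by decide +kernel
theorem p3u921 : ∀ k, 46035 ≤ k → k < 54333 → pointOk (k * 22) = true := between_extend pointOk 22 46035 54324 9 (p3u920) p3r921

theorem p3r922 : allRange pointOk 22 54333 9 = true := by decide +kernel
theorem p3u922 : ∀ k, 46035 ≤ k → k < 54342 → pointOk (k * 22) = true := between_extend pointOk 22 46035 54333 9 (p3u921) p3r922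

theorem p3r923 : allRange pointOk 22 54342 9 = true := by decide +kernel
theorem p3u923 : ∀ k, 46035 ≤ k → k < 54351 → pointOk (k * 22) = true := between_extend pointOk 22 46035 54342 9 (p3u922) p3r923

theorem p3r924 : allRange pointOk 22 54351 9 = true := by decide +kernel
theorem p3u924 : ∀ k, 46035 ≤ k → k < 54360 → pointOk (k * 22) = true := between_extend pointOk 22 46035 54351 9 (p3u923) p3r924

theorem p3r925 : allRange pointOk 22 54360 9 = true := by decide +kernel
theorem p3u925 : ∀ k, 46035 ≤ k → k < 54369 → pointOk (k * 22) = true := between_extend pointOk 22 46035 54360 9 (p3u924) p3r925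

theorem p3r926 : allRange pointOk 22 54369 9 = true := by decide +kernel
theorem p3u926 : ∀ k, 46035 ≤ k → k < 54378 → pointOk (k * 22) = true := between_extend pointOk 22 46035 54369 9 (p3u925) p3r926

theorem p3r927 : allRange pointOk 22 54378 9 = true := by decide +kernel
theorem p3u927 : ∀ k, 46035 ≤ k → k < 54387 → pointOk (k * 22) = true := between_extend pointOk 22 46035 54378 9 (p3u926) p3r927

theorem p3r928 : allRange pointOk 22 54387 9 = true := by decide +kernel
theorem p3u928 : ∀ k, 46035 ≤ k → k < 54396 → pointOk (k * 22) = true := between_extend pointOk 22 46035 54387 9 (p3u927) p3r928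

theorem p3r929 : allRange pointOk 22 54396 9 = true := by decide +kernel
theorem p3u929 : ∀ k, 46035 ≤ k → k < 54405 → pointOk (k * 22) = true := between_extend pointOk 22 46035 54396 9 (p3u928) p3r929

theorem p3r930 : allRange pointOk 22 54405 9 = true := by decide +kernel
theorem p3u930 : ∀ k, 46035 ≤ k → k < 54414 → pointOk (k * 22) = true := between_extend pointOk 22 46035 54405 9 (p3u929) p3r930

theorem p3r931 : allRange pointOk 22 54414 9 = true := by decide +kernel
theorem p3u931 : ∀ k, 46035 ≤ k → k < 54423 → pointOk (k * 22) = true := between_extend pointOk 22 46035 54414 9 (p3u930) p3r931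

theorem p3r932 : allRange pointOk 22 54423 9 = true := by decide +kernel
theorem p3u932 : ∀ k, 46035 ≤ k → k < 54432 → pointOk (k * 22) = true := between_extend pointOk 22 46035 54423 9 (p3u931) p3r932

theorem p3r933 : allRange pointOk 22 54432 9 = true := by decide +kernel
theorem p3u933 : ∀ k, 46035 ≤ k → k < 54441 → pointOk (k * 22) = true := between_extend pointOk 22 46035 54432 9 (p3u932) p3r933

theorem p3r934 : allRange pointOk 22 54441 9 = true := by decide +kernel
theorem p3u934 : ∀ k, 46035 ≤ k → k < 54450 → pointOk (k * 22) = true := between_extend pointOk 22 46035 54441 9 (p3u933) p3r934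

theorem p3r935 : allRange pointOk 22 54450 9 = true := by decide +kernel
theorem p3u935 : ∀ k, 46035 ≤ k → k < 54459 → pointOk (k * 22) = true := between_extend pointOk 22 46035 54450 9 (p3u934) p3r935

theorem p3r936 : allRange pointOk 22 54459 9 = true := by decide +kernel
theorem p3u936 : ∀ k, 46035 ≤ k → k < 54468 → pointOk (k * 22) = true := between_extend pointOk 22 46035 54459 9 (p3u935) p3r936

theorem p3r937 : allRange pointOk 22 54468 9 = true := by decide +kernel
theorem p3u937 : ∀ k, 46035 ≤ k → k < 54477 → pointOk (k * 22) = true := between_extend pointOk 22 46035 54468 9 (p3u936) p3r937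

theorem p3r938 : allRange pointOk 22 54477 9 = true := by decide +kernel
theorem p3u938 : ∀ k, 46035 ≤ k → k < 54486 → pointOk (k * 22) = true := between_extend pointOk 22 46035 54477 9 (p3u937) p3r938

theorem p3r939 : allRange pointOk 22 54486 9 = true := by decide +kernel
theorem p3u939 : ∀ k, 46035 ≤ k → k < 54495 → pointOk (k * 22) = true := between_extend pointOk 22 46035 54486 9 (p3u938) p3r939

theorem p3r940 : allRange pointOk 22 54495 9 = true := by decide +kernel
theorem p3u940 : ∀ k, 46035 ≤ k → k < 54504 → pointOk (k * 22) = true := between_extend pointOk 22 46035 54495 9 (p3u939) p3r940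

theorem p3r941 : allRange pointOk 22 54504 9 = true := by decide +kernel
theorem p3u941 : ∀ k, 46035 ≤ k → k < 54513 → pointOk (k * 22) = true := between_extend pointOk 22 46035 54504 9 (p3u940) p3r941

theorem p3r942 : allRange pointOk 22 54513 9 = true := by decide +kernel
theorem p3u942 : ∀ k, 46035 ≤ k → k < 54522 → pointOk (k * 22) = true := between_extend pointOk 22 46035 54513 9 (p3u941) p3r942

theorem p3r943 : allRange pointOk 22 54522 9 = true := by decide +kernel
theorem p3u943 : ∀ k, 46035 ≤ k → k < 54531 → pointOk (k * 22) = true := between_extend pointOk 22 46035 54522 9 (p3u942) p3r943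

theorem p3r944 : allRange pointOk 22 54531 9 = true := by decide +kernel
theorem p3u944 : ∀ k, 46035 ≤ k → k < 54540 → pointOk (k * 22) = true := between_extend pointOk 22 46035 54531 9 (p3u943) p3r944

theorem p3r945 : allRange pointOk 22 54540 9 = true := by decide +kernel
theorem p3u945 : ∀ k, 46035 ≤ k → k < 54549 → pointOk (k * 22) = true := between_extend pointOk 22 46035 54540 9 (p3u944) p3r945

theorem p3r946 : allRange pointOk 22 54549 9 = true := by decide +kernel
theorem p3u946 : ∀ k, 46035 ≤ k → k < 54558 → pointOk (k * 22) = true := between_extend pointOk 22 46035 54549 9 (p3u945) p3r946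

theorem p3r947 : allRange pointOk 22 54558 9 = true := by decide +kernel
theorem p3u947 : ∀ k, 46035 ≤ k → k < 54567 → pointOk (k * 22) = true := between_extend pointOk 22 46035 54558 9 (p3u946) p3r947

theorem p3r948 : allRange pointOk 22 54567 9 = true := by decide +kernel
theorem p3u948 : ∀ k, 46035 ≤ k → k < 54576 → pointOk (k * 22) = true := between_extend pointOk 22 46035 54567 9 (p3u947) p3r948

theorem p3r949 : allRange pointOk 22 54576 9 = true := by decide +kernel
theorem p3u949 : ∀ k, 46035 ≤ k → k < 54585 → pointOk (k * 22) = true := between_extend pointOk 22 46035 54576 9 (p3u948) p3r949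

theorem p3r950 : allRange pointOk 22 54585 9 = true := by decide +kernel
theorem p3u950 : ∀ k, 46035 ≤ k → k < 54594 → pointOk (k * 22) = true := between_extend pointOk 22 46035 54585 9 (p3u949) p3r950

theorem p3r951 : allRange pointOk 22 54594 9 = true := by decide +kernel
theorem p3u951 : ∀ k, 46035 ≤ k → k < 54603 → pointOk (k * 22) = true := between_extend pointOk 22 46035 54594 9 (p3u950) p3r951

theorem p3r952 : allRange pointOk 22 54603 9 = true := by decide +kernel
theorem p3u952 : ∀ k, 46035 ≤ k → k < 54612 → pointOk (k * 22) = true := between_extend pointOk 22 46035 54603 9 (p3u951) p3r952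

theorem p3r953 : allRange pointOk 22 54612 9 = true := by decide +kernel
theorem p3u953 : ∀ k, 46035 ≤ k → k < 54621 → pointOk (k * 22) = true := between_extend pointOk 22 46035 54612 9 (p3u952) p3r953

theorem p3r954 : allRange pointOk 22 54621 9 = true := by decide +kernel
theorem p3u954 : ∀ k, 46035 ≤ k → k < 54630 → pointOk (k * 22) = true := between_extend pointOk 22 46035 54621 9 (p3u953) p3r954

theorem p3r955 : allRange pointOk 22 54630 9 = true := by decide +kernel
theorem p3u955 : ∀ k, 46035 ≤ k → k < 54639 → pointOk (k * 22) = true := between_extend pointOk 22 46035 54630 9 (p3u954) p3r955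

theorem p3r956 : allRange pointOk 22 54639 9 = true := by decide +kernel
theorem p3u956 : ∀ k, 46035 ≤ k → k < 54648 → pointOk (k * 22) = true := between_extend pointOk 22 46035 54639 9 (p3u955) p3r956

theorem p3r957 : allRange pointOk 22 54648 9 = true := by decide +kernel
theorem p3u957 : ∀ k, 46035 ≤ k → k < 54657 → pointOk (k * 22) = true := between_extend pointOk 22 46035 54648 9 (p3u956) p3r957

theorem p3r958 : allRange pointOk 22 54657 9 = true := by decide +kernel
theorem p3u958 : ∀ k, 46035 ≤ k → k < 54666 → pointOk (k * 22) = true := between_extend pointOk 22 46035 54657 9 (p3u957) p3r958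

theorem p3r959 : allRange pointOk 22 54666 9 = true := by decide +kernel
theorem p3u959 : ∀ k, 46035 ≤ k → k < 54675 → pointOk (k * 22) = true := between_extend pointOk 22 46035 54666 9 (p3u958) p3r959

theorem p3r960 : allRange pointOk 22 54675 9 = true := by decide +kernel
theorem p3u960 : ∀ k, 46035 ≤ k → k < 54684 → pointOk (k * 22) = true := between_extend pointOk 22 46035 54675 9 (p3u959) p3r960

theorem p3r961 : allRange pointOk 22 54684 9 = true := by decide +kernel
theorem p3u961 : ∀ k, 46035 ≤ k → k < 54693 → pointOk (k * 22) = true := between_extend pointOk 22 46035 54684 9 (p3u960) p3r961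

theorem p3r962 : allRange pointOk 22 54693 9 = true := by decide +kernel
theorem p3u962 : ∀ k, 46035 ≤ k → k < 54702 → pointOk (k * 22) = true := between_extend pointOk 22 46035 54693 9 (p3u961) p3r962

theorem p3r963 : allRange pointOk 22 54702 9 = true := by decide +kernel
theorem p3u963 : ∀ k, 46035 ≤ k → k < 54711 → pointOk (k * 22) = true := between_extend pointOk 22 46035 54702 9 (p3u962) p3r963

theorem p3r964 : allRange pointOk 22 54711 9 = true := by decide +kernel
theorem p3u964 : ∀ k, 46035 ≤ k → k < 54720 → pointOk (k * 22) = true := between_extend pointOk 22 46035 54711 9 (p3u963) p3r964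

theorem p3r965 : allRange pointOk 22 54720 9 = true := by decide +kernel
theorem p3u965 : ∀ k, 46035 ≤ k → k < 54729 → pointOk (k * 22) = true := between_extend pointOk 22 46035 54720 9 (p3u964) p3r965

theorem p3r966 : allRange pointOk 22 54729 9 = true := by decide +kernel
theorem p3u966 : ∀ k, 46035 ≤ k → k < 54738 → pointOk (k * 22) = true := between_extend pointOk 22 46035 54729 9 (p3u965) p3r966

theorem p3r967 : allRange pointOk 22 54738 9 = true := by decide +kernel
theorem p3u967 : ∀ k, 46035 ≤ k → k < 54747 → pointOk (k * 22) = true := between_extend pointOk 22 46035 54738 9 (p3u966) p3r967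

theorem p3r968 : allRange pointOk 22 54747 9 = true := by decide +kernel
theorem p3u968 : ∀ k, 46035 ≤ k → k < 54756 → pointOk (k * 22) = true := between_extend pointOk 22 46035 54747 9 (p3u967) p3r968

theorem p3r969 : allRange pointOk 22 54756 9 = true := by decide +kernel
theorem p3u969 : ∀ k, 46035 ≤ k → k < 54765 → pointOk (k * 22) = true := between_extend pointOk 22 46035 54756 9 (p3u968) p3r969

theorem p3r970 : allRange pointOk 22 54765 9 = true := by decide +kernel
theorem p3u970 : ∀ k, 46035 ≤ k → k < 54774 → pointOk (k * 22) = true := between_extend pointOk 22 46035 54765 9 (p3u969) p3r970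

theorem p3r971 : allRange pointOk 22 54774 9 = true := by decide +kernel
theorem p3u971 : ∀ k, 46035 ≤ k → k < 54783 → pointOk (k * 22) = true := between_extend pointOk 22 46035 54774 9 (p3u970) p3r971

theorem p3r972 : allRange pointOk 22 54783 9 = true := by decide +kernel
theorem p3u972 : ∀ k, 46035 ≤ k → k < 54792 → pointOk (k * 22) = true := between_extend pointOk 22 46035 54783 9 (p3u971) p3r972

theorem p3r973 : allRange pointOk 22 54792 9 = true := by decide +kernel
theorem p3u973 : ∀ k, 46035 ≤ k → k < 54801 → pointOk (k * 22) = true := between_extend pointOk 22 46035 54792 9 (p3u972) p3r973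

theorem p3r974 : allRange pointOk 22 54801 9 = true := by decide +kernel
theorem p3u974 : ∀ k, 46035 ≤ k → k < 54810 → pointOk (k * 22) = true := between_extend pointOk 22 46035 54801 9 (p3u973) p3r974

theorem p3r975 : allRange pointOk 22 54810 9 = true := by decide +kernel
theorem p3u975 : ∀ k, 46035 ≤ k → k < 54819 → pointOk (k * 22) = true := between_extend pointOk 22 46035 54810 9 (p3u974) p3r975

theorem p3r976 : allRange pointOk 22 54819 9 = true := by decide +kernel
theorem p3u976 : ∀ k, 46035 ≤ k → k < 54828 → pointOk (k * 22) = true := between_extend pointOk 22 46035 54819 9 (p3u975) p3r976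

theorem p3r977 : allRange pointOk 22 54828 9 = true := by decide +kernel
theorem p3u977 : ∀ k, 46035 ≤ k → k < 54837 → pointOk (k * 22) = true := between_extend pointOk 22 46035 54828 9 (p3u976) p3r977

theorem p3r978 : allRange pointOk 22 54837 9 = true := by decide +kernel
theorem p3u978 : ∀ k, 46035 ≤ k → k < 54846 → pointOk (k * 22) = true := between_extend pointOk 22 46035 54837 9 (p3u977) p3r978

theorem p3r979 : allRange pointOk 22 54846 9 = true := by decide +kernel
theorem p3u979 : ∀ k, 46035 ≤ k → k < 54855 → pointOk (k * 22) = true := between_extend pointOk 22 46035 54846 9 (p3u978) p3r979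

theorem p3r980 : allRange pointOk 22 54855 9 = true := by decide +kernel
theorem p3u980 : ∀ k, 46035 ≤ k → k < 54864 → pointOk (k * 22) = true := between_extend pointOk 22 46035 54855 9 (p3u979) p3r980

theorem p3r981 : allRange pointOk 22 54864 9 = true := by decide +kernel
theorem p3u981 : ∀ k, 46035 ≤ k → k < 54873 → pointOk (k * 22) = true := between_extend pointOk 22 46035 54864 9 (p3u980) p3r981

theorem p3r982 : allRange pointOk 22 54873 9 = true := by decide +kernel
theorem p3u982 : ∀ k, 46035 ≤ k → k < 54882 → pointOk (k * 22) = true := between_extend pointOk 22 46035 54873 9 (p3u981) p3r982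

theorem p3r983 : allRange pointOk 22 54882 9 = true := by decide +kernel
theorem p3u983 : ∀ k, 46035 ≤ k → k < 54891 → pointOk (k * 22) = true := between_extend pointOk 22 46035 54882 9 (p3u982) p3r983

theorem p3r984 : allRange pointOk 22 54891 9 = true := by decide +kernel
theorem p3u984 : ∀ k, 46035 ≤ k → k < 54900 → pointOk (k * 22) = true := between_extend pointOk 22 46035 54891 9 (p3u983) p3r984

theorem p3r985 : allRange pointOk 22 54900 9 = true := by decide +kernel
theorem p3u985 : ∀ k, 46035 ≤ k → k < 54909 → pointOk (k * 22) = true := between_extend pointOk 22 46035 54900 9 (p3u984) p3r985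

theorem p3r986 : allRange pointOk 22 54909 9 = true := by decide +kernel
theorem p3u986 : ∀ k, 46035 ≤ k → k < 54918 → pointOk (k * 22) = true := between_extend pointOk 22 46035 54909 9 (p3u985) p3r986

theorem p3r987 : allRange pointOk 22 54918 9 = true := by decide +kernel
theorem p3u987 : ∀ k, 46035 ≤ k → k < 54927 → pointOk (k * 22) = true := between_extend pointOk 22 46035 54918 9 (p3u986) p3r987

theorem p3r988 : allRange pointOk 22 54927 9 = true := by decide +kernel
theorem p3u988 : ∀ k, 46035 ≤ k → k < 54936 → pointOk (k * 22) = true := between_extend pointOk 22 46035 54927 9 (p3u987) p3r988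

theorem p3r989 : allRange pointOk 22 54936 9 = true := by decide +kernel
theorem p3u989 : ∀ k, 46035 ≤ k → k < 54945 → pointOk (k * 22) = true := between_extend pointOk 22 46035 54936 9 (p3u988) p3r989

theorem p3r990 : allRange pointOk 22 54945 9 = true := by decide +kernel
theorem p3u990 : ∀ k, 46035 ≤ k → k < 54954 → pointOk (k * 22) = true := between_extend pointOk 22 46035 54945 9 (p3u989) p3r990

theorem p3r991 : allRange pointOk 22 54954 9 = true := by decide +kernel
theorem p3u991 : ∀ k, 46035 ≤ k → k < 54963 → pointOk (k * 22) = true := between_extend pointOk 22 46035 54954 9 (p3u990) p3r991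

theorem p3r992 : allRange pointOk 22 54963 9 = true := by decide +kernel
theorem p3u992 : ∀ k, 46035 ≤ k → k < 54972 → pointOk (k * 22) = true := between_extend pointOk 22 46035 54963 9 (p3u991) p3r992

theorem p3r993 : allRange pointOk 22 54972 9 = true := by decide +kernel
theorem p3u993 : ∀ k, 46035 ≤ k → k < 54981 → pointOk (k * 22) = true := between_extend pointOk 22 46035 54972 9 (p3u992) p3r993

theorem p3r994 : allRange pointOk 22 54981 9 = true := by decide +kernel
theorem p3u994 : ∀ k, 46035 ≤ k → k < 54990 → pointOk (k * 22) = true := between_extend pointOk 22 46035 54981 9 (p3u993) p3r994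

theorem p3r995 : allRange pointOk 22 54990 9 = true := by decide +kernel
theorem p3u995 : ∀ k, 46035 ≤ k → k < 54999 → pointOk (k * 22) = true := between_extend pointOk 22 46035 54990 9 (p3u994) p3r995

theorem p3r996 : allRange pointOk 22 54999 9 = true := by decide +kernel
theorem p3u996 : ∀ k, 46035 ≤ k → k < 55008 → pointOk (k * 22) = true := between_extend pointOk 22 46035 54999 9 (p3u995) p3r996

theorem p3r997 : allRange pointOk 22 55008 9 = true := by decide +kernel
theorem p3u997 : ∀ k, 46035 ≤ k → k < 55017 → pointOk (k * 22) = true := between_extend pointOk 22 46035 55008 9 (p3u996) p3r997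

theorem p3r998 : allRange pointOk 22 55017 9 = true := by decide +kernel
theorem p3u998 : ∀ k, 46035 ≤ k → k < 55026 → pointOk (k * 22) = true := between_extend pointOk 22 46035 55017 9 (p3u997) p3r998

theorem p3r999 : allRange pointOk 22 55026 9 = true := by decide +kernel
theorem p3u999 : ∀ k, 46035 ≤ k → k < 55035 → pointOk (k * 22) = true := between_extend pointOk 22 46035 55026 9 (p3u998) p3r999

theorem p3r1000 : allRange pointOk 22 55035 9 = true := by decide +kernel
theorem p3u1000 : ∀ k, 46035 ≤ k → k < 55044 → pointOk (k * 22) = true := between_extend pointOk 22 46035 55035 9 (p3u999) p3r1000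

theorem p3r1001 : allRange pointOk 22 55044 9 = true := by decide +kernel
theorem p3u1001 : ∀ k, 46035 ≤ k → k < 55053 → pointOk (k * 22) = true := between_extend pointOk 22 46035 55044 9 (p3u1000) p3r1001

theorem p3r1002 : allRange pointOk 22 55053 9 = true := by decide +kernel
theorem p3u1002 : ∀ k, 46035 ≤ k → k < 55062 → pointOk (k * 22) = true := between_extend pointOk 22 46035 55053 9 (p3u1001) p3r1002

theorem p3r1003 : allRange pointOk 22 55062 9 = true := by decide +kernel
theorem p3u1003 : ∀ k, 46035 ≤ k → k < 55071 → pointOk (k * 22) = true := between_extend pointOk 22 46035 55062 9 (p3u1002) p3r1003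

theorem p3r1004 : allRange pointOk 22 55071 9 = true := by decide +kernel
theorem p3u1004 : ∀ k, 46035 ≤ k → k < 55080 → pointOk (k * 22) = true := between_extend pointOk 22 46035 55071 9 (p3u1003) p3r1004

theorem p3r1005 : allRange pointOk 22 55080 9 = true := by decide +kernel
theorem p3u1005 : ∀ k, 46035 ≤ k → k < 55089 → pointOk (k * 22) = true := between_extend pointOk 22 46035 55080 9 (p3u1004) p3r1005

theorem p3r1006 : allRange pointOk 22 55089 9 = true := by decide +kernel
theorem p3u1006 : ∀ k, 46035 ≤ k → k < 55098 → pointOk (k * 22) = true := between_extend pointOk 22 46035 55089 9 (p3u1005) p3r1006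

theorem p3r1007 : allRange pointOk 22 55098 9 = true := by decide +kernel
theorem p3u1007 : ∀ k, 46035 ≤ k → k < 55107 → pointOk (k * 22) = true := between_extend pointOk 22 46035 55098 9 (p3u1006) p3r1007

theorem p3r1008 : allRange pointOk 22 55107 9 = true := by decide +kernel
theorem p3u1008 : ∀ k, 46035 ≤ k → k < 55116 → pointOk (k * 22) = true := between_extend pointOk 22 46035 55107 9 (p3u1007) p3r1008

theorem p3r1009 : allRange pointOk 22 55116 9 = true := by decide +kernel
theorem p3u1009 : ∀ k, 46035 ≤ k → k < 55125 → pointOk (k * 22) = true := between_extend pointOk 22 46035 55116 9 (p3u1008) p3r1009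

theorem p3r1010 : allRange pointOk 22 55125 9 = true := by decide +kernel
theorem p3u1010 : ∀ k, 46035 ≤ k → k < 55134 → pointOk (k * 22) = true := between_extend pointOk 22 46035 55125 9 (p3u1009) p3r1010

theorem p3r1011 : allRange pointOk 22 55134 9 = true := by decide +kernel
theorem p3u1011 : ∀ k, 46035 ≤ k → k < 55143 → pointOk (k * 22) = true := between_extend pointOk 22 46035 55134 9 (p3u1010) p3r1011

theorem p3r1012 : allRange pointOk 22 55143 9 = true := by decide +kernel
theorem p3u1012 : ∀ k, 46035 ≤ k → k < 55152 → pointOk (k * 22) = true := between_extend pointOk 22 46035 55143 9 (p3u1011) p3r1012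

theorem p3r1013 : allRange pointOk 22 55152 9 = true := by decide +kernel
theorem p3u1013 : ∀ k, 46035 ≤ k → k < 55161 → pointOk (k * 22) = true := between_extend pointOk 22 46035 55152 9 (p3u1012) p3r1013

theorem p3r1014 : allRange pointOk 22 55161 9 = true := by decide +kernel
theorem p3u1014 : ∀ k, 46035 ≤ k → k < 55170 → pointOk (k * 22) = true := between_extend pointOk 22 46035 55161 9 (p3u1013) p3r1014

theorem p3r1015 : allRange pointOk 22 55170 9 = true := by decide +kernel
theorem p3u1015 : ∀ k, 46035 ≤ k → k < 55179 → pointOk (k * 22) = true := between_extend pointOk 22 46035 55170 9 (p3u1014) p3r1015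

theorem p3r1016 : allRange pointOk 22 55179 9 = true := by decide +kernel
theorem p3u1016 : ∀ k, 46035 ≤ k → k < 55188 → pointOk (k * 22) = true := between_extend pointOk 22 46035 55179 9 (p3u1015) p3r1016

theorem p3r1017 : allRange pointOk 22 55188 9 = true := by decide +kernel
theorem p3u1017 : ∀ k, 46035 ≤ k → k < 55197 → pointOk (k * 22) = true := between_extend pointOk 22 46035 55188 9 (p3u1016) p3r1017

theorem p3r1018 : allRange pointOk 22 55197 9 = true := by decide +kernel
theorem p3u1018 : ∀ k, 46035 ≤ k → k < 55206 → pointOk (k * 22) = true := between_extend pointOk 22 46035 55197 9 (p3u1017) p3r1018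

theorem p3r1019 : allRange pointOk 22 55206 9 = true := by decide +kernel
theorem p3u1019 : ∀ k, 46035 ≤ k → k < 55215 → pointOk (k * 22) = true := between_extend pointOk 22 46035 55206 9 (p3u1018) p3r1019

theorem p3r1020 : allRange pointOk 22 55215 9 = true := by decide +kernel
theorem p3u1020 : ∀ k, 46035 ≤ k → k < 55224 → pointOk (k * 22) = true := between_extend pointOk 22 46035 55215 9 (p3u1019) p3r1020

theorem p3r1021 : allRange pointOk 22 55224 9 = true := by decide +kernel
theorem p3u1021 : ∀ k, 46035 ≤ k → k < 55233 → pointOk (k * 22) = true := between_extend pointOk 22 46035 55224 9 (p3u1020) p3r1021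

theorem p3r1022 : allRange pointOk 22 55233 9 = true := by decide +kernel
theorem p3u1022 : ∀ k, 46035 ≤ k → k < 55242 → pointOk (k * 22) = true := between_extend pointOk 22 46035 55233 9 (p3u1021) p3r1022

theorem p3r1023 : allRange pointOk 22 55242 9 = true := by decide +kernel
theorem p3u1023 : ∀ k, 46035 ≤ k → k < 55251 → pointOk (k * 22) = true := between_extend pointOk 22 46035 55242 9 (p3u1022) p3r1023

theorem p3r1024 : allRange pointOk 22 55251 9 = true := by decide +kernel
theorem p3u1024 : ∀ k, 46035 ≤ k → k < 55260 → pointOk (k * 22) = true := between_extend pointOk 22 46035 55251 9 (p3u1023) p3r1024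

theorem p3r1025 : allRange pointOk 22 55260 9 = true := by decide +kernel
theorem p3u1025 : ∀ k, 46035 ≤ k → k < 55269 → pointOk (k * 22) = true := between_extend pointOk 22 46035 55260 9 (p3u1024) p3r1025

theorem p3r1026 : allRange pointOk 22 55269 9 = true := by decide +kernel
theorem p3u1026 : ∀ k, 46035 ≤ k → k < 55278 → pointOk (k * 22) = true := between_extend pointOk 22 46035 55269 9 (p3u1025) p3r1026

theorem p3r1027 : allRange pointOk 22 55278 9 = true := by decide +kernel
theorem p3u1027 : ∀ k, 46035 ≤ k → k < 55287 → pointOk (k * 22) = true := between_extend pointOk 22 46035 55278 9 (p3u1026) p3r1027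

theorem p3r1028 : allRange pointOk 22 55287 9 = true := by decide +kernel
theorem p3u1028 : ∀ k, 46035 ≤ k → k < 55296 → pointOk (k * 22) = true := between_extend pointOk 22 46035 55287 9 (p3u1027) p3r1028

theorem p3r1029 : allRange pointOk 22 55296 9 = true := by decide +kernel
theorem p3u1029 : ∀ k, 46035 ≤ k → k < 55305 → pointOk (k * 22) = true := between_extend pointOk 22 46035 55296 9 (p3u1028) p3r1029

theorem p3r1030 : allRange pointOk 22 55305 9 = true := by decide +kernel
theorem p3u1030 : ∀ k, 46035 ≤ k → k < 55314 → pointOk (k * 22) = true := between_extend pointOk 22 46035 55305 9 (p3u1029) p3r1030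

theorem p3r1031 : allRange pointOk 22 55314 9 = true := by decide +kernel
theorem p3u1031 : ∀ k, 46035 ≤ k → k < 55323 → pointOk (k * 22) = true := between_extend pointOk 22 46035 55314 9 (p3u1030) p3r1031

theorem p3r1032 : allRange pointOk 22 55323 9 = true := by decide +kernel
theorem p3u1032 : ∀ k, 46035 ≤ k → k < 55332 → pointOk (k * 22) = true := between_extend pointOk 22 46035 55323 9 (p3u1031) p3r1032

theorem p3r1033 : allRange pointOk 22 55332 9 = true := by decide +kernel
theorem p3u1033 : ∀ k, 46035 ≤ k → k < 55341 → pointOk (k * 22) = true := between_extend pointOk 22 46035 55332 9 (p3u1032) p3r1033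

theorem p3r1034 : allRange pointOk 22 55341 9 = true := by decide +kernel
theorem p3u1034 : ∀ k, 46035 ≤ k → k < 55350 → pointOk (k * 22) = true := between_extend pointOk 22 46035 55341 9 (p3u1033) p3r1034

theorem p3r1035 : allRange pointOk 22 55350 9 = true := by decide +kernel
theorem p3u1035 : ∀ k, 46035 ≤ k → k < 55359 → pointOk (k * 22) = true := between_extend pointOk 22 46035 55350 9 (p3u1034) p3r1035

theorem p3r1036 : allRange pointOk 22 55359 9 = true := by decide +kernel
theorem p3u1036 : ∀ k, 46035 ≤ k → k < 55368 → pointOk (k * 22) = true := between_extend pointOk 22 46035 55359 9 (p3u1035) p3r1036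

theorem p3r1037 : allRange pointOk 22 55368 9 = true := by decide +kernel
theorem p3u1037 : ∀ k, 46035 ≤ k → k < 55377 → pointOk (k * 22) = true := between_extend pointOk 22 46035 55368 9 (p3u1036) p3r1037

theorem p3r1038 : allRange pointOk 22 55377 9 = true := by decide +kernel
theorem p3u1038 : ∀ k, 46035 ≤ k → k < 55386 → pointOk (k * 22) = true := between_extend pointOk 22 46035 55377 9 (p3u1037) p3r1038

theorem p3r1039 : allRange pointOk 22 55386 9 = true := by decide +kernel
theorem p3u1039 : ∀ k, 46035 ≤ k → k < 55395 → pointOk (k * 22) = true := between_extend pointOk 22 46035 55386 9 (p3u1038) p3r1039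

theorem p3r1040 : allRange pointOk 22 55395 9 = true := by decide +kernel
theorem p3u1040 : ∀ k, 46035 ≤ k → k < 55404 → pointOk (k * 22) = true := between_extend pointOk 22 46035 55395 9 (p3u1039) p3r1040

theorem p3r1041 : allRange pointOk 22 55404 9 = true := by decide +kernel
theorem p3u1041 : ∀ k, 46035 ≤ k → k < 55413 → pointOk (k * 22) = true := between_extend pointOk 22 46035 55404 9 (p3u1040) p3r1041

theorem p3r1042 : allRange pointOk 22 55413 9 = true := by decide +kernel
theorem p3u1042 : ∀ k, 46035 ≤ k → k < 55422 → pointOk (k * 22) = true := between_extend pointOk 22 46035 55413 9 (p3u1041) p3r1042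

theorem p3r1043 : allRange pointOk 22 55422 9 = true := by decide +kernel
theorem p3u1043 : ∀ k, 46035 ≤ k → k < 55431 → pointOk (k * 22) = true := between_extend pointOk 22 46035 55422 9 (p3u1042) p3r1043

theorem p3r1044 : allRange pointOk 22 55431 9 = true := by decide +kernel
theorem p3u1044 : ∀ k, 46035 ≤ k → k < 55440 → pointOk (k * 22) = true := between_extend pointOk 22 46035 55431 9 (p3u1043) p3r1044

theorem p3r1045 : allRange pointOk 22 55440 9 = true := by decide +kernel
theorem p3u1045 : ∀ k, 46035 ≤ k → k < 55449 → pointOk (k * 22) = true := between_extend pointOk 22 46035 55440 9 (p3u1044) p3r1045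

theorem p3r1046 : allRange pointOk 22 55449 9 = true := by decide +kernel
theorem p3u1046 : ∀ k, 46035 ≤ k → k < 55458 → pointOk (k * 22) = true := between_extend pointOk 22 46035 55449 9 (p3u1045) p3r1046

theorem p3r1047 : allRange pointOk 22 55458 9 = true := by decide +kernel
theorem p3u1047 : ∀ k, 46035 ≤ k → k < 55467 → pointOk (k * 22) = true := between_extend pointOk 22 46035 55458 9 (p3u1046) p3r1047

theorem p3r1048 : allRange pointOk 22 55467 9 = true := by decide +kernel
theorem p3u1048 : ∀ k, 46035 ≤ k → k < 55476 → pointOk (k * 22) = true := between_extend pointOk 22 46035 55467 9 (p3u1047) p3r1048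

theorem p3r1049 : allRange pointOk 22 55476 9 = true := by decide +kernel
theorem p3u1049 : ∀ k, 46035 ≤ k → k < 55485 → pointOk (k * 22) = true := between_extend pointOk 22 46035 55476 9 (p3u1048) p3r1049

theorem p3r1050 : allRange pointOk 22 55485 9 = true := by decide +kernel
theorem p3u1050 : ∀ k, 46035 ≤ k → k < 55494 → pointOk (k * 22) = true := between_extend pointOk 22 46035 55485 9 (p3u1049) p3r1050

theorem p3r1051 : allRange pointOk 22 55494 9 = true := by decide +kernel
theorem p3u1051 : ∀ k, 46035 ≤ k → k < 55503 → pointOk (k * 22) = true := between_extend pointOk 22 46035 55494 9 (p3u1050) p3r1051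

theorem p3r1052 : allRange pointOk 22 55503 9 = true := by decide +kernel
theorem p3u1052 : ∀ k, 46035 ≤ k → k < 55512 → pointOk (k * 22) = true := between_extend pointOk 22 46035 55503 9 (p3u1051) p3r1052

theorem p3r1053 : allRange pointOk 22 55512 9 = true := by decide +kernel
theorem p3u1053 : ∀ k, 46035 ≤ k → k < 55521 → pointOk (k * 22) = true := between_extend pointOk 22 46035 55512 9 (p3u1052) p3r1053

theorem p3r1054 : allRange pointOk 22 55521 9 = true := by decide +kernel
theorem p3u1054 : ∀ k, 46035 ≤ k → k < 55530 → pointOk (k * 22) = true := between_extend pointOk 22 46035 55521 9 (p3u1053) p3r1054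

theorem p3r1055 : allRange pointOk 22 55530 9 = true := by decide +kernel
theorem p3u1055 : ∀ k, 46035 ≤ k → k < 55539 → pointOk (k * 22) = true := between_extend pointOk 22 46035 55530 9 (p3u1054) p3r1055

theorem p3r1056 : allRange pointOk 22 55539 9 = true := by decide +kernel
theorem p3u1056 : ∀ k, 46035 ≤ k → k < 55548 → pointOk (k * 22) = true := between_extend pointOk 22 46035 55539 9 (p3u1055) p3r1056

theorem p3r1057 : allRange pointOk 22 55548 9 = true := by decide +kernel
theorem p3u1057 : ∀ k, 46035 ≤ k → k < 55557 → pointOk (k * 22) = true := between_extend pointOk 22 46035 55548 9 (p3u1056) p3r1057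

theorem p3r1058 : allRange pointOk 22 55557 9 = true := by decide +kernel
theorem p3u1058 : ∀ k, 46035 ≤ k → k < 55566 → pointOk (k * 22) = true := between_extend pointOk 22 46035 55557 9 (p3u1057) p3r1058

theorem p3r1059 : allRange pointOk 22 55566 9 = true := by decide +kernel
theorem p3u1059 : ∀ k, 46035 ≤ k → k < 55575 → pointOk (k * 22) = true := between_extend pointOk 22 46035 55566 9 (p3u1058) p3r1059

theorem p3r1060 : allRange pointOk 22 55575 9 = true := by decide +kernel
theorem p3u1060 : ∀ k, 46035 ≤ k → k < 55584 → pointOk (k * 22) = true := between_extend pointOk 22 46035 55575 9 (p3u1059) p3r1060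

theorem p3r1061 : allRange pointOk 22 55584 9 = true := by decide +kernel
theorem p3u1061 : ∀ k, 46035 ≤ k → k < 55593 → pointOk (k * 22) = true := between_extend pointOk 22 46035 55584 9 (p3u1060) p3r1061

theorem p3r1062 : allRange pointOk 22 55593 9 = true := by decide +kernel
theorem p3u1062 : ∀ k, 46035 ≤ k → k < 55602 → pointOk (k * 22) = true := between_extend pointOk 22 46035 55593 9 (p3u1061) p3r1062

theorem p3r1063 : allRange pointOk 22 55602 9 = true := by decide +kernel
theorem p3u1063 : ∀ k, 46035 ≤ k → k < 55611 → pointOk (k * 22) = true := between_extend pointOk 22 46035 55602 9 (p3u1062) p3r1063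

theorem p3r1064 : allRange pointOk 22 55611 9 = true := by decide +kernel
theorem p3u1064 : ∀ k, 46035 ≤ k → k < 55620 → pointOk (k * 22) = true := between_extend pointOk 22 46035 55611 9 (p3u1063) p3r1064

theorem p3r1065 : allRange pointOk 22 55620 9 = true := by decide +kernel
theorem p3u1065 : ∀ k, 46035 ≤ k → k < 55629 → pointOk (k * 22) = true := between_extend pointOk 22 46035 55620 9 (p3u1064) p3r1065

theorem p3r1066 : allRange pointOk 22 55629 9 = true := by decide +kernel
theorem p3u1066 : ∀ k, 46035 ≤ k → k < 55638 → pointOk (k * 22) = true := between_extend pointOk 22 46035 55629 9 (p3u1065) p3r1066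

theorem p3r1067 : allRange pointOk 22 55638 9 = true := by decide +kernel
theorem p3u1067 : ∀ k, 46035 ≤ k → k < 55647 → pointOk (k * 22) = true := between_extend pointOk 22 46035 55638 9 (p3u1066) p3r1067

theorem p3r1068 : allRange pointOk 22 55647 9 = true := by decide +kernel
theorem p3u1068 : ∀ k, 46035 ≤ k → k < 55656 → pointOk (k * 22) = true := between_extend pointOk 22 46035 55647 9 (p3u1067) p3r1068

theorem p3r1069 : allRange pointOk 22 55656 9 = true := by decide +kernel
theorem p3u1069 : ∀ k, 46035 ≤ k → k < 55665 → pointOk (k * 22) = true := between_extend pointOk 22 46035 55656 9 (p3u1068) p3r1069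

theorem p3r1070 : allRange pointOk 22 55665 9 = true := by decide +kernel
theorem p3u1070 : ∀ k, 46035 ≤ k → k < 55674 → pointOk (k * 22) = true := between_extend pointOk 22 46035 55665 9 (p3u1069) p3r1070

theorem p3r1071 : allRange pointOk 22 55674 9 = true := by decide +kernel
theorem p3u1071 : ∀ k, 46035 ≤ k → k < 55683 → pointOk (k * 22) = true := between_extend pointOk 22 46035 55674 9 (p3u1070) p3r1071

theorem p3r1072 : allRange pointOk 22 55683 9 = true := by decide +kernel
theorem p3u1072 : ∀ k, 46035 ≤ k → k < 55692 → pointOk (k * 22) = true := between_extend pointOk 22 46035 55683 9 (p3u1071) p3r1072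

theorem p3r1073 : allRange pointOk 22 55692 9 = true := by decide +kernel
theorem p3u1073 : ∀ k, 46035 ≤ k → k < 55701 → pointOk (k * 22) = true := between_extend pointOk 22 46035 55692 9 (p3u1072) p3r1073

theorem p3r1074 : allRange pointOk 22 55701 9 = true := by decide +kernel
theorem p3u1074 : ∀ k, 46035 ≤ k → k < 55710 → pointOk (k * 22) = true := between_extend pointOk 22 46035 55701 9 (p3u1073) p3r1074

theorem p3r1075 : allRange pointOk 22 55710 9 = true := by decide +kernel
theorem p3u1075 : ∀ k, 46035 ≤ k → k < 55719 → pointOk (k * 22) = true := between_extend pointOk 22 46035 55710 9 (p3u1074) p3r1075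

theorem p3r1076 : allRange pointOk 22 55719 9 = true := by decide +kernel
theorem p3u1076 : ∀ k, 46035 ≤ k → k < 55728 → pointOk (k * 22) = true := between_extend pointOk 22 46035 55719 9 (p3u1075) p3r1076

theorem p3r1077 : allRange pointOk 22 55728 9 = true := by decide +kernel
theorem p3u1077 : ∀ k, 46035 ≤ k → k < 55737 → pointOk (k * 22) = true := between_extend pointOk 22 46035 55728 9 (p3u1076) p3r1077

theorem p3r1078 : allRange pointOk 22 55737 9 = true := by decide +kernel
theorem p3u1078 : ∀ k, 46035 ≤ k → k < 55746 → pointOk (k * 22) = true := between_extend pointOk 22 46035 55737 9 (p3u1077) p3r1078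

theorem p3r1079 : allRange pointOk 22 55746 9 = true := by decide +kernel
theorem p3u1079 : ∀ k, 46035 ≤ k → k < 55755 → pointOk (k * 22) = true := between_extend pointOk 22 46035 55746 9 (p3u1078) p3r1079

theorem p3r1080 : allRange pointOk 22 55755 9 = true := by decide +kernel
theorem p3u1080 : ∀ k, 46035 ≤ k → k < 55764 → pointOk (k * 22) = true := between_extend pointOk 22 46035 55755 9 (p3u1079) p3r1080

theorem p3r1081 : allRange pointOk 22 55764 9 = true := by decide +kernel
theorem p3u1081 : ∀ k, 46035 ≤ k → k < 55773 → pointOk (k * 22) = true := between_extend pointOk 22 46035 55764 9 (p3u1080) p3r1081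

theorem p3r1082 : allRange pointOk 22 55773 9 = true := by decide +kernel
theorem p3u1082 : ∀ k, 46035 ≤ k → k < 55782 → pointOk (k * 22) = true := between_extend pointOk 22 46035 55773 9 (p3u1081) p3r1082

theorem p3r1083 : allRange pointOk 22 55782 9 = true := by decide +kernel
theorem p3u1083 : ∀ k, 46035 ≤ k → k < 55791 → pointOk (k * 22) = true := between_extend pointOk 22 46035 55782 9 (p3u1082) p3r1083

theorem p3r1084 : allRange pointOk 22 55791 9 = true := by decide +kernel
theorem p3u1084 : ∀ k, 46035 ≤ k → k < 55800 → pointOk (k * 22) = true := between_extend pointOk 22 46035 55791 9 (p3u1083) p3r1084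

theorem p3r1085 : allRange pointOk 22 55800 9 = true := by decide +kernel
theorem p3u1085 : ∀ k, 46035 ≤ k → k < 55809 → pointOk (k * 22) = true := between_extend pointOk 22 46035 55800 9 (p3u1084) p3r1085

theorem p3r1086 : allRange pointOk 22 55809 9 = true := by decide +kernel
theorem p3u1086 : ∀ k, 46035 ≤ k → k < 55818 → pointOk (k * 22) = true := between_extend pointOk 22 46035 55809 9 (p3u1085) p3r1086

theorem p3r1087 : allRange pointOk 22 55818 9 = true := by decide +kernel
theorem p3u1087 : ∀ k, 46035 ≤ k → k < 55827 → pointOk (k * 22) = true := between_extend pointOk 22 46035 55818 9 (p3u1086) p3r1087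

theorem p3r1088 : allRange pointOk 22 55827 9 = true := by decide +kernel
theorem p3u1088 : ∀ k, 46035 ≤ k → k < 55836 → pointOk (k * 22) = true := between_extend pointOk 22 46035 55827 9 (p3u1087) p3r1088

theorem p3r1089 : allRange pointOk 22 55836 9 = true := by decide +kernel
theorem p3u1089 : ∀ k, 46035 ≤ k → k < 55845 → pointOk (k * 22) = true := between_extend pointOk 22 46035 55836 9 (p3u1088) p3r1089

theorem p3r1090 : allRange pointOk 22 55845 9 = true := by decide +kernel
theorem p3u1090 : ∀ k, 46035 ≤ k → k < 55854 → pointOk (k * 22) = true := between_extend pointOk 22 46035 55845 9 (p3u1089) p3r1090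

theorem p3r1091 : allRange pointOk 22 55854 9 = true := by decide +kernel
theorem p3u1091 : ∀ k, 46035 ≤ k → k < 55863 → pointOk (k * 22) = true := between_extend pointOk 22 46035 55854 9 (p3u1090) p3r1091

theorem p3r1092 : allRange pointOk 22 55863 9 = true := by decide +kernel
theorem p3u1092 : ∀ k, 46035 ≤ k → k < 55872 → pointOk (k * 22) = true := between_extend pointOk 22 46035 55863 9 (p3u1091) p3r1092

theorem p3r1093 : allRange pointOk 22 55872 9 = true := by decide +kernel
theorem p3u1093 : ∀ k, 46035 ≤ k → k < 55881 → pointOk (k * 22) = true := between_extend pointOk 22 46035 55872 9 (p3u1092) p3r1093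

theorem p3r1094 : allRange pointOk 22 55881 9 = true := by decide +kernel
theorem p3u1094 : ∀ k, 46035 ≤ k → k < 55890 → pointOk (k * 22) = true := between_extend pointOk 22 46035 55881 9 (p3u1093) p3r1094

theorem p3r1095 : allRange pointOk 22 55890 9 = true := by decide +kernel
theorem p3u1095 : ∀ k, 46035 ≤ k → k < 55899 → pointOk (k * 22) = true := between_extend pointOk 22 46035 55890 9 (p3u1094) p3r1095

theorem p3r1096 : allRange pointOk 22 55899 9 = true := by decide +kernel
theorem p3u1096 : ∀ k, 46035 ≤ k → k < 55908 → pointOk (k * 22) = true := between_extend pointOk 22 46035 55899 9 (p3u1095) p3r1096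

theorem p3r1097 : allRange pointOk 22 55908 9 = true := by decide +kernel
theorem p3u1097 : ∀ k, 46035 ≤ k → k < 55917 → pointOk (k * 22) = true := between_extend pointOk 22 46035 55908 9 (p3u1096) p3r1097

theorem p3r1098 : allRange pointOk 22 55917 9 = true := by decide +kernel
theorem p3u1098 : ∀ k, 46035 ≤ k → k < 55926 → pointOk (k * 22) = true := between_extend pointOk 22 46035 55917 9 (p3u1097) p3r1098

theorem p3r1099 : allRange pointOk 22 55926 9 = true := by decide +kernel
theorem p3u1099 : ∀ k, 46035 ≤ k → k < 55935 → pointOk (k * 22) = true := between_extend pointOk 22 46035 55926 9 (p3u1098) p3r1099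

theorem p3r1100 : allRange pointOk 22 55935 9 = true := by decide +kernel
theorem p3u1100 : ∀ k, 46035 ≤ k → k < 55944 → pointOk (k * 22) = true := between_extend pointOk 22 46035 55935 9 (p3u1099) p3r1100

theorem p3r1101 : allRange pointOk 22 55944 9 = true := by decide +kernel
theorem p3u1101 : ∀ k, 46035 ≤ k → k < 55953 → pointOk (k * 22) = true := between_extend pointOk 22 46035 55944 9 (p3u1100) p3r1101

theorem p3r1102 : allRange pointOk 22 55953 9 = true := by decide +kernel
theorem p3u1102 : ∀ k, 46035 ≤ k → k < 55962 → pointOk (k * 22) = true := between_extend pointOk 22 46035 55953 9 (p3u1101) p3r1102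

theorem p3r1103 : allRange pointOk 22 55962 9 = true := by decide +kernel
theorem p3u1103 : ∀ k, 46035 ≤ k → k < 55971 → pointOk (k * 22) = true := between_extend pointOk 22 46035 55962 9 (p3u1102) p3r1103

theorem p3r1104 : allRange pointOk 22 55971 9 = true := by decide +kernel
theorem p3u1104 : ∀ k, 46035 ≤ k → k < 55980 → pointOk (k * 22) = true := between_extend pointOk 22 46035 55971 9 (p3u1103) p3r1104

theorem p3r1105 : allRange pointOk 22 55980 9 = true := by decide +kernel
theorem p3u1105 : ∀ k, 46035 ≤ k → k < 55989 → pointOk (k * 22) = true := between_extend pointOk 22 46035 55980 9 (p3u1104) p3r1105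

theorem p3r1106 : allRange pointOk 22 55989 9 = true := by decide +kernel
theorem p3u1106 : ∀ k, 46035 ≤ k → k < 55998 → pointOk (k * 22) = true := between_extend pointOk 22 46035 55989 9 (p3u1105) p3r1106

theorem p3r1107 : allRange pointOk 22 55998 9 = true := by decide +kernel
theorem p3u1107 : ∀ k, 46035 ≤ k → k < 56007 → pointOk (k * 22) = true := between_extend pointOk 22 46035 55998 9 (p3u1106) p3r1107

theorem p3r1108 : allRange pointOk 22 56007 9 = true := by decide +kernel
theorem p3u1108 : ∀ k, 46035 ≤ k → k < 56016 → pointOk (k * 22) = true := between_extend pointOk 22 46035 56007 9 (p3u1107) p3r1108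

theorem p3r1109 : allRange pointOk 22 56016 9 = true := by decide +kernel
theorem p3u1109 : ∀ k, 46035 ≤ k → k < 56025 → pointOk (k * 22) = true := between_extend pointOk 22 46035 56016 9 (p3u1108) p3r1109

theorem p3r1110 : allRange pointOk 22 56025 9 = true := by decide +kernel
theorem p3u1110 : ∀ k, 46035 ≤ k → k < 56034 → pointOk (k * 22) = true := between_extend pointOk 22 46035 56025 9 (p3u1109) p3r1110

theorem p3r1111 : allRange pointOk 22 56034 9 = true := by decide +kernel
theorem p3u1111 : ∀ k, 46035 ≤ k → k < 56043 → pointOk (k * 22) = true := between_extend pointOk 22 46035 56034 9 (p3u1110) p3r1111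

theorem p3r1112 : allRange pointOk 22 56043 9 = true := by decide +kernel
theorem p3u1112 : ∀ k, 46035 ≤ k → k < 56052 → pointOk (k * 22) = true := between_extend pointOk 22 46035 56043 9 (p3u1111) p3r1112

theorem p3r1113 : allRange pointOk 22 56052 9 = true := by decide +kernel
theorem p3u1113 : ∀ k, 46035 ≤ k → k < 56061 → pointOk (k * 22) = true := between_extend pointOk 22 46035 56052 9 (p3u1112) p3r1113

theorem p3r1114 : allRange pointOk 22 56061 9 = true := by decide +kernel
theorem p3u1114 : ∀ k, 46035 ≤ k → k < 56070 → pointOk (k * 22) = true := between_extend pointOk 22 46035 56061 9 (p3u1113) p3r1114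

theorem p3r1115 : allRange pointOk 22 56070 9 = true := by decide +kernel
theorem p3u1115 : ∀ k, 46035 ≤ k → k < 56079 → pointOk (k * 22) = true := between_extend pointOk 22 46035 56070 9 (p3u1114) p3r1115

theorem p3r1116 : allRange pointOk 22 56079 9 = true := by decide +kernel
theorem p3u1116 : ∀ k, 46035 ≤ k → k < 56088 → pointOk (k * 22) = true := between_extend pointOk 22 46035 56079 9 (p3u1115) p3r1116

theorem p3r1117 : allRange pointOk 22 56088 9 = true := by decide +kernel
theorem p3u1117 : ∀ k, 46035 ≤ k → k < 56097 → pointOk (k * 22) = true := between_extend pointOk 22 46035 56088 9 (p3u1116) p3r1117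

theorem p3r1118 : allRange pointOk 22 56097 9 = true := by decide +kernel
theorem p3u1118 : ∀ k, 46035 ≤ k → k < 56106 → pointOk (k * 22) = true := between_extend pointOk 22 46035 56097 9 (p3u1117) p3r1118

theorem p3r1119 : allRange pointOk 22 56106 9 = true := by decide +kernel
theorem p3u1119 : ∀ k, 46035 ≤ k → k < 56115 → pointOk (k * 22) = true := between_extend pointOk 22 46035 56106 9 (p3u1118) p3r1119

theorem p3r1120 : allRange pointOk 22 56115 9 = true := by decide +kernel
theorem p3u1120 : ∀ k, 46035 ≤ k → k < 56124 → pointOk (k * 22) = true := between_extend pointOk 22 46035 56115 9 (p3u1119) p3r1120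

theorem p3r1121 : allRange pointOk 22 56124 9 = true := by decide +kernel
theorem p3u1121 : ∀ k, 46035 ≤ k → k < 56133 → pointOk (k * 22) = true := between_extend pointOk 22 46035 56124 9 (p3u1120) p3r1121

theorem p3r1122 : allRange pointOk 22 56133 9 = true := by decide +kernel
theorem p3u1122 : ∀ k, 46035 ≤ k → k < 56142 → pointOk (k * 22) = true := between_extend pointOk 22 46035 56133 9 (p3u1121) p3r1122

theorem p3r1123 : allRange pointOk 22 56142 9 = true := by decide +kernel
theorem p3u1123 : ∀ k, 46035 ≤ k → k < 56151 → pointOk (k * 22) = true := between_extend pointOk 22 46035 56142 9 (p3u1122) p3r1123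

theorem p3r1124 : allRange pointOk 22 56151 9 = true := by decide +kernel
theorem p3u1124 : ∀ k, 46035 ≤ k → k < 56160 → pointOk (k * 22) = true := between_extend pointOk 22 46035 56151 9 (p3u1123) p3r1124

theorem p3r1125 : allRange pointOk 22 56160 9 = true := by decide +kernel
theorem p3u1125 : ∀ k, 46035 ≤ k → k < 56169 → pointOk (k * 22) = true := between_extend pointOk 22 46035 56160 9 (p3u1124) p3r1125

theorem p3r1126 : allRange pointOk 22 56169 9 = true := by decide +kernel
theorem p3u1126 : ∀ k, 46035 ≤ k → k < 56178 → pointOk (k * 22) = true := between_extend pointOk 22 46035 56169 9 (p3u1125) p3r1126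

theorem p3r1127 : allRange pointOk 22 56178 9 = true := by decide +kernel
theorem p3u1127 : ∀ k, 46035 ≤ k → k < 56187 → pointOk (k * 22) = true := between_extend pointOk 22 46035 56178 9 (p3u1126) p3r1127

theorem p3r1128 : allRange pointOk 22 56187 9 = true := by decide +kernel
theorem p3u1128 : ∀ k, 46035 ≤ k → k < 56196 → pointOk (k * 22) = true := between_extend pointOk 22 46035 56187 9 (p3u1127) p3r1128

theorem p3r1129 : allRange pointOk 22 56196 9 = true := by decide +kernel
theorem p3u1129 : ∀ k, 46035 ≤ k → k < 56205 → pointOk (k * 22) = true := between_extend pointOk 22 46035 56196 9 (p3u1128) p3r1129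

theorem p3r1130 : allRange pointOk 22 56205 9 = true := by decide +kernel
theorem p3u1130 : ∀ k, 46035 ≤ k → k < 56214 → pointOk (k * 22) = true := between_extend pointOk 22 46035 56205 9 (p3u1129) p3r1130

theorem p3r1131 : allRange pointOk 22 56214 9 = true := by decide +kernel
theorem p3u1131 : ∀ k, 46035 ≤ k → k < 56223 → pointOk (k * 22) = true := between_extend pointOk 22 46035 56214 9 (p3u1130) p3r1131

theorem p3r1132 : allRange pointOk 22 56223 9 = true := by decide +kernel
theorem p3u1132 : ∀ k, 46035 ≤ k → k < 56232 → pointOk (k * 22) = true := between_extend pointOk 22 46035 56223 9 (p3u1131) p3r1132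

theorem p3r1133 : allRange pointOk 22 56232 9 = true := by decide +kernel
theorem p3u1133 : ∀ k, 46035 ≤ k → k < 56241 → pointOk (k * 22) = true := between_extend pointOk 22 46035 56232 9 (p3u1132) p3r1133

theorem p3r1134 : allRange pointOk 22 56241 9 = true := by decide +kernel
theorem p3u1134 : ∀ k, 46035 ≤ k → k < 56250 → pointOk (k * 22) = true := between_extend pointOk 22 46035 56241 9 (p3u1133) p3r1134

theorem p3r1135 : allRange pointOk 22 56250 9 = true := by decide +kernel
theorem p3u1135 : ∀ k, 46035 ≤ k → k < 56259 → pointOk (k * 22) = true := between_extend pointOk 22 46035 56250 9 (p3u1134) p3r1135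

theorem p3r1136 : allRange pointOk 22 56259 9 = true := by decide +kernel
theorem p3u1136 : ∀ k, 46035 ≤ k → k < 56268 → pointOk (k * 22) = true := between_extend pointOk 22 46035 56259 9 (p3u1135) p3r1136

theorem p3r1137 : allRange pointOk 22 56268 9 = true := by decide +kernel
theorem p3u1137 : ∀ k, 46035 ≤ k → k < 56277 → pointOk (k * 22) = true := between_extend pointOk 22 46035 56268 9 (p3u1136) p3r1137

theorem p3r1138 : allRange pointOk 22 56277 9 = true := by decide +kernel
theorem p3u1138 : ∀ k, 46035 ≤ k → k < 56286 → pointOk (k * 22) = true := between_extend pointOk 22 46035 56277 9 (p3u1137) p3r1138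

theorem p3r1139 : allRange pointOk 22 56286 9 = true := by decide +kernel
theorem p3u1139 : ∀ k, 46035 ≤ k → k < 56295 → pointOk (k * 22) = true := between_extend pointOk 22 46035 56286 9 (p3u1138) p3r1139

theorem p3r1140 : allRange pointOk 22 56295 9 = true := by decide +kernel
theorem p3u1140 : ∀ k, 46035 ≤ k → k < 56304 → pointOk (k * 22) = true := between_extend pointOk 22 46035 56295 9 (p3u1139) p3r1140

theorem p3r1141 : allRange pointOk 22 56304 9 = true := by decide +kernel
theorem p3u1141 : ∀ k, 46035 ≤ k → k < 56313 → pointOk (k * 22) = true := between_extend pointOk 22 46035 56304 9 (p3u1140) p3r1141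

theorem p3r1142 : allRange pointOk 22 56313 9 = true := by decide +kernel
theorem p3u1142 : ∀ k, 46035 ≤ k → k < 56322 → pointOk (k * 22) = true := between_extend pointOk 22 46035 56313 9 (p3u1141) p3r1142

theorem p3r1143 : allRange pointOk 22 56322 9 = true := by decide +kernel
theorem p3u1143 : ∀ k, 46035 ≤ k → k < 56331 → pointOk (k * 22) = true := between_extend pointOk 22 46035 56322 9 (p3u1142) p3r1143

theorem p3r1144 : allRange pointOk 22 56331 9 = true := by decide +kernel
theorem p3u1144 : ∀ k, 46035 ≤ k → k < 56340 → pointOk (k * 22) = true := between_extend pointOk 22 46035 56331 9 (p3u1143) p3r1144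

theorem p3r1145 : allRange pointOk 22 56340 9 = true := by decide +kernel
theorem p3u1145 : ∀ k, 46035 ≤ k → k < 56349 → pointOk (k * 22) = true := between_extend pointOk 22 46035 56340 9 (p3u1144) p3r1145

theorem p3r1146 : allRange pointOk 22 56349 9 = true := by decide +kernel
theorem p3u1146 : ∀ k, 46035 ≤ k → k < 56358 → pointOk (k * 22) = true := between_extend pointOk 22 46035 56349 9 (p3u1145) p3r1146

theorem p3r1147 : allRange pointOk 22 56358 9 = true := by decide +kernel
theorem p3u1147 : ∀ k, 46035 ≤ k → k < 56367 → pointOk (k * 22) = true := between_extend pointOk 22 46035 56358 9 (p3u1146) p3r1147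

theorem p3r1148 : allRange pointOk 22 56367 9 = true := by decide +kernel
theorem p3u1148 : ∀ k, 46035 ≤ k → k < 56376 → pointOk (k * 22) = true := between_extend pointOk 22 46035 56367 9 (p3u1147) p3r1148

theorem p3r1149 : allRange pointOk 22 56376 9 = true := by decide +kernel
theorem p3u1149 : ∀ k, 46035 ≤ k → k < 56385 → pointOk (k * 22) = true := between_extend pointOk 22 46035 56376 9 (p3u1148) p3r1149

theorem p3r1150 : allRange pointOk 22 56385 9 = true := by decide +kernel
theorem p3u1150 : ∀ k, 46035 ≤ k → k < 56394 → pointOk (k * 22) = true := between_extend pointOk 22 46035 56385 9 (p3u1149) p3r1150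

theorem p3r1151 : allRange pointOk 22 56394 9 = true := by decide +kernel
theorem p3u1151 : ∀ k, 46035 ≤ k → k < 56403 → pointOk (k * 22) = true := between_extend pointOk 22 46035 56394 9 (p3u1150) p3r1151

theorem p3r1152 : allRange pointOk 22 56403 9 = true := by decide +kernel
theorem p3u1152 : ∀ k, 46035 ≤ k → k < 56412 → pointOk (k * 22) = true := between_extend pointOk 22 46035 56403 9 (p3u1151) p3r1152

theorem p3r1153 : allRange pointOk 22 56412 9 = true := by decide +kernel
theorem p3u1153 : ∀ k, 46035 ≤ k → k < 56421 → pointOk (k * 22) = true := between_extend pointOk 22 46035 56412 9 (p3u1152) p3r1153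

theorem p3r1154 : allRange pointOk 22 56421 9 = true := by decide +kernel
theorem p3u1154 : ∀ k, 46035 ≤ k → k < 56430 → pointOk (k * 22) = true := between_extend pointOk 22 46035 56421 9 (p3u1153) p3r1154

theorem p3r1155 : allRange pointOk 22 56430 9 = true := by decide +kernel
theorem p3u1155 : ∀ k, 46035 ≤ k → k < 56439 → pointOk (k * 22) = true := between_extend pointOk 22 46035 56430 9 (p3u1154) p3r1155

theorem p3r1156 : allRange pointOk 22 56439 9 = true := by decide +kernel
theorem p3u1156 : ∀ k, 46035 ≤ k → k < 56448 → pointOk (k * 22) = true := between_extend pointOk 22 46035 56439 9 (p3u1155) p3r1156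

theorem p3r1157 : allRange pointOk 22 56448 9 = true := by decide +kernel
theorem p3u1157 : ∀ k, 46035 ≤ k → k < 56457 → pointOk (k * 22) = true := between_extend pointOk 22 46035 56448 9 (p3u1156) p3r1157

theorem p3r1158 : allRange pointOk 22 56457 9 = true := by decide +kernel
theorem p3u1158 : ∀ k, 46035 ≤ k → k < 56466 → pointOk (k * 22) = true := between_extend pointOk 22 46035 56457 9 (p3u1157) p3r1158

theorem p3r1159 : allRange pointOk 22 56466 9 = true := by decide +kernel
theorem p3u1159 : ∀ k, 46035 ≤ k → k < 56475 → pointOk (k * 22) = true := between_extend pointOk 22 46035 56466 9 (p3u1158) p3r1159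

theorem p3r1160 : allRange pointOk 22 56475 9 = true := by decide +kernel
theorem p3u1160 : ∀ k, 46035 ≤ k → k < 56484 → pointOk (k * 22) = true := between_extend pointOk 22 46035 56475 9 (p3u1159) p3r1160

theorem p3r1161 : allRange pointOk 22 56484 9 = true := by decide +kernel
theorem p3u1161 : ∀ k, 46035 ≤ k → k < 56493 → pointOk (k * 22) = true := between_extend pointOk 22 46035 56484 9 (p3u1160) p3r1161

theorem p3r1162 : allRange pointOk 22 56493 9 = true := by decide +kernel
theorem p3u1162 : ∀ k, 46035 ≤ k → k < 56502 → pointOk (k * 22) = true := between_extend pointOk 22 46035 56493 9 (p3u1161) p3r1162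

theorem p3r1163 : allRange pointOk 22 56502 9 = true := by decide +kernel
theorem p3u1163 : ∀ k, 46035 ≤ k → k < 56511 → pointOk (k * 22) = true := between_extend pointOk 22 46035 56502 9 (p3u1162) p3r1163

theorem p3r1164 : allRange pointOk 22 56511 9 = true := by decide +kernel
theorem p3u1164 : ∀ k, 46035 ≤ k → k < 56520 → pointOk (k * 22) = true := between_extend pointOk 22 46035 56511 9 (p3u1163) p3r1164

theorem p3r1165 : allRange pointOk 22 56520 9 = true := by decide +kernel
theorem p3u1165 : ∀ k, 46035 ≤ k → k < 56529 → pointOk (k * 22) = true := between_extend pointOk 22 46035 56520 9 (p3u1164) p3r1165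

theorem p3r1166 : allRange pointOk 22 56529 9 = true := by decide +kernel
theorem p3u1166 : ∀ k, 46035 ≤ k → k < 56538 → pointOk (k * 22) = true := between_extend pointOk 22 46035 56529 9 (p3u1165) p3r1166

theorem p3r1167 : allRange pointOk 22 56538 9 = true := by decide +kernel
theorem p3u1167 : ∀ k, 46035 ≤ k → k < 56547 → pointOk (k * 22) = true := between_extend pointOk 22 46035 56538 9 (p3u1166) p3r1167

theorem p3r1168 : allRange pointOk 22 56547 9 = true := by decide +kernel
theorem p3u1168 : ∀ k, 46035 ≤ k → k < 56556 → pointOk (k * 22) = true := between_extend pointOk 22 46035 56547 9 (p3u1167) p3r1168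

theorem p3r1169 : allRange pointOk 22 56556 9 = true := by decide +kernel
theorem p3u1169 : ∀ k, 46035 ≤ k → k < 56565 → pointOk (k * 22) = true := between_extend pointOk 22 46035 56556 9 (p3u1168) p3r1169

theorem p3r1170 : allRange pointOk 22 56565 9 = true := by decide +kernel
theorem p3u1170 : ∀ k, 46035 ≤ k → k < 56574 → pointOk (k * 22) = true := between_extend pointOk 22 46035 56565 9 (p3u1169) p3r1170

theorem p3r1171 : allRange pointOk 22 56574 9 = true := by decide +kernel
theorem p3u1171 : ∀ k, 46035 ≤ k → k < 56583 → pointOk (k * 22) = true := between_extend pointOk 22 46035 56574 9 (p3u1170) p3r1171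

theorem p3r1172 : allRange pointOk 22 56583 9 = true := by decide +kernel
theorem p3u1172 : ∀ k, 46035 ≤ k → k < 56592 → pointOk (k * 22) = true := between_extend pointOk 22 46035 56583 9 (p3u1171) p3r1172

theorem p3r1173 : allRange pointOk 22 56592 9 = true := by decide +kernel
theorem p3u1173 : ∀ k, 46035 ≤ k → k < 56601 → pointOk (k * 22) = true := between_extend pointOk 22 46035 56592 9 (p3u1172) p3r1173

theorem p3r1174 : allRange pointOk 22 56601 9 = true := by decide +kernel
theorem p3u1174 : ∀ k, 46035 ≤ k → k < 56610 → pointOk (k * 22) = true := between_extend pointOk 22 46035 56601 9 (p3u1173) p3r1174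

theorem p3r1175 : allRange pointOk 22 56610 9 = true := by decide +kernel
theorem p3u1175 : ∀ k, 46035 ≤ k → k < 56619 → pointOk (k * 22) = true := between_extend pointOk 22 46035 56610 9 (p3u1174) p3r1175

theorem p3r1176 : allRange pointOk 22 56619 9 = true := by decide +kernel
theorem p3u1176 : ∀ k, 46035 ≤ k → k < 56628 → pointOk (k * 22) = true := between_extend pointOk 22 46035 56619 9 (p3u1175) p3r1176

theorem p3r1177 : allRange pointOk 22 56628 9 = true := by decide +kernel
theorem p3u1177 : ∀ k, 46035 ≤ k → k < 56637 → pointOk (k * 22) = true := between_extend pointOk 22 46035 56628 9 (p3u1176) p3r1177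

theorem p3r1178 : allRange pointOk 22 56637 9 = true := by decide +kernel
theorem p3u1178 : ∀ k, 46035 ≤ k → k < 56646 → pointOk (k * 22) = true := between_extend pointOk 22 46035 56637 9 (p3u1177) p3r1178

theorem p3r1179 : allRange pointOk 22 56646 9 = true := by decide +kernel
theorem p3u1179 : ∀ k, 46035 ≤ k → k < 56655 → pointOk (k * 22) = true := between_extend pointOk 22 46035 56646 9 (p3u1178) p3r1179

theorem p3r1180 : allRange pointOk 22 56655 9 = true := by decide +kernel
theorem p3u1180 : ∀ k, 46035 ≤ k → k < 56664 → pointOk (k * 22) = true := between_extend pointOk 22 46035 56655 9 (p3u1179) p3r1180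

theorem p3r1181 : allRange pointOk 22 56664 9 = true := by decide +kernel
theorem p3u1181 : ∀ k, 46035 ≤ k → k < 56673 → pointOk (k * 22) = true := between_extend pointOk 22 46035 56664 9 (p3u1180) p3r1181

theorem p3r1182 : allRange pointOk 22 56673 9 = true := by decide +kernel
theorem p3u1182 : ∀ k, 46035 ≤ k → k < 56682 → pointOk (k * 22) = true := between_extend pointOk 22 46035 56673 9 (p3u1181) p3r1182

theorem p3r1183 : allRange pointOk 22 56682 9 = true := by decide +kernel
theorem p3u1183 : ∀ k, 46035 ≤ k → k < 56691 → pointOk (k * 22) = true := between_extend pointOk 22 46035 56682 9 (p3u1182) p3r1183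

theorem p3r1184 : allRange pointOk 22 56691 9 = true := by decide +kernel
theorem p3u1184 : ∀ k, 46035 ≤ k → k < 56700 → pointOk (k * 22) = true := between_extend pointOk 22 46035 56691 9 (p3u1183) p3r1184

theorem p3r1185 : allRange pointOk 22 56700 9 = true := by decide +kernel
theorem p3u1185 : ∀ k, 46035 ≤ k → k < 56709 → pointOk (k * 22) = true := between_extend pointOk 22 46035 56700 9 (p3u1184) p3r1185

theorem p3r1186 : allRange pointOk 22 56709 9 = true := by decide +kernel
theorem p3u1186 : ∀ k, 46035 ≤ k → k < 56718 → pointOk (k * 22) = true := between_extend pointOk 22 46035 56709 9 (p3u1185) p3r1186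

theorem p3r1187 : allRange pointOk 22 56718 9 = true := by decide +kernel
theorem p3u1187 : ∀ k, 46035 ≤ k → k < 56727 → pointOk (k * 22) = true := between_extend pointOk 22 46035 56718 9 (p3u1186) p3r1187

theorem p3r1188 : allRange pointOk 22 56727 9 = true := by decide +kernel
theorem p3u1188 : ∀ k, 46035 ≤ k → k < 56736 → pointOk (k * 22) = true := between_extend pointOk 22 46035 56727 9 (p3u1187) p3r1188

theorem p3r1189 : allRange pointOk 22 56736 9 = true := by decide +kernel
theorem p3u1189 : ∀ k, 46035 ≤ k → k < 56745 → pointOk (k * 22) = true := between_extend pointOk 22 46035 56736 9 (p3u1188) p3r1189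

theorem p3r1190 : allRange pointOk 22 56745 9 = true := by decide +kernel
theorem p3u1190 : ∀ k, 46035 ≤ k → k < 56754 → pointOk (k * 22) = true := between_extend pointOk 22 46035 56745 9 (p3u1189) p3r1190

theorem p3r1191 : allRange pointOk 22 56754 9 = true := by decide +kernel
theorem p3u1191 : ∀ k, 46035 ≤ k → k < 56763 → pointOk (k * 22) = true := between_extend pointOk 22 46035 56754 9 (p3u1190) p3r1191

theorem p3r1192 : allRange pointOk 22 56763 9 = true := by decide +kernel
theorem p3u1192 : ∀ k, 46035 ≤ k → k < 56772 → pointOk (k * 22) = true := between_extend pointOk 22 46035 56763 9 (p3u1191) p3r1192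

theorem p3r1193 : allRange pointOk 22 56772 9 = true := by decide +kernel
theorem p3u1193 : ∀ k, 46035 ≤ k → k < 56781 → pointOk (k * 22) = true := between_extend pointOk 22 46035 56772 9 (p3u1192) p3r1193

theorem p3r1194 : allRange pointOk 22 56781 9 = true := by decide +kernel
theorem p3u1194 : ∀ k, 46035 ≤ k → k < 56790 → pointOk (k * 22) = true := between_extend pointOk 22 46035 56781 9 (p3u1193) p3r1194

theorem p3r1195 : allRange pointOk 22 56790 9 = true := by decide +kernel
theorem p3u1195 : ∀ k, 46035 ≤ k → k < 56799 → pointOk (k * 22) = true := between_extend pointOk 22 46035 56790 9 (p3u1194) p3r1195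

theorem p3r1196 : allRange pointOk 22 56799 9 = true := by decide +kernel
theorem p3u1196 : ∀ k, 46035 ≤ k → k < 56808 → pointOk (k * 22) = true := between_extend pointOk 22 46035 56799 9 (p3u1195) p3r1196

theorem p3r1197 : allRange pointOk 22 56808 9 = true := by decide +kernel
theorem p3u1197 : ∀ k, 46035 ≤ k → k < 56817 → pointOk (k * 22) = true := between_extend pointOk 22 46035 56808 9 (p3u1196) p3r1197

theorem p3r1198 : allRange pointOk 22 56817 9 = true := by decide +kernel
theorem p3u1198 : ∀ k, 46035 ≤ k → k < 56826 → pointOk (k * 22) = true := between_extend pointOk 22 46035 56817 9 (p3u1197) p3r1198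

theorem p3r1199 : allRange pointOk 22 56826 9 = true := by decide +kernel
theorem p3u1199 : ∀ k, 46035 ≤ k → k < 56835 → pointOk (k * 22) = true := between_extend pointOk 22 46035 56826 9 (p3u1198) p3r1199

theorem p3r1200 : allRange pointOk 22 56835 9 = true := by decide +kernel
theorem p3u1200 : ∀ k, 46035 ≤ k → k < 56844 → pointOk (k * 22) = true := between_extend pointOk 22 46035 56835 9 (p3u1199) p3r1200

theorem p3r1201 : allRange pointOk 22 56844 9 = true := by decide +kernel
theorem p3u1201 : ∀ k, 46035 ≤ k → k < 56853 → pointOk (k * 22) = true := between_extend pointOk 22 46035 56844 9 (p3u1200) p3r1201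

theorem p3r1202 : allRange pointOk 22 56853 9 = true := by decide +kernel
theorem p3u1202 : ∀ k, 46035 ≤ k → k < 56862 → pointOk (k * 22) = true := between_extend pointOk 22 46035 56853 9 (p3u1201) p3r1202

theorem p3r1203 : allRange pointOk 22 56862 9 = true := by decide +kernel
theorem p3u1203 : ∀ k, 46035 ≤ k → k < 56871 → pointOk (k * 22) = true := between_extend pointOk 22 46035 56862 9 (p3u1202) p3r1203

theorem p3r1204 : allRange pointOk 22 56871 9 = true := by decide +kernel
theorem p3u1204 : ∀ k, 46035 ≤ k → k < 56880 → pointOk (k * 22) = true := between_extend pointOk 22 46035 56871 9 (p3u1203) p3r1204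

theorem p3r1205 : allRange pointOk 22 56880 9 = true := by decide +kernel
theorem p3u1205 : ∀ k, 46035 ≤ k → k < 56889 → pointOk (k * 22) = true := between_extend pointOk 22 46035 56880 9 (p3u1204) p3r1205

theorem p3r1206 : allRange pointOk 22 56889 9 = true := by decide +kernel
theorem p3u1206 : ∀ k, 46035 ≤ k → k < 56898 → pointOk (k * 22) = true := between_extend pointOk 22 46035 56889 9 (p3u1205) p3r1206

theorem p3r1207 : allRange pointOk 22 56898 9 = true := by decide +kernel
theorem p3u1207 : ∀ k, 46035 ≤ k → k < 56907 → pointOk (k * 22) = true := between_extend pointOk 22 46035 56898 9 (p3u1206) p3r1207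

theorem p3r1208 : allRange pointOk 22 56907 9 = true := by decide +kernel
theorem p3u1208 : ∀ k, 46035 ≤ k → k < 56916 → pointOk (k * 22) = true := between_extend pointOk 22 46035 56907 9 (p3u1207) p3r1208

theorem p3r1209 : allRange pointOk 22 56916 9 = true := by decide +kernel
theorem p3u1209 : ∀ k, 46035 ≤ k → k < 56925 → pointOk (k * 22) = true := between_extend pointOk 22 46035 56916 9 (p3u1208) p3r1209

theorem p3r1210 : allRange pointOk 22 56925 9 = true := by decide +kernel
theorem p3u1210 : ∀ k, 46035 ≤ k → k < 56934 → pointOk (k * 22) = true := between_extend pointOk 22 46035 56925 9 (p3u1209) p3r1210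

theorem p3r1211 : allRange pointOk 22 56934 9 = true := by decide +kernel
theorem p3u1211 : ∀ k, 46035 ≤ k → k < 56943 → pointOk (k * 22) = true := between_extend pointOk 22 46035 56934 9 (p3u1210) p3r1211

theorem p3r1212 : allRange pointOk 22 56943 9 = true := by decide +kernel
theorem p3u1212 : ∀ k, 46035 ≤ k → k < 56952 → pointOk (k * 22) = true := between_extend pointOk 22 46035 56943 9 (p3u1211) p3r1212

theorem p3r1213 : allRange pointOk 22 56952 9 = true := by decide +kernel
theorem p3u1213 : ∀ k, 46035 ≤ k → k < 56961 → pointOk (k * 22) = true := between_extend pointOk 22 46035 56952 9 (p3u1212) p3r1213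

theorem p3r1214 : allRange pointOk 22 56961 9 = true := by decide +kernel
theorem p3u1214 : ∀ k, 46035 ≤ k → k < 56970 → pointOk (k * 22) = true := between_extend pointOk 22 46035 56961 9 (p3u1213) p3r1214

theorem p3r1215 : allRange pointOk 22 56970 9 = true := by decide +kernel
theorem p3u1215 : ∀ k, 46035 ≤ k → k < 56979 → pointOk (k * 22) = true := between_extend pointOk 22 46035 56970 9 (p3u1214) p3r1215

theorem p3r1216 : allRange pointOk 22 56979 9 = true := by decide +kernel
theorem p3u1216 : ∀ k, 46035 ≤ k → k < 56988 → pointOk (k * 22) = true := between_extend pointOk 22 46035 56979 9 (p3u1215) p3r1216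

theorem p3r1217 : allRange pointOk 22 56988 9 = true := by decide +kernel
theorem p3u1217 : ∀ k, 46035 ≤ k → k < 56997 → pointOk (k * 22) = true := between_extend pointOk 22 46035 56988 9 (p3u1216) p3r1217

theorem p3r1218 : allRange pointOk 22 56997 9 = true := by decide +kernel
theorem p3u1218 : ∀ k, 46035 ≤ k → k < 57006 → pointOk (k * 22) = true := between_extend pointOk 22 46035 56997 9 (p3u1217) p3r1218

theorem p3r1219 : allRange pointOk 22 57006 9 = true := by decide +kernel
theorem p3u1219 : ∀ k, 46035 ≤ k → k < 57015 → pointOk (k * 22) = true := between_extend pointOk 22 46035 57006 9 (p3u1218) p3r1219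

theorem p3r1220 : allRange pointOk 22 57015 9 = true := by decide +kernel
theorem p3u1220 : ∀ k, 46035 ≤ k → k < 57024 → pointOk (k * 22) = true := between_extend pointOk 22 46035 57015 9 (p3u1219) p3r1220

theorem p3r1221 : allRange pointOk 22 57024 9 = true := by decide +kernel
theorem p3u1221 : ∀ k, 46035 ≤ k → k < 57033 → pointOk (k * 22) = true := between_extend pointOk 22 46035 57024 9 (p3u1220) p3r1221

theorem p3r1222 : allRange pointOk 22 57033 9 = true := by decide +kernel
theorem p3u1222 : ∀ k, 46035 ≤ k → k < 57042 → pointOk (k * 22) = true := between_extend pointOk 22 46035 57033 9 (p3u1221) p3r1222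

theorem p3r1223 : allRange pointOk 22 57042 9 = true := by decide +kernel
theorem p3u1223 : ∀ k, 46035 ≤ k → k < 57051 → pointOk (k * 22) = true := between_extend pointOk 22 46035 57042 9 (p3u1222) p3r1223

theorem p3r1224 : allRange pointOk 22 57051 9 = true := by decide +kernel
theorem p3u1224 : ∀ k, 46035 ≤ k → k < 57060 → pointOk (k * 22) = true := between_extend pointOk 22 46035 57051 9 (p3u1223) p3r1224

theorem p3r1225 : allRange pointOk 22 57060 9 = true := by decide +kernel
theorem p3u1225 : ∀ k, 46035 ≤ k → k < 57069 → pointOk (k * 22) = true := between_extend pointOk 22 46035 57060 9 (p3u1224) p3r1225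

theorem p3r1226 : allRange pointOk 22 57069 9 = true := by decide +kernel
theorem p3u1226 : ∀ k, 46035 ≤ k → k < 57078 → pointOk (k * 22) = true := between_extend pointOk 22 46035 57069 9 (p3u1225) p3r1226

theorem p3r1227 : allRange pointOk 22 57078 9 = true := by decide +kernel
theorem p3u1227 : ∀ k, 46035 ≤ k → k < 57087 → pointOk (k * 22) = true := between_extend pointOk 22 46035 57078 9 (p3u1226) p3r1227

theorem p3r1228 : allRange pointOk 22 57087 9 = true := by decide +kernel
theorem p3u1228 : ∀ k, 46035 ≤ k → k < 57096 → pointOk (k * 22) = true := between_extend pointOk 22 46035 57087 9 (p3u1227) p3r1228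

theorem p3r1229 : allRange pointOk 22 57096 9 = true := by decide +kernel
theorem p3u1229 : ∀ k, 46035 ≤ k → k < 57105 → pointOk (k * 22) = true := between_extend pointOk 22 46035 57096 9 (p3u1228) p3r1229

theorem p3r1230 : allRange pointOk 22 57105 9 = true := by decide +kernel
theorem p3u1230 : ∀ k, 46035 ≤ k → k < 57114 → pointOk (k * 22) = true := between_extend pointOk 22 46035 57105 9 (p3u1229) p3r1230

theorem p3r1231 : allRange pointOk 22 57114 9 = true := by decide +kernel
theorem p3u1231 : ∀ k, 46035 ≤ k → k < 57123 → pointOk (k * 22) = true := between_extend pointOk 22 46035 57114 9 (p3u1230) p3r1231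

theorem p3r1232 : allRange pointOk 22 57123 9 = true := by decide +kernel
theorem p3u1232 : ∀ k, 46035 ≤ k → k < 57132 → pointOk (k * 22) = true := between_extend pointOk 22 46035 57123 9 (p3u1231) p3r1232

theorem p3r1233 : allRange pointOk 22 57132 9 = true := by decide +kernel
theorem p3u1233 : ∀ k, 46035 ≤ k → k < 57141 → pointOk (k * 22) = true := between_extend pointOk 22 46035 57132 9 (p3u1232) p3r1233

theorem p3r1234 : allRange pointOk 22 57141 9 = true := by decide +kernel
theorem p3u1234 : ∀ k, 46035 ≤ k → k < 57150 → pointOk (k * 22) = true := between_extend pointOk 22 46035 57141 9 (p3u1233) p3r1234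

theorem p3r1235 : allRange pointOk 22 57150 9 = true := by decide +kernel
theorem p3u1235 : ∀ k, 46035 ≤ k → k < 57159 → pointOk (k * 22) = true := between_extend pointOk 22 46035 57150 9 (p3u1234) p3r1235

theorem p3r1236 : allRange pointOk 22 57159 9 = true := by decide +kernel
theorem p3u1236 : ∀ k, 46035 ≤ k → k < 57168 → pointOk (k * 22) = true := between_extend pointOk 22 46035 57159 9 (p3u1235) p3r1236

theorem p3r1237 : allRange pointOk 22 57168 9 = true := by decide +kernel
theorem p3u1237 : ∀ k, 46035 ≤ k → k < 57177 → pointOk (k * 22) = true := between_extend pointOk 22 46035 57168 9 (p3u1236) p3r1237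

theorem p3r1238 : allRange pointOk 22 57177 9 = true := by decide +kernel
theorem p3u1238 : ∀ k, 46035 ≤ k → k < 57186 → pointOk (k * 22) = true := between_extend pointOk 22 46035 57177 9 (p3u1237) p3r1238

theorem p3r1239 : allRange pointOk 22 57186 9 = true := by decide +kernel
theorem p3u1239 : ∀ k, 46035 ≤ k → k < 57195 → pointOk (k * 22) = true := between_extend pointOk 22 46035 57186 9 (p3u1238) p3r1239

theorem p3r1240 : allRange pointOk 22 57195 9 = true := by decide +kernel
theorem p3u1240 : ∀ k, 46035 ≤ k → k < 57204 → pointOk (k * 22) = true := between_extend pointOk 22 46035 57195 9 (p3u1239) p3r1240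

theorem p3r1241 : allRange pointOk 22 57204 9 = true := by decide +kernel
theorem p3u1241 : ∀ k, 46035 ≤ k → k < 57213 → pointOk (k * 22) = true := between_extend pointOk 22 46035 57204 9 (p3u1240) p3r1241

theorem p3r1242 : allRange pointOk 22 57213 9 = true := by decide +kernel
theorem p3u1242 : ∀ k, 46035 ≤ k → k < 57222 → pointOk (k * 22) = true := between_extend pointOk 22 46035 57213 9 (p3u1241) p3r1242

theorem p3r1243 : allRange pointOk 22 57222 9 = true := by decide +kernel
theorem p3u1243 : ∀ k, 46035 ≤ k → k < 57231 → pointOk (k * 22) = true := between_extend pointOk 22 46035 57222 9 (p3u1242) p3r1243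

theorem p3r1244 : allRange pointOk 22 57231 9 = true := by decide +kernel
theorem p3u1244 : ∀ k, 46035 ≤ k → k < 57240 → pointOk (k * 22) = true := between_extend pointOk 22 46035 57231 9 (p3u1243) p3r1244

theorem p3r1245 : allRange pointOk 22 57240 9 = true := by decide +kernel
theorem p3u1245 : ∀ k, 46035 ≤ k → k < 57249 → pointOk (k * 22) = true := between_extend pointOk 22 46035 57240 9 (p3u1244) p3r1245

theorem p3r1246 : allRange pointOk 22 57249 9 = true := by decide +kernel
theorem p3u1246 : ∀ k, 46035 ≤ k → k < 57258 → pointOk (k * 22) = true := between_extend pointOk 22 46035 57249 9 (p3u1245) p3r1246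

theorem p3r1247 : allRange pointOk 22 57258 9 = true := by decide +kernel
theorem p3u1247 : ∀ k, 46035 ≤ k → k < 57267 → pointOk (k * 22) = true := between_extend pointOk 22 46035 57258 9 (p3u1246) p3r1247

theorem p3r1248 : allRange pointOk 22 57267 9 = true := by decide +kernel
theorem p3u1248 : ∀ k, 46035 ≤ k → k < 57276 → pointOk (k * 22) = true := between_extend pointOk 22 46035 57267 9 (p3u1247) p3r1248

theorem p3r1249 : allRange pointOk 22 57276 9 = true := by decide +kernel
theorem p3u1249 : ∀ k, 46035 ≤ k → k < 57285 → pointOk (k * 22) = true := between_extend pointOk 22 46035 57276 9 (p3u1248) p3r1249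

theorem p3r1250 : allRange pointOk 22 57285 9 = true := by decide +kernel
theorem p3u1250 : ∀ k, 46035 ≤ k → k < 57294 → pointOk (k * 22) = true := between_extend pointOk 22 46035 57285 9 (p3u1249) p3r1250

theorem p3r1251 : allRange pointOk 22 57294 9 = true := by decide +kernel
theorem p3u1251 : ∀ k, 46035 ≤ k → k < 57303 → pointOk (k * 22) = true := between_extend pointOk 22 46035 57294 9 (p3u1250) p3r1251

theorem p3r1252 : allRange pointOk 22 57303 9 = true := by decide +kernel
theorem p3u1252 : ∀ k, 46035 ≤ k → k < 57312 → pointOk (k * 22) = true := between_extend pointOk 22 46035 57303 9 (p3u1251) p3r1252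

theorem p3r1253 : allRange pointOk 22 57312 9 = true := by decide +kernel
theorem p3u1253 : ∀ k, 46035 ≤ k → k < 57321 → pointOk (k * 22) = true := between_extend pointOk 22 46035 57312 9 (p3u1252) p3r1253

theorem p3r1254 : allRange pointOk 22 57321 9 = true := by decide +kernel
theorem p3u1254 : ∀ k, 46035 ≤ k → k < 57330 → pointOk (k * 22) = true := between_extend pointOk 22 46035 57321 9 (p3u1253) p3r1254

theorem p3r1255 : allRange pointOk 22 57330 9 = true := by decide +kernel
theorem p3u1255 : ∀ k, 46035 ≤ k → k < 57339 → pointOk (k * 22) = true := between_extend pointOk 22 46035 57330 9 (p3u1254) p3r1255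

theorem p3r1256 : allRange pointOk 22 57339 9 = true := by decide +kernel
theorem p3u1256 : ∀ k, 46035 ≤ k → k < 57348 → pointOk (k * 22) = true := between_extend pointOk 22 46035 57339 9 (p3u1255) p3r1256

theorem p3r1257 : allRange pointOk 22 57348 9 = true := by decide +kernel
theorem p3u1257 : ∀ k, 46035 ≤ k → k < 57357 → pointOk (k * 22) = true := between_extend pointOk 22 46035 57348 9 (p3u1256) p3r1257

theorem p3r1258 : allRange pointOk 22 57357 9 = true := by decide +kernel
theorem p3u1258 : ∀ k, 46035 ≤ k → k < 57366 → pointOk (k * 22) = true := between_extend pointOk 22 46035 57357 9 (p3u1257) p3r1258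

theorem p3r1259 : allRange pointOk 22 57366 9 = true := by decide +kernel
theorem p3u1259 : ∀ k, 46035 ≤ k → k < 57375 → pointOk (k * 22) = true := between_extend pointOk 22 46035 57366 9 (p3u1258) p3r1259

theorem p3r1260 : allRange pointOk 22 57375 9 = true := by decide +kernel
theorem p3u1260 : ∀ k, 46035 ≤ k → k < 57384 → pointOk (k * 22) = true := between_extend pointOk 22 46035 57375 9 (p3u1259) p3r1260

theorem p3r1261 : allRange pointOk 22 57384 9 = true := by decide +kernel
theorem p3u1261 : ∀ k, 46035 ≤ k → k < 57393 → pointOk (k * 22) = true := between_extend pointOk 22 46035 57384 9 (p3u1260) p3r1261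

theorem p3r1262 : allRange pointOk 22 57393 9 = true := by decide +kernel
theorem p3u1262 : ∀ k, 46035 ≤ k → k < 57402 → pointOk (k * 22) = true := between_extend pointOk 22 46035 57393 9 (p3u1261) p3r1262

theorem p3r1263 : allRange pointOk 22 57402 9 = true := by decide +kernel
theorem p3u1263 : ∀ k, 46035 ≤ k → k < 57411 → pointOk (k * 22) = true := between_extend pointOk 22 46035 57402 9 (p3u1262) p3r1263

theorem p3r1264 : allRange pointOk 22 57411 9 = true := by decide +kernel
theorem p3u1264 : ∀ k, 46035 ≤ k → k < 57420 → pointOk (k * 22) = true := between_extend pointOk 22 46035 57411 9 (p3u1263) p3r1264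

theorem p3r1265 : allRange pointOk 22 57420 9 = true := by decide +kernel
theorem p3u1265 : ∀ k, 46035 ≤ k → k < 57429 → pointOk (k * 22) = true := between_extend pointOk 22 46035 57420 9 (p3u1264) p3r1265

theorem p3r1266 : allRange pointOk 22 57429 9 = true := by decide +kernel
theorem p3u1266 : ∀ k, 46035 ≤ k → k < 57438 → pointOk (k * 22) = true := between_extend pointOk 22 46035 57429 9 (p3u1265) p3r1266

theorem p3r1267 : allRange pointOk 22 57438 9 = true := by decide +kernel
theorem p3u1267 : ∀ k, 46035 ≤ k → k < 57447 → pointOk (k * 22) = true := between_extend pointOk 22 46035 57438 9 (p3u1266) p3r1267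

theorem p3r1268 : allRange pointOk 22 57447 9 = true := by decide +kernel
theorem p3u1268 : ∀ k, 46035 ≤ k → k < 57456 → pointOk (k * 22) = true := between_extend pointOk 22 46035 57447 9 (p3u1267) p3r1268

theorem p3r1269 : allRange pointOk 22 57456 9 = true := by decide +kernel
theorem p3u1269 : ∀ k, 46035 ≤ k → k < 57465 → pointOk (k * 22) = true := between_extend pointOk 22 46035 57456 9 (p3u1268) p3r1269

theorem p3r1270 : allRange pointOk 22 57465 9 = true := by decide +kernel
theorem p3u1270 : ∀ k, 46035 ≤ k → k < 57474 → pointOk (k * 22) = true := between_extend pointOk 22 46035 57465 9 (p3u1269) p3r1270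

theorem p3r1271 : allRange pointOk 22 57474 9 = true := by decide +kernel
theorem p3u1271 : ∀ k, 46035 ≤ k → k < 57483 → pointOk (k * 22) = true := between_extend pointOk 22 46035 57474 9 (p3u1270) p3r1271

theorem p3r1272 : allRange pointOk 22 57483 9 = true := by decide +kernel
theorem p3u1272 : ∀ k, 46035 ≤ k → k < 57492 → pointOk (k * 22) = true := between_extend pointOk 22 46035 57483 9 (p3u1271) p3r1272

theorem p3r1273 : allRange pointOk 22 57492 9 = true := by decide +kernel
theorem p3u1273 : ∀ k, 46035 ≤ k → k < 57501 → pointOk (k * 22) = true := between_extend pointOk 22 46035 57492 9 (p3u1272) p3r1273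

theorem p3r1274 : allRange pointOk 22 57501 9 = true := by decide +kernel
theorem p3u1274 : ∀ k, 46035 ≤ k → k < 57510 → pointOk (k * 22) = true := between_extend pointOk 22 46035 57501 9 (p3u1273) p3r1274

theorem p3r1275 : allRange pointOk 22 57510 9 = true := by decide +kernel
theorem p3u1275 : ∀ k, 46035 ≤ k → k < 57519 → pointOk (k * 22) = true := between_extend pointOk 22 46035 57510 9 (p3u1274) p3r1275

theorem p3r1276 : allRange pointOk 22 57519 9 = true := by decide +kernel
theorem p3u1276 : ∀ k, 46035 ≤ k → k < 57528 → pointOk (k * 22) = true := between_extend pointOk 22 46035 57519 9 (p3u1275) p3r1276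

theorem p3r1277 : allRange pointOk 22 57528 9 = true := by decide +kernel
theorem p3u1277 : ∀ k, 46035 ≤ k → k < 57537 → pointOk (k * 22) = true := between_extend pointOk 22 46035 57528 9 (p3u1276) p3r1277

theorem p3r1278 : allRange pointOk 22 57537 9 = true := by decide +kernel
theorem p3u1278 : ∀ k, 46035 ≤ k → k < 57546 → pointOk (k * 22) = true := between_extend pointOk 22 46035 57537 9 (p3u1277) p3r1278

theorem p3r1279 : allRange pointOk 22 57546 9 = true := by decide +kernel
theorem p3u1279 : ∀ k, 46035 ≤ k → k < 57555 → pointOk (k * 22) = true := between_extend pointOk 22 46035 57546 9 (p3u1278) p3r1279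

theorem p3r1280 : allRange pointOk 22 57555 9 = true := by decide +kernel
theorem p3u1280 : ∀ k, 46035 ≤ k → k < 57564 → pointOk (k * 22) = true := between_extend pointOk 22 46035 57555 9 (p3u1279) p3r1280

theorem p3r1281 : allRange pointOk 22 57564 9 = true := by decide +kernel
theorem p3u1281 : ∀ k, 46035 ≤ k → k < 57573 → pointOk (k * 22) = true := between_extend pointOk 22 46035 57564 9 (p3u1280) p3r1281

theorem p3r1282 : allRange pointOk 22 57573 9 = true := by decide +kernel
theorem p3u1282 : ∀ k, 46035 ≤ k → k < 57582 → pointOk (k * 22) = true := between_extend pointOk 22 46035 57573 9 (p3u1281) p3r1282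

theorem p3r1283 : allRange pointOk 22 57582 9 = true := by decide +kernel
theorem p3u1283 : ∀ k, 46035 ≤ k → k < 57591 → pointOk (k * 22) = true := between_extend pointOk 22 46035 57582 9 (p3u1282) p3r1283

theorem p3r1284 : allRange pointOk 22 57591 9 = true := by decide +kernel
theorem p3u1284 : ∀ k, 46035 ≤ k → k < 57600 → pointOk (k * 22) = true := between_extend pointOk 22 46035 57591 9 (p3u1283) p3r1284

theorem p3r1285 : allRange pointOk 22 57600 9 = true := by decide +kernel
theorem p3u1285 : ∀ k, 46035 ≤ k → k < 57609 → pointOk (k * 22) = true := between_extend pointOk 22 46035 57600 9 (p3u1284) p3r1285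

theorem p3r1286 : allRange pointOk 22 57609 9 = true := by decide +kernel
theorem p3u1286 : ∀ k, 46035 ≤ k → k < 57618 → pointOk (k * 22) = true := between_extend pointOk 22 46035 57609 9 (p3u1285) p3r1286

theorem p3r1287 : allRange pointOk 22 57618 9 = true := by decide +kernel
theorem p3u1287 : ∀ k, 46035 ≤ k → k < 57627 → pointOk (k * 22) = true := between_extend pointOk 22 46035 57618 9 (p3u1286) p3r1287

theorem p3r1288 : allRange pointOk 22 57627 9 = true := by decide +kernel
theorem p3u1288 : ∀ k, 46035 ≤ k → k < 57636 → pointOk (k * 22) = true := between_extend pointOk 22 46035 57627 9 (p3u1287) p3r1288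

theorem p3r1289 : allRange pointOk 22 57636 9 = true := by decide +kernel
theorem p3u1289 : ∀ k, 46035 ≤ k → k < 57645 → pointOk (k * 22) = true := between_extend pointOk 22 46035 57636 9 (p3u1288) p3r1289

theorem p3r1290 : allRange pointOk 22 57645 9 = true := by decide +kernel
theorem p3u1290 : ∀ k, 46035 ≤ k → k < 57654 → pointOk (k * 22) = true := between_extend pointOk 22 46035 57645 9 (p3u1289) p3r1290

theorem p3r1291 : allRange pointOk 22 57654 9 = true := by decide +kernel
theorem p3u1291 : ∀ k, 46035 ≤ k → k < 57663 → pointOk (k * 22) = true := between_extend pointOk 22 46035 57654 9 (p3u1290) p3r1291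

theorem p3r1292 : allRange pointOk 22 57663 9 = true := by decide +kernel
theorem p3u1292 : ∀ k, 46035 ≤ k → k < 57672 → pointOk (k * 22) = true := between_extend pointOk 22 46035 57663 9 (p3u1291) p3r1292

theorem p3r1293 : allRange pointOk 22 57672 9 = true := by decide +kernel
theorem p3u1293 : ∀ k, 46035 ≤ k → k < 57681 → pointOk (k * 22) = true := between_extend pointOk 22 46035 57672 9 (p3u1292) p3r1293

theorem p3r1294 : allRange pointOk 22 57681 9 = true := by decide +kernel
theorem p3u1294 : ∀ k, 46035 ≤ k → k < 57690 → pointOk (k * 22) = true := between_extend pointOk 22 46035 57681 9 (p3u1293) p3r1294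

theorem p3r1295 : allRange pointOk 22 57690 9 = true := by decide +kernel
theorem p3u1295 : ∀ k, 46035 ≤ k → k < 57699 → pointOk (k * 22) = true := between_extend pointOk 22 46035 57690 9 (p3u1294) p3r1295

theorem p3r1296 : allRange pointOk 22 57699 9 = true := by decide +kernel
theorem p3u1296 : ∀ k, 46035 ≤ k → k < 57708 → pointOk (k * 22) = true := between_extend pointOk 22 46035 57699 9 (p3u1295) p3r1296

theorem p3r1297 : allRange pointOk 22 57708 9 = true := by decide +kernel
theorem p3u1297 : ∀ k, 46035 ≤ k → k < 57717 → pointOk (k * 22) = true := between_extend pointOk 22 46035 57708 9 (p3u1296) p3r1297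

theorem p3r1298 : allRange pointOk 22 57717 9 = true := by decide +kernel
theorem p3u1298 : ∀ k, 46035 ≤ k → k < 57726 → pointOk (k * 22) = true := between_extend pointOk 22 46035 57717 9 (p3u1297) p3r1298

theorem p3r1299 : allRange pointOk 22 57726 9 = true := by decide +kernel
theorem p3u1299 : ∀ k, 46035 ≤ k → k < 57735 → pointOk (k * 22) = true := between_extend pointOk 22 46035 57726 9 (p3u1298) p3r1299

theorem p3r1300 : allRange pointOk 22 57735 9 = true := by decide +kernel
theorem p3u1300 : ∀ k, 46035 ≤ k → k < 57744 → pointOk (k * 22) = true := between_extend pointOk 22 46035 57735 9 (p3u1299) p3r1300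

theorem p3r1301 : allRange pointOk 22 57744 9 = true := by decide +kernel
theorem p3u1301 : ∀ k, 46035 ≤ k → k < 57753 → pointOk (k * 22) = true := between_extend pointOk 22 46035 57744 9 (p3u1300) p3r1301

theorem p3r1302 : allRange pointOk 22 57753 9 = true := by decide +kernel
theorem p3u1302 : ∀ k, 46035 ≤ k → k < 57762 → pointOk (k * 22) = true := between_extend pointOk 22 46035 57753 9 (p3u1301) p3r1302

theorem p3r1303 : allRange pointOk 22 57762 9 = true := by decide +kernel
theorem p3u1303 : ∀ k, 46035 ≤ k → k < 57771 → pointOk (k * 22) = true := between_extend pointOk 22 46035 57762 9 (p3u1302) p3r1303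

theorem p3r1304 : allRange pointOk 22 57771 9 = true := by decide +kernel
theorem p3u1304 : ∀ k, 46035 ≤ k → k < 57780 → pointOk (k * 22) = true := between_extend pointOk 22 46035 57771 9 (p3u1303) p3r1304

theorem p3r1305 : allRange pointOk 22 57780 9 = true := by decide +kernel
theorem p3u1305 : ∀ k, 46035 ≤ k → k < 57789 → pointOk (k * 22) = true := between_extend pointOk 22 46035 57780 9 (p3u1304) p3r1305

theorem p3r1306 : allRange pointOk 22 57789 9 = true := by decide +kernel
theorem p3u1306 : ∀ k, 46035 ≤ k → k < 57798 → pointOk (k * 22) = true := between_extend pointOk 22 46035 57789 9 (p3u1305) p3r1306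

theorem p3r1307 : allRange pointOk 22 57798 9 = true := by decide +kernel
theorem p3u1307 : ∀ k, 46035 ≤ k → k < 57807 → pointOk (k * 22) = true := between_extend pointOk 22 46035 57798 9 (p3u1306) p3r1307

theorem p3r1308 : allRange pointOk 22 57807 9 = true := by decide +kernel
theorem p3u1308 : ∀ k, 46035 ≤ k → k < 57816 → pointOk (k * 22) = true := between_extend pointOk 22 46035 57807 9 (p3u1307) p3r1308

theorem p3r1309 : allRange pointOk 22 57816 9 = true := by decide +kernel
theorem p3u1309 : ∀ k, 46035 ≤ k → k < 57825 → pointOk (k * 22) = true := between_extend pointOk 22 46035 57816 9 (p3u1308) p3r1309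

theorem p3r1310 : allRange pointOk 22 57825 9 = true := by decide +kernel
theorem p3u1310 : ∀ k, 46035 ≤ k → k < 57834 → pointOk (k * 22) = true := between_extend pointOk 22 46035 57825 9 (p3u1309) p3r1310

theorem p3r1311 : allRange pointOk 22 57834 9 = true := by decide +kernel
theorem p3u1311 : ∀ k, 46035 ≤ k → k < 57843 → pointOk (k * 22) = true := between_extend pointOk 22 46035 57834 9 (p3u1310) p3r1311

theorem p3r1312 : allRange pointOk 22 57843 9 = true := by decide +kernel
theorem p3u1312 : ∀ k, 46035 ≤ k → k < 57852 → pointOk (k * 22) = true := between_extend pointOk 22 46035 57843 9 (p3u1311) p3r1312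

theorem p3r1313 : allRange pointOk 22 57852 9 = true := by decide +kernel
theorem p3u1313 : ∀ k, 46035 ≤ k → k < 57861 → pointOk (k * 22) = true := between_extend pointOk 22 46035 57852 9 (p3u1312) p3r1313

theorem p3r1314 : allRange pointOk 22 57861 9 = true := by decide +kernel
theorem p3u1314 : ∀ k, 46035 ≤ k → k < 57870 → pointOk (k * 22) = true := between_extend pointOk 22 46035 57861 9 (p3u1313) p3r1314

theorem p3r1315 : allRange pointOk 22 57870 9 = true := by decide +kernel
theorem p3u1315 : ∀ k, 46035 ≤ k → k < 57879 → pointOk (k * 22) = true := between_extend pointOk 22 46035 57870 9 (p3u1314) p3r1315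

theorem p3r1316 : allRange pointOk 22 57879 9 = true := by decide +kernel
theorem p3u1316 : ∀ k, 46035 ≤ k → k < 57888 → pointOk (k * 22) = true := between_extend pointOk 22 46035 57879 9 (p3u1315) p3r1316

theorem p3r1317 : allRange pointOk 22 57888 9 = true := by decide +kernel
theorem p3u1317 : ∀ k, 46035 ≤ k → k < 57897 → pointOk (k * 22) = true := between_extend pointOk 22 46035 57888 9 (p3u1316) p3r1317

theorem p3r1318 : allRange pointOk 22 57897 9 = true := by decide +kernel
theorem p3u1318 : ∀ k, 46035 ≤ k → k < 57906 → pointOk (k * 22) = true := between_extend pointOk 22 46035 57897 9 (p3u1317) p3r1318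

theorem p3r1319 : allRange pointOk 22 57906 9 = true := by decide +kernel
theorem p3u1319 : ∀ k, 46035 ≤ k → k < 57915 → pointOk (k * 22) = true := between_extend pointOk 22 46035 57906 9 (p3u1318) p3r1319

theorem p3r1320 : allRange pointOk 22 57915 9 = true := by decide +kernel
theorem p3u1320 : ∀ k, 46035 ≤ k → k < 57924 → pointOk (k * 22) = true := between_extend pointOk 22 46035 57915 9 (p3u1319) p3r1320

theorem p3r1321 : allRange pointOk 22 57924 9 = true := by decide +kernel
theorem p3u1321 : ∀ k, 46035 ≤ k → k < 57933 → pointOk (k * 22) = true := between_extend pointOk 22 46035 57924 9 (p3u1320) p3r1321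

theorem p3r1322 : allRange pointOk 22 57933 9 = true := by decide +kernel
theorem p3u1322 : ∀ k, 46035 ≤ k → k < 57942 → pointOk (k * 22) = true := between_extend pointOk 22 46035 57933 9 (p3u1321) p3r1322

theorem p3r1323 : allRange pointOk 22 57942 9 = true := by decide +kernel
theorem p3u1323 : ∀ k, 46035 ≤ k → k < 57951 → pointOk (k * 22) = true := between_extend pointOk 22 46035 57942 9 (p3u1322) p3r1323

theorem p3r1324 : allRange pointOk 22 57951 9 = true := by decide +kernel
theorem p3u1324 : ∀ k, 46035 ≤ k → k < 57960 → pointOk (k * 22) = true := between_extend pointOk 22 46035 57951 9 (p3u1323) p3r1324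

theorem p3r1325 : allRange pointOk 22 57960 9 = true := by decide +kernel
theorem p3u1325 : ∀ k, 46035 ≤ k → k < 57969 → pointOk (k * 22) = true := between_extend pointOk 22 46035 57960 9 (p3u1324) p3r1325

theorem p3r1326 : allRange pointOk 22 57969 9 = true := by decide +kernel
theorem p3u1326 : ∀ k, 46035 ≤ k → k < 57978 → pointOk (k * 22) = true := between_extend pointOk 22 46035 57969 9 (p3u1325) p3r1326

theorem p3r1327 : allRange pointOk 22 57978 9 = true := by decide +kernel
theorem p3u1327 : ∀ k, 46035 ≤ k → k < 57987 → pointOk (k * 22) = true := between_extend pointOk 22 46035 57978 9 (p3u1326) p3r1327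

theorem p3r1328 : allRange pointOk 22 57987 9 = true := by decide +kernel
theorem p3u1328 : ∀ k, 46035 ≤ k → k < 57996 → pointOk (k * 22) = true := between_extend pointOk 22 46035 57987 9 (p3u1327) p3r1328

theorem p3r1329 : allRange pointOk 22 57996 9 = true := by decide +kernel
theorem p3u1329 : ∀ k, 46035 ≤ k → k < 58005 → pointOk (k * 22) = true := between_extend pointOk 22 46035 57996 9 (p3u1328) p3r1329

theorem p3r1330 : allRange pointOk 22 58005 9 = true := by decide +kernel
theorem p3u1330 : ∀ k, 46035 ≤ k → k < 58014 → pointOk (k * 22) = true := between_extend pointOk 22 46035 58005 9 (p3u1329) p3r1330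

theorem p3r1331 : allRange pointOk 22 58014 9 = true := by decide +kernel
theorem p3u1331 : ∀ k, 46035 ≤ k → k < 58023 → pointOk (k * 22) = true := between_extend pointOk 22 46035 58014 9 (p3u1330) p3r1331

theorem p3r1332 : allRange pointOk 22 58023 9 = true := by decide +kernel
theorem p3u1332 : ∀ k, 46035 ≤ k → k < 58032 → pointOk (k * 22) = true := between_extend pointOk 22 46035 58023 9 (p3u1331) p3r1332

theorem p3r1333 : allRange pointOk 22 58032 9 = true := by decide +kernel
theorem p3u1333 : ∀ k, 46035 ≤ k → k < 58041 → pointOk (k * 22) = true := between_extend pointOk 22 46035 58032 9 (p3u1332) p3r1333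

theorem p3r1334 : allRange pointOk 22 58041 9 = true := by decide +kernel
theorem p3u1334 : ∀ k, 46035 ≤ k → k < 58050 → pointOk (k * 22) = true := between_extend pointOk 22 46035 58041 9 (p3u1333) p3r1334

theorem p3r1335 : allRange pointOk 22 58050 9 = true := by decide +kernel
theorem p3u1335 : ∀ k, 46035 ≤ k → k < 58059 → pointOk (k * 22) = true := between_extend pointOk 22 46035 58050 9 (p3u1334) p3r1335

theorem p3r1336 : allRange pointOk 22 58059 9 = true := by decide +kernel
theorem p3u1336 : ∀ k, 46035 ≤ k → k < 58068 → pointOk (k * 22) = true := between_extend pointOk 22 46035 58059 9 (p3u1335) p3r1336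

theorem p3r1337 : allRange pointOk 22 58068 9 = true := by decide +kernel
theorem p3u1337 : ∀ k, 46035 ≤ k → k < 58077 → pointOk (k * 22) = true := between_extend pointOk 22 46035 58068 9 (p3u1336) p3r1337

theorem p3r1338 : allRange pointOk 22 58077 9 = true := by decide +kernel
theorem p3u1338 : ∀ k, 46035 ≤ k → k < 58086 → pointOk (k * 22) = true := between_extend pointOk 22 46035 58077 9 (p3u1337) p3r1338

theorem p3r1339 : allRange pointOk 22 58086 9 = true := by decide +kernel
theorem p3u1339 : ∀ k, 46035 ≤ k → k < 58095 → pointOk (k * 22) = true := between_extend pointOk 22 46035 58086 9 (p3u1338) p3r1339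

theorem p3r1340 : allRange pointOk 22 58095 9 = true := by decide +kernel
theorem p3u1340 : ∀ k, 46035 ≤ k → k < 58104 → pointOk (k * 22) = true := between_extend pointOk 22 46035 58095 9 (p3u1339) p3r1340

theorem p3r1341 : allRange pointOk 22 58104 9 = true := by decide +kernel
theorem p3u1341 : ∀ k, 46035 ≤ k → k < 58113 → pointOk (k * 22) = true := between_extend pointOk 22 46035 58104 9 (p3u1340) p3r1341

theorem p3r1342 : allRange pointOk 22 58113 9 = true := by decide +kernel
theorem p3u1342 : ∀ k, 46035 ≤ k → k < 58122 → pointOk (k * 22) = true := between_extend pointOk 22 46035 58113 9 (p3u1341) p3r1342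

theorem p3r1343 : allRange pointOk 22 58122 9 = true := by decide +kernel
theorem p3u1343 : ∀ k, 46035 ≤ k → k < 58131 → pointOk (k * 22) = true := between_extend pointOk 22 46035 58122 9 (p3u1342) p3r1343

theorem p3r1344 : allRange pointOk 22 58131 9 = true := by decide +kernel
theorem p3u1344 : ∀ k, 46035 ≤ k → k < 58140 → pointOk (k * 22) = true := between_extend pointOk 22 46035 58131 9 (p3u1343) p3r1344

theorem p3r1345 : allRange pointOk 22 58140 9 = true := by decide +kernel
theorem p3u1345 : ∀ k, 46035 ≤ k → k < 58149 → pointOk (k * 22) = true := between_extend pointOk 22 46035 58140 9 (p3u1344) p3r1345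

theorem p3r1346 : allRange pointOk 22 58149 9 = true := by decide +kernel
theorem p3u1346 : ∀ k, 46035 ≤ k → k < 58158 → pointOk (k * 22) = true := between_extend pointOk 22 46035 58149 9 (p3u1345) p3r1346

theorem p3r1347 : allRange pointOk 22 58158 9 = true := by decide +kernel
theorem p3u1347 : ∀ k, 46035 ≤ k → k < 58167 → pointOk (k * 22) = true := between_extend pointOk 22 46035 58158 9 (p3u1346) p3r1347

theorem p3r1348 : allRange pointOk 22 58167 9 = true := by decide +kernel
theorem p3u1348 : ∀ k, 46035 ≤ k → k < 58176 → pointOk (k * 22) = true := between_extend pointOk 22 46035 58167 9 (p3u1347) p3r1348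

theorem p3r1349 : allRange pointOk 22 58176 9 = true := by decide +kernel
theorem p3u1349 : ∀ k, 46035 ≤ k → k < 58185 → pointOk (k * 22) = true := between_extend pointOk 22 46035 58176 9 (p3u1348) p3r1349

theorem p3r1350 : allRange pointOk 22 58185 9 = true := by decide +kernel
theorem p3u1350 : ∀ k, 46035 ≤ k → k < 58194 → pointOk (k * 22) = true := between_extend pointOk 22 46035 58185 9 (p3u1349) p3r1350

theorem p3r1351 : allRange pointOk 22 58194 9 = true := by decide +kernel
theorem p3u1351 : ∀ k, 46035 ≤ k → k < 58203 → pointOk (k * 22) = true := between_extend pointOk 22 46035 58194 9 (p3u1350) p3r1351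

theorem p3r1352 : allRange pointOk 22 58203 9 = true := by decide +kernel
theorem p3u1352 : ∀ k, 46035 ≤ k → k < 58212 → pointOk (k * 22) = true := between_extend pointOk 22 46035 58203 9 (p3u1351) p3r1352

theorem p3r1353 : allRange pointOk 22 58212 9 = true := by decide +kernel
theorem p3u1353 : ∀ k, 46035 ≤ k → k < 58221 → pointOk (k * 22) = true := between_extend pointOk 22 46035 58212 9 (p3u1352) p3r1353

theorem p3r1354 : allRange pointOk 22 58221 9 = true := by decide +kernel
theorem p3u1354 : ∀ k, 46035 ≤ k → k < 58230 → pointOk (k * 22) = true := between_extend pointOk 22 46035 58221 9 (p3u1353) p3r1354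

theorem p3r1355 : allRange pointOk 22 58230 9 = true := by decide +kernel
theorem p3u1355 : ∀ k, 46035 ≤ k → k < 58239 → pointOk (k * 22) = true := between_extend pointOk 22 46035 58230 9 (p3u1354) p3r1355

theorem p3r1356 : allRange pointOk 22 58239 9 = true := by decide +kernel
theorem p3u1356 : ∀ k, 46035 ≤ k → k < 58248 → pointOk (k * 22) = true := between_extend pointOk 22 46035 58239 9 (p3u1355) p3r1356

theorem p3r1357 : allRange pointOk 22 58248 9 = true := by decide +kernel
theorem p3u1357 : ∀ k, 46035 ≤ k → k < 58257 → pointOk (k * 22) = true := between_extend pointOk 22 46035 58248 9 (p3u1356) p3r1357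

theorem p3r1358 : allRange pointOk 22 58257 9 = true := by decide +kernel
theorem p3u1358 : ∀ k, 46035 ≤ k → k < 58266 → pointOk (k * 22) = true := between_extend pointOk 22 46035 58257 9 (p3u1357) p3r1358

theorem p3r1359 : allRange pointOk 22 58266 9 = true := by decide +kernel
theorem p3u1359 : ∀ k, 46035 ≤ k → k < 58275 → pointOk (k * 22) = true := between_extend pointOk 22 46035 58266 9 (p3u1358) p3r1359

theorem p3r1360 : allRange pointOk 22 58275 9 = true := by decide +kernel
theorem p3u1360 : ∀ k, 46035 ≤ k → k < 58284 → pointOk (k * 22) = true := between_extend pointOk 22 46035 58275 9 (p3u1359) p3r1360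

theorem p3r1361 : allRange pointOk 22 58284 9 = true := by decide +kernel
theorem p3u1361 : ∀ k, 46035 ≤ k → k < 58293 → pointOk (k * 22) = true := between_extend pointOk 22 46035 58284 9 (p3u1360) p3r1361

theorem p3r1362 : allRange pointOk 22 58293 9 = true := by decide +kernel
theorem p3u1362 : ∀ k, 46035 ≤ k → k < 58302 → pointOk (k * 22) = true := between_extend pointOk 22 46035 58293 9 (p3u1361) p3r1362

theorem p3r1363 : allRange pointOk 22 58302 9 = true := by decide +kernel
theorem p3u1363 : ∀ k, 46035 ≤ k → k < 58311 → pointOk (k * 22) = true := between_extend pointOk 22 46035 58302 9 (p3u1362) p3r1363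

theorem p3r1364 : allRange pointOk 22 58311 9 = true := by decide +kernel
theorem p3u1364 : ∀ k, 46035 ≤ k → k < 58320 → pointOk (k * 22) = true := between_extend pointOk 22 46035 58311 9 (p3u1363) p3r1364

theorem p3r1365 : allRange pointOk 22 58320 9 = true := by decide +kernel
theorem p3u1365 : ∀ k, 46035 ≤ k → k < 58329 → pointOk (k * 22) = true := between_extend pointOk 22 46035 58320 9 (p3u1364) p3r1365

theorem p3r1366 : allRange pointOk 22 58329 9 = true := by decide +kernel
theorem p3u1366 : ∀ k, 46035 ≤ k → k < 58338 → pointOk (k * 22) = true := between_extend pointOk 22 46035 58329 9 (p3u1365) p3r1366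

theorem p3r1367 : allRange pointOk 22 58338 9 = true := by decide +kernel
theorem p3u1367 : ∀ k, 46035 ≤ k → k < 58347 → pointOk (k * 22) = true := between_extend pointOk 22 46035 58338 9 (p3u1366) p3r1367

theorem p3r1368 : allRange pointOk 22 58347 9 = true := by decide +kernel
theorem p3u1368 : ∀ k, 46035 ≤ k → k < 58356 → pointOk (k * 22) = true := between_extend pointOk 22 46035 58347 9 (p3u1367) p3r1368

theorem p3r1369 : allRange pointOk 22 58356 9 = true := by decide +kernel
theorem p3u1369 : ∀ k, 46035 ≤ k → k < 58365 → pointOk (k * 22) = true := between_extend pointOk 22 46035 58356 9 (p3u1368) p3r1369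

theorem p3r1370 : allRange pointOk 22 58365 9 = true := by decide +kernel
theorem p3u1370 : ∀ k, 46035 ≤ k → k < 58374 → pointOk (k * 22) = true := between_extend pointOk 22 46035 58365 9 (p3u1369) p3r1370

theorem p3r1371 : allRange pointOk 22 58374 9 = true := by decide +kernel
theorem p3u1371 : ∀ k, 46035 ≤ k → k < 58383 → pointOk (k * 22) = true := between_extend pointOk 22 46035 58374 9 (p3u1370) p3r1371

theorem p3r1372 : allRange pointOk 22 58383 9 = true := by decide +kernel
theorem p3u1372 : ∀ k, 46035 ≤ k → k < 58392 → pointOk (k * 22) = true := between_extend pointOk 22 46035 58383 9 (p3u1371) p3r1372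

theorem p3r1373 : allRange pointOk 22 58392 9 = true := by decide +kernel
theorem p3u1373 : ∀ k, 46035 ≤ k → k < 58401 → pointOk (k * 22) = true := between_extend pointOk 22 46035 58392 9 (p3u1372) p3r1373

theorem p3r1374 : allRange pointOk 22 58401 9 = true := by decide +kernel
theorem p3u1374 : ∀ k, 46035 ≤ k → k < 58410 → pointOk (k * 22) = true := between_extend pointOk 22 46035 58401 9 (p3u1373) p3r1374

theorem p3r1375 : allRange pointOk 22 58410 9 = true := by decide +kernel
theorem p3u1375 : ∀ k, 46035 ≤ k → k < 58419 → pointOk (k * 22) = true := between_extend pointOk 22 46035 58410 9 (p3u1374) p3r1375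

theorem p3r1376 : allRange pointOk 22 58419 9 = true := by decide +kernel
theorem p3u1376 : ∀ k, 46035 ≤ k → k < 58428 → pointOk (k * 22) = true := between_extend pointOk 22 46035 58419 9 (p3u1375) p3r1376

theorem p3r1377 : allRange pointOk 22 58428 9 = true := by decide +kernel
theorem p3u1377 : ∀ k, 46035 ≤ k → k < 58437 → pointOk (k * 22) = true := between_extend pointOk 22 46035 58428 9 (p3u1376) p3r1377

theorem p3r1378 : allRange pointOk 22 58437 9 = true := by decide +kernel
theorem p3u1378 : ∀ k, 46035 ≤ k → k < 58446 → pointOk (k * 22) = true := between_extend pointOk 22 46035 58437 9 (p3u1377) p3r1378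

theorem p3r1379 : allRange pointOk 22 58446 9 = true := by decide +kernel
theorem p3u1379 : ∀ k, 46035 ≤ k → k < 58455 → pointOk (k * 22) = true := between_extend pointOk 22 46035 58446 9 (p3u1378) p3r1379

theorem p3r1380 : allRange pointOk 22 58455 9 = true := by decide +kernel
theorem p3u1380 : ∀ k, 46035 ≤ k → k < 58464 → pointOk (k * 22) = true := between_extend pointOk 22 46035 58455 9 (p3u1379) p3r1380

theorem p3r1381 : allRange pointOk 22 58464 9 = true := by decide +kernel
theorem p3u1381 : ∀ k, 46035 ≤ k → k < 58473 → pointOk (k * 22) = true := between_extend pointOk 22 46035 58464 9 (p3u1380) p3r1381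

theorem p3r1382 : allRange pointOk 22 58473 9 = true := by decide +kernel
theorem p3u1382 : ∀ k, 46035 ≤ k → k < 58482 → pointOk (k * 22) = true := between_extend pointOk 22 46035 58473 9 (p3u1381) p3r1382

theorem p3r1383 : allRange pointOk 22 58482 9 = true := by decide +kernel
theorem p3u1383 : ∀ k, 46035 ≤ k → k < 58491 → pointOk (k * 22) = true := between_extend pointOk 22 46035 58482 9 (p3u1382) p3r1383

theorem p3r1384 : allRange pointOk 22 58491 9 = true := by decide +kernel
theorem p3u1384 : ∀ k, 46035 ≤ k → k < 58500 → pointOk (k * 22) = true := between_extend pointOk 22 46035 58491 9 (p3u1383) p3r1384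

theorem p3r1385 : allRange pointOk 22 58500 9 = true := by decide +kernel
theorem p3u1385 : ∀ k, 46035 ≤ k → k < 58509 → pointOk (k * 22) = true := between_extend pointOk 22 46035 58500 9 (p3u1384) p3r1385

theorem p3r1386 : allRange pointOk 22 58509 9 = true := by decide +kernel
theorem p3u1386 : ∀ k, 46035 ≤ k → k < 58518 → pointOk (k * 22) = true := between_extend pointOk 22 46035 58509 9 (p3u1385) p3r1386

theorem p3r1387 : allRange pointOk 22 58518 9 = true := by decide +kernel
theorem p3u1387 : ∀ k, 46035 ≤ k → k < 58527 → pointOk (k * 22) = true := between_extend pointOk 22 46035 58518 9 (p3u1386) p3r1387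

theorem p3r1388 : allRange pointOk 22 58527 9 = true := by decide +kernel
theorem p3u1388 : ∀ k, 46035 ≤ k → k < 58536 → pointOk (k * 22) = true := between_extend pointOk 22 46035 58527 9 (p3u1387) p3r1388

theorem p3r1389 : allRange pointOk 22 58536 9 = true := by decide +kernel
theorem p3u1389 : ∀ k, 46035 ≤ k → k < 58545 → pointOk (k * 22) = true := between_extend pointOk 22 46035 58536 9 (p3u1388) p3r1389

theorem p3r1390 : allRange pointOk 22 58545 9 = true := by decide +kernel
theorem p3u1390 : ∀ k, 46035 ≤ k → k < 58554 → pointOk (k * 22) = true := between_extend pointOk 22 46035 58545 9 (p3u1389) p3r1390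

theorem p3r1391 : allRange pointOk 22 58554 9 = true := by decide +kernel
theorem p3u1391 : ∀ k, 46035 ≤ k → k < 58563 → pointOk (k * 22) = true := between_extend pointOk 22 46035 58554 9 (p3u1390) p3r1391

theorem p3r1392 : allRange pointOk 22 58563 9 = true := by decide +kernel
theorem p3u1392 : ∀ k, 46035 ≤ k → k < 58572 → pointOk (k * 22) = true := between_extend pointOk 22 46035 58563 9 (p3u1391) p3r1392

theorem p3r1393 : allRange pointOk 22 58572 9 = true := by decide +kernel
theorem p3u1393 : ∀ k, 46035 ≤ k → k < 58581 → pointOk (k * 22) = true := between_extend pointOk 22 46035 58572 9 (p3u1392) p3r1393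

theorem p3r1394 : allRange pointOk 22 58581 9 = true := by decide +kernel
theorem p3u1394 : ∀ k, 46035 ≤ k → k < 58590 → pointOk (k * 22) = true := between_extend pointOk 22 46035 58581 9 (p3u1393) p3r1394

theorem p3r1395 : allRange pointOk 22 58590 9 = true := by decide +kernel
theorem p3u1395 : ∀ k, 46035 ≤ k → k < 58599 → pointOk (k * 22) = true := between_extend pointOk 22 46035 58590 9 (p3u1394) p3r1395

theorem p3r1396 : allRange pointOk 22 58599 9 = true := by decide +kernel
theorem p3u1396 : ∀ k, 46035 ≤ k → k < 58608 → pointOk (k * 22) = true := between_extend pointOk 22 46035 58599 9 (p3u1395) p3r1396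

theorem p3r1397 : allRange pointOk 22 58608 9 = true := by decide +kernel
theorem p3u1397 : ∀ k, 46035 ≤ k → k < 58617 → pointOk (k * 22) = true := between_extend pointOk 22 46035 58608 9 (p3u1396) p3r1397

theorem p3r1398 : allRange pointOk 22 58617 9 = true := by decide +kernel
theorem p3u1398 : ∀ k, 46035 ≤ k → k < 58626 → pointOk (k * 22) = true := between_extend pointOk 22 46035 58617 9 (p3u1397) p3r1398

theorem p3r1399 : allRange pointOk 22 58626 9 = true := by decide +kernel
theorem p3u1399 : ∀ k, 46035 ≤ k → k < 58635 → pointOk (k * 22) = true := between_extend pointOk 22 46035 58626 9 (p3u1398) p3r1399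

theorem p3r1400 : allRange pointOk 22 58635 9 = true := by decide +kernel
theorem p3u1400 : ∀ k, 46035 ≤ k → k < 58644 → pointOk (k * 22) = true := between_extend pointOk 22 46035 58635 9 (p3u1399) p3r1400

theorem p3r1401 : allRange pointOk 22 58644 9 = true := by decide +kernel
theorem p3u1401 : ∀ k, 46035 ≤ k → k < 58653 → pointOk (k * 22) = true := between_extend pointOk 22 46035 58644 9 (p3u1400) p3r1401

theorem p3r1402 : allRange pointOk 22 58653 9 = true := by decide +kernel
theorem p3u1402 : ∀ k, 46035 ≤ k → k < 58662 → pointOk (k * 22) = true := between_extend pointOk 22 46035 58653 9 (p3u1401) p3r1402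

theorem p3r1403 : allRange pointOk 22 58662 9 = true := by decide +kernel
theorem p3u1403 : ∀ k, 46035 ≤ k → k < 58671 → pointOk (k * 22) = true := between_extend pointOk 22 46035 58662 9 (p3u1402) p3r1403

theorem p3r1404 : allRange pointOk 22 58671 9 = true := by decide +kernel
theorem p3u1404 : ∀ k, 46035 ≤ k → k < 58680 → pointOk (k * 22) = true := between_extend pointOk 22 46035 58671 9 (p3u1403) p3r1404

theorem p3r1405 : allRange pointOk 22 58680 9 = true := by decide +kernel
theorem p3u1405 : ∀ k, 46035 ≤ k → k < 58689 → pointOk (k * 22) = true := between_extend pointOk 22 46035 58680 9 (p3u1404) p3r1405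

theorem p3r1406 : allRange pointOk 22 58689 9 = true := by decide +kernel
theorem p3u1406 : ∀ k, 46035 ≤ k → k < 58698 → pointOk (k * 22) = true := between_extend pointOk 22 46035 58689 9 (p3u1405) p3r1406

theorem p3r1407 : allRange pointOk 22 58698 9 = true := by decide +kernel
theorem p3u1407 : ∀ k, 46035 ≤ k → k < 58707 → pointOk (k * 22) = true := between_extend pointOk 22 46035 58698 9 (p3u1406) p3r1407

theorem p3r1408 : allRange pointOk 22 58707 9 = true := by decide +kernel
theorem p3u1408 : ∀ k, 46035 ≤ k → k < 58716 → pointOk (k * 22) = true := between_extend pointOk 22 46035 58707 9 (p3u1407) p3r1408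

theorem p3r1409 : allRange pointOk 22 58716 9 = true := by decide +kernel
theorem p3u1409 : ∀ k, 46035 ≤ k → k < 58725 → pointOk (k * 22) = true := between_extend pointOk 22 46035 58716 9 (p3u1408) p3r1409

theorem p3r1410 : allRange pointOk 22 58725 9 = true := by decide +kernel
theorem p3u1410 : ∀ k, 46035 ≤ k → k < 58734 → pointOk (k * 22) = true := between_extend pointOk 22 46035 58725 9 (p3u1409) p3r1410

theorem p3r1411 : allRange pointOk 22 58734 9 = true := by decide +kernel
theorem p3u1411 : ∀ k, 46035 ≤ k → k < 58743 → pointOk (k * 22) = true := between_extend pointOk 22 46035 58734 9 (p3u1410) p3r1411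

theorem p3r1412 : allRange pointOk 22 58743 9 = true := by decide +kernel
theorem p3u1412 : ∀ k, 46035 ≤ k → k < 58752 → pointOk (k * 22) = true := between_extend pointOk 22 46035 58743 9 (p3u1411) p3r1412

theorem p3r1413 : allRange pointOk 22 58752 9 = true := by decide +kernel
theorem p3u1413 : ∀ k, 46035 ≤ k → k < 58761 → pointOk (k * 22) = true := between_extend pointOk 22 46035 58752 9 (p3u1412) p3r1413

theorem p3r1414 : allRange pointOk 22 58761 9 = true := by decide +kernel
theorem p3u1414 : ∀ k, 46035 ≤ k → k < 58770 → pointOk (k * 22) = true := between_extend pointOk 22 46035 58761 9 (p3u1413) p3r1414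

theorem p3r1415 : allRange pointOk 22 58770 9 = true := by decide +kernel
theorem p3u1415 : ∀ k, 46035 ≤ k → k < 58779 → pointOk (k * 22) = true := between_extend pointOk 22 46035 58770 9 (p3u1414) p3r1415

theorem p3r1416 : allRange pointOk 22 58779 9 = true := by decide +kernel
theorem p3u1416 : ∀ k, 46035 ≤ k → k < 58788 → pointOk (k * 22) = true := between_extend pointOk 22 46035 58779 9 (p3u1415) p3r1416

theorem p3r1417 : allRange pointOk 22 58788 9 = true := by decide +kernel
theorem p3u1417 : ∀ k, 46035 ≤ k → k < 58797 → pointOk (k * 22) = true := between_extend pointOk 22 46035 58788 9 (p3u1416) p3r1417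

theorem p3r1418 : allRange pointOk 22 58797 9 = true := by decide +kernel
theorem p3u1418 : ∀ k, 46035 ≤ k → k < 58806 → pointOk (k * 22) = true := between_extend pointOk 22 46035 58797 9 (p3u1417) p3r1418

theorem p3r1419 : allRange pointOk 22 58806 9 = true := by decide +kernel
theorem p3u1419 : ∀ k, 46035 ≤ k → k < 58815 → pointOk (k * 22) = true := between_extend pointOk 22 46035 58806 9 (p3u1418) p3r1419

theorem p3r1420 : allRange pointOk 22 58815 9 = true := by decide +kernel
theorem p3u1420 : ∀ k, 46035 ≤ k → k < 58824 → pointOk (k * 22) = true := between_extend pointOk 22 46035 58815 9 (p3u1419) p3r1420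

theorem p3r1421 : allRange pointOk 22 58824 9 = true := by decide +kernel
theorem p3u1421 : ∀ k, 46035 ≤ k → k < 58833 → pointOk (k * 22) = true := between_extend pointOk 22 46035 58824 9 (p3u1420) p3r1421

theorem p3r1422 : allRange pointOk 22 58833 9 = true := by decide +kernel
theorem p3u1422 : ∀ k, 46035 ≤ k → k < 58842 → pointOk (k * 22) = true := between_extend pointOk 22 46035 58833 9 (p3u1421) p3r1422

theorem p3r1423 : allRange pointOk 22 58842 9 = true := by decide +kernel
theorem p3u1423 : ∀ k, 46035 ≤ k → k < 58851 → pointOk (k * 22) = true := between_extend pointOk 22 46035 58842 9 (p3u1422) p3r1423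

theorem p3r1424 : allRange pointOk 22 58851 9 = true := by decide +kernel
theorem p3u1424 : ∀ k, 46035 ≤ k → k < 58860 → pointOk (k * 22) = true := between_extend pointOk 22 46035 58851 9 (p3u1423) p3r1424

theorem p3r1425 : allRange pointOk 22 58860 9 = true := by decide +kernel
theorem p3u1425 : ∀ k, 46035 ≤ k → k < 58869 → pointOk (k * 22) = true := between_extend pointOk 22 46035 58860 9 (p3u1424) p3r1425

theorem p3r1426 : allRange pointOk 22 58869 9 = true := by decide +kernel
theorem p3u1426 : ∀ k, 46035 ≤ k → k < 58878 → pointOk (k * 22) = true := between_extend pointOk 22 46035 58869 9 (p3u1425) p3r1426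

theorem p3r1427 : allRange pointOk 22 58878 9 = true := by decide +kernel
theorem p3u1427 : ∀ k, 46035 ≤ k → k < 58887 → pointOk (k * 22) = true := between_extend pointOk 22 46035 58878 9 (p3u1426) p3r1427

theorem p3r1428 : allRange pointOk 22 58887 9 = true := by decide +kernel
theorem p3u1428 : ∀ k, 46035 ≤ k → k < 58896 → pointOk (k * 22) = true := between_extend pointOk 22 46035 58887 9 (p3u1427) p3r1428

theorem p3r1429 : allRange pointOk 22 58896 9 = true := by decide +kernel
theorem p3u1429 : ∀ k, 46035 ≤ k → k < 58905 → pointOk (k * 22) = true := between_extend pointOk 22 46035 58896 9 (p3u1428) p3r1429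

theorem p3r1430 : allRange pointOk 22 58905 9 = true := by decide +kernel
theorem p3u1430 : ∀ k, 46035 ≤ k → k < 58914 → pointOk (k * 22) = true := between_extend pointOk 22 46035 58905 9 (p3u1429) p3r1430

theorem p3r1431 : allRange pointOk 22 58914 9 = true := by decide +kernel
theorem p3u1431 : ∀ k, 46035 ≤ k → k < 58923 → pointOk (k * 22) = true := between_extend pointOk 22 46035 58914 9 (p3u1430) p3r1431

theorem p3r1432 : allRange pointOk 22 58923 9 = true := by decide +kernel
theorem p3u1432 : ∀ k, 46035 ≤ k → k < 58932 → pointOk (k * 22) = true := between_extend pointOk 22 46035 58923 9 (p3u1431) p3r1432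

theorem p3r1433 : allRange pointOk 22 58932 9 = true := by decide +kernel
theorem p3u1433 : ∀ k, 46035 ≤ k → k < 58941 → pointOk (k * 22) = true := between_extend pointOk 22 46035 58932 9 (p3u1432) p3r1433

theorem p3r1434 : allRange pointOk 22 58941 9 = true := by decide +kernel
theorem p3u1434 : ∀ k, 46035 ≤ k → k < 58950 → pointOk (k * 22) = true := between_extend pointOk 22 46035 58941 9 (p3u1433) p3r1434

theorem p3r1435 : allRange pointOk 22 58950 9 = true := by decide +kernel
theorem p3u1435 : ∀ k, 46035 ≤ k → k < 58959 → pointOk (k * 22) = true := between_extend pointOk 22 46035 58950 9 (p3u1434) p3r1435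

theorem p3r1436 : allRange pointOk 22 58959 9 = true := by decide +kernel
theorem p3u1436 : ∀ k, 46035 ≤ k → k < 58968 → pointOk (k * 22) = true := between_extend pointOk 22 46035 58959 9 (p3u1435) p3r1436

theorem p3r1437 : allRange pointOk 22 58968 9 = true := by decide +kernel
theorem p3u1437 : ∀ k, 46035 ≤ k → k < 58977 → pointOk (k * 22) = true := between_extend pointOk 22 46035 58968 9 (p3u1436) p3r1437

theorem p3r1438 : allRange pointOk 22 58977 9 = true := by decide +kernel
theorem p3u1438 : ∀ k, 46035 ≤ k → k < 58986 → pointOk (k * 22) = true := between_extend pointOk 22 46035 58977 9 (p3u1437) p3r1438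

theorem p3r1439 : allRange pointOk 22 58986 9 = true := by decide +kernel
theorem p3u1439 : ∀ k, 46035 ≤ k → k < 58995 → pointOk (k * 22) = true := between_extend pointOk 22 46035 58986 9 (p3u1438) p3r1439

theorem p3r1440 : allRange pointOk 22 58995 9 = true := by decide +kernel
theorem p3u1440 : ∀ k, 46035 ≤ k → k < 59004 → pointOk (k * 22) = true := between_extend pointOk 22 46035 58995 9 (p3u1439) p3r1440

theorem p3r1441 : allRange pointOk 22 59004 9 = true := by decide +kernel
theorem p3u1441 : ∀ k, 46035 ≤ k → k < 59013 → pointOk (k * 22) = true := between_extend pointOk 22 46035 59004 9 (p3u1440) p3r1441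

theorem p3r1442 : allRange pointOk 22 59013 9 = true := by decide +kernel
theorem p3u1442 : ∀ k, 46035 ≤ k → k < 59022 → pointOk (k * 22) = true := between_extend pointOk 22 46035 59013 9 (p3u1441) p3r1442

theorem p3r1443 : allRange pointOk 22 59022 9 = true := by decide +kernel
theorem p3u1443 : ∀ k, 46035 ≤ k → k < 59031 → pointOk (k * 22) = true := between_extend pointOk 22 46035 59022 9 (p3u1442) p3r1443

theorem p3r1444 : allRange pointOk 22 59031 9 = true := by decide +kernel
theorem p3u1444 : ∀ k, 46035 ≤ k → k < 59040 → pointOk (k * 22) = true := between_extend pointOk 22 46035 59031 9 (p3u1443) p3r1444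

theorem p3r1445 : allRange pointOk 22 59040 9 = true := by decide +kernel
theorem p3u1445 : ∀ k, 46035 ≤ k → k < 59049 → pointOk (k * 22) = true := between_extend pointOk 22 46035 59040 9 (p3u1444) p3r1445

theorem p3r1446 : allRange pointOk 22 59049 9 = true := by decide +kernel
theorem p3u1446 : ∀ k, 46035 ≤ k → k < 59058 → pointOk (k * 22) = true := between_extend pointOk 22 46035 59049 9 (p3u1445) p3r1446

theorem p3r1447 : allRange pointOk 22 59058 9 = true := by decide +kernel
theorem p3u1447 : ∀ k, 46035 ≤ k → k < 59067 → pointOk (k * 22) = true := between_extend pointOk 22 46035 59058 9 (p3u1446) p3r1447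

theorem p3r1448 : allRange pointOk 22 59067 9 = true := by decide +kernel
theorem p3u1448 : ∀ k, 46035 ≤ k → k < 59076 → pointOk (k * 22) = true := between_extend pointOk 22 46035 59067 9 (p3u1447) p3r1448

theorem p3r1449 : allRange pointOk 22 59076 9 = true := by decide +kernel
theorem p3u1449 : ∀ k, 46035 ≤ k → k < 59085 → pointOk (k * 22) = true := between_extend pointOk 22 46035 59076 9 (p3u1448) p3r1449

theorem p3r1450 : allRange pointOk 22 59085 9 = true := by decide +kernel
theorem p3u1450 : ∀ k, 46035 ≤ k → k < 59094 → pointOk (k * 22) = true := between_extend pointOk 22 46035 59085 9 (p3u1449) p3r1450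

theorem p3r1451 : allRange pointOk 22 59094 9 = true := by decide +kernel
theorem p3u1451 : ∀ k, 46035 ≤ k → k < 59103 → pointOk (k * 22) = true := between_extend pointOk 22 46035 59094 9 (p3u1450) p3r1451

theorem p3r1452 : allRange pointOk 22 59103 9 = true := by decide +kernel
theorem p3u1452 : ∀ k, 46035 ≤ k → k < 59112 → pointOk (k * 22) = true := between_extend pointOk 22 46035 59103 9 (p3u1451) p3r1452

theorem p3r1453 : allRange pointOk 22 59112 9 = true := by decide +kernel
theorem p3u1453 : ∀ k, 46035 ≤ k → k < 59121 → pointOk (k * 22) = true := between_extend pointOk 22 46035 59112 9 (p3u1452) p3r1453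

theorem p3r1454 : allRange pointOk 22 59121 9 = true := by decide +kernel
theorem p3u1454 : ∀ k, 46035 ≤ k → k < 59130 → pointOk (k * 22) = true := between_extend pointOk 22 46035 59121 9 (p3u1453) p3r1454

theorem p3r1455 : allRange pointOk 22 59130 9 = true := by decide +kernel
theorem p3u1455 : ∀ k, 46035 ≤ k → k < 59139 → pointOk (k * 22) = true := between_extend pointOk 22 46035 59130 9 (p3u1454) p3r1455

theorem p3r1456 : allRange pointOk 22 59139 9 = true := by decide +kernel
theorem p3u1456 : ∀ k, 46035 ≤ k → k < 59148 → pointOk (k * 22) = true := between_extend pointOk 22 46035 59139 9 (p3u1455) p3r1456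

theorem p3r1457 : allRange pointOk 22 59148 9 = true := by decide +kernel
theorem p3u1457 : ∀ k, 46035 ≤ k → k < 59157 → pointOk (k * 22) = true := between_extend pointOk 22 46035 59148 9 (p3u1456) p3r1457

theorem p3r1458 : allRange pointOk 22 59157 9 = true := by decide +kernel
theorem p3u1458 : ∀ k, 46035 ≤ k → k < 59166 → pointOk (k * 22) = true := between_extend pointOk 22 46035 59157 9 (p3u1457) p3r1458

theorem p3r1459 : allRange pointOk 22 59166 9 = true := by decide +kernel
theorem p3u1459 : ∀ k, 46035 ≤ k → k < 59175 → pointOk (k * 22) = true := between_extend pointOk 22 46035 59166 9 (p3u1458) p3r1459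

theorem p3r1460 : allRange pointOk 22 59175 9 = true := by decide +kernel
theorem p3u1460 : ∀ k, 46035 ≤ k → k < 59184 → pointOk (k * 22) = true := between_extend pointOk 22 46035 59175 9 (p3u1459) p3r1460

theorem p3r1461 : allRange pointOk 22 59184 9 = true := by decide +kernel
theorem p3u1461 : ∀ k, 46035 ≤ k → k < 59193 → pointOk (k * 22) = true := between_extend pointOk 22 46035 59184 9 (p3u1460) p3r1461

theorem p3r1462 : allRange pointOk 22 59193 9 = true := by decide +kernel
theorem p3u1462 : ∀ k, 46035 ≤ k → k < 59202 → pointOk (k * 22) = true := between_extend pointOk 22 46035 59193 9 (p3u1461) p3r1462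

theorem p3r1463 : allRange pointOk 22 59202 9 = true := by decide +kernel
theorem p3u1463 : ∀ k, 46035 ≤ k → k < 59211 → pointOk (k * 22) = true := between_extend pointOk 22 46035 59202 9 (p3u1462) p3r1463

theorem p3r1464 : allRange pointOk 22 59211 9 = true := by decide +kernel
theorem p3u1464 : ∀ k, 46035 ≤ k → k < 59220 → pointOk (k * 22) = true := between_extend pointOk 22 46035 59211 9 (p3u1463) p3r1464

theorem p3r1465 : allRange pointOk 22 59220 9 = true := by decide +kernel
theorem p3u1465 : ∀ k, 46035 ≤ k → k < 59229 → pointOk (k * 22) = true := between_extend pointOk 22 46035 59220 9 (p3u1464) p3r1465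

theorem p3r1466 : allRange pointOk 22 59229 9 = true := by decide +kernel
theorem p3u1466 : ∀ k, 46035 ≤ k → k < 59238 → pointOk (k * 22) = true := between_extend pointOk 22 46035 59229 9 (p3u1465) p3r1466

theorem p3r1467 : allRange pointOk 22 59238 9 = true := by decide +kernel
theorem p3u1467 : ∀ k, 46035 ≤ k → k < 59247 → pointOk (k * 22) = true := between_extend pointOk 22 46035 59238 9 (p3u1466) p3r1467

theorem p3r1468 : allRange pointOk 22 59247 9 = true := by decide +kernel
theorem p3u1468 : ∀ k, 46035 ≤ k → k < 59256 → pointOk (k * 22) = true := between_extend pointOk 22 46035 59247 9 (p3u1467) p3r1468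

theorem p3r1469 : allRange pointOk 22 59256 9 = true := by decide +kernel
theorem p3u1469 : ∀ k, 46035 ≤ k → k < 59265 → pointOk (k * 22) = true := between_extend pointOk 22 46035 59256 9 (p3u1468) p3r1469

theorem p3r1470 : allRange pointOk 22 59265 9 = true := by decide +kernel
theorem p3u1470 : ∀ k, 46035 ≤ k → k < 59274 → pointOk (k * 22) = true := between_extend pointOk 22 46035 59265 9 (p3u1469) p3r1470

theorem p3r1471 : allRange pointOk 22 59274 9 = true := by decide +kernel
theorem p3u1471 : ∀ k, 46035 ≤ k → k < 59283 → pointOk (k * 22) = true := between_extend pointOk 22 46035 59274 9 (p3u1470) p3r1471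

theorem p3r1472 : allRange pointOk 22 59283 9 = true := by decide +kernel
theorem p3u1472 : ∀ k, 46035 ≤ k → k < 59292 → pointOk (k * 22) = true := between_extend pointOk 22 46035 59283 9 (p3u1471) p3r1472

theorem p3r1473 : allRange pointOk 22 59292 9 = true := by decide +kernel
theorem p3u1473 : ∀ k, 46035 ≤ k → k < 59301 → pointOk (k * 22) = true := between_extend pointOk 22 46035 59292 9 (p3u1472) p3r1473

theorem p3r1474 : allRange pointOk 22 59301 9 = true := by decide +kernel
theorem p3u1474 : ∀ k, 46035 ≤ k → k < 59310 → pointOk (k * 22) = true := between_extend pointOk 22 46035 59301 9 (p3u1473) p3r1474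

theorem p3r1475 : allRange pointOk 22 59310 9 = true := by decide +kernel
theorem p3u1475 : ∀ k, 46035 ≤ k → k < 59319 → pointOk (k * 22) = true := between_extend pointOk 22 46035 59310 9 (p3u1474) p3r1475

theorem p3r1476 : allRange pointOk 22 59319 9 = true := by decide +kernel
theorem p3u1476 : ∀ k, 46035 ≤ k → k < 59328 → pointOk (k * 22) = true := between_extend pointOk 22 46035 59319 9 (p3u1475) p3r1476

theorem p3r1477 : allRange pointOk 22 59328 9 = true := by decide +kernel
theorem p3u1477 : ∀ k, 46035 ≤ k → k < 59337 → pointOk (k * 22) = true := between_extend pointOk 22 46035 59328 9 (p3u1476) p3r1477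

theorem p3r1478 : allRange pointOk 22 59337 9 = true := by decide +kernel
theorem p3u1478 : ∀ k, 46035 ≤ k → k < 59346 → pointOk (k * 22) = true := between_extend pointOk 22 46035 59337 9 (p3u1477) p3r1478

theorem p3r1479 : allRange pointOk 22 59346 9 = true := by decide +kernel
theorem p3u1479 : ∀ k, 46035 ≤ k → k < 59355 → pointOk (k * 22) = true := between_extend pointOk 22 46035 59346 9 (p3u1478) p3r1479

theorem p3r1480 : allRange pointOk 22 59355 9 = true := by decide +kernel
theorem p3u1480 : ∀ k, 46035 ≤ k → k < 59364 → pointOk (k * 22) = true := between_extend pointOk 22 46035 59355 9 (p3u1479) p3r1480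

theorem p3r1481 : allRange pointOk 22 59364 9 = true := by decide +kernel
theorem p3u1481 : ∀ k, 46035 ≤ k → k < 59373 → pointOk (k * 22) = true := between_extend pointOk 22 46035 59364 9 (p3u1480) p3r1481

theorem p3r1482 : allRange pointOk 22 59373 9 = true := by decide +kernel
theorem p3u1482 : ∀ k, 46035 ≤ k → k < 59382 → pointOk (k * 22) = true := between_extend pointOk 22 46035 59373 9 (p3u1481) p3r1482

theorem p3r1483 : allRange pointOk 22 59382 9 = true := by decide +kernel
theorem p3u1483 : ∀ k, 46035 ≤ k → k < 59391 → pointOk (k * 22) = true := between_extend pointOk 22 46035 59382 9 (p3u1482) p3r1483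

theorem p3r1484 : allRange pointOk 22 59391 9 = true := by decide +kernel
theorem p3u1484 : ∀ k, 46035 ≤ k → k < 59400 → pointOk (k * 22) = true := between_extend pointOk 22 46035 59391 9 (p3u1483) p3r1484

theorem p3r1485 : allRange pointOk 22 59400 9 = true := by decide +kernel
theorem p3u1485 : ∀ k, 46035 ≤ k → k < 59409 → pointOk (k * 22) = true := between_extend pointOk 22 46035 59400 9 (p3u1484) p3r1485

theorem p3r1486 : allRange pointOk 22 59409 9 = true := by decide +kernel
theorem p3u1486 : ∀ k, 46035 ≤ k → k < 59418 → pointOk (k * 22) = true := between_extend pointOk 22 46035 59409 9 (p3u1485) p3r1486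

theorem p3r1487 : allRange pointOk 22 59418 9 = true := by decide +kernel
theorem p3u1487 : ∀ k, 46035 ≤ k → k < 59427 → pointOk (k * 22) = true := between_extend pointOk 22 46035 59418 9 (p3u1486) p3r1487

theorem p3r1488 : allRange pointOk 22 59427 9 = true := by decide +kernel
theorem p3u1488 : ∀ k, 46035 ≤ k → k < 59436 → pointOk (k * 22) = true := between_extend pointOk 22 46035 59427 9 (p3u1487) p3r1488

theorem p3r1489 : allRange pointOk 22 59436 9 = true := by decide +kernel
theorem p3u1489 : ∀ k, 46035 ≤ k → k < 59445 → pointOk (k * 22) = true := between_extend pointOk 22 46035 59436 9 (p3u1488) p3r1489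

theorem p3r1490 : allRange pointOk 22 59445 9 = true := by decide +kernel
theorem p3u1490 : ∀ k, 46035 ≤ k → k < 59454 → pointOk (k * 22) = true := between_extend pointOk 22 46035 59445 9 (p3u1489) p3r1490

theorem p3r1491 : allRange pointOk 22 59454 9 = true := by decide +kernel
theorem p3u1491 : ∀ k, 46035 ≤ k → k < 59463 → pointOk (k * 22) = true := between_extend pointOk 22 46035 59454 9 (p3u1490) p3r1491

theorem p3r1492 : allRange pointOk 22 59463 9 = true := by decide +kernel
theorem p3u1492 : ∀ k, 46035 ≤ k → k < 59472 → pointOk (k * 22) = true := between_extend pointOk 22 46035 59463 9 (p3u1491) p3r1492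

theorem p3r1493 : allRange pointOk 22 59472 9 = true := by decide +kernel
theorem p3u1493 : ∀ k, 46035 ≤ k → k < 59481 → pointOk (k * 22) = true := between_extend pointOk 22 46035 59472 9 (p3u1492) p3r1493

theorem p3r1494 : allRange pointOk 22 59481 9 = true := by decide +kernel
theorem p3u1494 : ∀ k, 46035 ≤ k → k < 59490 → pointOk (k * 22) = true := between_extend pointOk 22 46035 59481 9 (p3u1493) p3r1494

theorem p3r1495 : allRange pointOk 22 59490 9 = true := by decide +kernel
theorem p3u1495 : ∀ k, 46035 ≤ k → k < 59499 → pointOk (k * 22) = true := between_extend pointOk 22 46035 59490 9 (p3u1494) p3r1495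

theorem p3r1496 : allRange pointOk 22 59499 9 = true := by decide +kernel
theorem p3u1496 : ∀ k, 46035 ≤ k → k < 59508 → pointOk (k * 22) = true := between_extend pointOk 22 46035 59499 9 (p3u1495) p3r1496

theorem p3r1497 : allRange pointOk 22 59508 9 = true := by decide +kernel
theorem p3u1497 : ∀ k, 46035 ≤ k → k < 59517 → pointOk (k * 22) = true := between_extend pointOk 22 46035 59508 9 (p3u1496) p3r1497

theorem p3r1498 : allRange pointOk 22 59517 9 = true := by decide +kernel
theorem p3u1498 : ∀ k, 46035 ≤ k → k < 59526 → pointOk (k * 22) = true := between_extend pointOk 22 46035 59517 9 (p3u1497) p3r1498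

theorem p3r1499 : allRange pointOk 22 59526 9 = true := by decide +kernel
theorem p3u1499 : ∀ k, 46035 ≤ k → k < 59535 → pointOk (k * 22) = true := between_extend pointOk 22 46035 59526 9 (p3u1498) p3r1499

theorem p3r1500 : allRange pointOk 22 59535 9 = true := by decide +kernel
theorem p3u1500 : ∀ k, 46035 ≤ k → k < 59544 → pointOk (k * 22) = true := between_extend pointOk 22 46035 59535 9 (p3u1499) p3r1500

theorem p3r1501 : allRange pointOk 22 59544 9 = true := by decide +kernel
theorem p3u1501 : ∀ k, 46035 ≤ k → k < 59553 → pointOk (k * 22) = true := between_extend pointOk 22 46035 59544 9 (p3u1500) p3r1501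

theorem p3r1502 : allRange pointOk 22 59553 9 = true := by decide +kernel
theorem p3u1502 : ∀ k, 46035 ≤ k → k < 59562 → pointOk (k * 22) = true := between_extend pointOk 22 46035 59553 9 (p3u1501) p3r1502

theorem p3r1503 : allRange pointOk 22 59562 9 = true := by decide +kernel
theorem p3u1503 : ∀ k, 46035 ≤ k → k < 59571 → pointOk (k * 22) = true := between_extend pointOk 22 46035 59562 9 (p3u1502) p3r1503

theorem p3r1504 : allRange pointOk 22 59571 9 = true := by decide +kernel
theorem p3u1504 : ∀ k, 46035 ≤ k → k < 59580 → pointOk (k * 22) = true := between_extend pointOk 22 46035 59571 9 (p3u1503) p3r1504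

theorem p3r1505 : allRange pointOk 22 59580 9 = true := by decide +kernel
theorem p3u1505 : ∀ k, 46035 ≤ k → k < 59589 → pointOk (k * 22) = true := between_extend pointOk 22 46035 59580 9 (p3u1504) p3r1505

theorem p3r1506 : allRange pointOk 22 59589 9 = true := by decide +kernel
theorem p3u1506 : ∀ k, 46035 ≤ k → k < 59598 → pointOk (k * 22) = true := between_extend pointOk 22 46035 59589 9 (p3u1505) p3r1506

theorem p3r1507 : allRange pointOk 22 59598 9 = true := by decide +kernel
theorem p3u1507 : ∀ k, 46035 ≤ k → k < 59607 → pointOk (k * 22) = true := between_extend pointOk 22 46035 59598 9 (p3u1506) p3r1507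

theorem p3r1508 : allRange pointOk 22 59607 9 = true := by decide +kernel
theorem p3u1508 : ∀ k, 46035 ≤ k → k < 59616 → pointOk (k * 22) = true := between_extend pointOk 22 46035 59607 9 (p3u1507) p3r1508

theorem p3r1509 : allRange pointOk 22 59616 9 = true := by decide +kernel
theorem p3u1509 : ∀ k, 46035 ≤ k → k < 59625 → pointOk (k * 22) = true := between_extend pointOk 22 46035 59616 9 (p3u1508) p3r1509

theorem p3r1510 : allRange pointOk 22 59625 9 = true := by decide +kernel
theorem p3u1510 : ∀ k, 46035 ≤ k → k < 59634 → pointOk (k * 22) = true := between_extend pointOk 22 46035 59625 9 (p3u1509) p3r1510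

theorem p3r1511 : allRange pointOk 22 59634 9 = true := by decide +kernel
theorem p3u1511 : ∀ k, 46035 ≤ k → k < 59643 → pointOk (k * 22) = true := between_extend pointOk 22 46035 59634 9 (p3u1510) p3r1511

theorem p3r1512 : allRange pointOk 22 59643 9 = true := by decide +kernel
theorem p3u1512 : ∀ k, 46035 ≤ k → k < 59652 → pointOk (k * 22) = true := between_extend pointOk 22 46035 59643 9 (p3u1511) p3r1512

theorem p3r1513 : allRange pointOk 22 59652 9 = true := by decide +kernel
theorem p3u1513 : ∀ k, 46035 ≤ k → k < 59661 → pointOk (k * 22) = true := between_extend pointOk 22 46035 59652 9 (p3u1512) p3r1513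

theorem p3r1514 : allRange pointOk 22 59661 9 = true := by decide +kernel
theorem p3u1514 : ∀ k, 46035 ≤ k → k < 59670 → pointOk (k * 22) = true := between_extend pointOk 22 46035 59661 9 (p3u1513) p3r1514

theorem p3r1515 : allRange pointOk 22 59670 9 = true := by decide +kernel
theorem p3u1515 : ∀ k, 46035 ≤ k → k < 59679 → pointOk (k * 22) = true := between_extend pointOk 22 46035 59670 9 (p3u1514) p3r1515

theorem p3r1516 : allRange pointOk 22 59679 9 = true := by decide +kernel
theorem p3u1516 : ∀ k, 46035 ≤ k → k < 59688 → pointOk (k * 22) = true := between_extend pointOk 22 46035 59679 9 (p3u1515) p3r1516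

theorem p3r1517 : allRange pointOk 22 59688 9 = true := by decide +kernel
theorem p3u1517 : ∀ k, 46035 ≤ k → k < 59697 → pointOk (k * 22) = true := between_extend pointOk 22 46035 59688 9 (p3u1516) p3r1517

theorem p3r1518 : allRange pointOk 22 59697 9 = true := by decide +kernel
theorem p3u1518 : ∀ k, 46035 ≤ k → k < 59706 → pointOk (k * 22) = true := between_extend pointOk 22 46035 59697 9 (p3u1517) p3r1518

theorem p3r1519 : allRange pointOk 22 59706 9 = true := by decide +kernel
theorem p3u1519 : ∀ k, 46035 ≤ k → k < 59715 → pointOk (k * 22) = true := between_extend pointOk 22 46035 59706 9 (p3u1518) p3r1519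

theorem p3r1520 : allRange pointOk 22 59715 9 = true := by decide +kernel
theorem p3u1520 : ∀ k, 46035 ≤ k → k < 59724 → pointOk (k * 22) = true := between_extend pointOk 22 46035 59715 9 (p3u1519) p3r1520

theorem p3r1521 : allRange pointOk 22 59724 9 = true := by decide +kernel
theorem p3u1521 : ∀ k, 46035 ≤ k → k < 59733 → pointOk (k * 22) = true := between_extend pointOk 22 46035 59724 9 (p3u1520) p3r1521

theorem p3r1522 : allRange pointOk 22 59733 9 = true := by decide +kernel
theorem p3u1522 : ∀ k, 46035 ≤ k → k < 59742 → pointOk (k * 22) = true := between_extend pointOk 22 46035 59733 9 (p3u1521) p3r1522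

theorem p3r1523 : allRange pointOk 22 59742 9 = true := by decide +kernel
theorem p3u1523 : ∀ k, 46035 ≤ k → k < 59751 → pointOk (k * 22) = true := between_extend pointOk 22 46035 59742 9 (p3u1522) p3r1523

theorem p3r1524 : allRange pointOk 22 59751 9 = true := by decide +kernel
theorem p3u1524 : ∀ k, 46035 ≤ k → k < 59760 → pointOk (k * 22) = true := between_extend pointOk 22 46035 59751 9 (p3u1523) p3r1524

theorem p3r1525 : allRange pointOk 22 59760 9 = true := by decide +kernel
theorem p3u1525 : ∀ k, 46035 ≤ k → k < 59769 → pointOk (k * 22) = true := between_extend pointOk 22 46035 59760 9 (p3u1524) p3r1525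

theorem p3r1526 : allRange pointOk 22 59769 9 = true := by decide +kernel
theorem p3u1526 : ∀ k, 46035 ≤ k → k < 59778 → pointOk (k * 22) = true := between_extend pointOk 22 46035 59769 9 (p3u1525) p3r1526

theorem p3r1527 : allRange pointOk 22 59778 9 = true := by decide +kernel
theorem p3u1527 : ∀ k, 46035 ≤ k → k < 59787 → pointOk (k * 22) = true := between_extend pointOk 22 46035 59778 9 (p3u1526) p3r1527

theorem p3r1528 : allRange pointOk 22 59787 9 = true := by decide +kernel
theorem p3u1528 : ∀ k, 46035 ≤ k → k < 59796 → pointOk (k * 22) = true := between_extend pointOk 22 46035 59787 9 (p3u1527) p3r1528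

theorem p3r1529 : allRange pointOk 22 59796 9 = true := by decide +kernel
theorem p3u1529 : ∀ k, 46035 ≤ k → k < 59805 → pointOk (k * 22) = true := between_extend pointOk 22 46035 59796 9 (p3u1528) p3r1529

theorem p3r1530 : allRange pointOk 22 59805 9 = true := by decide +kernel
theorem p3u1530 : ∀ k, 46035 ≤ k → k < 59814 → pointOk (k * 22) = true := between_extend pointOk 22 46035 59805 9 (p3u1529) p3r1530

theorem p3r1531 : allRange pointOk 22 59814 9 = true := by decide +kernel
theorem p3u1531 : ∀ k, 46035 ≤ k → k < 59823 → pointOk (k * 22) = true := between_extend pointOk 22 46035 59814 9 (p3u1530) p3r1531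

theorem p3r1532 : allRange pointOk 22 59823 9 = true := by decide +kernel
theorem p3u1532 : ∀ k, 46035 ≤ k → k < 59832 → pointOk (k * 22) = true := between_extend pointOk 22 46035 59823 9 (p3u1531) p3r1532

theorem p3r1533 : allRange pointOk 22 59832 9 = true := by decide +kernel
theorem p3u1533 : ∀ k, 46035 ≤ k → k < 59841 → pointOk (k * 22) = true := between_extend pointOk 22 46035 59832 9 (p3u1532) p3r1533

theorem p3r1534 : allRange pointOk 22 59841 9 = true := by decide +kernel
theorem p3u1534 : ∀ k, 46035 ≤ k → k < 59850 → pointOk (k * 22) = true := between_extend pointOk 22 46035 59841 9 (p3u1533) p3r1534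

theorem p3r1535 : allRange pointOk 22 59850 9 = true := by decide +kernel
theorem p3u1535 : ∀ k, 46035 ≤ k → k < 59859 → pointOk (k * 22) = true := between_extend pointOk 22 46035 59850 9 (p3u1534) p3r1535

theorem p3r1536 : allRange pointOk 22 59859 9 = true := by decide +kernel
theorem p3u1536 : ∀ k, 46035 ≤ k → k < 59868 → pointOk (k * 22) = true := between_extend pointOk 22 46035 59859 9 (p3u1535) p3r1536

theorem p3r1537 : allRange pointOk 22 59868 9 = true := by decide +kernel
theorem p3u1537 : ∀ k, 46035 ≤ k → k < 59877 → pointOk (k * 22) = true := between_extend pointOk 22 46035 59868 9 (p3u1536) p3r1537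

theorem p3r1538 : allRange pointOk 22 59877 9 = true := by decide +kernel
theorem p3u1538 : ∀ k, 46035 ≤ k → k < 59886 → pointOk (k * 22) = true := between_extend pointOk 22 46035 59877 9 (p3u1537) p3r1538

theorem p3r1539 : allRange pointOk 22 59886 9 = true := by decide +kernel
theorem p3u1539 : ∀ k, 46035 ≤ k → k < 59895 → pointOk (k * 22) = true := between_extend pointOk 22 46035 59886 9 (p3u1538) p3r1539

theorem p3r1540 : allRange pointOk 22 59895 9 = true := by decide +kernel
theorem p3u1540 : ∀ k, 46035 ≤ k → k < 59904 → pointOk (k * 22) = true := between_extend pointOk 22 46035 59895 9 (p3u1539) p3r1540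

theorem p3r1541 : allRange pointOk 22 59904 9 = true := by decide +kernel
theorem p3u1541 : ∀ k, 46035 ≤ k → k < 59913 → pointOk (k * 22) = true := between_extend pointOk 22 46035 59904 9 (p3u1540) p3r1541

theorem p3r1542 : allRange pointOk 22 59913 9 = true := by decide +kernel
theorem p3u1542 : ∀ k, 46035 ≤ k → k < 59922 → pointOk (k * 22) = true := between_extend pointOk 22 46035 59913 9 (p3u1541) p3r1542

theorem p3r1543 : allRange pointOk 22 59922 9 = true := by decide +kernel
theorem p3u1543 : ∀ k, 46035 ≤ k → k < 59931 → pointOk (k * 22) = true := between_extend pointOk 22 46035 59922 9 (p3u1542) p3r1543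

theorem p3r1544 : allRange pointOk 22 59931 9 = true := by decide +kernel
theorem p3u1544 : ∀ k, 46035 ≤ k → k < 59940 → pointOk (k * 22) = true := between_extend pointOk 22 46035 59931 9 (p3u1543) p3r1544

theorem p3r1545 : allRange pointOk 22 59940 9 = true := by decide +kernel
theorem p3u1545 : ∀ k, 46035 ≤ k → k < 59949 → pointOk (k * 22) = true := between_extend pointOk 22 46035 59940 9 (p3u1544) p3r1545

theorem p3r1546 : allRange pointOk 22 59949 9 = true := by decide +kernel
theorem p3u1546 : ∀ k, 46035 ≤ k → k < 59958 → pointOk (k * 22) = true := between_extend pointOk 22 46035 59949 9 (p3u1545) p3r1546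

theorem p3r1547 : allRange pointOk 22 59958 9 = true := by decide +kernel
theorem p3u1547 : ∀ k, 46035 ≤ k → k < 59967 → pointOk (k * 22) = true := between_extend pointOk 22 46035 59958 9 (p3u1546) p3r1547

theorem p3r1548 : allRange pointOk 22 59967 9 = true := by decide +kernel
theorem p3u1548 : ∀ k, 46035 ≤ k → k < 59976 → pointOk (k * 22) = true := between_extend pointOk 22 46035 59967 9 (p3u1547) p3r1548

theorem p3r1549 : allRange pointOk 22 59976 9 = true := by decide +kernel
theorem p3u1549 : ∀ k, 46035 ≤ k → k < 59985 → pointOk (k * 22) = true := between_extend pointOk 22 46035 59976 9 (p3u1548) p3r1549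

theorem p3r1550 : allRange pointOk 22 59985 9 = true := by decide +kernel
theorem p3u1550 : ∀ k, 46035 ≤ k → k < 59994 → pointOk (k * 22) = true := between_extend pointOk 22 46035 59985 9 (p3u1549) p3r1550

theorem p3r1551 : allRange pointOk 22 59994 9 = true := by decide +kernel
theorem p3u1551 : ∀ k, 46035 ≤ k → k < 60003 → pointOk (k * 22) = true := between_extend pointOk 22 46035 59994 9 (p3u1550) p3r1551

theorem p3r1552 : allRange pointOk 22 60003 9 = true := by decide +kernel
theorem p3u1552 : ∀ k, 46035 ≤ k → k < 60012 → pointOk (k * 22) = true := between_extend pointOk 22 46035 60003 9 (p3u1551) p3r1552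

theorem p3r1553 : allRange pointOk 22 60012 9 = true := by decide +kernel
theorem p3u1553 : ∀ k, 46035 ≤ k → k < 60021 → pointOk (k * 22) = true := between_extend pointOk 22 46035 60012 9 (p3u1552) p3r1553

theorem p3r1554 : allRange pointOk 22 60021 9 = true := by decide +kernel
theorem p3u1554 : ∀ k, 46035 ≤ k → k < 60030 → pointOk (k * 22) = true := between_extend pointOk 22 46035 60021 9 (p3u1553) p3r1554

theorem p3r1555 : allRange pointOk 22 60030 9 = true := by decide +kernel
theorem p3u1555 : ∀ k, 46035 ≤ k → k < 60039 → pointOk (k * 22) = true := between_extend pointOk 22 46035 60030 9 (p3u1554) p3r1555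

theorem p3r1556 : allRange pointOk 22 60039 9 = true := by decide +kernel
theorem p3u1556 : ∀ k, 46035 ≤ k → k < 60048 → pointOk (k * 22) = true := between_extend pointOk 22 46035 60039 9 (p3u1555) p3r1556

theorem p3r1557 : allRange pointOk 22 60048 9 = true := by decide +kernel
theorem p3u1557 : ∀ k, 46035 ≤ k → k < 60057 → pointOk (k * 22) = true := between_extend pointOk 22 46035 60048 9 (p3u1556) p3r1557

theorem p3r1558 : allRange pointOk 22 60057 9 = true := by decide +kernel
theorem p3u1558 : ∀ k, 46035 ≤ k → k < 60066 → pointOk (k * 22) = true := between_extend pointOk 22 46035 60057 9 (p3u1557) p3r1558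

theorem p3r1559 : allRange pointOk 22 60066 9 = true := by decide +kernel
theorem p3u1559 : ∀ k, 46035 ≤ k → k < 60075 → pointOk (k * 22) = true := between_extend pointOk 22 46035 60066 9 (p3u1558) p3r1559

theorem p3r1560 : allRange pointOk 22 60075 9 = true := by decide +kernel
theorem p3u1560 : ∀ k, 46035 ≤ k → k < 60084 → pointOk (k * 22) = true := between_extend pointOk 22 46035 60075 9 (p3u1559) p3r1560

theorem p3r1561 : allRange pointOk 22 60084 9 = true := by decide +kernel
theorem p3u1561 : ∀ k, 46035 ≤ k → k < 60093 → pointOk (k * 22) = true := between_extend pointOk 22 46035 60084 9 (p3u1560) p3r1561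

theorem p3r1562 : allRange pointOk 22 60093 9 = true := by decide +kernel
theorem p3u1562 : ∀ k, 46035 ≤ k → k < 60102 → pointOk (k * 22) = true := between_extend pointOk 22 46035 60093 9 (p3u1561) p3r1562

theorem p3r1563 : allRange pointOk 22 60102 9 = true := by decide +kernel
theorem p3u1563 : ∀ k, 46035 ≤ k → k < 60111 → pointOk (k * 22) = true := between_extend pointOk 22 46035 60102 9 (p3u1562) p3r1563

theorem p3r1564 : allRange pointOk 22 60111 9 = true := by decide +kernel
theorem p3u1564 : ∀ k, 46035 ≤ k → k < 60120 → pointOk (k * 22) = true := between_extend pointOk 22 46035 60111 9 (p3u1563) p3r1564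

theorem p3r1565 : allRange pointOk 22 60120 9 = true := by decide +kernel
theorem p3u1565 : ∀ k, 46035 ≤ k → k < 60129 → pointOk (k * 22) = true := between_extend pointOk 22 46035 60120 9 (p3u1564) p3r1565

theorem p3r1566 : allRange pointOk 22 60129 9 = true := by decide +kernel
theorem p3u1566 : ∀ k, 46035 ≤ k → k < 60138 → pointOk (k * 22) = true := between_extend pointOk 22 46035 60129 9 (p3u1565) p3r1566

theorem p3r1567 : allRange pointOk 22 60138 9 = true := by decide +kernel
theorem p3u1567 : ∀ k, 46035 ≤ k → k < 60147 → pointOk (k * 22) = true := between_extend pointOk 22 46035 60138 9 (p3u1566) p3r1567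

theorem p3r1568 : allRange pointOk 22 60147 9 = true := by decide +kernel
theorem p3u1568 : ∀ k, 46035 ≤ k → k < 60156 → pointOk (k * 22) = true := between_extend pointOk 22 46035 60147 9 (p3u1567) p3r1568

theorem p3r1569 : allRange pointOk 22 60156 9 = true := by decide +kernel
theorem p3u1569 : ∀ k, 46035 ≤ k → k < 60165 → pointOk (k * 22) = true := between_extend pointOk 22 46035 60156 9 (p3u1568) p3r1569

theorem p3r1570 : allRange pointOk 22 60165 9 = true := by decide +kernel
theorem p3u1570 : ∀ k, 46035 ≤ k → k < 60174 → pointOk (k * 22) = true := between_extend pointOk 22 46035 60165 9 (p3u1569) p3r1570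

theorem p3r1571 : allRange pointOk 22 60174 9 = true := by decide +kernel
theorem p3u1571 : ∀ k, 46035 ≤ k → k < 60183 → pointOk (k * 22) = true := between_extend pointOk 22 46035 60174 9 (p3u1570) p3r1571

theorem p3r1572 : allRange pointOk 22 60183 9 = true := by decide +kernel
theorem p3u1572 : ∀ k, 46035 ≤ k → k < 60192 → pointOk (k * 22) = true := between_extend pointOk 22 46035 60183 9 (p3u1571) p3r1572

theorem p3r1573 : allRange pointOk 22 60192 9 = true := by decide +kernel
theorem p3u1573 : ∀ k, 46035 ≤ k → k < 60201 → pointOk (k * 22) = true := between_extend pointOk 22 46035 60192 9 (p3u1572) p3r1573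

theorem p3r1574 : allRange pointOk 22 60201 9 = true := by decide +kernel
theorem p3u1574 : ∀ k, 46035 ≤ k → k < 60210 → pointOk (k * 22) = true := between_extend pointOk 22 46035 60201 9 (p3u1573) p3r1574

theorem p3r1575 : allRange pointOk 22 60210 9 = true := by decide +kernel
theorem p3u1575 : ∀ k, 46035 ≤ k → k < 60219 → pointOk (k * 22) = true := between_extend pointOk 22 46035 60210 9 (p3u1574) p3r1575

theorem p3r1576 : allRange pointOk 22 60219 9 = true := by decide +kernel
theorem p3u1576 : ∀ k, 46035 ≤ k → k < 60228 → pointOk (k * 22) = true := between_extend pointOk 22 46035 60219 9 (p3u1575) p3r1576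

theorem p3r1577 : allRange pointOk 22 60228 9 = true := by decide +kernel
theorem p3u1577 : ∀ k, 46035 ≤ k → k < 60237 → pointOk (k * 22) = true := between_extend pointOk 22 46035 60228 9 (p3u1576) p3r1577

theorem p3r1578 : allRange pointOk 22 60237 9 = true := by decide +kernel
theorem p3u1578 : ∀ k, 46035 ≤ k → k < 60246 → pointOk (k * 22) = true := between_extend pointOk 22 46035 60237 9 (p3u1577) p3r1578

theorem p3r1579 : allRange pointOk 22 60246 9 = true := by decide +kernel
theorem p3u1579 : ∀ k, 46035 ≤ k → k < 60255 → pointOk (k * 22) = true := between_extend pointOk 22 46035 60246 9 (p3u1578) p3r1579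

theorem p3r1580 : allRange pointOk 22 60255 9 = true := by decide +kernel
theorem p3u1580 : ∀ k, 46035 ≤ k → k < 60264 → pointOk (k * 22) = true := between_extend pointOk 22 46035 60255 9 (p3u1579) p3r1580

theorem p3r1581 : allRange pointOk 22 60264 9 = true := by decide +kernel
theorem p3u1581 : ∀ k, 46035 ≤ k → k < 60273 → pointOk (k * 22) = true := between_extend pointOk 22 46035 60264 9 (p3u1580) p3r1581

theorem p3r1582 : allRange pointOk 22 60273 9 = true := by decide +kernel
theorem p3u1582 : ∀ k, 46035 ≤ k → k < 60282 → pointOk (k * 22) = true := between_extend pointOk 22 46035 60273 9 (p3u1581) p3r1582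

theorem p3r1583 : allRange pointOk 22 60282 9 = true := by decide +kernel
theorem p3u1583 : ∀ k, 46035 ≤ k → k < 60291 → pointOk (k * 22) = true := between_extend pointOk 22 46035 60282 9 (p3u1582) p3r1583

theorem p3r1584 : allRange pointOk 22 60291 9 = true := by decide +kernel
theorem p3u1584 : ∀ k, 46035 ≤ k → k < 60300 → pointOk (k * 22) = true := between_extend pointOk 22 46035 60291 9 (p3u1583) p3r1584

theorem p3r1585 : allRange pointOk 22 60300 9 = true := by decide +kernel
theorem p3u1585 : ∀ k, 46035 ≤ k → k < 60309 → pointOk (k * 22) = true := between_extend pointOk 22 46035 60300 9 (p3u1584) p3r1585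

theorem p3r1586 : allRange pointOk 22 60309 9 = true := by decide +kernel
theorem p3u1586 : ∀ k, 46035 ≤ k → k < 60318 → pointOk (k * 22) = true := between_extend pointOk 22 46035 60309 9 (p3u1585) p3r1586

theorem p3r1587 : allRange pointOk 22 60318 9 = true := by decide +kernel
theorem p3u1587 : ∀ k, 46035 ≤ k → k < 60327 → pointOk (k * 22) = true := between_extend pointOk 22 46035 60318 9 (p3u1586) p3r1587

theorem p3r1588 : allRange pointOk 22 60327 9 = true := by decide +kernel
theorem p3u1588 : ∀ k, 46035 ≤ k → k < 60336 → pointOk (k * 22) = true := between_extend pointOk 22 46035 60327 9 (p3u1587) p3r1588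

theorem p3r1589 : allRange pointOk 22 60336 9 = true := by decide +kernel
theorem p3u1589 : ∀ k, 46035 ≤ k → k < 60345 → pointOk (k * 22) = true := between_extend pointOk 22 46035 60336 9 (p3u1588) p3r1589

theorem p3r1590 : allRange pointOk 22 60345 9 = true := by decide +kernel
theorem p3u1590 : ∀ k, 46035 ≤ k → k < 60354 → pointOk (k * 22) = true := between_extend pointOk 22 46035 60345 9 (p3u1589) p3r1590

theorem p3r1591 : allRange pointOk 22 60354 9 = true := by decide +kernel
theorem p3u1591 : ∀ k, 46035 ≤ k → k < 60363 → pointOk (k * 22) = true := between_extend pointOk 22 46035 60354 9 (p3u1590) p3r1591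

theorem p3r1592 : allRange pointOk 22 60363 9 = true := by decide +kernel
theorem p3u1592 : ∀ k, 46035 ≤ k → k < 60372 → pointOk (k * 22) = true := between_extend pointOk 22 46035 60363 9 (p3u1591) p3r1592

theorem p3r1593 : allRange pointOk 22 60372 9 = true := by decide +kernel
theorem p3u1593 : ∀ k, 46035 ≤ k → k < 60381 → pointOk (k * 22) = true := between_extend pointOk 22 46035 60372 9 (p3u1592) p3r1593

theorem p3r1594 : allRange pointOk 22 60381 9 = true := by decide +kernel
theorem p3u1594 : ∀ k, 46035 ≤ k → k < 60390 → pointOk (k * 22) = true := between_extend pointOk 22 46035 60381 9 (p3u1593) p3r1594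

theorem p3r1595 : allRange pointOk 22 60390 9 = true := by decide +kernel
theorem p3u1595 : ∀ k, 46035 ≤ k → k < 60399 → pointOk (k * 22) = true := between_extend pointOk 22 46035 60390 9 (p3u1594) p3r1595

theorem p3r1596 : allRange pointOk 22 60399 9 = true := by decide +kernel
theorem p3u1596 : ∀ k, 46035 ≤ k → k < 60408 → pointOk (k * 22) = true := between_extend pointOk 22 46035 60399 9 (p3u1595) p3r1596

theorem p3r1597 : allRange pointOk 22 60408 9 = true := by decide +kernel
theorem p3u1597 : ∀ k, 46035 ≤ k → k < 60417 → pointOk (k * 22) = true := between_extend pointOk 22 46035 60408 9 (p3u1596) p3r1597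

theorem p3r1598 : allRange pointOk 22 60417 9 = true := by decide +kernel
theorem p3u1598 : ∀ k, 46035 ≤ k → k < 60426 → pointOk (k * 22) = true := between_extend pointOk 22 46035 60417 9 (p3u1597) p3r1598

theorem p3r1599 : allRange pointOk 22 60426 9 = true := by decide +kernel
theorem p3u1599 : ∀ k, 46035 ≤ k → k < 60435 → pointOk (k * 22) = true := between_extend pointOk 22 46035 60426 9 (p3u1598) p3r1599

theorem p3r1600 : allRange pointOk 22 60435 9 = true := by decide +kernel
theorem p3u1600 : ∀ k, 46035 ≤ k → k < 60444 → pointOk (k * 22) = true := between_extend pointOk 22 46035 60435 9 (p3u1599) p3r1600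

theorem p3r1601 : allRange pointOk 22 60444 9 = true := by decide +kernel
theorem p3u1601 : ∀ k, 46035 ≤ k → k < 60453 → pointOk (k * 22) = true := between_extend pointOk 22 46035 60444 9 (p3u1600) p3r1601

theorem p3r1602 : allRange pointOk 22 60453 9 = true := by decide +kernel
theorem p3u1602 : ∀ k, 46035 ≤ k → k < 60462 → pointOk (k * 22) = true := between_extend pointOk 22 46035 60453 9 (p3u1601) p3r1602

theorem p3r1603 : allRange pointOk 22 60462 9 = true := by decide +kernel
theorem p3u1603 : ∀ k, 46035 ≤ k → k < 60471 → pointOk (k * 22) = true := between_extend pointOk 22 46035 60462 9 (p3u1602) p3r1603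

theorem p3r1604 : allRange pointOk 22 60471 9 = true := by decide +kernel
theorem p3u1604 : ∀ k, 46035 ≤ k → k < 60480 → pointOk (k * 22) = true := between_extend pointOk 22 46035 60471 9 (p3u1603) p3r1604

theorem p3r1605 : allRange pointOk 22 60480 9 = true := by decide +kernel
theorem p3u1605 : ∀ k, 46035 ≤ k → k < 60489 → pointOk (k * 22) = true := between_extend pointOk 22 46035 60480 9 (p3u1604) p3r1605

theorem p3r1606 : allRange pointOk 22 60489 9 = true := by decide +kernel
theorem p3u1606 : ∀ k, 46035 ≤ k → k < 60498 → pointOk (k * 22) = true := between_extend pointOk 22 46035 60489 9 (p3u1605) p3r1606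

theorem p3r1607 : allRange pointOk 22 60498 9 = true := by decide +kernel
theorem p3u1607 : ∀ k, 46035 ≤ k → k < 60507 → pointOk (k * 22) = true := between_extend pointOk 22 46035 60498 9 (p3u1606) p3r1607

theorem p3r1608 : allRange pointOk 22 60507 9 = true := by decide +kernel
theorem p3u1608 : ∀ k, 46035 ≤ k → k < 60516 → pointOk (k * 22) = true := between_extend pointOk 22 46035 60507 9 (p3u1607) p3r1608

theorem p3r1609 : allRange pointOk 22 60516 9 = true := by decide +kernel
theorem p3u1609 : ∀ k, 46035 ≤ k → k < 60525 → pointOk (k * 22) = true := between_extend pointOk 22 46035 60516 9 (p3u1608) p3r1609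

theorem p3r1610 : allRange pointOk 22 60525 9 = true := by decide +kernel
theorem p3u1610 : ∀ k, 46035 ≤ k → k < 60534 → pointOk (k * 22) = true := between_extend pointOk 22 46035 60525 9 (p3u1609) p3r1610

theorem p3r1611 : allRange pointOk 22 60534 9 = true := by decide +kernel
theorem p3u1611 : ∀ k, 46035 ≤ k → k < 60543 → pointOk (k * 22) = true := between_extend pointOk 22 46035 60534 9 (p3u1610) p3r1611

theorem p3r1612 : allRange pointOk 22 60543 9 = true := by decide +kernel
theorem p3u1612 : ∀ k, 46035 ≤ k → k < 60552 → pointOk (k * 22) = true := between_extend pointOk 22 46035 60543 9 (p3u1611) p3r1612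

theorem p3r1613 : allRange pointOk 22 60552 9 = true := by decide +kernel
theorem p3u1613 : ∀ k, 46035 ≤ k → k < 60561 → pointOk (k * 22) = true := between_extend pointOk 22 46035 60552 9 (p3u1612) p3r1613

theorem p3r1614 : allRange pointOk 22 60561 9 = true := by decide +kernel
theorem p3u1614 : ∀ k, 46035 ≤ k → k < 60570 → pointOk (k * 22) = true := between_extend pointOk 22 46035 60561 9 (p3u1613) p3r1614

theorem p3r1615 : allRange pointOk 22 60570 9 = true := by decide +kernel
theorem p3u1615 : ∀ k, 46035 ≤ k → k < 60579 → pointOk (k * 22) = true := between_extend pointOk 22 46035 60570 9 (p3u1614) p3r1615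

theorem p3r1616 : allRange pointOk 22 60579 9 = true := by decide +kernel
theorem p3u1616 : ∀ k, 46035 ≤ k → k < 60588 → pointOk (k * 22) = true := between_extend pointOk 22 46035 60579 9 (p3u1615) p3r1616

theorem p3r1617 : allRange pointOk 22 60588 9 = true := by decide +kernel
theorem p3u1617 : ∀ k, 46035 ≤ k → k < 60597 → pointOk (k * 22) = true := between_extend pointOk 22 46035 60588 9 (p3u1616) p3r1617

theorem p3r1618 : allRange pointOk 22 60597 9 = true := by decide +kernel
theorem p3u1618 : ∀ k, 46035 ≤ k → k < 60606 → pointOk (k * 22) = true := between_extend pointOk 22 46035 60597 9 (p3u1617) p3r1618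

theorem p3r1619 : allRange pointOk 22 60606 9 = true := by decide +kernel
theorem p3u1619 : ∀ k, 46035 ≤ k → k < 60615 → pointOk (k * 22) = true := between_extend pointOk 22 46035 60606 9 (p3u1618) p3r1619

theorem p3r1620 : allRange pointOk 22 60615 9 = true := by decide +kernel
theorem p3u1620 : ∀ k, 46035 ≤ k → k < 60624 → pointOk (k * 22) = true := between_extend pointOk 22 46035 60615 9 (p3u1619) p3r1620

theorem p3r1621 : allRange pointOk 22 60624 9 = true := by decide +kernel
theorem p3u1621 : ∀ k, 46035 ≤ k → k < 60633 → pointOk (k * 22) = true := between_extend pointOk 22 46035 60624 9 (p3u1620) p3r1621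

theorem p3r1622 : allRange pointOk 22 60633 9 = true := by decide +kernel
theorem p3u1622 : ∀ k, 46035 ≤ k → k < 60642 → pointOk (k * 22) = true := between_extend pointOk 22 46035 60633 9 (p3u1621) p3r1622

theorem p3r1623 : allRange pointOk 22 60642 9 = true := by decide +kernel
theorem p3u1623 : ∀ k, 46035 ≤ k → k < 60651 → pointOk (k * 22) = true := between_extend pointOk 22 46035 60642 9 (p3u1622) p3r1623

theorem p3r1624 : allRange pointOk 22 60651 9 = true := by decide +kernel
theorem p3u1624 : ∀ k, 46035 ≤ k → k < 60660 → pointOk (k * 22) = true := between_extend pointOk 22 46035 60651 9 (p3u1623) p3r1624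

theorem p3r1625 : allRange pointOk 22 60660 9 = true := by decide +kernel
theorem p3u1625 : ∀ k, 46035 ≤ k → k < 60669 → pointOk (k * 22) = true := between_extend pointOk 22 46035 60660 9 (p3u1624) p3r1625

theorem p3r1626 : allRange pointOk 22 60669 9 = true := by decide +kernel
theorem p3u1626 : ∀ k, 46035 ≤ k → k < 60678 → pointOk (k * 22) = true := between_extend pointOk 22 46035 60669 9 (p3u1625) p3r1626

theorem p3r1627 : allRange pointOk 22 60678 9 = true := by decide +kernel
theorem p3u1627 : ∀ k, 46035 ≤ k → k < 60687 → pointOk (k * 22) = true := between_extend pointOk 22 46035 60678 9 (p3u1626) p3r1627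

theorem p3r1628 : allRange pointOk 22 60687 9 = true := by decide +kernel
theorem p3u1628 : ∀ k, 46035 ≤ k → k < 60696 → pointOk (k * 22) = true := between_extend pointOk 22 46035 60687 9 (p3u1627) p3r1628

theorem p3r1629 : allRange pointOk 22 60696 9 = true := by decide +kernel
theorem p3u1629 : ∀ k, 46035 ≤ k → k < 60705 → pointOk (k * 22) = true := between_extend pointOk 22 46035 60696 9 (p3u1628) p3r1629

theorem p3r1630 : allRange pointOk 22 60705 9 = true := by decide +kernel
theorem p3u1630 : ∀ k, 46035 ≤ k → k < 60714 → pointOk (k * 22) = true := between_extend pointOk 22 46035 60705 9 (p3u1629) p3r1630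

theorem p3r1631 : allRange pointOk 22 60714 9 = true := by decide +kernel
theorem p3u1631 : ∀ k, 46035 ≤ k → k < 60723 → pointOk (k * 22) = true := between_extend pointOk 22 46035 60714 9 (p3u1630) p3r1631

theorem p3r1632 : allRange pointOk 22 60723 9 = true := by decide +kernel
theorem p3u1632 : ∀ k, 46035 ≤ k → k < 60732 → pointOk (k * 22) = true := between_extend pointOk 22 46035 60723 9 (p3u1631) p3r1632

theorem p3r1633 : allRange pointOk 22 60732 9 = true := by decide +kernel
theorem p3u1633 : ∀ k, 46035 ≤ k → k < 60741 → pointOk (k * 22) = true := between_extend pointOk 22 46035 60732 9 (p3u1632) p3r1633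

theorem p3r1634 : allRange pointOk 22 60741 9 = true := by decide +kernel
theorem p3u1634 : ∀ k, 46035 ≤ k → k < 60750 → pointOk (k * 22) = true := between_extend pointOk 22 46035 60741 9 (p3u1633) p3r1634

theorem p3r1635 : allRange pointOk 22 60750 9 = true := by decide +kernel
theorem p3u1635 : ∀ k, 46035 ≤ k → k < 60759 → pointOk (k * 22) = true := between_extend pointOk 22 46035 60750 9 (p3u1634) p3r1635

theorem p3r1636 : allRange pointOk 22 60759 9 = true := by decide +kernel
theorem p3u1636 : ∀ k, 46035 ≤ k → k < 60768 → pointOk (k * 22) = true := between_extend pointOk 22 46035 60759 9 (p3u1635) p3r1636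

theorem p3r1637 : allRange pointOk 22 60768 9 = true := by decide +kernel
theorem p3u1637 : ∀ k, 46035 ≤ k → k < 60777 → pointOk (k * 22) = true := between_extend pointOk 22 46035 60768 9 (p3u1636) p3r1637

theorem p3r1638 : allRange pointOk 22 60777 9 = true := by decide +kernel
theorem p3u1638 : ∀ k, 46035 ≤ k → k < 60786 → pointOk (k * 22) = true := between_extend pointOk 22 46035 60777 9 (p3u1637) p3r1638

theorem p3r1639 : allRange pointOk 22 60786 9 = true := by decide +kernel
theorem p3u1639 : ∀ k, 46035 ≤ k → k < 60795 → pointOk (k * 22) = true := between_extend pointOk 22 46035 60786 9 (p3u1638) p3r1639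

theorem p3r1640 : allRange pointOk 22 60795 9 = true := by decide +kernel
theorem p3u1640 : ∀ k, 46035 ≤ k → k < 60804 → pointOk (k * 22) = true := between_extend pointOk 22 46035 60795 9 (p3u1639) p3r1640

theorem p3r1641 : allRange pointOk 22 60804 9 = true := by decide +kernel
theorem p3u1641 : ∀ k, 46035 ≤ k → k < 60813 → pointOk (k * 22) = true := between_extend pointOk 22 46035 60804 9 (p3u1640) p3r1641

theorem p3r1642 : allRange pointOk 22 60813 9 = true := by decide +kernel
theorem p3u1642 : ∀ k, 46035 ≤ k → k < 60822 → pointOk (k * 22) = true := between_extend pointOk 22 46035 60813 9 (p3u1641) p3r1642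

theorem p3r1643 : allRange pointOk 22 60822 9 = true := by decide +kernel
theorem p3u1643 : ∀ k, 46035 ≤ k → k < 60831 → pointOk (k * 22) = true := between_extend pointOk 22 46035 60822 9 (p3u1642) p3r1643

theorem p3r1644 : allRange pointOk 22 60831 9 = true := by decide +kernel
theorem p3u1644 : ∀ k, 46035 ≤ k → k < 60840 → pointOk (k * 22) = true := between_extend pointOk 22 46035 60831 9 (p3u1643) p3r1644

theorem p3r1645 : allRange pointOk 22 60840 9 = true := by decide +kernel
theorem p3u1645 : ∀ k, 46035 ≤ k → k < 60849 → pointOk (k * 22) = true := between_extend pointOk 22 46035 60840 9 (p3u1644) p3r1645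

theorem p3r1646 : allRange pointOk 22 60849 9 = true := by decide +kernel
theorem p3u1646 : ∀ k, 46035 ≤ k → k < 60858 → pointOk (k * 22) = true := between_extend pointOk 22 46035 60849 9 (p3u1645) p3r1646

theorem p3r1647 : allRange pointOk 22 60858 9 = true := by decide +kernel
theorem p3u1647 : ∀ k, 46035 ≤ k → k < 60867 → pointOk (k * 22) = true := between_extend pointOk 22 46035 60858 9 (p3u1646) p3r1647

theorem p3r1648 : allRange pointOk 22 60867 9 = true := by decide +kernel
theorem p3u1648 : ∀ k, 46035 ≤ k → k < 60876 → pointOk (k * 22) = true := between_extend pointOk 22 46035 60867 9 (p3u1647) p3r1648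

theorem p3r1649 : allRange pointOk 22 60876 9 = true := by decide +kernel
theorem p3u1649 : ∀ k, 46035 ≤ k → k < 60885 → pointOk (k * 22) = true := between_extend pointOk 22 46035 60876 9 (p3u1648) p3r1649

theorem p3r1650 : allRange pointOk 22 60885 9 = true := by decide +kernel
theorem p3u1650 : ∀ k, 46035 ≤ k → k < 60894 → pointOk (k * 22) = true := between_extend pointOk 22 46035 60885 9 (p3u1649) p3r1650

theorem p3r1651 : allRange pointOk 22 60894 9 = true := by decide +kernel
theorem p3u1651 : ∀ k, 46035 ≤ k → k < 60903 → pointOk (k * 22) = true := between_extend pointOk 22 46035 60894 9 (p3u1650) p3r1651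

theorem p3r1652 : allRange pointOk 22 60903 9 = true := by decide +kernel
theorem p3u1652 : ∀ k, 46035 ≤ k → k < 60912 → pointOk (k * 22) = true := between_extend pointOk 22 46035 60903 9 (p3u1651) p3r1652

theorem p3r1653 : allRange pointOk 22 60912 9 = true := by decide +kernel
theorem p3u1653 : ∀ k, 46035 ≤ k → k < 60921 → pointOk (k * 22) = true := between_extend pointOk 22 46035 60912 9 (p3u1652) p3r1653

theorem p3r1654 : allRange pointOk 22 60921 9 = true := by decide +kernel
theorem p3u1654 : ∀ k, 46035 ≤ k → k < 60930 → pointOk (k * 22) = true := between_extend pointOk 22 46035 60921 9 (p3u1653) p3r1654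

theorem p3r1655 : allRange pointOk 22 60930 9 = true := by decide +kernel
theorem p3u1655 : ∀ k, 46035 ≤ k → k < 60939 → pointOk (k * 22) = true := between_extend pointOk 22 46035 60930 9 (p3u1654) p3r1655

theorem p3r1656 : allRange pointOk 22 60939 9 = true := by decide +kernel
theorem p3u1656 : ∀ k, 46035 ≤ k → k < 60948 → pointOk (k * 22) = true := between_extend pointOk 22 46035 60939 9 (p3u1655) p3r1656

theorem p3r1657 : allRange pointOk 22 60948 9 = true := by decide +kernel
theorem p3u1657 : ∀ k, 46035 ≤ k → k < 60957 → pointOk (k * 22) = true := between_extend pointOk 22 46035 60948 9 (p3u1656) p3r1657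

theorem p3r1658 : allRange pointOk 22 60957 9 = true := by decide +kernel
theorem p3u1658 : ∀ k, 46035 ≤ k → k < 60966 → pointOk (k * 22) = true := between_extend pointOk 22 46035 60957 9 (p3u1657) p3r1658

theorem p3r1659 : allRange pointOk 22 60966 9 = true := by decide +kernel
theorem p3u1659 : ∀ k, 46035 ≤ k → k < 60975 → pointOk (k * 22) = true := between_extend pointOk 22 46035 60966 9 (p3u1658) p3r1659

theorem p3r1660 : allRange pointOk 22 60975 9 = true := by decide +kernel
theorem p3u1660 : ∀ k, 46035 ≤ k → k < 60984 → pointOk (k * 22) = true := between_extend pointOk 22 46035 60975 9 (p3u1659) p3r1660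

theorem p3r1661 : allRange pointOk 22 60984 9 = true := by decide +kernel
theorem p3u1661 : ∀ k, 46035 ≤ k → k < 60993 → pointOk (k * 22) = true := between_extend pointOk 22 46035 60984 9 (p3u1660) p3r1661

theorem p3r1662 : allRange pointOk 22 60993 9 = true := by decide +kernel
theorem p3u1662 : ∀ k, 46035 ≤ k → k < 61002 → pointOk (k * 22) = true := between_extend pointOk 22 46035 60993 9 (p3u1661) p3r1662

theorem p3r1663 : allRange pointOk 22 61002 9 = true := by decide +kernel
theorem p3u1663 : ∀ k, 46035 ≤ k → k < 61011 → pointOk (k * 22) = true := between_extend pointOk 22 46035 61002 9 (p3u1662) p3r1663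

theorem p3r1664 : allRange pointOk 22 61011 9 = true := by decide +kernel
theorem p3u1664 : ∀ k, 46035 ≤ k → k < 61020 → pointOk (k * 22) = true := between_extend pointOk 22 46035 61011 9 (p3u1663) p3r1664

theorem p3r1665 : allRange pointOk 22 61020 9 = true := by decide +kernel
theorem p3u1665 : ∀ k, 46035 ≤ k → k < 61029 → pointOk (k * 22) = true := between_extend pointOk 22 46035 61020 9 (p3u1664) p3r1665

theorem p3r1666 : allRange pointOk 22 61029 9 = true := by decide +kernel
theorem p3u1666 : ∀ k, 46035 ≤ k → k < 61038 → pointOk (k * 22) = true := between_extend pointOk 22 46035 61029 9 (p3u1665) p3r1666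

theorem p3r1667 : allRange pointOk 22 61038 9 = true := by decide +kernel
theorem p3u1667 : ∀ k, 46035 ≤ k → k < 61047 → pointOk (k * 22) = true := between_extend pointOk 22 46035 61038 9 (p3u1666) p3r1667

theorem p3r1668 : allRange pointOk 22 61047 9 = true := by decide +kernel
theorem p3u1668 : ∀ k, 46035 ≤ k → k < 61056 → pointOk (k * 22) = true := between_extend pointOk 22 46035 61047 9 (p3u1667) p3r1668

theorem p3r1669 : allRange pointOk 22 61056 9 = true := by decide +kernel
theorem p3u1669 : ∀ k, 46035 ≤ k → k < 61065 → pointOk (k * 22) = true := between_extend pointOk 22 46035 61056 9 (p3u1668) p3r1669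

theorem p3r1670 : allRange pointOk 22 61065 9 = true := by decide +kernel
theorem p3u1670 : ∀ k, 46035 ≤ k → k < 61074 → pointOk (k * 22) = true := between_extend pointOk 22 46035 61065 9 (p3u1669) p3r1670

theorem p3r1671 : allRange pointOk 22 61074 9 = true := by decide +kernel
theorem p3u1671 : ∀ k, 46035 ≤ k → k < 61083 → pointOk (k * 22) = true := between_extend pointOk 22 46035 61074 9 (p3u1670) p3r1671

theorem p3r1672 : allRange pointOk 22 61083 9 = true := by decide +kernel
theorem p3u1672 : ∀ k, 46035 ≤ k → k < 61092 → pointOk (k * 22) = true := between_extend pointOk 22 46035 61083 9 (p3u1671) p3r1672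

theorem p3r1673 : allRange pointOk 22 61092 9 = true := by decide +kernel
theorem p3u1673 : ∀ k, 46035 ≤ k → k < 61101 → pointOk (k * 22) = true := between_extend pointOk 22 46035 61092 9 (p3u1672) p3r1673

theorem p3r1674 : allRange pointOk 22 61101 9 = true := by decide +kernel
theorem p3u1674 : ∀ k, 46035 ≤ k → k < 61110 → pointOk (k * 22) = true := between_extend pointOk 22 46035 61101 9 (p3u1673) p3r1674

theorem p3r1675 : allRange pointOk 22 61110 9 = true := by decide +kernel
theorem p3u1675 : ∀ k, 46035 ≤ k → k < 61119 → pointOk (k * 22) = true := between_extend pointOk 22 46035 61110 9 (p3u1674) p3r1675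

theorem p3r1676 : allRange pointOk 22 61119 9 = true := by decide +kernel
theorem p3u1676 : ∀ k, 46035 ≤ k → k < 61128 → pointOk (k * 22) = true := between_extend pointOk 22 46035 61119 9 (p3u1675) p3r1676

theorem p3r1677 : allRange pointOk 22 61128 9 = true := by decide +kernel
theorem p3u1677 : ∀ k, 46035 ≤ k → k < 61137 → pointOk (k * 22) = true := between_extend pointOk 22 46035 61128 9 (p3u1676) p3r1677

theorem p3r1678 : allRange pointOk 22 61137 9 = true := by decide +kernel
theorem p3u1678 : ∀ k, 46035 ≤ k → k < 61146 → pointOk (k * 22) = true := between_extend pointOk 22 46035 61137 9 (p3u1677) p3r1678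

theorem p3r1679 : allRange pointOk 22 61146 9 = true := by decide +kernel
theorem p3u1679 : ∀ k, 46035 ≤ k → k < 61155 → pointOk (k * 22) = true := between_extend pointOk 22 46035 61146 9 (p3u1678) p3r1679

theorem p3r1680 : allRange pointOk 22 61155 9 = true := by decide +kernel
theorem p3u1680 : ∀ k, 46035 ≤ k → k < 61164 → pointOk (k * 22) = true := between_extend pointOk 22 46035 61155 9 (p3u1679) p3r1680

theorem p3r1681 : allRange pointOk 22 61164 9 = true := by decide +kernel
theorem p3u1681 : ∀ k, 46035 ≤ k → k < 61173 → pointOk (k * 22) = true := between_extend pointOk 22 46035 61164 9 (p3u1680) p3r1681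

theorem p3r1682 : allRange pointOk 22 61173 9 = true := by decide +kernel
theorem p3u1682 : ∀ k, 46035 ≤ k → k < 61182 → pointOk (k * 22) = true := between_extend pointOk 22 46035 61173 9 (p3u1681) p3r1682

theorem p3r1683 : allRange pointOk 22 61182 9 = true := by decide +kernel
theorem p3u1683 : ∀ k, 46035 ≤ k → k < 61191 → pointOk (k * 22) = true := between_extend pointOk 22 46035 61182 9 (p3u1682) p3r1683

theorem p3r1684 : allRange pointOk 22 61191 9 = true := by decide +kernel
theorem p3u1684 : ∀ k, 46035 ≤ k → k < 61200 → pointOk (k * 22) = true := between_extend pointOk 22 46035 61191 9 (p3u1683) p3r1684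

theorem p3r1685 : allRange pointOk 22 61200 9 = true := by decide +kernel
theorem p3u1685 : ∀ k, 46035 ≤ k → k < 61209 → pointOk (k * 22) = true := between_extend pointOk 22 46035 61200 9 (p3u1684) p3r1685

theorem p3r1686 : allRange pointOk 22 61209 9 = true := by decide +kernel
theorem p3u1686 : ∀ k, 46035 ≤ k → k < 61218 → pointOk (k * 22) = true := between_extend pointOk 22 46035 61209 9 (p3u1685) p3r1686

theorem p3r1687 : allRange pointOk 22 61218 9 = true := by decide +kernel
theorem p3u1687 : ∀ k, 46035 ≤ k → k < 61227 → pointOk (k * 22) = true := between_extend pointOk 22 46035 61218 9 (p3u1686) p3r1687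

theorem p3r1688 : allRange pointOk 22 61227 9 = true := by decide +kernel
theorem p3u1688 : ∀ k, 46035 ≤ k → k < 61236 → pointOk (k * 22) = true := between_extend pointOk 22 46035 61227 9 (p3u1687) p3r1688

theorem p3r1689 : allRange pointOk 22 61236 9 = true := by decide +kernel
theorem p3u1689 : ∀ k, 46035 ≤ k → k < 61245 → pointOk (k * 22) = true := between_extend pointOk 22 46035 61236 9 (p3u1688) p3r1689

theorem p3r1690 : allRange pointOk 22 61245 9 = true := by decide +kernel
theorem p3u1690 : ∀ k, 46035 ≤ k → k < 61254 → pointOk (k * 22) = true := between_extend pointOk 22 46035 61245 9 (p3u1689) p3r1690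

theorem p3r1691 : allRange pointOk 22 61254 9 = true := by decide +kernel
theorem p3u1691 : ∀ k, 46035 ≤ k → k < 61263 → pointOk (k * 22) = true := between_extend pointOk 22 46035 61254 9 (p3u1690) p3r1691

theorem p3r1692 : allRange pointOk 22 61263 9 = true := by decide +kernel
theorem p3u1692 : ∀ k, 46035 ≤ k → k < 61272 → pointOk (k * 22) = true := between_extend pointOk 22 46035 61263 9 (p3u1691) p3r1692

theorem p3r1693 : allRange pointOk 22 61272 9 = true := by decide +kernel
theorem p3u1693 : ∀ k, 46035 ≤ k → k < 61281 → pointOk (k * 22) = true := between_extend pointOk 22 46035 61272 9 (p3u1692) p3r1693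

theorem p3r1694 : allRange pointOk 22 61281 9 = true := by decide +kernel
theorem p3u1694 : ∀ k, 46035 ≤ k → k < 61290 → pointOk (k * 22) = true := between_extend pointOk 22 46035 61281 9 (p3u1693) p3r1694

theorem p3r1695 : allRange pointOk 22 61290 9 = true := by decide +kernel
theorem p3u1695 : ∀ k, 46035 ≤ k → k < 61299 → pointOk (k * 22) = true := between_extend pointOk 22 46035 61290 9 (p3u1694) p3r1695

theorem p3r1696 : allRange pointOk 22 61299 9 = true := by decide +kernel
theorem p3u1696 : ∀ k, 46035 ≤ k → k < 61308 → pointOk (k * 22) = true := between_extend pointOk 22 46035 61299 9 (p3u1695) p3r1696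

theorem p3r1697 : allRange pointOk 22 61308 9 = true := by decide +kernel
theorem p3u1697 : ∀ k, 46035 ≤ k → k < 61317 → pointOk (k * 22) = true := between_extend pointOk 22 46035 61308 9 (p3u1696) p3r1697

theorem p3r1698 : allRange pointOk 22 61317 9 = true := by decide +kernel
theorem p3u1698 : ∀ k, 46035 ≤ k → k < 61326 → pointOk (k * 22) = true := between_extend pointOk 22 46035 61317 9 (p3u1697) p3r1698

theorem p3r1699 : allRange pointOk 22 61326 9 = true := by decide +kernel
theorem p3u1699 : ∀ k, 46035 ≤ k → k < 61335 → pointOk (k * 22) = true := between_extend pointOk 22 46035 61326 9 (p3u1698) p3r1699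

theorem p3r1700 : allRange pointOk 22 61335 9 = true := by decide +kernel
theorem p3u1700 : ∀ k, 46035 ≤ k → k < 61344 → pointOk (k * 22) = true := between_extend pointOk 22 46035 61335 9 (p3u1699) p3r1700

theorem p3r1701 : allRange pointOk 22 61344 9 = true := by decide +kernel
theorem p3u1701 : ∀ k, 46035 ≤ k → k < 61353 → pointOk (k * 22) = true := between_extend pointOk 22 46035 61344 9 (p3u1700) p3r1701

theorem p3r1702 : allRange pointOk 22 61353 9 = true := by decide +kernel
theorem p3u1702 : ∀ k, 46035 ≤ k → k < 61362 → pointOk (k * 22) = true := between_extend pointOk 22 46035 61353 9 (p3u1701) p3r1702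

theorem p3r1703 : allRange pointOk 22 61362 9 = true := by decide +kernel
theorem p3u1703 : ∀ k, 46035 ≤ k → k < 61371 → pointOk (k * 22) = true := between_extend pointOk 22 46035 61362 9 (p3u1702) p3r1703

theorem p3r1704 : allRange pointOk 22 61371 9 = true := by decide +kernel
theorem p3u1704 : ∀ k, 46035 ≤ k → k < 61380 → pointOk (k * 22) = true := between_extend pointOk 22 46035 61371 9 (p3u1703) p3r1704

theorem p3 : ∀ k, 46035 ≤ k → k < 61380 → pointOk (k * 22) = true := p3u1704

end Cfsg.Agent.Lib.Helper28_S1692
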