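import Cfsg.Agent.Lib.Helper28_S1692P0  -- build-order chain (limits parallel memory use)
import Cfsg.Agent.Lib.Helper28_S1692Def

set_option autoImplicit false
set_option linter.constructorNameAsVariable false
set_option Elab.async false

namespace Cfsg.Agent.Lib.Helper28_S1692

open Cfsg.Agent.Lib.Helper28_CosetPerm

theorem p4r0 : allRange pointOk 22 61380 9 = true := by decide +kernel
theorem p4u0 : ∀ k, 61380 ≤ k → k < 61389 → pointOk (k * 22) = true := between_extend pointOk 22 61380 61380 9 (between_start pointOk 22 61380) p4r0

theorem p4r1 : allRange pointOk 22 61389 9 = true := by decide +kernel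
theorem p4u1 : ∀ k, 61380 ≤ k → k < 61398 → pointOk (k * 22) = true := between_extend pointOk 22 61380 61389 9 (p4u0) p4r1

theorem p4r2 : allRange pointOk 22 61398 9 = true := by decide +kernel
theorem p4u2 : ∀ k, 61380 ≤ k → k < 61407 → pointOk (k * 22) = true := between_extend pointOk 22 61380 61398 9 (p4u1) p4r2

theorem p4r3 : allRange pointOk 22 61407 9 = true := by decide +kernel
theorem p4u3 : ∀ k, 61380 ≤ k → k < 61416 → pointOk (k * 22) = true := between_extend pointOk 22 61380 61407 9 (p4u2) p4r3

theorem p4r4 : allRange pointOk 22 61416 9 = true := by decide +kernel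
theorem p4u4 : ∀ k, 61380 ≤ k → k < 61425 → pointOk (k * 22) = true := between_extend pointOk 22 61380 61416 9 (p4u3) p4r4

theorem p4r5 : allRange pointOk 22 61425 9 = true := by decide +kernel
theorem p4u5 : ∀ k, 61380 ≤ k → k < 61434 → pointOk (k * 22) = true := between_extend pointOk 22 61380 61425 9 (p4u4) p4r5

theorem p4r6 : allRange pointOk 22 61434 9 = true := by decide +kernel
theorem p4u6 : ∀ k, 61380 ≤ k → k < 61443 → pointOk (k * 22) = true := between_extend pointOk 22 61380 61434 9 (p4u5) p4r6

theorem p4r7 : allRange pointOk 22 61443 9 = true := by decide +kernel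
theorem p4u7 : ∀ k, 61380 ≤ k → k < 61452 → pointOk (k * 22) = true := between_extend pointOk 22 61380 61443 9 (p4u6) p4r7

theorem p4r8 : allRange pointOk 22 61452 9 = true := by decide +kernel
theorem p4u8 : ∀ k, 61380 ≤ k → k < 61461 → pointOk (k * 22) = true := between_extend pointOk 22 61380 61452 9 (p4u7) p4r8

theorem p4r9 : allRange pointOk 22 61461 9 = true := by decide +kernel
theorem p4u9 : ∀ k, 61380 ≤ k → k < 61470 → pointOk (k * 22) = true := between_extend pointOk 22 61380 61461 9 (p4u8) p4r9

theorem p4r10 : allRange pointOk 22 61470 9 = true := by decide +kernel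
theorem p4u10 : ∀ k, 61380 ≤ k → k < 61479 → pointOk (k * 22) = true := between_extend pointOk 22 61380 61470 9 (p4u9) p4r10

theorem p4r11 : allRange pointOk 22 61479 9 = true := by decide +kernel
theorem p4u11 : ∀ k, 61380 ≤ k → k < 61488 → pointOk (k * 22) = true := between_extend pointOk 22 61380 61479 9 (p4u10) p4r11

theorem p4r12 : allRange pointOk 22 61488 9 = true := by decide +kernel
theorem p4u12 : ∀ k, 61380 ≤ k → k < 61497 → pointOk (k * 22) = true := between_extend pointOk 22 61380 61488 9 (p4u11) p4r12

theorem p4r13 : allRange pointOk 22 61497 9 = true := by decide +kernel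
theorem p4u13 : ∀ k, 61380 ≤ k → k < 61506 → pointOk (k * 22) = true := between_extend pointOk 22 61380 61497 9 (p4u12) p4r13

theorem p4r14 : allRange pointOk 22 61506 9 = true := by decide +kernel
theorem p4u14 : ∀ k, 61380 ≤ k → k < 61515 → pointOk (k * 22) = true := between_extend pointOk 22 61380 61506 9 (p4u13) p4r14

theorem p4r15 : allRange pointOk 22 61515 9 = true := by decide +kernel
theorem p4u15 : ∀ k, 61380 ≤ k → k < 61524 → pointOk (k * 22) = true := between_extend pointOk 22 61380 61515 9 (p4u14) p4r15

theorem p4r16 : allRange pointOk 22 61524 9 = true := by decide +kernel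
theorem p4u16 : ∀ k, 61380 ≤ k → k < 61533 → pointOk (k * 22) = true := between_extend pointOk 22 61380 61524 9 (p4u15) p4r16

theorem p4r17 : allRange pointOk 22 61533 9 = true := by decide +kernel
theorem p4u17 : ∀ k, 61380 ≤ k → k < 61542 → pointOk (k * 22) = true := between_extend pointOk 22 61380 61533 9 (p4u16) p4r17

theorem p4r18 : allRange pointOk 22 61542 9 = true := by decide +kernel
theorem p4u18 : ∀ k, 61380 ≤ k → k < 61551 → pointOk (k * 22) = true := between_extend pointOk 22 61380 61542 9 (p4u17) p4r18

theorem p4r19 : allRange pointOk 22 61551 9 = true := by decide +kernel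
theorem p4u19 : ∀ k, 61380 ≤ k → k < 61560 → pointOk (k * 22) = true := between_extend pointOk 22 61380 61551 9 (p4u18) p4r19

theorem p4r20 : allRange pointOk 22 61560 9 = true := by decide +kernel
theorem p4u20 : ∀ k, 61380 ≤ k → k < 61569 → pointOk (k * 22) = true := between_extend pointOk 22 61380 61560 9 (p4u19) p4r20

theorem p4r21 : allRange pointOk 22 61569 9 = true := by decide +kernel
theorem p4u21 : ∀ k, 61380 ≤ k → k < 61578 → pointOk (k * 22) = true := between_extend pointOk 22 61380 61569 9 (p4u20) p4r21

theorem p4r22 : allRange pointOk 22 61578 9 = true := by decide +kernel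
theorem p4u22 : ∀ k, 61380 ≤ k → k < 61587 → pointOk (k * 22) = true := between_extend pointOk 22 61380 61578 9 (p4u21) p4r22

theorem p4r23 : allRange pointOk 22 61587 9 = true := by decide +kernel
theorem p4u23 : ∀ k, 61380 ≤ k → k < 61596 → pointOk (k * 22) = true := between_extend pointOk 22 61380 61587 9 (p4u22) p4r23

theorem p4r24 : allRange pointOk 22 61596 9 = true := by decide +kernel
theorem p4u24 : ∀ k, 61380 ≤ k → k < 61605 → pointOk (k * 22) = true := between_extend pointOk 22 61380 61596 9 (p4u23) p4r24

theorem p4r25 : allRange pointOk 22 61605 9 = true := by decide +kernel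
theorem p4u25 : ∀ k, 61380 ≤ k → k < 61614 → pointOk (k * 22) = true := between_extend pointOk 22 61380 61605 9 (p4u24) p4r25

theorem p4r26 : allRange pointOk 22 61614 9 = true := by decide +kernel
theorem p4u26 : ∀ k, 61380 ≤ k → k < 61623 → pointOk (k * 22) = true := between_extend pointOk 22 61380 61614 9 (p4u25) p4r26

theorem p4r27 : allRange pointOk 22 61623 9 = true := by decide +kernel
theorem p4u27 : ∀ k, 61380 ≤ k → k < 61632 → pointOk (k * 22) = true := between_extend pointOk 22 61380 61623 9 (p4u26) p4r27

theorem p4r28 : allRange pointOk 22 61632 9 = true := by decide +kernel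
theorem p4u28 : ∀ k, 61380 ≤ k → k < 61641 → pointOk (k * 22) = true := between_extend pointOk 22 61380 61632 9 (p4u27) p4r28

theorem p4r29 : allRange pointOk 22 61641 9 = true := by decide +kernel
theorem p4u29 : ∀ k, 61380 ≤ k → k < 61650 → pointOk (k * 22) = true := between_extend pointOk 22 61380 61641 9 (p4u28) p4r29

theorem p4r30 : allRange pointOk 22 61650 9 = true := by decide +kernel
theorem p4u30 : ∀ k, 61380 ≤ k → k < 61659 → pointOk (k * 22) = true := between_extend pointOk 22 61380 61650 9 (p4u29) p4r30

theorem p4r31 : allRange pointOk 22 61659 9 = true := by decide +kernel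
theorem p4u31 : ∀ k, 61380 ≤ k → k < 61668 → pointOk (k * 22) = true := between_extend pointOk 22 61380 61659 9 (p4u30) p4r31

theorem p4r32 : allRange pointOk 22 61668 9 = true := by decide +kernel
theorem p4u32 : ∀ k, 61380 ≤ k → k < 61677 → pointOk (k * 22) = true := between_extend pointOk 22 61380 61668 9 (p4u31) p4r32

theorem p4r33 : allRange pointOk 22 61677 9 = true := by decide +kernel
theorem p4u33 : ∀ k, 61380 ≤ k → k < 61686 → pointOk (k * 22) = true := between_extend pointOk 22 61380 61677 9 (p4u32) p4r33

theorem p4r34 : allRange pointOk 22 61686 9 = true := by decide +kernel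
theorem p4u34 : ∀ k, 61380 ≤ k → k < 61695 → pointOk (k * 22) = true := between_extend pointOk 22 61380 61686 9 (p4u33) p4r34

theorem p4r35 : allRange pointOk 22 61695 9 = true := by decide +kernel
theorem p4u35 : ∀ k, 61380 ≤ k → k < 61704 → pointOk (k * 22) = true := between_extend pointOk 22 61380 61695 9 (p4u34) p4r35

theorem p4r36 : allRange pointOk 22 61704 9 = true := by decide +kernel
theorem p4u36 : ∀ k, 61380 ≤ k → k < 61713 → pointOk (k * 22) = true := between_extend pointOk 22 61380 61704 9 (p4u35) p4r36

theorem p4r37 : allRange pointOk 22 61713 9 = true := by decide +kernel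
theorem p4u37 : ∀ k, 61380 ≤ k → k < 61722 → pointOk (k * 22) = true := between_extend pointOk 22 61380 61713 9 (p4u36) p4r37

theorem p4r38 : allRange pointOk 22 61722 9 = true := by decide +kernel
theorem p4u38 : ∀ k, 61380 ≤ k → k < 61731 → pointOk (k * 22) = true := between_extend pointOk 22 61380 61722 9 (p4u37) p4r38

theorem p4r39 : allRange pointOk 22 61731 9 = true := by decide +kernel
theorem p4u39 : ∀ k, 61380 ≤ k → k < 61740 → pointOk (k * 22) = true := between_extend pointOk 22 61380 61731 9 (p4u38) p4r39

theorem p4r40 : allRange pointOk 22 61740 9 = true := by decide +kernel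
theorem p4u40 : ∀ k, 61380 ≤ k → k < 61749 → pointOk (k * 22) = true := between_extend pointOk 22 61380 61740 9 (p4u39) p4r40

theorem p4r41 : allRange pointOk 22 61749 9 = true := by decide +kernel
theorem p4u41 : ∀ k, 61380 ≤ k → k < 61758 → pointOk (k * 22) = true := between_extend pointOk 22 61380 61749 9 (p4u40) p4r41

theorem p4r42 : allRange pointOk 22 61758 9 = true := by decide +kernel
theorem p4u42 : ∀ k, 61380 ≤ k → k < 61767 → pointOk (k * 22) = true := between_extend pointOk 22 61380 61758 9 (p4u41) p4r42

theorem p4r43 : allRange pointOk 22 61767 9 = true := by decide +kernel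
theorem p4u43 : ∀ k, 61380 ≤ k → k < 61776 → pointOk (k * 22) = true := between_extend pointOk 22 61380 61767 9 (p4u42) p4r43

theorem p4r44 : allRange pointOk 22 61776 9 = true := by decide +kernel
theorem p4u44 : ∀ k, 61380 ≤ k → k < 61785 → pointOk (k * 22) = true := between_extend pointOk 22 61380 61776 9 (p4u43) p4r44

theorem p4r45 : allRange pointOk 22 61785 9 = true := by decide +kernel
theorem p4u45 : ∀ k, 61380 ≤ k → k < 61794 → pointOk (k * 22) = true := between_extend pointOk 22 61380 61785 9 (p4u44) p4r45

theorem p4r46 : allRange pointOk 22 61794 9 = true := by decide +kernel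
theorem p4u46 : ∀ k, 61380 ≤ k → k < 61803 → pointOk (k * 22) = true := between_extend pointOk 22 61380 61794 9 (p4u45) p4r46

theorem p4r47 : allRange pointOk 22 61803 9 = true := by decide +kernel
theorem p4u47 : ∀ k, 61380 ≤ k → k < 61812 → pointOk (k * 22) = true := between_extend pointOk 22 61380 61803 9 (p4u46) p4r47

theorem p4r48 : allRange pointOk 22 61812 9 = true := by decide +kernel
theorem p4u48 : ∀ k, 61380 ≤ k → k < 61821 → pointOk (k * 22) = true := between_extend pointOk 22 61380 61812 9 (p4u47) p4r48

theorem p4r49 : allRange pointOk 22 61821 9 = true := by decide +kernel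
theorem p4u49 : ∀ k, 61380 ≤ k → k < 61830 → pointOk (k * 22) = true := between_extend pointOk 22 61380 61821 9 (p4u48) p4r49

theorem p4r50 : allRange pointOk 22 61830 9 = true := by decide +kernel
theorem p4u50 : ∀ k, 61380 ≤ k → k < 61839 → pointOk (k * 22) = true := between_extend pointOk 22 61380 61830 9 (p4u49) p4r50

theorem p4r51 : allRange pointOk 22 61839 9 = true := by decide +kernel
theorem p4u51 : ∀ k, 61380 ≤ k → k < 61848 → pointOk (k * 22) = true := between_extend pointOk 22 61380 61839 9 (p4u50) p4r51

theorem p4r52 : allRange pointOk 22 61848 9 = true := by decide +kernel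
theorem p4u52 : ∀ k, 61380 ≤ k → k < 61857 → pointOk (k * 22) = true := between_extend pointOk 22 61380 61848 9 (p4u51) p4r52

theorem p4r53 : allRange pointOk 22 61857 9 = true := by decide +kernel
theorem p4u53 : ∀ k, 61380 ≤ k → k < 61866 → pointOk (k * 22) = true := between_extend pointOk 22 61380 61857 9 (p4u52) p4r53

theorem p4r54 : allRange pointOk 22 61866 9 = true := by decide +kernel
theorem p4u54 : ∀ k, 61380 ≤ k → k < 61875 → pointOk (k * 22) = true := between_extend pointOk 22 61380 61866 9 (p4u53) p4r54

theorem p4r55 : allRange pointOk 22 61875 9 = true := by decide +kernel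
theorem p4u55 : ∀ k, 61380 ≤ k → k < 61884 → pointOk (k * 22) = true := between_extend pointOk 22 61380 61875 9 (p4u54) p4r55

theorem p4r56 : allRange pointOk 22 61884 9 = true := by decide +kernel
theorem p4u56 : ∀ k, 61380 ≤ k → k < 61893 → pointOk (k * 22) = true := between_extend pointOk 22 61380 61884 9 (p4u55) p4r56

theorem p4r57 : allRange pointOk 22 61893 9 = true := by decide +kernel
theorem p4u57 : ∀ k, 61380 ≤ k → k < 61902 → pointOk (k * 22) = true := between_extend pointOk 22 61380 61893 9 (p4u56) p4r57

theorem p4r58 : allRange pointOk 22 61902 9 = true := by decide +kernel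
theorem p4u58 : ∀ k, 61380 ≤ k → k < 61911 → pointOk (k * 22) = true := between_extend pointOk 22 61380 61902 9 (p4u57) p4r58

theorem p4r59 : allRange pointOk 22 61911 9 = true := by decide +kernel
theorem p4u59 : ∀ k, 61380 ≤ k → k < 61920 → pointOk (k * 22) = true := between_extend pointOk 22 61380 61911 9 (p4u58) p4r59

theorem p4r60 : allRange pointOk 22 61920 9 = true := by decide +kernel
theorem p4u60 : ∀ k, 61380 ≤ k → k < 61929 → pointOk (k * 22) = true := between_extend pointOk 22 61380 61920 9 (p4u59) p4r60

theorem p4r61 : allRange pointOk 22 61929 9 = true := by decide +kernel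
theorem p4u61 : ∀ k, 61380 ≤ k → k < 61938 → pointOk (k * 22) = true := between_extend pointOk 22 61380 61929 9 (p4u60) p4r61

theorem p4r62 : allRange pointOk 22 61938 9 = true := by decide +kernel
theorem p4u62 : ∀ k, 61380 ≤ k → k < 61947 → pointOk (k * 22) = true := between_extend pointOk 22 61380 61938 9 (p4u61) p4r62

theorem p4r63 : allRange pointOk 22 61947 9 = true := by decide +kernel
theorem p4u63 : ∀ k, 61380 ≤ k → k < 61956 → pointOk (k * 22) = true := between_extend pointOk 22 61380 61947 9 (p4u62) p4r63

theorem p4r64 : allRange pointOk 22 61956 9 = true := by decide +kernel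
theorem p4u64 : ∀ k, 61380 ≤ k → k < 61965 → pointOk (k * 22) = true := between_extend pointOk 22 61380 61956 9 (p4u63) p4r64

theorem p4r65 : allRange pointOk 22 61965 9 = true := by decide +kernel
theorem p4u65 : ∀ k, 61380 ≤ k → k < 61974 → pointOk (k * 22) = true := between_extend pointOk 22 61380 61965 9 (p4u64) p4r65

theorem p4r66 : allRange pointOk 22 61974 9 = true := by decide +kernel
theorem p4u66 : ∀ k, 61380 ≤ k → k < 61983 → pointOk (k * 22) = true := between_extend pointOk 22 61380 61974 9 (p4u65) p4r66

theorem p4r67 : allRange pointOk 22 61983 9 = true := by decide +kernel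
theorem p4u67 : ∀ k, 61380 ≤ k → k < 61992 → pointOk (k * 22) = true := between_extend pointOk 22 61380 61983 9 (p4u66) p4r67

theorem p4r68 : allRange pointOk 22 61992 9 = true := by decide +kernel
theorem p4u68 : ∀ k, 61380 ≤ k → k < 62001 → pointOk (k * 22) = true := between_extend pointOk 22 61380 61992 9 (p4u67) p4r68

theorem p4r69 : allRange pointOk 22 62001 9 = true := by decide +kernel
theorem p4u69 : ∀ k, 61380 ≤ k → k < 62010 → pointOk (k * 22) = true := between_extend pointOk 22 61380 62001 9 (p4u68) p4r69

theorem p4r70 : allRange pointOk 22 62010 9 = true := by decide +kernel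
theorem p4u70 : ∀ k, 61380 ≤ k → k < 62019 → pointOk (k * 22) = true := between_extend pointOk 22 61380 62010 9 (p4u69) p4r70

theorem p4r71 : allRange pointOk 22 62019 9 = true := by decide +kernel
theorem p4u71 : ∀ k, 61380 ≤ k → k < 62028 → pointOk (k * 22) = true := between_extend pointOk 22 61380 62019 9 (p4u70) p4r71

theorem p4r72 : allRange pointOk 22 62028 9 = true := by decide +kernel
theorem p4u72 : ∀ k, 61380 ≤ k → k < 62037 → pointOk (k * 22) = true := between_extend pointOk 22 61380 62028 9 (p4u71) p4r72

theorem p4r73 : allRange pointOk 22 62037 9 = true := by decide +kernel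
theorem p4u73 : ∀ k, 61380 ≤ k → k < 62046 → pointOk (k * 22) = true := between_extend pointOk 22 61380 62037 9 (p4u72) p4r73

theorem p4r74 : allRange pointOk 22 62046 9 = true := by decide +kernel
theorem p4u74 : ∀ k, 61380 ≤ k → k < 62055 → pointOk (k * 22) = true := between_extend pointOk 22 61380 62046 9 (p4u73) p4r74

theorem p4r75 : allRange pointOk 22 62055 9 = true := by decide +kernel
theorem p4u75 : ∀ k, 61380 ≤ k → k < 62064 → pointOk (k * 22) = true := between_extend pointOk 22 61380 62055 9 (p4u74) p4r75

theorem p4r76 : allRange pointOk 22 62064 9 = true := by decide +kernel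
theorem p4u76 : ∀ k, 61380 ≤ k → k < 62073 → pointOk (k * 22) = true := between_extend pointOk 22 61380 62064 9 (p4u75) p4r76

theorem p4r77 : allRange pointOk 22 62073 9 = true := by decide +kernel
theorem p4u77 : ∀ k, 61380 ≤ k → k < 62082 → pointOk (k * 22) = true := between_extend pointOk 22 61380 62073 9 (p4u76) p4r77

theorem p4r78 : allRange pointOk 22 62082 9 = true := by decide +kernel
theorem p4u78 : ∀ k, 61380 ≤ k → k < 62091 → pointOk (k * 22) = true := between_extend pointOk 22 61380 62082 9 (p4u77) p4r78

theorem p4r79 : allRange pointOk 22 62091 9 = true := by decide +kernel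
theorem p4u79 : ∀ k, 61380 ≤ k → k < 62100 → pointOk (k * 22) = true := between_extend pointOk 22 61380 62091 9 (p4u78) p4r79

theorem p4r80 : allRange pointOk 22 62100 9 = true := by decide +kernel
theorem p4u80 : ∀ k, 61380 ≤ k → k < 62109 → pointOk (k * 22) = true := between_extend pointOk 22 61380 62100 9 (p4u79) p4r80

theorem p4r81 : allRange pointOk 22 62109 9 = true := by decide +kernel
theorem p4u81 : ∀ k, 61380 ≤ k → k < 62118 → pointOk (k * 22) = true := between_extend pointOk 22 61380 62109 9 (p4u80) p4r81

theorem p4r82 : allRange pointOk 22 62118 9 = true := by decide +kernel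
theorem p4u82 : ∀ k, 61380 ≤ k → k < 62127 → pointOk (k * 22) = true := between_extend pointOk 22 61380 62118 9 (p4u81) p4r82

theorem p4r83 : allRange pointOk 22 62127 9 = true := by decide +kernel
theorem p4u83 : ∀ k, 61380 ≤ k → k < 62136 → pointOk (k * 22) = true := between_extend pointOk 22 61380 62127 9 (p4u82) p4r83

theorem p4r84 : allRange pointOk 22 62136 9 = true := by decide +kernel
theorem p4u84 : ∀ k, 61380 ≤ k → k < 62145 → pointOk (k * 22) = true := between_extend pointOk 22 61380 62136 9 (p4u83) p4r84

theorem p4r85 : allRange pointOk 22 62145 9 = true := by decide +kernel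
theorem p4u85 : ∀ k, 61380 ≤ k → k < 62154 → pointOk (k * 22) = true := between_extend pointOk 22 61380 62145 9 (p4u84) p4r85

theorem p4r86 : allRange pointOk 22 62154 9 = true := by decide +kernel
theorem p4u86 : ∀ k, 61380 ≤ k → k < 62163 → pointOk (k * 22) = true := between_extend pointOk 22 61380 62154 9 (p4u85) p4r86

theorem p4r87 : allRange pointOk 22 62163 9 = true := by decide +kernel
theorem p4u87 : ∀ k, 61380 ≤ k → k < 62172 → pointOk (k * 22) = true := between_extend pointOk 22 61380 62163 9 (p4u86) p4r87

theorem p4r88 : allRange pointOk 22 62172 9 = true := by decide +kernel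
theorem p4u88 : ∀ k, 61380 ≤ k → k < 62181 → pointOk (k * 22) = true := between_extend pointOk 22 61380 62172 9 (p4u87) p4r88

theorem p4r89 : allRange pointOk 22 62181 9 = true := by decide +kernel
theorem p4u89 : ∀ k, 61380 ≤ k → k < 62190 → pointOk (k * 22) = true := between_extend pointOk 22 61380 62181 9 (p4u88) p4r89

theorem p4r90 : allRange pointOk 22 62190 9 = true := by decide +kernel
theorem p4u90 : ∀ k, 61380 ≤ k → k < 62199 → pointOk (k * 22) = true := between_extend pointOk 22 61380 62190 9 (p4u89) p4r90

theorem p4r91 : allRange pointOk 22 62199 9 = true := by decide +kernel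
theorem p4u91 : ∀ k, 61380 ≤ k → k < 62208 → pointOk (k * 22) = true := between_extend pointOk 22 61380 62199 9 (p4u90) p4r91

theorem p4r92 : allRange pointOk 22 62208 9 = true := by decide +kernel
theorem p4u92 : ∀ k, 61380 ≤ k → k < 62217 → pointOk (k * 22) = true := between_extend pointOk 22 61380 62208 9 (p4u91) p4r92

theorem p4r93 : allRange pointOk 22 62217 9 = true := by decide +kernel
theorem p4u93 : ∀ k, 61380 ≤ k → k < 62226 → pointOk (k * 22) = true := between_extend pointOk 22 61380 62217 9 (p4u92) p4r93

theorem p4r94 : allRange pointOk 22 62226 9 = true := by decide +kernel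
theorem p4u94 : ∀ k, 61380 ≤ k → k < 62235 → pointOk (k * 22) = true := between_extend pointOk 22 61380 62226 9 (p4u93) p4r94

theorem p4r95 : allRange pointOk 22 62235 9 = true := by decide +kernel
theorem p4u95 : ∀ k, 61380 ≤ k → k < 62244 → pointOk (k * 22) = true := between_extend pointOk 22 61380 62235 9 (p4u94) p4r95

theorem p4r96 : allRange pointOk 22 62244 9 = true := by decide +kernel
theorem p4u96 : ∀ k, 61380 ≤ k → k < 62253 → pointOk (k * 22) = true := between_extend pointOk 22 61380 62244 9 (p4u95) p4r96

theorem p4r97 : allRange pointOk 22 62253 9 = true := by decide +kernel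
theorem p4u97 : ∀ k, 61380 ≤ k → k < 62262 → pointOk (k * 22) = true := between_extend pointOk 22 61380 62253 9 (p4u96) p4r97

theorem p4r98 : allRange pointOk 22 62262 9 = true := by decide +kernel
theorem p4u98 : ∀ k, 61380 ≤ k → k < 62271 → pointOk (k * 22) = true := between_extend pointOk 22 61380 62262 9 (p4u97) p4r98

theorem p4r99 : allRange pointOk 22 62271 9 = true := by decide +kernel
theorem p4u99 : ∀ k, 61380 ≤ k → k < 62280 → pointOk (k * 22) = true := between_extend pointOk 22 61380 62271 9 (p4u98) p4r99

theorem p4r100 : allRange pointOk 22 62280 9 = true := by decide +kernel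
theorem p4u100 : ∀ k, 61380 ≤ k → k < 62289 → pointOk (k * 22) = true := between_extend pointOk 22 61380 62280 9 (p4u99) p4r100

theorem p4r101 : allRange pointOk 22 62289 9 = true := by decide +kernel
theorem p4u101 : ∀ k, 61380 ≤ k → k < 62298 → pointOk (k * 22) = true := between_extend pointOk 22 61380 62289 9 (p4u100) p4r101

theorem p4r102 : allRange pointOk 22 62298 9 = true := by decide +kernel
theorem p4u102 : ∀ k, 61380 ≤ k → k < 62307 → pointOk (k * 22) = true := between_extend pointOk 22 61380 62298 9 (p4u101) p4r102

theorem p4r103 : allRange pointOk 22 62307 9 = true := by decide +kernel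
theorem p4u103 : ∀ k, 61380 ≤ k → k < 62316 → pointOk (k * 22) = true := between_extend pointOk 22 61380 62307 9 (p4u102) p4r103

theorem p4r104 : allRange pointOk 22 62316 9 = true := by decide +kernel
theorem p4u104 : ∀ k, 61380 ≤ k → k < 62325 → pointOk (k * 22) = true := between_extend pointOk 22 61380 62316 9 (p4u103) p4r104

theorem p4r105 : allRange pointOk 22 62325 9 = true := by decide +kernel
theorem p4u105 : ∀ k, 61380 ≤ k → k < 62334 → pointOk (k * 22) = true := between_extend pointOk 22 61380 62325 9 (p4u104) p4r105

theorem p4r106 : allRange pointOk 22 62334 9 = true := by decide +kernel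
theorem p4u106 : ∀ k, 61380 ≤ k → k < 62343 → pointOk (k * 22) = true := between_extend pointOk 22 61380 62334 9 (p4u105) p4r106

theorem p4r107 : allRange pointOk 22 62343 9 = true := by decide +kernel
theorem p4u107 : ∀ k, 61380 ≤ k → k < 62352 → pointOk (k * 22) = true := between_extend pointOk 22 61380 62343 9 (p4u106) p4r107

theorem p4r108 : allRange pointOk 22 62352 9 = true := by decide +kernel
theorem p4u108 : ∀ k, 61380 ≤ k → k < 62361 → pointOk (k * 22) = true := between_extend pointOk 22 61380 62352 9 (p4u107) p4r108

theorem p4r109 : allRange pointOk 22 62361 9 = true := by decide +kernel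
theorem p4u109 : ∀ k, 61380 ≤ k → k < 62370 → pointOk (k * 22) = true := between_extend pointOk 22 61380 62361 9 (p4u108) p4r109

theorem p4r110 : allRange pointOk 22 62370 9 = true := by decide +kernel
theorem p4u110 : ∀ k, 61380 ≤ k → k < 62379 → pointOk (k * 22) = true := between_extend pointOk 22 61380 62370 9 (p4u109) p4r110

theorem p4r111 : allRange pointOk 22 62379 9 = true := by decide +kernel
theorem p4u111 : ∀ k, 61380 ≤ k → k < 62388 → pointOk (k * 22) = true := between_extend pointOk 22 61380 62379 9 (p4u110) p4r111

theorem p4r112 : allRange pointOk 22 62388 9 = true := by decide +kernel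
theorem p4u112 : ∀ k, 61380 ≤ k → k < 62397 → pointOk (k * 22) = true := between_extend pointOk 22 61380 62388 9 (p4u111) p4r112

theorem p4r113 : allRange pointOk 22 62397 9 = true := by decide +kernel
theorem p4u113 : ∀ k, 61380 ≤ k → k < 62406 → pointOk (k * 22) = true := between_extend pointOk 22 61380 62397 9 (p4u112) p4r113

theorem p4r114 : allRange pointOk 22 62406 9 = true := by decide +kernel
theorem p4u114 : ∀ k, 61380 ≤ k → k < 62415 → pointOk (k * 22) = true := between_extend pointOk 22 61380 62406 9 (p4u113) p4r114

theorem p4r115 : allRange pointOk 22 62415 9 = true := by decide +kernel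
theorem p4u115 : ∀ k, 61380 ≤ k → k < 62424 → pointOk (k * 22) = true := between_extend pointOk 22 61380 62415 9 (p4u114) p4r115

theorem p4r116 : allRange pointOk 22 62424 9 = true := by decide +kernel
theorem p4u116 : ∀ k, 61380 ≤ k → k < 62433 → pointOk (k * 22) = true := between_extend pointOk 22 61380 62424 9 (p4u115) p4r116

theorem p4r117 : allRange pointOk 22 62433 9 = true := by decide +kernel
theorem p4u117 : ∀ k, 61380 ≤ k → k < 62442 → pointOk (k * 22) = true := between_extend pointOk 22 61380 62433 9 (p4u116) p4r117

theorem p4r118 : allRange pointOk 22 62442 9 = true := by decide +kernel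
theorem p4u118 : ∀ k, 61380 ≤ k → k < 62451 → pointOk (k * 22) = true := between_extend pointOk 22 61380 62442 9 (p4u117) p4r118

theorem p4r119 : allRange pointOk 22 62451 9 = true := by decide +kernel
theorem p4u119 : ∀ k, 61380 ≤ k → k < 62460 → pointOk (k * 22) = true := between_extend pointOk 22 61380 62451 9 (p4u118) p4r119

theorem p4r120 : allRange pointOk 22 62460 9 = true := by decide +kernel
theorem p4u120 : ∀ k, 61380 ≤ k → k < 62469 → pointOk (k * 22) = true := between_extend pointOk 22 61380 62460 9 (p4u119) p4r120

theorem p4r121 : allRange pointOk 22 62469 9 = true := by decide +kernel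
theorem p4u121 : ∀ k, 61380 ≤ k → k < 62478 → pointOk (k * 22) = true := between_extend pointOk 22 61380 62469 9 (p4u120) p4r121

theorem p4r122 : allRange pointOk 22 62478 9 = true := by decide +kernel
theorem p4u122 : ∀ k, 61380 ≤ k → k < 62487 → pointOk (k * 22) = true := between_extend pointOk 22 61380 62478 9 (p4u121) p4r122

theorem p4r123 : allRange pointOk 22 62487 9 = true := by decide +kernel
theorem p4u123 : ∀ k, 61380 ≤ k → k < 62496 → pointOk (k * 22) = true := between_extend pointOk 22 61380 62487 9 (p4u122) p4r123

theorem p4r124 : allRange pointOk 22 62496 9 = true := by decide +kernel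
theorem p4u124 : ∀ k, 61380 ≤ k → k < 62505 → pointOk (k * 22) = true := between_extend pointOk 22 61380 62496 9 (p4u123) p4r124

theorem p4r125 : allRange pointOk 22 62505 9 = true := by decide +kernel
theorem p4u125 : ∀ k, 61380 ≤ k → k < 62514 → pointOk (k * 22) = true := between_extend pointOk 22 61380 62505 9 (p4u124) p4r125

theorem p4r126 : allRange pointOk 22 62514 9 = true := by decide +kernel
theorem p4u126 : ∀ k, 61380 ≤ k → k < 62523 → pointOk (k * 22) = true := between_extend pointOk 22 61380 62514 9 (p4u125) p4r126

theorem p4r127 : allRange pointOk 22 62523 9 = true := by decide +kernel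
theorem p4u127 : ∀ k, 61380 ≤ k → k < 62532 → pointOk (k * 22) = true := between_extend pointOk 22 61380 62523 9 (p4u126) p4r127

theorem p4r128 : allRange pointOk 22 62532 9 = true := by decide +kernel
theorem p4u128 : ∀ k, 61380 ≤ k → k < 62541 → pointOk (k * 22) = true := between_extend pointOk 22 61380 62532 9 (p4u127) p4r128

theorem p4r129 : allRange pointOk 22 62541 9 = true := by decide +kernel
theorem p4u129 : ∀ k, 61380 ≤ k → k < 62550 → pointOk (k * 22) = true := between_extend pointOk 22 61380 62541 9 (p4u128) p4r129

theorem p4r130 : allRange pointOk 22 62550 9 = true := by decide +kernel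
theorem p4u130 : ∀ k, 61380 ≤ k → k < 62559 → pointOk (k * 22) = true := between_extend pointOk 22 61380 62550 9 (p4u129) p4r130

theorem p4r131 : allRange pointOk 22 62559 9 = true := by decide +kernel
theorem p4u131 : ∀ k, 61380 ≤ k → k < 62568 → pointOk (k * 22) = true := between_extend pointOk 22 61380 62559 9 (p4u130) p4r131

theorem p4r132 : allRange pointOk 22 62568 9 = true := by decide +kernel
theorem p4u132 : ∀ k, 61380 ≤ k → k < 62577 → pointOk (k * 22) = true := between_extend pointOk 22 61380 62568 9 (p4u131) p4r132

theorem p4r133 : allRange pointOk 22 62577 9 = true := by decide +kernel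
theorem p4u133 : ∀ k, 61380 ≤ k → k < 62586 → pointOk (k * 22) = true := between_extend pointOk 22 61380 62577 9 (p4u132) p4r133

theorem p4r134 : allRange pointOk 22 62586 9 = true := by decide +kernel
theorem p4u134 : ∀ k, 61380 ≤ k → k < 62595 → pointOk (k * 22) = true := between_extend pointOk 22 61380 62586 9 (p4u133) p4r134

theorem p4r135 : allRange pointOk 22 62595 9 = true := by decide +kernel
theorem p4u135 : ∀ k, 61380 ≤ k → k < 62604 → pointOk (k * 22) = true := between_extend pointOk 22 61380 62595 9 (p4u134) p4r135

theorem p4r136 : allRange pointOk 22 62604 9 = true := by decide +kernel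
theorem p4u136 : ∀ k, 61380 ≤ k → k < 62613 → pointOk (k * 22) = true := between_extend pointOk 22 61380 62604 9 (p4u135) p4r136

theorem p4r137 : allRange pointOk 22 62613 9 = true := by decide +kernel
theorem p4u137 : ∀ k, 61380 ≤ k → k < 62622 → pointOk (k * 22) = true := between_extend pointOk 22 61380 62613 9 (p4u136) p4r137

theorem p4r138 : allRange pointOk 22 62622 9 = true := by decide +kernel
theorem p4u138 : ∀ k, 61380 ≤ k → k < 62631 → pointOk (k * 22) = true := between_extend pointOk 22 61380 62622 9 (p4u137) p4r138

theorem p4r139 : allRange pointOk 22 62631 9 = true := by decide +kernel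
theorem p4u139 : ∀ k, 61380 ≤ k → k < 62640 → pointOk (k * 22) = true := between_extend pointOk 22 61380 62631 9 (p4u138) p4r139

theorem p4r140 : allRange pointOk 22 62640 9 = true := by decide +kernel
theorem p4u140 : ∀ k, 61380 ≤ k → k < 62649 → pointOk (k * 22) = true := between_extend pointOk 22 61380 62640 9 (p4u139) p4r140

theorem p4r141 : allRange pointOk 22 62649 9 = true := by decide +kernel
theorem p4u141 : ∀ k, 61380 ≤ k → k < 62658 → pointOk (k * 22) = true := between_extend pointOk 22 61380 62649 9 (p4u140) p4r141

theorem p4r142 : allRange pointOk 22 62658 9 = true := by decide +kernel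
theorem p4u142 : ∀ k, 61380 ≤ k → k < 62667 → pointOk (k * 22) = true := between_extend pointOk 22 61380 62658 9 (p4u141) p4r142

theorem p4r143 : allRange pointOk 22 62667 9 = true := by decide +kernel
theorem p4u143 : ∀ k, 61380 ≤ k → k < 62676 → pointOk (k * 22) = true := between_extend pointOk 22 61380 62667 9 (p4u142) p4r143

theorem p4r144 : allRange pointOk 22 62676 9 = true := by decide +kernel
theorem p4u144 : ∀ k, 61380 ≤ k → k < 62685 → pointOk (k * 22) = true := between_extend pointOk 22 61380 62676 9 (p4u143) p4r144

theorem p4r145 : allRange pointOk 22 62685 9 = true := by decide +kernel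
theorem p4u145 : ∀ k, 61380 ≤ k → k < 62694 → pointOk (k * 22) = true := between_extend pointOk 22 61380 62685 9 (p4u144) p4r145

theorem p4r146 : allRange pointOk 22 62694 9 = true := by decide +kernel
theorem p4u146 : ∀ k, 61380 ≤ k → k < 62703 → pointOk (k * 22) = true := between_extend pointOk 22 61380 62694 9 (p4u145) p4r146

theorem p4r147 : allRange pointOk 22 62703 9 = true := by decide +kernel
theorem p4u147 : ∀ k, 61380 ≤ k → k < 62712 → pointOk (k * 22) = true := between_extend pointOk 22 61380 62703 9 (p4u146) p4r147

theorem p4r148 : allRange pointOk 22 62712 9 = true := by decide +kernel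
theorem p4u148 : ∀ k, 61380 ≤ k → k < 62721 → pointOk (k * 22) = true := between_extend pointOk 22 61380 62712 9 (p4u147) p4r148

theorem p4r149 : allRange pointOk 22 62721 9 = true := by decide +kernel
theorem p4u149 : ∀ k, 61380 ≤ k → k < 62730 → pointOk (k * 22) = true := between_extend pointOk 22 61380 62721 9 (p4u148) p4r149

theorem p4r150 : allRange pointOk 22 62730 9 = true := by decide +kernel
theorem p4u150 : ∀ k, 61380 ≤ k → k < 62739 → pointOk (k * 22) = true := between_extend pointOk 22 61380 62730 9 (p4u149) p4r150

theorem p4r151 : allRange pointOk 22 62739 9 = true := by decide +kernel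
theorem p4u151 : ∀ k, 61380 ≤ k → k < 62748 → pointOk (k * 22) = true := between_extend pointOk 22 61380 62739 9 (p4u150) p4r151

theorem p4r152 : allRange pointOk 22 62748 9 = true := by decide +kernel
theorem p4u152 : ∀ k, 61380 ≤ k → k < 62757 → pointOk (k * 22) = true := between_extend pointOk 22 61380 62748 9 (p4u151) p4r152

theorem p4r153 : allRange pointOk 22 62757 9 = true := by decide +kernel
theorem p4u153 : ∀ k, 61380 ≤ k → k < 62766 → pointOk (k * 22) = true := between_extend pointOk 22 61380 62757 9 (p4u152) p4r153

theorem p4r154 : allRange pointOk 22 62766 9 = true := by decide +kernel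
theorem p4u154 : ∀ k, 61380 ≤ k → k < 62775 → pointOk (k * 22) = true := between_extend pointOk 22 61380 62766 9 (p4u153) p4r154

theorem p4r155 : allRange pointOk 22 62775 9 = true := by decide +kernel
theorem p4u155 : ∀ k, 61380 ≤ k → k < 62784 → pointOk (k * 22) = true := between_extend pointOk 22 61380 62775 9 (p4u154) p4r155

theorem p4r156 : allRange pointOk 22 62784 9 = true := by decide +kernel
theorem p4u156 : ∀ k, 61380 ≤ k → k < 62793 → pointOk (k * 22) = true := between_extend pointOk 22 61380 62784 9 (p4u155) p4r156

theorem p4r157 : allRange pointOk 22 62793 9 = true := by decide +kernel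
theorem p4u157 : ∀ k, 61380 ≤ k → k < 62802 → pointOk (k * 22) = true := between_extend pointOk 22 61380 62793 9 (p4u156) p4r157

theorem p4r158 : allRange pointOk 22 62802 9 = true := by decide +kernel
theorem p4u158 : ∀ k, 61380 ≤ k → k < 62811 → pointOk (k * 22) = true := between_extend pointOk 22 61380 62802 9 (p4u157) p4r158

theorem p4r159 : allRange pointOk 22 62811 9 = true := by decide +kernel
theorem p4u159 : ∀ k, 61380 ≤ k → k < 62820 → pointOk (k * 22) = true := between_extend pointOk 22 61380 62811 9 (p4u158) p4r159

theorem p4r160 : allRange pointOk 22 62820 9 = true := by decide +kernel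
theorem p4u160 : ∀ k, 61380 ≤ k → k < 62829 → pointOk (k * 22) = true := between_extend pointOk 22 61380 62820 9 (p4u159) p4r160

theorem p4r161 : allRange pointOk 22 62829 9 = true := by decide +kernel
theorem p4u161 : ∀ k, 61380 ≤ k → k < 62838 → pointOk (k * 22) = true := between_extend pointOk 22 61380 62829 9 (p4u160) p4r161

theorem p4r162 : allRange pointOk 22 62838 9 = true := by decide +kernel
theorem p4u162 : ∀ k, 61380 ≤ k → k < 62847 → pointOk (k * 22) = true := between_extend pointOk 22 61380 62838 9 (p4u161) p4r162

theorem p4r163 : allRange pointOk 22 62847 9 = true := by decide +kernel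
theorem p4u163 : ∀ k, 61380 ≤ k → k < 62856 → pointOk (k * 22) = true := between_extend pointOk 22 61380 62847 9 (p4u162) p4r163

theorem p4r164 : allRange pointOk 22 62856 9 = true := by decide +kernel
theorem p4u164 : ∀ k, 61380 ≤ k → k < 62865 → pointOk (k * 22) = true := between_extend pointOk 22 61380 62856 9 (p4u163) p4r164

theorem p4r165 : allRange pointOk 22 62865 9 = true := by decide +kernel
theorem p4u165 : ∀ k, 61380 ≤ k → k < 62874 → pointOk (k * 22) = true := between_extend pointOk 22 61380 62865 9 (p4u164) p4r165

theorem p4r166 : allRange pointOk 22 62874 9 = true := by decide +kernel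
theorem p4u166 : ∀ k, 61380 ≤ k → k < 62883 → pointOk (k * 22) = true := between_extend pointOk 22 61380 62874 9 (p4u165) p4r166

theorem p4r167 : allRange pointOk 22 62883 9 = true := by decide +kernel
theorem p4u167 : ∀ k, 61380 ≤ k → k < 62892 → pointOk (k * 22) = true := between_extend pointOk 22 61380 62883 9 (p4u166) p4r167

theorem p4r168 : allRange pointOk 22 62892 9 = true := by decide +kernel
theorem p4u168 : ∀ k, 61380 ≤ k → k < 62901 → pointOk (k * 22) = true := between_extend pointOk 22 61380 62892 9 (p4u167) p4r168

theorem p4r169 : allRange pointOk 22 62901 9 = true := by decide +kernel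
theorem p4u169 : ∀ k, 61380 ≤ k → k < 62910 → pointOk (k * 22) = true := between_extend pointOk 22 61380 62901 9 (p4u168) p4r169

theorem p4r170 : allRange pointOk 22 62910 9 = true := by decide +kernel
theorem p4u170 : ∀ k, 61380 ≤ k → k < 62919 → pointOk (k * 22) = true := between_extend pointOk 22 61380 62910 9 (p4u169) p4r170

theorem p4r171 : allRange pointOk 22 62919 9 = true := by decide +kernel
theorem p4u171 : ∀ k, 61380 ≤ k → k < 62928 → pointOk (k * 22) = true := between_extend pointOk 22 61380 62919 9 (p4u170) p4r171

theorem p4r172 : allRange pointOk 22 62928 9 = true := by decide +kernel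
theorem p4u172 : ∀ k, 61380 ≤ k → k < 62937 → pointOk (k * 22) = true := between_extend pointOk 22 61380 62928 9 (p4u171) p4r172

theorem p4r173 : allRange pointOk 22 62937 9 = true := by decide +kernel
theorem p4u173 : ∀ k, 61380 ≤ k → k < 62946 → pointOk (k * 22) = true := between_extend pointOk 22 61380 62937 9 (p4u172) p4r173

theorem p4r174 : allRange pointOk 22 62946 9 = true := by decide +kernel
theorem p4u174 : ∀ k, 61380 ≤ k → k < 62955 → pointOk (k * 22) = true := between_extend pointOk 22 61380 62946 9 (p4u173) p4r174

theorem p4r175 : allRange pointOk 22 62955 9 = true := by decide +kernel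
theorem p4u175 : ∀ k, 61380 ≤ k → k < 62964 → pointOk (k * 22) = true := between_extend pointOk 22 61380 62955 9 (p4u174) p4r175

theorem p4r176 : allRange pointOk 22 62964 9 = true := by decide +kernel
theorem p4u176 : ∀ k, 61380 ≤ k → k < 62973 → pointOk (k * 22) = true := between_extend pointOk 22 61380 62964 9 (p4u175) p4r176

theorem p4r177 : allRange pointOk 22 62973 9 = true := by decide +kernel
theorem p4u177 : ∀ k, 61380 ≤ k → k < 62982 → pointOk (k * 22) = true := between_extend pointOk 22 61380 62973 9 (p4u176) p4r177

theorem p4r178 : allRange pointOk 22 62982 9 = true := by decide +kernel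
theorem p4u178 : ∀ k, 61380 ≤ k → k < 62991 → pointOk (k * 22) = true := between_extend pointOk 22 61380 62982 9 (p4u177) p4r178

theorem p4r179 : allRange pointOk 22 62991 9 = true := by decide +kernel
theorem p4u179 : ∀ k, 61380 ≤ k → k < 63000 → pointOk (k * 22) = true := between_extend pointOk 22 61380 62991 9 (p4u178) p4r179

theorem p4r180 : allRange pointOk 22 63000 9 = true := by decide +kernel
theorem p4u180 : ∀ k, 61380 ≤ k → k < 63009 → pointOk (k * 22) = true := between_extend pointOk 22 61380 63000 9 (p4u179) p4r180

theorem p4r181 : allRange pointOk 22 63009 9 = true := by decide +kernel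
theorem p4u181 : ∀ k, 61380 ≤ k → k < 63018 → pointOk (k * 22) = true := between_extend pointOk 22 61380 63009 9 (p4u180) p4r181

theorem p4r182 : allRange pointOk 22 63018 9 = true := by decide +kernel
theorem p4u182 : ∀ k, 61380 ≤ k → k < 63027 → pointOk (k * 22) = true := between_extend pointOk 22 61380 63018 9 (p4u181) p4r182

theorem p4r183 : allRange pointOk 22 63027 9 = true := by decide +kernel
theorem p4u183 : ∀ k, 61380 ≤ k → k < 63036 → pointOk (k * 22) = true := between_extend pointOk 22 61380 63027 9 (p4u182) p4r183

theorem p4r184 : allRange pointOk 22 63036 9 = true := by decide +kernel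
theorem p4u184 : ∀ k, 61380 ≤ k → k < 63045 → pointOk (k * 22) = true := between_extend pointOk 22 61380 63036 9 (p4u183) p4r184

theorem p4r185 : allRange pointOk 22 63045 9 = true := by decide +kernel
theorem p4u185 : ∀ k, 61380 ≤ k → k < 63054 → pointOk (k * 22) = true := between_extend pointOk 22 61380 63045 9 (p4u184) p4r185

theorem p4r186 : allRange pointOk 22 63054 9 = true := by decide +kernel
theorem p4u186 : ∀ k, 61380 ≤ k → k < 63063 → pointOk (k * 22) = true := between_extend pointOk 22 61380 63054 9 (p4u185) p4r186

theorem p4r187 : allRange pointOk 22 63063 9 = true := by decide +kernel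
theorem p4u187 : ∀ k, 61380 ≤ k → k < 63072 → pointOk (k * 22) = true := between_extend pointOk 22 61380 63063 9 (p4u186) p4r187

theorem p4r188 : allRange pointOk 22 63072 9 = true := by decide +kernel
theorem p4u188 : ∀ k, 61380 ≤ k → k < 63081 → pointOk (k * 22) = true := between_extend pointOk 22 61380 63072 9 (p4u187) p4r188

theorem p4r189 : allRange pointOk 22 63081 9 = true := by decide +kernel
theorem p4u189 : ∀ k, 61380 ≤ k → k < 63090 → pointOk (k * 22) = true := between_extend pointOk 22 61380 63081 9 (p4u188) p4r189

theorem p4r190 : allRange pointOk 22 63090 9 = true := by decide +kernel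
theorem p4u190 : ∀ k, 61380 ≤ k → k < 63099 → pointOk (k * 22) = true := between_extend pointOk 22 61380 63090 9 (p4u189) p4r190

theorem p4r191 : allRange pointOk 22 63099 9 = true := by decide +kernel
theorem p4u191 : ∀ k, 61380 ≤ k → k < 63108 → pointOk (k * 22) = true := between_extend pointOk 22 61380 63099 9 (p4u190) p4r191

theorem p4r192 : allRange pointOk 22 63108 9 = true := by decide +kernel
theorem p4u192 : ∀ k, 61380 ≤ k → k < 63117 → pointOk (k * 22) = true := between_extend pointOk 22 61380 63108 9 (p4u191) p4r192

theorem p4r193 : allRange pointOk 22 63117 9 = true := by decide +kernel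
theorem p4u193 : ∀ k, 61380 ≤ k → k < 63126 → pointOk (k * 22) = true := between_extend pointOk 22 61380 63117 9 (p4u192) p4r193

theorem p4r194 : allRange pointOk 22 63126 9 = true := by decide +kernel
theorem p4u194 : ∀ k, 61380 ≤ k → k < 63135 → pointOk (k * 22) = true := between_extend pointOk 22 61380 63126 9 (p4u193) p4r194

theorem p4r195 : allRange pointOk 22 63135 9 = true := by decide +kernel
theorem p4u195 : ∀ k, 61380 ≤ k → k < 63144 → pointOk (k * 22) = true := between_extend pointOk 22 61380 63135 9 (p4u194) p4r195

theorem p4r196 : allRange pointOk 22 63144 9 = true := by decide +kernel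
theorem p4u196 : ∀ k, 61380 ≤ k → k < 63153 → pointOk (k * 22) = true := between_extend pointOk 22 61380 63144 9 (p4u195) p4r196

theorem p4r197 : allRange pointOk 22 63153 9 = true := by decide +kernel
theorem p4u197 : ∀ k, 61380 ≤ k → k < 63162 → pointOk (k * 22) = true := between_extend pointOk 22 61380 63153 9 (p4u196) p4r197

theorem p4r198 : allRange pointOk 22 63162 9 = true := by decide +kernel
theorem p4u198 : ∀ k, 61380 ≤ k → k < 63171 → pointOk (k * 22) = true := between_extend pointOk 22 61380 63162 9 (p4u197) p4r198

theorem p4r199 : allRange pointOk 22 63171 9 = true := by decide +kernel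
theorem p4u199 : ∀ k, 61380 ≤ k → k < 63180 → pointOk (k * 22) = true := between_extend pointOk 22 61380 63171 9 (p4u198) p4r199

theorem p4r200 : allRange pointOk 22 63180 9 = true := by decide +kernel
theorem p4u200 : ∀ k, 61380 ≤ k → k < 63189 → pointOk (k * 22) = true := between_extend pointOk 22 61380 63180 9 (p4u199) p4r200

theorem p4r201 : allRange pointOk 22 63189 9 = true := by decide +kernel
theorem p4u201 : ∀ k, 61380 ≤ k → k < 63198 → pointOk (k * 22) = true := between_extend pointOk 22 61380 63189 9 (p4u200) p4r201

theorem p4r202 : allRange pointOk 22 63198 9 = true := by decide +kernel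
theorem p4u202 : ∀ k, 61380 ≤ k → k < 63207 → pointOk (k * 22) = true := between_extend pointOk 22 61380 63198 9 (p4u201) p4r202

theorem p4r203 : allRange pointOk 22 63207 9 = true := by decide +kernel
theorem p4u203 : ∀ k, 61380 ≤ k → k < 63216 → pointOk (k * 22) = true := between_extend pointOk 22 61380 63207 9 (p4u202) p4r203

theorem p4r204 : allRange pointOk 22 63216 9 = true := by decide +kernel
theorem p4u204 : ∀ k, 61380 ≤ k → k < 63225 → pointOk (k * 22) = true := between_extend pointOk 22 61380 63216 9 (p4u203) p4r204

theorem p4r205 : allRange pointOk 22 63225 9 = true := by decide +kernel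
theorem p4u205 : ∀ k, 61380 ≤ k → k < 63234 → pointOk (k * 22) = true := between_extend pointOk 22 61380 63225 9 (p4u204) p4r205

theorem p4r206 : allRange pointOk 22 63234 9 = true := by decide +kernel
theorem p4u206 : ∀ k, 61380 ≤ k → k < 63243 → pointOk (k * 22) = true := between_extend pointOk 22 61380 63234 9 (p4u205) p4r206

theorem p4r207 : allRange pointOk 22 63243 9 = true := by decide +kernel
theorem p4u207 : ∀ k, 61380 ≤ k → k < 63252 → pointOk (k * 22) = true := between_extend pointOk 22 61380 63243 9 (p4u206) p4r207

theorem p4r208 : allRange pointOk 22 63252 9 = true := by decide +kernel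
theorem p4u208 : ∀ k, 61380 ≤ k → k < 63261 → pointOk (k * 22) = true := between_extend pointOk 22 61380 63252 9 (p4u207) p4r208

theorem p4r209 : allRange pointOk 22 63261 9 = true := by decide +kernel
theorem p4u209 : ∀ k, 61380 ≤ k → k < 63270 → pointOk (k * 22) = true := between_extend pointOk 22 61380 63261 9 (p4u208) p4r209

theorem p4r210 : allRange pointOk 22 63270 9 = true := by decide +kernel
theorem p4u210 : ∀ k, 61380 ≤ k → k < 63279 → pointOk (k * 22) = true := between_extend pointOk 22 61380 63270 9 (p4u209) p4r210

theorem p4r211 : allRange pointOk 22 63279 9 = true := by decide +kernel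
theorem p4u211 : ∀ k, 61380 ≤ k → k < 63288 → pointOk (k * 22) = true := between_extend pointOk 22 61380 63279 9 (p4u210) p4r211

theorem p4r212 : allRange pointOk 22 63288 9 = true := by decide +kernel
theorem p4u212 : ∀ k, 61380 ≤ k → k < 63297 → pointOk (k * 22) = true := between_extend pointOk 22 61380 63288 9 (p4u211) p4r212

theorem p4r213 : allRange pointOk 22 63297 9 = true := by decide +kernel
theorem p4u213 : ∀ k, 61380 ≤ k → k < 63306 → pointOk (k * 22) = true := between_extend pointOk 22 61380 63297 9 (p4u212) p4r213

theorem p4r214 : allRange pointOk 22 63306 9 = true := by decide +kernel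
theorem p4u214 : ∀ k, 61380 ≤ k → k < 63315 → pointOk (k * 22) = true := between_extend pointOk 22 61380 63306 9 (p4u213) p4r214

theorem p4r215 : allRange pointOk 22 63315 9 = true := by decide +kernel
theorem p4u215 : ∀ k, 61380 ≤ k → k < 63324 → pointOk (k * 22) = true := between_extend pointOk 22 61380 63315 9 (p4u214) p4r215

theorem p4r216 : allRange pointOk 22 63324 9 = true := by decide +kernel
theorem p4u216 : ∀ k, 61380 ≤ k → k < 63333 → pointOk (k * 22) = true := between_extend pointOk 22 61380 63324 9 (p4u215) p4r216

theorem p4r217 : allRange pointOk 22 63333 9 = true := by decide +kernel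
theorem p4u217 : ∀ k, 61380 ≤ k → k < 63342 → pointOk (k * 22) = true := between_extend pointOk 22 61380 63333 9 (p4u216) p4r217

theorem p4r218 : allRange pointOk 22 63342 9 = true := by decide +kernel
theorem p4u218 : ∀ k, 61380 ≤ k → k < 63351 → pointOk (k * 22) = true := between_extend pointOk 22 61380 63342 9 (p4u217) p4r218

theorem p4r219 : allRange pointOk 22 63351 9 = true := by decide +kernel
theorem p4u219 : ∀ k, 61380 ≤ k → k < 63360 → pointOk (k * 22) = true := between_extend pointOk 22 61380 63351 9 (p4u218) p4r219

theorem p4r220 : allRange pointOk 22 63360 9 = true := by decide +kernel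
theorem p4u220 : ∀ k, 61380 ≤ k → k < 63369 → pointOk (k * 22) = true := between_extend pointOk 22 61380 63360 9 (p4u219) p4r220

theorem p4r221 : allRange pointOk 22 63369 9 = true := by decide +kernel
theorem p4u221 : ∀ k, 61380 ≤ k → k < 63378 → pointOk (k * 22) = true := between_extend pointOk 22 61380 63369 9 (p4u220) p4r221

theorem p4r222 : allRange pointOk 22 63378 9 = true := by decide +kernel
theorem p4u222 : ∀ k, 61380 ≤ k → k < 63387 → pointOk (k * 22) = true := between_extend pointOk 22 61380 63378 9 (p4u221) p4r222

theorem p4r223 : allRange pointOk 22 63387 9 = true := by decide +kernel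
theorem p4u223 : ∀ k, 61380 ≤ k → k < 63396 → pointOk (k * 22) = true := between_extend pointOk 22 61380 63387 9 (p4u222) p4r223

theorem p4r224 : allRange pointOk 22 63396 9 = true := by decide +kernel
theorem p4u224 : ∀ k, 61380 ≤ k → k < 63405 → pointOk (k * 22) = true := between_extend pointOk 22 61380 63396 9 (p4u223) p4r224

theorem p4r225 : allRange pointOk 22 63405 9 = true := by decide +kernel
theorem p4u225 : ∀ k, 61380 ≤ k → k < 63414 → pointOk (k * 22) = true := between_extend pointOk 22 61380 63405 9 (p4u224) p4r225

theorem p4r226 : allRange pointOk 22 63414 9 = true := by decide +kernel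
theorem p4u226 : ∀ k, 61380 ≤ k → k < 63423 → pointOk (k * 22) = true := between_extend pointOk 22 61380 63414 9 (p4u225) p4r226

theorem p4r227 : allRange pointOk 22 63423 9 = true := by decide +kernel
theorem p4u227 : ∀ k, 61380 ≤ k → k < 63432 → pointOk (k * 22) = true := between_extend pointOk 22 61380 63423 9 (p4u226) p4r227

theorem p4r228 : allRange pointOk 22 63432 9 = true := by decide +kernel
theorem p4u228 : ∀ k, 61380 ≤ k → k < 63441 → pointOk (k * 22) = true := between_extend pointOk 22 61380 63432 9 (p4u227) p4r228

theorem p4r229 : allRange pointOk 22 63441 9 = true := by decide +kernel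
theorem p4u229 : ∀ k, 61380 ≤ k → k < 63450 → pointOk (k * 22) = true := between_extend pointOk 22 61380 63441 9 (p4u228) p4r229

theorem p4r230 : allRange pointOk 22 63450 9 = true := by decide +kernel
theorem p4u230 : ∀ k, 61380 ≤ k → k < 63459 → pointOk (k * 22) = true := between_extend pointOk 22 61380 63450 9 (p4u229) p4r230

theorem p4r231 : allRange pointOk 22 63459 9 = true := by decide +kernel
theorem p4u231 : ∀ k, 61380 ≤ k → k < 63468 → pointOk (k * 22) = true := between_extend pointOk 22 61380 63459 9 (p4u230) p4r231

theorem p4r232 : allRange pointOk 22 63468 9 = true := by decide +kernel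
theorem p4u232 : ∀ k, 61380 ≤ k → k < 63477 → pointOk (k * 22) = true := between_extend pointOk 22 61380 63468 9 (p4u231) p4r232

theorem p4r233 : allRange pointOk 22 63477 9 = true := by decide +kernel
theorem p4u233 : ∀ k, 61380 ≤ k → k < 63486 → pointOk (k * 22) = true := between_extend pointOk 22 61380 63477 9 (p4u232) p4r233

theorem p4r234 : allRange pointOk 22 63486 9 = true := by decide +kernel
theorem p4u234 : ∀ k, 61380 ≤ k → k < 63495 → pointOk (k * 22) = true := between_extend pointOk 22 61380 63486 9 (p4u233) p4r234

theorem p4r235 : allRange pointOk 22 63495 9 = true := by decide +kernel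
theorem p4u235 : ∀ k, 61380 ≤ k → k < 63504 → pointOk (k * 22) = true := between_extend pointOk 22 61380 63495 9 (p4u234) p4r235

theorem p4r236 : allRange pointOk 22 63504 9 = true := by decide +kernel
theorem p4u236 : ∀ k, 61380 ≤ k → k < 63513 → pointOk (k * 22) = true := between_extend pointOk 22 61380 63504 9 (p4u235) p4r236

theorem p4r237 : allRange pointOk 22 63513 9 = true := by decide +kernel
theorem p4u237 : ∀ k, 61380 ≤ k → k < 63522 → pointOk (k * 22) = true := between_extend pointOk 22 61380 63513 9 (p4u236) p4r237

theorem p4r238 : allRange pointOk 22 63522 9 = true := by decide +kernel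
theorem p4u238 : ∀ k, 61380 ≤ k → k < 63531 → pointOk (k * 22) = true := between_extend pointOk 22 61380 63522 9 (p4u237) p4r238

theorem p4r239 : allRange pointOk 22 63531 9 = true := by decide +kernel
theorem p4u239 : ∀ k, 61380 ≤ k → k < 63540 → pointOk (k * 22) = true := between_extend pointOk 22 61380 63531 9 (p4u238) p4r239

theorem p4r240 : allRange pointOk 22 63540 9 = true := by decide +kernel
theorem p4u240 : ∀ k, 61380 ≤ k → k < 63549 → pointOk (k * 22) = true := between_extend pointOk 22 61380 63540 9 (p4u239) p4r240

theorem p4r241 : allRange pointOk 22 63549 9 = true := by decide +kernel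
theorem p4u241 : ∀ k, 61380 ≤ k → k < 63558 → pointOk (k * 22) = true := between_extend pointOk 22 61380 63549 9 (p4u240) p4r241

theorem p4r242 : allRange pointOk 22 63558 9 = true := by decide +kernel
theorem p4u242 : ∀ k, 61380 ≤ k → k < 63567 → pointOk (k * 22) = true := between_extend pointOk 22 61380 63558 9 (p4u241) p4r242

theorem p4r243 : allRange pointOk 22 63567 9 = true := by decide +kernel
theorem p4u243 : ∀ k, 61380 ≤ k → k < 63576 → pointOk (k * 22) = true := between_extend pointOk 22 61380 63567 9 (p4u242) p4r243

theorem p4r244 : allRange pointOk 22 63576 9 = true := by decide +kernel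
theorem p4u244 : ∀ k, 61380 ≤ k → k < 63585 → pointOk (k * 22) = true := between_extend pointOk 22 61380 63576 9 (p4u243) p4r244

theorem p4r245 : allRange pointOk 22 63585 9 = true := by decide +kernel
theorem p4u245 : ∀ k, 61380 ≤ k → k < 63594 → pointOk (k * 22) = true := between_extend pointOk 22 61380 63585 9 (p4u244) p4r245

theorem p4r246 : allRange pointOk 22 63594 9 = true := by decide +kernel
theorem p4u246 : ∀ k, 61380 ≤ k → k < 63603 → pointOk (k * 22) = true := between_extend pointOk 22 61380 63594 9 (p4u245) p4r246

theorem p4r247 : allRange pointOk 22 63603 9 = true := by decide +kernel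
theorem p4u247 : ∀ k, 61380 ≤ k → k < 63612 → pointOk (k * 22) = true := between_extend pointOk 22 61380 63603 9 (p4u246) p4r247

theorem p4r248 : allRange pointOk 22 63612 9 = true := by decide +kernel
theorem p4u248 : ∀ k, 61380 ≤ k → k < 63621 → pointOk (k * 22) = true := between_extend pointOk 22 61380 63612 9 (p4u247) p4r248

theorem p4r249 : allRange pointOk 22 63621 9 = true := by decide +kernel
theorem p4u249 : ∀ k, 61380 ≤ k → k < 63630 → pointOk (k * 22) = true := between_extend pointOk 22 61380 63621 9 (p4u248) p4r249

theorem p4r250 : allRange pointOk 22 63630 9 = true := by decide +kernel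
theorem p4u250 : ∀ k, 61380 ≤ k → k < 63639 → pointOk (k * 22) = true := between_extend pointOk 22 61380 63630 9 (p4u249) p4r250

theorem p4r251 : allRange pointOk 22 63639 9 = true := by decide +kernel
theorem p4u251 : ∀ k, 61380 ≤ k → k < 63648 → pointOk (k * 22) = true := between_extend pointOk 22 61380 63639 9 (p4u250) p4r251

theorem p4r252 : allRange pointOk 22 63648 9 = true := by decide +kernel
theorem p4u252 : ∀ k, 61380 ≤ k → k < 63657 → pointOk (k * 22) = true := between_extend pointOk 22 61380 63648 9 (p4u251) p4r252

theorem p4r253 : allRange pointOk 22 63657 9 = true := by decide +kernel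
theorem p4u253 : ∀ k, 61380 ≤ k → k < 63666 → pointOk (k * 22) = true := between_extend pointOk 22 61380 63657 9 (p4u252) p4r253

theorem p4r254 : allRange pointOk 22 63666 9 = true := by decide +kernel
theorem p4u254 : ∀ k, 61380 ≤ k → k < 63675 → pointOk (k * 22) = true := between_extend pointOk 22 61380 63666 9 (p4u253) p4r254

theorem p4r255 : allRange pointOk 22 63675 9 = true := by decide +kernel
theorem p4u255 : ∀ k, 61380 ≤ k → k < 63684 → pointOk (k * 22) = true := between_extend pointOk 22 61380 63675 9 (p4u254) p4r255

theorem p4r256 : allRange pointOk 22 63684 9 = true := by decide +kernel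
theorem p4u256 : ∀ k, 61380 ≤ k → k < 63693 → pointOk (k * 22) = true := between_extend pointOk 22 61380 63684 9 (p4u255) p4r256

theorem p4r257 : allRange pointOk 22 63693 9 = true := by decide +kernel
theorem p4u257 : ∀ k, 61380 ≤ k → k < 63702 → pointOk (k * 22) = true := between_extend pointOk 22 61380 63693 9 (p4u256) p4r257

theorem p4r258 : allRange pointOk 22 63702 9 = true := by decide +kernel
theorem p4u258 : ∀ k, 61380 ≤ k → k < 63711 → pointOk (k * 22) = true := between_extend pointOk 22 61380 63702 9 (p4u257) p4r258

theorem p4r259 : allRange pointOk 22 63711 9 = true := by decide +kernel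
theorem p4u259 : ∀ k, 61380 ≤ k → k < 63720 → pointOk (k * 22) = true := between_extend pointOk 22 61380 63711 9 (p4u258) p4r259

theorem p4r260 : allRange pointOk 22 63720 9 = true := by decide +kernel
theorem p4u260 : ∀ k, 61380 ≤ k → k < 63729 → pointOk (k * 22) = true := between_extend pointOk 22 61380 63720 9 (p4u259) p4r260

theorem p4r261 : allRange pointOk 22 63729 9 = true := by decide +kernel
theorem p4u261 : ∀ k, 61380 ≤ k → k < 63738 → pointOk (k * 22) = true := between_extend pointOk 22 61380 63729 9 (p4u260) p4r261

theorem p4r262 : allRange pointOk 22 63738 9 = true := by decide +kernel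
theorem p4u262 : ∀ k, 61380 ≤ k → k < 63747 → pointOk (k * 22) = true := between_extend pointOk 22 61380 63738 9 (p4u261) p4r262

theorem p4r263 : allRange pointOk 22 63747 9 = true := by decide +kernel
theorem p4u263 : ∀ k, 61380 ≤ k → k < 63756 → pointOk (k * 22) = true := between_extend pointOk 22 61380 63747 9 (p4u262) p4r263

theorem p4r264 : allRange pointOk 22 63756 9 = true := by decide +kernel
theorem p4u264 : ∀ k, 61380 ≤ k → k < 63765 → pointOk (k * 22) = true := between_extend pointOk 22 61380 63756 9 (p4u263) p4r264

theorem p4r265 : allRange pointOk 22 63765 9 = true := by decide +kernel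
theorem p4u265 : ∀ k, 61380 ≤ k → k < 63774 → pointOk (k * 22) = true := between_extend pointOk 22 61380 63765 9 (p4u264) p4r265

theorem p4r266 : allRange pointOk 22 63774 9 = true := by decide +kernel
theorem p4u266 : ∀ k, 61380 ≤ k → k < 63783 → pointOk (k * 22) = true := between_extend pointOk 22 61380 63774 9 (p4u265) p4r266

theorem p4r267 : allRange pointOk 22 63783 9 = true := by decide +kernel
theorem p4u267 : ∀ k, 61380 ≤ k → k < 63792 → pointOk (k * 22) = true := between_extend pointOk 22 61380 63783 9 (p4u266) p4r267

theorem p4r268 : allRange pointOk 22 63792 9 = true := by decide +kernel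
theorem p4u268 : ∀ k, 61380 ≤ k → k < 63801 → pointOk (k * 22) = true := between_extend pointOk 22 61380 63792 9 (p4u267) p4r268

theorem p4r269 : allRange pointOk 22 63801 9 = true := by decide +kernel
theorem p4u269 : ∀ k, 61380 ≤ k → k < 63810 → pointOk (k * 22) = true := between_extend pointOk 22 61380 63801 9 (p4u268) p4r269

theorem p4r270 : allRange pointOk 22 63810 9 = true := by decide +kernel
theorem p4u270 : ∀ k, 61380 ≤ k → k < 63819 → pointOk (k * 22) = true := between_extend pointOk 22 61380 63810 9 (p4u269) p4r270

theorem p4r271 : allRange pointOk 22 63819 9 = true := by decide +kernel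
theorem p4u271 : ∀ k, 61380 ≤ k → k < 63828 → pointOk (k * 22) = true := between_extend pointOk 22 61380 63819 9 (p4u270) p4r271

theorem p4r272 : allRange pointOk 22 63828 9 = true := by decide +kernel
theorem p4u272 : ∀ k, 61380 ≤ k → k < 63837 → pointOk (k * 22) = true := between_extend pointOk 22 61380 63828 9 (p4u271) p4r272

theorem p4r273 : allRange pointOk 22 63837 9 = true := by decide +kernel
theorem p4u273 : ∀ k, 61380 ≤ k → k < 63846 → pointOk (k * 22) = true := between_extend pointOk 22 61380 63837 9 (p4u272) p4r273

theorem p4r274 : allRange pointOk 22 63846 9 = true := by decide +kernel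
theorem p4u274 : ∀ k, 61380 ≤ k → k < 63855 → pointOk (k * 22) = true := between_extend pointOk 22 61380 63846 9 (p4u273) p4r274

theorem p4r275 : allRange pointOk 22 63855 9 = true := by decide +kernel
theorem p4u275 : ∀ k, 61380 ≤ k → k < 63864 → pointOk (k * 22) = true := between_extend pointOk 22 61380 63855 9 (p4u274) p4r275

theorem p4r276 : allRange pointOk 22 63864 9 = true := by decide +kernel
theorem p4u276 : ∀ k, 61380 ≤ k → k < 63873 → pointOk (k * 22) = true := between_extend pointOk 22 61380 63864 9 (p4u275) p4r276

theorem p4r277 : allRange pointOk 22 63873 9 = true := by decide +kernel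
theorem p4u277 : ∀ k, 61380 ≤ k → k < 63882 → pointOk (k * 22) = true := between_extend pointOk 22 61380 63873 9 (p4u276) p4r277

theorem p4r278 : allRange pointOk 22 63882 9 = true := by decide +kernel
theorem p4u278 : ∀ k, 61380 ≤ k → k < 63891 → pointOk (k * 22) = true := between_extend pointOk 22 61380 63882 9 (p4u277) p4r278

theorem p4r279 : allRange pointOk 22 63891 9 = true := by decide +kernel
theorem p4u279 : ∀ k, 61380 ≤ k → k < 63900 → pointOk (k * 22) = true := between_extend pointOk 22 61380 63891 9 (p4u278) p4r279

theorem p4r280 : allRange pointOk 22 63900 9 = true := by decide +kernel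
theorem p4u280 : ∀ k, 61380 ≤ k → k < 63909 → pointOk (k * 22) = true := between_extend pointOk 22 61380 63900 9 (p4u279) p4r280

theorem p4r281 : allRange pointOk 22 63909 9 = true := by decide +kernel
theorem p4u281 : ∀ k, 61380 ≤ k → k < 63918 → pointOk (k * 22) = true := between_extend pointOk 22 61380 63909 9 (p4u280) p4r281

theorem p4r282 : allRange pointOk 22 63918 9 = true := by decide +kernel
theorem p4u282 : ∀ k, 61380 ≤ k → k < 63927 → pointOk (k * 22) = true := between_extend pointOk 22 61380 63918 9 (p4u281) p4r282

theorem p4r283 : allRange pointOk 22 63927 9 = true := by decide +kernel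
theorem p4u283 : ∀ k, 61380 ≤ k → k < 63936 → pointOk (k * 22) = true := between_extend pointOk 22 61380 63927 9 (p4u282) p4r283

theorem p4r284 : allRange pointOk 22 63936 9 = true := by decide +kernel
theorem p4u284 : ∀ k, 61380 ≤ k → k < 63945 → pointOk (k * 22) = true := between_extend pointOk 22 61380 63936 9 (p4u283) p4r284

theorem p4r285 : allRange pointOk 22 63945 9 = true := by decide +kernel
theorem p4u285 : ∀ k, 61380 ≤ k → k < 63954 → pointOk (k * 22) = true := between_extend pointOk 22 61380 63945 9 (p4u284) p4r285

theorem p4r286 : allRange pointOk 22 63954 9 = true := by decide +kernel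
theorem p4u286 : ∀ k, 61380 ≤ k → k < 63963 → pointOk (k * 22) = true := between_extend pointOk 22 61380 63954 9 (p4u285) p4r286

theorem p4r287 : allRange pointOk 22 63963 9 = true := by decide +kernel
theorem p4u287 : ∀ k, 61380 ≤ k → k < 63972 → pointOk (k * 22) = true := between_extend pointOk 22 61380 63963 9 (p4u286) p4r287

theorem p4r288 : allRange pointOk 22 63972 9 = true := by decide +kernel
theorem p4u288 : ∀ k, 61380 ≤ k → k < 63981 → pointOk (k * 22) = true := between_extend pointOk 22 61380 63972 9 (p4u287) p4r288

theorem p4r289 : allRange pointOk 22 63981 9 = true := by decide +kernel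
theorem p4u289 : ∀ k, 61380 ≤ k → k < 63990 → pointOk (k * 22) = true := between_extend pointOk 22 61380 63981 9 (p4u288) p4r289

theorem p4r290 : allRange pointOk 22 63990 9 = true := by decide +kernel
theorem p4u290 : ∀ k, 61380 ≤ k → k < 63999 → pointOk (k * 22) = true := between_extend pointOk 22 61380 63990 9 (p4u289) p4r290

theorem p4r291 : allRange pointOk 22 63999 9 = true := by decide +kernel
theorem p4u291 : ∀ k, 61380 ≤ k → k < 64008 → pointOk (k * 22) = true := between_extend pointOk 22 61380 63999 9 (p4u290) p4r291

theorem p4r292 : allRange pointOk 22 64008 9 = true := by decide +kernel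
theorem p4u292 : ∀ k, 61380 ≤ k → k < 64017 → pointOk (k * 22) = true := between_extend pointOk 22 61380 64008 9 (p4u291) p4r292

theorem p4r293 : allRange pointOk 22 64017 9 = true := by decide +kernel
theorem p4u293 : ∀ k, 61380 ≤ k → k < 64026 → pointOk (k * 22) = true := between_extend pointOk 22 61380 64017 9 (p4u292) p4r293

theorem p4r294 : allRange pointOk 22 64026 9 = true := by decide +kernel
theorem p4u294 : ∀ k, 61380 ≤ k → k < 64035 → pointOk (k * 22) = true := between_extend pointOk 22 61380 64026 9 (p4u293) p4r294

theorem p4r295 : allRange pointOk 22 64035 9 = true := by decide +kernel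
theorem p4u295 : ∀ k, 61380 ≤ k → k < 64044 → pointOk (k * 22) = true := between_extend pointOk 22 61380 64035 9 (p4u294) p4r295

theorem p4r296 : allRange pointOk 22 64044 9 = true := by decide +kernel
theorem p4u296 : ∀ k, 61380 ≤ k → k < 64053 → pointOk (k * 22) = true := between_extend pointOk 22 61380 64044 9 (p4u295) p4r296

theorem p4r297 : allRange pointOk 22 64053 9 = true := by decide +kernel
theorem p4u297 : ∀ k, 61380 ≤ k → k < 64062 → pointOk (k * 22) = true := between_extend pointOk 22 61380 64053 9 (p4u296) p4r297

theorem p4r298 : allRange pointOk 22 64062 9 = true := by decide +kernel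
theorem p4u298 : ∀ k, 61380 ≤ k → k < 64071 → pointOk (k * 22) = true := between_extend pointOk 22 61380 64062 9 (p4u297) p4r298

theorem p4r299 : allRange pointOk 22 64071 9 = true := by decide +kernel
theorem p4u299 : ∀ k, 61380 ≤ k → k < 64080 → pointOk (k * 22) = true := between_extend pointOk 22 61380 64071 9 (p4u298) p4r299

theorem p4r300 : allRange pointOk 22 64080 9 = true := by decide +kernel
theorem p4u300 : ∀ k, 61380 ≤ k → k < 64089 → pointOk (k * 22) = true := between_extend pointOk 22 61380 64080 9 (p4u299) p4r300

theorem p4r301 : allRange pointOk 22 64089 9 = true := by decide +kernel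
theorem p4u301 : ∀ k, 61380 ≤ k → k < 64098 → pointOk (k * 22) = true := between_extend pointOk 22 61380 64089 9 (p4u300) p4r301

theorem p4r302 : allRange pointOk 22 64098 9 = true := by decide +kernel
theorem p4u302 : ∀ k, 61380 ≤ k → k < 64107 → pointOk (k * 22) = true := between_extend pointOk 22 61380 64098 9 (p4u301) p4r302

theorem p4r303 : allRange pointOk 22 64107 9 = true := by decide +kernel
theorem p4u303 : ∀ k, 61380 ≤ k → k < 64116 → pointOk (k * 22) = true := between_extend pointOk 22 61380 64107 9 (p4u302) p4r303

theorem p4r304 : allRange pointOk 22 64116 9 = true := by decide +kernel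
theorem p4u304 : ∀ k, 61380 ≤ k → k < 64125 → pointOk (k * 22) = true := between_extend pointOk 22 61380 64116 9 (p4u303) p4r304

theorem p4r305 : allRange pointOk 22 64125 9 = true := by decide +kernel
theorem p4u305 : ∀ k, 61380 ≤ k → k < 64134 → pointOk (k * 22) = true := between_extend pointOk 22 61380 64125 9 (p4u304) p4r305

theorem p4r306 : allRange pointOk 22 64134 9 = true := by decide +kernel
theorem p4u306 : ∀ k, 61380 ≤ k → k < 64143 → pointOk (k * 22) = true := between_extend pointOk 22 61380 64134 9 (p4u305) p4r306

theorem p4r307 : allRange pointOk 22 64143 9 = true := by decide +kernel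
theorem p4u307 : ∀ k, 61380 ≤ k → k < 64152 → pointOk (k * 22) = true := between_extend pointOk 22 61380 64143 9 (p4u306) p4r307

theorem p4r308 : allRange pointOk 22 64152 9 = true := by decide +kernel
theorem p4u308 : ∀ k, 61380 ≤ k → k < 64161 → pointOk (k * 22) = true := between_extend pointOk 22 61380 64152 9 (p4u307) p4r308

theorem p4r309 : allRange pointOk 22 64161 9 = true := by decide +kernel
theorem p4u309 : ∀ k, 61380 ≤ k → k < 64170 → pointOk (k * 22) = true := between_extend pointOk 22 61380 64161 9 (p4u308) p4r309

theorem p4r310 : allRange pointOk 22 64170 9 = true := by decide +kernel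
theorem p4u310 : ∀ k, 61380 ≤ k → k < 64179 → pointOk (k * 22) = true := between_extend pointOk 22 61380 64170 9 (p4u309) p4r310

theorem p4r311 : allRange pointOk 22 64179 9 = true := by decide +kernel
theorem p4u311 : ∀ k, 61380 ≤ k → k < 64188 → pointOk (k * 22) = true := between_extend pointOk 22 61380 64179 9 (p4u310) p4r311

theorem p4r312 : allRange pointOk 22 64188 9 = true := by decide +kernel
theorem p4u312 : ∀ k, 61380 ≤ k → k < 64197 → pointOk (k * 22) = true := between_extend pointOk 22 61380 64188 9 (p4u311) p4r312

theorem p4r313 : allRange pointOk 22 64197 9 = true := by decide +kernel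
theorem p4u313 : ∀ k, 61380 ≤ k → k < 64206 → pointOk (k * 22) = true := between_extend pointOk 22 61380 64197 9 (p4u312) p4r313

theorem p4r314 : allRange pointOk 22 64206 9 = true := by decide +kernel
theorem p4u314 : ∀ k, 61380 ≤ k → k < 64215 → pointOk (k * 22) = true := between_extend pointOk 22 61380 64206 9 (p4u313) p4r314

theorem p4r315 : allRange pointOk 22 64215 9 = true := by decide +kernel
theorem p4u315 : ∀ k, 61380 ≤ k → k < 64224 → pointOk (k * 22) = true := between_extend pointOk 22 61380 64215 9 (p4u314) p4r315

theorem p4r316 : allRange pointOk 22 64224 9 = true := by decide +kernel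
theorem p4u316 : ∀ k, 61380 ≤ k → k < 64233 → pointOk (k * 22) = true := between_extend pointOk 22 61380 64224 9 (p4u315) p4r316

theorem p4r317 : allRange pointOk 22 64233 9 = true := by decide +kernel
theorem p4u317 : ∀ k, 61380 ≤ k → k < 64242 → pointOk (k * 22) = true := between_extend pointOk 22 61380 64233 9 (p4u316) p4r317

theorem p4r318 : allRange pointOk 22 64242 9 = true := by decide +kernel
theorem p4u318 : ∀ k, 61380 ≤ k → k < 64251 → pointOk (k * 22) = true := between_extend pointOk 22 61380 64242 9 (p4u317) p4r318

theorem p4r319 : allRange pointOk 22 64251 9 = true := by decide +kernel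
theorem p4u319 : ∀ k, 61380 ≤ k → k < 64260 → pointOk (k * 22) = true := between_extend pointOk 22 61380 64251 9 (p4u318) p4r319

theorem p4r320 : allRange pointOk 22 64260 9 = true := by decide +kernel
theorem p4u320 : ∀ k, 61380 ≤ k → k < 64269 → pointOk (k * 22) = true := between_extend pointOk 22 61380 64260 9 (p4u319) p4r320

theorem p4r321 : allRange pointOk 22 64269 9 = true := by decide +kernel
theorem p4u321 : ∀ k, 61380 ≤ k → k < 64278 → pointOk (k * 22) = true := between_extend pointOk 22 61380 64269 9 (p4u320) p4r321

theorem p4r322 : allRange pointOk 22 64278 9 = true := by decide +kernel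
theorem p4u322 : ∀ k, 61380 ≤ k → k < 64287 → pointOk (k * 22) = true := between_extend pointOk 22 61380 64278 9 (p4u321) p4r322

theorem p4r323 : allRange pointOk 22 64287 9 = true := by decide +kernel
theorem p4u323 : ∀ k, 61380 ≤ k → k < 64296 → pointOk (k * 22) = true := between_extend pointOk 22 61380 64287 9 (p4u322) p4r323

theorem p4r324 : allRange pointOk 22 64296 9 = true := by decide +kernel
theorem p4u324 : ∀ k, 61380 ≤ k → k < 64305 → pointOk (k * 22) = true := between_extend pointOk 22 61380 64296 9 (p4u323) p4r324

theorem p4r325 : allRange pointOk 22 64305 9 = true := by decide +kernel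
theorem p4u325 : ∀ k, 61380 ≤ k → k < 64314 → pointOk (k * 22) = true := between_extend pointOk 22 61380 64305 9 (p4u324) p4r325

theorem p4r326 : allRange pointOk 22 64314 9 = true := by decide +kernel
theorem p4u326 : ∀ k, 61380 ≤ k → k < 64323 → pointOk (k * 22) = true := between_extend pointOk 22 61380 64314 9 (p4u325) p4r326

theorem p4r327 : allRange pointOk 22 64323 9 = true := by decide +kernel
theorem p4u327 : ∀ k, 61380 ≤ k → k < 64332 → pointOk (k * 22) = true := between_extend pointOk 22 61380 64323 9 (p4u326) p4r327

theorem p4r328 : allRange pointOk 22 64332 9 = true := by decide +kernel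
theorem p4u328 : ∀ k, 61380 ≤ k → k < 64341 → pointOk (k * 22) = true := between_extend pointOk 22 61380 64332 9 (p4u327) p4r328

theorem p4r329 : allRange pointOk 22 64341 9 = true := by decide +kernel
theorem p4u329 : ∀ k, 61380 ≤ k → k < 64350 → pointOk (k * 22) = true := between_extend pointOk 22 61380 64341 9 (p4u328) p4r329

theorem p4r330 : allRange pointOk 22 64350 9 = true := by decide +kernel
theorem p4u330 : ∀ k, 61380 ≤ k → k < 64359 → pointOk (k * 22) = true := between_extend pointOk 22 61380 64350 9 (p4u329) p4r330

theorem p4r331 : allRange pointOk 22 64359 9 = true := by decide +kernel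
theorem p4u331 : ∀ k, 61380 ≤ k → k < 64368 → pointOk (k * 22) = true := between_extend pointOk 22 61380 64359 9 (p4u330) p4r331

theorem p4r332 : allRange pointOk 22 64368 9 = true := by decide +kernel
theorem p4u332 : ∀ k, 61380 ≤ k → k < 64377 → pointOk (k * 22) = true := between_extend pointOk 22 61380 64368 9 (p4u331) p4r332

theorem p4r333 : allRange pointOk 22 64377 9 = true := by decide +kernel
theorem p4u333 : ∀ k, 61380 ≤ k → k < 64386 → pointOk (k * 22) = true := between_extend pointOk 22 61380 64377 9 (p4u332) p4r333

theorem p4r334 : allRange pointOk 22 64386 9 = true := by decide +kernel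
theorem p4u334 : ∀ k, 61380 ≤ k → k < 64395 → pointOk (k * 22) = true := between_extend pointOk 22 61380 64386 9 (p4u333) p4r334

theorem p4r335 : allRange pointOk 22 64395 9 = true := by decide +kernel
theorem p4u335 : ∀ k, 61380 ≤ k → k < 64404 → pointOk (k * 22) = true := between_extend pointOk 22 61380 64395 9 (p4u334) p4r335

theorem p4r336 : allRange pointOk 22 64404 9 = true := by decide +kernel
theorem p4u336 : ∀ k, 61380 ≤ k → k < 64413 → pointOk (k * 22) = true := between_extend pointOk 22 61380 64404 9 (p4u335) p4r336

theorem p4r337 : allRange pointOk 22 64413 9 = true := by decide +kernel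
theorem p4u337 : ∀ k, 61380 ≤ k → k < 64422 → pointOk (k * 22) = true := between_extend pointOk 22 61380 64413 9 (p4u336) p4r337

theorem p4r338 : allRange pointOk 22 64422 9 = true := by decide +kernel
theorem p4u338 : ∀ k, 61380 ≤ k → k < 64431 → pointOk (k * 22) = true := between_extend pointOk 22 61380 64422 9 (p4u337) p4r338

theorem p4r339 : allRange pointOk 22 64431 9 = true := by decide +kernel
theorem p4u339 : ∀ k, 61380 ≤ k → k < 64440 → pointOk (k * 22) = true := between_extend pointOk 22 61380 64431 9 (p4u338) p4r339

theorem p4r340 : allRange pointOk 22 64440 9 = true := by decide +kernel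
theorem p4u340 : ∀ k, 61380 ≤ k → k < 64449 → pointOk (k * 22) = true := between_extend pointOk 22 61380 64440 9 (p4u339) p4r340

theorem p4r341 : allRange pointOk 22 64449 9 = true := by decide +kernel
theorem p4u341 : ∀ k, 61380 ≤ k → k < 64458 → pointOk (k * 22) = true := between_extend pointOk 22 61380 64449 9 (p4u340) p4r341

theorem p4r342 : allRange pointOk 22 64458 9 = true := by decide +kernel
theorem p4u342 : ∀ k, 61380 ≤ k → k < 64467 → pointOk (k * 22) = true := between_extend pointOk 22 61380 64458 9 (p4u341) p4r342

theorem p4r343 : allRange pointOk 22 64467 9 = true := by decide +kernel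
theorem p4u343 : ∀ k, 61380 ≤ k → k < 64476 → pointOk (k * 22) = true := between_extend pointOk 22 61380 64467 9 (p4u342) p4r343

theorem p4r344 : allRange pointOk 22 64476 9 = true := by decide +kernel
theorem p4u344 : ∀ k, 61380 ≤ k → k < 64485 → pointOk (k * 22) = true := between_extend pointOk 22 61380 64476 9 (p4u343) p4r344

theorem p4r345 : allRange pointOk 22 64485 9 = true := by decide +kernel
theorem p4u345 : ∀ k, 61380 ≤ k → k < 64494 → pointOk (k * 22) = true := between_extend pointOk 22 61380 64485 9 (p4u344) p4r345

theorem p4r346 : allRange pointOk 22 64494 9 = true := by decide +kernel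
theorem p4u346 : ∀ k, 61380 ≤ k → k < 64503 → pointOk (k * 22) = true := between_extend pointOk 22 61380 64494 9 (p4u345) p4r346

theorem p4r347 : allRange pointOk 22 64503 9 = true := by decide +kernel
theorem p4u347 : ∀ k, 61380 ≤ k → k < 64512 → pointOk (k * 22) = true := between_extend pointOk 22 61380 64503 9 (p4u346) p4r347

theorem p4r348 : allRange pointOk 22 64512 9 = true := by decide +kernel
theorem p4u348 : ∀ k, 61380 ≤ k → k < 64521 → pointOk (k * 22) = true := between_extend pointOk 22 61380 64512 9 (p4u347) p4r348

theorem p4r349 : allRange pointOk 22 64521 9 = true := by decide +kernel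
theorem p4u349 : ∀ k, 61380 ≤ k → k < 64530 → pointOk (k * 22) = true := between_extend pointOk 22 61380 64521 9 (p4u348) p4r349

theorem p4r350 : allRange pointOk 22 64530 9 = true := by decide +kernel
theorem p4u350 : ∀ k, 61380 ≤ k → k < 64539 → pointOk (k * 22) = true := between_extend pointOk 22 61380 64530 9 (p4u349) p4r350

theorem p4r351 : allRange pointOk 22 64539 9 = true := by decide +kernel
theorem p4u351 : ∀ k, 61380 ≤ k → k < 64548 → pointOk (k * 22) = true := between_extend pointOk 22 61380 64539 9 (p4u350) p4r351

theorem p4r352 : allRange pointOk 22 64548 9 = true := by decide +kernel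
theorem p4u352 : ∀ k, 61380 ≤ k → k < 64557 → pointOk (k * 22) = true := between_extend pointOk 22 61380 64548 9 (p4u351) p4r352

theorem p4r353 : allRange pointOk 22 64557 9 = true := by decide +kernel
theorem p4u353 : ∀ k, 61380 ≤ k → k < 64566 → pointOk (k * 22) = true := between_extend pointOk 22 61380 64557 9 (p4u352) p4r353

theorem p4r354 : allRange pointOk 22 64566 9 = true := by decide +kernel
theorem p4u354 : ∀ k, 61380 ≤ k → k < 64575 → pointOk (k * 22) = true := between_extend pointOk 22 61380 64566 9 (p4u353) p4r354

theorem p4r355 : allRange pointOk 22 64575 9 = true := by decide +kernel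
theorem p4u355 : ∀ k, 61380 ≤ k → k < 64584 → pointOk (k * 22) = true := between_extend pointOk 22 61380 64575 9 (p4u354) p4r355

theorem p4r356 : allRange pointOk 22 64584 9 = true := by decide +kernel
theorem p4u356 : ∀ k, 61380 ≤ k → k < 64593 → pointOk (k * 22) = true := between_extend pointOk 22 61380 64584 9 (p4u355) p4r356

theorem p4r357 : allRange pointOk 22 64593 9 = true := by decide +kernel
theorem p4u357 : ∀ k, 61380 ≤ k → k < 64602 → pointOk (k * 22) = true := between_extend pointOk 22 61380 64593 9 (p4u356) p4r357

theorem p4r358 : allRange pointOk 22 64602 9 = true := by decide +kernel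
theorem p4u358 : ∀ k, 61380 ≤ k → k < 64611 → pointOk (k * 22) = true := between_extend pointOk 22 61380 64602 9 (p4u357) p4r358

theorem p4r359 : allRange pointOk 22 64611 9 = true := by decide +kernel
theorem p4u359 : ∀ k, 61380 ≤ k → k < 64620 → pointOk (k * 22) = true := between_extend pointOk 22 61380 64611 9 (p4u358) p4r359

theorem p4r360 : allRange pointOk 22 64620 9 = true := by decide +kernel
theorem p4u360 : ∀ k, 61380 ≤ k → k < 64629 → pointOk (k * 22) = true := between_extend pointOk 22 61380 64620 9 (p4u359) p4r360

theorem p4r361 : allRange pointOk 22 64629 9 = true := by decide +kernel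
theorem p4u361 : ∀ k, 61380 ≤ k → k < 64638 → pointOk (k * 22) = true := between_extend pointOk 22 61380 64629 9 (p4u360) p4r361

theorem p4r362 : allRange pointOk 22 64638 9 = true := by decide +kernel
theorem p4u362 : ∀ k, 61380 ≤ k → k < 64647 → pointOk (k * 22) = true := between_extend pointOk 22 61380 64638 9 (p4u361) p4r362

theorem p4r363 : allRange pointOk 22 64647 9 = true := by decide +kernel
theorem p4u363 : ∀ k, 61380 ≤ k → k < 64656 → pointOk (k * 22) = true := between_extend pointOk 22 61380 64647 9 (p4u362) p4r363

theorem p4r364 : allRange pointOk 22 64656 9 = true := by decide +kernel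
theorem p4u364 : ∀ k, 61380 ≤ k → k < 64665 → pointOk (k * 22) = true := between_extend pointOk 22 61380 64656 9 (p4u363) p4r364

theorem p4r365 : allRange pointOk 22 64665 9 = true := by decide +kernel
theorem p4u365 : ∀ k, 61380 ≤ k → k < 64674 → pointOk (k * 22) = true := between_extend pointOk 22 61380 64665 9 (p4u364) p4r365

theorem p4r366 : allRange pointOk 22 64674 9 = true := by decide +kernel
theorem p4u366 : ∀ k, 61380 ≤ k → k < 64683 → pointOk (k * 22) = true := between_extend pointOk 22 61380 64674 9 (p4u365) p4r366

theorem p4r367 : allRange pointOk 22 64683 9 = true := by decide +kernel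
theorem p4u367 : ∀ k, 61380 ≤ k → k < 64692 → pointOk (k * 22) = true := between_extend pointOk 22 61380 64683 9 (p4u366) p4r367

theorem p4r368 : allRange pointOk 22 64692 9 = true := by decide +kernel
theorem p4u368 : ∀ k, 61380 ≤ k → k < 64701 → pointOk (k * 22) = true := between_extend pointOk 22 61380 64692 9 (p4u367) p4r368

theorem p4r369 : allRange pointOk 22 64701 9 = true := by decide +kernel
theorem p4u369 : ∀ k, 61380 ≤ k → k < 64710 → pointOk (k * 22) = true := between_extend pointOk 22 61380 64701 9 (p4u368) p4r369

theorem p4r370 : allRange pointOk 22 64710 9 = true := by decide +kernel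
theorem p4u370 : ∀ k, 61380 ≤ k → k < 64719 → pointOk (k * 22) = true := between_extend pointOk 22 61380 64710 9 (p4u369) p4r370

theorem p4r371 : allRange pointOk 22 64719 9 = true := by decide +kernel
theorem p4u371 : ∀ k, 61380 ≤ k → k < 64728 → pointOk (k * 22) = true := between_extend pointOk 22 61380 64719 9 (p4u370) p4r371

theorem p4r372 : allRange pointOk 22 64728 9 = true := by decide +kernel
theorem p4u372 : ∀ k, 61380 ≤ k → k < 64737 → pointOk (k * 22) = true := between_extend pointOk 22 61380 64728 9 (p4u371) p4r372

theorem p4r373 : allRange pointOk 22 64737 9 = true := by decide +kernel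
theorem p4u373 : ∀ k, 61380 ≤ k → k < 64746 → pointOk (k * 22) = true := between_extend pointOk 22 61380 64737 9 (p4u372) p4r373

theorem p4r374 : allRange pointOk 22 64746 9 = true := by decide +kernel
theorem p4u374 : ∀ k, 61380 ≤ k → k < 64755 → pointOk (k * 22) = true := between_extend pointOk 22 61380 64746 9 (p4u373) p4r374

theorem p4r375 : allRange pointOk 22 64755 9 = true := by decide +kernel
theorem p4u375 : ∀ k, 61380 ≤ k → k < 64764 → pointOk (k * 22) = true := between_extend pointOk 22 61380 64755 9 (p4u374) p4r375

theorem p4r376 : allRange pointOk 22 64764 9 = true := by decide +kernel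
theorem p4u376 : ∀ k, 61380 ≤ k → k < 64773 → pointOk (k * 22) = true := between_extend pointOk 22 61380 64764 9 (p4u375) p4r376

theorem p4r377 : allRange pointOk 22 64773 9 = true := by decide +kernel
theorem p4u377 : ∀ k, 61380 ≤ k → k < 64782 → pointOk (k * 22) = true := between_extend pointOk 22 61380 64773 9 (p4u376) p4r377

theorem p4r378 : allRange pointOk 22 64782 9 = true := by decide +kernel
theorem p4u378 : ∀ k, 61380 ≤ k → k < 64791 → pointOk (k * 22) = true := between_extend pointOk 22 61380 64782 9 (p4u377) p4r378

theorem p4r379 : allRange pointOk 22 64791 9 = true := by decide +kernel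
theorem p4u379 : ∀ k, 61380 ≤ k → k < 64800 → pointOk (k * 22) = true := between_extend pointOk 22 61380 64791 9 (p4u378) p4r379

theorem p4r380 : allRange pointOk 22 64800 9 = true := by decide +kernel
theorem p4u380 : ∀ k, 61380 ≤ k → k < 64809 → pointOk (k * 22) = true := between_extend pointOk 22 61380 64800 9 (p4u379) p4r380

theorem p4r381 : allRange pointOk 22 64809 9 = true := by decide +kernel
theorem p4u381 : ∀ k, 61380 ≤ k → k < 64818 → pointOk (k * 22) = true := between_extend pointOk 22 61380 64809 9 (p4u380) p4r381

theorem p4r382 : allRange pointOk 22 64818 9 = true := by decide +kernel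
theorem p4u382 : ∀ k, 61380 ≤ k → k < 64827 → pointOk (k * 22) = true := between_extend pointOk 22 61380 64818 9 (p4u381) p4r382

theorem p4r383 : allRange pointOk 22 64827 9 = true := by decide +kernel
theorem p4u383 : ∀ k, 61380 ≤ k → k < 64836 → pointOk (k * 22) = true := between_extend pointOk 22 61380 64827 9 (p4u382) p4r383

theorem p4r384 : allRange pointOk 22 64836 9 = true := by decide +kernel
theorem p4u384 : ∀ k, 61380 ≤ k → k < 64845 → pointOk (k * 22) = true := between_extend pointOk 22 61380 64836 9 (p4u383) p4r384

theorem p4r385 : allRange pointOk 22 64845 9 = true := by decide +kernel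
theorem p4u385 : ∀ k, 61380 ≤ k → k < 64854 → pointOk (k * 22) = true := between_extend pointOk 22 61380 64845 9 (p4u384) p4r385

theorem p4r386 : allRange pointOk 22 64854 9 = true := by decide +kernel
theorem p4u386 : ∀ k, 61380 ≤ k → k < 64863 → pointOk (k * 22) = true := between_extend pointOk 22 61380 64854 9 (p4u385) p4r386

theorem p4r387 : allRange pointOk 22 64863 9 = true := by decide +kernel
theorem p4u387 : ∀ k, 61380 ≤ k → k < 64872 → pointOk (k * 22) = true := between_extend pointOk 22 61380 64863 9 (p4u386) p4r387

theorem p4r388 : allRange pointOk 22 64872 9 = true := by decide +kernel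
theorem p4u388 : ∀ k, 61380 ≤ k → k < 64881 → pointOk (k * 22) = true := between_extend pointOk 22 61380 64872 9 (p4u387) p4r388

theorem p4r389 : allRange pointOk 22 64881 9 = true := by decide +kernel
theorem p4u389 : ∀ k, 61380 ≤ k → k < 64890 → pointOk (k * 22) = true := between_extend pointOk 22 61380 64881 9 (p4u388) p4r389

theorem p4r390 : allRange pointOk 22 64890 9 = true := by decide +kernel
theorem p4u390 : ∀ k, 61380 ≤ k → k < 64899 → pointOk (k * 22) = true := between_extend pointOk 22 61380 64890 9 (p4u389) p4r390

theorem p4r391 : allRange pointOk 22 64899 9 = true := by decide +kernel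
theorem p4u391 : ∀ k, 61380 ≤ k → k < 64908 → pointOk (k * 22) = true := between_extend pointOk 22 61380 64899 9 (p4u390) p4r391

theorem p4r392 : allRange pointOk 22 64908 9 = true := by decide +kernel
theorem p4u392 : ∀ k, 61380 ≤ k → k < 64917 → pointOk (k * 22) = true := between_extend pointOk 22 61380 64908 9 (p4u391) p4r392

theorem p4r393 : allRange pointOk 22 64917 9 = true := by decide +kernel
theorem p4u393 : ∀ k, 61380 ≤ k → k < 64926 → pointOk (k * 22) = true := between_extend pointOk 22 61380 64917 9 (p4u392) p4r393

theorem p4r394 : allRange pointOk 22 64926 9 = true := by decide +kernel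
theorem p4u394 : ∀ k, 61380 ≤ k → k < 64935 → pointOk (k * 22) = true := between_extend pointOk 22 61380 64926 9 (p4u393) p4r394

theorem p4r395 : allRange pointOk 22 64935 9 = true := by decide +kernel
theorem p4u395 : ∀ k, 61380 ≤ k → k < 64944 → pointOk (k * 22) = true := between_extend pointOk 22 61380 64935 9 (p4u394) p4r395

theorem p4r396 : allRange pointOk 22 64944 9 = true := by decide +kernel
theorem p4u396 : ∀ k, 61380 ≤ k → k < 64953 → pointOk (k * 22) = true := between_extend pointOk 22 61380 64944 9 (p4u395) p4r396

theorem p4r397 : allRange pointOk 22 64953 9 = true := by decide +kernel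
theorem p4u397 : ∀ k, 61380 ≤ k → k < 64962 → pointOk (k * 22) = true := between_extend pointOk 22 61380 64953 9 (p4u396) p4r397

theorem p4r398 : allRange pointOk 22 64962 9 = true := by decide +kernel
theorem p4u398 : ∀ k, 61380 ≤ k → k < 64971 → pointOk (k * 22) = true := between_extend pointOk 22 61380 64962 9 (p4u397) p4r398

theorem p4r399 : allRange pointOk 22 64971 9 = true := by decide +kernel
theorem p4u399 : ∀ k, 61380 ≤ k → k < 64980 → pointOk (k * 22) = true := between_extend pointOk 22 61380 64971 9 (p4u398) p4r399

theorem p4r400 : allRange pointOk 22 64980 9 = true := by decide +kernel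
theorem p4u400 : ∀ k, 61380 ≤ k → k < 64989 → pointOk (k * 22) = true := between_extend pointOk 22 61380 64980 9 (p4u399) p4r400

theorem p4r401 : allRange pointOk 22 64989 9 = true := by decide +kernel
theorem p4u401 : ∀ k, 61380 ≤ k → k < 64998 → pointOk (k * 22) = true := between_extend pointOk 22 61380 64989 9 (p4u400) p4r401

theorem p4r402 : allRange pointOk 22 64998 9 = true := by decide +kernel
theorem p4u402 : ∀ k, 61380 ≤ k → k < 65007 → pointOk (k * 22) = true := between_extend pointOk 22 61380 64998 9 (p4u401) p4r402

theorem p4r403 : allRange pointOk 22 65007 9 = true := by decide +kernel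
theorem p4u403 : ∀ k, 61380 ≤ k → k < 65016 → pointOk (k * 22) = true := between_extend pointOk 22 61380 65007 9 (p4u402) p4r403

theorem p4r404 : allRange pointOk 22 65016 9 = true := by decide +kernel
theorem p4u404 : ∀ k, 61380 ≤ k → k < 65025 → pointOk (k * 22) = true := between_extend pointOk 22 61380 65016 9 (p4u403) p4r404

theorem p4r405 : allRange pointOk 22 65025 9 = true := by decide +kernel
theorem p4u405 : ∀ k, 61380 ≤ k → k < 65034 → pointOk (k * 22) = true := between_extend pointOk 22 61380 65025 9 (p4u404) p4r405

theorem p4r406 : allRange pointOk 22 65034 9 = true := by decide +kernel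
theorem p4u406 : ∀ k, 61380 ≤ k → k < 65043 → pointOk (k * 22) = true := between_extend pointOk 22 61380 65034 9 (p4u405) p4r406

theorem p4r407 : allRange pointOk 22 65043 9 = true := by decide +kernel
theorem p4u407 : ∀ k, 61380 ≤ k → k < 65052 → pointOk (k * 22) = true := between_extend pointOk 22 61380 65043 9 (p4u406) p4r407

theorem p4r408 : allRange pointOk 22 65052 9 = true := by decide +kernel
theorem p4u408 : ∀ k, 61380 ≤ k → k < 65061 → pointOk (k * 22) = true := between_extend pointOk 22 61380 65052 9 (p4u407) p4r408

theorem p4r409 : allRange pointOk 22 65061 9 = true := by decide +kernel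
theorem p4u409 : ∀ k, 61380 ≤ k → k < 65070 → pointOk (k * 22) = true := between_extend pointOk 22 61380 65061 9 (p4u408) p4r409

theorem p4r410 : allRange pointOk 22 65070 9 = true := by decide +kernel
theorem p4u410 : ∀ k, 61380 ≤ k → k < 65079 → pointOk (k * 22) = true := between_extend pointOk 22 61380 65070 9 (p4u409) p4r410

theorem p4r411 : allRange pointOk 22 65079 9 = true := by decide +kernel
theorem p4u411 : ∀ k, 61380 ≤ k → k < 65088 → pointOk (k * 22) = true := between_extend pointOk 22 61380 65079 9 (p4u410) p4r411

theorem p4r412 : allRange pointOk 22 65088 9 = true := by decide +kernel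
theorem p4u412 : ∀ k, 61380 ≤ k → k < 65097 → pointOk (k * 22) = true := between_extend pointOk 22 61380 65088 9 (p4u411) p4r412

theorem p4r413 : allRange pointOk 22 65097 9 = true := by decide +kernel
theorem p4u413 : ∀ k, 61380 ≤ k → k < 65106 → pointOk (k * 22) = true := between_extend pointOk 22 61380 65097 9 (p4u412) p4r413

theorem p4r414 : allRange pointOk 22 65106 9 = true := by decide +kernel
theorem p4u414 : ∀ k, 61380 ≤ k → k < 65115 → pointOk (k * 22) = true := between_extend pointOk 22 61380 65106 9 (p4u413) p4r414

theorem p4r415 : allRange pointOk 22 65115 9 = true := by decide +kernel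
theorem p4u415 : ∀ k, 61380 ≤ k → k < 65124 → pointOk (k * 22) = true := between_extend pointOk 22 61380 65115 9 (p4u414) p4r415

theorem p4r416 : allRange pointOk 22 65124 9 = true := by decide +kernel
theorem p4u416 : ∀ k, 61380 ≤ k → k < 65133 → pointOk (k * 22) = true := between_extend pointOk 22 61380 65124 9 (p4u415) p4r416

theorem p4r417 : allRange pointOk 22 65133 9 = true := by decide +kernel
theorem p4u417 : ∀ k, 61380 ≤ k → k < 65142 → pointOk (k * 22) = true := between_extend pointOk 22 61380 65133 9 (p4u416) p4r417

theorem p4r418 : allRange pointOk 22 65142 9 = true := by decide +kernel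
theorem p4u418 : ∀ k, 61380 ≤ k → k < 65151 → pointOk (k * 22) = true := between_extend pointOk 22 61380 65142 9 (p4u417) p4r418

theorem p4r419 : allRange pointOk 22 65151 9 = true := by decide +kernel
theorem p4u419 : ∀ k, 61380 ≤ k → k < 65160 → pointOk (k * 22) = true := between_extend pointOk 22 61380 65151 9 (p4u418) p4r419

theorem p4r420 : allRange pointOk 22 65160 9 = true := by decide +kernel
theorem p4u420 : ∀ k, 61380 ≤ k → k < 65169 → pointOk (k * 22) = true := between_extend pointOk 22 61380 65160 9 (p4u419) p4r420

theorem p4r421 : allRange pointOk 22 65169 9 = true := by decide +kernel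
theorem p4u421 : ∀ k, 61380 ≤ k → k < 65178 → pointOk (k * 22) = true := between_extend pointOk 22 61380 65169 9 (p4u420) p4r421

theorem p4r422 : allRange pointOk 22 65178 9 = true := by decide +kernel
theorem p4u422 : ∀ k, 61380 ≤ k → k < 65187 → pointOk (k * 22) = true := between_extend pointOk 22 61380 65178 9 (p4u421) p4r422

theorem p4r423 : allRange pointOk 22 65187 9 = true := by decide +kernel
theorem p4u423 : ∀ k, 61380 ≤ k → k < 65196 → pointOk (k * 22) = true := between_extend pointOk 22 61380 65187 9 (p4u422) p4r423

theorem p4r424 : allRange pointOk 22 65196 9 = true := by decide +kernel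
theorem p4u424 : ∀ k, 61380 ≤ k → k < 65205 → pointOk (k * 22) = true := between_extend pointOk 22 61380 65196 9 (p4u423) p4r424

theorem p4r425 : allRange pointOk 22 65205 9 = true := by decide +kernel
theorem p4u425 : ∀ k, 61380 ≤ k → k < 65214 → pointOk (k * 22) = true := between_extend pointOk 22 61380 65205 9 (p4u424) p4r425

theorem p4r426 : allRange pointOk 22 65214 9 = true := by decide +kernel
theorem p4u426 : ∀ k, 61380 ≤ k → k < 65223 → pointOk (k * 22) = true := between_extend pointOk 22 61380 65214 9 (p4u425) p4r426

theorem p4r427 : allRange pointOk 22 65223 9 = true := by decide +kernel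
theorem p4u427 : ∀ k, 61380 ≤ k → k < 65232 → pointOk (k * 22) = true := between_extend pointOk 22 61380 65223 9 (p4u426) p4r427

theorem p4r428 : allRange pointOk 22 65232 9 = true := by decide +kernel
theorem p4u428 : ∀ k, 61380 ≤ k → k < 65241 → pointOk (k * 22) = true := between_extend pointOk 22 61380 65232 9 (p4u427) p4r428

theorem p4r429 : allRange pointOk 22 65241 9 = true := by decide +kernel
theorem p4u429 : ∀ k, 61380 ≤ k → k < 65250 → pointOk (k * 22) = true := between_extend pointOk 22 61380 65241 9 (p4u428) p4r429

theorem p4r430 : allRange pointOk 22 65250 9 = true := by decide +kernel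
theorem p4u430 : ∀ k, 61380 ≤ k → k < 65259 → pointOk (k * 22) = true := between_extend pointOk 22 61380 65250 9 (p4u429) p4r430

theorem p4r431 : allRange pointOk 22 65259 9 = true := by decide +kernel
theorem p4u431 : ∀ k, 61380 ≤ k → k < 65268 → pointOk (k * 22) = true := between_extend pointOk 22 61380 65259 9 (p4u430) p4r431

theorem p4r432 : allRange pointOk 22 65268 9 = true := by decide +kernel
theorem p4u432 : ∀ k, 61380 ≤ k → k < 65277 → pointOk (k * 22) = true := between_extend pointOk 22 61380 65268 9 (p4u431) p4r432

theorem p4r433 : allRange pointOk 22 65277 9 = true := by decide +kernel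
theorem p4u433 : ∀ k, 61380 ≤ k → k < 65286 → pointOk (k * 22) = true := between_extend pointOk 22 61380 65277 9 (p4u432) p4r433

theorem p4r434 : allRange pointOk 22 65286 9 = true := by decide +kernel
theorem p4u434 : ∀ k, 61380 ≤ k → k < 65295 → pointOk (k * 22) = true := between_extend pointOk 22 61380 65286 9 (p4u433) p4r434

theorem p4r435 : allRange pointOk 22 65295 9 = true := by decide +kernel
theorem p4u435 : ∀ k, 61380 ≤ k → k < 65304 → pointOk (k * 22) = true := between_extend pointOk 22 61380 65295 9 (p4u434) p4r435

theorem p4r436 : allRange pointOk 22 65304 9 = true := by decide +kernel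
theorem p4u436 : ∀ k, 61380 ≤ k → k < 65313 → pointOk (k * 22) = true := between_extend pointOk 22 61380 65304 9 (p4u435) p4r436

theorem p4r437 : allRange pointOk 22 65313 9 = true := by decide +kernel
theorem p4u437 : ∀ k, 61380 ≤ k → k < 65322 → pointOk (k * 22) = true := between_extend pointOk 22 61380 65313 9 (p4u436) p4r437

theorem p4r438 : allRange pointOk 22 65322 9 = true := by decide +kernel
theorem p4u438 : ∀ k, 61380 ≤ k → k < 65331 → pointOk (k * 22) = true := between_extend pointOk 22 61380 65322 9 (p4u437) p4r438

theorem p4r439 : allRange pointOk 22 65331 9 = true := by decide +kernel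
theorem p4u439 : ∀ k, 61380 ≤ k → k < 65340 → pointOk (k * 22) = true := between_extend pointOk 22 61380 65331 9 (p4u438) p4r439

theorem p4r440 : allRange pointOk 22 65340 9 = true := by decide +kernel
theorem p4u440 : ∀ k, 61380 ≤ k → k < 65349 → pointOk (k * 22) = true := between_extend pointOk 22 61380 65340 9 (p4u439) p4r440

theorem p4r441 : allRange pointOk 22 65349 9 = true := by decide +kernel
theorem p4u441 : ∀ k, 61380 ≤ k → k < 65358 → pointOk (k * 22) = true := between_extend pointOk 22 61380 65349 9 (p4u440) p4r441

theorem p4r442 : allRange pointOk 22 65358 9 = true := by decide +kernel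
theorem p4u442 : ∀ k, 61380 ≤ k → k < 65367 → pointOk (k * 22) = true := between_extend pointOk 22 61380 65358 9 (p4u441) p4r442

theorem p4r443 : allRange pointOk 22 65367 9 = true := by decide +kernel
theorem p4u443 : ∀ k, 61380 ≤ k → k < 65376 → pointOk (k * 22) = true := between_extend pointOk 22 61380 65367 9 (p4u442) p4r443

theorem p4r444 : allRange pointOk 22 65376 9 = true := by decide +kernel
theorem p4u444 : ∀ k, 61380 ≤ k → k < 65385 → pointOk (k * 22) = true := between_extend pointOk 22 61380 65376 9 (p4u443) p4r444

theorem p4r445 : allRange pointOk 22 65385 9 = true := by decide +kernel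
theorem p4u445 : ∀ k, 61380 ≤ k → k < 65394 → pointOk (k * 22) = true := between_extend pointOk 22 61380 65385 9 (p4u444) p4r445

theorem p4r446 : allRange pointOk 22 65394 9 = true := by decide +kernel
theorem p4u446 : ∀ k, 61380 ≤ k → k < 65403 → pointOk (k * 22) = true := between_extend pointOk 22 61380 65394 9 (p4u445) p4r446

theorem p4r447 : allRange pointOk 22 65403 9 = true := by decide +kernel
theorem p4u447 : ∀ k, 61380 ≤ k → k < 65412 → pointOk (k * 22) = true := between_extend pointOk 22 61380 65403 9 (p4u446) p4r447

theorem p4r448 : allRange pointOk 22 65412 9 = true := by decide +kernel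
theorem p4u448 : ∀ k, 61380 ≤ k → k < 65421 → pointOk (k * 22) = true := between_extend pointOk 22 61380 65412 9 (p4u447) p4r448

theorem p4r449 : allRange pointOk 22 65421 9 = true := by decide +kernel
theorem p4u449 : ∀ k, 61380 ≤ k → k < 65430 → pointOk (k * 22) = true := between_extend pointOk 22 61380 65421 9 (p4u448) p4r449

theorem p4r450 : allRange pointOk 22 65430 9 = true := by decide +kernel
theorem p4u450 : ∀ k, 61380 ≤ k → k < 65439 → pointOk (k * 22) = true := between_extend pointOk 22 61380 65430 9 (p4u449) p4r450

theorem p4r451 : allRange pointOk 22 65439 9 = true := by decide +kernel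
theorem p4u451 : ∀ k, 61380 ≤ k → k < 65448 → pointOk (k * 22) = true := between_extend pointOk 22 61380 65439 9 (p4u450) p4r451

theorem p4r452 : allRange pointOk 22 65448 9 = true := by decide +kernel
theorem p4u452 : ∀ k, 61380 ≤ k → k < 65457 → pointOk (k * 22) = true := between_extend pointOk 22 61380 65448 9 (p4u451) p4r452

theorem p4r453 : allRange pointOk 22 65457 9 = true := by decide +kernel
theorem p4u453 : ∀ k, 61380 ≤ k → k < 65466 → pointOk (k * 22) = true := between_extend pointOk 22 61380 65457 9 (p4u452) p4r453

theorem p4r454 : allRange pointOk 22 65466 9 = true := by decide +kernel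
theorem p4u454 : ∀ k, 61380 ≤ k → k < 65475 → pointOk (k * 22) = true := between_extend pointOk 22 61380 65466 9 (p4u453) p4r454

theorem p4r455 : allRange pointOk 22 65475 9 = true := by decide +kernel
theorem p4u455 : ∀ k, 61380 ≤ k → k < 65484 → pointOk (k * 22) = true := between_extend pointOk 22 61380 65475 9 (p4u454) p4r455

theorem p4r456 : allRange pointOk 22 65484 9 = true := by decide +kernel
theorem p4u456 : ∀ k, 61380 ≤ k → k < 65493 → pointOk (k * 22) = true := between_extend pointOk 22 61380 65484 9 (p4u455) p4r456

theorem p4r457 : allRange pointOk 22 65493 9 = true := by decide +kernel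
theorem p4u457 : ∀ k, 61380 ≤ k → k < 65502 → pointOk (k * 22) = true := between_extend pointOk 22 61380 65493 9 (p4u456) p4r457

theorem p4r458 : allRange pointOk 22 65502 9 = true := by decide +kernel
theorem p4u458 : ∀ k, 61380 ≤ k → k < 65511 → pointOk (k * 22) = true := between_extend pointOk 22 61380 65502 9 (p4u457) p4r458

theorem p4r459 : allRange pointOk 22 65511 9 = true := by decide +kernel
theorem p4u459 : ∀ k, 61380 ≤ k → k < 65520 → pointOk (k * 22) = true := between_extend pointOk 22 61380 65511 9 (p4u458) p4r459

theorem p4r460 : allRange pointOk 22 65520 9 = true := by decide +kernel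
theorem p4u460 : ∀ k, 61380 ≤ k → k < 65529 → pointOk (k * 22) = true := between_extend pointOk 22 61380 65520 9 (p4u459) p4r460

theorem p4r461 : allRange pointOk 22 65529 9 = true := by decide +kernel
theorem p4u461 : ∀ k, 61380 ≤ k → k < 65538 → pointOk (k * 22) = true := between_extend pointOk 22 61380 65529 9 (p4u460) p4r461

theorem p4r462 : allRange pointOk 22 65538 9 = true := by decide +kernel
theorem p4u462 : ∀ k, 61380 ≤ k → k < 65547 → pointOk (k * 22) = true := between_extend pointOk 22 61380 65538 9 (p4u461) p4r462

theorem p4r463 : allRange pointOk 22 65547 9 = true := by decide +kernel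
theorem p4u463 : ∀ k, 61380 ≤ k → k < 65556 → pointOk (k * 22) = true := between_extend pointOk 22 61380 65547 9 (p4u462) p4r463

theorem p4r464 : allRange pointOk 22 65556 9 = true := by decide +kernel
theorem p4u464 : ∀ k, 61380 ≤ k → k < 65565 → pointOk (k * 22) = true := between_extend pointOk 22 61380 65556 9 (p4u463) p4r464

theorem p4r465 : allRange pointOk 22 65565 9 = true := by decide +kernel
theorem p4u465 : ∀ k, 61380 ≤ k → k < 65574 → pointOk (k * 22) = true := between_extend pointOk 22 61380 65565 9 (p4u464) p4r465

theorem p4r466 : allRange pointOk 22 65574 9 = true := by decide +kernel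
theorem p4u466 : ∀ k, 61380 ≤ k → k < 65583 → pointOk (k * 22) = true := between_extend pointOk 22 61380 65574 9 (p4u465) p4r466

theorem p4r467 : allRange pointOk 22 65583 9 = true := by decide +kernel
theorem p4u467 : ∀ k, 61380 ≤ k → k < 65592 → pointOk (k * 22) = true := between_extend pointOk 22 61380 65583 9 (p4u466) p4r467

theorem p4r468 : allRange pointOk 22 65592 9 = true := by decide +kernel
theorem p4u468 : ∀ k, 61380 ≤ k → k < 65601 → pointOk (k * 22) = true := between_extend pointOk 22 61380 65592 9 (p4u467) p4r468

theorem p4r469 : allRange pointOk 22 65601 9 = true := by decide +kernel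
theorem p4u469 : ∀ k, 61380 ≤ k → k < 65610 → pointOk (k * 22) = true := between_extend pointOk 22 61380 65601 9 (p4u468) p4r469

theorem p4r470 : allRange pointOk 22 65610 9 = true := by decide +kernel
theorem p4u470 : ∀ k, 61380 ≤ k → k < 65619 → pointOk (k * 22) = true := between_extend pointOk 22 61380 65610 9 (p4u469) p4r470

theorem p4r471 : allRange pointOk 22 65619 9 = true := by decide +kernel
theorem p4u471 : ∀ k, 61380 ≤ k → k < 65628 → pointOk (k * 22) = true := between_extend pointOk 22 61380 65619 9 (p4u470) p4r471

theorem p4r472 : allRange pointOk 22 65628 9 = true := by decide +kernel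
theorem p4u472 : ∀ k, 61380 ≤ k → k < 65637 → pointOk (k * 22) = true := between_extend pointOk 22 61380 65628 9 (p4u471) p4r472

theorem p4r473 : allRange pointOk 22 65637 9 = true := by decide +kernel
theorem p4u473 : ∀ k, 61380 ≤ k → k < 65646 → pointOk (k * 22) = true := between_extend pointOk 22 61380 65637 9 (p4u472) p4r473

theorem p4r474 : allRange pointOk 22 65646 9 = true := by decide +kernel
theorem p4u474 : ∀ k, 61380 ≤ k → k < 65655 → pointOk (k * 22) = true := between_extend pointOk 22 61380 65646 9 (p4u473) p4r474

theorem p4r475 : allRange pointOk 22 65655 9 = true := by decide +kernel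
theorem p4u475 : ∀ k, 61380 ≤ k → k < 65664 → pointOk (k * 22) = true := between_extend pointOk 22 61380 65655 9 (p4u474) p4r475

theorem p4r476 : allRange pointOk 22 65664 9 = true := by decide +kernel
theorem p4u476 : ∀ k, 61380 ≤ k → k < 65673 → pointOk (k * 22) = true := between_extend pointOk 22 61380 65664 9 (p4u475) p4r476

theorem p4r477 : allRange pointOk 22 65673 9 = true := by decide +kernel
theorem p4u477 : ∀ k, 61380 ≤ k → k < 65682 → pointOk (k * 22) = true := between_extend pointOk 22 61380 65673 9 (p4u476) p4r477

theorem p4r478 : allRange pointOk 22 65682 9 = true := by decide +kernel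
theorem p4u478 : ∀ k, 61380 ≤ k → k < 65691 → pointOk (k * 22) = true := between_extend pointOk 22 61380 65682 9 (p4u477) p4r478

theorem p4r479 : allRange pointOk 22 65691 9 = true := by decide +kernel
theorem p4u479 : ∀ k, 61380 ≤ k → k < 65700 → pointOk (k * 22) = true := between_extend pointOk 22 61380 65691 9 (p4u478) p4r479

theorem p4r480 : allRange pointOk 22 65700 9 = true := by decide +kernel
theorem p4u480 : ∀ k, 61380 ≤ k → k < 65709 → pointOk (k * 22) = true := between_extend pointOk 22 61380 65700 9 (p4u479) p4r480

theorem p4r481 : allRange pointOk 22 65709 9 = true := by decide +kernel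
theorem p4u481 : ∀ k, 61380 ≤ k → k < 65718 → pointOk (k * 22) = true := between_extend pointOk 22 61380 65709 9 (p4u480) p4r481

theorem p4r482 : allRange pointOk 22 65718 9 = true := by decide +kernel
theorem p4u482 : ∀ k, 61380 ≤ k → k < 65727 → pointOk (k * 22) = true := between_extend pointOk 22 61380 65718 9 (p4u481) p4r482

theorem p4r483 : allRange pointOk 22 65727 9 = true := by decide +kernel
theorem p4u483 : ∀ k, 61380 ≤ k → k < 65736 → pointOk (k * 22) = true := between_extend pointOk 22 61380 65727 9 (p4u482) p4r483

theorem p4r484 : allRange pointOk 22 65736 9 = true := by decide +kernel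
theorem p4u484 : ∀ k, 61380 ≤ k → k < 65745 → pointOk (k * 22) = true := between_extend pointOk 22 61380 65736 9 (p4u483) p4r484

theorem p4r485 : allRange pointOk 22 65745 9 = true := by decide +kernel
theorem p4u485 : ∀ k, 61380 ≤ k → k < 65754 → pointOk (k * 22) = true := between_extend pointOk 22 61380 65745 9 (p4u484) p4r485

theorem p4r486 : allRange pointOk 22 65754 9 = true := by decide +kernel
theorem p4u486 : ∀ k, 61380 ≤ k → k < 65763 → pointOk (k * 22) = true := between_extend pointOk 22 61380 65754 9 (p4u485) p4r486

theorem p4r487 : allRange pointOk 22 65763 9 = true := by decide +kernel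
theorem p4u487 : ∀ k, 61380 ≤ k → k < 65772 → pointOk (k * 22) = true := between_extend pointOk 22 61380 65763 9 (p4u486) p4r487

theorem p4r488 : allRange pointOk 22 65772 9 = true := by decide +kernel
theorem p4u488 : ∀ k, 61380 ≤ k → k < 65781 → pointOk (k * 22) = true := between_extend pointOk 22 61380 65772 9 (p4u487) p4r488

theorem p4r489 : allRange pointOk 22 65781 9 = true := by decide +kernel
theorem p4u489 : ∀ k, 61380 ≤ k → k < 65790 → pointOk (k * 22) = true := between_extend pointOk 22 61380 65781 9 (p4u488) p4r489

theorem p4r490 : allRange pointOk 22 65790 9 = true := by decide +kernel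
theorem p4u490 : ∀ k, 61380 ≤ k → k < 65799 → pointOk (k * 22) = true := between_extend pointOk 22 61380 65790 9 (p4u489) p4r490

theorem p4r491 : allRange pointOk 22 65799 9 = true := by decide +kernel
theorem p4u491 : ∀ k, 61380 ≤ k → k < 65808 → pointOk (k * 22) = true := between_extend pointOk 22 61380 65799 9 (p4u490) p4r491

theorem p4r492 : allRange pointOk 22 65808 9 = true := by decide +kernel
theorem p4u492 : ∀ k, 61380 ≤ k → k < 65817 → pointOk (k * 22) = true := between_extend pointOk 22 61380 65808 9 (p4u491) p4r492

theorem p4r493 : allRange pointOk 22 65817 9 = true := by decide +kernel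
theorem p4u493 : ∀ k, 61380 ≤ k → k < 65826 → pointOk (k * 22) = true := between_extend pointOk 22 61380 65817 9 (p4u492) p4r493

theorem p4r494 : allRange pointOk 22 65826 9 = true := by decide +kernel
theorem p4u494 : ∀ k, 61380 ≤ k → k < 65835 → pointOk (k * 22) = true := between_extend pointOk 22 61380 65826 9 (p4u493) p4r494

theorem p4r495 : allRange pointOk 22 65835 9 = true := by decide +kernel
theorem p4u495 : ∀ k, 61380 ≤ k → k < 65844 → pointOk (k * 22) = true := between_extend pointOk 22 61380 65835 9 (p4u494) p4r495

theorem p4r496 : allRange pointOk 22 65844 9 = true := by decide +kernel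
theorem p4u496 : ∀ k, 61380 ≤ k → k < 65853 → pointOk (k * 22) = true := between_extend pointOk 22 61380 65844 9 (p4u495) p4r496

theorem p4r497 : allRange pointOk 22 65853 9 = true := by decide +kernel
theorem p4u497 : ∀ k, 61380 ≤ k → k < 65862 → pointOk (k * 22) = true := between_extend pointOk 22 61380 65853 9 (p4u496) p4r497

theorem p4r498 : allRange pointOk 22 65862 9 = true := by decide +kernel
theorem p4u498 : ∀ k, 61380 ≤ k → k < 65871 → pointOk (k * 22) = true := between_extend pointOk 22 61380 65862 9 (p4u497) p4r498

theorem p4r499 : allRange pointOk 22 65871 9 = true := by decide +kernel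
theorem p4u499 : ∀ k, 61380 ≤ k → k < 65880 → pointOk (k * 22) = true := between_extend pointOk 22 61380 65871 9 (p4u498) p4r499

theorem p4r500 : allRange pointOk 22 65880 9 = true := by decide +kernel
theorem p4u500 : ∀ k, 61380 ≤ k → k < 65889 → pointOk (k * 22) = true := between_extend pointOk 22 61380 65880 9 (p4u499) p4r500

theorem p4r501 : allRange pointOk 22 65889 9 = true := by decide +kernel
theorem p4u501 : ∀ k, 61380 ≤ k → k < 65898 → pointOk (k * 22) = true := between_extend pointOk 22 61380 65889 9 (p4u500) p4r501

theorem p4r502 : allRange pointOk 22 65898 9 = true := by decide +kernel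
theorem p4u502 : ∀ k, 61380 ≤ k → k < 65907 → pointOk (k * 22) = true := between_extend pointOk 22 61380 65898 9 (p4u501) p4r502

theorem p4r503 : allRange pointOk 22 65907 9 = true := by decide +kernel
theorem p4u503 : ∀ k, 61380 ≤ k → k < 65916 → pointOk (k * 22) = true := between_extend pointOk 22 61380 65907 9 (p4u502) p4r503

theorem p4r504 : allRange pointOk 22 65916 9 = true := by decide +kernel
theorem p4u504 : ∀ k, 61380 ≤ k → k < 65925 → pointOk (k * 22) = true := between_extend pointOk 22 61380 65916 9 (p4u503) p4r504

theorem p4r505 : allRange pointOk 22 65925 9 = true := by decide +kernel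
theorem p4u505 : ∀ k, 61380 ≤ k → k < 65934 → pointOk (k * 22) = true := between_extend pointOk 22 61380 65925 9 (p4u504) p4r505

theorem p4r506 : allRange pointOk 22 65934 9 = true := by decide +kernel
theorem p4u506 : ∀ k, 61380 ≤ k → k < 65943 → pointOk (k * 22) = true := between_extend pointOk 22 61380 65934 9 (p4u505) p4r506

theorem p4r507 : allRange pointOk 22 65943 9 = true := by decide +kernel
theorem p4u507 : ∀ k, 61380 ≤ k → k < 65952 → pointOk (k * 22) = true := between_extend pointOk 22 61380 65943 9 (p4u506) p4r507

theorem p4r508 : allRange pointOk 22 65952 9 = true := by decide +kernel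
theorem p4u508 : ∀ k, 61380 ≤ k → k < 65961 → pointOk (k * 22) = true := between_extend pointOk 22 61380 65952 9 (p4u507) p4r508

theorem p4r509 : allRange pointOk 22 65961 9 = true := by decide +kernel
theorem p4u509 : ∀ k, 61380 ≤ k → k < 65970 → pointOk (k * 22) = true := between_extend pointOk 22 61380 65961 9 (p4u508) p4r509

theorem p4r510 : allRange pointOk 22 65970 9 = true := by decide +kernel
theorem p4u510 : ∀ k, 61380 ≤ k → k < 65979 → pointOk (k * 22) = true := between_extend pointOk 22 61380 65970 9 (p4u509) p4r510

theorem p4r511 : allRange pointOk 22 65979 9 = true := by decide +kernel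
theorem p4u511 : ∀ k, 61380 ≤ k → k < 65988 → pointOk (k * 22) = true := between_extend pointOk 22 61380 65979 9 (p4u510) p4r511

theorem p4r512 : allRange pointOk 22 65988 9 = true := by decide +kernel
theorem p4u512 : ∀ k, 61380 ≤ k → k < 65997 → pointOk (k * 22) = true := between_extend pointOk 22 61380 65988 9 (p4u511) p4r512

theorem p4r513 : allRange pointOk 22 65997 9 = true := by decide +kernel
theorem p4u513 : ∀ k, 61380 ≤ k → k < 66006 → pointOk (k * 22) = true := between_extend pointOk 22 61380 65997 9 (p4u512) p4r513

theorem p4r514 : allRange pointOk 22 66006 9 = true := by decide +kernel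
theorem p4u514 : ∀ k, 61380 ≤ k → k < 66015 → pointOk (k * 22) = true := between_extend pointOk 22 61380 66006 9 (p4u513) p4r514

theorem p4r515 : allRange pointOk 22 66015 9 = true := by decide +kernel
theorem p4u515 : ∀ k, 61380 ≤ k → k < 66024 → pointOk (k * 22) = true := between_extend pointOk 22 61380 66015 9 (p4u514) p4r515

theorem p4r516 : allRange pointOk 22 66024 9 = true := by decide +kernel
theorem p4u516 : ∀ k, 61380 ≤ k → k < 66033 → pointOk (k * 22) = true := between_extend pointOk 22 61380 66024 9 (p4u515) p4r516

theorem p4r517 : allRange pointOk 22 66033 9 = true := by decide +kernel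
theorem p4u517 : ∀ k, 61380 ≤ k → k < 66042 → pointOk (k * 22) = true := between_extend pointOk 22 61380 66033 9 (p4u516) p4r517

theorem p4r518 : allRange pointOk 22 66042 9 = true := by decide +kernel
theorem p4u518 : ∀ k, 61380 ≤ k → k < 66051 → pointOk (k * 22) = true := between_extend pointOk 22 61380 66042 9 (p4u517) p4r518

theorem p4r519 : allRange pointOk 22 66051 9 = true := by decide +kernel
theorem p4u519 : ∀ k, 61380 ≤ k → k < 66060 → pointOk (k * 22) = true := between_extend pointOk 22 61380 66051 9 (p4u518) p4r519

theorem p4r520 : allRange pointOk 22 66060 9 = true := by decide +kernel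
theorem p4u520 : ∀ k, 61380 ≤ k → k < 66069 → pointOk (k * 22) = true := between_extend pointOk 22 61380 66060 9 (p4u519) p4r520

theorem p4r521 : allRange pointOk 22 66069 9 = true := by decide +kernel
theorem p4u521 : ∀ k, 61380 ≤ k → k < 66078 → pointOk (k * 22) = true := between_extend pointOk 22 61380 66069 9 (p4u520) p4r521

theorem p4r522 : allRange pointOk 22 66078 9 = true := by decide +kernel
theorem p4u522 : ∀ k, 61380 ≤ k → k < 66087 → pointOk (k * 22) = true := between_extend pointOk 22 61380 66078 9 (p4u521) p4r522

theorem p4r523 : allRange pointOk 22 66087 9 = true := by decide +kernel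
theorem p4u523 : ∀ k, 61380 ≤ k → k < 66096 → pointOk (k * 22) = true := between_extend pointOk 22 61380 66087 9 (p4u522) p4r523

theorem p4r524 : allRange pointOk 22 66096 9 = true := by decide +kernel
theorem p4u524 : ∀ k, 61380 ≤ k → k < 66105 → pointOk (k * 22) = true := between_extend pointOk 22 61380 66096 9 (p4u523) p4r524

theorem p4r525 : allRange pointOk 22 66105 9 = true := by decide +kernel
theorem p4u525 : ∀ k, 61380 ≤ k → k < 66114 → pointOk (k * 22) = true := between_extend pointOk 22 61380 66105 9 (p4u524) p4r525

theorem p4r526 : allRange pointOk 22 66114 9 = true := by decide +kernel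
theorem p4u526 : ∀ k, 61380 ≤ k → k < 66123 → pointOk (k * 22) = true := between_extend pointOk 22 61380 66114 9 (p4u525) p4r526

theorem p4r527 : allRange pointOk 22 66123 9 = true := by decide +kernel
theorem p4u527 : ∀ k, 61380 ≤ k → k < 66132 → pointOk (k * 22) = true := between_extend pointOk 22 61380 66123 9 (p4u526) p4r527

theorem p4r528 : allRange pointOk 22 66132 9 = true := by decide +kernel
theorem p4u528 : ∀ k, 61380 ≤ k → k < 66141 → pointOk (k * 22) = true := between_extend pointOk 22 61380 66132 9 (p4u527) p4r528

theorem p4r529 : allRange pointOk 22 66141 9 = true := by decide +kernel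
theorem p4u529 : ∀ k, 61380 ≤ k → k < 66150 → pointOk (k * 22) = true := between_extend pointOk 22 61380 66141 9 (p4u528) p4r529

theorem p4r530 : allRange pointOk 22 66150 9 = true := by decide +kernel
theorem p4u530 : ∀ k, 61380 ≤ k → k < 66159 → pointOk (k * 22) = true := between_extend pointOk 22 61380 66150 9 (p4u529) p4r530

theorem p4r531 : allRange pointOk 22 66159 9 = true := by decide +kernel
theorem p4u531 : ∀ k, 61380 ≤ k → k < 66168 → pointOk (k * 22) = true := between_extend pointOk 22 61380 66159 9 (p4u530) p4r531

theorem p4r532 : allRange pointOk 22 66168 9 = true := by decide +kernel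
theorem p4u532 : ∀ k, 61380 ≤ k → k < 66177 → pointOk (k * 22) = true := between_extend pointOk 22 61380 66168 9 (p4u531) p4r532

theorem p4r533 : allRange pointOk 22 66177 9 = true := by decide +kernel
theorem p4u533 : ∀ k, 61380 ≤ k → k < 66186 → pointOk (k * 22) = true := between_extend pointOk 22 61380 66177 9 (p4u532) p4r533

theorem p4r534 : allRange pointOk 22 66186 9 = true := by decide +kernel
theorem p4u534 : ∀ k, 61380 ≤ k → k < 66195 → pointOk (k * 22) = true := between_extend pointOk 22 61380 66186 9 (p4u533) p4r534

theorem p4r535 : allRange pointOk 22 66195 9 = true := by decide +kernel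
theorem p4u535 : ∀ k, 61380 ≤ k → k < 66204 → pointOk (k * 22) = true := between_extend pointOk 22 61380 66195 9 (p4u534) p4r535

theorem p4r536 : allRange pointOk 22 66204 9 = true := by decide +kernel
theorem p4u536 : ∀ k, 61380 ≤ k → k < 66213 → pointOk (k * 22) = true := between_extend pointOk 22 61380 66204 9 (p4u535) p4r536

theorem p4r537 : allRange pointOk 22 66213 9 = true := by decide +kernel
theorem p4u537 : ∀ k, 61380 ≤ k → k < 66222 → pointOk (k * 22) = true := between_extend pointOk 22 61380 66213 9 (p4u536) p4r537

theorem p4r538 : allRange pointOk 22 66222 9 = true := by decide +kernel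
theorem p4u538 : ∀ k, 61380 ≤ k → k < 66231 → pointOk (k * 22) = true := between_extend pointOk 22 61380 66222 9 (p4u537) p4r538

theorem p4r539 : allRange pointOk 22 66231 9 = true := by decide +kernel
theorem p4u539 : ∀ k, 61380 ≤ k → k < 66240 → pointOk (k * 22) = true := between_extend pointOk 22 61380 66231 9 (p4u538) p4r539

theorem p4r540 : allRange pointOk 22 66240 9 = true := by decide +kernel
theorem p4u540 : ∀ k, 61380 ≤ k → k < 66249 → pointOk (k * 22) = true := between_extend pointOk 22 61380 66240 9 (p4u539) p4r540

theorem p4r541 : allRange pointOk 22 66249 9 = true := by decide +kernel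
theorem p4u541 : ∀ k, 61380 ≤ k → k < 66258 → pointOk (k * 22) = true := between_extend pointOk 22 61380 66249 9 (p4u540) p4r541

theorem p4r542 : allRange pointOk 22 66258 9 = true := by decide +kernel
theorem p4u542 : ∀ k, 61380 ≤ k → k < 66267 → pointOk (k * 22) = true := between_extend pointOk 22 61380 66258 9 (p4u541) p4r542

theorem p4r543 : allRange pointOk 22 66267 9 = true := by decide +kernel
theorem p4u543 : ∀ k, 61380 ≤ k → k < 66276 → pointOk (k * 22) = true := between_extend pointOk 22 61380 66267 9 (p4u542) p4r543

theorem p4r544 : allRange pointOk 22 66276 9 = true := by decide +kernel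
theorem p4u544 : ∀ k, 61380 ≤ k → k < 66285 → pointOk (k * 22) = true := between_extend pointOk 22 61380 66276 9 (p4u543) p4r544

theorem p4r545 : allRange pointOk 22 66285 9 = true := by decide +kernel
theorem p4u545 : ∀ k, 61380 ≤ k → k < 66294 → pointOk (k * 22) = true := between_extend pointOk 22 61380 66285 9 (p4u544) p4r545

theorem p4r546 : allRange pointOk 22 66294 9 = true := by decide +kernel
theorem p4u546 : ∀ k, 61380 ≤ k → k < 66303 → pointOk (k * 22) = true := between_extend pointOk 22 61380 66294 9 (p4u545) p4r546

theorem p4r547 : allRange pointOk 22 66303 9 = true := by decide +kernel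
theorem p4u547 : ∀ k, 61380 ≤ k → k < 66312 → pointOk (k * 22) = true := between_extend pointOk 22 61380 66303 9 (p4u546) p4r547

theorem p4r548 : allRange pointOk 22 66312 9 = true := by decide +kernel
theorem p4u548 : ∀ k, 61380 ≤ k → k < 66321 → pointOk (k * 22) = true := between_extend pointOk 22 61380 66312 9 (p4u547) p4r548

theorem p4r549 : allRange pointOk 22 66321 9 = true := by decide +kernel
theorem p4u549 : ∀ k, 61380 ≤ k → k < 66330 → pointOk (k * 22) = true := between_extend pointOk 22 61380 66321 9 (p4u548) p4r549

theorem p4r550 : allRange pointOk 22 66330 9 = true := by decide +kernel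
theorem p4u550 : ∀ k, 61380 ≤ k → k < 66339 → pointOk (k * 22) = true := between_extend pointOk 22 61380 66330 9 (p4u549) p4r550

theorem p4r551 : allRange pointOk 22 66339 9 = true := by decide +kernel
theorem p4u551 : ∀ k, 61380 ≤ k → k < 66348 → pointOk (k * 22) = true := between_extend pointOk 22 61380 66339 9 (p4u550) p4r551

theorem p4r552 : allRange pointOk 22 66348 9 = true := by decide +kernel
theorem p4u552 : ∀ k, 61380 ≤ k → k < 66357 → pointOk (k * 22) = true := between_extend pointOk 22 61380 66348 9 (p4u551) p4r552

theorem p4r553 : allRange pointOk 22 66357 9 = true := by decide +kernel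
theorem p4u553 : ∀ k, 61380 ≤ k → k < 66366 → pointOk (k * 22) = true := between_extend pointOk 22 61380 66357 9 (p4u552) p4r553

theorem p4r554 : allRange pointOk 22 66366 9 = true := by decide +kernel
theorem p4u554 : ∀ k, 61380 ≤ k → k < 66375 → pointOk (k * 22) = true := between_extend pointOk 22 61380 66366 9 (p4u553) p4r554

theorem p4r555 : allRange pointOk 22 66375 9 = true := by decide +kernel
theorem p4u555 : ∀ k, 61380 ≤ k → k < 66384 → pointOk (k * 22) = true := between_extend pointOk 22 61380 66375 9 (p4u554) p4r555

theorem p4r556 : allRange pointOk 22 66384 9 = true := by decide +kernel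
theorem p4u556 : ∀ k, 61380 ≤ k → k < 66393 → pointOk (k * 22) = true := between_extend pointOk 22 61380 66384 9 (p4u555) p4r556

theorem p4r557 : allRange pointOk 22 66393 9 = true := by decide +kernel
theorem p4u557 : ∀ k, 61380 ≤ k → k < 66402 → pointOk (k * 22) = true := between_extend pointOk 22 61380 66393 9 (p4u556) p4r557

theorem p4r558 : allRange pointOk 22 66402 9 = true := by decide +kernel
theorem p4u558 : ∀ k, 61380 ≤ k → k < 66411 → pointOk (k * 22) = true := between_extend pointOk 22 61380 66402 9 (p4u557) p4r558

theorem p4r559 : allRange pointOk 22 66411 9 = true := by decide +kernel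
theorem p4u559 : ∀ k, 61380 ≤ k → k < 66420 → pointOk (k * 22) = true := between_extend pointOk 22 61380 66411 9 (p4u558) p4r559

theorem p4r560 : allRange pointOk 22 66420 9 = true := by decide +kernel
theorem p4u560 : ∀ k, 61380 ≤ k → k < 66429 → pointOk (k * 22) = true := between_extend pointOk 22 61380 66420 9 (p4u559) p4r560

theorem p4r561 : allRange pointOk 22 66429 9 = true := by decide +kernel
theorem p4u561 : ∀ k, 61380 ≤ k → k < 66438 → pointOk (k * 22) = true := between_extend pointOk 22 61380 66429 9 (p4u560) p4r561

theorem p4r562 : allRange pointOk 22 66438 9 = true := by decide +kernel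
theorem p4u562 : ∀ k, 61380 ≤ k → k < 66447 → pointOk (k * 22) = true := between_extend pointOk 22 61380 66438 9 (p4u561) p4r562

theorem p4r563 : allRange pointOk 22 66447 9 = true := by decide +kernel
theorem p4u563 : ∀ k, 61380 ≤ k → k < 66456 → pointOk (k * 22) = true := between_extend pointOk 22 61380 66447 9 (p4u562) p4r563

theorem p4r564 : allRange pointOk 22 66456 9 = true := by decide +kernel
theorem p4u564 : ∀ k, 61380 ≤ k → k < 66465 → pointOk (k * 22) = true := between_extend pointOk 22 61380 66456 9 (p4u563) p4r564

theorem p4r565 : allRange pointOk 22 66465 9 = true := by decide +kernel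
theorem p4u565 : ∀ k, 61380 ≤ k → k < 66474 → pointOk (k * 22) = true := between_extend pointOk 22 61380 66465 9 (p4u564) p4r565

theorem p4r566 : allRange pointOk 22 66474 9 = true := by decide +kernel
theorem p4u566 : ∀ k, 61380 ≤ k → k < 66483 → pointOk (k * 22) = true := between_extend pointOk 22 61380 66474 9 (p4u565) p4r566

theorem p4r567 : allRange pointOk 22 66483 9 = true := by decide +kernel
theorem p4u567 : ∀ k, 61380 ≤ k → k < 66492 → pointOk (k * 22) = true := between_extend pointOk 22 61380 66483 9 (p4u566) p4r567

theorem p4r568 : allRange pointOk 22 66492 9 = true := by decide +kernel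
theorem p4u568 : ∀ k, 61380 ≤ k → k < 66501 → pointOk (k * 22) = true := between_extend pointOk 22 61380 66492 9 (p4u567) p4r568

theorem p4r569 : allRange pointOk 22 66501 9 = true := by decide +kernel
theorem p4u569 : ∀ k, 61380 ≤ k → k < 66510 → pointOk (k * 22) = true := between_extend pointOk 22 61380 66501 9 (p4u568) p4r569

theorem p4r570 : allRange pointOk 22 66510 9 = true := by decide +kernel
theorem p4u570 : ∀ k, 61380 ≤ k → k < 66519 → pointOk (k * 22) = true := between_extend pointOk 22 61380 66510 9 (p4u569) p4r570

theorem p4r571 : allRange pointOk 22 66519 9 = true := by decide +kernel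
theorem p4u571 : ∀ k, 61380 ≤ k → k < 66528 → pointOk (k * 22) = true := between_extend pointOk 22 61380 66519 9 (p4u570) p4r571

theorem p4r572 : allRange pointOk 22 66528 9 = true := by decide +kernel
theorem p4u572 : ∀ k, 61380 ≤ k → k < 66537 → pointOk (k * 22) = true := between_extend pointOk 22 61380 66528 9 (p4u571) p4r572

theorem p4r573 : allRange pointOk 22 66537 9 = true := by decide +kernel
theorem p4u573 : ∀ k, 61380 ≤ k → k < 66546 → pointOk (k * 22) = true := between_extend pointOk 22 61380 66537 9 (p4u572) p4r573

theorem p4r574 : allRange pointOk 22 66546 9 = true := by decide +kernel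
theorem p4u574 : ∀ k, 61380 ≤ k → k < 66555 → pointOk (k * 22) = true := between_extend pointOk 22 61380 66546 9 (p4u573) p4r574

theorem p4r575 : allRange pointOk 22 66555 9 = true := by decide +kernel
theorem p4u575 : ∀ k, 61380 ≤ k → k < 66564 → pointOk (k * 22) = true := between_extend pointOk 22 61380 66555 9 (p4u574) p4r575

theorem p4r576 : allRange pointOk 22 66564 9 = true := by decide +kernel
theorem p4u576 : ∀ k, 61380 ≤ k → k < 66573 → pointOk (k * 22) = true := between_extend pointOk 22 61380 66564 9 (p4u575) p4r576

theorem p4r577 : allRange pointOk 22 66573 9 = true := by decide +kernel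
theorem p4u577 : ∀ k, 61380 ≤ k → k < 66582 → pointOk (k * 22) = true := between_extend pointOk 22 61380 66573 9 (p4u576) p4r577

theorem p4r578 : allRange pointOk 22 66582 9 = true := by decide +kernel
theorem p4u578 : ∀ k, 61380 ≤ k → k < 66591 → pointOk (k * 22) = true := between_extend pointOk 22 61380 66582 9 (p4u577) p4r578

theorem p4r579 : allRange pointOk 22 66591 9 = true := by decide +kernel
theorem p4u579 : ∀ k, 61380 ≤ k → k < 66600 → pointOk (k * 22) = true := between_extend pointOk 22 61380 66591 9 (p4u578) p4r579

theorem p4r580 : allRange pointOk 22 66600 9 = true := by decide +kernel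
theorem p4u580 : ∀ k, 61380 ≤ k → k < 66609 → pointOk (k * 22) = true := between_extend pointOk 22 61380 66600 9 (p4u579) p4r580

theorem p4r581 : allRange pointOk 22 66609 9 = true := by decide +kernel
theorem p4u581 : ∀ k, 61380 ≤ k → k < 66618 → pointOk (k * 22) = true := between_extend pointOk 22 61380 66609 9 (p4u580) p4r581

theorem p4r582 : allRange pointOk 22 66618 9 = true := by decide +kernel
theorem p4u582 : ∀ k, 61380 ≤ k → k < 66627 → pointOk (k * 22) = true := between_extend pointOk 22 61380 66618 9 (p4u581) p4r582

theorem p4r583 : allRange pointOk 22 66627 9 = true := by decide +kernel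
theorem p4u583 : ∀ k, 61380 ≤ k → k < 66636 → pointOk (k * 22) = true := between_extend pointOk 22 61380 66627 9 (p4u582) p4r583

theorem p4r584 : allRange pointOk 22 66636 9 = true := by decide +kernel
theorem p4u584 : ∀ k, 61380 ≤ k → k < 66645 → pointOk (k * 22) = true := between_extend pointOk 22 61380 66636 9 (p4u583) p4r584

theorem p4r585 : allRange pointOk 22 66645 9 = true := by decide +kernel
theorem p4u585 : ∀ k, 61380 ≤ k → k < 66654 → pointOk (k * 22) = true := between_extend pointOk 22 61380 66645 9 (p4u584) p4r585

theorem p4r586 : allRange pointOk 22 66654 9 = true := by decide +kernel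
theorem p4u586 : ∀ k, 61380 ≤ k → k < 66663 → pointOk (k * 22) = true := between_extend pointOk 22 61380 66654 9 (p4u585) p4r586

theorem p4r587 : allRange pointOk 22 66663 9 = true := by decide +kernel
theorem p4u587 : ∀ k, 61380 ≤ k → k < 66672 → pointOk (k * 22) = true := between_extend pointOk 22 61380 66663 9 (p4u586) p4r587

theorem p4r588 : allRange pointOk 22 66672 9 = true := by decide +kernel
theorem p4u588 : ∀ k, 61380 ≤ k → k < 66681 → pointOk (k * 22) = true := between_extend pointOk 22 61380 66672 9 (p4u587) p4r588

theorem p4r589 : allRange pointOk 22 66681 9 = true := by decide +kernel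
theorem p4u589 : ∀ k, 61380 ≤ k → k < 66690 → pointOk (k * 22) = true := between_extend pointOk 22 61380 66681 9 (p4u588) p4r589

theorem p4r590 : allRange pointOk 22 66690 9 = true := by decide +kernel
theorem p4u590 : ∀ k, 61380 ≤ k → k < 66699 → pointOk (k * 22) = true := between_extend pointOk 22 61380 66690 9 (p4u589) p4r590

theorem p4r591 : allRange pointOk 22 66699 9 = true := by decide +kernel
theorem p4u591 : ∀ k, 61380 ≤ k → k < 66708 → pointOk (k * 22) = true := between_extend pointOk 22 61380 66699 9 (p4u590) p4r591

theorem p4r592 : allRange pointOk 22 66708 9 = true := by decide +kernel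
theorem p4u592 : ∀ k, 61380 ≤ k → k < 66717 → pointOk (k * 22) = true := between_extend pointOk 22 61380 66708 9 (p4u591) p4r592

theorem p4r593 : allRange pointOk 22 66717 9 = true := by decide +kernel
theorem p4u593 : ∀ k, 61380 ≤ k → k < 66726 → pointOk (k * 22) = true := between_extend pointOk 22 61380 66717 9 (p4u592) p4r593

theorem p4r594 : allRange pointOk 22 66726 9 = true := by decide +kernel
theorem p4u594 : ∀ k, 61380 ≤ k → k < 66735 → pointOk (k * 22) = true := between_extend pointOk 22 61380 66726 9 (p4u593) p4r594

theorem p4r595 : allRange pointOk 22 66735 9 = true := by decide +kernel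
theorem p4u595 : ∀ k, 61380 ≤ k → k < 66744 → pointOk (k * 22) = true := between_extend pointOk 22 61380 66735 9 (p4u594) p4r595

theorem p4r596 : allRange pointOk 22 66744 9 = true := by decide +kernel
theorem p4u596 : ∀ k, 61380 ≤ k → k < 66753 → pointOk (k * 22) = true := between_extend pointOk 22 61380 66744 9 (p4u595) p4r596

theorem p4r597 : allRange pointOk 22 66753 9 = true := by decide +kernel
theorem p4u597 : ∀ k, 61380 ≤ k → k < 66762 → pointOk (k * 22) = true := between_extend pointOk 22 61380 66753 9 (p4u596) p4r597

theorem p4r598 : allRange pointOk 22 66762 9 = true := by decide +kernel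
theorem p4u598 : ∀ k, 61380 ≤ k → k < 66771 → pointOk (k * 22) = true := between_extend pointOk 22 61380 66762 9 (p4u597) p4r598

theorem p4r599 : allRange pointOk 22 66771 9 = true := by decide +kernel
theorem p4u599 : ∀ k, 61380 ≤ k → k < 66780 → pointOk (k * 22) = true := between_extend pointOk 22 61380 66771 9 (p4u598) p4r599

theorem p4r600 : allRange pointOk 22 66780 9 = true := by decide +kernel
theorem p4u600 : ∀ k, 61380 ≤ k → k < 66789 → pointOk (k * 22) = true := between_extend pointOk 22 61380 66780 9 (p4u599) p4r600

theorem p4r601 : allRange pointOk 22 66789 9 = true := by decide +kernel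
theorem p4u601 : ∀ k, 61380 ≤ k → k < 66798 → pointOk (k * 22) = true := between_extend pointOk 22 61380 66789 9 (p4u600) p4r601

theorem p4r602 : allRange pointOk 22 66798 9 = true := by decide +kernel
theorem p4u602 : ∀ k, 61380 ≤ k → k < 66807 → pointOk (k * 22) = true := between_extend pointOk 22 61380 66798 9 (p4u601) p4r602

theorem p4r603 : allRange pointOk 22 66807 9 = true := by decide +kernel
theorem p4u603 : ∀ k, 61380 ≤ k → k < 66816 → pointOk (k * 22) = true := between_extend pointOk 22 61380 66807 9 (p4u602) p4r603

theorem p4r604 : allRange pointOk 22 66816 9 = true := by decide +kernel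
theorem p4u604 : ∀ k, 61380 ≤ k → k < 66825 → pointOk (k * 22) = true := between_extend pointOk 22 61380 66816 9 (p4u603) p4r604

theorem p4r605 : allRange pointOk 22 66825 9 = true := by decide +kernel
theorem p4u605 : ∀ k, 61380 ≤ k → k < 66834 → pointOk (k * 22) = true := between_extend pointOk 22 61380 66825 9 (p4u604) p4r605

theorem p4r606 : allRange pointOk 22 66834 9 = true := by decide +kernel
theorem p4u606 : ∀ k, 61380 ≤ k → k < 66843 → pointOk (k * 22) = true := between_extend pointOk 22 61380 66834 9 (p4u605) p4r606

theorem p4r607 : allRange pointOk 22 66843 9 = true := by decide +kernel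
theorem p4u607 : ∀ k, 61380 ≤ k → k < 66852 → pointOk (k * 22) = true := between_extend pointOk 22 61380 66843 9 (p4u606) p4r607

theorem p4r608 : allRange pointOk 22 66852 9 = true := by decide +kernel
theorem p4u608 : ∀ k, 61380 ≤ k → k < 66861 → pointOk (k * 22) = true := between_extend pointOk 22 61380 66852 9 (p4u607) p4r608

theorem p4r609 : allRange pointOk 22 66861 9 = true := by decide +kernel
theorem p4u609 : ∀ k, 61380 ≤ k → k < 66870 → pointOk (k * 22) = true := between_extend pointOk 22 61380 66861 9 (p4u608) p4r609

theorem p4r610 : allRange pointOk 22 66870 9 = true := by decide +kernel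
theorem p4u610 : ∀ k, 61380 ≤ k → k < 66879 → pointOk (k * 22) = true := between_extend pointOk 22 61380 66870 9 (p4u609) p4r610

theorem p4r611 : allRange pointOk 22 66879 9 = true := by decide +kernel
theorem p4u611 : ∀ k, 61380 ≤ k → k < 66888 → pointOk (k * 22) = true := between_extend pointOk 22 61380 66879 9 (p4u610) p4r611

theorem p4r612 : allRange pointOk 22 66888 9 = true := by decide +kernel
theorem p4u612 : ∀ k, 61380 ≤ k → k < 66897 → pointOk (k * 22) = true := between_extend pointOk 22 61380 66888 9 (p4u611) p4r612

theorem p4r613 : allRange pointOk 22 66897 9 = true := by decide +kernel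
theorem p4u613 : ∀ k, 61380 ≤ k → k < 66906 → pointOk (k * 22) = true := between_extend pointOk 22 61380 66897 9 (p4u612) p4r613

theorem p4r614 : allRange pointOk 22 66906 9 = true := by decide +kernel
theorem p4u614 : ∀ k, 61380 ≤ k → k < 66915 → pointOk (k * 22) = true := between_extend pointOk 22 61380 66906 9 (p4u613) p4r614

theorem p4r615 : allRange pointOk 22 66915 9 = true := by decide +kernel
theorem p4u615 : ∀ k, 61380 ≤ k → k < 66924 → pointOk (k * 22) = true := between_extend pointOk 22 61380 66915 9 (p4u614) p4r615

theorem p4r616 : allRange pointOk 22 66924 9 = true := by decide +kernel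
theorem p4u616 : ∀ k, 61380 ≤ k → k < 66933 → pointOk (k * 22) = true := between_extend pointOk 22 61380 66924 9 (p4u615) p4r616

theorem p4r617 : allRange pointOk 22 66933 9 = true := by decide +kernel
theorem p4u617 : ∀ k, 61380 ≤ k → k < 66942 → pointOk (k * 22) = true := between_extend pointOk 22 61380 66933 9 (p4u616) p4r617

theorem p4r618 : allRange pointOk 22 66942 9 = true := by decide +kernel
theorem p4u618 : ∀ k, 61380 ≤ k → k < 66951 → pointOk (k * 22) = true := between_extend pointOk 22 61380 66942 9 (p4u617) p4r618

theorem p4r619 : allRange pointOk 22 66951 9 = true := by decide +kernel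
theorem p4u619 : ∀ k, 61380 ≤ k → k < 66960 → pointOk (k * 22) = true := between_extend pointOk 22 61380 66951 9 (p4u618) p4r619

theorem p4r620 : allRange pointOk 22 66960 9 = true := by decide +kernel
theorem p4u620 : ∀ k, 61380 ≤ k → k < 66969 → pointOk (k * 22) = true := between_extend pointOk 22 61380 66960 9 (p4u619) p4r620

theorem p4r621 : allRange pointOk 22 66969 9 = true := by decide +kernel
theorem p4u621 : ∀ k, 61380 ≤ k → k < 66978 → pointOk (k * 22) = true := between_extend pointOk 22 61380 66969 9 (p4u620) p4r621

theorem p4r622 : allRange pointOk 22 66978 9 = true := by decide +kernel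
theorem p4u622 : ∀ k, 61380 ≤ k → k < 66987 → pointOk (k * 22) = true := between_extend pointOk 22 61380 66978 9 (p4u621) p4r622

theorem p4r623 : allRange pointOk 22 66987 9 = true := by decide +kernel
theorem p4u623 : ∀ k, 61380 ≤ k → k < 66996 → pointOk (k * 22) = true := between_extend pointOk 22 61380 66987 9 (p4u622) p4r623

theorem p4r624 : allRange pointOk 22 66996 9 = true := by decide +kernel
theorem p4u624 : ∀ k, 61380 ≤ k → k < 67005 → pointOk (k * 22) = true := between_extend pointOk 22 61380 66996 9 (p4u623) p4r624

theorem p4r625 : allRange pointOk 22 67005 9 = true := by decide +kernel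
theorem p4u625 : ∀ k, 61380 ≤ k → k < 67014 → pointOk (k * 22) = true := between_extend pointOk 22 61380 67005 9 (p4u624) p4r625

theorem p4r626 : allRange pointOk 22 67014 9 = true := by decide +kernel
theorem p4u626 : ∀ k, 61380 ≤ k → k < 67023 → pointOk (k * 22) = true := between_extend pointOk 22 61380 67014 9 (p4u625) p4r626

theorem p4r627 : allRange pointOk 22 67023 9 = true := by decide +kernel
theorem p4u627 : ∀ k, 61380 ≤ k → k < 67032 → pointOk (k * 22) = true := between_extend pointOk 22 61380 67023 9 (p4u626) p4r627

theorem p4r628 : allRange pointOk 22 67032 9 = true := by decide +kernel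
theorem p4u628 : ∀ k, 61380 ≤ k → k < 67041 → pointOk (k * 22) = true := between_extend pointOk 22 61380 67032 9 (p4u627) p4r628

theorem p4r629 : allRange pointOk 22 67041 9 = true := by decide +kernel
theorem p4u629 : ∀ k, 61380 ≤ k → k < 67050 → pointOk (k * 22) = true := between_extend pointOk 22 61380 67041 9 (p4u628) p4r629

theorem p4r630 : allRange pointOk 22 67050 9 = true := by decide +kernel
theorem p4u630 : ∀ k, 61380 ≤ k → k < 67059 → pointOk (k * 22) = true := between_extend pointOk 22 61380 67050 9 (p4u629) p4r630

theorem p4r631 : allRange pointOk 22 67059 9 = true := by decide +kernel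
theorem p4u631 : ∀ k, 61380 ≤ k → k < 67068 → pointOk (k * 22) = true := between_extend pointOk 22 61380 67059 9 (p4u630) p4r631

theorem p4r632 : allRange pointOk 22 67068 9 = true := by decide +kernel
theorem p4u632 : ∀ k, 61380 ≤ k → k < 67077 → pointOk (k * 22) = true := between_extend pointOk 22 61380 67068 9 (p4u631) p4r632

theorem p4r633 : allRange pointOk 22 67077 9 = true := by decide +kernel
theorem p4u633 : ∀ k, 61380 ≤ k → k < 67086 → pointOk (k * 22) = true := between_extend pointOk 22 61380 67077 9 (p4u632) p4r633

theorem p4r634 : allRange pointOk 22 67086 9 = true := by decide +kernel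
theorem p4u634 : ∀ k, 61380 ≤ k → k < 67095 → pointOk (k * 22) = true := between_extend pointOk 22 61380 67086 9 (p4u633) p4r634

theorem p4r635 : allRange pointOk 22 67095 9 = true := by decide +kernel
theorem p4u635 : ∀ k, 61380 ≤ k → k < 67104 → pointOk (k * 22) = true := between_extend pointOk 22 61380 67095 9 (p4u634) p4r635

theorem p4r636 : allRange pointOk 22 67104 9 = true := by decide +kernel
theorem p4u636 : ∀ k, 61380 ≤ k → k < 67113 → pointOk (k * 22) = true := between_extend pointOk 22 61380 67104 9 (p4u635) p4r636

theorem p4r637 : allRange pointOk 22 67113 9 = true := by decide +kernel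
theorem p4u637 : ∀ k, 61380 ≤ k → k < 67122 → pointOk (k * 22) = true := between_extend pointOk 22 61380 67113 9 (p4u636) p4r637

theorem p4r638 : allRange pointOk 22 67122 9 = true := by decide +kernel
theorem p4u638 : ∀ k, 61380 ≤ k → k < 67131 → pointOk (k * 22) = true := between_extend pointOk 22 61380 67122 9 (p4u637) p4r638

theorem p4r639 : allRange pointOk 22 67131 9 = true := by decide +kernel
theorem p4u639 : ∀ k, 61380 ≤ k → k < 67140 → pointOk (k * 22) = true := between_extend pointOk 22 61380 67131 9 (p4u638) p4r639

theorem p4r640 : allRange pointOk 22 67140 9 = true := by decide +kernel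
theorem p4u640 : ∀ k, 61380 ≤ k → k < 67149 → pointOk (k * 22) = true := between_extend pointOk 22 61380 67140 9 (p4u639) p4r640

theorem p4r641 : allRange pointOk 22 67149 9 = true := by decide +kernel
theorem p4u641 : ∀ k, 61380 ≤ k → k < 67158 → pointOk (k * 22) = true := between_extend pointOk 22 61380 67149 9 (p4u640) p4r641

theorem p4r642 : allRange pointOk 22 67158 9 = true := by decide +kernel
theorem p4u642 : ∀ k, 61380 ≤ k → k < 67167 → pointOk (k * 22) = true := between_extend pointOk 22 61380 67158 9 (p4u641) p4r642

theorem p4r643 : allRange pointOk 22 67167 9 = true := by decide +kernel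
theorem p4u643 : ∀ k, 61380 ≤ k → k < 67176 → pointOk (k * 22) = true := between_extend pointOk 22 61380 67167 9 (p4u642) p4r643

theorem p4r644 : allRange pointOk 22 67176 9 = true := by decide +kernel
theorem p4u644 : ∀ k, 61380 ≤ k → k < 67185 → pointOk (k * 22) = true := between_extend pointOk 22 61380 67176 9 (p4u643) p4r644

theorem p4r645 : allRange pointOk 22 67185 9 = true := by decide +kernel
theorem p4u645 : ∀ k, 61380 ≤ k → k < 67194 → pointOk (k * 22) = true := between_extend pointOk 22 61380 67185 9 (p4u644) p4r645

theorem p4r646 : allRange pointOk 22 67194 9 = true := by decide +kernel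
theorem p4u646 : ∀ k, 61380 ≤ k → k < 67203 → pointOk (k * 22) = true := between_extend pointOk 22 61380 67194 9 (p4u645) p4r646

theorem p4r647 : allRange pointOk 22 67203 9 = true := by decide +kernel
theorem p4u647 : ∀ k, 61380 ≤ k → k < 67212 → pointOk (k * 22) = true := between_extend pointOk 22 61380 67203 9 (p4u646) p4r647

theorem p4r648 : allRange pointOk 22 67212 9 = true := by decide +kernel
theorem p4u648 : ∀ k, 61380 ≤ k → k < 67221 → pointOk (k * 22) = true := between_extend pointOk 22 61380 67212 9 (p4u647) p4r648

theorem p4r649 : allRange pointOk 22 67221 9 = true := by decide +kernel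
theorem p4u649 : ∀ k, 61380 ≤ k → k < 67230 → pointOk (k * 22) = true := between_extend pointOk 22 61380 67221 9 (p4u648) p4r649

theorem p4r650 : allRange pointOk 22 67230 9 = true := by decide +kernel
theorem p4u650 : ∀ k, 61380 ≤ k → k < 67239 → pointOk (k * 22) = true := between_extend pointOk 22 61380 67230 9 (p4u649) p4r650

theorem p4r651 : allRange pointOk 22 67239 9 = true := by decide +kernel
theorem p4u651 : ∀ k, 61380 ≤ k → k < 67248 → pointOk (k * 22) = true := between_extend pointOk 22 61380 67239 9 (p4u650) p4r651

theorem p4r652 : allRange pointOk 22 67248 9 = true := by decide +kernel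
theorem p4u652 : ∀ k, 61380 ≤ k → k < 67257 → pointOk (k * 22) = true := between_extend pointOk 22 61380 67248 9 (p4u651) p4r652

theorem p4r653 : allRange pointOk 22 67257 9 = true := by decide +kernel
theorem p4u653 : ∀ k, 61380 ≤ k → k < 67266 → pointOk (k * 22) = true := between_extend pointOk 22 61380 67257 9 (p4u652) p4r653

theorem p4r654 : allRange pointOk 22 67266 9 = true := by decide +kernel
theorem p4u654 : ∀ k, 61380 ≤ k → k < 67275 → pointOk (k * 22) = true := between_extend pointOk 22 61380 67266 9 (p4u653) p4r654

theorem p4r655 : allRange pointOk 22 67275 9 = true := by decide +kernel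
theorem p4u655 : ∀ k, 61380 ≤ k → k < 67284 → pointOk (k * 22) = true := between_extend pointOk 22 61380 67275 9 (p4u654) p4r655

theorem p4r656 : allRange pointOk 22 67284 9 = true := by decide +kernel
theorem p4u656 : ∀ k, 61380 ≤ k → k < 67293 → pointOk (k * 22) = true := between_extend pointOk 22 61380 67284 9 (p4u655) p4r656

theorem p4r657 : allRange pointOk 22 67293 9 = true := by decide +kernel
theorem p4u657 : ∀ k, 61380 ≤ k → k < 67302 → pointOk (k * 22) = true := between_extend pointOk 22 61380 67293 9 (p4u656) p4r657

theorem p4r658 : allRange pointOk 22 67302 9 = true := by decide +kernel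
theorem p4u658 : ∀ k, 61380 ≤ k → k < 67311 → pointOk (k * 22) = true := between_extend pointOk 22 61380 67302 9 (p4u657) p4r658

theorem p4r659 : allRange pointOk 22 67311 9 = true := by decide +kernel
theorem p4u659 : ∀ k, 61380 ≤ k → k < 67320 → pointOk (k * 22) = true := between_extend pointOk 22 61380 67311 9 (p4u658) p4r659

theorem p4r660 : allRange pointOk 22 67320 9 = true := by decide +kernel
theorem p4u660 : ∀ k, 61380 ≤ k → k < 67329 → pointOk (k * 22) = true := between_extend pointOk 22 61380 67320 9 (p4u659) p4r660

theorem p4r661 : allRange pointOk 22 67329 9 = true := by decide +kernel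
theorem p4u661 : ∀ k, 61380 ≤ k → k < 67338 → pointOk (k * 22) = true := between_extend pointOk 22 61380 67329 9 (p4u660) p4r661

theorem p4r662 : allRange pointOk 22 67338 9 = true := by decide +kernel
theorem p4u662 : ∀ k, 61380 ≤ k → k < 67347 → pointOk (k * 22) = true := between_extend pointOk 22 61380 67338 9 (p4u661) p4r662

theorem p4r663 : allRange pointOk 22 67347 9 = true := by decide +kernel
theorem p4u663 : ∀ k, 61380 ≤ k → k < 67356 → pointOk (k * 22) = true := between_extend pointOk 22 61380 67347 9 (p4u662) p4r663

theorem p4r664 : allRange pointOk 22 67356 9 = true := by decide +kernel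
theorem p4u664 : ∀ k, 61380 ≤ k → k < 67365 → pointOk (k * 22) = true := between_extend pointOk 22 61380 67356 9 (p4u663) p4r664

theorem p4r665 : allRange pointOk 22 67365 9 = true := by decide +kernel
theorem p4u665 : ∀ k, 61380 ≤ k → k < 67374 → pointOk (k * 22) = true := between_extend pointOk 22 61380 67365 9 (p4u664) p4r665

theorem p4r666 : allRange pointOk 22 67374 9 = true := by decide +kernel
theorem p4u666 : ∀ k, 61380 ≤ k → k < 67383 → pointOk (k * 22) = true := between_extend pointOk 22 61380 67374 9 (p4u665) p4r666

theorem p4r667 : allRange pointOk 22 67383 9 = true := by decide +kernel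
theorem p4u667 : ∀ k, 61380 ≤ k → k < 67392 → pointOk (k * 22) = true := between_extend pointOk 22 61380 67383 9 (p4u666) p4r667

theorem p4r668 : allRange pointOk 22 67392 9 = true := by decide +kernel
theorem p4u668 : ∀ k, 61380 ≤ k → k < 67401 → pointOk (k * 22) = true := between_extend pointOk 22 61380 67392 9 (p4u667) p4r668

theorem p4r669 : allRange pointOk 22 67401 9 = true := by decide +kernel
theorem p4u669 : ∀ k, 61380 ≤ k → k < 67410 → pointOk (k * 22) = true := between_extend pointOk 22 61380 67401 9 (p4u668) p4r669

theorem p4r670 : allRange pointOk 22 67410 9 = true := by decide +kernel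
theorem p4u670 : ∀ k, 61380 ≤ k → k < 67419 → pointOk (k * 22) = true := between_extend pointOk 22 61380 67410 9 (p4u669) p4r670

theorem p4r671 : allRange pointOk 22 67419 9 = true := by decide +kernel
theorem p4u671 : ∀ k, 61380 ≤ k → k < 67428 → pointOk (k * 22) = true := between_extend pointOk 22 61380 67419 9 (p4u670) p4r671

theorem p4r672 : allRange pointOk 22 67428 9 = true := by decide +kernel
theorem p4u672 : ∀ k, 61380 ≤ k → k < 67437 → pointOk (k * 22) = true := between_extend pointOk 22 61380 67428 9 (p4u671) p4r672

theorem p4r673 : allRange pointOk 22 67437 9 = true := by decide +kernel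
theorem p4u673 : ∀ k, 61380 ≤ k → k < 67446 → pointOk (k * 22) = true := between_extend pointOk 22 61380 67437 9 (p4u672) p4r673

theorem p4r674 : allRange pointOk 22 67446 9 = true := by decide +kernel
theorem p4u674 : ∀ k, 61380 ≤ k → k < 67455 → pointOk (k * 22) = true := between_extend pointOk 22 61380 67446 9 (p4u673) p4r674

theorem p4r675 : allRange pointOk 22 67455 9 = true := by decide +kernel
theorem p4u675 : ∀ k, 61380 ≤ k → k < 67464 → pointOk (k * 22) = true := between_extend pointOk 22 61380 67455 9 (p4u674) p4r675

theorem p4r676 : allRange pointOk 22 67464 9 = true := by decide +kernel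
theorem p4u676 : ∀ k, 61380 ≤ k → k < 67473 → pointOk (k * 22) = true := between_extend pointOk 22 61380 67464 9 (p4u675) p4r676

theorem p4r677 : allRange pointOk 22 67473 9 = true := by decide +kernel
theorem p4u677 : ∀ k, 61380 ≤ k → k < 67482 → pointOk (k * 22) = true := between_extend pointOk 22 61380 67473 9 (p4u676) p4r677

theorem p4r678 : allRange pointOk 22 67482 9 = true := by decide +kernel
theorem p4u678 : ∀ k, 61380 ≤ k → k < 67491 → pointOk (k * 22) = true := between_extend pointOk 22 61380 67482 9 (p4u677) p4r678

theorem p4r679 : allRange pointOk 22 67491 9 = true := by decide +kernel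
theorem p4u679 : ∀ k, 61380 ≤ k → k < 67500 → pointOk (k * 22) = true := between_extend pointOk 22 61380 67491 9 (p4u678) p4r679

theorem p4r680 : allRange pointOk 22 67500 9 = true := by decide +kernel
theorem p4u680 : ∀ k, 61380 ≤ k → k < 67509 → pointOk (k * 22) = true := between_extend pointOk 22 61380 67500 9 (p4u679) p4r680

theorem p4r681 : allRange pointOk 22 67509 9 = true := by decide +kernel
theorem p4u681 : ∀ k, 61380 ≤ k → k < 67518 → pointOk (k * 22) = true := between_extend pointOk 22 61380 67509 9 (p4u680) p4r681

theorem p4r682 : allRange pointOk 22 67518 9 = true := by decide +kernel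
theorem p4u682 : ∀ k, 61380 ≤ k → k < 67527 → pointOk (k * 22) = true := between_extend pointOk 22 61380 67518 9 (p4u681) p4r682

theorem p4r683 : allRange pointOk 22 67527 9 = true := by decide +kernel
theorem p4u683 : ∀ k, 61380 ≤ k → k < 67536 → pointOk (k * 22) = true := between_extend pointOk 22 61380 67527 9 (p4u682) p4r683

theorem p4r684 : allRange pointOk 22 67536 9 = true := by decide +kernel
theorem p4u684 : ∀ k, 61380 ≤ k → k < 67545 → pointOk (k * 22) = true := between_extend pointOk 22 61380 67536 9 (p4u683) p4r684

theorem p4r685 : allRange pointOk 22 67545 9 = true := by decide +kernel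
theorem p4u685 : ∀ k, 61380 ≤ k → k < 67554 → pointOk (k * 22) = true := between_extend pointOk 22 61380 67545 9 (p4u684) p4r685

theorem p4r686 : allRange pointOk 22 67554 9 = true := by decide +kernel
theorem p4u686 : ∀ k, 61380 ≤ k → k < 67563 → pointOk (k * 22) = true := between_extend pointOk 22 61380 67554 9 (p4u685) p4r686

theorem p4r687 : allRange pointOk 22 67563 9 = true := by decide +kernel
theorem p4u687 : ∀ k, 61380 ≤ k → k < 67572 → pointOk (k * 22) = true := between_extend pointOk 22 61380 67563 9 (p4u686) p4r687

theorem p4r688 : allRange pointOk 22 67572 9 = true := by decide +kernel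
theorem p4u688 : ∀ k, 61380 ≤ k → k < 67581 → pointOk (k * 22) = true := between_extend pointOk 22 61380 67572 9 (p4u687) p4r688

theorem p4r689 : allRange pointOk 22 67581 9 = true := by decide +kernel
theorem p4u689 : ∀ k, 61380 ≤ k → k < 67590 → pointOk (k * 22) = true := between_extend pointOk 22 61380 67581 9 (p4u688) p4r689

theorem p4r690 : allRange pointOk 22 67590 9 = true := by decide +kernel
theorem p4u690 : ∀ k, 61380 ≤ k → k < 67599 → pointOk (k * 22) = true := between_extend pointOk 22 61380 67590 9 (p4u689) p4r690

theorem p4r691 : allRange pointOk 22 67599 9 = true := by decide +kernel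
theorem p4u691 : ∀ k, 61380 ≤ k → k < 67608 → pointOk (k * 22) = true := between_extend pointOk 22 61380 67599 9 (p4u690) p4r691

theorem p4r692 : allRange pointOk 22 67608 9 = true := by decide +kernel
theorem p4u692 : ∀ k, 61380 ≤ k → k < 67617 → pointOk (k * 22) = true := between_extend pointOk 22 61380 67608 9 (p4u691) p4r692

theorem p4r693 : allRange pointOk 22 67617 9 = true := by decide +kernel
theorem p4u693 : ∀ k, 61380 ≤ k → k < 67626 → pointOk (k * 22) = true := between_extend pointOk 22 61380 67617 9 (p4u692) p4r693

theorem p4r694 : allRange pointOk 22 67626 9 = true := by decide +kernel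
theorem p4u694 : ∀ k, 61380 ≤ k → k < 67635 → pointOk (k * 22) = true := between_extend pointOk 22 61380 67626 9 (p4u693) p4r694

theorem p4r695 : allRange pointOk 22 67635 9 = true := by decide +kernel
theorem p4u695 : ∀ k, 61380 ≤ k → k < 67644 → pointOk (k * 22) = true := between_extend pointOk 22 61380 67635 9 (p4u694) p4r695

theorem p4r696 : allRange pointOk 22 67644 9 = true := by decide +kernel
theorem p4u696 : ∀ k, 61380 ≤ k → k < 67653 → pointOk (k * 22) = true := between_extend pointOk 22 61380 67644 9 (p4u695) p4r696

theorem p4r697 : allRange pointOk 22 67653 9 = true := by decide +kernel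
theorem p4u697 : ∀ k, 61380 ≤ k → k < 67662 → pointOk (k * 22) = true := between_extend pointOk 22 61380 67653 9 (p4u696) p4r697

theorem p4r698 : allRange pointOk 22 67662 9 = true := by decide +kernel
theorem p4u698 : ∀ k, 61380 ≤ k → k < 67671 → pointOk (k * 22) = true := between_extend pointOk 22 61380 67662 9 (p4u697) p4r698

theorem p4r699 : allRange pointOk 22 67671 9 = true := by decide +kernel
theorem p4u699 : ∀ k, 61380 ≤ k → k < 67680 → pointOk (k * 22) = true := between_extend pointOk 22 61380 67671 9 (p4u698) p4r699

theorem p4r700 : allRange pointOk 22 67680 9 = true := by decide +kernel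
theorem p4u700 : ∀ k, 61380 ≤ k → k < 67689 → pointOk (k * 22) = true := between_extend pointOk 22 61380 67680 9 (p4u699) p4r700

theorem p4r701 : allRange pointOk 22 67689 9 = true := by decide +kernel
theorem p4u701 : ∀ k, 61380 ≤ k → k < 67698 → pointOk (k * 22) = true := between_extend pointOk 22 61380 67689 9 (p4u700) p4r701

theorem p4r702 : allRange pointOk 22 67698 9 = true := by decide +kernel
theorem p4u702 : ∀ k, 61380 ≤ k → k < 67707 → pointOk (k * 22) = true := between_extend pointOk 22 61380 67698 9 (p4u701) p4r702

theorem p4r703 : allRange pointOk 22 67707 9 = true := by decide +kernel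
theorem p4u703 : ∀ k, 61380 ≤ k → k < 67716 → pointOk (k * 22) = true := between_extend pointOk 22 61380 67707 9 (p4u702) p4r703

theorem p4r704 : allRange pointOk 22 67716 9 = true := by decide +kernel
theorem p4u704 : ∀ k, 61380 ≤ k → k < 67725 → pointOk (k * 22) = true := between_extend pointOk 22 61380 67716 9 (p4u703) p4r704

theorem p4r705 : allRange pointOk 22 67725 9 = true := by decide +kernel
theorem p4u705 : ∀ k, 61380 ≤ k → k < 67734 → pointOk (k * 22) = true := between_extend pointOk 22 61380 67725 9 (p4u704) p4r705

theorem p4r706 : allRange pointOk 22 67734 9 = true := by decide +kernel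
theorem p4u706 : ∀ k, 61380 ≤ k → k < 67743 → pointOk (k * 22) = true := between_extend pointOk 22 61380 67734 9 (p4u705) p4r706

theorem p4r707 : allRange pointOk 22 67743 9 = true := by decide +kernel
theorem p4u707 : ∀ k, 61380 ≤ k → k < 67752 → pointOk (k * 22) = true := between_extend pointOk 22 61380 67743 9 (p4u706) p4r707

theorem p4r708 : allRange pointOk 22 67752 9 = true := by decide +kernel
theorem p4u708 : ∀ k, 61380 ≤ k → k < 67761 → pointOk (k * 22) = true := between_extend pointOk 22 61380 67752 9 (p4u707) p4r708

theorem p4r709 : allRange pointOk 22 67761 9 = true := by decide +kernel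
theorem p4u709 : ∀ k, 61380 ≤ k → k < 67770 → pointOk (k * 22) = true := between_extend pointOk 22 61380 67761 9 (p4u708) p4r709

theorem p4r710 : allRange pointOk 22 67770 9 = true := by decide +kernel
theorem p4u710 : ∀ k, 61380 ≤ k → k < 67779 → pointOk (k * 22) = true := between_extend pointOk 22 61380 67770 9 (p4u709) p4r710

theorem p4r711 : allRange pointOk 22 67779 9 = true := by decide +kernel
theorem p4u711 : ∀ k, 61380 ≤ k → k < 67788 → pointOk (k * 22) = true := between_extend pointOk 22 61380 67779 9 (p4u710) p4r711

theorem p4r712 : allRange pointOk 22 67788 9 = true := by decide +kernel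
theorem p4u712 : ∀ k, 61380 ≤ k → k < 67797 → pointOk (k * 22) = true := between_extend pointOk 22 61380 67788 9 (p4u711) p4r712

theorem p4r713 : allRange pointOk 22 67797 9 = true := by decide +kernel
theorem p4u713 : ∀ k, 61380 ≤ k → k < 67806 → pointOk (k * 22) = true := between_extend pointOk 22 61380 67797 9 (p4u712) p4r713

theorem p4r714 : allRange pointOk 22 67806 9 = true := by decide +kernel
theorem p4u714 : ∀ k, 61380 ≤ k → k < 67815 → pointOk (k * 22) = true := between_extend pointOk 22 61380 67806 9 (p4u713) p4r714

theorem p4r715 : allRange pointOk 22 67815 9 = true := by decide +kernel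
theorem p4u715 : ∀ k, 61380 ≤ k → k < 67824 → pointOk (k * 22) = true := between_extend pointOk 22 61380 67815 9 (p4u714) p4r715

theorem p4r716 : allRange pointOk 22 67824 9 = true := by decide +kernel
theorem p4u716 : ∀ k, 61380 ≤ k → k < 67833 → pointOk (k * 22) = true := between_extend pointOk 22 61380 67824 9 (p4u715) p4r716

theorem p4r717 : allRange pointOk 22 67833 9 = true := by decide +kernel
theorem p4u717 : ∀ k, 61380 ≤ k → k < 67842 → pointOk (k * 22) = true := between_extend pointOk 22 61380 67833 9 (p4u716) p4r717

theorem p4r718 : allRange pointOk 22 67842 9 = true := by decide +kernel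
theorem p4u718 : ∀ k, 61380 ≤ k → k < 67851 → pointOk (k * 22) = true := between_extend pointOk 22 61380 67842 9 (p4u717) p4r718

theorem p4r719 : allRange pointOk 22 67851 9 = true := by decide +kernel
theorem p4u719 : ∀ k, 61380 ≤ k → k < 67860 → pointOk (k * 22) = true := between_extend pointOk 22 61380 67851 9 (p4u718) p4r719

theorem p4r720 : allRange pointOk 22 67860 9 = true := by decide +kernel
theorem p4u720 : ∀ k, 61380 ≤ k → k < 67869 → pointOk (k * 22) = true := between_extend pointOk 22 61380 67860 9 (p4u719) p4r720

theorem p4r721 : allRange pointOk 22 67869 9 = true := by decide +kernel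
theorem p4u721 : ∀ k, 61380 ≤ k → k < 67878 → pointOk (k * 22) = true := between_extend pointOk 22 61380 67869 9 (p4u720) p4r721

theorem p4r722 : allRange pointOk 22 67878 9 = true := by decide +kernel
theorem p4u722 : ∀ k, 61380 ≤ k → k < 67887 → pointOk (k * 22) = true := between_extend pointOk 22 61380 67878 9 (p4u721) p4r722

theorem p4r723 : allRange pointOk 22 67887 9 = true := by decide +kernel
theorem p4u723 : ∀ k, 61380 ≤ k → k < 67896 → pointOk (k * 22) = true := between_extend pointOk 22 61380 67887 9 (p4u722) p4r723

theorem p4r724 : allRange pointOk 22 67896 9 = true := by decide +kernel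
theorem p4u724 : ∀ k, 61380 ≤ k → k < 67905 → pointOk (k * 22) = true := between_extend pointOk 22 61380 67896 9 (p4u723) p4r724

theorem p4r725 : allRange pointOk 22 67905 9 = true := by decide +kernel
theorem p4u725 : ∀ k, 61380 ≤ k → k < 67914 → pointOk (k * 22) = true := between_extend pointOk 22 61380 67905 9 (p4u724) p4r725

theorem p4r726 : allRange pointOk 22 67914 9 = true := by decide +kernel
theorem p4u726 : ∀ k, 61380 ≤ k → k < 67923 → pointOk (k * 22) = true := between_extend pointOk 22 61380 67914 9 (p4u725) p4r726

theorem p4r727 : allRange pointOk 22 67923 9 = true := by decide +kernel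
theorem p4u727 : ∀ k, 61380 ≤ k → k < 67932 → pointOk (k * 22) = true := between_extend pointOk 22 61380 67923 9 (p4u726) p4r727

theorem p4r728 : allRange pointOk 22 67932 9 = true := by decide +kernel
theorem p4u728 : ∀ k, 61380 ≤ k → k < 67941 → pointOk (k * 22) = true := between_extend pointOk 22 61380 67932 9 (p4u727) p4r728

theorem p4r729 : allRange pointOk 22 67941 9 = true := by decide +kernel
theorem p4u729 : ∀ k, 61380 ≤ k → k < 67950 → pointOk (k * 22) = true := between_extend pointOk 22 61380 67941 9 (p4u728) p4r729

theorem p4r730 : allRange pointOk 22 67950 9 = true := by decide +kernel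
theorem p4u730 : ∀ k, 61380 ≤ k → k < 67959 → pointOk (k * 22) = true := between_extend pointOk 22 61380 67950 9 (p4u729) p4r730

theorem p4r731 : allRange pointOk 22 67959 9 = true := by decide +kernel
theorem p4u731 : ∀ k, 61380 ≤ k → k < 67968 → pointOk (k * 22) = true := between_extend pointOk 22 61380 67959 9 (p4u730) p4r731

theorem p4r732 : allRange pointOk 22 67968 9 = true := by decide +kernel
theorem p4u732 : ∀ k, 61380 ≤ k → k < 67977 → pointOk (k * 22) = true := between_extend pointOk 22 61380 67968 9 (p4u731) p4r732

theorem p4r733 : allRange pointOk 22 67977 9 = true := by decide +kernel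
theorem p4u733 : ∀ k, 61380 ≤ k → k < 67986 → pointOk (k * 22) = true := between_extend pointOk 22 61380 67977 9 (p4u732) p4r733

theorem p4r734 : allRange pointOk 22 67986 9 = true := by decide +kernel
theorem p4u734 : ∀ k, 61380 ≤ k → k < 67995 → pointOk (k * 22) = true := between_extend pointOk 22 61380 67986 9 (p4u733) p4r734

theorem p4r735 : allRange pointOk 22 67995 9 = true := by decide +kernel
theorem p4u735 : ∀ k, 61380 ≤ k → k < 68004 → pointOk (k * 22) = true := between_extend pointOk 22 61380 67995 9 (p4u734) p4r735

theorem p4r736 : allRange pointOk 22 68004 9 = true := by decide +kernel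
theorem p4u736 : ∀ k, 61380 ≤ k → k < 68013 → pointOk (k * 22) = true := between_extend pointOk 22 61380 68004 9 (p4u735) p4r736

theorem p4r737 : allRange pointOk 22 68013 9 = true := by decide +kernel
theorem p4u737 : ∀ k, 61380 ≤ k → k < 68022 → pointOk (k * 22) = true := between_extend pointOk 22 61380 68013 9 (p4u736) p4r737

theorem p4r738 : allRange pointOk 22 68022 9 = true := by decide +kernel
theorem p4u738 : ∀ k, 61380 ≤ k → k < 68031 → pointOk (k * 22) = true := between_extend pointOk 22 61380 68022 9 (p4u737) p4r738

theorem p4r739 : allRange pointOk 22 68031 9 = true := by decide +kernel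
theorem p4u739 : ∀ k, 61380 ≤ k → k < 68040 → pointOk (k * 22) = true := between_extend pointOk 22 61380 68031 9 (p4u738) p4r739

theorem p4r740 : allRange pointOk 22 68040 9 = true := by decide +kernel
theorem p4u740 : ∀ k, 61380 ≤ k → k < 68049 → pointOk (k * 22) = true := between_extend pointOk 22 61380 68040 9 (p4u739) p4r740

theorem p4r741 : allRange pointOk 22 68049 9 = true := by decide +kernel
theorem p4u741 : ∀ k, 61380 ≤ k → k < 68058 → pointOk (k * 22) = true := between_extend pointOk 22 61380 68049 9 (p4u740) p4r741

theorem p4r742 : allRange pointOk 22 68058 9 = true := by decide +kernel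
theorem p4u742 : ∀ k, 61380 ≤ k → k < 68067 → pointOk (k * 22) = true := between_extend pointOk 22 61380 68058 9 (p4u741) p4r742

theorem p4r743 : allRange pointOk 22 68067 9 = true := by decide +kernel
theorem p4u743 : ∀ k, 61380 ≤ k → k < 68076 → pointOk (k * 22) = true := between_extend pointOk 22 61380 68067 9 (p4u742) p4r743

theorem p4r744 : allRange pointOk 22 68076 9 = true := by decide +kernel
theorem p4u744 : ∀ k, 61380 ≤ k → k < 68085 → pointOk (k * 22) = true := between_extend pointOk 22 61380 68076 9 (p4u743) p4r744

theorem p4r745 : allRange pointOk 22 68085 9 = true := by decide +kernel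
theorem p4u745 : ∀ k, 61380 ≤ k → k < 68094 → pointOk (k * 22) = true := between_extend pointOk 22 61380 68085 9 (p4u744) p4r745

theorem p4r746 : allRange pointOk 22 68094 9 = true := by decide +kernel
theorem p4u746 : ∀ k, 61380 ≤ k → k < 68103 → pointOk (k * 22) = true := between_extend pointOk 22 61380 68094 9 (p4u745) p4r746

theorem p4r747 : allRange pointOk 22 68103 9 = true := by decide +kernel
theorem p4u747 : ∀ k, 61380 ≤ k → k < 68112 → pointOk (k * 22) = true := between_extend pointOk 22 61380 68103 9 (p4u746) p4r747

theorem p4r748 : allRange pointOk 22 68112 9 = true := by decide +kernel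
theorem p4u748 : ∀ k, 61380 ≤ k → k < 68121 → pointOk (k * 22) = true := between_extend pointOk 22 61380 68112 9 (p4u747) p4r748

theorem p4r749 : allRange pointOk 22 68121 9 = true := by decide +kernel
theorem p4u749 : ∀ k, 61380 ≤ k → k < 68130 → pointOk (k * 22) = true := between_extend pointOk 22 61380 68121 9 (p4u748) p4r749

theorem p4r750 : allRange pointOk 22 68130 9 = true := by decide +kernel
theorem p4u750 : ∀ k, 61380 ≤ k → k < 68139 → pointOk (k * 22) = true := between_extend pointOk 22 61380 68130 9 (p4u749) p4r750

theorem p4r751 : allRange pointOk 22 68139 9 = true := by decide +kernel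
theorem p4u751 : ∀ k, 61380 ≤ k → k < 68148 → pointOk (k * 22) = true := between_extend pointOk 22 61380 68139 9 (p4u750) p4r751

theorem p4r752 : allRange pointOk 22 68148 9 = true := by decide +kernel
theorem p4u752 : ∀ k, 61380 ≤ k → k < 68157 → pointOk (k * 22) = true := between_extend pointOk 22 61380 68148 9 (p4u751) p4r752

theorem p4r753 : allRange pointOk 22 68157 9 = true := by decide +kernel
theorem p4u753 : ∀ k, 61380 ≤ k → k < 68166 → pointOk (k * 22) = true := between_extend pointOk 22 61380 68157 9 (p4u752) p4r753

theorem p4r754 : allRange pointOk 22 68166 9 = true := by decide +kernel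
theorem p4u754 : ∀ k, 61380 ≤ k → k < 68175 → pointOk (k * 22) = true := between_extend pointOk 22 61380 68166 9 (p4u753) p4r754

theorem p4r755 : allRange pointOk 22 68175 9 = true := by decide +kernel
theorem p4u755 : ∀ k, 61380 ≤ k → k < 68184 → pointOk (k * 22) = true := between_extend pointOk 22 61380 68175 9 (p4u754) p4r755

theorem p4r756 : allRange pointOk 22 68184 9 = true := by decide +kernel
theorem p4u756 : ∀ k, 61380 ≤ k → k < 68193 → pointOk (k * 22) = true := between_extend pointOk 22 61380 68184 9 (p4u755) p4r756

theorem p4r757 : allRange pointOk 22 68193 9 = true := by decide +kernel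
theorem p4u757 : ∀ k, 61380 ≤ k → k < 68202 → pointOk (k * 22) = true := between_extend pointOk 22 61380 68193 9 (p4u756) p4r757

theorem p4r758 : allRange pointOk 22 68202 9 = true := by decide +kernel
theorem p4u758 : ∀ k, 61380 ≤ k → k < 68211 → pointOk (k * 22) = true := between_extend pointOk 22 61380 68202 9 (p4u757) p4r758

theorem p4r759 : allRange pointOk 22 68211 9 = true := by decide +kernel
theorem p4u759 : ∀ k, 61380 ≤ k → k < 68220 → pointOk (k * 22) = true := between_extend pointOk 22 61380 68211 9 (p4u758) p4r759

theorem p4r760 : allRange pointOk 22 68220 9 = true := by decide +kernel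
theorem p4u760 : ∀ k, 61380 ≤ k → k < 68229 → pointOk (k * 22) = true := between_extend pointOk 22 61380 68220 9 (p4u759) p4r760

theorem p4r761 : allRange pointOk 22 68229 9 = true := by decide +kernel
theorem p4u761 : ∀ k, 61380 ≤ k → k < 68238 → pointOk (k * 22) = true := between_extend pointOk 22 61380 68229 9 (p4u760) p4r761

theorem p4r762 : allRange pointOk 22 68238 9 = true := by decide +kernel
theorem p4u762 : ∀ k, 61380 ≤ k → k < 68247 → pointOk (k * 22) = true := between_extend pointOk 22 61380 68238 9 (p4u761) p4r762

theorem p4r763 : allRange pointOk 22 68247 9 = true := by decide +kernel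
theorem p4u763 : ∀ k, 61380 ≤ k → k < 68256 → pointOk (k * 22) = true := between_extend pointOk 22 61380 68247 9 (p4u762) p4r763

theorem p4r764 : allRange pointOk 22 68256 9 = true := by decide +kernel
theorem p4u764 : ∀ k, 61380 ≤ k → k < 68265 → pointOk (k * 22) = true := between_extend pointOk 22 61380 68256 9 (p4u763) p4r764

theorem p4r765 : allRange pointOk 22 68265 9 = true := by decide +kernel
theorem p4u765 : ∀ k, 61380 ≤ k → k < 68274 → pointOk (k * 22) = true := between_extend pointOk 22 61380 68265 9 (p4u764) p4r765

theorem p4r766 : allRange pointOk 22 68274 9 = true := by decide +kernel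
theorem p4u766 : ∀ k, 61380 ≤ k → k < 68283 → pointOk (k * 22) = true := between_extend pointOk 22 61380 68274 9 (p4u765) p4r766

theorem p4r767 : allRange pointOk 22 68283 9 = true := by decide +kernel
theorem p4u767 : ∀ k, 61380 ≤ k → k < 68292 → pointOk (k * 22) = true := between_extend pointOk 22 61380 68283 9 (p4u766) p4r767

theorem p4r768 : allRange pointOk 22 68292 9 = true := by decide +kernel
theorem p4u768 : ∀ k, 61380 ≤ k → k < 68301 → pointOk (k * 22) = true := between_extend pointOk 22 61380 68292 9 (p4u767) p4r768

theorem p4r769 : allRange pointOk 22 68301 9 = true := by decide +kernel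
theorem p4u769 : ∀ k, 61380 ≤ k → k < 68310 → pointOk (k * 22) = true := between_extend pointOk 22 61380 68301 9 (p4u768) p4r769

theorem p4r770 : allRange pointOk 22 68310 9 = true := by decide +kernel
theorem p4u770 : ∀ k, 61380 ≤ k → k < 68319 → pointOk (k * 22) = true := between_extend pointOk 22 61380 68310 9 (p4u769) p4r770

theorem p4r771 : allRange pointOk 22 68319 9 = true := by decide +kernel
theorem p4u771 : ∀ k, 61380 ≤ k → k < 68328 → pointOk (k * 22) = true := between_extend pointOk 22 61380 68319 9 (p4u770) p4r771

theorem p4r772 : allRange pointOk 22 68328 9 = true := by decide +kernel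
theorem p4u772 : ∀ k, 61380 ≤ k → k < 68337 → pointOk (k * 22) = true := between_extend pointOk 22 61380 68328 9 (p4u771) p4r772

theorem p4r773 : allRange pointOk 22 68337 9 = true := by decide +kernel
theorem p4u773 : ∀ k, 61380 ≤ k → k < 68346 → pointOk (k * 22) = true := between_extend pointOk 22 61380 68337 9 (p4u772) p4r773

theorem p4r774 : allRange pointOk 22 68346 9 = true := by decide +kernel
theorem p4u774 : ∀ k, 61380 ≤ k → k < 68355 → pointOk (k * 22) = true := between_extend pointOk 22 61380 68346 9 (p4u773) p4r774

theorem p4r775 : allRange pointOk 22 68355 9 = true := by decide +kernel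
theorem p4u775 : ∀ k, 61380 ≤ k → k < 68364 → pointOk (k * 22) = true := between_extend pointOk 22 61380 68355 9 (p4u774) p4r775

theorem p4r776 : allRange pointOk 22 68364 9 = true := by decide +kernel
theorem p4u776 : ∀ k, 61380 ≤ k → k < 68373 → pointOk (k * 22) = true := between_extend pointOk 22 61380 68364 9 (p4u775) p4r776

theorem p4r777 : allRange pointOk 22 68373 9 = true := by decide +kernel
theorem p4u777 : ∀ k, 61380 ≤ k → k < 68382 → pointOk (k * 22) = true := between_extend pointOk 22 61380 68373 9 (p4u776) p4r777

theorem p4r778 : allRange pointOk 22 68382 9 = true := by decide +kernel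
theorem p4u778 : ∀ k, 61380 ≤ k → k < 68391 → pointOk (k * 22) = true := between_extend pointOk 22 61380 68382 9 (p4u777) p4r778

theorem p4r779 : allRange pointOk 22 68391 9 = true := by decide +kernel
theorem p4u779 : ∀ k, 61380 ≤ k → k < 68400 → pointOk (k * 22) = true := between_extend pointOk 22 61380 68391 9 (p4u778) p4r779

theorem p4r780 : allRange pointOk 22 68400 9 = true := by decide +kernel
theorem p4u780 : ∀ k, 61380 ≤ k → k < 68409 → pointOk (k * 22) = true := between_extend pointOk 22 61380 68400 9 (p4u779) p4r780

theorem p4r781 : allRange pointOk 22 68409 9 = true := by decide +kernel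
theorem p4u781 : ∀ k, 61380 ≤ k → k < 68418 → pointOk (k * 22) = true := between_extend pointOk 22 61380 68409 9 (p4u780) p4r781

theorem p4r782 : allRange pointOk 22 68418 9 = true := by decide +kernel
theorem p4u782 : ∀ k, 61380 ≤ k → k < 68427 → pointOk (k * 22) = true := between_extend pointOk 22 61380 68418 9 (p4u781) p4r782

theorem p4r783 : allRange pointOk 22 68427 9 = true := by decide +kernel
theorem p4u783 : ∀ k, 61380 ≤ k → k < 68436 → pointOk (k * 22) = true := between_extend pointOk 22 61380 68427 9 (p4u782) p4r783

theorem p4r784 : allRange pointOk 22 68436 9 = true := by decide +kernel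
theorem p4u784 : ∀ k, 61380 ≤ k → k < 68445 → pointOk (k * 22) = true := between_extend pointOk 22 61380 68436 9 (p4u783) p4r784

theorem p4r785 : allRange pointOk 22 68445 9 = true := by decide +kernel
theorem p4u785 : ∀ k, 61380 ≤ k → k < 68454 → pointOk (k * 22) = true := between_extend pointOk 22 61380 68445 9 (p4u784) p4r785

theorem p4r786 : allRange pointOk 22 68454 9 = true := by decide +kernel
theorem p4u786 : ∀ k, 61380 ≤ k → k < 68463 → pointOk (k * 22) = true := between_extend pointOk 22 61380 68454 9 (p4u785) p4r786

theorem p4r787 : allRange pointOk 22 68463 9 = true := by decide +kernel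
theorem p4u787 : ∀ k, 61380 ≤ k → k < 68472 → pointOk (k * 22) = true := between_extend pointOk 22 61380 68463 9 (p4u786) p4r787

theorem p4r788 : allRange pointOk 22 68472 9 = true := by decide +kernel
theorem p4u788 : ∀ k, 61380 ≤ k → k < 68481 → pointOk (k * 22) = true := between_extend pointOk 22 61380 68472 9 (p4u787) p4r788

theorem p4r789 : allRange pointOk 22 68481 9 = true := by decide +kernel
theorem p4u789 : ∀ k, 61380 ≤ k → k < 68490 → pointOk (k * 22) = true := between_extend pointOk 22 61380 68481 9 (p4u788) p4r789

theorem p4r790 : allRange pointOk 22 68490 9 = true := by decide +kernel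
theorem p4u790 : ∀ k, 61380 ≤ k → k < 68499 → pointOk (k * 22) = true := between_extend pointOk 22 61380 68490 9 (p4u789) p4r790

theorem p4r791 : allRange pointOk 22 68499 9 = true := by decide +kernel
theorem p4u791 : ∀ k, 61380 ≤ k → k < 68508 → pointOk (k * 22) = true := between_extend pointOk 22 61380 68499 9 (p4u790) p4r791

theorem p4r792 : allRange pointOk 22 68508 9 = true := by decide +kernel
theorem p4u792 : ∀ k, 61380 ≤ k → k < 68517 → pointOk (k * 22) = true := between_extend pointOk 22 61380 68508 9 (p4u791) p4r792

theorem p4r793 : allRange pointOk 22 68517 9 = true := by decide +kernel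
theorem p4u793 : ∀ k, 61380 ≤ k → k < 68526 → pointOk (k * 22) = true := between_extend pointOk 22 61380 68517 9 (p4u792) p4r793

theorem p4r794 : allRange pointOk 22 68526 9 = true := by decide +kernel
theorem p4u794 : ∀ k, 61380 ≤ k → k < 68535 → pointOk (k * 22) = true := between_extend pointOk 22 61380 68526 9 (p4u793) p4r794

theorem p4r795 : allRange pointOk 22 68535 9 = true := by decide +kernel
theorem p4u795 : ∀ k, 61380 ≤ k → k < 68544 → pointOk (k * 22) = true := between_extend pointOk 22 61380 68535 9 (p4u794) p4r795

theorem p4r796 : allRange pointOk 22 68544 9 = true := by decide +kernel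
theorem p4u796 : ∀ k, 61380 ≤ k → k < 68553 → pointOk (k * 22) = true := between_extend pointOk 22 61380 68544 9 (p4u795) p4r796

theorem p4r797 : allRange pointOk 22 68553 9 = true := by decide +kernel
theorem p4u797 : ∀ k, 61380 ≤ k → k < 68562 → pointOk (k * 22) = true := between_extend pointOk 22 61380 68553 9 (p4u796) p4r797

theorem p4r798 : allRange pointOk 22 68562 9 = true := by decide +kernel
theorem p4u798 : ∀ k, 61380 ≤ k → k < 68571 → pointOk (k * 22) = true := between_extend pointOk 22 61380 68562 9 (p4u797) p4r798

theorem p4r799 : allRange pointOk 22 68571 9 = true := by decide +kernel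
theorem p4u799 : ∀ k, 61380 ≤ k → k < 68580 → pointOk (k * 22) = true := between_extend pointOk 22 61380 68571 9 (p4u798) p4r799

theorem p4r800 : allRange pointOk 22 68580 9 = true := by decide +kernel
theorem p4u800 : ∀ k, 61380 ≤ k → k < 68589 → pointOk (k * 22) = true := between_extend pointOk 22 61380 68580 9 (p4u799) p4r800

theorem p4r801 : allRange pointOk 22 68589 9 = true := by decide +kernel
theorem p4u801 : ∀ k, 61380 ≤ k → k < 68598 → pointOk (k * 22) = true := between_extend pointOk 22 61380 68589 9 (p4u800) p4r801

theorem p4r802 : allRange pointOk 22 68598 9 = true := by decide +kernel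
theorem p4u802 : ∀ k, 61380 ≤ k → k < 68607 → pointOk (k * 22) = true := between_extend pointOk 22 61380 68598 9 (p4u801) p4r802

theorem p4r803 : allRange pointOk 22 68607 9 = true := by decide +kernel
theorem p4u803 : ∀ k, 61380 ≤ k → k < 68616 → pointOk (k * 22) = true := between_extend pointOk 22 61380 68607 9 (p4u802) p4r803

theorem p4r804 : allRange pointOk 22 68616 9 = true := by decide +kernel
theorem p4u804 : ∀ k, 61380 ≤ k → k < 68625 → pointOk (k * 22) = true := between_extend pointOk 22 61380 68616 9 (p4u803) p4r804

theorem p4r805 : allRange pointOk 22 68625 9 = true := by decide +kernel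
theorem p4u805 : ∀ k, 61380 ≤ k → k < 68634 → pointOk (k * 22) = true := between_extend pointOk 22 61380 68625 9 (p4u804) p4r805

theorem p4r806 : allRange pointOk 22 68634 9 = true := by decide +kernel
theorem p4u806 : ∀ k, 61380 ≤ k → k < 68643 → pointOk (k * 22) = true := between_extend pointOk 22 61380 68634 9 (p4u805) p4r806

theorem p4r807 : allRange pointOk 22 68643 9 = true := by decide +kernel
theorem p4u807 : ∀ k, 61380 ≤ k → k < 68652 → pointOk (k * 22) = true := between_extend pointOk 22 61380 68643 9 (p4u806) p4r807

theorem p4r808 : allRange pointOk 22 68652 9 = true := by decide +kernel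
theorem p4u808 : ∀ k, 61380 ≤ k → k < 68661 → pointOk (k * 22) = true := between_extend pointOk 22 61380 68652 9 (p4u807) p4r808

theorem p4r809 : allRange pointOk 22 68661 9 = true := by decide +kernel
theorem p4u809 : ∀ k, 61380 ≤ k → k < 68670 → pointOk (k * 22) = true := between_extend pointOk 22 61380 68661 9 (p4u808) p4r809

theorem p4r810 : allRange pointOk 22 68670 9 = true := by decide +kernel
theorem p4u810 : ∀ k, 61380 ≤ k → k < 68679 → pointOk (k * 22) = true := between_extend pointOk 22 61380 68670 9 (p4u809) p4r810

theorem p4r811 : allRange pointOk 22 68679 9 = true := by decide +kernel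
theorem p4u811 : ∀ k, 61380 ≤ k → k < 68688 → pointOk (k * 22) = true := between_extend pointOk 22 61380 68679 9 (p4u810) p4r811

theorem p4r812 : allRange pointOk 22 68688 9 = true := by decide +kernel
theorem p4u812 : ∀ k, 61380 ≤ k → k < 68697 → pointOk (k * 22) = true := between_extend pointOk 22 61380 68688 9 (p4u811) p4r812

theorem p4r813 : allRange pointOk 22 68697 9 = true := by decide +kernel
theorem p4u813 : ∀ k, 61380 ≤ k → k < 68706 → pointOk (k * 22) = true := between_extend pointOk 22 61380 68697 9 (p4u812) p4r813

theorem p4r814 : allRange pointOk 22 68706 9 = true := by decide +kernel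
theorem p4u814 : ∀ k, 61380 ≤ k → k < 68715 → pointOk (k * 22) = true := between_extend pointOk 22 61380 68706 9 (p4u813) p4r814

theorem p4r815 : allRange pointOk 22 68715 9 = true := by decide +kernel
theorem p4u815 : ∀ k, 61380 ≤ k → k < 68724 → pointOk (k * 22) = true := between_extend pointOk 22 61380 68715 9 (p4u814) p4r815

theorem p4r816 : allRange pointOk 22 68724 9 = true := by decide +kernel
theorem p4u816 : ∀ k, 61380 ≤ k → k < 68733 → pointOk (k * 22) = true := between_extend pointOk 22 61380 68724 9 (p4u815) p4r816

theorem p4r817 : allRange pointOk 22 68733 9 = true := by decide +kernel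
theorem p4u817 : ∀ k, 61380 ≤ k → k < 68742 → pointOk (k * 22) = true := between_extend pointOk 22 61380 68733 9 (p4u816) p4r817

theorem p4r818 : allRange pointOk 22 68742 9 = true := by decide +kernel
theorem p4u818 : ∀ k, 61380 ≤ k → k < 68751 → pointOk (k * 22) = true := between_extend pointOk 22 61380 68742 9 (p4u817) p4r818

theorem p4r819 : allRange pointOk 22 68751 9 = true := by decide +kernel
theorem p4u819 : ∀ k, 61380 ≤ k → k < 68760 → pointOk (k * 22) = true := between_extend pointOk 22 61380 68751 9 (p4u818) p4r819

theorem p4r820 : allRange pointOk 22 68760 9 = true := by decide +kernel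
theorem p4u820 : ∀ k, 61380 ≤ k → k < 68769 → pointOk (k * 22) = true := between_extend pointOk 22 61380 68760 9 (p4u819) p4r820

theorem p4r821 : allRange pointOk 22 68769 9 = true := by decide +kernel
theorem p4u821 : ∀ k, 61380 ≤ k → k < 68778 → pointOk (k * 22) = true := between_extend pointOk 22 61380 68769 9 (p4u820) p4r821

theorem p4r822 : allRange pointOk 22 68778 9 = true := by decide +kernel
theorem p4u822 : ∀ k, 61380 ≤ k → k < 68787 → pointOk (k * 22) = true := between_extend pointOk 22 61380 68778 9 (p4u821) p4r822

theorem p4r823 : allRange pointOk 22 68787 9 = true := by decide +kernel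
theorem p4u823 : ∀ k, 61380 ≤ k → k < 68796 → pointOk (k * 22) = true := between_extend pointOk 22 61380 68787 9 (p4u822) p4r823

theorem p4r824 : allRange pointOk 22 68796 9 = true := by decide +kernel
theorem p4u824 : ∀ k, 61380 ≤ k → k < 68805 → pointOk (k * 22) = true := between_extend pointOk 22 61380 68796 9 (p4u823) p4r824

theorem p4r825 : allRange pointOk 22 68805 9 = true := by decide +kernel
theorem p4u825 : ∀ k, 61380 ≤ k → k < 68814 → pointOk (k * 22) = true := between_extend pointOk 22 61380 68805 9 (p4u824) p4r825

theorem p4r826 : allRange pointOk 22 68814 9 = true := by decide +kernel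
theorem p4u826 : ∀ k, 61380 ≤ k → k < 68823 → pointOk (k * 22) = true := between_extend pointOk 22 61380 68814 9 (p4u825) p4r826

theorem p4r827 : allRange pointOk 22 68823 9 = true := by decide +kernel
theorem p4u827 : ∀ k, 61380 ≤ k → k < 68832 → pointOk (k * 22) = true := between_extend pointOk 22 61380 68823 9 (p4u826) p4r827

theorem p4r828 : allRange pointOk 22 68832 9 = true := by decide +kernel
theorem p4u828 : ∀ k, 61380 ≤ k → k < 68841 → pointOk (k * 22) = true := between_extend pointOk 22 61380 68832 9 (p4u827) p4r828

theorem p4r829 : allRange pointOk 22 68841 9 = true := by decide +kernel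
theorem p4u829 : ∀ k, 61380 ≤ k → k < 68850 → pointOk (k * 22) = true := between_extend pointOk 22 61380 68841 9 (p4u828) p4r829

theorem p4r830 : allRange pointOk 22 68850 9 = true := by decide +kernel
theorem p4u830 : ∀ k, 61380 ≤ k → k < 68859 → pointOk (k * 22) = true := between_extend pointOk 22 61380 68850 9 (p4u829) p4r830

theorem p4r831 : allRange pointOk 22 68859 9 = true := by decide +kernel
theorem p4u831 : ∀ k, 61380 ≤ k → k < 68868 → pointOk (k * 22) = true := between_extend pointOk 22 61380 68859 9 (p4u830) p4r831

theorem p4r832 : allRange pointOk 22 68868 9 = true := by decide +kernel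
theorem p4u832 : ∀ k, 61380 ≤ k → k < 68877 → pointOk (k * 22) = true := between_extend pointOk 22 61380 68868 9 (p4u831) p4r832

theorem p4r833 : allRange pointOk 22 68877 9 = true := by decide +kernel
theorem p4u833 : ∀ k, 61380 ≤ k → k < 68886 → pointOk (k * 22) = true := between_extend pointOk 22 61380 68877 9 (p4u832) p4r833

theorem p4r834 : allRange pointOk 22 68886 9 = true := by decide +kernel
theorem p4u834 : ∀ k, 61380 ≤ k → k < 68895 → pointOk (k * 22) = true := between_extend pointOk 22 61380 68886 9 (p4u833) p4r834

theorem p4r835 : allRange pointOk 22 68895 9 = true := by decide +kernel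
theorem p4u835 : ∀ k, 61380 ≤ k → k < 68904 → pointOk (k * 22) = true := between_extend pointOk 22 61380 68895 9 (p4u834) p4r835

theorem p4r836 : allRange pointOk 22 68904 9 = true := by decide +kernel
theorem p4u836 : ∀ k, 61380 ≤ k → k < 68913 → pointOk (k * 22) = true := between_extend pointOk 22 61380 68904 9 (p4u835) p4r836

theorem p4r837 : allRange pointOk 22 68913 9 = true := by decide +kernel
theorem p4u837 : ∀ k, 61380 ≤ k → k < 68922 → pointOk (k * 22) = true := between_extend pointOk 22 61380 68913 9 (p4u836) p4r837

theorem p4r838 : allRange pointOk 22 68922 9 = true := by decide +kernel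
theorem p4u838 : ∀ k, 61380 ≤ k → k < 68931 → pointOk (k * 22) = true := between_extend pointOk 22 61380 68922 9 (p4u837) p4r838

theorem p4r839 : allRange pointOk 22 68931 9 = true := by decide +kernel
theorem p4u839 : ∀ k, 61380 ≤ k → k < 68940 → pointOk (k * 22) = true := between_extend pointOk 22 61380 68931 9 (p4u838) p4r839

theorem p4r840 : allRange pointOk 22 68940 9 = true := by decide +kernel
theorem p4u840 : ∀ k, 61380 ≤ k → k < 68949 → pointOk (k * 22) = true := between_extend pointOk 22 61380 68940 9 (p4u839) p4r840

theorem p4r841 : allRange pointOk 22 68949 9 = true := by decide +kernel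
theorem p4u841 : ∀ k, 61380 ≤ k → k < 68958 → pointOk (k * 22) = true := between_extend pointOk 22 61380 68949 9 (p4u840) p4r841

theorem p4r842 : allRange pointOk 22 68958 9 = true := by decide +kernel
theorem p4u842 : ∀ k, 61380 ≤ k → k < 68967 → pointOk (k * 22) = true := between_extend pointOk 22 61380 68958 9 (p4u841) p4r842

theorem p4r843 : allRange pointOk 22 68967 9 = true := by decide +kernel
theorem p4u843 : ∀ k, 61380 ≤ k → k < 68976 → pointOk (k * 22) = true := between_extend pointOk 22 61380 68967 9 (p4u842) p4r843

theorem p4r844 : allRange pointOk 22 68976 9 = true := by decide +kernel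
theorem p4u844 : ∀ k, 61380 ≤ k → k < 68985 → pointOk (k * 22) = true := between_extend pointOk 22 61380 68976 9 (p4u843) p4r844

theorem p4r845 : allRange pointOk 22 68985 9 = true := by decide +kernel
theorem p4u845 : ∀ k, 61380 ≤ k → k < 68994 → pointOk (k * 22) = true := between_extend pointOk 22 61380 68985 9 (p4u844) p4r845

theorem p4r846 : allRange pointOk 22 68994 9 = true := by decide +kernel
theorem p4u846 : ∀ k, 61380 ≤ k → k < 69003 → pointOk (k * 22) = true := between_extend pointOk 22 61380 68994 9 (p4u845) p4r846

theorem p4r847 : allRange pointOk 22 69003 9 = true := by decide +kernel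
theorem p4u847 : ∀ k, 61380 ≤ k → k < 69012 → pointOk (k * 22) = true := between_extend pointOk 22 61380 69003 9 (p4u846) p4r847

theorem p4r848 : allRange pointOk 22 69012 9 = true := by decide +kernel
theorem p4u848 : ∀ k, 61380 ≤ k → k < 69021 → pointOk (k * 22) = true := between_extend pointOk 22 61380 69012 9 (p4u847) p4r848

theorem p4r849 : allRange pointOk 22 69021 9 = true := by decide +kernel
theorem p4u849 : ∀ k, 61380 ≤ k → k < 69030 → pointOk (k * 22) = true := between_extend pointOk 22 61380 69021 9 (p4u848) p4r849

theorem p4r850 : allRange pointOk 22 69030 9 = true := by decide +kernel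
theorem p4u850 : ∀ k, 61380 ≤ k → k < 69039 → pointOk (k * 22) = true := between_extend pointOk 22 61380 69030 9 (p4u849) p4r850

theorem p4r851 : allRange pointOk 22 69039 9 = true := by decide +kernel
theorem p4u851 : ∀ k, 61380 ≤ k → k < 69048 → pointOk (k * 22) = true := between_extend pointOk 22 61380 69039 9 (p4u850) p4r851

theorem p4r852 : allRange pointOk 22 69048 9 = true := by decide +kernel
theorem p4u852 : ∀ k, 61380 ≤ k → k < 69057 → pointOk (k * 22) = true := between_extend pointOk 22 61380 69048 9 (p4u851) p4r852

theorem p4r853 : allRange pointOk 22 69057 9 = true := by decide +kernel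
theorem p4u853 : ∀ k, 61380 ≤ k → k < 69066 → pointOk (k * 22) = true := between_extend pointOk 22 61380 69057 9 (p4u852) p4r853

theorem p4r854 : allRange pointOk 22 69066 9 = true := by decide +kernel
theorem p4u854 : ∀ k, 61380 ≤ k → k < 69075 → pointOk (k * 22) = true := between_extend pointOk 22 61380 69066 9 (p4u853) p4r854

theorem p4r855 : allRange pointOk 22 69075 9 = true := by decide +kernel
theorem p4u855 : ∀ k, 61380 ≤ k → k < 69084 → pointOk (k * 22) = true := between_extend pointOk 22 61380 69075 9 (p4u854) p4r855

theorem p4r856 : allRange pointOk 22 69084 9 = true := by decide +kernel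
theorem p4u856 : ∀ k, 61380 ≤ k → k < 69093 → pointOk (k * 22) = true := between_extend pointOk 22 61380 69084 9 (p4u855) p4r856

theorem p4r857 : allRange pointOk 22 69093 9 = true := by decide +kernel
theorem p4u857 : ∀ k, 61380 ≤ k → k < 69102 → pointOk (k * 22) = true := between_extend pointOk 22 61380 69093 9 (p4u856) p4r857

theorem p4r858 : allRange pointOk 22 69102 9 = true := by decide +kernel
theorem p4u858 : ∀ k, 61380 ≤ k → k < 69111 → pointOk (k * 22) = true := between_extend pointOk 22 61380 69102 9 (p4u857) p4r858

theorem p4r859 : allRange pointOk 22 69111 9 = true := by decide +kernel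
theorem p4u859 : ∀ k, 61380 ≤ k → k < 69120 → pointOk (k * 22) = true := between_extend pointOk 22 61380 69111 9 (p4u858) p4r859

theorem p4r860 : allRange pointOk 22 69120 9 = true := by decide +kernel
theorem p4u860 : ∀ k, 61380 ≤ k → k < 69129 → pointOk (k * 22) = true := between_extend pointOk 22 61380 69120 9 (p4u859) p4r860

theorem p4r861 : allRange pointOk 22 69129 9 = true := by decide +kernel
theorem p4u861 : ∀ k, 61380 ≤ k → k < 69138 → pointOk (k * 22) = true := between_extend pointOk 22 61380 69129 9 (p4u860) p4r861

theorem p4r862 : allRange pointOk 22 69138 9 = true := by decide +kernel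
theorem p4u862 : ∀ k, 61380 ≤ k → k < 69147 → pointOk (k * 22) = true := between_extend pointOk 22 61380 69138 9 (p4u861) p4r862

theorem p4r863 : allRange pointOk 22 69147 9 = true := by decide +kernel
theorem p4u863 : ∀ k, 61380 ≤ k → k < 69156 → pointOk (k * 22) = true := between_extend pointOk 22 61380 69147 9 (p4u862) p4r863

theorem p4r864 : allRange pointOk 22 69156 9 = true := by decide +kernel
theorem p4u864 : ∀ k, 61380 ≤ k → k < 69165 → pointOk (k * 22) = true := between_extend pointOk 22 61380 69156 9 (p4u863) p4r864

theorem p4r865 : allRange pointOk 22 69165 9 = true := by decide +kernel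
theorem p4u865 : ∀ k, 61380 ≤ k → k < 69174 → pointOk (k * 22) = true := between_extend pointOk 22 61380 69165 9 (p4u864) p4r865

theorem p4r866 : allRange pointOk 22 69174 9 = true := by decide +kernel
theorem p4u866 : ∀ k, 61380 ≤ k → k < 69183 → pointOk (k * 22) = true := between_extend pointOk 22 61380 69174 9 (p4u865) p4r866

theorem p4r867 : allRange pointOk 22 69183 9 = true := by decide +kernel
theorem p4u867 : ∀ k, 61380 ≤ k → k < 69192 → pointOk (k * 22) = true := between_extend pointOk 22 61380 69183 9 (p4u866) p4r867

theorem p4r868 : allRange pointOk 22 69192 9 = true := by decide +kernel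
theorem p4u868 : ∀ k, 61380 ≤ k → k < 69201 → pointOk (k * 22) = true := between_extend pointOk 22 61380 69192 9 (p4u867) p4r868

theorem p4r869 : allRange pointOk 22 69201 9 = true := by decide +kernel
theorem p4u869 : ∀ k, 61380 ≤ k → k < 69210 → pointOk (k * 22) = true := between_extend pointOk 22 61380 69201 9 (p4u868) p4r869

theorem p4r870 : allRange pointOk 22 69210 9 = true := by decide +kernel
theorem p4u870 : ∀ k, 61380 ≤ k → k < 69219 → pointOk (k * 22) = true := between_extend pointOk 22 61380 69210 9 (p4u869) p4r870

theorem p4r871 : allRange pointOk 22 69219 9 = true := by decide +kernel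
theorem p4u871 : ∀ k, 61380 ≤ k → k < 69228 → pointOk (k * 22) = true := between_extend pointOk 22 61380 69219 9 (p4u870) p4r871

theorem p4r872 : allRange pointOk 22 69228 9 = true := by decide +kernel
theorem p4u872 : ∀ k, 61380 ≤ k → k < 69237 → pointOk (k * 22) = true := between_extend pointOk 22 61380 69228 9 (p4u871) p4r872

theorem p4r873 : allRange pointOk 22 69237 9 = true := by decide +kernel
theorem p4u873 : ∀ k, 61380 ≤ k → k < 69246 → pointOk (k * 22) = true := between_extend pointOk 22 61380 69237 9 (p4u872) p4r873

theorem p4r874 : allRange pointOk 22 69246 9 = true := by decide +kernel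
theorem p4u874 : ∀ k, 61380 ≤ k → k < 69255 → pointOk (k * 22) = true := between_extend pointOk 22 61380 69246 9 (p4u873) p4r874

theorem p4r875 : allRange pointOk 22 69255 9 = true := by decide +kernel
theorem p4u875 : ∀ k, 61380 ≤ k → k < 69264 → pointOk (k * 22) = true := between_extend pointOk 22 61380 69255 9 (p4u874) p4r875

theorem p4r876 : allRange pointOk 22 69264 9 = true := by decide +kernel
theorem p4u876 : ∀ k, 61380 ≤ k → k < 69273 → pointOk (k * 22) = true := between_extend pointOk 22 61380 69264 9 (p4u875) p4r876

theorem p4r877 : allRange pointOk 22 69273 9 = true := by decide +kernel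
theorem p4u877 : ∀ k, 61380 ≤ k → k < 69282 → pointOk (k * 22) = true := between_extend pointOk 22 61380 69273 9 (p4u876) p4r877

theorem p4r878 : allRange pointOk 22 69282 9 = true := by decide +kernel
theorem p4u878 : ∀ k, 61380 ≤ k → k < 69291 → pointOk (k * 22) = true := between_extend pointOk 22 61380 69282 9 (p4u877) p4r878

theorem p4r879 : allRange pointOk 22 69291 9 = true := by decide +kernel
theorem p4u879 : ∀ k, 61380 ≤ k → k < 69300 → pointOk (k * 22) = true := between_extend pointOk 22 61380 69291 9 (p4u878) p4r879

theorem p4r880 : allRange pointOk 22 69300 9 = true := by decide +kernel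
theorem p4u880 : ∀ k, 61380 ≤ k → k < 69309 → pointOk (k * 22) = true := between_extend pointOk 22 61380 69300 9 (p4u879) p4r880

theorem p4r881 : allRange pointOk 22 69309 9 = true := by decide +kernel
theorem p4u881 : ∀ k, 61380 ≤ k → k < 69318 → pointOk (k * 22) = true := between_extend pointOk 22 61380 69309 9 (p4u880) p4r881

theorem p4r882 : allRange pointOk 22 69318 9 = true := by decide +kernel
theorem p4u882 : ∀ k, 61380 ≤ k → k < 69327 → pointOk (k * 22) = true := between_extend pointOk 22 61380 69318 9 (p4u881) p4r882

theorem p4r883 : allRange pointOk 22 69327 9 = true := by decide +kernel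
theorem p4u883 : ∀ k, 61380 ≤ k → k < 69336 → pointOk (k * 22) = true := between_extend pointOk 22 61380 69327 9 (p4u882) p4r883

theorem p4r884 : allRange pointOk 22 69336 9 = true := by decide +kernel
theorem p4u884 : ∀ k, 61380 ≤ k → k < 69345 → pointOk (k * 22) = true := between_extend pointOk 22 61380 69336 9 (p4u883) p4r884

theorem p4r885 : allRange pointOk 22 69345 9 = true := by decide +kernel
theorem p4u885 : ∀ k, 61380 ≤ k → k < 69354 → pointOk (k * 22) = true := between_extend pointOk 22 61380 69345 9 (p4u884) p4r885

theorem p4r886 : allRange pointOk 22 69354 9 = true := by decide +kernel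
theorem p4u886 : ∀ k, 61380 ≤ k → k < 69363 → pointOk (k * 22) = true := between_extend pointOk 22 61380 69354 9 (p4u885) p4r886

theorem p4r887 : allRange pointOk 22 69363 9 = true := by decide +kernel
theorem p4u887 : ∀ k, 61380 ≤ k → k < 69372 → pointOk (k * 22) = true := between_extend pointOk 22 61380 69363 9 (p4u886) p4r887

theorem p4r888 : allRange pointOk 22 69372 9 = true := by decide +kernel
theorem p4u888 : ∀ k, 61380 ≤ k → k < 69381 → pointOk (k * 22) = true := between_extend pointOk 22 61380 69372 9 (p4u887) p4r888

theorem p4r889 : allRange pointOk 22 69381 9 = true := by decide +kernel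
theorem p4u889 : ∀ k, 61380 ≤ k → k < 69390 → pointOk (k * 22) = true := between_extend pointOk 22 61380 69381 9 (p4u888) p4r889

theorem p4r890 : allRange pointOk 22 69390 9 = true := by decide +kernel
theorem p4u890 : ∀ k, 61380 ≤ k → k < 69399 → pointOk (k * 22) = true := between_extend pointOk 22 61380 69390 9 (p4u889) p4r890

theorem p4r891 : allRange pointOk 22 69399 9 = true := by decide +kernel
theorem p4u891 : ∀ k, 61380 ≤ k → k < 69408 → pointOk (k * 22) = true := between_extend pointOk 22 61380 69399 9 (p4u890) p4r891

theorem p4r892 : allRange pointOk 22 69408 9 = true := by decide +kernel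
theorem p4u892 : ∀ k, 61380 ≤ k → k < 69417 → pointOk (k * 22) = true := between_extend pointOk 22 61380 69408 9 (p4u891) p4r892

theorem p4r893 : allRange pointOk 22 69417 9 = true := by decide +kernel
theorem p4u893 : ∀ k, 61380 ≤ k → k < 69426 → pointOk (k * 22) = true := between_extend pointOk 22 61380 69417 9 (p4u892) p4r893

theorem p4r894 : allRange pointOk 22 69426 9 = true := by decide +kernel
theorem p4u894 : ∀ k, 61380 ≤ k → k < 69435 → pointOk (k * 22) = true := between_extend pointOk 22 61380 69426 9 (p4u893) p4r894

theorem p4r895 : allRange pointOk 22 69435 9 = true := by decide +kernel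
theorem p4u895 : ∀ k, 61380 ≤ k → k < 69444 → pointOk (k * 22) = true := between_extend pointOk 22 61380 69435 9 (p4u894) p4r895

theorem p4r896 : allRange pointOk 22 69444 9 = true := by decide +kernel
theorem p4u896 : ∀ k, 61380 ≤ k → k < 69453 → pointOk (k * 22) = true := between_extend pointOk 22 61380 69444 9 (p4u895) p4r896

theorem p4r897 : allRange pointOk 22 69453 9 = true := by decide +kernel
theorem p4u897 : ∀ k, 61380 ≤ k → k < 69462 → pointOk (k * 22) = true := between_extend pointOk 22 61380 69453 9 (p4u896) p4r897

theorem p4r898 : allRange pointOk 22 69462 9 = true := by decide +kernel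
theorem p4u898 : ∀ k, 61380 ≤ k → k < 69471 → pointOk (k * 22) = true := between_extend pointOk 22 61380 69462 9 (p4u897) p4r898

theorem p4r899 : allRange pointOk 22 69471 9 = true := by decide +kernel
theorem p4u899 : ∀ k, 61380 ≤ k → k < 69480 → pointOk (k * 22) = true := between_extend pointOk 22 61380 69471 9 (p4u898) p4r899

theorem p4r900 : allRange pointOk 22 69480 9 = true := by decide +kernel
theorem p4u900 : ∀ k, 61380 ≤ k → k < 69489 → pointOk (k * 22) = true := between_extend pointOk 22 61380 69480 9 (p4u899) p4r900

theorem p4r901 : allRange pointOk 22 69489 9 = true := by decide +kernel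
theorem p4u901 : ∀ k, 61380 ≤ k → k < 69498 → pointOk (k * 22) = true := between_extend pointOk 22 61380 69489 9 (p4u900) p4r901

theorem p4r902 : allRange pointOk 22 69498 9 = true := by decide +kernel
theorem p4u902 : ∀ k, 61380 ≤ k → k < 69507 → pointOk (k * 22) = true := between_extend pointOk 22 61380 69498 9 (p4u901) p4r902

theorem p4r903 : allRange pointOk 22 69507 9 = true := by decide +kernel
theorem p4u903 : ∀ k, 61380 ≤ k → k < 69516 → pointOk (k * 22) = true := between_extend pointOk 22 61380 69507 9 (p4u902) p4r903

theorem p4r904 : allRange pointOk 22 69516 9 = true := by decide +kernel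
theorem p4u904 : ∀ k, 61380 ≤ k → k < 69525 → pointOk (k * 22) = true := between_extend pointOk 22 61380 69516 9 (p4u903) p4r904

theorem p4r905 : allRange pointOk 22 69525 9 = true := by decide +kernel
theorem p4u905 : ∀ k, 61380 ≤ k → k < 69534 → pointOk (k * 22) = true := between_extend pointOk 22 61380 69525 9 (p4u904) p4r905

theorem p4r906 : allRange pointOk 22 69534 9 = true := by decide +kernel
theorem p4u906 : ∀ k, 61380 ≤ k → k < 69543 → pointOk (k * 22) = true := between_extend pointOk 22 61380 69534 9 (p4u905) p4r906

theorem p4r907 : allRange pointOk 22 69543 9 = true := by decide +kernel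
theorem p4u907 : ∀ k, 61380 ≤ k → k < 69552 → pointOk (k * 22) = true := between_extend pointOk 22 61380 69543 9 (p4u906) p4r907

theorem p4r908 : allRange pointOk 22 69552 9 = true := by decide +kernel
theorem p4u908 : ∀ k, 61380 ≤ k → k < 69561 → pointOk (k * 22) = true := between_extend pointOk 22 61380 69552 9 (p4u907) p4r908

theorem p4r909 : allRange pointOk 22 69561 9 = true := by decide +kernel
theorem p4u909 : ∀ k, 61380 ≤ k → k < 69570 → pointOk (k * 22) = true := between_extend pointOk 22 61380 69561 9 (p4u908) p4r909

theorem p4r910 : allRange pointOk 22 69570 9 = true := by decide +kernel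
theorem p4u910 : ∀ k, 61380 ≤ k → k < 69579 → pointOk (k * 22) = true := between_extend pointOk 22 61380 69570 9 (p4u909) p4r910

theorem p4r911 : allRange pointOk 22 69579 9 = true := by decide +kernel
theorem p4u911 : ∀ k, 61380 ≤ k → k < 69588 → pointOk (k * 22) = true := between_extend pointOk 22 61380 69579 9 (p4u910) p4r911

theorem p4r912 : allRange pointOk 22 69588 9 = true := by decide +kernel
theorem p4u912 : ∀ k, 61380 ≤ k → k < 69597 → pointOk (k * 22) = true := between_extend pointOk 22 61380 69588 9 (p4u911) p4r912

theorem p4r913 : allRange pointOk 22 69597 9 = true := by decide +kernel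
theorem p4u913 : ∀ k, 61380 ≤ k → k < 69606 → pointOk (k * 22) = true := between_extend pointOk 22 61380 69597 9 (p4u912) p4r913

theorem p4r914 : allRange pointOk 22 69606 9 = true := by decide +kernel
theorem p4u914 : ∀ k, 61380 ≤ k → k < 69615 → pointOk (k * 22) = true := between_extend pointOk 22 61380 69606 9 (p4u913) p4r914

theorem p4r915 : allRange pointOk 22 69615 9 = true := by decide +kernel
theorem p4u915 : ∀ k, 61380 ≤ k → k < 69624 → pointOk (k * 22) = true := between_extend pointOk 22 61380 69615 9 (p4u914) p4r915

theorem p4r916 : allRange pointOk 22 69624 9 = true := by decide +kernel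
theorem p4u916 : ∀ k, 61380 ≤ k → k < 69633 → pointOk (k * 22) = true := between_extend pointOk 22 61380 69624 9 (p4u915) p4r916

theorem p4r917 : allRange pointOk 22 69633 9 = true := by decide +kernel
theorem p4u917 : ∀ k, 61380 ≤ k → k < 69642 → pointOk (k * 22) = true := between_extend pointOk 22 61380 69633 9 (p4u916) p4r917

theorem p4r918 : allRange pointOk 22 69642 9 = true := by decide +kernel
theorem p4u918 : ∀ k, 61380 ≤ k → k < 69651 → pointOk (k * 22) = true := between_extend pointOk 22 61380 69642 9 (p4u917) p4r918

theorem p4r919 : allRange pointOk 22 69651 9 = true := by decide +kernel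
theorem p4u919 : ∀ k, 61380 ≤ k → k < 69660 → pointOk (k * 22) = true := between_extend pointOk 22 61380 69651 9 (p4u918) p4r919

theorem p4r920 : allRange pointOk 22 69660 9 = true := by decide +kernel
theorem p4u920 : ∀ k, 61380 ≤ k → k < 69669 → pointOk (k * 22) = true := between_extend pointOk 22 61380 69660 9 (p4u919) p4r920

theorem p4r921 : allRange pointOk 22 69669 9 = true := by decide +kernel
theorem p4u921 : ∀ k, 61380 ≤ k → k < 69678 → pointOk (k * 22) = true := between_extend pointOk 22 61380 69669 9 (p4u920) p4r921

theorem p4r922 : allRange pointOk 22 69678 9 = true := by decide +kernel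
theorem p4u922 : ∀ k, 61380 ≤ k → k < 69687 → pointOk (k * 22) = true := between_extend pointOk 22 61380 69678 9 (p4u921) p4r922

theorem p4r923 : allRange pointOk 22 69687 9 = true := by decide +kernel
theorem p4u923 : ∀ k, 61380 ≤ k → k < 69696 → pointOk (k * 22) = true := between_extend pointOk 22 61380 69687 9 (p4u922) p4r923

theorem p4r924 : allRange pointOk 22 69696 9 = true := by decide +kernel
theorem p4u924 : ∀ k, 61380 ≤ k → k < 69705 → pointOk (k * 22) = true := between_extend pointOk 22 61380 69696 9 (p4u923) p4r924

theorem p4r925 : allRange pointOk 22 69705 9 = true := by decide +kernel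
theorem p4u925 : ∀ k, 61380 ≤ k → k < 69714 → pointOk (k * 22) = true := between_extend pointOk 22 61380 69705 9 (p4u924) p4r925

theorem p4r926 : allRange pointOk 22 69714 9 = true := by decide +kernel
theorem p4u926 : ∀ k, 61380 ≤ k → k < 69723 → pointOk (k * 22) = true := between_extend pointOk 22 61380 69714 9 (p4u925) p4r926

theorem p4r927 : allRange pointOk 22 69723 9 = true := by decide +kernel
theorem p4u927 : ∀ k, 61380 ≤ k → k < 69732 → pointOk (k * 22) = true := between_extend pointOk 22 61380 69723 9 (p4u926) p4r927

theorem p4r928 : allRange pointOk 22 69732 9 = true := by decide +kernel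
theorem p4u928 : ∀ k, 61380 ≤ k → k < 69741 → pointOk (k * 22) = true := between_extend pointOk 22 61380 69732 9 (p4u927) p4r928

theorem p4r929 : allRange pointOk 22 69741 9 = true := by decide +kernel
theorem p4u929 : ∀ k, 61380 ≤ k → k < 69750 → pointOk (k * 22) = true := between_extend pointOk 22 61380 69741 9 (p4u928) p4r929

theorem p4r930 : allRange pointOk 22 69750 9 = true := by decide +kernel
theorem p4u930 : ∀ k, 61380 ≤ k → k < 69759 → pointOk (k * 22) = true := between_extend pointOk 22 61380 69750 9 (p4u929) p4r930

theorem p4r931 : allRange pointOk 22 69759 9 = true := by decide +kernel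
theorem p4u931 : ∀ k, 61380 ≤ k → k < 69768 → pointOk (k * 22) = true := between_extend pointOk 22 61380 69759 9 (p4u930) p4r931

theorem p4r932 : allRange pointOk 22 69768 9 = true := by decide +kernel
theorem p4u932 : ∀ k, 61380 ≤ k → k < 69777 → pointOk (k * 22) = true := between_extend pointOk 22 61380 69768 9 (p4u931) p4r932

theorem p4r933 : allRange pointOk 22 69777 9 = true := by decide +kernel
theorem p4u933 : ∀ k, 61380 ≤ k → k < 69786 → pointOk (k * 22) = true := between_extend pointOk 22 61380 69777 9 (p4u932) p4r933

theorem p4r934 : allRange pointOk 22 69786 9 = true := by decide +kernel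
theorem p4u934 : ∀ k, 61380 ≤ k → k < 69795 → pointOk (k * 22) = true := between_extend pointOk 22 61380 69786 9 (p4u933) p4r934

theorem p4r935 : allRange pointOk 22 69795 9 = true := by decide +kernel
theorem p4u935 : ∀ k, 61380 ≤ k → k < 69804 → pointOk (k * 22) = true := between_extend pointOk 22 61380 69795 9 (p4u934) p4r935

theorem p4r936 : allRange pointOk 22 69804 9 = true := by decide +kernel
theorem p4u936 : ∀ k, 61380 ≤ k → k < 69813 → pointOk (k * 22) = true := between_extend pointOk 22 61380 69804 9 (p4u935) p4r936

theorem p4r937 : allRange pointOk 22 69813 9 = true := by decide +kernel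
theorem p4u937 : ∀ k, 61380 ≤ k → k < 69822 → pointOk (k * 22) = true := between_extend pointOk 22 61380 69813 9 (p4u936) p4r937

theorem p4r938 : allRange pointOk 22 69822 9 = true := by decide +kernel
theorem p4u938 : ∀ k, 61380 ≤ k → k < 69831 → pointOk (k * 22) = true := between_extend pointOk 22 61380 69822 9 (p4u937) p4r938

theorem p4r939 : allRange pointOk 22 69831 9 = true := by decide +kernel
theorem p4u939 : ∀ k, 61380 ≤ k → k < 69840 → pointOk (k * 22) = true := between_extend pointOk 22 61380 69831 9 (p4u938) p4r939

theorem p4r940 : allRange pointOk 22 69840 9 = true := by decide +kernel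
theorem p4u940 : ∀ k, 61380 ≤ k → k < 69849 → pointOk (k * 22) = true := between_extend pointOk 22 61380 69840 9 (p4u939) p4r940

theorem p4r941 : allRange pointOk 22 69849 9 = true := by decide +kernel
theorem p4u941 : ∀ k, 61380 ≤ k → k < 69858 → pointOk (k * 22) = true := between_extend pointOk 22 61380 69849 9 (p4u940) p4r941

theorem p4r942 : allRange pointOk 22 69858 9 = true := by decide +kernel
theorem p4u942 : ∀ k, 61380 ≤ k → k < 69867 → pointOk (k * 22) = true := between_extend pointOk 22 61380 69858 9 (p4u941) p4r942

theorem p4r943 : allRange pointOk 22 69867 9 = true := by decide +kernel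
theorem p4u943 : ∀ k, 61380 ≤ k → k < 69876 → pointOk (k * 22) = true := between_extend pointOk 22 61380 69867 9 (p4u942) p4r943

theorem p4r944 : allRange pointOk 22 69876 9 = true := by decide +kernel
theorem p4u944 : ∀ k, 61380 ≤ k → k < 69885 → pointOk (k * 22) = true := between_extend pointOk 22 61380 69876 9 (p4u943) p4r944

theorem p4r945 : allRange pointOk 22 69885 9 = true := by decide +kernel
theorem p4u945 : ∀ k, 61380 ≤ k → k < 69894 → pointOk (k * 22) = true := between_extend pointOk 22 61380 69885 9 (p4u944) p4r945

theorem p4r946 : allRange pointOk 22 69894 9 = true := by decide +kernel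
theorem p4u946 : ∀ k, 61380 ≤ k → k < 69903 → pointOk (k * 22) = true := between_extend pointOk 22 61380 69894 9 (p4u945) p4r946

theorem p4r947 : allRange pointOk 22 69903 9 = true := by decide +kernel
theorem p4u947 : ∀ k, 61380 ≤ k → k < 69912 → pointOk (k * 22) = true := between_extend pointOk 22 61380 69903 9 (p4u946) p4r947

theorem p4r948 : allRange pointOk 22 69912 9 = true := by decide +kernel
theorem p4u948 : ∀ k, 61380 ≤ k → k < 69921 → pointOk (k * 22) = true := between_extend pointOk 22 61380 69912 9 (p4u947) p4r948

theorem p4r949 : allRange pointOk 22 69921 9 = true := by decide +kernel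
theorem p4u949 : ∀ k, 61380 ≤ k → k < 69930 → pointOk (k * 22) = true := between_extend pointOk 22 61380 69921 9 (p4u948) p4r949

theorem p4r950 : allRange pointOk 22 69930 9 = true := by decide +kernel
theorem p4u950 : ∀ k, 61380 ≤ k → k < 69939 → pointOk (k * 22) = true := between_extend pointOk 22 61380 69930 9 (p4u949) p4r950

theorem p4r951 : allRange pointOk 22 69939 9 = true := by decide +kernel
theorem p4u951 : ∀ k, 61380 ≤ k → k < 69948 → pointOk (k * 22) = true := between_extend pointOk 22 61380 69939 9 (p4u950) p4r951

theorem p4r952 : allRange pointOk 22 69948 9 = true := by decide +kernel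
theorem p4u952 : ∀ k, 61380 ≤ k → k < 69957 → pointOk (k * 22) = true := between_extend pointOk 22 61380 69948 9 (p4u951) p4r952

theorem p4r953 : allRange pointOk 22 69957 9 = true := by decide +kernel
theorem p4u953 : ∀ k, 61380 ≤ k → k < 69966 → pointOk (k * 22) = true := between_extend pointOk 22 61380 69957 9 (p4u952) p4r953

theorem p4r954 : allRange pointOk 22 69966 9 = true := by decide +kernel
theorem p4u954 : ∀ k, 61380 ≤ k → k < 69975 → pointOk (k * 22) = true := between_extend pointOk 22 61380 69966 9 (p4u953) p4r954

theorem p4r955 : allRange pointOk 22 69975 9 = true := by decide +kernel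
theorem p4u955 : ∀ k, 61380 ≤ k → k < 69984 → pointOk (k * 22) = true := between_extend pointOk 22 61380 69975 9 (p4u954) p4r955

theorem p4r956 : allRange pointOk 22 69984 9 = true := by decide +kernel
theorem p4u956 : ∀ k, 61380 ≤ k → k < 69993 → pointOk (k * 22) = true := between_extend pointOk 22 61380 69984 9 (p4u955) p4r956

theorem p4r957 : allRange pointOk 22 69993 9 = true := by decide +kernel
theorem p4u957 : ∀ k, 61380 ≤ k → k < 70002 → pointOk (k * 22) = true := between_extend pointOk 22 61380 69993 9 (p4u956) p4r957

theorem p4r958 : allRange pointOk 22 70002 9 = true := by decide +kernel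
theorem p4u958 : ∀ k, 61380 ≤ k → k < 70011 → pointOk (k * 22) = true := between_extend pointOk 22 61380 70002 9 (p4u957) p4r958

theorem p4r959 : allRange pointOk 22 70011 9 = true := by decide +kernel
theorem p4u959 : ∀ k, 61380 ≤ k → k < 70020 → pointOk (k * 22) = true := between_extend pointOk 22 61380 70011 9 (p4u958) p4r959

theorem p4r960 : allRange pointOk 22 70020 9 = true := by decide +kernel
theorem p4u960 : ∀ k, 61380 ≤ k → k < 70029 → pointOk (k * 22) = true := between_extend pointOk 22 61380 70020 9 (p4u959) p4r960

theorem p4r961 : allRange pointOk 22 70029 9 = true := by decide +kernel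
theorem p4u961 : ∀ k, 61380 ≤ k → k < 70038 → pointOk (k * 22) = true := between_extend pointOk 22 61380 70029 9 (p4u960) p4r961

theorem p4r962 : allRange pointOk 22 70038 9 = true := by decide +kernel
theorem p4u962 : ∀ k, 61380 ≤ k → k < 70047 → pointOk (k * 22) = true := between_extend pointOk 22 61380 70038 9 (p4u961) p4r962

theorem p4r963 : allRange pointOk 22 70047 9 = true := by decide +kernel
theorem p4u963 : ∀ k, 61380 ≤ k → k < 70056 → pointOk (k * 22) = true := between_extend pointOk 22 61380 70047 9 (p4u962) p4r963

theorem p4r964 : allRange pointOk 22 70056 9 = true := by decide +kernel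
theorem p4u964 : ∀ k, 61380 ≤ k → k < 70065 → pointOk (k * 22) = true := between_extend pointOk 22 61380 70056 9 (p4u963) p4r964

theorem p4r965 : allRange pointOk 22 70065 9 = true := by decide +kernel
theorem p4u965 : ∀ k, 61380 ≤ k → k < 70074 → pointOk (k * 22) = true := between_extend pointOk 22 61380 70065 9 (p4u964) p4r965

theorem p4r966 : allRange pointOk 22 70074 9 = true := by decide +kernel
theorem p4u966 : ∀ k, 61380 ≤ k → k < 70083 → pointOk (k * 22) = true := between_extend pointOk 22 61380 70074 9 (p4u965) p4r966

theorem p4r967 : allRange pointOk 22 70083 9 = true := by decide +kernel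
theorem p4u967 : ∀ k, 61380 ≤ k → k < 70092 → pointOk (k * 22) = true := between_extend pointOk 22 61380 70083 9 (p4u966) p4r967

theorem p4r968 : allRange pointOk 22 70092 9 = true := by decide +kernel
theorem p4u968 : ∀ k, 61380 ≤ k → k < 70101 → pointOk (k * 22) = true := between_extend pointOk 22 61380 70092 9 (p4u967) p4r968

theorem p4r969 : allRange pointOk 22 70101 9 = true := by decide +kernel
theorem p4u969 : ∀ k, 61380 ≤ k → k < 70110 → pointOk (k * 22) = true := between_extend pointOk 22 61380 70101 9 (p4u968) p4r969

theorem p4r970 : allRange pointOk 22 70110 9 = true := by decide +kernel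
theorem p4u970 : ∀ k, 61380 ≤ k → k < 70119 → pointOk (k * 22) = true := between_extend pointOk 22 61380 70110 9 (p4u969) p4r970

theorem p4r971 : allRange pointOk 22 70119 9 = true := by decide +kernel
theorem p4u971 : ∀ k, 61380 ≤ k → k < 70128 → pointOk (k * 22) = true := between_extend pointOk 22 61380 70119 9 (p4u970) p4r971

theorem p4r972 : allRange pointOk 22 70128 9 = true := by decide +kernel
theorem p4u972 : ∀ k, 61380 ≤ k → k < 70137 → pointOk (k * 22) = true := between_extend pointOk 22 61380 70128 9 (p4u971) p4r972

theorem p4r973 : allRange pointOk 22 70137 9 = true := by decide +kernel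
theorem p4u973 : ∀ k, 61380 ≤ k → k < 70146 → pointOk (k * 22) = true := between_extend pointOk 22 61380 70137 9 (p4u972) p4r973

theorem p4r974 : allRange pointOk 22 70146 9 = true := by decide +kernel
theorem p4u974 : ∀ k, 61380 ≤ k → k < 70155 → pointOk (k * 22) = true := between_extend pointOk 22 61380 70146 9 (p4u973) p4r974

theorem p4r975 : allRange pointOk 22 70155 9 = true := by decide +kernel
theorem p4u975 : ∀ k, 61380 ≤ k → k < 70164 → pointOk (k * 22) = true := between_extend pointOk 22 61380 70155 9 (p4u974) p4r975

theorem p4r976 : allRange pointOk 22 70164 9 = true := by decide +kernel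
theorem p4u976 : ∀ k, 61380 ≤ k → k < 70173 → pointOk (k * 22) = true := between_extend pointOk 22 61380 70164 9 (p4u975) p4r976

theorem p4r977 : allRange pointOk 22 70173 9 = true := by decide +kernel
theorem p4u977 : ∀ k, 61380 ≤ k → k < 70182 → pointOk (k * 22) = true := between_extend pointOk 22 61380 70173 9 (p4u976) p4r977

theorem p4r978 : allRange pointOk 22 70182 9 = true := by decide +kernel
theorem p4u978 : ∀ k, 61380 ≤ k → k < 70191 → pointOk (k * 22) = true := between_extend pointOk 22 61380 70182 9 (p4u977) p4r978

theorem p4r979 : allRange pointOk 22 70191 9 = true := by decide +kernel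
theorem p4u979 : ∀ k, 61380 ≤ k → k < 70200 → pointOk (k * 22) = true := between_extend pointOk 22 61380 70191 9 (p4u978) p4r979

theorem p4r980 : allRange pointOk 22 70200 9 = true := by decide +kernel
theorem p4u980 : ∀ k, 61380 ≤ k → k < 70209 → pointOk (k * 22) = true := between_extend pointOk 22 61380 70200 9 (p4u979) p4r980

theorem p4r981 : allRange pointOk 22 70209 9 = true := by decide +kernel
theorem p4u981 : ∀ k, 61380 ≤ k → k < 70218 → pointOk (k * 22) = true := between_extend pointOk 22 61380 70209 9 (p4u980) p4r981

theorem p4r982 : allRange pointOk 22 70218 9 = true := by decide +kernel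
theorem p4u982 : ∀ k, 61380 ≤ k → k < 70227 → pointOk (k * 22) = true := between_extend pointOk 22 61380 70218 9 (p4u981) p4r982

theorem p4r983 : allRange pointOk 22 70227 9 = true := by decide +kernel
theorem p4u983 : ∀ k, 61380 ≤ k → k < 70236 → pointOk (k * 22) = true := between_extend pointOk 22 61380 70227 9 (p4u982) p4r983

theorem p4r984 : allRange pointOk 22 70236 9 = true := by decide +kernel
theorem p4u984 : ∀ k, 61380 ≤ k → k < 70245 → pointOk (k * 22) = true := between_extend pointOk 22 61380 70236 9 (p4u983) p4r984

theorem p4r985 : allRange pointOk 22 70245 9 = true := by decide +kernel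
theorem p4u985 : ∀ k, 61380 ≤ k → k < 70254 → pointOk (k * 22) = true := between_extend pointOk 22 61380 70245 9 (p4u984) p4r985

theorem p4r986 : allRange pointOk 22 70254 9 = true := by decide +kernel
theorem p4u986 : ∀ k, 61380 ≤ k → k < 70263 → pointOk (k * 22) = true := between_extend pointOk 22 61380 70254 9 (p4u985) p4r986

theorem p4r987 : allRange pointOk 22 70263 9 = true := by decide +kernel
theorem p4u987 : ∀ k, 61380 ≤ k → k < 70272 → pointOk (k * 22) = true := between_extend pointOk 22 61380 70263 9 (p4u986) p4r987

theorem p4r988 : allRange pointOk 22 70272 9 = true := by decide +kernel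
theorem p4u988 : ∀ k, 61380 ≤ k → k < 70281 → pointOk (k * 22) = true := between_extend pointOk 22 61380 70272 9 (p4u987) p4r988

theorem p4r989 : allRange pointOk 22 70281 9 = true := by decide +kernel
theorem p4u989 : ∀ k, 61380 ≤ k → k < 70290 → pointOk (k * 22) = true := between_extend pointOk 22 61380 70281 9 (p4u988) p4r989

theorem p4r990 : allRange pointOk 22 70290 9 = true := by decide +kernel
theorem p4u990 : ∀ k, 61380 ≤ k → k < 70299 → pointOk (k * 22) = true := between_extend pointOk 22 61380 70290 9 (p4u989) p4r990

theorem p4r991 : allRange pointOk 22 70299 9 = true := by decide +kernel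
theorem p4u991 : ∀ k, 61380 ≤ k → k < 70308 → pointOk (k * 22) = true := between_extend pointOk 22 61380 70299 9 (p4u990) p4r991

theorem p4r992 : allRange pointOk 22 70308 9 = true := by decide +kernel
theorem p4u992 : ∀ k, 61380 ≤ k → k < 70317 → pointOk (k * 22) = true := between_extend pointOk 22 61380 70308 9 (p4u991) p4r992

theorem p4r993 : allRange pointOk 22 70317 9 = true := by decide +kernel
theorem p4u993 : ∀ k, 61380 ≤ k → k < 70326 → pointOk (k * 22) = true := between_extend pointOk 22 61380 70317 9 (p4u992) p4r993

theorem p4r994 : allRange pointOk 22 70326 9 = true := by decide +kernel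
theorem p4u994 : ∀ k, 61380 ≤ k → k < 70335 → pointOk (k * 22) = true := between_extend pointOk 22 61380 70326 9 (p4u993) p4r994

theorem p4r995 : allRange pointOk 22 70335 9 = true := by decide +kernel
theorem p4u995 : ∀ k, 61380 ≤ k → k < 70344 → pointOk (k * 22) = true := between_extend pointOk 22 61380 70335 9 (p4u994) p4r995

theorem p4r996 : allRange pointOk 22 70344 9 = true := by decide +kernel
theorem p4u996 : ∀ k, 61380 ≤ k → k < 70353 → pointOk (k * 22) = true := between_extend pointOk 22 61380 70344 9 (p4u995) p4r996

theorem p4r997 : allRange pointOk 22 70353 9 = true := by decide +kernel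
theorem p4u997 : ∀ k, 61380 ≤ k → k < 70362 → pointOk (k * 22) = true := between_extend pointOk 22 61380 70353 9 (p4u996) p4r997

theorem p4r998 : allRange pointOk 22 70362 9 = true := by decide +kernel
theorem p4u998 : ∀ k, 61380 ≤ k → k < 70371 → pointOk (k * 22) = true := between_extend pointOk 22 61380 70362 9 (p4u997) p4r998

theorem p4r999 : allRange pointOk 22 70371 9 = true := by decide +kernel
theorem p4u999 : ∀ k, 61380 ≤ k → k < 70380 → pointOk (k * 22) = true := between_extend pointOk 22 61380 70371 9 (p4u998) p4r999

theorem p4r1000 : allRange pointOk 22 70380 9 = true := by decide +kernel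
theorem p4u1000 : ∀ k, 61380 ≤ k → k < 70389 → pointOk (k * 22) = true := between_extend pointOk 22 61380 70380 9 (p4u999) p4r1000

theorem p4r1001 : allRange pointOk 22 70389 9 = true := by decide +kernel
theorem p4u1001 : ∀ k, 61380 ≤ k → k < 70398 → pointOk (k * 22) = true := between_extend pointOk 22 61380 70389 9 (p4u1000) p4r1001

theorem p4r1002 : allRange pointOk 22 70398 9 = true := by decide +kernel
theorem p4u1002 : ∀ k, 61380 ≤ k → k < 70407 → pointOk (k * 22) = true := between_extend pointOk 22 61380 70398 9 (p4u1001) p4r1002

theorem p4r1003 : allRange pointOk 22 70407 9 = true := by decide +kernel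
theorem p4u1003 : ∀ k, 61380 ≤ k → k < 70416 → pointOk (k * 22) = true := between_extend pointOk 22 61380 70407 9 (p4u1002) p4r1003

theorem p4r1004 : allRange pointOk 22 70416 9 = true := by decide +kernel
theorem p4u1004 : ∀ k, 61380 ≤ k → k < 70425 → pointOk (k * 22) = true := between_extend pointOk 22 61380 70416 9 (p4u1003) p4r1004

theorem p4r1005 : allRange pointOk 22 70425 9 = true := by decide +kernel
theorem p4u1005 : ∀ k, 61380 ≤ k → k < 70434 → pointOk (k * 22) = true := between_extend pointOk 22 61380 70425 9 (p4u1004) p4r1005

theorem p4r1006 : allRange pointOk 22 70434 9 = true := by decide +kernel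
theorem p4u1006 : ∀ k, 61380 ≤ k → k < 70443 → pointOk (k * 22) = true := between_extend pointOk 22 61380 70434 9 (p4u1005) p4r1006

theorem p4r1007 : allRange pointOk 22 70443 9 = true := by decide +kernel
theorem p4u1007 : ∀ k, 61380 ≤ k → k < 70452 → pointOk (k * 22) = true := between_extend pointOk 22 61380 70443 9 (p4u1006) p4r1007

theorem p4r1008 : allRange pointOk 22 70452 9 = true := by decide +kernel
theorem p4u1008 : ∀ k, 61380 ≤ k → k < 70461 → pointOk (k * 22) = true := between_extend pointOk 22 61380 70452 9 (p4u1007) p4r1008

theorem p4r1009 : allRange pointOk 22 70461 9 = true := by decide +kernel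
theorem p4u1009 : ∀ k, 61380 ≤ k → k < 70470 → pointOk (k * 22) = true := between_extend pointOk 22 61380 70461 9 (p4u1008) p4r1009

theorem p4r1010 : allRange pointOk 22 70470 9 = true := by decide +kernel
theorem p4u1010 : ∀ k, 61380 ≤ k → k < 70479 → pointOk (k * 22) = true := between_extend pointOk 22 61380 70470 9 (p4u1009) p4r1010

theorem p4r1011 : allRange pointOk 22 70479 9 = true := by decide +kernel
theorem p4u1011 : ∀ k, 61380 ≤ k → k < 70488 → pointOk (k * 22) = true := between_extend pointOk 22 61380 70479 9 (p4u1010) p4r1011

theorem p4r1012 : allRange pointOk 22 70488 9 = true := by decide +kernel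
theorem p4u1012 : ∀ k, 61380 ≤ k → k < 70497 → pointOk (k * 22) = true := between_extend pointOk 22 61380 70488 9 (p4u1011) p4r1012

theorem p4r1013 : allRange pointOk 22 70497 9 = true := by decide +kernel
theorem p4u1013 : ∀ k, 61380 ≤ k → k < 70506 → pointOk (k * 22) = true := between_extend pointOk 22 61380 70497 9 (p4u1012) p4r1013

theorem p4r1014 : allRange pointOk 22 70506 9 = true := by decide +kernel
theorem p4u1014 : ∀ k, 61380 ≤ k → k < 70515 → pointOk (k * 22) = true := between_extend pointOk 22 61380 70506 9 (p4u1013) p4r1014

theorem p4r1015 : allRange pointOk 22 70515 9 = true := by decide +kernel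
theorem p4u1015 : ∀ k, 61380 ≤ k → k < 70524 → pointOk (k * 22) = true := between_extend pointOk 22 61380 70515 9 (p4u1014) p4r1015

theorem p4r1016 : allRange pointOk 22 70524 9 = true := by decide +kernel
theorem p4u1016 : ∀ k, 61380 ≤ k → k < 70533 → pointOk (k * 22) = true := between_extend pointOk 22 61380 70524 9 (p4u1015) p4r1016

theorem p4r1017 : allRange pointOk 22 70533 9 = true := by decide +kernel
theorem p4u1017 : ∀ k, 61380 ≤ k → k < 70542 → pointOk (k * 22) = true := between_extend pointOk 22 61380 70533 9 (p4u1016) p4r1017

theorem p4r1018 : allRange pointOk 22 70542 9 = true := by decide +kernel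
theorem p4u1018 : ∀ k, 61380 ≤ k → k < 70551 → pointOk (k * 22) = true := between_extend pointOk 22 61380 70542 9 (p4u1017) p4r1018

theorem p4r1019 : allRange pointOk 22 70551 9 = true := by decide +kernel
theorem p4u1019 : ∀ k, 61380 ≤ k → k < 70560 → pointOk (k * 22) = true := between_extend pointOk 22 61380 70551 9 (p4u1018) p4r1019

theorem p4r1020 : allRange pointOk 22 70560 9 = true := by decide +kernel
theorem p4u1020 : ∀ k, 61380 ≤ k → k < 70569 → pointOk (k * 22) = true := between_extend pointOk 22 61380 70560 9 (p4u1019) p4r1020

theorem p4r1021 : allRange pointOk 22 70569 9 = true := by decide +kernel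
theorem p4u1021 : ∀ k, 61380 ≤ k → k < 70578 → pointOk (k * 22) = true := between_extend pointOk 22 61380 70569 9 (p4u1020) p4r1021

theorem p4r1022 : allRange pointOk 22 70578 9 = true := by decide +kernel
theorem p4u1022 : ∀ k, 61380 ≤ k → k < 70587 → pointOk (k * 22) = true := between_extend pointOk 22 61380 70578 9 (p4u1021) p4r1022

theorem p4r1023 : allRange pointOk 22 70587 9 = true := by decide +kernel
theorem p4u1023 : ∀ k, 61380 ≤ k → k < 70596 → pointOk (k * 22) = true := between_extend pointOk 22 61380 70587 9 (p4u1022) p4r1023

theorem p4r1024 : allRange pointOk 22 70596 9 = true := by decide +kernel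
theorem p4u1024 : ∀ k, 61380 ≤ k → k < 70605 → pointOk (k * 22) = true := between_extend pointOk 22 61380 70596 9 (p4u1023) p4r1024

theorem p4r1025 : allRange pointOk 22 70605 9 = true := by decide +kernel
theorem p4u1025 : ∀ k, 61380 ≤ k → k < 70614 → pointOk (k * 22) = true := between_extend pointOk 22 61380 70605 9 (p4u1024) p4r1025

theorem p4r1026 : allRange pointOk 22 70614 9 = true := by decide +kernel
theorem p4u1026 : ∀ k, 61380 ≤ k → k < 70623 → pointOk (k * 22) = true := between_extend pointOk 22 61380 70614 9 (p4u1025) p4r1026

theorem p4r1027 : allRange pointOk 22 70623 9 = true := by decide +kernel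
theorem p4u1027 : ∀ k, 61380 ≤ k → k < 70632 → pointOk (k * 22) = true := between_extend pointOk 22 61380 70623 9 (p4u1026) p4r1027

theorem p4r1028 : allRange pointOk 22 70632 9 = true := by decide +kernel
theorem p4u1028 : ∀ k, 61380 ≤ k → k < 70641 → pointOk (k * 22) = true := between_extend pointOk 22 61380 70632 9 (p4u1027) p4r1028

theorem p4r1029 : allRange pointOk 22 70641 9 = true := by decide +kernel
theorem p4u1029 : ∀ k, 61380 ≤ k → k < 70650 → pointOk (k * 22) = true := between_extend pointOk 22 61380 70641 9 (p4u1028) p4r1029

theorem p4r1030 : allRange pointOk 22 70650 9 = true := by decide +kernel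
theorem p4u1030 : ∀ k, 61380 ≤ k → k < 70659 → pointOk (k * 22) = true := between_extend pointOk 22 61380 70650 9 (p4u1029) p4r1030

theorem p4r1031 : allRange pointOk 22 70659 9 = true := by decide +kernel
theorem p4u1031 : ∀ k, 61380 ≤ k → k < 70668 → pointOk (k * 22) = true := between_extend pointOk 22 61380 70659 9 (p4u1030) p4r1031

theorem p4r1032 : allRange pointOk 22 70668 9 = true := by decide +kernel
theorem p4u1032 : ∀ k, 61380 ≤ k → k < 70677 → pointOk (k * 22) = true := between_extend pointOk 22 61380 70668 9 (p4u1031) p4r1032

theorem p4r1033 : allRange pointOk 22 70677 9 = true := by decide +kernel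
theorem p4u1033 : ∀ k, 61380 ≤ k → k < 70686 → pointOk (k * 22) = true := between_extend pointOk 22 61380 70677 9 (p4u1032) p4r1033

theorem p4r1034 : allRange pointOk 22 70686 9 = true := by decide +kernel
theorem p4u1034 : ∀ k, 61380 ≤ k → k < 70695 → pointOk (k * 22) = true := between_extend pointOk 22 61380 70686 9 (p4u1033) p4r1034

theorem p4r1035 : allRange pointOk 22 70695 9 = true := by decide +kernel
theorem p4u1035 : ∀ k, 61380 ≤ k → k < 70704 → pointOk (k * 22) = true := between_extend pointOk 22 61380 70695 9 (p4u1034) p4r1035

theorem p4r1036 : allRange pointOk 22 70704 9 = true := by decide +kernel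
theorem p4u1036 : ∀ k, 61380 ≤ k → k < 70713 → pointOk (k * 22) = true := between_extend pointOk 22 61380 70704 9 (p4u1035) p4r1036

theorem p4r1037 : allRange pointOk 22 70713 9 = true := by decide +kernel
theorem p4u1037 : ∀ k, 61380 ≤ k → k < 70722 → pointOk (k * 22) = true := between_extend pointOk 22 61380 70713 9 (p4u1036) p4r1037

theorem p4r1038 : allRange pointOk 22 70722 9 = true := by decide +kernel
theorem p4u1038 : ∀ k, 61380 ≤ k → k < 70731 → pointOk (k * 22) = true := between_extend pointOk 22 61380 70722 9 (p4u1037) p4r1038

theorem p4r1039 : allRange pointOk 22 70731 9 = true := by decide +kernel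
theorem p4u1039 : ∀ k, 61380 ≤ k → k < 70740 → pointOk (k * 22) = true := between_extend pointOk 22 61380 70731 9 (p4u1038) p4r1039

theorem p4r1040 : allRange pointOk 22 70740 9 = true := by decide +kernel
theorem p4u1040 : ∀ k, 61380 ≤ k → k < 70749 → pointOk (k * 22) = true := between_extend pointOk 22 61380 70740 9 (p4u1039) p4r1040

theorem p4r1041 : allRange pointOk 22 70749 9 = true := by decide +kernel
theorem p4u1041 : ∀ k, 61380 ≤ k → k < 70758 → pointOk (k * 22) = true := between_extend pointOk 22 61380 70749 9 (p4u1040) p4r1041

theorem p4r1042 : allRange pointOk 22 70758 9 = true := by decide +kernel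
theorem p4u1042 : ∀ k, 61380 ≤ k → k < 70767 → pointOk (k * 22) = true := between_extend pointOk 22 61380 70758 9 (p4u1041) p4r1042

theorem p4r1043 : allRange pointOk 22 70767 9 = true := by decide +kernel
theorem p4u1043 : ∀ k, 61380 ≤ k → k < 70776 → pointOk (k * 22) = true := between_extend pointOk 22 61380 70767 9 (p4u1042) p4r1043

theorem p4r1044 : allRange pointOk 22 70776 9 = true := by decide +kernel
theorem p4u1044 : ∀ k, 61380 ≤ k → k < 70785 → pointOk (k * 22) = true := between_extend pointOk 22 61380 70776 9 (p4u1043) p4r1044

theorem p4r1045 : allRange pointOk 22 70785 9 = true := by decide +kernel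
theorem p4u1045 : ∀ k, 61380 ≤ k → k < 70794 → pointOk (k * 22) = true := between_extend pointOk 22 61380 70785 9 (p4u1044) p4r1045

theorem p4r1046 : allRange pointOk 22 70794 9 = true := by decide +kernel
theorem p4u1046 : ∀ k, 61380 ≤ k → k < 70803 → pointOk (k * 22) = true := between_extend pointOk 22 61380 70794 9 (p4u1045) p4r1046

theorem p4r1047 : allRange pointOk 22 70803 9 = true := by decide +kernel
theorem p4u1047 : ∀ k, 61380 ≤ k → k < 70812 → pointOk (k * 22) = true := between_extend pointOk 22 61380 70803 9 (p4u1046) p4r1047

theorem p4r1048 : allRange pointOk 22 70812 9 = true := by decide +kernel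
theorem p4u1048 : ∀ k, 61380 ≤ k → k < 70821 → pointOk (k * 22) = true := between_extend pointOk 22 61380 70812 9 (p4u1047) p4r1048

theorem p4r1049 : allRange pointOk 22 70821 9 = true := by decide +kernel
theorem p4u1049 : ∀ k, 61380 ≤ k → k < 70830 → pointOk (k * 22) = true := between_extend pointOk 22 61380 70821 9 (p4u1048) p4r1049

theorem p4r1050 : allRange pointOk 22 70830 9 = true := by decide +kernel
theorem p4u1050 : ∀ k, 61380 ≤ k → k < 70839 → pointOk (k * 22) = true := between_extend pointOk 22 61380 70830 9 (p4u1049) p4r1050

theorem p4r1051 : allRange pointOk 22 70839 9 = true := by decide +kernel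
theorem p4u1051 : ∀ k, 61380 ≤ k → k < 70848 → pointOk (k * 22) = true := between_extend pointOk 22 61380 70839 9 (p4u1050) p4r1051

theorem p4r1052 : allRange pointOk 22 70848 9 = true := by decide +kernel
theorem p4u1052 : ∀ k, 61380 ≤ k → k < 70857 → pointOk (k * 22) = true := between_extend pointOk 22 61380 70848 9 (p4u1051) p4r1052

theorem p4r1053 : allRange pointOk 22 70857 9 = true := by decide +kernel
theorem p4u1053 : ∀ k, 61380 ≤ k → k < 70866 → pointOk (k * 22) = true := between_extend pointOk 22 61380 70857 9 (p4u1052) p4r1053

theorem p4r1054 : allRange pointOk 22 70866 9 = true := by decide +kernel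
theorem p4u1054 : ∀ k, 61380 ≤ k → k < 70875 → pointOk (k * 22) = true := between_extend pointOk 22 61380 70866 9 (p4u1053) p4r1054

theorem p4r1055 : allRange pointOk 22 70875 9 = true := by decide +kernel
theorem p4u1055 : ∀ k, 61380 ≤ k → k < 70884 → pointOk (k * 22) = true := between_extend pointOk 22 61380 70875 9 (p4u1054) p4r1055

theorem p4r1056 : allRange pointOk 22 70884 9 = true := by decide +kernel
theorem p4u1056 : ∀ k, 61380 ≤ k → k < 70893 → pointOk (k * 22) = true := between_extend pointOk 22 61380 70884 9 (p4u1055) p4r1056

theorem p4r1057 : allRange pointOk 22 70893 9 = true := by decide +kernel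
theorem p4u1057 : ∀ k, 61380 ≤ k → k < 70902 → pointOk (k * 22) = true := between_extend pointOk 22 61380 70893 9 (p4u1056) p4r1057

theorem p4r1058 : allRange pointOk 22 70902 9 = true := by decide +kernel
theorem p4u1058 : ∀ k, 61380 ≤ k → k < 70911 → pointOk (k * 22) = true := between_extend pointOk 22 61380 70902 9 (p4u1057) p4r1058

theorem p4r1059 : allRange pointOk 22 70911 9 = true := by decide +kernel
theorem p4u1059 : ∀ k, 61380 ≤ k → k < 70920 → pointOk (k * 22) = true := between_extend pointOk 22 61380 70911 9 (p4u1058) p4r1059

theorem p4r1060 : allRange pointOk 22 70920 9 = true := by decide +kernel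
theorem p4u1060 : ∀ k, 61380 ≤ k → k < 70929 → pointOk (k * 22) = true := between_extend pointOk 22 61380 70920 9 (p4u1059) p4r1060

theorem p4r1061 : allRange pointOk 22 70929 9 = true := by decide +kernel
theorem p4u1061 : ∀ k, 61380 ≤ k → k < 70938 → pointOk (k * 22) = true := between_extend pointOk 22 61380 70929 9 (p4u1060) p4r1061

theorem p4r1062 : allRange pointOk 22 70938 9 = true := by decide +kernel
theorem p4u1062 : ∀ k, 61380 ≤ k → k < 70947 → pointOk (k * 22) = true := between_extend pointOk 22 61380 70938 9 (p4u1061) p4r1062

theorem p4r1063 : allRange pointOk 22 70947 9 = true := by decide +kernel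
theorem p4u1063 : ∀ k, 61380 ≤ k → k < 70956 → pointOk (k * 22) = true := between_extend pointOk 22 61380 70947 9 (p4u1062) p4r1063

theorem p4r1064 : allRange pointOk 22 70956 9 = true := by decide +kernel
theorem p4u1064 : ∀ k, 61380 ≤ k → k < 70965 → pointOk (k * 22) = true := between_extend pointOk 22 61380 70956 9 (p4u1063) p4r1064

theorem p4r1065 : allRange pointOk 22 70965 9 = true := by decide +kernel
theorem p4u1065 : ∀ k, 61380 ≤ k → k < 70974 → pointOk (k * 22) = true := between_extend pointOk 22 61380 70965 9 (p4u1064) p4r1065

theorem p4r1066 : allRange pointOk 22 70974 9 = true := by decide +kernel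
theorem p4u1066 : ∀ k, 61380 ≤ k → k < 70983 → pointOk (k * 22) = true := between_extend pointOk 22 61380 70974 9 (p4u1065) p4r1066

theorem p4r1067 : allRange pointOk 22 70983 9 = true := by decide +kernel
theorem p4u1067 : ∀ k, 61380 ≤ k → k < 70992 → pointOk (k * 22) = true := between_extend pointOk 22 61380 70983 9 (p4u1066) p4r1067

theorem p4r1068 : allRange pointOk 22 70992 9 = true := by decide +kernel
theorem p4u1068 : ∀ k, 61380 ≤ k → k < 71001 → pointOk (k * 22) = true := between_extend pointOk 22 61380 70992 9 (p4u1067) p4r1068

theorem p4r1069 : allRange pointOk 22 71001 9 = true := by decide +kernel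
theorem p4u1069 : ∀ k, 61380 ≤ k → k < 71010 → pointOk (k * 22) = true := between_extend pointOk 22 61380 71001 9 (p4u1068) p4r1069

theorem p4r1070 : allRange pointOk 22 71010 9 = true := by decide +kernel
theorem p4u1070 : ∀ k, 61380 ≤ k → k < 71019 → pointOk (k * 22) = true := between_extend pointOk 22 61380 71010 9 (p4u1069) p4r1070

theorem p4r1071 : allRange pointOk 22 71019 9 = true := by decide +kernel
theorem p4u1071 : ∀ k, 61380 ≤ k → k < 71028 → pointOk (k * 22) = true := between_extend pointOk 22 61380 71019 9 (p4u1070) p4r1071

theorem p4r1072 : allRange pointOk 22 71028 9 = true := by decide +kernel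
theorem p4u1072 : ∀ k, 61380 ≤ k → k < 71037 → pointOk (k * 22) = true := between_extend pointOk 22 61380 71028 9 (p4u1071) p4r1072

theorem p4r1073 : allRange pointOk 22 71037 9 = true := by decide +kernel
theorem p4u1073 : ∀ k, 61380 ≤ k → k < 71046 → pointOk (k * 22) = true := between_extend pointOk 22 61380 71037 9 (p4u1072) p4r1073

theorem p4r1074 : allRange pointOk 22 71046 9 = true := by decide +kernel
theorem p4u1074 : ∀ k, 61380 ≤ k → k < 71055 → pointOk (k * 22) = true := between_extend pointOk 22 61380 71046 9 (p4u1073) p4r1074

theorem p4r1075 : allRange pointOk 22 71055 9 = true := by decide +kernel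
theorem p4u1075 : ∀ k, 61380 ≤ k → k < 71064 → pointOk (k * 22) = true := between_extend pointOk 22 61380 71055 9 (p4u1074) p4r1075

theorem p4r1076 : allRange pointOk 22 71064 9 = true := by decide +kernel
theorem p4u1076 : ∀ k, 61380 ≤ k → k < 71073 → pointOk (k * 22) = true := between_extend pointOk 22 61380 71064 9 (p4u1075) p4r1076

theorem p4r1077 : allRange pointOk 22 71073 9 = true := by decide +kernel
theorem p4u1077 : ∀ k, 61380 ≤ k → k < 71082 → pointOk (k * 22) = true := between_extend pointOk 22 61380 71073 9 (p4u1076) p4r1077

theorem p4r1078 : allRange pointOk 22 71082 9 = true := by decide +kernel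
theorem p4u1078 : ∀ k, 61380 ≤ k → k < 71091 → pointOk (k * 22) = true := between_extend pointOk 22 61380 71082 9 (p4u1077) p4r1078

theorem p4r1079 : allRange pointOk 22 71091 9 = true := by decide +kernel
theorem p4u1079 : ∀ k, 61380 ≤ k → k < 71100 → pointOk (k * 22) = true := between_extend pointOk 22 61380 71091 9 (p4u1078) p4r1079

theorem p4r1080 : allRange pointOk 22 71100 9 = true := by decide +kernel
theorem p4u1080 : ∀ k, 61380 ≤ k → k < 71109 → pointOk (k * 22) = true := between_extend pointOk 22 61380 71100 9 (p4u1079) p4r1080

theorem p4r1081 : allRange pointOk 22 71109 9 = true := by decide +kernel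
theorem p4u1081 : ∀ k, 61380 ≤ k → k < 71118 → pointOk (k * 22) = true := between_extend pointOk 22 61380 71109 9 (p4u1080) p4r1081

theorem p4r1082 : allRange pointOk 22 71118 9 = true := by decide +kernel
theorem p4u1082 : ∀ k, 61380 ≤ k → k < 71127 → pointOk (k * 22) = true := between_extend pointOk 22 61380 71118 9 (p4u1081) p4r1082

theorem p4r1083 : allRange pointOk 22 71127 9 = true := by decide +kernel
theorem p4u1083 : ∀ k, 61380 ≤ k → k < 71136 → pointOk (k * 22) = true := between_extend pointOk 22 61380 71127 9 (p4u1082) p4r1083

theorem p4r1084 : allRange pointOk 22 71136 9 = true := by decide +kernel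
theorem p4u1084 : ∀ k, 61380 ≤ k → k < 71145 → pointOk (k * 22) = true := between_extend pointOk 22 61380 71136 9 (p4u1083) p4r1084

theorem p4r1085 : allRange pointOk 22 71145 9 = true := by decide +kernel
theorem p4u1085 : ∀ k, 61380 ≤ k → k < 71154 → pointOk (k * 22) = true := between_extend pointOk 22 61380 71145 9 (p4u1084) p4r1085

theorem p4r1086 : allRange pointOk 22 71154 9 = true := by decide +kernel
theorem p4u1086 : ∀ k, 61380 ≤ k → k < 71163 → pointOk (k * 22) = true := between_extend pointOk 22 61380 71154 9 (p4u1085) p4r1086

theorem p4r1087 : allRange pointOk 22 71163 9 = true := by decide +kernel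
theorem p4u1087 : ∀ k, 61380 ≤ k → k < 71172 → pointOk (k * 22) = true := between_extend pointOk 22 61380 71163 9 (p4u1086) p4r1087

theorem p4r1088 : allRange pointOk 22 71172 9 = true := by decide +kernel
theorem p4u1088 : ∀ k, 61380 ≤ k → k < 71181 → pointOk (k * 22) = true := between_extend pointOk 22 61380 71172 9 (p4u1087) p4r1088

theorem p4r1089 : allRange pointOk 22 71181 9 = true := by decide +kernel
theorem p4u1089 : ∀ k, 61380 ≤ k → k < 71190 → pointOk (k * 22) = true := between_extend pointOk 22 61380 71181 9 (p4u1088) p4r1089

theorem p4r1090 : allRange pointOk 22 71190 9 = true := by decide +kernel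
theorem p4u1090 : ∀ k, 61380 ≤ k → k < 71199 → pointOk (k * 22) = true := between_extend pointOk 22 61380 71190 9 (p4u1089) p4r1090

theorem p4r1091 : allRange pointOk 22 71199 9 = true := by decide +kernel
theorem p4u1091 : ∀ k, 61380 ≤ k → k < 71208 → pointOk (k * 22) = true := between_extend pointOk 22 61380 71199 9 (p4u1090) p4r1091

theorem p4r1092 : allRange pointOk 22 71208 9 = true := by decide +kernel
theorem p4u1092 : ∀ k, 61380 ≤ k → k < 71217 → pointOk (k * 22) = true := between_extend pointOk 22 61380 71208 9 (p4u1091) p4r1092

theorem p4r1093 : allRange pointOk 22 71217 9 = true := by decide +kernel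
theorem p4u1093 : ∀ k, 61380 ≤ k → k < 71226 → pointOk (k * 22) = true := between_extend pointOk 22 61380 71217 9 (p4u1092) p4r1093

theorem p4r1094 : allRange pointOk 22 71226 9 = true := by decide +kernel
theorem p4u1094 : ∀ k, 61380 ≤ k → k < 71235 → pointOk (k * 22) = true := between_extend pointOk 22 61380 71226 9 (p4u1093) p4r1094

theorem p4r1095 : allRange pointOk 22 71235 9 = true := by decide +kernel
theorem p4u1095 : ∀ k, 61380 ≤ k → k < 71244 → pointOk (k * 22) = true := between_extend pointOk 22 61380 71235 9 (p4u1094) p4r1095

theorem p4r1096 : allRange pointOk 22 71244 9 = true := by decide +kernel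
theorem p4u1096 : ∀ k, 61380 ≤ k → k < 71253 → pointOk (k * 22) = true := between_extend pointOk 22 61380 71244 9 (p4u1095) p4r1096

theorem p4r1097 : allRange pointOk 22 71253 9 = true := by decide +kernel
theorem p4u1097 : ∀ k, 61380 ≤ k → k < 71262 → pointOk (k * 22) = true := between_extend pointOk 22 61380 71253 9 (p4u1096) p4r1097

theorem p4r1098 : allRange pointOk 22 71262 9 = true := by decide +kernel
theorem p4u1098 : ∀ k, 61380 ≤ k → k < 71271 → pointOk (k * 22) = true := between_extend pointOk 22 61380 71262 9 (p4u1097) p4r1098

theorem p4r1099 : allRange pointOk 22 71271 9 = true := by decide +kernel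
theorem p4u1099 : ∀ k, 61380 ≤ k → k < 71280 → pointOk (k * 22) = true := between_extend pointOk 22 61380 71271 9 (p4u1098) p4r1099

theorem p4r1100 : allRange pointOk 22 71280 9 = true := by decide +kernel
theorem p4u1100 : ∀ k, 61380 ≤ k → k < 71289 → pointOk (k * 22) = true := between_extend pointOk 22 61380 71280 9 (p4u1099) p4r1100

theorem p4r1101 : allRange pointOk 22 71289 9 = true := by decide +kernel
theorem p4u1101 : ∀ k, 61380 ≤ k → k < 71298 → pointOk (k * 22) = true := between_extend pointOk 22 61380 71289 9 (p4u1100) p4r1101

theorem p4r1102 : allRange pointOk 22 71298 9 = true := by decide +kernel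
theorem p4u1102 : ∀ k, 61380 ≤ k → k < 71307 → pointOk (k * 22) = true := between_extend pointOk 22 61380 71298 9 (p4u1101) p4r1102

theorem p4r1103 : allRange pointOk 22 71307 9 = true := by decide +kernel
theorem p4u1103 : ∀ k, 61380 ≤ k → k < 71316 → pointOk (k * 22) = true := between_extend pointOk 22 61380 71307 9 (p4u1102) p4r1103

theorem p4r1104 : allRange pointOk 22 71316 9 = true := by decide +kernel
theorem p4u1104 : ∀ k, 61380 ≤ k → k < 71325 → pointOk (k * 22) = true := between_extend pointOk 22 61380 71316 9 (p4u1103) p4r1104

theorem p4r1105 : allRange pointOk 22 71325 9 = true := by decide +kernel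
theorem p4u1105 : ∀ k, 61380 ≤ k → k < 71334 → pointOk (k * 22) = true := between_extend pointOk 22 61380 71325 9 (p4u1104) p4r1105

theorem p4r1106 : allRange pointOk 22 71334 9 = true := by decide +kernel
theorem p4u1106 : ∀ k, 61380 ≤ k → k < 71343 → pointOk (k * 22) = true := between_extend pointOk 22 61380 71334 9 (p4u1105) p4r1106

theorem p4r1107 : allRange pointOk 22 71343 9 = true := by decide +kernel
theorem p4u1107 : ∀ k, 61380 ≤ k → k < 71352 → pointOk (k * 22) = true := between_extend pointOk 22 61380 71343 9 (p4u1106) p4r1107

theorem p4r1108 : allRange pointOk 22 71352 9 = true := by decide +kernel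
theorem p4u1108 : ∀ k, 61380 ≤ k → k < 71361 → pointOk (k * 22) = true := between_extend pointOk 22 61380 71352 9 (p4u1107) p4r1108

theorem p4r1109 : allRange pointOk 22 71361 9 = true := by decide +kernel
theorem p4u1109 : ∀ k, 61380 ≤ k → k < 71370 → pointOk (k * 22) = true := between_extend pointOk 22 61380 71361 9 (p4u1108) p4r1109

theorem p4r1110 : allRange pointOk 22 71370 9 = true := by decide +kernel
theorem p4u1110 : ∀ k, 61380 ≤ k → k < 71379 → pointOk (k * 22) = true := between_extend pointOk 22 61380 71370 9 (p4u1109) p4r1110

theorem p4r1111 : allRange pointOk 22 71379 9 = true := by decide +kernel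
theorem p4u1111 : ∀ k, 61380 ≤ k → k < 71388 → pointOk (k * 22) = true := between_extend pointOk 22 61380 71379 9 (p4u1110) p4r1111

theorem p4r1112 : allRange pointOk 22 71388 9 = true := by decide +kernel
theorem p4u1112 : ∀ k, 61380 ≤ k → k < 71397 → pointOk (k * 22) = true := between_extend pointOk 22 61380 71388 9 (p4u1111) p4r1112

theorem p4r1113 : allRange pointOk 22 71397 9 = true := by decide +kernel
theorem p4u1113 : ∀ k, 61380 ≤ k → k < 71406 → pointOk (k * 22) = true := between_extend pointOk 22 61380 71397 9 (p4u1112) p4r1113

theorem p4r1114 : allRange pointOk 22 71406 9 = true := by decide +kernel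
theorem p4u1114 : ∀ k, 61380 ≤ k → k < 71415 → pointOk (k * 22) = true := between_extend pointOk 22 61380 71406 9 (p4u1113) p4r1114

theorem p4r1115 : allRange pointOk 22 71415 9 = true := by decide +kernel
theorem p4u1115 : ∀ k, 61380 ≤ k → k < 71424 → pointOk (k * 22) = true := between_extend pointOk 22 61380 71415 9 (p4u1114) p4r1115

theorem p4r1116 : allRange pointOk 22 71424 9 = true := by decide +kernel
theorem p4u1116 : ∀ k, 61380 ≤ k → k < 71433 → pointOk (k * 22) = true := between_extend pointOk 22 61380 71424 9 (p4u1115) p4r1116

theorem p4r1117 : allRange pointOk 22 71433 9 = true := by decide +kernel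
theorem p4u1117 : ∀ k, 61380 ≤ k → k < 71442 → pointOk (k * 22) = true := between_extend pointOk 22 61380 71433 9 (p4u1116) p4r1117

theorem p4r1118 : allRange pointOk 22 71442 9 = true := by decide +kernel
theorem p4u1118 : ∀ k, 61380 ≤ k → k < 71451 → pointOk (k * 22) = true := between_extend pointOk 22 61380 71442 9 (p4u1117) p4r1118

theorem p4r1119 : allRange pointOk 22 71451 9 = true := by decide +kernel
theorem p4u1119 : ∀ k, 61380 ≤ k → k < 71460 → pointOk (k * 22) = true := between_extend pointOk 22 61380 71451 9 (p4u1118) p4r1119

theorem p4r1120 : allRange pointOk 22 71460 9 = true := by decide +kernel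
theorem p4u1120 : ∀ k, 61380 ≤ k → k < 71469 → pointOk (k * 22) = true := between_extend pointOk 22 61380 71460 9 (p4u1119) p4r1120

theorem p4r1121 : allRange pointOk 22 71469 9 = true := by decide +kernel
theorem p4u1121 : ∀ k, 61380 ≤ k → k < 71478 → pointOk (k * 22) = true := between_extend pointOk 22 61380 71469 9 (p4u1120) p4r1121

theorem p4r1122 : allRange pointOk 22 71478 9 = true := by decide +kernel
theorem p4u1122 : ∀ k, 61380 ≤ k → k < 71487 → pointOk (k * 22) = true := between_extend pointOk 22 61380 71478 9 (p4u1121) p4r1122

theorem p4r1123 : allRange pointOk 22 71487 9 = true := by decide +kernel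
theorem p4u1123 : ∀ k, 61380 ≤ k → k < 71496 → pointOk (k * 22) = true := between_extend pointOk 22 61380 71487 9 (p4u1122) p4r1123

theorem p4r1124 : allRange pointOk 22 71496 9 = true := by decide +kernel
theorem p4u1124 : ∀ k, 61380 ≤ k → k < 71505 → pointOk (k * 22) = true := between_extend pointOk 22 61380 71496 9 (p4u1123) p4r1124

theorem p4r1125 : allRange pointOk 22 71505 9 = true := by decide +kernel
theorem p4u1125 : ∀ k, 61380 ≤ k → k < 71514 → pointOk (k * 22) = true := between_extend pointOk 22 61380 71505 9 (p4u1124) p4r1125

theorem p4r1126 : allRange pointOk 22 71514 9 = true := by decide +kernel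
theorem p4u1126 : ∀ k, 61380 ≤ k → k < 71523 → pointOk (k * 22) = true := between_extend pointOk 22 61380 71514 9 (p4u1125) p4r1126

theorem p4r1127 : allRange pointOk 22 71523 9 = true := by decide +kernel
theorem p4u1127 : ∀ k, 61380 ≤ k → k < 71532 → pointOk (k * 22) = true := between_extend pointOk 22 61380 71523 9 (p4u1126) p4r1127

theorem p4r1128 : allRange pointOk 22 71532 9 = true := by decide +kernel
theorem p4u1128 : ∀ k, 61380 ≤ k → k < 71541 → pointOk (k * 22) = true := between_extend pointOk 22 61380 71532 9 (p4u1127) p4r1128

theorem p4r1129 : allRange pointOk 22 71541 9 = true := by decide +kernel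
theorem p4u1129 : ∀ k, 61380 ≤ k → k < 71550 → pointOk (k * 22) = true := between_extend pointOk 22 61380 71541 9 (p4u1128) p4r1129

theorem p4r1130 : allRange pointOk 22 71550 9 = true := by decide +kernel
theorem p4u1130 : ∀ k, 61380 ≤ k → k < 71559 → pointOk (k * 22) = true := between_extend pointOk 22 61380 71550 9 (p4u1129) p4r1130

theorem p4r1131 : allRange pointOk 22 71559 9 = true := by decide +kernel
theorem p4u1131 : ∀ k, 61380 ≤ k → k < 71568 → pointOk (k * 22) = true := between_extend pointOk 22 61380 71559 9 (p4u1130) p4r1131

theorem p4r1132 : allRange pointOk 22 71568 9 = true := by decide +kernel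
theorem p4u1132 : ∀ k, 61380 ≤ k → k < 71577 → pointOk (k * 22) = true := between_extend pointOk 22 61380 71568 9 (p4u1131) p4r1132

theorem p4r1133 : allRange pointOk 22 71577 9 = true := by decide +kernel
theorem p4u1133 : ∀ k, 61380 ≤ k → k < 71586 → pointOk (k * 22) = true := between_extend pointOk 22 61380 71577 9 (p4u1132) p4r1133

theorem p4r1134 : allRange pointOk 22 71586 9 = true := by decide +kernel
theorem p4u1134 : ∀ k, 61380 ≤ k → k < 71595 → pointOk (k * 22) = true := between_extend pointOk 22 61380 71586 9 (p4u1133) p4r1134

theorem p4r1135 : allRange pointOk 22 71595 9 = true := by decide +kernel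
theorem p4u1135 : ∀ k, 61380 ≤ k → k < 71604 → pointOk (k * 22) = true := between_extend pointOk 22 61380 71595 9 (p4u1134) p4r1135

theorem p4r1136 : allRange pointOk 22 71604 9 = true := by decide +kernel
theorem p4u1136 : ∀ k, 61380 ≤ k → k < 71613 → pointOk (k * 22) = true := between_extend pointOk 22 61380 71604 9 (p4u1135) p4r1136

theorem p4r1137 : allRange pointOk 22 71613 9 = true := by decide +kernel
theorem p4u1137 : ∀ k, 61380 ≤ k → k < 71622 → pointOk (k * 22) = true := between_extend pointOk 22 61380 71613 9 (p4u1136) p4r1137

theorem p4r1138 : allRange pointOk 22 71622 9 = true := by decide +kernel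
theorem p4u1138 : ∀ k, 61380 ≤ k → k < 71631 → pointOk (k * 22) = true := between_extend pointOk 22 61380 71622 9 (p4u1137) p4r1138

theorem p4r1139 : allRange pointOk 22 71631 9 = true := by decide +kernel
theorem p4u1139 : ∀ k, 61380 ≤ k → k < 71640 → pointOk (k * 22) = true := between_extend pointOk 22 61380 71631 9 (p4u1138) p4r1139

theorem p4r1140 : allRange pointOk 22 71640 9 = true := by decide +kernel
theorem p4u1140 : ∀ k, 61380 ≤ k → k < 71649 → pointOk (k * 22) = true := between_extend pointOk 22 61380 71640 9 (p4u1139) p4r1140

theorem p4r1141 : allRange pointOk 22 71649 9 = true := by decide +kernel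
theorem p4u1141 : ∀ k, 61380 ≤ k → k < 71658 → pointOk (k * 22) = true := between_extend pointOk 22 61380 71649 9 (p4u1140) p4r1141

theorem p4r1142 : allRange pointOk 22 71658 9 = true := by decide +kernel
theorem p4u1142 : ∀ k, 61380 ≤ k → k < 71667 → pointOk (k * 22) = true := between_extend pointOk 22 61380 71658 9 (p4u1141) p4r1142

theorem p4r1143 : allRange pointOk 22 71667 9 = true := by decide +kernel
theorem p4u1143 : ∀ k, 61380 ≤ k → k < 71676 → pointOk (k * 22) = true := between_extend pointOk 22 61380 71667 9 (p4u1142) p4r1143

theorem p4r1144 : allRange pointOk 22 71676 9 = true := by decide +kernel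
theorem p4u1144 : ∀ k, 61380 ≤ k → k < 71685 → pointOk (k * 22) = true := between_extend pointOk 22 61380 71676 9 (p4u1143) p4r1144

theorem p4r1145 : allRange pointOk 22 71685 9 = true := by decide +kernel
theorem p4u1145 : ∀ k, 61380 ≤ k → k < 71694 → pointOk (k * 22) = true := between_extend pointOk 22 61380 71685 9 (p4u1144) p4r1145

theorem p4r1146 : allRange pointOk 22 71694 9 = true := by decide +kernel
theorem p4u1146 : ∀ k, 61380 ≤ k → k < 71703 → pointOk (k * 22) = true := between_extend pointOk 22 61380 71694 9 (p4u1145) p4r1146

theorem p4r1147 : allRange pointOk 22 71703 9 = true := by decide +kernel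
theorem p4u1147 : ∀ k, 61380 ≤ k → k < 71712 → pointOk (k * 22) = true := between_extend pointOk 22 61380 71703 9 (p4u1146) p4r1147

theorem p4r1148 : allRange pointOk 22 71712 9 = true := by decide +kernel
theorem p4u1148 : ∀ k, 61380 ≤ k → k < 71721 → pointOk (k * 22) = true := between_extend pointOk 22 61380 71712 9 (p4u1147) p4r1148

theorem p4r1149 : allRange pointOk 22 71721 9 = true := by decide +kernel
theorem p4u1149 : ∀ k, 61380 ≤ k → k < 71730 → pointOk (k * 22) = true := between_extend pointOk 22 61380 71721 9 (p4u1148) p4r1149

theorem p4r1150 : allRange pointOk 22 71730 9 = true := by decide +kernel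
theorem p4u1150 : ∀ k, 61380 ≤ k → k < 71739 → pointOk (k * 22) = true := between_extend pointOk 22 61380 71730 9 (p4u1149) p4r1150

theorem p4r1151 : allRange pointOk 22 71739 9 = true := by decide +kernel
theorem p4u1151 : ∀ k, 61380 ≤ k → k < 71748 → pointOk (k * 22) = true := between_extend pointOk 22 61380 71739 9 (p4u1150) p4r1151

theorem p4r1152 : allRange pointOk 22 71748 9 = true := by decide +kernel
theorem p4u1152 : ∀ k, 61380 ≤ k → k < 71757 → pointOk (k * 22) = true := between_extend pointOk 22 61380 71748 9 (p4u1151) p4r1152

theorem p4r1153 : allRange pointOk 22 71757 9 = true := by decide +kernel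
theorem p4u1153 : ∀ k, 61380 ≤ k → k < 71766 → pointOk (k * 22) = true := between_extend pointOk 22 61380 71757 9 (p4u1152) p4r1153

theorem p4r1154 : allRange pointOk 22 71766 9 = true := by decide +kernel
theorem p4u1154 : ∀ k, 61380 ≤ k → k < 71775 → pointOk (k * 22) = true := between_extend pointOk 22 61380 71766 9 (p4u1153) p4r1154

theorem p4r1155 : allRange pointOk 22 71775 9 = true := by decide +kernel
theorem p4u1155 : ∀ k, 61380 ≤ k → k < 71784 → pointOk (k * 22) = true := between_extend pointOk 22 61380 71775 9 (p4u1154) p4r1155

theorem p4r1156 : allRange pointOk 22 71784 9 = true := by decide +kernel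
theorem p4u1156 : ∀ k, 61380 ≤ k → k < 71793 → pointOk (k * 22) = true := between_extend pointOk 22 61380 71784 9 (p4u1155) p4r1156

theorem p4r1157 : allRange pointOk 22 71793 9 = true := by decide +kernel
theorem p4u1157 : ∀ k, 61380 ≤ k → k < 71802 → pointOk (k * 22) = true := between_extend pointOk 22 61380 71793 9 (p4u1156) p4r1157

theorem p4r1158 : allRange pointOk 22 71802 9 = true := by decide +kernel
theorem p4u1158 : ∀ k, 61380 ≤ k → k < 71811 → pointOk (k * 22) = true := between_extend pointOk 22 61380 71802 9 (p4u1157) p4r1158

theorem p4r1159 : allRange pointOk 22 71811 9 = true := by decide +kernel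
theorem p4u1159 : ∀ k, 61380 ≤ k → k < 71820 → pointOk (k * 22) = true := between_extend pointOk 22 61380 71811 9 (p4u1158) p4r1159

theorem p4r1160 : allRange pointOk 22 71820 9 = true := by decide +kernel
theorem p4u1160 : ∀ k, 61380 ≤ k → k < 71829 → pointOk (k * 22) = true := between_extend pointOk 22 61380 71820 9 (p4u1159) p4r1160

theorem p4r1161 : allRange pointOk 22 71829 9 = true := by decide +kernel
theorem p4u1161 : ∀ k, 61380 ≤ k → k < 71838 → pointOk (k * 22) = true := between_extend pointOk 22 61380 71829 9 (p4u1160) p4r1161

theorem p4r1162 : allRange pointOk 22 71838 9 = true := by decide +kernel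
theorem p4u1162 : ∀ k, 61380 ≤ k → k < 71847 → pointOk (k * 22) = true := between_extend pointOk 22 61380 71838 9 (p4u1161) p4r1162

theorem p4r1163 : allRange pointOk 22 71847 9 = true := by decide +kernel
theorem p4u1163 : ∀ k, 61380 ≤ k → k < 71856 → pointOk (k * 22) = true := between_extend pointOk 22 61380 71847 9 (p4u1162) p4r1163

theorem p4r1164 : allRange pointOk 22 71856 9 = true := by decide +kernel
theorem p4u1164 : ∀ k, 61380 ≤ k → k < 71865 → pointOk (k * 22) = true := between_extend pointOk 22 61380 71856 9 (p4u1163) p4r1164

theorem p4r1165 : allRange pointOk 22 71865 9 = true := by decide +kernel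
theorem p4u1165 : ∀ k, 61380 ≤ k → k < 71874 → pointOk (k * 22) = true := between_extend pointOk 22 61380 71865 9 (p4u1164) p4r1165

theorem p4r1166 : allRange pointOk 22 71874 9 = true := by decide +kernel
theorem p4u1166 : ∀ k, 61380 ≤ k → k < 71883 → pointOk (k * 22) = true := between_extend pointOk 22 61380 71874 9 (p4u1165) p4r1166

theorem p4r1167 : allRange pointOk 22 71883 9 = true := by decide +kernel
theorem p4u1167 : ∀ k, 61380 ≤ k → k < 71892 → pointOk (k * 22) = true := between_extend pointOk 22 61380 71883 9 (p4u1166) p4r1167

theorem p4r1168 : allRange pointOk 22 71892 9 = true := by decide +kernel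
theorem p4u1168 : ∀ k, 61380 ≤ k → k < 71901 → pointOk (k * 22) = true := between_extend pointOk 22 61380 71892 9 (p4u1167) p4r1168

theorem p4r1169 : allRange pointOk 22 71901 9 = true := by decide +kernel
theorem p4u1169 : ∀ k, 61380 ≤ k → k < 71910 → pointOk (k * 22) = true := between_extend pointOk 22 61380 71901 9 (p4u1168) p4r1169

theorem p4r1170 : allRange pointOk 22 71910 9 = true := by decide +kernel
theorem p4u1170 : ∀ k, 61380 ≤ k → k < 71919 → pointOk (k * 22) = true := between_extend pointOk 22 61380 71910 9 (p4u1169) p4r1170

theorem p4r1171 : allRange pointOk 22 71919 9 = true := by decide +kernel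
theorem p4u1171 : ∀ k, 61380 ≤ k → k < 71928 → pointOk (k * 22) = true := between_extend pointOk 22 61380 71919 9 (p4u1170) p4r1171

theorem p4r1172 : allRange pointOk 22 71928 9 = true := by decide +kernel
theorem p4u1172 : ∀ k, 61380 ≤ k → k < 71937 → pointOk (k * 22) = true := between_extend pointOk 22 61380 71928 9 (p4u1171) p4r1172

theorem p4r1173 : allRange pointOk 22 71937 9 = true := by decide +kernel
theorem p4u1173 : ∀ k, 61380 ≤ k → k < 71946 → pointOk (k * 22) = true := between_extend pointOk 22 61380 71937 9 (p4u1172) p4r1173

theorem p4r1174 : allRange pointOk 22 71946 9 = true := by decide +kernel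
theorem p4u1174 : ∀ k, 61380 ≤ k → k < 71955 → pointOk (k * 22) = true := between_extend pointOk 22 61380 71946 9 (p4u1173) p4r1174

theorem p4r1175 : allRange pointOk 22 71955 9 = true := by decide +kernel
theorem p4u1175 : ∀ k, 61380 ≤ k → k < 71964 → pointOk (k * 22) = true := between_extend pointOk 22 61380 71955 9 (p4u1174) p4r1175

theorem p4r1176 : allRange pointOk 22 71964 9 = true := by decide +kernel
theorem p4u1176 : ∀ k, 61380 ≤ k → k < 71973 → pointOk (k * 22) = true := between_extend pointOk 22 61380 71964 9 (p4u1175) p4r1176

theorem p4r1177 : allRange pointOk 22 71973 9 = true := by decide +kernel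
theorem p4u1177 : ∀ k, 61380 ≤ k → k < 71982 → pointOk (k * 22) = true := between_extend pointOk 22 61380 71973 9 (p4u1176) p4r1177

theorem p4r1178 : allRange pointOk 22 71982 9 = true := by decide +kernel
theorem p4u1178 : ∀ k, 61380 ≤ k → k < 71991 → pointOk (k * 22) = true := between_extend pointOk 22 61380 71982 9 (p4u1177) p4r1178

theorem p4r1179 : allRange pointOk 22 71991 9 = true := by decide +kernel
theorem p4u1179 : ∀ k, 61380 ≤ k → k < 72000 → pointOk (k * 22) = true := between_extend pointOk 22 61380 71991 9 (p4u1178) p4r1179

theorem p4r1180 : allRange pointOk 22 72000 9 = true := by decide +kernel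
theorem p4u1180 : ∀ k, 61380 ≤ k → k < 72009 → pointOk (k * 22) = true := between_extend pointOk 22 61380 72000 9 (p4u1179) p4r1180

theorem p4r1181 : allRange pointOk 22 72009 9 = true := by decide +kernel
theorem p4u1181 : ∀ k, 61380 ≤ k → k < 72018 → pointOk (k * 22) = true := between_extend pointOk 22 61380 72009 9 (p4u1180) p4r1181

theorem p4r1182 : allRange pointOk 22 72018 9 = true := by decide +kernel
theorem p4u1182 : ∀ k, 61380 ≤ k → k < 72027 → pointOk (k * 22) = true := between_extend pointOk 22 61380 72018 9 (p4u1181) p4r1182

theorem p4r1183 : allRange pointOk 22 72027 9 = true := by decide +kernel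
theorem p4u1183 : ∀ k, 61380 ≤ k → k < 72036 → pointOk (k * 22) = true := between_extend pointOk 22 61380 72027 9 (p4u1182) p4r1183

theorem p4r1184 : allRange pointOk 22 72036 9 = true := by decide +kernel
theorem p4u1184 : ∀ k, 61380 ≤ k → k < 72045 → pointOk (k * 22) = true := between_extend pointOk 22 61380 72036 9 (p4u1183) p4r1184

theorem p4r1185 : allRange pointOk 22 72045 9 = true := by decide +kernel
theorem p4u1185 : ∀ k, 61380 ≤ k → k < 72054 → pointOk (k * 22) = true := between_extend pointOk 22 61380 72045 9 (p4u1184) p4r1185

theorem p4r1186 : allRange pointOk 22 72054 9 = true := by decide +kernel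
theorem p4u1186 : ∀ k, 61380 ≤ k → k < 72063 → pointOk (k * 22) = true := between_extend pointOk 22 61380 72054 9 (p4u1185) p4r1186

theorem p4r1187 : allRange pointOk 22 72063 9 = true := by decide +kernel
theorem p4u1187 : ∀ k, 61380 ≤ k → k < 72072 → pointOk (k * 22) = true := between_extend pointOk 22 61380 72063 9 (p4u1186) p4r1187

theorem p4r1188 : allRange pointOk 22 72072 9 = true := by decide +kernel
theorem p4u1188 : ∀ k, 61380 ≤ k → k < 72081 → pointOk (k * 22) = true := between_extend pointOk 22 61380 72072 9 (p4u1187) p4r1188

theorem p4r1189 : allRange pointOk 22 72081 9 = true := by decide +kernel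
theorem p4u1189 : ∀ k, 61380 ≤ k → k < 72090 → pointOk (k * 22) = true := between_extend pointOk 22 61380 72081 9 (p4u1188) p4r1189

theorem p4r1190 : allRange pointOk 22 72090 9 = true := by decide +kernel
theorem p4u1190 : ∀ k, 61380 ≤ k → k < 72099 → pointOk (k * 22) = true := between_extend pointOk 22 61380 72090 9 (p4u1189) p4r1190

theorem p4r1191 : allRange pointOk 22 72099 9 = true := by decide +kernel
theorem p4u1191 : ∀ k, 61380 ≤ k → k < 72108 → pointOk (k * 22) = true := between_extend pointOk 22 61380 72099 9 (p4u1190) p4r1191

theorem p4r1192 : allRange pointOk 22 72108 9 = true := by decide +kernel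
theorem p4u1192 : ∀ k, 61380 ≤ k → k < 72117 → pointOk (k * 22) = true := between_extend pointOk 22 61380 72108 9 (p4u1191) p4r1192

theorem p4r1193 : allRange pointOk 22 72117 9 = true := by decide +kernel
theorem p4u1193 : ∀ k, 61380 ≤ k → k < 72126 → pointOk (k * 22) = true := between_extend pointOk 22 61380 72117 9 (p4u1192) p4r1193

theorem p4r1194 : allRange pointOk 22 72126 9 = true := by decide +kernel
theorem p4u1194 : ∀ k, 61380 ≤ k → k < 72135 → pointOk (k * 22) = true := between_extend pointOk 22 61380 72126 9 (p4u1193) p4r1194

theorem p4r1195 : allRange pointOk 22 72135 9 = true := by decide +kernel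
theorem p4u1195 : ∀ k, 61380 ≤ k → k < 72144 → pointOk (k * 22) = true := between_extend pointOk 22 61380 72135 9 (p4u1194) p4r1195

theorem p4r1196 : allRange pointOk 22 72144 9 = true := by decide +kernel
theorem p4u1196 : ∀ k, 61380 ≤ k → k < 72153 → pointOk (k * 22) = true := between_extend pointOk 22 61380 72144 9 (p4u1195) p4r1196

theorem p4r1197 : allRange pointOk 22 72153 9 = true := by decide +kernel
theorem p4u1197 : ∀ k, 61380 ≤ k → k < 72162 → pointOk (k * 22) = true := between_extend pointOk 22 61380 72153 9 (p4u1196) p4r1197

theorem p4r1198 : allRange pointOk 22 72162 9 = true := by decide +kernel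
theorem p4u1198 : ∀ k, 61380 ≤ k → k < 72171 → pointOk (k * 22) = true := between_extend pointOk 22 61380 72162 9 (p4u1197) p4r1198

theorem p4r1199 : allRange pointOk 22 72171 9 = true := by decide +kernel
theorem p4u1199 : ∀ k, 61380 ≤ k → k < 72180 → pointOk (k * 22) = true := between_extend pointOk 22 61380 72171 9 (p4u1198) p4r1199

theorem p4r1200 : allRange pointOk 22 72180 9 = true := by decide +kernel
theorem p4u1200 : ∀ k, 61380 ≤ k → k < 72189 → pointOk (k * 22) = true := between_extend pointOk 22 61380 72180 9 (p4u1199) p4r1200

theorem p4r1201 : allRange pointOk 22 72189 9 = true := by decide +kernel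
theorem p4u1201 : ∀ k, 61380 ≤ k → k < 72198 → pointOk (k * 22) = true := between_extend pointOk 22 61380 72189 9 (p4u1200) p4r1201

theorem p4r1202 : allRange pointOk 22 72198 9 = true := by decide +kernel
theorem p4u1202 : ∀ k, 61380 ≤ k → k < 72207 → pointOk (k * 22) = true := between_extend pointOk 22 61380 72198 9 (p4u1201) p4r1202

theorem p4r1203 : allRange pointOk 22 72207 9 = true := by decide +kernel
theorem p4u1203 : ∀ k, 61380 ≤ k → k < 72216 → pointOk (k * 22) = true := between_extend pointOk 22 61380 72207 9 (p4u1202) p4r1203

theorem p4r1204 : allRange pointOk 22 72216 9 = true := by decide +kernel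
theorem p4u1204 : ∀ k, 61380 ≤ k → k < 72225 → pointOk (k * 22) = true := between_extend pointOk 22 61380 72216 9 (p4u1203) p4r1204

theorem p4r1205 : allRange pointOk 22 72225 9 = true := by decide +kernel
theorem p4u1205 : ∀ k, 61380 ≤ k → k < 72234 → pointOk (k * 22) = true := between_extend pointOk 22 61380 72225 9 (p4u1204) p4r1205

theorem p4r1206 : allRange pointOk 22 72234 9 = true := by decide +kernel
theorem p4u1206 : ∀ k, 61380 ≤ k → k < 72243 → pointOk (k * 22) = true := between_extend pointOk 22 61380 72234 9 (p4u1205) p4r1206

theorem p4r1207 : allRange pointOk 22 72243 9 = true := by decide +kernel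
theorem p4u1207 : ∀ k, 61380 ≤ k → k < 72252 → pointOk (k * 22) = true := between_extend pointOk 22 61380 72243 9 (p4u1206) p4r1207

theorem p4r1208 : allRange pointOk 22 72252 9 = true := by decide +kernel
theorem p4u1208 : ∀ k, 61380 ≤ k → k < 72261 → pointOk (k * 22) = true := between_extend pointOk 22 61380 72252 9 (p4u1207) p4r1208

theorem p4r1209 : allRange pointOk 22 72261 9 = true := by decide +kernel
theorem p4u1209 : ∀ k, 61380 ≤ k → k < 72270 → pointOk (k * 22) = true := between_extend pointOk 22 61380 72261 9 (p4u1208) p4r1209

theorem p4r1210 : allRange pointOk 22 72270 9 = true := by decide +kernel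
theorem p4u1210 : ∀ k, 61380 ≤ k → k < 72279 → pointOk (k * 22) = true := between_extend pointOk 22 61380 72270 9 (p4u1209) p4r1210

theorem p4r1211 : allRange pointOk 22 72279 9 = true := by decide +kernel
theorem p4u1211 : ∀ k, 61380 ≤ k → k < 72288 → pointOk (k * 22) = true := between_extend pointOk 22 61380 72279 9 (p4u1210) p4r1211

theorem p4r1212 : allRange pointOk 22 72288 9 = true := by decide +kernel
theorem p4u1212 : ∀ k, 61380 ≤ k → k < 72297 → pointOk (k * 22) = true := between_extend pointOk 22 61380 72288 9 (p4u1211) p4r1212

theorem p4r1213 : allRange pointOk 22 72297 9 = true := by decide +kernel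
theorem p4u1213 : ∀ k, 61380 ≤ k → k < 72306 → pointOk (k * 22) = true := between_extend pointOk 22 61380 72297 9 (p4u1212) p4r1213

theorem p4r1214 : allRange pointOk 22 72306 9 = true := by decide +kernel
theorem p4u1214 : ∀ k, 61380 ≤ k → k < 72315 → pointOk (k * 22) = true := between_extend pointOk 22 61380 72306 9 (p4u1213) p4r1214

theorem p4r1215 : allRange pointOk 22 72315 9 = true := by decide +kernel
theorem p4u1215 : ∀ k, 61380 ≤ k → k < 72324 → pointOk (k * 22) = true := between_extend pointOk 22 61380 72315 9 (p4u1214) p4r1215

theorem p4r1216 : allRange pointOk 22 72324 9 = true := by decide +kernel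
theorem p4u1216 : ∀ k, 61380 ≤ k → k < 72333 → pointOk (k * 22) = true := between_extend pointOk 22 61380 72324 9 (p4u1215) p4r1216

theorem p4r1217 : allRange pointOk 22 72333 9 = true := by decide +kernel
theorem p4u1217 : ∀ k, 61380 ≤ k → k < 72342 → pointOk (k * 22) = true := between_extend pointOk 22 61380 72333 9 (p4u1216) p4r1217

theorem p4r1218 : allRange pointOk 22 72342 9 = true := by decide +kernel
theorem p4u1218 : ∀ k, 61380 ≤ k → k < 72351 → pointOk (k * 22) = true := between_extend pointOk 22 61380 72342 9 (p4u1217) p4r1218

theorem p4r1219 : allRange pointOk 22 72351 9 = true := by decide +kernel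
theorem p4u1219 : ∀ k, 61380 ≤ k → k < 72360 → pointOk (k * 22) = true := between_extend pointOk 22 61380 72351 9 (p4u1218) p4r1219

theorem p4r1220 : allRange pointOk 22 72360 9 = true := by decide +kernel
theorem p4u1220 : ∀ k, 61380 ≤ k → k < 72369 → pointOk (k * 22) = true := between_extend pointOk 22 61380 72360 9 (p4u1219) p4r1220

theorem p4r1221 : allRange pointOk 22 72369 9 = true := by decide +kernel
theorem p4u1221 : ∀ k, 61380 ≤ k → k < 72378 → pointOk (k * 22) = true := between_extend pointOk 22 61380 72369 9 (p4u1220) p4r1221

theorem p4r1222 : allRange pointOk 22 72378 9 = true := by decide +kernel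
theorem p4u1222 : ∀ k, 61380 ≤ k → k < 72387 → pointOk (k * 22) = true := between_extend pointOk 22 61380 72378 9 (p4u1221) p4r1222

theorem p4r1223 : allRange pointOk 22 72387 9 = true := by decide +kernel
theorem p4u1223 : ∀ k, 61380 ≤ k → k < 72396 → pointOk (k * 22) = true := between_extend pointOk 22 61380 72387 9 (p4u1222) p4r1223

theorem p4r1224 : allRange pointOk 22 72396 9 = true := by decide +kernel
theorem p4u1224 : ∀ k, 61380 ≤ k → k < 72405 → pointOk (k * 22) = true := between_extend pointOk 22 61380 72396 9 (p4u1223) p4r1224

theorem p4r1225 : allRange pointOk 22 72405 9 = true := by decide +kernel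
theorem p4u1225 : ∀ k, 61380 ≤ k → k < 72414 → pointOk (k * 22) = true := between_extend pointOk 22 61380 72405 9 (p4u1224) p4r1225

theorem p4r1226 : allRange pointOk 22 72414 9 = true := by decide +kernel
theorem p4u1226 : ∀ k, 61380 ≤ k → k < 72423 → pointOk (k * 22) = true := between_extend pointOk 22 61380 72414 9 (p4u1225) p4r1226

theorem p4r1227 : allRange pointOk 22 72423 9 = true := by decide +kernel
theorem p4u1227 : ∀ k, 61380 ≤ k → k < 72432 → pointOk (k * 22) = true := between_extend pointOk 22 61380 72423 9 (p4u1226) p4r1227

theorem p4r1228 : allRange pointOk 22 72432 9 = true := by decide +kernel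
theorem p4u1228 : ∀ k, 61380 ≤ k → k < 72441 → pointOk (k * 22) = true := between_extend pointOk 22 61380 72432 9 (p4u1227) p4r1228

theorem p4r1229 : allRange pointOk 22 72441 9 = true := by decide +kernel
theorem p4u1229 : ∀ k, 61380 ≤ k → k < 72450 → pointOk (k * 22) = true := between_extend pointOk 22 61380 72441 9 (p4u1228) p4r1229

theorem p4r1230 : allRange pointOk 22 72450 9 = true := by decide +kernel
theorem p4u1230 : ∀ k, 61380 ≤ k → k < 72459 → pointOk (k * 22) = true := between_extend pointOk 22 61380 72450 9 (p4u1229) p4r1230

theorem p4r1231 : allRange pointOk 22 72459 9 = true := by decide +kernel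
theorem p4u1231 : ∀ k, 61380 ≤ k → k < 72468 → pointOk (k * 22) = true := between_extend pointOk 22 61380 72459 9 (p4u1230) p4r1231

theorem p4r1232 : allRange pointOk 22 72468 9 = true := by decide +kernel
theorem p4u1232 : ∀ k, 61380 ≤ k → k < 72477 → pointOk (k * 22) = true := between_extend pointOk 22 61380 72468 9 (p4u1231) p4r1232

theorem p4r1233 : allRange pointOk 22 72477 9 = true := by decide +kernel
theorem p4u1233 : ∀ k, 61380 ≤ k → k < 72486 → pointOk (k * 22) = true := between_extend pointOk 22 61380 72477 9 (p4u1232) p4r1233

theorem p4r1234 : allRange pointOk 22 72486 9 = true := by decide +kernel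
theorem p4u1234 : ∀ k, 61380 ≤ k → k < 72495 → pointOk (k * 22) = true := between_extend pointOk 22 61380 72486 9 (p4u1233) p4r1234

theorem p4r1235 : allRange pointOk 22 72495 9 = true := by decide +kernel
theorem p4u1235 : ∀ k, 61380 ≤ k → k < 72504 → pointOk (k * 22) = true := between_extend pointOk 22 61380 72495 9 (p4u1234) p4r1235

theorem p4r1236 : allRange pointOk 22 72504 9 = true := by decide +kernel
theorem p4u1236 : ∀ k, 61380 ≤ k → k < 72513 → pointOk (k * 22) = true := between_extend pointOk 22 61380 72504 9 (p4u1235) p4r1236

theorem p4r1237 : allRange pointOk 22 72513 9 = true := by decide +kernel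
theorem p4u1237 : ∀ k, 61380 ≤ k → k < 72522 → pointOk (k * 22) = true := between_extend pointOk 22 61380 72513 9 (p4u1236) p4r1237

theorem p4r1238 : allRange pointOk 22 72522 9 = true := by decide +kernel
theorem p4u1238 : ∀ k, 61380 ≤ k → k < 72531 → pointOk (k * 22) = true := between_extend pointOk 22 61380 72522 9 (p4u1237) p4r1238

theorem p4r1239 : allRange pointOk 22 72531 9 = true := by decide +kernel
theorem p4u1239 : ∀ k, 61380 ≤ k → k < 72540 → pointOk (k * 22) = true := between_extend pointOk 22 61380 72531 9 (p4u1238) p4r1239

theorem p4r1240 : allRange pointOk 22 72540 9 = true := by decide +kernel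
theorem p4u1240 : ∀ k, 61380 ≤ k → k < 72549 → pointOk (k * 22) = true := between_extend pointOk 22 61380 72540 9 (p4u1239) p4r1240

theorem p4r1241 : allRange pointOk 22 72549 9 = true := by decide +kernel
theorem p4u1241 : ∀ k, 61380 ≤ k → k < 72558 → pointOk (k * 22) = true := between_extend pointOk 22 61380 72549 9 (p4u1240) p4r1241

theorem p4r1242 : allRange pointOk 22 72558 9 = true := by decide +kernel
theorem p4u1242 : ∀ k, 61380 ≤ k → k < 72567 → pointOk (k * 22) = true := between_extend pointOk 22 61380 72558 9 (p4u1241) p4r1242

theorem p4r1243 : allRange pointOk 22 72567 9 = true := by decide +kernel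
theorem p4u1243 : ∀ k, 61380 ≤ k → k < 72576 → pointOk (k * 22) = true := between_extend pointOk 22 61380 72567 9 (p4u1242) p4r1243

theorem p4r1244 : allRange pointOk 22 72576 9 = true := by decide +kernel
theorem p4u1244 : ∀ k, 61380 ≤ k → k < 72585 → pointOk (k * 22) = true := between_extend pointOk 22 61380 72576 9 (p4u1243) p4r1244

theorem p4r1245 : allRange pointOk 22 72585 9 = true := by decide +kernel
theorem p4u1245 : ∀ k, 61380 ≤ k → k < 72594 → pointOk (k * 22) = true := between_extend pointOk 22 61380 72585 9 (p4u1244) p4r1245

theorem p4r1246 : allRange pointOk 22 72594 9 = true := by decide +kernel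
theorem p4u1246 : ∀ k, 61380 ≤ k → k < 72603 → pointOk (k * 22) = true := between_extend pointOk 22 61380 72594 9 (p4u1245) p4r1246

theorem p4r1247 : allRange pointOk 22 72603 9 = true := by decide +kernel
theorem p4u1247 : ∀ k, 61380 ≤ k → k < 72612 → pointOk (k * 22) = true := between_extend pointOk 22 61380 72603 9 (p4u1246) p4r1247

theorem p4r1248 : allRange pointOk 22 72612 9 = true := by decide +kernel
theorem p4u1248 : ∀ k, 61380 ≤ k → k < 72621 → pointOk (k * 22) = true := between_extend pointOk 22 61380 72612 9 (p4u1247) p4r1248

theorem p4r1249 : allRange pointOk 22 72621 9 = true := by decide +kernel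
theorem p4u1249 : ∀ k, 61380 ≤ k → k < 72630 → pointOk (k * 22) = true := between_extend pointOk 22 61380 72621 9 (p4u1248) p4r1249

theorem p4r1250 : allRange pointOk 22 72630 9 = true := by decide +kernel
theorem p4u1250 : ∀ k, 61380 ≤ k → k < 72639 → pointOk (k * 22) = true := between_extend pointOk 22 61380 72630 9 (p4u1249) p4r1250

theorem p4r1251 : allRange pointOk 22 72639 9 = true := by decide +kernel
theorem p4u1251 : ∀ k, 61380 ≤ k → k < 72648 → pointOk (k * 22) = true := between_extend pointOk 22 61380 72639 9 (p4u1250) p4r1251

theorem p4r1252 : allRange pointOk 22 72648 9 = true := by decide +kernel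
theorem p4u1252 : ∀ k, 61380 ≤ k → k < 72657 → pointOk (k * 22) = true := between_extend pointOk 22 61380 72648 9 (p4u1251) p4r1252

theorem p4r1253 : allRange pointOk 22 72657 9 = true := by decide +kernel
theorem p4u1253 : ∀ k, 61380 ≤ k → k < 72666 → pointOk (k * 22) = true := between_extend pointOk 22 61380 72657 9 (p4u1252) p4r1253

theorem p4r1254 : allRange pointOk 22 72666 9 = true := by decide +kernel
theorem p4u1254 : ∀ k, 61380 ≤ k → k < 72675 → pointOk (k * 22) = true := between_extend pointOk 22 61380 72666 9 (p4u1253) p4r1254

theorem p4r1255 : allRange pointOk 22 72675 9 = true := by decide +kernel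
theorem p4u1255 : ∀ k, 61380 ≤ k → k < 72684 → pointOk (k * 22) = true := between_extend pointOk 22 61380 72675 9 (p4u1254) p4r1255

theorem p4r1256 : allRange pointOk 22 72684 9 = true := by decide +kernel
theorem p4u1256 : ∀ k, 61380 ≤ k → k < 72693 → pointOk (k * 22) = true := between_extend pointOk 22 61380 72684 9 (p4u1255) p4r1256

theorem p4r1257 : allRange pointOk 22 72693 9 = true := by decide +kernel
theorem p4u1257 : ∀ k, 61380 ≤ k → k < 72702 → pointOk (k * 22) = true := between_extend pointOk 22 61380 72693 9 (p4u1256) p4r1257

theorem p4r1258 : allRange pointOk 22 72702 9 = true := by decide +kernel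
theorem p4u1258 : ∀ k, 61380 ≤ k → k < 72711 → pointOk (k * 22) = true := between_extend pointOk 22 61380 72702 9 (p4u1257) p4r1258

theorem p4r1259 : allRange pointOk 22 72711 9 = true := by decide +kernel
theorem p4u1259 : ∀ k, 61380 ≤ k → k < 72720 → pointOk (k * 22) = true := between_extend pointOk 22 61380 72711 9 (p4u1258) p4r1259

theorem p4r1260 : allRange pointOk 22 72720 9 = true := by decide +kernel
theorem p4u1260 : ∀ k, 61380 ≤ k → k < 72729 → pointOk (k * 22) = true := between_extend pointOk 22 61380 72720 9 (p4u1259) p4r1260

theorem p4r1261 : allRange pointOk 22 72729 9 = true := by decide +kernel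
theorem p4u1261 : ∀ k, 61380 ≤ k → k < 72738 → pointOk (k * 22) = true := between_extend pointOk 22 61380 72729 9 (p4u1260) p4r1261

theorem p4r1262 : allRange pointOk 22 72738 9 = true := by decide +kernel
theorem p4u1262 : ∀ k, 61380 ≤ k → k < 72747 → pointOk (k * 22) = true := between_extend pointOk 22 61380 72738 9 (p4u1261) p4r1262

theorem p4r1263 : allRange pointOk 22 72747 9 = true := by decide +kernel
theorem p4u1263 : ∀ k, 61380 ≤ k → k < 72756 → pointOk (k * 22) = true := between_extend pointOk 22 61380 72747 9 (p4u1262) p4r1263

theorem p4r1264 : allRange pointOk 22 72756 9 = true := by decide +kernel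
theorem p4u1264 : ∀ k, 61380 ≤ k → k < 72765 → pointOk (k * 22) = true := between_extend pointOk 22 61380 72756 9 (p4u1263) p4r1264

theorem p4r1265 : allRange pointOk 22 72765 9 = true := by decide +kernel
theorem p4u1265 : ∀ k, 61380 ≤ k → k < 72774 → pointOk (k * 22) = true := between_extend pointOk 22 61380 72765 9 (p4u1264) p4r1265

theorem p4r1266 : allRange pointOk 22 72774 9 = true := by decide +kernel
theorem p4u1266 : ∀ k, 61380 ≤ k → k < 72783 → pointOk (k * 22) = true := between_extend pointOk 22 61380 72774 9 (p4u1265) p4r1266

theorem p4r1267 : allRange pointOk 22 72783 9 = true := by decide +kernel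
theorem p4u1267 : ∀ k, 61380 ≤ k → k < 72792 → pointOk (k * 22) = true := between_extend pointOk 22 61380 72783 9 (p4u1266) p4r1267

theorem p4r1268 : allRange pointOk 22 72792 9 = true := by decide +kernel
theorem p4u1268 : ∀ k, 61380 ≤ k → k < 72801 → pointOk (k * 22) = true := between_extend pointOk 22 61380 72792 9 (p4u1267) p4r1268

theorem p4r1269 : allRange pointOk 22 72801 9 = true := by decide +kernel
theorem p4u1269 : ∀ k, 61380 ≤ k → k < 72810 → pointOk (k * 22) = true := between_extend pointOk 22 61380 72801 9 (p4u1268) p4r1269

theorem p4r1270 : allRange pointOk 22 72810 9 = true := by decide +kernel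
theorem p4u1270 : ∀ k, 61380 ≤ k → k < 72819 → pointOk (k * 22) = true := between_extend pointOk 22 61380 72810 9 (p4u1269) p4r1270

theorem p4r1271 : allRange pointOk 22 72819 9 = true := by decide +kernel
theorem p4u1271 : ∀ k, 61380 ≤ k → k < 72828 → pointOk (k * 22) = true := between_extend pointOk 22 61380 72819 9 (p4u1270) p4r1271

theorem p4r1272 : allRange pointOk 22 72828 9 = true := by decide +kernel
theorem p4u1272 : ∀ k, 61380 ≤ k → k < 72837 → pointOk (k * 22) = true := between_extend pointOk 22 61380 72828 9 (p4u1271) p4r1272

theorem p4r1273 : allRange pointOk 22 72837 9 = true := by decide +kernel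
theorem p4u1273 : ∀ k, 61380 ≤ k → k < 72846 → pointOk (k * 22) = true := between_extend pointOk 22 61380 72837 9 (p4u1272) p4r1273

theorem p4r1274 : allRange pointOk 22 72846 9 = true := by decide +kernel
theorem p4u1274 : ∀ k, 61380 ≤ k → k < 72855 → pointOk (k * 22) = true := between_extend pointOk 22 61380 72846 9 (p4u1273) p4r1274

theorem p4r1275 : allRange pointOk 22 72855 9 = true := by decide +kernel
theorem p4u1275 : ∀ k, 61380 ≤ k → k < 72864 → pointOk (k * 22) = true := between_extend pointOk 22 61380 72855 9 (p4u1274) p4r1275

theorem p4r1276 : allRange pointOk 22 72864 9 = true := by decide +kernel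
theorem p4u1276 : ∀ k, 61380 ≤ k → k < 72873 → pointOk (k * 22) = true := between_extend pointOk 22 61380 72864 9 (p4u1275) p4r1276

theorem p4r1277 : allRange pointOk 22 72873 9 = true := by decide +kernel
theorem p4u1277 : ∀ k, 61380 ≤ k → k < 72882 → pointOk (k * 22) = true := between_extend pointOk 22 61380 72873 9 (p4u1276) p4r1277

theorem p4r1278 : allRange pointOk 22 72882 9 = true := by decide +kernel
theorem p4u1278 : ∀ k, 61380 ≤ k → k < 72891 → pointOk (k * 22) = true := between_extend pointOk 22 61380 72882 9 (p4u1277) p4r1278

theorem p4r1279 : allRange pointOk 22 72891 9 = true := by decide +kernel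
theorem p4u1279 : ∀ k, 61380 ≤ k → k < 72900 → pointOk (k * 22) = true := between_extend pointOk 22 61380 72891 9 (p4u1278) p4r1279

theorem p4r1280 : allRange pointOk 22 72900 9 = true := by decide +kernel
theorem p4u1280 : ∀ k, 61380 ≤ k → k < 72909 → pointOk (k * 22) = true := between_extend pointOk 22 61380 72900 9 (p4u1279) p4r1280

theorem p4r1281 : allRange pointOk 22 72909 9 = true := by decide +kernel
theorem p4u1281 : ∀ k, 61380 ≤ k → k < 72918 → pointOk (k * 22) = true := between_extend pointOk 22 61380 72909 9 (p4u1280) p4r1281

theorem p4r1282 : allRange pointOk 22 72918 9 = true := by decide +kernel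
theorem p4u1282 : ∀ k, 61380 ≤ k → k < 72927 → pointOk (k * 22) = true := between_extend pointOk 22 61380 72918 9 (p4u1281) p4r1282

theorem p4r1283 : allRange pointOk 22 72927 9 = true := by decide +kernel
theorem p4u1283 : ∀ k, 61380 ≤ k → k < 72936 → pointOk (k * 22) = true := between_extend pointOk 22 61380 72927 9 (p4u1282) p4r1283

theorem p4r1284 : allRange pointOk 22 72936 9 = true := by decide +kernel
theorem p4u1284 : ∀ k, 61380 ≤ k → k < 72945 → pointOk (k * 22) = true := between_extend pointOk 22 61380 72936 9 (p4u1283) p4r1284

theorem p4r1285 : allRange pointOk 22 72945 9 = true := by decide +kernel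
theorem p4u1285 : ∀ k, 61380 ≤ k → k < 72954 → pointOk (k * 22) = true := between_extend pointOk 22 61380 72945 9 (p4u1284) p4r1285

theorem p4r1286 : allRange pointOk 22 72954 9 = true := by decide +kernel
theorem p4u1286 : ∀ k, 61380 ≤ k → k < 72963 → pointOk (k * 22) = true := between_extend pointOk 22 61380 72954 9 (p4u1285) p4r1286

theorem p4r1287 : allRange pointOk 22 72963 9 = true := by decide +kernel
theorem p4u1287 : ∀ k, 61380 ≤ k → k < 72972 → pointOk (k * 22) = true := between_extend pointOk 22 61380 72963 9 (p4u1286) p4r1287

theorem p4r1288 : allRange pointOk 22 72972 9 = true := by decide +kernel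
theorem p4u1288 : ∀ k, 61380 ≤ k → k < 72981 → pointOk (k * 22) = true := between_extend pointOk 22 61380 72972 9 (p4u1287) p4r1288

theorem p4r1289 : allRange pointOk 22 72981 9 = true := by decide +kernel
theorem p4u1289 : ∀ k, 61380 ≤ k → k < 72990 → pointOk (k * 22) = true := between_extend pointOk 22 61380 72981 9 (p4u1288) p4r1289

theorem p4r1290 : allRange pointOk 22 72990 9 = true := by decide +kernel
theorem p4u1290 : ∀ k, 61380 ≤ k → k < 72999 → pointOk (k * 22) = true := between_extend pointOk 22 61380 72990 9 (p4u1289) p4r1290

theorem p4r1291 : allRange pointOk 22 72999 9 = true := by decide +kernel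
theorem p4u1291 : ∀ k, 61380 ≤ k → k < 73008 → pointOk (k * 22) = true := between_extend pointOk 22 61380 72999 9 (p4u1290) p4r1291

theorem p4r1292 : allRange pointOk 22 73008 9 = true := by decide +kernel
theorem p4u1292 : ∀ k, 61380 ≤ k → k < 73017 → pointOk (k * 22) = true := between_extend pointOk 22 61380 73008 9 (p4u1291) p4r1292

theorem p4r1293 : allRange pointOk 22 73017 9 = true := by decide +kernel
theorem p4u1293 : ∀ k, 61380 ≤ k → k < 73026 → pointOk (k * 22) = true := between_extend pointOk 22 61380 73017 9 (p4u1292) p4r1293

theorem p4r1294 : allRange pointOk 22 73026 9 = true := by decide +kernel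
theorem p4u1294 : ∀ k, 61380 ≤ k → k < 73035 → pointOk (k * 22) = true := between_extend pointOk 22 61380 73026 9 (p4u1293) p4r1294

theorem p4r1295 : allRange pointOk 22 73035 9 = true := by decide +kernel
theorem p4u1295 : ∀ k, 61380 ≤ k → k < 73044 → pointOk (k * 22) = true := between_extend pointOk 22 61380 73035 9 (p4u1294) p4r1295

theorem p4r1296 : allRange pointOk 22 73044 9 = true := by decide +kernel
theorem p4u1296 : ∀ k, 61380 ≤ k → k < 73053 → pointOk (k * 22) = true := between_extend pointOk 22 61380 73044 9 (p4u1295) p4r1296

theorem p4r1297 : allRange pointOk 22 73053 9 = true := by decide +kernel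
theorem p4u1297 : ∀ k, 61380 ≤ k → k < 73062 → pointOk (k * 22) = true := between_extend pointOk 22 61380 73053 9 (p4u1296) p4r1297

theorem p4r1298 : allRange pointOk 22 73062 9 = true := by decide +kernel
theorem p4u1298 : ∀ k, 61380 ≤ k → k < 73071 → pointOk (k * 22) = true := between_extend pointOk 22 61380 73062 9 (p4u1297) p4r1298

theorem p4r1299 : allRange pointOk 22 73071 9 = true := by decide +kernel
theorem p4u1299 : ∀ k, 61380 ≤ k → k < 73080 → pointOk (k * 22) = true := between_extend pointOk 22 61380 73071 9 (p4u1298) p4r1299

theorem p4r1300 : allRange pointOk 22 73080 9 = true := by decide +kernel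
theorem p4u1300 : ∀ k, 61380 ≤ k → k < 73089 → pointOk (k * 22) = true := between_extend pointOk 22 61380 73080 9 (p4u1299) p4r1300

theorem p4r1301 : allRange pointOk 22 73089 9 = true := by decide +kernel
theorem p4u1301 : ∀ k, 61380 ≤ k → k < 73098 → pointOk (k * 22) = true := between_extend pointOk 22 61380 73089 9 (p4u1300) p4r1301

theorem p4r1302 : allRange pointOk 22 73098 9 = true := by decide +kernel
theorem p4u1302 : ∀ k, 61380 ≤ k → k < 73107 → pointOk (k * 22) = true := between_extend pointOk 22 61380 73098 9 (p4u1301) p4r1302

theorem p4r1303 : allRange pointOk 22 73107 9 = true := by decide +kernel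
theorem p4u1303 : ∀ k, 61380 ≤ k → k < 73116 → pointOk (k * 22) = true := between_extend pointOk 22 61380 73107 9 (p4u1302) p4r1303

theorem p4r1304 : allRange pointOk 22 73116 9 = true := by decide +kernel
theorem p4u1304 : ∀ k, 61380 ≤ k → k < 73125 → pointOk (k * 22) = true := between_extend pointOk 22 61380 73116 9 (p4u1303) p4r1304

theorem p4r1305 : allRange pointOk 22 73125 9 = true := by decide +kernel
theorem p4u1305 : ∀ k, 61380 ≤ k → k < 73134 → pointOk (k * 22) = true := between_extend pointOk 22 61380 73125 9 (p4u1304) p4r1305

theorem p4r1306 : allRange pointOk 22 73134 9 = true := by decide +kernel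
theorem p4u1306 : ∀ k, 61380 ≤ k → k < 73143 → pointOk (k * 22) = true := between_extend pointOk 22 61380 73134 9 (p4u1305) p4r1306

theorem p4r1307 : allRange pointOk 22 73143 9 = true := by decide +kernel
theorem p4u1307 : ∀ k, 61380 ≤ k → k < 73152 → pointOk (k * 22) = true := between_extend pointOk 22 61380 73143 9 (p4u1306) p4r1307

theorem p4r1308 : allRange pointOk 22 73152 9 = true := by decide +kernel
theorem p4u1308 : ∀ k, 61380 ≤ k → k < 73161 → pointOk (k * 22) = true := between_extend pointOk 22 61380 73152 9 (p4u1307) p4r1308

theorem p4r1309 : allRange pointOk 22 73161 9 = true := by decide +kernel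
theorem p4u1309 : ∀ k, 61380 ≤ k → k < 73170 → pointOk (k * 22) = true := between_extend pointOk 22 61380 73161 9 (p4u1308) p4r1309

theorem p4r1310 : allRange pointOk 22 73170 9 = true := by decide +kernel
theorem p4u1310 : ∀ k, 61380 ≤ k → k < 73179 → pointOk (k * 22) = true := between_extend pointOk 22 61380 73170 9 (p4u1309) p4r1310

theorem p4r1311 : allRange pointOk 22 73179 9 = true := by decide +kernel
theorem p4u1311 : ∀ k, 61380 ≤ k → k < 73188 → pointOk (k * 22) = true := between_extend pointOk 22 61380 73179 9 (p4u1310) p4r1311

theorem p4r1312 : allRange pointOk 22 73188 9 = true := by decide +kernel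
theorem p4u1312 : ∀ k, 61380 ≤ k → k < 73197 → pointOk (k * 22) = true := between_extend pointOk 22 61380 73188 9 (p4u1311) p4r1312

theorem p4r1313 : allRange pointOk 22 73197 9 = true := by decide +kernel
theorem p4u1313 : ∀ k, 61380 ≤ k → k < 73206 → pointOk (k * 22) = true := between_extend pointOk 22 61380 73197 9 (p4u1312) p4r1313

theorem p4r1314 : allRange pointOk 22 73206 9 = true := by decide +kernel
theorem p4u1314 : ∀ k, 61380 ≤ k → k < 73215 → pointOk (k * 22) = true := between_extend pointOk 22 61380 73206 9 (p4u1313) p4r1314

theorem p4r1315 : allRange pointOk 22 73215 9 = true := by decide +kernel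
theorem p4u1315 : ∀ k, 61380 ≤ k → k < 73224 → pointOk (k * 22) = true := between_extend pointOk 22 61380 73215 9 (p4u1314) p4r1315

theorem p4r1316 : allRange pointOk 22 73224 9 = true := by decide +kernel
theorem p4u1316 : ∀ k, 61380 ≤ k → k < 73233 → pointOk (k * 22) = true := between_extend pointOk 22 61380 73224 9 (p4u1315) p4r1316

theorem p4r1317 : allRange pointOk 22 73233 9 = true := by decide +kernel
theorem p4u1317 : ∀ k, 61380 ≤ k → k < 73242 → pointOk (k * 22) = true := between_extend pointOk 22 61380 73233 9 (p4u1316) p4r1317

theorem p4r1318 : allRange pointOk 22 73242 9 = true := by decide +kernel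
theorem p4u1318 : ∀ k, 61380 ≤ k → k < 73251 → pointOk (k * 22) = true := between_extend pointOk 22 61380 73242 9 (p4u1317) p4r1318

theorem p4r1319 : allRange pointOk 22 73251 9 = true := by decide +kernel
theorem p4u1319 : ∀ k, 61380 ≤ k → k < 73260 → pointOk (k * 22) = true := between_extend pointOk 22 61380 73251 9 (p4u1318) p4r1319

theorem p4r1320 : allRange pointOk 22 73260 9 = true := by decide +kernel
theorem p4u1320 : ∀ k, 61380 ≤ k → k < 73269 → pointOk (k * 22) = true := between_extend pointOk 22 61380 73260 9 (p4u1319) p4r1320

theorem p4r1321 : allRange pointOk 22 73269 9 = true := by decide +kernel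
theorem p4u1321 : ∀ k, 61380 ≤ k → k < 73278 → pointOk (k * 22) = true := between_extend pointOk 22 61380 73269 9 (p4u1320) p4r1321

theorem p4r1322 : allRange pointOk 22 73278 9 = true := by decide +kernel
theorem p4u1322 : ∀ k, 61380 ≤ k → k < 73287 → pointOk (k * 22) = true := between_extend pointOk 22 61380 73278 9 (p4u1321) p4r1322

theorem p4r1323 : allRange pointOk 22 73287 9 = true := by decide +kernel
theorem p4u1323 : ∀ k, 61380 ≤ k → k < 73296 → pointOk (k * 22) = true := between_extend pointOk 22 61380 73287 9 (p4u1322) p4r1323

theorem p4r1324 : allRange pointOk 22 73296 9 = true := by decide +kernel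
theorem p4u1324 : ∀ k, 61380 ≤ k → k < 73305 → pointOk (k * 22) = true := between_extend pointOk 22 61380 73296 9 (p4u1323) p4r1324

theorem p4r1325 : allRange pointOk 22 73305 9 = true := by decide +kernel
theorem p4u1325 : ∀ k, 61380 ≤ k → k < 73314 → pointOk (k * 22) = true := between_extend pointOk 22 61380 73305 9 (p4u1324) p4r1325

theorem p4r1326 : allRange pointOk 22 73314 9 = true := by decide +kernel
theorem p4u1326 : ∀ k, 61380 ≤ k → k < 73323 → pointOk (k * 22) = true := between_extend pointOk 22 61380 73314 9 (p4u1325) p4r1326

theorem p4r1327 : allRange pointOk 22 73323 9 = true := by decide +kernel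
theorem p4u1327 : ∀ k, 61380 ≤ k → k < 73332 → pointOk (k * 22) = true := between_extend pointOk 22 61380 73323 9 (p4u1326) p4r1327

theorem p4r1328 : allRange pointOk 22 73332 9 = true := by decide +kernel
theorem p4u1328 : ∀ k, 61380 ≤ k → k < 73341 → pointOk (k * 22) = true := between_extend pointOk 22 61380 73332 9 (p4u1327) p4r1328

theorem p4r1329 : allRange pointOk 22 73341 9 = true := by decide +kernel
theorem p4u1329 : ∀ k, 61380 ≤ k → k < 73350 → pointOk (k * 22) = true := between_extend pointOk 22 61380 73341 9 (p4u1328) p4r1329

theorem p4r1330 : allRange pointOk 22 73350 9 = true := by decide +kernel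
theorem p4u1330 : ∀ k, 61380 ≤ k → k < 73359 → pointOk (k * 22) = true := between_extend pointOk 22 61380 73350 9 (p4u1329) p4r1330

theorem p4r1331 : allRange pointOk 22 73359 9 = true := by decide +kernel
theorem p4u1331 : ∀ k, 61380 ≤ k → k < 73368 → pointOk (k * 22) = true := between_extend pointOk 22 61380 73359 9 (p4u1330) p4r1331

theorem p4r1332 : allRange pointOk 22 73368 9 = true := by decide +kernel
theorem p4u1332 : ∀ k, 61380 ≤ k → k < 73377 → pointOk (k * 22) = true := between_extend pointOk 22 61380 73368 9 (p4u1331) p4r1332

theorem p4r1333 : allRange pointOk 22 73377 9 = true := by decide +kernel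
theorem p4u1333 : ∀ k, 61380 ≤ k → k < 73386 → pointOk (k * 22) = true := between_extend pointOk 22 61380 73377 9 (p4u1332) p4r1333

theorem p4r1334 : allRange pointOk 22 73386 9 = true := by decide +kernel
theorem p4u1334 : ∀ k, 61380 ≤ k → k < 73395 → pointOk (k * 22) = true := between_extend pointOk 22 61380 73386 9 (p4u1333) p4r1334

theorem p4r1335 : allRange pointOk 22 73395 9 = true := by decide +kernel
theorem p4u1335 : ∀ k, 61380 ≤ k → k < 73404 → pointOk (k * 22) = true := between_extend pointOk 22 61380 73395 9 (p4u1334) p4r1335

theorem p4r1336 : allRange pointOk 22 73404 9 = true := by decide +kernel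
theorem p4u1336 : ∀ k, 61380 ≤ k → k < 73413 → pointOk (k * 22) = true := between_extend pointOk 22 61380 73404 9 (p4u1335) p4r1336

theorem p4r1337 : allRange pointOk 22 73413 9 = true := by decide +kernel
theorem p4u1337 : ∀ k, 61380 ≤ k → k < 73422 → pointOk (k * 22) = true := between_extend pointOk 22 61380 73413 9 (p4u1336) p4r1337

theorem p4r1338 : allRange pointOk 22 73422 9 = true := by decide +kernel
theorem p4u1338 : ∀ k, 61380 ≤ k → k < 73431 → pointOk (k * 22) = true := between_extend pointOk 22 61380 73422 9 (p4u1337) p4r1338

theorem p4r1339 : allRange pointOk 22 73431 9 = true := by decide +kernel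
theorem p4u1339 : ∀ k, 61380 ≤ k → k < 73440 → pointOk (k * 22) = true := between_extend pointOk 22 61380 73431 9 (p4u1338) p4r1339

theorem p4r1340 : allRange pointOk 22 73440 9 = true := by decide +kernel
theorem p4u1340 : ∀ k, 61380 ≤ k → k < 73449 → pointOk (k * 22) = true := between_extend pointOk 22 61380 73440 9 (p4u1339) p4r1340

theorem p4r1341 : allRange pointOk 22 73449 9 = true := by decide +kernel
theorem p4u1341 : ∀ k, 61380 ≤ k → k < 73458 → pointOk (k * 22) = true := between_extend pointOk 22 61380 73449 9 (p4u1340) p4r1341

theorem p4r1342 : allRange pointOk 22 73458 9 = true := by decide +kernel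
theorem p4u1342 : ∀ k, 61380 ≤ k → k < 73467 → pointOk (k * 22) = true := between_extend pointOk 22 61380 73458 9 (p4u1341) p4r1342

theorem p4r1343 : allRange pointOk 22 73467 9 = true := by decide +kernel
theorem p4u1343 : ∀ k, 61380 ≤ k → k < 73476 → pointOk (k * 22) = true := between_extend pointOk 22 61380 73467 9 (p4u1342) p4r1343

theorem p4r1344 : allRange pointOk 22 73476 9 = true := by decide +kernel
theorem p4u1344 : ∀ k, 61380 ≤ k → k < 73485 → pointOk (k * 22) = true := between_extend pointOk 22 61380 73476 9 (p4u1343) p4r1344

theorem p4r1345 : allRange pointOk 22 73485 9 = true := by decide +kernel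
theorem p4u1345 : ∀ k, 61380 ≤ k → k < 73494 → pointOk (k * 22) = true := between_extend pointOk 22 61380 73485 9 (p4u1344) p4r1345

theorem p4r1346 : allRange pointOk 22 73494 9 = true := by decide +kernel
theorem p4u1346 : ∀ k, 61380 ≤ k → k < 73503 → pointOk (k * 22) = true := between_extend pointOk 22 61380 73494 9 (p4u1345) p4r1346

theorem p4r1347 : allRange pointOk 22 73503 9 = true := by decide +kernel
theorem p4u1347 : ∀ k, 61380 ≤ k → k < 73512 → pointOk (k * 22) = true := between_extend pointOk 22 61380 73503 9 (p4u1346) p4r1347

theorem p4r1348 : allRange pointOk 22 73512 9 = true := by decide +kernel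
theorem p4u1348 : ∀ k, 61380 ≤ k → k < 73521 → pointOk (k * 22) = true := between_extend pointOk 22 61380 73512 9 (p4u1347) p4r1348

theorem p4r1349 : allRange pointOk 22 73521 9 = true := by decide +kernel
theorem p4u1349 : ∀ k, 61380 ≤ k → k < 73530 → pointOk (k * 22) = true := between_extend pointOk 22 61380 73521 9 (p4u1348) p4r1349

theorem p4r1350 : allRange pointOk 22 73530 9 = true := by decide +kernel
theorem p4u1350 : ∀ k, 61380 ≤ k → k < 73539 → pointOk (k * 22) = true := between_extend pointOk 22 61380 73530 9 (p4u1349) p4r1350

theorem p4r1351 : allRange pointOk 22 73539 9 = true := by decide +kernel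
theorem p4u1351 : ∀ k, 61380 ≤ k → k < 73548 → pointOk (k * 22) = true := between_extend pointOk 22 61380 73539 9 (p4u1350) p4r1351

theorem p4r1352 : allRange pointOk 22 73548 9 = true := by decide +kernel
theorem p4u1352 : ∀ k, 61380 ≤ k → k < 73557 → pointOk (k * 22) = true := between_extend pointOk 22 61380 73548 9 (p4u1351) p4r1352

theorem p4r1353 : allRange pointOk 22 73557 9 = true := by decide +kernel
theorem p4u1353 : ∀ k, 61380 ≤ k → k < 73566 → pointOk (k * 22) = true := between_extend pointOk 22 61380 73557 9 (p4u1352) p4r1353

theorem p4r1354 : allRange pointOk 22 73566 9 = true := by decide +kernel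
theorem p4u1354 : ∀ k, 61380 ≤ k → k < 73575 → pointOk (k * 22) = true := between_extend pointOk 22 61380 73566 9 (p4u1353) p4r1354

theorem p4r1355 : allRange pointOk 22 73575 9 = true := by decide +kernel
theorem p4u1355 : ∀ k, 61380 ≤ k → k < 73584 → pointOk (k * 22) = true := between_extend pointOk 22 61380 73575 9 (p4u1354) p4r1355

theorem p4r1356 : allRange pointOk 22 73584 9 = true := by decide +kernel
theorem p4u1356 : ∀ k, 61380 ≤ k → k < 73593 → pointOk (k * 22) = true := between_extend pointOk 22 61380 73584 9 (p4u1355) p4r1356

theorem p4r1357 : allRange pointOk 22 73593 9 = true := by decide +kernel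
theorem p4u1357 : ∀ k, 61380 ≤ k → k < 73602 → pointOk (k * 22) = true := between_extend pointOk 22 61380 73593 9 (p4u1356) p4r1357

theorem p4r1358 : allRange pointOk 22 73602 9 = true := by decide +kernel
theorem p4u1358 : ∀ k, 61380 ≤ k → k < 73611 → pointOk (k * 22) = true := between_extend pointOk 22 61380 73602 9 (p4u1357) p4r1358

theorem p4r1359 : allRange pointOk 22 73611 9 = true := by decide +kernel
theorem p4u1359 : ∀ k, 61380 ≤ k → k < 73620 → pointOk (k * 22) = true := between_extend pointOk 22 61380 73611 9 (p4u1358) p4r1359

theorem p4r1360 : allRange pointOk 22 73620 9 = true := by decide +kernel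
theorem p4u1360 : ∀ k, 61380 ≤ k → k < 73629 → pointOk (k * 22) = true := between_extend pointOk 22 61380 73620 9 (p4u1359) p4r1360

theorem p4r1361 : allRange pointOk 22 73629 9 = true := by decide +kernel
theorem p4u1361 : ∀ k, 61380 ≤ k → k < 73638 → pointOk (k * 22) = true := between_extend pointOk 22 61380 73629 9 (p4u1360) p4r1361

theorem p4r1362 : allRange pointOk 22 73638 9 = true := by decide +kernel
theorem p4u1362 : ∀ k, 61380 ≤ k → k < 73647 → pointOk (k * 22) = true := between_extend pointOk 22 61380 73638 9 (p4u1361) p4r1362

theorem p4r1363 : allRange pointOk 22 73647 9 = true := by decide +kernel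
theorem p4u1363 : ∀ k, 61380 ≤ k → k < 73656 → pointOk (k * 22) = true := between_extend pointOk 22 61380 73647 9 (p4u1362) p4r1363

theorem p4r1364 : allRange pointOk 22 73656 9 = true := by decide +kernel
theorem p4u1364 : ∀ k, 61380 ≤ k → k < 73665 → pointOk (k * 22) = true := between_extend pointOk 22 61380 73656 9 (p4u1363) p4r1364

theorem p4r1365 : allRange pointOk 22 73665 9 = true := by decide +kernel
theorem p4u1365 : ∀ k, 61380 ≤ k → k < 73674 → pointOk (k * 22) = true := between_extend pointOk 22 61380 73665 9 (p4u1364) p4r1365

theorem p4r1366 : allRange pointOk 22 73674 9 = true := by decide +kernel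
theorem p4u1366 : ∀ k, 61380 ≤ k → k < 73683 → pointOk (k * 22) = true := between_extend pointOk 22 61380 73674 9 (p4u1365) p4r1366

theorem p4r1367 : allRange pointOk 22 73683 9 = true := by decide +kernel
theorem p4u1367 : ∀ k, 61380 ≤ k → k < 73692 → pointOk (k * 22) = true := between_extend pointOk 22 61380 73683 9 (p4u1366) p4r1367

theorem p4r1368 : allRange pointOk 22 73692 9 = true := by decide +kernel
theorem p4u1368 : ∀ k, 61380 ≤ k → k < 73701 → pointOk (k * 22) = true := between_extend pointOk 22 61380 73692 9 (p4u1367) p4r1368

theorem p4r1369 : allRange pointOk 22 73701 9 = true := by decide +kernel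
theorem p4u1369 : ∀ k, 61380 ≤ k → k < 73710 → pointOk (k * 22) = true := between_extend pointOk 22 61380 73701 9 (p4u1368) p4r1369

theorem p4r1370 : allRange pointOk 22 73710 9 = true := by decide +kernel
theorem p4u1370 : ∀ k, 61380 ≤ k → k < 73719 → pointOk (k * 22) = true := between_extend pointOk 22 61380 73710 9 (p4u1369) p4r1370

theorem p4r1371 : allRange pointOk 22 73719 9 = true := by decide +kernel
theorem p4u1371 : ∀ k, 61380 ≤ k → k < 73728 → pointOk (k * 22) = true := between_extend pointOk 22 61380 73719 9 (p4u1370) p4r1371

theorem p4r1372 : allRange pointOk 22 73728 9 = true := by decide +kernel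
theorem p4u1372 : ∀ k, 61380 ≤ k → k < 73737 → pointOk (k * 22) = true := between_extend pointOk 22 61380 73728 9 (p4u1371) p4r1372

theorem p4r1373 : allRange pointOk 22 73737 9 = true := by decide +kernel
theorem p4u1373 : ∀ k, 61380 ≤ k → k < 73746 → pointOk (k * 22) = true := between_extend pointOk 22 61380 73737 9 (p4u1372) p4r1373

theorem p4r1374 : allRange pointOk 22 73746 9 = true := by decide +kernel
theorem p4u1374 : ∀ k, 61380 ≤ k → k < 73755 → pointOk (k * 22) = true := between_extend pointOk 22 61380 73746 9 (p4u1373) p4r1374

theorem p4r1375 : allRange pointOk 22 73755 9 = true := by decide +kernel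
theorem p4u1375 : ∀ k, 61380 ≤ k → k < 73764 → pointOk (k * 22) = true := between_extend pointOk 22 61380 73755 9 (p4u1374) p4r1375

theorem p4r1376 : allRange pointOk 22 73764 9 = true := by decide +kernel
theorem p4u1376 : ∀ k, 61380 ≤ k → k < 73773 → pointOk (k * 22) = true := between_extend pointOk 22 61380 73764 9 (p4u1375) p4r1376

theorem p4r1377 : allRange pointOk 22 73773 9 = true := by decide +kernel
theorem p4u1377 : ∀ k, 61380 ≤ k → k < 73782 → pointOk (k * 22) = true := between_extend pointOk 22 61380 73773 9 (p4u1376) p4r1377

theorem p4r1378 : allRange pointOk 22 73782 9 = true := by decide +kernel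
theorem p4u1378 : ∀ k, 61380 ≤ k → k < 73791 → pointOk (k * 22) = true := between_extend pointOk 22 61380 73782 9 (p4u1377) p4r1378

theorem p4r1379 : allRange pointOk 22 73791 9 = true := by decide +kernel
theorem p4u1379 : ∀ k, 61380 ≤ k → k < 73800 → pointOk (k * 22) = true := between_extend pointOk 22 61380 73791 9 (p4u1378) p4r1379

theorem p4r1380 : allRange pointOk 22 73800 9 = true := by decide +kernel
theorem p4u1380 : ∀ k, 61380 ≤ k → k < 73809 → pointOk (k * 22) = true := between_extend pointOk 22 61380 73800 9 (p4u1379) p4r1380

theorem p4r1381 : allRange pointOk 22 73809 9 = true := by decide +kernel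
theorem p4u1381 : ∀ k, 61380 ≤ k → k < 73818 → pointOk (k * 22) = true := between_extend pointOk 22 61380 73809 9 (p4u1380) p4r1381

theorem p4r1382 : allRange pointOk 22 73818 9 = true := by decide +kernel
theorem p4u1382 : ∀ k, 61380 ≤ k → k < 73827 → pointOk (k * 22) = true := between_extend pointOk 22 61380 73818 9 (p4u1381) p4r1382

theorem p4r1383 : allRange pointOk 22 73827 9 = true := by decide +kernel
theorem p4u1383 : ∀ k, 61380 ≤ k → k < 73836 → pointOk (k * 22) = true := between_extend pointOk 22 61380 73827 9 (p4u1382) p4r1383

theorem p4r1384 : allRange pointOk 22 73836 9 = true := by decide +kernel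
theorem p4u1384 : ∀ k, 61380 ≤ k → k < 73845 → pointOk (k * 22) = true := between_extend pointOk 22 61380 73836 9 (p4u1383) p4r1384

theorem p4r1385 : allRange pointOk 22 73845 9 = true := by decide +kernel
theorem p4u1385 : ∀ k, 61380 ≤ k → k < 73854 → pointOk (k * 22) = true := between_extend pointOk 22 61380 73845 9 (p4u1384) p4r1385

theorem p4r1386 : allRange pointOk 22 73854 9 = true := by decide +kernel
theorem p4u1386 : ∀ k, 61380 ≤ k → k < 73863 → pointOk (k * 22) = true := between_extend pointOk 22 61380 73854 9 (p4u1385) p4r1386

theorem p4r1387 : allRange pointOk 22 73863 9 = true := by decide +kernel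
theorem p4u1387 : ∀ k, 61380 ≤ k → k < 73872 → pointOk (k * 22) = true := between_extend pointOk 22 61380 73863 9 (p4u1386) p4r1387

theorem p4r1388 : allRange pointOk 22 73872 9 = true := by decide +kernel
theorem p4u1388 : ∀ k, 61380 ≤ k → k < 73881 → pointOk (k * 22) = true := between_extend pointOk 22 61380 73872 9 (p4u1387) p4r1388

theorem p4r1389 : allRange pointOk 22 73881 9 = true := by decide +kernel
theorem p4u1389 : ∀ k, 61380 ≤ k → k < 73890 → pointOk (k * 22) = true := between_extend pointOk 22 61380 73881 9 (p4u1388) p4r1389

theorem p4r1390 : allRange pointOk 22 73890 9 = true := by decide +kernel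
theorem p4u1390 : ∀ k, 61380 ≤ k → k < 73899 → pointOk (k * 22) = true := between_extend pointOk 22 61380 73890 9 (p4u1389) p4r1390

theorem p4r1391 : allRange pointOk 22 73899 9 = true := by decide +kernel
theorem p4u1391 : ∀ k, 61380 ≤ k → k < 73908 → pointOk (k * 22) = true := between_extend pointOk 22 61380 73899 9 (p4u1390) p4r1391

theorem p4r1392 : allRange pointOk 22 73908 9 = true := by decide +kernel
theorem p4u1392 : ∀ k, 61380 ≤ k → k < 73917 → pointOk (k * 22) = true := between_extend pointOk 22 61380 73908 9 (p4u1391) p4r1392

theorem p4r1393 : allRange pointOk 22 73917 9 = true := by decide +kernel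
theorem p4u1393 : ∀ k, 61380 ≤ k → k < 73926 → pointOk (k * 22) = true := between_extend pointOk 22 61380 73917 9 (p4u1392) p4r1393

theorem p4r1394 : allRange pointOk 22 73926 9 = true := by decide +kernel
theorem p4u1394 : ∀ k, 61380 ≤ k → k < 73935 → pointOk (k * 22) = true := between_extend pointOk 22 61380 73926 9 (p4u1393) p4r1394

theorem p4r1395 : allRange pointOk 22 73935 9 = true := by decide +kernel
theorem p4u1395 : ∀ k, 61380 ≤ k → k < 73944 → pointOk (k * 22) = true := between_extend pointOk 22 61380 73935 9 (p4u1394) p4r1395

theorem p4r1396 : allRange pointOk 22 73944 9 = true := by decide +kernel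
theorem p4u1396 : ∀ k, 61380 ≤ k → k < 73953 → pointOk (k * 22) = true := between_extend pointOk 22 61380 73944 9 (p4u1395) p4r1396

theorem p4r1397 : allRange pointOk 22 73953 9 = true := by decide +kernel
theorem p4u1397 : ∀ k, 61380 ≤ k → k < 73962 → pointOk (k * 22) = true := between_extend pointOk 22 61380 73953 9 (p4u1396) p4r1397

theorem p4r1398 : allRange pointOk 22 73962 9 = true := by decide +kernel
theorem p4u1398 : ∀ k, 61380 ≤ k → k < 73971 → pointOk (k * 22) = true := between_extend pointOk 22 61380 73962 9 (p4u1397) p4r1398

theorem p4r1399 : allRange pointOk 22 73971 9 = true := by decide +kernel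
theorem p4u1399 : ∀ k, 61380 ≤ k → k < 73980 → pointOk (k * 22) = true := between_extend pointOk 22 61380 73971 9 (p4u1398) p4r1399

theorem p4r1400 : allRange pointOk 22 73980 9 = true := by decide +kernel
theorem p4u1400 : ∀ k, 61380 ≤ k → k < 73989 → pointOk (k * 22) = true := between_extend pointOk 22 61380 73980 9 (p4u1399) p4r1400

theorem p4r1401 : allRange pointOk 22 73989 9 = true := by decide +kernel
theorem p4u1401 : ∀ k, 61380 ≤ k → k < 73998 → pointOk (k * 22) = true := between_extend pointOk 22 61380 73989 9 (p4u1400) p4r1401

theorem p4r1402 : allRange pointOk 22 73998 9 = true := by decide +kernel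
theorem p4u1402 : ∀ k, 61380 ≤ k → k < 74007 → pointOk (k * 22) = true := between_extend pointOk 22 61380 73998 9 (p4u1401) p4r1402

theorem p4r1403 : allRange pointOk 22 74007 9 = true := by decide +kernel
theorem p4u1403 : ∀ k, 61380 ≤ k → k < 74016 → pointOk (k * 22) = true := between_extend pointOk 22 61380 74007 9 (p4u1402) p4r1403

theorem p4r1404 : allRange pointOk 22 74016 9 = true := by decide +kernel
theorem p4u1404 : ∀ k, 61380 ≤ k → k < 74025 → pointOk (k * 22) = true := between_extend pointOk 22 61380 74016 9 (p4u1403) p4r1404

theorem p4r1405 : allRange pointOk 22 74025 9 = true := by decide +kernel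
theorem p4u1405 : ∀ k, 61380 ≤ k → k < 74034 → pointOk (k * 22) = true := between_extend pointOk 22 61380 74025 9 (p4u1404) p4r1405

theorem p4r1406 : allRange pointOk 22 74034 9 = true := by decide +kernel
theorem p4u1406 : ∀ k, 61380 ≤ k → k < 74043 → pointOk (k * 22) = true := between_extend pointOk 22 61380 74034 9 (p4u1405) p4r1406

theorem p4r1407 : allRange pointOk 22 74043 9 = true := by decide +kernel
theorem p4u1407 : ∀ k, 61380 ≤ k → k < 74052 → pointOk (k * 22) = true := between_extend pointOk 22 61380 74043 9 (p4u1406) p4r1407

theorem p4r1408 : allRange pointOk 22 74052 9 = true := by decide +kernel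
theorem p4u1408 : ∀ k, 61380 ≤ k → k < 74061 → pointOk (k * 22) = true := between_extend pointOk 22 61380 74052 9 (p4u1407) p4r1408

theorem p4r1409 : allRange pointOk 22 74061 9 = true := by decide +kernel
theorem p4u1409 : ∀ k, 61380 ≤ k → k < 74070 → pointOk (k * 22) = true := between_extend pointOk 22 61380 74061 9 (p4u1408) p4r1409

theorem p4r1410 : allRange pointOk 22 74070 9 = true := by decide +kernel
theorem p4u1410 : ∀ k, 61380 ≤ k → k < 74079 → pointOk (k * 22) = true := between_extend pointOk 22 61380 74070 9 (p4u1409) p4r1410

theorem p4r1411 : allRange pointOk 22 74079 9 = true := by decide +kernel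
theorem p4u1411 : ∀ k, 61380 ≤ k → k < 74088 → pointOk (k * 22) = true := between_extend pointOk 22 61380 74079 9 (p4u1410) p4r1411

theorem p4r1412 : allRange pointOk 22 74088 9 = true := by decide +kernel
theorem p4u1412 : ∀ k, 61380 ≤ k → k < 74097 → pointOk (k * 22) = true := between_extend pointOk 22 61380 74088 9 (p4u1411) p4r1412

theorem p4r1413 : allRange pointOk 22 74097 9 = true := by decide +kernel
theorem p4u1413 : ∀ k, 61380 ≤ k → k < 74106 → pointOk (k * 22) = true := between_extend pointOk 22 61380 74097 9 (p4u1412) p4r1413

theorem p4r1414 : allRange pointOk 22 74106 9 = true := by decide +kernel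
theorem p4u1414 : ∀ k, 61380 ≤ k → k < 74115 → pointOk (k * 22) = true := between_extend pointOk 22 61380 74106 9 (p4u1413) p4r1414

theorem p4r1415 : allRange pointOk 22 74115 9 = true := by decide +kernel
theorem p4u1415 : ∀ k, 61380 ≤ k → k < 74124 → pointOk (k * 22) = true := between_extend pointOk 22 61380 74115 9 (p4u1414) p4r1415

theorem p4r1416 : allRange pointOk 22 74124 9 = true := by decide +kernel
theorem p4u1416 : ∀ k, 61380 ≤ k → k < 74133 → pointOk (k * 22) = true := between_extend pointOk 22 61380 74124 9 (p4u1415) p4r1416

theorem p4r1417 : allRange pointOk 22 74133 9 = true := by decide +kernel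
theorem p4u1417 : ∀ k, 61380 ≤ k → k < 74142 → pointOk (k * 22) = true := between_extend pointOk 22 61380 74133 9 (p4u1416) p4r1417

theorem p4r1418 : allRange pointOk 22 74142 9 = true := by decide +kernel
theorem p4u1418 : ∀ k, 61380 ≤ k → k < 74151 → pointOk (k * 22) = true := between_extend pointOk 22 61380 74142 9 (p4u1417) p4r1418

theorem p4r1419 : allRange pointOk 22 74151 9 = true := by decide +kernel
theorem p4u1419 : ∀ k, 61380 ≤ k → k < 74160 → pointOk (k * 22) = true := between_extend pointOk 22 61380 74151 9 (p4u1418) p4r1419

theorem p4r1420 : allRange pointOk 22 74160 9 = true := by decide +kernel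
theorem p4u1420 : ∀ k, 61380 ≤ k → k < 74169 → pointOk (k * 22) = true := between_extend pointOk 22 61380 74160 9 (p4u1419) p4r1420

theorem p4r1421 : allRange pointOk 22 74169 9 = true := by decide +kernel
theorem p4u1421 : ∀ k, 61380 ≤ k → k < 74178 → pointOk (k * 22) = true := between_extend pointOk 22 61380 74169 9 (p4u1420) p4r1421

theorem p4r1422 : allRange pointOk 22 74178 9 = true := by decide +kernel
theorem p4u1422 : ∀ k, 61380 ≤ k → k < 74187 → pointOk (k * 22) = true := between_extend pointOk 22 61380 74178 9 (p4u1421) p4r1422

theorem p4r1423 : allRange pointOk 22 74187 9 = true := by decide +kernel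
theorem p4u1423 : ∀ k, 61380 ≤ k → k < 74196 → pointOk (k * 22) = true := between_extend pointOk 22 61380 74187 9 (p4u1422) p4r1423

theorem p4r1424 : allRange pointOk 22 74196 9 = true := by decide +kernel
theorem p4u1424 : ∀ k, 61380 ≤ k → k < 74205 → pointOk (k * 22) = true := between_extend pointOk 22 61380 74196 9 (p4u1423) p4r1424

theorem p4r1425 : allRange pointOk 22 74205 9 = true := by decide +kernel
theorem p4u1425 : ∀ k, 61380 ≤ k → k < 74214 → pointOk (k * 22) = true := between_extend pointOk 22 61380 74205 9 (p4u1424) p4r1425

theorem p4r1426 : allRange pointOk 22 74214 9 = true := by decide +kernel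
theorem p4u1426 : ∀ k, 61380 ≤ k → k < 74223 → pointOk (k * 22) = true := between_extend pointOk 22 61380 74214 9 (p4u1425) p4r1426

theorem p4r1427 : allRange pointOk 22 74223 9 = true := by decide +kernel
theorem p4u1427 : ∀ k, 61380 ≤ k → k < 74232 → pointOk (k * 22) = true := between_extend pointOk 22 61380 74223 9 (p4u1426) p4r1427

theorem p4r1428 : allRange pointOk 22 74232 9 = true := by decide +kernel
theorem p4u1428 : ∀ k, 61380 ≤ k → k < 74241 → pointOk (k * 22) = true := between_extend pointOk 22 61380 74232 9 (p4u1427) p4r1428

theorem p4r1429 : allRange pointOk 22 74241 9 = true := by decide +kernel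
theorem p4u1429 : ∀ k, 61380 ≤ k → k < 74250 → pointOk (k * 22) = true := between_extend pointOk 22 61380 74241 9 (p4u1428) p4r1429

theorem p4r1430 : allRange pointOk 22 74250 9 = true := by decide +kernel
theorem p4u1430 : ∀ k, 61380 ≤ k → k < 74259 → pointOk (k * 22) = true := between_extend pointOk 22 61380 74250 9 (p4u1429) p4r1430

theorem p4r1431 : allRange pointOk 22 74259 9 = true := by decide +kernel
theorem p4u1431 : ∀ k, 61380 ≤ k → k < 74268 → pointOk (k * 22) = true := between_extend pointOk 22 61380 74259 9 (p4u1430) p4r1431

theorem p4r1432 : allRange pointOk 22 74268 9 = true := by decide +kernel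
theorem p4u1432 : ∀ k, 61380 ≤ k → k < 74277 → pointOk (k * 22) = true := between_extend pointOk 22 61380 74268 9 (p4u1431) p4r1432

theorem p4r1433 : allRange pointOk 22 74277 9 = true := by decide +kernel
theorem p4u1433 : ∀ k, 61380 ≤ k → k < 74286 → pointOk (k * 22) = true := between_extend pointOk 22 61380 74277 9 (p4u1432) p4r1433

theorem p4r1434 : allRange pointOk 22 74286 9 = true := by decide +kernel
theorem p4u1434 : ∀ k, 61380 ≤ k → k < 74295 → pointOk (k * 22) = true := between_extend pointOk 22 61380 74286 9 (p4u1433) p4r1434

theorem p4r1435 : allRange pointOk 22 74295 9 = true := by decide +kernel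
theorem p4u1435 : ∀ k, 61380 ≤ k → k < 74304 → pointOk (k * 22) = true := between_extend pointOk 22 61380 74295 9 (p4u1434) p4r1435

theorem p4r1436 : allRange pointOk 22 74304 9 = true := by decide +kernel
theorem p4u1436 : ∀ k, 61380 ≤ k → k < 74313 → pointOk (k * 22) = true := between_extend pointOk 22 61380 74304 9 (p4u1435) p4r1436

theorem p4r1437 : allRange pointOk 22 74313 9 = true := by decide +kernel
theorem p4u1437 : ∀ k, 61380 ≤ k → k < 74322 → pointOk (k * 22) = true := between_extend pointOk 22 61380 74313 9 (p4u1436) p4r1437

theorem p4r1438 : allRange pointOk 22 74322 9 = true := by decide +kernel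
theorem p4u1438 : ∀ k, 61380 ≤ k → k < 74331 → pointOk (k * 22) = true := between_extend pointOk 22 61380 74322 9 (p4u1437) p4r1438

theorem p4r1439 : allRange pointOk 22 74331 9 = true := by decide +kernel
theorem p4u1439 : ∀ k, 61380 ≤ k → k < 74340 → pointOk (k * 22) = true := between_extend pointOk 22 61380 74331 9 (p4u1438) p4r1439

theorem p4r1440 : allRange pointOk 22 74340 9 = true := by decide +kernel
theorem p4u1440 : ∀ k, 61380 ≤ k → k < 74349 → pointOk (k * 22) = true := between_extend pointOk 22 61380 74340 9 (p4u1439) p4r1440

theorem p4r1441 : allRange pointOk 22 74349 9 = true := by decide +kernel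
theorem p4u1441 : ∀ k, 61380 ≤ k → k < 74358 → pointOk (k * 22) = true := between_extend pointOk 22 61380 74349 9 (p4u1440) p4r1441

theorem p4r1442 : allRange pointOk 22 74358 9 = true := by decide +kernel
theorem p4u1442 : ∀ k, 61380 ≤ k → k < 74367 → pointOk (k * 22) = true := between_extend pointOk 22 61380 74358 9 (p4u1441) p4r1442

theorem p4r1443 : allRange pointOk 22 74367 9 = true := by decide +kernel
theorem p4u1443 : ∀ k, 61380 ≤ k → k < 74376 → pointOk (k * 22) = true := between_extend pointOk 22 61380 74367 9 (p4u1442) p4r1443

theorem p4r1444 : allRange pointOk 22 74376 9 = true := by decide +kernel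
theorem p4u1444 : ∀ k, 61380 ≤ k → k < 74385 → pointOk (k * 22) = true := between_extend pointOk 22 61380 74376 9 (p4u1443) p4r1444

theorem p4r1445 : allRange pointOk 22 74385 9 = true := by decide +kernel
theorem p4u1445 : ∀ k, 61380 ≤ k → k < 74394 → pointOk (k * 22) = true := between_extend pointOk 22 61380 74385 9 (p4u1444) p4r1445

theorem p4r1446 : allRange pointOk 22 74394 9 = true := by decide +kernel
theorem p4u1446 : ∀ k, 61380 ≤ k → k < 74403 → pointOk (k * 22) = true := between_extend pointOk 22 61380 74394 9 (p4u1445) p4r1446

theorem p4r1447 : allRange pointOk 22 74403 9 = true := by decide +kernel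
theorem p4u1447 : ∀ k, 61380 ≤ k → k < 74412 → pointOk (k * 22) = true := between_extend pointOk 22 61380 74403 9 (p4u1446) p4r1447

theorem p4r1448 : allRange pointOk 22 74412 9 = true := by decide +kernel
theorem p4u1448 : ∀ k, 61380 ≤ k → k < 74421 → pointOk (k * 22) = true := between_extend pointOk 22 61380 74412 9 (p4u1447) p4r1448

theorem p4r1449 : allRange pointOk 22 74421 9 = true := by decide +kernel
theorem p4u1449 : ∀ k, 61380 ≤ k → k < 74430 → pointOk (k * 22) = true := between_extend pointOk 22 61380 74421 9 (p4u1448) p4r1449

theorem p4r1450 : allRange pointOk 22 74430 9 = true := by decide +kernel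
theorem p4u1450 : ∀ k, 61380 ≤ k → k < 74439 → pointOk (k * 22) = true := between_extend pointOk 22 61380 74430 9 (p4u1449) p4r1450

theorem p4r1451 : allRange pointOk 22 74439 9 = true := by decide +kernel
theorem p4u1451 : ∀ k, 61380 ≤ k → k < 74448 → pointOk (k * 22) = true := between_extend pointOk 22 61380 74439 9 (p4u1450) p4r1451

theorem p4r1452 : allRange pointOk 22 74448 9 = true := by decide +kernel
theorem p4u1452 : ∀ k, 61380 ≤ k → k < 74457 → pointOk (k * 22) = true := between_extend pointOk 22 61380 74448 9 (p4u1451) p4r1452

theorem p4r1453 : allRange pointOk 22 74457 9 = true := by decide +kernel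
theorem p4u1453 : ∀ k, 61380 ≤ k → k < 74466 → pointOk (k * 22) = true := between_extend pointOk 22 61380 74457 9 (p4u1452) p4r1453

theorem p4r1454 : allRange pointOk 22 74466 9 = true := by decide +kernel
theorem p4u1454 : ∀ k, 61380 ≤ k → k < 74475 → pointOk (k * 22) = true := between_extend pointOk 22 61380 74466 9 (p4u1453) p4r1454

theorem p4r1455 : allRange pointOk 22 74475 9 = true := by decide +kernel
theorem p4u1455 : ∀ k, 61380 ≤ k → k < 74484 → pointOk (k * 22) = true := between_extend pointOk 22 61380 74475 9 (p4u1454) p4r1455

theorem p4r1456 : allRange pointOk 22 74484 9 = true := by decide +kernel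
theorem p4u1456 : ∀ k, 61380 ≤ k → k < 74493 → pointOk (k * 22) = true := between_extend pointOk 22 61380 74484 9 (p4u1455) p4r1456

theorem p4r1457 : allRange pointOk 22 74493 9 = true := by decide +kernel
theorem p4u1457 : ∀ k, 61380 ≤ k → k < 74502 → pointOk (k * 22) = true := between_extend pointOk 22 61380 74493 9 (p4u1456) p4r1457

theorem p4r1458 : allRange pointOk 22 74502 9 = true := by decide +kernel
theorem p4u1458 : ∀ k, 61380 ≤ k → k < 74511 → pointOk (k * 22) = true := between_extend pointOk 22 61380 74502 9 (p4u1457) p4r1458

theorem p4r1459 : allRange pointOk 22 74511 9 = true := by decide +kernel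
theorem p4u1459 : ∀ k, 61380 ≤ k → k < 74520 → pointOk (k * 22) = true := between_extend pointOk 22 61380 74511 9 (p4u1458) p4r1459

theorem p4r1460 : allRange pointOk 22 74520 9 = true := by decide +kernel
theorem p4u1460 : ∀ k, 61380 ≤ k → k < 74529 → pointOk (k * 22) = true := between_extend pointOk 22 61380 74520 9 (p4u1459) p4r1460

theorem p4r1461 : allRange pointOk 22 74529 9 = true := by decide +kernel
theorem p4u1461 : ∀ k, 61380 ≤ k → k < 74538 → pointOk (k * 22) = true := between_extend pointOk 22 61380 74529 9 (p4u1460) p4r1461

theorem p4r1462 : allRange pointOk 22 74538 9 = true := by decide +kernel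
theorem p4u1462 : ∀ k, 61380 ≤ k → k < 74547 → pointOk (k * 22) = true := between_extend pointOk 22 61380 74538 9 (p4u1461) p4r1462

theorem p4r1463 : allRange pointOk 22 74547 9 = true := by decide +kernel
theorem p4u1463 : ∀ k, 61380 ≤ k → k < 74556 → pointOk (k * 22) = true := between_extend pointOk 22 61380 74547 9 (p4u1462) p4r1463

theorem p4r1464 : allRange pointOk 22 74556 9 = true := by decide +kernel
theorem p4u1464 : ∀ k, 61380 ≤ k → k < 74565 → pointOk (k * 22) = true := between_extend pointOk 22 61380 74556 9 (p4u1463) p4r1464

theorem p4r1465 : allRange pointOk 22 74565 9 = true := by decide +kernel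
theorem p4u1465 : ∀ k, 61380 ≤ k → k < 74574 → pointOk (k * 22) = true := between_extend pointOk 22 61380 74565 9 (p4u1464) p4r1465

theorem p4r1466 : allRange pointOk 22 74574 9 = true := by decide +kernel
theorem p4u1466 : ∀ k, 61380 ≤ k → k < 74583 → pointOk (k * 22) = true := between_extend pointOk 22 61380 74574 9 (p4u1465) p4r1466

theorem p4r1467 : allRange pointOk 22 74583 9 = true := by decide +kernel
theorem p4u1467 : ∀ k, 61380 ≤ k → k < 74592 → pointOk (k * 22) = true := between_extend pointOk 22 61380 74583 9 (p4u1466) p4r1467

theorem p4r1468 : allRange pointOk 22 74592 9 = true := by decide +kernel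
theorem p4u1468 : ∀ k, 61380 ≤ k → k < 74601 → pointOk (k * 22) = true := between_extend pointOk 22 61380 74592 9 (p4u1467) p4r1468

theorem p4r1469 : allRange pointOk 22 74601 9 = true := by decide +kernel
theorem p4u1469 : ∀ k, 61380 ≤ k → k < 74610 → pointOk (k * 22) = true := between_extend pointOk 22 61380 74601 9 (p4u1468) p4r1469

theorem p4r1470 : allRange pointOk 22 74610 9 = true := by decide +kernel
theorem p4u1470 : ∀ k, 61380 ≤ k → k < 74619 → pointOk (k * 22) = true := between_extend pointOk 22 61380 74610 9 (p4u1469) p4r1470

theorem p4r1471 : allRange pointOk 22 74619 9 = true := by decide +kernel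
theorem p4u1471 : ∀ k, 61380 ≤ k → k < 74628 → pointOk (k * 22) = true := between_extend pointOk 22 61380 74619 9 (p4u1470) p4r1471

theorem p4r1472 : allRange pointOk 22 74628 9 = true := by decide +kernel
theorem p4u1472 : ∀ k, 61380 ≤ k → k < 74637 → pointOk (k * 22) = true := between_extend pointOk 22 61380 74628 9 (p4u1471) p4r1472

theorem p4r1473 : allRange pointOk 22 74637 9 = true := by decide +kernel
theorem p4u1473 : ∀ k, 61380 ≤ k → k < 74646 → pointOk (k * 22) = true := between_extend pointOk 22 61380 74637 9 (p4u1472) p4r1473

theorem p4r1474 : allRange pointOk 22 74646 9 = true := by decide +kernel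
theorem p4u1474 : ∀ k, 61380 ≤ k → k < 74655 → pointOk (k * 22) = true := between_extend pointOk 22 61380 74646 9 (p4u1473) p4r1474

theorem p4r1475 : allRange pointOk 22 74655 9 = true := by decide +kernel
theorem p4u1475 : ∀ k, 61380 ≤ k → k < 74664 → pointOk (k * 22) = true := between_extend pointOk 22 61380 74655 9 (p4u1474) p4r1475

theorem p4r1476 : allRange pointOk 22 74664 9 = true := by decide +kernel
theorem p4u1476 : ∀ k, 61380 ≤ k → k < 74673 → pointOk (k * 22) = true := between_extend pointOk 22 61380 74664 9 (p4u1475) p4r1476

theorem p4r1477 : allRange pointOk 22 74673 9 = true := by decide +kernel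
theorem p4u1477 : ∀ k, 61380 ≤ k → k < 74682 → pointOk (k * 22) = true := between_extend pointOk 22 61380 74673 9 (p4u1476) p4r1477

theorem p4r1478 : allRange pointOk 22 74682 9 = true := by decide +kernel
theorem p4u1478 : ∀ k, 61380 ≤ k → k < 74691 → pointOk (k * 22) = true := between_extend pointOk 22 61380 74682 9 (p4u1477) p4r1478

theorem p4r1479 : allRange pointOk 22 74691 9 = true := by decide +kernel
theorem p4u1479 : ∀ k, 61380 ≤ k → k < 74700 → pointOk (k * 22) = true := between_extend pointOk 22 61380 74691 9 (p4u1478) p4r1479

theorem p4r1480 : allRange pointOk 22 74700 9 = true := by decide +kernel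
theorem p4u1480 : ∀ k, 61380 ≤ k → k < 74709 → pointOk (k * 22) = true := between_extend pointOk 22 61380 74700 9 (p4u1479) p4r1480

theorem p4r1481 : allRange pointOk 22 74709 9 = true := by decide +kernel
theorem p4u1481 : ∀ k, 61380 ≤ k → k < 74718 → pointOk (k * 22) = true := between_extend pointOk 22 61380 74709 9 (p4u1480) p4r1481

theorem p4r1482 : allRange pointOk 22 74718 9 = true := by decide +kernel
theorem p4u1482 : ∀ k, 61380 ≤ k → k < 74727 → pointOk (k * 22) = true := between_extend pointOk 22 61380 74718 9 (p4u1481) p4r1482

theorem p4r1483 : allRange pointOk 22 74727 9 = true := by decide +kernel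
theorem p4u1483 : ∀ k, 61380 ≤ k → k < 74736 → pointOk (k * 22) = true := between_extend pointOk 22 61380 74727 9 (p4u1482) p4r1483

theorem p4r1484 : allRange pointOk 22 74736 9 = true := by decide +kernel
theorem p4u1484 : ∀ k, 61380 ≤ k → k < 74745 → pointOk (k * 22) = true := between_extend pointOk 22 61380 74736 9 (p4u1483) p4r1484

theorem p4r1485 : allRange pointOk 22 74745 9 = true := by decide +kernel
theorem p4u1485 : ∀ k, 61380 ≤ k → k < 74754 → pointOk (k * 22) = true := between_extend pointOk 22 61380 74745 9 (p4u1484) p4r1485

theorem p4r1486 : allRange pointOk 22 74754 9 = true := by decide +kernel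
theorem p4u1486 : ∀ k, 61380 ≤ k → k < 74763 → pointOk (k * 22) = true := between_extend pointOk 22 61380 74754 9 (p4u1485) p4r1486

theorem p4r1487 : allRange pointOk 22 74763 9 = true := by decide +kernel
theorem p4u1487 : ∀ k, 61380 ≤ k → k < 74772 → pointOk (k * 22) = true := between_extend pointOk 22 61380 74763 9 (p4u1486) p4r1487

theorem p4r1488 : allRange pointOk 22 74772 9 = true := by decide +kernel
theorem p4u1488 : ∀ k, 61380 ≤ k → k < 74781 → pointOk (k * 22) = true := between_extend pointOk 22 61380 74772 9 (p4u1487) p4r1488

theorem p4r1489 : allRange pointOk 22 74781 9 = true := by decide +kernel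
theorem p4u1489 : ∀ k, 61380 ≤ k → k < 74790 → pointOk (k * 22) = true := between_extend pointOk 22 61380 74781 9 (p4u1488) p4r1489

theorem p4r1490 : allRange pointOk 22 74790 9 = true := by decide +kernel
theorem p4u1490 : ∀ k, 61380 ≤ k → k < 74799 → pointOk (k * 22) = true := between_extend pointOk 22 61380 74790 9 (p4u1489) p4r1490

theorem p4r1491 : allRange pointOk 22 74799 9 = true := by decide +kernel
theorem p4u1491 : ∀ k, 61380 ≤ k → k < 74808 → pointOk (k * 22) = true := between_extend pointOk 22 61380 74799 9 (p4u1490) p4r1491

theorem p4r1492 : allRange pointOk 22 74808 9 = true := by decide +kernel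
theorem p4u1492 : ∀ k, 61380 ≤ k → k < 74817 → pointOk (k * 22) = true := between_extend pointOk 22 61380 74808 9 (p4u1491) p4r1492

theorem p4r1493 : allRange pointOk 22 74817 9 = true := by decide +kernel
theorem p4u1493 : ∀ k, 61380 ≤ k → k < 74826 → pointOk (k * 22) = true := between_extend pointOk 22 61380 74817 9 (p4u1492) p4r1493

theorem p4r1494 : allRange pointOk 22 74826 9 = true := by decide +kernel
theorem p4u1494 : ∀ k, 61380 ≤ k → k < 74835 → pointOk (k * 22) = true := between_extend pointOk 22 61380 74826 9 (p4u1493) p4r1494

theorem p4r1495 : allRange pointOk 22 74835 9 = true := by decide +kernel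
theorem p4u1495 : ∀ k, 61380 ≤ k → k < 74844 → pointOk (k * 22) = true := between_extend pointOk 22 61380 74835 9 (p4u1494) p4r1495

theorem p4r1496 : allRange pointOk 22 74844 9 = true := by decide +kernel
theorem p4u1496 : ∀ k, 61380 ≤ k → k < 74853 → pointOk (k * 22) = true := between_extend pointOk 22 61380 74844 9 (p4u1495) p4r1496

theorem p4r1497 : allRange pointOk 22 74853 9 = true := by decide +kernel
theorem p4u1497 : ∀ k, 61380 ≤ k → k < 74862 → pointOk (k * 22) = true := between_extend pointOk 22 61380 74853 9 (p4u1496) p4r1497

theorem p4r1498 : allRange pointOk 22 74862 9 = true := by decide +kernel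
theorem p4u1498 : ∀ k, 61380 ≤ k → k < 74871 → pointOk (k * 22) = true := between_extend pointOk 22 61380 74862 9 (p4u1497) p4r1498

theorem p4r1499 : allRange pointOk 22 74871 9 = true := by decide +kernel
theorem p4u1499 : ∀ k, 61380 ≤ k → k < 74880 → pointOk (k * 22) = true := between_extend pointOk 22 61380 74871 9 (p4u1498) p4r1499

theorem p4r1500 : allRange pointOk 22 74880 9 = true := by decide +kernel
theorem p4u1500 : ∀ k, 61380 ≤ k → k < 74889 → pointOk (k * 22) = true := between_extend pointOk 22 61380 74880 9 (p4u1499) p4r1500

theorem p4r1501 : allRange pointOk 22 74889 9 = true := by decide +kernel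
theorem p4u1501 : ∀ k, 61380 ≤ k → k < 74898 → pointOk (k * 22) = true := between_extend pointOk 22 61380 74889 9 (p4u1500) p4r1501

theorem p4r1502 : allRange pointOk 22 74898 9 = true := by decide +kernel
theorem p4u1502 : ∀ k, 61380 ≤ k → k < 74907 → pointOk (k * 22) = true := between_extend pointOk 22 61380 74898 9 (p4u1501) p4r1502

theorem p4r1503 : allRange pointOk 22 74907 9 = true := by decide +kernel
theorem p4u1503 : ∀ k, 61380 ≤ k → k < 74916 → pointOk (k * 22) = true := between_extend pointOk 22 61380 74907 9 (p4u1502) p4r1503

theorem p4r1504 : allRange pointOk 22 74916 9 = true := by decide +kernel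
theorem p4u1504 : ∀ k, 61380 ≤ k → k < 74925 → pointOk (k * 22) = true := between_extend pointOk 22 61380 74916 9 (p4u1503) p4r1504

theorem p4r1505 : allRange pointOk 22 74925 9 = true := by decide +kernel
theorem p4u1505 : ∀ k, 61380 ≤ k → k < 74934 → pointOk (k * 22) = true := between_extend pointOk 22 61380 74925 9 (p4u1504) p4r1505

theorem p4r1506 : allRange pointOk 22 74934 9 = true := by decide +kernel
theorem p4u1506 : ∀ k, 61380 ≤ k → k < 74943 → pointOk (k * 22) = true := between_extend pointOk 22 61380 74934 9 (p4u1505) p4r1506

theorem p4r1507 : allRange pointOk 22 74943 9 = true := by decide +kernel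
theorem p4u1507 : ∀ k, 61380 ≤ k → k < 74952 → pointOk (k * 22) = true := between_extend pointOk 22 61380 74943 9 (p4u1506) p4r1507

theorem p4r1508 : allRange pointOk 22 74952 9 = true := by decide +kernel
theorem p4u1508 : ∀ k, 61380 ≤ k → k < 74961 → pointOk (k * 22) = true := between_extend pointOk 22 61380 74952 9 (p4u1507) p4r1508

theorem p4r1509 : allRange pointOk 22 74961 9 = true := by decide +kernel
theorem p4u1509 : ∀ k, 61380 ≤ k → k < 74970 → pointOk (k * 22) = true := between_extend pointOk 22 61380 74961 9 (p4u1508) p4r1509

theorem p4r1510 : allRange pointOk 22 74970 9 = true := by decide +kernel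
theorem p4u1510 : ∀ k, 61380 ≤ k → k < 74979 → pointOk (k * 22) = true := between_extend pointOk 22 61380 74970 9 (p4u1509) p4r1510

theorem p4r1511 : allRange pointOk 22 74979 9 = true := by decide +kernel
theorem p4u1511 : ∀ k, 61380 ≤ k → k < 74988 → pointOk (k * 22) = true := between_extend pointOk 22 61380 74979 9 (p4u1510) p4r1511

theorem p4r1512 : allRange pointOk 22 74988 9 = true := by decide +kernel
theorem p4u1512 : ∀ k, 61380 ≤ k → k < 74997 → pointOk (k * 22) = true := between_extend pointOk 22 61380 74988 9 (p4u1511) p4r1512

theorem p4r1513 : allRange pointOk 22 74997 9 = true := by decide +kernel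
theorem p4u1513 : ∀ k, 61380 ≤ k → k < 75006 → pointOk (k * 22) = true := between_extend pointOk 22 61380 74997 9 (p4u1512) p4r1513

theorem p4r1514 : allRange pointOk 22 75006 9 = true := by decide +kernel
theorem p4u1514 : ∀ k, 61380 ≤ k → k < 75015 → pointOk (k * 22) = true := between_extend pointOk 22 61380 75006 9 (p4u1513) p4r1514

theorem p4r1515 : allRange pointOk 22 75015 9 = true := by decide +kernel
theorem p4u1515 : ∀ k, 61380 ≤ k → k < 75024 → pointOk (k * 22) = true := between_extend pointOk 22 61380 75015 9 (p4u1514) p4r1515

theorem p4r1516 : allRange pointOk 22 75024 9 = true := by decide +kernel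
theorem p4u1516 : ∀ k, 61380 ≤ k → k < 75033 → pointOk (k * 22) = true := between_extend pointOk 22 61380 75024 9 (p4u1515) p4r1516

theorem p4r1517 : allRange pointOk 22 75033 9 = true := by decide +kernel
theorem p4u1517 : ∀ k, 61380 ≤ k → k < 75042 → pointOk (k * 22) = true := between_extend pointOk 22 61380 75033 9 (p4u1516) p4r1517

theorem p4r1518 : allRange pointOk 22 75042 9 = true := by decide +kernel
theorem p4u1518 : ∀ k, 61380 ≤ k → k < 75051 → pointOk (k * 22) = true := between_extend pointOk 22 61380 75042 9 (p4u1517) p4r1518

theorem p4r1519 : allRange pointOk 22 75051 9 = true := by decide +kernel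
theorem p4u1519 : ∀ k, 61380 ≤ k → k < 75060 → pointOk (k * 22) = true := between_extend pointOk 22 61380 75051 9 (p4u1518) p4r1519

theorem p4r1520 : allRange pointOk 22 75060 9 = true := by decide +kernel
theorem p4u1520 : ∀ k, 61380 ≤ k → k < 75069 → pointOk (k * 22) = true := between_extend pointOk 22 61380 75060 9 (p4u1519) p4r1520

theorem p4r1521 : allRange pointOk 22 75069 9 = true := by decide +kernel
theorem p4u1521 : ∀ k, 61380 ≤ k → k < 75078 → pointOk (k * 22) = true := between_extend pointOk 22 61380 75069 9 (p4u1520) p4r1521

theorem p4r1522 : allRange pointOk 22 75078 9 = true := by decide +kernel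
theorem p4u1522 : ∀ k, 61380 ≤ k → k < 75087 → pointOk (k * 22) = true := between_extend pointOk 22 61380 75078 9 (p4u1521) p4r1522

theorem p4r1523 : allRange pointOk 22 75087 9 = true := by decide +kernel
theorem p4u1523 : ∀ k, 61380 ≤ k → k < 75096 → pointOk (k * 22) = true := between_extend pointOk 22 61380 75087 9 (p4u1522) p4r1523

theorem p4r1524 : allRange pointOk 22 75096 9 = true := by decide +kernel
theorem p4u1524 : ∀ k, 61380 ≤ k → k < 75105 → pointOk (k * 22) = true := between_extend pointOk 22 61380 75096 9 (p4u1523) p4r1524

theorem p4r1525 : allRange pointOk 22 75105 9 = true := by decide +kernel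
theorem p4u1525 : ∀ k, 61380 ≤ k → k < 75114 → pointOk (k * 22) = true := between_extend pointOk 22 61380 75105 9 (p4u1524) p4r1525

theorem p4r1526 : allRange pointOk 22 75114 9 = true := by decide +kernel
theorem p4u1526 : ∀ k, 61380 ≤ k → k < 75123 → pointOk (k * 22) = true := between_extend pointOk 22 61380 75114 9 (p4u1525) p4r1526

theorem p4r1527 : allRange pointOk 22 75123 9 = true := by decide +kernel
theorem p4u1527 : ∀ k, 61380 ≤ k → k < 75132 → pointOk (k * 22) = true := between_extend pointOk 22 61380 75123 9 (p4u1526) p4r1527

theorem p4r1528 : allRange pointOk 22 75132 9 = true := by decide +kernel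
theorem p4u1528 : ∀ k, 61380 ≤ k → k < 75141 → pointOk (k * 22) = true := between_extend pointOk 22 61380 75132 9 (p4u1527) p4r1528

theorem p4r1529 : allRange pointOk 22 75141 9 = true := by decide +kernel
theorem p4u1529 : ∀ k, 61380 ≤ k → k < 75150 → pointOk (k * 22) = true := between_extend pointOk 22 61380 75141 9 (p4u1528) p4r1529

theorem p4r1530 : allRange pointOk 22 75150 9 = true := by decide +kernel
theorem p4u1530 : ∀ k, 61380 ≤ k → k < 75159 → pointOk (k * 22) = true := between_extend pointOk 22 61380 75150 9 (p4u1529) p4r1530

theorem p4r1531 : allRange pointOk 22 75159 9 = true := by decide +kernel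
theorem p4u1531 : ∀ k, 61380 ≤ k → k < 75168 → pointOk (k * 22) = true := between_extend pointOk 22 61380 75159 9 (p4u1530) p4r1531

theorem p4r1532 : allRange pointOk 22 75168 9 = true := by decide +kernel
theorem p4u1532 : ∀ k, 61380 ≤ k → k < 75177 → pointOk (k * 22) = true := between_extend pointOk 22 61380 75168 9 (p4u1531) p4r1532

theorem p4r1533 : allRange pointOk 22 75177 9 = true := by decide +kernel
theorem p4u1533 : ∀ k, 61380 ≤ k → k < 75186 → pointOk (k * 22) = true := between_extend pointOk 22 61380 75177 9 (p4u1532) p4r1533

theorem p4r1534 : allRange pointOk 22 75186 9 = true := by decide +kernel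
theorem p4u1534 : ∀ k, 61380 ≤ k → k < 75195 → pointOk (k * 22) = true := between_extend pointOk 22 61380 75186 9 (p4u1533) p4r1534

theorem p4r1535 : allRange pointOk 22 75195 9 = true := by decide +kernel
theorem p4u1535 : ∀ k, 61380 ≤ k → k < 75204 → pointOk (k * 22) = true := between_extend pointOk 22 61380 75195 9 (p4u1534) p4r1535

theorem p4r1536 : allRange pointOk 22 75204 9 = true := by decide +kernel
theorem p4u1536 : ∀ k, 61380 ≤ k → k < 75213 → pointOk (k * 22) = true := between_extend pointOk 22 61380 75204 9 (p4u1535) p4r1536

theorem p4r1537 : allRange pointOk 22 75213 9 = true := by decide +kernel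
theorem p4u1537 : ∀ k, 61380 ≤ k → k < 75222 → pointOk (k * 22) = true := between_extend pointOk 22 61380 75213 9 (p4u1536) p4r1537

theorem p4r1538 : allRange pointOk 22 75222 9 = true := by decide +kernel
theorem p4u1538 : ∀ k, 61380 ≤ k → k < 75231 → pointOk (k * 22) = true := between_extend pointOk 22 61380 75222 9 (p4u1537) p4r1538

theorem p4r1539 : allRange pointOk 22 75231 9 = true := by decide +kernel
theorem p4u1539 : ∀ k, 61380 ≤ k → k < 75240 → pointOk (k * 22) = true := between_extend pointOk 22 61380 75231 9 (p4u1538) p4r1539

theorem p4r1540 : allRange pointOk 22 75240 9 = true := by decide +kernel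
theorem p4u1540 : ∀ k, 61380 ≤ k → k < 75249 → pointOk (k * 22) = true := between_extend pointOk 22 61380 75240 9 (p4u1539) p4r1540

theorem p4r1541 : allRange pointOk 22 75249 9 = true := by decide +kernel
theorem p4u1541 : ∀ k, 61380 ≤ k → k < 75258 → pointOk (k * 22) = true := between_extend pointOk 22 61380 75249 9 (p4u1540) p4r1541

theorem p4r1542 : allRange pointOk 22 75258 9 = true := by decide +kernel
theorem p4u1542 : ∀ k, 61380 ≤ k → k < 75267 → pointOk (k * 22) = true := between_extend pointOk 22 61380 75258 9 (p4u1541) p4r1542

theorem p4r1543 : allRange pointOk 22 75267 9 = true := by decide +kernel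
theorem p4u1543 : ∀ k, 61380 ≤ k → k < 75276 → pointOk (k * 22) = true := between_extend pointOk 22 61380 75267 9 (p4u1542) p4r1543

theorem p4r1544 : allRange pointOk 22 75276 9 = true := by decide +kernel
theorem p4u1544 : ∀ k, 61380 ≤ k → k < 75285 → pointOk (k * 22) = true := between_extend pointOk 22 61380 75276 9 (p4u1543) p4r1544

theorem p4r1545 : allRange pointOk 22 75285 9 = true := by decide +kernel
theorem p4u1545 : ∀ k, 61380 ≤ k → k < 75294 → pointOk (k * 22) = true := between_extend pointOk 22 61380 75285 9 (p4u1544) p4r1545

theorem p4r1546 : allRange pointOk 22 75294 9 = true := by decide +kernel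
theorem p4u1546 : ∀ k, 61380 ≤ k → k < 75303 → pointOk (k * 22) = true := between_extend pointOk 22 61380 75294 9 (p4u1545) p4r1546

theorem p4r1547 : allRange pointOk 22 75303 9 = true := by decide +kernel
theorem p4u1547 : ∀ k, 61380 ≤ k → k < 75312 → pointOk (k * 22) = true := between_extend pointOk 22 61380 75303 9 (p4u1546) p4r1547

theorem p4r1548 : allRange pointOk 22 75312 9 = true := by decide +kernel
theorem p4u1548 : ∀ k, 61380 ≤ k → k < 75321 → pointOk (k * 22) = true := between_extend pointOk 22 61380 75312 9 (p4u1547) p4r1548

theorem p4r1549 : allRange pointOk 22 75321 9 = true := by decide +kernel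
theorem p4u1549 : ∀ k, 61380 ≤ k → k < 75330 → pointOk (k * 22) = true := between_extend pointOk 22 61380 75321 9 (p4u1548) p4r1549

theorem p4r1550 : allRange pointOk 22 75330 9 = true := by decide +kernel
theorem p4u1550 : ∀ k, 61380 ≤ k → k < 75339 → pointOk (k * 22) = true := between_extend pointOk 22 61380 75330 9 (p4u1549) p4r1550

theorem p4r1551 : allRange pointOk 22 75339 9 = true := by decide +kernel
theorem p4u1551 : ∀ k, 61380 ≤ k → k < 75348 → pointOk (k * 22) = true := between_extend pointOk 22 61380 75339 9 (p4u1550) p4r1551

theorem p4r1552 : allRange pointOk 22 75348 9 = true := by decide +kernel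
theorem p4u1552 : ∀ k, 61380 ≤ k → k < 75357 → pointOk (k * 22) = true := between_extend pointOk 22 61380 75348 9 (p4u1551) p4r1552

theorem p4r1553 : allRange pointOk 22 75357 9 = true := by decide +kernel
theorem p4u1553 : ∀ k, 61380 ≤ k → k < 75366 → pointOk (k * 22) = true := between_extend pointOk 22 61380 75357 9 (p4u1552) p4r1553

theorem p4r1554 : allRange pointOk 22 75366 9 = true := by decide +kernel
theorem p4u1554 : ∀ k, 61380 ≤ k → k < 75375 → pointOk (k * 22) = true := between_extend pointOk 22 61380 75366 9 (p4u1553) p4r1554

theorem p4r1555 : allRange pointOk 22 75375 9 = true := by decide +kernel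
theorem p4u1555 : ∀ k, 61380 ≤ k → k < 75384 → pointOk (k * 22) = true := between_extend pointOk 22 61380 75375 9 (p4u1554) p4r1555

theorem p4r1556 : allRange pointOk 22 75384 9 = true := by decide +kernel
theorem p4u1556 : ∀ k, 61380 ≤ k → k < 75393 → pointOk (k * 22) = true := between_extend pointOk 22 61380 75384 9 (p4u1555) p4r1556

theorem p4r1557 : allRange pointOk 22 75393 9 = true := by decide +kernel
theorem p4u1557 : ∀ k, 61380 ≤ k → k < 75402 → pointOk (k * 22) = true := between_extend pointOk 22 61380 75393 9 (p4u1556) p4r1557

theorem p4r1558 : allRange pointOk 22 75402 9 = true := by decide +kernel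
theorem p4u1558 : ∀ k, 61380 ≤ k → k < 75411 → pointOk (k * 22) = true := between_extend pointOk 22 61380 75402 9 (p4u1557) p4r1558

theorem p4r1559 : allRange pointOk 22 75411 9 = true := by decide +kernel
theorem p4u1559 : ∀ k, 61380 ≤ k → k < 75420 → pointOk (k * 22) = true := between_extend pointOk 22 61380 75411 9 (p4u1558) p4r1559

theorem p4r1560 : allRange pointOk 22 75420 9 = true := by decide +kernel
theorem p4u1560 : ∀ k, 61380 ≤ k → k < 75429 → pointOk (k * 22) = true := between_extend pointOk 22 61380 75420 9 (p4u1559) p4r1560

theorem p4r1561 : allRange pointOk 22 75429 9 = true := by decide +kernel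
theorem p4u1561 : ∀ k, 61380 ≤ k → k < 75438 → pointOk (k * 22) = true := between_extend pointOk 22 61380 75429 9 (p4u1560) p4r1561

theorem p4r1562 : allRange pointOk 22 75438 9 = true := by decide +kernel
theorem p4u1562 : ∀ k, 61380 ≤ k → k < 75447 → pointOk (k * 22) = true := between_extend pointOk 22 61380 75438 9 (p4u1561) p4r1562

theorem p4r1563 : allRange pointOk 22 75447 9 = true := by decide +kernel
theorem p4u1563 : ∀ k, 61380 ≤ k → k < 75456 → pointOk (k * 22) = true := between_extend pointOk 22 61380 75447 9 (p4u1562) p4r1563

theorem p4r1564 : allRange pointOk 22 75456 9 = true := by decide +kernel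
theorem p4u1564 : ∀ k, 61380 ≤ k → k < 75465 → pointOk (k * 22) = true := between_extend pointOk 22 61380 75456 9 (p4u1563) p4r1564

theorem p4r1565 : allRange pointOk 22 75465 9 = true := by decide +kernel
theorem p4u1565 : ∀ k, 61380 ≤ k → k < 75474 → pointOk (k * 22) = true := between_extend pointOk 22 61380 75465 9 (p4u1564) p4r1565

theorem p4r1566 : allRange pointOk 22 75474 9 = true := by decide +kernel
theorem p4u1566 : ∀ k, 61380 ≤ k → k < 75483 → pointOk (k * 22) = true := between_extend pointOk 22 61380 75474 9 (p4u1565) p4r1566

theorem p4r1567 : allRange pointOk 22 75483 9 = true := by decide +kernel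
theorem p4u1567 : ∀ k, 61380 ≤ k → k < 75492 → pointOk (k * 22) = true := between_extend pointOk 22 61380 75483 9 (p4u1566) p4r1567

theorem p4r1568 : allRange pointOk 22 75492 9 = true := by decide +kernel
theorem p4u1568 : ∀ k, 61380 ≤ k → k < 75501 → pointOk (k * 22) = true := between_extend pointOk 22 61380 75492 9 (p4u1567) p4r1568

theorem p4r1569 : allRange pointOk 22 75501 9 = true := by decide +kernel
theorem p4u1569 : ∀ k, 61380 ≤ k → k < 75510 → pointOk (k * 22) = true := between_extend pointOk 22 61380 75501 9 (p4u1568) p4r1569

theorem p4r1570 : allRange pointOk 22 75510 9 = true := by decide +kernel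
theorem p4u1570 : ∀ k, 61380 ≤ k → k < 75519 → pointOk (k * 22) = true := between_extend pointOk 22 61380 75510 9 (p4u1569) p4r1570

theorem p4r1571 : allRange pointOk 22 75519 9 = true := by decide +kernel
theorem p4u1571 : ∀ k, 61380 ≤ k → k < 75528 → pointOk (k * 22) = true := between_extend pointOk 22 61380 75519 9 (p4u1570) p4r1571

theorem p4r1572 : allRange pointOk 22 75528 9 = true := by decide +kernel
theorem p4u1572 : ∀ k, 61380 ≤ k → k < 75537 → pointOk (k * 22) = true := between_extend pointOk 22 61380 75528 9 (p4u1571) p4r1572

theorem p4r1573 : allRange pointOk 22 75537 9 = true := by decide +kernel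
theorem p4u1573 : ∀ k, 61380 ≤ k → k < 75546 → pointOk (k * 22) = true := between_extend pointOk 22 61380 75537 9 (p4u1572) p4r1573

theorem p4r1574 : allRange pointOk 22 75546 9 = true := by decide +kernel
theorem p4u1574 : ∀ k, 61380 ≤ k → k < 75555 → pointOk (k * 22) = true := between_extend pointOk 22 61380 75546 9 (p4u1573) p4r1574

theorem p4r1575 : allRange pointOk 22 75555 9 = true := by decide +kernel
theorem p4u1575 : ∀ k, 61380 ≤ k → k < 75564 → pointOk (k * 22) = true := between_extend pointOk 22 61380 75555 9 (p4u1574) p4r1575

theorem p4r1576 : allRange pointOk 22 75564 9 = true := by decide +kernel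
theorem p4u1576 : ∀ k, 61380 ≤ k → k < 75573 → pointOk (k * 22) = true := between_extend pointOk 22 61380 75564 9 (p4u1575) p4r1576

theorem p4r1577 : allRange pointOk 22 75573 9 = true := by decide +kernel
theorem p4u1577 : ∀ k, 61380 ≤ k → k < 75582 → pointOk (k * 22) = true := between_extend pointOk 22 61380 75573 9 (p4u1576) p4r1577

theorem p4r1578 : allRange pointOk 22 75582 9 = true := by decide +kernel
theorem p4u1578 : ∀ k, 61380 ≤ k → k < 75591 → pointOk (k * 22) = true := between_extend pointOk 22 61380 75582 9 (p4u1577) p4r1578

theorem p4r1579 : allRange pointOk 22 75591 9 = true := by decide +kernel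
theorem p4u1579 : ∀ k, 61380 ≤ k → k < 75600 → pointOk (k * 22) = true := between_extend pointOk 22 61380 75591 9 (p4u1578) p4r1579

theorem p4r1580 : allRange pointOk 22 75600 9 = true := by decide +kernel
theorem p4u1580 : ∀ k, 61380 ≤ k → k < 75609 → pointOk (k * 22) = true := between_extend pointOk 22 61380 75600 9 (p4u1579) p4r1580

theorem p4r1581 : allRange pointOk 22 75609 9 = true := by decide +kernel
theorem p4u1581 : ∀ k, 61380 ≤ k → k < 75618 → pointOk (k * 22) = true := between_extend pointOk 22 61380 75609 9 (p4u1580) p4r1581

theorem p4r1582 : allRange pointOk 22 75618 9 = true := by decide +kernel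
theorem p4u1582 : ∀ k, 61380 ≤ k → k < 75627 → pointOk (k * 22) = true := between_extend pointOk 22 61380 75618 9 (p4u1581) p4r1582

theorem p4r1583 : allRange pointOk 22 75627 9 = true := by decide +kernel
theorem p4u1583 : ∀ k, 61380 ≤ k → k < 75636 → pointOk (k * 22) = true := between_extend pointOk 22 61380 75627 9 (p4u1582) p4r1583

theorem p4r1584 : allRange pointOk 22 75636 9 = true := by decide +kernel
theorem p4u1584 : ∀ k, 61380 ≤ k → k < 75645 → pointOk (k * 22) = true := between_extend pointOk 22 61380 75636 9 (p4u1583) p4r1584

theorem p4r1585 : allRange pointOk 22 75645 9 = true := by decide +kernel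
theorem p4u1585 : ∀ k, 61380 ≤ k → k < 75654 → pointOk (k * 22) = true := between_extend pointOk 22 61380 75645 9 (p4u1584) p4r1585

theorem p4r1586 : allRange pointOk 22 75654 9 = true := by decide +kernel
theorem p4u1586 : ∀ k, 61380 ≤ k → k < 75663 → pointOk (k * 22) = true := between_extend pointOk 22 61380 75654 9 (p4u1585) p4r1586

theorem p4r1587 : allRange pointOk 22 75663 9 = true := by decide +kernel
theorem p4u1587 : ∀ k, 61380 ≤ k → k < 75672 → pointOk (k * 22) = true := between_extend pointOk 22 61380 75663 9 (p4u1586) p4r1587

theorem p4r1588 : allRange pointOk 22 75672 9 = true := by decide +kernel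
theorem p4u1588 : ∀ k, 61380 ≤ k → k < 75681 → pointOk (k * 22) = true := between_extend pointOk 22 61380 75672 9 (p4u1587) p4r1588

theorem p4r1589 : allRange pointOk 22 75681 9 = true := by decide +kernel
theorem p4u1589 : ∀ k, 61380 ≤ k → k < 75690 → pointOk (k * 22) = true := between_extend pointOk 22 61380 75681 9 (p4u1588) p4r1589

theorem p4r1590 : allRange pointOk 22 75690 9 = true := by decide +kernel
theorem p4u1590 : ∀ k, 61380 ≤ k → k < 75699 → pointOk (k * 22) = true := between_extend pointOk 22 61380 75690 9 (p4u1589) p4r1590

theorem p4r1591 : allRange pointOk 22 75699 9 = true := by decide +kernel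
theorem p4u1591 : ∀ k, 61380 ≤ k → k < 75708 → pointOk (k * 22) = true := between_extend pointOk 22 61380 75699 9 (p4u1590) p4r1591

theorem p4r1592 : allRange pointOk 22 75708 9 = true := by decide +kernel
theorem p4u1592 : ∀ k, 61380 ≤ k → k < 75717 → pointOk (k * 22) = true := between_extend pointOk 22 61380 75708 9 (p4u1591) p4r1592

theorem p4r1593 : allRange pointOk 22 75717 9 = true := by decide +kernel
theorem p4u1593 : ∀ k, 61380 ≤ k → k < 75726 → pointOk (k * 22) = true := between_extend pointOk 22 61380 75717 9 (p4u1592) p4r1593

theorem p4r1594 : allRange pointOk 22 75726 9 = true := by decide +kernel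
theorem p4u1594 : ∀ k, 61380 ≤ k → k < 75735 → pointOk (k * 22) = true := between_extend pointOk 22 61380 75726 9 (p4u1593) p4r1594

theorem p4r1595 : allRange pointOk 22 75735 9 = true := by decide +kernel
theorem p4u1595 : ∀ k, 61380 ≤ k → k < 75744 → pointOk (k * 22) = true := between_extend pointOk 22 61380 75735 9 (p4u1594) p4r1595

theorem p4r1596 : allRange pointOk 22 75744 9 = true := by decide +kernel
theorem p4u1596 : ∀ k, 61380 ≤ k → k < 75753 → pointOk (k * 22) = true := between_extend pointOk 22 61380 75744 9 (p4u1595) p4r1596

theorem p4r1597 : allRange pointOk 22 75753 9 = true := by decide +kernel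
theorem p4u1597 : ∀ k, 61380 ≤ k → k < 75762 → pointOk (k * 22) = true := between_extend pointOk 22 61380 75753 9 (p4u1596) p4r1597

theorem p4r1598 : allRange pointOk 22 75762 9 = true := by decide +kernel
theorem p4u1598 : ∀ k, 61380 ≤ k → k < 75771 → pointOk (k * 22) = true := between_extend pointOk 22 61380 75762 9 (p4u1597) p4r1598

theorem p4r1599 : allRange pointOk 22 75771 9 = true := by decide +kernel
theorem p4u1599 : ∀ k, 61380 ≤ k → k < 75780 → pointOk (k * 22) = true := between_extend pointOk 22 61380 75771 9 (p4u1598) p4r1599

theorem p4r1600 : allRange pointOk 22 75780 9 = true := by decide +kernel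
theorem p4u1600 : ∀ k, 61380 ≤ k → k < 75789 → pointOk (k * 22) = true := between_extend pointOk 22 61380 75780 9 (p4u1599) p4r1600

theorem p4r1601 : allRange pointOk 22 75789 9 = true := by decide +kernel
theorem p4u1601 : ∀ k, 61380 ≤ k → k < 75798 → pointOk (k * 22) = true := between_extend pointOk 22 61380 75789 9 (p4u1600) p4r1601

theorem p4r1602 : allRange pointOk 22 75798 9 = true := by decide +kernel
theorem p4u1602 : ∀ k, 61380 ≤ k → k < 75807 → pointOk (k * 22) = true := between_extend pointOk 22 61380 75798 9 (p4u1601) p4r1602

theorem p4r1603 : allRange pointOk 22 75807 9 = true := by decide +kernel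
theorem p4u1603 : ∀ k, 61380 ≤ k → k < 75816 → pointOk (k * 22) = true := between_extend pointOk 22 61380 75807 9 (p4u1602) p4r1603

theorem p4r1604 : allRange pointOk 22 75816 9 = true := by decide +kernel
theorem p4u1604 : ∀ k, 61380 ≤ k → k < 75825 → pointOk (k * 22) = true := between_extend pointOk 22 61380 75816 9 (p4u1603) p4r1604

theorem p4r1605 : allRange pointOk 22 75825 9 = true := by decide +kernel
theorem p4u1605 : ∀ k, 61380 ≤ k → k < 75834 → pointOk (k * 22) = true := between_extend pointOk 22 61380 75825 9 (p4u1604) p4r1605

theorem p4r1606 : allRange pointOk 22 75834 9 = true := by decide +kernel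
theorem p4u1606 : ∀ k, 61380 ≤ k → k < 75843 → pointOk (k * 22) = true := between_extend pointOk 22 61380 75834 9 (p4u1605) p4r1606

theorem p4r1607 : allRange pointOk 22 75843 9 = true := by decide +kernel
theorem p4u1607 : ∀ k, 61380 ≤ k → k < 75852 → pointOk (k * 22) = true := between_extend pointOk 22 61380 75843 9 (p4u1606) p4r1607

theorem p4r1608 : allRange pointOk 22 75852 9 = true := by decide +kernel
theorem p4u1608 : ∀ k, 61380 ≤ k → k < 75861 → pointOk (k * 22) = true := between_extend pointOk 22 61380 75852 9 (p4u1607) p4r1608

theorem p4r1609 : allRange pointOk 22 75861 9 = true := by decide +kernel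
theorem p4u1609 : ∀ k, 61380 ≤ k → k < 75870 → pointOk (k * 22) = true := between_extend pointOk 22 61380 75861 9 (p4u1608) p4r1609

theorem p4r1610 : allRange pointOk 22 75870 9 = true := by decide +kernel
theorem p4u1610 : ∀ k, 61380 ≤ k → k < 75879 → pointOk (k * 22) = true := between_extend pointOk 22 61380 75870 9 (p4u1609) p4r1610

theorem p4r1611 : allRange pointOk 22 75879 9 = true := by decide +kernel
theorem p4u1611 : ∀ k, 61380 ≤ k → k < 75888 → pointOk (k * 22) = true := between_extend pointOk 22 61380 75879 9 (p4u1610) p4r1611

theorem p4r1612 : allRange pointOk 22 75888 9 = true := by decide +kernel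
theorem p4u1612 : ∀ k, 61380 ≤ k → k < 75897 → pointOk (k * 22) = true := between_extend pointOk 22 61380 75888 9 (p4u1611) p4r1612

theorem p4r1613 : allRange pointOk 22 75897 9 = true := by decide +kernel
theorem p4u1613 : ∀ k, 61380 ≤ k → k < 75906 → pointOk (k * 22) = true := between_extend pointOk 22 61380 75897 9 (p4u1612) p4r1613

theorem p4r1614 : allRange pointOk 22 75906 9 = true := by decide +kernel
theorem p4u1614 : ∀ k, 61380 ≤ k → k < 75915 → pointOk (k * 22) = true := between_extend pointOk 22 61380 75906 9 (p4u1613) p4r1614

theorem p4r1615 : allRange pointOk 22 75915 9 = true := by decide +kernel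
theorem p4u1615 : ∀ k, 61380 ≤ k → k < 75924 → pointOk (k * 22) = true := between_extend pointOk 22 61380 75915 9 (p4u1614) p4r1615

theorem p4r1616 : allRange pointOk 22 75924 9 = true := by decide +kernel
theorem p4u1616 : ∀ k, 61380 ≤ k → k < 75933 → pointOk (k * 22) = true := between_extend pointOk 22 61380 75924 9 (p4u1615) p4r1616

theorem p4r1617 : allRange pointOk 22 75933 9 = true := by decide +kernel
theorem p4u1617 : ∀ k, 61380 ≤ k → k < 75942 → pointOk (k * 22) = true := between_extend pointOk 22 61380 75933 9 (p4u1616) p4r1617

theorem p4r1618 : allRange pointOk 22 75942 9 = true := by decide +kernel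
theorem p4u1618 : ∀ k, 61380 ≤ k → k < 75951 → pointOk (k * 22) = true := between_extend pointOk 22 61380 75942 9 (p4u1617) p4r1618

theorem p4r1619 : allRange pointOk 22 75951 9 = true := by decide +kernel
theorem p4u1619 : ∀ k, 61380 ≤ k → k < 75960 → pointOk (k * 22) = true := between_extend pointOk 22 61380 75951 9 (p4u1618) p4r1619

theorem p4r1620 : allRange pointOk 22 75960 9 = true := by decide +kernel
theorem p4u1620 : ∀ k, 61380 ≤ k → k < 75969 → pointOk (k * 22) = true := between_extend pointOk 22 61380 75960 9 (p4u1619) p4r1620

theorem p4r1621 : allRange pointOk 22 75969 9 = true := by decide +kernel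
theorem p4u1621 : ∀ k, 61380 ≤ k → k < 75978 → pointOk (k * 22) = true := between_extend pointOk 22 61380 75969 9 (p4u1620) p4r1621

theorem p4r1622 : allRange pointOk 22 75978 9 = true := by decide +kernel
theorem p4u1622 : ∀ k, 61380 ≤ k → k < 75987 → pointOk (k * 22) = true := between_extend pointOk 22 61380 75978 9 (p4u1621) p4r1622

theorem p4r1623 : allRange pointOk 22 75987 9 = true := by decide +kernel
theorem p4u1623 : ∀ k, 61380 ≤ k → k < 75996 → pointOk (k * 22) = true := between_extend pointOk 22 61380 75987 9 (p4u1622) p4r1623

theorem p4r1624 : allRange pointOk 22 75996 9 = true := by decide +kernel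
theorem p4u1624 : ∀ k, 61380 ≤ k → k < 76005 → pointOk (k * 22) = true := between_extend pointOk 22 61380 75996 9 (p4u1623) p4r1624

theorem p4r1625 : allRange pointOk 22 76005 9 = true := by decide +kernel
theorem p4u1625 : ∀ k, 61380 ≤ k → k < 76014 → pointOk (k * 22) = true := between_extend pointOk 22 61380 76005 9 (p4u1624) p4r1625

theorem p4r1626 : allRange pointOk 22 76014 9 = true := by decide +kernel
theorem p4u1626 : ∀ k, 61380 ≤ k → k < 76023 → pointOk (k * 22) = true := between_extend pointOk 22 61380 76014 9 (p4u1625) p4r1626

theorem p4r1627 : allRange pointOk 22 76023 9 = true := by decide +kernel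
theorem p4u1627 : ∀ k, 61380 ≤ k → k < 76032 → pointOk (k * 22) = true := between_extend pointOk 22 61380 76023 9 (p4u1626) p4r1627

theorem p4r1628 : allRange pointOk 22 76032 9 = true := by decide +kernel
theorem p4u1628 : ∀ k, 61380 ≤ k → k < 76041 → pointOk (k * 22) = true := between_extend pointOk 22 61380 76032 9 (p4u1627) p4r1628

theorem p4r1629 : allRange pointOk 22 76041 9 = true := by decide +kernel
theorem p4u1629 : ∀ k, 61380 ≤ k → k < 76050 → pointOk (k * 22) = true := between_extend pointOk 22 61380 76041 9 (p4u1628) p4r1629

theorem p4r1630 : allRange pointOk 22 76050 9 = true := by decide +kernel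
theorem p4u1630 : ∀ k, 61380 ≤ k → k < 76059 → pointOk (k * 22) = true := between_extend pointOk 22 61380 76050 9 (p4u1629) p4r1630

theorem p4r1631 : allRange pointOk 22 76059 9 = true := by decide +kernel
theorem p4u1631 : ∀ k, 61380 ≤ k → k < 76068 → pointOk (k * 22) = true := between_extend pointOk 22 61380 76059 9 (p4u1630) p4r1631

theorem p4r1632 : allRange pointOk 22 76068 9 = true := by decide +kernel
theorem p4u1632 : ∀ k, 61380 ≤ k → k < 76077 → pointOk (k * 22) = true := between_extend pointOk 22 61380 76068 9 (p4u1631) p4r1632

theorem p4r1633 : allRange pointOk 22 76077 9 = true := by decide +kernel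
theorem p4u1633 : ∀ k, 61380 ≤ k → k < 76086 → pointOk (k * 22) = true := between_extend pointOk 22 61380 76077 9 (p4u1632) p4r1633

theorem p4r1634 : allRange pointOk 22 76086 9 = true := by decide +kernel
theorem p4u1634 : ∀ k, 61380 ≤ k → k < 76095 → pointOk (k * 22) = true := between_extend pointOk 22 61380 76086 9 (p4u1633) p4r1634

theorem p4r1635 : allRange pointOk 22 76095 9 = true := by decide +kernel
theorem p4u1635 : ∀ k, 61380 ≤ k → k < 76104 → pointOk (k * 22) = true := between_extend pointOk 22 61380 76095 9 (p4u1634) p4r1635

theorem p4r1636 : allRange pointOk 22 76104 9 = true := by decide +kernel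
theorem p4u1636 : ∀ k, 61380 ≤ k → k < 76113 → pointOk (k * 22) = true := between_extend pointOk 22 61380 76104 9 (p4u1635) p4r1636

theorem p4r1637 : allRange pointOk 22 76113 9 = true := by decide +kernel
theorem p4u1637 : ∀ k, 61380 ≤ k → k < 76122 → pointOk (k * 22) = true := between_extend pointOk 22 61380 76113 9 (p4u1636) p4r1637

theorem p4r1638 : allRange pointOk 22 76122 9 = true := by decide +kernel
theorem p4u1638 : ∀ k, 61380 ≤ k → k < 76131 → pointOk (k * 22) = true := between_extend pointOk 22 61380 76122 9 (p4u1637) p4r1638

theorem p4r1639 : allRange pointOk 22 76131 9 = true := by decide +kernel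
theorem p4u1639 : ∀ k, 61380 ≤ k → k < 76140 → pointOk (k * 22) = true := between_extend pointOk 22 61380 76131 9 (p4u1638) p4r1639

theorem p4r1640 : allRange pointOk 22 76140 9 = true := by decide +kernel
theorem p4u1640 : ∀ k, 61380 ≤ k → k < 76149 → pointOk (k * 22) = true := between_extend pointOk 22 61380 76140 9 (p4u1639) p4r1640

theorem p4r1641 : allRange pointOk 22 76149 9 = true := by decide +kernel
theorem p4u1641 : ∀ k, 61380 ≤ k → k < 76158 → pointOk (k * 22) = true := between_extend pointOk 22 61380 76149 9 (p4u1640) p4r1641

theorem p4r1642 : allRange pointOk 22 76158 9 = true := by decide +kernel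
theorem p4u1642 : ∀ k, 61380 ≤ k → k < 76167 → pointOk (k * 22) = true := between_extend pointOk 22 61380 76158 9 (p4u1641) p4r1642

theorem p4r1643 : allRange pointOk 22 76167 9 = true := by decide +kernel
theorem p4u1643 : ∀ k, 61380 ≤ k → k < 76176 → pointOk (k * 22) = true := between_extend pointOk 22 61380 76167 9 (p4u1642) p4r1643

theorem p4r1644 : allRange pointOk 22 76176 9 = true := by decide +kernel
theorem p4u1644 : ∀ k, 61380 ≤ k → k < 76185 → pointOk (k * 22) = true := between_extend pointOk 22 61380 76176 9 (p4u1643) p4r1644

theorem p4r1645 : allRange pointOk 22 76185 9 = true := by decide +kernel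
theorem p4u1645 : ∀ k, 61380 ≤ k → k < 76194 → pointOk (k * 22) = true := between_extend pointOk 22 61380 76185 9 (p4u1644) p4r1645

theorem p4r1646 : allRange pointOk 22 76194 9 = true := by decide +kernel
theorem p4u1646 : ∀ k, 61380 ≤ k → k < 76203 → pointOk (k * 22) = true := between_extend pointOk 22 61380 76194 9 (p4u1645) p4r1646

theorem p4r1647 : allRange pointOk 22 76203 9 = true := by decide +kernel
theorem p4u1647 : ∀ k, 61380 ≤ k → k < 76212 → pointOk (k * 22) = true := between_extend pointOk 22 61380 76203 9 (p4u1646) p4r1647

theorem p4r1648 : allRange pointOk 22 76212 9 = true := by decide +kernel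
theorem p4u1648 : ∀ k, 61380 ≤ k → k < 76221 → pointOk (k * 22) = true := between_extend pointOk 22 61380 76212 9 (p4u1647) p4r1648

theorem p4r1649 : allRange pointOk 22 76221 9 = true := by decide +kernel
theorem p4u1649 : ∀ k, 61380 ≤ k → k < 76230 → pointOk (k * 22) = true := between_extend pointOk 22 61380 76221 9 (p4u1648) p4r1649

theorem p4r1650 : allRange pointOk 22 76230 9 = true := by decide +kernel
theorem p4u1650 : ∀ k, 61380 ≤ k → k < 76239 → pointOk (k * 22) = true := between_extend pointOk 22 61380 76230 9 (p4u1649) p4r1650

theorem p4r1651 : allRange pointOk 22 76239 9 = true := by decide +kernel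
theorem p4u1651 : ∀ k, 61380 ≤ k → k < 76248 → pointOk (k * 22) = true := between_extend pointOk 22 61380 76239 9 (p4u1650) p4r1651

theorem p4r1652 : allRange pointOk 22 76248 9 = true := by decide +kernel
theorem p4u1652 : ∀ k, 61380 ≤ k → k < 76257 → pointOk (k * 22) = true := between_extend pointOk 22 61380 76248 9 (p4u1651) p4r1652

theorem p4r1653 : allRange pointOk 22 76257 9 = true := by decide +kernel
theorem p4u1653 : ∀ k, 61380 ≤ k → k < 76266 → pointOk (k * 22) = true := between_extend pointOk 22 61380 76257 9 (p4u1652) p4r1653

theorem p4r1654 : allRange pointOk 22 76266 9 = true := by decide +kernel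
theorem p4u1654 : ∀ k, 61380 ≤ k → k < 76275 → pointOk (k * 22) = true := between_extend pointOk 22 61380 76266 9 (p4u1653) p4r1654

theorem p4r1655 : allRange pointOk 22 76275 9 = true := by decide +kernel
theorem p4u1655 : ∀ k, 61380 ≤ k → k < 76284 → pointOk (k * 22) = true := between_extend pointOk 22 61380 76275 9 (p4u1654) p4r1655

theorem p4r1656 : allRange pointOk 22 76284 9 = true := by decide +kernel
theorem p4u1656 : ∀ k, 61380 ≤ k → k < 76293 → pointOk (k * 22) = true := between_extend pointOk 22 61380 76284 9 (p4u1655) p4r1656

theorem p4r1657 : allRange pointOk 22 76293 9 = true := by decide +kernel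
theorem p4u1657 : ∀ k, 61380 ≤ k → k < 76302 → pointOk (k * 22) = true := between_extend pointOk 22 61380 76293 9 (p4u1656) p4r1657

theorem p4r1658 : allRange pointOk 22 76302 9 = true := by decide +kernel
theorem p4u1658 : ∀ k, 61380 ≤ k → k < 76311 → pointOk (k * 22) = true := between_extend pointOk 22 61380 76302 9 (p4u1657) p4r1658

theorem p4r1659 : allRange pointOk 22 76311 9 = true := by decide +kernel
theorem p4u1659 : ∀ k, 61380 ≤ k → k < 76320 → pointOk (k * 22) = true := between_extend pointOk 22 61380 76311 9 (p4u1658) p4r1659

theorem p4r1660 : allRange pointOk 22 76320 9 = true := by decide +kernel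
theorem p4u1660 : ∀ k, 61380 ≤ k → k < 76329 → pointOk (k * 22) = true := between_extend pointOk 22 61380 76320 9 (p4u1659) p4r1660

theorem p4r1661 : allRange pointOk 22 76329 9 = true := by decide +kernel
theorem p4u1661 : ∀ k, 61380 ≤ k → k < 76338 → pointOk (k * 22) = true := between_extend pointOk 22 61380 76329 9 (p4u1660) p4r1661

theorem p4r1662 : allRange pointOk 22 76338 9 = true := by decide +kernel
theorem p4u1662 : ∀ k, 61380 ≤ k → k < 76347 → pointOk (k * 22) = true := between_extend pointOk 22 61380 76338 9 (p4u1661) p4r1662

theorem p4r1663 : allRange pointOk 22 76347 9 = true := by decide +kernel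
theorem p4u1663 : ∀ k, 61380 ≤ k → k < 76356 → pointOk (k * 22) = true := between_extend pointOk 22 61380 76347 9 (p4u1662) p4r1663

theorem p4r1664 : allRange pointOk 22 76356 9 = true := by decide +kernel
theorem p4u1664 : ∀ k, 61380 ≤ k → k < 76365 → pointOk (k * 22) = true := between_extend pointOk 22 61380 76356 9 (p4u1663) p4r1664

theorem p4r1665 : allRange pointOk 22 76365 9 = true := by decide +kernel
theorem p4u1665 : ∀ k, 61380 ≤ k → k < 76374 → pointOk (k * 22) = true := between_extend pointOk 22 61380 76365 9 (p4u1664) p4r1665

theorem p4r1666 : allRange pointOk 22 76374 9 = true := by decide +kernel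
theorem p4u1666 : ∀ k, 61380 ≤ k → k < 76383 → pointOk (k * 22) = true := between_extend pointOk 22 61380 76374 9 (p4u1665) p4r1666

theorem p4r1667 : allRange pointOk 22 76383 9 = true := by decide +kernel
theorem p4u1667 : ∀ k, 61380 ≤ k → k < 76392 → pointOk (k * 22) = true := between_extend pointOk 22 61380 76383 9 (p4u1666) p4r1667

theorem p4r1668 : allRange pointOk 22 76392 9 = true := by decide +kernel
theorem p4u1668 : ∀ k, 61380 ≤ k → k < 76401 → pointOk (k * 22) = true := between_extend pointOk 22 61380 76392 9 (p4u1667) p4r1668

theorem p4r1669 : allRange pointOk 22 76401 9 = true := by decide +kernel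
theorem p4u1669 : ∀ k, 61380 ≤ k → k < 76410 → pointOk (k * 22) = true := between_extend pointOk 22 61380 76401 9 (p4u1668) p4r1669

theorem p4r1670 : allRange pointOk 22 76410 9 = true := by decide +kernel
theorem p4u1670 : ∀ k, 61380 ≤ k → k < 76419 → pointOk (k * 22) = true := between_extend pointOk 22 61380 76410 9 (p4u1669) p4r1670

theorem p4r1671 : allRange pointOk 22 76419 9 = true := by decide +kernel
theorem p4u1671 : ∀ k, 61380 ≤ k → k < 76428 → pointOk (k * 22) = true := between_extend pointOk 22 61380 76419 9 (p4u1670) p4r1671

theorem p4r1672 : allRange pointOk 22 76428 9 = true := by decide +kernel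
theorem p4u1672 : ∀ k, 61380 ≤ k → k < 76437 → pointOk (k * 22) = true := between_extend pointOk 22 61380 76428 9 (p4u1671) p4r1672

theorem p4r1673 : allRange pointOk 22 76437 9 = true := by decide +kernel
theorem p4u1673 : ∀ k, 61380 ≤ k → k < 76446 → pointOk (k * 22) = true := between_extend pointOk 22 61380 76437 9 (p4u1672) p4r1673

theorem p4r1674 : allRange pointOk 22 76446 9 = true := by decide +kernel
theorem p4u1674 : ∀ k, 61380 ≤ k → k < 76455 → pointOk (k * 22) = true := between_extend pointOk 22 61380 76446 9 (p4u1673) p4r1674

theorem p4r1675 : allRange pointOk 22 76455 9 = true := by decide +kernel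
theorem p4u1675 : ∀ k, 61380 ≤ k → k < 76464 → pointOk (k * 22) = true := between_extend pointOk 22 61380 76455 9 (p4u1674) p4r1675

theorem p4r1676 : allRange pointOk 22 76464 9 = true := by decide +kernel
theorem p4u1676 : ∀ k, 61380 ≤ k → k < 76473 → pointOk (k * 22) = true := between_extend pointOk 22 61380 76464 9 (p4u1675) p4r1676

theorem p4r1677 : allRange pointOk 22 76473 9 = true := by decide +kernel
theorem p4u1677 : ∀ k, 61380 ≤ k → k < 76482 → pointOk (k * 22) = true := between_extend pointOk 22 61380 76473 9 (p4u1676) p4r1677

theorem p4r1678 : allRange pointOk 22 76482 9 = true := by decide +kernel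
theorem p4u1678 : ∀ k, 61380 ≤ k → k < 76491 → pointOk (k * 22) = true := between_extend pointOk 22 61380 76482 9 (p4u1677) p4r1678

theorem p4r1679 : allRange pointOk 22 76491 9 = true := by decide +kernel
theorem p4u1679 : ∀ k, 61380 ≤ k → k < 76500 → pointOk (k * 22) = true := between_extend pointOk 22 61380 76491 9 (p4u1678) p4r1679

theorem p4r1680 : allRange pointOk 22 76500 9 = true := by decide +kernel
theorem p4u1680 : ∀ k, 61380 ≤ k → k < 76509 → pointOk (k * 22) = true := between_extend pointOk 22 61380 76500 9 (p4u1679) p4r1680

theorem p4r1681 : allRange pointOk 22 76509 9 = true := by decide +kernel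
theorem p4u1681 : ∀ k, 61380 ≤ k → k < 76518 → pointOk (k * 22) = true := between_extend pointOk 22 61380 76509 9 (p4u1680) p4r1681

theorem p4r1682 : allRange pointOk 22 76518 9 = true := by decide +kernel
theorem p4u1682 : ∀ k, 61380 ≤ k → k < 76527 → pointOk (k * 22) = true := between_extend pointOk 22 61380 76518 9 (p4u1681) p4r1682

theorem p4r1683 : allRange pointOk 22 76527 9 = true := by decide +kernel
theorem p4u1683 : ∀ k, 61380 ≤ k → k < 76536 → pointOk (k * 22) = true := between_extend pointOk 22 61380 76527 9 (p4u1682) p4r1683

theorem p4r1684 : allRange pointOk 22 76536 9 = true := by decide +kernel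
theorem p4u1684 : ∀ k, 61380 ≤ k → k < 76545 → pointOk (k * 22) = true := between_extend pointOk 22 61380 76536 9 (p4u1683) p4r1684

theorem p4r1685 : allRange pointOk 22 76545 9 = true := by decide +kernel
theorem p4u1685 : ∀ k, 61380 ≤ k → k < 76554 → pointOk (k * 22) = true := between_extend pointOk 22 61380 76545 9 (p4u1684) p4r1685

theorem p4r1686 : allRange pointOk 22 76554 9 = true := by decide +kernel
theorem p4u1686 : ∀ k, 61380 ≤ k → k < 76563 → pointOk (k * 22) = true := between_extend pointOk 22 61380 76554 9 (p4u1685) p4r1686

theorem p4r1687 : allRange pointOk 22 76563 9 = true := by decide +kernel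
theorem p4u1687 : ∀ k, 61380 ≤ k → k < 76572 → pointOk (k * 22) = true := between_extend pointOk 22 61380 76563 9 (p4u1686) p4r1687

theorem p4r1688 : allRange pointOk 22 76572 9 = true := by decide +kernel
theorem p4u1688 : ∀ k, 61380 ≤ k → k < 76581 → pointOk (k * 22) = true := between_extend pointOk 22 61380 76572 9 (p4u1687) p4r1688

theorem p4r1689 : allRange pointOk 22 76581 9 = true := by decide +kernel
theorem p4u1689 : ∀ k, 61380 ≤ k → k < 76590 → pointOk (k * 22) = true := between_extend pointOk 22 61380 76581 9 (p4u1688) p4r1689

theorem p4r1690 : allRange pointOk 22 76590 9 = true := by decide +kernel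
theorem p4u1690 : ∀ k, 61380 ≤ k → k < 76599 → pointOk (k * 22) = true := between_extend pointOk 22 61380 76590 9 (p4u1689) p4r1690

theorem p4r1691 : allRange pointOk 22 76599 9 = true := by decide +kernel
theorem p4u1691 : ∀ k, 61380 ≤ k → k < 76608 → pointOk (k * 22) = true := between_extend pointOk 22 61380 76599 9 (p4u1690) p4r1691

theorem p4r1692 : allRange pointOk 22 76608 9 = true := by decide +kernel
theorem p4u1692 : ∀ k, 61380 ≤ k → k < 76617 → pointOk (k * 22) = true := between_extend pointOk 22 61380 76608 9 (p4u1691) p4r1692

theorem p4r1693 : allRange pointOk 22 76617 9 = true := by decide +kernel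
theorem p4u1693 : ∀ k, 61380 ≤ k → k < 76626 → pointOk (k * 22) = true := between_extend pointOk 22 61380 76617 9 (p4u1692) p4r1693

theorem p4r1694 : allRange pointOk 22 76626 9 = true := by decide +kernel
theorem p4u1694 : ∀ k, 61380 ≤ k → k < 76635 → pointOk (k * 22) = true := between_extend pointOk 22 61380 76626 9 (p4u1693) p4r1694

theorem p4r1695 : allRange pointOk 22 76635 9 = true := by decide +kernel
theorem p4u1695 : ∀ k, 61380 ≤ k → k < 76644 → pointOk (k * 22) = true := between_extend pointOk 22 61380 76635 9 (p4u1694) p4r1695

theorem p4r1696 : allRange pointOk 22 76644 9 = true := by decide +kernel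
theorem p4u1696 : ∀ k, 61380 ≤ k → k < 76653 → pointOk (k * 22) = true := between_extend pointOk 22 61380 76644 9 (p4u1695) p4r1696

theorem p4r1697 : allRange pointOk 22 76653 9 = true := by decide +kernel
theorem p4u1697 : ∀ k, 61380 ≤ k → k < 76662 → pointOk (k * 22) = true := between_extend pointOk 22 61380 76653 9 (p4u1696) p4r1697

theorem p4r1698 : allRange pointOk 22 76662 9 = true := by decide +kernel
theorem p4u1698 : ∀ k, 61380 ≤ k → k < 76671 → pointOk (k * 22) = true := between_extend pointOk 22 61380 76662 9 (p4u1697) p4r1698

theorem p4r1699 : allRange pointOk 22 76671 9 = true := by decide +kernel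
theorem p4u1699 : ∀ k, 61380 ≤ k → k < 76680 → pointOk (k * 22) = true := between_extend pointOk 22 61380 76671 9 (p4u1698) p4r1699

theorem p4r1700 : allRange pointOk 22 76680 9 = true := by decide +kernel
theorem p4u1700 : ∀ k, 61380 ≤ k → k < 76689 → pointOk (k * 22) = true := between_extend pointOk 22 61380 76680 9 (p4u1699) p4r1700

theorem p4r1701 : allRange pointOk 22 76689 9 = true := by decide +kernel
theorem p4u1701 : ∀ k, 61380 ≤ k → k < 76698 → pointOk (k * 22) = true := between_extend pointOk 22 61380 76689 9 (p4u1700) p4r1701

theorem p4r1702 : allRange pointOk 22 76698 9 = true := by decide +kernel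
theorem p4u1702 : ∀ k, 61380 ≤ k → k < 76707 → pointOk (k * 22) = true := between_extend pointOk 22 61380 76698 9 (p4u1701) p4r1702

theorem p4r1703 : allRange pointOk 22 76707 9 = true := by decide +kernel
theorem p4u1703 : ∀ k, 61380 ≤ k → k < 76716 → pointOk (k * 22) = true := between_extend pointOk 22 61380 76707 9 (p4u1702) p4r1703

theorem p4r1704 : allRange pointOk 22 76716 9 = true := by decide +kernel
theorem p4u1704 : ∀ k, 61380 ≤ k → k < 76725 → pointOk (k * 22) = true := between_extend pointOk 22 61380 76716 9 (p4u1703) p4r1704

theorem p4 : ∀ k, 61380 ≤ k → k < 76725 → pointOk (k * 22) = true := p4u1704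

end Cfsg.Agent.Lib.Helper28_S1692
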