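import Cfsg.Agent.Lib.Helper28_S1692P1  -- build-order chain (limits parallel memory use)
import Cfsg.Agent.Lib.Helper28_S1692Def

set_option autoImplicit false
set_option linter.constructorNameAsVariable false
set_option Elab.async false

namespace Cfsg.Agent.Lib.Helper28_S1692

open Cfsg.Agent.Lib.Helper28_CosetPerm

theorem p5r0 : allRange pointOk 22 76725 9 = true := by decide +kernel
theorem p5u0 : ∀ k, 76725 ≤ k → k < 76734 → pointOk (k * 22) = true := between_extend pointOk 22 76725 76725 9 (between_start pointOk 22 76725) p5r0

theorem p5r1 : allRange pointOk 22 76734 9 = true := by decide +kernel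
theorem p5u1 : ∀ k, 76725 ≤ k → k < 76743 → pointOk (k * 22) = true := between_extend pointOk 22 76725 76734 9 (p5u0) p5r1

theorem p5r2 : allRange pointOk 22 76743 9 = true := by decide +kernel
theorem p5u2 : ∀ k, 76725 ≤ k → k < 76752 → pointOk (k * 22) = true := between_extend pointOk 22 76725 76743 9 (p5u1) p5r2

theorem p5r3 : allRange pointOk 22 76752 9 = true := by decide +kernel
theorem p5u3 : ∀ k, 76725 ≤ k → k < 76761 → pointOk (k * 22) = true := between_extend pointOk 22 76725 76752 9 (p5u2) p5r3

theorem p5r4 : allRange pointOk 22 76761 9 = true := by decide +kernel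
theorem p5u4 : ∀ k, 76725 ≤ k → k < 76770 → pointOk (k * 22) = true := between_extend pointOk 22 76725 76761 9 (p5u3) p5r4

theorem p5r5 : allRange pointOk 22 76770 9 = true := by decide +kernel
theorem p5u5 : ∀ k, 76725 ≤ k → k < 76779 → pointOk (k * 22) = true := between_extend pointOk 22 76725 76770 9 (p5u4) p5r5

theorem p5r6 : allRange pointOk 22 76779 9 = true := by decide +kernel
theorem p5u6 : ∀ k, 76725 ≤ k → k < 76788 → pointOk (k * 22) = true := between_extend pointOk 22 76725 76779 9 (p5u5) p5r6

theorem p5r7 : allRange pointOk 22 76788 9 = true := by decide +kernel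
theorem p5u7 : ∀ k, 76725 ≤ k → k < 76797 → pointOk (k * 22) = true := between_extend pointOk 22 76725 76788 9 (p5u6) p5r7

theorem p5r8 : allRange pointOk 22 76797 9 = true := by decide +kernel
theorem p5u8 : ∀ k, 76725 ≤ k → k < 76806 → pointOk (k * 22) = true := between_extend pointOk 22 76725 76797 9 (p5u7) p5r8

theorem p5r9 : allRange pointOk 22 76806 9 = true := by decide +kernel
theorem p5u9 : ∀ k, 76725 ≤ k → k < 76815 → pointOk (k * 22) = true := between_extend pointOk 22 76725 76806 9 (p5u8) p5r9

theorem p5r10 : allRange pointOk 22 76815 9 = true := by decide +kernel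
theorem p5u10 : ∀ k, 76725 ≤ k → k < 76824 → pointOk (k * 22) = true := between_extend pointOk 22 76725 76815 9 (p5u9) p5r10

theorem p5r11 : allRange pointOk 22 76824 9 = true := by decide +kernel
theorem p5u11 : ∀ k, 76725 ≤ k → k < 76833 → pointOk (k * 22) = true := between_extend pointOk 22 76725 76824 9 (p5u10) p5r11

theorem p5r12 : allRange pointOk 22 76833 9 = true := by decide +kernel
theorem p5u12 : ∀ k, 76725 ≤ k → k < 76842 → pointOk (k * 22) = true := between_extend pointOk 22 76725 76833 9 (p5u11) p5r12

theorem p5r13 : allRange pointOk 22 76842 9 = true := by decide +kernel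
theorem p5u13 : ∀ k, 76725 ≤ k → k < 76851 → pointOk (k * 22) = true := between_extend pointOk 22 76725 76842 9 (p5u12) p5r13

theorem p5r14 : allRange pointOk 22 76851 9 = true := by decide +kernel
theorem p5u14 : ∀ k, 76725 ≤ k → k < 76860 → pointOk (k * 22) = true := between_extend pointOk 22 76725 76851 9 (p5u13) p5r14

theorem p5r15 : allRange pointOk 22 76860 9 = true := by decide +kernel
theorem p5u15 : ∀ k, 76725 ≤ k → k < 76869 → pointOk (k * 22) = true := between_extend pointOk 22 76725 76860 9 (p5u14) p5r15

theorem p5r16 : allRange pointOk 22 76869 9 = true := by decide +kernel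
theorem p5u16 : ∀ k, 76725 ≤ k → k < 76878 → pointOk (k * 22) = true := between_extend pointOk 22 76725 76869 9 (p5u15) p5r16

theorem p5r17 : allRange pointOk 22 76878 9 = true := by decide +kernel
theorem p5u17 : ∀ k, 76725 ≤ k → k < 76887 → pointOk (k * 22) = true := between_extend pointOk 22 76725 76878 9 (p5u16) p5r17

theorem p5r18 : allRange pointOk 22 76887 9 = true := by decide +kernel
theorem p5u18 : ∀ k, 76725 ≤ k → k < 76896 → pointOk (k * 22) = true := between_extend pointOk 22 76725 76887 9 (p5u17) p5r18

theorem p5r19 : allRange pointOk 22 76896 9 = true := by decide +kernel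
theorem p5u19 : ∀ k, 76725 ≤ k → k < 76905 → pointOk (k * 22) = true := between_extend pointOk 22 76725 76896 9 (p5u18) p5r19

theorem p5r20 : allRange pointOk 22 76905 9 = true := by decide +kernel
theorem p5u20 : ∀ k, 76725 ≤ k → k < 76914 → pointOk (k * 22) = true := between_extend pointOk 22 76725 76905 9 (p5u19) p5r20

theorem p5r21 : allRange pointOk 22 76914 9 = true := by decide +kernel
theorem p5u21 : ∀ k, 76725 ≤ k → k < 76923 → pointOk (k * 22) = true := between_extend pointOk 22 76725 76914 9 (p5u20) p5r21

theorem p5r22 : allRange pointOk 22 76923 9 = true := by decide +kernel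
theorem p5u22 : ∀ k, 76725 ≤ k → k < 76932 → pointOk (k * 22) = true := between_extend pointOk 22 76725 76923 9 (p5u21) p5r22

theorem p5r23 : allRange pointOk 22 76932 9 = true := by decide +kernel
theorem p5u23 : ∀ k, 76725 ≤ k → k < 76941 → pointOk (k * 22) = true := between_extend pointOk 22 76725 76932 9 (p5u22) p5r23

theorem p5r24 : allRange pointOk 22 76941 9 = true := by decide +kernel
theorem p5u24 : ∀ k, 76725 ≤ k → k < 76950 → pointOk (k * 22) = true := between_extend pointOk 22 76725 76941 9 (p5u23) p5r24

theorem p5r25 : allRange pointOk 22 76950 9 = true := by decide +kernel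
theorem p5u25 : ∀ k, 76725 ≤ k → k < 76959 → pointOk (k * 22) = true := between_extend pointOk 22 76725 76950 9 (p5u24) p5r25

theorem p5r26 : allRange pointOk 22 76959 9 = true := by decide +kernel
theorem p5u26 : ∀ k, 76725 ≤ k → k < 76968 → pointOk (k * 22) = true := between_extend pointOk 22 76725 76959 9 (p5u25) p5r26

theorem p5r27 : allRange pointOk 22 76968 9 = true := by decide +kernel
theorem p5u27 : ∀ k, 76725 ≤ k → k < 76977 → pointOk (k * 22) = true := between_extend pointOk 22 76725 76968 9 (p5u26) p5r27

theorem p5r28 : allRange pointOk 22 76977 9 = true := by decide +kernel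
theorem p5u28 : ∀ k, 76725 ≤ k → k < 76986 → pointOk (k * 22) = true := between_extend pointOk 22 76725 76977 9 (p5u27) p5r28

theorem p5r29 : allRange pointOk 22 76986 9 = true := by decide +kernel
theorem p5u29 : ∀ k, 76725 ≤ k → k < 76995 → pointOk (k * 22) = true := between_extend pointOk 22 76725 76986 9 (p5u28) p5r29

theorem p5r30 : allRange pointOk 22 76995 9 = true := by decide +kernel
theorem p5u30 : ∀ k, 76725 ≤ k → k < 77004 → pointOk (k * 22) = true := between_extend pointOk 22 76725 76995 9 (p5u29) p5r30

theorem p5r31 : allRange pointOk 22 77004 9 = true := by decide +kernel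
theorem p5u31 : ∀ k, 76725 ≤ k → k < 77013 → pointOk (k * 22) = true := between_extend pointOk 22 76725 77004 9 (p5u30) p5r31

theorem p5r32 : allRange pointOk 22 77013 9 = true := by decide +kernel
theorem p5u32 : ∀ k, 76725 ≤ k → k < 77022 → pointOk (k * 22) = true := between_extend pointOk 22 76725 77013 9 (p5u31) p5r32

theorem p5r33 : allRange pointOk 22 77022 9 = true := by decide +kernel
theorem p5u33 : ∀ k, 76725 ≤ k → k < 77031 → pointOk (k * 22) = true := between_extend pointOk 22 76725 77022 9 (p5u32) p5r33

theorem p5r34 : allRange pointOk 22 77031 9 = true := by decide +kernel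
theorem p5u34 : ∀ k, 76725 ≤ k → k < 77040 → pointOk (k * 22) = true := between_extend pointOk 22 76725 77031 9 (p5u33) p5r34

theorem p5r35 : allRange pointOk 22 77040 9 = true := by decide +kernel
theorem p5u35 : ∀ k, 76725 ≤ k → k < 77049 → pointOk (k * 22) = true := between_extend pointOk 22 76725 77040 9 (p5u34) p5r35

theorem p5r36 : allRange pointOk 22 77049 9 = true := by decide +kernel
theorem p5u36 : ∀ k, 76725 ≤ k → k < 77058 → pointOk (k * 22) = true := between_extend pointOk 22 76725 77049 9 (p5u35) p5r36

theorem p5r37 : allRange pointOk 22 77058 9 = true := by decide +kernel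
theorem p5u37 : ∀ k, 76725 ≤ k → k < 77067 → pointOk (k * 22) = true := between_extend pointOk 22 76725 77058 9 (p5u36) p5r37

theorem p5r38 : allRange pointOk 22 77067 9 = true := by decide +kernel
theorem p5u38 : ∀ k, 76725 ≤ k → k < 77076 → pointOk (k * 22) = true := between_extend pointOk 22 76725 77067 9 (p5u37) p5r38

theorem p5r39 : allRange pointOk 22 77076 9 = true := by decide +kernel
theorem p5u39 : ∀ k, 76725 ≤ k → k < 77085 → pointOk (k * 22) = true := between_extend pointOk 22 76725 77076 9 (p5u38) p5r39

theorem p5r40 : allRange pointOk 22 77085 9 = true := by decide +kernel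
theorem p5u40 : ∀ k, 76725 ≤ k → k < 77094 → pointOk (k * 22) = true := between_extend pointOk 22 76725 77085 9 (p5u39) p5r40

theorem p5r41 : allRange pointOk 22 77094 9 = true := by decide +kernel
theorem p5u41 : ∀ k, 76725 ≤ k → k < 77103 → pointOk (k * 22) = true := between_extend pointOk 22 76725 77094 9 (p5u40) p5r41

theorem p5r42 : allRange pointOk 22 77103 9 = true := by decide +kernel
theorem p5u42 : ∀ k, 76725 ≤ k → k < 77112 → pointOk (k * 22) = true := between_extend pointOk 22 76725 77103 9 (p5u41) p5r42

theorem p5r43 : allRange pointOk 22 77112 9 = true := by decide +kernel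
theorem p5u43 : ∀ k, 76725 ≤ k → k < 77121 → pointOk (k * 22) = true := between_extend pointOk 22 76725 77112 9 (p5u42) p5r43

theorem p5r44 : allRange pointOk 22 77121 9 = true := by decide +kernel
theorem p5u44 : ∀ k, 76725 ≤ k → k < 77130 → pointOk (k * 22) = true := between_extend pointOk 22 76725 77121 9 (p5u43) p5r44

theorem p5r45 : allRange pointOk 22 77130 9 = true := by decide +kernel
theorem p5u45 : ∀ k, 76725 ≤ k → k < 77139 → pointOk (k * 22) = true := between_extend pointOk 22 76725 77130 9 (p5u44) p5r45

theorem p5r46 : allRange pointOk 22 77139 9 = true := by decide +kernel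
theorem p5u46 : ∀ k, 76725 ≤ k → k < 77148 → pointOk (k * 22) = true := between_extend pointOk 22 76725 77139 9 (p5u45) p5r46

theorem p5r47 : allRange pointOk 22 77148 9 = true := by decide +kernel
theorem p5u47 : ∀ k, 76725 ≤ k → k < 77157 → pointOk (k * 22) = true := between_extend pointOk 22 76725 77148 9 (p5u46) p5r47

theorem p5r48 : allRange pointOk 22 77157 9 = true := by decide +kernel
theorem p5u48 : ∀ k, 76725 ≤ k → k < 77166 → pointOk (k * 22) = true := between_extend pointOk 22 76725 77157 9 (p5u47) p5r48

theorem p5r49 : allRange pointOk 22 77166 9 = true := by decide +kernel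
theorem p5u49 : ∀ k, 76725 ≤ k → k < 77175 → pointOk (k * 22) = true := between_extend pointOk 22 76725 77166 9 (p5u48) p5r49

theorem p5r50 : allRange pointOk 22 77175 9 = true := by decide +kernel
theorem p5u50 : ∀ k, 76725 ≤ k → k < 77184 → pointOk (k * 22) = true := between_extend pointOk 22 76725 77175 9 (p5u49) p5r50

theorem p5r51 : allRange pointOk 22 77184 9 = true := by decide +kernel
theorem p5u51 : ∀ k, 76725 ≤ k → k < 77193 → pointOk (k * 22) = true := between_extend pointOk 22 76725 77184 9 (p5u50) p5r51

theorem p5r52 : allRange pointOk 22 77193 9 = true := by decide +kernel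
theorem p5u52 : ∀ k, 76725 ≤ k → k < 77202 → pointOk (k * 22) = true := between_extend pointOk 22 76725 77193 9 (p5u51) p5r52

theorem p5r53 : allRange pointOk 22 77202 9 = true := by decide +kernel
theorem p5u53 : ∀ k, 76725 ≤ k → k < 77211 → pointOk (k * 22) = true := between_extend pointOk 22 76725 77202 9 (p5u52) p5r53

theorem p5r54 : allRange pointOk 22 77211 9 = true := by decide +kernel
theorem p5u54 : ∀ k, 76725 ≤ k → k < 77220 → pointOk (k * 22) = true := between_extend pointOk 22 76725 77211 9 (p5u53) p5r54

theorem p5r55 : allRange pointOk 22 77220 9 = true := by decide +kernel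
theorem p5u55 : ∀ k, 76725 ≤ k → k < 77229 → pointOk (k * 22) = true := between_extend pointOk 22 76725 77220 9 (p5u54) p5r55

theorem p5r56 : allRange pointOk 22 77229 9 = true := by decide +kernel
theorem p5u56 : ∀ k, 76725 ≤ k → k < 77238 → pointOk (k * 22) = true := between_extend pointOk 22 76725 77229 9 (p5u55) p5r56

theorem p5r57 : allRange pointOk 22 77238 9 = true := by decide +kernel
theorem p5u57 : ∀ k, 76725 ≤ k → k < 77247 → pointOk (k * 22) = true := between_extend pointOk 22 76725 77238 9 (p5u56) p5r57

theorem p5r58 : allRange pointOk 22 77247 9 = true := by decide +kernel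
theorem p5u58 : ∀ k, 76725 ≤ k → k < 77256 → pointOk (k * 22) = true := between_extend pointOk 22 76725 77247 9 (p5u57) p5r58

theorem p5r59 : allRange pointOk 22 77256 9 = true := by decide +kernel
theorem p5u59 : ∀ k, 76725 ≤ k → k < 77265 → pointOk (k * 22) = true := between_extend pointOk 22 76725 77256 9 (p5u58) p5r59

theorem p5r60 : allRange pointOk 22 77265 9 = true := by decide +kernel
theorem p5u60 : ∀ k, 76725 ≤ k → k < 77274 → pointOk (k * 22) = true := between_extend pointOk 22 76725 77265 9 (p5u59) p5r60

theorem p5r61 : allRange pointOk 22 77274 9 = true := by decide +kernel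
theorem p5u61 : ∀ k, 76725 ≤ k → k < 77283 → pointOk (k * 22) = true := between_extend pointOk 22 76725 77274 9 (p5u60) p5r61

theorem p5r62 : allRange pointOk 22 77283 9 = true := by decide +kernel
theorem p5u62 : ∀ k, 76725 ≤ k → k < 77292 → pointOk (k * 22) = true := between_extend pointOk 22 76725 77283 9 (p5u61) p5r62

theorem p5r63 : allRange pointOk 22 77292 9 = true := by decide +kernel
theorem p5u63 : ∀ k, 76725 ≤ k → k < 77301 → pointOk (k * 22) = true := between_extend pointOk 22 76725 77292 9 (p5u62) p5r63

theorem p5r64 : allRange pointOk 22 77301 9 = true := by decide +kernel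
theorem p5u64 : ∀ k, 76725 ≤ k → k < 77310 → pointOk (k * 22) = true := between_extend pointOk 22 76725 77301 9 (p5u63) p5r64

theorem p5r65 : allRange pointOk 22 77310 9 = true := by decide +kernel
theorem p5u65 : ∀ k, 76725 ≤ k → k < 77319 → pointOk (k * 22) = true := between_extend pointOk 22 76725 77310 9 (p5u64) p5r65

theorem p5r66 : allRange pointOk 22 77319 9 = true := by decide +kernel
theorem p5u66 : ∀ k, 76725 ≤ k → k < 77328 → pointOk (k * 22) = true := between_extend pointOk 22 76725 77319 9 (p5u65) p5r66

theorem p5r67 : allRange pointOk 22 77328 9 = true := by decide +kernel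
theorem p5u67 : ∀ k, 76725 ≤ k → k < 77337 → pointOk (k * 22) = true := between_extend pointOk 22 76725 77328 9 (p5u66) p5r67

theorem p5r68 : allRange pointOk 22 77337 9 = true := by decide +kernel
theorem p5u68 : ∀ k, 76725 ≤ k → k < 77346 → pointOk (k * 22) = true := between_extend pointOk 22 76725 77337 9 (p5u67) p5r68

theorem p5r69 : allRange pointOk 22 77346 9 = true := by decide +kernel
theorem p5u69 : ∀ k, 76725 ≤ k → k < 77355 → pointOk (k * 22) = true := between_extend pointOk 22 76725 77346 9 (p5u68) p5r69

theorem p5r70 : allRange pointOk 22 77355 9 = true := by decide +kernel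
theorem p5u70 : ∀ k, 76725 ≤ k → k < 77364 → pointOk (k * 22) = true := between_extend pointOk 22 76725 77355 9 (p5u69) p5r70

theorem p5r71 : allRange pointOk 22 77364 9 = true := by decide +kernel
theorem p5u71 : ∀ k, 76725 ≤ k → k < 77373 → pointOk (k * 22) = true := between_extend pointOk 22 76725 77364 9 (p5u70) p5r71

theorem p5r72 : allRange pointOk 22 77373 9 = true := by decide +kernel
theorem p5u72 : ∀ k, 76725 ≤ k → k < 77382 → pointOk (k * 22) = true := between_extend pointOk 22 76725 77373 9 (p5u71) p5r72

theorem p5r73 : allRange pointOk 22 77382 9 = true := by decide +kernel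
theorem p5u73 : ∀ k, 76725 ≤ k → k < 77391 → pointOk (k * 22) = true := between_extend pointOk 22 76725 77382 9 (p5u72) p5r73

theorem p5r74 : allRange pointOk 22 77391 9 = true := by decide +kernel
theorem p5u74 : ∀ k, 76725 ≤ k → k < 77400 → pointOk (k * 22) = true := between_extend pointOk 22 76725 77391 9 (p5u73) p5r74

theorem p5r75 : allRange pointOk 22 77400 9 = true := by decide +kernel
theorem p5u75 : ∀ k, 76725 ≤ k → k < 77409 → pointOk (k * 22) = true := between_extend pointOk 22 76725 77400 9 (p5u74) p5r75

theorem p5r76 : allRange pointOk 22 77409 9 = true := by decide +kernel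
theorem p5u76 : ∀ k, 76725 ≤ k → k < 77418 → pointOk (k * 22) = true := between_extend pointOk 22 76725 77409 9 (p5u75) p5r76

theorem p5r77 : allRange pointOk 22 77418 9 = true := by decide +kernel
theorem p5u77 : ∀ k, 76725 ≤ k → k < 77427 → pointOk (k * 22) = true := between_extend pointOk 22 76725 77418 9 (p5u76) p5r77

theorem p5r78 : allRange pointOk 22 77427 9 = true := by decide +kernel
theorem p5u78 : ∀ k, 76725 ≤ k → k < 77436 → pointOk (k * 22) = true := between_extend pointOk 22 76725 77427 9 (p5u77) p5r78

theorem p5r79 : allRange pointOk 22 77436 9 = true := by decide +kernel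
theorem p5u79 : ∀ k, 76725 ≤ k → k < 77445 → pointOk (k * 22) = true := between_extend pointOk 22 76725 77436 9 (p5u78) p5r79

theorem p5r80 : allRange pointOk 22 77445 9 = true := by decide +kernel
theorem p5u80 : ∀ k, 76725 ≤ k → k < 77454 → pointOk (k * 22) = true := between_extend pointOk 22 76725 77445 9 (p5u79) p5r80

theorem p5r81 : allRange pointOk 22 77454 9 = true := by decide +kernel
theorem p5u81 : ∀ k, 76725 ≤ k → k < 77463 → pointOk (k * 22) = true := between_extend pointOk 22 76725 77454 9 (p5u80) p5r81

theorem p5r82 : allRange pointOk 22 77463 9 = true := by decide +kernel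
theorem p5u82 : ∀ k, 76725 ≤ k → k < 77472 → pointOk (k * 22) = true := between_extend pointOk 22 76725 77463 9 (p5u81) p5r82

theorem p5r83 : allRange pointOk 22 77472 9 = true := by decide +kernel
theorem p5u83 : ∀ k, 76725 ≤ k → k < 77481 → pointOk (k * 22) = true := between_extend pointOk 22 76725 77472 9 (p5u82) p5r83

theorem p5r84 : allRange pointOk 22 77481 9 = true := by decide +kernel
theorem p5u84 : ∀ k, 76725 ≤ k → k < 77490 → pointOk (k * 22) = true := between_extend pointOk 22 76725 77481 9 (p5u83) p5r84

theorem p5r85 : allRange pointOk 22 77490 9 = true := by decide +kernel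
theorem p5u85 : ∀ k, 76725 ≤ k → k < 77499 → pointOk (k * 22) = true := between_extend pointOk 22 76725 77490 9 (p5u84) p5r85

theorem p5r86 : allRange pointOk 22 77499 9 = true := by decide +kernel
theorem p5u86 : ∀ k, 76725 ≤ k → k < 77508 → pointOk (k * 22) = true := between_extend pointOk 22 76725 77499 9 (p5u85) p5r86

theorem p5r87 : allRange pointOk 22 77508 9 = true := by decide +kernel
theorem p5u87 : ∀ k, 76725 ≤ k → k < 77517 → pointOk (k * 22) = true := between_extend pointOk 22 76725 77508 9 (p5u86) p5r87

theorem p5r88 : allRange pointOk 22 77517 9 = true := by decide +kernel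
theorem p5u88 : ∀ k, 76725 ≤ k → k < 77526 → pointOk (k * 22) = true := between_extend pointOk 22 76725 77517 9 (p5u87) p5r88

theorem p5r89 : allRange pointOk 22 77526 9 = true := by decide +kernel
theorem p5u89 : ∀ k, 76725 ≤ k → k < 77535 → pointOk (k * 22) = true := between_extend pointOk 22 76725 77526 9 (p5u88) p5r89

theorem p5r90 : allRange pointOk 22 77535 9 = true := by decide +kernel
theorem p5u90 : ∀ k, 76725 ≤ k → k < 77544 → pointOk (k * 22) = true := between_extend pointOk 22 76725 77535 9 (p5u89) p5r90

theorem p5r91 : allRange pointOk 22 77544 9 = true := by decide +kernel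
theorem p5u91 : ∀ k, 76725 ≤ k → k < 77553 → pointOk (k * 22) = true := between_extend pointOk 22 76725 77544 9 (p5u90) p5r91

theorem p5r92 : allRange pointOk 22 77553 9 = true := by decide +kernel
theorem p5u92 : ∀ k, 76725 ≤ k → k < 77562 → pointOk (k * 22) = true := between_extend pointOk 22 76725 77553 9 (p5u91) p5r92

theorem p5r93 : allRange pointOk 22 77562 9 = true := by decide +kernel
theorem p5u93 : ∀ k, 76725 ≤ k → k < 77571 → pointOk (k * 22) = true := between_extend pointOk 22 76725 77562 9 (p5u92) p5r93

theorem p5r94 : allRange pointOk 22 77571 9 = true := by decide +kernel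
theorem p5u94 : ∀ k, 76725 ≤ k → k < 77580 → pointOk (k * 22) = true := between_extend pointOk 22 76725 77571 9 (p5u93) p5r94

theorem p5r95 : allRange pointOk 22 77580 9 = true := by decide +kernel
theorem p5u95 : ∀ k, 76725 ≤ k → k < 77589 → pointOk (k * 22) = true := between_extend pointOk 22 76725 77580 9 (p5u94) p5r95

theorem p5r96 : allRange pointOk 22 77589 9 = true := by decide +kernel
theorem p5u96 : ∀ k, 76725 ≤ k → k < 77598 → pointOk (k * 22) = true := between_extend pointOk 22 76725 77589 9 (p5u95) p5r96

theorem p5r97 : allRange pointOk 22 77598 9 = true := by decide +kernel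
theorem p5u97 : ∀ k, 76725 ≤ k → k < 77607 → pointOk (k * 22) = true := between_extend pointOk 22 76725 77598 9 (p5u96) p5r97

theorem p5r98 : allRange pointOk 22 77607 9 = true := by decide +kernel
theorem p5u98 : ∀ k, 76725 ≤ k → k < 77616 → pointOk (k * 22) = true := between_extend pointOk 22 76725 77607 9 (p5u97) p5r98

theorem p5r99 : allRange pointOk 22 77616 9 = true := by decide +kernel
theorem p5u99 : ∀ k, 76725 ≤ k → k < 77625 → pointOk (k * 22) = true := between_extend pointOk 22 76725 77616 9 (p5u98) p5r99

theorem p5r100 : allRange pointOk 22 77625 9 = true := by decide +kernel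
theorem p5u100 : ∀ k, 76725 ≤ k → k < 77634 → pointOk (k * 22) = true := between_extend pointOk 22 76725 77625 9 (p5u99) p5r100

theorem p5r101 : allRange pointOk 22 77634 9 = true := by decide +kernel
theorem p5u101 : ∀ k, 76725 ≤ k → k < 77643 → pointOk (k * 22) = true := between_extend pointOk 22 76725 77634 9 (p5u100) p5r101

theorem p5r102 : allRange pointOk 22 77643 9 = true := by decide +kernel
theorem p5u102 : ∀ k, 76725 ≤ k → k < 77652 → pointOk (k * 22) = true := between_extend pointOk 22 76725 77643 9 (p5u101) p5r102

theorem p5r103 : allRange pointOk 22 77652 9 = true := by decide +kernel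
theorem p5u103 : ∀ k, 76725 ≤ k → k < 77661 → pointOk (k * 22) = true := between_extend pointOk 22 76725 77652 9 (p5u102) p5r103

theorem p5r104 : allRange pointOk 22 77661 9 = true := by decide +kernel
theorem p5u104 : ∀ k, 76725 ≤ k → k < 77670 → pointOk (k * 22) = true := between_extend pointOk 22 76725 77661 9 (p5u103) p5r104

theorem p5r105 : allRange pointOk 22 77670 9 = true := by decide +kernel
theorem p5u105 : ∀ k, 76725 ≤ k → k < 77679 → pointOk (k * 22) = true := between_extend pointOk 22 76725 77670 9 (p5u104) p5r105

theorem p5r106 : allRange pointOk 22 77679 9 = true := by decide +kernel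
theorem p5u106 : ∀ k, 76725 ≤ k → k < 77688 → pointOk (k * 22) = true := between_extend pointOk 22 76725 77679 9 (p5u105) p5r106

theorem p5r107 : allRange pointOk 22 77688 9 = true := by decide +kernel
theorem p5u107 : ∀ k, 76725 ≤ k → k < 77697 → pointOk (k * 22) = true := between_extend pointOk 22 76725 77688 9 (p5u106) p5r107

theorem p5r108 : allRange pointOk 22 77697 9 = true := by decide +kernel
theorem p5u108 : ∀ k, 76725 ≤ k → k < 77706 → pointOk (k * 22) = true := between_extend pointOk 22 76725 77697 9 (p5u107) p5r108

theorem p5r109 : allRange pointOk 22 77706 9 = true := by decide +kernel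
theorem p5u109 : ∀ k, 76725 ≤ k → k < 77715 → pointOk (k * 22) = true := between_extend pointOk 22 76725 77706 9 (p5u108) p5r109

theorem p5r110 : allRange pointOk 22 77715 9 = true := by decide +kernel
theorem p5u110 : ∀ k, 76725 ≤ k → k < 77724 → pointOk (k * 22) = true := between_extend pointOk 22 76725 77715 9 (p5u109) p5r110

theorem p5r111 : allRange pointOk 22 77724 9 = true := by decide +kernel
theorem p5u111 : ∀ k, 76725 ≤ k → k < 77733 → pointOk (k * 22) = true := between_extend pointOk 22 76725 77724 9 (p5u110) p5r111

theorem p5r112 : allRange pointOk 22 77733 9 = true := by decide +kernel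
theorem p5u112 : ∀ k, 76725 ≤ k → k < 77742 → pointOk (k * 22) = true := between_extend pointOk 22 76725 77733 9 (p5u111) p5r112

theorem p5r113 : allRange pointOk 22 77742 9 = true := by decide +kernel
theorem p5u113 : ∀ k, 76725 ≤ k → k < 77751 → pointOk (k * 22) = true := between_extend pointOk 22 76725 77742 9 (p5u112) p5r113

theorem p5r114 : allRange pointOk 22 77751 9 = true := by decide +kernel
theorem p5u114 : ∀ k, 76725 ≤ k → k < 77760 → pointOk (k * 22) = true := between_extend pointOk 22 76725 77751 9 (p5u113) p5r114

theorem p5r115 : allRange pointOk 22 77760 9 = true := by decide +kernel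
theorem p5u115 : ∀ k, 76725 ≤ k → k < 77769 → pointOk (k * 22) = true := between_extend pointOk 22 76725 77760 9 (p5u114) p5r115

theorem p5r116 : allRange pointOk 22 77769 9 = true := by decide +kernel
theorem p5u116 : ∀ k, 76725 ≤ k → k < 77778 → pointOk (k * 22) = true := between_extend pointOk 22 76725 77769 9 (p5u115) p5r116

theorem p5r117 : allRange pointOk 22 77778 9 = true := by decide +kernel
theorem p5u117 : ∀ k, 76725 ≤ k → k < 77787 → pointOk (k * 22) = true := between_extend pointOk 22 76725 77778 9 (p5u116) p5r117

theorem p5r118 : allRange pointOk 22 77787 9 = true := by decide +kernel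
theorem p5u118 : ∀ k, 76725 ≤ k → k < 77796 → pointOk (k * 22) = true := between_extend pointOk 22 76725 77787 9 (p5u117) p5r118

theorem p5r119 : allRange pointOk 22 77796 9 = true := by decide +kernel
theorem p5u119 : ∀ k, 76725 ≤ k → k < 77805 → pointOk (k * 22) = true := between_extend pointOk 22 76725 77796 9 (p5u118) p5r119

theorem p5r120 : allRange pointOk 22 77805 9 = true := by decide +kernel
theorem p5u120 : ∀ k, 76725 ≤ k → k < 77814 → pointOk (k * 22) = true := between_extend pointOk 22 76725 77805 9 (p5u119) p5r120

theorem p5r121 : allRange pointOk 22 77814 9 = true := by decide +kernel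
theorem p5u121 : ∀ k, 76725 ≤ k → k < 77823 → pointOk (k * 22) = true := between_extend pointOk 22 76725 77814 9 (p5u120) p5r121

theorem p5r122 : allRange pointOk 22 77823 9 = true := by decide +kernel
theorem p5u122 : ∀ k, 76725 ≤ k → k < 77832 → pointOk (k * 22) = true := between_extend pointOk 22 76725 77823 9 (p5u121) p5r122

theorem p5r123 : allRange pointOk 22 77832 9 = true := by decide +kernel
theorem p5u123 : ∀ k, 76725 ≤ k → k < 77841 → pointOk (k * 22) = true := between_extend pointOk 22 76725 77832 9 (p5u122) p5r123

theorem p5r124 : allRange pointOk 22 77841 9 = true := by decide +kernel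
theorem p5u124 : ∀ k, 76725 ≤ k → k < 77850 → pointOk (k * 22) = true := between_extend pointOk 22 76725 77841 9 (p5u123) p5r124

theorem p5r125 : allRange pointOk 22 77850 9 = true := by decide +kernel
theorem p5u125 : ∀ k, 76725 ≤ k → k < 77859 → pointOk (k * 22) = true := between_extend pointOk 22 76725 77850 9 (p5u124) p5r125

theorem p5r126 : allRange pointOk 22 77859 9 = true := by decide +kernel
theorem p5u126 : ∀ k, 76725 ≤ k → k < 77868 → pointOk (k * 22) = true := between_extend pointOk 22 76725 77859 9 (p5u125) p5r126

theorem p5r127 : allRange pointOk 22 77868 9 = true := by decide +kernel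
theorem p5u127 : ∀ k, 76725 ≤ k → k < 77877 → pointOk (k * 22) = true := between_extend pointOk 22 76725 77868 9 (p5u126) p5r127

theorem p5r128 : allRange pointOk 22 77877 9 = true := by decide +kernel
theorem p5u128 : ∀ k, 76725 ≤ k → k < 77886 → pointOk (k * 22) = true := between_extend pointOk 22 76725 77877 9 (p5u127) p5r128

theorem p5r129 : allRange pointOk 22 77886 9 = true := by decide +kernel
theorem p5u129 : ∀ k, 76725 ≤ k → k < 77895 → pointOk (k * 22) = true := between_extend pointOk 22 76725 77886 9 (p5u128) p5r129

theorem p5r130 : allRange pointOk 22 77895 9 = true := by decide +kernel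
theorem p5u130 : ∀ k, 76725 ≤ k → k < 77904 → pointOk (k * 22) = true := between_extend pointOk 22 76725 77895 9 (p5u129) p5r130

theorem p5r131 : allRange pointOk 22 77904 9 = true := by decide +kernel
theorem p5u131 : ∀ k, 76725 ≤ k → k < 77913 → pointOk (k * 22) = true := between_extend pointOk 22 76725 77904 9 (p5u130) p5r131

theorem p5r132 : allRange pointOk 22 77913 9 = true := by decide +kernel
theorem p5u132 : ∀ k, 76725 ≤ k → k < 77922 → pointOk (k * 22) = true := between_extend pointOk 22 76725 77913 9 (p5u131) p5r132

theorem p5r133 : allRange pointOk 22 77922 9 = true := by decide +kernel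
theorem p5u133 : ∀ k, 76725 ≤ k → k < 77931 → pointOk (k * 22) = true := between_extend pointOk 22 76725 77922 9 (p5u132) p5r133

theorem p5r134 : allRange pointOk 22 77931 9 = true := by decide +kernel
theorem p5u134 : ∀ k, 76725 ≤ k → k < 77940 → pointOk (k * 22) = true := between_extend pointOk 22 76725 77931 9 (p5u133) p5r134

theorem p5r135 : allRange pointOk 22 77940 9 = true := by decide +kernel
theorem p5u135 : ∀ k, 76725 ≤ k → k < 77949 → pointOk (k * 22) = true := between_extend pointOk 22 76725 77940 9 (p5u134) p5r135

theorem p5r136 : allRange pointOk 22 77949 9 = true := by decide +kernel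
theorem p5u136 : ∀ k, 76725 ≤ k → k < 77958 → pointOk (k * 22) = true := between_extend pointOk 22 76725 77949 9 (p5u135) p5r136

theorem p5r137 : allRange pointOk 22 77958 9 = true := by decide +kernel
theorem p5u137 : ∀ k, 76725 ≤ k → k < 77967 → pointOk (k * 22) = true := between_extend pointOk 22 76725 77958 9 (p5u136) p5r137

theorem p5r138 : allRange pointOk 22 77967 9 = true := by decide +kernel
theorem p5u138 : ∀ k, 76725 ≤ k → k < 77976 → pointOk (k * 22) = true := between_extend pointOk 22 76725 77967 9 (p5u137) p5r138

theorem p5r139 : allRange pointOk 22 77976 9 = true := by decide +kernel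
theorem p5u139 : ∀ k, 76725 ≤ k → k < 77985 → pointOk (k * 22) = true := between_extend pointOk 22 76725 77976 9 (p5u138) p5r139

theorem p5r140 : allRange pointOk 22 77985 9 = true := by decide +kernel
theorem p5u140 : ∀ k, 76725 ≤ k → k < 77994 → pointOk (k * 22) = true := between_extend pointOk 22 76725 77985 9 (p5u139) p5r140

theorem p5r141 : allRange pointOk 22 77994 9 = true := by decide +kernel
theorem p5u141 : ∀ k, 76725 ≤ k → k < 78003 → pointOk (k * 22) = true := between_extend pointOk 22 76725 77994 9 (p5u140) p5r141

theorem p5r142 : allRange pointOk 22 78003 9 = true := by decide +kernel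
theorem p5u142 : ∀ k, 76725 ≤ k → k < 78012 → pointOk (k * 22) = true := between_extend pointOk 22 76725 78003 9 (p5u141) p5r142

theorem p5r143 : allRange pointOk 22 78012 9 = true := by decide +kernel
theorem p5u143 : ∀ k, 76725 ≤ k → k < 78021 → pointOk (k * 22) = true := between_extend pointOk 22 76725 78012 9 (p5u142) p5r143

theorem p5r144 : allRange pointOk 22 78021 9 = true := by decide +kernel
theorem p5u144 : ∀ k, 76725 ≤ k → k < 78030 → pointOk (k * 22) = true := between_extend pointOk 22 76725 78021 9 (p5u143) p5r144

theorem p5r145 : allRange pointOk 22 78030 9 = true := by decide +kernel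
theorem p5u145 : ∀ k, 76725 ≤ k → k < 78039 → pointOk (k * 22) = true := between_extend pointOk 22 76725 78030 9 (p5u144) p5r145

theorem p5r146 : allRange pointOk 22 78039 9 = true := by decide +kernel
theorem p5u146 : ∀ k, 76725 ≤ k → k < 78048 → pointOk (k * 22) = true := between_extend pointOk 22 76725 78039 9 (p5u145) p5r146

theorem p5r147 : allRange pointOk 22 78048 9 = true := by decide +kernel
theorem p5u147 : ∀ k, 76725 ≤ k → k < 78057 → pointOk (k * 22) = true := between_extend pointOk 22 76725 78048 9 (p5u146) p5r147

theorem p5r148 : allRange pointOk 22 78057 9 = true := by decide +kernel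
theorem p5u148 : ∀ k, 76725 ≤ k → k < 78066 → pointOk (k * 22) = true := between_extend pointOk 22 76725 78057 9 (p5u147) p5r148

theorem p5r149 : allRange pointOk 22 78066 9 = true := by decide +kernel
theorem p5u149 : ∀ k, 76725 ≤ k → k < 78075 → pointOk (k * 22) = true := between_extend pointOk 22 76725 78066 9 (p5u148) p5r149

theorem p5r150 : allRange pointOk 22 78075 9 = true := by decide +kernel
theorem p5u150 : ∀ k, 76725 ≤ k → k < 78084 → pointOk (k * 22) = true := between_extend pointOk 22 76725 78075 9 (p5u149) p5r150

theorem p5r151 : allRange pointOk 22 78084 9 = true := by decide +kernel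
theorem p5u151 : ∀ k, 76725 ≤ k → k < 78093 → pointOk (k * 22) = true := between_extend pointOk 22 76725 78084 9 (p5u150) p5r151

theorem p5r152 : allRange pointOk 22 78093 9 = true := by decide +kernel
theorem p5u152 : ∀ k, 76725 ≤ k → k < 78102 → pointOk (k * 22) = true := between_extend pointOk 22 76725 78093 9 (p5u151) p5r152

theorem p5r153 : allRange pointOk 22 78102 9 = true := by decide +kernel
theorem p5u153 : ∀ k, 76725 ≤ k → k < 78111 → pointOk (k * 22) = true := between_extend pointOk 22 76725 78102 9 (p5u152) p5r153

theorem p5r154 : allRange pointOk 22 78111 9 = true := by decide +kernel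
theorem p5u154 : ∀ k, 76725 ≤ k → k < 78120 → pointOk (k * 22) = true := between_extend pointOk 22 76725 78111 9 (p5u153) p5r154

theorem p5r155 : allRange pointOk 22 78120 9 = true := by decide +kernel
theorem p5u155 : ∀ k, 76725 ≤ k → k < 78129 → pointOk (k * 22) = true := between_extend pointOk 22 76725 78120 9 (p5u154) p5r155

theorem p5r156 : allRange pointOk 22 78129 9 = true := by decide +kernel
theorem p5u156 : ∀ k, 76725 ≤ k → k < 78138 → pointOk (k * 22) = true := between_extend pointOk 22 76725 78129 9 (p5u155) p5r156

theorem p5r157 : allRange pointOk 22 78138 9 = true := by decide +kernel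
theorem p5u157 : ∀ k, 76725 ≤ k → k < 78147 → pointOk (k * 22) = true := between_extend pointOk 22 76725 78138 9 (p5u156) p5r157

theorem p5r158 : allRange pointOk 22 78147 9 = true := by decide +kernel
theorem p5u158 : ∀ k, 76725 ≤ k → k < 78156 → pointOk (k * 22) = true := between_extend pointOk 22 76725 78147 9 (p5u157) p5r158

theorem p5r159 : allRange pointOk 22 78156 9 = true := by decide +kernel
theorem p5u159 : ∀ k, 76725 ≤ k → k < 78165 → pointOk (k * 22) = true := between_extend pointOk 22 76725 78156 9 (p5u158) p5r159

theorem p5r160 : allRange pointOk 22 78165 9 = true := by decide +kernel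
theorem p5u160 : ∀ k, 76725 ≤ k → k < 78174 → pointOk (k * 22) = true := between_extend pointOk 22 76725 78165 9 (p5u159) p5r160

theorem p5r161 : allRange pointOk 22 78174 9 = true := by decide +kernel
theorem p5u161 : ∀ k, 76725 ≤ k → k < 78183 → pointOk (k * 22) = true := between_extend pointOk 22 76725 78174 9 (p5u160) p5r161

theorem p5r162 : allRange pointOk 22 78183 9 = true := by decide +kernel
theorem p5u162 : ∀ k, 76725 ≤ k → k < 78192 → pointOk (k * 22) = true := between_extend pointOk 22 76725 78183 9 (p5u161) p5r162

theorem p5r163 : allRange pointOk 22 78192 9 = true := by decide +kernel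
theorem p5u163 : ∀ k, 76725 ≤ k → k < 78201 → pointOk (k * 22) = true := between_extend pointOk 22 76725 78192 9 (p5u162) p5r163

theorem p5r164 : allRange pointOk 22 78201 9 = true := by decide +kernel
theorem p5u164 : ∀ k, 76725 ≤ k → k < 78210 → pointOk (k * 22) = true := between_extend pointOk 22 76725 78201 9 (p5u163) p5r164

theorem p5r165 : allRange pointOk 22 78210 9 = true := by decide +kernel
theorem p5u165 : ∀ k, 76725 ≤ k → k < 78219 → pointOk (k * 22) = true := between_extend pointOk 22 76725 78210 9 (p5u164) p5r165

theorem p5r166 : allRange pointOk 22 78219 9 = true := by decide +kernel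
theorem p5u166 : ∀ k, 76725 ≤ k → k < 78228 → pointOk (k * 22) = true := between_extend pointOk 22 76725 78219 9 (p5u165) p5r166

theorem p5r167 : allRange pointOk 22 78228 9 = true := by decide +kernel
theorem p5u167 : ∀ k, 76725 ≤ k → k < 78237 → pointOk (k * 22) = true := between_extend pointOk 22 76725 78228 9 (p5u166) p5r167

theorem p5r168 : allRange pointOk 22 78237 9 = true := by decide +kernel
theorem p5u168 : ∀ k, 76725 ≤ k → k < 78246 → pointOk (k * 22) = true := between_extend pointOk 22 76725 78237 9 (p5u167) p5r168

theorem p5r169 : allRange pointOk 22 78246 9 = true := by decide +kernel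
theorem p5u169 : ∀ k, 76725 ≤ k → k < 78255 → pointOk (k * 22) = true := between_extend pointOk 22 76725 78246 9 (p5u168) p5r169

theorem p5r170 : allRange pointOk 22 78255 9 = true := by decide +kernel
theorem p5u170 : ∀ k, 76725 ≤ k → k < 78264 → pointOk (k * 22) = true := between_extend pointOk 22 76725 78255 9 (p5u169) p5r170

theorem p5r171 : allRange pointOk 22 78264 9 = true := by decide +kernel
theorem p5u171 : ∀ k, 76725 ≤ k → k < 78273 → pointOk (k * 22) = true := between_extend pointOk 22 76725 78264 9 (p5u170) p5r171

theorem p5r172 : allRange pointOk 22 78273 9 = true := by decide +kernel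
theorem p5u172 : ∀ k, 76725 ≤ k → k < 78282 → pointOk (k * 22) = true := between_extend pointOk 22 76725 78273 9 (p5u171) p5r172

theorem p5r173 : allRange pointOk 22 78282 9 = true := by decide +kernel
theorem p5u173 : ∀ k, 76725 ≤ k → k < 78291 → pointOk (k * 22) = true := between_extend pointOk 22 76725 78282 9 (p5u172) p5r173

theorem p5r174 : allRange pointOk 22 78291 9 = true := by decide +kernel
theorem p5u174 : ∀ k, 76725 ≤ k → k < 78300 → pointOk (k * 22) = true := between_extend pointOk 22 76725 78291 9 (p5u173) p5r174

theorem p5r175 : allRange pointOk 22 78300 9 = true := by decide +kernel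
theorem p5u175 : ∀ k, 76725 ≤ k → k < 78309 → pointOk (k * 22) = true := between_extend pointOk 22 76725 78300 9 (p5u174) p5r175

theorem p5r176 : allRange pointOk 22 78309 9 = true := by decide +kernel
theorem p5u176 : ∀ k, 76725 ≤ k → k < 78318 → pointOk (k * 22) = true := between_extend pointOk 22 76725 78309 9 (p5u175) p5r176

theorem p5r177 : allRange pointOk 22 78318 9 = true := by decide +kernel
theorem p5u177 : ∀ k, 76725 ≤ k → k < 78327 → pointOk (k * 22) = true := between_extend pointOk 22 76725 78318 9 (p5u176) p5r177

theorem p5r178 : allRange pointOk 22 78327 9 = true := by decide +kernel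
theorem p5u178 : ∀ k, 76725 ≤ k → k < 78336 → pointOk (k * 22) = true := between_extend pointOk 22 76725 78327 9 (p5u177) p5r178

theorem p5r179 : allRange pointOk 22 78336 9 = true := by decide +kernel
theorem p5u179 : ∀ k, 76725 ≤ k → k < 78345 → pointOk (k * 22) = true := between_extend pointOk 22 76725 78336 9 (p5u178) p5r179

theorem p5r180 : allRange pointOk 22 78345 9 = true := by decide +kernel
theorem p5u180 : ∀ k, 76725 ≤ k → k < 78354 → pointOk (k * 22) = true := between_extend pointOk 22 76725 78345 9 (p5u179) p5r180

theorem p5r181 : allRange pointOk 22 78354 9 = true := by decide +kernel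
theorem p5u181 : ∀ k, 76725 ≤ k → k < 78363 → pointOk (k * 22) = true := between_extend pointOk 22 76725 78354 9 (p5u180) p5r181

theorem p5r182 : allRange pointOk 22 78363 9 = true := by decide +kernel
theorem p5u182 : ∀ k, 76725 ≤ k → k < 78372 → pointOk (k * 22) = true := between_extend pointOk 22 76725 78363 9 (p5u181) p5r182

theorem p5r183 : allRange pointOk 22 78372 9 = true := by decide +kernel
theorem p5u183 : ∀ k, 76725 ≤ k → k < 78381 → pointOk (k * 22) = true := between_extend pointOk 22 76725 78372 9 (p5u182) p5r183

theorem p5r184 : allRange pointOk 22 78381 9 = true := by decide +kernel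
theorem p5u184 : ∀ k, 76725 ≤ k → k < 78390 → pointOk (k * 22) = true := between_extend pointOk 22 76725 78381 9 (p5u183) p5r184

theorem p5r185 : allRange pointOk 22 78390 9 = true := by decide +kernel
theorem p5u185 : ∀ k, 76725 ≤ k → k < 78399 → pointOk (k * 22) = true := between_extend pointOk 22 76725 78390 9 (p5u184) p5r185

theorem p5r186 : allRange pointOk 22 78399 9 = true := by decide +kernel
theorem p5u186 : ∀ k, 76725 ≤ k → k < 78408 → pointOk (k * 22) = true := between_extend pointOk 22 76725 78399 9 (p5u185) p5r186

theorem p5r187 : allRange pointOk 22 78408 9 = true := by decide +kernel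
theorem p5u187 : ∀ k, 76725 ≤ k → k < 78417 → pointOk (k * 22) = true := between_extend pointOk 22 76725 78408 9 (p5u186) p5r187

theorem p5r188 : allRange pointOk 22 78417 9 = true := by decide +kernel
theorem p5u188 : ∀ k, 76725 ≤ k → k < 78426 → pointOk (k * 22) = true := between_extend pointOk 22 76725 78417 9 (p5u187) p5r188

theorem p5r189 : allRange pointOk 22 78426 9 = true := by decide +kernel
theorem p5u189 : ∀ k, 76725 ≤ k → k < 78435 → pointOk (k * 22) = true := between_extend pointOk 22 76725 78426 9 (p5u188) p5r189

theorem p5r190 : allRange pointOk 22 78435 9 = true := by decide +kernel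
theorem p5u190 : ∀ k, 76725 ≤ k → k < 78444 → pointOk (k * 22) = true := between_extend pointOk 22 76725 78435 9 (p5u189) p5r190

theorem p5r191 : allRange pointOk 22 78444 9 = true := by decide +kernel
theorem p5u191 : ∀ k, 76725 ≤ k → k < 78453 → pointOk (k * 22) = true := between_extend pointOk 22 76725 78444 9 (p5u190) p5r191

theorem p5r192 : allRange pointOk 22 78453 9 = true := by decide +kernel
theorem p5u192 : ∀ k, 76725 ≤ k → k < 78462 → pointOk (k * 22) = true := between_extend pointOk 22 76725 78453 9 (p5u191) p5r192

theorem p5r193 : allRange pointOk 22 78462 9 = true := by decide +kernel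
theorem p5u193 : ∀ k, 76725 ≤ k → k < 78471 → pointOk (k * 22) = true := between_extend pointOk 22 76725 78462 9 (p5u192) p5r193

theorem p5r194 : allRange pointOk 22 78471 9 = true := by decide +kernel
theorem p5u194 : ∀ k, 76725 ≤ k → k < 78480 → pointOk (k * 22) = true := between_extend pointOk 22 76725 78471 9 (p5u193) p5r194

theorem p5r195 : allRange pointOk 22 78480 9 = true := by decide +kernel
theorem p5u195 : ∀ k, 76725 ≤ k → k < 78489 → pointOk (k * 22) = true := between_extend pointOk 22 76725 78480 9 (p5u194) p5r195

theorem p5r196 : allRange pointOk 22 78489 9 = true := by decide +kernel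
theorem p5u196 : ∀ k, 76725 ≤ k → k < 78498 → pointOk (k * 22) = true := between_extend pointOk 22 76725 78489 9 (p5u195) p5r196

theorem p5r197 : allRange pointOk 22 78498 9 = true := by decide +kernel
theorem p5u197 : ∀ k, 76725 ≤ k → k < 78507 → pointOk (k * 22) = true := between_extend pointOk 22 76725 78498 9 (p5u196) p5r197

theorem p5r198 : allRange pointOk 22 78507 9 = true := by decide +kernel
theorem p5u198 : ∀ k, 76725 ≤ k → k < 78516 → pointOk (k * 22) = true := between_extend pointOk 22 76725 78507 9 (p5u197) p5r198

theorem p5r199 : allRange pointOk 22 78516 9 = true := by decide +kernel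
theorem p5u199 : ∀ k, 76725 ≤ k → k < 78525 → pointOk (k * 22) = true := between_extend pointOk 22 76725 78516 9 (p5u198) p5r199

theorem p5r200 : allRange pointOk 22 78525 9 = true := by decide +kernel
theorem p5u200 : ∀ k, 76725 ≤ k → k < 78534 → pointOk (k * 22) = true := between_extend pointOk 22 76725 78525 9 (p5u199) p5r200

theorem p5r201 : allRange pointOk 22 78534 9 = true := by decide +kernel
theorem p5u201 : ∀ k, 76725 ≤ k → k < 78543 → pointOk (k * 22) = true := between_extend pointOk 22 76725 78534 9 (p5u200) p5r201

theorem p5r202 : allRange pointOk 22 78543 9 = true := by decide +kernel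
theorem p5u202 : ∀ k, 76725 ≤ k → k < 78552 → pointOk (k * 22) = true := between_extend pointOk 22 76725 78543 9 (p5u201) p5r202

theorem p5r203 : allRange pointOk 22 78552 9 = true := by decide +kernel
theorem p5u203 : ∀ k, 76725 ≤ k → k < 78561 → pointOk (k * 22) = true := between_extend pointOk 22 76725 78552 9 (p5u202) p5r203

theorem p5r204 : allRange pointOk 22 78561 9 = true := by decide +kernel
theorem p5u204 : ∀ k, 76725 ≤ k → k < 78570 → pointOk (k * 22) = true := between_extend pointOk 22 76725 78561 9 (p5u203) p5r204

theorem p5r205 : allRange pointOk 22 78570 9 = true := by decide +kernel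
theorem p5u205 : ∀ k, 76725 ≤ k → k < 78579 → pointOk (k * 22) = true := between_extend pointOk 22 76725 78570 9 (p5u204) p5r205

theorem p5r206 : allRange pointOk 22 78579 9 = true := by decide +kernel
theorem p5u206 : ∀ k, 76725 ≤ k → k < 78588 → pointOk (k * 22) = true := between_extend pointOk 22 76725 78579 9 (p5u205) p5r206

theorem p5r207 : allRange pointOk 22 78588 9 = true := by decide +kernel
theorem p5u207 : ∀ k, 76725 ≤ k → k < 78597 → pointOk (k * 22) = true := between_extend pointOk 22 76725 78588 9 (p5u206) p5r207

theorem p5r208 : allRange pointOk 22 78597 9 = true := by decide +kernel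
theorem p5u208 : ∀ k, 76725 ≤ k → k < 78606 → pointOk (k * 22) = true := between_extend pointOk 22 76725 78597 9 (p5u207) p5r208

theorem p5r209 : allRange pointOk 22 78606 9 = true := by decide +kernel
theorem p5u209 : ∀ k, 76725 ≤ k → k < 78615 → pointOk (k * 22) = true := between_extend pointOk 22 76725 78606 9 (p5u208) p5r209

theorem p5r210 : allRange pointOk 22 78615 9 = true := by decide +kernel
theorem p5u210 : ∀ k, 76725 ≤ k → k < 78624 → pointOk (k * 22) = true := between_extend pointOk 22 76725 78615 9 (p5u209) p5r210

theorem p5r211 : allRange pointOk 22 78624 9 = true := by decide +kernel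
theorem p5u211 : ∀ k, 76725 ≤ k → k < 78633 → pointOk (k * 22) = true := between_extend pointOk 22 76725 78624 9 (p5u210) p5r211

theorem p5r212 : allRange pointOk 22 78633 9 = true := by decide +kernel
theorem p5u212 : ∀ k, 76725 ≤ k → k < 78642 → pointOk (k * 22) = true := between_extend pointOk 22 76725 78633 9 (p5u211) p5r212

theorem p5r213 : allRange pointOk 22 78642 9 = true := by decide +kernel
theorem p5u213 : ∀ k, 76725 ≤ k → k < 78651 → pointOk (k * 22) = true := between_extend pointOk 22 76725 78642 9 (p5u212) p5r213

theorem p5r214 : allRange pointOk 22 78651 9 = true := by decide +kernel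
theorem p5u214 : ∀ k, 76725 ≤ k → k < 78660 → pointOk (k * 22) = true := between_extend pointOk 22 76725 78651 9 (p5u213) p5r214

theorem p5r215 : allRange pointOk 22 78660 9 = true := by decide +kernel
theorem p5u215 : ∀ k, 76725 ≤ k → k < 78669 → pointOk (k * 22) = true := between_extend pointOk 22 76725 78660 9 (p5u214) p5r215

theorem p5r216 : allRange pointOk 22 78669 9 = true := by decide +kernel
theorem p5u216 : ∀ k, 76725 ≤ k → k < 78678 → pointOk (k * 22) = true := between_extend pointOk 22 76725 78669 9 (p5u215) p5r216

theorem p5r217 : allRange pointOk 22 78678 9 = true := by decide +kernel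
theorem p5u217 : ∀ k, 76725 ≤ k → k < 78687 → pointOk (k * 22) = true := between_extend pointOk 22 76725 78678 9 (p5u216) p5r217

theorem p5r218 : allRange pointOk 22 78687 9 = true := by decide +kernel
theorem p5u218 : ∀ k, 76725 ≤ k → k < 78696 → pointOk (k * 22) = true := between_extend pointOk 22 76725 78687 9 (p5u217) p5r218

theorem p5r219 : allRange pointOk 22 78696 9 = true := by decide +kernel
theorem p5u219 : ∀ k, 76725 ≤ k → k < 78705 → pointOk (k * 22) = true := between_extend pointOk 22 76725 78696 9 (p5u218) p5r219

theorem p5r220 : allRange pointOk 22 78705 9 = true := by decide +kernel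
theorem p5u220 : ∀ k, 76725 ≤ k → k < 78714 → pointOk (k * 22) = true := between_extend pointOk 22 76725 78705 9 (p5u219) p5r220

theorem p5r221 : allRange pointOk 22 78714 9 = true := by decide +kernel
theorem p5u221 : ∀ k, 76725 ≤ k → k < 78723 → pointOk (k * 22) = true := between_extend pointOk 22 76725 78714 9 (p5u220) p5r221

theorem p5r222 : allRange pointOk 22 78723 9 = true := by decide +kernel
theorem p5u222 : ∀ k, 76725 ≤ k → k < 78732 → pointOk (k * 22) = true := between_extend pointOk 22 76725 78723 9 (p5u221) p5r222

theorem p5r223 : allRange pointOk 22 78732 9 = true := by decide +kernel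
theorem p5u223 : ∀ k, 76725 ≤ k → k < 78741 → pointOk (k * 22) = true := between_extend pointOk 22 76725 78732 9 (p5u222) p5r223

theorem p5r224 : allRange pointOk 22 78741 9 = true := by decide +kernel
theorem p5u224 : ∀ k, 76725 ≤ k → k < 78750 → pointOk (k * 22) = true := between_extend pointOk 22 76725 78741 9 (p5u223) p5r224

theorem p5r225 : allRange pointOk 22 78750 9 = true := by decide +kernel
theorem p5u225 : ∀ k, 76725 ≤ k → k < 78759 → pointOk (k * 22) = true := between_extend pointOk 22 76725 78750 9 (p5u224) p5r225

theorem p5r226 : allRange pointOk 22 78759 9 = true := by decide +kernel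
theorem p5u226 : ∀ k, 76725 ≤ k → k < 78768 → pointOk (k * 22) = true := between_extend pointOk 22 76725 78759 9 (p5u225) p5r226

theorem p5r227 : allRange pointOk 22 78768 9 = true := by decide +kernel
theorem p5u227 : ∀ k, 76725 ≤ k → k < 78777 → pointOk (k * 22) = true := between_extend pointOk 22 76725 78768 9 (p5u226) p5r227

theorem p5r228 : allRange pointOk 22 78777 9 = true := by decide +kernel
theorem p5u228 : ∀ k, 76725 ≤ k → k < 78786 → pointOk (k * 22) = true := between_extend pointOk 22 76725 78777 9 (p5u227) p5r228

theorem p5r229 : allRange pointOk 22 78786 9 = true := by decide +kernel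
theorem p5u229 : ∀ k, 76725 ≤ k → k < 78795 → pointOk (k * 22) = true := between_extend pointOk 22 76725 78786 9 (p5u228) p5r229

theorem p5r230 : allRange pointOk 22 78795 9 = true := by decide +kernel
theorem p5u230 : ∀ k, 76725 ≤ k → k < 78804 → pointOk (k * 22) = true := between_extend pointOk 22 76725 78795 9 (p5u229) p5r230

theorem p5r231 : allRange pointOk 22 78804 9 = true := by decide +kernel
theorem p5u231 : ∀ k, 76725 ≤ k → k < 78813 → pointOk (k * 22) = true := between_extend pointOk 22 76725 78804 9 (p5u230) p5r231

theorem p5r232 : allRange pointOk 22 78813 9 = true := by decide +kernel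
theorem p5u232 : ∀ k, 76725 ≤ k → k < 78822 → pointOk (k * 22) = true := between_extend pointOk 22 76725 78813 9 (p5u231) p5r232

theorem p5r233 : allRange pointOk 22 78822 9 = true := by decide +kernel
theorem p5u233 : ∀ k, 76725 ≤ k → k < 78831 → pointOk (k * 22) = true := between_extend pointOk 22 76725 78822 9 (p5u232) p5r233

theorem p5r234 : allRange pointOk 22 78831 9 = true := by decide +kernel
theorem p5u234 : ∀ k, 76725 ≤ k → k < 78840 → pointOk (k * 22) = true := between_extend pointOk 22 76725 78831 9 (p5u233) p5r234

theorem p5r235 : allRange pointOk 22 78840 9 = true := by decide +kernel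
theorem p5u235 : ∀ k, 76725 ≤ k → k < 78849 → pointOk (k * 22) = true := between_extend pointOk 22 76725 78840 9 (p5u234) p5r235

theorem p5r236 : allRange pointOk 22 78849 9 = true := by decide +kernel
theorem p5u236 : ∀ k, 76725 ≤ k → k < 78858 → pointOk (k * 22) = true := between_extend pointOk 22 76725 78849 9 (p5u235) p5r236

theorem p5r237 : allRange pointOk 22 78858 9 = true := by decide +kernel
theorem p5u237 : ∀ k, 76725 ≤ k → k < 78867 → pointOk (k * 22) = true := between_extend pointOk 22 76725 78858 9 (p5u236) p5r237

theorem p5r238 : allRange pointOk 22 78867 9 = true := by decide +kernel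
theorem p5u238 : ∀ k, 76725 ≤ k → k < 78876 → pointOk (k * 22) = true := between_extend pointOk 22 76725 78867 9 (p5u237) p5r238

theorem p5r239 : allRange pointOk 22 78876 9 = true := by decide +kernel
theorem p5u239 : ∀ k, 76725 ≤ k → k < 78885 → pointOk (k * 22) = true := between_extend pointOk 22 76725 78876 9 (p5u238) p5r239

theorem p5r240 : allRange pointOk 22 78885 9 = true := by decide +kernel
theorem p5u240 : ∀ k, 76725 ≤ k → k < 78894 → pointOk (k * 22) = true := between_extend pointOk 22 76725 78885 9 (p5u239) p5r240

theorem p5r241 : allRange pointOk 22 78894 9 = true := by decide +kernel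
theorem p5u241 : ∀ k, 76725 ≤ k → k < 78903 → pointOk (k * 22) = true := between_extend pointOk 22 76725 78894 9 (p5u240) p5r241

theorem p5r242 : allRange pointOk 22 78903 9 = true := by decide +kernel
theorem p5u242 : ∀ k, 76725 ≤ k → k < 78912 → pointOk (k * 22) = true := between_extend pointOk 22 76725 78903 9 (p5u241) p5r242

theorem p5r243 : allRange pointOk 22 78912 9 = true := by decide +kernel
theorem p5u243 : ∀ k, 76725 ≤ k → k < 78921 → pointOk (k * 22) = true := between_extend pointOk 22 76725 78912 9 (p5u242) p5r243

theorem p5r244 : allRange pointOk 22 78921 9 = true := by decide +kernel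
theorem p5u244 : ∀ k, 76725 ≤ k → k < 78930 → pointOk (k * 22) = true := between_extend pointOk 22 76725 78921 9 (p5u243) p5r244

theorem p5r245 : allRange pointOk 22 78930 9 = true := by decide +kernel
theorem p5u245 : ∀ k, 76725 ≤ k → k < 78939 → pointOk (k * 22) = true := between_extend pointOk 22 76725 78930 9 (p5u244) p5r245

theorem p5r246 : allRange pointOk 22 78939 9 = true := by decide +kernel
theorem p5u246 : ∀ k, 76725 ≤ k → k < 78948 → pointOk (k * 22) = true := between_extend pointOk 22 76725 78939 9 (p5u245) p5r246

theorem p5r247 : allRange pointOk 22 78948 9 = true := by decide +kernel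
theorem p5u247 : ∀ k, 76725 ≤ k → k < 78957 → pointOk (k * 22) = true := between_extend pointOk 22 76725 78948 9 (p5u246) p5r247

theorem p5r248 : allRange pointOk 22 78957 9 = true := by decide +kernel
theorem p5u248 : ∀ k, 76725 ≤ k → k < 78966 → pointOk (k * 22) = true := between_extend pointOk 22 76725 78957 9 (p5u247) p5r248

theorem p5r249 : allRange pointOk 22 78966 9 = true := by decide +kernel
theorem p5u249 : ∀ k, 76725 ≤ k → k < 78975 → pointOk (k * 22) = true := between_extend pointOk 22 76725 78966 9 (p5u248) p5r249

theorem p5r250 : allRange pointOk 22 78975 9 = true := by decide +kernel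
theorem p5u250 : ∀ k, 76725 ≤ k → k < 78984 → pointOk (k * 22) = true := between_extend pointOk 22 76725 78975 9 (p5u249) p5r250

theorem p5r251 : allRange pointOk 22 78984 9 = true := by decide +kernel
theorem p5u251 : ∀ k, 76725 ≤ k → k < 78993 → pointOk (k * 22) = true := between_extend pointOk 22 76725 78984 9 (p5u250) p5r251

theorem p5r252 : allRange pointOk 22 78993 9 = true := by decide +kernel
theorem p5u252 : ∀ k, 76725 ≤ k → k < 79002 → pointOk (k * 22) = true := between_extend pointOk 22 76725 78993 9 (p5u251) p5r252

theorem p5r253 : allRange pointOk 22 79002 9 = true := by decide +kernel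
theorem p5u253 : ∀ k, 76725 ≤ k → k < 79011 → pointOk (k * 22) = true := between_extend pointOk 22 76725 79002 9 (p5u252) p5r253

theorem p5r254 : allRange pointOk 22 79011 9 = true := by decide +kernel
theorem p5u254 : ∀ k, 76725 ≤ k → k < 79020 → pointOk (k * 22) = true := between_extend pointOk 22 76725 79011 9 (p5u253) p5r254

theorem p5r255 : allRange pointOk 22 79020 9 = true := by decide +kernel
theorem p5u255 : ∀ k, 76725 ≤ k → k < 79029 → pointOk (k * 22) = true := between_extend pointOk 22 76725 79020 9 (p5u254) p5r255

theorem p5r256 : allRange pointOk 22 79029 9 = true := by decide +kernel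
theorem p5u256 : ∀ k, 76725 ≤ k → k < 79038 → pointOk (k * 22) = true := between_extend pointOk 22 76725 79029 9 (p5u255) p5r256

theorem p5r257 : allRange pointOk 22 79038 9 = true := by decide +kernel
theorem p5u257 : ∀ k, 76725 ≤ k → k < 79047 → pointOk (k * 22) = true := between_extend pointOk 22 76725 79038 9 (p5u256) p5r257

theorem p5r258 : allRange pointOk 22 79047 9 = true := by decide +kernel
theorem p5u258 : ∀ k, 76725 ≤ k → k < 79056 → pointOk (k * 22) = true := between_extend pointOk 22 76725 79047 9 (p5u257) p5r258

theorem p5r259 : allRange pointOk 22 79056 9 = true := by decide +kernel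
theorem p5u259 : ∀ k, 76725 ≤ k → k < 79065 → pointOk (k * 22) = true := between_extend pointOk 22 76725 79056 9 (p5u258) p5r259

theorem p5r260 : allRange pointOk 22 79065 9 = true := by decide +kernel
theorem p5u260 : ∀ k, 76725 ≤ k → k < 79074 → pointOk (k * 22) = true := between_extend pointOk 22 76725 79065 9 (p5u259) p5r260

theorem p5r261 : allRange pointOk 22 79074 9 = true := by decide +kernel
theorem p5u261 : ∀ k, 76725 ≤ k → k < 79083 → pointOk (k * 22) = true := between_extend pointOk 22 76725 79074 9 (p5u260) p5r261

theorem p5r262 : allRange pointOk 22 79083 9 = true := by decide +kernel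
theorem p5u262 : ∀ k, 76725 ≤ k → k < 79092 → pointOk (k * 22) = true := between_extend pointOk 22 76725 79083 9 (p5u261) p5r262

theorem p5r263 : allRange pointOk 22 79092 9 = true := by decide +kernel
theorem p5u263 : ∀ k, 76725 ≤ k → k < 79101 → pointOk (k * 22) = true := between_extend pointOk 22 76725 79092 9 (p5u262) p5r263

theorem p5r264 : allRange pointOk 22 79101 9 = true := by decide +kernel
theorem p5u264 : ∀ k, 76725 ≤ k → k < 79110 → pointOk (k * 22) = true := between_extend pointOk 22 76725 79101 9 (p5u263) p5r264

theorem p5r265 : allRange pointOk 22 79110 9 = true := by decide +kernel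
theorem p5u265 : ∀ k, 76725 ≤ k → k < 79119 → pointOk (k * 22) = true := between_extend pointOk 22 76725 79110 9 (p5u264) p5r265

theorem p5r266 : allRange pointOk 22 79119 9 = true := by decide +kernel
theorem p5u266 : ∀ k, 76725 ≤ k → k < 79128 → pointOk (k * 22) = true := between_extend pointOk 22 76725 79119 9 (p5u265) p5r266

theorem p5r267 : allRange pointOk 22 79128 9 = true := by decide +kernel
theorem p5u267 : ∀ k, 76725 ≤ k → k < 79137 → pointOk (k * 22) = true := between_extend pointOk 22 76725 79128 9 (p5u266) p5r267

theorem p5r268 : allRange pointOk 22 79137 9 = true := by decide +kernel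
theorem p5u268 : ∀ k, 76725 ≤ k → k < 79146 → pointOk (k * 22) = true := between_extend pointOk 22 76725 79137 9 (p5u267) p5r268

theorem p5r269 : allRange pointOk 22 79146 9 = true := by decide +kernel
theorem p5u269 : ∀ k, 76725 ≤ k → k < 79155 → pointOk (k * 22) = true := between_extend pointOk 22 76725 79146 9 (p5u268) p5r269

theorem p5r270 : allRange pointOk 22 79155 9 = true := by decide +kernel
theorem p5u270 : ∀ k, 76725 ≤ k → k < 79164 → pointOk (k * 22) = true := between_extend pointOk 22 76725 79155 9 (p5u269) p5r270

theorem p5r271 : allRange pointOk 22 79164 9 = true := by decide +kernel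
theorem p5u271 : ∀ k, 76725 ≤ k → k < 79173 → pointOk (k * 22) = true := between_extend pointOk 22 76725 79164 9 (p5u270) p5r271

theorem p5r272 : allRange pointOk 22 79173 9 = true := by decide +kernel
theorem p5u272 : ∀ k, 76725 ≤ k → k < 79182 → pointOk (k * 22) = true := between_extend pointOk 22 76725 79173 9 (p5u271) p5r272

theorem p5r273 : allRange pointOk 22 79182 9 = true := by decide +kernel
theorem p5u273 : ∀ k, 76725 ≤ k → k < 79191 → pointOk (k * 22) = true := between_extend pointOk 22 76725 79182 9 (p5u272) p5r273

theorem p5r274 : allRange pointOk 22 79191 9 = true := by decide +kernel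
theorem p5u274 : ∀ k, 76725 ≤ k → k < 79200 → pointOk (k * 22) = true := between_extend pointOk 22 76725 79191 9 (p5u273) p5r274

theorem p5r275 : allRange pointOk 22 79200 9 = true := by decide +kernel
theorem p5u275 : ∀ k, 76725 ≤ k → k < 79209 → pointOk (k * 22) = true := between_extend pointOk 22 76725 79200 9 (p5u274) p5r275

theorem p5r276 : allRange pointOk 22 79209 9 = true := by decide +kernel
theorem p5u276 : ∀ k, 76725 ≤ k → k < 79218 → pointOk (k * 22) = true := between_extend pointOk 22 76725 79209 9 (p5u275) p5r276

theorem p5r277 : allRange pointOk 22 79218 9 = true := by decide +kernel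
theorem p5u277 : ∀ k, 76725 ≤ k → k < 79227 → pointOk (k * 22) = true := between_extend pointOk 22 76725 79218 9 (p5u276) p5r277

theorem p5r278 : allRange pointOk 22 79227 9 = true := by decide +kernel
theorem p5u278 : ∀ k, 76725 ≤ k → k < 79236 → pointOk (k * 22) = true := between_extend pointOk 22 76725 79227 9 (p5u277) p5r278

theorem p5r279 : allRange pointOk 22 79236 9 = true := by decide +kernel
theorem p5u279 : ∀ k, 76725 ≤ k → k < 79245 → pointOk (k * 22) = true := between_extend pointOk 22 76725 79236 9 (p5u278) p5r279

theorem p5r280 : allRange pointOk 22 79245 9 = true := by decide +kernel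
theorem p5u280 : ∀ k, 76725 ≤ k → k < 79254 → pointOk (k * 22) = true := between_extend pointOk 22 76725 79245 9 (p5u279) p5r280

theorem p5r281 : allRange pointOk 22 79254 9 = true := by decide +kernel
theorem p5u281 : ∀ k, 76725 ≤ k → k < 79263 → pointOk (k * 22) = true := between_extend pointOk 22 76725 79254 9 (p5u280) p5r281

theorem p5r282 : allRange pointOk 22 79263 9 = true := by decide +kernel
theorem p5u282 : ∀ k, 76725 ≤ k → k < 79272 → pointOk (k * 22) = true := between_extend pointOk 22 76725 79263 9 (p5u281) p5r282

theorem p5r283 : allRange pointOk 22 79272 9 = true := by decide +kernel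
theorem p5u283 : ∀ k, 76725 ≤ k → k < 79281 → pointOk (k * 22) = true := between_extend pointOk 22 76725 79272 9 (p5u282) p5r283

theorem p5r284 : allRange pointOk 22 79281 9 = true := by decide +kernel
theorem p5u284 : ∀ k, 76725 ≤ k → k < 79290 → pointOk (k * 22) = true := between_extend pointOk 22 76725 79281 9 (p5u283) p5r284

theorem p5r285 : allRange pointOk 22 79290 9 = true := by decide +kernel
theorem p5u285 : ∀ k, 76725 ≤ k → k < 79299 → pointOk (k * 22) = true := between_extend pointOk 22 76725 79290 9 (p5u284) p5r285

theorem p5r286 : allRange pointOk 22 79299 9 = true := by decide +kernel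
theorem p5u286 : ∀ k, 76725 ≤ k → k < 79308 → pointOk (k * 22) = true := between_extend pointOk 22 76725 79299 9 (p5u285) p5r286

theorem p5r287 : allRange pointOk 22 79308 9 = true := by decide +kernel
theorem p5u287 : ∀ k, 76725 ≤ k → k < 79317 → pointOk (k * 22) = true := between_extend pointOk 22 76725 79308 9 (p5u286) p5r287

theorem p5r288 : allRange pointOk 22 79317 9 = true := by decide +kernel
theorem p5u288 : ∀ k, 76725 ≤ k → k < 79326 → pointOk (k * 22) = true := between_extend pointOk 22 76725 79317 9 (p5u287) p5r288

theorem p5r289 : allRange pointOk 22 79326 9 = true := by decide +kernel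
theorem p5u289 : ∀ k, 76725 ≤ k → k < 79335 → pointOk (k * 22) = true := between_extend pointOk 22 76725 79326 9 (p5u288) p5r289

theorem p5r290 : allRange pointOk 22 79335 9 = true := by decide +kernel
theorem p5u290 : ∀ k, 76725 ≤ k → k < 79344 → pointOk (k * 22) = true := between_extend pointOk 22 76725 79335 9 (p5u289) p5r290

theorem p5r291 : allRange pointOk 22 79344 9 = true := by decide +kernel
theorem p5u291 : ∀ k, 76725 ≤ k → k < 79353 → pointOk (k * 22) = true := between_extend pointOk 22 76725 79344 9 (p5u290) p5r291

theorem p5r292 : allRange pointOk 22 79353 9 = true := by decide +kernel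
theorem p5u292 : ∀ k, 76725 ≤ k → k < 79362 → pointOk (k * 22) = true := between_extend pointOk 22 76725 79353 9 (p5u291) p5r292

theorem p5r293 : allRange pointOk 22 79362 9 = true := by decide +kernel
theorem p5u293 : ∀ k, 76725 ≤ k → k < 79371 → pointOk (k * 22) = true := between_extend pointOk 22 76725 79362 9 (p5u292) p5r293

theorem p5r294 : allRange pointOk 22 79371 9 = true := by decide +kernel
theorem p5u294 : ∀ k, 76725 ≤ k → k < 79380 → pointOk (k * 22) = true := between_extend pointOk 22 76725 79371 9 (p5u293) p5r294

theorem p5r295 : allRange pointOk 22 79380 9 = true := by decide +kernel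
theorem p5u295 : ∀ k, 76725 ≤ k → k < 79389 → pointOk (k * 22) = true := between_extend pointOk 22 76725 79380 9 (p5u294) p5r295

theorem p5r296 : allRange pointOk 22 79389 9 = true := by decide +kernel
theorem p5u296 : ∀ k, 76725 ≤ k → k < 79398 → pointOk (k * 22) = true := between_extend pointOk 22 76725 79389 9 (p5u295) p5r296

theorem p5r297 : allRange pointOk 22 79398 9 = true := by decide +kernel
theorem p5u297 : ∀ k, 76725 ≤ k → k < 79407 → pointOk (k * 22) = true := between_extend pointOk 22 76725 79398 9 (p5u296) p5r297

theorem p5r298 : allRange pointOk 22 79407 9 = true := by decide +kernel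
theorem p5u298 : ∀ k, 76725 ≤ k → k < 79416 → pointOk (k * 22) = true := between_extend pointOk 22 76725 79407 9 (p5u297) p5r298

theorem p5r299 : allRange pointOk 22 79416 9 = true := by decide +kernel
theorem p5u299 : ∀ k, 76725 ≤ k → k < 79425 → pointOk (k * 22) = true := between_extend pointOk 22 76725 79416 9 (p5u298) p5r299

theorem p5r300 : allRange pointOk 22 79425 9 = true := by decide +kernel
theorem p5u300 : ∀ k, 76725 ≤ k → k < 79434 → pointOk (k * 22) = true := between_extend pointOk 22 76725 79425 9 (p5u299) p5r300

theorem p5r301 : allRange pointOk 22 79434 9 = true := by decide +kernel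
theorem p5u301 : ∀ k, 76725 ≤ k → k < 79443 → pointOk (k * 22) = true := between_extend pointOk 22 76725 79434 9 (p5u300) p5r301

theorem p5r302 : allRange pointOk 22 79443 9 = true := by decide +kernel
theorem p5u302 : ∀ k, 76725 ≤ k → k < 79452 → pointOk (k * 22) = true := between_extend pointOk 22 76725 79443 9 (p5u301) p5r302

theorem p5r303 : allRange pointOk 22 79452 9 = true := by decide +kernel
theorem p5u303 : ∀ k, 76725 ≤ k → k < 79461 → pointOk (k * 22) = true := between_extend pointOk 22 76725 79452 9 (p5u302) p5r303

theorem p5r304 : allRange pointOk 22 79461 9 = true := by decide +kernel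
theorem p5u304 : ∀ k, 76725 ≤ k → k < 79470 → pointOk (k * 22) = true := between_extend pointOk 22 76725 79461 9 (p5u303) p5r304

theorem p5r305 : allRange pointOk 22 79470 9 = true := by decide +kernel
theorem p5u305 : ∀ k, 76725 ≤ k → k < 79479 → pointOk (k * 22) = true := between_extend pointOk 22 76725 79470 9 (p5u304) p5r305

theorem p5r306 : allRange pointOk 22 79479 9 = true := by decide +kernel
theorem p5u306 : ∀ k, 76725 ≤ k → k < 79488 → pointOk (k * 22) = true := between_extend pointOk 22 76725 79479 9 (p5u305) p5r306

theorem p5r307 : allRange pointOk 22 79488 9 = true := by decide +kernel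
theorem p5u307 : ∀ k, 76725 ≤ k → k < 79497 → pointOk (k * 22) = true := between_extend pointOk 22 76725 79488 9 (p5u306) p5r307

theorem p5r308 : allRange pointOk 22 79497 9 = true := by decide +kernel
theorem p5u308 : ∀ k, 76725 ≤ k → k < 79506 → pointOk (k * 22) = true := between_extend pointOk 22 76725 79497 9 (p5u307) p5r308

theorem p5r309 : allRange pointOk 22 79506 9 = true := by decide +kernel
theorem p5u309 : ∀ k, 76725 ≤ k → k < 79515 → pointOk (k * 22) = true := between_extend pointOk 22 76725 79506 9 (p5u308) p5r309

theorem p5r310 : allRange pointOk 22 79515 9 = true := by decide +kernel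
theorem p5u310 : ∀ k, 76725 ≤ k → k < 79524 → pointOk (k * 22) = true := between_extend pointOk 22 76725 79515 9 (p5u309) p5r310

theorem p5r311 : allRange pointOk 22 79524 9 = true := by decide +kernel
theorem p5u311 : ∀ k, 76725 ≤ k → k < 79533 → pointOk (k * 22) = true := between_extend pointOk 22 76725 79524 9 (p5u310) p5r311

theorem p5r312 : allRange pointOk 22 79533 9 = true := by decide +kernel
theorem p5u312 : ∀ k, 76725 ≤ k → k < 79542 → pointOk (k * 22) = true := between_extend pointOk 22 76725 79533 9 (p5u311) p5r312

theorem p5r313 : allRange pointOk 22 79542 9 = true := by decide +kernel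
theorem p5u313 : ∀ k, 76725 ≤ k → k < 79551 → pointOk (k * 22) = true := between_extend pointOk 22 76725 79542 9 (p5u312) p5r313

theorem p5r314 : allRange pointOk 22 79551 9 = true := by decide +kernel
theorem p5u314 : ∀ k, 76725 ≤ k → k < 79560 → pointOk (k * 22) = true := between_extend pointOk 22 76725 79551 9 (p5u313) p5r314

theorem p5r315 : allRange pointOk 22 79560 9 = true := by decide +kernel
theorem p5u315 : ∀ k, 76725 ≤ k → k < 79569 → pointOk (k * 22) = true := between_extend pointOk 22 76725 79560 9 (p5u314) p5r315

theorem p5r316 : allRange pointOk 22 79569 9 = true := by decide +kernel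
theorem p5u316 : ∀ k, 76725 ≤ k → k < 79578 → pointOk (k * 22) = true := between_extend pointOk 22 76725 79569 9 (p5u315) p5r316

theorem p5r317 : allRange pointOk 22 79578 9 = true := by decide +kernel
theorem p5u317 : ∀ k, 76725 ≤ k → k < 79587 → pointOk (k * 22) = true := between_extend pointOk 22 76725 79578 9 (p5u316) p5r317

theorem p5r318 : allRange pointOk 22 79587 9 = true := by decide +kernel
theorem p5u318 : ∀ k, 76725 ≤ k → k < 79596 → pointOk (k * 22) = true := between_extend pointOk 22 76725 79587 9 (p5u317) p5r318

theorem p5r319 : allRange pointOk 22 79596 9 = true := by decide +kernel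
theorem p5u319 : ∀ k, 76725 ≤ k → k < 79605 → pointOk (k * 22) = true := between_extend pointOk 22 76725 79596 9 (p5u318) p5r319

theorem p5r320 : allRange pointOk 22 79605 9 = true := by decide +kernel
theorem p5u320 : ∀ k, 76725 ≤ k → k < 79614 → pointOk (k * 22) = true := between_extend pointOk 22 76725 79605 9 (p5u319) p5r320

theorem p5r321 : allRange pointOk 22 79614 9 = true := by decide +kernel
theorem p5u321 : ∀ k, 76725 ≤ k → k < 79623 → pointOk (k * 22) = true := between_extend pointOk 22 76725 79614 9 (p5u320) p5r321

theorem p5r322 : allRange pointOk 22 79623 9 = true := by decide +kernel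
theorem p5u322 : ∀ k, 76725 ≤ k → k < 79632 → pointOk (k * 22) = true := between_extend pointOk 22 76725 79623 9 (p5u321) p5r322

theorem p5r323 : allRange pointOk 22 79632 9 = true := by decide +kernel
theorem p5u323 : ∀ k, 76725 ≤ k → k < 79641 → pointOk (k * 22) = true := between_extend pointOk 22 76725 79632 9 (p5u322) p5r323

theorem p5r324 : allRange pointOk 22 79641 9 = true := by decide +kernel
theorem p5u324 : ∀ k, 76725 ≤ k → k < 79650 → pointOk (k * 22) = true := between_extend pointOk 22 76725 79641 9 (p5u323) p5r324

theorem p5r325 : allRange pointOk 22 79650 9 = true := by decide +kernel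
theorem p5u325 : ∀ k, 76725 ≤ k → k < 79659 → pointOk (k * 22) = true := between_extend pointOk 22 76725 79650 9 (p5u324) p5r325

theorem p5r326 : allRange pointOk 22 79659 9 = true := by decide +kernel
theorem p5u326 : ∀ k, 76725 ≤ k → k < 79668 → pointOk (k * 22) = true := between_extend pointOk 22 76725 79659 9 (p5u325) p5r326

theorem p5r327 : allRange pointOk 22 79668 9 = true := by decide +kernel
theorem p5u327 : ∀ k, 76725 ≤ k → k < 79677 → pointOk (k * 22) = true := between_extend pointOk 22 76725 79668 9 (p5u326) p5r327

theorem p5r328 : allRange pointOk 22 79677 9 = true := by decide +kernel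
theorem p5u328 : ∀ k, 76725 ≤ k → k < 79686 → pointOk (k * 22) = true := between_extend pointOk 22 76725 79677 9 (p5u327) p5r328

theorem p5r329 : allRange pointOk 22 79686 9 = true := by decide +kernel
theorem p5u329 : ∀ k, 76725 ≤ k → k < 79695 → pointOk (k * 22) = true := between_extend pointOk 22 76725 79686 9 (p5u328) p5r329

theorem p5r330 : allRange pointOk 22 79695 9 = true := by decide +kernel
theorem p5u330 : ∀ k, 76725 ≤ k → k < 79704 → pointOk (k * 22) = true := between_extend pointOk 22 76725 79695 9 (p5u329) p5r330

theorem p5r331 : allRange pointOk 22 79704 9 = true := by decide +kernel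
theorem p5u331 : ∀ k, 76725 ≤ k → k < 79713 → pointOk (k * 22) = true := between_extend pointOk 22 76725 79704 9 (p5u330) p5r331

theorem p5r332 : allRange pointOk 22 79713 9 = true := by decide +kernel
theorem p5u332 : ∀ k, 76725 ≤ k → k < 79722 → pointOk (k * 22) = true := between_extend pointOk 22 76725 79713 9 (p5u331) p5r332

theorem p5r333 : allRange pointOk 22 79722 9 = true := by decide +kernel
theorem p5u333 : ∀ k, 76725 ≤ k → k < 79731 → pointOk (k * 22) = true := between_extend pointOk 22 76725 79722 9 (p5u332) p5r333

theorem p5r334 : allRange pointOk 22 79731 9 = true := by decide +kernel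
theorem p5u334 : ∀ k, 76725 ≤ k → k < 79740 → pointOk (k * 22) = true := between_extend pointOk 22 76725 79731 9 (p5u333) p5r334

theorem p5r335 : allRange pointOk 22 79740 9 = true := by decide +kernel
theorem p5u335 : ∀ k, 76725 ≤ k → k < 79749 → pointOk (k * 22) = true := between_extend pointOk 22 76725 79740 9 (p5u334) p5r335

theorem p5r336 : allRange pointOk 22 79749 9 = true := by decide +kernel
theorem p5u336 : ∀ k, 76725 ≤ k → k < 79758 → pointOk (k * 22) = true := between_extend pointOk 22 76725 79749 9 (p5u335) p5r336

theorem p5r337 : allRange pointOk 22 79758 9 = true := by decide +kernel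
theorem p5u337 : ∀ k, 76725 ≤ k → k < 79767 → pointOk (k * 22) = true := between_extend pointOk 22 76725 79758 9 (p5u336) p5r337

theorem p5r338 : allRange pointOk 22 79767 9 = true := by decide +kernel
theorem p5u338 : ∀ k, 76725 ≤ k → k < 79776 → pointOk (k * 22) = true := between_extend pointOk 22 76725 79767 9 (p5u337) p5r338

theorem p5r339 : allRange pointOk 22 79776 9 = true := by decide +kernel
theorem p5u339 : ∀ k, 76725 ≤ k → k < 79785 → pointOk (k * 22) = true := between_extend pointOk 22 76725 79776 9 (p5u338) p5r339

theorem p5r340 : allRange pointOk 22 79785 9 = true := by decide +kernel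
theorem p5u340 : ∀ k, 76725 ≤ k → k < 79794 → pointOk (k * 22) = true := between_extend pointOk 22 76725 79785 9 (p5u339) p5r340

theorem p5r341 : allRange pointOk 22 79794 9 = true := by decide +kernel
theorem p5u341 : ∀ k, 76725 ≤ k → k < 79803 → pointOk (k * 22) = true := between_extend pointOk 22 76725 79794 9 (p5u340) p5r341

theorem p5r342 : allRange pointOk 22 79803 9 = true := by decide +kernel
theorem p5u342 : ∀ k, 76725 ≤ k → k < 79812 → pointOk (k * 22) = true := between_extend pointOk 22 76725 79803 9 (p5u341) p5r342

theorem p5r343 : allRange pointOk 22 79812 9 = true := by decide +kernel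
theorem p5u343 : ∀ k, 76725 ≤ k → k < 79821 → pointOk (k * 22) = true := between_extend pointOk 22 76725 79812 9 (p5u342) p5r343

theorem p5r344 : allRange pointOk 22 79821 9 = true := by decide +kernel
theorem p5u344 : ∀ k, 76725 ≤ k → k < 79830 → pointOk (k * 22) = true := between_extend pointOk 22 76725 79821 9 (p5u343) p5r344

theorem p5r345 : allRange pointOk 22 79830 9 = true := by decide +kernel
theorem p5u345 : ∀ k, 76725 ≤ k → k < 79839 → pointOk (k * 22) = true := between_extend pointOk 22 76725 79830 9 (p5u344) p5r345

theorem p5r346 : allRange pointOk 22 79839 9 = true := by decide +kernel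
theorem p5u346 : ∀ k, 76725 ≤ k → k < 79848 → pointOk (k * 22) = true := between_extend pointOk 22 76725 79839 9 (p5u345) p5r346

theorem p5r347 : allRange pointOk 22 79848 9 = true := by decide +kernel
theorem p5u347 : ∀ k, 76725 ≤ k → k < 79857 → pointOk (k * 22) = true := between_extend pointOk 22 76725 79848 9 (p5u346) p5r347

theorem p5r348 : allRange pointOk 22 79857 9 = true := by decide +kernel
theorem p5u348 : ∀ k, 76725 ≤ k → k < 79866 → pointOk (k * 22) = true := between_extend pointOk 22 76725 79857 9 (p5u347) p5r348

theorem p5r349 : allRange pointOk 22 79866 9 = true := by decide +kernel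
theorem p5u349 : ∀ k, 76725 ≤ k → k < 79875 → pointOk (k * 22) = true := between_extend pointOk 22 76725 79866 9 (p5u348) p5r349

theorem p5r350 : allRange pointOk 22 79875 9 = true := by decide +kernel
theorem p5u350 : ∀ k, 76725 ≤ k → k < 79884 → pointOk (k * 22) = true := between_extend pointOk 22 76725 79875 9 (p5u349) p5r350

theorem p5r351 : allRange pointOk 22 79884 9 = true := by decide +kernel
theorem p5u351 : ∀ k, 76725 ≤ k → k < 79893 → pointOk (k * 22) = true := between_extend pointOk 22 76725 79884 9 (p5u350) p5r351

theorem p5r352 : allRange pointOk 22 79893 9 = true := by decide +kernel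
theorem p5u352 : ∀ k, 76725 ≤ k → k < 79902 → pointOk (k * 22) = true := between_extend pointOk 22 76725 79893 9 (p5u351) p5r352

theorem p5r353 : allRange pointOk 22 79902 9 = true := by decide +kernel
theorem p5u353 : ∀ k, 76725 ≤ k → k < 79911 → pointOk (k * 22) = true := between_extend pointOk 22 76725 79902 9 (p5u352) p5r353

theorem p5r354 : allRange pointOk 22 79911 9 = true := by decide +kernel
theorem p5u354 : ∀ k, 76725 ≤ k → k < 79920 → pointOk (k * 22) = true := between_extend pointOk 22 76725 79911 9 (p5u353) p5r354

theorem p5r355 : allRange pointOk 22 79920 9 = true := by decide +kernel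
theorem p5u355 : ∀ k, 76725 ≤ k → k < 79929 → pointOk (k * 22) = true := between_extend pointOk 22 76725 79920 9 (p5u354) p5r355

theorem p5r356 : allRange pointOk 22 79929 9 = true := by decide +kernel
theorem p5u356 : ∀ k, 76725 ≤ k → k < 79938 → pointOk (k * 22) = true := between_extend pointOk 22 76725 79929 9 (p5u355) p5r356

theorem p5r357 : allRange pointOk 22 79938 9 = true := by decide +kernel
theorem p5u357 : ∀ k, 76725 ≤ k → k < 79947 → pointOk (k * 22) = true := between_extend pointOk 22 76725 79938 9 (p5u356) p5r357

theorem p5r358 : allRange pointOk 22 79947 9 = true := by decide +kernel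
theorem p5u358 : ∀ k, 76725 ≤ k → k < 79956 → pointOk (k * 22) = true := between_extend pointOk 22 76725 79947 9 (p5u357) p5r358

theorem p5r359 : allRange pointOk 22 79956 9 = true := by decide +kernel
theorem p5u359 : ∀ k, 76725 ≤ k → k < 79965 → pointOk (k * 22) = true := between_extend pointOk 22 76725 79956 9 (p5u358) p5r359

theorem p5r360 : allRange pointOk 22 79965 9 = true := by decide +kernel
theorem p5u360 : ∀ k, 76725 ≤ k → k < 79974 → pointOk (k * 22) = true := between_extend pointOk 22 76725 79965 9 (p5u359) p5r360

theorem p5r361 : allRange pointOk 22 79974 9 = true := by decide +kernel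
theorem p5u361 : ∀ k, 76725 ≤ k → k < 79983 → pointOk (k * 22) = true := between_extend pointOk 22 76725 79974 9 (p5u360) p5r361

theorem p5r362 : allRange pointOk 22 79983 9 = true := by decide +kernel
theorem p5u362 : ∀ k, 76725 ≤ k → k < 79992 → pointOk (k * 22) = true := between_extend pointOk 22 76725 79983 9 (p5u361) p5r362

theorem p5r363 : allRange pointOk 22 79992 9 = true := by decide +kernel
theorem p5u363 : ∀ k, 76725 ≤ k → k < 80001 → pointOk (k * 22) = true := between_extend pointOk 22 76725 79992 9 (p5u362) p5r363

theorem p5r364 : allRange pointOk 22 80001 9 = true := by decide +kernel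
theorem p5u364 : ∀ k, 76725 ≤ k → k < 80010 → pointOk (k * 22) = true := between_extend pointOk 22 76725 80001 9 (p5u363) p5r364

theorem p5r365 : allRange pointOk 22 80010 9 = true := by decide +kernel
theorem p5u365 : ∀ k, 76725 ≤ k → k < 80019 → pointOk (k * 22) = true := between_extend pointOk 22 76725 80010 9 (p5u364) p5r365

theorem p5r366 : allRange pointOk 22 80019 9 = true := by decide +kernel
theorem p5u366 : ∀ k, 76725 ≤ k → k < 80028 → pointOk (k * 22) = true := between_extend pointOk 22 76725 80019 9 (p5u365) p5r366

theorem p5r367 : allRange pointOk 22 80028 9 = true := by decide +kernel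
theorem p5u367 : ∀ k, 76725 ≤ k → k < 80037 → pointOk (k * 22) = true := between_extend pointOk 22 76725 80028 9 (p5u366) p5r367

theorem p5r368 : allRange pointOk 22 80037 9 = true := by decide +kernel
theorem p5u368 : ∀ k, 76725 ≤ k → k < 80046 → pointOk (k * 22) = true := between_extend pointOk 22 76725 80037 9 (p5u367) p5r368

theorem p5r369 : allRange pointOk 22 80046 9 = true := by decide +kernel
theorem p5u369 : ∀ k, 76725 ≤ k → k < 80055 → pointOk (k * 22) = true := between_extend pointOk 22 76725 80046 9 (p5u368) p5r369

theorem p5r370 : allRange pointOk 22 80055 9 = true := by decide +kernel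
theorem p5u370 : ∀ k, 76725 ≤ k → k < 80064 → pointOk (k * 22) = true := between_extend pointOk 22 76725 80055 9 (p5u369) p5r370

theorem p5r371 : allRange pointOk 22 80064 9 = true := by decide +kernel
theorem p5u371 : ∀ k, 76725 ≤ k → k < 80073 → pointOk (k * 22) = true := between_extend pointOk 22 76725 80064 9 (p5u370) p5r371

theorem p5r372 : allRange pointOk 22 80073 9 = true := by decide +kernel
theorem p5u372 : ∀ k, 76725 ≤ k → k < 80082 → pointOk (k * 22) = true := between_extend pointOk 22 76725 80073 9 (p5u371) p5r372

theorem p5r373 : allRange pointOk 22 80082 9 = true := by decide +kernel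
theorem p5u373 : ∀ k, 76725 ≤ k → k < 80091 → pointOk (k * 22) = true := between_extend pointOk 22 76725 80082 9 (p5u372) p5r373

theorem p5r374 : allRange pointOk 22 80091 9 = true := by decide +kernel
theorem p5u374 : ∀ k, 76725 ≤ k → k < 80100 → pointOk (k * 22) = true := between_extend pointOk 22 76725 80091 9 (p5u373) p5r374

theorem p5r375 : allRange pointOk 22 80100 9 = true := by decide +kernel
theorem p5u375 : ∀ k, 76725 ≤ k → k < 80109 → pointOk (k * 22) = true := between_extend pointOk 22 76725 80100 9 (p5u374) p5r375

theorem p5r376 : allRange pointOk 22 80109 9 = true := by decide +kernel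
theorem p5u376 : ∀ k, 76725 ≤ k → k < 80118 → pointOk (k * 22) = true := between_extend pointOk 22 76725 80109 9 (p5u375) p5r376

theorem p5r377 : allRange pointOk 22 80118 9 = true := by decide +kernel
theorem p5u377 : ∀ k, 76725 ≤ k → k < 80127 → pointOk (k * 22) = true := between_extend pointOk 22 76725 80118 9 (p5u376) p5r377

theorem p5r378 : allRange pointOk 22 80127 9 = true := by decide +kernel
theorem p5u378 : ∀ k, 76725 ≤ k → k < 80136 → pointOk (k * 22) = true := between_extend pointOk 22 76725 80127 9 (p5u377) p5r378

theorem p5r379 : allRange pointOk 22 80136 9 = true := by decide +kernel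
theorem p5u379 : ∀ k, 76725 ≤ k → k < 80145 → pointOk (k * 22) = true := between_extend pointOk 22 76725 80136 9 (p5u378) p5r379

theorem p5r380 : allRange pointOk 22 80145 9 = true := by decide +kernel
theorem p5u380 : ∀ k, 76725 ≤ k → k < 80154 → pointOk (k * 22) = true := between_extend pointOk 22 76725 80145 9 (p5u379) p5r380

theorem p5r381 : allRange pointOk 22 80154 9 = true := by decide +kernel
theorem p5u381 : ∀ k, 76725 ≤ k → k < 80163 → pointOk (k * 22) = true := between_extend pointOk 22 76725 80154 9 (p5u380) p5r381

theorem p5r382 : allRange pointOk 22 80163 9 = true := by decide +kernel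
theorem p5u382 : ∀ k, 76725 ≤ k → k < 80172 → pointOk (k * 22) = true := between_extend pointOk 22 76725 80163 9 (p5u381) p5r382

theorem p5r383 : allRange pointOk 22 80172 9 = true := by decide +kernel
theorem p5u383 : ∀ k, 76725 ≤ k → k < 80181 → pointOk (k * 22) = true := between_extend pointOk 22 76725 80172 9 (p5u382) p5r383

theorem p5r384 : allRange pointOk 22 80181 9 = true := by decide +kernel
theorem p5u384 : ∀ k, 76725 ≤ k → k < 80190 → pointOk (k * 22) = true := between_extend pointOk 22 76725 80181 9 (p5u383) p5r384

theorem p5r385 : allRange pointOk 22 80190 9 = true := by decide +kernel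
theorem p5u385 : ∀ k, 76725 ≤ k → k < 80199 → pointOk (k * 22) = true := between_extend pointOk 22 76725 80190 9 (p5u384) p5r385

theorem p5r386 : allRange pointOk 22 80199 9 = true := by decide +kernel
theorem p5u386 : ∀ k, 76725 ≤ k → k < 80208 → pointOk (k * 22) = true := between_extend pointOk 22 76725 80199 9 (p5u385) p5r386

theorem p5r387 : allRange pointOk 22 80208 9 = true := by decide +kernel
theorem p5u387 : ∀ k, 76725 ≤ k → k < 80217 → pointOk (k * 22) = true := between_extend pointOk 22 76725 80208 9 (p5u386) p5r387

theorem p5r388 : allRange pointOk 22 80217 9 = true := by decide +kernel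
theorem p5u388 : ∀ k, 76725 ≤ k → k < 80226 → pointOk (k * 22) = true := between_extend pointOk 22 76725 80217 9 (p5u387) p5r388

theorem p5r389 : allRange pointOk 22 80226 9 = true := by decide +kernel
theorem p5u389 : ∀ k, 76725 ≤ k → k < 80235 → pointOk (k * 22) = true := between_extend pointOk 22 76725 80226 9 (p5u388) p5r389

theorem p5r390 : allRange pointOk 22 80235 9 = true := by decide +kernel
theorem p5u390 : ∀ k, 76725 ≤ k → k < 80244 → pointOk (k * 22) = true := between_extend pointOk 22 76725 80235 9 (p5u389) p5r390

theorem p5r391 : allRange pointOk 22 80244 9 = true := by decide +kernel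
theorem p5u391 : ∀ k, 76725 ≤ k → k < 80253 → pointOk (k * 22) = true := between_extend pointOk 22 76725 80244 9 (p5u390) p5r391

theorem p5r392 : allRange pointOk 22 80253 9 = true := by decide +kernel
theorem p5u392 : ∀ k, 76725 ≤ k → k < 80262 → pointOk (k * 22) = true := between_extend pointOk 22 76725 80253 9 (p5u391) p5r392

theorem p5r393 : allRange pointOk 22 80262 9 = true := by decide +kernel
theorem p5u393 : ∀ k, 76725 ≤ k → k < 80271 → pointOk (k * 22) = true := between_extend pointOk 22 76725 80262 9 (p5u392) p5r393

theorem p5r394 : allRange pointOk 22 80271 9 = true := by decide +kernel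
theorem p5u394 : ∀ k, 76725 ≤ k → k < 80280 → pointOk (k * 22) = true := between_extend pointOk 22 76725 80271 9 (p5u393) p5r394

theorem p5r395 : allRange pointOk 22 80280 9 = true := by decide +kernel
theorem p5u395 : ∀ k, 76725 ≤ k → k < 80289 → pointOk (k * 22) = true := between_extend pointOk 22 76725 80280 9 (p5u394) p5r395

theorem p5r396 : allRange pointOk 22 80289 9 = true := by decide +kernel
theorem p5u396 : ∀ k, 76725 ≤ k → k < 80298 → pointOk (k * 22) = true := between_extend pointOk 22 76725 80289 9 (p5u395) p5r396

theorem p5r397 : allRange pointOk 22 80298 9 = true := by decide +kernel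
theorem p5u397 : ∀ k, 76725 ≤ k → k < 80307 → pointOk (k * 22) = true := between_extend pointOk 22 76725 80298 9 (p5u396) p5r397

theorem p5r398 : allRange pointOk 22 80307 9 = true := by decide +kernel
theorem p5u398 : ∀ k, 76725 ≤ k → k < 80316 → pointOk (k * 22) = true := between_extend pointOk 22 76725 80307 9 (p5u397) p5r398

theorem p5r399 : allRange pointOk 22 80316 9 = true := by decide +kernel
theorem p5u399 : ∀ k, 76725 ≤ k → k < 80325 → pointOk (k * 22) = true := between_extend pointOk 22 76725 80316 9 (p5u398) p5r399

theorem p5r400 : allRange pointOk 22 80325 9 = true := by decide +kernel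
theorem p5u400 : ∀ k, 76725 ≤ k → k < 80334 → pointOk (k * 22) = true := between_extend pointOk 22 76725 80325 9 (p5u399) p5r400

theorem p5r401 : allRange pointOk 22 80334 9 = true := by decide +kernel
theorem p5u401 : ∀ k, 76725 ≤ k → k < 80343 → pointOk (k * 22) = true := between_extend pointOk 22 76725 80334 9 (p5u400) p5r401

theorem p5r402 : allRange pointOk 22 80343 9 = true := by decide +kernel
theorem p5u402 : ∀ k, 76725 ≤ k → k < 80352 → pointOk (k * 22) = true := between_extend pointOk 22 76725 80343 9 (p5u401) p5r402

theorem p5r403 : allRange pointOk 22 80352 9 = true := by decide +kernel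
theorem p5u403 : ∀ k, 76725 ≤ k → k < 80361 → pointOk (k * 22) = true := between_extend pointOk 22 76725 80352 9 (p5u402) p5r403

theorem p5r404 : allRange pointOk 22 80361 9 = true := by decide +kernel
theorem p5u404 : ∀ k, 76725 ≤ k → k < 80370 → pointOk (k * 22) = true := between_extend pointOk 22 76725 80361 9 (p5u403) p5r404

theorem p5r405 : allRange pointOk 22 80370 9 = true := by decide +kernel
theorem p5u405 : ∀ k, 76725 ≤ k → k < 80379 → pointOk (k * 22) = true := between_extend pointOk 22 76725 80370 9 (p5u404) p5r405

theorem p5r406 : allRange pointOk 22 80379 9 = true := by decide +kernel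
theorem p5u406 : ∀ k, 76725 ≤ k → k < 80388 → pointOk (k * 22) = true := between_extend pointOk 22 76725 80379 9 (p5u405) p5r406

theorem p5r407 : allRange pointOk 22 80388 9 = true := by decide +kernel
theorem p5u407 : ∀ k, 76725 ≤ k → k < 80397 → pointOk (k * 22) = true := between_extend pointOk 22 76725 80388 9 (p5u406) p5r407

theorem p5r408 : allRange pointOk 22 80397 9 = true := by decide +kernel
theorem p5u408 : ∀ k, 76725 ≤ k → k < 80406 → pointOk (k * 22) = true := between_extend pointOk 22 76725 80397 9 (p5u407) p5r408

theorem p5r409 : allRange pointOk 22 80406 9 = true := by decide +kernel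
theorem p5u409 : ∀ k, 76725 ≤ k → k < 80415 → pointOk (k * 22) = true := between_extend pointOk 22 76725 80406 9 (p5u408) p5r409

theorem p5r410 : allRange pointOk 22 80415 9 = true := by decide +kernel
theorem p5u410 : ∀ k, 76725 ≤ k → k < 80424 → pointOk (k * 22) = true := between_extend pointOk 22 76725 80415 9 (p5u409) p5r410

theorem p5r411 : allRange pointOk 22 80424 9 = true := by decide +kernel
theorem p5u411 : ∀ k, 76725 ≤ k → k < 80433 → pointOk (k * 22) = true := between_extend pointOk 22 76725 80424 9 (p5u410) p5r411

theorem p5r412 : allRange pointOk 22 80433 9 = true := by decide +kernel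
theorem p5u412 : ∀ k, 76725 ≤ k → k < 80442 → pointOk (k * 22) = true := between_extend pointOk 22 76725 80433 9 (p5u411) p5r412

theorem p5r413 : allRange pointOk 22 80442 9 = true := by decide +kernel
theorem p5u413 : ∀ k, 76725 ≤ k → k < 80451 → pointOk (k * 22) = true := between_extend pointOk 22 76725 80442 9 (p5u412) p5r413

theorem p5r414 : allRange pointOk 22 80451 9 = true := by decide +kernel
theorem p5u414 : ∀ k, 76725 ≤ k → k < 80460 → pointOk (k * 22) = true := between_extend pointOk 22 76725 80451 9 (p5u413) p5r414

theorem p5r415 : allRange pointOk 22 80460 9 = true := by decide +kernel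
theorem p5u415 : ∀ k, 76725 ≤ k → k < 80469 → pointOk (k * 22) = true := between_extend pointOk 22 76725 80460 9 (p5u414) p5r415

theorem p5r416 : allRange pointOk 22 80469 9 = true := by decide +kernel
theorem p5u416 : ∀ k, 76725 ≤ k → k < 80478 → pointOk (k * 22) = true := between_extend pointOk 22 76725 80469 9 (p5u415) p5r416

theorem p5r417 : allRange pointOk 22 80478 9 = true := by decide +kernel
theorem p5u417 : ∀ k, 76725 ≤ k → k < 80487 → pointOk (k * 22) = true := between_extend pointOk 22 76725 80478 9 (p5u416) p5r417

theorem p5r418 : allRange pointOk 22 80487 9 = true := by decide +kernel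
theorem p5u418 : ∀ k, 76725 ≤ k → k < 80496 → pointOk (k * 22) = true := between_extend pointOk 22 76725 80487 9 (p5u417) p5r418

theorem p5r419 : allRange pointOk 22 80496 9 = true := by decide +kernel
theorem p5u419 : ∀ k, 76725 ≤ k → k < 80505 → pointOk (k * 22) = true := between_extend pointOk 22 76725 80496 9 (p5u418) p5r419

theorem p5r420 : allRange pointOk 22 80505 9 = true := by decide +kernel
theorem p5u420 : ∀ k, 76725 ≤ k → k < 80514 → pointOk (k * 22) = true := between_extend pointOk 22 76725 80505 9 (p5u419) p5r420

theorem p5r421 : allRange pointOk 22 80514 9 = true := by decide +kernel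
theorem p5u421 : ∀ k, 76725 ≤ k → k < 80523 → pointOk (k * 22) = true := between_extend pointOk 22 76725 80514 9 (p5u420) p5r421

theorem p5r422 : allRange pointOk 22 80523 9 = true := by decide +kernel
theorem p5u422 : ∀ k, 76725 ≤ k → k < 80532 → pointOk (k * 22) = true := between_extend pointOk 22 76725 80523 9 (p5u421) p5r422

theorem p5r423 : allRange pointOk 22 80532 9 = true := by decide +kernel
theorem p5u423 : ∀ k, 76725 ≤ k → k < 80541 → pointOk (k * 22) = true := between_extend pointOk 22 76725 80532 9 (p5u422) p5r423

theorem p5r424 : allRange pointOk 22 80541 9 = true := by decide +kernel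
theorem p5u424 : ∀ k, 76725 ≤ k → k < 80550 → pointOk (k * 22) = true := between_extend pointOk 22 76725 80541 9 (p5u423) p5r424

theorem p5r425 : allRange pointOk 22 80550 9 = true := by decide +kernel
theorem p5u425 : ∀ k, 76725 ≤ k → k < 80559 → pointOk (k * 22) = true := between_extend pointOk 22 76725 80550 9 (p5u424) p5r425

theorem p5r426 : allRange pointOk 22 80559 9 = true := by decide +kernel
theorem p5u426 : ∀ k, 76725 ≤ k → k < 80568 → pointOk (k * 22) = true := between_extend pointOk 22 76725 80559 9 (p5u425) p5r426

theorem p5r427 : allRange pointOk 22 80568 9 = true := by decide +kernel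
theorem p5u427 : ∀ k, 76725 ≤ k → k < 80577 → pointOk (k * 22) = true := between_extend pointOk 22 76725 80568 9 (p5u426) p5r427

theorem p5r428 : allRange pointOk 22 80577 9 = true := by decide +kernel
theorem p5u428 : ∀ k, 76725 ≤ k → k < 80586 → pointOk (k * 22) = true := between_extend pointOk 22 76725 80577 9 (p5u427) p5r428

theorem p5r429 : allRange pointOk 22 80586 9 = true := by decide +kernel
theorem p5u429 : ∀ k, 76725 ≤ k → k < 80595 → pointOk (k * 22) = true := between_extend pointOk 22 76725 80586 9 (p5u428) p5r429

theorem p5r430 : allRange pointOk 22 80595 9 = true := by decide +kernel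
theorem p5u430 : ∀ k, 76725 ≤ k → k < 80604 → pointOk (k * 22) = true := between_extend pointOk 22 76725 80595 9 (p5u429) p5r430

theorem p5r431 : allRange pointOk 22 80604 9 = true := by decide +kernel
theorem p5u431 : ∀ k, 76725 ≤ k → k < 80613 → pointOk (k * 22) = true := between_extend pointOk 22 76725 80604 9 (p5u430) p5r431

theorem p5r432 : allRange pointOk 22 80613 9 = true := by decide +kernel
theorem p5u432 : ∀ k, 76725 ≤ k → k < 80622 → pointOk (k * 22) = true := between_extend pointOk 22 76725 80613 9 (p5u431) p5r432

theorem p5r433 : allRange pointOk 22 80622 9 = true := by decide +kernel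
theorem p5u433 : ∀ k, 76725 ≤ k → k < 80631 → pointOk (k * 22) = true := between_extend pointOk 22 76725 80622 9 (p5u432) p5r433

theorem p5r434 : allRange pointOk 22 80631 9 = true := by decide +kernel
theorem p5u434 : ∀ k, 76725 ≤ k → k < 80640 → pointOk (k * 22) = true := between_extend pointOk 22 76725 80631 9 (p5u433) p5r434

theorem p5r435 : allRange pointOk 22 80640 9 = true := by decide +kernel
theorem p5u435 : ∀ k, 76725 ≤ k → k < 80649 → pointOk (k * 22) = true := between_extend pointOk 22 76725 80640 9 (p5u434) p5r435

theorem p5r436 : allRange pointOk 22 80649 9 = true := by decide +kernel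
theorem p5u436 : ∀ k, 76725 ≤ k → k < 80658 → pointOk (k * 22) = true := between_extend pointOk 22 76725 80649 9 (p5u435) p5r436

theorem p5r437 : allRange pointOk 22 80658 9 = true := by decide +kernel
theorem p5u437 : ∀ k, 76725 ≤ k → k < 80667 → pointOk (k * 22) = true := between_extend pointOk 22 76725 80658 9 (p5u436) p5r437

theorem p5r438 : allRange pointOk 22 80667 9 = true := by decide +kernel
theorem p5u438 : ∀ k, 76725 ≤ k → k < 80676 → pointOk (k * 22) = true := between_extend pointOk 22 76725 80667 9 (p5u437) p5r438

theorem p5r439 : allRange pointOk 22 80676 9 = true := by decide +kernel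
theorem p5u439 : ∀ k, 76725 ≤ k → k < 80685 → pointOk (k * 22) = true := between_extend pointOk 22 76725 80676 9 (p5u438) p5r439

theorem p5r440 : allRange pointOk 22 80685 9 = true := by decide +kernel
theorem p5u440 : ∀ k, 76725 ≤ k → k < 80694 → pointOk (k * 22) = true := between_extend pointOk 22 76725 80685 9 (p5u439) p5r440

theorem p5r441 : allRange pointOk 22 80694 9 = true := by decide +kernel
theorem p5u441 : ∀ k, 76725 ≤ k → k < 80703 → pointOk (k * 22) = true := between_extend pointOk 22 76725 80694 9 (p5u440) p5r441

theorem p5r442 : allRange pointOk 22 80703 9 = true := by decide +kernel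
theorem p5u442 : ∀ k, 76725 ≤ k → k < 80712 → pointOk (k * 22) = true := between_extend pointOk 22 76725 80703 9 (p5u441) p5r442

theorem p5r443 : allRange pointOk 22 80712 9 = true := by decide +kernel
theorem p5u443 : ∀ k, 76725 ≤ k → k < 80721 → pointOk (k * 22) = true := between_extend pointOk 22 76725 80712 9 (p5u442) p5r443

theorem p5r444 : allRange pointOk 22 80721 9 = true := by decide +kernel
theorem p5u444 : ∀ k, 76725 ≤ k → k < 80730 → pointOk (k * 22) = true := between_extend pointOk 22 76725 80721 9 (p5u443) p5r444

theorem p5r445 : allRange pointOk 22 80730 9 = true := by decide +kernel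
theorem p5u445 : ∀ k, 76725 ≤ k → k < 80739 → pointOk (k * 22) = true := between_extend pointOk 22 76725 80730 9 (p5u444) p5r445

theorem p5r446 : allRange pointOk 22 80739 9 = true := by decide +kernel
theorem p5u446 : ∀ k, 76725 ≤ k → k < 80748 → pointOk (k * 22) = true := between_extend pointOk 22 76725 80739 9 (p5u445) p5r446

theorem p5r447 : allRange pointOk 22 80748 9 = true := by decide +kernel
theorem p5u447 : ∀ k, 76725 ≤ k → k < 80757 → pointOk (k * 22) = true := between_extend pointOk 22 76725 80748 9 (p5u446) p5r447

theorem p5r448 : allRange pointOk 22 80757 9 = true := by decide +kernel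
theorem p5u448 : ∀ k, 76725 ≤ k → k < 80766 → pointOk (k * 22) = true := between_extend pointOk 22 76725 80757 9 (p5u447) p5r448

theorem p5r449 : allRange pointOk 22 80766 9 = true := by decide +kernel
theorem p5u449 : ∀ k, 76725 ≤ k → k < 80775 → pointOk (k * 22) = true := between_extend pointOk 22 76725 80766 9 (p5u448) p5r449

theorem p5r450 : allRange pointOk 22 80775 9 = true := by decide +kernel
theorem p5u450 : ∀ k, 76725 ≤ k → k < 80784 → pointOk (k * 22) = true := between_extend pointOk 22 76725 80775 9 (p5u449) p5r450

theorem p5r451 : allRange pointOk 22 80784 9 = true := by decide +kernel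
theorem p5u451 : ∀ k, 76725 ≤ k → k < 80793 → pointOk (k * 22) = true := between_extend pointOk 22 76725 80784 9 (p5u450) p5r451

theorem p5r452 : allRange pointOk 22 80793 9 = true := by decide +kernel
theorem p5u452 : ∀ k, 76725 ≤ k → k < 80802 → pointOk (k * 22) = true := between_extend pointOk 22 76725 80793 9 (p5u451) p5r452

theorem p5r453 : allRange pointOk 22 80802 9 = true := by decide +kernel
theorem p5u453 : ∀ k, 76725 ≤ k → k < 80811 → pointOk (k * 22) = true := between_extend pointOk 22 76725 80802 9 (p5u452) p5r453

theorem p5r454 : allRange pointOk 22 80811 9 = true := by decide +kernel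
theorem p5u454 : ∀ k, 76725 ≤ k → k < 80820 → pointOk (k * 22) = true := between_extend pointOk 22 76725 80811 9 (p5u453) p5r454

theorem p5r455 : allRange pointOk 22 80820 9 = true := by decide +kernel
theorem p5u455 : ∀ k, 76725 ≤ k → k < 80829 → pointOk (k * 22) = true := between_extend pointOk 22 76725 80820 9 (p5u454) p5r455

theorem p5r456 : allRange pointOk 22 80829 9 = true := by decide +kernel
theorem p5u456 : ∀ k, 76725 ≤ k → k < 80838 → pointOk (k * 22) = true := between_extend pointOk 22 76725 80829 9 (p5u455) p5r456

theorem p5r457 : allRange pointOk 22 80838 9 = true := by decide +kernel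
theorem p5u457 : ∀ k, 76725 ≤ k → k < 80847 → pointOk (k * 22) = true := between_extend pointOk 22 76725 80838 9 (p5u456) p5r457

theorem p5r458 : allRange pointOk 22 80847 9 = true := by decide +kernel
theorem p5u458 : ∀ k, 76725 ≤ k → k < 80856 → pointOk (k * 22) = true := between_extend pointOk 22 76725 80847 9 (p5u457) p5r458

theorem p5r459 : allRange pointOk 22 80856 9 = true := by decide +kernel
theorem p5u459 : ∀ k, 76725 ≤ k → k < 80865 → pointOk (k * 22) = true := between_extend pointOk 22 76725 80856 9 (p5u458) p5r459

theorem p5r460 : allRange pointOk 22 80865 9 = true := by decide +kernel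
theorem p5u460 : ∀ k, 76725 ≤ k → k < 80874 → pointOk (k * 22) = true := between_extend pointOk 22 76725 80865 9 (p5u459) p5r460

theorem p5r461 : allRange pointOk 22 80874 9 = true := by decide +kernel
theorem p5u461 : ∀ k, 76725 ≤ k → k < 80883 → pointOk (k * 22) = true := between_extend pointOk 22 76725 80874 9 (p5u460) p5r461

theorem p5r462 : allRange pointOk 22 80883 9 = true := by decide +kernel
theorem p5u462 : ∀ k, 76725 ≤ k → k < 80892 → pointOk (k * 22) = true := between_extend pointOk 22 76725 80883 9 (p5u461) p5r462

theorem p5r463 : allRange pointOk 22 80892 9 = true := by decide +kernel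
theorem p5u463 : ∀ k, 76725 ≤ k → k < 80901 → pointOk (k * 22) = true := between_extend pointOk 22 76725 80892 9 (p5u462) p5r463

theorem p5r464 : allRange pointOk 22 80901 9 = true := by decide +kernel
theorem p5u464 : ∀ k, 76725 ≤ k → k < 80910 → pointOk (k * 22) = true := between_extend pointOk 22 76725 80901 9 (p5u463) p5r464

theorem p5r465 : allRange pointOk 22 80910 9 = true := by decide +kernel
theorem p5u465 : ∀ k, 76725 ≤ k → k < 80919 → pointOk (k * 22) = true := between_extend pointOk 22 76725 80910 9 (p5u464) p5r465

theorem p5r466 : allRange pointOk 22 80919 9 = true := by decide +kernel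
theorem p5u466 : ∀ k, 76725 ≤ k → k < 80928 → pointOk (k * 22) = true := between_extend pointOk 22 76725 80919 9 (p5u465) p5r466

theorem p5r467 : allRange pointOk 22 80928 9 = true := by decide +kernel
theorem p5u467 : ∀ k, 76725 ≤ k → k < 80937 → pointOk (k * 22) = true := between_extend pointOk 22 76725 80928 9 (p5u466) p5r467

theorem p5r468 : allRange pointOk 22 80937 9 = true := by decide +kernel
theorem p5u468 : ∀ k, 76725 ≤ k → k < 80946 → pointOk (k * 22) = true := between_extend pointOk 22 76725 80937 9 (p5u467) p5r468

theorem p5r469 : allRange pointOk 22 80946 9 = true := by decide +kernel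
theorem p5u469 : ∀ k, 76725 ≤ k → k < 80955 → pointOk (k * 22) = true := between_extend pointOk 22 76725 80946 9 (p5u468) p5r469

theorem p5r470 : allRange pointOk 22 80955 9 = true := by decide +kernel
theorem p5u470 : ∀ k, 76725 ≤ k → k < 80964 → pointOk (k * 22) = true := between_extend pointOk 22 76725 80955 9 (p5u469) p5r470

theorem p5r471 : allRange pointOk 22 80964 9 = true := by decide +kernel
theorem p5u471 : ∀ k, 76725 ≤ k → k < 80973 → pointOk (k * 22) = true := between_extend pointOk 22 76725 80964 9 (p5u470) p5r471

theorem p5r472 : allRange pointOk 22 80973 9 = true := by decide +kernel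
theorem p5u472 : ∀ k, 76725 ≤ k → k < 80982 → pointOk (k * 22) = true := between_extend pointOk 22 76725 80973 9 (p5u471) p5r472

theorem p5r473 : allRange pointOk 22 80982 9 = true := by decide +kernel
theorem p5u473 : ∀ k, 76725 ≤ k → k < 80991 → pointOk (k * 22) = true := between_extend pointOk 22 76725 80982 9 (p5u472) p5r473

theorem p5r474 : allRange pointOk 22 80991 9 = true := by decide +kernel
theorem p5u474 : ∀ k, 76725 ≤ k → k < 81000 → pointOk (k * 22) = true := between_extend pointOk 22 76725 80991 9 (p5u473) p5r474

theorem p5r475 : allRange pointOk 22 81000 9 = true := by decide +kernel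
theorem p5u475 : ∀ k, 76725 ≤ k → k < 81009 → pointOk (k * 22) = true := between_extend pointOk 22 76725 81000 9 (p5u474) p5r475

theorem p5r476 : allRange pointOk 22 81009 9 = true := by decide +kernel
theorem p5u476 : ∀ k, 76725 ≤ k → k < 81018 → pointOk (k * 22) = true := between_extend pointOk 22 76725 81009 9 (p5u475) p5r476

theorem p5r477 : allRange pointOk 22 81018 9 = true := by decide +kernel
theorem p5u477 : ∀ k, 76725 ≤ k → k < 81027 → pointOk (k * 22) = true := between_extend pointOk 22 76725 81018 9 (p5u476) p5r477

theorem p5r478 : allRange pointOk 22 81027 9 = true := by decide +kernel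
theorem p5u478 : ∀ k, 76725 ≤ k → k < 81036 → pointOk (k * 22) = true := between_extend pointOk 22 76725 81027 9 (p5u477) p5r478

theorem p5r479 : allRange pointOk 22 81036 9 = true := by decide +kernel
theorem p5u479 : ∀ k, 76725 ≤ k → k < 81045 → pointOk (k * 22) = true := between_extend pointOk 22 76725 81036 9 (p5u478) p5r479

theorem p5r480 : allRange pointOk 22 81045 9 = true := by decide +kernel
theorem p5u480 : ∀ k, 76725 ≤ k → k < 81054 → pointOk (k * 22) = true := between_extend pointOk 22 76725 81045 9 (p5u479) p5r480

theorem p5r481 : allRange pointOk 22 81054 9 = true := by decide +kernel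
theorem p5u481 : ∀ k, 76725 ≤ k → k < 81063 → pointOk (k * 22) = true := between_extend pointOk 22 76725 81054 9 (p5u480) p5r481

theorem p5r482 : allRange pointOk 22 81063 9 = true := by decide +kernel
theorem p5u482 : ∀ k, 76725 ≤ k → k < 81072 → pointOk (k * 22) = true := between_extend pointOk 22 76725 81063 9 (p5u481) p5r482

theorem p5r483 : allRange pointOk 22 81072 9 = true := by decide +kernel
theorem p5u483 : ∀ k, 76725 ≤ k → k < 81081 → pointOk (k * 22) = true := between_extend pointOk 22 76725 81072 9 (p5u482) p5r483

theorem p5r484 : allRange pointOk 22 81081 9 = true := by decide +kernel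
theorem p5u484 : ∀ k, 76725 ≤ k → k < 81090 → pointOk (k * 22) = true := between_extend pointOk 22 76725 81081 9 (p5u483) p5r484

theorem p5r485 : allRange pointOk 22 81090 9 = true := by decide +kernel
theorem p5u485 : ∀ k, 76725 ≤ k → k < 81099 → pointOk (k * 22) = true := between_extend pointOk 22 76725 81090 9 (p5u484) p5r485

theorem p5r486 : allRange pointOk 22 81099 9 = true := by decide +kernel
theorem p5u486 : ∀ k, 76725 ≤ k → k < 81108 → pointOk (k * 22) = true := between_extend pointOk 22 76725 81099 9 (p5u485) p5r486

theorem p5r487 : allRange pointOk 22 81108 9 = true := by decide +kernel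
theorem p5u487 : ∀ k, 76725 ≤ k → k < 81117 → pointOk (k * 22) = true := between_extend pointOk 22 76725 81108 9 (p5u486) p5r487

theorem p5r488 : allRange pointOk 22 81117 9 = true := by decide +kernel
theorem p5u488 : ∀ k, 76725 ≤ k → k < 81126 → pointOk (k * 22) = true := between_extend pointOk 22 76725 81117 9 (p5u487) p5r488

theorem p5r489 : allRange pointOk 22 81126 9 = true := by decide +kernel
theorem p5u489 : ∀ k, 76725 ≤ k → k < 81135 → pointOk (k * 22) = true := between_extend pointOk 22 76725 81126 9 (p5u488) p5r489

theorem p5r490 : allRange pointOk 22 81135 9 = true := by decide +kernel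
theorem p5u490 : ∀ k, 76725 ≤ k → k < 81144 → pointOk (k * 22) = true := between_extend pointOk 22 76725 81135 9 (p5u489) p5r490

theorem p5r491 : allRange pointOk 22 81144 9 = true := by decide +kernel
theorem p5u491 : ∀ k, 76725 ≤ k → k < 81153 → pointOk (k * 22) = true := between_extend pointOk 22 76725 81144 9 (p5u490) p5r491

theorem p5r492 : allRange pointOk 22 81153 9 = true := by decide +kernel
theorem p5u492 : ∀ k, 76725 ≤ k → k < 81162 → pointOk (k * 22) = true := between_extend pointOk 22 76725 81153 9 (p5u491) p5r492

theorem p5r493 : allRange pointOk 22 81162 9 = true := by decide +kernel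
theorem p5u493 : ∀ k, 76725 ≤ k → k < 81171 → pointOk (k * 22) = true := between_extend pointOk 22 76725 81162 9 (p5u492) p5r493

theorem p5r494 : allRange pointOk 22 81171 9 = true := by decide +kernel
theorem p5u494 : ∀ k, 76725 ≤ k → k < 81180 → pointOk (k * 22) = true := between_extend pointOk 22 76725 81171 9 (p5u493) p5r494

theorem p5r495 : allRange pointOk 22 81180 9 = true := by decide +kernel
theorem p5u495 : ∀ k, 76725 ≤ k → k < 81189 → pointOk (k * 22) = true := between_extend pointOk 22 76725 81180 9 (p5u494) p5r495

theorem p5r496 : allRange pointOk 22 81189 9 = true := by decide +kernel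
theorem p5u496 : ∀ k, 76725 ≤ k → k < 81198 → pointOk (k * 22) = true := between_extend pointOk 22 76725 81189 9 (p5u495) p5r496

theorem p5r497 : allRange pointOk 22 81198 9 = true := by decide +kernel
theorem p5u497 : ∀ k, 76725 ≤ k → k < 81207 → pointOk (k * 22) = true := between_extend pointOk 22 76725 81198 9 (p5u496) p5r497

theorem p5r498 : allRange pointOk 22 81207 9 = true := by decide +kernel
theorem p5u498 : ∀ k, 76725 ≤ k → k < 81216 → pointOk (k * 22) = true := between_extend pointOk 22 76725 81207 9 (p5u497) p5r498

theorem p5r499 : allRange pointOk 22 81216 9 = true := by decide +kernel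
theorem p5u499 : ∀ k, 76725 ≤ k → k < 81225 → pointOk (k * 22) = true := between_extend pointOk 22 76725 81216 9 (p5u498) p5r499

theorem p5r500 : allRange pointOk 22 81225 9 = true := by decide +kernel
theorem p5u500 : ∀ k, 76725 ≤ k → k < 81234 → pointOk (k * 22) = true := between_extend pointOk 22 76725 81225 9 (p5u499) p5r500

theorem p5r501 : allRange pointOk 22 81234 9 = true := by decide +kernel
theorem p5u501 : ∀ k, 76725 ≤ k → k < 81243 → pointOk (k * 22) = true := between_extend pointOk 22 76725 81234 9 (p5u500) p5r501

theorem p5r502 : allRange pointOk 22 81243 9 = true := by decide +kernel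
theorem p5u502 : ∀ k, 76725 ≤ k → k < 81252 → pointOk (k * 22) = true := between_extend pointOk 22 76725 81243 9 (p5u501) p5r502

theorem p5r503 : allRange pointOk 22 81252 9 = true := by decide +kernel
theorem p5u503 : ∀ k, 76725 ≤ k → k < 81261 → pointOk (k * 22) = true := between_extend pointOk 22 76725 81252 9 (p5u502) p5r503

theorem p5r504 : allRange pointOk 22 81261 9 = true := by decide +kernel
theorem p5u504 : ∀ k, 76725 ≤ k → k < 81270 → pointOk (k * 22) = true := between_extend pointOk 22 76725 81261 9 (p5u503) p5r504

theorem p5r505 : allRange pointOk 22 81270 9 = true := by decide +kernel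
theorem p5u505 : ∀ k, 76725 ≤ k → k < 81279 → pointOk (k * 22) = true := between_extend pointOk 22 76725 81270 9 (p5u504) p5r505

theorem p5r506 : allRange pointOk 22 81279 9 = true := by decide +kernel
theorem p5u506 : ∀ k, 76725 ≤ k → k < 81288 → pointOk (k * 22) = true := between_extend pointOk 22 76725 81279 9 (p5u505) p5r506

theorem p5r507 : allRange pointOk 22 81288 9 = true := by decide +kernel
theorem p5u507 : ∀ k, 76725 ≤ k → k < 81297 → pointOk (k * 22) = true := between_extend pointOk 22 76725 81288 9 (p5u506) p5r507

theorem p5r508 : allRange pointOk 22 81297 9 = true := by decide +kernel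
theorem p5u508 : ∀ k, 76725 ≤ k → k < 81306 → pointOk (k * 22) = true := between_extend pointOk 22 76725 81297 9 (p5u507) p5r508

theorem p5r509 : allRange pointOk 22 81306 9 = true := by decide +kernel
theorem p5u509 : ∀ k, 76725 ≤ k → k < 81315 → pointOk (k * 22) = true := between_extend pointOk 22 76725 81306 9 (p5u508) p5r509

theorem p5r510 : allRange pointOk 22 81315 9 = true := by decide +kernel
theorem p5u510 : ∀ k, 76725 ≤ k → k < 81324 → pointOk (k * 22) = true := between_extend pointOk 22 76725 81315 9 (p5u509) p5r510

theorem p5r511 : allRange pointOk 22 81324 9 = true := by decide +kernel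
theorem p5u511 : ∀ k, 76725 ≤ k → k < 81333 → pointOk (k * 22) = true := between_extend pointOk 22 76725 81324 9 (p5u510) p5r511

theorem p5r512 : allRange pointOk 22 81333 9 = true := by decide +kernel
theorem p5u512 : ∀ k, 76725 ≤ k → k < 81342 → pointOk (k * 22) = true := between_extend pointOk 22 76725 81333 9 (p5u511) p5r512

theorem p5r513 : allRange pointOk 22 81342 9 = true := by decide +kernel
theorem p5u513 : ∀ k, 76725 ≤ k → k < 81351 → pointOk (k * 22) = true := between_extend pointOk 22 76725 81342 9 (p5u512) p5r513

theorem p5r514 : allRange pointOk 22 81351 9 = true := by decide +kernel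
theorem p5u514 : ∀ k, 76725 ≤ k → k < 81360 → pointOk (k * 22) = true := between_extend pointOk 22 76725 81351 9 (p5u513) p5r514

theorem p5r515 : allRange pointOk 22 81360 9 = true := by decide +kernel
theorem p5u515 : ∀ k, 76725 ≤ k → k < 81369 → pointOk (k * 22) = true := between_extend pointOk 22 76725 81360 9 (p5u514) p5r515

theorem p5r516 : allRange pointOk 22 81369 9 = true := by decide +kernel
theorem p5u516 : ∀ k, 76725 ≤ k → k < 81378 → pointOk (k * 22) = true := between_extend pointOk 22 76725 81369 9 (p5u515) p5r516

theorem p5r517 : allRange pointOk 22 81378 9 = true := by decide +kernel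
theorem p5u517 : ∀ k, 76725 ≤ k → k < 81387 → pointOk (k * 22) = true := between_extend pointOk 22 76725 81378 9 (p5u516) p5r517

theorem p5r518 : allRange pointOk 22 81387 9 = true := by decide +kernel
theorem p5u518 : ∀ k, 76725 ≤ k → k < 81396 → pointOk (k * 22) = true := between_extend pointOk 22 76725 81387 9 (p5u517) p5r518

theorem p5r519 : allRange pointOk 22 81396 9 = true := by decide +kernel
theorem p5u519 : ∀ k, 76725 ≤ k → k < 81405 → pointOk (k * 22) = true := between_extend pointOk 22 76725 81396 9 (p5u518) p5r519

theorem p5r520 : allRange pointOk 22 81405 9 = true := by decide +kernel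
theorem p5u520 : ∀ k, 76725 ≤ k → k < 81414 → pointOk (k * 22) = true := between_extend pointOk 22 76725 81405 9 (p5u519) p5r520

theorem p5r521 : allRange pointOk 22 81414 9 = true := by decide +kernel
theorem p5u521 : ∀ k, 76725 ≤ k → k < 81423 → pointOk (k * 22) = true := between_extend pointOk 22 76725 81414 9 (p5u520) p5r521

theorem p5r522 : allRange pointOk 22 81423 9 = true := by decide +kernel
theorem p5u522 : ∀ k, 76725 ≤ k → k < 81432 → pointOk (k * 22) = true := between_extend pointOk 22 76725 81423 9 (p5u521) p5r522

theorem p5r523 : allRange pointOk 22 81432 9 = true := by decide +kernel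
theorem p5u523 : ∀ k, 76725 ≤ k → k < 81441 → pointOk (k * 22) = true := between_extend pointOk 22 76725 81432 9 (p5u522) p5r523

theorem p5r524 : allRange pointOk 22 81441 9 = true := by decide +kernel
theorem p5u524 : ∀ k, 76725 ≤ k → k < 81450 → pointOk (k * 22) = true := between_extend pointOk 22 76725 81441 9 (p5u523) p5r524

theorem p5r525 : allRange pointOk 22 81450 9 = true := by decide +kernel
theorem p5u525 : ∀ k, 76725 ≤ k → k < 81459 → pointOk (k * 22) = true := between_extend pointOk 22 76725 81450 9 (p5u524) p5r525

theorem p5r526 : allRange pointOk 22 81459 9 = true := by decide +kernel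
theorem p5u526 : ∀ k, 76725 ≤ k → k < 81468 → pointOk (k * 22) = true := between_extend pointOk 22 76725 81459 9 (p5u525) p5r526

theorem p5r527 : allRange pointOk 22 81468 9 = true := by decide +kernel
theorem p5u527 : ∀ k, 76725 ≤ k → k < 81477 → pointOk (k * 22) = true := between_extend pointOk 22 76725 81468 9 (p5u526) p5r527

theorem p5r528 : allRange pointOk 22 81477 9 = true := by decide +kernel
theorem p5u528 : ∀ k, 76725 ≤ k → k < 81486 → pointOk (k * 22) = true := between_extend pointOk 22 76725 81477 9 (p5u527) p5r528

theorem p5r529 : allRange pointOk 22 81486 9 = true := by decide +kernel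
theorem p5u529 : ∀ k, 76725 ≤ k → k < 81495 → pointOk (k * 22) = true := between_extend pointOk 22 76725 81486 9 (p5u528) p5r529

theorem p5r530 : allRange pointOk 22 81495 9 = true := by decide +kernel
theorem p5u530 : ∀ k, 76725 ≤ k → k < 81504 → pointOk (k * 22) = true := between_extend pointOk 22 76725 81495 9 (p5u529) p5r530

theorem p5r531 : allRange pointOk 22 81504 9 = true := by decide +kernel
theorem p5u531 : ∀ k, 76725 ≤ k → k < 81513 → pointOk (k * 22) = true := between_extend pointOk 22 76725 81504 9 (p5u530) p5r531

theorem p5r532 : allRange pointOk 22 81513 9 = true := by decide +kernel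
theorem p5u532 : ∀ k, 76725 ≤ k → k < 81522 → pointOk (k * 22) = true := between_extend pointOk 22 76725 81513 9 (p5u531) p5r532

theorem p5r533 : allRange pointOk 22 81522 9 = true := by decide +kernel
theorem p5u533 : ∀ k, 76725 ≤ k → k < 81531 → pointOk (k * 22) = true := between_extend pointOk 22 76725 81522 9 (p5u532) p5r533

theorem p5r534 : allRange pointOk 22 81531 9 = true := by decide +kernel
theorem p5u534 : ∀ k, 76725 ≤ k → k < 81540 → pointOk (k * 22) = true := between_extend pointOk 22 76725 81531 9 (p5u533) p5r534

theorem p5r535 : allRange pointOk 22 81540 9 = true := by decide +kernel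
theorem p5u535 : ∀ k, 76725 ≤ k → k < 81549 → pointOk (k * 22) = true := between_extend pointOk 22 76725 81540 9 (p5u534) p5r535

theorem p5r536 : allRange pointOk 22 81549 9 = true := by decide +kernel
theorem p5u536 : ∀ k, 76725 ≤ k → k < 81558 → pointOk (k * 22) = true := between_extend pointOk 22 76725 81549 9 (p5u535) p5r536

theorem p5r537 : allRange pointOk 22 81558 9 = true := by decide +kernel
theorem p5u537 : ∀ k, 76725 ≤ k → k < 81567 → pointOk (k * 22) = true := between_extend pointOk 22 76725 81558 9 (p5u536) p5r537

theorem p5r538 : allRange pointOk 22 81567 9 = true := by decide +kernel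
theorem p5u538 : ∀ k, 76725 ≤ k → k < 81576 → pointOk (k * 22) = true := between_extend pointOk 22 76725 81567 9 (p5u537) p5r538

theorem p5r539 : allRange pointOk 22 81576 9 = true := by decide +kernel
theorem p5u539 : ∀ k, 76725 ≤ k → k < 81585 → pointOk (k * 22) = true := between_extend pointOk 22 76725 81576 9 (p5u538) p5r539

theorem p5r540 : allRange pointOk 22 81585 9 = true := by decide +kernel
theorem p5u540 : ∀ k, 76725 ≤ k → k < 81594 → pointOk (k * 22) = true := between_extend pointOk 22 76725 81585 9 (p5u539) p5r540

theorem p5r541 : allRange pointOk 22 81594 9 = true := by decide +kernel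
theorem p5u541 : ∀ k, 76725 ≤ k → k < 81603 → pointOk (k * 22) = true := between_extend pointOk 22 76725 81594 9 (p5u540) p5r541

theorem p5r542 : allRange pointOk 22 81603 9 = true := by decide +kernel
theorem p5u542 : ∀ k, 76725 ≤ k → k < 81612 → pointOk (k * 22) = true := between_extend pointOk 22 76725 81603 9 (p5u541) p5r542

theorem p5r543 : allRange pointOk 22 81612 9 = true := by decide +kernel
theorem p5u543 : ∀ k, 76725 ≤ k → k < 81621 → pointOk (k * 22) = true := between_extend pointOk 22 76725 81612 9 (p5u542) p5r543

theorem p5r544 : allRange pointOk 22 81621 9 = true := by decide +kernel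
theorem p5u544 : ∀ k, 76725 ≤ k → k < 81630 → pointOk (k * 22) = true := between_extend pointOk 22 76725 81621 9 (p5u543) p5r544

theorem p5r545 : allRange pointOk 22 81630 9 = true := by decide +kernel
theorem p5u545 : ∀ k, 76725 ≤ k → k < 81639 → pointOk (k * 22) = true := between_extend pointOk 22 76725 81630 9 (p5u544) p5r545

theorem p5r546 : allRange pointOk 22 81639 9 = true := by decide +kernel
theorem p5u546 : ∀ k, 76725 ≤ k → k < 81648 → pointOk (k * 22) = true := between_extend pointOk 22 76725 81639 9 (p5u545) p5r546

theorem p5r547 : allRange pointOk 22 81648 9 = true := by decide +kernel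
theorem p5u547 : ∀ k, 76725 ≤ k → k < 81657 → pointOk (k * 22) = true := between_extend pointOk 22 76725 81648 9 (p5u546) p5r547

theorem p5r548 : allRange pointOk 22 81657 9 = true := by decide +kernel
theorem p5u548 : ∀ k, 76725 ≤ k → k < 81666 → pointOk (k * 22) = true := between_extend pointOk 22 76725 81657 9 (p5u547) p5r548

theorem p5r549 : allRange pointOk 22 81666 9 = true := by decide +kernel
theorem p5u549 : ∀ k, 76725 ≤ k → k < 81675 → pointOk (k * 22) = true := between_extend pointOk 22 76725 81666 9 (p5u548) p5r549

theorem p5r550 : allRange pointOk 22 81675 9 = true := by decide +kernel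
theorem p5u550 : ∀ k, 76725 ≤ k → k < 81684 → pointOk (k * 22) = true := between_extend pointOk 22 76725 81675 9 (p5u549) p5r550

theorem p5r551 : allRange pointOk 22 81684 9 = true := by decide +kernel
theorem p5u551 : ∀ k, 76725 ≤ k → k < 81693 → pointOk (k * 22) = true := between_extend pointOk 22 76725 81684 9 (p5u550) p5r551

theorem p5r552 : allRange pointOk 22 81693 9 = true := by decide +kernel
theorem p5u552 : ∀ k, 76725 ≤ k → k < 81702 → pointOk (k * 22) = true := between_extend pointOk 22 76725 81693 9 (p5u551) p5r552

theorem p5r553 : allRange pointOk 22 81702 9 = true := by decide +kernel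
theorem p5u553 : ∀ k, 76725 ≤ k → k < 81711 → pointOk (k * 22) = true := between_extend pointOk 22 76725 81702 9 (p5u552) p5r553

theorem p5r554 : allRange pointOk 22 81711 9 = true := by decide +kernel
theorem p5u554 : ∀ k, 76725 ≤ k → k < 81720 → pointOk (k * 22) = true := between_extend pointOk 22 76725 81711 9 (p5u553) p5r554

theorem p5r555 : allRange pointOk 22 81720 9 = true := by decide +kernel
theorem p5u555 : ∀ k, 76725 ≤ k → k < 81729 → pointOk (k * 22) = true := between_extend pointOk 22 76725 81720 9 (p5u554) p5r555

theorem p5r556 : allRange pointOk 22 81729 9 = true := by decide +kernel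
theorem p5u556 : ∀ k, 76725 ≤ k → k < 81738 → pointOk (k * 22) = true := between_extend pointOk 22 76725 81729 9 (p5u555) p5r556

theorem p5r557 : allRange pointOk 22 81738 9 = true := by decide +kernel
theorem p5u557 : ∀ k, 76725 ≤ k → k < 81747 → pointOk (k * 22) = true := between_extend pointOk 22 76725 81738 9 (p5u556) p5r557

theorem p5r558 : allRange pointOk 22 81747 9 = true := by decide +kernel
theorem p5u558 : ∀ k, 76725 ≤ k → k < 81756 → pointOk (k * 22) = true := between_extend pointOk 22 76725 81747 9 (p5u557) p5r558

theorem p5r559 : allRange pointOk 22 81756 9 = true := by decide +kernel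
theorem p5u559 : ∀ k, 76725 ≤ k → k < 81765 → pointOk (k * 22) = true := between_extend pointOk 22 76725 81756 9 (p5u558) p5r559

theorem p5r560 : allRange pointOk 22 81765 9 = true := by decide +kernel
theorem p5u560 : ∀ k, 76725 ≤ k → k < 81774 → pointOk (k * 22) = true := between_extend pointOk 22 76725 81765 9 (p5u559) p5r560

theorem p5r561 : allRange pointOk 22 81774 9 = true := by decide +kernel
theorem p5u561 : ∀ k, 76725 ≤ k → k < 81783 → pointOk (k * 22) = true := between_extend pointOk 22 76725 81774 9 (p5u560) p5r561

theorem p5r562 : allRange pointOk 22 81783 9 = true := by decide +kernel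
theorem p5u562 : ∀ k, 76725 ≤ k → k < 81792 → pointOk (k * 22) = true := between_extend pointOk 22 76725 81783 9 (p5u561) p5r562

theorem p5r563 : allRange pointOk 22 81792 9 = true := by decide +kernel
theorem p5u563 : ∀ k, 76725 ≤ k → k < 81801 → pointOk (k * 22) = true := between_extend pointOk 22 76725 81792 9 (p5u562) p5r563

theorem p5r564 : allRange pointOk 22 81801 9 = true := by decide +kernel
theorem p5u564 : ∀ k, 76725 ≤ k → k < 81810 → pointOk (k * 22) = true := between_extend pointOk 22 76725 81801 9 (p5u563) p5r564

theorem p5r565 : allRange pointOk 22 81810 9 = true := by decide +kernel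
theorem p5u565 : ∀ k, 76725 ≤ k → k < 81819 → pointOk (k * 22) = true := between_extend pointOk 22 76725 81810 9 (p5u564) p5r565

theorem p5r566 : allRange pointOk 22 81819 9 = true := by decide +kernel
theorem p5u566 : ∀ k, 76725 ≤ k → k < 81828 → pointOk (k * 22) = true := between_extend pointOk 22 76725 81819 9 (p5u565) p5r566

theorem p5r567 : allRange pointOk 22 81828 9 = true := by decide +kernel
theorem p5u567 : ∀ k, 76725 ≤ k → k < 81837 → pointOk (k * 22) = true := between_extend pointOk 22 76725 81828 9 (p5u566) p5r567

theorem p5r568 : allRange pointOk 22 81837 9 = true := by decide +kernel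
theorem p5u568 : ∀ k, 76725 ≤ k → k < 81846 → pointOk (k * 22) = true := between_extend pointOk 22 76725 81837 9 (p5u567) p5r568

theorem p5r569 : allRange pointOk 22 81846 9 = true := by decide +kernel
theorem p5u569 : ∀ k, 76725 ≤ k → k < 81855 → pointOk (k * 22) = true := between_extend pointOk 22 76725 81846 9 (p5u568) p5r569

theorem p5r570 : allRange pointOk 22 81855 9 = true := by decide +kernel
theorem p5u570 : ∀ k, 76725 ≤ k → k < 81864 → pointOk (k * 22) = true := between_extend pointOk 22 76725 81855 9 (p5u569) p5r570

theorem p5r571 : allRange pointOk 22 81864 9 = true := by decide +kernel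
theorem p5u571 : ∀ k, 76725 ≤ k → k < 81873 → pointOk (k * 22) = true := between_extend pointOk 22 76725 81864 9 (p5u570) p5r571

theorem p5r572 : allRange pointOk 22 81873 9 = true := by decide +kernel
theorem p5u572 : ∀ k, 76725 ≤ k → k < 81882 → pointOk (k * 22) = true := between_extend pointOk 22 76725 81873 9 (p5u571) p5r572

theorem p5r573 : allRange pointOk 22 81882 9 = true := by decide +kernel
theorem p5u573 : ∀ k, 76725 ≤ k → k < 81891 → pointOk (k * 22) = true := between_extend pointOk 22 76725 81882 9 (p5u572) p5r573

theorem p5r574 : allRange pointOk 22 81891 9 = true := by decide +kernel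
theorem p5u574 : ∀ k, 76725 ≤ k → k < 81900 → pointOk (k * 22) = true := between_extend pointOk 22 76725 81891 9 (p5u573) p5r574

theorem p5r575 : allRange pointOk 22 81900 9 = true := by decide +kernel
theorem p5u575 : ∀ k, 76725 ≤ k → k < 81909 → pointOk (k * 22) = true := between_extend pointOk 22 76725 81900 9 (p5u574) p5r575

theorem p5r576 : allRange pointOk 22 81909 9 = true := by decide +kernel
theorem p5u576 : ∀ k, 76725 ≤ k → k < 81918 → pointOk (k * 22) = true := between_extend pointOk 22 76725 81909 9 (p5u575) p5r576

theorem p5r577 : allRange pointOk 22 81918 9 = true := by decide +kernel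
theorem p5u577 : ∀ k, 76725 ≤ k → k < 81927 → pointOk (k * 22) = true := between_extend pointOk 22 76725 81918 9 (p5u576) p5r577

theorem p5r578 : allRange pointOk 22 81927 9 = true := by decide +kernel
theorem p5u578 : ∀ k, 76725 ≤ k → k < 81936 → pointOk (k * 22) = true := between_extend pointOk 22 76725 81927 9 (p5u577) p5r578

theorem p5r579 : allRange pointOk 22 81936 9 = true := by decide +kernel
theorem p5u579 : ∀ k, 76725 ≤ k → k < 81945 → pointOk (k * 22) = true := between_extend pointOk 22 76725 81936 9 (p5u578) p5r579

theorem p5r580 : allRange pointOk 22 81945 9 = true := by decide +kernel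
theorem p5u580 : ∀ k, 76725 ≤ k → k < 81954 → pointOk (k * 22) = true := between_extend pointOk 22 76725 81945 9 (p5u579) p5r580

theorem p5r581 : allRange pointOk 22 81954 9 = true := by decide +kernel
theorem p5u581 : ∀ k, 76725 ≤ k → k < 81963 → pointOk (k * 22) = true := between_extend pointOk 22 76725 81954 9 (p5u580) p5r581

theorem p5r582 : allRange pointOk 22 81963 9 = true := by decide +kernel
theorem p5u582 : ∀ k, 76725 ≤ k → k < 81972 → pointOk (k * 22) = true := between_extend pointOk 22 76725 81963 9 (p5u581) p5r582

theorem p5r583 : allRange pointOk 22 81972 9 = true := by decide +kernel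
theorem p5u583 : ∀ k, 76725 ≤ k → k < 81981 → pointOk (k * 22) = true := between_extend pointOk 22 76725 81972 9 (p5u582) p5r583

theorem p5r584 : allRange pointOk 22 81981 9 = true := by decide +kernel
theorem p5u584 : ∀ k, 76725 ≤ k → k < 81990 → pointOk (k * 22) = true := between_extend pointOk 22 76725 81981 9 (p5u583) p5r584

theorem p5r585 : allRange pointOk 22 81990 9 = true := by decide +kernel
theorem p5u585 : ∀ k, 76725 ≤ k → k < 81999 → pointOk (k * 22) = true := between_extend pointOk 22 76725 81990 9 (p5u584) p5r585

theorem p5r586 : allRange pointOk 22 81999 9 = true := by decide +kernel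
theorem p5u586 : ∀ k, 76725 ≤ k → k < 82008 → pointOk (k * 22) = true := between_extend pointOk 22 76725 81999 9 (p5u585) p5r586

theorem p5r587 : allRange pointOk 22 82008 9 = true := by decide +kernel
theorem p5u587 : ∀ k, 76725 ≤ k → k < 82017 → pointOk (k * 22) = true := between_extend pointOk 22 76725 82008 9 (p5u586) p5r587

theorem p5r588 : allRange pointOk 22 82017 9 = true := by decide +kernel
theorem p5u588 : ∀ k, 76725 ≤ k → k < 82026 → pointOk (k * 22) = true := between_extend pointOk 22 76725 82017 9 (p5u587) p5r588

theorem p5r589 : allRange pointOk 22 82026 9 = true := by decide +kernel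
theorem p5u589 : ∀ k, 76725 ≤ k → k < 82035 → pointOk (k * 22) = true := between_extend pointOk 22 76725 82026 9 (p5u588) p5r589

theorem p5r590 : allRange pointOk 22 82035 9 = true := by decide +kernel
theorem p5u590 : ∀ k, 76725 ≤ k → k < 82044 → pointOk (k * 22) = true := between_extend pointOk 22 76725 82035 9 (p5u589) p5r590

theorem p5r591 : allRange pointOk 22 82044 9 = true := by decide +kernel
theorem p5u591 : ∀ k, 76725 ≤ k → k < 82053 → pointOk (k * 22) = true := between_extend pointOk 22 76725 82044 9 (p5u590) p5r591

theorem p5r592 : allRange pointOk 22 82053 9 = true := by decide +kernel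
theorem p5u592 : ∀ k, 76725 ≤ k → k < 82062 → pointOk (k * 22) = true := between_extend pointOk 22 76725 82053 9 (p5u591) p5r592

theorem p5r593 : allRange pointOk 22 82062 9 = true := by decide +kernel
theorem p5u593 : ∀ k, 76725 ≤ k → k < 82071 → pointOk (k * 22) = true := between_extend pointOk 22 76725 82062 9 (p5u592) p5r593

theorem p5r594 : allRange pointOk 22 82071 9 = true := by decide +kernel
theorem p5u594 : ∀ k, 76725 ≤ k → k < 82080 → pointOk (k * 22) = true := between_extend pointOk 22 76725 82071 9 (p5u593) p5r594

theorem p5r595 : allRange pointOk 22 82080 9 = true := by decide +kernel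
theorem p5u595 : ∀ k, 76725 ≤ k → k < 82089 → pointOk (k * 22) = true := between_extend pointOk 22 76725 82080 9 (p5u594) p5r595

theorem p5r596 : allRange pointOk 22 82089 9 = true := by decide +kernel
theorem p5u596 : ∀ k, 76725 ≤ k → k < 82098 → pointOk (k * 22) = true := between_extend pointOk 22 76725 82089 9 (p5u595) p5r596

theorem p5r597 : allRange pointOk 22 82098 9 = true := by decide +kernel
theorem p5u597 : ∀ k, 76725 ≤ k → k < 82107 → pointOk (k * 22) = true := between_extend pointOk 22 76725 82098 9 (p5u596) p5r597

theorem p5r598 : allRange pointOk 22 82107 9 = true := by decide +kernel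
theorem p5u598 : ∀ k, 76725 ≤ k → k < 82116 → pointOk (k * 22) = true := between_extend pointOk 22 76725 82107 9 (p5u597) p5r598

theorem p5r599 : allRange pointOk 22 82116 9 = true := by decide +kernel
theorem p5u599 : ∀ k, 76725 ≤ k → k < 82125 → pointOk (k * 22) = true := between_extend pointOk 22 76725 82116 9 (p5u598) p5r599

theorem p5r600 : allRange pointOk 22 82125 9 = true := by decide +kernel
theorem p5u600 : ∀ k, 76725 ≤ k → k < 82134 → pointOk (k * 22) = true := between_extend pointOk 22 76725 82125 9 (p5u599) p5r600

theorem p5r601 : allRange pointOk 22 82134 9 = true := by decide +kernel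
theorem p5u601 : ∀ k, 76725 ≤ k → k < 82143 → pointOk (k * 22) = true := between_extend pointOk 22 76725 82134 9 (p5u600) p5r601

theorem p5r602 : allRange pointOk 22 82143 9 = true := by decide +kernel
theorem p5u602 : ∀ k, 76725 ≤ k → k < 82152 → pointOk (k * 22) = true := between_extend pointOk 22 76725 82143 9 (p5u601) p5r602

theorem p5r603 : allRange pointOk 22 82152 9 = true := by decide +kernel
theorem p5u603 : ∀ k, 76725 ≤ k → k < 82161 → pointOk (k * 22) = true := between_extend pointOk 22 76725 82152 9 (p5u602) p5r603

theorem p5r604 : allRange pointOk 22 82161 9 = true := by decide +kernel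
theorem p5u604 : ∀ k, 76725 ≤ k → k < 82170 → pointOk (k * 22) = true := between_extend pointOk 22 76725 82161 9 (p5u603) p5r604

theorem p5r605 : allRange pointOk 22 82170 9 = true := by decide +kernel
theorem p5u605 : ∀ k, 76725 ≤ k → k < 82179 → pointOk (k * 22) = true := between_extend pointOk 22 76725 82170 9 (p5u604) p5r605

theorem p5r606 : allRange pointOk 22 82179 9 = true := by decide +kernel
theorem p5u606 : ∀ k, 76725 ≤ k → k < 82188 → pointOk (k * 22) = true := between_extend pointOk 22 76725 82179 9 (p5u605) p5r606

theorem p5r607 : allRange pointOk 22 82188 9 = true := by decide +kernel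
theorem p5u607 : ∀ k, 76725 ≤ k → k < 82197 → pointOk (k * 22) = true := between_extend pointOk 22 76725 82188 9 (p5u606) p5r607

theorem p5r608 : allRange pointOk 22 82197 9 = true := by decide +kernel
theorem p5u608 : ∀ k, 76725 ≤ k → k < 82206 → pointOk (k * 22) = true := between_extend pointOk 22 76725 82197 9 (p5u607) p5r608

theorem p5r609 : allRange pointOk 22 82206 9 = true := by decide +kernel
theorem p5u609 : ∀ k, 76725 ≤ k → k < 82215 → pointOk (k * 22) = true := between_extend pointOk 22 76725 82206 9 (p5u608) p5r609

theorem p5r610 : allRange pointOk 22 82215 9 = true := by decide +kernel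
theorem p5u610 : ∀ k, 76725 ≤ k → k < 82224 → pointOk (k * 22) = true := between_extend pointOk 22 76725 82215 9 (p5u609) p5r610

theorem p5r611 : allRange pointOk 22 82224 9 = true := by decide +kernel
theorem p5u611 : ∀ k, 76725 ≤ k → k < 82233 → pointOk (k * 22) = true := between_extend pointOk 22 76725 82224 9 (p5u610) p5r611

theorem p5r612 : allRange pointOk 22 82233 9 = true := by decide +kernel
theorem p5u612 : ∀ k, 76725 ≤ k → k < 82242 → pointOk (k * 22) = true := between_extend pointOk 22 76725 82233 9 (p5u611) p5r612

theorem p5r613 : allRange pointOk 22 82242 9 = true := by decide +kernel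
theorem p5u613 : ∀ k, 76725 ≤ k → k < 82251 → pointOk (k * 22) = true := between_extend pointOk 22 76725 82242 9 (p5u612) p5r613

theorem p5r614 : allRange pointOk 22 82251 9 = true := by decide +kernel
theorem p5u614 : ∀ k, 76725 ≤ k → k < 82260 → pointOk (k * 22) = true := between_extend pointOk 22 76725 82251 9 (p5u613) p5r614

theorem p5r615 : allRange pointOk 22 82260 9 = true := by decide +kernel
theorem p5u615 : ∀ k, 76725 ≤ k → k < 82269 → pointOk (k * 22) = true := between_extend pointOk 22 76725 82260 9 (p5u614) p5r615

theorem p5r616 : allRange pointOk 22 82269 9 = true := by decide +kernel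
theorem p5u616 : ∀ k, 76725 ≤ k → k < 82278 → pointOk (k * 22) = true := between_extend pointOk 22 76725 82269 9 (p5u615) p5r616

theorem p5r617 : allRange pointOk 22 82278 9 = true := by decide +kernel
theorem p5u617 : ∀ k, 76725 ≤ k → k < 82287 → pointOk (k * 22) = true := between_extend pointOk 22 76725 82278 9 (p5u616) p5r617

theorem p5r618 : allRange pointOk 22 82287 9 = true := by decide +kernel
theorem p5u618 : ∀ k, 76725 ≤ k → k < 82296 → pointOk (k * 22) = true := between_extend pointOk 22 76725 82287 9 (p5u617) p5r618

theorem p5r619 : allRange pointOk 22 82296 9 = true := by decide +kernel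
theorem p5u619 : ∀ k, 76725 ≤ k → k < 82305 → pointOk (k * 22) = true := between_extend pointOk 22 76725 82296 9 (p5u618) p5r619

theorem p5r620 : allRange pointOk 22 82305 9 = true := by decide +kernel
theorem p5u620 : ∀ k, 76725 ≤ k → k < 82314 → pointOk (k * 22) = true := between_extend pointOk 22 76725 82305 9 (p5u619) p5r620

theorem p5r621 : allRange pointOk 22 82314 9 = true := by decide +kernel
theorem p5u621 : ∀ k, 76725 ≤ k → k < 82323 → pointOk (k * 22) = true := between_extend pointOk 22 76725 82314 9 (p5u620) p5r621

theorem p5r622 : allRange pointOk 22 82323 9 = true := by decide +kernel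
theorem p5u622 : ∀ k, 76725 ≤ k → k < 82332 → pointOk (k * 22) = true := between_extend pointOk 22 76725 82323 9 (p5u621) p5r622

theorem p5r623 : allRange pointOk 22 82332 9 = true := by decide +kernel
theorem p5u623 : ∀ k, 76725 ≤ k → k < 82341 → pointOk (k * 22) = true := between_extend pointOk 22 76725 82332 9 (p5u622) p5r623

theorem p5r624 : allRange pointOk 22 82341 9 = true := by decide +kernel
theorem p5u624 : ∀ k, 76725 ≤ k → k < 82350 → pointOk (k * 22) = true := between_extend pointOk 22 76725 82341 9 (p5u623) p5r624

theorem p5r625 : allRange pointOk 22 82350 9 = true := by decide +kernel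
theorem p5u625 : ∀ k, 76725 ≤ k → k < 82359 → pointOk (k * 22) = true := between_extend pointOk 22 76725 82350 9 (p5u624) p5r625

theorem p5r626 : allRange pointOk 22 82359 9 = true := by decide +kernel
theorem p5u626 : ∀ k, 76725 ≤ k → k < 82368 → pointOk (k * 22) = true := between_extend pointOk 22 76725 82359 9 (p5u625) p5r626

theorem p5r627 : allRange pointOk 22 82368 9 = true := by decide +kernel
theorem p5u627 : ∀ k, 76725 ≤ k → k < 82377 → pointOk (k * 22) = true := between_extend pointOk 22 76725 82368 9 (p5u626) p5r627

theorem p5r628 : allRange pointOk 22 82377 9 = true := by decide +kernel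
theorem p5u628 : ∀ k, 76725 ≤ k → k < 82386 → pointOk (k * 22) = true := between_extend pointOk 22 76725 82377 9 (p5u627) p5r628

theorem p5r629 : allRange pointOk 22 82386 9 = true := by decide +kernel
theorem p5u629 : ∀ k, 76725 ≤ k → k < 82395 → pointOk (k * 22) = true := between_extend pointOk 22 76725 82386 9 (p5u628) p5r629

theorem p5r630 : allRange pointOk 22 82395 9 = true := by decide +kernel
theorem p5u630 : ∀ k, 76725 ≤ k → k < 82404 → pointOk (k * 22) = true := between_extend pointOk 22 76725 82395 9 (p5u629) p5r630

theorem p5r631 : allRange pointOk 22 82404 9 = true := by decide +kernel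
theorem p5u631 : ∀ k, 76725 ≤ k → k < 82413 → pointOk (k * 22) = true := between_extend pointOk 22 76725 82404 9 (p5u630) p5r631

theorem p5r632 : allRange pointOk 22 82413 9 = true := by decide +kernel
theorem p5u632 : ∀ k, 76725 ≤ k → k < 82422 → pointOk (k * 22) = true := between_extend pointOk 22 76725 82413 9 (p5u631) p5r632

theorem p5r633 : allRange pointOk 22 82422 9 = true := by decide +kernel
theorem p5u633 : ∀ k, 76725 ≤ k → k < 82431 → pointOk (k * 22) = true := between_extend pointOk 22 76725 82422 9 (p5u632) p5r633

theorem p5r634 : allRange pointOk 22 82431 9 = true := by decide +kernel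
theorem p5u634 : ∀ k, 76725 ≤ k → k < 82440 → pointOk (k * 22) = true := between_extend pointOk 22 76725 82431 9 (p5u633) p5r634

theorem p5r635 : allRange pointOk 22 82440 9 = true := by decide +kernel
theorem p5u635 : ∀ k, 76725 ≤ k → k < 82449 → pointOk (k * 22) = true := between_extend pointOk 22 76725 82440 9 (p5u634) p5r635

theorem p5r636 : allRange pointOk 22 82449 9 = true := by decide +kernel
theorem p5u636 : ∀ k, 76725 ≤ k → k < 82458 → pointOk (k * 22) = true := between_extend pointOk 22 76725 82449 9 (p5u635) p5r636

theorem p5r637 : allRange pointOk 22 82458 9 = true := by decide +kernel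
theorem p5u637 : ∀ k, 76725 ≤ k → k < 82467 → pointOk (k * 22) = true := between_extend pointOk 22 76725 82458 9 (p5u636) p5r637

theorem p5r638 : allRange pointOk 22 82467 9 = true := by decide +kernel
theorem p5u638 : ∀ k, 76725 ≤ k → k < 82476 → pointOk (k * 22) = true := between_extend pointOk 22 76725 82467 9 (p5u637) p5r638

theorem p5r639 : allRange pointOk 22 82476 9 = true := by decide +kernel
theorem p5u639 : ∀ k, 76725 ≤ k → k < 82485 → pointOk (k * 22) = true := between_extend pointOk 22 76725 82476 9 (p5u638) p5r639

theorem p5r640 : allRange pointOk 22 82485 9 = true := by decide +kernel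
theorem p5u640 : ∀ k, 76725 ≤ k → k < 82494 → pointOk (k * 22) = true := between_extend pointOk 22 76725 82485 9 (p5u639) p5r640

theorem p5r641 : allRange pointOk 22 82494 9 = true := by decide +kernel
theorem p5u641 : ∀ k, 76725 ≤ k → k < 82503 → pointOk (k * 22) = true := between_extend pointOk 22 76725 82494 9 (p5u640) p5r641

theorem p5r642 : allRange pointOk 22 82503 9 = true := by decide +kernel
theorem p5u642 : ∀ k, 76725 ≤ k → k < 82512 → pointOk (k * 22) = true := between_extend pointOk 22 76725 82503 9 (p5u641) p5r642

theorem p5r643 : allRange pointOk 22 82512 9 = true := by decide +kernel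
theorem p5u643 : ∀ k, 76725 ≤ k → k < 82521 → pointOk (k * 22) = true := between_extend pointOk 22 76725 82512 9 (p5u642) p5r643

theorem p5r644 : allRange pointOk 22 82521 9 = true := by decide +kernel
theorem p5u644 : ∀ k, 76725 ≤ k → k < 82530 → pointOk (k * 22) = true := between_extend pointOk 22 76725 82521 9 (p5u643) p5r644

theorem p5r645 : allRange pointOk 22 82530 9 = true := by decide +kernel
theorem p5u645 : ∀ k, 76725 ≤ k → k < 82539 → pointOk (k * 22) = true := between_extend pointOk 22 76725 82530 9 (p5u644) p5r645

theorem p5r646 : allRange pointOk 22 82539 9 = true := by decide +kernel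
theorem p5u646 : ∀ k, 76725 ≤ k → k < 82548 → pointOk (k * 22) = true := between_extend pointOk 22 76725 82539 9 (p5u645) p5r646

theorem p5r647 : allRange pointOk 22 82548 9 = true := by decide +kernel
theorem p5u647 : ∀ k, 76725 ≤ k → k < 82557 → pointOk (k * 22) = true := between_extend pointOk 22 76725 82548 9 (p5u646) p5r647

theorem p5r648 : allRange pointOk 22 82557 9 = true := by decide +kernel
theorem p5u648 : ∀ k, 76725 ≤ k → k < 82566 → pointOk (k * 22) = true := between_extend pointOk 22 76725 82557 9 (p5u647) p5r648

theorem p5r649 : allRange pointOk 22 82566 9 = true := by decide +kernel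
theorem p5u649 : ∀ k, 76725 ≤ k → k < 82575 → pointOk (k * 22) = true := between_extend pointOk 22 76725 82566 9 (p5u648) p5r649

theorem p5r650 : allRange pointOk 22 82575 9 = true := by decide +kernel
theorem p5u650 : ∀ k, 76725 ≤ k → k < 82584 → pointOk (k * 22) = true := between_extend pointOk 22 76725 82575 9 (p5u649) p5r650

theorem p5r651 : allRange pointOk 22 82584 9 = true := by decide +kernel
theorem p5u651 : ∀ k, 76725 ≤ k → k < 82593 → pointOk (k * 22) = true := between_extend pointOk 22 76725 82584 9 (p5u650) p5r651

theorem p5r652 : allRange pointOk 22 82593 9 = true := by decide +kernel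
theorem p5u652 : ∀ k, 76725 ≤ k → k < 82602 → pointOk (k * 22) = true := between_extend pointOk 22 76725 82593 9 (p5u651) p5r652

theorem p5r653 : allRange pointOk 22 82602 9 = true := by decide +kernel
theorem p5u653 : ∀ k, 76725 ≤ k → k < 82611 → pointOk (k * 22) = true := between_extend pointOk 22 76725 82602 9 (p5u652) p5r653

theorem p5r654 : allRange pointOk 22 82611 9 = true := by decide +kernel
theorem p5u654 : ∀ k, 76725 ≤ k → k < 82620 → pointOk (k * 22) = true := between_extend pointOk 22 76725 82611 9 (p5u653) p5r654

theorem p5r655 : allRange pointOk 22 82620 9 = true := by decide +kernel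
theorem p5u655 : ∀ k, 76725 ≤ k → k < 82629 → pointOk (k * 22) = true := between_extend pointOk 22 76725 82620 9 (p5u654) p5r655

theorem p5r656 : allRange pointOk 22 82629 9 = true := by decide +kernel
theorem p5u656 : ∀ k, 76725 ≤ k → k < 82638 → pointOk (k * 22) = true := between_extend pointOk 22 76725 82629 9 (p5u655) p5r656

theorem p5r657 : allRange pointOk 22 82638 9 = true := by decide +kernel
theorem p5u657 : ∀ k, 76725 ≤ k → k < 82647 → pointOk (k * 22) = true := between_extend pointOk 22 76725 82638 9 (p5u656) p5r657

theorem p5r658 : allRange pointOk 22 82647 9 = true := by decide +kernel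
theorem p5u658 : ∀ k, 76725 ≤ k → k < 82656 → pointOk (k * 22) = true := between_extend pointOk 22 76725 82647 9 (p5u657) p5r658

theorem p5r659 : allRange pointOk 22 82656 9 = true := by decide +kernel
theorem p5u659 : ∀ k, 76725 ≤ k → k < 82665 → pointOk (k * 22) = true := between_extend pointOk 22 76725 82656 9 (p5u658) p5r659

theorem p5r660 : allRange pointOk 22 82665 9 = true := by decide +kernel
theorem p5u660 : ∀ k, 76725 ≤ k → k < 82674 → pointOk (k * 22) = true := between_extend pointOk 22 76725 82665 9 (p5u659) p5r660

theorem p5r661 : allRange pointOk 22 82674 9 = true := by decide +kernel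
theorem p5u661 : ∀ k, 76725 ≤ k → k < 82683 → pointOk (k * 22) = true := between_extend pointOk 22 76725 82674 9 (p5u660) p5r661

theorem p5r662 : allRange pointOk 22 82683 9 = true := by decide +kernel
theorem p5u662 : ∀ k, 76725 ≤ k → k < 82692 → pointOk (k * 22) = true := between_extend pointOk 22 76725 82683 9 (p5u661) p5r662

theorem p5r663 : allRange pointOk 22 82692 9 = true := by decide +kernel
theorem p5u663 : ∀ k, 76725 ≤ k → k < 82701 → pointOk (k * 22) = true := between_extend pointOk 22 76725 82692 9 (p5u662) p5r663

theorem p5r664 : allRange pointOk 22 82701 9 = true := by decide +kernel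
theorem p5u664 : ∀ k, 76725 ≤ k → k < 82710 → pointOk (k * 22) = true := between_extend pointOk 22 76725 82701 9 (p5u663) p5r664

theorem p5r665 : allRange pointOk 22 82710 9 = true := by decide +kernel
theorem p5u665 : ∀ k, 76725 ≤ k → k < 82719 → pointOk (k * 22) = true := between_extend pointOk 22 76725 82710 9 (p5u664) p5r665

theorem p5r666 : allRange pointOk 22 82719 9 = true := by decide +kernel
theorem p5u666 : ∀ k, 76725 ≤ k → k < 82728 → pointOk (k * 22) = true := between_extend pointOk 22 76725 82719 9 (p5u665) p5r666

theorem p5r667 : allRange pointOk 22 82728 9 = true := by decide +kernel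
theorem p5u667 : ∀ k, 76725 ≤ k → k < 82737 → pointOk (k * 22) = true := between_extend pointOk 22 76725 82728 9 (p5u666) p5r667

theorem p5r668 : allRange pointOk 22 82737 9 = true := by decide +kernel
theorem p5u668 : ∀ k, 76725 ≤ k → k < 82746 → pointOk (k * 22) = true := between_extend pointOk 22 76725 82737 9 (p5u667) p5r668

theorem p5r669 : allRange pointOk 22 82746 9 = true := by decide +kernel
theorem p5u669 : ∀ k, 76725 ≤ k → k < 82755 → pointOk (k * 22) = true := between_extend pointOk 22 76725 82746 9 (p5u668) p5r669

theorem p5r670 : allRange pointOk 22 82755 9 = true := by decide +kernel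
theorem p5u670 : ∀ k, 76725 ≤ k → k < 82764 → pointOk (k * 22) = true := between_extend pointOk 22 76725 82755 9 (p5u669) p5r670

theorem p5r671 : allRange pointOk 22 82764 9 = true := by decide +kernel
theorem p5u671 : ∀ k, 76725 ≤ k → k < 82773 → pointOk (k * 22) = true := between_extend pointOk 22 76725 82764 9 (p5u670) p5r671

theorem p5r672 : allRange pointOk 22 82773 9 = true := by decide +kernel
theorem p5u672 : ∀ k, 76725 ≤ k → k < 82782 → pointOk (k * 22) = true := between_extend pointOk 22 76725 82773 9 (p5u671) p5r672

theorem p5r673 : allRange pointOk 22 82782 9 = true := by decide +kernel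
theorem p5u673 : ∀ k, 76725 ≤ k → k < 82791 → pointOk (k * 22) = true := between_extend pointOk 22 76725 82782 9 (p5u672) p5r673

theorem p5r674 : allRange pointOk 22 82791 9 = true := by decide +kernel
theorem p5u674 : ∀ k, 76725 ≤ k → k < 82800 → pointOk (k * 22) = true := between_extend pointOk 22 76725 82791 9 (p5u673) p5r674

theorem p5r675 : allRange pointOk 22 82800 9 = true := by decide +kernel
theorem p5u675 : ∀ k, 76725 ≤ k → k < 82809 → pointOk (k * 22) = true := between_extend pointOk 22 76725 82800 9 (p5u674) p5r675

theorem p5r676 : allRange pointOk 22 82809 9 = true := by decide +kernel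
theorem p5u676 : ∀ k, 76725 ≤ k → k < 82818 → pointOk (k * 22) = true := between_extend pointOk 22 76725 82809 9 (p5u675) p5r676

theorem p5r677 : allRange pointOk 22 82818 9 = true := by decide +kernel
theorem p5u677 : ∀ k, 76725 ≤ k → k < 82827 → pointOk (k * 22) = true := between_extend pointOk 22 76725 82818 9 (p5u676) p5r677

theorem p5r678 : allRange pointOk 22 82827 9 = true := by decide +kernel
theorem p5u678 : ∀ k, 76725 ≤ k → k < 82836 → pointOk (k * 22) = true := between_extend pointOk 22 76725 82827 9 (p5u677) p5r678

theorem p5r679 : allRange pointOk 22 82836 9 = true := by decide +kernel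
theorem p5u679 : ∀ k, 76725 ≤ k → k < 82845 → pointOk (k * 22) = true := between_extend pointOk 22 76725 82836 9 (p5u678) p5r679

theorem p5r680 : allRange pointOk 22 82845 9 = true := by decide +kernel
theorem p5u680 : ∀ k, 76725 ≤ k → k < 82854 → pointOk (k * 22) = true := between_extend pointOk 22 76725 82845 9 (p5u679) p5r680

theorem p5r681 : allRange pointOk 22 82854 9 = true := by decide +kernel
theorem p5u681 : ∀ k, 76725 ≤ k → k < 82863 → pointOk (k * 22) = true := between_extend pointOk 22 76725 82854 9 (p5u680) p5r681

theorem p5r682 : allRange pointOk 22 82863 9 = true := by decide +kernel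
theorem p5u682 : ∀ k, 76725 ≤ k → k < 82872 → pointOk (k * 22) = true := between_extend pointOk 22 76725 82863 9 (p5u681) p5r682

theorem p5r683 : allRange pointOk 22 82872 9 = true := by decide +kernel
theorem p5u683 : ∀ k, 76725 ≤ k → k < 82881 → pointOk (k * 22) = true := between_extend pointOk 22 76725 82872 9 (p5u682) p5r683

theorem p5r684 : allRange pointOk 22 82881 9 = true := by decide +kernel
theorem p5u684 : ∀ k, 76725 ≤ k → k < 82890 → pointOk (k * 22) = true := between_extend pointOk 22 76725 82881 9 (p5u683) p5r684

theorem p5r685 : allRange pointOk 22 82890 9 = true := by decide +kernel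
theorem p5u685 : ∀ k, 76725 ≤ k → k < 82899 → pointOk (k * 22) = true := between_extend pointOk 22 76725 82890 9 (p5u684) p5r685

theorem p5r686 : allRange pointOk 22 82899 9 = true := by decide +kernel
theorem p5u686 : ∀ k, 76725 ≤ k → k < 82908 → pointOk (k * 22) = true := between_extend pointOk 22 76725 82899 9 (p5u685) p5r686

theorem p5r687 : allRange pointOk 22 82908 9 = true := by decide +kernel
theorem p5u687 : ∀ k, 76725 ≤ k → k < 82917 → pointOk (k * 22) = true := between_extend pointOk 22 76725 82908 9 (p5u686) p5r687

theorem p5r688 : allRange pointOk 22 82917 9 = true := by decide +kernel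
theorem p5u688 : ∀ k, 76725 ≤ k → k < 82926 → pointOk (k * 22) = true := between_extend pointOk 22 76725 82917 9 (p5u687) p5r688

theorem p5r689 : allRange pointOk 22 82926 9 = true := by decide +kernel
theorem p5u689 : ∀ k, 76725 ≤ k → k < 82935 → pointOk (k * 22) = true := between_extend pointOk 22 76725 82926 9 (p5u688) p5r689

theorem p5r690 : allRange pointOk 22 82935 9 = true := by decide +kernel
theorem p5u690 : ∀ k, 76725 ≤ k → k < 82944 → pointOk (k * 22) = true := between_extend pointOk 22 76725 82935 9 (p5u689) p5r690

theorem p5r691 : allRange pointOk 22 82944 9 = true := by decide +kernel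
theorem p5u691 : ∀ k, 76725 ≤ k → k < 82953 → pointOk (k * 22) = true := between_extend pointOk 22 76725 82944 9 (p5u690) p5r691

theorem p5r692 : allRange pointOk 22 82953 9 = true := by decide +kernel
theorem p5u692 : ∀ k, 76725 ≤ k → k < 82962 → pointOk (k * 22) = true := between_extend pointOk 22 76725 82953 9 (p5u691) p5r692

theorem p5r693 : allRange pointOk 22 82962 9 = true := by decide +kernel
theorem p5u693 : ∀ k, 76725 ≤ k → k < 82971 → pointOk (k * 22) = true := between_extend pointOk 22 76725 82962 9 (p5u692) p5r693

theorem p5r694 : allRange pointOk 22 82971 9 = true := by decide +kernel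
theorem p5u694 : ∀ k, 76725 ≤ k → k < 82980 → pointOk (k * 22) = true := between_extend pointOk 22 76725 82971 9 (p5u693) p5r694

theorem p5r695 : allRange pointOk 22 82980 9 = true := by decide +kernel
theorem p5u695 : ∀ k, 76725 ≤ k → k < 82989 → pointOk (k * 22) = true := between_extend pointOk 22 76725 82980 9 (p5u694) p5r695

theorem p5r696 : allRange pointOk 22 82989 9 = true := by decide +kernel
theorem p5u696 : ∀ k, 76725 ≤ k → k < 82998 → pointOk (k * 22) = true := between_extend pointOk 22 76725 82989 9 (p5u695) p5r696

theorem p5r697 : allRange pointOk 22 82998 9 = true := by decide +kernel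
theorem p5u697 : ∀ k, 76725 ≤ k → k < 83007 → pointOk (k * 22) = true := between_extend pointOk 22 76725 82998 9 (p5u696) p5r697

theorem p5r698 : allRange pointOk 22 83007 9 = true := by decide +kernel
theorem p5u698 : ∀ k, 76725 ≤ k → k < 83016 → pointOk (k * 22) = true := between_extend pointOk 22 76725 83007 9 (p5u697) p5r698

theorem p5r699 : allRange pointOk 22 83016 9 = true := by decide +kernel
theorem p5u699 : ∀ k, 76725 ≤ k → k < 83025 → pointOk (k * 22) = true := between_extend pointOk 22 76725 83016 9 (p5u698) p5r699

theorem p5r700 : allRange pointOk 22 83025 9 = true := by decide +kernel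
theorem p5u700 : ∀ k, 76725 ≤ k → k < 83034 → pointOk (k * 22) = true := between_extend pointOk 22 76725 83025 9 (p5u699) p5r700

theorem p5r701 : allRange pointOk 22 83034 9 = true := by decide +kernel
theorem p5u701 : ∀ k, 76725 ≤ k → k < 83043 → pointOk (k * 22) = true := between_extend pointOk 22 76725 83034 9 (p5u700) p5r701

theorem p5r702 : allRange pointOk 22 83043 9 = true := by decide +kernel
theorem p5u702 : ∀ k, 76725 ≤ k → k < 83052 → pointOk (k * 22) = true := between_extend pointOk 22 76725 83043 9 (p5u701) p5r702

theorem p5r703 : allRange pointOk 22 83052 9 = true := by decide +kernel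
theorem p5u703 : ∀ k, 76725 ≤ k → k < 83061 → pointOk (k * 22) = true := between_extend pointOk 22 76725 83052 9 (p5u702) p5r703

theorem p5r704 : allRange pointOk 22 83061 9 = true := by decide +kernel
theorem p5u704 : ∀ k, 76725 ≤ k → k < 83070 → pointOk (k * 22) = true := between_extend pointOk 22 76725 83061 9 (p5u703) p5r704

theorem p5r705 : allRange pointOk 22 83070 9 = true := by decide +kernel
theorem p5u705 : ∀ k, 76725 ≤ k → k < 83079 → pointOk (k * 22) = true := between_extend pointOk 22 76725 83070 9 (p5u704) p5r705

theorem p5r706 : allRange pointOk 22 83079 9 = true := by decide +kernel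
theorem p5u706 : ∀ k, 76725 ≤ k → k < 83088 → pointOk (k * 22) = true := between_extend pointOk 22 76725 83079 9 (p5u705) p5r706

theorem p5r707 : allRange pointOk 22 83088 9 = true := by decide +kernel
theorem p5u707 : ∀ k, 76725 ≤ k → k < 83097 → pointOk (k * 22) = true := between_extend pointOk 22 76725 83088 9 (p5u706) p5r707

theorem p5r708 : allRange pointOk 22 83097 9 = true := by decide +kernel
theorem p5u708 : ∀ k, 76725 ≤ k → k < 83106 → pointOk (k * 22) = true := between_extend pointOk 22 76725 83097 9 (p5u707) p5r708

theorem p5r709 : allRange pointOk 22 83106 9 = true := by decide +kernel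
theorem p5u709 : ∀ k, 76725 ≤ k → k < 83115 → pointOk (k * 22) = true := between_extend pointOk 22 76725 83106 9 (p5u708) p5r709

theorem p5r710 : allRange pointOk 22 83115 9 = true := by decide +kernel
theorem p5u710 : ∀ k, 76725 ≤ k → k < 83124 → pointOk (k * 22) = true := between_extend pointOk 22 76725 83115 9 (p5u709) p5r710

theorem p5r711 : allRange pointOk 22 83124 9 = true := by decide +kernel
theorem p5u711 : ∀ k, 76725 ≤ k → k < 83133 → pointOk (k * 22) = true := between_extend pointOk 22 76725 83124 9 (p5u710) p5r711

theorem p5r712 : allRange pointOk 22 83133 9 = true := by decide +kernel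
theorem p5u712 : ∀ k, 76725 ≤ k → k < 83142 → pointOk (k * 22) = true := between_extend pointOk 22 76725 83133 9 (p5u711) p5r712

theorem p5r713 : allRange pointOk 22 83142 9 = true := by decide +kernel
theorem p5u713 : ∀ k, 76725 ≤ k → k < 83151 → pointOk (k * 22) = true := between_extend pointOk 22 76725 83142 9 (p5u712) p5r713

theorem p5r714 : allRange pointOk 22 83151 9 = true := by decide +kernel
theorem p5u714 : ∀ k, 76725 ≤ k → k < 83160 → pointOk (k * 22) = true := between_extend pointOk 22 76725 83151 9 (p5u713) p5r714

theorem p5r715 : allRange pointOk 22 83160 9 = true := by decide +kernel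
theorem p5u715 : ∀ k, 76725 ≤ k → k < 83169 → pointOk (k * 22) = true := between_extend pointOk 22 76725 83160 9 (p5u714) p5r715

theorem p5r716 : allRange pointOk 22 83169 9 = true := by decide +kernel
theorem p5u716 : ∀ k, 76725 ≤ k → k < 83178 → pointOk (k * 22) = true := between_extend pointOk 22 76725 83169 9 (p5u715) p5r716

theorem p5r717 : allRange pointOk 22 83178 9 = true := by decide +kernel
theorem p5u717 : ∀ k, 76725 ≤ k → k < 83187 → pointOk (k * 22) = true := between_extend pointOk 22 76725 83178 9 (p5u716) p5r717

theorem p5r718 : allRange pointOk 22 83187 9 = true := by decide +kernel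
theorem p5u718 : ∀ k, 76725 ≤ k → k < 83196 → pointOk (k * 22) = true := between_extend pointOk 22 76725 83187 9 (p5u717) p5r718

theorem p5r719 : allRange pointOk 22 83196 9 = true := by decide +kernel
theorem p5u719 : ∀ k, 76725 ≤ k → k < 83205 → pointOk (k * 22) = true := between_extend pointOk 22 76725 83196 9 (p5u718) p5r719

theorem p5r720 : allRange pointOk 22 83205 9 = true := by decide +kernel
theorem p5u720 : ∀ k, 76725 ≤ k → k < 83214 → pointOk (k * 22) = true := between_extend pointOk 22 76725 83205 9 (p5u719) p5r720

theorem p5r721 : allRange pointOk 22 83214 9 = true := by decide +kernel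
theorem p5u721 : ∀ k, 76725 ≤ k → k < 83223 → pointOk (k * 22) = true := between_extend pointOk 22 76725 83214 9 (p5u720) p5r721

theorem p5r722 : allRange pointOk 22 83223 9 = true := by decide +kernel
theorem p5u722 : ∀ k, 76725 ≤ k → k < 83232 → pointOk (k * 22) = true := between_extend pointOk 22 76725 83223 9 (p5u721) p5r722

theorem p5r723 : allRange pointOk 22 83232 9 = true := by decide +kernel
theorem p5u723 : ∀ k, 76725 ≤ k → k < 83241 → pointOk (k * 22) = true := between_extend pointOk 22 76725 83232 9 (p5u722) p5r723

theorem p5r724 : allRange pointOk 22 83241 9 = true := by decide +kernel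
theorem p5u724 : ∀ k, 76725 ≤ k → k < 83250 → pointOk (k * 22) = true := between_extend pointOk 22 76725 83241 9 (p5u723) p5r724

theorem p5r725 : allRange pointOk 22 83250 9 = true := by decide +kernel
theorem p5u725 : ∀ k, 76725 ≤ k → k < 83259 → pointOk (k * 22) = true := between_extend pointOk 22 76725 83250 9 (p5u724) p5r725

theorem p5r726 : allRange pointOk 22 83259 9 = true := by decide +kernel
theorem p5u726 : ∀ k, 76725 ≤ k → k < 83268 → pointOk (k * 22) = true := between_extend pointOk 22 76725 83259 9 (p5u725) p5r726

theorem p5r727 : allRange pointOk 22 83268 9 = true := by decide +kernel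
theorem p5u727 : ∀ k, 76725 ≤ k → k < 83277 → pointOk (k * 22) = true := between_extend pointOk 22 76725 83268 9 (p5u726) p5r727

theorem p5r728 : allRange pointOk 22 83277 9 = true := by decide +kernel
theorem p5u728 : ∀ k, 76725 ≤ k → k < 83286 → pointOk (k * 22) = true := between_extend pointOk 22 76725 83277 9 (p5u727) p5r728

theorem p5r729 : allRange pointOk 22 83286 9 = true := by decide +kernel
theorem p5u729 : ∀ k, 76725 ≤ k → k < 83295 → pointOk (k * 22) = true := between_extend pointOk 22 76725 83286 9 (p5u728) p5r729

theorem p5r730 : allRange pointOk 22 83295 9 = true := by decide +kernel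
theorem p5u730 : ∀ k, 76725 ≤ k → k < 83304 → pointOk (k * 22) = true := between_extend pointOk 22 76725 83295 9 (p5u729) p5r730

theorem p5r731 : allRange pointOk 22 83304 9 = true := by decide +kernel
theorem p5u731 : ∀ k, 76725 ≤ k → k < 83313 → pointOk (k * 22) = true := between_extend pointOk 22 76725 83304 9 (p5u730) p5r731

theorem p5r732 : allRange pointOk 22 83313 9 = true := by decide +kernel
theorem p5u732 : ∀ k, 76725 ≤ k → k < 83322 → pointOk (k * 22) = true := between_extend pointOk 22 76725 83313 9 (p5u731) p5r732

theorem p5r733 : allRange pointOk 22 83322 9 = true := by decide +kernel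
theorem p5u733 : ∀ k, 76725 ≤ k → k < 83331 → pointOk (k * 22) = true := between_extend pointOk 22 76725 83322 9 (p5u732) p5r733

theorem p5r734 : allRange pointOk 22 83331 9 = true := by decide +kernel
theorem p5u734 : ∀ k, 76725 ≤ k → k < 83340 → pointOk (k * 22) = true := between_extend pointOk 22 76725 83331 9 (p5u733) p5r734

theorem p5r735 : allRange pointOk 22 83340 9 = true := by decide +kernel
theorem p5u735 : ∀ k, 76725 ≤ k → k < 83349 → pointOk (k * 22) = true := between_extend pointOk 22 76725 83340 9 (p5u734) p5r735

theorem p5r736 : allRange pointOk 22 83349 9 = true := by decide +kernel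
theorem p5u736 : ∀ k, 76725 ≤ k → k < 83358 → pointOk (k * 22) = true := between_extend pointOk 22 76725 83349 9 (p5u735) p5r736

theorem p5r737 : allRange pointOk 22 83358 9 = true := by decide +kernel
theorem p5u737 : ∀ k, 76725 ≤ k → k < 83367 → pointOk (k * 22) = true := between_extend pointOk 22 76725 83358 9 (p5u736) p5r737

theorem p5r738 : allRange pointOk 22 83367 9 = true := by decide +kernel
theorem p5u738 : ∀ k, 76725 ≤ k → k < 83376 → pointOk (k * 22) = true := between_extend pointOk 22 76725 83367 9 (p5u737) p5r738

theorem p5r739 : allRange pointOk 22 83376 9 = true := by decide +kernel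
theorem p5u739 : ∀ k, 76725 ≤ k → k < 83385 → pointOk (k * 22) = true := between_extend pointOk 22 76725 83376 9 (p5u738) p5r739

theorem p5r740 : allRange pointOk 22 83385 9 = true := by decide +kernel
theorem p5u740 : ∀ k, 76725 ≤ k → k < 83394 → pointOk (k * 22) = true := between_extend pointOk 22 76725 83385 9 (p5u739) p5r740

theorem p5r741 : allRange pointOk 22 83394 9 = true := by decide +kernel
theorem p5u741 : ∀ k, 76725 ≤ k → k < 83403 → pointOk (k * 22) = true := between_extend pointOk 22 76725 83394 9 (p5u740) p5r741

theorem p5r742 : allRange pointOk 22 83403 9 = true := by decide +kernel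
theorem p5u742 : ∀ k, 76725 ≤ k → k < 83412 → pointOk (k * 22) = true := between_extend pointOk 22 76725 83403 9 (p5u741) p5r742

theorem p5r743 : allRange pointOk 22 83412 9 = true := by decide +kernel
theorem p5u743 : ∀ k, 76725 ≤ k → k < 83421 → pointOk (k * 22) = true := between_extend pointOk 22 76725 83412 9 (p5u742) p5r743

theorem p5r744 : allRange pointOk 22 83421 9 = true := by decide +kernel
theorem p5u744 : ∀ k, 76725 ≤ k → k < 83430 → pointOk (k * 22) = true := between_extend pointOk 22 76725 83421 9 (p5u743) p5r744

theorem p5r745 : allRange pointOk 22 83430 9 = true := by decide +kernel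
theorem p5u745 : ∀ k, 76725 ≤ k → k < 83439 → pointOk (k * 22) = true := between_extend pointOk 22 76725 83430 9 (p5u744) p5r745

theorem p5r746 : allRange pointOk 22 83439 9 = true := by decide +kernel
theorem p5u746 : ∀ k, 76725 ≤ k → k < 83448 → pointOk (k * 22) = true := between_extend pointOk 22 76725 83439 9 (p5u745) p5r746

theorem p5r747 : allRange pointOk 22 83448 9 = true := by decide +kernel
theorem p5u747 : ∀ k, 76725 ≤ k → k < 83457 → pointOk (k * 22) = true := between_extend pointOk 22 76725 83448 9 (p5u746) p5r747

theorem p5r748 : allRange pointOk 22 83457 9 = true := by decide +kernel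
theorem p5u748 : ∀ k, 76725 ≤ k → k < 83466 → pointOk (k * 22) = true := between_extend pointOk 22 76725 83457 9 (p5u747) p5r748

theorem p5r749 : allRange pointOk 22 83466 9 = true := by decide +kernel
theorem p5u749 : ∀ k, 76725 ≤ k → k < 83475 → pointOk (k * 22) = true := between_extend pointOk 22 76725 83466 9 (p5u748) p5r749

theorem p5r750 : allRange pointOk 22 83475 9 = true := by decide +kernel
theorem p5u750 : ∀ k, 76725 ≤ k → k < 83484 → pointOk (k * 22) = true := between_extend pointOk 22 76725 83475 9 (p5u749) p5r750

theorem p5r751 : allRange pointOk 22 83484 9 = true := by decide +kernel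
theorem p5u751 : ∀ k, 76725 ≤ k → k < 83493 → pointOk (k * 22) = true := between_extend pointOk 22 76725 83484 9 (p5u750) p5r751

theorem p5r752 : allRange pointOk 22 83493 9 = true := by decide +kernel
theorem p5u752 : ∀ k, 76725 ≤ k → k < 83502 → pointOk (k * 22) = true := between_extend pointOk 22 76725 83493 9 (p5u751) p5r752

theorem p5r753 : allRange pointOk 22 83502 9 = true := by decide +kernel
theorem p5u753 : ∀ k, 76725 ≤ k → k < 83511 → pointOk (k * 22) = true := between_extend pointOk 22 76725 83502 9 (p5u752) p5r753

theorem p5r754 : allRange pointOk 22 83511 9 = true := by decide +kernel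
theorem p5u754 : ∀ k, 76725 ≤ k → k < 83520 → pointOk (k * 22) = true := between_extend pointOk 22 76725 83511 9 (p5u753) p5r754

theorem p5r755 : allRange pointOk 22 83520 9 = true := by decide +kernel
theorem p5u755 : ∀ k, 76725 ≤ k → k < 83529 → pointOk (k * 22) = true := between_extend pointOk 22 76725 83520 9 (p5u754) p5r755

theorem p5r756 : allRange pointOk 22 83529 9 = true := by decide +kernel
theorem p5u756 : ∀ k, 76725 ≤ k → k < 83538 → pointOk (k * 22) = true := between_extend pointOk 22 76725 83529 9 (p5u755) p5r756

theorem p5r757 : allRange pointOk 22 83538 9 = true := by decide +kernel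
theorem p5u757 : ∀ k, 76725 ≤ k → k < 83547 → pointOk (k * 22) = true := between_extend pointOk 22 76725 83538 9 (p5u756) p5r757

theorem p5r758 : allRange pointOk 22 83547 9 = true := by decide +kernel
theorem p5u758 : ∀ k, 76725 ≤ k → k < 83556 → pointOk (k * 22) = true := between_extend pointOk 22 76725 83547 9 (p5u757) p5r758

theorem p5r759 : allRange pointOk 22 83556 9 = true := by decide +kernel
theorem p5u759 : ∀ k, 76725 ≤ k → k < 83565 → pointOk (k * 22) = true := between_extend pointOk 22 76725 83556 9 (p5u758) p5r759

theorem p5r760 : allRange pointOk 22 83565 9 = true := by decide +kernel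
theorem p5u760 : ∀ k, 76725 ≤ k → k < 83574 → pointOk (k * 22) = true := between_extend pointOk 22 76725 83565 9 (p5u759) p5r760

theorem p5r761 : allRange pointOk 22 83574 9 = true := by decide +kernel
theorem p5u761 : ∀ k, 76725 ≤ k → k < 83583 → pointOk (k * 22) = true := between_extend pointOk 22 76725 83574 9 (p5u760) p5r761

theorem p5r762 : allRange pointOk 22 83583 9 = true := by decide +kernel
theorem p5u762 : ∀ k, 76725 ≤ k → k < 83592 → pointOk (k * 22) = true := between_extend pointOk 22 76725 83583 9 (p5u761) p5r762

theorem p5r763 : allRange pointOk 22 83592 9 = true := by decide +kernel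
theorem p5u763 : ∀ k, 76725 ≤ k → k < 83601 → pointOk (k * 22) = true := between_extend pointOk 22 76725 83592 9 (p5u762) p5r763

theorem p5r764 : allRange pointOk 22 83601 9 = true := by decide +kernel
theorem p5u764 : ∀ k, 76725 ≤ k → k < 83610 → pointOk (k * 22) = true := between_extend pointOk 22 76725 83601 9 (p5u763) p5r764

theorem p5r765 : allRange pointOk 22 83610 9 = true := by decide +kernel
theorem p5u765 : ∀ k, 76725 ≤ k → k < 83619 → pointOk (k * 22) = true := between_extend pointOk 22 76725 83610 9 (p5u764) p5r765

theorem p5r766 : allRange pointOk 22 83619 9 = true := by decide +kernel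
theorem p5u766 : ∀ k, 76725 ≤ k → k < 83628 → pointOk (k * 22) = true := between_extend pointOk 22 76725 83619 9 (p5u765) p5r766

theorem p5r767 : allRange pointOk 22 83628 9 = true := by decide +kernel
theorem p5u767 : ∀ k, 76725 ≤ k → k < 83637 → pointOk (k * 22) = true := between_extend pointOk 22 76725 83628 9 (p5u766) p5r767

theorem p5r768 : allRange pointOk 22 83637 9 = true := by decide +kernel
theorem p5u768 : ∀ k, 76725 ≤ k → k < 83646 → pointOk (k * 22) = true := between_extend pointOk 22 76725 83637 9 (p5u767) p5r768

theorem p5r769 : allRange pointOk 22 83646 9 = true := by decide +kernel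
theorem p5u769 : ∀ k, 76725 ≤ k → k < 83655 → pointOk (k * 22) = true := between_extend pointOk 22 76725 83646 9 (p5u768) p5r769

theorem p5r770 : allRange pointOk 22 83655 9 = true := by decide +kernel
theorem p5u770 : ∀ k, 76725 ≤ k → k < 83664 → pointOk (k * 22) = true := between_extend pointOk 22 76725 83655 9 (p5u769) p5r770

theorem p5r771 : allRange pointOk 22 83664 9 = true := by decide +kernel
theorem p5u771 : ∀ k, 76725 ≤ k → k < 83673 → pointOk (k * 22) = true := between_extend pointOk 22 76725 83664 9 (p5u770) p5r771

theorem p5r772 : allRange pointOk 22 83673 9 = true := by decide +kernel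
theorem p5u772 : ∀ k, 76725 ≤ k → k < 83682 → pointOk (k * 22) = true := between_extend pointOk 22 76725 83673 9 (p5u771) p5r772

theorem p5r773 : allRange pointOk 22 83682 9 = true := by decide +kernel
theorem p5u773 : ∀ k, 76725 ≤ k → k < 83691 → pointOk (k * 22) = true := between_extend pointOk 22 76725 83682 9 (p5u772) p5r773

theorem p5r774 : allRange pointOk 22 83691 9 = true := by decide +kernel
theorem p5u774 : ∀ k, 76725 ≤ k → k < 83700 → pointOk (k * 22) = true := between_extend pointOk 22 76725 83691 9 (p5u773) p5r774

theorem p5r775 : allRange pointOk 22 83700 9 = true := by decide +kernel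
theorem p5u775 : ∀ k, 76725 ≤ k → k < 83709 → pointOk (k * 22) = true := between_extend pointOk 22 76725 83700 9 (p5u774) p5r775

theorem p5r776 : allRange pointOk 22 83709 9 = true := by decide +kernel
theorem p5u776 : ∀ k, 76725 ≤ k → k < 83718 → pointOk (k * 22) = true := between_extend pointOk 22 76725 83709 9 (p5u775) p5r776

theorem p5r777 : allRange pointOk 22 83718 9 = true := by decide +kernel
theorem p5u777 : ∀ k, 76725 ≤ k → k < 83727 → pointOk (k * 22) = true := between_extend pointOk 22 76725 83718 9 (p5u776) p5r777

theorem p5r778 : allRange pointOk 22 83727 9 = true := by decide +kernel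
theorem p5u778 : ∀ k, 76725 ≤ k → k < 83736 → pointOk (k * 22) = true := between_extend pointOk 22 76725 83727 9 (p5u777) p5r778

theorem p5r779 : allRange pointOk 22 83736 9 = true := by decide +kernel
theorem p5u779 : ∀ k, 76725 ≤ k → k < 83745 → pointOk (k * 22) = true := between_extend pointOk 22 76725 83736 9 (p5u778) p5r779

theorem p5r780 : allRange pointOk 22 83745 9 = true := by decide +kernel
theorem p5u780 : ∀ k, 76725 ≤ k → k < 83754 → pointOk (k * 22) = true := between_extend pointOk 22 76725 83745 9 (p5u779) p5r780

theorem p5r781 : allRange pointOk 22 83754 9 = true := by decide +kernel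
theorem p5u781 : ∀ k, 76725 ≤ k → k < 83763 → pointOk (k * 22) = true := between_extend pointOk 22 76725 83754 9 (p5u780) p5r781

theorem p5r782 : allRange pointOk 22 83763 9 = true := by decide +kernel
theorem p5u782 : ∀ k, 76725 ≤ k → k < 83772 → pointOk (k * 22) = true := between_extend pointOk 22 76725 83763 9 (p5u781) p5r782

theorem p5r783 : allRange pointOk 22 83772 9 = true := by decide +kernel
theorem p5u783 : ∀ k, 76725 ≤ k → k < 83781 → pointOk (k * 22) = true := between_extend pointOk 22 76725 83772 9 (p5u782) p5r783

theorem p5r784 : allRange pointOk 22 83781 9 = true := by decide +kernel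
theorem p5u784 : ∀ k, 76725 ≤ k → k < 83790 → pointOk (k * 22) = true := between_extend pointOk 22 76725 83781 9 (p5u783) p5r784

theorem p5r785 : allRange pointOk 22 83790 9 = true := by decide +kernel
theorem p5u785 : ∀ k, 76725 ≤ k → k < 83799 → pointOk (k * 22) = true := between_extend pointOk 22 76725 83790 9 (p5u784) p5r785

theorem p5r786 : allRange pointOk 22 83799 9 = true := by decide +kernel
theorem p5u786 : ∀ k, 76725 ≤ k → k < 83808 → pointOk (k * 22) = true := between_extend pointOk 22 76725 83799 9 (p5u785) p5r786

theorem p5r787 : allRange pointOk 22 83808 9 = true := by decide +kernel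
theorem p5u787 : ∀ k, 76725 ≤ k → k < 83817 → pointOk (k * 22) = true := between_extend pointOk 22 76725 83808 9 (p5u786) p5r787

theorem p5r788 : allRange pointOk 22 83817 9 = true := by decide +kernel
theorem p5u788 : ∀ k, 76725 ≤ k → k < 83826 → pointOk (k * 22) = true := between_extend pointOk 22 76725 83817 9 (p5u787) p5r788

theorem p5r789 : allRange pointOk 22 83826 9 = true := by decide +kernel
theorem p5u789 : ∀ k, 76725 ≤ k → k < 83835 → pointOk (k * 22) = true := between_extend pointOk 22 76725 83826 9 (p5u788) p5r789

theorem p5r790 : allRange pointOk 22 83835 9 = true := by decide +kernel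
theorem p5u790 : ∀ k, 76725 ≤ k → k < 83844 → pointOk (k * 22) = true := between_extend pointOk 22 76725 83835 9 (p5u789) p5r790

theorem p5r791 : allRange pointOk 22 83844 9 = true := by decide +kernel
theorem p5u791 : ∀ k, 76725 ≤ k → k < 83853 → pointOk (k * 22) = true := between_extend pointOk 22 76725 83844 9 (p5u790) p5r791

theorem p5r792 : allRange pointOk 22 83853 9 = true := by decide +kernel
theorem p5u792 : ∀ k, 76725 ≤ k → k < 83862 → pointOk (k * 22) = true := between_extend pointOk 22 76725 83853 9 (p5u791) p5r792

theorem p5r793 : allRange pointOk 22 83862 9 = true := by decide +kernel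
theorem p5u793 : ∀ k, 76725 ≤ k → k < 83871 → pointOk (k * 22) = true := between_extend pointOk 22 76725 83862 9 (p5u792) p5r793

theorem p5r794 : allRange pointOk 22 83871 9 = true := by decide +kernel
theorem p5u794 : ∀ k, 76725 ≤ k → k < 83880 → pointOk (k * 22) = true := between_extend pointOk 22 76725 83871 9 (p5u793) p5r794

theorem p5r795 : allRange pointOk 22 83880 9 = true := by decide +kernel
theorem p5u795 : ∀ k, 76725 ≤ k → k < 83889 → pointOk (k * 22) = true := between_extend pointOk 22 76725 83880 9 (p5u794) p5r795

theorem p5r796 : allRange pointOk 22 83889 9 = true := by decide +kernel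
theorem p5u796 : ∀ k, 76725 ≤ k → k < 83898 → pointOk (k * 22) = true := between_extend pointOk 22 76725 83889 9 (p5u795) p5r796

theorem p5r797 : allRange pointOk 22 83898 9 = true := by decide +kernel
theorem p5u797 : ∀ k, 76725 ≤ k → k < 83907 → pointOk (k * 22) = true := between_extend pointOk 22 76725 83898 9 (p5u796) p5r797

theorem p5r798 : allRange pointOk 22 83907 9 = true := by decide +kernel
theorem p5u798 : ∀ k, 76725 ≤ k → k < 83916 → pointOk (k * 22) = true := between_extend pointOk 22 76725 83907 9 (p5u797) p5r798

theorem p5r799 : allRange pointOk 22 83916 9 = true := by decide +kernel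
theorem p5u799 : ∀ k, 76725 ≤ k → k < 83925 → pointOk (k * 22) = true := between_extend pointOk 22 76725 83916 9 (p5u798) p5r799

theorem p5r800 : allRange pointOk 22 83925 9 = true := by decide +kernel
theorem p5u800 : ∀ k, 76725 ≤ k → k < 83934 → pointOk (k * 22) = true := between_extend pointOk 22 76725 83925 9 (p5u799) p5r800

theorem p5r801 : allRange pointOk 22 83934 9 = true := by decide +kernel
theorem p5u801 : ∀ k, 76725 ≤ k → k < 83943 → pointOk (k * 22) = true := between_extend pointOk 22 76725 83934 9 (p5u800) p5r801

theorem p5r802 : allRange pointOk 22 83943 9 = true := by decide +kernel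
theorem p5u802 : ∀ k, 76725 ≤ k → k < 83952 → pointOk (k * 22) = true := between_extend pointOk 22 76725 83943 9 (p5u801) p5r802

theorem p5r803 : allRange pointOk 22 83952 9 = true := by decide +kernel
theorem p5u803 : ∀ k, 76725 ≤ k → k < 83961 → pointOk (k * 22) = true := between_extend pointOk 22 76725 83952 9 (p5u802) p5r803

theorem p5r804 : allRange pointOk 22 83961 9 = true := by decide +kernel
theorem p5u804 : ∀ k, 76725 ≤ k → k < 83970 → pointOk (k * 22) = true := between_extend pointOk 22 76725 83961 9 (p5u803) p5r804

theorem p5r805 : allRange pointOk 22 83970 9 = true := by decide +kernel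
theorem p5u805 : ∀ k, 76725 ≤ k → k < 83979 → pointOk (k * 22) = true := between_extend pointOk 22 76725 83970 9 (p5u804) p5r805

theorem p5r806 : allRange pointOk 22 83979 9 = true := by decide +kernel
theorem p5u806 : ∀ k, 76725 ≤ k → k < 83988 → pointOk (k * 22) = true := between_extend pointOk 22 76725 83979 9 (p5u805) p5r806

theorem p5r807 : allRange pointOk 22 83988 9 = true := by decide +kernel
theorem p5u807 : ∀ k, 76725 ≤ k → k < 83997 → pointOk (k * 22) = true := between_extend pointOk 22 76725 83988 9 (p5u806) p5r807

theorem p5r808 : allRange pointOk 22 83997 9 = true := by decide +kernel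
theorem p5u808 : ∀ k, 76725 ≤ k → k < 84006 → pointOk (k * 22) = true := between_extend pointOk 22 76725 83997 9 (p5u807) p5r808

theorem p5r809 : allRange pointOk 22 84006 9 = true := by decide +kernel
theorem p5u809 : ∀ k, 76725 ≤ k → k < 84015 → pointOk (k * 22) = true := between_extend pointOk 22 76725 84006 9 (p5u808) p5r809

theorem p5r810 : allRange pointOk 22 84015 9 = true := by decide +kernel
theorem p5u810 : ∀ k, 76725 ≤ k → k < 84024 → pointOk (k * 22) = true := between_extend pointOk 22 76725 84015 9 (p5u809) p5r810

theorem p5r811 : allRange pointOk 22 84024 9 = true := by decide +kernel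
theorem p5u811 : ∀ k, 76725 ≤ k → k < 84033 → pointOk (k * 22) = true := between_extend pointOk 22 76725 84024 9 (p5u810) p5r811

theorem p5r812 : allRange pointOk 22 84033 9 = true := by decide +kernel
theorem p5u812 : ∀ k, 76725 ≤ k → k < 84042 → pointOk (k * 22) = true := between_extend pointOk 22 76725 84033 9 (p5u811) p5r812

theorem p5r813 : allRange pointOk 22 84042 9 = true := by decide +kernel
theorem p5u813 : ∀ k, 76725 ≤ k → k < 84051 → pointOk (k * 22) = true := between_extend pointOk 22 76725 84042 9 (p5u812) p5r813

theorem p5r814 : allRange pointOk 22 84051 9 = true := by decide +kernel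
theorem p5u814 : ∀ k, 76725 ≤ k → k < 84060 → pointOk (k * 22) = true := between_extend pointOk 22 76725 84051 9 (p5u813) p5r814

theorem p5r815 : allRange pointOk 22 84060 9 = true := by decide +kernel
theorem p5u815 : ∀ k, 76725 ≤ k → k < 84069 → pointOk (k * 22) = true := between_extend pointOk 22 76725 84060 9 (p5u814) p5r815

theorem p5r816 : allRange pointOk 22 84069 9 = true := by decide +kernel
theorem p5u816 : ∀ k, 76725 ≤ k → k < 84078 → pointOk (k * 22) = true := between_extend pointOk 22 76725 84069 9 (p5u815) p5r816

theorem p5r817 : allRange pointOk 22 84078 9 = true := by decide +kernel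
theorem p5u817 : ∀ k, 76725 ≤ k → k < 84087 → pointOk (k * 22) = true := between_extend pointOk 22 76725 84078 9 (p5u816) p5r817

theorem p5r818 : allRange pointOk 22 84087 9 = true := by decide +kernel
theorem p5u818 : ∀ k, 76725 ≤ k → k < 84096 → pointOk (k * 22) = true := between_extend pointOk 22 76725 84087 9 (p5u817) p5r818

theorem p5r819 : allRange pointOk 22 84096 9 = true := by decide +kernel
theorem p5u819 : ∀ k, 76725 ≤ k → k < 84105 → pointOk (k * 22) = true := between_extend pointOk 22 76725 84096 9 (p5u818) p5r819

theorem p5r820 : allRange pointOk 22 84105 9 = true := by decide +kernel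
theorem p5u820 : ∀ k, 76725 ≤ k → k < 84114 → pointOk (k * 22) = true := between_extend pointOk 22 76725 84105 9 (p5u819) p5r820

theorem p5r821 : allRange pointOk 22 84114 9 = true := by decide +kernel
theorem p5u821 : ∀ k, 76725 ≤ k → k < 84123 → pointOk (k * 22) = true := between_extend pointOk 22 76725 84114 9 (p5u820) p5r821

theorem p5r822 : allRange pointOk 22 84123 9 = true := by decide +kernel
theorem p5u822 : ∀ k, 76725 ≤ k → k < 84132 → pointOk (k * 22) = true := between_extend pointOk 22 76725 84123 9 (p5u821) p5r822

theorem p5r823 : allRange pointOk 22 84132 9 = true := by decide +kernel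
theorem p5u823 : ∀ k, 76725 ≤ k → k < 84141 → pointOk (k * 22) = true := between_extend pointOk 22 76725 84132 9 (p5u822) p5r823

theorem p5r824 : allRange pointOk 22 84141 9 = true := by decide +kernel
theorem p5u824 : ∀ k, 76725 ≤ k → k < 84150 → pointOk (k * 22) = true := between_extend pointOk 22 76725 84141 9 (p5u823) p5r824

theorem p5r825 : allRange pointOk 22 84150 9 = true := by decide +kernel
theorem p5u825 : ∀ k, 76725 ≤ k → k < 84159 → pointOk (k * 22) = true := between_extend pointOk 22 76725 84150 9 (p5u824) p5r825

theorem p5r826 : allRange pointOk 22 84159 9 = true := by decide +kernel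
theorem p5u826 : ∀ k, 76725 ≤ k → k < 84168 → pointOk (k * 22) = true := between_extend pointOk 22 76725 84159 9 (p5u825) p5r826

theorem p5r827 : allRange pointOk 22 84168 9 = true := by decide +kernel
theorem p5u827 : ∀ k, 76725 ≤ k → k < 84177 → pointOk (k * 22) = true := between_extend pointOk 22 76725 84168 9 (p5u826) p5r827

theorem p5r828 : allRange pointOk 22 84177 9 = true := by decide +kernel
theorem p5u828 : ∀ k, 76725 ≤ k → k < 84186 → pointOk (k * 22) = true := between_extend pointOk 22 76725 84177 9 (p5u827) p5r828

theorem p5r829 : allRange pointOk 22 84186 9 = true := by decide +kernel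
theorem p5u829 : ∀ k, 76725 ≤ k → k < 84195 → pointOk (k * 22) = true := between_extend pointOk 22 76725 84186 9 (p5u828) p5r829

theorem p5r830 : allRange pointOk 22 84195 9 = true := by decide +kernel
theorem p5u830 : ∀ k, 76725 ≤ k → k < 84204 → pointOk (k * 22) = true := between_extend pointOk 22 76725 84195 9 (p5u829) p5r830

theorem p5r831 : allRange pointOk 22 84204 9 = true := by decide +kernel
theorem p5u831 : ∀ k, 76725 ≤ k → k < 84213 → pointOk (k * 22) = true := between_extend pointOk 22 76725 84204 9 (p5u830) p5r831

theorem p5r832 : allRange pointOk 22 84213 9 = true := by decide +kernel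
theorem p5u832 : ∀ k, 76725 ≤ k → k < 84222 → pointOk (k * 22) = true := between_extend pointOk 22 76725 84213 9 (p5u831) p5r832

theorem p5r833 : allRange pointOk 22 84222 9 = true := by decide +kernel
theorem p5u833 : ∀ k, 76725 ≤ k → k < 84231 → pointOk (k * 22) = true := between_extend pointOk 22 76725 84222 9 (p5u832) p5r833

theorem p5r834 : allRange pointOk 22 84231 9 = true := by decide +kernel
theorem p5u834 : ∀ k, 76725 ≤ k → k < 84240 → pointOk (k * 22) = true := between_extend pointOk 22 76725 84231 9 (p5u833) p5r834

theorem p5r835 : allRange pointOk 22 84240 9 = true := by decide +kernel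
theorem p5u835 : ∀ k, 76725 ≤ k → k < 84249 → pointOk (k * 22) = true := between_extend pointOk 22 76725 84240 9 (p5u834) p5r835

theorem p5r836 : allRange pointOk 22 84249 9 = true := by decide +kernel
theorem p5u836 : ∀ k, 76725 ≤ k → k < 84258 → pointOk (k * 22) = true := between_extend pointOk 22 76725 84249 9 (p5u835) p5r836

theorem p5r837 : allRange pointOk 22 84258 9 = true := by decide +kernel
theorem p5u837 : ∀ k, 76725 ≤ k → k < 84267 → pointOk (k * 22) = true := between_extend pointOk 22 76725 84258 9 (p5u836) p5r837

theorem p5r838 : allRange pointOk 22 84267 9 = true := by decide +kernel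
theorem p5u838 : ∀ k, 76725 ≤ k → k < 84276 → pointOk (k * 22) = true := between_extend pointOk 22 76725 84267 9 (p5u837) p5r838

theorem p5r839 : allRange pointOk 22 84276 9 = true := by decide +kernel
theorem p5u839 : ∀ k, 76725 ≤ k → k < 84285 → pointOk (k * 22) = true := between_extend pointOk 22 76725 84276 9 (p5u838) p5r839

theorem p5r840 : allRange pointOk 22 84285 9 = true := by decide +kernel
theorem p5u840 : ∀ k, 76725 ≤ k → k < 84294 → pointOk (k * 22) = true := between_extend pointOk 22 76725 84285 9 (p5u839) p5r840

theorem p5r841 : allRange pointOk 22 84294 9 = true := by decide +kernel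
theorem p5u841 : ∀ k, 76725 ≤ k → k < 84303 → pointOk (k * 22) = true := between_extend pointOk 22 76725 84294 9 (p5u840) p5r841

theorem p5r842 : allRange pointOk 22 84303 9 = true := by decide +kernel
theorem p5u842 : ∀ k, 76725 ≤ k → k < 84312 → pointOk (k * 22) = true := between_extend pointOk 22 76725 84303 9 (p5u841) p5r842

theorem p5r843 : allRange pointOk 22 84312 9 = true := by decide +kernel
theorem p5u843 : ∀ k, 76725 ≤ k → k < 84321 → pointOk (k * 22) = true := between_extend pointOk 22 76725 84312 9 (p5u842) p5r843

theorem p5r844 : allRange pointOk 22 84321 9 = true := by decide +kernel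
theorem p5u844 : ∀ k, 76725 ≤ k → k < 84330 → pointOk (k * 22) = true := between_extend pointOk 22 76725 84321 9 (p5u843) p5r844

theorem p5r845 : allRange pointOk 22 84330 9 = true := by decide +kernel
theorem p5u845 : ∀ k, 76725 ≤ k → k < 84339 → pointOk (k * 22) = true := between_extend pointOk 22 76725 84330 9 (p5u844) p5r845

theorem p5r846 : allRange pointOk 22 84339 9 = true := by decide +kernel
theorem p5u846 : ∀ k, 76725 ≤ k → k < 84348 → pointOk (k * 22) = true := between_extend pointOk 22 76725 84339 9 (p5u845) p5r846

theorem p5r847 : allRange pointOk 22 84348 9 = true := by decide +kernel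
theorem p5u847 : ∀ k, 76725 ≤ k → k < 84357 → pointOk (k * 22) = true := between_extend pointOk 22 76725 84348 9 (p5u846) p5r847

theorem p5r848 : allRange pointOk 22 84357 9 = true := by decide +kernel
theorem p5u848 : ∀ k, 76725 ≤ k → k < 84366 → pointOk (k * 22) = true := between_extend pointOk 22 76725 84357 9 (p5u847) p5r848

theorem p5r849 : allRange pointOk 22 84366 9 = true := by decide +kernel
theorem p5u849 : ∀ k, 76725 ≤ k → k < 84375 → pointOk (k * 22) = true := between_extend pointOk 22 76725 84366 9 (p5u848) p5r849

theorem p5r850 : allRange pointOk 22 84375 9 = true := by decide +kernel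
theorem p5u850 : ∀ k, 76725 ≤ k → k < 84384 → pointOk (k * 22) = true := between_extend pointOk 22 76725 84375 9 (p5u849) p5r850

theorem p5r851 : allRange pointOk 22 84384 9 = true := by decide +kernel
theorem p5u851 : ∀ k, 76725 ≤ k → k < 84393 → pointOk (k * 22) = true := between_extend pointOk 22 76725 84384 9 (p5u850) p5r851

theorem p5r852 : allRange pointOk 22 84393 9 = true := by decide +kernel
theorem p5u852 : ∀ k, 76725 ≤ k → k < 84402 → pointOk (k * 22) = true := between_extend pointOk 22 76725 84393 9 (p5u851) p5r852

theorem p5r853 : allRange pointOk 22 84402 9 = true := by decide +kernel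
theorem p5u853 : ∀ k, 76725 ≤ k → k < 84411 → pointOk (k * 22) = true := between_extend pointOk 22 76725 84402 9 (p5u852) p5r853

theorem p5r854 : allRange pointOk 22 84411 9 = true := by decide +kernel
theorem p5u854 : ∀ k, 76725 ≤ k → k < 84420 → pointOk (k * 22) = true := between_extend pointOk 22 76725 84411 9 (p5u853) p5r854

theorem p5r855 : allRange pointOk 22 84420 9 = true := by decide +kernel
theorem p5u855 : ∀ k, 76725 ≤ k → k < 84429 → pointOk (k * 22) = true := between_extend pointOk 22 76725 84420 9 (p5u854) p5r855

theorem p5r856 : allRange pointOk 22 84429 9 = true := by decide +kernel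
theorem p5u856 : ∀ k, 76725 ≤ k → k < 84438 → pointOk (k * 22) = true := between_extend pointOk 22 76725 84429 9 (p5u855) p5r856

theorem p5r857 : allRange pointOk 22 84438 9 = true := by decide +kernel
theorem p5u857 : ∀ k, 76725 ≤ k → k < 84447 → pointOk (k * 22) = true := between_extend pointOk 22 76725 84438 9 (p5u856) p5r857

theorem p5r858 : allRange pointOk 22 84447 9 = true := by decide +kernel
theorem p5u858 : ∀ k, 76725 ≤ k → k < 84456 → pointOk (k * 22) = true := between_extend pointOk 22 76725 84447 9 (p5u857) p5r858

theorem p5r859 : allRange pointOk 22 84456 9 = true := by decide +kernel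
theorem p5u859 : ∀ k, 76725 ≤ k → k < 84465 → pointOk (k * 22) = true := between_extend pointOk 22 76725 84456 9 (p5u858) p5r859

theorem p5r860 : allRange pointOk 22 84465 9 = true := by decide +kernel
theorem p5u860 : ∀ k, 76725 ≤ k → k < 84474 → pointOk (k * 22) = true := between_extend pointOk 22 76725 84465 9 (p5u859) p5r860

theorem p5r861 : allRange pointOk 22 84474 9 = true := by decide +kernel
theorem p5u861 : ∀ k, 76725 ≤ k → k < 84483 → pointOk (k * 22) = true := between_extend pointOk 22 76725 84474 9 (p5u860) p5r861

theorem p5r862 : allRange pointOk 22 84483 9 = true := by decide +kernel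
theorem p5u862 : ∀ k, 76725 ≤ k → k < 84492 → pointOk (k * 22) = true := between_extend pointOk 22 76725 84483 9 (p5u861) p5r862

theorem p5r863 : allRange pointOk 22 84492 9 = true := by decide +kernel
theorem p5u863 : ∀ k, 76725 ≤ k → k < 84501 → pointOk (k * 22) = true := between_extend pointOk 22 76725 84492 9 (p5u862) p5r863

theorem p5r864 : allRange pointOk 22 84501 9 = true := by decide +kernel
theorem p5u864 : ∀ k, 76725 ≤ k → k < 84510 → pointOk (k * 22) = true := between_extend pointOk 22 76725 84501 9 (p5u863) p5r864

theorem p5r865 : allRange pointOk 22 84510 9 = true := by decide +kernel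
theorem p5u865 : ∀ k, 76725 ≤ k → k < 84519 → pointOk (k * 22) = true := between_extend pointOk 22 76725 84510 9 (p5u864) p5r865

theorem p5r866 : allRange pointOk 22 84519 9 = true := by decide +kernel
theorem p5u866 : ∀ k, 76725 ≤ k → k < 84528 → pointOk (k * 22) = true := between_extend pointOk 22 76725 84519 9 (p5u865) p5r866

theorem p5r867 : allRange pointOk 22 84528 9 = true := by decide +kernel
theorem p5u867 : ∀ k, 76725 ≤ k → k < 84537 → pointOk (k * 22) = true := between_extend pointOk 22 76725 84528 9 (p5u866) p5r867

theorem p5r868 : allRange pointOk 22 84537 9 = true := by decide +kernel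
theorem p5u868 : ∀ k, 76725 ≤ k → k < 84546 → pointOk (k * 22) = true := between_extend pointOk 22 76725 84537 9 (p5u867) p5r868

theorem p5r869 : allRange pointOk 22 84546 9 = true := by decide +kernel
theorem p5u869 : ∀ k, 76725 ≤ k → k < 84555 → pointOk (k * 22) = true := between_extend pointOk 22 76725 84546 9 (p5u868) p5r869

theorem p5r870 : allRange pointOk 22 84555 9 = true := by decide +kernel
theorem p5u870 : ∀ k, 76725 ≤ k → k < 84564 → pointOk (k * 22) = true := between_extend pointOk 22 76725 84555 9 (p5u869) p5r870

theorem p5r871 : allRange pointOk 22 84564 9 = true := by decide +kernel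
theorem p5u871 : ∀ k, 76725 ≤ k → k < 84573 → pointOk (k * 22) = true := between_extend pointOk 22 76725 84564 9 (p5u870) p5r871

theorem p5r872 : allRange pointOk 22 84573 9 = true := by decide +kernel
theorem p5u872 : ∀ k, 76725 ≤ k → k < 84582 → pointOk (k * 22) = true := between_extend pointOk 22 76725 84573 9 (p5u871) p5r872

theorem p5r873 : allRange pointOk 22 84582 9 = true := by decide +kernel
theorem p5u873 : ∀ k, 76725 ≤ k → k < 84591 → pointOk (k * 22) = true := between_extend pointOk 22 76725 84582 9 (p5u872) p5r873

theorem p5r874 : allRange pointOk 22 84591 9 = true := by decide +kernel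
theorem p5u874 : ∀ k, 76725 ≤ k → k < 84600 → pointOk (k * 22) = true := between_extend pointOk 22 76725 84591 9 (p5u873) p5r874

theorem p5r875 : allRange pointOk 22 84600 9 = true := by decide +kernel
theorem p5u875 : ∀ k, 76725 ≤ k → k < 84609 → pointOk (k * 22) = true := between_extend pointOk 22 76725 84600 9 (p5u874) p5r875

theorem p5r876 : allRange pointOk 22 84609 9 = true := by decide +kernel
theorem p5u876 : ∀ k, 76725 ≤ k → k < 84618 → pointOk (k * 22) = true := between_extend pointOk 22 76725 84609 9 (p5u875) p5r876

theorem p5r877 : allRange pointOk 22 84618 9 = true := by decide +kernel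
theorem p5u877 : ∀ k, 76725 ≤ k → k < 84627 → pointOk (k * 22) = true := between_extend pointOk 22 76725 84618 9 (p5u876) p5r877

theorem p5r878 : allRange pointOk 22 84627 9 = true := by decide +kernel
theorem p5u878 : ∀ k, 76725 ≤ k → k < 84636 → pointOk (k * 22) = true := between_extend pointOk 22 76725 84627 9 (p5u877) p5r878

theorem p5r879 : allRange pointOk 22 84636 9 = true := by decide +kernel
theorem p5u879 : ∀ k, 76725 ≤ k → k < 84645 → pointOk (k * 22) = true := between_extend pointOk 22 76725 84636 9 (p5u878) p5r879

theorem p5r880 : allRange pointOk 22 84645 9 = true := by decide +kernel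
theorem p5u880 : ∀ k, 76725 ≤ k → k < 84654 → pointOk (k * 22) = true := between_extend pointOk 22 76725 84645 9 (p5u879) p5r880

theorem p5r881 : allRange pointOk 22 84654 9 = true := by decide +kernel
theorem p5u881 : ∀ k, 76725 ≤ k → k < 84663 → pointOk (k * 22) = true := between_extend pointOk 22 76725 84654 9 (p5u880) p5r881

theorem p5r882 : allRange pointOk 22 84663 9 = true := by decide +kernel
theorem p5u882 : ∀ k, 76725 ≤ k → k < 84672 → pointOk (k * 22) = true := between_extend pointOk 22 76725 84663 9 (p5u881) p5r882

theorem p5r883 : allRange pointOk 22 84672 9 = true := by decide +kernel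
theorem p5u883 : ∀ k, 76725 ≤ k → k < 84681 → pointOk (k * 22) = true := between_extend pointOk 22 76725 84672 9 (p5u882) p5r883

theorem p5r884 : allRange pointOk 22 84681 9 = true := by decide +kernel
theorem p5u884 : ∀ k, 76725 ≤ k → k < 84690 → pointOk (k * 22) = true := between_extend pointOk 22 76725 84681 9 (p5u883) p5r884

theorem p5r885 : allRange pointOk 22 84690 9 = true := by decide +kernel
theorem p5u885 : ∀ k, 76725 ≤ k → k < 84699 → pointOk (k * 22) = true := between_extend pointOk 22 76725 84690 9 (p5u884) p5r885

theorem p5r886 : allRange pointOk 22 84699 9 = true := by decide +kernel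
theorem p5u886 : ∀ k, 76725 ≤ k → k < 84708 → pointOk (k * 22) = true := between_extend pointOk 22 76725 84699 9 (p5u885) p5r886

theorem p5r887 : allRange pointOk 22 84708 9 = true := by decide +kernel
theorem p5u887 : ∀ k, 76725 ≤ k → k < 84717 → pointOk (k * 22) = true := between_extend pointOk 22 76725 84708 9 (p5u886) p5r887

theorem p5r888 : allRange pointOk 22 84717 9 = true := by decide +kernel
theorem p5u888 : ∀ k, 76725 ≤ k → k < 84726 → pointOk (k * 22) = true := between_extend pointOk 22 76725 84717 9 (p5u887) p5r888

theorem p5r889 : allRange pointOk 22 84726 9 = true := by decide +kernel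
theorem p5u889 : ∀ k, 76725 ≤ k → k < 84735 → pointOk (k * 22) = true := between_extend pointOk 22 76725 84726 9 (p5u888) p5r889

theorem p5r890 : allRange pointOk 22 84735 9 = true := by decide +kernel
theorem p5u890 : ∀ k, 76725 ≤ k → k < 84744 → pointOk (k * 22) = true := between_extend pointOk 22 76725 84735 9 (p5u889) p5r890

theorem p5r891 : allRange pointOk 22 84744 9 = true := by decide +kernel
theorem p5u891 : ∀ k, 76725 ≤ k → k < 84753 → pointOk (k * 22) = true := between_extend pointOk 22 76725 84744 9 (p5u890) p5r891

theorem p5r892 : allRange pointOk 22 84753 9 = true := by decide +kernel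
theorem p5u892 : ∀ k, 76725 ≤ k → k < 84762 → pointOk (k * 22) = true := between_extend pointOk 22 76725 84753 9 (p5u891) p5r892

theorem p5r893 : allRange pointOk 22 84762 9 = true := by decide +kernel
theorem p5u893 : ∀ k, 76725 ≤ k → k < 84771 → pointOk (k * 22) = true := between_extend pointOk 22 76725 84762 9 (p5u892) p5r893

theorem p5r894 : allRange pointOk 22 84771 9 = true := by decide +kernel
theorem p5u894 : ∀ k, 76725 ≤ k → k < 84780 → pointOk (k * 22) = true := between_extend pointOk 22 76725 84771 9 (p5u893) p5r894

theorem p5r895 : allRange pointOk 22 84780 9 = true := by decide +kernel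
theorem p5u895 : ∀ k, 76725 ≤ k → k < 84789 → pointOk (k * 22) = true := between_extend pointOk 22 76725 84780 9 (p5u894) p5r895

theorem p5r896 : allRange pointOk 22 84789 9 = true := by decide +kernel
theorem p5u896 : ∀ k, 76725 ≤ k → k < 84798 → pointOk (k * 22) = true := between_extend pointOk 22 76725 84789 9 (p5u895) p5r896

theorem p5r897 : allRange pointOk 22 84798 9 = true := by decide +kernel
theorem p5u897 : ∀ k, 76725 ≤ k → k < 84807 → pointOk (k * 22) = true := between_extend pointOk 22 76725 84798 9 (p5u896) p5r897

theorem p5r898 : allRange pointOk 22 84807 9 = true := by decide +kernel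
theorem p5u898 : ∀ k, 76725 ≤ k → k < 84816 → pointOk (k * 22) = true := between_extend pointOk 22 76725 84807 9 (p5u897) p5r898

theorem p5r899 : allRange pointOk 22 84816 9 = true := by decide +kernel
theorem p5u899 : ∀ k, 76725 ≤ k → k < 84825 → pointOk (k * 22) = true := between_extend pointOk 22 76725 84816 9 (p5u898) p5r899

theorem p5r900 : allRange pointOk 22 84825 9 = true := by decide +kernel
theorem p5u900 : ∀ k, 76725 ≤ k → k < 84834 → pointOk (k * 22) = true := between_extend pointOk 22 76725 84825 9 (p5u899) p5r900

theorem p5r901 : allRange pointOk 22 84834 9 = true := by decide +kernel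
theorem p5u901 : ∀ k, 76725 ≤ k → k < 84843 → pointOk (k * 22) = true := between_extend pointOk 22 76725 84834 9 (p5u900) p5r901

theorem p5r902 : allRange pointOk 22 84843 9 = true := by decide +kernel
theorem p5u902 : ∀ k, 76725 ≤ k → k < 84852 → pointOk (k * 22) = true := between_extend pointOk 22 76725 84843 9 (p5u901) p5r902

theorem p5r903 : allRange pointOk 22 84852 9 = true := by decide +kernel
theorem p5u903 : ∀ k, 76725 ≤ k → k < 84861 → pointOk (k * 22) = true := between_extend pointOk 22 76725 84852 9 (p5u902) p5r903

theorem p5r904 : allRange pointOk 22 84861 9 = true := by decide +kernel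
theorem p5u904 : ∀ k, 76725 ≤ k → k < 84870 → pointOk (k * 22) = true := between_extend pointOk 22 76725 84861 9 (p5u903) p5r904

theorem p5r905 : allRange pointOk 22 84870 9 = true := by decide +kernel
theorem p5u905 : ∀ k, 76725 ≤ k → k < 84879 → pointOk (k * 22) = true := between_extend pointOk 22 76725 84870 9 (p5u904) p5r905

theorem p5r906 : allRange pointOk 22 84879 9 = true := by decide +kernel
theorem p5u906 : ∀ k, 76725 ≤ k → k < 84888 → pointOk (k * 22) = true := between_extend pointOk 22 76725 84879 9 (p5u905) p5r906

theorem p5r907 : allRange pointOk 22 84888 9 = true := by decide +kernel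
theorem p5u907 : ∀ k, 76725 ≤ k → k < 84897 → pointOk (k * 22) = true := between_extend pointOk 22 76725 84888 9 (p5u906) p5r907

theorem p5r908 : allRange pointOk 22 84897 9 = true := by decide +kernel
theorem p5u908 : ∀ k, 76725 ≤ k → k < 84906 → pointOk (k * 22) = true := between_extend pointOk 22 76725 84897 9 (p5u907) p5r908

theorem p5r909 : allRange pointOk 22 84906 9 = true := by decide +kernel
theorem p5u909 : ∀ k, 76725 ≤ k → k < 84915 → pointOk (k * 22) = true := between_extend pointOk 22 76725 84906 9 (p5u908) p5r909

theorem p5r910 : allRange pointOk 22 84915 9 = true := by decide +kernel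
theorem p5u910 : ∀ k, 76725 ≤ k → k < 84924 → pointOk (k * 22) = true := between_extend pointOk 22 76725 84915 9 (p5u909) p5r910

theorem p5r911 : allRange pointOk 22 84924 9 = true := by decide +kernel
theorem p5u911 : ∀ k, 76725 ≤ k → k < 84933 → pointOk (k * 22) = true := between_extend pointOk 22 76725 84924 9 (p5u910) p5r911

theorem p5r912 : allRange pointOk 22 84933 9 = true := by decide +kernel
theorem p5u912 : ∀ k, 76725 ≤ k → k < 84942 → pointOk (k * 22) = true := between_extend pointOk 22 76725 84933 9 (p5u911) p5r912

theorem p5r913 : allRange pointOk 22 84942 9 = true := by decide +kernel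
theorem p5u913 : ∀ k, 76725 ≤ k → k < 84951 → pointOk (k * 22) = true := between_extend pointOk 22 76725 84942 9 (p5u912) p5r913

theorem p5r914 : allRange pointOk 22 84951 9 = true := by decide +kernel
theorem p5u914 : ∀ k, 76725 ≤ k → k < 84960 → pointOk (k * 22) = true := between_extend pointOk 22 76725 84951 9 (p5u913) p5r914

theorem p5r915 : allRange pointOk 22 84960 9 = true := by decide +kernel
theorem p5u915 : ∀ k, 76725 ≤ k → k < 84969 → pointOk (k * 22) = true := between_extend pointOk 22 76725 84960 9 (p5u914) p5r915

theorem p5r916 : allRange pointOk 22 84969 9 = true := by decide +kernel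
theorem p5u916 : ∀ k, 76725 ≤ k → k < 84978 → pointOk (k * 22) = true := between_extend pointOk 22 76725 84969 9 (p5u915) p5r916

theorem p5r917 : allRange pointOk 22 84978 9 = true := by decide +kernel
theorem p5u917 : ∀ k, 76725 ≤ k → k < 84987 → pointOk (k * 22) = true := between_extend pointOk 22 76725 84978 9 (p5u916) p5r917

theorem p5r918 : allRange pointOk 22 84987 9 = true := by decide +kernel
theorem p5u918 : ∀ k, 76725 ≤ k → k < 84996 → pointOk (k * 22) = true := between_extend pointOk 22 76725 84987 9 (p5u917) p5r918

theorem p5r919 : allRange pointOk 22 84996 9 = true := by decide +kernel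
theorem p5u919 : ∀ k, 76725 ≤ k → k < 85005 → pointOk (k * 22) = true := between_extend pointOk 22 76725 84996 9 (p5u918) p5r919

theorem p5r920 : allRange pointOk 22 85005 9 = true := by decide +kernel
theorem p5u920 : ∀ k, 76725 ≤ k → k < 85014 → pointOk (k * 22) = true := between_extend pointOk 22 76725 85005 9 (p5u919) p5r920

theorem p5r921 : allRange pointOk 22 85014 9 = true := by decide +kernel
theorem p5u921 : ∀ k, 76725 ≤ k → k < 85023 → pointOk (k * 22) = true := between_extend pointOk 22 76725 85014 9 (p5u920) p5r921

theorem p5r922 : allRange pointOk 22 85023 9 = true := by decide +kernel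
theorem p5u922 : ∀ k, 76725 ≤ k → k < 85032 → pointOk (k * 22) = true := between_extend pointOk 22 76725 85023 9 (p5u921) p5r922

theorem p5r923 : allRange pointOk 22 85032 9 = true := by decide +kernel
theorem p5u923 : ∀ k, 76725 ≤ k → k < 85041 → pointOk (k * 22) = true := between_extend pointOk 22 76725 85032 9 (p5u922) p5r923

theorem p5r924 : allRange pointOk 22 85041 9 = true := by decide +kernel
theorem p5u924 : ∀ k, 76725 ≤ k → k < 85050 → pointOk (k * 22) = true := between_extend pointOk 22 76725 85041 9 (p5u923) p5r924

theorem p5r925 : allRange pointOk 22 85050 9 = true := by decide +kernel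
theorem p5u925 : ∀ k, 76725 ≤ k → k < 85059 → pointOk (k * 22) = true := between_extend pointOk 22 76725 85050 9 (p5u924) p5r925

theorem p5r926 : allRange pointOk 22 85059 9 = true := by decide +kernel
theorem p5u926 : ∀ k, 76725 ≤ k → k < 85068 → pointOk (k * 22) = true := between_extend pointOk 22 76725 85059 9 (p5u925) p5r926

theorem p5r927 : allRange pointOk 22 85068 9 = true := by decide +kernel
theorem p5u927 : ∀ k, 76725 ≤ k → k < 85077 → pointOk (k * 22) = true := between_extend pointOk 22 76725 85068 9 (p5u926) p5r927

theorem p5r928 : allRange pointOk 22 85077 9 = true := by decide +kernel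
theorem p5u928 : ∀ k, 76725 ≤ k → k < 85086 → pointOk (k * 22) = true := between_extend pointOk 22 76725 85077 9 (p5u927) p5r928

theorem p5r929 : allRange pointOk 22 85086 9 = true := by decide +kernel
theorem p5u929 : ∀ k, 76725 ≤ k → k < 85095 → pointOk (k * 22) = true := between_extend pointOk 22 76725 85086 9 (p5u928) p5r929

theorem p5r930 : allRange pointOk 22 85095 9 = true := by decide +kernel
theorem p5u930 : ∀ k, 76725 ≤ k → k < 85104 → pointOk (k * 22) = true := between_extend pointOk 22 76725 85095 9 (p5u929) p5r930

theorem p5r931 : allRange pointOk 22 85104 9 = true := by decide +kernel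
theorem p5u931 : ∀ k, 76725 ≤ k → k < 85113 → pointOk (k * 22) = true := between_extend pointOk 22 76725 85104 9 (p5u930) p5r931

theorem p5r932 : allRange pointOk 22 85113 9 = true := by decide +kernel
theorem p5u932 : ∀ k, 76725 ≤ k → k < 85122 → pointOk (k * 22) = true := between_extend pointOk 22 76725 85113 9 (p5u931) p5r932

theorem p5r933 : allRange pointOk 22 85122 9 = true := by decide +kernel
theorem p5u933 : ∀ k, 76725 ≤ k → k < 85131 → pointOk (k * 22) = true := between_extend pointOk 22 76725 85122 9 (p5u932) p5r933

theorem p5r934 : allRange pointOk 22 85131 9 = true := by decide +kernel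
theorem p5u934 : ∀ k, 76725 ≤ k → k < 85140 → pointOk (k * 22) = true := between_extend pointOk 22 76725 85131 9 (p5u933) p5r934

theorem p5r935 : allRange pointOk 22 85140 9 = true := by decide +kernel
theorem p5u935 : ∀ k, 76725 ≤ k → k < 85149 → pointOk (k * 22) = true := between_extend pointOk 22 76725 85140 9 (p5u934) p5r935

theorem p5r936 : allRange pointOk 22 85149 9 = true := by decide +kernel
theorem p5u936 : ∀ k, 76725 ≤ k → k < 85158 → pointOk (k * 22) = true := between_extend pointOk 22 76725 85149 9 (p5u935) p5r936

theorem p5r937 : allRange pointOk 22 85158 9 = true := by decide +kernel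
theorem p5u937 : ∀ k, 76725 ≤ k → k < 85167 → pointOk (k * 22) = true := between_extend pointOk 22 76725 85158 9 (p5u936) p5r937

theorem p5r938 : allRange pointOk 22 85167 9 = true := by decide +kernel
theorem p5u938 : ∀ k, 76725 ≤ k → k < 85176 → pointOk (k * 22) = true := between_extend pointOk 22 76725 85167 9 (p5u937) p5r938

theorem p5r939 : allRange pointOk 22 85176 9 = true := by decide +kernel
theorem p5u939 : ∀ k, 76725 ≤ k → k < 85185 → pointOk (k * 22) = true := between_extend pointOk 22 76725 85176 9 (p5u938) p5r939

theorem p5r940 : allRange pointOk 22 85185 9 = true := by decide +kernel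
theorem p5u940 : ∀ k, 76725 ≤ k → k < 85194 → pointOk (k * 22) = true := between_extend pointOk 22 76725 85185 9 (p5u939) p5r940

theorem p5r941 : allRange pointOk 22 85194 9 = true := by decide +kernel
theorem p5u941 : ∀ k, 76725 ≤ k → k < 85203 → pointOk (k * 22) = true := between_extend pointOk 22 76725 85194 9 (p5u940) p5r941

theorem p5r942 : allRange pointOk 22 85203 9 = true := by decide +kernel
theorem p5u942 : ∀ k, 76725 ≤ k → k < 85212 → pointOk (k * 22) = true := between_extend pointOk 22 76725 85203 9 (p5u941) p5r942

theorem p5r943 : allRange pointOk 22 85212 9 = true := by decide +kernel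
theorem p5u943 : ∀ k, 76725 ≤ k → k < 85221 → pointOk (k * 22) = true := between_extend pointOk 22 76725 85212 9 (p5u942) p5r943

theorem p5r944 : allRange pointOk 22 85221 9 = true := by decide +kernel
theorem p5u944 : ∀ k, 76725 ≤ k → k < 85230 → pointOk (k * 22) = true := between_extend pointOk 22 76725 85221 9 (p5u943) p5r944

theorem p5r945 : allRange pointOk 22 85230 9 = true := by decide +kernel
theorem p5u945 : ∀ k, 76725 ≤ k → k < 85239 → pointOk (k * 22) = true := between_extend pointOk 22 76725 85230 9 (p5u944) p5r945

theorem p5r946 : allRange pointOk 22 85239 9 = true := by decide +kernel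
theorem p5u946 : ∀ k, 76725 ≤ k → k < 85248 → pointOk (k * 22) = true := between_extend pointOk 22 76725 85239 9 (p5u945) p5r946

theorem p5r947 : allRange pointOk 22 85248 9 = true := by decide +kernel
theorem p5u947 : ∀ k, 76725 ≤ k → k < 85257 → pointOk (k * 22) = true := between_extend pointOk 22 76725 85248 9 (p5u946) p5r947

theorem p5r948 : allRange pointOk 22 85257 9 = true := by decide +kernel
theorem p5u948 : ∀ k, 76725 ≤ k → k < 85266 → pointOk (k * 22) = true := between_extend pointOk 22 76725 85257 9 (p5u947) p5r948

theorem p5r949 : allRange pointOk 22 85266 9 = true := by decide +kernel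
theorem p5u949 : ∀ k, 76725 ≤ k → k < 85275 → pointOk (k * 22) = true := between_extend pointOk 22 76725 85266 9 (p5u948) p5r949

theorem p5r950 : allRange pointOk 22 85275 9 = true := by decide +kernel
theorem p5u950 : ∀ k, 76725 ≤ k → k < 85284 → pointOk (k * 22) = true := between_extend pointOk 22 76725 85275 9 (p5u949) p5r950

theorem p5r951 : allRange pointOk 22 85284 9 = true := by decide +kernel
theorem p5u951 : ∀ k, 76725 ≤ k → k < 85293 → pointOk (k * 22) = true := between_extend pointOk 22 76725 85284 9 (p5u950) p5r951

theorem p5r952 : allRange pointOk 22 85293 9 = true := by decide +kernel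
theorem p5u952 : ∀ k, 76725 ≤ k → k < 85302 → pointOk (k * 22) = true := between_extend pointOk 22 76725 85293 9 (p5u951) p5r952

theorem p5r953 : allRange pointOk 22 85302 9 = true := by decide +kernel
theorem p5u953 : ∀ k, 76725 ≤ k → k < 85311 → pointOk (k * 22) = true := between_extend pointOk 22 76725 85302 9 (p5u952) p5r953

theorem p5r954 : allRange pointOk 22 85311 9 = true := by decide +kernel
theorem p5u954 : ∀ k, 76725 ≤ k → k < 85320 → pointOk (k * 22) = true := between_extend pointOk 22 76725 85311 9 (p5u953) p5r954

theorem p5r955 : allRange pointOk 22 85320 9 = true := by decide +kernel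
theorem p5u955 : ∀ k, 76725 ≤ k → k < 85329 → pointOk (k * 22) = true := between_extend pointOk 22 76725 85320 9 (p5u954) p5r955

theorem p5r956 : allRange pointOk 22 85329 9 = true := by decide +kernel
theorem p5u956 : ∀ k, 76725 ≤ k → k < 85338 → pointOk (k * 22) = true := between_extend pointOk 22 76725 85329 9 (p5u955) p5r956

theorem p5r957 : allRange pointOk 22 85338 9 = true := by decide +kernel
theorem p5u957 : ∀ k, 76725 ≤ k → k < 85347 → pointOk (k * 22) = true := between_extend pointOk 22 76725 85338 9 (p5u956) p5r957

theorem p5r958 : allRange pointOk 22 85347 9 = true := by decide +kernel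
theorem p5u958 : ∀ k, 76725 ≤ k → k < 85356 → pointOk (k * 22) = true := between_extend pointOk 22 76725 85347 9 (p5u957) p5r958

theorem p5r959 : allRange pointOk 22 85356 9 = true := by decide +kernel
theorem p5u959 : ∀ k, 76725 ≤ k → k < 85365 → pointOk (k * 22) = true := between_extend pointOk 22 76725 85356 9 (p5u958) p5r959

theorem p5r960 : allRange pointOk 22 85365 9 = true := by decide +kernel
theorem p5u960 : ∀ k, 76725 ≤ k → k < 85374 → pointOk (k * 22) = true := between_extend pointOk 22 76725 85365 9 (p5u959) p5r960

theorem p5r961 : allRange pointOk 22 85374 9 = true := by decide +kernel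
theorem p5u961 : ∀ k, 76725 ≤ k → k < 85383 → pointOk (k * 22) = true := between_extend pointOk 22 76725 85374 9 (p5u960) p5r961

theorem p5r962 : allRange pointOk 22 85383 9 = true := by decide +kernel
theorem p5u962 : ∀ k, 76725 ≤ k → k < 85392 → pointOk (k * 22) = true := between_extend pointOk 22 76725 85383 9 (p5u961) p5r962

theorem p5r963 : allRange pointOk 22 85392 9 = true := by decide +kernel
theorem p5u963 : ∀ k, 76725 ≤ k → k < 85401 → pointOk (k * 22) = true := between_extend pointOk 22 76725 85392 9 (p5u962) p5r963

theorem p5r964 : allRange pointOk 22 85401 9 = true := by decide +kernel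
theorem p5u964 : ∀ k, 76725 ≤ k → k < 85410 → pointOk (k * 22) = true := between_extend pointOk 22 76725 85401 9 (p5u963) p5r964

theorem p5r965 : allRange pointOk 22 85410 9 = true := by decide +kernel
theorem p5u965 : ∀ k, 76725 ≤ k → k < 85419 → pointOk (k * 22) = true := between_extend pointOk 22 76725 85410 9 (p5u964) p5r965

theorem p5r966 : allRange pointOk 22 85419 9 = true := by decide +kernel
theorem p5u966 : ∀ k, 76725 ≤ k → k < 85428 → pointOk (k * 22) = true := between_extend pointOk 22 76725 85419 9 (p5u965) p5r966

theorem p5r967 : allRange pointOk 22 85428 9 = true := by decide +kernel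
theorem p5u967 : ∀ k, 76725 ≤ k → k < 85437 → pointOk (k * 22) = true := between_extend pointOk 22 76725 85428 9 (p5u966) p5r967

theorem p5r968 : allRange pointOk 22 85437 9 = true := by decide +kernel
theorem p5u968 : ∀ k, 76725 ≤ k → k < 85446 → pointOk (k * 22) = true := between_extend pointOk 22 76725 85437 9 (p5u967) p5r968

theorem p5r969 : allRange pointOk 22 85446 9 = true := by decide +kernel
theorem p5u969 : ∀ k, 76725 ≤ k → k < 85455 → pointOk (k * 22) = true := between_extend pointOk 22 76725 85446 9 (p5u968) p5r969

theorem p5r970 : allRange pointOk 22 85455 9 = true := by decide +kernel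
theorem p5u970 : ∀ k, 76725 ≤ k → k < 85464 → pointOk (k * 22) = true := between_extend pointOk 22 76725 85455 9 (p5u969) p5r970

theorem p5r971 : allRange pointOk 22 85464 9 = true := by decide +kernel
theorem p5u971 : ∀ k, 76725 ≤ k → k < 85473 → pointOk (k * 22) = true := between_extend pointOk 22 76725 85464 9 (p5u970) p5r971

theorem p5r972 : allRange pointOk 22 85473 9 = true := by decide +kernel
theorem p5u972 : ∀ k, 76725 ≤ k → k < 85482 → pointOk (k * 22) = true := between_extend pointOk 22 76725 85473 9 (p5u971) p5r972

theorem p5r973 : allRange pointOk 22 85482 9 = true := by decide +kernel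
theorem p5u973 : ∀ k, 76725 ≤ k → k < 85491 → pointOk (k * 22) = true := between_extend pointOk 22 76725 85482 9 (p5u972) p5r973

theorem p5r974 : allRange pointOk 22 85491 9 = true := by decide +kernel
theorem p5u974 : ∀ k, 76725 ≤ k → k < 85500 → pointOk (k * 22) = true := between_extend pointOk 22 76725 85491 9 (p5u973) p5r974

theorem p5r975 : allRange pointOk 22 85500 9 = true := by decide +kernel
theorem p5u975 : ∀ k, 76725 ≤ k → k < 85509 → pointOk (k * 22) = true := between_extend pointOk 22 76725 85500 9 (p5u974) p5r975

theorem p5r976 : allRange pointOk 22 85509 9 = true := by decide +kernel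
theorem p5u976 : ∀ k, 76725 ≤ k → k < 85518 → pointOk (k * 22) = true := between_extend pointOk 22 76725 85509 9 (p5u975) p5r976

theorem p5r977 : allRange pointOk 22 85518 9 = true := by decide +kernel
theorem p5u977 : ∀ k, 76725 ≤ k → k < 85527 → pointOk (k * 22) = true := between_extend pointOk 22 76725 85518 9 (p5u976) p5r977

theorem p5r978 : allRange pointOk 22 85527 9 = true := by decide +kernel
theorem p5u978 : ∀ k, 76725 ≤ k → k < 85536 → pointOk (k * 22) = true := between_extend pointOk 22 76725 85527 9 (p5u977) p5r978

theorem p5r979 : allRange pointOk 22 85536 9 = true := by decide +kernel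
theorem p5u979 : ∀ k, 76725 ≤ k → k < 85545 → pointOk (k * 22) = true := between_extend pointOk 22 76725 85536 9 (p5u978) p5r979

theorem p5r980 : allRange pointOk 22 85545 9 = true := by decide +kernel
theorem p5u980 : ∀ k, 76725 ≤ k → k < 85554 → pointOk (k * 22) = true := between_extend pointOk 22 76725 85545 9 (p5u979) p5r980

theorem p5r981 : allRange pointOk 22 85554 9 = true := by decide +kernel
theorem p5u981 : ∀ k, 76725 ≤ k → k < 85563 → pointOk (k * 22) = true := between_extend pointOk 22 76725 85554 9 (p5u980) p5r981

theorem p5r982 : allRange pointOk 22 85563 9 = true := by decide +kernel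
theorem p5u982 : ∀ k, 76725 ≤ k → k < 85572 → pointOk (k * 22) = true := between_extend pointOk 22 76725 85563 9 (p5u981) p5r982

theorem p5r983 : allRange pointOk 22 85572 9 = true := by decide +kernel
theorem p5u983 : ∀ k, 76725 ≤ k → k < 85581 → pointOk (k * 22) = true := between_extend pointOk 22 76725 85572 9 (p5u982) p5r983

theorem p5r984 : allRange pointOk 22 85581 9 = true := by decide +kernel
theorem p5u984 : ∀ k, 76725 ≤ k → k < 85590 → pointOk (k * 22) = true := between_extend pointOk 22 76725 85581 9 (p5u983) p5r984

theorem p5r985 : allRange pointOk 22 85590 9 = true := by decide +kernel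
theorem p5u985 : ∀ k, 76725 ≤ k → k < 85599 → pointOk (k * 22) = true := between_extend pointOk 22 76725 85590 9 (p5u984) p5r985

theorem p5r986 : allRange pointOk 22 85599 9 = true := by decide +kernel
theorem p5u986 : ∀ k, 76725 ≤ k → k < 85608 → pointOk (k * 22) = true := between_extend pointOk 22 76725 85599 9 (p5u985) p5r986

theorem p5r987 : allRange pointOk 22 85608 9 = true := by decide +kernel
theorem p5u987 : ∀ k, 76725 ≤ k → k < 85617 → pointOk (k * 22) = true := between_extend pointOk 22 76725 85608 9 (p5u986) p5r987

theorem p5r988 : allRange pointOk 22 85617 9 = true := by decide +kernel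
theorem p5u988 : ∀ k, 76725 ≤ k → k < 85626 → pointOk (k * 22) = true := between_extend pointOk 22 76725 85617 9 (p5u987) p5r988

theorem p5r989 : allRange pointOk 22 85626 9 = true := by decide +kernel
theorem p5u989 : ∀ k, 76725 ≤ k → k < 85635 → pointOk (k * 22) = true := between_extend pointOk 22 76725 85626 9 (p5u988) p5r989

theorem p5r990 : allRange pointOk 22 85635 9 = true := by decide +kernel
theorem p5u990 : ∀ k, 76725 ≤ k → k < 85644 → pointOk (k * 22) = true := between_extend pointOk 22 76725 85635 9 (p5u989) p5r990

theorem p5r991 : allRange pointOk 22 85644 9 = true := by decide +kernel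
theorem p5u991 : ∀ k, 76725 ≤ k → k < 85653 → pointOk (k * 22) = true := between_extend pointOk 22 76725 85644 9 (p5u990) p5r991

theorem p5r992 : allRange pointOk 22 85653 9 = true := by decide +kernel
theorem p5u992 : ∀ k, 76725 ≤ k → k < 85662 → pointOk (k * 22) = true := between_extend pointOk 22 76725 85653 9 (p5u991) p5r992

theorem p5r993 : allRange pointOk 22 85662 9 = true := by decide +kernel
theorem p5u993 : ∀ k, 76725 ≤ k → k < 85671 → pointOk (k * 22) = true := between_extend pointOk 22 76725 85662 9 (p5u992) p5r993

theorem p5r994 : allRange pointOk 22 85671 9 = true := by decide +kernel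
theorem p5u994 : ∀ k, 76725 ≤ k → k < 85680 → pointOk (k * 22) = true := between_extend pointOk 22 76725 85671 9 (p5u993) p5r994

theorem p5r995 : allRange pointOk 22 85680 9 = true := by decide +kernel
theorem p5u995 : ∀ k, 76725 ≤ k → k < 85689 → pointOk (k * 22) = true := between_extend pointOk 22 76725 85680 9 (p5u994) p5r995

theorem p5r996 : allRange pointOk 22 85689 9 = true := by decide +kernel
theorem p5u996 : ∀ k, 76725 ≤ k → k < 85698 → pointOk (k * 22) = true := between_extend pointOk 22 76725 85689 9 (p5u995) p5r996

theorem p5r997 : allRange pointOk 22 85698 9 = true := by decide +kernel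
theorem p5u997 : ∀ k, 76725 ≤ k → k < 85707 → pointOk (k * 22) = true := between_extend pointOk 22 76725 85698 9 (p5u996) p5r997

theorem p5r998 : allRange pointOk 22 85707 9 = true := by decide +kernel
theorem p5u998 : ∀ k, 76725 ≤ k → k < 85716 → pointOk (k * 22) = true := between_extend pointOk 22 76725 85707 9 (p5u997) p5r998

theorem p5r999 : allRange pointOk 22 85716 9 = true := by decide +kernel
theorem p5u999 : ∀ k, 76725 ≤ k → k < 85725 → pointOk (k * 22) = true := between_extend pointOk 22 76725 85716 9 (p5u998) p5r999

theorem p5r1000 : allRange pointOk 22 85725 9 = true := by decide +kernel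
theorem p5u1000 : ∀ k, 76725 ≤ k → k < 85734 → pointOk (k * 22) = true := between_extend pointOk 22 76725 85725 9 (p5u999) p5r1000

theorem p5r1001 : allRange pointOk 22 85734 9 = true := by decide +kernel
theorem p5u1001 : ∀ k, 76725 ≤ k → k < 85743 → pointOk (k * 22) = true := between_extend pointOk 22 76725 85734 9 (p5u1000) p5r1001

theorem p5r1002 : allRange pointOk 22 85743 9 = true := by decide +kernel
theorem p5u1002 : ∀ k, 76725 ≤ k → k < 85752 → pointOk (k * 22) = true := between_extend pointOk 22 76725 85743 9 (p5u1001) p5r1002

theorem p5r1003 : allRange pointOk 22 85752 9 = true := by decide +kernel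
theorem p5u1003 : ∀ k, 76725 ≤ k → k < 85761 → pointOk (k * 22) = true := between_extend pointOk 22 76725 85752 9 (p5u1002) p5r1003

theorem p5r1004 : allRange pointOk 22 85761 9 = true := by decide +kernel
theorem p5u1004 : ∀ k, 76725 ≤ k → k < 85770 → pointOk (k * 22) = true := between_extend pointOk 22 76725 85761 9 (p5u1003) p5r1004

theorem p5r1005 : allRange pointOk 22 85770 9 = true := by decide +kernel
theorem p5u1005 : ∀ k, 76725 ≤ k → k < 85779 → pointOk (k * 22) = true := between_extend pointOk 22 76725 85770 9 (p5u1004) p5r1005

theorem p5r1006 : allRange pointOk 22 85779 9 = true := by decide +kernel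
theorem p5u1006 : ∀ k, 76725 ≤ k → k < 85788 → pointOk (k * 22) = true := between_extend pointOk 22 76725 85779 9 (p5u1005) p5r1006

theorem p5r1007 : allRange pointOk 22 85788 9 = true := by decide +kernel
theorem p5u1007 : ∀ k, 76725 ≤ k → k < 85797 → pointOk (k * 22) = true := between_extend pointOk 22 76725 85788 9 (p5u1006) p5r1007

theorem p5r1008 : allRange pointOk 22 85797 9 = true := by decide +kernel
theorem p5u1008 : ∀ k, 76725 ≤ k → k < 85806 → pointOk (k * 22) = true := between_extend pointOk 22 76725 85797 9 (p5u1007) p5r1008

theorem p5r1009 : allRange pointOk 22 85806 9 = true := by decide +kernel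
theorem p5u1009 : ∀ k, 76725 ≤ k → k < 85815 → pointOk (k * 22) = true := between_extend pointOk 22 76725 85806 9 (p5u1008) p5r1009

theorem p5r1010 : allRange pointOk 22 85815 9 = true := by decide +kernel
theorem p5u1010 : ∀ k, 76725 ≤ k → k < 85824 → pointOk (k * 22) = true := between_extend pointOk 22 76725 85815 9 (p5u1009) p5r1010

theorem p5r1011 : allRange pointOk 22 85824 9 = true := by decide +kernel
theorem p5u1011 : ∀ k, 76725 ≤ k → k < 85833 → pointOk (k * 22) = true := between_extend pointOk 22 76725 85824 9 (p5u1010) p5r1011

theorem p5r1012 : allRange pointOk 22 85833 9 = true := by decide +kernel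
theorem p5u1012 : ∀ k, 76725 ≤ k → k < 85842 → pointOk (k * 22) = true := between_extend pointOk 22 76725 85833 9 (p5u1011) p5r1012

theorem p5r1013 : allRange pointOk 22 85842 9 = true := by decide +kernel
theorem p5u1013 : ∀ k, 76725 ≤ k → k < 85851 → pointOk (k * 22) = true := between_extend pointOk 22 76725 85842 9 (p5u1012) p5r1013

theorem p5r1014 : allRange pointOk 22 85851 9 = true := by decide +kernel
theorem p5u1014 : ∀ k, 76725 ≤ k → k < 85860 → pointOk (k * 22) = true := between_extend pointOk 22 76725 85851 9 (p5u1013) p5r1014

theorem p5r1015 : allRange pointOk 22 85860 9 = true := by decide +kernel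
theorem p5u1015 : ∀ k, 76725 ≤ k → k < 85869 → pointOk (k * 22) = true := between_extend pointOk 22 76725 85860 9 (p5u1014) p5r1015

theorem p5r1016 : allRange pointOk 22 85869 9 = true := by decide +kernel
theorem p5u1016 : ∀ k, 76725 ≤ k → k < 85878 → pointOk (k * 22) = true := between_extend pointOk 22 76725 85869 9 (p5u1015) p5r1016

theorem p5r1017 : allRange pointOk 22 85878 9 = true := by decide +kernel
theorem p5u1017 : ∀ k, 76725 ≤ k → k < 85887 → pointOk (k * 22) = true := between_extend pointOk 22 76725 85878 9 (p5u1016) p5r1017

theorem p5r1018 : allRange pointOk 22 85887 9 = true := by decide +kernel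
theorem p5u1018 : ∀ k, 76725 ≤ k → k < 85896 → pointOk (k * 22) = true := between_extend pointOk 22 76725 85887 9 (p5u1017) p5r1018

theorem p5r1019 : allRange pointOk 22 85896 9 = true := by decide +kernel
theorem p5u1019 : ∀ k, 76725 ≤ k → k < 85905 → pointOk (k * 22) = true := between_extend pointOk 22 76725 85896 9 (p5u1018) p5r1019

theorem p5r1020 : allRange pointOk 22 85905 9 = true := by decide +kernel
theorem p5u1020 : ∀ k, 76725 ≤ k → k < 85914 → pointOk (k * 22) = true := between_extend pointOk 22 76725 85905 9 (p5u1019) p5r1020

theorem p5r1021 : allRange pointOk 22 85914 9 = true := by decide +kernel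
theorem p5u1021 : ∀ k, 76725 ≤ k → k < 85923 → pointOk (k * 22) = true := between_extend pointOk 22 76725 85914 9 (p5u1020) p5r1021

theorem p5r1022 : allRange pointOk 22 85923 9 = true := by decide +kernel
theorem p5u1022 : ∀ k, 76725 ≤ k → k < 85932 → pointOk (k * 22) = true := between_extend pointOk 22 76725 85923 9 (p5u1021) p5r1022

theorem p5r1023 : allRange pointOk 22 85932 9 = true := by decide +kernel
theorem p5u1023 : ∀ k, 76725 ≤ k → k < 85941 → pointOk (k * 22) = true := between_extend pointOk 22 76725 85932 9 (p5u1022) p5r1023

theorem p5r1024 : allRange pointOk 22 85941 9 = true := by decide +kernel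
theorem p5u1024 : ∀ k, 76725 ≤ k → k < 85950 → pointOk (k * 22) = true := between_extend pointOk 22 76725 85941 9 (p5u1023) p5r1024

theorem p5r1025 : allRange pointOk 22 85950 9 = true := by decide +kernel
theorem p5u1025 : ∀ k, 76725 ≤ k → k < 85959 → pointOk (k * 22) = true := between_extend pointOk 22 76725 85950 9 (p5u1024) p5r1025

theorem p5r1026 : allRange pointOk 22 85959 9 = true := by decide +kernel
theorem p5u1026 : ∀ k, 76725 ≤ k → k < 85968 → pointOk (k * 22) = true := between_extend pointOk 22 76725 85959 9 (p5u1025) p5r1026

theorem p5r1027 : allRange pointOk 22 85968 9 = true := by decide +kernel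
theorem p5u1027 : ∀ k, 76725 ≤ k → k < 85977 → pointOk (k * 22) = true := between_extend pointOk 22 76725 85968 9 (p5u1026) p5r1027

theorem p5r1028 : allRange pointOk 22 85977 9 = true := by decide +kernel
theorem p5u1028 : ∀ k, 76725 ≤ k → k < 85986 → pointOk (k * 22) = true := between_extend pointOk 22 76725 85977 9 (p5u1027) p5r1028

theorem p5r1029 : allRange pointOk 22 85986 9 = true := by decide +kernel
theorem p5u1029 : ∀ k, 76725 ≤ k → k < 85995 → pointOk (k * 22) = true := between_extend pointOk 22 76725 85986 9 (p5u1028) p5r1029

theorem p5r1030 : allRange pointOk 22 85995 9 = true := by decide +kernel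
theorem p5u1030 : ∀ k, 76725 ≤ k → k < 86004 → pointOk (k * 22) = true := between_extend pointOk 22 76725 85995 9 (p5u1029) p5r1030

theorem p5r1031 : allRange pointOk 22 86004 9 = true := by decide +kernel
theorem p5u1031 : ∀ k, 76725 ≤ k → k < 86013 → pointOk (k * 22) = true := between_extend pointOk 22 76725 86004 9 (p5u1030) p5r1031

theorem p5r1032 : allRange pointOk 22 86013 9 = true := by decide +kernel
theorem p5u1032 : ∀ k, 76725 ≤ k → k < 86022 → pointOk (k * 22) = true := between_extend pointOk 22 76725 86013 9 (p5u1031) p5r1032

theorem p5r1033 : allRange pointOk 22 86022 9 = true := by decide +kernel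
theorem p5u1033 : ∀ k, 76725 ≤ k → k < 86031 → pointOk (k * 22) = true := between_extend pointOk 22 76725 86022 9 (p5u1032) p5r1033

theorem p5r1034 : allRange pointOk 22 86031 9 = true := by decide +kernel
theorem p5u1034 : ∀ k, 76725 ≤ k → k < 86040 → pointOk (k * 22) = true := between_extend pointOk 22 76725 86031 9 (p5u1033) p5r1034

theorem p5r1035 : allRange pointOk 22 86040 9 = true := by decide +kernel
theorem p5u1035 : ∀ k, 76725 ≤ k → k < 86049 → pointOk (k * 22) = true := between_extend pointOk 22 76725 86040 9 (p5u1034) p5r1035

theorem p5r1036 : allRange pointOk 22 86049 9 = true := by decide +kernel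
theorem p5u1036 : ∀ k, 76725 ≤ k → k < 86058 → pointOk (k * 22) = true := between_extend pointOk 22 76725 86049 9 (p5u1035) p5r1036

theorem p5r1037 : allRange pointOk 22 86058 9 = true := by decide +kernel
theorem p5u1037 : ∀ k, 76725 ≤ k → k < 86067 → pointOk (k * 22) = true := between_extend pointOk 22 76725 86058 9 (p5u1036) p5r1037

theorem p5r1038 : allRange pointOk 22 86067 9 = true := by decide +kernel
theorem p5u1038 : ∀ k, 76725 ≤ k → k < 86076 → pointOk (k * 22) = true := between_extend pointOk 22 76725 86067 9 (p5u1037) p5r1038

theorem p5r1039 : allRange pointOk 22 86076 9 = true := by decide +kernel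
theorem p5u1039 : ∀ k, 76725 ≤ k → k < 86085 → pointOk (k * 22) = true := between_extend pointOk 22 76725 86076 9 (p5u1038) p5r1039

theorem p5r1040 : allRange pointOk 22 86085 9 = true := by decide +kernel
theorem p5u1040 : ∀ k, 76725 ≤ k → k < 86094 → pointOk (k * 22) = true := between_extend pointOk 22 76725 86085 9 (p5u1039) p5r1040

theorem p5r1041 : allRange pointOk 22 86094 9 = true := by decide +kernel
theorem p5u1041 : ∀ k, 76725 ≤ k → k < 86103 → pointOk (k * 22) = true := between_extend pointOk 22 76725 86094 9 (p5u1040) p5r1041

theorem p5r1042 : allRange pointOk 22 86103 9 = true := by decide +kernel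
theorem p5u1042 : ∀ k, 76725 ≤ k → k < 86112 → pointOk (k * 22) = true := between_extend pointOk 22 76725 86103 9 (p5u1041) p5r1042

theorem p5r1043 : allRange pointOk 22 86112 9 = true := by decide +kernel
theorem p5u1043 : ∀ k, 76725 ≤ k → k < 86121 → pointOk (k * 22) = true := between_extend pointOk 22 76725 86112 9 (p5u1042) p5r1043

theorem p5r1044 : allRange pointOk 22 86121 9 = true := by decide +kernel
theorem p5u1044 : ∀ k, 76725 ≤ k → k < 86130 → pointOk (k * 22) = true := between_extend pointOk 22 76725 86121 9 (p5u1043) p5r1044

theorem p5r1045 : allRange pointOk 22 86130 9 = true := by decide +kernel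
theorem p5u1045 : ∀ k, 76725 ≤ k → k < 86139 → pointOk (k * 22) = true := between_extend pointOk 22 76725 86130 9 (p5u1044) p5r1045

theorem p5r1046 : allRange pointOk 22 86139 9 = true := by decide +kernel
theorem p5u1046 : ∀ k, 76725 ≤ k → k < 86148 → pointOk (k * 22) = true := between_extend pointOk 22 76725 86139 9 (p5u1045) p5r1046

theorem p5r1047 : allRange pointOk 22 86148 9 = true := by decide +kernel
theorem p5u1047 : ∀ k, 76725 ≤ k → k < 86157 → pointOk (k * 22) = true := between_extend pointOk 22 76725 86148 9 (p5u1046) p5r1047

theorem p5r1048 : allRange pointOk 22 86157 9 = true := by decide +kernel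
theorem p5u1048 : ∀ k, 76725 ≤ k → k < 86166 → pointOk (k * 22) = true := between_extend pointOk 22 76725 86157 9 (p5u1047) p5r1048

theorem p5r1049 : allRange pointOk 22 86166 9 = true := by decide +kernel
theorem p5u1049 : ∀ k, 76725 ≤ k → k < 86175 → pointOk (k * 22) = true := between_extend pointOk 22 76725 86166 9 (p5u1048) p5r1049

theorem p5r1050 : allRange pointOk 22 86175 9 = true := by decide +kernel
theorem p5u1050 : ∀ k, 76725 ≤ k → k < 86184 → pointOk (k * 22) = true := between_extend pointOk 22 76725 86175 9 (p5u1049) p5r1050

theorem p5r1051 : allRange pointOk 22 86184 9 = true := by decide +kernel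
theorem p5u1051 : ∀ k, 76725 ≤ k → k < 86193 → pointOk (k * 22) = true := between_extend pointOk 22 76725 86184 9 (p5u1050) p5r1051

theorem p5r1052 : allRange pointOk 22 86193 9 = true := by decide +kernel
theorem p5u1052 : ∀ k, 76725 ≤ k → k < 86202 → pointOk (k * 22) = true := between_extend pointOk 22 76725 86193 9 (p5u1051) p5r1052

theorem p5r1053 : allRange pointOk 22 86202 9 = true := by decide +kernel
theorem p5u1053 : ∀ k, 76725 ≤ k → k < 86211 → pointOk (k * 22) = true := between_extend pointOk 22 76725 86202 9 (p5u1052) p5r1053

theorem p5r1054 : allRange pointOk 22 86211 9 = true := by decide +kernel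
theorem p5u1054 : ∀ k, 76725 ≤ k → k < 86220 → pointOk (k * 22) = true := between_extend pointOk 22 76725 86211 9 (p5u1053) p5r1054

theorem p5r1055 : allRange pointOk 22 86220 9 = true := by decide +kernel
theorem p5u1055 : ∀ k, 76725 ≤ k → k < 86229 → pointOk (k * 22) = true := between_extend pointOk 22 76725 86220 9 (p5u1054) p5r1055

theorem p5r1056 : allRange pointOk 22 86229 9 = true := by decide +kernel
theorem p5u1056 : ∀ k, 76725 ≤ k → k < 86238 → pointOk (k * 22) = true := between_extend pointOk 22 76725 86229 9 (p5u1055) p5r1056

theorem p5r1057 : allRange pointOk 22 86238 9 = true := by decide +kernel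
theorem p5u1057 : ∀ k, 76725 ≤ k → k < 86247 → pointOk (k * 22) = true := between_extend pointOk 22 76725 86238 9 (p5u1056) p5r1057

theorem p5r1058 : allRange pointOk 22 86247 9 = true := by decide +kernel
theorem p5u1058 : ∀ k, 76725 ≤ k → k < 86256 → pointOk (k * 22) = true := between_extend pointOk 22 76725 86247 9 (p5u1057) p5r1058

theorem p5r1059 : allRange pointOk 22 86256 9 = true := by decide +kernel
theorem p5u1059 : ∀ k, 76725 ≤ k → k < 86265 → pointOk (k * 22) = true := between_extend pointOk 22 76725 86256 9 (p5u1058) p5r1059

theorem p5r1060 : allRange pointOk 22 86265 9 = true := by decide +kernel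
theorem p5u1060 : ∀ k, 76725 ≤ k → k < 86274 → pointOk (k * 22) = true := between_extend pointOk 22 76725 86265 9 (p5u1059) p5r1060

theorem p5r1061 : allRange pointOk 22 86274 9 = true := by decide +kernel
theorem p5u1061 : ∀ k, 76725 ≤ k → k < 86283 → pointOk (k * 22) = true := between_extend pointOk 22 76725 86274 9 (p5u1060) p5r1061

theorem p5r1062 : allRange pointOk 22 86283 9 = true := by decide +kernel
theorem p5u1062 : ∀ k, 76725 ≤ k → k < 86292 → pointOk (k * 22) = true := between_extend pointOk 22 76725 86283 9 (p5u1061) p5r1062

theorem p5r1063 : allRange pointOk 22 86292 9 = true := by decide +kernel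
theorem p5u1063 : ∀ k, 76725 ≤ k → k < 86301 → pointOk (k * 22) = true := between_extend pointOk 22 76725 86292 9 (p5u1062) p5r1063

theorem p5r1064 : allRange pointOk 22 86301 9 = true := by decide +kernel
theorem p5u1064 : ∀ k, 76725 ≤ k → k < 86310 → pointOk (k * 22) = true := between_extend pointOk 22 76725 86301 9 (p5u1063) p5r1064

theorem p5r1065 : allRange pointOk 22 86310 9 = true := by decide +kernel
theorem p5u1065 : ∀ k, 76725 ≤ k → k < 86319 → pointOk (k * 22) = true := between_extend pointOk 22 76725 86310 9 (p5u1064) p5r1065

theorem p5r1066 : allRange pointOk 22 86319 9 = true := by decide +kernel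
theorem p5u1066 : ∀ k, 76725 ≤ k → k < 86328 → pointOk (k * 22) = true := between_extend pointOk 22 76725 86319 9 (p5u1065) p5r1066

theorem p5r1067 : allRange pointOk 22 86328 9 = true := by decide +kernel
theorem p5u1067 : ∀ k, 76725 ≤ k → k < 86337 → pointOk (k * 22) = true := between_extend pointOk 22 76725 86328 9 (p5u1066) p5r1067

theorem p5r1068 : allRange pointOk 22 86337 9 = true := by decide +kernel
theorem p5u1068 : ∀ k, 76725 ≤ k → k < 86346 → pointOk (k * 22) = true := between_extend pointOk 22 76725 86337 9 (p5u1067) p5r1068

theorem p5r1069 : allRange pointOk 22 86346 9 = true := by decide +kernel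
theorem p5u1069 : ∀ k, 76725 ≤ k → k < 86355 → pointOk (k * 22) = true := between_extend pointOk 22 76725 86346 9 (p5u1068) p5r1069

theorem p5r1070 : allRange pointOk 22 86355 9 = true := by decide +kernel
theorem p5u1070 : ∀ k, 76725 ≤ k → k < 86364 → pointOk (k * 22) = true := between_extend pointOk 22 76725 86355 9 (p5u1069) p5r1070

theorem p5r1071 : allRange pointOk 22 86364 9 = true := by decide +kernel
theorem p5u1071 : ∀ k, 76725 ≤ k → k < 86373 → pointOk (k * 22) = true := between_extend pointOk 22 76725 86364 9 (p5u1070) p5r1071

theorem p5r1072 : allRange pointOk 22 86373 9 = true := by decide +kernel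
theorem p5u1072 : ∀ k, 76725 ≤ k → k < 86382 → pointOk (k * 22) = true := between_extend pointOk 22 76725 86373 9 (p5u1071) p5r1072

theorem p5r1073 : allRange pointOk 22 86382 9 = true := by decide +kernel
theorem p5u1073 : ∀ k, 76725 ≤ k → k < 86391 → pointOk (k * 22) = true := between_extend pointOk 22 76725 86382 9 (p5u1072) p5r1073

theorem p5r1074 : allRange pointOk 22 86391 9 = true := by decide +kernel
theorem p5u1074 : ∀ k, 76725 ≤ k → k < 86400 → pointOk (k * 22) = true := between_extend pointOk 22 76725 86391 9 (p5u1073) p5r1074

theorem p5r1075 : allRange pointOk 22 86400 9 = true := by decide +kernel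
theorem p5u1075 : ∀ k, 76725 ≤ k → k < 86409 → pointOk (k * 22) = true := between_extend pointOk 22 76725 86400 9 (p5u1074) p5r1075

theorem p5r1076 : allRange pointOk 22 86409 9 = true := by decide +kernel
theorem p5u1076 : ∀ k, 76725 ≤ k → k < 86418 → pointOk (k * 22) = true := between_extend pointOk 22 76725 86409 9 (p5u1075) p5r1076

theorem p5r1077 : allRange pointOk 22 86418 9 = true := by decide +kernel
theorem p5u1077 : ∀ k, 76725 ≤ k → k < 86427 → pointOk (k * 22) = true := between_extend pointOk 22 76725 86418 9 (p5u1076) p5r1077

theorem p5r1078 : allRange pointOk 22 86427 9 = true := by decide +kernel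
theorem p5u1078 : ∀ k, 76725 ≤ k → k < 86436 → pointOk (k * 22) = true := between_extend pointOk 22 76725 86427 9 (p5u1077) p5r1078

theorem p5r1079 : allRange pointOk 22 86436 9 = true := by decide +kernel
theorem p5u1079 : ∀ k, 76725 ≤ k → k < 86445 → pointOk (k * 22) = true := between_extend pointOk 22 76725 86436 9 (p5u1078) p5r1079

theorem p5r1080 : allRange pointOk 22 86445 9 = true := by decide +kernel
theorem p5u1080 : ∀ k, 76725 ≤ k → k < 86454 → pointOk (k * 22) = true := between_extend pointOk 22 76725 86445 9 (p5u1079) p5r1080

theorem p5r1081 : allRange pointOk 22 86454 9 = true := by decide +kernel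
theorem p5u1081 : ∀ k, 76725 ≤ k → k < 86463 → pointOk (k * 22) = true := between_extend pointOk 22 76725 86454 9 (p5u1080) p5r1081

theorem p5r1082 : allRange pointOk 22 86463 9 = true := by decide +kernel
theorem p5u1082 : ∀ k, 76725 ≤ k → k < 86472 → pointOk (k * 22) = true := between_extend pointOk 22 76725 86463 9 (p5u1081) p5r1082

theorem p5r1083 : allRange pointOk 22 86472 9 = true := by decide +kernel
theorem p5u1083 : ∀ k, 76725 ≤ k → k < 86481 → pointOk (k * 22) = true := between_extend pointOk 22 76725 86472 9 (p5u1082) p5r1083

theorem p5r1084 : allRange pointOk 22 86481 9 = true := by decide +kernel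
theorem p5u1084 : ∀ k, 76725 ≤ k → k < 86490 → pointOk (k * 22) = true := between_extend pointOk 22 76725 86481 9 (p5u1083) p5r1084

theorem p5r1085 : allRange pointOk 22 86490 9 = true := by decide +kernel
theorem p5u1085 : ∀ k, 76725 ≤ k → k < 86499 → pointOk (k * 22) = true := between_extend pointOk 22 76725 86490 9 (p5u1084) p5r1085

theorem p5r1086 : allRange pointOk 22 86499 9 = true := by decide +kernel
theorem p5u1086 : ∀ k, 76725 ≤ k → k < 86508 → pointOk (k * 22) = true := between_extend pointOk 22 76725 86499 9 (p5u1085) p5r1086

theorem p5r1087 : allRange pointOk 22 86508 9 = true := by decide +kernel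
theorem p5u1087 : ∀ k, 76725 ≤ k → k < 86517 → pointOk (k * 22) = true := between_extend pointOk 22 76725 86508 9 (p5u1086) p5r1087

theorem p5r1088 : allRange pointOk 22 86517 9 = true := by decide +kernel
theorem p5u1088 : ∀ k, 76725 ≤ k → k < 86526 → pointOk (k * 22) = true := between_extend pointOk 22 76725 86517 9 (p5u1087) p5r1088

theorem p5r1089 : allRange pointOk 22 86526 9 = true := by decide +kernel
theorem p5u1089 : ∀ k, 76725 ≤ k → k < 86535 → pointOk (k * 22) = true := between_extend pointOk 22 76725 86526 9 (p5u1088) p5r1089

theorem p5r1090 : allRange pointOk 22 86535 9 = true := by decide +kernel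
theorem p5u1090 : ∀ k, 76725 ≤ k → k < 86544 → pointOk (k * 22) = true := between_extend pointOk 22 76725 86535 9 (p5u1089) p5r1090

theorem p5r1091 : allRange pointOk 22 86544 9 = true := by decide +kernel
theorem p5u1091 : ∀ k, 76725 ≤ k → k < 86553 → pointOk (k * 22) = true := between_extend pointOk 22 76725 86544 9 (p5u1090) p5r1091

theorem p5r1092 : allRange pointOk 22 86553 9 = true := by decide +kernel
theorem p5u1092 : ∀ k, 76725 ≤ k → k < 86562 → pointOk (k * 22) = true := between_extend pointOk 22 76725 86553 9 (p5u1091) p5r1092

theorem p5r1093 : allRange pointOk 22 86562 9 = true := by decide +kernel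
theorem p5u1093 : ∀ k, 76725 ≤ k → k < 86571 → pointOk (k * 22) = true := between_extend pointOk 22 76725 86562 9 (p5u1092) p5r1093

theorem p5r1094 : allRange pointOk 22 86571 9 = true := by decide +kernel
theorem p5u1094 : ∀ k, 76725 ≤ k → k < 86580 → pointOk (k * 22) = true := between_extend pointOk 22 76725 86571 9 (p5u1093) p5r1094

theorem p5r1095 : allRange pointOk 22 86580 9 = true := by decide +kernel
theorem p5u1095 : ∀ k, 76725 ≤ k → k < 86589 → pointOk (k * 22) = true := between_extend pointOk 22 76725 86580 9 (p5u1094) p5r1095

theorem p5r1096 : allRange pointOk 22 86589 9 = true := by decide +kernel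
theorem p5u1096 : ∀ k, 76725 ≤ k → k < 86598 → pointOk (k * 22) = true := between_extend pointOk 22 76725 86589 9 (p5u1095) p5r1096

theorem p5r1097 : allRange pointOk 22 86598 9 = true := by decide +kernel
theorem p5u1097 : ∀ k, 76725 ≤ k → k < 86607 → pointOk (k * 22) = true := between_extend pointOk 22 76725 86598 9 (p5u1096) p5r1097

theorem p5r1098 : allRange pointOk 22 86607 9 = true := by decide +kernel
theorem p5u1098 : ∀ k, 76725 ≤ k → k < 86616 → pointOk (k * 22) = true := between_extend pointOk 22 76725 86607 9 (p5u1097) p5r1098

theorem p5r1099 : allRange pointOk 22 86616 9 = true := by decide +kernel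
theorem p5u1099 : ∀ k, 76725 ≤ k → k < 86625 → pointOk (k * 22) = true := between_extend pointOk 22 76725 86616 9 (p5u1098) p5r1099

theorem p5r1100 : allRange pointOk 22 86625 9 = true := by decide +kernel
theorem p5u1100 : ∀ k, 76725 ≤ k → k < 86634 → pointOk (k * 22) = true := between_extend pointOk 22 76725 86625 9 (p5u1099) p5r1100

theorem p5r1101 : allRange pointOk 22 86634 9 = true := by decide +kernel
theorem p5u1101 : ∀ k, 76725 ≤ k → k < 86643 → pointOk (k * 22) = true := between_extend pointOk 22 76725 86634 9 (p5u1100) p5r1101

theorem p5r1102 : allRange pointOk 22 86643 9 = true := by decide +kernel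
theorem p5u1102 : ∀ k, 76725 ≤ k → k < 86652 → pointOk (k * 22) = true := between_extend pointOk 22 76725 86643 9 (p5u1101) p5r1102

theorem p5r1103 : allRange pointOk 22 86652 9 = true := by decide +kernel
theorem p5u1103 : ∀ k, 76725 ≤ k → k < 86661 → pointOk (k * 22) = true := between_extend pointOk 22 76725 86652 9 (p5u1102) p5r1103

theorem p5r1104 : allRange pointOk 22 86661 9 = true := by decide +kernel
theorem p5u1104 : ∀ k, 76725 ≤ k → k < 86670 → pointOk (k * 22) = true := between_extend pointOk 22 76725 86661 9 (p5u1103) p5r1104

theorem p5r1105 : allRange pointOk 22 86670 9 = true := by decide +kernel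
theorem p5u1105 : ∀ k, 76725 ≤ k → k < 86679 → pointOk (k * 22) = true := between_extend pointOk 22 76725 86670 9 (p5u1104) p5r1105

theorem p5r1106 : allRange pointOk 22 86679 9 = true := by decide +kernel
theorem p5u1106 : ∀ k, 76725 ≤ k → k < 86688 → pointOk (k * 22) = true := between_extend pointOk 22 76725 86679 9 (p5u1105) p5r1106

theorem p5r1107 : allRange pointOk 22 86688 9 = true := by decide +kernel
theorem p5u1107 : ∀ k, 76725 ≤ k → k < 86697 → pointOk (k * 22) = true := between_extend pointOk 22 76725 86688 9 (p5u1106) p5r1107

theorem p5r1108 : allRange pointOk 22 86697 9 = true := by decide +kernel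
theorem p5u1108 : ∀ k, 76725 ≤ k → k < 86706 → pointOk (k * 22) = true := between_extend pointOk 22 76725 86697 9 (p5u1107) p5r1108

theorem p5r1109 : allRange pointOk 22 86706 9 = true := by decide +kernel
theorem p5u1109 : ∀ k, 76725 ≤ k → k < 86715 → pointOk (k * 22) = true := between_extend pointOk 22 76725 86706 9 (p5u1108) p5r1109

theorem p5r1110 : allRange pointOk 22 86715 9 = true := by decide +kernel
theorem p5u1110 : ∀ k, 76725 ≤ k → k < 86724 → pointOk (k * 22) = true := between_extend pointOk 22 76725 86715 9 (p5u1109) p5r1110

theorem p5r1111 : allRange pointOk 22 86724 9 = true := by decide +kernel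
theorem p5u1111 : ∀ k, 76725 ≤ k → k < 86733 → pointOk (k * 22) = true := between_extend pointOk 22 76725 86724 9 (p5u1110) p5r1111

theorem p5r1112 : allRange pointOk 22 86733 9 = true := by decide +kernel
theorem p5u1112 : ∀ k, 76725 ≤ k → k < 86742 → pointOk (k * 22) = true := between_extend pointOk 22 76725 86733 9 (p5u1111) p5r1112

theorem p5r1113 : allRange pointOk 22 86742 9 = true := by decide +kernel
theorem p5u1113 : ∀ k, 76725 ≤ k → k < 86751 → pointOk (k * 22) = true := between_extend pointOk 22 76725 86742 9 (p5u1112) p5r1113

theorem p5r1114 : allRange pointOk 22 86751 9 = true := by decide +kernel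
theorem p5u1114 : ∀ k, 76725 ≤ k → k < 86760 → pointOk (k * 22) = true := between_extend pointOk 22 76725 86751 9 (p5u1113) p5r1114

theorem p5r1115 : allRange pointOk 22 86760 9 = true := by decide +kernel
theorem p5u1115 : ∀ k, 76725 ≤ k → k < 86769 → pointOk (k * 22) = true := between_extend pointOk 22 76725 86760 9 (p5u1114) p5r1115

theorem p5r1116 : allRange pointOk 22 86769 9 = true := by decide +kernel
theorem p5u1116 : ∀ k, 76725 ≤ k → k < 86778 → pointOk (k * 22) = true := between_extend pointOk 22 76725 86769 9 (p5u1115) p5r1116

theorem p5r1117 : allRange pointOk 22 86778 9 = true := by decide +kernel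
theorem p5u1117 : ∀ k, 76725 ≤ k → k < 86787 → pointOk (k * 22) = true := between_extend pointOk 22 76725 86778 9 (p5u1116) p5r1117

theorem p5r1118 : allRange pointOk 22 86787 9 = true := by decide +kernel
theorem p5u1118 : ∀ k, 76725 ≤ k → k < 86796 → pointOk (k * 22) = true := between_extend pointOk 22 76725 86787 9 (p5u1117) p5r1118

theorem p5r1119 : allRange pointOk 22 86796 9 = true := by decide +kernel
theorem p5u1119 : ∀ k, 76725 ≤ k → k < 86805 → pointOk (k * 22) = true := between_extend pointOk 22 76725 86796 9 (p5u1118) p5r1119

theorem p5r1120 : allRange pointOk 22 86805 9 = true := by decide +kernel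
theorem p5u1120 : ∀ k, 76725 ≤ k → k < 86814 → pointOk (k * 22) = true := between_extend pointOk 22 76725 86805 9 (p5u1119) p5r1120

theorem p5r1121 : allRange pointOk 22 86814 9 = true := by decide +kernel
theorem p5u1121 : ∀ k, 76725 ≤ k → k < 86823 → pointOk (k * 22) = true := between_extend pointOk 22 76725 86814 9 (p5u1120) p5r1121

theorem p5r1122 : allRange pointOk 22 86823 9 = true := by decide +kernel
theorem p5u1122 : ∀ k, 76725 ≤ k → k < 86832 → pointOk (k * 22) = true := between_extend pointOk 22 76725 86823 9 (p5u1121) p5r1122

theorem p5r1123 : allRange pointOk 22 86832 9 = true := by decide +kernel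
theorem p5u1123 : ∀ k, 76725 ≤ k → k < 86841 → pointOk (k * 22) = true := between_extend pointOk 22 76725 86832 9 (p5u1122) p5r1123

theorem p5r1124 : allRange pointOk 22 86841 9 = true := by decide +kernel
theorem p5u1124 : ∀ k, 76725 ≤ k → k < 86850 → pointOk (k * 22) = true := between_extend pointOk 22 76725 86841 9 (p5u1123) p5r1124

theorem p5r1125 : allRange pointOk 22 86850 9 = true := by decide +kernel
theorem p5u1125 : ∀ k, 76725 ≤ k → k < 86859 → pointOk (k * 22) = true := between_extend pointOk 22 76725 86850 9 (p5u1124) p5r1125

theorem p5r1126 : allRange pointOk 22 86859 9 = true := by decide +kernel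
theorem p5u1126 : ∀ k, 76725 ≤ k → k < 86868 → pointOk (k * 22) = true := between_extend pointOk 22 76725 86859 9 (p5u1125) p5r1126

theorem p5r1127 : allRange pointOk 22 86868 9 = true := by decide +kernel
theorem p5u1127 : ∀ k, 76725 ≤ k → k < 86877 → pointOk (k * 22) = true := between_extend pointOk 22 76725 86868 9 (p5u1126) p5r1127

theorem p5r1128 : allRange pointOk 22 86877 9 = true := by decide +kernel
theorem p5u1128 : ∀ k, 76725 ≤ k → k < 86886 → pointOk (k * 22) = true := between_extend pointOk 22 76725 86877 9 (p5u1127) p5r1128

theorem p5r1129 : allRange pointOk 22 86886 9 = true := by decide +kernel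
theorem p5u1129 : ∀ k, 76725 ≤ k → k < 86895 → pointOk (k * 22) = true := between_extend pointOk 22 76725 86886 9 (p5u1128) p5r1129

theorem p5r1130 : allRange pointOk 22 86895 9 = true := by decide +kernel
theorem p5u1130 : ∀ k, 76725 ≤ k → k < 86904 → pointOk (k * 22) = true := between_extend pointOk 22 76725 86895 9 (p5u1129) p5r1130

theorem p5r1131 : allRange pointOk 22 86904 9 = true := by decide +kernel
theorem p5u1131 : ∀ k, 76725 ≤ k → k < 86913 → pointOk (k * 22) = true := between_extend pointOk 22 76725 86904 9 (p5u1130) p5r1131

theorem p5r1132 : allRange pointOk 22 86913 9 = true := by decide +kernel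
theorem p5u1132 : ∀ k, 76725 ≤ k → k < 86922 → pointOk (k * 22) = true := between_extend pointOk 22 76725 86913 9 (p5u1131) p5r1132

theorem p5r1133 : allRange pointOk 22 86922 9 = true := by decide +kernel
theorem p5u1133 : ∀ k, 76725 ≤ k → k < 86931 → pointOk (k * 22) = true := between_extend pointOk 22 76725 86922 9 (p5u1132) p5r1133

theorem p5r1134 : allRange pointOk 22 86931 9 = true := by decide +kernel
theorem p5u1134 : ∀ k, 76725 ≤ k → k < 86940 → pointOk (k * 22) = true := between_extend pointOk 22 76725 86931 9 (p5u1133) p5r1134

theorem p5r1135 : allRange pointOk 22 86940 9 = true := by decide +kernel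
theorem p5u1135 : ∀ k, 76725 ≤ k → k < 86949 → pointOk (k * 22) = true := between_extend pointOk 22 76725 86940 9 (p5u1134) p5r1135

theorem p5r1136 : allRange pointOk 22 86949 9 = true := by decide +kernel
theorem p5u1136 : ∀ k, 76725 ≤ k → k < 86958 → pointOk (k * 22) = true := between_extend pointOk 22 76725 86949 9 (p5u1135) p5r1136

theorem p5r1137 : allRange pointOk 22 86958 9 = true := by decide +kernel
theorem p5u1137 : ∀ k, 76725 ≤ k → k < 86967 → pointOk (k * 22) = true := between_extend pointOk 22 76725 86958 9 (p5u1136) p5r1137

theorem p5r1138 : allRange pointOk 22 86967 9 = true := by decide +kernel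
theorem p5u1138 : ∀ k, 76725 ≤ k → k < 86976 → pointOk (k * 22) = true := between_extend pointOk 22 76725 86967 9 (p5u1137) p5r1138

theorem p5r1139 : allRange pointOk 22 86976 9 = true := by decide +kernel
theorem p5u1139 : ∀ k, 76725 ≤ k → k < 86985 → pointOk (k * 22) = true := between_extend pointOk 22 76725 86976 9 (p5u1138) p5r1139

theorem p5r1140 : allRange pointOk 22 86985 9 = true := by decide +kernel
theorem p5u1140 : ∀ k, 76725 ≤ k → k < 86994 → pointOk (k * 22) = true := between_extend pointOk 22 76725 86985 9 (p5u1139) p5r1140

theorem p5r1141 : allRange pointOk 22 86994 9 = true := by decide +kernel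
theorem p5u1141 : ∀ k, 76725 ≤ k → k < 87003 → pointOk (k * 22) = true := between_extend pointOk 22 76725 86994 9 (p5u1140) p5r1141

theorem p5r1142 : allRange pointOk 22 87003 9 = true := by decide +kernel
theorem p5u1142 : ∀ k, 76725 ≤ k → k < 87012 → pointOk (k * 22) = true := between_extend pointOk 22 76725 87003 9 (p5u1141) p5r1142

theorem p5r1143 : allRange pointOk 22 87012 9 = true := by decide +kernel
theorem p5u1143 : ∀ k, 76725 ≤ k → k < 87021 → pointOk (k * 22) = true := between_extend pointOk 22 76725 87012 9 (p5u1142) p5r1143

theorem p5r1144 : allRange pointOk 22 87021 9 = true := by decide +kernel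
theorem p5u1144 : ∀ k, 76725 ≤ k → k < 87030 → pointOk (k * 22) = true := between_extend pointOk 22 76725 87021 9 (p5u1143) p5r1144

theorem p5r1145 : allRange pointOk 22 87030 9 = true := by decide +kernel
theorem p5u1145 : ∀ k, 76725 ≤ k → k < 87039 → pointOk (k * 22) = true := between_extend pointOk 22 76725 87030 9 (p5u1144) p5r1145

theorem p5r1146 : allRange pointOk 22 87039 9 = true := by decide +kernel
theorem p5u1146 : ∀ k, 76725 ≤ k → k < 87048 → pointOk (k * 22) = true := between_extend pointOk 22 76725 87039 9 (p5u1145) p5r1146

theorem p5r1147 : allRange pointOk 22 87048 9 = true := by decide +kernel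
theorem p5u1147 : ∀ k, 76725 ≤ k → k < 87057 → pointOk (k * 22) = true := between_extend pointOk 22 76725 87048 9 (p5u1146) p5r1147

theorem p5r1148 : allRange pointOk 22 87057 9 = true := by decide +kernel
theorem p5u1148 : ∀ k, 76725 ≤ k → k < 87066 → pointOk (k * 22) = true := between_extend pointOk 22 76725 87057 9 (p5u1147) p5r1148

theorem p5r1149 : allRange pointOk 22 87066 9 = true := by decide +kernel
theorem p5u1149 : ∀ k, 76725 ≤ k → k < 87075 → pointOk (k * 22) = true := between_extend pointOk 22 76725 87066 9 (p5u1148) p5r1149

theorem p5r1150 : allRange pointOk 22 87075 9 = true := by decide +kernel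
theorem p5u1150 : ∀ k, 76725 ≤ k → k < 87084 → pointOk (k * 22) = true := between_extend pointOk 22 76725 87075 9 (p5u1149) p5r1150

theorem p5r1151 : allRange pointOk 22 87084 9 = true := by decide +kernel
theorem p5u1151 : ∀ k, 76725 ≤ k → k < 87093 → pointOk (k * 22) = true := between_extend pointOk 22 76725 87084 9 (p5u1150) p5r1151

theorem p5r1152 : allRange pointOk 22 87093 9 = true := by decide +kernel
theorem p5u1152 : ∀ k, 76725 ≤ k → k < 87102 → pointOk (k * 22) = true := between_extend pointOk 22 76725 87093 9 (p5u1151) p5r1152

theorem p5r1153 : allRange pointOk 22 87102 9 = true := by decide +kernel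
theorem p5u1153 : ∀ k, 76725 ≤ k → k < 87111 → pointOk (k * 22) = true := between_extend pointOk 22 76725 87102 9 (p5u1152) p5r1153

theorem p5r1154 : allRange pointOk 22 87111 9 = true := by decide +kernel
theorem p5u1154 : ∀ k, 76725 ≤ k → k < 87120 → pointOk (k * 22) = true := between_extend pointOk 22 76725 87111 9 (p5u1153) p5r1154

theorem p5r1155 : allRange pointOk 22 87120 9 = true := by decide +kernel
theorem p5u1155 : ∀ k, 76725 ≤ k → k < 87129 → pointOk (k * 22) = true := between_extend pointOk 22 76725 87120 9 (p5u1154) p5r1155

theorem p5r1156 : allRange pointOk 22 87129 9 = true := by decide +kernel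
theorem p5u1156 : ∀ k, 76725 ≤ k → k < 87138 → pointOk (k * 22) = true := between_extend pointOk 22 76725 87129 9 (p5u1155) p5r1156

theorem p5r1157 : allRange pointOk 22 87138 9 = true := by decide +kernel
theorem p5u1157 : ∀ k, 76725 ≤ k → k < 87147 → pointOk (k * 22) = true := between_extend pointOk 22 76725 87138 9 (p5u1156) p5r1157

theorem p5r1158 : allRange pointOk 22 87147 9 = true := by decide +kernel
theorem p5u1158 : ∀ k, 76725 ≤ k → k < 87156 → pointOk (k * 22) = true := between_extend pointOk 22 76725 87147 9 (p5u1157) p5r1158

theorem p5r1159 : allRange pointOk 22 87156 9 = true := by decide +kernel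
theorem p5u1159 : ∀ k, 76725 ≤ k → k < 87165 → pointOk (k * 22) = true := between_extend pointOk 22 76725 87156 9 (p5u1158) p5r1159

theorem p5r1160 : allRange pointOk 22 87165 9 = true := by decide +kernel
theorem p5u1160 : ∀ k, 76725 ≤ k → k < 87174 → pointOk (k * 22) = true := between_extend pointOk 22 76725 87165 9 (p5u1159) p5r1160

theorem p5r1161 : allRange pointOk 22 87174 9 = true := by decide +kernel
theorem p5u1161 : ∀ k, 76725 ≤ k → k < 87183 → pointOk (k * 22) = true := between_extend pointOk 22 76725 87174 9 (p5u1160) p5r1161

theorem p5r1162 : allRange pointOk 22 87183 9 = true := by decide +kernel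
theorem p5u1162 : ∀ k, 76725 ≤ k → k < 87192 → pointOk (k * 22) = true := between_extend pointOk 22 76725 87183 9 (p5u1161) p5r1162

theorem p5r1163 : allRange pointOk 22 87192 9 = true := by decide +kernel
theorem p5u1163 : ∀ k, 76725 ≤ k → k < 87201 → pointOk (k * 22) = true := between_extend pointOk 22 76725 87192 9 (p5u1162) p5r1163

theorem p5r1164 : allRange pointOk 22 87201 9 = true := by decide +kernel
theorem p5u1164 : ∀ k, 76725 ≤ k → k < 87210 → pointOk (k * 22) = true := between_extend pointOk 22 76725 87201 9 (p5u1163) p5r1164

theorem p5r1165 : allRange pointOk 22 87210 9 = true := by decide +kernel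
theorem p5u1165 : ∀ k, 76725 ≤ k → k < 87219 → pointOk (k * 22) = true := between_extend pointOk 22 76725 87210 9 (p5u1164) p5r1165

theorem p5r1166 : allRange pointOk 22 87219 9 = true := by decide +kernel
theorem p5u1166 : ∀ k, 76725 ≤ k → k < 87228 → pointOk (k * 22) = true := between_extend pointOk 22 76725 87219 9 (p5u1165) p5r1166

theorem p5r1167 : allRange pointOk 22 87228 9 = true := by decide +kernel
theorem p5u1167 : ∀ k, 76725 ≤ k → k < 87237 → pointOk (k * 22) = true := between_extend pointOk 22 76725 87228 9 (p5u1166) p5r1167

theorem p5r1168 : allRange pointOk 22 87237 9 = true := by decide +kernel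
theorem p5u1168 : ∀ k, 76725 ≤ k → k < 87246 → pointOk (k * 22) = true := between_extend pointOk 22 76725 87237 9 (p5u1167) p5r1168

theorem p5r1169 : allRange pointOk 22 87246 9 = true := by decide +kernel
theorem p5u1169 : ∀ k, 76725 ≤ k → k < 87255 → pointOk (k * 22) = true := between_extend pointOk 22 76725 87246 9 (p5u1168) p5r1169

theorem p5r1170 : allRange pointOk 22 87255 9 = true := by decide +kernel
theorem p5u1170 : ∀ k, 76725 ≤ k → k < 87264 → pointOk (k * 22) = true := between_extend pointOk 22 76725 87255 9 (p5u1169) p5r1170

theorem p5r1171 : allRange pointOk 22 87264 9 = true := by decide +kernel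
theorem p5u1171 : ∀ k, 76725 ≤ k → k < 87273 → pointOk (k * 22) = true := between_extend pointOk 22 76725 87264 9 (p5u1170) p5r1171

theorem p5r1172 : allRange pointOk 22 87273 9 = true := by decide +kernel
theorem p5u1172 : ∀ k, 76725 ≤ k → k < 87282 → pointOk (k * 22) = true := between_extend pointOk 22 76725 87273 9 (p5u1171) p5r1172

theorem p5r1173 : allRange pointOk 22 87282 9 = true := by decide +kernel
theorem p5u1173 : ∀ k, 76725 ≤ k → k < 87291 → pointOk (k * 22) = true := between_extend pointOk 22 76725 87282 9 (p5u1172) p5r1173

theorem p5r1174 : allRange pointOk 22 87291 9 = true := by decide +kernel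
theorem p5u1174 : ∀ k, 76725 ≤ k → k < 87300 → pointOk (k * 22) = true := between_extend pointOk 22 76725 87291 9 (p5u1173) p5r1174

theorem p5r1175 : allRange pointOk 22 87300 9 = true := by decide +kernel
theorem p5u1175 : ∀ k, 76725 ≤ k → k < 87309 → pointOk (k * 22) = true := between_extend pointOk 22 76725 87300 9 (p5u1174) p5r1175

theorem p5r1176 : allRange pointOk 22 87309 9 = true := by decide +kernel
theorem p5u1176 : ∀ k, 76725 ≤ k → k < 87318 → pointOk (k * 22) = true := between_extend pointOk 22 76725 87309 9 (p5u1175) p5r1176

theorem p5r1177 : allRange pointOk 22 87318 9 = true := by decide +kernel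
theorem p5u1177 : ∀ k, 76725 ≤ k → k < 87327 → pointOk (k * 22) = true := between_extend pointOk 22 76725 87318 9 (p5u1176) p5r1177

theorem p5r1178 : allRange pointOk 22 87327 9 = true := by decide +kernel
theorem p5u1178 : ∀ k, 76725 ≤ k → k < 87336 → pointOk (k * 22) = true := between_extend pointOk 22 76725 87327 9 (p5u1177) p5r1178

theorem p5r1179 : allRange pointOk 22 87336 9 = true := by decide +kernel
theorem p5u1179 : ∀ k, 76725 ≤ k → k < 87345 → pointOk (k * 22) = true := between_extend pointOk 22 76725 87336 9 (p5u1178) p5r1179

theorem p5r1180 : allRange pointOk 22 87345 9 = true := by decide +kernel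
theorem p5u1180 : ∀ k, 76725 ≤ k → k < 87354 → pointOk (k * 22) = true := between_extend pointOk 22 76725 87345 9 (p5u1179) p5r1180

theorem p5r1181 : allRange pointOk 22 87354 9 = true := by decide +kernel
theorem p5u1181 : ∀ k, 76725 ≤ k → k < 87363 → pointOk (k * 22) = true := between_extend pointOk 22 76725 87354 9 (p5u1180) p5r1181

theorem p5r1182 : allRange pointOk 22 87363 9 = true := by decide +kernel
theorem p5u1182 : ∀ k, 76725 ≤ k → k < 87372 → pointOk (k * 22) = true := between_extend pointOk 22 76725 87363 9 (p5u1181) p5r1182

theorem p5r1183 : allRange pointOk 22 87372 9 = true := by decide +kernel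
theorem p5u1183 : ∀ k, 76725 ≤ k → k < 87381 → pointOk (k * 22) = true := between_extend pointOk 22 76725 87372 9 (p5u1182) p5r1183

theorem p5r1184 : allRange pointOk 22 87381 9 = true := by decide +kernel
theorem p5u1184 : ∀ k, 76725 ≤ k → k < 87390 → pointOk (k * 22) = true := between_extend pointOk 22 76725 87381 9 (p5u1183) p5r1184

theorem p5r1185 : allRange pointOk 22 87390 9 = true := by decide +kernel
theorem p5u1185 : ∀ k, 76725 ≤ k → k < 87399 → pointOk (k * 22) = true := between_extend pointOk 22 76725 87390 9 (p5u1184) p5r1185

theorem p5r1186 : allRange pointOk 22 87399 9 = true := by decide +kernel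
theorem p5u1186 : ∀ k, 76725 ≤ k → k < 87408 → pointOk (k * 22) = true := between_extend pointOk 22 76725 87399 9 (p5u1185) p5r1186

theorem p5r1187 : allRange pointOk 22 87408 9 = true := by decide +kernel
theorem p5u1187 : ∀ k, 76725 ≤ k → k < 87417 → pointOk (k * 22) = true := between_extend pointOk 22 76725 87408 9 (p5u1186) p5r1187

theorem p5r1188 : allRange pointOk 22 87417 9 = true := by decide +kernel
theorem p5u1188 : ∀ k, 76725 ≤ k → k < 87426 → pointOk (k * 22) = true := between_extend pointOk 22 76725 87417 9 (p5u1187) p5r1188

theorem p5r1189 : allRange pointOk 22 87426 9 = true := by decide +kernel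
theorem p5u1189 : ∀ k, 76725 ≤ k → k < 87435 → pointOk (k * 22) = true := between_extend pointOk 22 76725 87426 9 (p5u1188) p5r1189

theorem p5r1190 : allRange pointOk 22 87435 9 = true := by decide +kernel
theorem p5u1190 : ∀ k, 76725 ≤ k → k < 87444 → pointOk (k * 22) = true := between_extend pointOk 22 76725 87435 9 (p5u1189) p5r1190

theorem p5r1191 : allRange pointOk 22 87444 9 = true := by decide +kernel
theorem p5u1191 : ∀ k, 76725 ≤ k → k < 87453 → pointOk (k * 22) = true := between_extend pointOk 22 76725 87444 9 (p5u1190) p5r1191

theorem p5r1192 : allRange pointOk 22 87453 9 = true := by decide +kernel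
theorem p5u1192 : ∀ k, 76725 ≤ k → k < 87462 → pointOk (k * 22) = true := between_extend pointOk 22 76725 87453 9 (p5u1191) p5r1192

theorem p5r1193 : allRange pointOk 22 87462 9 = true := by decide +kernel
theorem p5u1193 : ∀ k, 76725 ≤ k → k < 87471 → pointOk (k * 22) = true := between_extend pointOk 22 76725 87462 9 (p5u1192) p5r1193

theorem p5r1194 : allRange pointOk 22 87471 9 = true := by decide +kernel
theorem p5u1194 : ∀ k, 76725 ≤ k → k < 87480 → pointOk (k * 22) = true := between_extend pointOk 22 76725 87471 9 (p5u1193) p5r1194

theorem p5r1195 : allRange pointOk 22 87480 9 = true := by decide +kernel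
theorem p5u1195 : ∀ k, 76725 ≤ k → k < 87489 → pointOk (k * 22) = true := between_extend pointOk 22 76725 87480 9 (p5u1194) p5r1195

theorem p5r1196 : allRange pointOk 22 87489 9 = true := by decide +kernel
theorem p5u1196 : ∀ k, 76725 ≤ k → k < 87498 → pointOk (k * 22) = true := between_extend pointOk 22 76725 87489 9 (p5u1195) p5r1196

theorem p5r1197 : allRange pointOk 22 87498 9 = true := by decide +kernel
theorem p5u1197 : ∀ k, 76725 ≤ k → k < 87507 → pointOk (k * 22) = true := between_extend pointOk 22 76725 87498 9 (p5u1196) p5r1197

theorem p5r1198 : allRange pointOk 22 87507 9 = true := by decide +kernel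
theorem p5u1198 : ∀ k, 76725 ≤ k → k < 87516 → pointOk (k * 22) = true := between_extend pointOk 22 76725 87507 9 (p5u1197) p5r1198

theorem p5r1199 : allRange pointOk 22 87516 9 = true := by decide +kernel
theorem p5u1199 : ∀ k, 76725 ≤ k → k < 87525 → pointOk (k * 22) = true := between_extend pointOk 22 76725 87516 9 (p5u1198) p5r1199

theorem p5r1200 : allRange pointOk 22 87525 9 = true := by decide +kernel
theorem p5u1200 : ∀ k, 76725 ≤ k → k < 87534 → pointOk (k * 22) = true := between_extend pointOk 22 76725 87525 9 (p5u1199) p5r1200

theorem p5r1201 : allRange pointOk 22 87534 9 = true := by decide +kernel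
theorem p5u1201 : ∀ k, 76725 ≤ k → k < 87543 → pointOk (k * 22) = true := between_extend pointOk 22 76725 87534 9 (p5u1200) p5r1201

theorem p5r1202 : allRange pointOk 22 87543 9 = true := by decide +kernel
theorem p5u1202 : ∀ k, 76725 ≤ k → k < 87552 → pointOk (k * 22) = true := between_extend pointOk 22 76725 87543 9 (p5u1201) p5r1202

theorem p5r1203 : allRange pointOk 22 87552 9 = true := by decide +kernel
theorem p5u1203 : ∀ k, 76725 ≤ k → k < 87561 → pointOk (k * 22) = true := between_extend pointOk 22 76725 87552 9 (p5u1202) p5r1203

theorem p5r1204 : allRange pointOk 22 87561 9 = true := by decide +kernel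
theorem p5u1204 : ∀ k, 76725 ≤ k → k < 87570 → pointOk (k * 22) = true := between_extend pointOk 22 76725 87561 9 (p5u1203) p5r1204

theorem p5r1205 : allRange pointOk 22 87570 9 = true := by decide +kernel
theorem p5u1205 : ∀ k, 76725 ≤ k → k < 87579 → pointOk (k * 22) = true := between_extend pointOk 22 76725 87570 9 (p5u1204) p5r1205

theorem p5r1206 : allRange pointOk 22 87579 9 = true := by decide +kernel
theorem p5u1206 : ∀ k, 76725 ≤ k → k < 87588 → pointOk (k * 22) = true := between_extend pointOk 22 76725 87579 9 (p5u1205) p5r1206

theorem p5r1207 : allRange pointOk 22 87588 9 = true := by decide +kernel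
theorem p5u1207 : ∀ k, 76725 ≤ k → k < 87597 → pointOk (k * 22) = true := between_extend pointOk 22 76725 87588 9 (p5u1206) p5r1207

theorem p5r1208 : allRange pointOk 22 87597 9 = true := by decide +kernel
theorem p5u1208 : ∀ k, 76725 ≤ k → k < 87606 → pointOk (k * 22) = true := between_extend pointOk 22 76725 87597 9 (p5u1207) p5r1208

theorem p5r1209 : allRange pointOk 22 87606 9 = true := by decide +kernel
theorem p5u1209 : ∀ k, 76725 ≤ k → k < 87615 → pointOk (k * 22) = true := between_extend pointOk 22 76725 87606 9 (p5u1208) p5r1209

theorem p5r1210 : allRange pointOk 22 87615 9 = true := by decide +kernel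
theorem p5u1210 : ∀ k, 76725 ≤ k → k < 87624 → pointOk (k * 22) = true := between_extend pointOk 22 76725 87615 9 (p5u1209) p5r1210

theorem p5r1211 : allRange pointOk 22 87624 9 = true := by decide +kernel
theorem p5u1211 : ∀ k, 76725 ≤ k → k < 87633 → pointOk (k * 22) = true := between_extend pointOk 22 76725 87624 9 (p5u1210) p5r1211

theorem p5r1212 : allRange pointOk 22 87633 9 = true := by decide +kernel
theorem p5u1212 : ∀ k, 76725 ≤ k → k < 87642 → pointOk (k * 22) = true := between_extend pointOk 22 76725 87633 9 (p5u1211) p5r1212

theorem p5r1213 : allRange pointOk 22 87642 9 = true := by decide +kernel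
theorem p5u1213 : ∀ k, 76725 ≤ k → k < 87651 → pointOk (k * 22) = true := between_extend pointOk 22 76725 87642 9 (p5u1212) p5r1213

theorem p5r1214 : allRange pointOk 22 87651 9 = true := by decide +kernel
theorem p5u1214 : ∀ k, 76725 ≤ k → k < 87660 → pointOk (k * 22) = true := between_extend pointOk 22 76725 87651 9 (p5u1213) p5r1214

theorem p5r1215 : allRange pointOk 22 87660 9 = true := by decide +kernel
theorem p5u1215 : ∀ k, 76725 ≤ k → k < 87669 → pointOk (k * 22) = true := between_extend pointOk 22 76725 87660 9 (p5u1214) p5r1215

theorem p5r1216 : allRange pointOk 22 87669 9 = true := by decide +kernel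
theorem p5u1216 : ∀ k, 76725 ≤ k → k < 87678 → pointOk (k * 22) = true := between_extend pointOk 22 76725 87669 9 (p5u1215) p5r1216

theorem p5r1217 : allRange pointOk 22 87678 9 = true := by decide +kernel
theorem p5u1217 : ∀ k, 76725 ≤ k → k < 87687 → pointOk (k * 22) = true := between_extend pointOk 22 76725 87678 9 (p5u1216) p5r1217

theorem p5r1218 : allRange pointOk 22 87687 9 = true := by decide +kernel
theorem p5u1218 : ∀ k, 76725 ≤ k → k < 87696 → pointOk (k * 22) = true := between_extend pointOk 22 76725 87687 9 (p5u1217) p5r1218

theorem p5r1219 : allRange pointOk 22 87696 9 = true := by decide +kernel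
theorem p5u1219 : ∀ k, 76725 ≤ k → k < 87705 → pointOk (k * 22) = true := between_extend pointOk 22 76725 87696 9 (p5u1218) p5r1219

theorem p5r1220 : allRange pointOk 22 87705 9 = true := by decide +kernel
theorem p5u1220 : ∀ k, 76725 ≤ k → k < 87714 → pointOk (k * 22) = true := between_extend pointOk 22 76725 87705 9 (p5u1219) p5r1220

theorem p5r1221 : allRange pointOk 22 87714 9 = true := by decide +kernel
theorem p5u1221 : ∀ k, 76725 ≤ k → k < 87723 → pointOk (k * 22) = true := between_extend pointOk 22 76725 87714 9 (p5u1220) p5r1221

theorem p5r1222 : allRange pointOk 22 87723 9 = true := by decide +kernel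
theorem p5u1222 : ∀ k, 76725 ≤ k → k < 87732 → pointOk (k * 22) = true := between_extend pointOk 22 76725 87723 9 (p5u1221) p5r1222

theorem p5r1223 : allRange pointOk 22 87732 9 = true := by decide +kernel
theorem p5u1223 : ∀ k, 76725 ≤ k → k < 87741 → pointOk (k * 22) = true := between_extend pointOk 22 76725 87732 9 (p5u1222) p5r1223

theorem p5r1224 : allRange pointOk 22 87741 9 = true := by decide +kernel
theorem p5u1224 : ∀ k, 76725 ≤ k → k < 87750 → pointOk (k * 22) = true := between_extend pointOk 22 76725 87741 9 (p5u1223) p5r1224

theorem p5r1225 : allRange pointOk 22 87750 9 = true := by decide +kernel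
theorem p5u1225 : ∀ k, 76725 ≤ k → k < 87759 → pointOk (k * 22) = true := between_extend pointOk 22 76725 87750 9 (p5u1224) p5r1225

theorem p5r1226 : allRange pointOk 22 87759 9 = true := by decide +kernel
theorem p5u1226 : ∀ k, 76725 ≤ k → k < 87768 → pointOk (k * 22) = true := between_extend pointOk 22 76725 87759 9 (p5u1225) p5r1226

theorem p5r1227 : allRange pointOk 22 87768 9 = true := by decide +kernel
theorem p5u1227 : ∀ k, 76725 ≤ k → k < 87777 → pointOk (k * 22) = true := between_extend pointOk 22 76725 87768 9 (p5u1226) p5r1227

theorem p5r1228 : allRange pointOk 22 87777 9 = true := by decide +kernel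
theorem p5u1228 : ∀ k, 76725 ≤ k → k < 87786 → pointOk (k * 22) = true := between_extend pointOk 22 76725 87777 9 (p5u1227) p5r1228

theorem p5r1229 : allRange pointOk 22 87786 9 = true := by decide +kernel
theorem p5u1229 : ∀ k, 76725 ≤ k → k < 87795 → pointOk (k * 22) = true := between_extend pointOk 22 76725 87786 9 (p5u1228) p5r1229

theorem p5r1230 : allRange pointOk 22 87795 9 = true := by decide +kernel
theorem p5u1230 : ∀ k, 76725 ≤ k → k < 87804 → pointOk (k * 22) = true := between_extend pointOk 22 76725 87795 9 (p5u1229) p5r1230

theorem p5r1231 : allRange pointOk 22 87804 9 = true := by decide +kernel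
theorem p5u1231 : ∀ k, 76725 ≤ k → k < 87813 → pointOk (k * 22) = true := between_extend pointOk 22 76725 87804 9 (p5u1230) p5r1231

theorem p5r1232 : allRange pointOk 22 87813 9 = true := by decide +kernel
theorem p5u1232 : ∀ k, 76725 ≤ k → k < 87822 → pointOk (k * 22) = true := between_extend pointOk 22 76725 87813 9 (p5u1231) p5r1232

theorem p5r1233 : allRange pointOk 22 87822 9 = true := by decide +kernel
theorem p5u1233 : ∀ k, 76725 ≤ k → k < 87831 → pointOk (k * 22) = true := between_extend pointOk 22 76725 87822 9 (p5u1232) p5r1233

theorem p5r1234 : allRange pointOk 22 87831 9 = true := by decide +kernel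
theorem p5u1234 : ∀ k, 76725 ≤ k → k < 87840 → pointOk (k * 22) = true := between_extend pointOk 22 76725 87831 9 (p5u1233) p5r1234

theorem p5r1235 : allRange pointOk 22 87840 9 = true := by decide +kernel
theorem p5u1235 : ∀ k, 76725 ≤ k → k < 87849 → pointOk (k * 22) = true := between_extend pointOk 22 76725 87840 9 (p5u1234) p5r1235

theorem p5r1236 : allRange pointOk 22 87849 9 = true := by decide +kernel
theorem p5u1236 : ∀ k, 76725 ≤ k → k < 87858 → pointOk (k * 22) = true := between_extend pointOk 22 76725 87849 9 (p5u1235) p5r1236

theorem p5r1237 : allRange pointOk 22 87858 9 = true := by decide +kernel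
theorem p5u1237 : ∀ k, 76725 ≤ k → k < 87867 → pointOk (k * 22) = true := between_extend pointOk 22 76725 87858 9 (p5u1236) p5r1237

theorem p5r1238 : allRange pointOk 22 87867 9 = true := by decide +kernel
theorem p5u1238 : ∀ k, 76725 ≤ k → k < 87876 → pointOk (k * 22) = true := between_extend pointOk 22 76725 87867 9 (p5u1237) p5r1238

theorem p5r1239 : allRange pointOk 22 87876 9 = true := by decide +kernel
theorem p5u1239 : ∀ k, 76725 ≤ k → k < 87885 → pointOk (k * 22) = true := between_extend pointOk 22 76725 87876 9 (p5u1238) p5r1239

theorem p5r1240 : allRange pointOk 22 87885 9 = true := by decide +kernel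
theorem p5u1240 : ∀ k, 76725 ≤ k → k < 87894 → pointOk (k * 22) = true := between_extend pointOk 22 76725 87885 9 (p5u1239) p5r1240

theorem p5r1241 : allRange pointOk 22 87894 9 = true := by decide +kernel
theorem p5u1241 : ∀ k, 76725 ≤ k → k < 87903 → pointOk (k * 22) = true := between_extend pointOk 22 76725 87894 9 (p5u1240) p5r1241

theorem p5r1242 : allRange pointOk 22 87903 9 = true := by decide +kernel
theorem p5u1242 : ∀ k, 76725 ≤ k → k < 87912 → pointOk (k * 22) = true := between_extend pointOk 22 76725 87903 9 (p5u1241) p5r1242

theorem p5r1243 : allRange pointOk 22 87912 9 = true := by decide +kernel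
theorem p5u1243 : ∀ k, 76725 ≤ k → k < 87921 → pointOk (k * 22) = true := between_extend pointOk 22 76725 87912 9 (p5u1242) p5r1243

theorem p5r1244 : allRange pointOk 22 87921 9 = true := by decide +kernel
theorem p5u1244 : ∀ k, 76725 ≤ k → k < 87930 → pointOk (k * 22) = true := between_extend pointOk 22 76725 87921 9 (p5u1243) p5r1244

theorem p5r1245 : allRange pointOk 22 87930 9 = true := by decide +kernel
theorem p5u1245 : ∀ k, 76725 ≤ k → k < 87939 → pointOk (k * 22) = true := between_extend pointOk 22 76725 87930 9 (p5u1244) p5r1245

theorem p5r1246 : allRange pointOk 22 87939 9 = true := by decide +kernel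
theorem p5u1246 : ∀ k, 76725 ≤ k → k < 87948 → pointOk (k * 22) = true := between_extend pointOk 22 76725 87939 9 (p5u1245) p5r1246

theorem p5r1247 : allRange pointOk 22 87948 9 = true := by decide +kernel
theorem p5u1247 : ∀ k, 76725 ≤ k → k < 87957 → pointOk (k * 22) = true := between_extend pointOk 22 76725 87948 9 (p5u1246) p5r1247

theorem p5r1248 : allRange pointOk 22 87957 9 = true := by decide +kernel
theorem p5u1248 : ∀ k, 76725 ≤ k → k < 87966 → pointOk (k * 22) = true := between_extend pointOk 22 76725 87957 9 (p5u1247) p5r1248

theorem p5r1249 : allRange pointOk 22 87966 9 = true := by decide +kernel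
theorem p5u1249 : ∀ k, 76725 ≤ k → k < 87975 → pointOk (k * 22) = true := between_extend pointOk 22 76725 87966 9 (p5u1248) p5r1249

theorem p5r1250 : allRange pointOk 22 87975 9 = true := by decide +kernel
theorem p5u1250 : ∀ k, 76725 ≤ k → k < 87984 → pointOk (k * 22) = true := between_extend pointOk 22 76725 87975 9 (p5u1249) p5r1250

theorem p5r1251 : allRange pointOk 22 87984 9 = true := by decide +kernel
theorem p5u1251 : ∀ k, 76725 ≤ k → k < 87993 → pointOk (k * 22) = true := between_extend pointOk 22 76725 87984 9 (p5u1250) p5r1251

theorem p5r1252 : allRange pointOk 22 87993 9 = true := by decide +kernel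
theorem p5u1252 : ∀ k, 76725 ≤ k → k < 88002 → pointOk (k * 22) = true := between_extend pointOk 22 76725 87993 9 (p5u1251) p5r1252

theorem p5r1253 : allRange pointOk 22 88002 9 = true := by decide +kernel
theorem p5u1253 : ∀ k, 76725 ≤ k → k < 88011 → pointOk (k * 22) = true := between_extend pointOk 22 76725 88002 9 (p5u1252) p5r1253

theorem p5r1254 : allRange pointOk 22 88011 9 = true := by decide +kernel
theorem p5u1254 : ∀ k, 76725 ≤ k → k < 88020 → pointOk (k * 22) = true := between_extend pointOk 22 76725 88011 9 (p5u1253) p5r1254

theorem p5r1255 : allRange pointOk 22 88020 9 = true := by decide +kernel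
theorem p5u1255 : ∀ k, 76725 ≤ k → k < 88029 → pointOk (k * 22) = true := between_extend pointOk 22 76725 88020 9 (p5u1254) p5r1255

theorem p5r1256 : allRange pointOk 22 88029 9 = true := by decide +kernel
theorem p5u1256 : ∀ k, 76725 ≤ k → k < 88038 → pointOk (k * 22) = true := between_extend pointOk 22 76725 88029 9 (p5u1255) p5r1256

theorem p5r1257 : allRange pointOk 22 88038 9 = true := by decide +kernel
theorem p5u1257 : ∀ k, 76725 ≤ k → k < 88047 → pointOk (k * 22) = true := between_extend pointOk 22 76725 88038 9 (p5u1256) p5r1257

theorem p5r1258 : allRange pointOk 22 88047 9 = true := by decide +kernel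
theorem p5u1258 : ∀ k, 76725 ≤ k → k < 88056 → pointOk (k * 22) = true := between_extend pointOk 22 76725 88047 9 (p5u1257) p5r1258

theorem p5r1259 : allRange pointOk 22 88056 9 = true := by decide +kernel
theorem p5u1259 : ∀ k, 76725 ≤ k → k < 88065 → pointOk (k * 22) = true := between_extend pointOk 22 76725 88056 9 (p5u1258) p5r1259

theorem p5r1260 : allRange pointOk 22 88065 9 = true := by decide +kernel
theorem p5u1260 : ∀ k, 76725 ≤ k → k < 88074 → pointOk (k * 22) = true := between_extend pointOk 22 76725 88065 9 (p5u1259) p5r1260

theorem p5r1261 : allRange pointOk 22 88074 9 = true := by decide +kernel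
theorem p5u1261 : ∀ k, 76725 ≤ k → k < 88083 → pointOk (k * 22) = true := between_extend pointOk 22 76725 88074 9 (p5u1260) p5r1261

theorem p5r1262 : allRange pointOk 22 88083 9 = true := by decide +kernel
theorem p5u1262 : ∀ k, 76725 ≤ k → k < 88092 → pointOk (k * 22) = true := between_extend pointOk 22 76725 88083 9 (p5u1261) p5r1262

theorem p5r1263 : allRange pointOk 22 88092 9 = true := by decide +kernel
theorem p5u1263 : ∀ k, 76725 ≤ k → k < 88101 → pointOk (k * 22) = true := between_extend pointOk 22 76725 88092 9 (p5u1262) p5r1263

theorem p5r1264 : allRange pointOk 22 88101 9 = true := by decide +kernel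
theorem p5u1264 : ∀ k, 76725 ≤ k → k < 88110 → pointOk (k * 22) = true := between_extend pointOk 22 76725 88101 9 (p5u1263) p5r1264

theorem p5r1265 : allRange pointOk 22 88110 9 = true := by decide +kernel
theorem p5u1265 : ∀ k, 76725 ≤ k → k < 88119 → pointOk (k * 22) = true := between_extend pointOk 22 76725 88110 9 (p5u1264) p5r1265

theorem p5r1266 : allRange pointOk 22 88119 9 = true := by decide +kernel
theorem p5u1266 : ∀ k, 76725 ≤ k → k < 88128 → pointOk (k * 22) = true := between_extend pointOk 22 76725 88119 9 (p5u1265) p5r1266

theorem p5r1267 : allRange pointOk 22 88128 9 = true := by decide +kernel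
theorem p5u1267 : ∀ k, 76725 ≤ k → k < 88137 → pointOk (k * 22) = true := between_extend pointOk 22 76725 88128 9 (p5u1266) p5r1267

theorem p5r1268 : allRange pointOk 22 88137 9 = true := by decide +kernel
theorem p5u1268 : ∀ k, 76725 ≤ k → k < 88146 → pointOk (k * 22) = true := between_extend pointOk 22 76725 88137 9 (p5u1267) p5r1268

theorem p5r1269 : allRange pointOk 22 88146 9 = true := by decide +kernel
theorem p5u1269 : ∀ k, 76725 ≤ k → k < 88155 → pointOk (k * 22) = true := between_extend pointOk 22 76725 88146 9 (p5u1268) p5r1269

theorem p5r1270 : allRange pointOk 22 88155 9 = true := by decide +kernel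
theorem p5u1270 : ∀ k, 76725 ≤ k → k < 88164 → pointOk (k * 22) = true := between_extend pointOk 22 76725 88155 9 (p5u1269) p5r1270

theorem p5r1271 : allRange pointOk 22 88164 9 = true := by decide +kernel
theorem p5u1271 : ∀ k, 76725 ≤ k → k < 88173 → pointOk (k * 22) = true := between_extend pointOk 22 76725 88164 9 (p5u1270) p5r1271

theorem p5r1272 : allRange pointOk 22 88173 9 = true := by decide +kernel
theorem p5u1272 : ∀ k, 76725 ≤ k → k < 88182 → pointOk (k * 22) = true := between_extend pointOk 22 76725 88173 9 (p5u1271) p5r1272

theorem p5r1273 : allRange pointOk 22 88182 9 = true := by decide +kernel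
theorem p5u1273 : ∀ k, 76725 ≤ k → k < 88191 → pointOk (k * 22) = true := between_extend pointOk 22 76725 88182 9 (p5u1272) p5r1273

theorem p5r1274 : allRange pointOk 22 88191 9 = true := by decide +kernel
theorem p5u1274 : ∀ k, 76725 ≤ k → k < 88200 → pointOk (k * 22) = true := between_extend pointOk 22 76725 88191 9 (p5u1273) p5r1274

theorem p5r1275 : allRange pointOk 22 88200 9 = true := by decide +kernel
theorem p5u1275 : ∀ k, 76725 ≤ k → k < 88209 → pointOk (k * 22) = true := between_extend pointOk 22 76725 88200 9 (p5u1274) p5r1275

theorem p5r1276 : allRange pointOk 22 88209 9 = true := by decide +kernel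
theorem p5u1276 : ∀ k, 76725 ≤ k → k < 88218 → pointOk (k * 22) = true := between_extend pointOk 22 76725 88209 9 (p5u1275) p5r1276

theorem p5r1277 : allRange pointOk 22 88218 9 = true := by decide +kernel
theorem p5u1277 : ∀ k, 76725 ≤ k → k < 88227 → pointOk (k * 22) = true := between_extend pointOk 22 76725 88218 9 (p5u1276) p5r1277

theorem p5r1278 : allRange pointOk 22 88227 9 = true := by decide +kernel
theorem p5u1278 : ∀ k, 76725 ≤ k → k < 88236 → pointOk (k * 22) = true := between_extend pointOk 22 76725 88227 9 (p5u1277) p5r1278

theorem p5r1279 : allRange pointOk 22 88236 9 = true := by decide +kernel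
theorem p5u1279 : ∀ k, 76725 ≤ k → k < 88245 → pointOk (k * 22) = true := between_extend pointOk 22 76725 88236 9 (p5u1278) p5r1279

theorem p5r1280 : allRange pointOk 22 88245 9 = true := by decide +kernel
theorem p5u1280 : ∀ k, 76725 ≤ k → k < 88254 → pointOk (k * 22) = true := between_extend pointOk 22 76725 88245 9 (p5u1279) p5r1280

theorem p5r1281 : allRange pointOk 22 88254 9 = true := by decide +kernel
theorem p5u1281 : ∀ k, 76725 ≤ k → k < 88263 → pointOk (k * 22) = true := between_extend pointOk 22 76725 88254 9 (p5u1280) p5r1281

theorem p5r1282 : allRange pointOk 22 88263 9 = true := by decide +kernel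
theorem p5u1282 : ∀ k, 76725 ≤ k → k < 88272 → pointOk (k * 22) = true := between_extend pointOk 22 76725 88263 9 (p5u1281) p5r1282

theorem p5r1283 : allRange pointOk 22 88272 9 = true := by decide +kernel
theorem p5u1283 : ∀ k, 76725 ≤ k → k < 88281 → pointOk (k * 22) = true := between_extend pointOk 22 76725 88272 9 (p5u1282) p5r1283

theorem p5r1284 : allRange pointOk 22 88281 9 = true := by decide +kernel
theorem p5u1284 : ∀ k, 76725 ≤ k → k < 88290 → pointOk (k * 22) = true := between_extend pointOk 22 76725 88281 9 (p5u1283) p5r1284

theorem p5r1285 : allRange pointOk 22 88290 9 = true := by decide +kernel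
theorem p5u1285 : ∀ k, 76725 ≤ k → k < 88299 → pointOk (k * 22) = true := between_extend pointOk 22 76725 88290 9 (p5u1284) p5r1285

theorem p5r1286 : allRange pointOk 22 88299 9 = true := by decide +kernel
theorem p5u1286 : ∀ k, 76725 ≤ k → k < 88308 → pointOk (k * 22) = true := between_extend pointOk 22 76725 88299 9 (p5u1285) p5r1286

theorem p5r1287 : allRange pointOk 22 88308 9 = true := by decide +kernel
theorem p5u1287 : ∀ k, 76725 ≤ k → k < 88317 → pointOk (k * 22) = true := between_extend pointOk 22 76725 88308 9 (p5u1286) p5r1287

theorem p5r1288 : allRange pointOk 22 88317 9 = true := by decide +kernel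
theorem p5u1288 : ∀ k, 76725 ≤ k → k < 88326 → pointOk (k * 22) = true := between_extend pointOk 22 76725 88317 9 (p5u1287) p5r1288

theorem p5r1289 : allRange pointOk 22 88326 9 = true := by decide +kernel
theorem p5u1289 : ∀ k, 76725 ≤ k → k < 88335 → pointOk (k * 22) = true := between_extend pointOk 22 76725 88326 9 (p5u1288) p5r1289

theorem p5r1290 : allRange pointOk 22 88335 9 = true := by decide +kernel
theorem p5u1290 : ∀ k, 76725 ≤ k → k < 88344 → pointOk (k * 22) = true := between_extend pointOk 22 76725 88335 9 (p5u1289) p5r1290

theorem p5r1291 : allRange pointOk 22 88344 9 = true := by decide +kernel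
theorem p5u1291 : ∀ k, 76725 ≤ k → k < 88353 → pointOk (k * 22) = true := between_extend pointOk 22 76725 88344 9 (p5u1290) p5r1291

theorem p5r1292 : allRange pointOk 22 88353 9 = true := by decide +kernel
theorem p5u1292 : ∀ k, 76725 ≤ k → k < 88362 → pointOk (k * 22) = true := between_extend pointOk 22 76725 88353 9 (p5u1291) p5r1292

theorem p5r1293 : allRange pointOk 22 88362 9 = true := by decide +kernel
theorem p5u1293 : ∀ k, 76725 ≤ k → k < 88371 → pointOk (k * 22) = true := between_extend pointOk 22 76725 88362 9 (p5u1292) p5r1293

theorem p5r1294 : allRange pointOk 22 88371 9 = true := by decide +kernel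
theorem p5u1294 : ∀ k, 76725 ≤ k → k < 88380 → pointOk (k * 22) = true := between_extend pointOk 22 76725 88371 9 (p5u1293) p5r1294

theorem p5r1295 : allRange pointOk 22 88380 9 = true := by decide +kernel
theorem p5u1295 : ∀ k, 76725 ≤ k → k < 88389 → pointOk (k * 22) = true := between_extend pointOk 22 76725 88380 9 (p5u1294) p5r1295

theorem p5r1296 : allRange pointOk 22 88389 9 = true := by decide +kernel
theorem p5u1296 : ∀ k, 76725 ≤ k → k < 88398 → pointOk (k * 22) = true := between_extend pointOk 22 76725 88389 9 (p5u1295) p5r1296

theorem p5r1297 : allRange pointOk 22 88398 9 = true := by decide +kernel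
theorem p5u1297 : ∀ k, 76725 ≤ k → k < 88407 → pointOk (k * 22) = true := between_extend pointOk 22 76725 88398 9 (p5u1296) p5r1297

theorem p5r1298 : allRange pointOk 22 88407 9 = true := by decide +kernel
theorem p5u1298 : ∀ k, 76725 ≤ k → k < 88416 → pointOk (k * 22) = true := between_extend pointOk 22 76725 88407 9 (p5u1297) p5r1298

theorem p5r1299 : allRange pointOk 22 88416 9 = true := by decide +kernel
theorem p5u1299 : ∀ k, 76725 ≤ k → k < 88425 → pointOk (k * 22) = true := between_extend pointOk 22 76725 88416 9 (p5u1298) p5r1299

theorem p5r1300 : allRange pointOk 22 88425 9 = true := by decide +kernel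
theorem p5u1300 : ∀ k, 76725 ≤ k → k < 88434 → pointOk (k * 22) = true := between_extend pointOk 22 76725 88425 9 (p5u1299) p5r1300

theorem p5r1301 : allRange pointOk 22 88434 9 = true := by decide +kernel
theorem p5u1301 : ∀ k, 76725 ≤ k → k < 88443 → pointOk (k * 22) = true := between_extend pointOk 22 76725 88434 9 (p5u1300) p5r1301

theorem p5r1302 : allRange pointOk 22 88443 9 = true := by decide +kernel
theorem p5u1302 : ∀ k, 76725 ≤ k → k < 88452 → pointOk (k * 22) = true := between_extend pointOk 22 76725 88443 9 (p5u1301) p5r1302

theorem p5r1303 : allRange pointOk 22 88452 9 = true := by decide +kernel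
theorem p5u1303 : ∀ k, 76725 ≤ k → k < 88461 → pointOk (k * 22) = true := between_extend pointOk 22 76725 88452 9 (p5u1302) p5r1303

theorem p5r1304 : allRange pointOk 22 88461 9 = true := by decide +kernel
theorem p5u1304 : ∀ k, 76725 ≤ k → k < 88470 → pointOk (k * 22) = true := between_extend pointOk 22 76725 88461 9 (p5u1303) p5r1304

theorem p5r1305 : allRange pointOk 22 88470 9 = true := by decide +kernel
theorem p5u1305 : ∀ k, 76725 ≤ k → k < 88479 → pointOk (k * 22) = true := between_extend pointOk 22 76725 88470 9 (p5u1304) p5r1305

theorem p5r1306 : allRange pointOk 22 88479 9 = true := by decide +kernel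
theorem p5u1306 : ∀ k, 76725 ≤ k → k < 88488 → pointOk (k * 22) = true := between_extend pointOk 22 76725 88479 9 (p5u1305) p5r1306

theorem p5r1307 : allRange pointOk 22 88488 9 = true := by decide +kernel
theorem p5u1307 : ∀ k, 76725 ≤ k → k < 88497 → pointOk (k * 22) = true := between_extend pointOk 22 76725 88488 9 (p5u1306) p5r1307

theorem p5r1308 : allRange pointOk 22 88497 9 = true := by decide +kernel
theorem p5u1308 : ∀ k, 76725 ≤ k → k < 88506 → pointOk (k * 22) = true := between_extend pointOk 22 76725 88497 9 (p5u1307) p5r1308

theorem p5r1309 : allRange pointOk 22 88506 9 = true := by decide +kernel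
theorem p5u1309 : ∀ k, 76725 ≤ k → k < 88515 → pointOk (k * 22) = true := between_extend pointOk 22 76725 88506 9 (p5u1308) p5r1309

theorem p5r1310 : allRange pointOk 22 88515 9 = true := by decide +kernel
theorem p5u1310 : ∀ k, 76725 ≤ k → k < 88524 → pointOk (k * 22) = true := between_extend pointOk 22 76725 88515 9 (p5u1309) p5r1310

theorem p5r1311 : allRange pointOk 22 88524 9 = true := by decide +kernel
theorem p5u1311 : ∀ k, 76725 ≤ k → k < 88533 → pointOk (k * 22) = true := between_extend pointOk 22 76725 88524 9 (p5u1310) p5r1311

theorem p5r1312 : allRange pointOk 22 88533 9 = true := by decide +kernel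
theorem p5u1312 : ∀ k, 76725 ≤ k → k < 88542 → pointOk (k * 22) = true := between_extend pointOk 22 76725 88533 9 (p5u1311) p5r1312

theorem p5r1313 : allRange pointOk 22 88542 9 = true := by decide +kernel
theorem p5u1313 : ∀ k, 76725 ≤ k → k < 88551 → pointOk (k * 22) = true := between_extend pointOk 22 76725 88542 9 (p5u1312) p5r1313

theorem p5r1314 : allRange pointOk 22 88551 9 = true := by decide +kernel
theorem p5u1314 : ∀ k, 76725 ≤ k → k < 88560 → pointOk (k * 22) = true := between_extend pointOk 22 76725 88551 9 (p5u1313) p5r1314

theorem p5r1315 : allRange pointOk 22 88560 9 = true := by decide +kernel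
theorem p5u1315 : ∀ k, 76725 ≤ k → k < 88569 → pointOk (k * 22) = true := between_extend pointOk 22 76725 88560 9 (p5u1314) p5r1315

theorem p5r1316 : allRange pointOk 22 88569 9 = true := by decide +kernel
theorem p5u1316 : ∀ k, 76725 ≤ k → k < 88578 → pointOk (k * 22) = true := between_extend pointOk 22 76725 88569 9 (p5u1315) p5r1316

theorem p5r1317 : allRange pointOk 22 88578 9 = true := by decide +kernel
theorem p5u1317 : ∀ k, 76725 ≤ k → k < 88587 → pointOk (k * 22) = true := between_extend pointOk 22 76725 88578 9 (p5u1316) p5r1317

theorem p5r1318 : allRange pointOk 22 88587 9 = true := by decide +kernel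
theorem p5u1318 : ∀ k, 76725 ≤ k → k < 88596 → pointOk (k * 22) = true := between_extend pointOk 22 76725 88587 9 (p5u1317) p5r1318

theorem p5r1319 : allRange pointOk 22 88596 9 = true := by decide +kernel
theorem p5u1319 : ∀ k, 76725 ≤ k → k < 88605 → pointOk (k * 22) = true := between_extend pointOk 22 76725 88596 9 (p5u1318) p5r1319

theorem p5r1320 : allRange pointOk 22 88605 9 = true := by decide +kernel
theorem p5u1320 : ∀ k, 76725 ≤ k → k < 88614 → pointOk (k * 22) = true := between_extend pointOk 22 76725 88605 9 (p5u1319) p5r1320

theorem p5r1321 : allRange pointOk 22 88614 9 = true := by decide +kernel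
theorem p5u1321 : ∀ k, 76725 ≤ k → k < 88623 → pointOk (k * 22) = true := between_extend pointOk 22 76725 88614 9 (p5u1320) p5r1321

theorem p5r1322 : allRange pointOk 22 88623 9 = true := by decide +kernel
theorem p5u1322 : ∀ k, 76725 ≤ k → k < 88632 → pointOk (k * 22) = true := between_extend pointOk 22 76725 88623 9 (p5u1321) p5r1322

theorem p5r1323 : allRange pointOk 22 88632 9 = true := by decide +kernel
theorem p5u1323 : ∀ k, 76725 ≤ k → k < 88641 → pointOk (k * 22) = true := between_extend pointOk 22 76725 88632 9 (p5u1322) p5r1323

theorem p5r1324 : allRange pointOk 22 88641 9 = true := by decide +kernel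
theorem p5u1324 : ∀ k, 76725 ≤ k → k < 88650 → pointOk (k * 22) = true := between_extend pointOk 22 76725 88641 9 (p5u1323) p5r1324

theorem p5r1325 : allRange pointOk 22 88650 9 = true := by decide +kernel
theorem p5u1325 : ∀ k, 76725 ≤ k → k < 88659 → pointOk (k * 22) = true := between_extend pointOk 22 76725 88650 9 (p5u1324) p5r1325

theorem p5r1326 : allRange pointOk 22 88659 9 = true := by decide +kernel
theorem p5u1326 : ∀ k, 76725 ≤ k → k < 88668 → pointOk (k * 22) = true := between_extend pointOk 22 76725 88659 9 (p5u1325) p5r1326

theorem p5r1327 : allRange pointOk 22 88668 9 = true := by decide +kernel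
theorem p5u1327 : ∀ k, 76725 ≤ k → k < 88677 → pointOk (k * 22) = true := between_extend pointOk 22 76725 88668 9 (p5u1326) p5r1327

theorem p5r1328 : allRange pointOk 22 88677 9 = true := by decide +kernel
theorem p5u1328 : ∀ k, 76725 ≤ k → k < 88686 → pointOk (k * 22) = true := between_extend pointOk 22 76725 88677 9 (p5u1327) p5r1328

theorem p5r1329 : allRange pointOk 22 88686 9 = true := by decide +kernel
theorem p5u1329 : ∀ k, 76725 ≤ k → k < 88695 → pointOk (k * 22) = true := between_extend pointOk 22 76725 88686 9 (p5u1328) p5r1329

theorem p5r1330 : allRange pointOk 22 88695 9 = true := by decide +kernel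
theorem p5u1330 : ∀ k, 76725 ≤ k → k < 88704 → pointOk (k * 22) = true := between_extend pointOk 22 76725 88695 9 (p5u1329) p5r1330

theorem p5r1331 : allRange pointOk 22 88704 9 = true := by decide +kernel
theorem p5u1331 : ∀ k, 76725 ≤ k → k < 88713 → pointOk (k * 22) = true := between_extend pointOk 22 76725 88704 9 (p5u1330) p5r1331

theorem p5r1332 : allRange pointOk 22 88713 9 = true := by decide +kernel
theorem p5u1332 : ∀ k, 76725 ≤ k → k < 88722 → pointOk (k * 22) = true := between_extend pointOk 22 76725 88713 9 (p5u1331) p5r1332

theorem p5r1333 : allRange pointOk 22 88722 9 = true := by decide +kernel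
theorem p5u1333 : ∀ k, 76725 ≤ k → k < 88731 → pointOk (k * 22) = true := between_extend pointOk 22 76725 88722 9 (p5u1332) p5r1333

theorem p5r1334 : allRange pointOk 22 88731 9 = true := by decide +kernel
theorem p5u1334 : ∀ k, 76725 ≤ k → k < 88740 → pointOk (k * 22) = true := between_extend pointOk 22 76725 88731 9 (p5u1333) p5r1334

theorem p5r1335 : allRange pointOk 22 88740 9 = true := by decide +kernel
theorem p5u1335 : ∀ k, 76725 ≤ k → k < 88749 → pointOk (k * 22) = true := between_extend pointOk 22 76725 88740 9 (p5u1334) p5r1335

theorem p5r1336 : allRange pointOk 22 88749 9 = true := by decide +kernel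
theorem p5u1336 : ∀ k, 76725 ≤ k → k < 88758 → pointOk (k * 22) = true := between_extend pointOk 22 76725 88749 9 (p5u1335) p5r1336

theorem p5r1337 : allRange pointOk 22 88758 9 = true := by decide +kernel
theorem p5u1337 : ∀ k, 76725 ≤ k → k < 88767 → pointOk (k * 22) = true := between_extend pointOk 22 76725 88758 9 (p5u1336) p5r1337

theorem p5r1338 : allRange pointOk 22 88767 9 = true := by decide +kernel
theorem p5u1338 : ∀ k, 76725 ≤ k → k < 88776 → pointOk (k * 22) = true := between_extend pointOk 22 76725 88767 9 (p5u1337) p5r1338

theorem p5r1339 : allRange pointOk 22 88776 9 = true := by decide +kernel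
theorem p5u1339 : ∀ k, 76725 ≤ k → k < 88785 → pointOk (k * 22) = true := between_extend pointOk 22 76725 88776 9 (p5u1338) p5r1339

theorem p5r1340 : allRange pointOk 22 88785 9 = true := by decide +kernel
theorem p5u1340 : ∀ k, 76725 ≤ k → k < 88794 → pointOk (k * 22) = true := between_extend pointOk 22 76725 88785 9 (p5u1339) p5r1340

theorem p5r1341 : allRange pointOk 22 88794 9 = true := by decide +kernel
theorem p5u1341 : ∀ k, 76725 ≤ k → k < 88803 → pointOk (k * 22) = true := between_extend pointOk 22 76725 88794 9 (p5u1340) p5r1341

theorem p5r1342 : allRange pointOk 22 88803 9 = true := by decide +kernel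
theorem p5u1342 : ∀ k, 76725 ≤ k → k < 88812 → pointOk (k * 22) = true := between_extend pointOk 22 76725 88803 9 (p5u1341) p5r1342

theorem p5r1343 : allRange pointOk 22 88812 9 = true := by decide +kernel
theorem p5u1343 : ∀ k, 76725 ≤ k → k < 88821 → pointOk (k * 22) = true := between_extend pointOk 22 76725 88812 9 (p5u1342) p5r1343

theorem p5r1344 : allRange pointOk 22 88821 9 = true := by decide +kernel
theorem p5u1344 : ∀ k, 76725 ≤ k → k < 88830 → pointOk (k * 22) = true := between_extend pointOk 22 76725 88821 9 (p5u1343) p5r1344

theorem p5r1345 : allRange pointOk 22 88830 9 = true := by decide +kernel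
theorem p5u1345 : ∀ k, 76725 ≤ k → k < 88839 → pointOk (k * 22) = true := between_extend pointOk 22 76725 88830 9 (p5u1344) p5r1345

theorem p5r1346 : allRange pointOk 22 88839 9 = true := by decide +kernel
theorem p5u1346 : ∀ k, 76725 ≤ k → k < 88848 → pointOk (k * 22) = true := between_extend pointOk 22 76725 88839 9 (p5u1345) p5r1346

theorem p5r1347 : allRange pointOk 22 88848 9 = true := by decide +kernel
theorem p5u1347 : ∀ k, 76725 ≤ k → k < 88857 → pointOk (k * 22) = true := between_extend pointOk 22 76725 88848 9 (p5u1346) p5r1347

theorem p5r1348 : allRange pointOk 22 88857 9 = true := by decide +kernel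
theorem p5u1348 : ∀ k, 76725 ≤ k → k < 88866 → pointOk (k * 22) = true := between_extend pointOk 22 76725 88857 9 (p5u1347) p5r1348

theorem p5r1349 : allRange pointOk 22 88866 9 = true := by decide +kernel
theorem p5u1349 : ∀ k, 76725 ≤ k → k < 88875 → pointOk (k * 22) = true := between_extend pointOk 22 76725 88866 9 (p5u1348) p5r1349

theorem p5r1350 : allRange pointOk 22 88875 9 = true := by decide +kernel
theorem p5u1350 : ∀ k, 76725 ≤ k → k < 88884 → pointOk (k * 22) = true := between_extend pointOk 22 76725 88875 9 (p5u1349) p5r1350

theorem p5r1351 : allRange pointOk 22 88884 9 = true := by decide +kernel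
theorem p5u1351 : ∀ k, 76725 ≤ k → k < 88893 → pointOk (k * 22) = true := between_extend pointOk 22 76725 88884 9 (p5u1350) p5r1351

theorem p5r1352 : allRange pointOk 22 88893 9 = true := by decide +kernel
theorem p5u1352 : ∀ k, 76725 ≤ k → k < 88902 → pointOk (k * 22) = true := between_extend pointOk 22 76725 88893 9 (p5u1351) p5r1352

theorem p5r1353 : allRange pointOk 22 88902 9 = true := by decide +kernel
theorem p5u1353 : ∀ k, 76725 ≤ k → k < 88911 → pointOk (k * 22) = true := between_extend pointOk 22 76725 88902 9 (p5u1352) p5r1353

theorem p5r1354 : allRange pointOk 22 88911 9 = true := by decide +kernel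
theorem p5u1354 : ∀ k, 76725 ≤ k → k < 88920 → pointOk (k * 22) = true := between_extend pointOk 22 76725 88911 9 (p5u1353) p5r1354

theorem p5r1355 : allRange pointOk 22 88920 9 = true := by decide +kernel
theorem p5u1355 : ∀ k, 76725 ≤ k → k < 88929 → pointOk (k * 22) = true := between_extend pointOk 22 76725 88920 9 (p5u1354) p5r1355

theorem p5r1356 : allRange pointOk 22 88929 9 = true := by decide +kernel
theorem p5u1356 : ∀ k, 76725 ≤ k → k < 88938 → pointOk (k * 22) = true := between_extend pointOk 22 76725 88929 9 (p5u1355) p5r1356

theorem p5r1357 : allRange pointOk 22 88938 9 = true := by decide +kernel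
theorem p5u1357 : ∀ k, 76725 ≤ k → k < 88947 → pointOk (k * 22) = true := between_extend pointOk 22 76725 88938 9 (p5u1356) p5r1357

theorem p5r1358 : allRange pointOk 22 88947 9 = true := by decide +kernel
theorem p5u1358 : ∀ k, 76725 ≤ k → k < 88956 → pointOk (k * 22) = true := between_extend pointOk 22 76725 88947 9 (p5u1357) p5r1358

theorem p5r1359 : allRange pointOk 22 88956 9 = true := by decide +kernel
theorem p5u1359 : ∀ k, 76725 ≤ k → k < 88965 → pointOk (k * 22) = true := between_extend pointOk 22 76725 88956 9 (p5u1358) p5r1359

theorem p5r1360 : allRange pointOk 22 88965 9 = true := by decide +kernel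
theorem p5u1360 : ∀ k, 76725 ≤ k → k < 88974 → pointOk (k * 22) = true := between_extend pointOk 22 76725 88965 9 (p5u1359) p5r1360

theorem p5r1361 : allRange pointOk 22 88974 9 = true := by decide +kernel
theorem p5u1361 : ∀ k, 76725 ≤ k → k < 88983 → pointOk (k * 22) = true := between_extend pointOk 22 76725 88974 9 (p5u1360) p5r1361

theorem p5r1362 : allRange pointOk 22 88983 9 = true := by decide +kernel
theorem p5u1362 : ∀ k, 76725 ≤ k → k < 88992 → pointOk (k * 22) = true := between_extend pointOk 22 76725 88983 9 (p5u1361) p5r1362

theorem p5r1363 : allRange pointOk 22 88992 9 = true := by decide +kernel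
theorem p5u1363 : ∀ k, 76725 ≤ k → k < 89001 → pointOk (k * 22) = true := between_extend pointOk 22 76725 88992 9 (p5u1362) p5r1363

theorem p5r1364 : allRange pointOk 22 89001 9 = true := by decide +kernel
theorem p5u1364 : ∀ k, 76725 ≤ k → k < 89010 → pointOk (k * 22) = true := between_extend pointOk 22 76725 89001 9 (p5u1363) p5r1364

theorem p5r1365 : allRange pointOk 22 89010 9 = true := by decide +kernel
theorem p5u1365 : ∀ k, 76725 ≤ k → k < 89019 → pointOk (k * 22) = true := between_extend pointOk 22 76725 89010 9 (p5u1364) p5r1365

theorem p5r1366 : allRange pointOk 22 89019 9 = true := by decide +kernel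
theorem p5u1366 : ∀ k, 76725 ≤ k → k < 89028 → pointOk (k * 22) = true := between_extend pointOk 22 76725 89019 9 (p5u1365) p5r1366

theorem p5r1367 : allRange pointOk 22 89028 9 = true := by decide +kernel
theorem p5u1367 : ∀ k, 76725 ≤ k → k < 89037 → pointOk (k * 22) = true := between_extend pointOk 22 76725 89028 9 (p5u1366) p5r1367

theorem p5r1368 : allRange pointOk 22 89037 9 = true := by decide +kernel
theorem p5u1368 : ∀ k, 76725 ≤ k → k < 89046 → pointOk (k * 22) = true := between_extend pointOk 22 76725 89037 9 (p5u1367) p5r1368

theorem p5r1369 : allRange pointOk 22 89046 9 = true := by decide +kernel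
theorem p5u1369 : ∀ k, 76725 ≤ k → k < 89055 → pointOk (k * 22) = true := between_extend pointOk 22 76725 89046 9 (p5u1368) p5r1369

theorem p5r1370 : allRange pointOk 22 89055 9 = true := by decide +kernel
theorem p5u1370 : ∀ k, 76725 ≤ k → k < 89064 → pointOk (k * 22) = true := between_extend pointOk 22 76725 89055 9 (p5u1369) p5r1370

theorem p5r1371 : allRange pointOk 22 89064 9 = true := by decide +kernel
theorem p5u1371 : ∀ k, 76725 ≤ k → k < 89073 → pointOk (k * 22) = true := between_extend pointOk 22 76725 89064 9 (p5u1370) p5r1371

theorem p5r1372 : allRange pointOk 22 89073 9 = true := by decide +kernel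
theorem p5u1372 : ∀ k, 76725 ≤ k → k < 89082 → pointOk (k * 22) = true := between_extend pointOk 22 76725 89073 9 (p5u1371) p5r1372

theorem p5r1373 : allRange pointOk 22 89082 9 = true := by decide +kernel
theorem p5u1373 : ∀ k, 76725 ≤ k → k < 89091 → pointOk (k * 22) = true := between_extend pointOk 22 76725 89082 9 (p5u1372) p5r1373

theorem p5r1374 : allRange pointOk 22 89091 9 = true := by decide +kernel
theorem p5u1374 : ∀ k, 76725 ≤ k → k < 89100 → pointOk (k * 22) = true := between_extend pointOk 22 76725 89091 9 (p5u1373) p5r1374

theorem p5r1375 : allRange pointOk 22 89100 9 = true := by decide +kernel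
theorem p5u1375 : ∀ k, 76725 ≤ k → k < 89109 → pointOk (k * 22) = true := between_extend pointOk 22 76725 89100 9 (p5u1374) p5r1375

theorem p5r1376 : allRange pointOk 22 89109 9 = true := by decide +kernel
theorem p5u1376 : ∀ k, 76725 ≤ k → k < 89118 → pointOk (k * 22) = true := between_extend pointOk 22 76725 89109 9 (p5u1375) p5r1376

theorem p5r1377 : allRange pointOk 22 89118 9 = true := by decide +kernel
theorem p5u1377 : ∀ k, 76725 ≤ k → k < 89127 → pointOk (k * 22) = true := between_extend pointOk 22 76725 89118 9 (p5u1376) p5r1377

theorem p5r1378 : allRange pointOk 22 89127 9 = true := by decide +kernel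
theorem p5u1378 : ∀ k, 76725 ≤ k → k < 89136 → pointOk (k * 22) = true := between_extend pointOk 22 76725 89127 9 (p5u1377) p5r1378

theorem p5r1379 : allRange pointOk 22 89136 9 = true := by decide +kernel
theorem p5u1379 : ∀ k, 76725 ≤ k → k < 89145 → pointOk (k * 22) = true := between_extend pointOk 22 76725 89136 9 (p5u1378) p5r1379

theorem p5r1380 : allRange pointOk 22 89145 9 = true := by decide +kernel
theorem p5u1380 : ∀ k, 76725 ≤ k → k < 89154 → pointOk (k * 22) = true := between_extend pointOk 22 76725 89145 9 (p5u1379) p5r1380

theorem p5r1381 : allRange pointOk 22 89154 9 = true := by decide +kernel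
theorem p5u1381 : ∀ k, 76725 ≤ k → k < 89163 → pointOk (k * 22) = true := between_extend pointOk 22 76725 89154 9 (p5u1380) p5r1381

theorem p5r1382 : allRange pointOk 22 89163 9 = true := by decide +kernel
theorem p5u1382 : ∀ k, 76725 ≤ k → k < 89172 → pointOk (k * 22) = true := between_extend pointOk 22 76725 89163 9 (p5u1381) p5r1382

theorem p5r1383 : allRange pointOk 22 89172 9 = true := by decide +kernel
theorem p5u1383 : ∀ k, 76725 ≤ k → k < 89181 → pointOk (k * 22) = true := between_extend pointOk 22 76725 89172 9 (p5u1382) p5r1383

theorem p5r1384 : allRange pointOk 22 89181 9 = true := by decide +kernel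
theorem p5u1384 : ∀ k, 76725 ≤ k → k < 89190 → pointOk (k * 22) = true := between_extend pointOk 22 76725 89181 9 (p5u1383) p5r1384

theorem p5r1385 : allRange pointOk 22 89190 9 = true := by decide +kernel
theorem p5u1385 : ∀ k, 76725 ≤ k → k < 89199 → pointOk (k * 22) = true := between_extend pointOk 22 76725 89190 9 (p5u1384) p5r1385

theorem p5r1386 : allRange pointOk 22 89199 9 = true := by decide +kernel
theorem p5u1386 : ∀ k, 76725 ≤ k → k < 89208 → pointOk (k * 22) = true := between_extend pointOk 22 76725 89199 9 (p5u1385) p5r1386

theorem p5r1387 : allRange pointOk 22 89208 9 = true := by decide +kernel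
theorem p5u1387 : ∀ k, 76725 ≤ k → k < 89217 → pointOk (k * 22) = true := between_extend pointOk 22 76725 89208 9 (p5u1386) p5r1387

theorem p5r1388 : allRange pointOk 22 89217 9 = true := by decide +kernel
theorem p5u1388 : ∀ k, 76725 ≤ k → k < 89226 → pointOk (k * 22) = true := between_extend pointOk 22 76725 89217 9 (p5u1387) p5r1388

theorem p5r1389 : allRange pointOk 22 89226 9 = true := by decide +kernel
theorem p5u1389 : ∀ k, 76725 ≤ k → k < 89235 → pointOk (k * 22) = true := between_extend pointOk 22 76725 89226 9 (p5u1388) p5r1389

theorem p5r1390 : allRange pointOk 22 89235 9 = true := by decide +kernel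
theorem p5u1390 : ∀ k, 76725 ≤ k → k < 89244 → pointOk (k * 22) = true := between_extend pointOk 22 76725 89235 9 (p5u1389) p5r1390

theorem p5r1391 : allRange pointOk 22 89244 9 = true := by decide +kernel
theorem p5u1391 : ∀ k, 76725 ≤ k → k < 89253 → pointOk (k * 22) = true := between_extend pointOk 22 76725 89244 9 (p5u1390) p5r1391

theorem p5r1392 : allRange pointOk 22 89253 9 = true := by decide +kernel
theorem p5u1392 : ∀ k, 76725 ≤ k → k < 89262 → pointOk (k * 22) = true := between_extend pointOk 22 76725 89253 9 (p5u1391) p5r1392

theorem p5r1393 : allRange pointOk 22 89262 9 = true := by decide +kernel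
theorem p5u1393 : ∀ k, 76725 ≤ k → k < 89271 → pointOk (k * 22) = true := between_extend pointOk 22 76725 89262 9 (p5u1392) p5r1393

theorem p5r1394 : allRange pointOk 22 89271 9 = true := by decide +kernel
theorem p5u1394 : ∀ k, 76725 ≤ k → k < 89280 → pointOk (k * 22) = true := between_extend pointOk 22 76725 89271 9 (p5u1393) p5r1394

theorem p5r1395 : allRange pointOk 22 89280 9 = true := by decide +kernel
theorem p5u1395 : ∀ k, 76725 ≤ k → k < 89289 → pointOk (k * 22) = true := between_extend pointOk 22 76725 89280 9 (p5u1394) p5r1395

theorem p5r1396 : allRange pointOk 22 89289 9 = true := by decide +kernel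
theorem p5u1396 : ∀ k, 76725 ≤ k → k < 89298 → pointOk (k * 22) = true := between_extend pointOk 22 76725 89289 9 (p5u1395) p5r1396

theorem p5r1397 : allRange pointOk 22 89298 9 = true := by decide +kernel
theorem p5u1397 : ∀ k, 76725 ≤ k → k < 89307 → pointOk (k * 22) = true := between_extend pointOk 22 76725 89298 9 (p5u1396) p5r1397

theorem p5r1398 : allRange pointOk 22 89307 9 = true := by decide +kernel
theorem p5u1398 : ∀ k, 76725 ≤ k → k < 89316 → pointOk (k * 22) = true := between_extend pointOk 22 76725 89307 9 (p5u1397) p5r1398

theorem p5r1399 : allRange pointOk 22 89316 9 = true := by decide +kernel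
theorem p5u1399 : ∀ k, 76725 ≤ k → k < 89325 → pointOk (k * 22) = true := between_extend pointOk 22 76725 89316 9 (p5u1398) p5r1399

theorem p5r1400 : allRange pointOk 22 89325 9 = true := by decide +kernel
theorem p5u1400 : ∀ k, 76725 ≤ k → k < 89334 → pointOk (k * 22) = true := between_extend pointOk 22 76725 89325 9 (p5u1399) p5r1400

theorem p5r1401 : allRange pointOk 22 89334 9 = true := by decide +kernel
theorem p5u1401 : ∀ k, 76725 ≤ k → k < 89343 → pointOk (k * 22) = true := between_extend pointOk 22 76725 89334 9 (p5u1400) p5r1401

theorem p5r1402 : allRange pointOk 22 89343 9 = true := by decide +kernel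
theorem p5u1402 : ∀ k, 76725 ≤ k → k < 89352 → pointOk (k * 22) = true := between_extend pointOk 22 76725 89343 9 (p5u1401) p5r1402

theorem p5r1403 : allRange pointOk 22 89352 9 = true := by decide +kernel
theorem p5u1403 : ∀ k, 76725 ≤ k → k < 89361 → pointOk (k * 22) = true := between_extend pointOk 22 76725 89352 9 (p5u1402) p5r1403

theorem p5r1404 : allRange pointOk 22 89361 9 = true := by decide +kernel
theorem p5u1404 : ∀ k, 76725 ≤ k → k < 89370 → pointOk (k * 22) = true := between_extend pointOk 22 76725 89361 9 (p5u1403) p5r1404

theorem p5r1405 : allRange pointOk 22 89370 9 = true := by decide +kernel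
theorem p5u1405 : ∀ k, 76725 ≤ k → k < 89379 → pointOk (k * 22) = true := between_extend pointOk 22 76725 89370 9 (p5u1404) p5r1405

theorem p5r1406 : allRange pointOk 22 89379 9 = true := by decide +kernel
theorem p5u1406 : ∀ k, 76725 ≤ k → k < 89388 → pointOk (k * 22) = true := between_extend pointOk 22 76725 89379 9 (p5u1405) p5r1406

theorem p5r1407 : allRange pointOk 22 89388 9 = true := by decide +kernel
theorem p5u1407 : ∀ k, 76725 ≤ k → k < 89397 → pointOk (k * 22) = true := between_extend pointOk 22 76725 89388 9 (p5u1406) p5r1407

theorem p5r1408 : allRange pointOk 22 89397 9 = true := by decide +kernel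
theorem p5u1408 : ∀ k, 76725 ≤ k → k < 89406 → pointOk (k * 22) = true := between_extend pointOk 22 76725 89397 9 (p5u1407) p5r1408

theorem p5r1409 : allRange pointOk 22 89406 9 = true := by decide +kernel
theorem p5u1409 : ∀ k, 76725 ≤ k → k < 89415 → pointOk (k * 22) = true := between_extend pointOk 22 76725 89406 9 (p5u1408) p5r1409

theorem p5r1410 : allRange pointOk 22 89415 9 = true := by decide +kernel
theorem p5u1410 : ∀ k, 76725 ≤ k → k < 89424 → pointOk (k * 22) = true := between_extend pointOk 22 76725 89415 9 (p5u1409) p5r1410

theorem p5r1411 : allRange pointOk 22 89424 9 = true := by decide +kernel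
theorem p5u1411 : ∀ k, 76725 ≤ k → k < 89433 → pointOk (k * 22) = true := between_extend pointOk 22 76725 89424 9 (p5u1410) p5r1411

theorem p5r1412 : allRange pointOk 22 89433 9 = true := by decide +kernel
theorem p5u1412 : ∀ k, 76725 ≤ k → k < 89442 → pointOk (k * 22) = true := between_extend pointOk 22 76725 89433 9 (p5u1411) p5r1412

theorem p5r1413 : allRange pointOk 22 89442 9 = true := by decide +kernel
theorem p5u1413 : ∀ k, 76725 ≤ k → k < 89451 → pointOk (k * 22) = true := between_extend pointOk 22 76725 89442 9 (p5u1412) p5r1413

theorem p5r1414 : allRange pointOk 22 89451 9 = true := by decide +kernel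
theorem p5u1414 : ∀ k, 76725 ≤ k → k < 89460 → pointOk (k * 22) = true := between_extend pointOk 22 76725 89451 9 (p5u1413) p5r1414

theorem p5r1415 : allRange pointOk 22 89460 9 = true := by decide +kernel
theorem p5u1415 : ∀ k, 76725 ≤ k → k < 89469 → pointOk (k * 22) = true := between_extend pointOk 22 76725 89460 9 (p5u1414) p5r1415

theorem p5r1416 : allRange pointOk 22 89469 9 = true := by decide +kernel
theorem p5u1416 : ∀ k, 76725 ≤ k → k < 89478 → pointOk (k * 22) = true := between_extend pointOk 22 76725 89469 9 (p5u1415) p5r1416

theorem p5r1417 : allRange pointOk 22 89478 9 = true := by decide +kernel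
theorem p5u1417 : ∀ k, 76725 ≤ k → k < 89487 → pointOk (k * 22) = true := between_extend pointOk 22 76725 89478 9 (p5u1416) p5r1417

theorem p5r1418 : allRange pointOk 22 89487 9 = true := by decide +kernel
theorem p5u1418 : ∀ k, 76725 ≤ k → k < 89496 → pointOk (k * 22) = true := between_extend pointOk 22 76725 89487 9 (p5u1417) p5r1418

theorem p5r1419 : allRange pointOk 22 89496 9 = true := by decide +kernel
theorem p5u1419 : ∀ k, 76725 ≤ k → k < 89505 → pointOk (k * 22) = true := between_extend pointOk 22 76725 89496 9 (p5u1418) p5r1419

theorem p5r1420 : allRange pointOk 22 89505 9 = true := by decide +kernel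
theorem p5u1420 : ∀ k, 76725 ≤ k → k < 89514 → pointOk (k * 22) = true := between_extend pointOk 22 76725 89505 9 (p5u1419) p5r1420

theorem p5r1421 : allRange pointOk 22 89514 9 = true := by decide +kernel
theorem p5u1421 : ∀ k, 76725 ≤ k → k < 89523 → pointOk (k * 22) = true := between_extend pointOk 22 76725 89514 9 (p5u1420) p5r1421

theorem p5r1422 : allRange pointOk 22 89523 9 = true := by decide +kernel
theorem p5u1422 : ∀ k, 76725 ≤ k → k < 89532 → pointOk (k * 22) = true := between_extend pointOk 22 76725 89523 9 (p5u1421) p5r1422

theorem p5r1423 : allRange pointOk 22 89532 9 = true := by decide +kernel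
theorem p5u1423 : ∀ k, 76725 ≤ k → k < 89541 → pointOk (k * 22) = true := between_extend pointOk 22 76725 89532 9 (p5u1422) p5r1423

theorem p5r1424 : allRange pointOk 22 89541 9 = true := by decide +kernel
theorem p5u1424 : ∀ k, 76725 ≤ k → k < 89550 → pointOk (k * 22) = true := between_extend pointOk 22 76725 89541 9 (p5u1423) p5r1424

theorem p5r1425 : allRange pointOk 22 89550 9 = true := by decide +kernel
theorem p5u1425 : ∀ k, 76725 ≤ k → k < 89559 → pointOk (k * 22) = true := between_extend pointOk 22 76725 89550 9 (p5u1424) p5r1425

theorem p5r1426 : allRange pointOk 22 89559 9 = true := by decide +kernel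
theorem p5u1426 : ∀ k, 76725 ≤ k → k < 89568 → pointOk (k * 22) = true := between_extend pointOk 22 76725 89559 9 (p5u1425) p5r1426

theorem p5r1427 : allRange pointOk 22 89568 9 = true := by decide +kernel
theorem p5u1427 : ∀ k, 76725 ≤ k → k < 89577 → pointOk (k * 22) = true := between_extend pointOk 22 76725 89568 9 (p5u1426) p5r1427

theorem p5r1428 : allRange pointOk 22 89577 9 = true := by decide +kernel
theorem p5u1428 : ∀ k, 76725 ≤ k → k < 89586 → pointOk (k * 22) = true := between_extend pointOk 22 76725 89577 9 (p5u1427) p5r1428

theorem p5r1429 : allRange pointOk 22 89586 9 = true := by decide +kernel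
theorem p5u1429 : ∀ k, 76725 ≤ k → k < 89595 → pointOk (k * 22) = true := between_extend pointOk 22 76725 89586 9 (p5u1428) p5r1429

theorem p5r1430 : allRange pointOk 22 89595 9 = true := by decide +kernel
theorem p5u1430 : ∀ k, 76725 ≤ k → k < 89604 → pointOk (k * 22) = true := between_extend pointOk 22 76725 89595 9 (p5u1429) p5r1430

theorem p5r1431 : allRange pointOk 22 89604 9 = true := by decide +kernel
theorem p5u1431 : ∀ k, 76725 ≤ k → k < 89613 → pointOk (k * 22) = true := between_extend pointOk 22 76725 89604 9 (p5u1430) p5r1431

theorem p5r1432 : allRange pointOk 22 89613 9 = true := by decide +kernel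
theorem p5u1432 : ∀ k, 76725 ≤ k → k < 89622 → pointOk (k * 22) = true := between_extend pointOk 22 76725 89613 9 (p5u1431) p5r1432

theorem p5r1433 : allRange pointOk 22 89622 9 = true := by decide +kernel
theorem p5u1433 : ∀ k, 76725 ≤ k → k < 89631 → pointOk (k * 22) = true := between_extend pointOk 22 76725 89622 9 (p5u1432) p5r1433

theorem p5r1434 : allRange pointOk 22 89631 9 = true := by decide +kernel
theorem p5u1434 : ∀ k, 76725 ≤ k → k < 89640 → pointOk (k * 22) = true := between_extend pointOk 22 76725 89631 9 (p5u1433) p5r1434

theorem p5r1435 : allRange pointOk 22 89640 9 = true := by decide +kernel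
theorem p5u1435 : ∀ k, 76725 ≤ k → k < 89649 → pointOk (k * 22) = true := between_extend pointOk 22 76725 89640 9 (p5u1434) p5r1435

theorem p5r1436 : allRange pointOk 22 89649 9 = true := by decide +kernel
theorem p5u1436 : ∀ k, 76725 ≤ k → k < 89658 → pointOk (k * 22) = true := between_extend pointOk 22 76725 89649 9 (p5u1435) p5r1436

theorem p5r1437 : allRange pointOk 22 89658 9 = true := by decide +kernel
theorem p5u1437 : ∀ k, 76725 ≤ k → k < 89667 → pointOk (k * 22) = true := between_extend pointOk 22 76725 89658 9 (p5u1436) p5r1437

theorem p5r1438 : allRange pointOk 22 89667 9 = true := by decide +kernel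
theorem p5u1438 : ∀ k, 76725 ≤ k → k < 89676 → pointOk (k * 22) = true := between_extend pointOk 22 76725 89667 9 (p5u1437) p5r1438

theorem p5r1439 : allRange pointOk 22 89676 9 = true := by decide +kernel
theorem p5u1439 : ∀ k, 76725 ≤ k → k < 89685 → pointOk (k * 22) = true := between_extend pointOk 22 76725 89676 9 (p5u1438) p5r1439

theorem p5r1440 : allRange pointOk 22 89685 9 = true := by decide +kernel
theorem p5u1440 : ∀ k, 76725 ≤ k → k < 89694 → pointOk (k * 22) = true := between_extend pointOk 22 76725 89685 9 (p5u1439) p5r1440

theorem p5r1441 : allRange pointOk 22 89694 9 = true := by decide +kernel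
theorem p5u1441 : ∀ k, 76725 ≤ k → k < 89703 → pointOk (k * 22) = true := between_extend pointOk 22 76725 89694 9 (p5u1440) p5r1441

theorem p5r1442 : allRange pointOk 22 89703 9 = true := by decide +kernel
theorem p5u1442 : ∀ k, 76725 ≤ k → k < 89712 → pointOk (k * 22) = true := between_extend pointOk 22 76725 89703 9 (p5u1441) p5r1442

theorem p5r1443 : allRange pointOk 22 89712 9 = true := by decide +kernel
theorem p5u1443 : ∀ k, 76725 ≤ k → k < 89721 → pointOk (k * 22) = true := between_extend pointOk 22 76725 89712 9 (p5u1442) p5r1443

theorem p5r1444 : allRange pointOk 22 89721 9 = true := by decide +kernel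
theorem p5u1444 : ∀ k, 76725 ≤ k → k < 89730 → pointOk (k * 22) = true := between_extend pointOk 22 76725 89721 9 (p5u1443) p5r1444

theorem p5r1445 : allRange pointOk 22 89730 9 = true := by decide +kernel
theorem p5u1445 : ∀ k, 76725 ≤ k → k < 89739 → pointOk (k * 22) = true := between_extend pointOk 22 76725 89730 9 (p5u1444) p5r1445

theorem p5r1446 : allRange pointOk 22 89739 9 = true := by decide +kernel
theorem p5u1446 : ∀ k, 76725 ≤ k → k < 89748 → pointOk (k * 22) = true := between_extend pointOk 22 76725 89739 9 (p5u1445) p5r1446

theorem p5r1447 : allRange pointOk 22 89748 9 = true := by decide +kernel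
theorem p5u1447 : ∀ k, 76725 ≤ k → k < 89757 → pointOk (k * 22) = true := between_extend pointOk 22 76725 89748 9 (p5u1446) p5r1447

theorem p5r1448 : allRange pointOk 22 89757 9 = true := by decide +kernel
theorem p5u1448 : ∀ k, 76725 ≤ k → k < 89766 → pointOk (k * 22) = true := between_extend pointOk 22 76725 89757 9 (p5u1447) p5r1448

theorem p5r1449 : allRange pointOk 22 89766 9 = true := by decide +kernel
theorem p5u1449 : ∀ k, 76725 ≤ k → k < 89775 → pointOk (k * 22) = true := between_extend pointOk 22 76725 89766 9 (p5u1448) p5r1449

theorem p5r1450 : allRange pointOk 22 89775 9 = true := by decide +kernel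
theorem p5u1450 : ∀ k, 76725 ≤ k → k < 89784 → pointOk (k * 22) = true := between_extend pointOk 22 76725 89775 9 (p5u1449) p5r1450

theorem p5r1451 : allRange pointOk 22 89784 9 = true := by decide +kernel
theorem p5u1451 : ∀ k, 76725 ≤ k → k < 89793 → pointOk (k * 22) = true := between_extend pointOk 22 76725 89784 9 (p5u1450) p5r1451

theorem p5r1452 : allRange pointOk 22 89793 9 = true := by decide +kernel
theorem p5u1452 : ∀ k, 76725 ≤ k → k < 89802 → pointOk (k * 22) = true := between_extend pointOk 22 76725 89793 9 (p5u1451) p5r1452

theorem p5r1453 : allRange pointOk 22 89802 9 = true := by decide +kernel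
theorem p5u1453 : ∀ k, 76725 ≤ k → k < 89811 → pointOk (k * 22) = true := between_extend pointOk 22 76725 89802 9 (p5u1452) p5r1453

theorem p5r1454 : allRange pointOk 22 89811 9 = true := by decide +kernel
theorem p5u1454 : ∀ k, 76725 ≤ k → k < 89820 → pointOk (k * 22) = true := between_extend pointOk 22 76725 89811 9 (p5u1453) p5r1454

theorem p5r1455 : allRange pointOk 22 89820 9 = true := by decide +kernel
theorem p5u1455 : ∀ k, 76725 ≤ k → k < 89829 → pointOk (k * 22) = true := between_extend pointOk 22 76725 89820 9 (p5u1454) p5r1455

theorem p5r1456 : allRange pointOk 22 89829 9 = true := by decide +kernel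
theorem p5u1456 : ∀ k, 76725 ≤ k → k < 89838 → pointOk (k * 22) = true := between_extend pointOk 22 76725 89829 9 (p5u1455) p5r1456

theorem p5r1457 : allRange pointOk 22 89838 9 = true := by decide +kernel
theorem p5u1457 : ∀ k, 76725 ≤ k → k < 89847 → pointOk (k * 22) = true := between_extend pointOk 22 76725 89838 9 (p5u1456) p5r1457

theorem p5r1458 : allRange pointOk 22 89847 9 = true := by decide +kernel
theorem p5u1458 : ∀ k, 76725 ≤ k → k < 89856 → pointOk (k * 22) = true := between_extend pointOk 22 76725 89847 9 (p5u1457) p5r1458

theorem p5r1459 : allRange pointOk 22 89856 9 = true := by decide +kernel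
theorem p5u1459 : ∀ k, 76725 ≤ k → k < 89865 → pointOk (k * 22) = true := between_extend pointOk 22 76725 89856 9 (p5u1458) p5r1459

theorem p5r1460 : allRange pointOk 22 89865 9 = true := by decide +kernel
theorem p5u1460 : ∀ k, 76725 ≤ k → k < 89874 → pointOk (k * 22) = true := between_extend pointOk 22 76725 89865 9 (p5u1459) p5r1460

theorem p5r1461 : allRange pointOk 22 89874 9 = true := by decide +kernel
theorem p5u1461 : ∀ k, 76725 ≤ k → k < 89883 → pointOk (k * 22) = true := between_extend pointOk 22 76725 89874 9 (p5u1460) p5r1461

theorem p5r1462 : allRange pointOk 22 89883 9 = true := by decide +kernel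
theorem p5u1462 : ∀ k, 76725 ≤ k → k < 89892 → pointOk (k * 22) = true := between_extend pointOk 22 76725 89883 9 (p5u1461) p5r1462

theorem p5r1463 : allRange pointOk 22 89892 9 = true := by decide +kernel
theorem p5u1463 : ∀ k, 76725 ≤ k → k < 89901 → pointOk (k * 22) = true := between_extend pointOk 22 76725 89892 9 (p5u1462) p5r1463

theorem p5r1464 : allRange pointOk 22 89901 9 = true := by decide +kernel
theorem p5u1464 : ∀ k, 76725 ≤ k → k < 89910 → pointOk (k * 22) = true := between_extend pointOk 22 76725 89901 9 (p5u1463) p5r1464

theorem p5r1465 : allRange pointOk 22 89910 9 = true := by decide +kernel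
theorem p5u1465 : ∀ k, 76725 ≤ k → k < 89919 → pointOk (k * 22) = true := between_extend pointOk 22 76725 89910 9 (p5u1464) p5r1465

theorem p5r1466 : allRange pointOk 22 89919 9 = true := by decide +kernel
theorem p5u1466 : ∀ k, 76725 ≤ k → k < 89928 → pointOk (k * 22) = true := between_extend pointOk 22 76725 89919 9 (p5u1465) p5r1466

theorem p5r1467 : allRange pointOk 22 89928 9 = true := by decide +kernel
theorem p5u1467 : ∀ k, 76725 ≤ k → k < 89937 → pointOk (k * 22) = true := between_extend pointOk 22 76725 89928 9 (p5u1466) p5r1467

theorem p5r1468 : allRange pointOk 22 89937 9 = true := by decide +kernel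
theorem p5u1468 : ∀ k, 76725 ≤ k → k < 89946 → pointOk (k * 22) = true := between_extend pointOk 22 76725 89937 9 (p5u1467) p5r1468

theorem p5r1469 : allRange pointOk 22 89946 9 = true := by decide +kernel
theorem p5u1469 : ∀ k, 76725 ≤ k → k < 89955 → pointOk (k * 22) = true := between_extend pointOk 22 76725 89946 9 (p5u1468) p5r1469

theorem p5r1470 : allRange pointOk 22 89955 9 = true := by decide +kernel
theorem p5u1470 : ∀ k, 76725 ≤ k → k < 89964 → pointOk (k * 22) = true := between_extend pointOk 22 76725 89955 9 (p5u1469) p5r1470

theorem p5r1471 : allRange pointOk 22 89964 9 = true := by decide +kernel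
theorem p5u1471 : ∀ k, 76725 ≤ k → k < 89973 → pointOk (k * 22) = true := between_extend pointOk 22 76725 89964 9 (p5u1470) p5r1471

theorem p5r1472 : allRange pointOk 22 89973 9 = true := by decide +kernel
theorem p5u1472 : ∀ k, 76725 ≤ k → k < 89982 → pointOk (k * 22) = true := between_extend pointOk 22 76725 89973 9 (p5u1471) p5r1472

theorem p5r1473 : allRange pointOk 22 89982 9 = true := by decide +kernel
theorem p5u1473 : ∀ k, 76725 ≤ k → k < 89991 → pointOk (k * 22) = true := between_extend pointOk 22 76725 89982 9 (p5u1472) p5r1473

theorem p5r1474 : allRange pointOk 22 89991 9 = true := by decide +kernel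
theorem p5u1474 : ∀ k, 76725 ≤ k → k < 90000 → pointOk (k * 22) = true := between_extend pointOk 22 76725 89991 9 (p5u1473) p5r1474

theorem p5r1475 : allRange pointOk 22 90000 9 = true := by decide +kernel
theorem p5u1475 : ∀ k, 76725 ≤ k → k < 90009 → pointOk (k * 22) = true := between_extend pointOk 22 76725 90000 9 (p5u1474) p5r1475

theorem p5r1476 : allRange pointOk 22 90009 9 = true := by decide +kernel
theorem p5u1476 : ∀ k, 76725 ≤ k → k < 90018 → pointOk (k * 22) = true := between_extend pointOk 22 76725 90009 9 (p5u1475) p5r1476

theorem p5r1477 : allRange pointOk 22 90018 9 = true := by decide +kernel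
theorem p5u1477 : ∀ k, 76725 ≤ k → k < 90027 → pointOk (k * 22) = true := between_extend pointOk 22 76725 90018 9 (p5u1476) p5r1477

theorem p5r1478 : allRange pointOk 22 90027 9 = true := by decide +kernel
theorem p5u1478 : ∀ k, 76725 ≤ k → k < 90036 → pointOk (k * 22) = true := between_extend pointOk 22 76725 90027 9 (p5u1477) p5r1478

theorem p5r1479 : allRange pointOk 22 90036 9 = true := by decide +kernel
theorem p5u1479 : ∀ k, 76725 ≤ k → k < 90045 → pointOk (k * 22) = true := between_extend pointOk 22 76725 90036 9 (p5u1478) p5r1479

theorem p5r1480 : allRange pointOk 22 90045 9 = true := by decide +kernel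
theorem p5u1480 : ∀ k, 76725 ≤ k → k < 90054 → pointOk (k * 22) = true := between_extend pointOk 22 76725 90045 9 (p5u1479) p5r1480

theorem p5r1481 : allRange pointOk 22 90054 9 = true := by decide +kernel
theorem p5u1481 : ∀ k, 76725 ≤ k → k < 90063 → pointOk (k * 22) = true := between_extend pointOk 22 76725 90054 9 (p5u1480) p5r1481

theorem p5r1482 : allRange pointOk 22 90063 9 = true := by decide +kernel
theorem p5u1482 : ∀ k, 76725 ≤ k → k < 90072 → pointOk (k * 22) = true := between_extend pointOk 22 76725 90063 9 (p5u1481) p5r1482

theorem p5r1483 : allRange pointOk 22 90072 9 = true := by decide +kernel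
theorem p5u1483 : ∀ k, 76725 ≤ k → k < 90081 → pointOk (k * 22) = true := between_extend pointOk 22 76725 90072 9 (p5u1482) p5r1483

theorem p5r1484 : allRange pointOk 22 90081 9 = true := by decide +kernel
theorem p5u1484 : ∀ k, 76725 ≤ k → k < 90090 → pointOk (k * 22) = true := between_extend pointOk 22 76725 90081 9 (p5u1483) p5r1484

theorem p5r1485 : allRange pointOk 22 90090 9 = true := by decide +kernel
theorem p5u1485 : ∀ k, 76725 ≤ k → k < 90099 → pointOk (k * 22) = true := between_extend pointOk 22 76725 90090 9 (p5u1484) p5r1485

theorem p5r1486 : allRange pointOk 22 90099 9 = true := by decide +kernel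
theorem p5u1486 : ∀ k, 76725 ≤ k → k < 90108 → pointOk (k * 22) = true := between_extend pointOk 22 76725 90099 9 (p5u1485) p5r1486

theorem p5r1487 : allRange pointOk 22 90108 9 = true := by decide +kernel
theorem p5u1487 : ∀ k, 76725 ≤ k → k < 90117 → pointOk (k * 22) = true := between_extend pointOk 22 76725 90108 9 (p5u1486) p5r1487

theorem p5r1488 : allRange pointOk 22 90117 9 = true := by decide +kernel
theorem p5u1488 : ∀ k, 76725 ≤ k → k < 90126 → pointOk (k * 22) = true := between_extend pointOk 22 76725 90117 9 (p5u1487) p5r1488

theorem p5r1489 : allRange pointOk 22 90126 9 = true := by decide +kernel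
theorem p5u1489 : ∀ k, 76725 ≤ k → k < 90135 → pointOk (k * 22) = true := between_extend pointOk 22 76725 90126 9 (p5u1488) p5r1489

theorem p5r1490 : allRange pointOk 22 90135 9 = true := by decide +kernel
theorem p5u1490 : ∀ k, 76725 ≤ k → k < 90144 → pointOk (k * 22) = true := between_extend pointOk 22 76725 90135 9 (p5u1489) p5r1490

theorem p5r1491 : allRange pointOk 22 90144 9 = true := by decide +kernel
theorem p5u1491 : ∀ k, 76725 ≤ k → k < 90153 → pointOk (k * 22) = true := between_extend pointOk 22 76725 90144 9 (p5u1490) p5r1491

theorem p5r1492 : allRange pointOk 22 90153 9 = true := by decide +kernel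
theorem p5u1492 : ∀ k, 76725 ≤ k → k < 90162 → pointOk (k * 22) = true := between_extend pointOk 22 76725 90153 9 (p5u1491) p5r1492

theorem p5r1493 : allRange pointOk 22 90162 9 = true := by decide +kernel
theorem p5u1493 : ∀ k, 76725 ≤ k → k < 90171 → pointOk (k * 22) = true := between_extend pointOk 22 76725 90162 9 (p5u1492) p5r1493

theorem p5r1494 : allRange pointOk 22 90171 9 = true := by decide +kernel
theorem p5u1494 : ∀ k, 76725 ≤ k → k < 90180 → pointOk (k * 22) = true := between_extend pointOk 22 76725 90171 9 (p5u1493) p5r1494

theorem p5r1495 : allRange pointOk 22 90180 9 = true := by decide +kernel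
theorem p5u1495 : ∀ k, 76725 ≤ k → k < 90189 → pointOk (k * 22) = true := between_extend pointOk 22 76725 90180 9 (p5u1494) p5r1495

theorem p5r1496 : allRange pointOk 22 90189 9 = true := by decide +kernel
theorem p5u1496 : ∀ k, 76725 ≤ k → k < 90198 → pointOk (k * 22) = true := between_extend pointOk 22 76725 90189 9 (p5u1495) p5r1496

theorem p5r1497 : allRange pointOk 22 90198 9 = true := by decide +kernel
theorem p5u1497 : ∀ k, 76725 ≤ k → k < 90207 → pointOk (k * 22) = true := between_extend pointOk 22 76725 90198 9 (p5u1496) p5r1497

theorem p5r1498 : allRange pointOk 22 90207 9 = true := by decide +kernel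
theorem p5u1498 : ∀ k, 76725 ≤ k → k < 90216 → pointOk (k * 22) = true := between_extend pointOk 22 76725 90207 9 (p5u1497) p5r1498

theorem p5r1499 : allRange pointOk 22 90216 9 = true := by decide +kernel
theorem p5u1499 : ∀ k, 76725 ≤ k → k < 90225 → pointOk (k * 22) = true := between_extend pointOk 22 76725 90216 9 (p5u1498) p5r1499

theorem p5r1500 : allRange pointOk 22 90225 9 = true := by decide +kernel
theorem p5u1500 : ∀ k, 76725 ≤ k → k < 90234 → pointOk (k * 22) = true := between_extend pointOk 22 76725 90225 9 (p5u1499) p5r1500

theorem p5r1501 : allRange pointOk 22 90234 9 = true := by decide +kernel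
theorem p5u1501 : ∀ k, 76725 ≤ k → k < 90243 → pointOk (k * 22) = true := between_extend pointOk 22 76725 90234 9 (p5u1500) p5r1501

theorem p5r1502 : allRange pointOk 22 90243 9 = true := by decide +kernel
theorem p5u1502 : ∀ k, 76725 ≤ k → k < 90252 → pointOk (k * 22) = true := between_extend pointOk 22 76725 90243 9 (p5u1501) p5r1502

theorem p5r1503 : allRange pointOk 22 90252 9 = true := by decide +kernel
theorem p5u1503 : ∀ k, 76725 ≤ k → k < 90261 → pointOk (k * 22) = true := between_extend pointOk 22 76725 90252 9 (p5u1502) p5r1503

theorem p5r1504 : allRange pointOk 22 90261 9 = true := by decide +kernel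
theorem p5u1504 : ∀ k, 76725 ≤ k → k < 90270 → pointOk (k * 22) = true := between_extend pointOk 22 76725 90261 9 (p5u1503) p5r1504

theorem p5r1505 : allRange pointOk 22 90270 9 = true := by decide +kernel
theorem p5u1505 : ∀ k, 76725 ≤ k → k < 90279 → pointOk (k * 22) = true := between_extend pointOk 22 76725 90270 9 (p5u1504) p5r1505

theorem p5r1506 : allRange pointOk 22 90279 9 = true := by decide +kernel
theorem p5u1506 : ∀ k, 76725 ≤ k → k < 90288 → pointOk (k * 22) = true := between_extend pointOk 22 76725 90279 9 (p5u1505) p5r1506

theorem p5r1507 : allRange pointOk 22 90288 9 = true := by decide +kernel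
theorem p5u1507 : ∀ k, 76725 ≤ k → k < 90297 → pointOk (k * 22) = true := between_extend pointOk 22 76725 90288 9 (p5u1506) p5r1507

theorem p5r1508 : allRange pointOk 22 90297 9 = true := by decide +kernel
theorem p5u1508 : ∀ k, 76725 ≤ k → k < 90306 → pointOk (k * 22) = true := between_extend pointOk 22 76725 90297 9 (p5u1507) p5r1508

theorem p5r1509 : allRange pointOk 22 90306 9 = true := by decide +kernel
theorem p5u1509 : ∀ k, 76725 ≤ k → k < 90315 → pointOk (k * 22) = true := between_extend pointOk 22 76725 90306 9 (p5u1508) p5r1509

theorem p5r1510 : allRange pointOk 22 90315 9 = true := by decide +kernel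
theorem p5u1510 : ∀ k, 76725 ≤ k → k < 90324 → pointOk (k * 22) = true := between_extend pointOk 22 76725 90315 9 (p5u1509) p5r1510

theorem p5r1511 : allRange pointOk 22 90324 9 = true := by decide +kernel
theorem p5u1511 : ∀ k, 76725 ≤ k → k < 90333 → pointOk (k * 22) = true := between_extend pointOk 22 76725 90324 9 (p5u1510) p5r1511

theorem p5r1512 : allRange pointOk 22 90333 9 = true := by decide +kernel
theorem p5u1512 : ∀ k, 76725 ≤ k → k < 90342 → pointOk (k * 22) = true := between_extend pointOk 22 76725 90333 9 (p5u1511) p5r1512

theorem p5r1513 : allRange pointOk 22 90342 9 = true := by decide +kernel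
theorem p5u1513 : ∀ k, 76725 ≤ k → k < 90351 → pointOk (k * 22) = true := between_extend pointOk 22 76725 90342 9 (p5u1512) p5r1513

theorem p5r1514 : allRange pointOk 22 90351 9 = true := by decide +kernel
theorem p5u1514 : ∀ k, 76725 ≤ k → k < 90360 → pointOk (k * 22) = true := between_extend pointOk 22 76725 90351 9 (p5u1513) p5r1514

theorem p5r1515 : allRange pointOk 22 90360 9 = true := by decide +kernel
theorem p5u1515 : ∀ k, 76725 ≤ k → k < 90369 → pointOk (k * 22) = true := between_extend pointOk 22 76725 90360 9 (p5u1514) p5r1515

theorem p5r1516 : allRange pointOk 22 90369 9 = true := by decide +kernel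
theorem p5u1516 : ∀ k, 76725 ≤ k → k < 90378 → pointOk (k * 22) = true := between_extend pointOk 22 76725 90369 9 (p5u1515) p5r1516

theorem p5r1517 : allRange pointOk 22 90378 9 = true := by decide +kernel
theorem p5u1517 : ∀ k, 76725 ≤ k → k < 90387 → pointOk (k * 22) = true := between_extend pointOk 22 76725 90378 9 (p5u1516) p5r1517

theorem p5r1518 : allRange pointOk 22 90387 9 = true := by decide +kernel
theorem p5u1518 : ∀ k, 76725 ≤ k → k < 90396 → pointOk (k * 22) = true := between_extend pointOk 22 76725 90387 9 (p5u1517) p5r1518

theorem p5r1519 : allRange pointOk 22 90396 9 = true := by decide +kernel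
theorem p5u1519 : ∀ k, 76725 ≤ k → k < 90405 → pointOk (k * 22) = true := between_extend pointOk 22 76725 90396 9 (p5u1518) p5r1519

theorem p5r1520 : allRange pointOk 22 90405 9 = true := by decide +kernel
theorem p5u1520 : ∀ k, 76725 ≤ k → k < 90414 → pointOk (k * 22) = true := between_extend pointOk 22 76725 90405 9 (p5u1519) p5r1520

theorem p5r1521 : allRange pointOk 22 90414 9 = true := by decide +kernel
theorem p5u1521 : ∀ k, 76725 ≤ k → k < 90423 → pointOk (k * 22) = true := between_extend pointOk 22 76725 90414 9 (p5u1520) p5r1521

theorem p5r1522 : allRange pointOk 22 90423 9 = true := by decide +kernel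
theorem p5u1522 : ∀ k, 76725 ≤ k → k < 90432 → pointOk (k * 22) = true := between_extend pointOk 22 76725 90423 9 (p5u1521) p5r1522

theorem p5r1523 : allRange pointOk 22 90432 9 = true := by decide +kernel
theorem p5u1523 : ∀ k, 76725 ≤ k → k < 90441 → pointOk (k * 22) = true := between_extend pointOk 22 76725 90432 9 (p5u1522) p5r1523

theorem p5r1524 : allRange pointOk 22 90441 9 = true := by decide +kernel
theorem p5u1524 : ∀ k, 76725 ≤ k → k < 90450 → pointOk (k * 22) = true := between_extend pointOk 22 76725 90441 9 (p5u1523) p5r1524

theorem p5r1525 : allRange pointOk 22 90450 9 = true := by decide +kernel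
theorem p5u1525 : ∀ k, 76725 ≤ k → k < 90459 → pointOk (k * 22) = true := between_extend pointOk 22 76725 90450 9 (p5u1524) p5r1525

theorem p5r1526 : allRange pointOk 22 90459 9 = true := by decide +kernel
theorem p5u1526 : ∀ k, 76725 ≤ k → k < 90468 → pointOk (k * 22) = true := between_extend pointOk 22 76725 90459 9 (p5u1525) p5r1526

theorem p5r1527 : allRange pointOk 22 90468 9 = true := by decide +kernel
theorem p5u1527 : ∀ k, 76725 ≤ k → k < 90477 → pointOk (k * 22) = true := between_extend pointOk 22 76725 90468 9 (p5u1526) p5r1527

theorem p5r1528 : allRange pointOk 22 90477 9 = true := by decide +kernel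
theorem p5u1528 : ∀ k, 76725 ≤ k → k < 90486 → pointOk (k * 22) = true := between_extend pointOk 22 76725 90477 9 (p5u1527) p5r1528

theorem p5r1529 : allRange pointOk 22 90486 9 = true := by decide +kernel
theorem p5u1529 : ∀ k, 76725 ≤ k → k < 90495 → pointOk (k * 22) = true := between_extend pointOk 22 76725 90486 9 (p5u1528) p5r1529

theorem p5r1530 : allRange pointOk 22 90495 9 = true := by decide +kernel
theorem p5u1530 : ∀ k, 76725 ≤ k → k < 90504 → pointOk (k * 22) = true := between_extend pointOk 22 76725 90495 9 (p5u1529) p5r1530

theorem p5r1531 : allRange pointOk 22 90504 9 = true := by decide +kernel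
theorem p5u1531 : ∀ k, 76725 ≤ k → k < 90513 → pointOk (k * 22) = true := between_extend pointOk 22 76725 90504 9 (p5u1530) p5r1531

theorem p5r1532 : allRange pointOk 22 90513 9 = true := by decide +kernel
theorem p5u1532 : ∀ k, 76725 ≤ k → k < 90522 → pointOk (k * 22) = true := between_extend pointOk 22 76725 90513 9 (p5u1531) p5r1532

theorem p5r1533 : allRange pointOk 22 90522 9 = true := by decide +kernel
theorem p5u1533 : ∀ k, 76725 ≤ k → k < 90531 → pointOk (k * 22) = true := between_extend pointOk 22 76725 90522 9 (p5u1532) p5r1533

theorem p5r1534 : allRange pointOk 22 90531 9 = true := by decide +kernel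
theorem p5u1534 : ∀ k, 76725 ≤ k → k < 90540 → pointOk (k * 22) = true := between_extend pointOk 22 76725 90531 9 (p5u1533) p5r1534

theorem p5r1535 : allRange pointOk 22 90540 9 = true := by decide +kernel
theorem p5u1535 : ∀ k, 76725 ≤ k → k < 90549 → pointOk (k * 22) = true := between_extend pointOk 22 76725 90540 9 (p5u1534) p5r1535

theorem p5r1536 : allRange pointOk 22 90549 9 = true := by decide +kernel
theorem p5u1536 : ∀ k, 76725 ≤ k → k < 90558 → pointOk (k * 22) = true := between_extend pointOk 22 76725 90549 9 (p5u1535) p5r1536

theorem p5r1537 : allRange pointOk 22 90558 9 = true := by decide +kernel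
theorem p5u1537 : ∀ k, 76725 ≤ k → k < 90567 → pointOk (k * 22) = true := between_extend pointOk 22 76725 90558 9 (p5u1536) p5r1537

theorem p5r1538 : allRange pointOk 22 90567 9 = true := by decide +kernel
theorem p5u1538 : ∀ k, 76725 ≤ k → k < 90576 → pointOk (k * 22) = true := between_extend pointOk 22 76725 90567 9 (p5u1537) p5r1538

theorem p5r1539 : allRange pointOk 22 90576 9 = true := by decide +kernel
theorem p5u1539 : ∀ k, 76725 ≤ k → k < 90585 → pointOk (k * 22) = true := between_extend pointOk 22 76725 90576 9 (p5u1538) p5r1539

theorem p5r1540 : allRange pointOk 22 90585 9 = true := by decide +kernel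
theorem p5u1540 : ∀ k, 76725 ≤ k → k < 90594 → pointOk (k * 22) = true := between_extend pointOk 22 76725 90585 9 (p5u1539) p5r1540

theorem p5r1541 : allRange pointOk 22 90594 9 = true := by decide +kernel
theorem p5u1541 : ∀ k, 76725 ≤ k → k < 90603 → pointOk (k * 22) = true := between_extend pointOk 22 76725 90594 9 (p5u1540) p5r1541

theorem p5r1542 : allRange pointOk 22 90603 9 = true := by decide +kernel
theorem p5u1542 : ∀ k, 76725 ≤ k → k < 90612 → pointOk (k * 22) = true := between_extend pointOk 22 76725 90603 9 (p5u1541) p5r1542

theorem p5r1543 : allRange pointOk 22 90612 9 = true := by decide +kernel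
theorem p5u1543 : ∀ k, 76725 ≤ k → k < 90621 → pointOk (k * 22) = true := between_extend pointOk 22 76725 90612 9 (p5u1542) p5r1543

theorem p5r1544 : allRange pointOk 22 90621 9 = true := by decide +kernel
theorem p5u1544 : ∀ k, 76725 ≤ k → k < 90630 → pointOk (k * 22) = true := between_extend pointOk 22 76725 90621 9 (p5u1543) p5r1544

theorem p5r1545 : allRange pointOk 22 90630 9 = true := by decide +kernel
theorem p5u1545 : ∀ k, 76725 ≤ k → k < 90639 → pointOk (k * 22) = true := between_extend pointOk 22 76725 90630 9 (p5u1544) p5r1545

theorem p5r1546 : allRange pointOk 22 90639 9 = true := by decide +kernel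
theorem p5u1546 : ∀ k, 76725 ≤ k → k < 90648 → pointOk (k * 22) = true := between_extend pointOk 22 76725 90639 9 (p5u1545) p5r1546

theorem p5r1547 : allRange pointOk 22 90648 9 = true := by decide +kernel
theorem p5u1547 : ∀ k, 76725 ≤ k → k < 90657 → pointOk (k * 22) = true := between_extend pointOk 22 76725 90648 9 (p5u1546) p5r1547

theorem p5r1548 : allRange pointOk 22 90657 9 = true := by decide +kernel
theorem p5u1548 : ∀ k, 76725 ≤ k → k < 90666 → pointOk (k * 22) = true := between_extend pointOk 22 76725 90657 9 (p5u1547) p5r1548

theorem p5r1549 : allRange pointOk 22 90666 9 = true := by decide +kernel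
theorem p5u1549 : ∀ k, 76725 ≤ k → k < 90675 → pointOk (k * 22) = true := between_extend pointOk 22 76725 90666 9 (p5u1548) p5r1549

theorem p5r1550 : allRange pointOk 22 90675 9 = true := by decide +kernel
theorem p5u1550 : ∀ k, 76725 ≤ k → k < 90684 → pointOk (k * 22) = true := between_extend pointOk 22 76725 90675 9 (p5u1549) p5r1550

theorem p5r1551 : allRange pointOk 22 90684 9 = true := by decide +kernel
theorem p5u1551 : ∀ k, 76725 ≤ k → k < 90693 → pointOk (k * 22) = true := between_extend pointOk 22 76725 90684 9 (p5u1550) p5r1551

theorem p5r1552 : allRange pointOk 22 90693 9 = true := by decide +kernel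
theorem p5u1552 : ∀ k, 76725 ≤ k → k < 90702 → pointOk (k * 22) = true := between_extend pointOk 22 76725 90693 9 (p5u1551) p5r1552

theorem p5r1553 : allRange pointOk 22 90702 9 = true := by decide +kernel
theorem p5u1553 : ∀ k, 76725 ≤ k → k < 90711 → pointOk (k * 22) = true := between_extend pointOk 22 76725 90702 9 (p5u1552) p5r1553

theorem p5r1554 : allRange pointOk 22 90711 9 = true := by decide +kernel
theorem p5u1554 : ∀ k, 76725 ≤ k → k < 90720 → pointOk (k * 22) = true := between_extend pointOk 22 76725 90711 9 (p5u1553) p5r1554

theorem p5r1555 : allRange pointOk 22 90720 9 = true := by decide +kernel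
theorem p5u1555 : ∀ k, 76725 ≤ k → k < 90729 → pointOk (k * 22) = true := between_extend pointOk 22 76725 90720 9 (p5u1554) p5r1555

theorem p5r1556 : allRange pointOk 22 90729 9 = true := by decide +kernel
theorem p5u1556 : ∀ k, 76725 ≤ k → k < 90738 → pointOk (k * 22) = true := between_extend pointOk 22 76725 90729 9 (p5u1555) p5r1556

theorem p5r1557 : allRange pointOk 22 90738 9 = true := by decide +kernel
theorem p5u1557 : ∀ k, 76725 ≤ k → k < 90747 → pointOk (k * 22) = true := between_extend pointOk 22 76725 90738 9 (p5u1556) p5r1557

theorem p5r1558 : allRange pointOk 22 90747 9 = true := by decide +kernel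
theorem p5u1558 : ∀ k, 76725 ≤ k → k < 90756 → pointOk (k * 22) = true := between_extend pointOk 22 76725 90747 9 (p5u1557) p5r1558

theorem p5r1559 : allRange pointOk 22 90756 9 = true := by decide +kernel
theorem p5u1559 : ∀ k, 76725 ≤ k → k < 90765 → pointOk (k * 22) = true := between_extend pointOk 22 76725 90756 9 (p5u1558) p5r1559

theorem p5r1560 : allRange pointOk 22 90765 9 = true := by decide +kernel
theorem p5u1560 : ∀ k, 76725 ≤ k → k < 90774 → pointOk (k * 22) = true := between_extend pointOk 22 76725 90765 9 (p5u1559) p5r1560

theorem p5r1561 : allRange pointOk 22 90774 9 = true := by decide +kernel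
theorem p5u1561 : ∀ k, 76725 ≤ k → k < 90783 → pointOk (k * 22) = true := between_extend pointOk 22 76725 90774 9 (p5u1560) p5r1561

theorem p5r1562 : allRange pointOk 22 90783 9 = true := by decide +kernel
theorem p5u1562 : ∀ k, 76725 ≤ k → k < 90792 → pointOk (k * 22) = true := between_extend pointOk 22 76725 90783 9 (p5u1561) p5r1562

theorem p5r1563 : allRange pointOk 22 90792 9 = true := by decide +kernel
theorem p5u1563 : ∀ k, 76725 ≤ k → k < 90801 → pointOk (k * 22) = true := between_extend pointOk 22 76725 90792 9 (p5u1562) p5r1563

theorem p5r1564 : allRange pointOk 22 90801 9 = true := by decide +kernel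
theorem p5u1564 : ∀ k, 76725 ≤ k → k < 90810 → pointOk (k * 22) = true := between_extend pointOk 22 76725 90801 9 (p5u1563) p5r1564

theorem p5r1565 : allRange pointOk 22 90810 9 = true := by decide +kernel
theorem p5u1565 : ∀ k, 76725 ≤ k → k < 90819 → pointOk (k * 22) = true := between_extend pointOk 22 76725 90810 9 (p5u1564) p5r1565

theorem p5r1566 : allRange pointOk 22 90819 9 = true := by decide +kernel
theorem p5u1566 : ∀ k, 76725 ≤ k → k < 90828 → pointOk (k * 22) = true := between_extend pointOk 22 76725 90819 9 (p5u1565) p5r1566

theorem p5r1567 : allRange pointOk 22 90828 9 = true := by decide +kernel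
theorem p5u1567 : ∀ k, 76725 ≤ k → k < 90837 → pointOk (k * 22) = true := between_extend pointOk 22 76725 90828 9 (p5u1566) p5r1567

theorem p5r1568 : allRange pointOk 22 90837 9 = true := by decide +kernel
theorem p5u1568 : ∀ k, 76725 ≤ k → k < 90846 → pointOk (k * 22) = true := between_extend pointOk 22 76725 90837 9 (p5u1567) p5r1568

theorem p5r1569 : allRange pointOk 22 90846 9 = true := by decide +kernel
theorem p5u1569 : ∀ k, 76725 ≤ k → k < 90855 → pointOk (k * 22) = true := between_extend pointOk 22 76725 90846 9 (p5u1568) p5r1569

theorem p5r1570 : allRange pointOk 22 90855 9 = true := by decide +kernel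
theorem p5u1570 : ∀ k, 76725 ≤ k → k < 90864 → pointOk (k * 22) = true := between_extend pointOk 22 76725 90855 9 (p5u1569) p5r1570

theorem p5r1571 : allRange pointOk 22 90864 9 = true := by decide +kernel
theorem p5u1571 : ∀ k, 76725 ≤ k → k < 90873 → pointOk (k * 22) = true := between_extend pointOk 22 76725 90864 9 (p5u1570) p5r1571

theorem p5r1572 : allRange pointOk 22 90873 9 = true := by decide +kernel
theorem p5u1572 : ∀ k, 76725 ≤ k → k < 90882 → pointOk (k * 22) = true := between_extend pointOk 22 76725 90873 9 (p5u1571) p5r1572

theorem p5r1573 : allRange pointOk 22 90882 9 = true := by decide +kernel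
theorem p5u1573 : ∀ k, 76725 ≤ k → k < 90891 → pointOk (k * 22) = true := between_extend pointOk 22 76725 90882 9 (p5u1572) p5r1573

theorem p5r1574 : allRange pointOk 22 90891 9 = true := by decide +kernel
theorem p5u1574 : ∀ k, 76725 ≤ k → k < 90900 → pointOk (k * 22) = true := between_extend pointOk 22 76725 90891 9 (p5u1573) p5r1574

theorem p5r1575 : allRange pointOk 22 90900 9 = true := by decide +kernel
theorem p5u1575 : ∀ k, 76725 ≤ k → k < 90909 → pointOk (k * 22) = true := between_extend pointOk 22 76725 90900 9 (p5u1574) p5r1575

theorem p5r1576 : allRange pointOk 22 90909 9 = true := by decide +kernel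
theorem p5u1576 : ∀ k, 76725 ≤ k → k < 90918 → pointOk (k * 22) = true := between_extend pointOk 22 76725 90909 9 (p5u1575) p5r1576

theorem p5r1577 : allRange pointOk 22 90918 9 = true := by decide +kernel
theorem p5u1577 : ∀ k, 76725 ≤ k → k < 90927 → pointOk (k * 22) = true := between_extend pointOk 22 76725 90918 9 (p5u1576) p5r1577

theorem p5r1578 : allRange pointOk 22 90927 9 = true := by decide +kernel
theorem p5u1578 : ∀ k, 76725 ≤ k → k < 90936 → pointOk (k * 22) = true := between_extend pointOk 22 76725 90927 9 (p5u1577) p5r1578

theorem p5r1579 : allRange pointOk 22 90936 9 = true := by decide +kernel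
theorem p5u1579 : ∀ k, 76725 ≤ k → k < 90945 → pointOk (k * 22) = true := between_extend pointOk 22 76725 90936 9 (p5u1578) p5r1579

theorem p5r1580 : allRange pointOk 22 90945 9 = true := by decide +kernel
theorem p5u1580 : ∀ k, 76725 ≤ k → k < 90954 → pointOk (k * 22) = true := between_extend pointOk 22 76725 90945 9 (p5u1579) p5r1580

theorem p5r1581 : allRange pointOk 22 90954 9 = true := by decide +kernel
theorem p5u1581 : ∀ k, 76725 ≤ k → k < 90963 → pointOk (k * 22) = true := between_extend pointOk 22 76725 90954 9 (p5u1580) p5r1581

theorem p5r1582 : allRange pointOk 22 90963 9 = true := by decide +kernel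
theorem p5u1582 : ∀ k, 76725 ≤ k → k < 90972 → pointOk (k * 22) = true := between_extend pointOk 22 76725 90963 9 (p5u1581) p5r1582

theorem p5r1583 : allRange pointOk 22 90972 9 = true := by decide +kernel
theorem p5u1583 : ∀ k, 76725 ≤ k → k < 90981 → pointOk (k * 22) = true := between_extend pointOk 22 76725 90972 9 (p5u1582) p5r1583

theorem p5r1584 : allRange pointOk 22 90981 9 = true := by decide +kernel
theorem p5u1584 : ∀ k, 76725 ≤ k → k < 90990 → pointOk (k * 22) = true := between_extend pointOk 22 76725 90981 9 (p5u1583) p5r1584

theorem p5r1585 : allRange pointOk 22 90990 9 = true := by decide +kernel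
theorem p5u1585 : ∀ k, 76725 ≤ k → k < 90999 → pointOk (k * 22) = true := between_extend pointOk 22 76725 90990 9 (p5u1584) p5r1585

theorem p5r1586 : allRange pointOk 22 90999 9 = true := by decide +kernel
theorem p5u1586 : ∀ k, 76725 ≤ k → k < 91008 → pointOk (k * 22) = true := between_extend pointOk 22 76725 90999 9 (p5u1585) p5r1586

theorem p5r1587 : allRange pointOk 22 91008 9 = true := by decide +kernel
theorem p5u1587 : ∀ k, 76725 ≤ k → k < 91017 → pointOk (k * 22) = true := between_extend pointOk 22 76725 91008 9 (p5u1586) p5r1587

theorem p5r1588 : allRange pointOk 22 91017 9 = true := by decide +kernel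
theorem p5u1588 : ∀ k, 76725 ≤ k → k < 91026 → pointOk (k * 22) = true := between_extend pointOk 22 76725 91017 9 (p5u1587) p5r1588

theorem p5r1589 : allRange pointOk 22 91026 9 = true := by decide +kernel
theorem p5u1589 : ∀ k, 76725 ≤ k → k < 91035 → pointOk (k * 22) = true := between_extend pointOk 22 76725 91026 9 (p5u1588) p5r1589

theorem p5r1590 : allRange pointOk 22 91035 9 = true := by decide +kernel
theorem p5u1590 : ∀ k, 76725 ≤ k → k < 91044 → pointOk (k * 22) = true := between_extend pointOk 22 76725 91035 9 (p5u1589) p5r1590

theorem p5r1591 : allRange pointOk 22 91044 9 = true := by decide +kernel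
theorem p5u1591 : ∀ k, 76725 ≤ k → k < 91053 → pointOk (k * 22) = true := between_extend pointOk 22 76725 91044 9 (p5u1590) p5r1591

theorem p5r1592 : allRange pointOk 22 91053 9 = true := by decide +kernel
theorem p5u1592 : ∀ k, 76725 ≤ k → k < 91062 → pointOk (k * 22) = true := between_extend pointOk 22 76725 91053 9 (p5u1591) p5r1592

theorem p5r1593 : allRange pointOk 22 91062 9 = true := by decide +kernel
theorem p5u1593 : ∀ k, 76725 ≤ k → k < 91071 → pointOk (k * 22) = true := between_extend pointOk 22 76725 91062 9 (p5u1592) p5r1593

theorem p5r1594 : allRange pointOk 22 91071 9 = true := by decide +kernel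
theorem p5u1594 : ∀ k, 76725 ≤ k → k < 91080 → pointOk (k * 22) = true := between_extend pointOk 22 76725 91071 9 (p5u1593) p5r1594

theorem p5r1595 : allRange pointOk 22 91080 9 = true := by decide +kernel
theorem p5u1595 : ∀ k, 76725 ≤ k → k < 91089 → pointOk (k * 22) = true := between_extend pointOk 22 76725 91080 9 (p5u1594) p5r1595

theorem p5r1596 : allRange pointOk 22 91089 9 = true := by decide +kernel
theorem p5u1596 : ∀ k, 76725 ≤ k → k < 91098 → pointOk (k * 22) = true := between_extend pointOk 22 76725 91089 9 (p5u1595) p5r1596

theorem p5r1597 : allRange pointOk 22 91098 9 = true := by decide +kernel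
theorem p5u1597 : ∀ k, 76725 ≤ k → k < 91107 → pointOk (k * 22) = true := between_extend pointOk 22 76725 91098 9 (p5u1596) p5r1597

theorem p5r1598 : allRange pointOk 22 91107 9 = true := by decide +kernel
theorem p5u1598 : ∀ k, 76725 ≤ k → k < 91116 → pointOk (k * 22) = true := between_extend pointOk 22 76725 91107 9 (p5u1597) p5r1598

theorem p5r1599 : allRange pointOk 22 91116 9 = true := by decide +kernel
theorem p5u1599 : ∀ k, 76725 ≤ k → k < 91125 → pointOk (k * 22) = true := between_extend pointOk 22 76725 91116 9 (p5u1598) p5r1599

theorem p5r1600 : allRange pointOk 22 91125 9 = true := by decide +kernel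
theorem p5u1600 : ∀ k, 76725 ≤ k → k < 91134 → pointOk (k * 22) = true := between_extend pointOk 22 76725 91125 9 (p5u1599) p5r1600

theorem p5r1601 : allRange pointOk 22 91134 9 = true := by decide +kernel
theorem p5u1601 : ∀ k, 76725 ≤ k → k < 91143 → pointOk (k * 22) = true := between_extend pointOk 22 76725 91134 9 (p5u1600) p5r1601

theorem p5r1602 : allRange pointOk 22 91143 9 = true := by decide +kernel
theorem p5u1602 : ∀ k, 76725 ≤ k → k < 91152 → pointOk (k * 22) = true := between_extend pointOk 22 76725 91143 9 (p5u1601) p5r1602

theorem p5r1603 : allRange pointOk 22 91152 9 = true := by decide +kernel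
theorem p5u1603 : ∀ k, 76725 ≤ k → k < 91161 → pointOk (k * 22) = true := between_extend pointOk 22 76725 91152 9 (p5u1602) p5r1603

theorem p5r1604 : allRange pointOk 22 91161 9 = true := by decide +kernel
theorem p5u1604 : ∀ k, 76725 ≤ k → k < 91170 → pointOk (k * 22) = true := between_extend pointOk 22 76725 91161 9 (p5u1603) p5r1604

theorem p5r1605 : allRange pointOk 22 91170 9 = true := by decide +kernel
theorem p5u1605 : ∀ k, 76725 ≤ k → k < 91179 → pointOk (k * 22) = true := between_extend pointOk 22 76725 91170 9 (p5u1604) p5r1605

theorem p5r1606 : allRange pointOk 22 91179 9 = true := by decide +kernel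
theorem p5u1606 : ∀ k, 76725 ≤ k → k < 91188 → pointOk (k * 22) = true := between_extend pointOk 22 76725 91179 9 (p5u1605) p5r1606

theorem p5r1607 : allRange pointOk 22 91188 9 = true := by decide +kernel
theorem p5u1607 : ∀ k, 76725 ≤ k → k < 91197 → pointOk (k * 22) = true := between_extend pointOk 22 76725 91188 9 (p5u1606) p5r1607

theorem p5r1608 : allRange pointOk 22 91197 9 = true := by decide +kernel
theorem p5u1608 : ∀ k, 76725 ≤ k → k < 91206 → pointOk (k * 22) = true := between_extend pointOk 22 76725 91197 9 (p5u1607) p5r1608

theorem p5r1609 : allRange pointOk 22 91206 9 = true := by decide +kernel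
theorem p5u1609 : ∀ k, 76725 ≤ k → k < 91215 → pointOk (k * 22) = true := between_extend pointOk 22 76725 91206 9 (p5u1608) p5r1609

theorem p5r1610 : allRange pointOk 22 91215 9 = true := by decide +kernel
theorem p5u1610 : ∀ k, 76725 ≤ k → k < 91224 → pointOk (k * 22) = true := between_extend pointOk 22 76725 91215 9 (p5u1609) p5r1610

theorem p5r1611 : allRange pointOk 22 91224 9 = true := by decide +kernel
theorem p5u1611 : ∀ k, 76725 ≤ k → k < 91233 → pointOk (k * 22) = true := between_extend pointOk 22 76725 91224 9 (p5u1610) p5r1611

theorem p5r1612 : allRange pointOk 22 91233 9 = true := by decide +kernel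
theorem p5u1612 : ∀ k, 76725 ≤ k → k < 91242 → pointOk (k * 22) = true := between_extend pointOk 22 76725 91233 9 (p5u1611) p5r1612

theorem p5r1613 : allRange pointOk 22 91242 9 = true := by decide +kernel
theorem p5u1613 : ∀ k, 76725 ≤ k → k < 91251 → pointOk (k * 22) = true := between_extend pointOk 22 76725 91242 9 (p5u1612) p5r1613

theorem p5r1614 : allRange pointOk 22 91251 9 = true := by decide +kernel
theorem p5u1614 : ∀ k, 76725 ≤ k → k < 91260 → pointOk (k * 22) = true := between_extend pointOk 22 76725 91251 9 (p5u1613) p5r1614

theorem p5r1615 : allRange pointOk 22 91260 9 = true := by decide +kernel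
theorem p5u1615 : ∀ k, 76725 ≤ k → k < 91269 → pointOk (k * 22) = true := between_extend pointOk 22 76725 91260 9 (p5u1614) p5r1615

theorem p5r1616 : allRange pointOk 22 91269 9 = true := by decide +kernel
theorem p5u1616 : ∀ k, 76725 ≤ k → k < 91278 → pointOk (k * 22) = true := between_extend pointOk 22 76725 91269 9 (p5u1615) p5r1616

theorem p5r1617 : allRange pointOk 22 91278 9 = true := by decide +kernel
theorem p5u1617 : ∀ k, 76725 ≤ k → k < 91287 → pointOk (k * 22) = true := between_extend pointOk 22 76725 91278 9 (p5u1616) p5r1617

theorem p5r1618 : allRange pointOk 22 91287 9 = true := by decide +kernel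
theorem p5u1618 : ∀ k, 76725 ≤ k → k < 91296 → pointOk (k * 22) = true := between_extend pointOk 22 76725 91287 9 (p5u1617) p5r1618

theorem p5r1619 : allRange pointOk 22 91296 9 = true := by decide +kernel
theorem p5u1619 : ∀ k, 76725 ≤ k → k < 91305 → pointOk (k * 22) = true := between_extend pointOk 22 76725 91296 9 (p5u1618) p5r1619

theorem p5r1620 : allRange pointOk 22 91305 9 = true := by decide +kernel
theorem p5u1620 : ∀ k, 76725 ≤ k → k < 91314 → pointOk (k * 22) = true := between_extend pointOk 22 76725 91305 9 (p5u1619) p5r1620

theorem p5r1621 : allRange pointOk 22 91314 9 = true := by decide +kernel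
theorem p5u1621 : ∀ k, 76725 ≤ k → k < 91323 → pointOk (k * 22) = true := between_extend pointOk 22 76725 91314 9 (p5u1620) p5r1621

theorem p5r1622 : allRange pointOk 22 91323 9 = true := by decide +kernel
theorem p5u1622 : ∀ k, 76725 ≤ k → k < 91332 → pointOk (k * 22) = true := between_extend pointOk 22 76725 91323 9 (p5u1621) p5r1622

theorem p5r1623 : allRange pointOk 22 91332 9 = true := by decide +kernel
theorem p5u1623 : ∀ k, 76725 ≤ k → k < 91341 → pointOk (k * 22) = true := between_extend pointOk 22 76725 91332 9 (p5u1622) p5r1623

theorem p5r1624 : allRange pointOk 22 91341 9 = true := by decide +kernel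
theorem p5u1624 : ∀ k, 76725 ≤ k → k < 91350 → pointOk (k * 22) = true := between_extend pointOk 22 76725 91341 9 (p5u1623) p5r1624

theorem p5r1625 : allRange pointOk 22 91350 9 = true := by decide +kernel
theorem p5u1625 : ∀ k, 76725 ≤ k → k < 91359 → pointOk (k * 22) = true := between_extend pointOk 22 76725 91350 9 (p5u1624) p5r1625

theorem p5r1626 : allRange pointOk 22 91359 9 = true := by decide +kernel
theorem p5u1626 : ∀ k, 76725 ≤ k → k < 91368 → pointOk (k * 22) = true := between_extend pointOk 22 76725 91359 9 (p5u1625) p5r1626

theorem p5r1627 : allRange pointOk 22 91368 9 = true := by decide +kernel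
theorem p5u1627 : ∀ k, 76725 ≤ k → k < 91377 → pointOk (k * 22) = true := between_extend pointOk 22 76725 91368 9 (p5u1626) p5r1627

theorem p5r1628 : allRange pointOk 22 91377 9 = true := by decide +kernel
theorem p5u1628 : ∀ k, 76725 ≤ k → k < 91386 → pointOk (k * 22) = true := between_extend pointOk 22 76725 91377 9 (p5u1627) p5r1628

theorem p5r1629 : allRange pointOk 22 91386 9 = true := by decide +kernel
theorem p5u1629 : ∀ k, 76725 ≤ k → k < 91395 → pointOk (k * 22) = true := between_extend pointOk 22 76725 91386 9 (p5u1628) p5r1629

theorem p5r1630 : allRange pointOk 22 91395 9 = true := by decide +kernel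
theorem p5u1630 : ∀ k, 76725 ≤ k → k < 91404 → pointOk (k * 22) = true := between_extend pointOk 22 76725 91395 9 (p5u1629) p5r1630

theorem p5r1631 : allRange pointOk 22 91404 9 = true := by decide +kernel
theorem p5u1631 : ∀ k, 76725 ≤ k → k < 91413 → pointOk (k * 22) = true := between_extend pointOk 22 76725 91404 9 (p5u1630) p5r1631

theorem p5r1632 : allRange pointOk 22 91413 9 = true := by decide +kernel
theorem p5u1632 : ∀ k, 76725 ≤ k → k < 91422 → pointOk (k * 22) = true := between_extend pointOk 22 76725 91413 9 (p5u1631) p5r1632

theorem p5r1633 : allRange pointOk 22 91422 9 = true := by decide +kernel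
theorem p5u1633 : ∀ k, 76725 ≤ k → k < 91431 → pointOk (k * 22) = true := between_extend pointOk 22 76725 91422 9 (p5u1632) p5r1633

theorem p5r1634 : allRange pointOk 22 91431 9 = true := by decide +kernel
theorem p5u1634 : ∀ k, 76725 ≤ k → k < 91440 → pointOk (k * 22) = true := between_extend pointOk 22 76725 91431 9 (p5u1633) p5r1634

theorem p5r1635 : allRange pointOk 22 91440 9 = true := by decide +kernel
theorem p5u1635 : ∀ k, 76725 ≤ k → k < 91449 → pointOk (k * 22) = true := between_extend pointOk 22 76725 91440 9 (p5u1634) p5r1635

theorem p5r1636 : allRange pointOk 22 91449 9 = true := by decide +kernel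
theorem p5u1636 : ∀ k, 76725 ≤ k → k < 91458 → pointOk (k * 22) = true := between_extend pointOk 22 76725 91449 9 (p5u1635) p5r1636

theorem p5r1637 : allRange pointOk 22 91458 9 = true := by decide +kernel
theorem p5u1637 : ∀ k, 76725 ≤ k → k < 91467 → pointOk (k * 22) = true := between_extend pointOk 22 76725 91458 9 (p5u1636) p5r1637

theorem p5r1638 : allRange pointOk 22 91467 9 = true := by decide +kernel
theorem p5u1638 : ∀ k, 76725 ≤ k → k < 91476 → pointOk (k * 22) = true := between_extend pointOk 22 76725 91467 9 (p5u1637) p5r1638

theorem p5r1639 : allRange pointOk 22 91476 9 = true := by decide +kernel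
theorem p5u1639 : ∀ k, 76725 ≤ k → k < 91485 → pointOk (k * 22) = true := between_extend pointOk 22 76725 91476 9 (p5u1638) p5r1639

theorem p5r1640 : allRange pointOk 22 91485 9 = true := by decide +kernel
theorem p5u1640 : ∀ k, 76725 ≤ k → k < 91494 → pointOk (k * 22) = true := between_extend pointOk 22 76725 91485 9 (p5u1639) p5r1640

theorem p5r1641 : allRange pointOk 22 91494 9 = true := by decide +kernel
theorem p5u1641 : ∀ k, 76725 ≤ k → k < 91503 → pointOk (k * 22) = true := between_extend pointOk 22 76725 91494 9 (p5u1640) p5r1641

theorem p5r1642 : allRange pointOk 22 91503 9 = true := by decide +kernel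
theorem p5u1642 : ∀ k, 76725 ≤ k → k < 91512 → pointOk (k * 22) = true := between_extend pointOk 22 76725 91503 9 (p5u1641) p5r1642

theorem p5r1643 : allRange pointOk 22 91512 9 = true := by decide +kernel
theorem p5u1643 : ∀ k, 76725 ≤ k → k < 91521 → pointOk (k * 22) = true := between_extend pointOk 22 76725 91512 9 (p5u1642) p5r1643

theorem p5r1644 : allRange pointOk 22 91521 9 = true := by decide +kernel
theorem p5u1644 : ∀ k, 76725 ≤ k → k < 91530 → pointOk (k * 22) = true := between_extend pointOk 22 76725 91521 9 (p5u1643) p5r1644

theorem p5r1645 : allRange pointOk 22 91530 9 = true := by decide +kernel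
theorem p5u1645 : ∀ k, 76725 ≤ k → k < 91539 → pointOk (k * 22) = true := between_extend pointOk 22 76725 91530 9 (p5u1644) p5r1645

theorem p5r1646 : allRange pointOk 22 91539 9 = true := by decide +kernel
theorem p5u1646 : ∀ k, 76725 ≤ k → k < 91548 → pointOk (k * 22) = true := between_extend pointOk 22 76725 91539 9 (p5u1645) p5r1646

theorem p5r1647 : allRange pointOk 22 91548 9 = true := by decide +kernel
theorem p5u1647 : ∀ k, 76725 ≤ k → k < 91557 → pointOk (k * 22) = true := between_extend pointOk 22 76725 91548 9 (p5u1646) p5r1647

theorem p5r1648 : allRange pointOk 22 91557 9 = true := by decide +kernel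
theorem p5u1648 : ∀ k, 76725 ≤ k → k < 91566 → pointOk (k * 22) = true := between_extend pointOk 22 76725 91557 9 (p5u1647) p5r1648

theorem p5r1649 : allRange pointOk 22 91566 9 = true := by decide +kernel
theorem p5u1649 : ∀ k, 76725 ≤ k → k < 91575 → pointOk (k * 22) = true := between_extend pointOk 22 76725 91566 9 (p5u1648) p5r1649

theorem p5r1650 : allRange pointOk 22 91575 9 = true := by decide +kernel
theorem p5u1650 : ∀ k, 76725 ≤ k → k < 91584 → pointOk (k * 22) = true := between_extend pointOk 22 76725 91575 9 (p5u1649) p5r1650

theorem p5r1651 : allRange pointOk 22 91584 9 = true := by decide +kernel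
theorem p5u1651 : ∀ k, 76725 ≤ k → k < 91593 → pointOk (k * 22) = true := between_extend pointOk 22 76725 91584 9 (p5u1650) p5r1651

theorem p5r1652 : allRange pointOk 22 91593 9 = true := by decide +kernel
theorem p5u1652 : ∀ k, 76725 ≤ k → k < 91602 → pointOk (k * 22) = true := between_extend pointOk 22 76725 91593 9 (p5u1651) p5r1652

theorem p5r1653 : allRange pointOk 22 91602 9 = true := by decide +kernel
theorem p5u1653 : ∀ k, 76725 ≤ k → k < 91611 → pointOk (k * 22) = true := between_extend pointOk 22 76725 91602 9 (p5u1652) p5r1653

theorem p5r1654 : allRange pointOk 22 91611 9 = true := by decide +kernel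
theorem p5u1654 : ∀ k, 76725 ≤ k → k < 91620 → pointOk (k * 22) = true := between_extend pointOk 22 76725 91611 9 (p5u1653) p5r1654

theorem p5r1655 : allRange pointOk 22 91620 9 = true := by decide +kernel
theorem p5u1655 : ∀ k, 76725 ≤ k → k < 91629 → pointOk (k * 22) = true := between_extend pointOk 22 76725 91620 9 (p5u1654) p5r1655

theorem p5r1656 : allRange pointOk 22 91629 9 = true := by decide +kernel
theorem p5u1656 : ∀ k, 76725 ≤ k → k < 91638 → pointOk (k * 22) = true := between_extend pointOk 22 76725 91629 9 (p5u1655) p5r1656

theorem p5r1657 : allRange pointOk 22 91638 9 = true := by decide +kernel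
theorem p5u1657 : ∀ k, 76725 ≤ k → k < 91647 → pointOk (k * 22) = true := between_extend pointOk 22 76725 91638 9 (p5u1656) p5r1657

theorem p5r1658 : allRange pointOk 22 91647 9 = true := by decide +kernel
theorem p5u1658 : ∀ k, 76725 ≤ k → k < 91656 → pointOk (k * 22) = true := between_extend pointOk 22 76725 91647 9 (p5u1657) p5r1658

theorem p5r1659 : allRange pointOk 22 91656 9 = true := by decide +kernel
theorem p5u1659 : ∀ k, 76725 ≤ k → k < 91665 → pointOk (k * 22) = true := between_extend pointOk 22 76725 91656 9 (p5u1658) p5r1659

theorem p5r1660 : allRange pointOk 22 91665 9 = true := by decide +kernel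
theorem p5u1660 : ∀ k, 76725 ≤ k → k < 91674 → pointOk (k * 22) = true := between_extend pointOk 22 76725 91665 9 (p5u1659) p5r1660

theorem p5r1661 : allRange pointOk 22 91674 9 = true := by decide +kernel
theorem p5u1661 : ∀ k, 76725 ≤ k → k < 91683 → pointOk (k * 22) = true := between_extend pointOk 22 76725 91674 9 (p5u1660) p5r1661

theorem p5r1662 : allRange pointOk 22 91683 9 = true := by decide +kernel
theorem p5u1662 : ∀ k, 76725 ≤ k → k < 91692 → pointOk (k * 22) = true := between_extend pointOk 22 76725 91683 9 (p5u1661) p5r1662

theorem p5r1663 : allRange pointOk 22 91692 9 = true := by decide +kernel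
theorem p5u1663 : ∀ k, 76725 ≤ k → k < 91701 → pointOk (k * 22) = true := between_extend pointOk 22 76725 91692 9 (p5u1662) p5r1663

theorem p5r1664 : allRange pointOk 22 91701 9 = true := by decide +kernel
theorem p5u1664 : ∀ k, 76725 ≤ k → k < 91710 → pointOk (k * 22) = true := between_extend pointOk 22 76725 91701 9 (p5u1663) p5r1664

theorem p5r1665 : allRange pointOk 22 91710 9 = true := by decide +kernel
theorem p5u1665 : ∀ k, 76725 ≤ k → k < 91719 → pointOk (k * 22) = true := between_extend pointOk 22 76725 91710 9 (p5u1664) p5r1665

theorem p5r1666 : allRange pointOk 22 91719 9 = true := by decide +kernel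
theorem p5u1666 : ∀ k, 76725 ≤ k → k < 91728 → pointOk (k * 22) = true := between_extend pointOk 22 76725 91719 9 (p5u1665) p5r1666

theorem p5r1667 : allRange pointOk 22 91728 9 = true := by decide +kernel
theorem p5u1667 : ∀ k, 76725 ≤ k → k < 91737 → pointOk (k * 22) = true := between_extend pointOk 22 76725 91728 9 (p5u1666) p5r1667

theorem p5r1668 : allRange pointOk 22 91737 9 = true := by decide +kernel
theorem p5u1668 : ∀ k, 76725 ≤ k → k < 91746 → pointOk (k * 22) = true := between_extend pointOk 22 76725 91737 9 (p5u1667) p5r1668

theorem p5r1669 : allRange pointOk 22 91746 9 = true := by decide +kernel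
theorem p5u1669 : ∀ k, 76725 ≤ k → k < 91755 → pointOk (k * 22) = true := between_extend pointOk 22 76725 91746 9 (p5u1668) p5r1669

theorem p5r1670 : allRange pointOk 22 91755 9 = true := by decide +kernel
theorem p5u1670 : ∀ k, 76725 ≤ k → k < 91764 → pointOk (k * 22) = true := between_extend pointOk 22 76725 91755 9 (p5u1669) p5r1670

theorem p5r1671 : allRange pointOk 22 91764 9 = true := by decide +kernel
theorem p5u1671 : ∀ k, 76725 ≤ k → k < 91773 → pointOk (k * 22) = true := between_extend pointOk 22 76725 91764 9 (p5u1670) p5r1671

theorem p5r1672 : allRange pointOk 22 91773 9 = true := by decide +kernel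
theorem p5u1672 : ∀ k, 76725 ≤ k → k < 91782 → pointOk (k * 22) = true := between_extend pointOk 22 76725 91773 9 (p5u1671) p5r1672

theorem p5r1673 : allRange pointOk 22 91782 9 = true := by decide +kernel
theorem p5u1673 : ∀ k, 76725 ≤ k → k < 91791 → pointOk (k * 22) = true := between_extend pointOk 22 76725 91782 9 (p5u1672) p5r1673

theorem p5r1674 : allRange pointOk 22 91791 9 = true := by decide +kernel
theorem p5u1674 : ∀ k, 76725 ≤ k → k < 91800 → pointOk (k * 22) = true := between_extend pointOk 22 76725 91791 9 (p5u1673) p5r1674

theorem p5r1675 : allRange pointOk 22 91800 9 = true := by decide +kernel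
theorem p5u1675 : ∀ k, 76725 ≤ k → k < 91809 → pointOk (k * 22) = true := between_extend pointOk 22 76725 91800 9 (p5u1674) p5r1675

theorem p5r1676 : allRange pointOk 22 91809 9 = true := by decide +kernel
theorem p5u1676 : ∀ k, 76725 ≤ k → k < 91818 → pointOk (k * 22) = true := between_extend pointOk 22 76725 91809 9 (p5u1675) p5r1676

theorem p5r1677 : allRange pointOk 22 91818 9 = true := by decide +kernel
theorem p5u1677 : ∀ k, 76725 ≤ k → k < 91827 → pointOk (k * 22) = true := between_extend pointOk 22 76725 91818 9 (p5u1676) p5r1677

theorem p5r1678 : allRange pointOk 22 91827 9 = true := by decide +kernel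
theorem p5u1678 : ∀ k, 76725 ≤ k → k < 91836 → pointOk (k * 22) = true := between_extend pointOk 22 76725 91827 9 (p5u1677) p5r1678

theorem p5r1679 : allRange pointOk 22 91836 9 = true := by decide +kernel
theorem p5u1679 : ∀ k, 76725 ≤ k → k < 91845 → pointOk (k * 22) = true := between_extend pointOk 22 76725 91836 9 (p5u1678) p5r1679

theorem p5r1680 : allRange pointOk 22 91845 9 = true := by decide +kernel
theorem p5u1680 : ∀ k, 76725 ≤ k → k < 91854 → pointOk (k * 22) = true := between_extend pointOk 22 76725 91845 9 (p5u1679) p5r1680

theorem p5r1681 : allRange pointOk 22 91854 9 = true := by decide +kernel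
theorem p5u1681 : ∀ k, 76725 ≤ k → k < 91863 → pointOk (k * 22) = true := between_extend pointOk 22 76725 91854 9 (p5u1680) p5r1681

theorem p5r1682 : allRange pointOk 22 91863 9 = true := by decide +kernel
theorem p5u1682 : ∀ k, 76725 ≤ k → k < 91872 → pointOk (k * 22) = true := between_extend pointOk 22 76725 91863 9 (p5u1681) p5r1682

theorem p5r1683 : allRange pointOk 22 91872 9 = true := by decide +kernel
theorem p5u1683 : ∀ k, 76725 ≤ k → k < 91881 → pointOk (k * 22) = true := between_extend pointOk 22 76725 91872 9 (p5u1682) p5r1683

theorem p5r1684 : allRange pointOk 22 91881 9 = true := by decide +kernel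
theorem p5u1684 : ∀ k, 76725 ≤ k → k < 91890 → pointOk (k * 22) = true := between_extend pointOk 22 76725 91881 9 (p5u1683) p5r1684

theorem p5r1685 : allRange pointOk 22 91890 9 = true := by decide +kernel
theorem p5u1685 : ∀ k, 76725 ≤ k → k < 91899 → pointOk (k * 22) = true := between_extend pointOk 22 76725 91890 9 (p5u1684) p5r1685

theorem p5r1686 : allRange pointOk 22 91899 9 = true := by decide +kernel
theorem p5u1686 : ∀ k, 76725 ≤ k → k < 91908 → pointOk (k * 22) = true := between_extend pointOk 22 76725 91899 9 (p5u1685) p5r1686

theorem p5r1687 : allRange pointOk 22 91908 9 = true := by decide +kernel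
theorem p5u1687 : ∀ k, 76725 ≤ k → k < 91917 → pointOk (k * 22) = true := between_extend pointOk 22 76725 91908 9 (p5u1686) p5r1687

theorem p5r1688 : allRange pointOk 22 91917 9 = true := by decide +kernel
theorem p5u1688 : ∀ k, 76725 ≤ k → k < 91926 → pointOk (k * 22) = true := between_extend pointOk 22 76725 91917 9 (p5u1687) p5r1688

theorem p5r1689 : allRange pointOk 22 91926 9 = true := by decide +kernel
theorem p5u1689 : ∀ k, 76725 ≤ k → k < 91935 → pointOk (k * 22) = true := between_extend pointOk 22 76725 91926 9 (p5u1688) p5r1689

theorem p5r1690 : allRange pointOk 22 91935 9 = true := by decide +kernel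
theorem p5u1690 : ∀ k, 76725 ≤ k → k < 91944 → pointOk (k * 22) = true := between_extend pointOk 22 76725 91935 9 (p5u1689) p5r1690

theorem p5r1691 : allRange pointOk 22 91944 9 = true := by decide +kernel
theorem p5u1691 : ∀ k, 76725 ≤ k → k < 91953 → pointOk (k * 22) = true := between_extend pointOk 22 76725 91944 9 (p5u1690) p5r1691

theorem p5r1692 : allRange pointOk 22 91953 9 = true := by decide +kernel
theorem p5u1692 : ∀ k, 76725 ≤ k → k < 91962 → pointOk (k * 22) = true := between_extend pointOk 22 76725 91953 9 (p5u1691) p5r1692

theorem p5r1693 : allRange pointOk 22 91962 9 = true := by decide +kernel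
theorem p5u1693 : ∀ k, 76725 ≤ k → k < 91971 → pointOk (k * 22) = true := between_extend pointOk 22 76725 91962 9 (p5u1692) p5r1693

theorem p5r1694 : allRange pointOk 22 91971 9 = true := by decide +kernel
theorem p5u1694 : ∀ k, 76725 ≤ k → k < 91980 → pointOk (k * 22) = true := between_extend pointOk 22 76725 91971 9 (p5u1693) p5r1694

theorem p5r1695 : allRange pointOk 22 91980 9 = true := by decide +kernel
theorem p5u1695 : ∀ k, 76725 ≤ k → k < 91989 → pointOk (k * 22) = true := between_extend pointOk 22 76725 91980 9 (p5u1694) p5r1695

theorem p5r1696 : allRange pointOk 22 91989 9 = true := by decide +kernel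
theorem p5u1696 : ∀ k, 76725 ≤ k → k < 91998 → pointOk (k * 22) = true := between_extend pointOk 22 76725 91989 9 (p5u1695) p5r1696

theorem p5r1697 : allRange pointOk 22 91998 9 = true := by decide +kernel
theorem p5u1697 : ∀ k, 76725 ≤ k → k < 92007 → pointOk (k * 22) = true := between_extend pointOk 22 76725 91998 9 (p5u1696) p5r1697

theorem p5r1698 : allRange pointOk 22 92007 9 = true := by decide +kernel
theorem p5u1698 : ∀ k, 76725 ≤ k → k < 92016 → pointOk (k * 22) = true := between_extend pointOk 22 76725 92007 9 (p5u1697) p5r1698

theorem p5r1699 : allRange pointOk 22 92016 9 = true := by decide +kernel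
theorem p5u1699 : ∀ k, 76725 ≤ k → k < 92025 → pointOk (k * 22) = true := between_extend pointOk 22 76725 92016 9 (p5u1698) p5r1699

theorem p5r1700 : allRange pointOk 22 92025 9 = true := by decide +kernel
theorem p5u1700 : ∀ k, 76725 ≤ k → k < 92034 → pointOk (k * 22) = true := between_extend pointOk 22 76725 92025 9 (p5u1699) p5r1700

theorem p5r1701 : allRange pointOk 22 92034 9 = true := by decide +kernel
theorem p5u1701 : ∀ k, 76725 ≤ k → k < 92043 → pointOk (k * 22) = true := between_extend pointOk 22 76725 92034 9 (p5u1700) p5r1701

theorem p5r1702 : allRange pointOk 22 92043 9 = true := by decide +kernel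
theorem p5u1702 : ∀ k, 76725 ≤ k → k < 92052 → pointOk (k * 22) = true := between_extend pointOk 22 76725 92043 9 (p5u1701) p5r1702

theorem p5r1703 : allRange pointOk 22 92052 9 = true := by decide +kernel
theorem p5u1703 : ∀ k, 76725 ≤ k → k < 92061 → pointOk (k * 22) = true := between_extend pointOk 22 76725 92052 9 (p5u1702) p5r1703

theorem p5r1704 : allRange pointOk 22 92061 9 = true := by decide +kernel
theorem p5u1704 : ∀ k, 76725 ≤ k → k < 92070 → pointOk (k * 22) = true := between_extend pointOk 22 76725 92061 9 (p5u1703) p5r1704

theorem p5 : ∀ k, 76725 ≤ k → k < 92070 → pointOk (k * 22) = true := p5u1704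

end Cfsg.Agent.Lib.Helper28_S1692
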