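import Cfsg.Agent.Lib.Helper28_S1692P2  -- build-order chain (limits parallel memory use)
import Cfsg.Agent.Lib.Helper28_S1692Def

set_option autoImplicit false
set_option linter.constructorNameAsVariable false
set_option Elab.async false

namespace Cfsg.Agent.Lib.Helper28_S1692

open Cfsg.Agent.Lib.Helper28_CosetPerm

theorem p6r0 : allRange pointOk 22 92070 9 = true := by decide +kernel
theorem p6u0 : ∀ k, 92070 ≤ k → k < 92079 → pointOk (k * 22) = true := between_extend pointOk 22 92070 92070 9 (between_start pointOk 22 92070) p6r0

theorem p6r1 : allRange pointOk 22 92079 9 = true := by decide +kernel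
theorem p6u1 : ∀ k, 92070 ≤ k → k < 92088 → pointOk (k * 22) = true := between_extend pointOk 22 92070 92079 9 (p6u0) p6r1

theorem p6r2 : allRange pointOk 22 92088 9 = true := by decide +kernel
theorem p6u2 : ∀ k, 92070 ≤ k → k < 92097 → pointOk (k * 22) = true := between_extend pointOk 22 92070 92088 9 (p6u1) p6r2

theorem p6r3 : allRange pointOk 22 92097 9 = true := by decide +kernel
theorem p6u3 : ∀ k, 92070 ≤ k → k < 92106 → pointOk (k * 22) = true := between_extend pointOk 22 92070 92097 9 (p6u2) p6r3

theorem p6r4 : allRange pointOk 22 92106 9 = true := by decide +kernel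
theorem p6u4 : ∀ k, 92070 ≤ k → k < 92115 → pointOk (k * 22) = true := between_extend pointOk 22 92070 92106 9 (p6u3) p6r4

theorem p6r5 : allRange pointOk 22 92115 9 = true := by decide +kernel
theorem p6u5 : ∀ k, 92070 ≤ k → k < 92124 → pointOk (k * 22) = true := between_extend pointOk 22 92070 92115 9 (p6u4) p6r5

theorem p6r6 : allRange pointOk 22 92124 9 = true := by decide +kernel
theorem p6u6 : ∀ k, 92070 ≤ k → k < 92133 → pointOk (k * 22) = true := between_extend pointOk 22 92070 92124 9 (p6u5) p6r6

theorem p6r7 : allRange pointOk 22 92133 9 = true := by decide +kernel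
theorem p6u7 : ∀ k, 92070 ≤ k → k < 92142 → pointOk (k * 22) = true := between_extend pointOk 22 92070 92133 9 (p6u6) p6r7

theorem p6r8 : allRange pointOk 22 92142 9 = true := by decide +kernel
theorem p6u8 : ∀ k, 92070 ≤ k → k < 92151 → pointOk (k * 22) = true := between_extend pointOk 22 92070 92142 9 (p6u7) p6r8

theorem p6r9 : allRange pointOk 22 92151 9 = true := by decide +kernel
theorem p6u9 : ∀ k, 92070 ≤ k → k < 92160 → pointOk (k * 22) = true := between_extend pointOk 22 92070 92151 9 (p6u8) p6r9

theorem p6r10 : allRange pointOk 22 92160 9 = true := by decide +kernel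
theorem p6u10 : ∀ k, 92070 ≤ k → k < 92169 → pointOk (k * 22) = true := between_extend pointOk 22 92070 92160 9 (p6u9) p6r10

theorem p6r11 : allRange pointOk 22 92169 9 = true := by decide +kernel
theorem p6u11 : ∀ k, 92070 ≤ k → k < 92178 → pointOk (k * 22) = true := between_extend pointOk 22 92070 92169 9 (p6u10) p6r11

theorem p6r12 : allRange pointOk 22 92178 9 = true := by decide +kernel
theorem p6u12 : ∀ k, 92070 ≤ k → k < 92187 → pointOk (k * 22) = true := between_extend pointOk 22 92070 92178 9 (p6u11) p6r12

theorem p6r13 : allRange pointOk 22 92187 9 = true := by decide +kernel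
theorem p6u13 : ∀ k, 92070 ≤ k → k < 92196 → pointOk (k * 22) = true := between_extend pointOk 22 92070 92187 9 (p6u12) p6r13

theorem p6r14 : allRange pointOk 22 92196 9 = true := by decide +kernel
theorem p6u14 : ∀ k, 92070 ≤ k → k < 92205 → pointOk (k * 22) = true := between_extend pointOk 22 92070 92196 9 (p6u13) p6r14

theorem p6r15 : allRange pointOk 22 92205 9 = true := by decide +kernel
theorem p6u15 : ∀ k, 92070 ≤ k → k < 92214 → pointOk (k * 22) = true := between_extend pointOk 22 92070 92205 9 (p6u14) p6r15

theorem p6r16 : allRange pointOk 22 92214 9 = true := by decide +kernel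
theorem p6u16 : ∀ k, 92070 ≤ k → k < 92223 → pointOk (k * 22) = true := between_extend pointOk 22 92070 92214 9 (p6u15) p6r16

theorem p6r17 : allRange pointOk 22 92223 9 = true := by decide +kernel
theorem p6u17 : ∀ k, 92070 ≤ k → k < 92232 → pointOk (k * 22) = true := between_extend pointOk 22 92070 92223 9 (p6u16) p6r17

theorem p6r18 : allRange pointOk 22 92232 9 = true := by decide +kernel
theorem p6u18 : ∀ k, 92070 ≤ k → k < 92241 → pointOk (k * 22) = true := between_extend pointOk 22 92070 92232 9 (p6u17) p6r18

theorem p6r19 : allRange pointOk 22 92241 9 = true := by decide +kernel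
theorem p6u19 : ∀ k, 92070 ≤ k → k < 92250 → pointOk (k * 22) = true := between_extend pointOk 22 92070 92241 9 (p6u18) p6r19

theorem p6r20 : allRange pointOk 22 92250 9 = true := by decide +kernel
theorem p6u20 : ∀ k, 92070 ≤ k → k < 92259 → pointOk (k * 22) = true := between_extend pointOk 22 92070 92250 9 (p6u19) p6r20

theorem p6r21 : allRange pointOk 22 92259 9 = true := by decide +kernel
theorem p6u21 : ∀ k, 92070 ≤ k → k < 92268 → pointOk (k * 22) = true := between_extend pointOk 22 92070 92259 9 (p6u20) p6r21

theorem p6r22 : allRange pointOk 22 92268 9 = true := by decide +kernel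
theorem p6u22 : ∀ k, 92070 ≤ k → k < 92277 → pointOk (k * 22) = true := between_extend pointOk 22 92070 92268 9 (p6u21) p6r22

theorem p6r23 : allRange pointOk 22 92277 9 = true := by decide +kernel
theorem p6u23 : ∀ k, 92070 ≤ k → k < 92286 → pointOk (k * 22) = true := between_extend pointOk 22 92070 92277 9 (p6u22) p6r23

theorem p6r24 : allRange pointOk 22 92286 9 = true := by decide +kernel
theorem p6u24 : ∀ k, 92070 ≤ k → k < 92295 → pointOk (k * 22) = true := between_extend pointOk 22 92070 92286 9 (p6u23) p6r24

theorem p6r25 : allRange pointOk 22 92295 9 = true := by decide +kernel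
theorem p6u25 : ∀ k, 92070 ≤ k → k < 92304 → pointOk (k * 22) = true := between_extend pointOk 22 92070 92295 9 (p6u24) p6r25

theorem p6r26 : allRange pointOk 22 92304 9 = true := by decide +kernel
theorem p6u26 : ∀ k, 92070 ≤ k → k < 92313 → pointOk (k * 22) = true := between_extend pointOk 22 92070 92304 9 (p6u25) p6r26

theorem p6r27 : allRange pointOk 22 92313 9 = true := by decide +kernel
theorem p6u27 : ∀ k, 92070 ≤ k → k < 92322 → pointOk (k * 22) = true := between_extend pointOk 22 92070 92313 9 (p6u26) p6r27

theorem p6r28 : allRange pointOk 22 92322 9 = true := by decide +kernel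
theorem p6u28 : ∀ k, 92070 ≤ k → k < 92331 → pointOk (k * 22) = true := between_extend pointOk 22 92070 92322 9 (p6u27) p6r28

theorem p6r29 : allRange pointOk 22 92331 9 = true := by decide +kernel
theorem p6u29 : ∀ k, 92070 ≤ k → k < 92340 → pointOk (k * 22) = true := between_extend pointOk 22 92070 92331 9 (p6u28) p6r29

theorem p6r30 : allRange pointOk 22 92340 9 = true := by decide +kernel
theorem p6u30 : ∀ k, 92070 ≤ k → k < 92349 → pointOk (k * 22) = true := between_extend pointOk 22 92070 92340 9 (p6u29) p6r30

theorem p6r31 : allRange pointOk 22 92349 9 = true := by decide +kernel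
theorem p6u31 : ∀ k, 92070 ≤ k → k < 92358 → pointOk (k * 22) = true := between_extend pointOk 22 92070 92349 9 (p6u30) p6r31

theorem p6r32 : allRange pointOk 22 92358 9 = true := by decide +kernel
theorem p6u32 : ∀ k, 92070 ≤ k → k < 92367 → pointOk (k * 22) = true := between_extend pointOk 22 92070 92358 9 (p6u31) p6r32

theorem p6r33 : allRange pointOk 22 92367 9 = true := by decide +kernel
theorem p6u33 : ∀ k, 92070 ≤ k → k < 92376 → pointOk (k * 22) = true := between_extend pointOk 22 92070 92367 9 (p6u32) p6r33

theorem p6r34 : allRange pointOk 22 92376 9 = true := by decide +kernel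
theorem p6u34 : ∀ k, 92070 ≤ k → k < 92385 → pointOk (k * 22) = true := between_extend pointOk 22 92070 92376 9 (p6u33) p6r34

theorem p6r35 : allRange pointOk 22 92385 9 = true := by decide +kernel
theorem p6u35 : ∀ k, 92070 ≤ k → k < 92394 → pointOk (k * 22) = true := between_extend pointOk 22 92070 92385 9 (p6u34) p6r35

theorem p6r36 : allRange pointOk 22 92394 9 = true := by decide +kernel
theorem p6u36 : ∀ k, 92070 ≤ k → k < 92403 → pointOk (k * 22) = true := between_extend pointOk 22 92070 92394 9 (p6u35) p6r36

theorem p6r37 : allRange pointOk 22 92403 9 = true := by decide +kernel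
theorem p6u37 : ∀ k, 92070 ≤ k → k < 92412 → pointOk (k * 22) = true := between_extend pointOk 22 92070 92403 9 (p6u36) p6r37

theorem p6r38 : allRange pointOk 22 92412 9 = true := by decide +kernel
theorem p6u38 : ∀ k, 92070 ≤ k → k < 92421 → pointOk (k * 22) = true := between_extend pointOk 22 92070 92412 9 (p6u37) p6r38

theorem p6r39 : allRange pointOk 22 92421 9 = true := by decide +kernel
theorem p6u39 : ∀ k, 92070 ≤ k → k < 92430 → pointOk (k * 22) = true := between_extend pointOk 22 92070 92421 9 (p6u38) p6r39

theorem p6r40 : allRange pointOk 22 92430 9 = true := by decide +kernel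
theorem p6u40 : ∀ k, 92070 ≤ k → k < 92439 → pointOk (k * 22) = true := between_extend pointOk 22 92070 92430 9 (p6u39) p6r40

theorem p6r41 : allRange pointOk 22 92439 9 = true := by decide +kernel
theorem p6u41 : ∀ k, 92070 ≤ k → k < 92448 → pointOk (k * 22) = true := between_extend pointOk 22 92070 92439 9 (p6u40) p6r41

theorem p6r42 : allRange pointOk 22 92448 9 = true := by decide +kernel
theorem p6u42 : ∀ k, 92070 ≤ k → k < 92457 → pointOk (k * 22) = true := between_extend pointOk 22 92070 92448 9 (p6u41) p6r42

theorem p6r43 : allRange pointOk 22 92457 9 = true := by decide +kernel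
theorem p6u43 : ∀ k, 92070 ≤ k → k < 92466 → pointOk (k * 22) = true := between_extend pointOk 22 92070 92457 9 (p6u42) p6r43

theorem p6r44 : allRange pointOk 22 92466 9 = true := by decide +kernel
theorem p6u44 : ∀ k, 92070 ≤ k → k < 92475 → pointOk (k * 22) = true := between_extend pointOk 22 92070 92466 9 (p6u43) p6r44

theorem p6r45 : allRange pointOk 22 92475 9 = true := by decide +kernel
theorem p6u45 : ∀ k, 92070 ≤ k → k < 92484 → pointOk (k * 22) = true := between_extend pointOk 22 92070 92475 9 (p6u44) p6r45

theorem p6r46 : allRange pointOk 22 92484 9 = true := by decide +kernel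
theorem p6u46 : ∀ k, 92070 ≤ k → k < 92493 → pointOk (k * 22) = true := between_extend pointOk 22 92070 92484 9 (p6u45) p6r46

theorem p6r47 : allRange pointOk 22 92493 9 = true := by decide +kernel
theorem p6u47 : ∀ k, 92070 ≤ k → k < 92502 → pointOk (k * 22) = true := between_extend pointOk 22 92070 92493 9 (p6u46) p6r47

theorem p6r48 : allRange pointOk 22 92502 9 = true := by decide +kernel
theorem p6u48 : ∀ k, 92070 ≤ k → k < 92511 → pointOk (k * 22) = true := between_extend pointOk 22 92070 92502 9 (p6u47) p6r48

theorem p6r49 : allRange pointOk 22 92511 9 = true := by decide +kernel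
theorem p6u49 : ∀ k, 92070 ≤ k → k < 92520 → pointOk (k * 22) = true := between_extend pointOk 22 92070 92511 9 (p6u48) p6r49

theorem p6r50 : allRange pointOk 22 92520 9 = true := by decide +kernel
theorem p6u50 : ∀ k, 92070 ≤ k → k < 92529 → pointOk (k * 22) = true := between_extend pointOk 22 92070 92520 9 (p6u49) p6r50

theorem p6r51 : allRange pointOk 22 92529 9 = true := by decide +kernel
theorem p6u51 : ∀ k, 92070 ≤ k → k < 92538 → pointOk (k * 22) = true := between_extend pointOk 22 92070 92529 9 (p6u50) p6r51

theorem p6r52 : allRange pointOk 22 92538 9 = true := by decide +kernel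
theorem p6u52 : ∀ k, 92070 ≤ k → k < 92547 → pointOk (k * 22) = true := between_extend pointOk 22 92070 92538 9 (p6u51) p6r52

theorem p6r53 : allRange pointOk 22 92547 9 = true := by decide +kernel
theorem p6u53 : ∀ k, 92070 ≤ k → k < 92556 → pointOk (k * 22) = true := between_extend pointOk 22 92070 92547 9 (p6u52) p6r53

theorem p6r54 : allRange pointOk 22 92556 9 = true := by decide +kernel
theorem p6u54 : ∀ k, 92070 ≤ k → k < 92565 → pointOk (k * 22) = true := between_extend pointOk 22 92070 92556 9 (p6u53) p6r54

theorem p6r55 : allRange pointOk 22 92565 9 = true := by decide +kernel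
theorem p6u55 : ∀ k, 92070 ≤ k → k < 92574 → pointOk (k * 22) = true := between_extend pointOk 22 92070 92565 9 (p6u54) p6r55

theorem p6r56 : allRange pointOk 22 92574 9 = true := by decide +kernel
theorem p6u56 : ∀ k, 92070 ≤ k → k < 92583 → pointOk (k * 22) = true := between_extend pointOk 22 92070 92574 9 (p6u55) p6r56

theorem p6r57 : allRange pointOk 22 92583 9 = true := by decide +kernel
theorem p6u57 : ∀ k, 92070 ≤ k → k < 92592 → pointOk (k * 22) = true := between_extend pointOk 22 92070 92583 9 (p6u56) p6r57

theorem p6r58 : allRange pointOk 22 92592 9 = true := by decide +kernel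
theorem p6u58 : ∀ k, 92070 ≤ k → k < 92601 → pointOk (k * 22) = true := between_extend pointOk 22 92070 92592 9 (p6u57) p6r58

theorem p6r59 : allRange pointOk 22 92601 9 = true := by decide +kernel
theorem p6u59 : ∀ k, 92070 ≤ k → k < 92610 → pointOk (k * 22) = true := between_extend pointOk 22 92070 92601 9 (p6u58) p6r59

theorem p6r60 : allRange pointOk 22 92610 9 = true := by decide +kernel
theorem p6u60 : ∀ k, 92070 ≤ k → k < 92619 → pointOk (k * 22) = true := between_extend pointOk 22 92070 92610 9 (p6u59) p6r60

theorem p6r61 : allRange pointOk 22 92619 9 = true := by decide +kernel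
theorem p6u61 : ∀ k, 92070 ≤ k → k < 92628 → pointOk (k * 22) = true := between_extend pointOk 22 92070 92619 9 (p6u60) p6r61

theorem p6r62 : allRange pointOk 22 92628 9 = true := by decide +kernel
theorem p6u62 : ∀ k, 92070 ≤ k → k < 92637 → pointOk (k * 22) = true := between_extend pointOk 22 92070 92628 9 (p6u61) p6r62

theorem p6r63 : allRange pointOk 22 92637 9 = true := by decide +kernel
theorem p6u63 : ∀ k, 92070 ≤ k → k < 92646 → pointOk (k * 22) = true := between_extend pointOk 22 92070 92637 9 (p6u62) p6r63

theorem p6r64 : allRange pointOk 22 92646 9 = true := by decide +kernel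
theorem p6u64 : ∀ k, 92070 ≤ k → k < 92655 → pointOk (k * 22) = true := between_extend pointOk 22 92070 92646 9 (p6u63) p6r64

theorem p6r65 : allRange pointOk 22 92655 9 = true := by decide +kernel
theorem p6u65 : ∀ k, 92070 ≤ k → k < 92664 → pointOk (k * 22) = true := between_extend pointOk 22 92070 92655 9 (p6u64) p6r65

theorem p6r66 : allRange pointOk 22 92664 9 = true := by decide +kernel
theorem p6u66 : ∀ k, 92070 ≤ k → k < 92673 → pointOk (k * 22) = true := between_extend pointOk 22 92070 92664 9 (p6u65) p6r66

theorem p6r67 : allRange pointOk 22 92673 9 = true := by decide +kernel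
theorem p6u67 : ∀ k, 92070 ≤ k → k < 92682 → pointOk (k * 22) = true := between_extend pointOk 22 92070 92673 9 (p6u66) p6r67

theorem p6r68 : allRange pointOk 22 92682 9 = true := by decide +kernel
theorem p6u68 : ∀ k, 92070 ≤ k → k < 92691 → pointOk (k * 22) = true := between_extend pointOk 22 92070 92682 9 (p6u67) p6r68

theorem p6r69 : allRange pointOk 22 92691 9 = true := by decide +kernel
theorem p6u69 : ∀ k, 92070 ≤ k → k < 92700 → pointOk (k * 22) = true := between_extend pointOk 22 92070 92691 9 (p6u68) p6r69

theorem p6r70 : allRange pointOk 22 92700 9 = true := by decide +kernel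
theorem p6u70 : ∀ k, 92070 ≤ k → k < 92709 → pointOk (k * 22) = true := between_extend pointOk 22 92070 92700 9 (p6u69) p6r70

theorem p6r71 : allRange pointOk 22 92709 9 = true := by decide +kernel
theorem p6u71 : ∀ k, 92070 ≤ k → k < 92718 → pointOk (k * 22) = true := between_extend pointOk 22 92070 92709 9 (p6u70) p6r71

theorem p6r72 : allRange pointOk 22 92718 9 = true := by decide +kernel
theorem p6u72 : ∀ k, 92070 ≤ k → k < 92727 → pointOk (k * 22) = true := between_extend pointOk 22 92070 92718 9 (p6u71) p6r72

theorem p6r73 : allRange pointOk 22 92727 9 = true := by decide +kernel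
theorem p6u73 : ∀ k, 92070 ≤ k → k < 92736 → pointOk (k * 22) = true := between_extend pointOk 22 92070 92727 9 (p6u72) p6r73

theorem p6r74 : allRange pointOk 22 92736 9 = true := by decide +kernel
theorem p6u74 : ∀ k, 92070 ≤ k → k < 92745 → pointOk (k * 22) = true := between_extend pointOk 22 92070 92736 9 (p6u73) p6r74

theorem p6r75 : allRange pointOk 22 92745 9 = true := by decide +kernel
theorem p6u75 : ∀ k, 92070 ≤ k → k < 92754 → pointOk (k * 22) = true := between_extend pointOk 22 92070 92745 9 (p6u74) p6r75

theorem p6r76 : allRange pointOk 22 92754 9 = true := by decide +kernel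
theorem p6u76 : ∀ k, 92070 ≤ k → k < 92763 → pointOk (k * 22) = true := between_extend pointOk 22 92070 92754 9 (p6u75) p6r76

theorem p6r77 : allRange pointOk 22 92763 9 = true := by decide +kernel
theorem p6u77 : ∀ k, 92070 ≤ k → k < 92772 → pointOk (k * 22) = true := between_extend pointOk 22 92070 92763 9 (p6u76) p6r77

theorem p6r78 : allRange pointOk 22 92772 9 = true := by decide +kernel
theorem p6u78 : ∀ k, 92070 ≤ k → k < 92781 → pointOk (k * 22) = true := between_extend pointOk 22 92070 92772 9 (p6u77) p6r78

theorem p6r79 : allRange pointOk 22 92781 9 = true := by decide +kernel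
theorem p6u79 : ∀ k, 92070 ≤ k → k < 92790 → pointOk (k * 22) = true := between_extend pointOk 22 92070 92781 9 (p6u78) p6r79

theorem p6r80 : allRange pointOk 22 92790 9 = true := by decide +kernel
theorem p6u80 : ∀ k, 92070 ≤ k → k < 92799 → pointOk (k * 22) = true := between_extend pointOk 22 92070 92790 9 (p6u79) p6r80

theorem p6r81 : allRange pointOk 22 92799 9 = true := by decide +kernel
theorem p6u81 : ∀ k, 92070 ≤ k → k < 92808 → pointOk (k * 22) = true := between_extend pointOk 22 92070 92799 9 (p6u80) p6r81

theorem p6r82 : allRange pointOk 22 92808 9 = true := by decide +kernel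
theorem p6u82 : ∀ k, 92070 ≤ k → k < 92817 → pointOk (k * 22) = true := between_extend pointOk 22 92070 92808 9 (p6u81) p6r82

theorem p6r83 : allRange pointOk 22 92817 9 = true := by decide +kernel
theorem p6u83 : ∀ k, 92070 ≤ k → k < 92826 → pointOk (k * 22) = true := between_extend pointOk 22 92070 92817 9 (p6u82) p6r83

theorem p6r84 : allRange pointOk 22 92826 9 = true := by decide +kernel
theorem p6u84 : ∀ k, 92070 ≤ k → k < 92835 → pointOk (k * 22) = true := between_extend pointOk 22 92070 92826 9 (p6u83) p6r84

theorem p6r85 : allRange pointOk 22 92835 9 = true := by decide +kernel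
theorem p6u85 : ∀ k, 92070 ≤ k → k < 92844 → pointOk (k * 22) = true := between_extend pointOk 22 92070 92835 9 (p6u84) p6r85

theorem p6r86 : allRange pointOk 22 92844 9 = true := by decide +kernel
theorem p6u86 : ∀ k, 92070 ≤ k → k < 92853 → pointOk (k * 22) = true := between_extend pointOk 22 92070 92844 9 (p6u85) p6r86

theorem p6r87 : allRange pointOk 22 92853 9 = true := by decide +kernel
theorem p6u87 : ∀ k, 92070 ≤ k → k < 92862 → pointOk (k * 22) = true := between_extend pointOk 22 92070 92853 9 (p6u86) p6r87

theorem p6r88 : allRange pointOk 22 92862 9 = true := by decide +kernel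
theorem p6u88 : ∀ k, 92070 ≤ k → k < 92871 → pointOk (k * 22) = true := between_extend pointOk 22 92070 92862 9 (p6u87) p6r88

theorem p6r89 : allRange pointOk 22 92871 9 = true := by decide +kernel
theorem p6u89 : ∀ k, 92070 ≤ k → k < 92880 → pointOk (k * 22) = true := between_extend pointOk 22 92070 92871 9 (p6u88) p6r89

theorem p6r90 : allRange pointOk 22 92880 9 = true := by decide +kernel
theorem p6u90 : ∀ k, 92070 ≤ k → k < 92889 → pointOk (k * 22) = true := between_extend pointOk 22 92070 92880 9 (p6u89) p6r90

theorem p6r91 : allRange pointOk 22 92889 9 = true := by decide +kernel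
theorem p6u91 : ∀ k, 92070 ≤ k → k < 92898 → pointOk (k * 22) = true := between_extend pointOk 22 92070 92889 9 (p6u90) p6r91

theorem p6r92 : allRange pointOk 22 92898 9 = true := by decide +kernel
theorem p6u92 : ∀ k, 92070 ≤ k → k < 92907 → pointOk (k * 22) = true := between_extend pointOk 22 92070 92898 9 (p6u91) p6r92

theorem p6r93 : allRange pointOk 22 92907 9 = true := by decide +kernel
theorem p6u93 : ∀ k, 92070 ≤ k → k < 92916 → pointOk (k * 22) = true := between_extend pointOk 22 92070 92907 9 (p6u92) p6r93

theorem p6r94 : allRange pointOk 22 92916 9 = true := by decide +kernel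
theorem p6u94 : ∀ k, 92070 ≤ k → k < 92925 → pointOk (k * 22) = true := between_extend pointOk 22 92070 92916 9 (p6u93) p6r94

theorem p6r95 : allRange pointOk 22 92925 9 = true := by decide +kernel
theorem p6u95 : ∀ k, 92070 ≤ k → k < 92934 → pointOk (k * 22) = true := between_extend pointOk 22 92070 92925 9 (p6u94) p6r95

theorem p6r96 : allRange pointOk 22 92934 9 = true := by decide +kernel
theorem p6u96 : ∀ k, 92070 ≤ k → k < 92943 → pointOk (k * 22) = true := between_extend pointOk 22 92070 92934 9 (p6u95) p6r96

theorem p6r97 : allRange pointOk 22 92943 9 = true := by decide +kernel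
theorem p6u97 : ∀ k, 92070 ≤ k → k < 92952 → pointOk (k * 22) = true := between_extend pointOk 22 92070 92943 9 (p6u96) p6r97

theorem p6r98 : allRange pointOk 22 92952 9 = true := by decide +kernel
theorem p6u98 : ∀ k, 92070 ≤ k → k < 92961 → pointOk (k * 22) = true := between_extend pointOk 22 92070 92952 9 (p6u97) p6r98

theorem p6r99 : allRange pointOk 22 92961 9 = true := by decide +kernel
theorem p6u99 : ∀ k, 92070 ≤ k → k < 92970 → pointOk (k * 22) = true := between_extend pointOk 22 92070 92961 9 (p6u98) p6r99

theorem p6r100 : allRange pointOk 22 92970 9 = true := by decide +kernel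
theorem p6u100 : ∀ k, 92070 ≤ k → k < 92979 → pointOk (k * 22) = true := between_extend pointOk 22 92070 92970 9 (p6u99) p6r100

theorem p6r101 : allRange pointOk 22 92979 9 = true := by decide +kernel
theorem p6u101 : ∀ k, 92070 ≤ k → k < 92988 → pointOk (k * 22) = true := between_extend pointOk 22 92070 92979 9 (p6u100) p6r101

theorem p6r102 : allRange pointOk 22 92988 9 = true := by decide +kernel
theorem p6u102 : ∀ k, 92070 ≤ k → k < 92997 → pointOk (k * 22) = true := between_extend pointOk 22 92070 92988 9 (p6u101) p6r102

theorem p6r103 : allRange pointOk 22 92997 9 = true := by decide +kernel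
theorem p6u103 : ∀ k, 92070 ≤ k → k < 93006 → pointOk (k * 22) = true := between_extend pointOk 22 92070 92997 9 (p6u102) p6r103

theorem p6r104 : allRange pointOk 22 93006 9 = true := by decide +kernel
theorem p6u104 : ∀ k, 92070 ≤ k → k < 93015 → pointOk (k * 22) = true := between_extend pointOk 22 92070 93006 9 (p6u103) p6r104

theorem p6r105 : allRange pointOk 22 93015 9 = true := by decide +kernel
theorem p6u105 : ∀ k, 92070 ≤ k → k < 93024 → pointOk (k * 22) = true := between_extend pointOk 22 92070 93015 9 (p6u104) p6r105

theorem p6r106 : allRange pointOk 22 93024 9 = true := by decide +kernel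
theorem p6u106 : ∀ k, 92070 ≤ k → k < 93033 → pointOk (k * 22) = true := between_extend pointOk 22 92070 93024 9 (p6u105) p6r106

theorem p6r107 : allRange pointOk 22 93033 9 = true := by decide +kernel
theorem p6u107 : ∀ k, 92070 ≤ k → k < 93042 → pointOk (k * 22) = true := between_extend pointOk 22 92070 93033 9 (p6u106) p6r107

theorem p6r108 : allRange pointOk 22 93042 9 = true := by decide +kernel
theorem p6u108 : ∀ k, 92070 ≤ k → k < 93051 → pointOk (k * 22) = true := between_extend pointOk 22 92070 93042 9 (p6u107) p6r108

theorem p6r109 : allRange pointOk 22 93051 9 = true := by decide +kernel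
theorem p6u109 : ∀ k, 92070 ≤ k → k < 93060 → pointOk (k * 22) = true := between_extend pointOk 22 92070 93051 9 (p6u108) p6r109

theorem p6r110 : allRange pointOk 22 93060 9 = true := by decide +kernel
theorem p6u110 : ∀ k, 92070 ≤ k → k < 93069 → pointOk (k * 22) = true := between_extend pointOk 22 92070 93060 9 (p6u109) p6r110

theorem p6r111 : allRange pointOk 22 93069 9 = true := by decide +kernel
theorem p6u111 : ∀ k, 92070 ≤ k → k < 93078 → pointOk (k * 22) = true := between_extend pointOk 22 92070 93069 9 (p6u110) p6r111

theorem p6r112 : allRange pointOk 22 93078 9 = true := by decide +kernel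
theorem p6u112 : ∀ k, 92070 ≤ k → k < 93087 → pointOk (k * 22) = true := between_extend pointOk 22 92070 93078 9 (p6u111) p6r112

theorem p6r113 : allRange pointOk 22 93087 9 = true := by decide +kernel
theorem p6u113 : ∀ k, 92070 ≤ k → k < 93096 → pointOk (k * 22) = true := between_extend pointOk 22 92070 93087 9 (p6u112) p6r113

theorem p6r114 : allRange pointOk 22 93096 9 = true := by decide +kernel
theorem p6u114 : ∀ k, 92070 ≤ k → k < 93105 → pointOk (k * 22) = true := between_extend pointOk 22 92070 93096 9 (p6u113) p6r114

theorem p6r115 : allRange pointOk 22 93105 9 = true := by decide +kernel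
theorem p6u115 : ∀ k, 92070 ≤ k → k < 93114 → pointOk (k * 22) = true := between_extend pointOk 22 92070 93105 9 (p6u114) p6r115

theorem p6r116 : allRange pointOk 22 93114 9 = true := by decide +kernel
theorem p6u116 : ∀ k, 92070 ≤ k → k < 93123 → pointOk (k * 22) = true := between_extend pointOk 22 92070 93114 9 (p6u115) p6r116

theorem p6r117 : allRange pointOk 22 93123 9 = true := by decide +kernel
theorem p6u117 : ∀ k, 92070 ≤ k → k < 93132 → pointOk (k * 22) = true := between_extend pointOk 22 92070 93123 9 (p6u116) p6r117

theorem p6r118 : allRange pointOk 22 93132 9 = true := by decide +kernel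
theorem p6u118 : ∀ k, 92070 ≤ k → k < 93141 → pointOk (k * 22) = true := between_extend pointOk 22 92070 93132 9 (p6u117) p6r118

theorem p6r119 : allRange pointOk 22 93141 9 = true := by decide +kernel
theorem p6u119 : ∀ k, 92070 ≤ k → k < 93150 → pointOk (k * 22) = true := between_extend pointOk 22 92070 93141 9 (p6u118) p6r119

theorem p6r120 : allRange pointOk 22 93150 9 = true := by decide +kernel
theorem p6u120 : ∀ k, 92070 ≤ k → k < 93159 → pointOk (k * 22) = true := between_extend pointOk 22 92070 93150 9 (p6u119) p6r120

theorem p6r121 : allRange pointOk 22 93159 9 = true := by decide +kernel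
theorem p6u121 : ∀ k, 92070 ≤ k → k < 93168 → pointOk (k * 22) = true := between_extend pointOk 22 92070 93159 9 (p6u120) p6r121

theorem p6r122 : allRange pointOk 22 93168 9 = true := by decide +kernel
theorem p6u122 : ∀ k, 92070 ≤ k → k < 93177 → pointOk (k * 22) = true := between_extend pointOk 22 92070 93168 9 (p6u121) p6r122

theorem p6r123 : allRange pointOk 22 93177 9 = true := by decide +kernel
theorem p6u123 : ∀ k, 92070 ≤ k → k < 93186 → pointOk (k * 22) = true := between_extend pointOk 22 92070 93177 9 (p6u122) p6r123

theorem p6r124 : allRange pointOk 22 93186 9 = true := by decide +kernel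
theorem p6u124 : ∀ k, 92070 ≤ k → k < 93195 → pointOk (k * 22) = true := between_extend pointOk 22 92070 93186 9 (p6u123) p6r124

theorem p6r125 : allRange pointOk 22 93195 9 = true := by decide +kernel
theorem p6u125 : ∀ k, 92070 ≤ k → k < 93204 → pointOk (k * 22) = true := between_extend pointOk 22 92070 93195 9 (p6u124) p6r125

theorem p6r126 : allRange pointOk 22 93204 9 = true := by decide +kernel
theorem p6u126 : ∀ k, 92070 ≤ k → k < 93213 → pointOk (k * 22) = true := between_extend pointOk 22 92070 93204 9 (p6u125) p6r126

theorem p6r127 : allRange pointOk 22 93213 9 = true := by decide +kernel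
theorem p6u127 : ∀ k, 92070 ≤ k → k < 93222 → pointOk (k * 22) = true := between_extend pointOk 22 92070 93213 9 (p6u126) p6r127

theorem p6r128 : allRange pointOk 22 93222 9 = true := by decide +kernel
theorem p6u128 : ∀ k, 92070 ≤ k → k < 93231 → pointOk (k * 22) = true := between_extend pointOk 22 92070 93222 9 (p6u127) p6r128

theorem p6r129 : allRange pointOk 22 93231 9 = true := by decide +kernel
theorem p6u129 : ∀ k, 92070 ≤ k → k < 93240 → pointOk (k * 22) = true := between_extend pointOk 22 92070 93231 9 (p6u128) p6r129

theorem p6r130 : allRange pointOk 22 93240 9 = true := by decide +kernel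
theorem p6u130 : ∀ k, 92070 ≤ k → k < 93249 → pointOk (k * 22) = true := between_extend pointOk 22 92070 93240 9 (p6u129) p6r130

theorem p6r131 : allRange pointOk 22 93249 9 = true := by decide +kernel
theorem p6u131 : ∀ k, 92070 ≤ k → k < 93258 → pointOk (k * 22) = true := between_extend pointOk 22 92070 93249 9 (p6u130) p6r131

theorem p6r132 : allRange pointOk 22 93258 9 = true := by decide +kernel
theorem p6u132 : ∀ k, 92070 ≤ k → k < 93267 → pointOk (k * 22) = true := between_extend pointOk 22 92070 93258 9 (p6u131) p6r132

theorem p6r133 : allRange pointOk 22 93267 9 = true := by decide +kernel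
theorem p6u133 : ∀ k, 92070 ≤ k → k < 93276 → pointOk (k * 22) = true := between_extend pointOk 22 92070 93267 9 (p6u132) p6r133

theorem p6r134 : allRange pointOk 22 93276 9 = true := by decide +kernel
theorem p6u134 : ∀ k, 92070 ≤ k → k < 93285 → pointOk (k * 22) = true := between_extend pointOk 22 92070 93276 9 (p6u133) p6r134

theorem p6r135 : allRange pointOk 22 93285 9 = true := by decide +kernel
theorem p6u135 : ∀ k, 92070 ≤ k → k < 93294 → pointOk (k * 22) = true := between_extend pointOk 22 92070 93285 9 (p6u134) p6r135

theorem p6r136 : allRange pointOk 22 93294 9 = true := by decide +kernel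
theorem p6u136 : ∀ k, 92070 ≤ k → k < 93303 → pointOk (k * 22) = true := between_extend pointOk 22 92070 93294 9 (p6u135) p6r136

theorem p6r137 : allRange pointOk 22 93303 9 = true := by decide +kernel
theorem p6u137 : ∀ k, 92070 ≤ k → k < 93312 → pointOk (k * 22) = true := between_extend pointOk 22 92070 93303 9 (p6u136) p6r137

theorem p6r138 : allRange pointOk 22 93312 9 = true := by decide +kernel
theorem p6u138 : ∀ k, 92070 ≤ k → k < 93321 → pointOk (k * 22) = true := between_extend pointOk 22 92070 93312 9 (p6u137) p6r138

theorem p6r139 : allRange pointOk 22 93321 9 = true := by decide +kernel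
theorem p6u139 : ∀ k, 92070 ≤ k → k < 93330 → pointOk (k * 22) = true := between_extend pointOk 22 92070 93321 9 (p6u138) p6r139

theorem p6r140 : allRange pointOk 22 93330 9 = true := by decide +kernel
theorem p6u140 : ∀ k, 92070 ≤ k → k < 93339 → pointOk (k * 22) = true := between_extend pointOk 22 92070 93330 9 (p6u139) p6r140

theorem p6r141 : allRange pointOk 22 93339 9 = true := by decide +kernel
theorem p6u141 : ∀ k, 92070 ≤ k → k < 93348 → pointOk (k * 22) = true := between_extend pointOk 22 92070 93339 9 (p6u140) p6r141

theorem p6r142 : allRange pointOk 22 93348 9 = true := by decide +kernel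
theorem p6u142 : ∀ k, 92070 ≤ k → k < 93357 → pointOk (k * 22) = true := between_extend pointOk 22 92070 93348 9 (p6u141) p6r142

theorem p6r143 : allRange pointOk 22 93357 9 = true := by decide +kernel
theorem p6u143 : ∀ k, 92070 ≤ k → k < 93366 → pointOk (k * 22) = true := between_extend pointOk 22 92070 93357 9 (p6u142) p6r143

theorem p6r144 : allRange pointOk 22 93366 9 = true := by decide +kernel
theorem p6u144 : ∀ k, 92070 ≤ k → k < 93375 → pointOk (k * 22) = true := between_extend pointOk 22 92070 93366 9 (p6u143) p6r144

theorem p6r145 : allRange pointOk 22 93375 9 = true := by decide +kernel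
theorem p6u145 : ∀ k, 92070 ≤ k → k < 93384 → pointOk (k * 22) = true := between_extend pointOk 22 92070 93375 9 (p6u144) p6r145

theorem p6r146 : allRange pointOk 22 93384 9 = true := by decide +kernel
theorem p6u146 : ∀ k, 92070 ≤ k → k < 93393 → pointOk (k * 22) = true := between_extend pointOk 22 92070 93384 9 (p6u145) p6r146

theorem p6r147 : allRange pointOk 22 93393 9 = true := by decide +kernel
theorem p6u147 : ∀ k, 92070 ≤ k → k < 93402 → pointOk (k * 22) = true := between_extend pointOk 22 92070 93393 9 (p6u146) p6r147

theorem p6r148 : allRange pointOk 22 93402 9 = true := by decide +kernel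
theorem p6u148 : ∀ k, 92070 ≤ k → k < 93411 → pointOk (k * 22) = true := between_extend pointOk 22 92070 93402 9 (p6u147) p6r148

theorem p6r149 : allRange pointOk 22 93411 9 = true := by decide +kernel
theorem p6u149 : ∀ k, 92070 ≤ k → k < 93420 → pointOk (k * 22) = true := between_extend pointOk 22 92070 93411 9 (p6u148) p6r149

theorem p6r150 : allRange pointOk 22 93420 9 = true := by decide +kernel
theorem p6u150 : ∀ k, 92070 ≤ k → k < 93429 → pointOk (k * 22) = true := between_extend pointOk 22 92070 93420 9 (p6u149) p6r150

theorem p6r151 : allRange pointOk 22 93429 9 = true := by decide +kernel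
theorem p6u151 : ∀ k, 92070 ≤ k → k < 93438 → pointOk (k * 22) = true := between_extend pointOk 22 92070 93429 9 (p6u150) p6r151

theorem p6r152 : allRange pointOk 22 93438 9 = true := by decide +kernel
theorem p6u152 : ∀ k, 92070 ≤ k → k < 93447 → pointOk (k * 22) = true := between_extend pointOk 22 92070 93438 9 (p6u151) p6r152

theorem p6r153 : allRange pointOk 22 93447 9 = true := by decide +kernel
theorem p6u153 : ∀ k, 92070 ≤ k → k < 93456 → pointOk (k * 22) = true := between_extend pointOk 22 92070 93447 9 (p6u152) p6r153

theorem p6r154 : allRange pointOk 22 93456 9 = true := by decide +kernel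
theorem p6u154 : ∀ k, 92070 ≤ k → k < 93465 → pointOk (k * 22) = true := between_extend pointOk 22 92070 93456 9 (p6u153) p6r154

theorem p6r155 : allRange pointOk 22 93465 9 = true := by decide +kernel
theorem p6u155 : ∀ k, 92070 ≤ k → k < 93474 → pointOk (k * 22) = true := between_extend pointOk 22 92070 93465 9 (p6u154) p6r155

theorem p6r156 : allRange pointOk 22 93474 9 = true := by decide +kernel
theorem p6u156 : ∀ k, 92070 ≤ k → k < 93483 → pointOk (k * 22) = true := between_extend pointOk 22 92070 93474 9 (p6u155) p6r156

theorem p6r157 : allRange pointOk 22 93483 9 = true := by decide +kernel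
theorem p6u157 : ∀ k, 92070 ≤ k → k < 93492 → pointOk (k * 22) = true := between_extend pointOk 22 92070 93483 9 (p6u156) p6r157

theorem p6r158 : allRange pointOk 22 93492 9 = true := by decide +kernel
theorem p6u158 : ∀ k, 92070 ≤ k → k < 93501 → pointOk (k * 22) = true := between_extend pointOk 22 92070 93492 9 (p6u157) p6r158

theorem p6r159 : allRange pointOk 22 93501 9 = true := by decide +kernel
theorem p6u159 : ∀ k, 92070 ≤ k → k < 93510 → pointOk (k * 22) = true := between_extend pointOk 22 92070 93501 9 (p6u158) p6r159

theorem p6r160 : allRange pointOk 22 93510 9 = true := by decide +kernel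
theorem p6u160 : ∀ k, 92070 ≤ k → k < 93519 → pointOk (k * 22) = true := between_extend pointOk 22 92070 93510 9 (p6u159) p6r160

theorem p6r161 : allRange pointOk 22 93519 9 = true := by decide +kernel
theorem p6u161 : ∀ k, 92070 ≤ k → k < 93528 → pointOk (k * 22) = true := between_extend pointOk 22 92070 93519 9 (p6u160) p6r161

theorem p6r162 : allRange pointOk 22 93528 9 = true := by decide +kernel
theorem p6u162 : ∀ k, 92070 ≤ k → k < 93537 → pointOk (k * 22) = true := between_extend pointOk 22 92070 93528 9 (p6u161) p6r162

theorem p6r163 : allRange pointOk 22 93537 9 = true := by decide +kernel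
theorem p6u163 : ∀ k, 92070 ≤ k → k < 93546 → pointOk (k * 22) = true := between_extend pointOk 22 92070 93537 9 (p6u162) p6r163

theorem p6r164 : allRange pointOk 22 93546 9 = true := by decide +kernel
theorem p6u164 : ∀ k, 92070 ≤ k → k < 93555 → pointOk (k * 22) = true := between_extend pointOk 22 92070 93546 9 (p6u163) p6r164

theorem p6r165 : allRange pointOk 22 93555 9 = true := by decide +kernel
theorem p6u165 : ∀ k, 92070 ≤ k → k < 93564 → pointOk (k * 22) = true := between_extend pointOk 22 92070 93555 9 (p6u164) p6r165

theorem p6r166 : allRange pointOk 22 93564 9 = true := by decide +kernel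
theorem p6u166 : ∀ k, 92070 ≤ k → k < 93573 → pointOk (k * 22) = true := between_extend pointOk 22 92070 93564 9 (p6u165) p6r166

theorem p6r167 : allRange pointOk 22 93573 9 = true := by decide +kernel
theorem p6u167 : ∀ k, 92070 ≤ k → k < 93582 → pointOk (k * 22) = true := between_extend pointOk 22 92070 93573 9 (p6u166) p6r167

theorem p6r168 : allRange pointOk 22 93582 9 = true := by decide +kernel
theorem p6u168 : ∀ k, 92070 ≤ k → k < 93591 → pointOk (k * 22) = true := between_extend pointOk 22 92070 93582 9 (p6u167) p6r168

theorem p6r169 : allRange pointOk 22 93591 9 = true := by decide +kernel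
theorem p6u169 : ∀ k, 92070 ≤ k → k < 93600 → pointOk (k * 22) = true := between_extend pointOk 22 92070 93591 9 (p6u168) p6r169

theorem p6r170 : allRange pointOk 22 93600 9 = true := by decide +kernel
theorem p6u170 : ∀ k, 92070 ≤ k → k < 93609 → pointOk (k * 22) = true := between_extend pointOk 22 92070 93600 9 (p6u169) p6r170

theorem p6r171 : allRange pointOk 22 93609 9 = true := by decide +kernel
theorem p6u171 : ∀ k, 92070 ≤ k → k < 93618 → pointOk (k * 22) = true := between_extend pointOk 22 92070 93609 9 (p6u170) p6r171

theorem p6r172 : allRange pointOk 22 93618 9 = true := by decide +kernel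
theorem p6u172 : ∀ k, 92070 ≤ k → k < 93627 → pointOk (k * 22) = true := between_extend pointOk 22 92070 93618 9 (p6u171) p6r172

theorem p6r173 : allRange pointOk 22 93627 9 = true := by decide +kernel
theorem p6u173 : ∀ k, 92070 ≤ k → k < 93636 → pointOk (k * 22) = true := between_extend pointOk 22 92070 93627 9 (p6u172) p6r173

theorem p6r174 : allRange pointOk 22 93636 9 = true := by decide +kernel
theorem p6u174 : ∀ k, 92070 ≤ k → k < 93645 → pointOk (k * 22) = true := between_extend pointOk 22 92070 93636 9 (p6u173) p6r174

theorem p6r175 : allRange pointOk 22 93645 9 = true := by decide +kernel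
theorem p6u175 : ∀ k, 92070 ≤ k → k < 93654 → pointOk (k * 22) = true := between_extend pointOk 22 92070 93645 9 (p6u174) p6r175

theorem p6r176 : allRange pointOk 22 93654 9 = true := by decide +kernel
theorem p6u176 : ∀ k, 92070 ≤ k → k < 93663 → pointOk (k * 22) = true := between_extend pointOk 22 92070 93654 9 (p6u175) p6r176

theorem p6r177 : allRange pointOk 22 93663 9 = true := by decide +kernel
theorem p6u177 : ∀ k, 92070 ≤ k → k < 93672 → pointOk (k * 22) = true := between_extend pointOk 22 92070 93663 9 (p6u176) p6r177

theorem p6r178 : allRange pointOk 22 93672 9 = true := by decide +kernel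
theorem p6u178 : ∀ k, 92070 ≤ k → k < 93681 → pointOk (k * 22) = true := between_extend pointOk 22 92070 93672 9 (p6u177) p6r178

theorem p6r179 : allRange pointOk 22 93681 9 = true := by decide +kernel
theorem p6u179 : ∀ k, 92070 ≤ k → k < 93690 → pointOk (k * 22) = true := between_extend pointOk 22 92070 93681 9 (p6u178) p6r179

theorem p6r180 : allRange pointOk 22 93690 9 = true := by decide +kernel
theorem p6u180 : ∀ k, 92070 ≤ k → k < 93699 → pointOk (k * 22) = true := between_extend pointOk 22 92070 93690 9 (p6u179) p6r180

theorem p6r181 : allRange pointOk 22 93699 9 = true := by decide +kernel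
theorem p6u181 : ∀ k, 92070 ≤ k → k < 93708 → pointOk (k * 22) = true := between_extend pointOk 22 92070 93699 9 (p6u180) p6r181

theorem p6r182 : allRange pointOk 22 93708 9 = true := by decide +kernel
theorem p6u182 : ∀ k, 92070 ≤ k → k < 93717 → pointOk (k * 22) = true := between_extend pointOk 22 92070 93708 9 (p6u181) p6r182

theorem p6r183 : allRange pointOk 22 93717 9 = true := by decide +kernel
theorem p6u183 : ∀ k, 92070 ≤ k → k < 93726 → pointOk (k * 22) = true := between_extend pointOk 22 92070 93717 9 (p6u182) p6r183

theorem p6r184 : allRange pointOk 22 93726 9 = true := by decide +kernel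
theorem p6u184 : ∀ k, 92070 ≤ k → k < 93735 → pointOk (k * 22) = true := between_extend pointOk 22 92070 93726 9 (p6u183) p6r184

theorem p6r185 : allRange pointOk 22 93735 9 = true := by decide +kernel
theorem p6u185 : ∀ k, 92070 ≤ k → k < 93744 → pointOk (k * 22) = true := between_extend pointOk 22 92070 93735 9 (p6u184) p6r185

theorem p6r186 : allRange pointOk 22 93744 9 = true := by decide +kernel
theorem p6u186 : ∀ k, 92070 ≤ k → k < 93753 → pointOk (k * 22) = true := between_extend pointOk 22 92070 93744 9 (p6u185) p6r186

theorem p6r187 : allRange pointOk 22 93753 9 = true := by decide +kernel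
theorem p6u187 : ∀ k, 92070 ≤ k → k < 93762 → pointOk (k * 22) = true := between_extend pointOk 22 92070 93753 9 (p6u186) p6r187

theorem p6r188 : allRange pointOk 22 93762 9 = true := by decide +kernel
theorem p6u188 : ∀ k, 92070 ≤ k → k < 93771 → pointOk (k * 22) = true := between_extend pointOk 22 92070 93762 9 (p6u187) p6r188

theorem p6r189 : allRange pointOk 22 93771 9 = true := by decide +kernel
theorem p6u189 : ∀ k, 92070 ≤ k → k < 93780 → pointOk (k * 22) = true := between_extend pointOk 22 92070 93771 9 (p6u188) p6r189

theorem p6r190 : allRange pointOk 22 93780 9 = true := by decide +kernel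
theorem p6u190 : ∀ k, 92070 ≤ k → k < 93789 → pointOk (k * 22) = true := between_extend pointOk 22 92070 93780 9 (p6u189) p6r190

theorem p6r191 : allRange pointOk 22 93789 9 = true := by decide +kernel
theorem p6u191 : ∀ k, 92070 ≤ k → k < 93798 → pointOk (k * 22) = true := between_extend pointOk 22 92070 93789 9 (p6u190) p6r191

theorem p6r192 : allRange pointOk 22 93798 9 = true := by decide +kernel
theorem p6u192 : ∀ k, 92070 ≤ k → k < 93807 → pointOk (k * 22) = true := between_extend pointOk 22 92070 93798 9 (p6u191) p6r192

theorem p6r193 : allRange pointOk 22 93807 9 = true := by decide +kernel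
theorem p6u193 : ∀ k, 92070 ≤ k → k < 93816 → pointOk (k * 22) = true := between_extend pointOk 22 92070 93807 9 (p6u192) p6r193

theorem p6r194 : allRange pointOk 22 93816 9 = true := by decide +kernel
theorem p6u194 : ∀ k, 92070 ≤ k → k < 93825 → pointOk (k * 22) = true := between_extend pointOk 22 92070 93816 9 (p6u193) p6r194

theorem p6r195 : allRange pointOk 22 93825 9 = true := by decide +kernel
theorem p6u195 : ∀ k, 92070 ≤ k → k < 93834 → pointOk (k * 22) = true := between_extend pointOk 22 92070 93825 9 (p6u194) p6r195

theorem p6r196 : allRange pointOk 22 93834 9 = true := by decide +kernel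
theorem p6u196 : ∀ k, 92070 ≤ k → k < 93843 → pointOk (k * 22) = true := between_extend pointOk 22 92070 93834 9 (p6u195) p6r196

theorem p6r197 : allRange pointOk 22 93843 9 = true := by decide +kernel
theorem p6u197 : ∀ k, 92070 ≤ k → k < 93852 → pointOk (k * 22) = true := between_extend pointOk 22 92070 93843 9 (p6u196) p6r197

theorem p6r198 : allRange pointOk 22 93852 9 = true := by decide +kernel
theorem p6u198 : ∀ k, 92070 ≤ k → k < 93861 → pointOk (k * 22) = true := between_extend pointOk 22 92070 93852 9 (p6u197) p6r198

theorem p6r199 : allRange pointOk 22 93861 9 = true := by decide +kernel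
theorem p6u199 : ∀ k, 92070 ≤ k → k < 93870 → pointOk (k * 22) = true := between_extend pointOk 22 92070 93861 9 (p6u198) p6r199

theorem p6r200 : allRange pointOk 22 93870 9 = true := by decide +kernel
theorem p6u200 : ∀ k, 92070 ≤ k → k < 93879 → pointOk (k * 22) = true := between_extend pointOk 22 92070 93870 9 (p6u199) p6r200

theorem p6r201 : allRange pointOk 22 93879 9 = true := by decide +kernel
theorem p6u201 : ∀ k, 92070 ≤ k → k < 93888 → pointOk (k * 22) = true := between_extend pointOk 22 92070 93879 9 (p6u200) p6r201

theorem p6r202 : allRange pointOk 22 93888 9 = true := by decide +kernel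
theorem p6u202 : ∀ k, 92070 ≤ k → k < 93897 → pointOk (k * 22) = true := between_extend pointOk 22 92070 93888 9 (p6u201) p6r202

theorem p6r203 : allRange pointOk 22 93897 9 = true := by decide +kernel
theorem p6u203 : ∀ k, 92070 ≤ k → k < 93906 → pointOk (k * 22) = true := between_extend pointOk 22 92070 93897 9 (p6u202) p6r203

theorem p6r204 : allRange pointOk 22 93906 9 = true := by decide +kernel
theorem p6u204 : ∀ k, 92070 ≤ k → k < 93915 → pointOk (k * 22) = true := between_extend pointOk 22 92070 93906 9 (p6u203) p6r204

theorem p6r205 : allRange pointOk 22 93915 9 = true := by decide +kernel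
theorem p6u205 : ∀ k, 92070 ≤ k → k < 93924 → pointOk (k * 22) = true := between_extend pointOk 22 92070 93915 9 (p6u204) p6r205

theorem p6r206 : allRange pointOk 22 93924 9 = true := by decide +kernel
theorem p6u206 : ∀ k, 92070 ≤ k → k < 93933 → pointOk (k * 22) = true := between_extend pointOk 22 92070 93924 9 (p6u205) p6r206

theorem p6r207 : allRange pointOk 22 93933 9 = true := by decide +kernel
theorem p6u207 : ∀ k, 92070 ≤ k → k < 93942 → pointOk (k * 22) = true := between_extend pointOk 22 92070 93933 9 (p6u206) p6r207

theorem p6r208 : allRange pointOk 22 93942 9 = true := by decide +kernel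
theorem p6u208 : ∀ k, 92070 ≤ k → k < 93951 → pointOk (k * 22) = true := between_extend pointOk 22 92070 93942 9 (p6u207) p6r208

theorem p6r209 : allRange pointOk 22 93951 9 = true := by decide +kernel
theorem p6u209 : ∀ k, 92070 ≤ k → k < 93960 → pointOk (k * 22) = true := between_extend pointOk 22 92070 93951 9 (p6u208) p6r209

theorem p6r210 : allRange pointOk 22 93960 9 = true := by decide +kernel
theorem p6u210 : ∀ k, 92070 ≤ k → k < 93969 → pointOk (k * 22) = true := between_extend pointOk 22 92070 93960 9 (p6u209) p6r210

theorem p6r211 : allRange pointOk 22 93969 9 = true := by decide +kernel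
theorem p6u211 : ∀ k, 92070 ≤ k → k < 93978 → pointOk (k * 22) = true := between_extend pointOk 22 92070 93969 9 (p6u210) p6r211

theorem p6r212 : allRange pointOk 22 93978 9 = true := by decide +kernel
theorem p6u212 : ∀ k, 92070 ≤ k → k < 93987 → pointOk (k * 22) = true := between_extend pointOk 22 92070 93978 9 (p6u211) p6r212

theorem p6r213 : allRange pointOk 22 93987 9 = true := by decide +kernel
theorem p6u213 : ∀ k, 92070 ≤ k → k < 93996 → pointOk (k * 22) = true := between_extend pointOk 22 92070 93987 9 (p6u212) p6r213

theorem p6r214 : allRange pointOk 22 93996 9 = true := by decide +kernel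
theorem p6u214 : ∀ k, 92070 ≤ k → k < 94005 → pointOk (k * 22) = true := between_extend pointOk 22 92070 93996 9 (p6u213) p6r214

theorem p6r215 : allRange pointOk 22 94005 9 = true := by decide +kernel
theorem p6u215 : ∀ k, 92070 ≤ k → k < 94014 → pointOk (k * 22) = true := between_extend pointOk 22 92070 94005 9 (p6u214) p6r215

theorem p6r216 : allRange pointOk 22 94014 9 = true := by decide +kernel
theorem p6u216 : ∀ k, 92070 ≤ k → k < 94023 → pointOk (k * 22) = true := between_extend pointOk 22 92070 94014 9 (p6u215) p6r216

theorem p6r217 : allRange pointOk 22 94023 9 = true := by decide +kernel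
theorem p6u217 : ∀ k, 92070 ≤ k → k < 94032 → pointOk (k * 22) = true := between_extend pointOk 22 92070 94023 9 (p6u216) p6r217

theorem p6r218 : allRange pointOk 22 94032 9 = true := by decide +kernel
theorem p6u218 : ∀ k, 92070 ≤ k → k < 94041 → pointOk (k * 22) = true := between_extend pointOk 22 92070 94032 9 (p6u217) p6r218

theorem p6r219 : allRange pointOk 22 94041 9 = true := by decide +kernel
theorem p6u219 : ∀ k, 92070 ≤ k → k < 94050 → pointOk (k * 22) = true := between_extend pointOk 22 92070 94041 9 (p6u218) p6r219

theorem p6r220 : allRange pointOk 22 94050 9 = true := by decide +kernel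
theorem p6u220 : ∀ k, 92070 ≤ k → k < 94059 → pointOk (k * 22) = true := between_extend pointOk 22 92070 94050 9 (p6u219) p6r220

theorem p6r221 : allRange pointOk 22 94059 9 = true := by decide +kernel
theorem p6u221 : ∀ k, 92070 ≤ k → k < 94068 → pointOk (k * 22) = true := between_extend pointOk 22 92070 94059 9 (p6u220) p6r221

theorem p6r222 : allRange pointOk 22 94068 9 = true := by decide +kernel
theorem p6u222 : ∀ k, 92070 ≤ k → k < 94077 → pointOk (k * 22) = true := between_extend pointOk 22 92070 94068 9 (p6u221) p6r222

theorem p6r223 : allRange pointOk 22 94077 9 = true := by decide +kernel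
theorem p6u223 : ∀ k, 92070 ≤ k → k < 94086 → pointOk (k * 22) = true := between_extend pointOk 22 92070 94077 9 (p6u222) p6r223

theorem p6r224 : allRange pointOk 22 94086 9 = true := by decide +kernel
theorem p6u224 : ∀ k, 92070 ≤ k → k < 94095 → pointOk (k * 22) = true := between_extend pointOk 22 92070 94086 9 (p6u223) p6r224

theorem p6r225 : allRange pointOk 22 94095 9 = true := by decide +kernel
theorem p6u225 : ∀ k, 92070 ≤ k → k < 94104 → pointOk (k * 22) = true := between_extend pointOk 22 92070 94095 9 (p6u224) p6r225

theorem p6r226 : allRange pointOk 22 94104 9 = true := by decide +kernel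
theorem p6u226 : ∀ k, 92070 ≤ k → k < 94113 → pointOk (k * 22) = true := between_extend pointOk 22 92070 94104 9 (p6u225) p6r226

theorem p6r227 : allRange pointOk 22 94113 9 = true := by decide +kernel
theorem p6u227 : ∀ k, 92070 ≤ k → k < 94122 → pointOk (k * 22) = true := between_extend pointOk 22 92070 94113 9 (p6u226) p6r227

theorem p6r228 : allRange pointOk 22 94122 9 = true := by decide +kernel
theorem p6u228 : ∀ k, 92070 ≤ k → k < 94131 → pointOk (k * 22) = true := between_extend pointOk 22 92070 94122 9 (p6u227) p6r228

theorem p6r229 : allRange pointOk 22 94131 9 = true := by decide +kernel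
theorem p6u229 : ∀ k, 92070 ≤ k → k < 94140 → pointOk (k * 22) = true := between_extend pointOk 22 92070 94131 9 (p6u228) p6r229

theorem p6r230 : allRange pointOk 22 94140 9 = true := by decide +kernel
theorem p6u230 : ∀ k, 92070 ≤ k → k < 94149 → pointOk (k * 22) = true := between_extend pointOk 22 92070 94140 9 (p6u229) p6r230

theorem p6r231 : allRange pointOk 22 94149 9 = true := by decide +kernel
theorem p6u231 : ∀ k, 92070 ≤ k → k < 94158 → pointOk (k * 22) = true := between_extend pointOk 22 92070 94149 9 (p6u230) p6r231

theorem p6r232 : allRange pointOk 22 94158 9 = true := by decide +kernel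
theorem p6u232 : ∀ k, 92070 ≤ k → k < 94167 → pointOk (k * 22) = true := between_extend pointOk 22 92070 94158 9 (p6u231) p6r232

theorem p6r233 : allRange pointOk 22 94167 9 = true := by decide +kernel
theorem p6u233 : ∀ k, 92070 ≤ k → k < 94176 → pointOk (k * 22) = true := between_extend pointOk 22 92070 94167 9 (p6u232) p6r233

theorem p6r234 : allRange pointOk 22 94176 9 = true := by decide +kernel
theorem p6u234 : ∀ k, 92070 ≤ k → k < 94185 → pointOk (k * 22) = true := between_extend pointOk 22 92070 94176 9 (p6u233) p6r234

theorem p6r235 : allRange pointOk 22 94185 9 = true := by decide +kernel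
theorem p6u235 : ∀ k, 92070 ≤ k → k < 94194 → pointOk (k * 22) = true := between_extend pointOk 22 92070 94185 9 (p6u234) p6r235

theorem p6r236 : allRange pointOk 22 94194 9 = true := by decide +kernel
theorem p6u236 : ∀ k, 92070 ≤ k → k < 94203 → pointOk (k * 22) = true := between_extend pointOk 22 92070 94194 9 (p6u235) p6r236

theorem p6r237 : allRange pointOk 22 94203 9 = true := by decide +kernel
theorem p6u237 : ∀ k, 92070 ≤ k → k < 94212 → pointOk (k * 22) = true := between_extend pointOk 22 92070 94203 9 (p6u236) p6r237

theorem p6r238 : allRange pointOk 22 94212 9 = true := by decide +kernel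
theorem p6u238 : ∀ k, 92070 ≤ k → k < 94221 → pointOk (k * 22) = true := between_extend pointOk 22 92070 94212 9 (p6u237) p6r238

theorem p6r239 : allRange pointOk 22 94221 9 = true := by decide +kernel
theorem p6u239 : ∀ k, 92070 ≤ k → k < 94230 → pointOk (k * 22) = true := between_extend pointOk 22 92070 94221 9 (p6u238) p6r239

theorem p6r240 : allRange pointOk 22 94230 9 = true := by decide +kernel
theorem p6u240 : ∀ k, 92070 ≤ k → k < 94239 → pointOk (k * 22) = true := between_extend pointOk 22 92070 94230 9 (p6u239) p6r240

theorem p6r241 : allRange pointOk 22 94239 9 = true := by decide +kernel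
theorem p6u241 : ∀ k, 92070 ≤ k → k < 94248 → pointOk (k * 22) = true := between_extend pointOk 22 92070 94239 9 (p6u240) p6r241

theorem p6r242 : allRange pointOk 22 94248 9 = true := by decide +kernel
theorem p6u242 : ∀ k, 92070 ≤ k → k < 94257 → pointOk (k * 22) = true := between_extend pointOk 22 92070 94248 9 (p6u241) p6r242

theorem p6r243 : allRange pointOk 22 94257 9 = true := by decide +kernel
theorem p6u243 : ∀ k, 92070 ≤ k → k < 94266 → pointOk (k * 22) = true := between_extend pointOk 22 92070 94257 9 (p6u242) p6r243

theorem p6r244 : allRange pointOk 22 94266 9 = true := by decide +kernel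
theorem p6u244 : ∀ k, 92070 ≤ k → k < 94275 → pointOk (k * 22) = true := between_extend pointOk 22 92070 94266 9 (p6u243) p6r244

theorem p6r245 : allRange pointOk 22 94275 9 = true := by decide +kernel
theorem p6u245 : ∀ k, 92070 ≤ k → k < 94284 → pointOk (k * 22) = true := between_extend pointOk 22 92070 94275 9 (p6u244) p6r245

theorem p6r246 : allRange pointOk 22 94284 9 = true := by decide +kernel
theorem p6u246 : ∀ k, 92070 ≤ k → k < 94293 → pointOk (k * 22) = true := between_extend pointOk 22 92070 94284 9 (p6u245) p6r246

theorem p6r247 : allRange pointOk 22 94293 9 = true := by decide +kernel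
theorem p6u247 : ∀ k, 92070 ≤ k → k < 94302 → pointOk (k * 22) = true := between_extend pointOk 22 92070 94293 9 (p6u246) p6r247

theorem p6r248 : allRange pointOk 22 94302 9 = true := by decide +kernel
theorem p6u248 : ∀ k, 92070 ≤ k → k < 94311 → pointOk (k * 22) = true := between_extend pointOk 22 92070 94302 9 (p6u247) p6r248

theorem p6r249 : allRange pointOk 22 94311 9 = true := by decide +kernel
theorem p6u249 : ∀ k, 92070 ≤ k → k < 94320 → pointOk (k * 22) = true := between_extend pointOk 22 92070 94311 9 (p6u248) p6r249

theorem p6r250 : allRange pointOk 22 94320 9 = true := by decide +kernel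
theorem p6u250 : ∀ k, 92070 ≤ k → k < 94329 → pointOk (k * 22) = true := between_extend pointOk 22 92070 94320 9 (p6u249) p6r250

theorem p6r251 : allRange pointOk 22 94329 9 = true := by decide +kernel
theorem p6u251 : ∀ k, 92070 ≤ k → k < 94338 → pointOk (k * 22) = true := between_extend pointOk 22 92070 94329 9 (p6u250) p6r251

theorem p6r252 : allRange pointOk 22 94338 9 = true := by decide +kernel
theorem p6u252 : ∀ k, 92070 ≤ k → k < 94347 → pointOk (k * 22) = true := between_extend pointOk 22 92070 94338 9 (p6u251) p6r252

theorem p6r253 : allRange pointOk 22 94347 9 = true := by decide +kernel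
theorem p6u253 : ∀ k, 92070 ≤ k → k < 94356 → pointOk (k * 22) = true := between_extend pointOk 22 92070 94347 9 (p6u252) p6r253

theorem p6r254 : allRange pointOk 22 94356 9 = true := by decide +kernel
theorem p6u254 : ∀ k, 92070 ≤ k → k < 94365 → pointOk (k * 22) = true := between_extend pointOk 22 92070 94356 9 (p6u253) p6r254

theorem p6r255 : allRange pointOk 22 94365 9 = true := by decide +kernel
theorem p6u255 : ∀ k, 92070 ≤ k → k < 94374 → pointOk (k * 22) = true := between_extend pointOk 22 92070 94365 9 (p6u254) p6r255

theorem p6r256 : allRange pointOk 22 94374 9 = true := by decide +kernel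
theorem p6u256 : ∀ k, 92070 ≤ k → k < 94383 → pointOk (k * 22) = true := between_extend pointOk 22 92070 94374 9 (p6u255) p6r256

theorem p6r257 : allRange pointOk 22 94383 9 = true := by decide +kernel
theorem p6u257 : ∀ k, 92070 ≤ k → k < 94392 → pointOk (k * 22) = true := between_extend pointOk 22 92070 94383 9 (p6u256) p6r257

theorem p6r258 : allRange pointOk 22 94392 9 = true := by decide +kernel
theorem p6u258 : ∀ k, 92070 ≤ k → k < 94401 → pointOk (k * 22) = true := between_extend pointOk 22 92070 94392 9 (p6u257) p6r258

theorem p6r259 : allRange pointOk 22 94401 9 = true := by decide +kernel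
theorem p6u259 : ∀ k, 92070 ≤ k → k < 94410 → pointOk (k * 22) = true := between_extend pointOk 22 92070 94401 9 (p6u258) p6r259

theorem p6r260 : allRange pointOk 22 94410 9 = true := by decide +kernel
theorem p6u260 : ∀ k, 92070 ≤ k → k < 94419 → pointOk (k * 22) = true := between_extend pointOk 22 92070 94410 9 (p6u259) p6r260

theorem p6r261 : allRange pointOk 22 94419 9 = true := by decide +kernel
theorem p6u261 : ∀ k, 92070 ≤ k → k < 94428 → pointOk (k * 22) = true := between_extend pointOk 22 92070 94419 9 (p6u260) p6r261

theorem p6r262 : allRange pointOk 22 94428 9 = true := by decide +kernel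
theorem p6u262 : ∀ k, 92070 ≤ k → k < 94437 → pointOk (k * 22) = true := between_extend pointOk 22 92070 94428 9 (p6u261) p6r262

theorem p6r263 : allRange pointOk 22 94437 9 = true := by decide +kernel
theorem p6u263 : ∀ k, 92070 ≤ k → k < 94446 → pointOk (k * 22) = true := between_extend pointOk 22 92070 94437 9 (p6u262) p6r263

theorem p6r264 : allRange pointOk 22 94446 9 = true := by decide +kernel
theorem p6u264 : ∀ k, 92070 ≤ k → k < 94455 → pointOk (k * 22) = true := between_extend pointOk 22 92070 94446 9 (p6u263) p6r264

theorem p6r265 : allRange pointOk 22 94455 9 = true := by decide +kernel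
theorem p6u265 : ∀ k, 92070 ≤ k → k < 94464 → pointOk (k * 22) = true := between_extend pointOk 22 92070 94455 9 (p6u264) p6r265

theorem p6r266 : allRange pointOk 22 94464 9 = true := by decide +kernel
theorem p6u266 : ∀ k, 92070 ≤ k → k < 94473 → pointOk (k * 22) = true := between_extend pointOk 22 92070 94464 9 (p6u265) p6r266

theorem p6r267 : allRange pointOk 22 94473 9 = true := by decide +kernel
theorem p6u267 : ∀ k, 92070 ≤ k → k < 94482 → pointOk (k * 22) = true := between_extend pointOk 22 92070 94473 9 (p6u266) p6r267

theorem p6r268 : allRange pointOk 22 94482 9 = true := by decide +kernel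
theorem p6u268 : ∀ k, 92070 ≤ k → k < 94491 → pointOk (k * 22) = true := between_extend pointOk 22 92070 94482 9 (p6u267) p6r268

theorem p6r269 : allRange pointOk 22 94491 9 = true := by decide +kernel
theorem p6u269 : ∀ k, 92070 ≤ k → k < 94500 → pointOk (k * 22) = true := between_extend pointOk 22 92070 94491 9 (p6u268) p6r269

theorem p6r270 : allRange pointOk 22 94500 9 = true := by decide +kernel
theorem p6u270 : ∀ k, 92070 ≤ k → k < 94509 → pointOk (k * 22) = true := between_extend pointOk 22 92070 94500 9 (p6u269) p6r270

theorem p6r271 : allRange pointOk 22 94509 9 = true := by decide +kernel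
theorem p6u271 : ∀ k, 92070 ≤ k → k < 94518 → pointOk (k * 22) = true := between_extend pointOk 22 92070 94509 9 (p6u270) p6r271

theorem p6r272 : allRange pointOk 22 94518 9 = true := by decide +kernel
theorem p6u272 : ∀ k, 92070 ≤ k → k < 94527 → pointOk (k * 22) = true := between_extend pointOk 22 92070 94518 9 (p6u271) p6r272

theorem p6r273 : allRange pointOk 22 94527 9 = true := by decide +kernel
theorem p6u273 : ∀ k, 92070 ≤ k → k < 94536 → pointOk (k * 22) = true := between_extend pointOk 22 92070 94527 9 (p6u272) p6r273

theorem p6r274 : allRange pointOk 22 94536 9 = true := by decide +kernel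
theorem p6u274 : ∀ k, 92070 ≤ k → k < 94545 → pointOk (k * 22) = true := between_extend pointOk 22 92070 94536 9 (p6u273) p6r274

theorem p6r275 : allRange pointOk 22 94545 9 = true := by decide +kernel
theorem p6u275 : ∀ k, 92070 ≤ k → k < 94554 → pointOk (k * 22) = true := between_extend pointOk 22 92070 94545 9 (p6u274) p6r275

theorem p6r276 : allRange pointOk 22 94554 9 = true := by decide +kernel
theorem p6u276 : ∀ k, 92070 ≤ k → k < 94563 → pointOk (k * 22) = true := between_extend pointOk 22 92070 94554 9 (p6u275) p6r276

theorem p6r277 : allRange pointOk 22 94563 9 = true := by decide +kernel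
theorem p6u277 : ∀ k, 92070 ≤ k → k < 94572 → pointOk (k * 22) = true := between_extend pointOk 22 92070 94563 9 (p6u276) p6r277

theorem p6r278 : allRange pointOk 22 94572 9 = true := by decide +kernel
theorem p6u278 : ∀ k, 92070 ≤ k → k < 94581 → pointOk (k * 22) = true := between_extend pointOk 22 92070 94572 9 (p6u277) p6r278

theorem p6r279 : allRange pointOk 22 94581 9 = true := by decide +kernel
theorem p6u279 : ∀ k, 92070 ≤ k → k < 94590 → pointOk (k * 22) = true := between_extend pointOk 22 92070 94581 9 (p6u278) p6r279

theorem p6r280 : allRange pointOk 22 94590 9 = true := by decide +kernel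
theorem p6u280 : ∀ k, 92070 ≤ k → k < 94599 → pointOk (k * 22) = true := between_extend pointOk 22 92070 94590 9 (p6u279) p6r280

theorem p6r281 : allRange pointOk 22 94599 9 = true := by decide +kernel
theorem p6u281 : ∀ k, 92070 ≤ k → k < 94608 → pointOk (k * 22) = true := between_extend pointOk 22 92070 94599 9 (p6u280) p6r281

theorem p6r282 : allRange pointOk 22 94608 9 = true := by decide +kernel
theorem p6u282 : ∀ k, 92070 ≤ k → k < 94617 → pointOk (k * 22) = true := between_extend pointOk 22 92070 94608 9 (p6u281) p6r282

theorem p6r283 : allRange pointOk 22 94617 9 = true := by decide +kernel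
theorem p6u283 : ∀ k, 92070 ≤ k → k < 94626 → pointOk (k * 22) = true := between_extend pointOk 22 92070 94617 9 (p6u282) p6r283

theorem p6r284 : allRange pointOk 22 94626 9 = true := by decide +kernel
theorem p6u284 : ∀ k, 92070 ≤ k → k < 94635 → pointOk (k * 22) = true := between_extend pointOk 22 92070 94626 9 (p6u283) p6r284

theorem p6r285 : allRange pointOk 22 94635 9 = true := by decide +kernel
theorem p6u285 : ∀ k, 92070 ≤ k → k < 94644 → pointOk (k * 22) = true := between_extend pointOk 22 92070 94635 9 (p6u284) p6r285

theorem p6r286 : allRange pointOk 22 94644 9 = true := by decide +kernel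
theorem p6u286 : ∀ k, 92070 ≤ k → k < 94653 → pointOk (k * 22) = true := between_extend pointOk 22 92070 94644 9 (p6u285) p6r286

theorem p6r287 : allRange pointOk 22 94653 9 = true := by decide +kernel
theorem p6u287 : ∀ k, 92070 ≤ k → k < 94662 → pointOk (k * 22) = true := between_extend pointOk 22 92070 94653 9 (p6u286) p6r287

theorem p6r288 : allRange pointOk 22 94662 9 = true := by decide +kernel
theorem p6u288 : ∀ k, 92070 ≤ k → k < 94671 → pointOk (k * 22) = true := between_extend pointOk 22 92070 94662 9 (p6u287) p6r288

theorem p6r289 : allRange pointOk 22 94671 9 = true := by decide +kernel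
theorem p6u289 : ∀ k, 92070 ≤ k → k < 94680 → pointOk (k * 22) = true := between_extend pointOk 22 92070 94671 9 (p6u288) p6r289

theorem p6r290 : allRange pointOk 22 94680 9 = true := by decide +kernel
theorem p6u290 : ∀ k, 92070 ≤ k → k < 94689 → pointOk (k * 22) = true := between_extend pointOk 22 92070 94680 9 (p6u289) p6r290

theorem p6r291 : allRange pointOk 22 94689 9 = true := by decide +kernel
theorem p6u291 : ∀ k, 92070 ≤ k → k < 94698 → pointOk (k * 22) = true := between_extend pointOk 22 92070 94689 9 (p6u290) p6r291

theorem p6r292 : allRange pointOk 22 94698 9 = true := by decide +kernel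
theorem p6u292 : ∀ k, 92070 ≤ k → k < 94707 → pointOk (k * 22) = true := between_extend pointOk 22 92070 94698 9 (p6u291) p6r292

theorem p6r293 : allRange pointOk 22 94707 9 = true := by decide +kernel
theorem p6u293 : ∀ k, 92070 ≤ k → k < 94716 → pointOk (k * 22) = true := between_extend pointOk 22 92070 94707 9 (p6u292) p6r293

theorem p6r294 : allRange pointOk 22 94716 9 = true := by decide +kernel
theorem p6u294 : ∀ k, 92070 ≤ k → k < 94725 → pointOk (k * 22) = true := between_extend pointOk 22 92070 94716 9 (p6u293) p6r294

theorem p6r295 : allRange pointOk 22 94725 9 = true := by decide +kernel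
theorem p6u295 : ∀ k, 92070 ≤ k → k < 94734 → pointOk (k * 22) = true := between_extend pointOk 22 92070 94725 9 (p6u294) p6r295

theorem p6r296 : allRange pointOk 22 94734 9 = true := by decide +kernel
theorem p6u296 : ∀ k, 92070 ≤ k → k < 94743 → pointOk (k * 22) = true := between_extend pointOk 22 92070 94734 9 (p6u295) p6r296

theorem p6r297 : allRange pointOk 22 94743 9 = true := by decide +kernel
theorem p6u297 : ∀ k, 92070 ≤ k → k < 94752 → pointOk (k * 22) = true := between_extend pointOk 22 92070 94743 9 (p6u296) p6r297

theorem p6r298 : allRange pointOk 22 94752 9 = true := by decide +kernel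
theorem p6u298 : ∀ k, 92070 ≤ k → k < 94761 → pointOk (k * 22) = true := between_extend pointOk 22 92070 94752 9 (p6u297) p6r298

theorem p6r299 : allRange pointOk 22 94761 9 = true := by decide +kernel
theorem p6u299 : ∀ k, 92070 ≤ k → k < 94770 → pointOk (k * 22) = true := between_extend pointOk 22 92070 94761 9 (p6u298) p6r299

theorem p6r300 : allRange pointOk 22 94770 9 = true := by decide +kernel
theorem p6u300 : ∀ k, 92070 ≤ k → k < 94779 → pointOk (k * 22) = true := between_extend pointOk 22 92070 94770 9 (p6u299) p6r300

theorem p6r301 : allRange pointOk 22 94779 9 = true := by decide +kernel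
theorem p6u301 : ∀ k, 92070 ≤ k → k < 94788 → pointOk (k * 22) = true := between_extend pointOk 22 92070 94779 9 (p6u300) p6r301

theorem p6r302 : allRange pointOk 22 94788 9 = true := by decide +kernel
theorem p6u302 : ∀ k, 92070 ≤ k → k < 94797 → pointOk (k * 22) = true := between_extend pointOk 22 92070 94788 9 (p6u301) p6r302

theorem p6r303 : allRange pointOk 22 94797 9 = true := by decide +kernel
theorem p6u303 : ∀ k, 92070 ≤ k → k < 94806 → pointOk (k * 22) = true := between_extend pointOk 22 92070 94797 9 (p6u302) p6r303

theorem p6r304 : allRange pointOk 22 94806 9 = true := by decide +kernel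
theorem p6u304 : ∀ k, 92070 ≤ k → k < 94815 → pointOk (k * 22) = true := between_extend pointOk 22 92070 94806 9 (p6u303) p6r304

theorem p6r305 : allRange pointOk 22 94815 9 = true := by decide +kernel
theorem p6u305 : ∀ k, 92070 ≤ k → k < 94824 → pointOk (k * 22) = true := between_extend pointOk 22 92070 94815 9 (p6u304) p6r305

theorem p6r306 : allRange pointOk 22 94824 9 = true := by decide +kernel
theorem p6u306 : ∀ k, 92070 ≤ k → k < 94833 → pointOk (k * 22) = true := between_extend pointOk 22 92070 94824 9 (p6u305) p6r306

theorem p6r307 : allRange pointOk 22 94833 9 = true := by decide +kernel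
theorem p6u307 : ∀ k, 92070 ≤ k → k < 94842 → pointOk (k * 22) = true := between_extend pointOk 22 92070 94833 9 (p6u306) p6r307

theorem p6r308 : allRange pointOk 22 94842 9 = true := by decide +kernel
theorem p6u308 : ∀ k, 92070 ≤ k → k < 94851 → pointOk (k * 22) = true := between_extend pointOk 22 92070 94842 9 (p6u307) p6r308

theorem p6r309 : allRange pointOk 22 94851 9 = true := by decide +kernel
theorem p6u309 : ∀ k, 92070 ≤ k → k < 94860 → pointOk (k * 22) = true := between_extend pointOk 22 92070 94851 9 (p6u308) p6r309

theorem p6r310 : allRange pointOk 22 94860 9 = true := by decide +kernel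
theorem p6u310 : ∀ k, 92070 ≤ k → k < 94869 → pointOk (k * 22) = true := between_extend pointOk 22 92070 94860 9 (p6u309) p6r310

theorem p6r311 : allRange pointOk 22 94869 9 = true := by decide +kernel
theorem p6u311 : ∀ k, 92070 ≤ k → k < 94878 → pointOk (k * 22) = true := between_extend pointOk 22 92070 94869 9 (p6u310) p6r311

theorem p6r312 : allRange pointOk 22 94878 9 = true := by decide +kernel
theorem p6u312 : ∀ k, 92070 ≤ k → k < 94887 → pointOk (k * 22) = true := between_extend pointOk 22 92070 94878 9 (p6u311) p6r312

theorem p6r313 : allRange pointOk 22 94887 9 = true := by decide +kernel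
theorem p6u313 : ∀ k, 92070 ≤ k → k < 94896 → pointOk (k * 22) = true := between_extend pointOk 22 92070 94887 9 (p6u312) p6r313

theorem p6r314 : allRange pointOk 22 94896 9 = true := by decide +kernel
theorem p6u314 : ∀ k, 92070 ≤ k → k < 94905 → pointOk (k * 22) = true := between_extend pointOk 22 92070 94896 9 (p6u313) p6r314

theorem p6r315 : allRange pointOk 22 94905 9 = true := by decide +kernel
theorem p6u315 : ∀ k, 92070 ≤ k → k < 94914 → pointOk (k * 22) = true := between_extend pointOk 22 92070 94905 9 (p6u314) p6r315

theorem p6r316 : allRange pointOk 22 94914 9 = true := by decide +kernel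
theorem p6u316 : ∀ k, 92070 ≤ k → k < 94923 → pointOk (k * 22) = true := between_extend pointOk 22 92070 94914 9 (p6u315) p6r316

theorem p6r317 : allRange pointOk 22 94923 9 = true := by decide +kernel
theorem p6u317 : ∀ k, 92070 ≤ k → k < 94932 → pointOk (k * 22) = true := between_extend pointOk 22 92070 94923 9 (p6u316) p6r317

theorem p6r318 : allRange pointOk 22 94932 9 = true := by decide +kernel
theorem p6u318 : ∀ k, 92070 ≤ k → k < 94941 → pointOk (k * 22) = true := between_extend pointOk 22 92070 94932 9 (p6u317) p6r318

theorem p6r319 : allRange pointOk 22 94941 9 = true := by decide +kernel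
theorem p6u319 : ∀ k, 92070 ≤ k → k < 94950 → pointOk (k * 22) = true := between_extend pointOk 22 92070 94941 9 (p6u318) p6r319

theorem p6r320 : allRange pointOk 22 94950 9 = true := by decide +kernel
theorem p6u320 : ∀ k, 92070 ≤ k → k < 94959 → pointOk (k * 22) = true := between_extend pointOk 22 92070 94950 9 (p6u319) p6r320

theorem p6r321 : allRange pointOk 22 94959 9 = true := by decide +kernel
theorem p6u321 : ∀ k, 92070 ≤ k → k < 94968 → pointOk (k * 22) = true := between_extend pointOk 22 92070 94959 9 (p6u320) p6r321

theorem p6r322 : allRange pointOk 22 94968 9 = true := by decide +kernel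
theorem p6u322 : ∀ k, 92070 ≤ k → k < 94977 → pointOk (k * 22) = true := between_extend pointOk 22 92070 94968 9 (p6u321) p6r322

theorem p6r323 : allRange pointOk 22 94977 9 = true := by decide +kernel
theorem p6u323 : ∀ k, 92070 ≤ k → k < 94986 → pointOk (k * 22) = true := between_extend pointOk 22 92070 94977 9 (p6u322) p6r323

theorem p6r324 : allRange pointOk 22 94986 9 = true := by decide +kernel
theorem p6u324 : ∀ k, 92070 ≤ k → k < 94995 → pointOk (k * 22) = true := between_extend pointOk 22 92070 94986 9 (p6u323) p6r324

theorem p6r325 : allRange pointOk 22 94995 9 = true := by decide +kernel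
theorem p6u325 : ∀ k, 92070 ≤ k → k < 95004 → pointOk (k * 22) = true := between_extend pointOk 22 92070 94995 9 (p6u324) p6r325

theorem p6r326 : allRange pointOk 22 95004 9 = true := by decide +kernel
theorem p6u326 : ∀ k, 92070 ≤ k → k < 95013 → pointOk (k * 22) = true := between_extend pointOk 22 92070 95004 9 (p6u325) p6r326

theorem p6r327 : allRange pointOk 22 95013 9 = true := by decide +kernel
theorem p6u327 : ∀ k, 92070 ≤ k → k < 95022 → pointOk (k * 22) = true := between_extend pointOk 22 92070 95013 9 (p6u326) p6r327

theorem p6r328 : allRange pointOk 22 95022 9 = true := by decide +kernel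
theorem p6u328 : ∀ k, 92070 ≤ k → k < 95031 → pointOk (k * 22) = true := between_extend pointOk 22 92070 95022 9 (p6u327) p6r328

theorem p6r329 : allRange pointOk 22 95031 9 = true := by decide +kernel
theorem p6u329 : ∀ k, 92070 ≤ k → k < 95040 → pointOk (k * 22) = true := between_extend pointOk 22 92070 95031 9 (p6u328) p6r329

theorem p6r330 : allRange pointOk 22 95040 9 = true := by decide +kernel
theorem p6u330 : ∀ k, 92070 ≤ k → k < 95049 → pointOk (k * 22) = true := between_extend pointOk 22 92070 95040 9 (p6u329) p6r330

theorem p6r331 : allRange pointOk 22 95049 9 = true := by decide +kernel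
theorem p6u331 : ∀ k, 92070 ≤ k → k < 95058 → pointOk (k * 22) = true := between_extend pointOk 22 92070 95049 9 (p6u330) p6r331

theorem p6r332 : allRange pointOk 22 95058 9 = true := by decide +kernel
theorem p6u332 : ∀ k, 92070 ≤ k → k < 95067 → pointOk (k * 22) = true := between_extend pointOk 22 92070 95058 9 (p6u331) p6r332

theorem p6r333 : allRange pointOk 22 95067 9 = true := by decide +kernel
theorem p6u333 : ∀ k, 92070 ≤ k → k < 95076 → pointOk (k * 22) = true := between_extend pointOk 22 92070 95067 9 (p6u332) p6r333

theorem p6r334 : allRange pointOk 22 95076 9 = true := by decide +kernel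
theorem p6u334 : ∀ k, 92070 ≤ k → k < 95085 → pointOk (k * 22) = true := between_extend pointOk 22 92070 95076 9 (p6u333) p6r334

theorem p6r335 : allRange pointOk 22 95085 9 = true := by decide +kernel
theorem p6u335 : ∀ k, 92070 ≤ k → k < 95094 → pointOk (k * 22) = true := between_extend pointOk 22 92070 95085 9 (p6u334) p6r335

theorem p6r336 : allRange pointOk 22 95094 9 = true := by decide +kernel
theorem p6u336 : ∀ k, 92070 ≤ k → k < 95103 → pointOk (k * 22) = true := between_extend pointOk 22 92070 95094 9 (p6u335) p6r336

theorem p6r337 : allRange pointOk 22 95103 9 = true := by decide +kernel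
theorem p6u337 : ∀ k, 92070 ≤ k → k < 95112 → pointOk (k * 22) = true := between_extend pointOk 22 92070 95103 9 (p6u336) p6r337

theorem p6r338 : allRange pointOk 22 95112 9 = true := by decide +kernel
theorem p6u338 : ∀ k, 92070 ≤ k → k < 95121 → pointOk (k * 22) = true := between_extend pointOk 22 92070 95112 9 (p6u337) p6r338

theorem p6r339 : allRange pointOk 22 95121 9 = true := by decide +kernel
theorem p6u339 : ∀ k, 92070 ≤ k → k < 95130 → pointOk (k * 22) = true := between_extend pointOk 22 92070 95121 9 (p6u338) p6r339

theorem p6r340 : allRange pointOk 22 95130 9 = true := by decide +kernel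
theorem p6u340 : ∀ k, 92070 ≤ k → k < 95139 → pointOk (k * 22) = true := between_extend pointOk 22 92070 95130 9 (p6u339) p6r340

theorem p6r341 : allRange pointOk 22 95139 9 = true := by decide +kernel
theorem p6u341 : ∀ k, 92070 ≤ k → k < 95148 → pointOk (k * 22) = true := between_extend pointOk 22 92070 95139 9 (p6u340) p6r341

theorem p6r342 : allRange pointOk 22 95148 9 = true := by decide +kernel
theorem p6u342 : ∀ k, 92070 ≤ k → k < 95157 → pointOk (k * 22) = true := between_extend pointOk 22 92070 95148 9 (p6u341) p6r342

theorem p6r343 : allRange pointOk 22 95157 9 = true := by decide +kernel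
theorem p6u343 : ∀ k, 92070 ≤ k → k < 95166 → pointOk (k * 22) = true := between_extend pointOk 22 92070 95157 9 (p6u342) p6r343

theorem p6r344 : allRange pointOk 22 95166 9 = true := by decide +kernel
theorem p6u344 : ∀ k, 92070 ≤ k → k < 95175 → pointOk (k * 22) = true := between_extend pointOk 22 92070 95166 9 (p6u343) p6r344

theorem p6r345 : allRange pointOk 22 95175 9 = true := by decide +kernel
theorem p6u345 : ∀ k, 92070 ≤ k → k < 95184 → pointOk (k * 22) = true := between_extend pointOk 22 92070 95175 9 (p6u344) p6r345

theorem p6r346 : allRange pointOk 22 95184 9 = true := by decide +kernel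
theorem p6u346 : ∀ k, 92070 ≤ k → k < 95193 → pointOk (k * 22) = true := between_extend pointOk 22 92070 95184 9 (p6u345) p6r346

theorem p6r347 : allRange pointOk 22 95193 9 = true := by decide +kernel
theorem p6u347 : ∀ k, 92070 ≤ k → k < 95202 → pointOk (k * 22) = true := between_extend pointOk 22 92070 95193 9 (p6u346) p6r347

theorem p6r348 : allRange pointOk 22 95202 9 = true := by decide +kernel
theorem p6u348 : ∀ k, 92070 ≤ k → k < 95211 → pointOk (k * 22) = true := between_extend pointOk 22 92070 95202 9 (p6u347) p6r348

theorem p6r349 : allRange pointOk 22 95211 9 = true := by decide +kernel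
theorem p6u349 : ∀ k, 92070 ≤ k → k < 95220 → pointOk (k * 22) = true := between_extend pointOk 22 92070 95211 9 (p6u348) p6r349

theorem p6r350 : allRange pointOk 22 95220 9 = true := by decide +kernel
theorem p6u350 : ∀ k, 92070 ≤ k → k < 95229 → pointOk (k * 22) = true := between_extend pointOk 22 92070 95220 9 (p6u349) p6r350

theorem p6r351 : allRange pointOk 22 95229 9 = true := by decide +kernel
theorem p6u351 : ∀ k, 92070 ≤ k → k < 95238 → pointOk (k * 22) = true := between_extend pointOk 22 92070 95229 9 (p6u350) p6r351

theorem p6r352 : allRange pointOk 22 95238 9 = true := by decide +kernel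
theorem p6u352 : ∀ k, 92070 ≤ k → k < 95247 → pointOk (k * 22) = true := between_extend pointOk 22 92070 95238 9 (p6u351) p6r352

theorem p6r353 : allRange pointOk 22 95247 9 = true := by decide +kernel
theorem p6u353 : ∀ k, 92070 ≤ k → k < 95256 → pointOk (k * 22) = true := between_extend pointOk 22 92070 95247 9 (p6u352) p6r353

theorem p6r354 : allRange pointOk 22 95256 9 = true := by decide +kernel
theorem p6u354 : ∀ k, 92070 ≤ k → k < 95265 → pointOk (k * 22) = true := between_extend pointOk 22 92070 95256 9 (p6u353) p6r354

theorem p6r355 : allRange pointOk 22 95265 9 = true := by decide +kernel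
theorem p6u355 : ∀ k, 92070 ≤ k → k < 95274 → pointOk (k * 22) = true := between_extend pointOk 22 92070 95265 9 (p6u354) p6r355

theorem p6r356 : allRange pointOk 22 95274 9 = true := by decide +kernel
theorem p6u356 : ∀ k, 92070 ≤ k → k < 95283 → pointOk (k * 22) = true := between_extend pointOk 22 92070 95274 9 (p6u355) p6r356

theorem p6r357 : allRange pointOk 22 95283 9 = true := by decide +kernel
theorem p6u357 : ∀ k, 92070 ≤ k → k < 95292 → pointOk (k * 22) = true := between_extend pointOk 22 92070 95283 9 (p6u356) p6r357

theorem p6r358 : allRange pointOk 22 95292 9 = true := by decide +kernel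
theorem p6u358 : ∀ k, 92070 ≤ k → k < 95301 → pointOk (k * 22) = true := between_extend pointOk 22 92070 95292 9 (p6u357) p6r358

theorem p6r359 : allRange pointOk 22 95301 9 = true := by decide +kernel
theorem p6u359 : ∀ k, 92070 ≤ k → k < 95310 → pointOk (k * 22) = true := between_extend pointOk 22 92070 95301 9 (p6u358) p6r359

theorem p6r360 : allRange pointOk 22 95310 9 = true := by decide +kernel
theorem p6u360 : ∀ k, 92070 ≤ k → k < 95319 → pointOk (k * 22) = true := between_extend pointOk 22 92070 95310 9 (p6u359) p6r360

theorem p6r361 : allRange pointOk 22 95319 9 = true := by decide +kernel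
theorem p6u361 : ∀ k, 92070 ≤ k → k < 95328 → pointOk (k * 22) = true := between_extend pointOk 22 92070 95319 9 (p6u360) p6r361

theorem p6r362 : allRange pointOk 22 95328 9 = true := by decide +kernel
theorem p6u362 : ∀ k, 92070 ≤ k → k < 95337 → pointOk (k * 22) = true := between_extend pointOk 22 92070 95328 9 (p6u361) p6r362

theorem p6r363 : allRange pointOk 22 95337 9 = true := by decide +kernel
theorem p6u363 : ∀ k, 92070 ≤ k → k < 95346 → pointOk (k * 22) = true := between_extend pointOk 22 92070 95337 9 (p6u362) p6r363

theorem p6r364 : allRange pointOk 22 95346 9 = true := by decide +kernel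
theorem p6u364 : ∀ k, 92070 ≤ k → k < 95355 → pointOk (k * 22) = true := between_extend pointOk 22 92070 95346 9 (p6u363) p6r364

theorem p6r365 : allRange pointOk 22 95355 9 = true := by decide +kernel
theorem p6u365 : ∀ k, 92070 ≤ k → k < 95364 → pointOk (k * 22) = true := between_extend pointOk 22 92070 95355 9 (p6u364) p6r365

theorem p6r366 : allRange pointOk 22 95364 9 = true := by decide +kernel
theorem p6u366 : ∀ k, 92070 ≤ k → k < 95373 → pointOk (k * 22) = true := between_extend pointOk 22 92070 95364 9 (p6u365) p6r366

theorem p6r367 : allRange pointOk 22 95373 9 = true := by decide +kernel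
theorem p6u367 : ∀ k, 92070 ≤ k → k < 95382 → pointOk (k * 22) = true := between_extend pointOk 22 92070 95373 9 (p6u366) p6r367

theorem p6r368 : allRange pointOk 22 95382 9 = true := by decide +kernel
theorem p6u368 : ∀ k, 92070 ≤ k → k < 95391 → pointOk (k * 22) = true := between_extend pointOk 22 92070 95382 9 (p6u367) p6r368

theorem p6r369 : allRange pointOk 22 95391 9 = true := by decide +kernel
theorem p6u369 : ∀ k, 92070 ≤ k → k < 95400 → pointOk (k * 22) = true := between_extend pointOk 22 92070 95391 9 (p6u368) p6r369

theorem p6r370 : allRange pointOk 22 95400 9 = true := by decide +kernel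
theorem p6u370 : ∀ k, 92070 ≤ k → k < 95409 → pointOk (k * 22) = true := between_extend pointOk 22 92070 95400 9 (p6u369) p6r370

theorem p6r371 : allRange pointOk 22 95409 9 = true := by decide +kernel
theorem p6u371 : ∀ k, 92070 ≤ k → k < 95418 → pointOk (k * 22) = true := between_extend pointOk 22 92070 95409 9 (p6u370) p6r371

theorem p6r372 : allRange pointOk 22 95418 9 = true := by decide +kernel
theorem p6u372 : ∀ k, 92070 ≤ k → k < 95427 → pointOk (k * 22) = true := between_extend pointOk 22 92070 95418 9 (p6u371) p6r372

theorem p6r373 : allRange pointOk 22 95427 9 = true := by decide +kernel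
theorem p6u373 : ∀ k, 92070 ≤ k → k < 95436 → pointOk (k * 22) = true := between_extend pointOk 22 92070 95427 9 (p6u372) p6r373

theorem p6r374 : allRange pointOk 22 95436 9 = true := by decide +kernel
theorem p6u374 : ∀ k, 92070 ≤ k → k < 95445 → pointOk (k * 22) = true := between_extend pointOk 22 92070 95436 9 (p6u373) p6r374

theorem p6r375 : allRange pointOk 22 95445 9 = true := by decide +kernel
theorem p6u375 : ∀ k, 92070 ≤ k → k < 95454 → pointOk (k * 22) = true := between_extend pointOk 22 92070 95445 9 (p6u374) p6r375

theorem p6r376 : allRange pointOk 22 95454 9 = true := by decide +kernel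
theorem p6u376 : ∀ k, 92070 ≤ k → k < 95463 → pointOk (k * 22) = true := between_extend pointOk 22 92070 95454 9 (p6u375) p6r376

theorem p6r377 : allRange pointOk 22 95463 9 = true := by decide +kernel
theorem p6u377 : ∀ k, 92070 ≤ k → k < 95472 → pointOk (k * 22) = true := between_extend pointOk 22 92070 95463 9 (p6u376) p6r377

theorem p6r378 : allRange pointOk 22 95472 9 = true := by decide +kernel
theorem p6u378 : ∀ k, 92070 ≤ k → k < 95481 → pointOk (k * 22) = true := between_extend pointOk 22 92070 95472 9 (p6u377) p6r378

theorem p6r379 : allRange pointOk 22 95481 9 = true := by decide +kernel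
theorem p6u379 : ∀ k, 92070 ≤ k → k < 95490 → pointOk (k * 22) = true := between_extend pointOk 22 92070 95481 9 (p6u378) p6r379

theorem p6r380 : allRange pointOk 22 95490 9 = true := by decide +kernel
theorem p6u380 : ∀ k, 92070 ≤ k → k < 95499 → pointOk (k * 22) = true := between_extend pointOk 22 92070 95490 9 (p6u379) p6r380

theorem p6r381 : allRange pointOk 22 95499 9 = true := by decide +kernel
theorem p6u381 : ∀ k, 92070 ≤ k → k < 95508 → pointOk (k * 22) = true := between_extend pointOk 22 92070 95499 9 (p6u380) p6r381

theorem p6r382 : allRange pointOk 22 95508 9 = true := by decide +kernel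
theorem p6u382 : ∀ k, 92070 ≤ k → k < 95517 → pointOk (k * 22) = true := between_extend pointOk 22 92070 95508 9 (p6u381) p6r382

theorem p6r383 : allRange pointOk 22 95517 9 = true := by decide +kernel
theorem p6u383 : ∀ k, 92070 ≤ k → k < 95526 → pointOk (k * 22) = true := between_extend pointOk 22 92070 95517 9 (p6u382) p6r383

theorem p6r384 : allRange pointOk 22 95526 9 = true := by decide +kernel
theorem p6u384 : ∀ k, 92070 ≤ k → k < 95535 → pointOk (k * 22) = true := between_extend pointOk 22 92070 95526 9 (p6u383) p6r384

theorem p6r385 : allRange pointOk 22 95535 9 = true := by decide +kernel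
theorem p6u385 : ∀ k, 92070 ≤ k → k < 95544 → pointOk (k * 22) = true := between_extend pointOk 22 92070 95535 9 (p6u384) p6r385

theorem p6r386 : allRange pointOk 22 95544 9 = true := by decide +kernel
theorem p6u386 : ∀ k, 92070 ≤ k → k < 95553 → pointOk (k * 22) = true := between_extend pointOk 22 92070 95544 9 (p6u385) p6r386

theorem p6r387 : allRange pointOk 22 95553 9 = true := by decide +kernel
theorem p6u387 : ∀ k, 92070 ≤ k → k < 95562 → pointOk (k * 22) = true := between_extend pointOk 22 92070 95553 9 (p6u386) p6r387

theorem p6r388 : allRange pointOk 22 95562 9 = true := by decide +kernel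
theorem p6u388 : ∀ k, 92070 ≤ k → k < 95571 → pointOk (k * 22) = true := between_extend pointOk 22 92070 95562 9 (p6u387) p6r388

theorem p6r389 : allRange pointOk 22 95571 9 = true := by decide +kernel
theorem p6u389 : ∀ k, 92070 ≤ k → k < 95580 → pointOk (k * 22) = true := between_extend pointOk 22 92070 95571 9 (p6u388) p6r389

theorem p6r390 : allRange pointOk 22 95580 9 = true := by decide +kernel
theorem p6u390 : ∀ k, 92070 ≤ k → k < 95589 → pointOk (k * 22) = true := between_extend pointOk 22 92070 95580 9 (p6u389) p6r390

theorem p6r391 : allRange pointOk 22 95589 9 = true := by decide +kernel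
theorem p6u391 : ∀ k, 92070 ≤ k → k < 95598 → pointOk (k * 22) = true := between_extend pointOk 22 92070 95589 9 (p6u390) p6r391

theorem p6r392 : allRange pointOk 22 95598 9 = true := by decide +kernel
theorem p6u392 : ∀ k, 92070 ≤ k → k < 95607 → pointOk (k * 22) = true := between_extend pointOk 22 92070 95598 9 (p6u391) p6r392

theorem p6r393 : allRange pointOk 22 95607 9 = true := by decide +kernel
theorem p6u393 : ∀ k, 92070 ≤ k → k < 95616 → pointOk (k * 22) = true := between_extend pointOk 22 92070 95607 9 (p6u392) p6r393

theorem p6r394 : allRange pointOk 22 95616 9 = true := by decide +kernel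
theorem p6u394 : ∀ k, 92070 ≤ k → k < 95625 → pointOk (k * 22) = true := between_extend pointOk 22 92070 95616 9 (p6u393) p6r394

theorem p6r395 : allRange pointOk 22 95625 9 = true := by decide +kernel
theorem p6u395 : ∀ k, 92070 ≤ k → k < 95634 → pointOk (k * 22) = true := between_extend pointOk 22 92070 95625 9 (p6u394) p6r395

theorem p6r396 : allRange pointOk 22 95634 9 = true := by decide +kernel
theorem p6u396 : ∀ k, 92070 ≤ k → k < 95643 → pointOk (k * 22) = true := between_extend pointOk 22 92070 95634 9 (p6u395) p6r396

theorem p6r397 : allRange pointOk 22 95643 9 = true := by decide +kernel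
theorem p6u397 : ∀ k, 92070 ≤ k → k < 95652 → pointOk (k * 22) = true := between_extend pointOk 22 92070 95643 9 (p6u396) p6r397

theorem p6r398 : allRange pointOk 22 95652 9 = true := by decide +kernel
theorem p6u398 : ∀ k, 92070 ≤ k → k < 95661 → pointOk (k * 22) = true := between_extend pointOk 22 92070 95652 9 (p6u397) p6r398

theorem p6r399 : allRange pointOk 22 95661 9 = true := by decide +kernel
theorem p6u399 : ∀ k, 92070 ≤ k → k < 95670 → pointOk (k * 22) = true := between_extend pointOk 22 92070 95661 9 (p6u398) p6r399

theorem p6r400 : allRange pointOk 22 95670 9 = true := by decide +kernel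
theorem p6u400 : ∀ k, 92070 ≤ k → k < 95679 → pointOk (k * 22) = true := between_extend pointOk 22 92070 95670 9 (p6u399) p6r400

theorem p6r401 : allRange pointOk 22 95679 9 = true := by decide +kernel
theorem p6u401 : ∀ k, 92070 ≤ k → k < 95688 → pointOk (k * 22) = true := between_extend pointOk 22 92070 95679 9 (p6u400) p6r401

theorem p6r402 : allRange pointOk 22 95688 9 = true := by decide +kernel
theorem p6u402 : ∀ k, 92070 ≤ k → k < 95697 → pointOk (k * 22) = true := between_extend pointOk 22 92070 95688 9 (p6u401) p6r402

theorem p6r403 : allRange pointOk 22 95697 9 = true := by decide +kernel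
theorem p6u403 : ∀ k, 92070 ≤ k → k < 95706 → pointOk (k * 22) = true := between_extend pointOk 22 92070 95697 9 (p6u402) p6r403

theorem p6r404 : allRange pointOk 22 95706 9 = true := by decide +kernel
theorem p6u404 : ∀ k, 92070 ≤ k → k < 95715 → pointOk (k * 22) = true := between_extend pointOk 22 92070 95706 9 (p6u403) p6r404

theorem p6r405 : allRange pointOk 22 95715 9 = true := by decide +kernel
theorem p6u405 : ∀ k, 92070 ≤ k → k < 95724 → pointOk (k * 22) = true := between_extend pointOk 22 92070 95715 9 (p6u404) p6r405

theorem p6r406 : allRange pointOk 22 95724 9 = true := by decide +kernel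
theorem p6u406 : ∀ k, 92070 ≤ k → k < 95733 → pointOk (k * 22) = true := between_extend pointOk 22 92070 95724 9 (p6u405) p6r406

theorem p6r407 : allRange pointOk 22 95733 9 = true := by decide +kernel
theorem p6u407 : ∀ k, 92070 ≤ k → k < 95742 → pointOk (k * 22) = true := between_extend pointOk 22 92070 95733 9 (p6u406) p6r407

theorem p6r408 : allRange pointOk 22 95742 9 = true := by decide +kernel
theorem p6u408 : ∀ k, 92070 ≤ k → k < 95751 → pointOk (k * 22) = true := between_extend pointOk 22 92070 95742 9 (p6u407) p6r408

theorem p6r409 : allRange pointOk 22 95751 9 = true := by decide +kernel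
theorem p6u409 : ∀ k, 92070 ≤ k → k < 95760 → pointOk (k * 22) = true := between_extend pointOk 22 92070 95751 9 (p6u408) p6r409

theorem p6r410 : allRange pointOk 22 95760 9 = true := by decide +kernel
theorem p6u410 : ∀ k, 92070 ≤ k → k < 95769 → pointOk (k * 22) = true := between_extend pointOk 22 92070 95760 9 (p6u409) p6r410

theorem p6r411 : allRange pointOk 22 95769 9 = true := by decide +kernel
theorem p6u411 : ∀ k, 92070 ≤ k → k < 95778 → pointOk (k * 22) = true := between_extend pointOk 22 92070 95769 9 (p6u410) p6r411

theorem p6r412 : allRange pointOk 22 95778 9 = true := by decide +kernel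
theorem p6u412 : ∀ k, 92070 ≤ k → k < 95787 → pointOk (k * 22) = true := between_extend pointOk 22 92070 95778 9 (p6u411) p6r412

theorem p6r413 : allRange pointOk 22 95787 9 = true := by decide +kernel
theorem p6u413 : ∀ k, 92070 ≤ k → k < 95796 → pointOk (k * 22) = true := between_extend pointOk 22 92070 95787 9 (p6u412) p6r413

theorem p6r414 : allRange pointOk 22 95796 9 = true := by decide +kernel
theorem p6u414 : ∀ k, 92070 ≤ k → k < 95805 → pointOk (k * 22) = true := between_extend pointOk 22 92070 95796 9 (p6u413) p6r414

theorem p6r415 : allRange pointOk 22 95805 9 = true := by decide +kernel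
theorem p6u415 : ∀ k, 92070 ≤ k → k < 95814 → pointOk (k * 22) = true := between_extend pointOk 22 92070 95805 9 (p6u414) p6r415

theorem p6r416 : allRange pointOk 22 95814 9 = true := by decide +kernel
theorem p6u416 : ∀ k, 92070 ≤ k → k < 95823 → pointOk (k * 22) = true := between_extend pointOk 22 92070 95814 9 (p6u415) p6r416

theorem p6r417 : allRange pointOk 22 95823 9 = true := by decide +kernel
theorem p6u417 : ∀ k, 92070 ≤ k → k < 95832 → pointOk (k * 22) = true := between_extend pointOk 22 92070 95823 9 (p6u416) p6r417

theorem p6r418 : allRange pointOk 22 95832 9 = true := by decide +kernel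
theorem p6u418 : ∀ k, 92070 ≤ k → k < 95841 → pointOk (k * 22) = true := between_extend pointOk 22 92070 95832 9 (p6u417) p6r418

theorem p6r419 : allRange pointOk 22 95841 9 = true := by decide +kernel
theorem p6u419 : ∀ k, 92070 ≤ k → k < 95850 → pointOk (k * 22) = true := between_extend pointOk 22 92070 95841 9 (p6u418) p6r419

theorem p6r420 : allRange pointOk 22 95850 9 = true := by decide +kernel
theorem p6u420 : ∀ k, 92070 ≤ k → k < 95859 → pointOk (k * 22) = true := between_extend pointOk 22 92070 95850 9 (p6u419) p6r420

theorem p6r421 : allRange pointOk 22 95859 9 = true := by decide +kernel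
theorem p6u421 : ∀ k, 92070 ≤ k → k < 95868 → pointOk (k * 22) = true := between_extend pointOk 22 92070 95859 9 (p6u420) p6r421

theorem p6r422 : allRange pointOk 22 95868 9 = true := by decide +kernel
theorem p6u422 : ∀ k, 92070 ≤ k → k < 95877 → pointOk (k * 22) = true := between_extend pointOk 22 92070 95868 9 (p6u421) p6r422

theorem p6r423 : allRange pointOk 22 95877 9 = true := by decide +kernel
theorem p6u423 : ∀ k, 92070 ≤ k → k < 95886 → pointOk (k * 22) = true := between_extend pointOk 22 92070 95877 9 (p6u422) p6r423

theorem p6r424 : allRange pointOk 22 95886 9 = true := by decide +kernel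
theorem p6u424 : ∀ k, 92070 ≤ k → k < 95895 → pointOk (k * 22) = true := between_extend pointOk 22 92070 95886 9 (p6u423) p6r424

theorem p6r425 : allRange pointOk 22 95895 9 = true := by decide +kernel
theorem p6u425 : ∀ k, 92070 ≤ k → k < 95904 → pointOk (k * 22) = true := between_extend pointOk 22 92070 95895 9 (p6u424) p6r425

theorem p6r426 : allRange pointOk 22 95904 9 = true := by decide +kernel
theorem p6u426 : ∀ k, 92070 ≤ k → k < 95913 → pointOk (k * 22) = true := between_extend pointOk 22 92070 95904 9 (p6u425) p6r426

theorem p6r427 : allRange pointOk 22 95913 9 = true := by decide +kernel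
theorem p6u427 : ∀ k, 92070 ≤ k → k < 95922 → pointOk (k * 22) = true := between_extend pointOk 22 92070 95913 9 (p6u426) p6r427

theorem p6r428 : allRange pointOk 22 95922 9 = true := by decide +kernel
theorem p6u428 : ∀ k, 92070 ≤ k → k < 95931 → pointOk (k * 22) = true := between_extend pointOk 22 92070 95922 9 (p6u427) p6r428

theorem p6r429 : allRange pointOk 22 95931 9 = true := by decide +kernel
theorem p6u429 : ∀ k, 92070 ≤ k → k < 95940 → pointOk (k * 22) = true := between_extend pointOk 22 92070 95931 9 (p6u428) p6r429

theorem p6r430 : allRange pointOk 22 95940 9 = true := by decide +kernel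
theorem p6u430 : ∀ k, 92070 ≤ k → k < 95949 → pointOk (k * 22) = true := between_extend pointOk 22 92070 95940 9 (p6u429) p6r430

theorem p6r431 : allRange pointOk 22 95949 9 = true := by decide +kernel
theorem p6u431 : ∀ k, 92070 ≤ k → k < 95958 → pointOk (k * 22) = true := between_extend pointOk 22 92070 95949 9 (p6u430) p6r431

theorem p6r432 : allRange pointOk 22 95958 9 = true := by decide +kernel
theorem p6u432 : ∀ k, 92070 ≤ k → k < 95967 → pointOk (k * 22) = true := between_extend pointOk 22 92070 95958 9 (p6u431) p6r432

theorem p6r433 : allRange pointOk 22 95967 9 = true := by decide +kernel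
theorem p6u433 : ∀ k, 92070 ≤ k → k < 95976 → pointOk (k * 22) = true := between_extend pointOk 22 92070 95967 9 (p6u432) p6r433

theorem p6r434 : allRange pointOk 22 95976 9 = true := by decide +kernel
theorem p6u434 : ∀ k, 92070 ≤ k → k < 95985 → pointOk (k * 22) = true := between_extend pointOk 22 92070 95976 9 (p6u433) p6r434

theorem p6r435 : allRange pointOk 22 95985 9 = true := by decide +kernel
theorem p6u435 : ∀ k, 92070 ≤ k → k < 95994 → pointOk (k * 22) = true := between_extend pointOk 22 92070 95985 9 (p6u434) p6r435

theorem p6r436 : allRange pointOk 22 95994 9 = true := by decide +kernel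
theorem p6u436 : ∀ k, 92070 ≤ k → k < 96003 → pointOk (k * 22) = true := between_extend pointOk 22 92070 95994 9 (p6u435) p6r436

theorem p6r437 : allRange pointOk 22 96003 9 = true := by decide +kernel
theorem p6u437 : ∀ k, 92070 ≤ k → k < 96012 → pointOk (k * 22) = true := between_extend pointOk 22 92070 96003 9 (p6u436) p6r437

theorem p6r438 : allRange pointOk 22 96012 9 = true := by decide +kernel
theorem p6u438 : ∀ k, 92070 ≤ k → k < 96021 → pointOk (k * 22) = true := between_extend pointOk 22 92070 96012 9 (p6u437) p6r438

theorem p6r439 : allRange pointOk 22 96021 9 = true := by decide +kernel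
theorem p6u439 : ∀ k, 92070 ≤ k → k < 96030 → pointOk (k * 22) = true := between_extend pointOk 22 92070 96021 9 (p6u438) p6r439

theorem p6r440 : allRange pointOk 22 96030 9 = true := by decide +kernel
theorem p6u440 : ∀ k, 92070 ≤ k → k < 96039 → pointOk (k * 22) = true := between_extend pointOk 22 92070 96030 9 (p6u439) p6r440

theorem p6r441 : allRange pointOk 22 96039 9 = true := by decide +kernel
theorem p6u441 : ∀ k, 92070 ≤ k → k < 96048 → pointOk (k * 22) = true := between_extend pointOk 22 92070 96039 9 (p6u440) p6r441

theorem p6r442 : allRange pointOk 22 96048 9 = true := by decide +kernel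
theorem p6u442 : ∀ k, 92070 ≤ k → k < 96057 → pointOk (k * 22) = true := between_extend pointOk 22 92070 96048 9 (p6u441) p6r442

theorem p6r443 : allRange pointOk 22 96057 9 = true := by decide +kernel
theorem p6u443 : ∀ k, 92070 ≤ k → k < 96066 → pointOk (k * 22) = true := between_extend pointOk 22 92070 96057 9 (p6u442) p6r443

theorem p6r444 : allRange pointOk 22 96066 9 = true := by decide +kernel
theorem p6u444 : ∀ k, 92070 ≤ k → k < 96075 → pointOk (k * 22) = true := between_extend pointOk 22 92070 96066 9 (p6u443) p6r444

theorem p6r445 : allRange pointOk 22 96075 9 = true := by decide +kernel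
theorem p6u445 : ∀ k, 92070 ≤ k → k < 96084 → pointOk (k * 22) = true := between_extend pointOk 22 92070 96075 9 (p6u444) p6r445

theorem p6r446 : allRange pointOk 22 96084 9 = true := by decide +kernel
theorem p6u446 : ∀ k, 92070 ≤ k → k < 96093 → pointOk (k * 22) = true := between_extend pointOk 22 92070 96084 9 (p6u445) p6r446

theorem p6r447 : allRange pointOk 22 96093 9 = true := by decide +kernel
theorem p6u447 : ∀ k, 92070 ≤ k → k < 96102 → pointOk (k * 22) = true := between_extend pointOk 22 92070 96093 9 (p6u446) p6r447

theorem p6r448 : allRange pointOk 22 96102 9 = true := by decide +kernel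
theorem p6u448 : ∀ k, 92070 ≤ k → k < 96111 → pointOk (k * 22) = true := between_extend pointOk 22 92070 96102 9 (p6u447) p6r448

theorem p6r449 : allRange pointOk 22 96111 9 = true := by decide +kernel
theorem p6u449 : ∀ k, 92070 ≤ k → k < 96120 → pointOk (k * 22) = true := between_extend pointOk 22 92070 96111 9 (p6u448) p6r449

theorem p6r450 : allRange pointOk 22 96120 9 = true := by decide +kernel
theorem p6u450 : ∀ k, 92070 ≤ k → k < 96129 → pointOk (k * 22) = true := between_extend pointOk 22 92070 96120 9 (p6u449) p6r450

theorem p6r451 : allRange pointOk 22 96129 9 = true := by decide +kernel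
theorem p6u451 : ∀ k, 92070 ≤ k → k < 96138 → pointOk (k * 22) = true := between_extend pointOk 22 92070 96129 9 (p6u450) p6r451

theorem p6r452 : allRange pointOk 22 96138 9 = true := by decide +kernel
theorem p6u452 : ∀ k, 92070 ≤ k → k < 96147 → pointOk (k * 22) = true := between_extend pointOk 22 92070 96138 9 (p6u451) p6r452

theorem p6r453 : allRange pointOk 22 96147 9 = true := by decide +kernel
theorem p6u453 : ∀ k, 92070 ≤ k → k < 96156 → pointOk (k * 22) = true := between_extend pointOk 22 92070 96147 9 (p6u452) p6r453

theorem p6r454 : allRange pointOk 22 96156 9 = true := by decide +kernel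
theorem p6u454 : ∀ k, 92070 ≤ k → k < 96165 → pointOk (k * 22) = true := between_extend pointOk 22 92070 96156 9 (p6u453) p6r454

theorem p6r455 : allRange pointOk 22 96165 9 = true := by decide +kernel
theorem p6u455 : ∀ k, 92070 ≤ k → k < 96174 → pointOk (k * 22) = true := between_extend pointOk 22 92070 96165 9 (p6u454) p6r455

theorem p6r456 : allRange pointOk 22 96174 9 = true := by decide +kernel
theorem p6u456 : ∀ k, 92070 ≤ k → k < 96183 → pointOk (k * 22) = true := between_extend pointOk 22 92070 96174 9 (p6u455) p6r456

theorem p6r457 : allRange pointOk 22 96183 9 = true := by decide +kernel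
theorem p6u457 : ∀ k, 92070 ≤ k → k < 96192 → pointOk (k * 22) = true := between_extend pointOk 22 92070 96183 9 (p6u456) p6r457

theorem p6r458 : allRange pointOk 22 96192 9 = true := by decide +kernel
theorem p6u458 : ∀ k, 92070 ≤ k → k < 96201 → pointOk (k * 22) = true := between_extend pointOk 22 92070 96192 9 (p6u457) p6r458

theorem p6r459 : allRange pointOk 22 96201 9 = true := by decide +kernel
theorem p6u459 : ∀ k, 92070 ≤ k → k < 96210 → pointOk (k * 22) = true := between_extend pointOk 22 92070 96201 9 (p6u458) p6r459

theorem p6r460 : allRange pointOk 22 96210 9 = true := by decide +kernel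
theorem p6u460 : ∀ k, 92070 ≤ k → k < 96219 → pointOk (k * 22) = true := between_extend pointOk 22 92070 96210 9 (p6u459) p6r460

theorem p6r461 : allRange pointOk 22 96219 9 = true := by decide +kernel
theorem p6u461 : ∀ k, 92070 ≤ k → k < 96228 → pointOk (k * 22) = true := between_extend pointOk 22 92070 96219 9 (p6u460) p6r461

theorem p6r462 : allRange pointOk 22 96228 9 = true := by decide +kernel
theorem p6u462 : ∀ k, 92070 ≤ k → k < 96237 → pointOk (k * 22) = true := between_extend pointOk 22 92070 96228 9 (p6u461) p6r462

theorem p6r463 : allRange pointOk 22 96237 9 = true := by decide +kernel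
theorem p6u463 : ∀ k, 92070 ≤ k → k < 96246 → pointOk (k * 22) = true := between_extend pointOk 22 92070 96237 9 (p6u462) p6r463

theorem p6r464 : allRange pointOk 22 96246 9 = true := by decide +kernel
theorem p6u464 : ∀ k, 92070 ≤ k → k < 96255 → pointOk (k * 22) = true := between_extend pointOk 22 92070 96246 9 (p6u463) p6r464

theorem p6r465 : allRange pointOk 22 96255 9 = true := by decide +kernel
theorem p6u465 : ∀ k, 92070 ≤ k → k < 96264 → pointOk (k * 22) = true := between_extend pointOk 22 92070 96255 9 (p6u464) p6r465

theorem p6r466 : allRange pointOk 22 96264 9 = true := by decide +kernel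
theorem p6u466 : ∀ k, 92070 ≤ k → k < 96273 → pointOk (k * 22) = true := between_extend pointOk 22 92070 96264 9 (p6u465) p6r466

theorem p6r467 : allRange pointOk 22 96273 9 = true := by decide +kernel
theorem p6u467 : ∀ k, 92070 ≤ k → k < 96282 → pointOk (k * 22) = true := between_extend pointOk 22 92070 96273 9 (p6u466) p6r467

theorem p6r468 : allRange pointOk 22 96282 9 = true := by decide +kernel
theorem p6u468 : ∀ k, 92070 ≤ k → k < 96291 → pointOk (k * 22) = true := between_extend pointOk 22 92070 96282 9 (p6u467) p6r468

theorem p6r469 : allRange pointOk 22 96291 9 = true := by decide +kernel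
theorem p6u469 : ∀ k, 92070 ≤ k → k < 96300 → pointOk (k * 22) = true := between_extend pointOk 22 92070 96291 9 (p6u468) p6r469

theorem p6r470 : allRange pointOk 22 96300 9 = true := by decide +kernel
theorem p6u470 : ∀ k, 92070 ≤ k → k < 96309 → pointOk (k * 22) = true := between_extend pointOk 22 92070 96300 9 (p6u469) p6r470

theorem p6r471 : allRange pointOk 22 96309 9 = true := by decide +kernel
theorem p6u471 : ∀ k, 92070 ≤ k → k < 96318 → pointOk (k * 22) = true := between_extend pointOk 22 92070 96309 9 (p6u470) p6r471

theorem p6r472 : allRange pointOk 22 96318 9 = true := by decide +kernel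
theorem p6u472 : ∀ k, 92070 ≤ k → k < 96327 → pointOk (k * 22) = true := between_extend pointOk 22 92070 96318 9 (p6u471) p6r472

theorem p6r473 : allRange pointOk 22 96327 9 = true := by decide +kernel
theorem p6u473 : ∀ k, 92070 ≤ k → k < 96336 → pointOk (k * 22) = true := between_extend pointOk 22 92070 96327 9 (p6u472) p6r473

theorem p6r474 : allRange pointOk 22 96336 9 = true := by decide +kernel
theorem p6u474 : ∀ k, 92070 ≤ k → k < 96345 → pointOk (k * 22) = true := between_extend pointOk 22 92070 96336 9 (p6u473) p6r474

theorem p6r475 : allRange pointOk 22 96345 9 = true := by decide +kernel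
theorem p6u475 : ∀ k, 92070 ≤ k → k < 96354 → pointOk (k * 22) = true := between_extend pointOk 22 92070 96345 9 (p6u474) p6r475

theorem p6r476 : allRange pointOk 22 96354 9 = true := by decide +kernel
theorem p6u476 : ∀ k, 92070 ≤ k → k < 96363 → pointOk (k * 22) = true := between_extend pointOk 22 92070 96354 9 (p6u475) p6r476

theorem p6r477 : allRange pointOk 22 96363 9 = true := by decide +kernel
theorem p6u477 : ∀ k, 92070 ≤ k → k < 96372 → pointOk (k * 22) = true := between_extend pointOk 22 92070 96363 9 (p6u476) p6r477

theorem p6r478 : allRange pointOk 22 96372 9 = true := by decide +kernel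
theorem p6u478 : ∀ k, 92070 ≤ k → k < 96381 → pointOk (k * 22) = true := between_extend pointOk 22 92070 96372 9 (p6u477) p6r478

theorem p6r479 : allRange pointOk 22 96381 9 = true := by decide +kernel
theorem p6u479 : ∀ k, 92070 ≤ k → k < 96390 → pointOk (k * 22) = true := between_extend pointOk 22 92070 96381 9 (p6u478) p6r479

theorem p6r480 : allRange pointOk 22 96390 9 = true := by decide +kernel
theorem p6u480 : ∀ k, 92070 ≤ k → k < 96399 → pointOk (k * 22) = true := between_extend pointOk 22 92070 96390 9 (p6u479) p6r480

theorem p6r481 : allRange pointOk 22 96399 9 = true := by decide +kernel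
theorem p6u481 : ∀ k, 92070 ≤ k → k < 96408 → pointOk (k * 22) = true := between_extend pointOk 22 92070 96399 9 (p6u480) p6r481

theorem p6r482 : allRange pointOk 22 96408 9 = true := by decide +kernel
theorem p6u482 : ∀ k, 92070 ≤ k → k < 96417 → pointOk (k * 22) = true := between_extend pointOk 22 92070 96408 9 (p6u481) p6r482

theorem p6r483 : allRange pointOk 22 96417 9 = true := by decide +kernel
theorem p6u483 : ∀ k, 92070 ≤ k → k < 96426 → pointOk (k * 22) = true := between_extend pointOk 22 92070 96417 9 (p6u482) p6r483

theorem p6r484 : allRange pointOk 22 96426 9 = true := by decide +kernel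
theorem p6u484 : ∀ k, 92070 ≤ k → k < 96435 → pointOk (k * 22) = true := between_extend pointOk 22 92070 96426 9 (p6u483) p6r484

theorem p6r485 : allRange pointOk 22 96435 9 = true := by decide +kernel
theorem p6u485 : ∀ k, 92070 ≤ k → k < 96444 → pointOk (k * 22) = true := between_extend pointOk 22 92070 96435 9 (p6u484) p6r485

theorem p6r486 : allRange pointOk 22 96444 9 = true := by decide +kernel
theorem p6u486 : ∀ k, 92070 ≤ k → k < 96453 → pointOk (k * 22) = true := between_extend pointOk 22 92070 96444 9 (p6u485) p6r486

theorem p6r487 : allRange pointOk 22 96453 9 = true := by decide +kernel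
theorem p6u487 : ∀ k, 92070 ≤ k → k < 96462 → pointOk (k * 22) = true := between_extend pointOk 22 92070 96453 9 (p6u486) p6r487

theorem p6r488 : allRange pointOk 22 96462 9 = true := by decide +kernel
theorem p6u488 : ∀ k, 92070 ≤ k → k < 96471 → pointOk (k * 22) = true := between_extend pointOk 22 92070 96462 9 (p6u487) p6r488

theorem p6r489 : allRange pointOk 22 96471 9 = true := by decide +kernel
theorem p6u489 : ∀ k, 92070 ≤ k → k < 96480 → pointOk (k * 22) = true := between_extend pointOk 22 92070 96471 9 (p6u488) p6r489

theorem p6r490 : allRange pointOk 22 96480 9 = true := by decide +kernel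
theorem p6u490 : ∀ k, 92070 ≤ k → k < 96489 → pointOk (k * 22) = true := between_extend pointOk 22 92070 96480 9 (p6u489) p6r490

theorem p6r491 : allRange pointOk 22 96489 9 = true := by decide +kernel
theorem p6u491 : ∀ k, 92070 ≤ k → k < 96498 → pointOk (k * 22) = true := between_extend pointOk 22 92070 96489 9 (p6u490) p6r491

theorem p6r492 : allRange pointOk 22 96498 9 = true := by decide +kernel
theorem p6u492 : ∀ k, 92070 ≤ k → k < 96507 → pointOk (k * 22) = true := between_extend pointOk 22 92070 96498 9 (p6u491) p6r492

theorem p6r493 : allRange pointOk 22 96507 9 = true := by decide +kernel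
theorem p6u493 : ∀ k, 92070 ≤ k → k < 96516 → pointOk (k * 22) = true := between_extend pointOk 22 92070 96507 9 (p6u492) p6r493

theorem p6r494 : allRange pointOk 22 96516 9 = true := by decide +kernel
theorem p6u494 : ∀ k, 92070 ≤ k → k < 96525 → pointOk (k * 22) = true := between_extend pointOk 22 92070 96516 9 (p6u493) p6r494

theorem p6r495 : allRange pointOk 22 96525 9 = true := by decide +kernel
theorem p6u495 : ∀ k, 92070 ≤ k → k < 96534 → pointOk (k * 22) = true := between_extend pointOk 22 92070 96525 9 (p6u494) p6r495

theorem p6r496 : allRange pointOk 22 96534 9 = true := by decide +kernel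
theorem p6u496 : ∀ k, 92070 ≤ k → k < 96543 → pointOk (k * 22) = true := between_extend pointOk 22 92070 96534 9 (p6u495) p6r496

theorem p6r497 : allRange pointOk 22 96543 9 = true := by decide +kernel
theorem p6u497 : ∀ k, 92070 ≤ k → k < 96552 → pointOk (k * 22) = true := between_extend pointOk 22 92070 96543 9 (p6u496) p6r497

theorem p6r498 : allRange pointOk 22 96552 9 = true := by decide +kernel
theorem p6u498 : ∀ k, 92070 ≤ k → k < 96561 → pointOk (k * 22) = true := between_extend pointOk 22 92070 96552 9 (p6u497) p6r498

theorem p6r499 : allRange pointOk 22 96561 9 = true := by decide +kernel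
theorem p6u499 : ∀ k, 92070 ≤ k → k < 96570 → pointOk (k * 22) = true := between_extend pointOk 22 92070 96561 9 (p6u498) p6r499

theorem p6r500 : allRange pointOk 22 96570 9 = true := by decide +kernel
theorem p6u500 : ∀ k, 92070 ≤ k → k < 96579 → pointOk (k * 22) = true := between_extend pointOk 22 92070 96570 9 (p6u499) p6r500

theorem p6r501 : allRange pointOk 22 96579 9 = true := by decide +kernel
theorem p6u501 : ∀ k, 92070 ≤ k → k < 96588 → pointOk (k * 22) = true := between_extend pointOk 22 92070 96579 9 (p6u500) p6r501

theorem p6r502 : allRange pointOk 22 96588 9 = true := by decide +kernel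
theorem p6u502 : ∀ k, 92070 ≤ k → k < 96597 → pointOk (k * 22) = true := between_extend pointOk 22 92070 96588 9 (p6u501) p6r502

theorem p6r503 : allRange pointOk 22 96597 9 = true := by decide +kernel
theorem p6u503 : ∀ k, 92070 ≤ k → k < 96606 → pointOk (k * 22) = true := between_extend pointOk 22 92070 96597 9 (p6u502) p6r503

theorem p6r504 : allRange pointOk 22 96606 9 = true := by decide +kernel
theorem p6u504 : ∀ k, 92070 ≤ k → k < 96615 → pointOk (k * 22) = true := between_extend pointOk 22 92070 96606 9 (p6u503) p6r504

theorem p6r505 : allRange pointOk 22 96615 9 = true := by decide +kernel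
theorem p6u505 : ∀ k, 92070 ≤ k → k < 96624 → pointOk (k * 22) = true := between_extend pointOk 22 92070 96615 9 (p6u504) p6r505

theorem p6r506 : allRange pointOk 22 96624 9 = true := by decide +kernel
theorem p6u506 : ∀ k, 92070 ≤ k → k < 96633 → pointOk (k * 22) = true := between_extend pointOk 22 92070 96624 9 (p6u505) p6r506

theorem p6r507 : allRange pointOk 22 96633 9 = true := by decide +kernel
theorem p6u507 : ∀ k, 92070 ≤ k → k < 96642 → pointOk (k * 22) = true := between_extend pointOk 22 92070 96633 9 (p6u506) p6r507

theorem p6r508 : allRange pointOk 22 96642 9 = true := by decide +kernel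
theorem p6u508 : ∀ k, 92070 ≤ k → k < 96651 → pointOk (k * 22) = true := between_extend pointOk 22 92070 96642 9 (p6u507) p6r508

theorem p6r509 : allRange pointOk 22 96651 9 = true := by decide +kernel
theorem p6u509 : ∀ k, 92070 ≤ k → k < 96660 → pointOk (k * 22) = true := between_extend pointOk 22 92070 96651 9 (p6u508) p6r509

theorem p6r510 : allRange pointOk 22 96660 9 = true := by decide +kernel
theorem p6u510 : ∀ k, 92070 ≤ k → k < 96669 → pointOk (k * 22) = true := between_extend pointOk 22 92070 96660 9 (p6u509) p6r510

theorem p6r511 : allRange pointOk 22 96669 9 = true := by decide +kernel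
theorem p6u511 : ∀ k, 92070 ≤ k → k < 96678 → pointOk (k * 22) = true := between_extend pointOk 22 92070 96669 9 (p6u510) p6r511

theorem p6r512 : allRange pointOk 22 96678 9 = true := by decide +kernel
theorem p6u512 : ∀ k, 92070 ≤ k → k < 96687 → pointOk (k * 22) = true := between_extend pointOk 22 92070 96678 9 (p6u511) p6r512

theorem p6r513 : allRange pointOk 22 96687 9 = true := by decide +kernel
theorem p6u513 : ∀ k, 92070 ≤ k → k < 96696 → pointOk (k * 22) = true := between_extend pointOk 22 92070 96687 9 (p6u512) p6r513

theorem p6r514 : allRange pointOk 22 96696 9 = true := by decide +kernel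
theorem p6u514 : ∀ k, 92070 ≤ k → k < 96705 → pointOk (k * 22) = true := between_extend pointOk 22 92070 96696 9 (p6u513) p6r514

theorem p6r515 : allRange pointOk 22 96705 9 = true := by decide +kernel
theorem p6u515 : ∀ k, 92070 ≤ k → k < 96714 → pointOk (k * 22) = true := between_extend pointOk 22 92070 96705 9 (p6u514) p6r515

theorem p6r516 : allRange pointOk 22 96714 9 = true := by decide +kernel
theorem p6u516 : ∀ k, 92070 ≤ k → k < 96723 → pointOk (k * 22) = true := between_extend pointOk 22 92070 96714 9 (p6u515) p6r516

theorem p6r517 : allRange pointOk 22 96723 9 = true := by decide +kernel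
theorem p6u517 : ∀ k, 92070 ≤ k → k < 96732 → pointOk (k * 22) = true := between_extend pointOk 22 92070 96723 9 (p6u516) p6r517

theorem p6r518 : allRange pointOk 22 96732 9 = true := by decide +kernel
theorem p6u518 : ∀ k, 92070 ≤ k → k < 96741 → pointOk (k * 22) = true := between_extend pointOk 22 92070 96732 9 (p6u517) p6r518

theorem p6r519 : allRange pointOk 22 96741 9 = true := by decide +kernel
theorem p6u519 : ∀ k, 92070 ≤ k → k < 96750 → pointOk (k * 22) = true := between_extend pointOk 22 92070 96741 9 (p6u518) p6r519

theorem p6r520 : allRange pointOk 22 96750 9 = true := by decide +kernel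
theorem p6u520 : ∀ k, 92070 ≤ k → k < 96759 → pointOk (k * 22) = true := between_extend pointOk 22 92070 96750 9 (p6u519) p6r520

theorem p6r521 : allRange pointOk 22 96759 9 = true := by decide +kernel
theorem p6u521 : ∀ k, 92070 ≤ k → k < 96768 → pointOk (k * 22) = true := between_extend pointOk 22 92070 96759 9 (p6u520) p6r521

theorem p6r522 : allRange pointOk 22 96768 9 = true := by decide +kernel
theorem p6u522 : ∀ k, 92070 ≤ k → k < 96777 → pointOk (k * 22) = true := between_extend pointOk 22 92070 96768 9 (p6u521) p6r522

theorem p6r523 : allRange pointOk 22 96777 9 = true := by decide +kernel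
theorem p6u523 : ∀ k, 92070 ≤ k → k < 96786 → pointOk (k * 22) = true := between_extend pointOk 22 92070 96777 9 (p6u522) p6r523

theorem p6r524 : allRange pointOk 22 96786 9 = true := by decide +kernel
theorem p6u524 : ∀ k, 92070 ≤ k → k < 96795 → pointOk (k * 22) = true := between_extend pointOk 22 92070 96786 9 (p6u523) p6r524

theorem p6r525 : allRange pointOk 22 96795 9 = true := by decide +kernel
theorem p6u525 : ∀ k, 92070 ≤ k → k < 96804 → pointOk (k * 22) = true := between_extend pointOk 22 92070 96795 9 (p6u524) p6r525

theorem p6r526 : allRange pointOk 22 96804 9 = true := by decide +kernel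
theorem p6u526 : ∀ k, 92070 ≤ k → k < 96813 → pointOk (k * 22) = true := between_extend pointOk 22 92070 96804 9 (p6u525) p6r526

theorem p6r527 : allRange pointOk 22 96813 9 = true := by decide +kernel
theorem p6u527 : ∀ k, 92070 ≤ k → k < 96822 → pointOk (k * 22) = true := between_extend pointOk 22 92070 96813 9 (p6u526) p6r527

theorem p6r528 : allRange pointOk 22 96822 9 = true := by decide +kernel
theorem p6u528 : ∀ k, 92070 ≤ k → k < 96831 → pointOk (k * 22) = true := between_extend pointOk 22 92070 96822 9 (p6u527) p6r528

theorem p6r529 : allRange pointOk 22 96831 9 = true := by decide +kernel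
theorem p6u529 : ∀ k, 92070 ≤ k → k < 96840 → pointOk (k * 22) = true := between_extend pointOk 22 92070 96831 9 (p6u528) p6r529

theorem p6r530 : allRange pointOk 22 96840 9 = true := by decide +kernel
theorem p6u530 : ∀ k, 92070 ≤ k → k < 96849 → pointOk (k * 22) = true := between_extend pointOk 22 92070 96840 9 (p6u529) p6r530

theorem p6r531 : allRange pointOk 22 96849 9 = true := by decide +kernel
theorem p6u531 : ∀ k, 92070 ≤ k → k < 96858 → pointOk (k * 22) = true := between_extend pointOk 22 92070 96849 9 (p6u530) p6r531

theorem p6r532 : allRange pointOk 22 96858 9 = true := by decide +kernel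
theorem p6u532 : ∀ k, 92070 ≤ k → k < 96867 → pointOk (k * 22) = true := between_extend pointOk 22 92070 96858 9 (p6u531) p6r532

theorem p6r533 : allRange pointOk 22 96867 9 = true := by decide +kernel
theorem p6u533 : ∀ k, 92070 ≤ k → k < 96876 → pointOk (k * 22) = true := between_extend pointOk 22 92070 96867 9 (p6u532) p6r533

theorem p6r534 : allRange pointOk 22 96876 9 = true := by decide +kernel
theorem p6u534 : ∀ k, 92070 ≤ k → k < 96885 → pointOk (k * 22) = true := between_extend pointOk 22 92070 96876 9 (p6u533) p6r534

theorem p6r535 : allRange pointOk 22 96885 9 = true := by decide +kernel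
theorem p6u535 : ∀ k, 92070 ≤ k → k < 96894 → pointOk (k * 22) = true := between_extend pointOk 22 92070 96885 9 (p6u534) p6r535

theorem p6r536 : allRange pointOk 22 96894 9 = true := by decide +kernel
theorem p6u536 : ∀ k, 92070 ≤ k → k < 96903 → pointOk (k * 22) = true := between_extend pointOk 22 92070 96894 9 (p6u535) p6r536

theorem p6r537 : allRange pointOk 22 96903 9 = true := by decide +kernel
theorem p6u537 : ∀ k, 92070 ≤ k → k < 96912 → pointOk (k * 22) = true := between_extend pointOk 22 92070 96903 9 (p6u536) p6r537

theorem p6r538 : allRange pointOk 22 96912 9 = true := by decide +kernel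
theorem p6u538 : ∀ k, 92070 ≤ k → k < 96921 → pointOk (k * 22) = true := between_extend pointOk 22 92070 96912 9 (p6u537) p6r538

theorem p6r539 : allRange pointOk 22 96921 9 = true := by decide +kernel
theorem p6u539 : ∀ k, 92070 ≤ k → k < 96930 → pointOk (k * 22) = true := between_extend pointOk 22 92070 96921 9 (p6u538) p6r539

theorem p6r540 : allRange pointOk 22 96930 9 = true := by decide +kernel
theorem p6u540 : ∀ k, 92070 ≤ k → k < 96939 → pointOk (k * 22) = true := between_extend pointOk 22 92070 96930 9 (p6u539) p6r540

theorem p6r541 : allRange pointOk 22 96939 9 = true := by decide +kernel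
theorem p6u541 : ∀ k, 92070 ≤ k → k < 96948 → pointOk (k * 22) = true := between_extend pointOk 22 92070 96939 9 (p6u540) p6r541

theorem p6r542 : allRange pointOk 22 96948 9 = true := by decide +kernel
theorem p6u542 : ∀ k, 92070 ≤ k → k < 96957 → pointOk (k * 22) = true := between_extend pointOk 22 92070 96948 9 (p6u541) p6r542

theorem p6r543 : allRange pointOk 22 96957 9 = true := by decide +kernel
theorem p6u543 : ∀ k, 92070 ≤ k → k < 96966 → pointOk (k * 22) = true := between_extend pointOk 22 92070 96957 9 (p6u542) p6r543

theorem p6r544 : allRange pointOk 22 96966 9 = true := by decide +kernel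
theorem p6u544 : ∀ k, 92070 ≤ k → k < 96975 → pointOk (k * 22) = true := between_extend pointOk 22 92070 96966 9 (p6u543) p6r544

theorem p6r545 : allRange pointOk 22 96975 9 = true := by decide +kernel
theorem p6u545 : ∀ k, 92070 ≤ k → k < 96984 → pointOk (k * 22) = true := between_extend pointOk 22 92070 96975 9 (p6u544) p6r545

theorem p6r546 : allRange pointOk 22 96984 9 = true := by decide +kernel
theorem p6u546 : ∀ k, 92070 ≤ k → k < 96993 → pointOk (k * 22) = true := between_extend pointOk 22 92070 96984 9 (p6u545) p6r546

theorem p6r547 : allRange pointOk 22 96993 9 = true := by decide +kernel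
theorem p6u547 : ∀ k, 92070 ≤ k → k < 97002 → pointOk (k * 22) = true := between_extend pointOk 22 92070 96993 9 (p6u546) p6r547

theorem p6r548 : allRange pointOk 22 97002 9 = true := by decide +kernel
theorem p6u548 : ∀ k, 92070 ≤ k → k < 97011 → pointOk (k * 22) = true := between_extend pointOk 22 92070 97002 9 (p6u547) p6r548

theorem p6r549 : allRange pointOk 22 97011 9 = true := by decide +kernel
theorem p6u549 : ∀ k, 92070 ≤ k → k < 97020 → pointOk (k * 22) = true := between_extend pointOk 22 92070 97011 9 (p6u548) p6r549

theorem p6r550 : allRange pointOk 22 97020 9 = true := by decide +kernel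
theorem p6u550 : ∀ k, 92070 ≤ k → k < 97029 → pointOk (k * 22) = true := between_extend pointOk 22 92070 97020 9 (p6u549) p6r550

theorem p6r551 : allRange pointOk 22 97029 9 = true := by decide +kernel
theorem p6u551 : ∀ k, 92070 ≤ k → k < 97038 → pointOk (k * 22) = true := between_extend pointOk 22 92070 97029 9 (p6u550) p6r551

theorem p6r552 : allRange pointOk 22 97038 9 = true := by decide +kernel
theorem p6u552 : ∀ k, 92070 ≤ k → k < 97047 → pointOk (k * 22) = true := between_extend pointOk 22 92070 97038 9 (p6u551) p6r552

theorem p6r553 : allRange pointOk 22 97047 9 = true := by decide +kernel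
theorem p6u553 : ∀ k, 92070 ≤ k → k < 97056 → pointOk (k * 22) = true := between_extend pointOk 22 92070 97047 9 (p6u552) p6r553

theorem p6r554 : allRange pointOk 22 97056 9 = true := by decide +kernel
theorem p6u554 : ∀ k, 92070 ≤ k → k < 97065 → pointOk (k * 22) = true := between_extend pointOk 22 92070 97056 9 (p6u553) p6r554

theorem p6r555 : allRange pointOk 22 97065 9 = true := by decide +kernel
theorem p6u555 : ∀ k, 92070 ≤ k → k < 97074 → pointOk (k * 22) = true := between_extend pointOk 22 92070 97065 9 (p6u554) p6r555

theorem p6r556 : allRange pointOk 22 97074 9 = true := by decide +kernel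
theorem p6u556 : ∀ k, 92070 ≤ k → k < 97083 → pointOk (k * 22) = true := between_extend pointOk 22 92070 97074 9 (p6u555) p6r556

theorem p6r557 : allRange pointOk 22 97083 9 = true := by decide +kernel
theorem p6u557 : ∀ k, 92070 ≤ k → k < 97092 → pointOk (k * 22) = true := between_extend pointOk 22 92070 97083 9 (p6u556) p6r557

theorem p6r558 : allRange pointOk 22 97092 9 = true := by decide +kernel
theorem p6u558 : ∀ k, 92070 ≤ k → k < 97101 → pointOk (k * 22) = true := between_extend pointOk 22 92070 97092 9 (p6u557) p6r558

theorem p6r559 : allRange pointOk 22 97101 9 = true := by decide +kernel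
theorem p6u559 : ∀ k, 92070 ≤ k → k < 97110 → pointOk (k * 22) = true := between_extend pointOk 22 92070 97101 9 (p6u558) p6r559

theorem p6r560 : allRange pointOk 22 97110 9 = true := by decide +kernel
theorem p6u560 : ∀ k, 92070 ≤ k → k < 97119 → pointOk (k * 22) = true := between_extend pointOk 22 92070 97110 9 (p6u559) p6r560

theorem p6r561 : allRange pointOk 22 97119 9 = true := by decide +kernel
theorem p6u561 : ∀ k, 92070 ≤ k → k < 97128 → pointOk (k * 22) = true := between_extend pointOk 22 92070 97119 9 (p6u560) p6r561

theorem p6r562 : allRange pointOk 22 97128 9 = true := by decide +kernel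
theorem p6u562 : ∀ k, 92070 ≤ k → k < 97137 → pointOk (k * 22) = true := between_extend pointOk 22 92070 97128 9 (p6u561) p6r562

theorem p6r563 : allRange pointOk 22 97137 9 = true := by decide +kernel
theorem p6u563 : ∀ k, 92070 ≤ k → k < 97146 → pointOk (k * 22) = true := between_extend pointOk 22 92070 97137 9 (p6u562) p6r563

theorem p6r564 : allRange pointOk 22 97146 9 = true := by decide +kernel
theorem p6u564 : ∀ k, 92070 ≤ k → k < 97155 → pointOk (k * 22) = true := between_extend pointOk 22 92070 97146 9 (p6u563) p6r564

theorem p6r565 : allRange pointOk 22 97155 9 = true := by decide +kernel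
theorem p6u565 : ∀ k, 92070 ≤ k → k < 97164 → pointOk (k * 22) = true := between_extend pointOk 22 92070 97155 9 (p6u564) p6r565

theorem p6r566 : allRange pointOk 22 97164 9 = true := by decide +kernel
theorem p6u566 : ∀ k, 92070 ≤ k → k < 97173 → pointOk (k * 22) = true := between_extend pointOk 22 92070 97164 9 (p6u565) p6r566

theorem p6r567 : allRange pointOk 22 97173 9 = true := by decide +kernel
theorem p6u567 : ∀ k, 92070 ≤ k → k < 97182 → pointOk (k * 22) = true := between_extend pointOk 22 92070 97173 9 (p6u566) p6r567

theorem p6r568 : allRange pointOk 22 97182 9 = true := by decide +kernel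
theorem p6u568 : ∀ k, 92070 ≤ k → k < 97191 → pointOk (k * 22) = true := between_extend pointOk 22 92070 97182 9 (p6u567) p6r568

theorem p6r569 : allRange pointOk 22 97191 9 = true := by decide +kernel
theorem p6u569 : ∀ k, 92070 ≤ k → k < 97200 → pointOk (k * 22) = true := between_extend pointOk 22 92070 97191 9 (p6u568) p6r569

theorem p6r570 : allRange pointOk 22 97200 9 = true := by decide +kernel
theorem p6u570 : ∀ k, 92070 ≤ k → k < 97209 → pointOk (k * 22) = true := between_extend pointOk 22 92070 97200 9 (p6u569) p6r570

theorem p6r571 : allRange pointOk 22 97209 9 = true := by decide +kernel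
theorem p6u571 : ∀ k, 92070 ≤ k → k < 97218 → pointOk (k * 22) = true := between_extend pointOk 22 92070 97209 9 (p6u570) p6r571

theorem p6r572 : allRange pointOk 22 97218 9 = true := by decide +kernel
theorem p6u572 : ∀ k, 92070 ≤ k → k < 97227 → pointOk (k * 22) = true := between_extend pointOk 22 92070 97218 9 (p6u571) p6r572

theorem p6r573 : allRange pointOk 22 97227 9 = true := by decide +kernel
theorem p6u573 : ∀ k, 92070 ≤ k → k < 97236 → pointOk (k * 22) = true := between_extend pointOk 22 92070 97227 9 (p6u572) p6r573

theorem p6r574 : allRange pointOk 22 97236 9 = true := by decide +kernel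
theorem p6u574 : ∀ k, 92070 ≤ k → k < 97245 → pointOk (k * 22) = true := between_extend pointOk 22 92070 97236 9 (p6u573) p6r574

theorem p6r575 : allRange pointOk 22 97245 9 = true := by decide +kernel
theorem p6u575 : ∀ k, 92070 ≤ k → k < 97254 → pointOk (k * 22) = true := between_extend pointOk 22 92070 97245 9 (p6u574) p6r575

theorem p6r576 : allRange pointOk 22 97254 9 = true := by decide +kernel
theorem p6u576 : ∀ k, 92070 ≤ k → k < 97263 → pointOk (k * 22) = true := between_extend pointOk 22 92070 97254 9 (p6u575) p6r576

theorem p6r577 : allRange pointOk 22 97263 9 = true := by decide +kernel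
theorem p6u577 : ∀ k, 92070 ≤ k → k < 97272 → pointOk (k * 22) = true := between_extend pointOk 22 92070 97263 9 (p6u576) p6r577

theorem p6r578 : allRange pointOk 22 97272 9 = true := by decide +kernel
theorem p6u578 : ∀ k, 92070 ≤ k → k < 97281 → pointOk (k * 22) = true := between_extend pointOk 22 92070 97272 9 (p6u577) p6r578

theorem p6r579 : allRange pointOk 22 97281 9 = true := by decide +kernel
theorem p6u579 : ∀ k, 92070 ≤ k → k < 97290 → pointOk (k * 22) = true := between_extend pointOk 22 92070 97281 9 (p6u578) p6r579

theorem p6r580 : allRange pointOk 22 97290 9 = true := by decide +kernel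
theorem p6u580 : ∀ k, 92070 ≤ k → k < 97299 → pointOk (k * 22) = true := between_extend pointOk 22 92070 97290 9 (p6u579) p6r580

theorem p6r581 : allRange pointOk 22 97299 9 = true := by decide +kernel
theorem p6u581 : ∀ k, 92070 ≤ k → k < 97308 → pointOk (k * 22) = true := between_extend pointOk 22 92070 97299 9 (p6u580) p6r581

theorem p6r582 : allRange pointOk 22 97308 9 = true := by decide +kernel
theorem p6u582 : ∀ k, 92070 ≤ k → k < 97317 → pointOk (k * 22) = true := between_extend pointOk 22 92070 97308 9 (p6u581) p6r582

theorem p6r583 : allRange pointOk 22 97317 9 = true := by decide +kernel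
theorem p6u583 : ∀ k, 92070 ≤ k → k < 97326 → pointOk (k * 22) = true := between_extend pointOk 22 92070 97317 9 (p6u582) p6r583

theorem p6r584 : allRange pointOk 22 97326 9 = true := by decide +kernel
theorem p6u584 : ∀ k, 92070 ≤ k → k < 97335 → pointOk (k * 22) = true := between_extend pointOk 22 92070 97326 9 (p6u583) p6r584

theorem p6r585 : allRange pointOk 22 97335 9 = true := by decide +kernel
theorem p6u585 : ∀ k, 92070 ≤ k → k < 97344 → pointOk (k * 22) = true := between_extend pointOk 22 92070 97335 9 (p6u584) p6r585

theorem p6r586 : allRange pointOk 22 97344 9 = true := by decide +kernel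
theorem p6u586 : ∀ k, 92070 ≤ k → k < 97353 → pointOk (k * 22) = true := between_extend pointOk 22 92070 97344 9 (p6u585) p6r586

theorem p6r587 : allRange pointOk 22 97353 9 = true := by decide +kernel
theorem p6u587 : ∀ k, 92070 ≤ k → k < 97362 → pointOk (k * 22) = true := between_extend pointOk 22 92070 97353 9 (p6u586) p6r587

theorem p6r588 : allRange pointOk 22 97362 9 = true := by decide +kernel
theorem p6u588 : ∀ k, 92070 ≤ k → k < 97371 → pointOk (k * 22) = true := between_extend pointOk 22 92070 97362 9 (p6u587) p6r588

theorem p6r589 : allRange pointOk 22 97371 9 = true := by decide +kernel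
theorem p6u589 : ∀ k, 92070 ≤ k → k < 97380 → pointOk (k * 22) = true := between_extend pointOk 22 92070 97371 9 (p6u588) p6r589

theorem p6r590 : allRange pointOk 22 97380 9 = true := by decide +kernel
theorem p6u590 : ∀ k, 92070 ≤ k → k < 97389 → pointOk (k * 22) = true := between_extend pointOk 22 92070 97380 9 (p6u589) p6r590

theorem p6r591 : allRange pointOk 22 97389 9 = true := by decide +kernel
theorem p6u591 : ∀ k, 92070 ≤ k → k < 97398 → pointOk (k * 22) = true := between_extend pointOk 22 92070 97389 9 (p6u590) p6r591

theorem p6r592 : allRange pointOk 22 97398 9 = true := by decide +kernel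
theorem p6u592 : ∀ k, 92070 ≤ k → k < 97407 → pointOk (k * 22) = true := between_extend pointOk 22 92070 97398 9 (p6u591) p6r592

theorem p6r593 : allRange pointOk 22 97407 9 = true := by decide +kernel
theorem p6u593 : ∀ k, 92070 ≤ k → k < 97416 → pointOk (k * 22) = true := between_extend pointOk 22 92070 97407 9 (p6u592) p6r593

theorem p6r594 : allRange pointOk 22 97416 9 = true := by decide +kernel
theorem p6u594 : ∀ k, 92070 ≤ k → k < 97425 → pointOk (k * 22) = true := between_extend pointOk 22 92070 97416 9 (p6u593) p6r594

theorem p6r595 : allRange pointOk 22 97425 9 = true := by decide +kernel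
theorem p6u595 : ∀ k, 92070 ≤ k → k < 97434 → pointOk (k * 22) = true := between_extend pointOk 22 92070 97425 9 (p6u594) p6r595

theorem p6r596 : allRange pointOk 22 97434 9 = true := by decide +kernel
theorem p6u596 : ∀ k, 92070 ≤ k → k < 97443 → pointOk (k * 22) = true := between_extend pointOk 22 92070 97434 9 (p6u595) p6r596

theorem p6r597 : allRange pointOk 22 97443 9 = true := by decide +kernel
theorem p6u597 : ∀ k, 92070 ≤ k → k < 97452 → pointOk (k * 22) = true := between_extend pointOk 22 92070 97443 9 (p6u596) p6r597

theorem p6r598 : allRange pointOk 22 97452 9 = true := by decide +kernel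
theorem p6u598 : ∀ k, 92070 ≤ k → k < 97461 → pointOk (k * 22) = true := between_extend pointOk 22 92070 97452 9 (p6u597) p6r598

theorem p6r599 : allRange pointOk 22 97461 9 = true := by decide +kernel
theorem p6u599 : ∀ k, 92070 ≤ k → k < 97470 → pointOk (k * 22) = true := between_extend pointOk 22 92070 97461 9 (p6u598) p6r599

theorem p6r600 : allRange pointOk 22 97470 9 = true := by decide +kernel
theorem p6u600 : ∀ k, 92070 ≤ k → k < 97479 → pointOk (k * 22) = true := between_extend pointOk 22 92070 97470 9 (p6u599) p6r600

theorem p6r601 : allRange pointOk 22 97479 9 = true := by decide +kernel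
theorem p6u601 : ∀ k, 92070 ≤ k → k < 97488 → pointOk (k * 22) = true := between_extend pointOk 22 92070 97479 9 (p6u600) p6r601

theorem p6r602 : allRange pointOk 22 97488 9 = true := by decide +kernel
theorem p6u602 : ∀ k, 92070 ≤ k → k < 97497 → pointOk (k * 22) = true := between_extend pointOk 22 92070 97488 9 (p6u601) p6r602

theorem p6r603 : allRange pointOk 22 97497 9 = true := by decide +kernel
theorem p6u603 : ∀ k, 92070 ≤ k → k < 97506 → pointOk (k * 22) = true := between_extend pointOk 22 92070 97497 9 (p6u602) p6r603

theorem p6r604 : allRange pointOk 22 97506 9 = true := by decide +kernel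
theorem p6u604 : ∀ k, 92070 ≤ k → k < 97515 → pointOk (k * 22) = true := between_extend pointOk 22 92070 97506 9 (p6u603) p6r604

theorem p6r605 : allRange pointOk 22 97515 9 = true := by decide +kernel
theorem p6u605 : ∀ k, 92070 ≤ k → k < 97524 → pointOk (k * 22) = true := between_extend pointOk 22 92070 97515 9 (p6u604) p6r605

theorem p6r606 : allRange pointOk 22 97524 9 = true := by decide +kernel
theorem p6u606 : ∀ k, 92070 ≤ k → k < 97533 → pointOk (k * 22) = true := between_extend pointOk 22 92070 97524 9 (p6u605) p6r606

theorem p6r607 : allRange pointOk 22 97533 9 = true := by decide +kernel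
theorem p6u607 : ∀ k, 92070 ≤ k → k < 97542 → pointOk (k * 22) = true := between_extend pointOk 22 92070 97533 9 (p6u606) p6r607

theorem p6r608 : allRange pointOk 22 97542 9 = true := by decide +kernel
theorem p6u608 : ∀ k, 92070 ≤ k → k < 97551 → pointOk (k * 22) = true := between_extend pointOk 22 92070 97542 9 (p6u607) p6r608

theorem p6r609 : allRange pointOk 22 97551 9 = true := by decide +kernel
theorem p6u609 : ∀ k, 92070 ≤ k → k < 97560 → pointOk (k * 22) = true := between_extend pointOk 22 92070 97551 9 (p6u608) p6r609

theorem p6r610 : allRange pointOk 22 97560 9 = true := by decide +kernel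
theorem p6u610 : ∀ k, 92070 ≤ k → k < 97569 → pointOk (k * 22) = true := between_extend pointOk 22 92070 97560 9 (p6u609) p6r610

theorem p6r611 : allRange pointOk 22 97569 9 = true := by decide +kernel
theorem p6u611 : ∀ k, 92070 ≤ k → k < 97578 → pointOk (k * 22) = true := between_extend pointOk 22 92070 97569 9 (p6u610) p6r611

theorem p6r612 : allRange pointOk 22 97578 9 = true := by decide +kernel
theorem p6u612 : ∀ k, 92070 ≤ k → k < 97587 → pointOk (k * 22) = true := between_extend pointOk 22 92070 97578 9 (p6u611) p6r612

theorem p6r613 : allRange pointOk 22 97587 9 = true := by decide +kernel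
theorem p6u613 : ∀ k, 92070 ≤ k → k < 97596 → pointOk (k * 22) = true := between_extend pointOk 22 92070 97587 9 (p6u612) p6r613

theorem p6r614 : allRange pointOk 22 97596 9 = true := by decide +kernel
theorem p6u614 : ∀ k, 92070 ≤ k → k < 97605 → pointOk (k * 22) = true := between_extend pointOk 22 92070 97596 9 (p6u613) p6r614

theorem p6r615 : allRange pointOk 22 97605 9 = true := by decide +kernel
theorem p6u615 : ∀ k, 92070 ≤ k → k < 97614 → pointOk (k * 22) = true := between_extend pointOk 22 92070 97605 9 (p6u614) p6r615

theorem p6r616 : allRange pointOk 22 97614 9 = true := by decide +kernel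
theorem p6u616 : ∀ k, 92070 ≤ k → k < 97623 → pointOk (k * 22) = true := between_extend pointOk 22 92070 97614 9 (p6u615) p6r616

theorem p6r617 : allRange pointOk 22 97623 9 = true := by decide +kernel
theorem p6u617 : ∀ k, 92070 ≤ k → k < 97632 → pointOk (k * 22) = true := between_extend pointOk 22 92070 97623 9 (p6u616) p6r617

theorem p6r618 : allRange pointOk 22 97632 9 = true := by decide +kernel
theorem p6u618 : ∀ k, 92070 ≤ k → k < 97641 → pointOk (k * 22) = true := between_extend pointOk 22 92070 97632 9 (p6u617) p6r618

theorem p6r619 : allRange pointOk 22 97641 9 = true := by decide +kernel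
theorem p6u619 : ∀ k, 92070 ≤ k → k < 97650 → pointOk (k * 22) = true := between_extend pointOk 22 92070 97641 9 (p6u618) p6r619

theorem p6r620 : allRange pointOk 22 97650 9 = true := by decide +kernel
theorem p6u620 : ∀ k, 92070 ≤ k → k < 97659 → pointOk (k * 22) = true := between_extend pointOk 22 92070 97650 9 (p6u619) p6r620

theorem p6r621 : allRange pointOk 22 97659 9 = true := by decide +kernel
theorem p6u621 : ∀ k, 92070 ≤ k → k < 97668 → pointOk (k * 22) = true := between_extend pointOk 22 92070 97659 9 (p6u620) p6r621

theorem p6r622 : allRange pointOk 22 97668 9 = true := by decide +kernel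
theorem p6u622 : ∀ k, 92070 ≤ k → k < 97677 → pointOk (k * 22) = true := between_extend pointOk 22 92070 97668 9 (p6u621) p6r622

theorem p6r623 : allRange pointOk 22 97677 9 = true := by decide +kernel
theorem p6u623 : ∀ k, 92070 ≤ k → k < 97686 → pointOk (k * 22) = true := between_extend pointOk 22 92070 97677 9 (p6u622) p6r623

theorem p6r624 : allRange pointOk 22 97686 9 = true := by decide +kernel
theorem p6u624 : ∀ k, 92070 ≤ k → k < 97695 → pointOk (k * 22) = true := between_extend pointOk 22 92070 97686 9 (p6u623) p6r624

theorem p6r625 : allRange pointOk 22 97695 9 = true := by decide +kernel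
theorem p6u625 : ∀ k, 92070 ≤ k → k < 97704 → pointOk (k * 22) = true := between_extend pointOk 22 92070 97695 9 (p6u624) p6r625

theorem p6r626 : allRange pointOk 22 97704 9 = true := by decide +kernel
theorem p6u626 : ∀ k, 92070 ≤ k → k < 97713 → pointOk (k * 22) = true := between_extend pointOk 22 92070 97704 9 (p6u625) p6r626

theorem p6r627 : allRange pointOk 22 97713 9 = true := by decide +kernel
theorem p6u627 : ∀ k, 92070 ≤ k → k < 97722 → pointOk (k * 22) = true := between_extend pointOk 22 92070 97713 9 (p6u626) p6r627

theorem p6r628 : allRange pointOk 22 97722 9 = true := by decide +kernel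
theorem p6u628 : ∀ k, 92070 ≤ k → k < 97731 → pointOk (k * 22) = true := between_extend pointOk 22 92070 97722 9 (p6u627) p6r628

theorem p6r629 : allRange pointOk 22 97731 9 = true := by decide +kernel
theorem p6u629 : ∀ k, 92070 ≤ k → k < 97740 → pointOk (k * 22) = true := between_extend pointOk 22 92070 97731 9 (p6u628) p6r629

theorem p6r630 : allRange pointOk 22 97740 9 = true := by decide +kernel
theorem p6u630 : ∀ k, 92070 ≤ k → k < 97749 → pointOk (k * 22) = true := between_extend pointOk 22 92070 97740 9 (p6u629) p6r630

theorem p6r631 : allRange pointOk 22 97749 9 = true := by decide +kernel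
theorem p6u631 : ∀ k, 92070 ≤ k → k < 97758 → pointOk (k * 22) = true := between_extend pointOk 22 92070 97749 9 (p6u630) p6r631

theorem p6r632 : allRange pointOk 22 97758 9 = true := by decide +kernel
theorem p6u632 : ∀ k, 92070 ≤ k → k < 97767 → pointOk (k * 22) = true := between_extend pointOk 22 92070 97758 9 (p6u631) p6r632

theorem p6r633 : allRange pointOk 22 97767 9 = true := by decide +kernel
theorem p6u633 : ∀ k, 92070 ≤ k → k < 97776 → pointOk (k * 22) = true := between_extend pointOk 22 92070 97767 9 (p6u632) p6r633

theorem p6r634 : allRange pointOk 22 97776 9 = true := by decide +kernel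
theorem p6u634 : ∀ k, 92070 ≤ k → k < 97785 → pointOk (k * 22) = true := between_extend pointOk 22 92070 97776 9 (p6u633) p6r634

theorem p6r635 : allRange pointOk 22 97785 9 = true := by decide +kernel
theorem p6u635 : ∀ k, 92070 ≤ k → k < 97794 → pointOk (k * 22) = true := between_extend pointOk 22 92070 97785 9 (p6u634) p6r635

theorem p6r636 : allRange pointOk 22 97794 9 = true := by decide +kernel
theorem p6u636 : ∀ k, 92070 ≤ k → k < 97803 → pointOk (k * 22) = true := between_extend pointOk 22 92070 97794 9 (p6u635) p6r636

theorem p6r637 : allRange pointOk 22 97803 9 = true := by decide +kernel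
theorem p6u637 : ∀ k, 92070 ≤ k → k < 97812 → pointOk (k * 22) = true := between_extend pointOk 22 92070 97803 9 (p6u636) p6r637

theorem p6r638 : allRange pointOk 22 97812 9 = true := by decide +kernel
theorem p6u638 : ∀ k, 92070 ≤ k → k < 97821 → pointOk (k * 22) = true := between_extend pointOk 22 92070 97812 9 (p6u637) p6r638

theorem p6r639 : allRange pointOk 22 97821 9 = true := by decide +kernel
theorem p6u639 : ∀ k, 92070 ≤ k → k < 97830 → pointOk (k * 22) = true := between_extend pointOk 22 92070 97821 9 (p6u638) p6r639

theorem p6r640 : allRange pointOk 22 97830 9 = true := by decide +kernel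
theorem p6u640 : ∀ k, 92070 ≤ k → k < 97839 → pointOk (k * 22) = true := between_extend pointOk 22 92070 97830 9 (p6u639) p6r640

theorem p6r641 : allRange pointOk 22 97839 9 = true := by decide +kernel
theorem p6u641 : ∀ k, 92070 ≤ k → k < 97848 → pointOk (k * 22) = true := between_extend pointOk 22 92070 97839 9 (p6u640) p6r641

theorem p6r642 : allRange pointOk 22 97848 9 = true := by decide +kernel
theorem p6u642 : ∀ k, 92070 ≤ k → k < 97857 → pointOk (k * 22) = true := between_extend pointOk 22 92070 97848 9 (p6u641) p6r642

theorem p6r643 : allRange pointOk 22 97857 9 = true := by decide +kernel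
theorem p6u643 : ∀ k, 92070 ≤ k → k < 97866 → pointOk (k * 22) = true := between_extend pointOk 22 92070 97857 9 (p6u642) p6r643

theorem p6r644 : allRange pointOk 22 97866 9 = true := by decide +kernel
theorem p6u644 : ∀ k, 92070 ≤ k → k < 97875 → pointOk (k * 22) = true := between_extend pointOk 22 92070 97866 9 (p6u643) p6r644

theorem p6r645 : allRange pointOk 22 97875 9 = true := by decide +kernel
theorem p6u645 : ∀ k, 92070 ≤ k → k < 97884 → pointOk (k * 22) = true := between_extend pointOk 22 92070 97875 9 (p6u644) p6r645

theorem p6r646 : allRange pointOk 22 97884 9 = true := by decide +kernel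
theorem p6u646 : ∀ k, 92070 ≤ k → k < 97893 → pointOk (k * 22) = true := between_extend pointOk 22 92070 97884 9 (p6u645) p6r646

theorem p6r647 : allRange pointOk 22 97893 9 = true := by decide +kernel
theorem p6u647 : ∀ k, 92070 ≤ k → k < 97902 → pointOk (k * 22) = true := between_extend pointOk 22 92070 97893 9 (p6u646) p6r647

theorem p6r648 : allRange pointOk 22 97902 9 = true := by decide +kernel
theorem p6u648 : ∀ k, 92070 ≤ k → k < 97911 → pointOk (k * 22) = true := between_extend pointOk 22 92070 97902 9 (p6u647) p6r648

theorem p6r649 : allRange pointOk 22 97911 9 = true := by decide +kernel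
theorem p6u649 : ∀ k, 92070 ≤ k → k < 97920 → pointOk (k * 22) = true := between_extend pointOk 22 92070 97911 9 (p6u648) p6r649

theorem p6r650 : allRange pointOk 22 97920 9 = true := by decide +kernel
theorem p6u650 : ∀ k, 92070 ≤ k → k < 97929 → pointOk (k * 22) = true := between_extend pointOk 22 92070 97920 9 (p6u649) p6r650

theorem p6r651 : allRange pointOk 22 97929 9 = true := by decide +kernel
theorem p6u651 : ∀ k, 92070 ≤ k → k < 97938 → pointOk (k * 22) = true := between_extend pointOk 22 92070 97929 9 (p6u650) p6r651

theorem p6r652 : allRange pointOk 22 97938 9 = true := by decide +kernel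
theorem p6u652 : ∀ k, 92070 ≤ k → k < 97947 → pointOk (k * 22) = true := between_extend pointOk 22 92070 97938 9 (p6u651) p6r652

theorem p6r653 : allRange pointOk 22 97947 9 = true := by decide +kernel
theorem p6u653 : ∀ k, 92070 ≤ k → k < 97956 → pointOk (k * 22) = true := between_extend pointOk 22 92070 97947 9 (p6u652) p6r653

theorem p6r654 : allRange pointOk 22 97956 9 = true := by decide +kernel
theorem p6u654 : ∀ k, 92070 ≤ k → k < 97965 → pointOk (k * 22) = true := between_extend pointOk 22 92070 97956 9 (p6u653) p6r654

theorem p6r655 : allRange pointOk 22 97965 9 = true := by decide +kernel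
theorem p6u655 : ∀ k, 92070 ≤ k → k < 97974 → pointOk (k * 22) = true := between_extend pointOk 22 92070 97965 9 (p6u654) p6r655

theorem p6r656 : allRange pointOk 22 97974 9 = true := by decide +kernel
theorem p6u656 : ∀ k, 92070 ≤ k → k < 97983 → pointOk (k * 22) = true := between_extend pointOk 22 92070 97974 9 (p6u655) p6r656

theorem p6r657 : allRange pointOk 22 97983 9 = true := by decide +kernel
theorem p6u657 : ∀ k, 92070 ≤ k → k < 97992 → pointOk (k * 22) = true := between_extend pointOk 22 92070 97983 9 (p6u656) p6r657

theorem p6r658 : allRange pointOk 22 97992 9 = true := by decide +kernel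
theorem p6u658 : ∀ k, 92070 ≤ k → k < 98001 → pointOk (k * 22) = true := between_extend pointOk 22 92070 97992 9 (p6u657) p6r658

theorem p6r659 : allRange pointOk 22 98001 9 = true := by decide +kernel
theorem p6u659 : ∀ k, 92070 ≤ k → k < 98010 → pointOk (k * 22) = true := between_extend pointOk 22 92070 98001 9 (p6u658) p6r659

theorem p6r660 : allRange pointOk 22 98010 9 = true := by decide +kernel
theorem p6u660 : ∀ k, 92070 ≤ k → k < 98019 → pointOk (k * 22) = true := between_extend pointOk 22 92070 98010 9 (p6u659) p6r660

theorem p6r661 : allRange pointOk 22 98019 9 = true := by decide +kernel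
theorem p6u661 : ∀ k, 92070 ≤ k → k < 98028 → pointOk (k * 22) = true := between_extend pointOk 22 92070 98019 9 (p6u660) p6r661

theorem p6r662 : allRange pointOk 22 98028 9 = true := by decide +kernel
theorem p6u662 : ∀ k, 92070 ≤ k → k < 98037 → pointOk (k * 22) = true := between_extend pointOk 22 92070 98028 9 (p6u661) p6r662

theorem p6r663 : allRange pointOk 22 98037 9 = true := by decide +kernel
theorem p6u663 : ∀ k, 92070 ≤ k → k < 98046 → pointOk (k * 22) = true := between_extend pointOk 22 92070 98037 9 (p6u662) p6r663

theorem p6r664 : allRange pointOk 22 98046 9 = true := by decide +kernel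
theorem p6u664 : ∀ k, 92070 ≤ k → k < 98055 → pointOk (k * 22) = true := between_extend pointOk 22 92070 98046 9 (p6u663) p6r664

theorem p6r665 : allRange pointOk 22 98055 9 = true := by decide +kernel
theorem p6u665 : ∀ k, 92070 ≤ k → k < 98064 → pointOk (k * 22) = true := between_extend pointOk 22 92070 98055 9 (p6u664) p6r665

theorem p6r666 : allRange pointOk 22 98064 9 = true := by decide +kernel
theorem p6u666 : ∀ k, 92070 ≤ k → k < 98073 → pointOk (k * 22) = true := between_extend pointOk 22 92070 98064 9 (p6u665) p6r666

theorem p6r667 : allRange pointOk 22 98073 9 = true := by decide +kernel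
theorem p6u667 : ∀ k, 92070 ≤ k → k < 98082 → pointOk (k * 22) = true := between_extend pointOk 22 92070 98073 9 (p6u666) p6r667

theorem p6r668 : allRange pointOk 22 98082 9 = true := by decide +kernel
theorem p6u668 : ∀ k, 92070 ≤ k → k < 98091 → pointOk (k * 22) = true := between_extend pointOk 22 92070 98082 9 (p6u667) p6r668

theorem p6r669 : allRange pointOk 22 98091 9 = true := by decide +kernel
theorem p6u669 : ∀ k, 92070 ≤ k → k < 98100 → pointOk (k * 22) = true := between_extend pointOk 22 92070 98091 9 (p6u668) p6r669

theorem p6r670 : allRange pointOk 22 98100 9 = true := by decide +kernel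
theorem p6u670 : ∀ k, 92070 ≤ k → k < 98109 → pointOk (k * 22) = true := between_extend pointOk 22 92070 98100 9 (p6u669) p6r670

theorem p6r671 : allRange pointOk 22 98109 9 = true := by decide +kernel
theorem p6u671 : ∀ k, 92070 ≤ k → k < 98118 → pointOk (k * 22) = true := between_extend pointOk 22 92070 98109 9 (p6u670) p6r671

theorem p6r672 : allRange pointOk 22 98118 9 = true := by decide +kernel
theorem p6u672 : ∀ k, 92070 ≤ k → k < 98127 → pointOk (k * 22) = true := between_extend pointOk 22 92070 98118 9 (p6u671) p6r672

theorem p6r673 : allRange pointOk 22 98127 9 = true := by decide +kernel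
theorem p6u673 : ∀ k, 92070 ≤ k → k < 98136 → pointOk (k * 22) = true := between_extend pointOk 22 92070 98127 9 (p6u672) p6r673

theorem p6r674 : allRange pointOk 22 98136 9 = true := by decide +kernel
theorem p6u674 : ∀ k, 92070 ≤ k → k < 98145 → pointOk (k * 22) = true := between_extend pointOk 22 92070 98136 9 (p6u673) p6r674

theorem p6r675 : allRange pointOk 22 98145 9 = true := by decide +kernel
theorem p6u675 : ∀ k, 92070 ≤ k → k < 98154 → pointOk (k * 22) = true := between_extend pointOk 22 92070 98145 9 (p6u674) p6r675

theorem p6r676 : allRange pointOk 22 98154 9 = true := by decide +kernel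
theorem p6u676 : ∀ k, 92070 ≤ k → k < 98163 → pointOk (k * 22) = true := between_extend pointOk 22 92070 98154 9 (p6u675) p6r676

theorem p6r677 : allRange pointOk 22 98163 9 = true := by decide +kernel
theorem p6u677 : ∀ k, 92070 ≤ k → k < 98172 → pointOk (k * 22) = true := between_extend pointOk 22 92070 98163 9 (p6u676) p6r677

theorem p6r678 : allRange pointOk 22 98172 9 = true := by decide +kernel
theorem p6u678 : ∀ k, 92070 ≤ k → k < 98181 → pointOk (k * 22) = true := between_extend pointOk 22 92070 98172 9 (p6u677) p6r678

theorem p6r679 : allRange pointOk 22 98181 9 = true := by decide +kernel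
theorem p6u679 : ∀ k, 92070 ≤ k → k < 98190 → pointOk (k * 22) = true := between_extend pointOk 22 92070 98181 9 (p6u678) p6r679

theorem p6r680 : allRange pointOk 22 98190 9 = true := by decide +kernel
theorem p6u680 : ∀ k, 92070 ≤ k → k < 98199 → pointOk (k * 22) = true := between_extend pointOk 22 92070 98190 9 (p6u679) p6r680

theorem p6r681 : allRange pointOk 22 98199 9 = true := by decide +kernel
theorem p6u681 : ∀ k, 92070 ≤ k → k < 98208 → pointOk (k * 22) = true := between_extend pointOk 22 92070 98199 9 (p6u680) p6r681

theorem p6r682 : allRange pointOk 22 98208 9 = true := by decide +kernel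
theorem p6u682 : ∀ k, 92070 ≤ k → k < 98217 → pointOk (k * 22) = true := between_extend pointOk 22 92070 98208 9 (p6u681) p6r682

theorem p6r683 : allRange pointOk 22 98217 9 = true := by decide +kernel
theorem p6u683 : ∀ k, 92070 ≤ k → k < 98226 → pointOk (k * 22) = true := between_extend pointOk 22 92070 98217 9 (p6u682) p6r683

theorem p6r684 : allRange pointOk 22 98226 9 = true := by decide +kernel
theorem p6u684 : ∀ k, 92070 ≤ k → k < 98235 → pointOk (k * 22) = true := between_extend pointOk 22 92070 98226 9 (p6u683) p6r684

theorem p6r685 : allRange pointOk 22 98235 9 = true := by decide +kernel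
theorem p6u685 : ∀ k, 92070 ≤ k → k < 98244 → pointOk (k * 22) = true := between_extend pointOk 22 92070 98235 9 (p6u684) p6r685

theorem p6r686 : allRange pointOk 22 98244 9 = true := by decide +kernel
theorem p6u686 : ∀ k, 92070 ≤ k → k < 98253 → pointOk (k * 22) = true := between_extend pointOk 22 92070 98244 9 (p6u685) p6r686

theorem p6r687 : allRange pointOk 22 98253 9 = true := by decide +kernel
theorem p6u687 : ∀ k, 92070 ≤ k → k < 98262 → pointOk (k * 22) = true := between_extend pointOk 22 92070 98253 9 (p6u686) p6r687

theorem p6r688 : allRange pointOk 22 98262 9 = true := by decide +kernel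
theorem p6u688 : ∀ k, 92070 ≤ k → k < 98271 → pointOk (k * 22) = true := between_extend pointOk 22 92070 98262 9 (p6u687) p6r688

theorem p6r689 : allRange pointOk 22 98271 9 = true := by decide +kernel
theorem p6u689 : ∀ k, 92070 ≤ k → k < 98280 → pointOk (k * 22) = true := between_extend pointOk 22 92070 98271 9 (p6u688) p6r689

theorem p6r690 : allRange pointOk 22 98280 9 = true := by decide +kernel
theorem p6u690 : ∀ k, 92070 ≤ k → k < 98289 → pointOk (k * 22) = true := between_extend pointOk 22 92070 98280 9 (p6u689) p6r690

theorem p6r691 : allRange pointOk 22 98289 9 = true := by decide +kernel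
theorem p6u691 : ∀ k, 92070 ≤ k → k < 98298 → pointOk (k * 22) = true := between_extend pointOk 22 92070 98289 9 (p6u690) p6r691

theorem p6r692 : allRange pointOk 22 98298 9 = true := by decide +kernel
theorem p6u692 : ∀ k, 92070 ≤ k → k < 98307 → pointOk (k * 22) = true := between_extend pointOk 22 92070 98298 9 (p6u691) p6r692

theorem p6r693 : allRange pointOk 22 98307 9 = true := by decide +kernel
theorem p6u693 : ∀ k, 92070 ≤ k → k < 98316 → pointOk (k * 22) = true := between_extend pointOk 22 92070 98307 9 (p6u692) p6r693

theorem p6r694 : allRange pointOk 22 98316 9 = true := by decide +kernel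
theorem p6u694 : ∀ k, 92070 ≤ k → k < 98325 → pointOk (k * 22) = true := between_extend pointOk 22 92070 98316 9 (p6u693) p6r694

theorem p6r695 : allRange pointOk 22 98325 9 = true := by decide +kernel
theorem p6u695 : ∀ k, 92070 ≤ k → k < 98334 → pointOk (k * 22) = true := between_extend pointOk 22 92070 98325 9 (p6u694) p6r695

theorem p6r696 : allRange pointOk 22 98334 9 = true := by decide +kernel
theorem p6u696 : ∀ k, 92070 ≤ k → k < 98343 → pointOk (k * 22) = true := between_extend pointOk 22 92070 98334 9 (p6u695) p6r696

theorem p6r697 : allRange pointOk 22 98343 9 = true := by decide +kernel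
theorem p6u697 : ∀ k, 92070 ≤ k → k < 98352 → pointOk (k * 22) = true := between_extend pointOk 22 92070 98343 9 (p6u696) p6r697

theorem p6r698 : allRange pointOk 22 98352 9 = true := by decide +kernel
theorem p6u698 : ∀ k, 92070 ≤ k → k < 98361 → pointOk (k * 22) = true := between_extend pointOk 22 92070 98352 9 (p6u697) p6r698

theorem p6r699 : allRange pointOk 22 98361 9 = true := by decide +kernel
theorem p6u699 : ∀ k, 92070 ≤ k → k < 98370 → pointOk (k * 22) = true := between_extend pointOk 22 92070 98361 9 (p6u698) p6r699

theorem p6r700 : allRange pointOk 22 98370 9 = true := by decide +kernel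
theorem p6u700 : ∀ k, 92070 ≤ k → k < 98379 → pointOk (k * 22) = true := between_extend pointOk 22 92070 98370 9 (p6u699) p6r700

theorem p6r701 : allRange pointOk 22 98379 9 = true := by decide +kernel
theorem p6u701 : ∀ k, 92070 ≤ k → k < 98388 → pointOk (k * 22) = true := between_extend pointOk 22 92070 98379 9 (p6u700) p6r701

theorem p6r702 : allRange pointOk 22 98388 9 = true := by decide +kernel
theorem p6u702 : ∀ k, 92070 ≤ k → k < 98397 → pointOk (k * 22) = true := between_extend pointOk 22 92070 98388 9 (p6u701) p6r702

theorem p6r703 : allRange pointOk 22 98397 9 = true := by decide +kernel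
theorem p6u703 : ∀ k, 92070 ≤ k → k < 98406 → pointOk (k * 22) = true := between_extend pointOk 22 92070 98397 9 (p6u702) p6r703

theorem p6r704 : allRange pointOk 22 98406 9 = true := by decide +kernel
theorem p6u704 : ∀ k, 92070 ≤ k → k < 98415 → pointOk (k * 22) = true := between_extend pointOk 22 92070 98406 9 (p6u703) p6r704

theorem p6r705 : allRange pointOk 22 98415 9 = true := by decide +kernel
theorem p6u705 : ∀ k, 92070 ≤ k → k < 98424 → pointOk (k * 22) = true := between_extend pointOk 22 92070 98415 9 (p6u704) p6r705

theorem p6r706 : allRange pointOk 22 98424 9 = true := by decide +kernel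
theorem p6u706 : ∀ k, 92070 ≤ k → k < 98433 → pointOk (k * 22) = true := between_extend pointOk 22 92070 98424 9 (p6u705) p6r706

theorem p6r707 : allRange pointOk 22 98433 9 = true := by decide +kernel
theorem p6u707 : ∀ k, 92070 ≤ k → k < 98442 → pointOk (k * 22) = true := between_extend pointOk 22 92070 98433 9 (p6u706) p6r707

theorem p6r708 : allRange pointOk 22 98442 9 = true := by decide +kernel
theorem p6u708 : ∀ k, 92070 ≤ k → k < 98451 → pointOk (k * 22) = true := between_extend pointOk 22 92070 98442 9 (p6u707) p6r708

theorem p6r709 : allRange pointOk 22 98451 9 = true := by decide +kernel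
theorem p6u709 : ∀ k, 92070 ≤ k → k < 98460 → pointOk (k * 22) = true := between_extend pointOk 22 92070 98451 9 (p6u708) p6r709

theorem p6r710 : allRange pointOk 22 98460 9 = true := by decide +kernel
theorem p6u710 : ∀ k, 92070 ≤ k → k < 98469 → pointOk (k * 22) = true := between_extend pointOk 22 92070 98460 9 (p6u709) p6r710

theorem p6r711 : allRange pointOk 22 98469 9 = true := by decide +kernel
theorem p6u711 : ∀ k, 92070 ≤ k → k < 98478 → pointOk (k * 22) = true := between_extend pointOk 22 92070 98469 9 (p6u710) p6r711

theorem p6r712 : allRange pointOk 22 98478 9 = true := by decide +kernel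
theorem p6u712 : ∀ k, 92070 ≤ k → k < 98487 → pointOk (k * 22) = true := between_extend pointOk 22 92070 98478 9 (p6u711) p6r712

theorem p6r713 : allRange pointOk 22 98487 9 = true := by decide +kernel
theorem p6u713 : ∀ k, 92070 ≤ k → k < 98496 → pointOk (k * 22) = true := between_extend pointOk 22 92070 98487 9 (p6u712) p6r713

theorem p6r714 : allRange pointOk 22 98496 9 = true := by decide +kernel
theorem p6u714 : ∀ k, 92070 ≤ k → k < 98505 → pointOk (k * 22) = true := between_extend pointOk 22 92070 98496 9 (p6u713) p6r714

theorem p6r715 : allRange pointOk 22 98505 9 = true := by decide +kernel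
theorem p6u715 : ∀ k, 92070 ≤ k → k < 98514 → pointOk (k * 22) = true := between_extend pointOk 22 92070 98505 9 (p6u714) p6r715

theorem p6r716 : allRange pointOk 22 98514 9 = true := by decide +kernel
theorem p6u716 : ∀ k, 92070 ≤ k → k < 98523 → pointOk (k * 22) = true := between_extend pointOk 22 92070 98514 9 (p6u715) p6r716

theorem p6r717 : allRange pointOk 22 98523 9 = true := by decide +kernel
theorem p6u717 : ∀ k, 92070 ≤ k → k < 98532 → pointOk (k * 22) = true := between_extend pointOk 22 92070 98523 9 (p6u716) p6r717

theorem p6r718 : allRange pointOk 22 98532 9 = true := by decide +kernel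
theorem p6u718 : ∀ k, 92070 ≤ k → k < 98541 → pointOk (k * 22) = true := between_extend pointOk 22 92070 98532 9 (p6u717) p6r718

theorem p6r719 : allRange pointOk 22 98541 9 = true := by decide +kernel
theorem p6u719 : ∀ k, 92070 ≤ k → k < 98550 → pointOk (k * 22) = true := between_extend pointOk 22 92070 98541 9 (p6u718) p6r719

theorem p6r720 : allRange pointOk 22 98550 9 = true := by decide +kernel
theorem p6u720 : ∀ k, 92070 ≤ k → k < 98559 → pointOk (k * 22) = true := between_extend pointOk 22 92070 98550 9 (p6u719) p6r720

theorem p6r721 : allRange pointOk 22 98559 9 = true := by decide +kernel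
theorem p6u721 : ∀ k, 92070 ≤ k → k < 98568 → pointOk (k * 22) = true := between_extend pointOk 22 92070 98559 9 (p6u720) p6r721

theorem p6r722 : allRange pointOk 22 98568 9 = true := by decide +kernel
theorem p6u722 : ∀ k, 92070 ≤ k → k < 98577 → pointOk (k * 22) = true := between_extend pointOk 22 92070 98568 9 (p6u721) p6r722

theorem p6r723 : allRange pointOk 22 98577 9 = true := by decide +kernel
theorem p6u723 : ∀ k, 92070 ≤ k → k < 98586 → pointOk (k * 22) = true := between_extend pointOk 22 92070 98577 9 (p6u722) p6r723

theorem p6r724 : allRange pointOk 22 98586 9 = true := by decide +kernel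
theorem p6u724 : ∀ k, 92070 ≤ k → k < 98595 → pointOk (k * 22) = true := between_extend pointOk 22 92070 98586 9 (p6u723) p6r724

theorem p6r725 : allRange pointOk 22 98595 9 = true := by decide +kernel
theorem p6u725 : ∀ k, 92070 ≤ k → k < 98604 → pointOk (k * 22) = true := between_extend pointOk 22 92070 98595 9 (p6u724) p6r725

theorem p6r726 : allRange pointOk 22 98604 9 = true := by decide +kernel
theorem p6u726 : ∀ k, 92070 ≤ k → k < 98613 → pointOk (k * 22) = true := between_extend pointOk 22 92070 98604 9 (p6u725) p6r726

theorem p6r727 : allRange pointOk 22 98613 9 = true := by decide +kernel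
theorem p6u727 : ∀ k, 92070 ≤ k → k < 98622 → pointOk (k * 22) = true := between_extend pointOk 22 92070 98613 9 (p6u726) p6r727

theorem p6r728 : allRange pointOk 22 98622 9 = true := by decide +kernel
theorem p6u728 : ∀ k, 92070 ≤ k → k < 98631 → pointOk (k * 22) = true := between_extend pointOk 22 92070 98622 9 (p6u727) p6r728

theorem p6r729 : allRange pointOk 22 98631 9 = true := by decide +kernel
theorem p6u729 : ∀ k, 92070 ≤ k → k < 98640 → pointOk (k * 22) = true := between_extend pointOk 22 92070 98631 9 (p6u728) p6r729

theorem p6r730 : allRange pointOk 22 98640 9 = true := by decide +kernel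
theorem p6u730 : ∀ k, 92070 ≤ k → k < 98649 → pointOk (k * 22) = true := between_extend pointOk 22 92070 98640 9 (p6u729) p6r730

theorem p6r731 : allRange pointOk 22 98649 9 = true := by decide +kernel
theorem p6u731 : ∀ k, 92070 ≤ k → k < 98658 → pointOk (k * 22) = true := between_extend pointOk 22 92070 98649 9 (p6u730) p6r731

theorem p6r732 : allRange pointOk 22 98658 9 = true := by decide +kernel
theorem p6u732 : ∀ k, 92070 ≤ k → k < 98667 → pointOk (k * 22) = true := between_extend pointOk 22 92070 98658 9 (p6u731) p6r732

theorem p6r733 : allRange pointOk 22 98667 9 = true := by decide +kernel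
theorem p6u733 : ∀ k, 92070 ≤ k → k < 98676 → pointOk (k * 22) = true := between_extend pointOk 22 92070 98667 9 (p6u732) p6r733

theorem p6r734 : allRange pointOk 22 98676 9 = true := by decide +kernel
theorem p6u734 : ∀ k, 92070 ≤ k → k < 98685 → pointOk (k * 22) = true := between_extend pointOk 22 92070 98676 9 (p6u733) p6r734

theorem p6r735 : allRange pointOk 22 98685 9 = true := by decide +kernel
theorem p6u735 : ∀ k, 92070 ≤ k → k < 98694 → pointOk (k * 22) = true := between_extend pointOk 22 92070 98685 9 (p6u734) p6r735

theorem p6r736 : allRange pointOk 22 98694 9 = true := by decide +kernel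
theorem p6u736 : ∀ k, 92070 ≤ k → k < 98703 → pointOk (k * 22) = true := between_extend pointOk 22 92070 98694 9 (p6u735) p6r736

theorem p6r737 : allRange pointOk 22 98703 9 = true := by decide +kernel
theorem p6u737 : ∀ k, 92070 ≤ k → k < 98712 → pointOk (k * 22) = true := between_extend pointOk 22 92070 98703 9 (p6u736) p6r737

theorem p6r738 : allRange pointOk 22 98712 9 = true := by decide +kernel
theorem p6u738 : ∀ k, 92070 ≤ k → k < 98721 → pointOk (k * 22) = true := between_extend pointOk 22 92070 98712 9 (p6u737) p6r738

theorem p6r739 : allRange pointOk 22 98721 9 = true := by decide +kernel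
theorem p6u739 : ∀ k, 92070 ≤ k → k < 98730 → pointOk (k * 22) = true := between_extend pointOk 22 92070 98721 9 (p6u738) p6r739

theorem p6r740 : allRange pointOk 22 98730 9 = true := by decide +kernel
theorem p6u740 : ∀ k, 92070 ≤ k → k < 98739 → pointOk (k * 22) = true := between_extend pointOk 22 92070 98730 9 (p6u739) p6r740

theorem p6r741 : allRange pointOk 22 98739 9 = true := by decide +kernel
theorem p6u741 : ∀ k, 92070 ≤ k → k < 98748 → pointOk (k * 22) = true := between_extend pointOk 22 92070 98739 9 (p6u740) p6r741

theorem p6r742 : allRange pointOk 22 98748 9 = true := by decide +kernel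
theorem p6u742 : ∀ k, 92070 ≤ k → k < 98757 → pointOk (k * 22) = true := between_extend pointOk 22 92070 98748 9 (p6u741) p6r742

theorem p6r743 : allRange pointOk 22 98757 9 = true := by decide +kernel
theorem p6u743 : ∀ k, 92070 ≤ k → k < 98766 → pointOk (k * 22) = true := between_extend pointOk 22 92070 98757 9 (p6u742) p6r743

theorem p6r744 : allRange pointOk 22 98766 9 = true := by decide +kernel
theorem p6u744 : ∀ k, 92070 ≤ k → k < 98775 → pointOk (k * 22) = true := between_extend pointOk 22 92070 98766 9 (p6u743) p6r744

theorem p6r745 : allRange pointOk 22 98775 9 = true := by decide +kernel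
theorem p6u745 : ∀ k, 92070 ≤ k → k < 98784 → pointOk (k * 22) = true := between_extend pointOk 22 92070 98775 9 (p6u744) p6r745

theorem p6r746 : allRange pointOk 22 98784 9 = true := by decide +kernel
theorem p6u746 : ∀ k, 92070 ≤ k → k < 98793 → pointOk (k * 22) = true := between_extend pointOk 22 92070 98784 9 (p6u745) p6r746

theorem p6r747 : allRange pointOk 22 98793 9 = true := by decide +kernel
theorem p6u747 : ∀ k, 92070 ≤ k → k < 98802 → pointOk (k * 22) = true := between_extend pointOk 22 92070 98793 9 (p6u746) p6r747

theorem p6r748 : allRange pointOk 22 98802 9 = true := by decide +kernel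
theorem p6u748 : ∀ k, 92070 ≤ k → k < 98811 → pointOk (k * 22) = true := between_extend pointOk 22 92070 98802 9 (p6u747) p6r748

theorem p6r749 : allRange pointOk 22 98811 9 = true := by decide +kernel
theorem p6u749 : ∀ k, 92070 ≤ k → k < 98820 → pointOk (k * 22) = true := between_extend pointOk 22 92070 98811 9 (p6u748) p6r749

theorem p6r750 : allRange pointOk 22 98820 9 = true := by decide +kernel
theorem p6u750 : ∀ k, 92070 ≤ k → k < 98829 → pointOk (k * 22) = true := between_extend pointOk 22 92070 98820 9 (p6u749) p6r750

theorem p6r751 : allRange pointOk 22 98829 9 = true := by decide +kernel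
theorem p6u751 : ∀ k, 92070 ≤ k → k < 98838 → pointOk (k * 22) = true := between_extend pointOk 22 92070 98829 9 (p6u750) p6r751

theorem p6r752 : allRange pointOk 22 98838 9 = true := by decide +kernel
theorem p6u752 : ∀ k, 92070 ≤ k → k < 98847 → pointOk (k * 22) = true := between_extend pointOk 22 92070 98838 9 (p6u751) p6r752

theorem p6r753 : allRange pointOk 22 98847 9 = true := by decide +kernel
theorem p6u753 : ∀ k, 92070 ≤ k → k < 98856 → pointOk (k * 22) = true := between_extend pointOk 22 92070 98847 9 (p6u752) p6r753

theorem p6r754 : allRange pointOk 22 98856 9 = true := by decide +kernel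
theorem p6u754 : ∀ k, 92070 ≤ k → k < 98865 → pointOk (k * 22) = true := between_extend pointOk 22 92070 98856 9 (p6u753) p6r754

theorem p6r755 : allRange pointOk 22 98865 9 = true := by decide +kernel
theorem p6u755 : ∀ k, 92070 ≤ k → k < 98874 → pointOk (k * 22) = true := between_extend pointOk 22 92070 98865 9 (p6u754) p6r755

theorem p6r756 : allRange pointOk 22 98874 9 = true := by decide +kernel
theorem p6u756 : ∀ k, 92070 ≤ k → k < 98883 → pointOk (k * 22) = true := between_extend pointOk 22 92070 98874 9 (p6u755) p6r756

theorem p6r757 : allRange pointOk 22 98883 9 = true := by decide +kernel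
theorem p6u757 : ∀ k, 92070 ≤ k → k < 98892 → pointOk (k * 22) = true := between_extend pointOk 22 92070 98883 9 (p6u756) p6r757

theorem p6r758 : allRange pointOk 22 98892 9 = true := by decide +kernel
theorem p6u758 : ∀ k, 92070 ≤ k → k < 98901 → pointOk (k * 22) = true := between_extend pointOk 22 92070 98892 9 (p6u757) p6r758

theorem p6r759 : allRange pointOk 22 98901 9 = true := by decide +kernel
theorem p6u759 : ∀ k, 92070 ≤ k → k < 98910 → pointOk (k * 22) = true := between_extend pointOk 22 92070 98901 9 (p6u758) p6r759

theorem p6r760 : allRange pointOk 22 98910 9 = true := by decide +kernel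
theorem p6u760 : ∀ k, 92070 ≤ k → k < 98919 → pointOk (k * 22) = true := between_extend pointOk 22 92070 98910 9 (p6u759) p6r760

theorem p6r761 : allRange pointOk 22 98919 9 = true := by decide +kernel
theorem p6u761 : ∀ k, 92070 ≤ k → k < 98928 → pointOk (k * 22) = true := between_extend pointOk 22 92070 98919 9 (p6u760) p6r761

theorem p6r762 : allRange pointOk 22 98928 9 = true := by decide +kernel
theorem p6u762 : ∀ k, 92070 ≤ k → k < 98937 → pointOk (k * 22) = true := between_extend pointOk 22 92070 98928 9 (p6u761) p6r762

theorem p6r763 : allRange pointOk 22 98937 9 = true := by decide +kernel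
theorem p6u763 : ∀ k, 92070 ≤ k → k < 98946 → pointOk (k * 22) = true := between_extend pointOk 22 92070 98937 9 (p6u762) p6r763

theorem p6r764 : allRange pointOk 22 98946 9 = true := by decide +kernel
theorem p6u764 : ∀ k, 92070 ≤ k → k < 98955 → pointOk (k * 22) = true := between_extend pointOk 22 92070 98946 9 (p6u763) p6r764

theorem p6r765 : allRange pointOk 22 98955 9 = true := by decide +kernel
theorem p6u765 : ∀ k, 92070 ≤ k → k < 98964 → pointOk (k * 22) = true := between_extend pointOk 22 92070 98955 9 (p6u764) p6r765

theorem p6r766 : allRange pointOk 22 98964 9 = true := by decide +kernel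
theorem p6u766 : ∀ k, 92070 ≤ k → k < 98973 → pointOk (k * 22) = true := between_extend pointOk 22 92070 98964 9 (p6u765) p6r766

theorem p6r767 : allRange pointOk 22 98973 9 = true := by decide +kernel
theorem p6u767 : ∀ k, 92070 ≤ k → k < 98982 → pointOk (k * 22) = true := between_extend pointOk 22 92070 98973 9 (p6u766) p6r767

theorem p6r768 : allRange pointOk 22 98982 9 = true := by decide +kernel
theorem p6u768 : ∀ k, 92070 ≤ k → k < 98991 → pointOk (k * 22) = true := between_extend pointOk 22 92070 98982 9 (p6u767) p6r768

theorem p6r769 : allRange pointOk 22 98991 9 = true := by decide +kernel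
theorem p6u769 : ∀ k, 92070 ≤ k → k < 99000 → pointOk (k * 22) = true := between_extend pointOk 22 92070 98991 9 (p6u768) p6r769

theorem p6r770 : allRange pointOk 22 99000 9 = true := by decide +kernel
theorem p6u770 : ∀ k, 92070 ≤ k → k < 99009 → pointOk (k * 22) = true := between_extend pointOk 22 92070 99000 9 (p6u769) p6r770

theorem p6r771 : allRange pointOk 22 99009 9 = true := by decide +kernel
theorem p6u771 : ∀ k, 92070 ≤ k → k < 99018 → pointOk (k * 22) = true := between_extend pointOk 22 92070 99009 9 (p6u770) p6r771

theorem p6r772 : allRange pointOk 22 99018 9 = true := by decide +kernel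
theorem p6u772 : ∀ k, 92070 ≤ k → k < 99027 → pointOk (k * 22) = true := between_extend pointOk 22 92070 99018 9 (p6u771) p6r772

theorem p6r773 : allRange pointOk 22 99027 9 = true := by decide +kernel
theorem p6u773 : ∀ k, 92070 ≤ k → k < 99036 → pointOk (k * 22) = true := between_extend pointOk 22 92070 99027 9 (p6u772) p6r773

theorem p6r774 : allRange pointOk 22 99036 9 = true := by decide +kernel
theorem p6u774 : ∀ k, 92070 ≤ k → k < 99045 → pointOk (k * 22) = true := between_extend pointOk 22 92070 99036 9 (p6u773) p6r774

theorem p6r775 : allRange pointOk 22 99045 9 = true := by decide +kernel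
theorem p6u775 : ∀ k, 92070 ≤ k → k < 99054 → pointOk (k * 22) = true := between_extend pointOk 22 92070 99045 9 (p6u774) p6r775

theorem p6r776 : allRange pointOk 22 99054 9 = true := by decide +kernel
theorem p6u776 : ∀ k, 92070 ≤ k → k < 99063 → pointOk (k * 22) = true := between_extend pointOk 22 92070 99054 9 (p6u775) p6r776

theorem p6r777 : allRange pointOk 22 99063 9 = true := by decide +kernel
theorem p6u777 : ∀ k, 92070 ≤ k → k < 99072 → pointOk (k * 22) = true := between_extend pointOk 22 92070 99063 9 (p6u776) p6r777

theorem p6r778 : allRange pointOk 22 99072 9 = true := by decide +kernel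
theorem p6u778 : ∀ k, 92070 ≤ k → k < 99081 → pointOk (k * 22) = true := between_extend pointOk 22 92070 99072 9 (p6u777) p6r778

theorem p6r779 : allRange pointOk 22 99081 9 = true := by decide +kernel
theorem p6u779 : ∀ k, 92070 ≤ k → k < 99090 → pointOk (k * 22) = true := between_extend pointOk 22 92070 99081 9 (p6u778) p6r779

theorem p6r780 : allRange pointOk 22 99090 9 = true := by decide +kernel
theorem p6u780 : ∀ k, 92070 ≤ k → k < 99099 → pointOk (k * 22) = true := between_extend pointOk 22 92070 99090 9 (p6u779) p6r780

theorem p6r781 : allRange pointOk 22 99099 9 = true := by decide +kernel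
theorem p6u781 : ∀ k, 92070 ≤ k → k < 99108 → pointOk (k * 22) = true := between_extend pointOk 22 92070 99099 9 (p6u780) p6r781

theorem p6r782 : allRange pointOk 22 99108 9 = true := by decide +kernel
theorem p6u782 : ∀ k, 92070 ≤ k → k < 99117 → pointOk (k * 22) = true := between_extend pointOk 22 92070 99108 9 (p6u781) p6r782

theorem p6r783 : allRange pointOk 22 99117 9 = true := by decide +kernel
theorem p6u783 : ∀ k, 92070 ≤ k → k < 99126 → pointOk (k * 22) = true := between_extend pointOk 22 92070 99117 9 (p6u782) p6r783

theorem p6r784 : allRange pointOk 22 99126 9 = true := by decide +kernel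
theorem p6u784 : ∀ k, 92070 ≤ k → k < 99135 → pointOk (k * 22) = true := between_extend pointOk 22 92070 99126 9 (p6u783) p6r784

theorem p6r785 : allRange pointOk 22 99135 9 = true := by decide +kernel
theorem p6u785 : ∀ k, 92070 ≤ k → k < 99144 → pointOk (k * 22) = true := between_extend pointOk 22 92070 99135 9 (p6u784) p6r785

theorem p6r786 : allRange pointOk 22 99144 9 = true := by decide +kernel
theorem p6u786 : ∀ k, 92070 ≤ k → k < 99153 → pointOk (k * 22) = true := between_extend pointOk 22 92070 99144 9 (p6u785) p6r786

theorem p6r787 : allRange pointOk 22 99153 9 = true := by decide +kernel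
theorem p6u787 : ∀ k, 92070 ≤ k → k < 99162 → pointOk (k * 22) = true := between_extend pointOk 22 92070 99153 9 (p6u786) p6r787

theorem p6r788 : allRange pointOk 22 99162 9 = true := by decide +kernel
theorem p6u788 : ∀ k, 92070 ≤ k → k < 99171 → pointOk (k * 22) = true := between_extend pointOk 22 92070 99162 9 (p6u787) p6r788

theorem p6r789 : allRange pointOk 22 99171 9 = true := by decide +kernel
theorem p6u789 : ∀ k, 92070 ≤ k → k < 99180 → pointOk (k * 22) = true := between_extend pointOk 22 92070 99171 9 (p6u788) p6r789

theorem p6r790 : allRange pointOk 22 99180 9 = true := by decide +kernel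
theorem p6u790 : ∀ k, 92070 ≤ k → k < 99189 → pointOk (k * 22) = true := between_extend pointOk 22 92070 99180 9 (p6u789) p6r790

theorem p6r791 : allRange pointOk 22 99189 9 = true := by decide +kernel
theorem p6u791 : ∀ k, 92070 ≤ k → k < 99198 → pointOk (k * 22) = true := between_extend pointOk 22 92070 99189 9 (p6u790) p6r791

theorem p6r792 : allRange pointOk 22 99198 9 = true := by decide +kernel
theorem p6u792 : ∀ k, 92070 ≤ k → k < 99207 → pointOk (k * 22) = true := between_extend pointOk 22 92070 99198 9 (p6u791) p6r792

theorem p6r793 : allRange pointOk 22 99207 9 = true := by decide +kernel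
theorem p6u793 : ∀ k, 92070 ≤ k → k < 99216 → pointOk (k * 22) = true := between_extend pointOk 22 92070 99207 9 (p6u792) p6r793

theorem p6r794 : allRange pointOk 22 99216 9 = true := by decide +kernel
theorem p6u794 : ∀ k, 92070 ≤ k → k < 99225 → pointOk (k * 22) = true := between_extend pointOk 22 92070 99216 9 (p6u793) p6r794

theorem p6r795 : allRange pointOk 22 99225 9 = true := by decide +kernel
theorem p6u795 : ∀ k, 92070 ≤ k → k < 99234 → pointOk (k * 22) = true := between_extend pointOk 22 92070 99225 9 (p6u794) p6r795

theorem p6r796 : allRange pointOk 22 99234 9 = true := by decide +kernel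
theorem p6u796 : ∀ k, 92070 ≤ k → k < 99243 → pointOk (k * 22) = true := between_extend pointOk 22 92070 99234 9 (p6u795) p6r796

theorem p6r797 : allRange pointOk 22 99243 9 = true := by decide +kernel
theorem p6u797 : ∀ k, 92070 ≤ k → k < 99252 → pointOk (k * 22) = true := between_extend pointOk 22 92070 99243 9 (p6u796) p6r797

theorem p6r798 : allRange pointOk 22 99252 9 = true := by decide +kernel
theorem p6u798 : ∀ k, 92070 ≤ k → k < 99261 → pointOk (k * 22) = true := between_extend pointOk 22 92070 99252 9 (p6u797) p6r798

theorem p6r799 : allRange pointOk 22 99261 9 = true := by decide +kernel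
theorem p6u799 : ∀ k, 92070 ≤ k → k < 99270 → pointOk (k * 22) = true := between_extend pointOk 22 92070 99261 9 (p6u798) p6r799

theorem p6r800 : allRange pointOk 22 99270 9 = true := by decide +kernel
theorem p6u800 : ∀ k, 92070 ≤ k → k < 99279 → pointOk (k * 22) = true := between_extend pointOk 22 92070 99270 9 (p6u799) p6r800

theorem p6r801 : allRange pointOk 22 99279 9 = true := by decide +kernel
theorem p6u801 : ∀ k, 92070 ≤ k → k < 99288 → pointOk (k * 22) = true := between_extend pointOk 22 92070 99279 9 (p6u800) p6r801

theorem p6r802 : allRange pointOk 22 99288 9 = true := by decide +kernel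
theorem p6u802 : ∀ k, 92070 ≤ k → k < 99297 → pointOk (k * 22) = true := between_extend pointOk 22 92070 99288 9 (p6u801) p6r802

theorem p6r803 : allRange pointOk 22 99297 9 = true := by decide +kernel
theorem p6u803 : ∀ k, 92070 ≤ k → k < 99306 → pointOk (k * 22) = true := between_extend pointOk 22 92070 99297 9 (p6u802) p6r803

theorem p6r804 : allRange pointOk 22 99306 9 = true := by decide +kernel
theorem p6u804 : ∀ k, 92070 ≤ k → k < 99315 → pointOk (k * 22) = true := between_extend pointOk 22 92070 99306 9 (p6u803) p6r804

theorem p6r805 : allRange pointOk 22 99315 9 = true := by decide +kernel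
theorem p6u805 : ∀ k, 92070 ≤ k → k < 99324 → pointOk (k * 22) = true := between_extend pointOk 22 92070 99315 9 (p6u804) p6r805

theorem p6r806 : allRange pointOk 22 99324 9 = true := by decide +kernel
theorem p6u806 : ∀ k, 92070 ≤ k → k < 99333 → pointOk (k * 22) = true := between_extend pointOk 22 92070 99324 9 (p6u805) p6r806

theorem p6r807 : allRange pointOk 22 99333 9 = true := by decide +kernel
theorem p6u807 : ∀ k, 92070 ≤ k → k < 99342 → pointOk (k * 22) = true := between_extend pointOk 22 92070 99333 9 (p6u806) p6r807

theorem p6r808 : allRange pointOk 22 99342 9 = true := by decide +kernel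
theorem p6u808 : ∀ k, 92070 ≤ k → k < 99351 → pointOk (k * 22) = true := between_extend pointOk 22 92070 99342 9 (p6u807) p6r808

theorem p6r809 : allRange pointOk 22 99351 9 = true := by decide +kernel
theorem p6u809 : ∀ k, 92070 ≤ k → k < 99360 → pointOk (k * 22) = true := between_extend pointOk 22 92070 99351 9 (p6u808) p6r809

theorem p6r810 : allRange pointOk 22 99360 9 = true := by decide +kernel
theorem p6u810 : ∀ k, 92070 ≤ k → k < 99369 → pointOk (k * 22) = true := between_extend pointOk 22 92070 99360 9 (p6u809) p6r810

theorem p6r811 : allRange pointOk 22 99369 9 = true := by decide +kernel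
theorem p6u811 : ∀ k, 92070 ≤ k → k < 99378 → pointOk (k * 22) = true := between_extend pointOk 22 92070 99369 9 (p6u810) p6r811

theorem p6r812 : allRange pointOk 22 99378 9 = true := by decide +kernel
theorem p6u812 : ∀ k, 92070 ≤ k → k < 99387 → pointOk (k * 22) = true := between_extend pointOk 22 92070 99378 9 (p6u811) p6r812

theorem p6r813 : allRange pointOk 22 99387 9 = true := by decide +kernel
theorem p6u813 : ∀ k, 92070 ≤ k → k < 99396 → pointOk (k * 22) = true := between_extend pointOk 22 92070 99387 9 (p6u812) p6r813

theorem p6r814 : allRange pointOk 22 99396 9 = true := by decide +kernel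
theorem p6u814 : ∀ k, 92070 ≤ k → k < 99405 → pointOk (k * 22) = true := between_extend pointOk 22 92070 99396 9 (p6u813) p6r814

theorem p6r815 : allRange pointOk 22 99405 9 = true := by decide +kernel
theorem p6u815 : ∀ k, 92070 ≤ k → k < 99414 → pointOk (k * 22) = true := between_extend pointOk 22 92070 99405 9 (p6u814) p6r815

theorem p6r816 : allRange pointOk 22 99414 9 = true := by decide +kernel
theorem p6u816 : ∀ k, 92070 ≤ k → k < 99423 → pointOk (k * 22) = true := between_extend pointOk 22 92070 99414 9 (p6u815) p6r816

theorem p6r817 : allRange pointOk 22 99423 9 = true := by decide +kernel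
theorem p6u817 : ∀ k, 92070 ≤ k → k < 99432 → pointOk (k * 22) = true := between_extend pointOk 22 92070 99423 9 (p6u816) p6r817

theorem p6r818 : allRange pointOk 22 99432 9 = true := by decide +kernel
theorem p6u818 : ∀ k, 92070 ≤ k → k < 99441 → pointOk (k * 22) = true := between_extend pointOk 22 92070 99432 9 (p6u817) p6r818

theorem p6r819 : allRange pointOk 22 99441 9 = true := by decide +kernel
theorem p6u819 : ∀ k, 92070 ≤ k → k < 99450 → pointOk (k * 22) = true := between_extend pointOk 22 92070 99441 9 (p6u818) p6r819

theorem p6r820 : allRange pointOk 22 99450 9 = true := by decide +kernel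
theorem p6u820 : ∀ k, 92070 ≤ k → k < 99459 → pointOk (k * 22) = true := between_extend pointOk 22 92070 99450 9 (p6u819) p6r820

theorem p6r821 : allRange pointOk 22 99459 9 = true := by decide +kernel
theorem p6u821 : ∀ k, 92070 ≤ k → k < 99468 → pointOk (k * 22) = true := between_extend pointOk 22 92070 99459 9 (p6u820) p6r821

theorem p6r822 : allRange pointOk 22 99468 9 = true := by decide +kernel
theorem p6u822 : ∀ k, 92070 ≤ k → k < 99477 → pointOk (k * 22) = true := between_extend pointOk 22 92070 99468 9 (p6u821) p6r822

theorem p6r823 : allRange pointOk 22 99477 9 = true := by decide +kernel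
theorem p6u823 : ∀ k, 92070 ≤ k → k < 99486 → pointOk (k * 22) = true := between_extend pointOk 22 92070 99477 9 (p6u822) p6r823

theorem p6r824 : allRange pointOk 22 99486 9 = true := by decide +kernel
theorem p6u824 : ∀ k, 92070 ≤ k → k < 99495 → pointOk (k * 22) = true := between_extend pointOk 22 92070 99486 9 (p6u823) p6r824

theorem p6r825 : allRange pointOk 22 99495 9 = true := by decide +kernel
theorem p6u825 : ∀ k, 92070 ≤ k → k < 99504 → pointOk (k * 22) = true := between_extend pointOk 22 92070 99495 9 (p6u824) p6r825

theorem p6r826 : allRange pointOk 22 99504 9 = true := by decide +kernel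
theorem p6u826 : ∀ k, 92070 ≤ k → k < 99513 → pointOk (k * 22) = true := between_extend pointOk 22 92070 99504 9 (p6u825) p6r826

theorem p6r827 : allRange pointOk 22 99513 9 = true := by decide +kernel
theorem p6u827 : ∀ k, 92070 ≤ k → k < 99522 → pointOk (k * 22) = true := between_extend pointOk 22 92070 99513 9 (p6u826) p6r827

theorem p6r828 : allRange pointOk 22 99522 9 = true := by decide +kernel
theorem p6u828 : ∀ k, 92070 ≤ k → k < 99531 → pointOk (k * 22) = true := between_extend pointOk 22 92070 99522 9 (p6u827) p6r828

theorem p6r829 : allRange pointOk 22 99531 9 = true := by decide +kernel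
theorem p6u829 : ∀ k, 92070 ≤ k → k < 99540 → pointOk (k * 22) = true := between_extend pointOk 22 92070 99531 9 (p6u828) p6r829

theorem p6r830 : allRange pointOk 22 99540 9 = true := by decide +kernel
theorem p6u830 : ∀ k, 92070 ≤ k → k < 99549 → pointOk (k * 22) = true := between_extend pointOk 22 92070 99540 9 (p6u829) p6r830

theorem p6r831 : allRange pointOk 22 99549 9 = true := by decide +kernel
theorem p6u831 : ∀ k, 92070 ≤ k → k < 99558 → pointOk (k * 22) = true := between_extend pointOk 22 92070 99549 9 (p6u830) p6r831

theorem p6r832 : allRange pointOk 22 99558 9 = true := by decide +kernel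
theorem p6u832 : ∀ k, 92070 ≤ k → k < 99567 → pointOk (k * 22) = true := between_extend pointOk 22 92070 99558 9 (p6u831) p6r832

theorem p6r833 : allRange pointOk 22 99567 9 = true := by decide +kernel
theorem p6u833 : ∀ k, 92070 ≤ k → k < 99576 → pointOk (k * 22) = true := between_extend pointOk 22 92070 99567 9 (p6u832) p6r833

theorem p6r834 : allRange pointOk 22 99576 9 = true := by decide +kernel
theorem p6u834 : ∀ k, 92070 ≤ k → k < 99585 → pointOk (k * 22) = true := between_extend pointOk 22 92070 99576 9 (p6u833) p6r834

theorem p6r835 : allRange pointOk 22 99585 9 = true := by decide +kernel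
theorem p6u835 : ∀ k, 92070 ≤ k → k < 99594 → pointOk (k * 22) = true := between_extend pointOk 22 92070 99585 9 (p6u834) p6r835

theorem p6r836 : allRange pointOk 22 99594 9 = true := by decide +kernel
theorem p6u836 : ∀ k, 92070 ≤ k → k < 99603 → pointOk (k * 22) = true := between_extend pointOk 22 92070 99594 9 (p6u835) p6r836

theorem p6r837 : allRange pointOk 22 99603 9 = true := by decide +kernel
theorem p6u837 : ∀ k, 92070 ≤ k → k < 99612 → pointOk (k * 22) = true := between_extend pointOk 22 92070 99603 9 (p6u836) p6r837

theorem p6r838 : allRange pointOk 22 99612 9 = true := by decide +kernel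
theorem p6u838 : ∀ k, 92070 ≤ k → k < 99621 → pointOk (k * 22) = true := between_extend pointOk 22 92070 99612 9 (p6u837) p6r838

theorem p6r839 : allRange pointOk 22 99621 9 = true := by decide +kernel
theorem p6u839 : ∀ k, 92070 ≤ k → k < 99630 → pointOk (k * 22) = true := between_extend pointOk 22 92070 99621 9 (p6u838) p6r839

theorem p6r840 : allRange pointOk 22 99630 9 = true := by decide +kernel
theorem p6u840 : ∀ k, 92070 ≤ k → k < 99639 → pointOk (k * 22) = true := between_extend pointOk 22 92070 99630 9 (p6u839) p6r840

theorem p6r841 : allRange pointOk 22 99639 9 = true := by decide +kernel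
theorem p6u841 : ∀ k, 92070 ≤ k → k < 99648 → pointOk (k * 22) = true := between_extend pointOk 22 92070 99639 9 (p6u840) p6r841

theorem p6r842 : allRange pointOk 22 99648 9 = true := by decide +kernel
theorem p6u842 : ∀ k, 92070 ≤ k → k < 99657 → pointOk (k * 22) = true := between_extend pointOk 22 92070 99648 9 (p6u841) p6r842

theorem p6r843 : allRange pointOk 22 99657 9 = true := by decide +kernel
theorem p6u843 : ∀ k, 92070 ≤ k → k < 99666 → pointOk (k * 22) = true := between_extend pointOk 22 92070 99657 9 (p6u842) p6r843

theorem p6r844 : allRange pointOk 22 99666 9 = true := by decide +kernel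
theorem p6u844 : ∀ k, 92070 ≤ k → k < 99675 → pointOk (k * 22) = true := between_extend pointOk 22 92070 99666 9 (p6u843) p6r844

theorem p6r845 : allRange pointOk 22 99675 9 = true := by decide +kernel
theorem p6u845 : ∀ k, 92070 ≤ k → k < 99684 → pointOk (k * 22) = true := between_extend pointOk 22 92070 99675 9 (p6u844) p6r845

theorem p6r846 : allRange pointOk 22 99684 9 = true := by decide +kernel
theorem p6u846 : ∀ k, 92070 ≤ k → k < 99693 → pointOk (k * 22) = true := between_extend pointOk 22 92070 99684 9 (p6u845) p6r846

theorem p6r847 : allRange pointOk 22 99693 9 = true := by decide +kernel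
theorem p6u847 : ∀ k, 92070 ≤ k → k < 99702 → pointOk (k * 22) = true := between_extend pointOk 22 92070 99693 9 (p6u846) p6r847

theorem p6r848 : allRange pointOk 22 99702 9 = true := by decide +kernel
theorem p6u848 : ∀ k, 92070 ≤ k → k < 99711 → pointOk (k * 22) = true := between_extend pointOk 22 92070 99702 9 (p6u847) p6r848

theorem p6r849 : allRange pointOk 22 99711 9 = true := by decide +kernel
theorem p6u849 : ∀ k, 92070 ≤ k → k < 99720 → pointOk (k * 22) = true := between_extend pointOk 22 92070 99711 9 (p6u848) p6r849

theorem p6r850 : allRange pointOk 22 99720 9 = true := by decide +kernel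
theorem p6u850 : ∀ k, 92070 ≤ k → k < 99729 → pointOk (k * 22) = true := between_extend pointOk 22 92070 99720 9 (p6u849) p6r850

theorem p6r851 : allRange pointOk 22 99729 9 = true := by decide +kernel
theorem p6u851 : ∀ k, 92070 ≤ k → k < 99738 → pointOk (k * 22) = true := between_extend pointOk 22 92070 99729 9 (p6u850) p6r851

theorem p6r852 : allRange pointOk 22 99738 9 = true := by decide +kernel
theorem p6u852 : ∀ k, 92070 ≤ k → k < 99747 → pointOk (k * 22) = true := between_extend pointOk 22 92070 99738 9 (p6u851) p6r852

theorem p6r853 : allRange pointOk 22 99747 9 = true := by decide +kernel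
theorem p6u853 : ∀ k, 92070 ≤ k → k < 99756 → pointOk (k * 22) = true := between_extend pointOk 22 92070 99747 9 (p6u852) p6r853

theorem p6r854 : allRange pointOk 22 99756 9 = true := by decide +kernel
theorem p6u854 : ∀ k, 92070 ≤ k → k < 99765 → pointOk (k * 22) = true := between_extend pointOk 22 92070 99756 9 (p6u853) p6r854

theorem p6r855 : allRange pointOk 22 99765 9 = true := by decide +kernel
theorem p6u855 : ∀ k, 92070 ≤ k → k < 99774 → pointOk (k * 22) = true := between_extend pointOk 22 92070 99765 9 (p6u854) p6r855

theorem p6r856 : allRange pointOk 22 99774 9 = true := by decide +kernel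
theorem p6u856 : ∀ k, 92070 ≤ k → k < 99783 → pointOk (k * 22) = true := between_extend pointOk 22 92070 99774 9 (p6u855) p6r856

theorem p6r857 : allRange pointOk 22 99783 9 = true := by decide +kernel
theorem p6u857 : ∀ k, 92070 ≤ k → k < 99792 → pointOk (k * 22) = true := between_extend pointOk 22 92070 99783 9 (p6u856) p6r857

theorem p6r858 : allRange pointOk 22 99792 9 = true := by decide +kernel
theorem p6u858 : ∀ k, 92070 ≤ k → k < 99801 → pointOk (k * 22) = true := between_extend pointOk 22 92070 99792 9 (p6u857) p6r858

theorem p6r859 : allRange pointOk 22 99801 9 = true := by decide +kernel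
theorem p6u859 : ∀ k, 92070 ≤ k → k < 99810 → pointOk (k * 22) = true := between_extend pointOk 22 92070 99801 9 (p6u858) p6r859

theorem p6r860 : allRange pointOk 22 99810 9 = true := by decide +kernel
theorem p6u860 : ∀ k, 92070 ≤ k → k < 99819 → pointOk (k * 22) = true := between_extend pointOk 22 92070 99810 9 (p6u859) p6r860

theorem p6r861 : allRange pointOk 22 99819 9 = true := by decide +kernel
theorem p6u861 : ∀ k, 92070 ≤ k → k < 99828 → pointOk (k * 22) = true := between_extend pointOk 22 92070 99819 9 (p6u860) p6r861

theorem p6r862 : allRange pointOk 22 99828 9 = true := by decide +kernel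
theorem p6u862 : ∀ k, 92070 ≤ k → k < 99837 → pointOk (k * 22) = true := between_extend pointOk 22 92070 99828 9 (p6u861) p6r862

theorem p6r863 : allRange pointOk 22 99837 9 = true := by decide +kernel
theorem p6u863 : ∀ k, 92070 ≤ k → k < 99846 → pointOk (k * 22) = true := between_extend pointOk 22 92070 99837 9 (p6u862) p6r863

theorem p6r864 : allRange pointOk 22 99846 9 = true := by decide +kernel
theorem p6u864 : ∀ k, 92070 ≤ k → k < 99855 → pointOk (k * 22) = true := between_extend pointOk 22 92070 99846 9 (p6u863) p6r864

theorem p6r865 : allRange pointOk 22 99855 9 = true := by decide +kernel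
theorem p6u865 : ∀ k, 92070 ≤ k → k < 99864 → pointOk (k * 22) = true := between_extend pointOk 22 92070 99855 9 (p6u864) p6r865

theorem p6r866 : allRange pointOk 22 99864 9 = true := by decide +kernel
theorem p6u866 : ∀ k, 92070 ≤ k → k < 99873 → pointOk (k * 22) = true := between_extend pointOk 22 92070 99864 9 (p6u865) p6r866

theorem p6r867 : allRange pointOk 22 99873 9 = true := by decide +kernel
theorem p6u867 : ∀ k, 92070 ≤ k → k < 99882 → pointOk (k * 22) = true := between_extend pointOk 22 92070 99873 9 (p6u866) p6r867

theorem p6r868 : allRange pointOk 22 99882 9 = true := by decide +kernel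
theorem p6u868 : ∀ k, 92070 ≤ k → k < 99891 → pointOk (k * 22) = true := between_extend pointOk 22 92070 99882 9 (p6u867) p6r868

theorem p6r869 : allRange pointOk 22 99891 9 = true := by decide +kernel
theorem p6u869 : ∀ k, 92070 ≤ k → k < 99900 → pointOk (k * 22) = true := between_extend pointOk 22 92070 99891 9 (p6u868) p6r869

theorem p6r870 : allRange pointOk 22 99900 9 = true := by decide +kernel
theorem p6u870 : ∀ k, 92070 ≤ k → k < 99909 → pointOk (k * 22) = true := between_extend pointOk 22 92070 99900 9 (p6u869) p6r870

theorem p6r871 : allRange pointOk 22 99909 9 = true := by decide +kernel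
theorem p6u871 : ∀ k, 92070 ≤ k → k < 99918 → pointOk (k * 22) = true := between_extend pointOk 22 92070 99909 9 (p6u870) p6r871

theorem p6r872 : allRange pointOk 22 99918 9 = true := by decide +kernel
theorem p6u872 : ∀ k, 92070 ≤ k → k < 99927 → pointOk (k * 22) = true := between_extend pointOk 22 92070 99918 9 (p6u871) p6r872

theorem p6r873 : allRange pointOk 22 99927 9 = true := by decide +kernel
theorem p6u873 : ∀ k, 92070 ≤ k → k < 99936 → pointOk (k * 22) = true := between_extend pointOk 22 92070 99927 9 (p6u872) p6r873

theorem p6r874 : allRange pointOk 22 99936 9 = true := by decide +kernel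
theorem p6u874 : ∀ k, 92070 ≤ k → k < 99945 → pointOk (k * 22) = true := between_extend pointOk 22 92070 99936 9 (p6u873) p6r874

theorem p6r875 : allRange pointOk 22 99945 9 = true := by decide +kernel
theorem p6u875 : ∀ k, 92070 ≤ k → k < 99954 → pointOk (k * 22) = true := between_extend pointOk 22 92070 99945 9 (p6u874) p6r875

theorem p6r876 : allRange pointOk 22 99954 9 = true := by decide +kernel
theorem p6u876 : ∀ k, 92070 ≤ k → k < 99963 → pointOk (k * 22) = true := between_extend pointOk 22 92070 99954 9 (p6u875) p6r876

theorem p6r877 : allRange pointOk 22 99963 9 = true := by decide +kernel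
theorem p6u877 : ∀ k, 92070 ≤ k → k < 99972 → pointOk (k * 22) = true := between_extend pointOk 22 92070 99963 9 (p6u876) p6r877

theorem p6r878 : allRange pointOk 22 99972 9 = true := by decide +kernel
theorem p6u878 : ∀ k, 92070 ≤ k → k < 99981 → pointOk (k * 22) = true := between_extend pointOk 22 92070 99972 9 (p6u877) p6r878

theorem p6r879 : allRange pointOk 22 99981 9 = true := by decide +kernel
theorem p6u879 : ∀ k, 92070 ≤ k → k < 99990 → pointOk (k * 22) = true := between_extend pointOk 22 92070 99981 9 (p6u878) p6r879

theorem p6r880 : allRange pointOk 22 99990 9 = true := by decide +kernel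
theorem p6u880 : ∀ k, 92070 ≤ k → k < 99999 → pointOk (k * 22) = true := between_extend pointOk 22 92070 99990 9 (p6u879) p6r880

theorem p6r881 : allRange pointOk 22 99999 9 = true := by decide +kernel
theorem p6u881 : ∀ k, 92070 ≤ k → k < 100008 → pointOk (k * 22) = true := between_extend pointOk 22 92070 99999 9 (p6u880) p6r881

theorem p6r882 : allRange pointOk 22 100008 9 = true := by decide +kernel
theorem p6u882 : ∀ k, 92070 ≤ k → k < 100017 → pointOk (k * 22) = true := between_extend pointOk 22 92070 100008 9 (p6u881) p6r882

theorem p6r883 : allRange pointOk 22 100017 9 = true := by decide +kernel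
theorem p6u883 : ∀ k, 92070 ≤ k → k < 100026 → pointOk (k * 22) = true := between_extend pointOk 22 92070 100017 9 (p6u882) p6r883

theorem p6r884 : allRange pointOk 22 100026 9 = true := by decide +kernel
theorem p6u884 : ∀ k, 92070 ≤ k → k < 100035 → pointOk (k * 22) = true := between_extend pointOk 22 92070 100026 9 (p6u883) p6r884

theorem p6r885 : allRange pointOk 22 100035 9 = true := by decide +kernel
theorem p6u885 : ∀ k, 92070 ≤ k → k < 100044 → pointOk (k * 22) = true := between_extend pointOk 22 92070 100035 9 (p6u884) p6r885

theorem p6r886 : allRange pointOk 22 100044 9 = true := by decide +kernel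
theorem p6u886 : ∀ k, 92070 ≤ k → k < 100053 → pointOk (k * 22) = true := between_extend pointOk 22 92070 100044 9 (p6u885) p6r886

theorem p6r887 : allRange pointOk 22 100053 9 = true := by decide +kernel
theorem p6u887 : ∀ k, 92070 ≤ k → k < 100062 → pointOk (k * 22) = true := between_extend pointOk 22 92070 100053 9 (p6u886) p6r887

theorem p6r888 : allRange pointOk 22 100062 9 = true := by decide +kernel
theorem p6u888 : ∀ k, 92070 ≤ k → k < 100071 → pointOk (k * 22) = true := between_extend pointOk 22 92070 100062 9 (p6u887) p6r888

theorem p6r889 : allRange pointOk 22 100071 9 = true := by decide +kernel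
theorem p6u889 : ∀ k, 92070 ≤ k → k < 100080 → pointOk (k * 22) = true := between_extend pointOk 22 92070 100071 9 (p6u888) p6r889

theorem p6r890 : allRange pointOk 22 100080 9 = true := by decide +kernel
theorem p6u890 : ∀ k, 92070 ≤ k → k < 100089 → pointOk (k * 22) = true := between_extend pointOk 22 92070 100080 9 (p6u889) p6r890

theorem p6r891 : allRange pointOk 22 100089 9 = true := by decide +kernel
theorem p6u891 : ∀ k, 92070 ≤ k → k < 100098 → pointOk (k * 22) = true := between_extend pointOk 22 92070 100089 9 (p6u890) p6r891

theorem p6r892 : allRange pointOk 22 100098 9 = true := by decide +kernel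
theorem p6u892 : ∀ k, 92070 ≤ k → k < 100107 → pointOk (k * 22) = true := between_extend pointOk 22 92070 100098 9 (p6u891) p6r892

theorem p6r893 : allRange pointOk 22 100107 9 = true := by decide +kernel
theorem p6u893 : ∀ k, 92070 ≤ k → k < 100116 → pointOk (k * 22) = true := between_extend pointOk 22 92070 100107 9 (p6u892) p6r893

theorem p6r894 : allRange pointOk 22 100116 9 = true := by decide +kernel
theorem p6u894 : ∀ k, 92070 ≤ k → k < 100125 → pointOk (k * 22) = true := between_extend pointOk 22 92070 100116 9 (p6u893) p6r894

theorem p6r895 : allRange pointOk 22 100125 9 = true := by decide +kernel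
theorem p6u895 : ∀ k, 92070 ≤ k → k < 100134 → pointOk (k * 22) = true := between_extend pointOk 22 92070 100125 9 (p6u894) p6r895

theorem p6r896 : allRange pointOk 22 100134 9 = true := by decide +kernel
theorem p6u896 : ∀ k, 92070 ≤ k → k < 100143 → pointOk (k * 22) = true := between_extend pointOk 22 92070 100134 9 (p6u895) p6r896

theorem p6r897 : allRange pointOk 22 100143 9 = true := by decide +kernel
theorem p6u897 : ∀ k, 92070 ≤ k → k < 100152 → pointOk (k * 22) = true := between_extend pointOk 22 92070 100143 9 (p6u896) p6r897

theorem p6r898 : allRange pointOk 22 100152 9 = true := by decide +kernel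
theorem p6u898 : ∀ k, 92070 ≤ k → k < 100161 → pointOk (k * 22) = true := between_extend pointOk 22 92070 100152 9 (p6u897) p6r898

theorem p6r899 : allRange pointOk 22 100161 9 = true := by decide +kernel
theorem p6u899 : ∀ k, 92070 ≤ k → k < 100170 → pointOk (k * 22) = true := between_extend pointOk 22 92070 100161 9 (p6u898) p6r899

theorem p6r900 : allRange pointOk 22 100170 9 = true := by decide +kernel
theorem p6u900 : ∀ k, 92070 ≤ k → k < 100179 → pointOk (k * 22) = true := between_extend pointOk 22 92070 100170 9 (p6u899) p6r900

theorem p6r901 : allRange pointOk 22 100179 9 = true := by decide +kernel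
theorem p6u901 : ∀ k, 92070 ≤ k → k < 100188 → pointOk (k * 22) = true := between_extend pointOk 22 92070 100179 9 (p6u900) p6r901

theorem p6r902 : allRange pointOk 22 100188 9 = true := by decide +kernel
theorem p6u902 : ∀ k, 92070 ≤ k → k < 100197 → pointOk (k * 22) = true := between_extend pointOk 22 92070 100188 9 (p6u901) p6r902

theorem p6r903 : allRange pointOk 22 100197 9 = true := by decide +kernel
theorem p6u903 : ∀ k, 92070 ≤ k → k < 100206 → pointOk (k * 22) = true := between_extend pointOk 22 92070 100197 9 (p6u902) p6r903

theorem p6r904 : allRange pointOk 22 100206 9 = true := by decide +kernel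
theorem p6u904 : ∀ k, 92070 ≤ k → k < 100215 → pointOk (k * 22) = true := between_extend pointOk 22 92070 100206 9 (p6u903) p6r904

theorem p6r905 : allRange pointOk 22 100215 9 = true := by decide +kernel
theorem p6u905 : ∀ k, 92070 ≤ k → k < 100224 → pointOk (k * 22) = true := between_extend pointOk 22 92070 100215 9 (p6u904) p6r905

theorem p6r906 : allRange pointOk 22 100224 9 = true := by decide +kernel
theorem p6u906 : ∀ k, 92070 ≤ k → k < 100233 → pointOk (k * 22) = true := between_extend pointOk 22 92070 100224 9 (p6u905) p6r906

theorem p6r907 : allRange pointOk 22 100233 9 = true := by decide +kernel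
theorem p6u907 : ∀ k, 92070 ≤ k → k < 100242 → pointOk (k * 22) = true := between_extend pointOk 22 92070 100233 9 (p6u906) p6r907

theorem p6r908 : allRange pointOk 22 100242 9 = true := by decide +kernel
theorem p6u908 : ∀ k, 92070 ≤ k → k < 100251 → pointOk (k * 22) = true := between_extend pointOk 22 92070 100242 9 (p6u907) p6r908

theorem p6r909 : allRange pointOk 22 100251 9 = true := by decide +kernel
theorem p6u909 : ∀ k, 92070 ≤ k → k < 100260 → pointOk (k * 22) = true := between_extend pointOk 22 92070 100251 9 (p6u908) p6r909

theorem p6r910 : allRange pointOk 22 100260 9 = true := by decide +kernel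
theorem p6u910 : ∀ k, 92070 ≤ k → k < 100269 → pointOk (k * 22) = true := between_extend pointOk 22 92070 100260 9 (p6u909) p6r910

theorem p6r911 : allRange pointOk 22 100269 9 = true := by decide +kernel
theorem p6u911 : ∀ k, 92070 ≤ k → k < 100278 → pointOk (k * 22) = true := between_extend pointOk 22 92070 100269 9 (p6u910) p6r911

theorem p6r912 : allRange pointOk 22 100278 9 = true := by decide +kernel
theorem p6u912 : ∀ k, 92070 ≤ k → k < 100287 → pointOk (k * 22) = true := between_extend pointOk 22 92070 100278 9 (p6u911) p6r912

theorem p6r913 : allRange pointOk 22 100287 9 = true := by decide +kernel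
theorem p6u913 : ∀ k, 92070 ≤ k → k < 100296 → pointOk (k * 22) = true := between_extend pointOk 22 92070 100287 9 (p6u912) p6r913

theorem p6r914 : allRange pointOk 22 100296 9 = true := by decide +kernel
theorem p6u914 : ∀ k, 92070 ≤ k → k < 100305 → pointOk (k * 22) = true := between_extend pointOk 22 92070 100296 9 (p6u913) p6r914

theorem p6r915 : allRange pointOk 22 100305 9 = true := by decide +kernel
theorem p6u915 : ∀ k, 92070 ≤ k → k < 100314 → pointOk (k * 22) = true := between_extend pointOk 22 92070 100305 9 (p6u914) p6r915

theorem p6r916 : allRange pointOk 22 100314 9 = true := by decide +kernel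
theorem p6u916 : ∀ k, 92070 ≤ k → k < 100323 → pointOk (k * 22) = true := between_extend pointOk 22 92070 100314 9 (p6u915) p6r916

theorem p6r917 : allRange pointOk 22 100323 9 = true := by decide +kernel
theorem p6u917 : ∀ k, 92070 ≤ k → k < 100332 → pointOk (k * 22) = true := between_extend pointOk 22 92070 100323 9 (p6u916) p6r917

theorem p6r918 : allRange pointOk 22 100332 9 = true := by decide +kernel
theorem p6u918 : ∀ k, 92070 ≤ k → k < 100341 → pointOk (k * 22) = true := between_extend pointOk 22 92070 100332 9 (p6u917) p6r918

theorem p6r919 : allRange pointOk 22 100341 9 = true := by decide +kernel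
theorem p6u919 : ∀ k, 92070 ≤ k → k < 100350 → pointOk (k * 22) = true := between_extend pointOk 22 92070 100341 9 (p6u918) p6r919

theorem p6r920 : allRange pointOk 22 100350 9 = true := by decide +kernel
theorem p6u920 : ∀ k, 92070 ≤ k → k < 100359 → pointOk (k * 22) = true := between_extend pointOk 22 92070 100350 9 (p6u919) p6r920

theorem p6r921 : allRange pointOk 22 100359 9 = true := by decide +kernel
theorem p6u921 : ∀ k, 92070 ≤ k → k < 100368 → pointOk (k * 22) = true := between_extend pointOk 22 92070 100359 9 (p6u920) p6r921

theorem p6r922 : allRange pointOk 22 100368 9 = true := by decide +kernel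
theorem p6u922 : ∀ k, 92070 ≤ k → k < 100377 → pointOk (k * 22) = true := between_extend pointOk 22 92070 100368 9 (p6u921) p6r922

theorem p6r923 : allRange pointOk 22 100377 9 = true := by decide +kernel
theorem p6u923 : ∀ k, 92070 ≤ k → k < 100386 → pointOk (k * 22) = true := between_extend pointOk 22 92070 100377 9 (p6u922) p6r923

theorem p6r924 : allRange pointOk 22 100386 9 = true := by decide +kernel
theorem p6u924 : ∀ k, 92070 ≤ k → k < 100395 → pointOk (k * 22) = true := between_extend pointOk 22 92070 100386 9 (p6u923) p6r924

theorem p6r925 : allRange pointOk 22 100395 9 = true := by decide +kernel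
theorem p6u925 : ∀ k, 92070 ≤ k → k < 100404 → pointOk (k * 22) = true := between_extend pointOk 22 92070 100395 9 (p6u924) p6r925

theorem p6r926 : allRange pointOk 22 100404 9 = true := by decide +kernel
theorem p6u926 : ∀ k, 92070 ≤ k → k < 100413 → pointOk (k * 22) = true := between_extend pointOk 22 92070 100404 9 (p6u925) p6r926

theorem p6r927 : allRange pointOk 22 100413 9 = true := by decide +kernel
theorem p6u927 : ∀ k, 92070 ≤ k → k < 100422 → pointOk (k * 22) = true := between_extend pointOk 22 92070 100413 9 (p6u926) p6r927

theorem p6r928 : allRange pointOk 22 100422 9 = true := by decide +kernel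
theorem p6u928 : ∀ k, 92070 ≤ k → k < 100431 → pointOk (k * 22) = true := between_extend pointOk 22 92070 100422 9 (p6u927) p6r928

theorem p6r929 : allRange pointOk 22 100431 9 = true := by decide +kernel
theorem p6u929 : ∀ k, 92070 ≤ k → k < 100440 → pointOk (k * 22) = true := between_extend pointOk 22 92070 100431 9 (p6u928) p6r929

theorem p6r930 : allRange pointOk 22 100440 9 = true := by decide +kernel
theorem p6u930 : ∀ k, 92070 ≤ k → k < 100449 → pointOk (k * 22) = true := between_extend pointOk 22 92070 100440 9 (p6u929) p6r930

theorem p6r931 : allRange pointOk 22 100449 9 = true := by decide +kernel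
theorem p6u931 : ∀ k, 92070 ≤ k → k < 100458 → pointOk (k * 22) = true := between_extend pointOk 22 92070 100449 9 (p6u930) p6r931

theorem p6r932 : allRange pointOk 22 100458 9 = true := by decide +kernel
theorem p6u932 : ∀ k, 92070 ≤ k → k < 100467 → pointOk (k * 22) = true := between_extend pointOk 22 92070 100458 9 (p6u931) p6r932

theorem p6r933 : allRange pointOk 22 100467 9 = true := by decide +kernel
theorem p6u933 : ∀ k, 92070 ≤ k → k < 100476 → pointOk (k * 22) = true := between_extend pointOk 22 92070 100467 9 (p6u932) p6r933

theorem p6r934 : allRange pointOk 22 100476 9 = true := by decide +kernel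
theorem p6u934 : ∀ k, 92070 ≤ k → k < 100485 → pointOk (k * 22) = true := between_extend pointOk 22 92070 100476 9 (p6u933) p6r934

theorem p6r935 : allRange pointOk 22 100485 9 = true := by decide +kernel
theorem p6u935 : ∀ k, 92070 ≤ k → k < 100494 → pointOk (k * 22) = true := between_extend pointOk 22 92070 100485 9 (p6u934) p6r935

theorem p6r936 : allRange pointOk 22 100494 9 = true := by decide +kernel
theorem p6u936 : ∀ k, 92070 ≤ k → k < 100503 → pointOk (k * 22) = true := between_extend pointOk 22 92070 100494 9 (p6u935) p6r936

theorem p6r937 : allRange pointOk 22 100503 9 = true := by decide +kernel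
theorem p6u937 : ∀ k, 92070 ≤ k → k < 100512 → pointOk (k * 22) = true := between_extend pointOk 22 92070 100503 9 (p6u936) p6r937

theorem p6r938 : allRange pointOk 22 100512 9 = true := by decide +kernel
theorem p6u938 : ∀ k, 92070 ≤ k → k < 100521 → pointOk (k * 22) = true := between_extend pointOk 22 92070 100512 9 (p6u937) p6r938

theorem p6r939 : allRange pointOk 22 100521 9 = true := by decide +kernel
theorem p6u939 : ∀ k, 92070 ≤ k → k < 100530 → pointOk (k * 22) = true := between_extend pointOk 22 92070 100521 9 (p6u938) p6r939

theorem p6r940 : allRange pointOk 22 100530 9 = true := by decide +kernel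
theorem p6u940 : ∀ k, 92070 ≤ k → k < 100539 → pointOk (k * 22) = true := between_extend pointOk 22 92070 100530 9 (p6u939) p6r940

theorem p6r941 : allRange pointOk 22 100539 9 = true := by decide +kernel
theorem p6u941 : ∀ k, 92070 ≤ k → k < 100548 → pointOk (k * 22) = true := between_extend pointOk 22 92070 100539 9 (p6u940) p6r941

theorem p6r942 : allRange pointOk 22 100548 9 = true := by decide +kernel
theorem p6u942 : ∀ k, 92070 ≤ k → k < 100557 → pointOk (k * 22) = true := between_extend pointOk 22 92070 100548 9 (p6u941) p6r942

theorem p6r943 : allRange pointOk 22 100557 9 = true := by decide +kernel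
theorem p6u943 : ∀ k, 92070 ≤ k → k < 100566 → pointOk (k * 22) = true := between_extend pointOk 22 92070 100557 9 (p6u942) p6r943

theorem p6r944 : allRange pointOk 22 100566 9 = true := by decide +kernel
theorem p6u944 : ∀ k, 92070 ≤ k → k < 100575 → pointOk (k * 22) = true := between_extend pointOk 22 92070 100566 9 (p6u943) p6r944

theorem p6r945 : allRange pointOk 22 100575 9 = true := by decide +kernel
theorem p6u945 : ∀ k, 92070 ≤ k → k < 100584 → pointOk (k * 22) = true := between_extend pointOk 22 92070 100575 9 (p6u944) p6r945

theorem p6r946 : allRange pointOk 22 100584 9 = true := by decide +kernel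
theorem p6u946 : ∀ k, 92070 ≤ k → k < 100593 → pointOk (k * 22) = true := between_extend pointOk 22 92070 100584 9 (p6u945) p6r946

theorem p6r947 : allRange pointOk 22 100593 9 = true := by decide +kernel
theorem p6u947 : ∀ k, 92070 ≤ k → k < 100602 → pointOk (k * 22) = true := between_extend pointOk 22 92070 100593 9 (p6u946) p6r947

theorem p6r948 : allRange pointOk 22 100602 9 = true := by decide +kernel
theorem p6u948 : ∀ k, 92070 ≤ k → k < 100611 → pointOk (k * 22) = true := between_extend pointOk 22 92070 100602 9 (p6u947) p6r948

theorem p6r949 : allRange pointOk 22 100611 9 = true := by decide +kernel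
theorem p6u949 : ∀ k, 92070 ≤ k → k < 100620 → pointOk (k * 22) = true := between_extend pointOk 22 92070 100611 9 (p6u948) p6r949

theorem p6r950 : allRange pointOk 22 100620 9 = true := by decide +kernel
theorem p6u950 : ∀ k, 92070 ≤ k → k < 100629 → pointOk (k * 22) = true := between_extend pointOk 22 92070 100620 9 (p6u949) p6r950

theorem p6r951 : allRange pointOk 22 100629 9 = true := by decide +kernel
theorem p6u951 : ∀ k, 92070 ≤ k → k < 100638 → pointOk (k * 22) = true := between_extend pointOk 22 92070 100629 9 (p6u950) p6r951

theorem p6r952 : allRange pointOk 22 100638 9 = true := by decide +kernel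
theorem p6u952 : ∀ k, 92070 ≤ k → k < 100647 → pointOk (k * 22) = true := between_extend pointOk 22 92070 100638 9 (p6u951) p6r952

theorem p6r953 : allRange pointOk 22 100647 9 = true := by decide +kernel
theorem p6u953 : ∀ k, 92070 ≤ k → k < 100656 → pointOk (k * 22) = true := between_extend pointOk 22 92070 100647 9 (p6u952) p6r953

theorem p6r954 : allRange pointOk 22 100656 9 = true := by decide +kernel
theorem p6u954 : ∀ k, 92070 ≤ k → k < 100665 → pointOk (k * 22) = true := between_extend pointOk 22 92070 100656 9 (p6u953) p6r954

theorem p6r955 : allRange pointOk 22 100665 9 = true := by decide +kernel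
theorem p6u955 : ∀ k, 92070 ≤ k → k < 100674 → pointOk (k * 22) = true := between_extend pointOk 22 92070 100665 9 (p6u954) p6r955

theorem p6r956 : allRange pointOk 22 100674 9 = true := by decide +kernel
theorem p6u956 : ∀ k, 92070 ≤ k → k < 100683 → pointOk (k * 22) = true := between_extend pointOk 22 92070 100674 9 (p6u955) p6r956

theorem p6r957 : allRange pointOk 22 100683 9 = true := by decide +kernel
theorem p6u957 : ∀ k, 92070 ≤ k → k < 100692 → pointOk (k * 22) = true := between_extend pointOk 22 92070 100683 9 (p6u956) p6r957

theorem p6r958 : allRange pointOk 22 100692 9 = true := by decide +kernel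
theorem p6u958 : ∀ k, 92070 ≤ k → k < 100701 → pointOk (k * 22) = true := between_extend pointOk 22 92070 100692 9 (p6u957) p6r958

theorem p6r959 : allRange pointOk 22 100701 9 = true := by decide +kernel
theorem p6u959 : ∀ k, 92070 ≤ k → k < 100710 → pointOk (k * 22) = true := between_extend pointOk 22 92070 100701 9 (p6u958) p6r959

theorem p6r960 : allRange pointOk 22 100710 9 = true := by decide +kernel
theorem p6u960 : ∀ k, 92070 ≤ k → k < 100719 → pointOk (k * 22) = true := between_extend pointOk 22 92070 100710 9 (p6u959) p6r960

theorem p6r961 : allRange pointOk 22 100719 9 = true := by decide +kernel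
theorem p6u961 : ∀ k, 92070 ≤ k → k < 100728 → pointOk (k * 22) = true := between_extend pointOk 22 92070 100719 9 (p6u960) p6r961

theorem p6r962 : allRange pointOk 22 100728 9 = true := by decide +kernel
theorem p6u962 : ∀ k, 92070 ≤ k → k < 100737 → pointOk (k * 22) = true := between_extend pointOk 22 92070 100728 9 (p6u961) p6r962

theorem p6r963 : allRange pointOk 22 100737 9 = true := by decide +kernel
theorem p6u963 : ∀ k, 92070 ≤ k → k < 100746 → pointOk (k * 22) = true := between_extend pointOk 22 92070 100737 9 (p6u962) p6r963

theorem p6r964 : allRange pointOk 22 100746 9 = true := by decide +kernel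
theorem p6u964 : ∀ k, 92070 ≤ k → k < 100755 → pointOk (k * 22) = true := between_extend pointOk 22 92070 100746 9 (p6u963) p6r964

theorem p6r965 : allRange pointOk 22 100755 9 = true := by decide +kernel
theorem p6u965 : ∀ k, 92070 ≤ k → k < 100764 → pointOk (k * 22) = true := between_extend pointOk 22 92070 100755 9 (p6u964) p6r965

theorem p6r966 : allRange pointOk 22 100764 9 = true := by decide +kernel
theorem p6u966 : ∀ k, 92070 ≤ k → k < 100773 → pointOk (k * 22) = true := between_extend pointOk 22 92070 100764 9 (p6u965) p6r966

theorem p6r967 : allRange pointOk 22 100773 9 = true := by decide +kernel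
theorem p6u967 : ∀ k, 92070 ≤ k → k < 100782 → pointOk (k * 22) = true := between_extend pointOk 22 92070 100773 9 (p6u966) p6r967

theorem p6r968 : allRange pointOk 22 100782 9 = true := by decide +kernel
theorem p6u968 : ∀ k, 92070 ≤ k → k < 100791 → pointOk (k * 22) = true := between_extend pointOk 22 92070 100782 9 (p6u967) p6r968

theorem p6r969 : allRange pointOk 22 100791 9 = true := by decide +kernel
theorem p6u969 : ∀ k, 92070 ≤ k → k < 100800 → pointOk (k * 22) = true := between_extend pointOk 22 92070 100791 9 (p6u968) p6r969

theorem p6r970 : allRange pointOk 22 100800 9 = true := by decide +kernel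
theorem p6u970 : ∀ k, 92070 ≤ k → k < 100809 → pointOk (k * 22) = true := between_extend pointOk 22 92070 100800 9 (p6u969) p6r970

theorem p6r971 : allRange pointOk 22 100809 9 = true := by decide +kernel
theorem p6u971 : ∀ k, 92070 ≤ k → k < 100818 → pointOk (k * 22) = true := between_extend pointOk 22 92070 100809 9 (p6u970) p6r971

theorem p6r972 : allRange pointOk 22 100818 9 = true := by decide +kernel
theorem p6u972 : ∀ k, 92070 ≤ k → k < 100827 → pointOk (k * 22) = true := between_extend pointOk 22 92070 100818 9 (p6u971) p6r972

theorem p6r973 : allRange pointOk 22 100827 9 = true := by decide +kernel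
theorem p6u973 : ∀ k, 92070 ≤ k → k < 100836 → pointOk (k * 22) = true := between_extend pointOk 22 92070 100827 9 (p6u972) p6r973

theorem p6r974 : allRange pointOk 22 100836 9 = true := by decide +kernel
theorem p6u974 : ∀ k, 92070 ≤ k → k < 100845 → pointOk (k * 22) = true := between_extend pointOk 22 92070 100836 9 (p6u973) p6r974

theorem p6r975 : allRange pointOk 22 100845 9 = true := by decide +kernel
theorem p6u975 : ∀ k, 92070 ≤ k → k < 100854 → pointOk (k * 22) = true := between_extend pointOk 22 92070 100845 9 (p6u974) p6r975

theorem p6r976 : allRange pointOk 22 100854 9 = true := by decide +kernel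
theorem p6u976 : ∀ k, 92070 ≤ k → k < 100863 → pointOk (k * 22) = true := between_extend pointOk 22 92070 100854 9 (p6u975) p6r976

theorem p6r977 : allRange pointOk 22 100863 9 = true := by decide +kernel
theorem p6u977 : ∀ k, 92070 ≤ k → k < 100872 → pointOk (k * 22) = true := between_extend pointOk 22 92070 100863 9 (p6u976) p6r977

theorem p6r978 : allRange pointOk 22 100872 9 = true := by decide +kernel
theorem p6u978 : ∀ k, 92070 ≤ k → k < 100881 → pointOk (k * 22) = true := between_extend pointOk 22 92070 100872 9 (p6u977) p6r978

theorem p6r979 : allRange pointOk 22 100881 9 = true := by decide +kernel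
theorem p6u979 : ∀ k, 92070 ≤ k → k < 100890 → pointOk (k * 22) = true := between_extend pointOk 22 92070 100881 9 (p6u978) p6r979

theorem p6r980 : allRange pointOk 22 100890 9 = true := by decide +kernel
theorem p6u980 : ∀ k, 92070 ≤ k → k < 100899 → pointOk (k * 22) = true := between_extend pointOk 22 92070 100890 9 (p6u979) p6r980

theorem p6r981 : allRange pointOk 22 100899 9 = true := by decide +kernel
theorem p6u981 : ∀ k, 92070 ≤ k → k < 100908 → pointOk (k * 22) = true := between_extend pointOk 22 92070 100899 9 (p6u980) p6r981

theorem p6r982 : allRange pointOk 22 100908 9 = true := by decide +kernel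
theorem p6u982 : ∀ k, 92070 ≤ k → k < 100917 → pointOk (k * 22) = true := between_extend pointOk 22 92070 100908 9 (p6u981) p6r982

theorem p6r983 : allRange pointOk 22 100917 9 = true := by decide +kernel
theorem p6u983 : ∀ k, 92070 ≤ k → k < 100926 → pointOk (k * 22) = true := between_extend pointOk 22 92070 100917 9 (p6u982) p6r983

theorem p6r984 : allRange pointOk 22 100926 9 = true := by decide +kernel
theorem p6u984 : ∀ k, 92070 ≤ k → k < 100935 → pointOk (k * 22) = true := between_extend pointOk 22 92070 100926 9 (p6u983) p6r984

theorem p6r985 : allRange pointOk 22 100935 9 = true := by decide +kernel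
theorem p6u985 : ∀ k, 92070 ≤ k → k < 100944 → pointOk (k * 22) = true := between_extend pointOk 22 92070 100935 9 (p6u984) p6r985

theorem p6r986 : allRange pointOk 22 100944 9 = true := by decide +kernel
theorem p6u986 : ∀ k, 92070 ≤ k → k < 100953 → pointOk (k * 22) = true := between_extend pointOk 22 92070 100944 9 (p6u985) p6r986

theorem p6r987 : allRange pointOk 22 100953 9 = true := by decide +kernel
theorem p6u987 : ∀ k, 92070 ≤ k → k < 100962 → pointOk (k * 22) = true := between_extend pointOk 22 92070 100953 9 (p6u986) p6r987

theorem p6r988 : allRange pointOk 22 100962 9 = true := by decide +kernel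
theorem p6u988 : ∀ k, 92070 ≤ k → k < 100971 → pointOk (k * 22) = true := between_extend pointOk 22 92070 100962 9 (p6u987) p6r988

theorem p6r989 : allRange pointOk 22 100971 9 = true := by decide +kernel
theorem p6u989 : ∀ k, 92070 ≤ k → k < 100980 → pointOk (k * 22) = true := between_extend pointOk 22 92070 100971 9 (p6u988) p6r989

theorem p6r990 : allRange pointOk 22 100980 9 = true := by decide +kernel
theorem p6u990 : ∀ k, 92070 ≤ k → k < 100989 → pointOk (k * 22) = true := between_extend pointOk 22 92070 100980 9 (p6u989) p6r990

theorem p6r991 : allRange pointOk 22 100989 9 = true := by decide +kernel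
theorem p6u991 : ∀ k, 92070 ≤ k → k < 100998 → pointOk (k * 22) = true := between_extend pointOk 22 92070 100989 9 (p6u990) p6r991

theorem p6r992 : allRange pointOk 22 100998 9 = true := by decide +kernel
theorem p6u992 : ∀ k, 92070 ≤ k → k < 101007 → pointOk (k * 22) = true := between_extend pointOk 22 92070 100998 9 (p6u991) p6r992

theorem p6r993 : allRange pointOk 22 101007 9 = true := by decide +kernel
theorem p6u993 : ∀ k, 92070 ≤ k → k < 101016 → pointOk (k * 22) = true := between_extend pointOk 22 92070 101007 9 (p6u992) p6r993

theorem p6r994 : allRange pointOk 22 101016 9 = true := by decide +kernel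
theorem p6u994 : ∀ k, 92070 ≤ k → k < 101025 → pointOk (k * 22) = true := between_extend pointOk 22 92070 101016 9 (p6u993) p6r994

theorem p6r995 : allRange pointOk 22 101025 9 = true := by decide +kernel
theorem p6u995 : ∀ k, 92070 ≤ k → k < 101034 → pointOk (k * 22) = true := between_extend pointOk 22 92070 101025 9 (p6u994) p6r995

theorem p6r996 : allRange pointOk 22 101034 9 = true := by decide +kernel
theorem p6u996 : ∀ k, 92070 ≤ k → k < 101043 → pointOk (k * 22) = true := between_extend pointOk 22 92070 101034 9 (p6u995) p6r996

theorem p6r997 : allRange pointOk 22 101043 9 = true := by decide +kernel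
theorem p6u997 : ∀ k, 92070 ≤ k → k < 101052 → pointOk (k * 22) = true := between_extend pointOk 22 92070 101043 9 (p6u996) p6r997

theorem p6r998 : allRange pointOk 22 101052 9 = true := by decide +kernel
theorem p6u998 : ∀ k, 92070 ≤ k → k < 101061 → pointOk (k * 22) = true := between_extend pointOk 22 92070 101052 9 (p6u997) p6r998

theorem p6r999 : allRange pointOk 22 101061 9 = true := by decide +kernel
theorem p6u999 : ∀ k, 92070 ≤ k → k < 101070 → pointOk (k * 22) = true := between_extend pointOk 22 92070 101061 9 (p6u998) p6r999

theorem p6r1000 : allRange pointOk 22 101070 9 = true := by decide +kernel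
theorem p6u1000 : ∀ k, 92070 ≤ k → k < 101079 → pointOk (k * 22) = true := between_extend pointOk 22 92070 101070 9 (p6u999) p6r1000

theorem p6r1001 : allRange pointOk 22 101079 9 = true := by decide +kernel
theorem p6u1001 : ∀ k, 92070 ≤ k → k < 101088 → pointOk (k * 22) = true := between_extend pointOk 22 92070 101079 9 (p6u1000) p6r1001

theorem p6r1002 : allRange pointOk 22 101088 9 = true := by decide +kernel
theorem p6u1002 : ∀ k, 92070 ≤ k → k < 101097 → pointOk (k * 22) = true := between_extend pointOk 22 92070 101088 9 (p6u1001) p6r1002

theorem p6r1003 : allRange pointOk 22 101097 9 = true := by decide +kernel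
theorem p6u1003 : ∀ k, 92070 ≤ k → k < 101106 → pointOk (k * 22) = true := between_extend pointOk 22 92070 101097 9 (p6u1002) p6r1003

theorem p6r1004 : allRange pointOk 22 101106 9 = true := by decide +kernel
theorem p6u1004 : ∀ k, 92070 ≤ k → k < 101115 → pointOk (k * 22) = true := between_extend pointOk 22 92070 101106 9 (p6u1003) p6r1004

theorem p6r1005 : allRange pointOk 22 101115 9 = true := by decide +kernel
theorem p6u1005 : ∀ k, 92070 ≤ k → k < 101124 → pointOk (k * 22) = true := between_extend pointOk 22 92070 101115 9 (p6u1004) p6r1005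

theorem p6r1006 : allRange pointOk 22 101124 9 = true := by decide +kernel
theorem p6u1006 : ∀ k, 92070 ≤ k → k < 101133 → pointOk (k * 22) = true := between_extend pointOk 22 92070 101124 9 (p6u1005) p6r1006

theorem p6r1007 : allRange pointOk 22 101133 9 = true := by decide +kernel
theorem p6u1007 : ∀ k, 92070 ≤ k → k < 101142 → pointOk (k * 22) = true := between_extend pointOk 22 92070 101133 9 (p6u1006) p6r1007

theorem p6r1008 : allRange pointOk 22 101142 9 = true := by decide +kernel
theorem p6u1008 : ∀ k, 92070 ≤ k → k < 101151 → pointOk (k * 22) = true := between_extend pointOk 22 92070 101142 9 (p6u1007) p6r1008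

theorem p6r1009 : allRange pointOk 22 101151 9 = true := by decide +kernel
theorem p6u1009 : ∀ k, 92070 ≤ k → k < 101160 → pointOk (k * 22) = true := between_extend pointOk 22 92070 101151 9 (p6u1008) p6r1009

theorem p6r1010 : allRange pointOk 22 101160 9 = true := by decide +kernel
theorem p6u1010 : ∀ k, 92070 ≤ k → k < 101169 → pointOk (k * 22) = true := between_extend pointOk 22 92070 101160 9 (p6u1009) p6r1010

theorem p6r1011 : allRange pointOk 22 101169 9 = true := by decide +kernel
theorem p6u1011 : ∀ k, 92070 ≤ k → k < 101178 → pointOk (k * 22) = true := between_extend pointOk 22 92070 101169 9 (p6u1010) p6r1011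

theorem p6r1012 : allRange pointOk 22 101178 9 = true := by decide +kernel
theorem p6u1012 : ∀ k, 92070 ≤ k → k < 101187 → pointOk (k * 22) = true := between_extend pointOk 22 92070 101178 9 (p6u1011) p6r1012

theorem p6r1013 : allRange pointOk 22 101187 9 = true := by decide +kernel
theorem p6u1013 : ∀ k, 92070 ≤ k → k < 101196 → pointOk (k * 22) = true := between_extend pointOk 22 92070 101187 9 (p6u1012) p6r1013

theorem p6r1014 : allRange pointOk 22 101196 9 = true := by decide +kernel
theorem p6u1014 : ∀ k, 92070 ≤ k → k < 101205 → pointOk (k * 22) = true := between_extend pointOk 22 92070 101196 9 (p6u1013) p6r1014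

theorem p6r1015 : allRange pointOk 22 101205 9 = true := by decide +kernel
theorem p6u1015 : ∀ k, 92070 ≤ k → k < 101214 → pointOk (k * 22) = true := between_extend pointOk 22 92070 101205 9 (p6u1014) p6r1015

theorem p6r1016 : allRange pointOk 22 101214 9 = true := by decide +kernel
theorem p6u1016 : ∀ k, 92070 ≤ k → k < 101223 → pointOk (k * 22) = true := between_extend pointOk 22 92070 101214 9 (p6u1015) p6r1016

theorem p6r1017 : allRange pointOk 22 101223 9 = true := by decide +kernel
theorem p6u1017 : ∀ k, 92070 ≤ k → k < 101232 → pointOk (k * 22) = true := between_extend pointOk 22 92070 101223 9 (p6u1016) p6r1017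

theorem p6r1018 : allRange pointOk 22 101232 9 = true := by decide +kernel
theorem p6u1018 : ∀ k, 92070 ≤ k → k < 101241 → pointOk (k * 22) = true := between_extend pointOk 22 92070 101232 9 (p6u1017) p6r1018

theorem p6r1019 : allRange pointOk 22 101241 9 = true := by decide +kernel
theorem p6u1019 : ∀ k, 92070 ≤ k → k < 101250 → pointOk (k * 22) = true := between_extend pointOk 22 92070 101241 9 (p6u1018) p6r1019

theorem p6r1020 : allRange pointOk 22 101250 9 = true := by decide +kernel
theorem p6u1020 : ∀ k, 92070 ≤ k → k < 101259 → pointOk (k * 22) = true := between_extend pointOk 22 92070 101250 9 (p6u1019) p6r1020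

theorem p6r1021 : allRange pointOk 22 101259 9 = true := by decide +kernel
theorem p6u1021 : ∀ k, 92070 ≤ k → k < 101268 → pointOk (k * 22) = true := between_extend pointOk 22 92070 101259 9 (p6u1020) p6r1021

theorem p6r1022 : allRange pointOk 22 101268 9 = true := by decide +kernel
theorem p6u1022 : ∀ k, 92070 ≤ k → k < 101277 → pointOk (k * 22) = true := between_extend pointOk 22 92070 101268 9 (p6u1021) p6r1022

theorem p6r1023 : allRange pointOk 22 101277 9 = true := by decide +kernel
theorem p6u1023 : ∀ k, 92070 ≤ k → k < 101286 → pointOk (k * 22) = true := between_extend pointOk 22 92070 101277 9 (p6u1022) p6r1023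

theorem p6r1024 : allRange pointOk 22 101286 9 = true := by decide +kernel
theorem p6u1024 : ∀ k, 92070 ≤ k → k < 101295 → pointOk (k * 22) = true := between_extend pointOk 22 92070 101286 9 (p6u1023) p6r1024

theorem p6r1025 : allRange pointOk 22 101295 9 = true := by decide +kernel
theorem p6u1025 : ∀ k, 92070 ≤ k → k < 101304 → pointOk (k * 22) = true := between_extend pointOk 22 92070 101295 9 (p6u1024) p6r1025

theorem p6r1026 : allRange pointOk 22 101304 9 = true := by decide +kernel
theorem p6u1026 : ∀ k, 92070 ≤ k → k < 101313 → pointOk (k * 22) = true := between_extend pointOk 22 92070 101304 9 (p6u1025) p6r1026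

theorem p6r1027 : allRange pointOk 22 101313 9 = true := by decide +kernel
theorem p6u1027 : ∀ k, 92070 ≤ k → k < 101322 → pointOk (k * 22) = true := between_extend pointOk 22 92070 101313 9 (p6u1026) p6r1027

theorem p6r1028 : allRange pointOk 22 101322 9 = true := by decide +kernel
theorem p6u1028 : ∀ k, 92070 ≤ k → k < 101331 → pointOk (k * 22) = true := between_extend pointOk 22 92070 101322 9 (p6u1027) p6r1028

theorem p6r1029 : allRange pointOk 22 101331 9 = true := by decide +kernel
theorem p6u1029 : ∀ k, 92070 ≤ k → k < 101340 → pointOk (k * 22) = true := between_extend pointOk 22 92070 101331 9 (p6u1028) p6r1029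

theorem p6r1030 : allRange pointOk 22 101340 9 = true := by decide +kernel
theorem p6u1030 : ∀ k, 92070 ≤ k → k < 101349 → pointOk (k * 22) = true := between_extend pointOk 22 92070 101340 9 (p6u1029) p6r1030

theorem p6r1031 : allRange pointOk 22 101349 9 = true := by decide +kernel
theorem p6u1031 : ∀ k, 92070 ≤ k → k < 101358 → pointOk (k * 22) = true := between_extend pointOk 22 92070 101349 9 (p6u1030) p6r1031

theorem p6r1032 : allRange pointOk 22 101358 9 = true := by decide +kernel
theorem p6u1032 : ∀ k, 92070 ≤ k → k < 101367 → pointOk (k * 22) = true := between_extend pointOk 22 92070 101358 9 (p6u1031) p6r1032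

theorem p6r1033 : allRange pointOk 22 101367 9 = true := by decide +kernel
theorem p6u1033 : ∀ k, 92070 ≤ k → k < 101376 → pointOk (k * 22) = true := between_extend pointOk 22 92070 101367 9 (p6u1032) p6r1033

theorem p6r1034 : allRange pointOk 22 101376 9 = true := by decide +kernel
theorem p6u1034 : ∀ k, 92070 ≤ k → k < 101385 → pointOk (k * 22) = true := between_extend pointOk 22 92070 101376 9 (p6u1033) p6r1034

theorem p6r1035 : allRange pointOk 22 101385 9 = true := by decide +kernel
theorem p6u1035 : ∀ k, 92070 ≤ k → k < 101394 → pointOk (k * 22) = true := between_extend pointOk 22 92070 101385 9 (p6u1034) p6r1035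

theorem p6r1036 : allRange pointOk 22 101394 9 = true := by decide +kernel
theorem p6u1036 : ∀ k, 92070 ≤ k → k < 101403 → pointOk (k * 22) = true := between_extend pointOk 22 92070 101394 9 (p6u1035) p6r1036

theorem p6r1037 : allRange pointOk 22 101403 9 = true := by decide +kernel
theorem p6u1037 : ∀ k, 92070 ≤ k → k < 101412 → pointOk (k * 22) = true := between_extend pointOk 22 92070 101403 9 (p6u1036) p6r1037

theorem p6r1038 : allRange pointOk 22 101412 9 = true := by decide +kernel
theorem p6u1038 : ∀ k, 92070 ≤ k → k < 101421 → pointOk (k * 22) = true := between_extend pointOk 22 92070 101412 9 (p6u1037) p6r1038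

theorem p6r1039 : allRange pointOk 22 101421 9 = true := by decide +kernel
theorem p6u1039 : ∀ k, 92070 ≤ k → k < 101430 → pointOk (k * 22) = true := between_extend pointOk 22 92070 101421 9 (p6u1038) p6r1039

theorem p6r1040 : allRange pointOk 22 101430 9 = true := by decide +kernel
theorem p6u1040 : ∀ k, 92070 ≤ k → k < 101439 → pointOk (k * 22) = true := between_extend pointOk 22 92070 101430 9 (p6u1039) p6r1040

theorem p6r1041 : allRange pointOk 22 101439 9 = true := by decide +kernel
theorem p6u1041 : ∀ k, 92070 ≤ k → k < 101448 → pointOk (k * 22) = true := between_extend pointOk 22 92070 101439 9 (p6u1040) p6r1041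

theorem p6r1042 : allRange pointOk 22 101448 9 = true := by decide +kernel
theorem p6u1042 : ∀ k, 92070 ≤ k → k < 101457 → pointOk (k * 22) = true := between_extend pointOk 22 92070 101448 9 (p6u1041) p6r1042

theorem p6r1043 : allRange pointOk 22 101457 9 = true := by decide +kernel
theorem p6u1043 : ∀ k, 92070 ≤ k → k < 101466 → pointOk (k * 22) = true := between_extend pointOk 22 92070 101457 9 (p6u1042) p6r1043

theorem p6r1044 : allRange pointOk 22 101466 9 = true := by decide +kernel
theorem p6u1044 : ∀ k, 92070 ≤ k → k < 101475 → pointOk (k * 22) = true := between_extend pointOk 22 92070 101466 9 (p6u1043) p6r1044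

theorem p6r1045 : allRange pointOk 22 101475 9 = true := by decide +kernel
theorem p6u1045 : ∀ k, 92070 ≤ k → k < 101484 → pointOk (k * 22) = true := between_extend pointOk 22 92070 101475 9 (p6u1044) p6r1045

theorem p6r1046 : allRange pointOk 22 101484 9 = true := by decide +kernel
theorem p6u1046 : ∀ k, 92070 ≤ k → k < 101493 → pointOk (k * 22) = true := between_extend pointOk 22 92070 101484 9 (p6u1045) p6r1046

theorem p6r1047 : allRange pointOk 22 101493 9 = true := by decide +kernel
theorem p6u1047 : ∀ k, 92070 ≤ k → k < 101502 → pointOk (k * 22) = true := between_extend pointOk 22 92070 101493 9 (p6u1046) p6r1047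

theorem p6r1048 : allRange pointOk 22 101502 9 = true := by decide +kernel
theorem p6u1048 : ∀ k, 92070 ≤ k → k < 101511 → pointOk (k * 22) = true := between_extend pointOk 22 92070 101502 9 (p6u1047) p6r1048

theorem p6r1049 : allRange pointOk 22 101511 9 = true := by decide +kernel
theorem p6u1049 : ∀ k, 92070 ≤ k → k < 101520 → pointOk (k * 22) = true := between_extend pointOk 22 92070 101511 9 (p6u1048) p6r1049

theorem p6r1050 : allRange pointOk 22 101520 9 = true := by decide +kernel
theorem p6u1050 : ∀ k, 92070 ≤ k → k < 101529 → pointOk (k * 22) = true := between_extend pointOk 22 92070 101520 9 (p6u1049) p6r1050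

theorem p6r1051 : allRange pointOk 22 101529 9 = true := by decide +kernel
theorem p6u1051 : ∀ k, 92070 ≤ k → k < 101538 → pointOk (k * 22) = true := between_extend pointOk 22 92070 101529 9 (p6u1050) p6r1051

theorem p6r1052 : allRange pointOk 22 101538 9 = true := by decide +kernel
theorem p6u1052 : ∀ k, 92070 ≤ k → k < 101547 → pointOk (k * 22) = true := between_extend pointOk 22 92070 101538 9 (p6u1051) p6r1052

theorem p6r1053 : allRange pointOk 22 101547 9 = true := by decide +kernel
theorem p6u1053 : ∀ k, 92070 ≤ k → k < 101556 → pointOk (k * 22) = true := between_extend pointOk 22 92070 101547 9 (p6u1052) p6r1053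

theorem p6r1054 : allRange pointOk 22 101556 9 = true := by decide +kernel
theorem p6u1054 : ∀ k, 92070 ≤ k → k < 101565 → pointOk (k * 22) = true := between_extend pointOk 22 92070 101556 9 (p6u1053) p6r1054

theorem p6r1055 : allRange pointOk 22 101565 9 = true := by decide +kernel
theorem p6u1055 : ∀ k, 92070 ≤ k → k < 101574 → pointOk (k * 22) = true := between_extend pointOk 22 92070 101565 9 (p6u1054) p6r1055

theorem p6r1056 : allRange pointOk 22 101574 9 = true := by decide +kernel
theorem p6u1056 : ∀ k, 92070 ≤ k → k < 101583 → pointOk (k * 22) = true := between_extend pointOk 22 92070 101574 9 (p6u1055) p6r1056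

theorem p6r1057 : allRange pointOk 22 101583 9 = true := by decide +kernel
theorem p6u1057 : ∀ k, 92070 ≤ k → k < 101592 → pointOk (k * 22) = true := between_extend pointOk 22 92070 101583 9 (p6u1056) p6r1057

theorem p6r1058 : allRange pointOk 22 101592 9 = true := by decide +kernel
theorem p6u1058 : ∀ k, 92070 ≤ k → k < 101601 → pointOk (k * 22) = true := between_extend pointOk 22 92070 101592 9 (p6u1057) p6r1058

theorem p6r1059 : allRange pointOk 22 101601 9 = true := by decide +kernel
theorem p6u1059 : ∀ k, 92070 ≤ k → k < 101610 → pointOk (k * 22) = true := between_extend pointOk 22 92070 101601 9 (p6u1058) p6r1059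

theorem p6r1060 : allRange pointOk 22 101610 9 = true := by decide +kernel
theorem p6u1060 : ∀ k, 92070 ≤ k → k < 101619 → pointOk (k * 22) = true := between_extend pointOk 22 92070 101610 9 (p6u1059) p6r1060

theorem p6r1061 : allRange pointOk 22 101619 9 = true := by decide +kernel
theorem p6u1061 : ∀ k, 92070 ≤ k → k < 101628 → pointOk (k * 22) = true := between_extend pointOk 22 92070 101619 9 (p6u1060) p6r1061

theorem p6r1062 : allRange pointOk 22 101628 9 = true := by decide +kernel
theorem p6u1062 : ∀ k, 92070 ≤ k → k < 101637 → pointOk (k * 22) = true := between_extend pointOk 22 92070 101628 9 (p6u1061) p6r1062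

theorem p6r1063 : allRange pointOk 22 101637 9 = true := by decide +kernel
theorem p6u1063 : ∀ k, 92070 ≤ k → k < 101646 → pointOk (k * 22) = true := between_extend pointOk 22 92070 101637 9 (p6u1062) p6r1063

theorem p6r1064 : allRange pointOk 22 101646 9 = true := by decide +kernel
theorem p6u1064 : ∀ k, 92070 ≤ k → k < 101655 → pointOk (k * 22) = true := between_extend pointOk 22 92070 101646 9 (p6u1063) p6r1064

theorem p6r1065 : allRange pointOk 22 101655 9 = true := by decide +kernel
theorem p6u1065 : ∀ k, 92070 ≤ k → k < 101664 → pointOk (k * 22) = true := between_extend pointOk 22 92070 101655 9 (p6u1064) p6r1065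

theorem p6r1066 : allRange pointOk 22 101664 9 = true := by decide +kernel
theorem p6u1066 : ∀ k, 92070 ≤ k → k < 101673 → pointOk (k * 22) = true := between_extend pointOk 22 92070 101664 9 (p6u1065) p6r1066

theorem p6r1067 : allRange pointOk 22 101673 9 = true := by decide +kernel
theorem p6u1067 : ∀ k, 92070 ≤ k → k < 101682 → pointOk (k * 22) = true := between_extend pointOk 22 92070 101673 9 (p6u1066) p6r1067

theorem p6r1068 : allRange pointOk 22 101682 9 = true := by decide +kernel
theorem p6u1068 : ∀ k, 92070 ≤ k → k < 101691 → pointOk (k * 22) = true := between_extend pointOk 22 92070 101682 9 (p6u1067) p6r1068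

theorem p6r1069 : allRange pointOk 22 101691 9 = true := by decide +kernel
theorem p6u1069 : ∀ k, 92070 ≤ k → k < 101700 → pointOk (k * 22) = true := between_extend pointOk 22 92070 101691 9 (p6u1068) p6r1069

theorem p6r1070 : allRange pointOk 22 101700 9 = true := by decide +kernel
theorem p6u1070 : ∀ k, 92070 ≤ k → k < 101709 → pointOk (k * 22) = true := between_extend pointOk 22 92070 101700 9 (p6u1069) p6r1070

theorem p6r1071 : allRange pointOk 22 101709 9 = true := by decide +kernel
theorem p6u1071 : ∀ k, 92070 ≤ k → k < 101718 → pointOk (k * 22) = true := between_extend pointOk 22 92070 101709 9 (p6u1070) p6r1071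

theorem p6r1072 : allRange pointOk 22 101718 9 = true := by decide +kernel
theorem p6u1072 : ∀ k, 92070 ≤ k → k < 101727 → pointOk (k * 22) = true := between_extend pointOk 22 92070 101718 9 (p6u1071) p6r1072

theorem p6r1073 : allRange pointOk 22 101727 9 = true := by decide +kernel
theorem p6u1073 : ∀ k, 92070 ≤ k → k < 101736 → pointOk (k * 22) = true := between_extend pointOk 22 92070 101727 9 (p6u1072) p6r1073

theorem p6r1074 : allRange pointOk 22 101736 9 = true := by decide +kernel
theorem p6u1074 : ∀ k, 92070 ≤ k → k < 101745 → pointOk (k * 22) = true := between_extend pointOk 22 92070 101736 9 (p6u1073) p6r1074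

theorem p6r1075 : allRange pointOk 22 101745 9 = true := by decide +kernel
theorem p6u1075 : ∀ k, 92070 ≤ k → k < 101754 → pointOk (k * 22) = true := between_extend pointOk 22 92070 101745 9 (p6u1074) p6r1075

theorem p6r1076 : allRange pointOk 22 101754 9 = true := by decide +kernel
theorem p6u1076 : ∀ k, 92070 ≤ k → k < 101763 → pointOk (k * 22) = true := between_extend pointOk 22 92070 101754 9 (p6u1075) p6r1076

theorem p6r1077 : allRange pointOk 22 101763 9 = true := by decide +kernel
theorem p6u1077 : ∀ k, 92070 ≤ k → k < 101772 → pointOk (k * 22) = true := between_extend pointOk 22 92070 101763 9 (p6u1076) p6r1077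

theorem p6r1078 : allRange pointOk 22 101772 9 = true := by decide +kernel
theorem p6u1078 : ∀ k, 92070 ≤ k → k < 101781 → pointOk (k * 22) = true := between_extend pointOk 22 92070 101772 9 (p6u1077) p6r1078

theorem p6r1079 : allRange pointOk 22 101781 9 = true := by decide +kernel
theorem p6u1079 : ∀ k, 92070 ≤ k → k < 101790 → pointOk (k * 22) = true := between_extend pointOk 22 92070 101781 9 (p6u1078) p6r1079

theorem p6r1080 : allRange pointOk 22 101790 9 = true := by decide +kernel
theorem p6u1080 : ∀ k, 92070 ≤ k → k < 101799 → pointOk (k * 22) = true := between_extend pointOk 22 92070 101790 9 (p6u1079) p6r1080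

theorem p6r1081 : allRange pointOk 22 101799 9 = true := by decide +kernel
theorem p6u1081 : ∀ k, 92070 ≤ k → k < 101808 → pointOk (k * 22) = true := between_extend pointOk 22 92070 101799 9 (p6u1080) p6r1081

theorem p6r1082 : allRange pointOk 22 101808 9 = true := by decide +kernel
theorem p6u1082 : ∀ k, 92070 ≤ k → k < 101817 → pointOk (k * 22) = true := between_extend pointOk 22 92070 101808 9 (p6u1081) p6r1082

theorem p6r1083 : allRange pointOk 22 101817 9 = true := by decide +kernel
theorem p6u1083 : ∀ k, 92070 ≤ k → k < 101826 → pointOk (k * 22) = true := between_extend pointOk 22 92070 101817 9 (p6u1082) p6r1083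

theorem p6r1084 : allRange pointOk 22 101826 9 = true := by decide +kernel
theorem p6u1084 : ∀ k, 92070 ≤ k → k < 101835 → pointOk (k * 22) = true := between_extend pointOk 22 92070 101826 9 (p6u1083) p6r1084

theorem p6r1085 : allRange pointOk 22 101835 9 = true := by decide +kernel
theorem p6u1085 : ∀ k, 92070 ≤ k → k < 101844 → pointOk (k * 22) = true := between_extend pointOk 22 92070 101835 9 (p6u1084) p6r1085

theorem p6r1086 : allRange pointOk 22 101844 9 = true := by decide +kernel
theorem p6u1086 : ∀ k, 92070 ≤ k → k < 101853 → pointOk (k * 22) = true := between_extend pointOk 22 92070 101844 9 (p6u1085) p6r1086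

theorem p6r1087 : allRange pointOk 22 101853 9 = true := by decide +kernel
theorem p6u1087 : ∀ k, 92070 ≤ k → k < 101862 → pointOk (k * 22) = true := between_extend pointOk 22 92070 101853 9 (p6u1086) p6r1087

theorem p6r1088 : allRange pointOk 22 101862 9 = true := by decide +kernel
theorem p6u1088 : ∀ k, 92070 ≤ k → k < 101871 → pointOk (k * 22) = true := between_extend pointOk 22 92070 101862 9 (p6u1087) p6r1088

theorem p6r1089 : allRange pointOk 22 101871 9 = true := by decide +kernel
theorem p6u1089 : ∀ k, 92070 ≤ k → k < 101880 → pointOk (k * 22) = true := between_extend pointOk 22 92070 101871 9 (p6u1088) p6r1089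

theorem p6r1090 : allRange pointOk 22 101880 9 = true := by decide +kernel
theorem p6u1090 : ∀ k, 92070 ≤ k → k < 101889 → pointOk (k * 22) = true := between_extend pointOk 22 92070 101880 9 (p6u1089) p6r1090

theorem p6r1091 : allRange pointOk 22 101889 9 = true := by decide +kernel
theorem p6u1091 : ∀ k, 92070 ≤ k → k < 101898 → pointOk (k * 22) = true := between_extend pointOk 22 92070 101889 9 (p6u1090) p6r1091

theorem p6r1092 : allRange pointOk 22 101898 9 = true := by decide +kernel
theorem p6u1092 : ∀ k, 92070 ≤ k → k < 101907 → pointOk (k * 22) = true := between_extend pointOk 22 92070 101898 9 (p6u1091) p6r1092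

theorem p6r1093 : allRange pointOk 22 101907 9 = true := by decide +kernel
theorem p6u1093 : ∀ k, 92070 ≤ k → k < 101916 → pointOk (k * 22) = true := between_extend pointOk 22 92070 101907 9 (p6u1092) p6r1093

theorem p6r1094 : allRange pointOk 22 101916 9 = true := by decide +kernel
theorem p6u1094 : ∀ k, 92070 ≤ k → k < 101925 → pointOk (k * 22) = true := between_extend pointOk 22 92070 101916 9 (p6u1093) p6r1094

theorem p6r1095 : allRange pointOk 22 101925 9 = true := by decide +kernel
theorem p6u1095 : ∀ k, 92070 ≤ k → k < 101934 → pointOk (k * 22) = true := between_extend pointOk 22 92070 101925 9 (p6u1094) p6r1095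

theorem p6r1096 : allRange pointOk 22 101934 9 = true := by decide +kernel
theorem p6u1096 : ∀ k, 92070 ≤ k → k < 101943 → pointOk (k * 22) = true := between_extend pointOk 22 92070 101934 9 (p6u1095) p6r1096

theorem p6r1097 : allRange pointOk 22 101943 9 = true := by decide +kernel
theorem p6u1097 : ∀ k, 92070 ≤ k → k < 101952 → pointOk (k * 22) = true := between_extend pointOk 22 92070 101943 9 (p6u1096) p6r1097

theorem p6r1098 : allRange pointOk 22 101952 9 = true := by decide +kernel
theorem p6u1098 : ∀ k, 92070 ≤ k → k < 101961 → pointOk (k * 22) = true := between_extend pointOk 22 92070 101952 9 (p6u1097) p6r1098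

theorem p6r1099 : allRange pointOk 22 101961 9 = true := by decide +kernel
theorem p6u1099 : ∀ k, 92070 ≤ k → k < 101970 → pointOk (k * 22) = true := between_extend pointOk 22 92070 101961 9 (p6u1098) p6r1099

theorem p6r1100 : allRange pointOk 22 101970 9 = true := by decide +kernel
theorem p6u1100 : ∀ k, 92070 ≤ k → k < 101979 → pointOk (k * 22) = true := between_extend pointOk 22 92070 101970 9 (p6u1099) p6r1100

theorem p6r1101 : allRange pointOk 22 101979 9 = true := by decide +kernel
theorem p6u1101 : ∀ k, 92070 ≤ k → k < 101988 → pointOk (k * 22) = true := between_extend pointOk 22 92070 101979 9 (p6u1100) p6r1101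

theorem p6r1102 : allRange pointOk 22 101988 9 = true := by decide +kernel
theorem p6u1102 : ∀ k, 92070 ≤ k → k < 101997 → pointOk (k * 22) = true := between_extend pointOk 22 92070 101988 9 (p6u1101) p6r1102

theorem p6r1103 : allRange pointOk 22 101997 9 = true := by decide +kernel
theorem p6u1103 : ∀ k, 92070 ≤ k → k < 102006 → pointOk (k * 22) = true := between_extend pointOk 22 92070 101997 9 (p6u1102) p6r1103

theorem p6r1104 : allRange pointOk 22 102006 9 = true := by decide +kernel
theorem p6u1104 : ∀ k, 92070 ≤ k → k < 102015 → pointOk (k * 22) = true := between_extend pointOk 22 92070 102006 9 (p6u1103) p6r1104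

theorem p6r1105 : allRange pointOk 22 102015 9 = true := by decide +kernel
theorem p6u1105 : ∀ k, 92070 ≤ k → k < 102024 → pointOk (k * 22) = true := between_extend pointOk 22 92070 102015 9 (p6u1104) p6r1105

theorem p6r1106 : allRange pointOk 22 102024 9 = true := by decide +kernel
theorem p6u1106 : ∀ k, 92070 ≤ k → k < 102033 → pointOk (k * 22) = true := between_extend pointOk 22 92070 102024 9 (p6u1105) p6r1106

theorem p6r1107 : allRange pointOk 22 102033 9 = true := by decide +kernel
theorem p6u1107 : ∀ k, 92070 ≤ k → k < 102042 → pointOk (k * 22) = true := between_extend pointOk 22 92070 102033 9 (p6u1106) p6r1107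

theorem p6r1108 : allRange pointOk 22 102042 9 = true := by decide +kernel
theorem p6u1108 : ∀ k, 92070 ≤ k → k < 102051 → pointOk (k * 22) = true := between_extend pointOk 22 92070 102042 9 (p6u1107) p6r1108

theorem p6r1109 : allRange pointOk 22 102051 9 = true := by decide +kernel
theorem p6u1109 : ∀ k, 92070 ≤ k → k < 102060 → pointOk (k * 22) = true := between_extend pointOk 22 92070 102051 9 (p6u1108) p6r1109

theorem p6r1110 : allRange pointOk 22 102060 9 = true := by decide +kernel
theorem p6u1110 : ∀ k, 92070 ≤ k → k < 102069 → pointOk (k * 22) = true := between_extend pointOk 22 92070 102060 9 (p6u1109) p6r1110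

theorem p6r1111 : allRange pointOk 22 102069 9 = true := by decide +kernel
theorem p6u1111 : ∀ k, 92070 ≤ k → k < 102078 → pointOk (k * 22) = true := between_extend pointOk 22 92070 102069 9 (p6u1110) p6r1111

theorem p6r1112 : allRange pointOk 22 102078 9 = true := by decide +kernel
theorem p6u1112 : ∀ k, 92070 ≤ k → k < 102087 → pointOk (k * 22) = true := between_extend pointOk 22 92070 102078 9 (p6u1111) p6r1112

theorem p6r1113 : allRange pointOk 22 102087 9 = true := by decide +kernel
theorem p6u1113 : ∀ k, 92070 ≤ k → k < 102096 → pointOk (k * 22) = true := between_extend pointOk 22 92070 102087 9 (p6u1112) p6r1113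

theorem p6r1114 : allRange pointOk 22 102096 9 = true := by decide +kernel
theorem p6u1114 : ∀ k, 92070 ≤ k → k < 102105 → pointOk (k * 22) = true := between_extend pointOk 22 92070 102096 9 (p6u1113) p6r1114

theorem p6r1115 : allRange pointOk 22 102105 9 = true := by decide +kernel
theorem p6u1115 : ∀ k, 92070 ≤ k → k < 102114 → pointOk (k * 22) = true := between_extend pointOk 22 92070 102105 9 (p6u1114) p6r1115

theorem p6r1116 : allRange pointOk 22 102114 9 = true := by decide +kernel
theorem p6u1116 : ∀ k, 92070 ≤ k → k < 102123 → pointOk (k * 22) = true := between_extend pointOk 22 92070 102114 9 (p6u1115) p6r1116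

theorem p6r1117 : allRange pointOk 22 102123 9 = true := by decide +kernel
theorem p6u1117 : ∀ k, 92070 ≤ k → k < 102132 → pointOk (k * 22) = true := between_extend pointOk 22 92070 102123 9 (p6u1116) p6r1117

theorem p6r1118 : allRange pointOk 22 102132 9 = true := by decide +kernel
theorem p6u1118 : ∀ k, 92070 ≤ k → k < 102141 → pointOk (k * 22) = true := between_extend pointOk 22 92070 102132 9 (p6u1117) p6r1118

theorem p6r1119 : allRange pointOk 22 102141 9 = true := by decide +kernel
theorem p6u1119 : ∀ k, 92070 ≤ k → k < 102150 → pointOk (k * 22) = true := between_extend pointOk 22 92070 102141 9 (p6u1118) p6r1119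

theorem p6r1120 : allRange pointOk 22 102150 9 = true := by decide +kernel
theorem p6u1120 : ∀ k, 92070 ≤ k → k < 102159 → pointOk (k * 22) = true := between_extend pointOk 22 92070 102150 9 (p6u1119) p6r1120

theorem p6r1121 : allRange pointOk 22 102159 9 = true := by decide +kernel
theorem p6u1121 : ∀ k, 92070 ≤ k → k < 102168 → pointOk (k * 22) = true := between_extend pointOk 22 92070 102159 9 (p6u1120) p6r1121

theorem p6r1122 : allRange pointOk 22 102168 9 = true := by decide +kernel
theorem p6u1122 : ∀ k, 92070 ≤ k → k < 102177 → pointOk (k * 22) = true := between_extend pointOk 22 92070 102168 9 (p6u1121) p6r1122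

theorem p6r1123 : allRange pointOk 22 102177 9 = true := by decide +kernel
theorem p6u1123 : ∀ k, 92070 ≤ k → k < 102186 → pointOk (k * 22) = true := between_extend pointOk 22 92070 102177 9 (p6u1122) p6r1123

theorem p6r1124 : allRange pointOk 22 102186 9 = true := by decide +kernel
theorem p6u1124 : ∀ k, 92070 ≤ k → k < 102195 → pointOk (k * 22) = true := between_extend pointOk 22 92070 102186 9 (p6u1123) p6r1124

theorem p6r1125 : allRange pointOk 22 102195 9 = true := by decide +kernel
theorem p6u1125 : ∀ k, 92070 ≤ k → k < 102204 → pointOk (k * 22) = true := between_extend pointOk 22 92070 102195 9 (p6u1124) p6r1125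

theorem p6r1126 : allRange pointOk 22 102204 9 = true := by decide +kernel
theorem p6u1126 : ∀ k, 92070 ≤ k → k < 102213 → pointOk (k * 22) = true := between_extend pointOk 22 92070 102204 9 (p6u1125) p6r1126

theorem p6r1127 : allRange pointOk 22 102213 9 = true := by decide +kernel
theorem p6u1127 : ∀ k, 92070 ≤ k → k < 102222 → pointOk (k * 22) = true := between_extend pointOk 22 92070 102213 9 (p6u1126) p6r1127

theorem p6r1128 : allRange pointOk 22 102222 9 = true := by decide +kernel
theorem p6u1128 : ∀ k, 92070 ≤ k → k < 102231 → pointOk (k * 22) = true := between_extend pointOk 22 92070 102222 9 (p6u1127) p6r1128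

theorem p6r1129 : allRange pointOk 22 102231 9 = true := by decide +kernel
theorem p6u1129 : ∀ k, 92070 ≤ k → k < 102240 → pointOk (k * 22) = true := between_extend pointOk 22 92070 102231 9 (p6u1128) p6r1129

theorem p6r1130 : allRange pointOk 22 102240 9 = true := by decide +kernel
theorem p6u1130 : ∀ k, 92070 ≤ k → k < 102249 → pointOk (k * 22) = true := between_extend pointOk 22 92070 102240 9 (p6u1129) p6r1130

theorem p6r1131 : allRange pointOk 22 102249 9 = true := by decide +kernel
theorem p6u1131 : ∀ k, 92070 ≤ k → k < 102258 → pointOk (k * 22) = true := between_extend pointOk 22 92070 102249 9 (p6u1130) p6r1131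

theorem p6r1132 : allRange pointOk 22 102258 9 = true := by decide +kernel
theorem p6u1132 : ∀ k, 92070 ≤ k → k < 102267 → pointOk (k * 22) = true := between_extend pointOk 22 92070 102258 9 (p6u1131) p6r1132

theorem p6r1133 : allRange pointOk 22 102267 9 = true := by decide +kernel
theorem p6u1133 : ∀ k, 92070 ≤ k → k < 102276 → pointOk (k * 22) = true := between_extend pointOk 22 92070 102267 9 (p6u1132) p6r1133

theorem p6r1134 : allRange pointOk 22 102276 9 = true := by decide +kernel
theorem p6u1134 : ∀ k, 92070 ≤ k → k < 102285 → pointOk (k * 22) = true := between_extend pointOk 22 92070 102276 9 (p6u1133) p6r1134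

theorem p6r1135 : allRange pointOk 22 102285 9 = true := by decide +kernel
theorem p6u1135 : ∀ k, 92070 ≤ k → k < 102294 → pointOk (k * 22) = true := between_extend pointOk 22 92070 102285 9 (p6u1134) p6r1135

theorem p6r1136 : allRange pointOk 22 102294 9 = true := by decide +kernel
theorem p6u1136 : ∀ k, 92070 ≤ k → k < 102303 → pointOk (k * 22) = true := between_extend pointOk 22 92070 102294 9 (p6u1135) p6r1136

theorem p6r1137 : allRange pointOk 22 102303 9 = true := by decide +kernel
theorem p6u1137 : ∀ k, 92070 ≤ k → k < 102312 → pointOk (k * 22) = true := between_extend pointOk 22 92070 102303 9 (p6u1136) p6r1137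

theorem p6r1138 : allRange pointOk 22 102312 9 = true := by decide +kernel
theorem p6u1138 : ∀ k, 92070 ≤ k → k < 102321 → pointOk (k * 22) = true := between_extend pointOk 22 92070 102312 9 (p6u1137) p6r1138

theorem p6r1139 : allRange pointOk 22 102321 9 = true := by decide +kernel
theorem p6u1139 : ∀ k, 92070 ≤ k → k < 102330 → pointOk (k * 22) = true := between_extend pointOk 22 92070 102321 9 (p6u1138) p6r1139

theorem p6r1140 : allRange pointOk 22 102330 9 = true := by decide +kernel
theorem p6u1140 : ∀ k, 92070 ≤ k → k < 102339 → pointOk (k * 22) = true := between_extend pointOk 22 92070 102330 9 (p6u1139) p6r1140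

theorem p6r1141 : allRange pointOk 22 102339 9 = true := by decide +kernel
theorem p6u1141 : ∀ k, 92070 ≤ k → k < 102348 → pointOk (k * 22) = true := between_extend pointOk 22 92070 102339 9 (p6u1140) p6r1141

theorem p6r1142 : allRange pointOk 22 102348 9 = true := by decide +kernel
theorem p6u1142 : ∀ k, 92070 ≤ k → k < 102357 → pointOk (k * 22) = true := between_extend pointOk 22 92070 102348 9 (p6u1141) p6r1142

theorem p6r1143 : allRange pointOk 22 102357 9 = true := by decide +kernel
theorem p6u1143 : ∀ k, 92070 ≤ k → k < 102366 → pointOk (k * 22) = true := between_extend pointOk 22 92070 102357 9 (p6u1142) p6r1143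

theorem p6r1144 : allRange pointOk 22 102366 9 = true := by decide +kernel
theorem p6u1144 : ∀ k, 92070 ≤ k → k < 102375 → pointOk (k * 22) = true := between_extend pointOk 22 92070 102366 9 (p6u1143) p6r1144

theorem p6r1145 : allRange pointOk 22 102375 9 = true := by decide +kernel
theorem p6u1145 : ∀ k, 92070 ≤ k → k < 102384 → pointOk (k * 22) = true := between_extend pointOk 22 92070 102375 9 (p6u1144) p6r1145

theorem p6r1146 : allRange pointOk 22 102384 9 = true := by decide +kernel
theorem p6u1146 : ∀ k, 92070 ≤ k → k < 102393 → pointOk (k * 22) = true := between_extend pointOk 22 92070 102384 9 (p6u1145) p6r1146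

theorem p6r1147 : allRange pointOk 22 102393 9 = true := by decide +kernel
theorem p6u1147 : ∀ k, 92070 ≤ k → k < 102402 → pointOk (k * 22) = true := between_extend pointOk 22 92070 102393 9 (p6u1146) p6r1147

theorem p6r1148 : allRange pointOk 22 102402 9 = true := by decide +kernel
theorem p6u1148 : ∀ k, 92070 ≤ k → k < 102411 → pointOk (k * 22) = true := between_extend pointOk 22 92070 102402 9 (p6u1147) p6r1148

theorem p6r1149 : allRange pointOk 22 102411 9 = true := by decide +kernel
theorem p6u1149 : ∀ k, 92070 ≤ k → k < 102420 → pointOk (k * 22) = true := between_extend pointOk 22 92070 102411 9 (p6u1148) p6r1149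

theorem p6r1150 : allRange pointOk 22 102420 9 = true := by decide +kernel
theorem p6u1150 : ∀ k, 92070 ≤ k → k < 102429 → pointOk (k * 22) = true := between_extend pointOk 22 92070 102420 9 (p6u1149) p6r1150

theorem p6r1151 : allRange pointOk 22 102429 9 = true := by decide +kernel
theorem p6u1151 : ∀ k, 92070 ≤ k → k < 102438 → pointOk (k * 22) = true := between_extend pointOk 22 92070 102429 9 (p6u1150) p6r1151

theorem p6r1152 : allRange pointOk 22 102438 9 = true := by decide +kernel
theorem p6u1152 : ∀ k, 92070 ≤ k → k < 102447 → pointOk (k * 22) = true := between_extend pointOk 22 92070 102438 9 (p6u1151) p6r1152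

theorem p6r1153 : allRange pointOk 22 102447 9 = true := by decide +kernel
theorem p6u1153 : ∀ k, 92070 ≤ k → k < 102456 → pointOk (k * 22) = true := between_extend pointOk 22 92070 102447 9 (p6u1152) p6r1153

theorem p6r1154 : allRange pointOk 22 102456 9 = true := by decide +kernel
theorem p6u1154 : ∀ k, 92070 ≤ k → k < 102465 → pointOk (k * 22) = true := between_extend pointOk 22 92070 102456 9 (p6u1153) p6r1154

theorem p6r1155 : allRange pointOk 22 102465 9 = true := by decide +kernel
theorem p6u1155 : ∀ k, 92070 ≤ k → k < 102474 → pointOk (k * 22) = true := between_extend pointOk 22 92070 102465 9 (p6u1154) p6r1155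

theorem p6r1156 : allRange pointOk 22 102474 9 = true := by decide +kernel
theorem p6u1156 : ∀ k, 92070 ≤ k → k < 102483 → pointOk (k * 22) = true := between_extend pointOk 22 92070 102474 9 (p6u1155) p6r1156

theorem p6r1157 : allRange pointOk 22 102483 9 = true := by decide +kernel
theorem p6u1157 : ∀ k, 92070 ≤ k → k < 102492 → pointOk (k * 22) = true := between_extend pointOk 22 92070 102483 9 (p6u1156) p6r1157

theorem p6r1158 : allRange pointOk 22 102492 9 = true := by decide +kernel
theorem p6u1158 : ∀ k, 92070 ≤ k → k < 102501 → pointOk (k * 22) = true := between_extend pointOk 22 92070 102492 9 (p6u1157) p6r1158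

theorem p6r1159 : allRange pointOk 22 102501 9 = true := by decide +kernel
theorem p6u1159 : ∀ k, 92070 ≤ k → k < 102510 → pointOk (k * 22) = true := between_extend pointOk 22 92070 102501 9 (p6u1158) p6r1159

theorem p6r1160 : allRange pointOk 22 102510 9 = true := by decide +kernel
theorem p6u1160 : ∀ k, 92070 ≤ k → k < 102519 → pointOk (k * 22) = true := between_extend pointOk 22 92070 102510 9 (p6u1159) p6r1160

theorem p6r1161 : allRange pointOk 22 102519 9 = true := by decide +kernel
theorem p6u1161 : ∀ k, 92070 ≤ k → k < 102528 → pointOk (k * 22) = true := between_extend pointOk 22 92070 102519 9 (p6u1160) p6r1161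

theorem p6r1162 : allRange pointOk 22 102528 9 = true := by decide +kernel
theorem p6u1162 : ∀ k, 92070 ≤ k → k < 102537 → pointOk (k * 22) = true := between_extend pointOk 22 92070 102528 9 (p6u1161) p6r1162

theorem p6r1163 : allRange pointOk 22 102537 9 = true := by decide +kernel
theorem p6u1163 : ∀ k, 92070 ≤ k → k < 102546 → pointOk (k * 22) = true := between_extend pointOk 22 92070 102537 9 (p6u1162) p6r1163

theorem p6r1164 : allRange pointOk 22 102546 9 = true := by decide +kernel
theorem p6u1164 : ∀ k, 92070 ≤ k → k < 102555 → pointOk (k * 22) = true := between_extend pointOk 22 92070 102546 9 (p6u1163) p6r1164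

theorem p6r1165 : allRange pointOk 22 102555 9 = true := by decide +kernel
theorem p6u1165 : ∀ k, 92070 ≤ k → k < 102564 → pointOk (k * 22) = true := between_extend pointOk 22 92070 102555 9 (p6u1164) p6r1165

theorem p6r1166 : allRange pointOk 22 102564 9 = true := by decide +kernel
theorem p6u1166 : ∀ k, 92070 ≤ k → k < 102573 → pointOk (k * 22) = true := between_extend pointOk 22 92070 102564 9 (p6u1165) p6r1166

theorem p6r1167 : allRange pointOk 22 102573 9 = true := by decide +kernel
theorem p6u1167 : ∀ k, 92070 ≤ k → k < 102582 → pointOk (k * 22) = true := between_extend pointOk 22 92070 102573 9 (p6u1166) p6r1167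

theorem p6r1168 : allRange pointOk 22 102582 9 = true := by decide +kernel
theorem p6u1168 : ∀ k, 92070 ≤ k → k < 102591 → pointOk (k * 22) = true := between_extend pointOk 22 92070 102582 9 (p6u1167) p6r1168

theorem p6r1169 : allRange pointOk 22 102591 9 = true := by decide +kernel
theorem p6u1169 : ∀ k, 92070 ≤ k → k < 102600 → pointOk (k * 22) = true := between_extend pointOk 22 92070 102591 9 (p6u1168) p6r1169

theorem p6r1170 : allRange pointOk 22 102600 9 = true := by decide +kernel
theorem p6u1170 : ∀ k, 92070 ≤ k → k < 102609 → pointOk (k * 22) = true := between_extend pointOk 22 92070 102600 9 (p6u1169) p6r1170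

theorem p6r1171 : allRange pointOk 22 102609 9 = true := by decide +kernel
theorem p6u1171 : ∀ k, 92070 ≤ k → k < 102618 → pointOk (k * 22) = true := between_extend pointOk 22 92070 102609 9 (p6u1170) p6r1171

theorem p6r1172 : allRange pointOk 22 102618 9 = true := by decide +kernel
theorem p6u1172 : ∀ k, 92070 ≤ k → k < 102627 → pointOk (k * 22) = true := between_extend pointOk 22 92070 102618 9 (p6u1171) p6r1172

theorem p6r1173 : allRange pointOk 22 102627 9 = true := by decide +kernel
theorem p6u1173 : ∀ k, 92070 ≤ k → k < 102636 → pointOk (k * 22) = true := between_extend pointOk 22 92070 102627 9 (p6u1172) p6r1173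

theorem p6r1174 : allRange pointOk 22 102636 9 = true := by decide +kernel
theorem p6u1174 : ∀ k, 92070 ≤ k → k < 102645 → pointOk (k * 22) = true := between_extend pointOk 22 92070 102636 9 (p6u1173) p6r1174

theorem p6r1175 : allRange pointOk 22 102645 9 = true := by decide +kernel
theorem p6u1175 : ∀ k, 92070 ≤ k → k < 102654 → pointOk (k * 22) = true := between_extend pointOk 22 92070 102645 9 (p6u1174) p6r1175

theorem p6r1176 : allRange pointOk 22 102654 9 = true := by decide +kernel
theorem p6u1176 : ∀ k, 92070 ≤ k → k < 102663 → pointOk (k * 22) = true := between_extend pointOk 22 92070 102654 9 (p6u1175) p6r1176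

theorem p6r1177 : allRange pointOk 22 102663 9 = true := by decide +kernel
theorem p6u1177 : ∀ k, 92070 ≤ k → k < 102672 → pointOk (k * 22) = true := between_extend pointOk 22 92070 102663 9 (p6u1176) p6r1177

theorem p6r1178 : allRange pointOk 22 102672 9 = true := by decide +kernel
theorem p6u1178 : ∀ k, 92070 ≤ k → k < 102681 → pointOk (k * 22) = true := between_extend pointOk 22 92070 102672 9 (p6u1177) p6r1178

theorem p6r1179 : allRange pointOk 22 102681 9 = true := by decide +kernel
theorem p6u1179 : ∀ k, 92070 ≤ k → k < 102690 → pointOk (k * 22) = true := between_extend pointOk 22 92070 102681 9 (p6u1178) p6r1179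

theorem p6r1180 : allRange pointOk 22 102690 9 = true := by decide +kernel
theorem p6u1180 : ∀ k, 92070 ≤ k → k < 102699 → pointOk (k * 22) = true := between_extend pointOk 22 92070 102690 9 (p6u1179) p6r1180

theorem p6r1181 : allRange pointOk 22 102699 9 = true := by decide +kernel
theorem p6u1181 : ∀ k, 92070 ≤ k → k < 102708 → pointOk (k * 22) = true := between_extend pointOk 22 92070 102699 9 (p6u1180) p6r1181

theorem p6r1182 : allRange pointOk 22 102708 9 = true := by decide +kernel
theorem p6u1182 : ∀ k, 92070 ≤ k → k < 102717 → pointOk (k * 22) = true := between_extend pointOk 22 92070 102708 9 (p6u1181) p6r1182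

theorem p6r1183 : allRange pointOk 22 102717 9 = true := by decide +kernel
theorem p6u1183 : ∀ k, 92070 ≤ k → k < 102726 → pointOk (k * 22) = true := between_extend pointOk 22 92070 102717 9 (p6u1182) p6r1183

theorem p6r1184 : allRange pointOk 22 102726 9 = true := by decide +kernel
theorem p6u1184 : ∀ k, 92070 ≤ k → k < 102735 → pointOk (k * 22) = true := between_extend pointOk 22 92070 102726 9 (p6u1183) p6r1184

theorem p6r1185 : allRange pointOk 22 102735 9 = true := by decide +kernel
theorem p6u1185 : ∀ k, 92070 ≤ k → k < 102744 → pointOk (k * 22) = true := between_extend pointOk 22 92070 102735 9 (p6u1184) p6r1185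

theorem p6r1186 : allRange pointOk 22 102744 9 = true := by decide +kernel
theorem p6u1186 : ∀ k, 92070 ≤ k → k < 102753 → pointOk (k * 22) = true := between_extend pointOk 22 92070 102744 9 (p6u1185) p6r1186

theorem p6r1187 : allRange pointOk 22 102753 9 = true := by decide +kernel
theorem p6u1187 : ∀ k, 92070 ≤ k → k < 102762 → pointOk (k * 22) = true := between_extend pointOk 22 92070 102753 9 (p6u1186) p6r1187

theorem p6r1188 : allRange pointOk 22 102762 9 = true := by decide +kernel
theorem p6u1188 : ∀ k, 92070 ≤ k → k < 102771 → pointOk (k * 22) = true := between_extend pointOk 22 92070 102762 9 (p6u1187) p6r1188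

theorem p6r1189 : allRange pointOk 22 102771 9 = true := by decide +kernel
theorem p6u1189 : ∀ k, 92070 ≤ k → k < 102780 → pointOk (k * 22) = true := between_extend pointOk 22 92070 102771 9 (p6u1188) p6r1189

theorem p6r1190 : allRange pointOk 22 102780 9 = true := by decide +kernel
theorem p6u1190 : ∀ k, 92070 ≤ k → k < 102789 → pointOk (k * 22) = true := between_extend pointOk 22 92070 102780 9 (p6u1189) p6r1190

theorem p6r1191 : allRange pointOk 22 102789 9 = true := by decide +kernel
theorem p6u1191 : ∀ k, 92070 ≤ k → k < 102798 → pointOk (k * 22) = true := between_extend pointOk 22 92070 102789 9 (p6u1190) p6r1191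

theorem p6r1192 : allRange pointOk 22 102798 9 = true := by decide +kernel
theorem p6u1192 : ∀ k, 92070 ≤ k → k < 102807 → pointOk (k * 22) = true := between_extend pointOk 22 92070 102798 9 (p6u1191) p6r1192

theorem p6r1193 : allRange pointOk 22 102807 9 = true := by decide +kernel
theorem p6u1193 : ∀ k, 92070 ≤ k → k < 102816 → pointOk (k * 22) = true := between_extend pointOk 22 92070 102807 9 (p6u1192) p6r1193

theorem p6r1194 : allRange pointOk 22 102816 9 = true := by decide +kernel
theorem p6u1194 : ∀ k, 92070 ≤ k → k < 102825 → pointOk (k * 22) = true := between_extend pointOk 22 92070 102816 9 (p6u1193) p6r1194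

theorem p6r1195 : allRange pointOk 22 102825 9 = true := by decide +kernel
theorem p6u1195 : ∀ k, 92070 ≤ k → k < 102834 → pointOk (k * 22) = true := between_extend pointOk 22 92070 102825 9 (p6u1194) p6r1195

theorem p6r1196 : allRange pointOk 22 102834 9 = true := by decide +kernel
theorem p6u1196 : ∀ k, 92070 ≤ k → k < 102843 → pointOk (k * 22) = true := between_extend pointOk 22 92070 102834 9 (p6u1195) p6r1196

theorem p6r1197 : allRange pointOk 22 102843 9 = true := by decide +kernel
theorem p6u1197 : ∀ k, 92070 ≤ k → k < 102852 → pointOk (k * 22) = true := between_extend pointOk 22 92070 102843 9 (p6u1196) p6r1197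

theorem p6r1198 : allRange pointOk 22 102852 9 = true := by decide +kernel
theorem p6u1198 : ∀ k, 92070 ≤ k → k < 102861 → pointOk (k * 22) = true := between_extend pointOk 22 92070 102852 9 (p6u1197) p6r1198

theorem p6r1199 : allRange pointOk 22 102861 9 = true := by decide +kernel
theorem p6u1199 : ∀ k, 92070 ≤ k → k < 102870 → pointOk (k * 22) = true := between_extend pointOk 22 92070 102861 9 (p6u1198) p6r1199

theorem p6r1200 : allRange pointOk 22 102870 9 = true := by decide +kernel
theorem p6u1200 : ∀ k, 92070 ≤ k → k < 102879 → pointOk (k * 22) = true := between_extend pointOk 22 92070 102870 9 (p6u1199) p6r1200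

theorem p6r1201 : allRange pointOk 22 102879 9 = true := by decide +kernel
theorem p6u1201 : ∀ k, 92070 ≤ k → k < 102888 → pointOk (k * 22) = true := between_extend pointOk 22 92070 102879 9 (p6u1200) p6r1201

theorem p6r1202 : allRange pointOk 22 102888 9 = true := by decide +kernel
theorem p6u1202 : ∀ k, 92070 ≤ k → k < 102897 → pointOk (k * 22) = true := between_extend pointOk 22 92070 102888 9 (p6u1201) p6r1202

theorem p6r1203 : allRange pointOk 22 102897 9 = true := by decide +kernel
theorem p6u1203 : ∀ k, 92070 ≤ k → k < 102906 → pointOk (k * 22) = true := between_extend pointOk 22 92070 102897 9 (p6u1202) p6r1203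

theorem p6r1204 : allRange pointOk 22 102906 9 = true := by decide +kernel
theorem p6u1204 : ∀ k, 92070 ≤ k → k < 102915 → pointOk (k * 22) = true := between_extend pointOk 22 92070 102906 9 (p6u1203) p6r1204

theorem p6r1205 : allRange pointOk 22 102915 9 = true := by decide +kernel
theorem p6u1205 : ∀ k, 92070 ≤ k → k < 102924 → pointOk (k * 22) = true := between_extend pointOk 22 92070 102915 9 (p6u1204) p6r1205

theorem p6r1206 : allRange pointOk 22 102924 9 = true := by decide +kernel
theorem p6u1206 : ∀ k, 92070 ≤ k → k < 102933 → pointOk (k * 22) = true := between_extend pointOk 22 92070 102924 9 (p6u1205) p6r1206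

theorem p6r1207 : allRange pointOk 22 102933 9 = true := by decide +kernel
theorem p6u1207 : ∀ k, 92070 ≤ k → k < 102942 → pointOk (k * 22) = true := between_extend pointOk 22 92070 102933 9 (p6u1206) p6r1207

theorem p6r1208 : allRange pointOk 22 102942 9 = true := by decide +kernel
theorem p6u1208 : ∀ k, 92070 ≤ k → k < 102951 → pointOk (k * 22) = true := between_extend pointOk 22 92070 102942 9 (p6u1207) p6r1208

theorem p6r1209 : allRange pointOk 22 102951 9 = true := by decide +kernel
theorem p6u1209 : ∀ k, 92070 ≤ k → k < 102960 → pointOk (k * 22) = true := between_extend pointOk 22 92070 102951 9 (p6u1208) p6r1209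

theorem p6r1210 : allRange pointOk 22 102960 9 = true := by decide +kernel
theorem p6u1210 : ∀ k, 92070 ≤ k → k < 102969 → pointOk (k * 22) = true := between_extend pointOk 22 92070 102960 9 (p6u1209) p6r1210

theorem p6r1211 : allRange pointOk 22 102969 9 = true := by decide +kernel
theorem p6u1211 : ∀ k, 92070 ≤ k → k < 102978 → pointOk (k * 22) = true := between_extend pointOk 22 92070 102969 9 (p6u1210) p6r1211

theorem p6r1212 : allRange pointOk 22 102978 9 = true := by decide +kernel
theorem p6u1212 : ∀ k, 92070 ≤ k → k < 102987 → pointOk (k * 22) = true := between_extend pointOk 22 92070 102978 9 (p6u1211) p6r1212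

theorem p6r1213 : allRange pointOk 22 102987 9 = true := by decide +kernel
theorem p6u1213 : ∀ k, 92070 ≤ k → k < 102996 → pointOk (k * 22) = true := between_extend pointOk 22 92070 102987 9 (p6u1212) p6r1213

theorem p6r1214 : allRange pointOk 22 102996 9 = true := by decide +kernel
theorem p6u1214 : ∀ k, 92070 ≤ k → k < 103005 → pointOk (k * 22) = true := between_extend pointOk 22 92070 102996 9 (p6u1213) p6r1214

theorem p6r1215 : allRange pointOk 22 103005 9 = true := by decide +kernel
theorem p6u1215 : ∀ k, 92070 ≤ k → k < 103014 → pointOk (k * 22) = true := between_extend pointOk 22 92070 103005 9 (p6u1214) p6r1215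

theorem p6r1216 : allRange pointOk 22 103014 9 = true := by decide +kernel
theorem p6u1216 : ∀ k, 92070 ≤ k → k < 103023 → pointOk (k * 22) = true := between_extend pointOk 22 92070 103014 9 (p6u1215) p6r1216

theorem p6r1217 : allRange pointOk 22 103023 9 = true := by decide +kernel
theorem p6u1217 : ∀ k, 92070 ≤ k → k < 103032 → pointOk (k * 22) = true := between_extend pointOk 22 92070 103023 9 (p6u1216) p6r1217

theorem p6r1218 : allRange pointOk 22 103032 9 = true := by decide +kernel
theorem p6u1218 : ∀ k, 92070 ≤ k → k < 103041 → pointOk (k * 22) = true := between_extend pointOk 22 92070 103032 9 (p6u1217) p6r1218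

theorem p6r1219 : allRange pointOk 22 103041 9 = true := by decide +kernel
theorem p6u1219 : ∀ k, 92070 ≤ k → k < 103050 → pointOk (k * 22) = true := between_extend pointOk 22 92070 103041 9 (p6u1218) p6r1219

theorem p6r1220 : allRange pointOk 22 103050 9 = true := by decide +kernel
theorem p6u1220 : ∀ k, 92070 ≤ k → k < 103059 → pointOk (k * 22) = true := between_extend pointOk 22 92070 103050 9 (p6u1219) p6r1220

theorem p6r1221 : allRange pointOk 22 103059 9 = true := by decide +kernel
theorem p6u1221 : ∀ k, 92070 ≤ k → k < 103068 → pointOk (k * 22) = true := between_extend pointOk 22 92070 103059 9 (p6u1220) p6r1221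

theorem p6r1222 : allRange pointOk 22 103068 9 = true := by decide +kernel
theorem p6u1222 : ∀ k, 92070 ≤ k → k < 103077 → pointOk (k * 22) = true := between_extend pointOk 22 92070 103068 9 (p6u1221) p6r1222

theorem p6r1223 : allRange pointOk 22 103077 9 = true := by decide +kernel
theorem p6u1223 : ∀ k, 92070 ≤ k → k < 103086 → pointOk (k * 22) = true := between_extend pointOk 22 92070 103077 9 (p6u1222) p6r1223

theorem p6r1224 : allRange pointOk 22 103086 9 = true := by decide +kernel
theorem p6u1224 : ∀ k, 92070 ≤ k → k < 103095 → pointOk (k * 22) = true := between_extend pointOk 22 92070 103086 9 (p6u1223) p6r1224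

theorem p6r1225 : allRange pointOk 22 103095 9 = true := by decide +kernel
theorem p6u1225 : ∀ k, 92070 ≤ k → k < 103104 → pointOk (k * 22) = true := between_extend pointOk 22 92070 103095 9 (p6u1224) p6r1225

theorem p6r1226 : allRange pointOk 22 103104 9 = true := by decide +kernel
theorem p6u1226 : ∀ k, 92070 ≤ k → k < 103113 → pointOk (k * 22) = true := between_extend pointOk 22 92070 103104 9 (p6u1225) p6r1226

theorem p6r1227 : allRange pointOk 22 103113 9 = true := by decide +kernel
theorem p6u1227 : ∀ k, 92070 ≤ k → k < 103122 → pointOk (k * 22) = true := between_extend pointOk 22 92070 103113 9 (p6u1226) p6r1227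

theorem p6r1228 : allRange pointOk 22 103122 9 = true := by decide +kernel
theorem p6u1228 : ∀ k, 92070 ≤ k → k < 103131 → pointOk (k * 22) = true := between_extend pointOk 22 92070 103122 9 (p6u1227) p6r1228

theorem p6r1229 : allRange pointOk 22 103131 9 = true := by decide +kernel
theorem p6u1229 : ∀ k, 92070 ≤ k → k < 103140 → pointOk (k * 22) = true := between_extend pointOk 22 92070 103131 9 (p6u1228) p6r1229

theorem p6r1230 : allRange pointOk 22 103140 9 = true := by decide +kernel
theorem p6u1230 : ∀ k, 92070 ≤ k → k < 103149 → pointOk (k * 22) = true := between_extend pointOk 22 92070 103140 9 (p6u1229) p6r1230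

theorem p6r1231 : allRange pointOk 22 103149 9 = true := by decide +kernel
theorem p6u1231 : ∀ k, 92070 ≤ k → k < 103158 → pointOk (k * 22) = true := between_extend pointOk 22 92070 103149 9 (p6u1230) p6r1231

theorem p6r1232 : allRange pointOk 22 103158 9 = true := by decide +kernel
theorem p6u1232 : ∀ k, 92070 ≤ k → k < 103167 → pointOk (k * 22) = true := between_extend pointOk 22 92070 103158 9 (p6u1231) p6r1232

theorem p6r1233 : allRange pointOk 22 103167 9 = true := by decide +kernel
theorem p6u1233 : ∀ k, 92070 ≤ k → k < 103176 → pointOk (k * 22) = true := between_extend pointOk 22 92070 103167 9 (p6u1232) p6r1233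

theorem p6r1234 : allRange pointOk 22 103176 9 = true := by decide +kernel
theorem p6u1234 : ∀ k, 92070 ≤ k → k < 103185 → pointOk (k * 22) = true := between_extend pointOk 22 92070 103176 9 (p6u1233) p6r1234

theorem p6r1235 : allRange pointOk 22 103185 9 = true := by decide +kernel
theorem p6u1235 : ∀ k, 92070 ≤ k → k < 103194 → pointOk (k * 22) = true := between_extend pointOk 22 92070 103185 9 (p6u1234) p6r1235

theorem p6r1236 : allRange pointOk 22 103194 9 = true := by decide +kernel
theorem p6u1236 : ∀ k, 92070 ≤ k → k < 103203 → pointOk (k * 22) = true := between_extend pointOk 22 92070 103194 9 (p6u1235) p6r1236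

theorem p6r1237 : allRange pointOk 22 103203 9 = true := by decide +kernel
theorem p6u1237 : ∀ k, 92070 ≤ k → k < 103212 → pointOk (k * 22) = true := between_extend pointOk 22 92070 103203 9 (p6u1236) p6r1237

theorem p6r1238 : allRange pointOk 22 103212 9 = true := by decide +kernel
theorem p6u1238 : ∀ k, 92070 ≤ k → k < 103221 → pointOk (k * 22) = true := between_extend pointOk 22 92070 103212 9 (p6u1237) p6r1238

theorem p6r1239 : allRange pointOk 22 103221 9 = true := by decide +kernel
theorem p6u1239 : ∀ k, 92070 ≤ k → k < 103230 → pointOk (k * 22) = true := between_extend pointOk 22 92070 103221 9 (p6u1238) p6r1239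

theorem p6r1240 : allRange pointOk 22 103230 9 = true := by decide +kernel
theorem p6u1240 : ∀ k, 92070 ≤ k → k < 103239 → pointOk (k * 22) = true := between_extend pointOk 22 92070 103230 9 (p6u1239) p6r1240

theorem p6r1241 : allRange pointOk 22 103239 9 = true := by decide +kernel
theorem p6u1241 : ∀ k, 92070 ≤ k → k < 103248 → pointOk (k * 22) = true := between_extend pointOk 22 92070 103239 9 (p6u1240) p6r1241

theorem p6r1242 : allRange pointOk 22 103248 9 = true := by decide +kernel
theorem p6u1242 : ∀ k, 92070 ≤ k → k < 103257 → pointOk (k * 22) = true := between_extend pointOk 22 92070 103248 9 (p6u1241) p6r1242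

theorem p6r1243 : allRange pointOk 22 103257 9 = true := by decide +kernel
theorem p6u1243 : ∀ k, 92070 ≤ k → k < 103266 → pointOk (k * 22) = true := between_extend pointOk 22 92070 103257 9 (p6u1242) p6r1243

theorem p6r1244 : allRange pointOk 22 103266 9 = true := by decide +kernel
theorem p6u1244 : ∀ k, 92070 ≤ k → k < 103275 → pointOk (k * 22) = true := between_extend pointOk 22 92070 103266 9 (p6u1243) p6r1244

theorem p6r1245 : allRange pointOk 22 103275 9 = true := by decide +kernel
theorem p6u1245 : ∀ k, 92070 ≤ k → k < 103284 → pointOk (k * 22) = true := between_extend pointOk 22 92070 103275 9 (p6u1244) p6r1245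

theorem p6r1246 : allRange pointOk 22 103284 9 = true := by decide +kernel
theorem p6u1246 : ∀ k, 92070 ≤ k → k < 103293 → pointOk (k * 22) = true := between_extend pointOk 22 92070 103284 9 (p6u1245) p6r1246

theorem p6r1247 : allRange pointOk 22 103293 9 = true := by decide +kernel
theorem p6u1247 : ∀ k, 92070 ≤ k → k < 103302 → pointOk (k * 22) = true := between_extend pointOk 22 92070 103293 9 (p6u1246) p6r1247

theorem p6r1248 : allRange pointOk 22 103302 9 = true := by decide +kernel
theorem p6u1248 : ∀ k, 92070 ≤ k → k < 103311 → pointOk (k * 22) = true := between_extend pointOk 22 92070 103302 9 (p6u1247) p6r1248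

theorem p6r1249 : allRange pointOk 22 103311 9 = true := by decide +kernel
theorem p6u1249 : ∀ k, 92070 ≤ k → k < 103320 → pointOk (k * 22) = true := between_extend pointOk 22 92070 103311 9 (p6u1248) p6r1249

theorem p6r1250 : allRange pointOk 22 103320 9 = true := by decide +kernel
theorem p6u1250 : ∀ k, 92070 ≤ k → k < 103329 → pointOk (k * 22) = true := between_extend pointOk 22 92070 103320 9 (p6u1249) p6r1250

theorem p6r1251 : allRange pointOk 22 103329 9 = true := by decide +kernel
theorem p6u1251 : ∀ k, 92070 ≤ k → k < 103338 → pointOk (k * 22) = true := between_extend pointOk 22 92070 103329 9 (p6u1250) p6r1251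

theorem p6r1252 : allRange pointOk 22 103338 9 = true := by decide +kernel
theorem p6u1252 : ∀ k, 92070 ≤ k → k < 103347 → pointOk (k * 22) = true := between_extend pointOk 22 92070 103338 9 (p6u1251) p6r1252

theorem p6r1253 : allRange pointOk 22 103347 9 = true := by decide +kernel
theorem p6u1253 : ∀ k, 92070 ≤ k → k < 103356 → pointOk (k * 22) = true := between_extend pointOk 22 92070 103347 9 (p6u1252) p6r1253

theorem p6r1254 : allRange pointOk 22 103356 9 = true := by decide +kernel
theorem p6u1254 : ∀ k, 92070 ≤ k → k < 103365 → pointOk (k * 22) = true := between_extend pointOk 22 92070 103356 9 (p6u1253) p6r1254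

theorem p6r1255 : allRange pointOk 22 103365 9 = true := by decide +kernel
theorem p6u1255 : ∀ k, 92070 ≤ k → k < 103374 → pointOk (k * 22) = true := between_extend pointOk 22 92070 103365 9 (p6u1254) p6r1255

theorem p6r1256 : allRange pointOk 22 103374 9 = true := by decide +kernel
theorem p6u1256 : ∀ k, 92070 ≤ k → k < 103383 → pointOk (k * 22) = true := between_extend pointOk 22 92070 103374 9 (p6u1255) p6r1256

theorem p6r1257 : allRange pointOk 22 103383 9 = true := by decide +kernel
theorem p6u1257 : ∀ k, 92070 ≤ k → k < 103392 → pointOk (k * 22) = true := between_extend pointOk 22 92070 103383 9 (p6u1256) p6r1257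

theorem p6r1258 : allRange pointOk 22 103392 9 = true := by decide +kernel
theorem p6u1258 : ∀ k, 92070 ≤ k → k < 103401 → pointOk (k * 22) = true := between_extend pointOk 22 92070 103392 9 (p6u1257) p6r1258

theorem p6r1259 : allRange pointOk 22 103401 9 = true := by decide +kernel
theorem p6u1259 : ∀ k, 92070 ≤ k → k < 103410 → pointOk (k * 22) = true := between_extend pointOk 22 92070 103401 9 (p6u1258) p6r1259

theorem p6r1260 : allRange pointOk 22 103410 9 = true := by decide +kernel
theorem p6u1260 : ∀ k, 92070 ≤ k → k < 103419 → pointOk (k * 22) = true := between_extend pointOk 22 92070 103410 9 (p6u1259) p6r1260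

theorem p6r1261 : allRange pointOk 22 103419 9 = true := by decide +kernel
theorem p6u1261 : ∀ k, 92070 ≤ k → k < 103428 → pointOk (k * 22) = true := between_extend pointOk 22 92070 103419 9 (p6u1260) p6r1261

theorem p6r1262 : allRange pointOk 22 103428 9 = true := by decide +kernel
theorem p6u1262 : ∀ k, 92070 ≤ k → k < 103437 → pointOk (k * 22) = true := between_extend pointOk 22 92070 103428 9 (p6u1261) p6r1262

theorem p6r1263 : allRange pointOk 22 103437 9 = true := by decide +kernel
theorem p6u1263 : ∀ k, 92070 ≤ k → k < 103446 → pointOk (k * 22) = true := between_extend pointOk 22 92070 103437 9 (p6u1262) p6r1263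

theorem p6r1264 : allRange pointOk 22 103446 9 = true := by decide +kernel
theorem p6u1264 : ∀ k, 92070 ≤ k → k < 103455 → pointOk (k * 22) = true := between_extend pointOk 22 92070 103446 9 (p6u1263) p6r1264

theorem p6r1265 : allRange pointOk 22 103455 9 = true := by decide +kernel
theorem p6u1265 : ∀ k, 92070 ≤ k → k < 103464 → pointOk (k * 22) = true := between_extend pointOk 22 92070 103455 9 (p6u1264) p6r1265

theorem p6r1266 : allRange pointOk 22 103464 9 = true := by decide +kernel
theorem p6u1266 : ∀ k, 92070 ≤ k → k < 103473 → pointOk (k * 22) = true := between_extend pointOk 22 92070 103464 9 (p6u1265) p6r1266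

theorem p6r1267 : allRange pointOk 22 103473 9 = true := by decide +kernel
theorem p6u1267 : ∀ k, 92070 ≤ k → k < 103482 → pointOk (k * 22) = true := between_extend pointOk 22 92070 103473 9 (p6u1266) p6r1267

theorem p6r1268 : allRange pointOk 22 103482 9 = true := by decide +kernel
theorem p6u1268 : ∀ k, 92070 ≤ k → k < 103491 → pointOk (k * 22) = true := between_extend pointOk 22 92070 103482 9 (p6u1267) p6r1268

theorem p6r1269 : allRange pointOk 22 103491 9 = true := by decide +kernel
theorem p6u1269 : ∀ k, 92070 ≤ k → k < 103500 → pointOk (k * 22) = true := between_extend pointOk 22 92070 103491 9 (p6u1268) p6r1269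

theorem p6r1270 : allRange pointOk 22 103500 9 = true := by decide +kernel
theorem p6u1270 : ∀ k, 92070 ≤ k → k < 103509 → pointOk (k * 22) = true := between_extend pointOk 22 92070 103500 9 (p6u1269) p6r1270

theorem p6r1271 : allRange pointOk 22 103509 9 = true := by decide +kernel
theorem p6u1271 : ∀ k, 92070 ≤ k → k < 103518 → pointOk (k * 22) = true := between_extend pointOk 22 92070 103509 9 (p6u1270) p6r1271

theorem p6r1272 : allRange pointOk 22 103518 9 = true := by decide +kernel
theorem p6u1272 : ∀ k, 92070 ≤ k → k < 103527 → pointOk (k * 22) = true := between_extend pointOk 22 92070 103518 9 (p6u1271) p6r1272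

theorem p6r1273 : allRange pointOk 22 103527 9 = true := by decide +kernel
theorem p6u1273 : ∀ k, 92070 ≤ k → k < 103536 → pointOk (k * 22) = true := between_extend pointOk 22 92070 103527 9 (p6u1272) p6r1273

theorem p6r1274 : allRange pointOk 22 103536 9 = true := by decide +kernel
theorem p6u1274 : ∀ k, 92070 ≤ k → k < 103545 → pointOk (k * 22) = true := between_extend pointOk 22 92070 103536 9 (p6u1273) p6r1274

theorem p6r1275 : allRange pointOk 22 103545 9 = true := by decide +kernel
theorem p6u1275 : ∀ k, 92070 ≤ k → k < 103554 → pointOk (k * 22) = true := between_extend pointOk 22 92070 103545 9 (p6u1274) p6r1275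

theorem p6r1276 : allRange pointOk 22 103554 9 = true := by decide +kernel
theorem p6u1276 : ∀ k, 92070 ≤ k → k < 103563 → pointOk (k * 22) = true := between_extend pointOk 22 92070 103554 9 (p6u1275) p6r1276

theorem p6r1277 : allRange pointOk 22 103563 9 = true := by decide +kernel
theorem p6u1277 : ∀ k, 92070 ≤ k → k < 103572 → pointOk (k * 22) = true := between_extend pointOk 22 92070 103563 9 (p6u1276) p6r1277

theorem p6r1278 : allRange pointOk 22 103572 9 = true := by decide +kernel
theorem p6u1278 : ∀ k, 92070 ≤ k → k < 103581 → pointOk (k * 22) = true := between_extend pointOk 22 92070 103572 9 (p6u1277) p6r1278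

theorem p6r1279 : allRange pointOk 22 103581 9 = true := by decide +kernel
theorem p6u1279 : ∀ k, 92070 ≤ k → k < 103590 → pointOk (k * 22) = true := between_extend pointOk 22 92070 103581 9 (p6u1278) p6r1279

theorem p6r1280 : allRange pointOk 22 103590 9 = true := by decide +kernel
theorem p6u1280 : ∀ k, 92070 ≤ k → k < 103599 → pointOk (k * 22) = true := between_extend pointOk 22 92070 103590 9 (p6u1279) p6r1280

theorem p6r1281 : allRange pointOk 22 103599 9 = true := by decide +kernel
theorem p6u1281 : ∀ k, 92070 ≤ k → k < 103608 → pointOk (k * 22) = true := between_extend pointOk 22 92070 103599 9 (p6u1280) p6r1281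

theorem p6r1282 : allRange pointOk 22 103608 9 = true := by decide +kernel
theorem p6u1282 : ∀ k, 92070 ≤ k → k < 103617 → pointOk (k * 22) = true := between_extend pointOk 22 92070 103608 9 (p6u1281) p6r1282

theorem p6r1283 : allRange pointOk 22 103617 9 = true := by decide +kernel
theorem p6u1283 : ∀ k, 92070 ≤ k → k < 103626 → pointOk (k * 22) = true := between_extend pointOk 22 92070 103617 9 (p6u1282) p6r1283

theorem p6r1284 : allRange pointOk 22 103626 9 = true := by decide +kernel
theorem p6u1284 : ∀ k, 92070 ≤ k → k < 103635 → pointOk (k * 22) = true := between_extend pointOk 22 92070 103626 9 (p6u1283) p6r1284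

theorem p6r1285 : allRange pointOk 22 103635 9 = true := by decide +kernel
theorem p6u1285 : ∀ k, 92070 ≤ k → k < 103644 → pointOk (k * 22) = true := between_extend pointOk 22 92070 103635 9 (p6u1284) p6r1285

theorem p6r1286 : allRange pointOk 22 103644 9 = true := by decide +kernel
theorem p6u1286 : ∀ k, 92070 ≤ k → k < 103653 → pointOk (k * 22) = true := between_extend pointOk 22 92070 103644 9 (p6u1285) p6r1286

theorem p6r1287 : allRange pointOk 22 103653 9 = true := by decide +kernel
theorem p6u1287 : ∀ k, 92070 ≤ k → k < 103662 → pointOk (k * 22) = true := between_extend pointOk 22 92070 103653 9 (p6u1286) p6r1287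

theorem p6r1288 : allRange pointOk 22 103662 9 = true := by decide +kernel
theorem p6u1288 : ∀ k, 92070 ≤ k → k < 103671 → pointOk (k * 22) = true := between_extend pointOk 22 92070 103662 9 (p6u1287) p6r1288

theorem p6r1289 : allRange pointOk 22 103671 9 = true := by decide +kernel
theorem p6u1289 : ∀ k, 92070 ≤ k → k < 103680 → pointOk (k * 22) = true := between_extend pointOk 22 92070 103671 9 (p6u1288) p6r1289

theorem p6r1290 : allRange pointOk 22 103680 9 = true := by decide +kernel
theorem p6u1290 : ∀ k, 92070 ≤ k → k < 103689 → pointOk (k * 22) = true := between_extend pointOk 22 92070 103680 9 (p6u1289) p6r1290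

theorem p6r1291 : allRange pointOk 22 103689 9 = true := by decide +kernel
theorem p6u1291 : ∀ k, 92070 ≤ k → k < 103698 → pointOk (k * 22) = true := between_extend pointOk 22 92070 103689 9 (p6u1290) p6r1291

theorem p6r1292 : allRange pointOk 22 103698 9 = true := by decide +kernel
theorem p6u1292 : ∀ k, 92070 ≤ k → k < 103707 → pointOk (k * 22) = true := between_extend pointOk 22 92070 103698 9 (p6u1291) p6r1292

theorem p6r1293 : allRange pointOk 22 103707 9 = true := by decide +kernel
theorem p6u1293 : ∀ k, 92070 ≤ k → k < 103716 → pointOk (k * 22) = true := between_extend pointOk 22 92070 103707 9 (p6u1292) p6r1293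

theorem p6r1294 : allRange pointOk 22 103716 9 = true := by decide +kernel
theorem p6u1294 : ∀ k, 92070 ≤ k → k < 103725 → pointOk (k * 22) = true := between_extend pointOk 22 92070 103716 9 (p6u1293) p6r1294

theorem p6r1295 : allRange pointOk 22 103725 9 = true := by decide +kernel
theorem p6u1295 : ∀ k, 92070 ≤ k → k < 103734 → pointOk (k * 22) = true := between_extend pointOk 22 92070 103725 9 (p6u1294) p6r1295

theorem p6r1296 : allRange pointOk 22 103734 9 = true := by decide +kernel
theorem p6u1296 : ∀ k, 92070 ≤ k → k < 103743 → pointOk (k * 22) = true := between_extend pointOk 22 92070 103734 9 (p6u1295) p6r1296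

theorem p6r1297 : allRange pointOk 22 103743 9 = true := by decide +kernel
theorem p6u1297 : ∀ k, 92070 ≤ k → k < 103752 → pointOk (k * 22) = true := between_extend pointOk 22 92070 103743 9 (p6u1296) p6r1297

theorem p6r1298 : allRange pointOk 22 103752 9 = true := by decide +kernel
theorem p6u1298 : ∀ k, 92070 ≤ k → k < 103761 → pointOk (k * 22) = true := between_extend pointOk 22 92070 103752 9 (p6u1297) p6r1298

theorem p6r1299 : allRange pointOk 22 103761 9 = true := by decide +kernel
theorem p6u1299 : ∀ k, 92070 ≤ k → k < 103770 → pointOk (k * 22) = true := between_extend pointOk 22 92070 103761 9 (p6u1298) p6r1299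

theorem p6r1300 : allRange pointOk 22 103770 9 = true := by decide +kernel
theorem p6u1300 : ∀ k, 92070 ≤ k → k < 103779 → pointOk (k * 22) = true := between_extend pointOk 22 92070 103770 9 (p6u1299) p6r1300

theorem p6r1301 : allRange pointOk 22 103779 9 = true := by decide +kernel
theorem p6u1301 : ∀ k, 92070 ≤ k → k < 103788 → pointOk (k * 22) = true := between_extend pointOk 22 92070 103779 9 (p6u1300) p6r1301

theorem p6r1302 : allRange pointOk 22 103788 9 = true := by decide +kernel
theorem p6u1302 : ∀ k, 92070 ≤ k → k < 103797 → pointOk (k * 22) = true := between_extend pointOk 22 92070 103788 9 (p6u1301) p6r1302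

theorem p6r1303 : allRange pointOk 22 103797 9 = true := by decide +kernel
theorem p6u1303 : ∀ k, 92070 ≤ k → k < 103806 → pointOk (k * 22) = true := between_extend pointOk 22 92070 103797 9 (p6u1302) p6r1303

theorem p6r1304 : allRange pointOk 22 103806 9 = true := by decide +kernel
theorem p6u1304 : ∀ k, 92070 ≤ k → k < 103815 → pointOk (k * 22) = true := between_extend pointOk 22 92070 103806 9 (p6u1303) p6r1304

theorem p6r1305 : allRange pointOk 22 103815 9 = true := by decide +kernel
theorem p6u1305 : ∀ k, 92070 ≤ k → k < 103824 → pointOk (k * 22) = true := between_extend pointOk 22 92070 103815 9 (p6u1304) p6r1305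

theorem p6r1306 : allRange pointOk 22 103824 9 = true := by decide +kernel
theorem p6u1306 : ∀ k, 92070 ≤ k → k < 103833 → pointOk (k * 22) = true := between_extend pointOk 22 92070 103824 9 (p6u1305) p6r1306

theorem p6r1307 : allRange pointOk 22 103833 9 = true := by decide +kernel
theorem p6u1307 : ∀ k, 92070 ≤ k → k < 103842 → pointOk (k * 22) = true := between_extend pointOk 22 92070 103833 9 (p6u1306) p6r1307

theorem p6r1308 : allRange pointOk 22 103842 9 = true := by decide +kernel
theorem p6u1308 : ∀ k, 92070 ≤ k → k < 103851 → pointOk (k * 22) = true := between_extend pointOk 22 92070 103842 9 (p6u1307) p6r1308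

theorem p6r1309 : allRange pointOk 22 103851 9 = true := by decide +kernel
theorem p6u1309 : ∀ k, 92070 ≤ k → k < 103860 → pointOk (k * 22) = true := between_extend pointOk 22 92070 103851 9 (p6u1308) p6r1309

theorem p6r1310 : allRange pointOk 22 103860 9 = true := by decide +kernel
theorem p6u1310 : ∀ k, 92070 ≤ k → k < 103869 → pointOk (k * 22) = true := between_extend pointOk 22 92070 103860 9 (p6u1309) p6r1310

theorem p6r1311 : allRange pointOk 22 103869 9 = true := by decide +kernel
theorem p6u1311 : ∀ k, 92070 ≤ k → k < 103878 → pointOk (k * 22) = true := between_extend pointOk 22 92070 103869 9 (p6u1310) p6r1311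

theorem p6r1312 : allRange pointOk 22 103878 9 = true := by decide +kernel
theorem p6u1312 : ∀ k, 92070 ≤ k → k < 103887 → pointOk (k * 22) = true := between_extend pointOk 22 92070 103878 9 (p6u1311) p6r1312

theorem p6r1313 : allRange pointOk 22 103887 9 = true := by decide +kernel
theorem p6u1313 : ∀ k, 92070 ≤ k → k < 103896 → pointOk (k * 22) = true := between_extend pointOk 22 92070 103887 9 (p6u1312) p6r1313

theorem p6r1314 : allRange pointOk 22 103896 9 = true := by decide +kernel
theorem p6u1314 : ∀ k, 92070 ≤ k → k < 103905 → pointOk (k * 22) = true := between_extend pointOk 22 92070 103896 9 (p6u1313) p6r1314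

theorem p6r1315 : allRange pointOk 22 103905 9 = true := by decide +kernel
theorem p6u1315 : ∀ k, 92070 ≤ k → k < 103914 → pointOk (k * 22) = true := between_extend pointOk 22 92070 103905 9 (p6u1314) p6r1315

theorem p6r1316 : allRange pointOk 22 103914 9 = true := by decide +kernel
theorem p6u1316 : ∀ k, 92070 ≤ k → k < 103923 → pointOk (k * 22) = true := between_extend pointOk 22 92070 103914 9 (p6u1315) p6r1316

theorem p6r1317 : allRange pointOk 22 103923 9 = true := by decide +kernel
theorem p6u1317 : ∀ k, 92070 ≤ k → k < 103932 → pointOk (k * 22) = true := between_extend pointOk 22 92070 103923 9 (p6u1316) p6r1317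

theorem p6r1318 : allRange pointOk 22 103932 9 = true := by decide +kernel
theorem p6u1318 : ∀ k, 92070 ≤ k → k < 103941 → pointOk (k * 22) = true := between_extend pointOk 22 92070 103932 9 (p6u1317) p6r1318

theorem p6r1319 : allRange pointOk 22 103941 9 = true := by decide +kernel
theorem p6u1319 : ∀ k, 92070 ≤ k → k < 103950 → pointOk (k * 22) = true := between_extend pointOk 22 92070 103941 9 (p6u1318) p6r1319

theorem p6r1320 : allRange pointOk 22 103950 9 = true := by decide +kernel
theorem p6u1320 : ∀ k, 92070 ≤ k → k < 103959 → pointOk (k * 22) = true := between_extend pointOk 22 92070 103950 9 (p6u1319) p6r1320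

theorem p6r1321 : allRange pointOk 22 103959 9 = true := by decide +kernel
theorem p6u1321 : ∀ k, 92070 ≤ k → k < 103968 → pointOk (k * 22) = true := between_extend pointOk 22 92070 103959 9 (p6u1320) p6r1321

theorem p6r1322 : allRange pointOk 22 103968 9 = true := by decide +kernel
theorem p6u1322 : ∀ k, 92070 ≤ k → k < 103977 → pointOk (k * 22) = true := between_extend pointOk 22 92070 103968 9 (p6u1321) p6r1322

theorem p6r1323 : allRange pointOk 22 103977 9 = true := by decide +kernel
theorem p6u1323 : ∀ k, 92070 ≤ k → k < 103986 → pointOk (k * 22) = true := between_extend pointOk 22 92070 103977 9 (p6u1322) p6r1323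

theorem p6r1324 : allRange pointOk 22 103986 9 = true := by decide +kernel
theorem p6u1324 : ∀ k, 92070 ≤ k → k < 103995 → pointOk (k * 22) = true := between_extend pointOk 22 92070 103986 9 (p6u1323) p6r1324

theorem p6r1325 : allRange pointOk 22 103995 9 = true := by decide +kernel
theorem p6u1325 : ∀ k, 92070 ≤ k → k < 104004 → pointOk (k * 22) = true := between_extend pointOk 22 92070 103995 9 (p6u1324) p6r1325

theorem p6r1326 : allRange pointOk 22 104004 9 = true := by decide +kernel
theorem p6u1326 : ∀ k, 92070 ≤ k → k < 104013 → pointOk (k * 22) = true := between_extend pointOk 22 92070 104004 9 (p6u1325) p6r1326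

theorem p6r1327 : allRange pointOk 22 104013 9 = true := by decide +kernel
theorem p6u1327 : ∀ k, 92070 ≤ k → k < 104022 → pointOk (k * 22) = true := between_extend pointOk 22 92070 104013 9 (p6u1326) p6r1327

theorem p6r1328 : allRange pointOk 22 104022 9 = true := by decide +kernel
theorem p6u1328 : ∀ k, 92070 ≤ k → k < 104031 → pointOk (k * 22) = true := between_extend pointOk 22 92070 104022 9 (p6u1327) p6r1328

theorem p6r1329 : allRange pointOk 22 104031 9 = true := by decide +kernel
theorem p6u1329 : ∀ k, 92070 ≤ k → k < 104040 → pointOk (k * 22) = true := between_extend pointOk 22 92070 104031 9 (p6u1328) p6r1329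

theorem p6r1330 : allRange pointOk 22 104040 9 = true := by decide +kernel
theorem p6u1330 : ∀ k, 92070 ≤ k → k < 104049 → pointOk (k * 22) = true := between_extend pointOk 22 92070 104040 9 (p6u1329) p6r1330

theorem p6r1331 : allRange pointOk 22 104049 9 = true := by decide +kernel
theorem p6u1331 : ∀ k, 92070 ≤ k → k < 104058 → pointOk (k * 22) = true := between_extend pointOk 22 92070 104049 9 (p6u1330) p6r1331

theorem p6r1332 : allRange pointOk 22 104058 9 = true := by decide +kernel
theorem p6u1332 : ∀ k, 92070 ≤ k → k < 104067 → pointOk (k * 22) = true := between_extend pointOk 22 92070 104058 9 (p6u1331) p6r1332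

theorem p6r1333 : allRange pointOk 22 104067 9 = true := by decide +kernel
theorem p6u1333 : ∀ k, 92070 ≤ k → k < 104076 → pointOk (k * 22) = true := between_extend pointOk 22 92070 104067 9 (p6u1332) p6r1333

theorem p6r1334 : allRange pointOk 22 104076 9 = true := by decide +kernel
theorem p6u1334 : ∀ k, 92070 ≤ k → k < 104085 → pointOk (k * 22) = true := between_extend pointOk 22 92070 104076 9 (p6u1333) p6r1334

theorem p6r1335 : allRange pointOk 22 104085 9 = true := by decide +kernel
theorem p6u1335 : ∀ k, 92070 ≤ k → k < 104094 → pointOk (k * 22) = true := between_extend pointOk 22 92070 104085 9 (p6u1334) p6r1335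

theorem p6r1336 : allRange pointOk 22 104094 9 = true := by decide +kernel
theorem p6u1336 : ∀ k, 92070 ≤ k → k < 104103 → pointOk (k * 22) = true := between_extend pointOk 22 92070 104094 9 (p6u1335) p6r1336

theorem p6r1337 : allRange pointOk 22 104103 9 = true := by decide +kernel
theorem p6u1337 : ∀ k, 92070 ≤ k → k < 104112 → pointOk (k * 22) = true := between_extend pointOk 22 92070 104103 9 (p6u1336) p6r1337

theorem p6r1338 : allRange pointOk 22 104112 9 = true := by decide +kernel
theorem p6u1338 : ∀ k, 92070 ≤ k → k < 104121 → pointOk (k * 22) = true := between_extend pointOk 22 92070 104112 9 (p6u1337) p6r1338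

theorem p6r1339 : allRange pointOk 22 104121 9 = true := by decide +kernel
theorem p6u1339 : ∀ k, 92070 ≤ k → k < 104130 → pointOk (k * 22) = true := between_extend pointOk 22 92070 104121 9 (p6u1338) p6r1339

theorem p6r1340 : allRange pointOk 22 104130 9 = true := by decide +kernel
theorem p6u1340 : ∀ k, 92070 ≤ k → k < 104139 → pointOk (k * 22) = true := between_extend pointOk 22 92070 104130 9 (p6u1339) p6r1340

theorem p6r1341 : allRange pointOk 22 104139 9 = true := by decide +kernel
theorem p6u1341 : ∀ k, 92070 ≤ k → k < 104148 → pointOk (k * 22) = true := between_extend pointOk 22 92070 104139 9 (p6u1340) p6r1341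

theorem p6r1342 : allRange pointOk 22 104148 9 = true := by decide +kernel
theorem p6u1342 : ∀ k, 92070 ≤ k → k < 104157 → pointOk (k * 22) = true := between_extend pointOk 22 92070 104148 9 (p6u1341) p6r1342

theorem p6r1343 : allRange pointOk 22 104157 9 = true := by decide +kernel
theorem p6u1343 : ∀ k, 92070 ≤ k → k < 104166 → pointOk (k * 22) = true := between_extend pointOk 22 92070 104157 9 (p6u1342) p6r1343

theorem p6r1344 : allRange pointOk 22 104166 9 = true := by decide +kernel
theorem p6u1344 : ∀ k, 92070 ≤ k → k < 104175 → pointOk (k * 22) = true := between_extend pointOk 22 92070 104166 9 (p6u1343) p6r1344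

theorem p6r1345 : allRange pointOk 22 104175 9 = true := by decide +kernel
theorem p6u1345 : ∀ k, 92070 ≤ k → k < 104184 → pointOk (k * 22) = true := between_extend pointOk 22 92070 104175 9 (p6u1344) p6r1345

theorem p6r1346 : allRange pointOk 22 104184 9 = true := by decide +kernel
theorem p6u1346 : ∀ k, 92070 ≤ k → k < 104193 → pointOk (k * 22) = true := between_extend pointOk 22 92070 104184 9 (p6u1345) p6r1346

theorem p6r1347 : allRange pointOk 22 104193 9 = true := by decide +kernel
theorem p6u1347 : ∀ k, 92070 ≤ k → k < 104202 → pointOk (k * 22) = true := between_extend pointOk 22 92070 104193 9 (p6u1346) p6r1347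

theorem p6r1348 : allRange pointOk 22 104202 9 = true := by decide +kernel
theorem p6u1348 : ∀ k, 92070 ≤ k → k < 104211 → pointOk (k * 22) = true := between_extend pointOk 22 92070 104202 9 (p6u1347) p6r1348

theorem p6r1349 : allRange pointOk 22 104211 9 = true := by decide +kernel
theorem p6u1349 : ∀ k, 92070 ≤ k → k < 104220 → pointOk (k * 22) = true := between_extend pointOk 22 92070 104211 9 (p6u1348) p6r1349

theorem p6r1350 : allRange pointOk 22 104220 9 = true := by decide +kernel
theorem p6u1350 : ∀ k, 92070 ≤ k → k < 104229 → pointOk (k * 22) = true := between_extend pointOk 22 92070 104220 9 (p6u1349) p6r1350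

theorem p6r1351 : allRange pointOk 22 104229 9 = true := by decide +kernel
theorem p6u1351 : ∀ k, 92070 ≤ k → k < 104238 → pointOk (k * 22) = true := between_extend pointOk 22 92070 104229 9 (p6u1350) p6r1351

theorem p6r1352 : allRange pointOk 22 104238 9 = true := by decide +kernel
theorem p6u1352 : ∀ k, 92070 ≤ k → k < 104247 → pointOk (k * 22) = true := between_extend pointOk 22 92070 104238 9 (p6u1351) p6r1352

theorem p6r1353 : allRange pointOk 22 104247 9 = true := by decide +kernel
theorem p6u1353 : ∀ k, 92070 ≤ k → k < 104256 → pointOk (k * 22) = true := between_extend pointOk 22 92070 104247 9 (p6u1352) p6r1353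

theorem p6r1354 : allRange pointOk 22 104256 9 = true := by decide +kernel
theorem p6u1354 : ∀ k, 92070 ≤ k → k < 104265 → pointOk (k * 22) = true := between_extend pointOk 22 92070 104256 9 (p6u1353) p6r1354

theorem p6r1355 : allRange pointOk 22 104265 9 = true := by decide +kernel
theorem p6u1355 : ∀ k, 92070 ≤ k → k < 104274 → pointOk (k * 22) = true := between_extend pointOk 22 92070 104265 9 (p6u1354) p6r1355

theorem p6r1356 : allRange pointOk 22 104274 9 = true := by decide +kernel
theorem p6u1356 : ∀ k, 92070 ≤ k → k < 104283 → pointOk (k * 22) = true := between_extend pointOk 22 92070 104274 9 (p6u1355) p6r1356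

theorem p6r1357 : allRange pointOk 22 104283 9 = true := by decide +kernel
theorem p6u1357 : ∀ k, 92070 ≤ k → k < 104292 → pointOk (k * 22) = true := between_extend pointOk 22 92070 104283 9 (p6u1356) p6r1357

theorem p6r1358 : allRange pointOk 22 104292 9 = true := by decide +kernel
theorem p6u1358 : ∀ k, 92070 ≤ k → k < 104301 → pointOk (k * 22) = true := between_extend pointOk 22 92070 104292 9 (p6u1357) p6r1358

theorem p6r1359 : allRange pointOk 22 104301 9 = true := by decide +kernel
theorem p6u1359 : ∀ k, 92070 ≤ k → k < 104310 → pointOk (k * 22) = true := between_extend pointOk 22 92070 104301 9 (p6u1358) p6r1359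

theorem p6r1360 : allRange pointOk 22 104310 9 = true := by decide +kernel
theorem p6u1360 : ∀ k, 92070 ≤ k → k < 104319 → pointOk (k * 22) = true := between_extend pointOk 22 92070 104310 9 (p6u1359) p6r1360

theorem p6r1361 : allRange pointOk 22 104319 9 = true := by decide +kernel
theorem p6u1361 : ∀ k, 92070 ≤ k → k < 104328 → pointOk (k * 22) = true := between_extend pointOk 22 92070 104319 9 (p6u1360) p6r1361

theorem p6r1362 : allRange pointOk 22 104328 9 = true := by decide +kernel
theorem p6u1362 : ∀ k, 92070 ≤ k → k < 104337 → pointOk (k * 22) = true := between_extend pointOk 22 92070 104328 9 (p6u1361) p6r1362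

theorem p6r1363 : allRange pointOk 22 104337 9 = true := by decide +kernel
theorem p6u1363 : ∀ k, 92070 ≤ k → k < 104346 → pointOk (k * 22) = true := between_extend pointOk 22 92070 104337 9 (p6u1362) p6r1363

theorem p6r1364 : allRange pointOk 22 104346 9 = true := by decide +kernel
theorem p6u1364 : ∀ k, 92070 ≤ k → k < 104355 → pointOk (k * 22) = true := between_extend pointOk 22 92070 104346 9 (p6u1363) p6r1364

theorem p6r1365 : allRange pointOk 22 104355 9 = true := by decide +kernel
theorem p6u1365 : ∀ k, 92070 ≤ k → k < 104364 → pointOk (k * 22) = true := between_extend pointOk 22 92070 104355 9 (p6u1364) p6r1365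

theorem p6r1366 : allRange pointOk 22 104364 9 = true := by decide +kernel
theorem p6u1366 : ∀ k, 92070 ≤ k → k < 104373 → pointOk (k * 22) = true := between_extend pointOk 22 92070 104364 9 (p6u1365) p6r1366

theorem p6r1367 : allRange pointOk 22 104373 9 = true := by decide +kernel
theorem p6u1367 : ∀ k, 92070 ≤ k → k < 104382 → pointOk (k * 22) = true := between_extend pointOk 22 92070 104373 9 (p6u1366) p6r1367

theorem p6r1368 : allRange pointOk 22 104382 9 = true := by decide +kernel
theorem p6u1368 : ∀ k, 92070 ≤ k → k < 104391 → pointOk (k * 22) = true := between_extend pointOk 22 92070 104382 9 (p6u1367) p6r1368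

theorem p6r1369 : allRange pointOk 22 104391 9 = true := by decide +kernel
theorem p6u1369 : ∀ k, 92070 ≤ k → k < 104400 → pointOk (k * 22) = true := between_extend pointOk 22 92070 104391 9 (p6u1368) p6r1369

theorem p6r1370 : allRange pointOk 22 104400 9 = true := by decide +kernel
theorem p6u1370 : ∀ k, 92070 ≤ k → k < 104409 → pointOk (k * 22) = true := between_extend pointOk 22 92070 104400 9 (p6u1369) p6r1370

theorem p6r1371 : allRange pointOk 22 104409 9 = true := by decide +kernel
theorem p6u1371 : ∀ k, 92070 ≤ k → k < 104418 → pointOk (k * 22) = true := between_extend pointOk 22 92070 104409 9 (p6u1370) p6r1371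

theorem p6r1372 : allRange pointOk 22 104418 9 = true := by decide +kernel
theorem p6u1372 : ∀ k, 92070 ≤ k → k < 104427 → pointOk (k * 22) = true := between_extend pointOk 22 92070 104418 9 (p6u1371) p6r1372

theorem p6r1373 : allRange pointOk 22 104427 9 = true := by decide +kernel
theorem p6u1373 : ∀ k, 92070 ≤ k → k < 104436 → pointOk (k * 22) = true := between_extend pointOk 22 92070 104427 9 (p6u1372) p6r1373

theorem p6r1374 : allRange pointOk 22 104436 9 = true := by decide +kernel
theorem p6u1374 : ∀ k, 92070 ≤ k → k < 104445 → pointOk (k * 22) = true := between_extend pointOk 22 92070 104436 9 (p6u1373) p6r1374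

theorem p6r1375 : allRange pointOk 22 104445 9 = true := by decide +kernel
theorem p6u1375 : ∀ k, 92070 ≤ k → k < 104454 → pointOk (k * 22) = true := between_extend pointOk 22 92070 104445 9 (p6u1374) p6r1375

theorem p6r1376 : allRange pointOk 22 104454 9 = true := by decide +kernel
theorem p6u1376 : ∀ k, 92070 ≤ k → k < 104463 → pointOk (k * 22) = true := between_extend pointOk 22 92070 104454 9 (p6u1375) p6r1376

theorem p6r1377 : allRange pointOk 22 104463 9 = true := by decide +kernel
theorem p6u1377 : ∀ k, 92070 ≤ k → k < 104472 → pointOk (k * 22) = true := between_extend pointOk 22 92070 104463 9 (p6u1376) p6r1377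

theorem p6r1378 : allRange pointOk 22 104472 9 = true := by decide +kernel
theorem p6u1378 : ∀ k, 92070 ≤ k → k < 104481 → pointOk (k * 22) = true := between_extend pointOk 22 92070 104472 9 (p6u1377) p6r1378

theorem p6r1379 : allRange pointOk 22 104481 9 = true := by decide +kernel
theorem p6u1379 : ∀ k, 92070 ≤ k → k < 104490 → pointOk (k * 22) = true := between_extend pointOk 22 92070 104481 9 (p6u1378) p6r1379

theorem p6r1380 : allRange pointOk 22 104490 9 = true := by decide +kernel
theorem p6u1380 : ∀ k, 92070 ≤ k → k < 104499 → pointOk (k * 22) = true := between_extend pointOk 22 92070 104490 9 (p6u1379) p6r1380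

theorem p6r1381 : allRange pointOk 22 104499 9 = true := by decide +kernel
theorem p6u1381 : ∀ k, 92070 ≤ k → k < 104508 → pointOk (k * 22) = true := between_extend pointOk 22 92070 104499 9 (p6u1380) p6r1381

theorem p6r1382 : allRange pointOk 22 104508 9 = true := by decide +kernel
theorem p6u1382 : ∀ k, 92070 ≤ k → k < 104517 → pointOk (k * 22) = true := between_extend pointOk 22 92070 104508 9 (p6u1381) p6r1382

theorem p6r1383 : allRange pointOk 22 104517 9 = true := by decide +kernel
theorem p6u1383 : ∀ k, 92070 ≤ k → k < 104526 → pointOk (k * 22) = true := between_extend pointOk 22 92070 104517 9 (p6u1382) p6r1383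

theorem p6r1384 : allRange pointOk 22 104526 9 = true := by decide +kernel
theorem p6u1384 : ∀ k, 92070 ≤ k → k < 104535 → pointOk (k * 22) = true := between_extend pointOk 22 92070 104526 9 (p6u1383) p6r1384

theorem p6r1385 : allRange pointOk 22 104535 9 = true := by decide +kernel
theorem p6u1385 : ∀ k, 92070 ≤ k → k < 104544 → pointOk (k * 22) = true := between_extend pointOk 22 92070 104535 9 (p6u1384) p6r1385

theorem p6r1386 : allRange pointOk 22 104544 9 = true := by decide +kernel
theorem p6u1386 : ∀ k, 92070 ≤ k → k < 104553 → pointOk (k * 22) = true := between_extend pointOk 22 92070 104544 9 (p6u1385) p6r1386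

theorem p6r1387 : allRange pointOk 22 104553 9 = true := by decide +kernel
theorem p6u1387 : ∀ k, 92070 ≤ k → k < 104562 → pointOk (k * 22) = true := between_extend pointOk 22 92070 104553 9 (p6u1386) p6r1387

theorem p6r1388 : allRange pointOk 22 104562 9 = true := by decide +kernel
theorem p6u1388 : ∀ k, 92070 ≤ k → k < 104571 → pointOk (k * 22) = true := between_extend pointOk 22 92070 104562 9 (p6u1387) p6r1388

theorem p6r1389 : allRange pointOk 22 104571 9 = true := by decide +kernel
theorem p6u1389 : ∀ k, 92070 ≤ k → k < 104580 → pointOk (k * 22) = true := between_extend pointOk 22 92070 104571 9 (p6u1388) p6r1389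

theorem p6r1390 : allRange pointOk 22 104580 9 = true := by decide +kernel
theorem p6u1390 : ∀ k, 92070 ≤ k → k < 104589 → pointOk (k * 22) = true := between_extend pointOk 22 92070 104580 9 (p6u1389) p6r1390

theorem p6r1391 : allRange pointOk 22 104589 9 = true := by decide +kernel
theorem p6u1391 : ∀ k, 92070 ≤ k → k < 104598 → pointOk (k * 22) = true := between_extend pointOk 22 92070 104589 9 (p6u1390) p6r1391

theorem p6r1392 : allRange pointOk 22 104598 9 = true := by decide +kernel
theorem p6u1392 : ∀ k, 92070 ≤ k → k < 104607 → pointOk (k * 22) = true := between_extend pointOk 22 92070 104598 9 (p6u1391) p6r1392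

theorem p6r1393 : allRange pointOk 22 104607 9 = true := by decide +kernel
theorem p6u1393 : ∀ k, 92070 ≤ k → k < 104616 → pointOk (k * 22) = true := between_extend pointOk 22 92070 104607 9 (p6u1392) p6r1393

theorem p6r1394 : allRange pointOk 22 104616 9 = true := by decide +kernel
theorem p6u1394 : ∀ k, 92070 ≤ k → k < 104625 → pointOk (k * 22) = true := between_extend pointOk 22 92070 104616 9 (p6u1393) p6r1394

theorem p6r1395 : allRange pointOk 22 104625 9 = true := by decide +kernel
theorem p6u1395 : ∀ k, 92070 ≤ k → k < 104634 → pointOk (k * 22) = true := between_extend pointOk 22 92070 104625 9 (p6u1394) p6r1395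

theorem p6r1396 : allRange pointOk 22 104634 9 = true := by decide +kernel
theorem p6u1396 : ∀ k, 92070 ≤ k → k < 104643 → pointOk (k * 22) = true := between_extend pointOk 22 92070 104634 9 (p6u1395) p6r1396

theorem p6r1397 : allRange pointOk 22 104643 9 = true := by decide +kernel
theorem p6u1397 : ∀ k, 92070 ≤ k → k < 104652 → pointOk (k * 22) = true := between_extend pointOk 22 92070 104643 9 (p6u1396) p6r1397

theorem p6r1398 : allRange pointOk 22 104652 9 = true := by decide +kernel
theorem p6u1398 : ∀ k, 92070 ≤ k → k < 104661 → pointOk (k * 22) = true := between_extend pointOk 22 92070 104652 9 (p6u1397) p6r1398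

theorem p6r1399 : allRange pointOk 22 104661 9 = true := by decide +kernel
theorem p6u1399 : ∀ k, 92070 ≤ k → k < 104670 → pointOk (k * 22) = true := between_extend pointOk 22 92070 104661 9 (p6u1398) p6r1399

theorem p6r1400 : allRange pointOk 22 104670 9 = true := by decide +kernel
theorem p6u1400 : ∀ k, 92070 ≤ k → k < 104679 → pointOk (k * 22) = true := between_extend pointOk 22 92070 104670 9 (p6u1399) p6r1400

theorem p6r1401 : allRange pointOk 22 104679 9 = true := by decide +kernel
theorem p6u1401 : ∀ k, 92070 ≤ k → k < 104688 → pointOk (k * 22) = true := between_extend pointOk 22 92070 104679 9 (p6u1400) p6r1401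

theorem p6r1402 : allRange pointOk 22 104688 9 = true := by decide +kernel
theorem p6u1402 : ∀ k, 92070 ≤ k → k < 104697 → pointOk (k * 22) = true := between_extend pointOk 22 92070 104688 9 (p6u1401) p6r1402

theorem p6r1403 : allRange pointOk 22 104697 9 = true := by decide +kernel
theorem p6u1403 : ∀ k, 92070 ≤ k → k < 104706 → pointOk (k * 22) = true := between_extend pointOk 22 92070 104697 9 (p6u1402) p6r1403

theorem p6r1404 : allRange pointOk 22 104706 9 = true := by decide +kernel
theorem p6u1404 : ∀ k, 92070 ≤ k → k < 104715 → pointOk (k * 22) = true := between_extend pointOk 22 92070 104706 9 (p6u1403) p6r1404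

theorem p6r1405 : allRange pointOk 22 104715 9 = true := by decide +kernel
theorem p6u1405 : ∀ k, 92070 ≤ k → k < 104724 → pointOk (k * 22) = true := between_extend pointOk 22 92070 104715 9 (p6u1404) p6r1405

theorem p6r1406 : allRange pointOk 22 104724 9 = true := by decide +kernel
theorem p6u1406 : ∀ k, 92070 ≤ k → k < 104733 → pointOk (k * 22) = true := between_extend pointOk 22 92070 104724 9 (p6u1405) p6r1406

theorem p6r1407 : allRange pointOk 22 104733 9 = true := by decide +kernel
theorem p6u1407 : ∀ k, 92070 ≤ k → k < 104742 → pointOk (k * 22) = true := between_extend pointOk 22 92070 104733 9 (p6u1406) p6r1407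

theorem p6r1408 : allRange pointOk 22 104742 9 = true := by decide +kernel
theorem p6u1408 : ∀ k, 92070 ≤ k → k < 104751 → pointOk (k * 22) = true := between_extend pointOk 22 92070 104742 9 (p6u1407) p6r1408

theorem p6r1409 : allRange pointOk 22 104751 9 = true := by decide +kernel
theorem p6u1409 : ∀ k, 92070 ≤ k → k < 104760 → pointOk (k * 22) = true := between_extend pointOk 22 92070 104751 9 (p6u1408) p6r1409

theorem p6r1410 : allRange pointOk 22 104760 9 = true := by decide +kernel
theorem p6u1410 : ∀ k, 92070 ≤ k → k < 104769 → pointOk (k * 22) = true := between_extend pointOk 22 92070 104760 9 (p6u1409) p6r1410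

theorem p6r1411 : allRange pointOk 22 104769 9 = true := by decide +kernel
theorem p6u1411 : ∀ k, 92070 ≤ k → k < 104778 → pointOk (k * 22) = true := between_extend pointOk 22 92070 104769 9 (p6u1410) p6r1411

theorem p6r1412 : allRange pointOk 22 104778 9 = true := by decide +kernel
theorem p6u1412 : ∀ k, 92070 ≤ k → k < 104787 → pointOk (k * 22) = true := between_extend pointOk 22 92070 104778 9 (p6u1411) p6r1412

theorem p6r1413 : allRange pointOk 22 104787 9 = true := by decide +kernel
theorem p6u1413 : ∀ k, 92070 ≤ k → k < 104796 → pointOk (k * 22) = true := between_extend pointOk 22 92070 104787 9 (p6u1412) p6r1413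

theorem p6r1414 : allRange pointOk 22 104796 9 = true := by decide +kernel
theorem p6u1414 : ∀ k, 92070 ≤ k → k < 104805 → pointOk (k * 22) = true := between_extend pointOk 22 92070 104796 9 (p6u1413) p6r1414

theorem p6r1415 : allRange pointOk 22 104805 9 = true := by decide +kernel
theorem p6u1415 : ∀ k, 92070 ≤ k → k < 104814 → pointOk (k * 22) = true := between_extend pointOk 22 92070 104805 9 (p6u1414) p6r1415

theorem p6r1416 : allRange pointOk 22 104814 9 = true := by decide +kernel
theorem p6u1416 : ∀ k, 92070 ≤ k → k < 104823 → pointOk (k * 22) = true := between_extend pointOk 22 92070 104814 9 (p6u1415) p6r1416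

theorem p6r1417 : allRange pointOk 22 104823 9 = true := by decide +kernel
theorem p6u1417 : ∀ k, 92070 ≤ k → k < 104832 → pointOk (k * 22) = true := between_extend pointOk 22 92070 104823 9 (p6u1416) p6r1417

theorem p6r1418 : allRange pointOk 22 104832 9 = true := by decide +kernel
theorem p6u1418 : ∀ k, 92070 ≤ k → k < 104841 → pointOk (k * 22) = true := between_extend pointOk 22 92070 104832 9 (p6u1417) p6r1418

theorem p6r1419 : allRange pointOk 22 104841 9 = true := by decide +kernel
theorem p6u1419 : ∀ k, 92070 ≤ k → k < 104850 → pointOk (k * 22) = true := between_extend pointOk 22 92070 104841 9 (p6u1418) p6r1419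

theorem p6r1420 : allRange pointOk 22 104850 9 = true := by decide +kernel
theorem p6u1420 : ∀ k, 92070 ≤ k → k < 104859 → pointOk (k * 22) = true := between_extend pointOk 22 92070 104850 9 (p6u1419) p6r1420

theorem p6r1421 : allRange pointOk 22 104859 9 = true := by decide +kernel
theorem p6u1421 : ∀ k, 92070 ≤ k → k < 104868 → pointOk (k * 22) = true := between_extend pointOk 22 92070 104859 9 (p6u1420) p6r1421

theorem p6r1422 : allRange pointOk 22 104868 9 = true := by decide +kernel
theorem p6u1422 : ∀ k, 92070 ≤ k → k < 104877 → pointOk (k * 22) = true := between_extend pointOk 22 92070 104868 9 (p6u1421) p6r1422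

theorem p6r1423 : allRange pointOk 22 104877 9 = true := by decide +kernel
theorem p6u1423 : ∀ k, 92070 ≤ k → k < 104886 → pointOk (k * 22) = true := between_extend pointOk 22 92070 104877 9 (p6u1422) p6r1423

theorem p6r1424 : allRange pointOk 22 104886 9 = true := by decide +kernel
theorem p6u1424 : ∀ k, 92070 ≤ k → k < 104895 → pointOk (k * 22) = true := between_extend pointOk 22 92070 104886 9 (p6u1423) p6r1424

theorem p6r1425 : allRange pointOk 22 104895 9 = true := by decide +kernel
theorem p6u1425 : ∀ k, 92070 ≤ k → k < 104904 → pointOk (k * 22) = true := between_extend pointOk 22 92070 104895 9 (p6u1424) p6r1425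

theorem p6r1426 : allRange pointOk 22 104904 9 = true := by decide +kernel
theorem p6u1426 : ∀ k, 92070 ≤ k → k < 104913 → pointOk (k * 22) = true := between_extend pointOk 22 92070 104904 9 (p6u1425) p6r1426

theorem p6r1427 : allRange pointOk 22 104913 9 = true := by decide +kernel
theorem p6u1427 : ∀ k, 92070 ≤ k → k < 104922 → pointOk (k * 22) = true := between_extend pointOk 22 92070 104913 9 (p6u1426) p6r1427

theorem p6r1428 : allRange pointOk 22 104922 9 = true := by decide +kernel
theorem p6u1428 : ∀ k, 92070 ≤ k → k < 104931 → pointOk (k * 22) = true := between_extend pointOk 22 92070 104922 9 (p6u1427) p6r1428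

theorem p6r1429 : allRange pointOk 22 104931 9 = true := by decide +kernel
theorem p6u1429 : ∀ k, 92070 ≤ k → k < 104940 → pointOk (k * 22) = true := between_extend pointOk 22 92070 104931 9 (p6u1428) p6r1429

theorem p6r1430 : allRange pointOk 22 104940 9 = true := by decide +kernel
theorem p6u1430 : ∀ k, 92070 ≤ k → k < 104949 → pointOk (k * 22) = true := between_extend pointOk 22 92070 104940 9 (p6u1429) p6r1430

theorem p6r1431 : allRange pointOk 22 104949 9 = true := by decide +kernel
theorem p6u1431 : ∀ k, 92070 ≤ k → k < 104958 → pointOk (k * 22) = true := between_extend pointOk 22 92070 104949 9 (p6u1430) p6r1431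

theorem p6r1432 : allRange pointOk 22 104958 9 = true := by decide +kernel
theorem p6u1432 : ∀ k, 92070 ≤ k → k < 104967 → pointOk (k * 22) = true := between_extend pointOk 22 92070 104958 9 (p6u1431) p6r1432

theorem p6r1433 : allRange pointOk 22 104967 9 = true := by decide +kernel
theorem p6u1433 : ∀ k, 92070 ≤ k → k < 104976 → pointOk (k * 22) = true := between_extend pointOk 22 92070 104967 9 (p6u1432) p6r1433

theorem p6r1434 : allRange pointOk 22 104976 9 = true := by decide +kernel
theorem p6u1434 : ∀ k, 92070 ≤ k → k < 104985 → pointOk (k * 22) = true := between_extend pointOk 22 92070 104976 9 (p6u1433) p6r1434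

theorem p6r1435 : allRange pointOk 22 104985 9 = true := by decide +kernel
theorem p6u1435 : ∀ k, 92070 ≤ k → k < 104994 → pointOk (k * 22) = true := between_extend pointOk 22 92070 104985 9 (p6u1434) p6r1435

theorem p6r1436 : allRange pointOk 22 104994 9 = true := by decide +kernel
theorem p6u1436 : ∀ k, 92070 ≤ k → k < 105003 → pointOk (k * 22) = true := between_extend pointOk 22 92070 104994 9 (p6u1435) p6r1436

theorem p6r1437 : allRange pointOk 22 105003 9 = true := by decide +kernel
theorem p6u1437 : ∀ k, 92070 ≤ k → k < 105012 → pointOk (k * 22) = true := between_extend pointOk 22 92070 105003 9 (p6u1436) p6r1437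

theorem p6r1438 : allRange pointOk 22 105012 9 = true := by decide +kernel
theorem p6u1438 : ∀ k, 92070 ≤ k → k < 105021 → pointOk (k * 22) = true := between_extend pointOk 22 92070 105012 9 (p6u1437) p6r1438

theorem p6r1439 : allRange pointOk 22 105021 9 = true := by decide +kernel
theorem p6u1439 : ∀ k, 92070 ≤ k → k < 105030 → pointOk (k * 22) = true := between_extend pointOk 22 92070 105021 9 (p6u1438) p6r1439

theorem p6r1440 : allRange pointOk 22 105030 9 = true := by decide +kernel
theorem p6u1440 : ∀ k, 92070 ≤ k → k < 105039 → pointOk (k * 22) = true := between_extend pointOk 22 92070 105030 9 (p6u1439) p6r1440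

theorem p6r1441 : allRange pointOk 22 105039 9 = true := by decide +kernel
theorem p6u1441 : ∀ k, 92070 ≤ k → k < 105048 → pointOk (k * 22) = true := between_extend pointOk 22 92070 105039 9 (p6u1440) p6r1441

theorem p6r1442 : allRange pointOk 22 105048 9 = true := by decide +kernel
theorem p6u1442 : ∀ k, 92070 ≤ k → k < 105057 → pointOk (k * 22) = true := between_extend pointOk 22 92070 105048 9 (p6u1441) p6r1442

theorem p6r1443 : allRange pointOk 22 105057 9 = true := by decide +kernel
theorem p6u1443 : ∀ k, 92070 ≤ k → k < 105066 → pointOk (k * 22) = true := between_extend pointOk 22 92070 105057 9 (p6u1442) p6r1443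

theorem p6r1444 : allRange pointOk 22 105066 9 = true := by decide +kernel
theorem p6u1444 : ∀ k, 92070 ≤ k → k < 105075 → pointOk (k * 22) = true := between_extend pointOk 22 92070 105066 9 (p6u1443) p6r1444

theorem p6r1445 : allRange pointOk 22 105075 9 = true := by decide +kernel
theorem p6u1445 : ∀ k, 92070 ≤ k → k < 105084 → pointOk (k * 22) = true := between_extend pointOk 22 92070 105075 9 (p6u1444) p6r1445

theorem p6r1446 : allRange pointOk 22 105084 9 = true := by decide +kernel
theorem p6u1446 : ∀ k, 92070 ≤ k → k < 105093 → pointOk (k * 22) = true := between_extend pointOk 22 92070 105084 9 (p6u1445) p6r1446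

theorem p6r1447 : allRange pointOk 22 105093 9 = true := by decide +kernel
theorem p6u1447 : ∀ k, 92070 ≤ k → k < 105102 → pointOk (k * 22) = true := between_extend pointOk 22 92070 105093 9 (p6u1446) p6r1447

theorem p6r1448 : allRange pointOk 22 105102 9 = true := by decide +kernel
theorem p6u1448 : ∀ k, 92070 ≤ k → k < 105111 → pointOk (k * 22) = true := between_extend pointOk 22 92070 105102 9 (p6u1447) p6r1448

theorem p6r1449 : allRange pointOk 22 105111 9 = true := by decide +kernel
theorem p6u1449 : ∀ k, 92070 ≤ k → k < 105120 → pointOk (k * 22) = true := between_extend pointOk 22 92070 105111 9 (p6u1448) p6r1449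

theorem p6r1450 : allRange pointOk 22 105120 9 = true := by decide +kernel
theorem p6u1450 : ∀ k, 92070 ≤ k → k < 105129 → pointOk (k * 22) = true := between_extend pointOk 22 92070 105120 9 (p6u1449) p6r1450

theorem p6r1451 : allRange pointOk 22 105129 9 = true := by decide +kernel
theorem p6u1451 : ∀ k, 92070 ≤ k → k < 105138 → pointOk (k * 22) = true := between_extend pointOk 22 92070 105129 9 (p6u1450) p6r1451

theorem p6r1452 : allRange pointOk 22 105138 9 = true := by decide +kernel
theorem p6u1452 : ∀ k, 92070 ≤ k → k < 105147 → pointOk (k * 22) = true := between_extend pointOk 22 92070 105138 9 (p6u1451) p6r1452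

theorem p6r1453 : allRange pointOk 22 105147 9 = true := by decide +kernel
theorem p6u1453 : ∀ k, 92070 ≤ k → k < 105156 → pointOk (k * 22) = true := between_extend pointOk 22 92070 105147 9 (p6u1452) p6r1453

theorem p6r1454 : allRange pointOk 22 105156 9 = true := by decide +kernel
theorem p6u1454 : ∀ k, 92070 ≤ k → k < 105165 → pointOk (k * 22) = true := between_extend pointOk 22 92070 105156 9 (p6u1453) p6r1454

theorem p6r1455 : allRange pointOk 22 105165 9 = true := by decide +kernel
theorem p6u1455 : ∀ k, 92070 ≤ k → k < 105174 → pointOk (k * 22) = true := between_extend pointOk 22 92070 105165 9 (p6u1454) p6r1455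

theorem p6r1456 : allRange pointOk 22 105174 9 = true := by decide +kernel
theorem p6u1456 : ∀ k, 92070 ≤ k → k < 105183 → pointOk (k * 22) = true := between_extend pointOk 22 92070 105174 9 (p6u1455) p6r1456

theorem p6r1457 : allRange pointOk 22 105183 9 = true := by decide +kernel
theorem p6u1457 : ∀ k, 92070 ≤ k → k < 105192 → pointOk (k * 22) = true := between_extend pointOk 22 92070 105183 9 (p6u1456) p6r1457

theorem p6r1458 : allRange pointOk 22 105192 9 = true := by decide +kernel
theorem p6u1458 : ∀ k, 92070 ≤ k → k < 105201 → pointOk (k * 22) = true := between_extend pointOk 22 92070 105192 9 (p6u1457) p6r1458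

theorem p6r1459 : allRange pointOk 22 105201 9 = true := by decide +kernel
theorem p6u1459 : ∀ k, 92070 ≤ k → k < 105210 → pointOk (k * 22) = true := between_extend pointOk 22 92070 105201 9 (p6u1458) p6r1459

theorem p6r1460 : allRange pointOk 22 105210 9 = true := by decide +kernel
theorem p6u1460 : ∀ k, 92070 ≤ k → k < 105219 → pointOk (k * 22) = true := between_extend pointOk 22 92070 105210 9 (p6u1459) p6r1460

theorem p6r1461 : allRange pointOk 22 105219 9 = true := by decide +kernel
theorem p6u1461 : ∀ k, 92070 ≤ k → k < 105228 → pointOk (k * 22) = true := between_extend pointOk 22 92070 105219 9 (p6u1460) p6r1461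

theorem p6r1462 : allRange pointOk 22 105228 9 = true := by decide +kernel
theorem p6u1462 : ∀ k, 92070 ≤ k → k < 105237 → pointOk (k * 22) = true := between_extend pointOk 22 92070 105228 9 (p6u1461) p6r1462

theorem p6r1463 : allRange pointOk 22 105237 9 = true := by decide +kernel
theorem p6u1463 : ∀ k, 92070 ≤ k → k < 105246 → pointOk (k * 22) = true := between_extend pointOk 22 92070 105237 9 (p6u1462) p6r1463

theorem p6r1464 : allRange pointOk 22 105246 9 = true := by decide +kernel
theorem p6u1464 : ∀ k, 92070 ≤ k → k < 105255 → pointOk (k * 22) = true := between_extend pointOk 22 92070 105246 9 (p6u1463) p6r1464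

theorem p6r1465 : allRange pointOk 22 105255 9 = true := by decide +kernel
theorem p6u1465 : ∀ k, 92070 ≤ k → k < 105264 → pointOk (k * 22) = true := between_extend pointOk 22 92070 105255 9 (p6u1464) p6r1465

theorem p6r1466 : allRange pointOk 22 105264 9 = true := by decide +kernel
theorem p6u1466 : ∀ k, 92070 ≤ k → k < 105273 → pointOk (k * 22) = true := between_extend pointOk 22 92070 105264 9 (p6u1465) p6r1466

theorem p6r1467 : allRange pointOk 22 105273 9 = true := by decide +kernel
theorem p6u1467 : ∀ k, 92070 ≤ k → k < 105282 → pointOk (k * 22) = true := between_extend pointOk 22 92070 105273 9 (p6u1466) p6r1467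

theorem p6r1468 : allRange pointOk 22 105282 9 = true := by decide +kernel
theorem p6u1468 : ∀ k, 92070 ≤ k → k < 105291 → pointOk (k * 22) = true := between_extend pointOk 22 92070 105282 9 (p6u1467) p6r1468

theorem p6r1469 : allRange pointOk 22 105291 9 = true := by decide +kernel
theorem p6u1469 : ∀ k, 92070 ≤ k → k < 105300 → pointOk (k * 22) = true := between_extend pointOk 22 92070 105291 9 (p6u1468) p6r1469

theorem p6r1470 : allRange pointOk 22 105300 9 = true := by decide +kernel
theorem p6u1470 : ∀ k, 92070 ≤ k → k < 105309 → pointOk (k * 22) = true := between_extend pointOk 22 92070 105300 9 (p6u1469) p6r1470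

theorem p6r1471 : allRange pointOk 22 105309 9 = true := by decide +kernel
theorem p6u1471 : ∀ k, 92070 ≤ k → k < 105318 → pointOk (k * 22) = true := between_extend pointOk 22 92070 105309 9 (p6u1470) p6r1471

theorem p6r1472 : allRange pointOk 22 105318 9 = true := by decide +kernel
theorem p6u1472 : ∀ k, 92070 ≤ k → k < 105327 → pointOk (k * 22) = true := between_extend pointOk 22 92070 105318 9 (p6u1471) p6r1472

theorem p6r1473 : allRange pointOk 22 105327 9 = true := by decide +kernel
theorem p6u1473 : ∀ k, 92070 ≤ k → k < 105336 → pointOk (k * 22) = true := between_extend pointOk 22 92070 105327 9 (p6u1472) p6r1473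

theorem p6r1474 : allRange pointOk 22 105336 9 = true := by decide +kernel
theorem p6u1474 : ∀ k, 92070 ≤ k → k < 105345 → pointOk (k * 22) = true := between_extend pointOk 22 92070 105336 9 (p6u1473) p6r1474

theorem p6r1475 : allRange pointOk 22 105345 9 = true := by decide +kernel
theorem p6u1475 : ∀ k, 92070 ≤ k → k < 105354 → pointOk (k * 22) = true := between_extend pointOk 22 92070 105345 9 (p6u1474) p6r1475

theorem p6r1476 : allRange pointOk 22 105354 9 = true := by decide +kernel
theorem p6u1476 : ∀ k, 92070 ≤ k → k < 105363 → pointOk (k * 22) = true := between_extend pointOk 22 92070 105354 9 (p6u1475) p6r1476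

theorem p6r1477 : allRange pointOk 22 105363 9 = true := by decide +kernel
theorem p6u1477 : ∀ k, 92070 ≤ k → k < 105372 → pointOk (k * 22) = true := between_extend pointOk 22 92070 105363 9 (p6u1476) p6r1477

theorem p6r1478 : allRange pointOk 22 105372 9 = true := by decide +kernel
theorem p6u1478 : ∀ k, 92070 ≤ k → k < 105381 → pointOk (k * 22) = true := between_extend pointOk 22 92070 105372 9 (p6u1477) p6r1478

theorem p6r1479 : allRange pointOk 22 105381 9 = true := by decide +kernel
theorem p6u1479 : ∀ k, 92070 ≤ k → k < 105390 → pointOk (k * 22) = true := between_extend pointOk 22 92070 105381 9 (p6u1478) p6r1479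

theorem p6r1480 : allRange pointOk 22 105390 9 = true := by decide +kernel
theorem p6u1480 : ∀ k, 92070 ≤ k → k < 105399 → pointOk (k * 22) = true := between_extend pointOk 22 92070 105390 9 (p6u1479) p6r1480

theorem p6r1481 : allRange pointOk 22 105399 9 = true := by decide +kernel
theorem p6u1481 : ∀ k, 92070 ≤ k → k < 105408 → pointOk (k * 22) = true := between_extend pointOk 22 92070 105399 9 (p6u1480) p6r1481

theorem p6r1482 : allRange pointOk 22 105408 9 = true := by decide +kernel
theorem p6u1482 : ∀ k, 92070 ≤ k → k < 105417 → pointOk (k * 22) = true := between_extend pointOk 22 92070 105408 9 (p6u1481) p6r1482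

theorem p6r1483 : allRange pointOk 22 105417 9 = true := by decide +kernel
theorem p6u1483 : ∀ k, 92070 ≤ k → k < 105426 → pointOk (k * 22) = true := between_extend pointOk 22 92070 105417 9 (p6u1482) p6r1483

theorem p6r1484 : allRange pointOk 22 105426 9 = true := by decide +kernel
theorem p6u1484 : ∀ k, 92070 ≤ k → k < 105435 → pointOk (k * 22) = true := between_extend pointOk 22 92070 105426 9 (p6u1483) p6r1484

theorem p6r1485 : allRange pointOk 22 105435 9 = true := by decide +kernel
theorem p6u1485 : ∀ k, 92070 ≤ k → k < 105444 → pointOk (k * 22) = true := between_extend pointOk 22 92070 105435 9 (p6u1484) p6r1485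

theorem p6r1486 : allRange pointOk 22 105444 9 = true := by decide +kernel
theorem p6u1486 : ∀ k, 92070 ≤ k → k < 105453 → pointOk (k * 22) = true := between_extend pointOk 22 92070 105444 9 (p6u1485) p6r1486

theorem p6r1487 : allRange pointOk 22 105453 9 = true := by decide +kernel
theorem p6u1487 : ∀ k, 92070 ≤ k → k < 105462 → pointOk (k * 22) = true := between_extend pointOk 22 92070 105453 9 (p6u1486) p6r1487

theorem p6r1488 : allRange pointOk 22 105462 9 = true := by decide +kernel
theorem p6u1488 : ∀ k, 92070 ≤ k → k < 105471 → pointOk (k * 22) = true := between_extend pointOk 22 92070 105462 9 (p6u1487) p6r1488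

theorem p6r1489 : allRange pointOk 22 105471 9 = true := by decide +kernel
theorem p6u1489 : ∀ k, 92070 ≤ k → k < 105480 → pointOk (k * 22) = true := between_extend pointOk 22 92070 105471 9 (p6u1488) p6r1489

theorem p6r1490 : allRange pointOk 22 105480 9 = true := by decide +kernel
theorem p6u1490 : ∀ k, 92070 ≤ k → k < 105489 → pointOk (k * 22) = true := between_extend pointOk 22 92070 105480 9 (p6u1489) p6r1490

theorem p6r1491 : allRange pointOk 22 105489 9 = true := by decide +kernel
theorem p6u1491 : ∀ k, 92070 ≤ k → k < 105498 → pointOk (k * 22) = true := between_extend pointOk 22 92070 105489 9 (p6u1490) p6r1491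

theorem p6r1492 : allRange pointOk 22 105498 9 = true := by decide +kernel
theorem p6u1492 : ∀ k, 92070 ≤ k → k < 105507 → pointOk (k * 22) = true := between_extend pointOk 22 92070 105498 9 (p6u1491) p6r1492

theorem p6r1493 : allRange pointOk 22 105507 9 = true := by decide +kernel
theorem p6u1493 : ∀ k, 92070 ≤ k → k < 105516 → pointOk (k * 22) = true := between_extend pointOk 22 92070 105507 9 (p6u1492) p6r1493

theorem p6r1494 : allRange pointOk 22 105516 9 = true := by decide +kernel
theorem p6u1494 : ∀ k, 92070 ≤ k → k < 105525 → pointOk (k * 22) = true := between_extend pointOk 22 92070 105516 9 (p6u1493) p6r1494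

theorem p6r1495 : allRange pointOk 22 105525 9 = true := by decide +kernel
theorem p6u1495 : ∀ k, 92070 ≤ k → k < 105534 → pointOk (k * 22) = true := between_extend pointOk 22 92070 105525 9 (p6u1494) p6r1495

theorem p6r1496 : allRange pointOk 22 105534 9 = true := by decide +kernel
theorem p6u1496 : ∀ k, 92070 ≤ k → k < 105543 → pointOk (k * 22) = true := between_extend pointOk 22 92070 105534 9 (p6u1495) p6r1496

theorem p6r1497 : allRange pointOk 22 105543 9 = true := by decide +kernel
theorem p6u1497 : ∀ k, 92070 ≤ k → k < 105552 → pointOk (k * 22) = true := between_extend pointOk 22 92070 105543 9 (p6u1496) p6r1497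

theorem p6r1498 : allRange pointOk 22 105552 9 = true := by decide +kernel
theorem p6u1498 : ∀ k, 92070 ≤ k → k < 105561 → pointOk (k * 22) = true := between_extend pointOk 22 92070 105552 9 (p6u1497) p6r1498

theorem p6r1499 : allRange pointOk 22 105561 9 = true := by decide +kernel
theorem p6u1499 : ∀ k, 92070 ≤ k → k < 105570 → pointOk (k * 22) = true := between_extend pointOk 22 92070 105561 9 (p6u1498) p6r1499

theorem p6r1500 : allRange pointOk 22 105570 9 = true := by decide +kernel
theorem p6u1500 : ∀ k, 92070 ≤ k → k < 105579 → pointOk (k * 22) = true := between_extend pointOk 22 92070 105570 9 (p6u1499) p6r1500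

theorem p6r1501 : allRange pointOk 22 105579 9 = true := by decide +kernel
theorem p6u1501 : ∀ k, 92070 ≤ k → k < 105588 → pointOk (k * 22) = true := between_extend pointOk 22 92070 105579 9 (p6u1500) p6r1501

theorem p6r1502 : allRange pointOk 22 105588 9 = true := by decide +kernel
theorem p6u1502 : ∀ k, 92070 ≤ k → k < 105597 → pointOk (k * 22) = true := between_extend pointOk 22 92070 105588 9 (p6u1501) p6r1502

theorem p6r1503 : allRange pointOk 22 105597 9 = true := by decide +kernel
theorem p6u1503 : ∀ k, 92070 ≤ k → k < 105606 → pointOk (k * 22) = true := between_extend pointOk 22 92070 105597 9 (p6u1502) p6r1503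

theorem p6r1504 : allRange pointOk 22 105606 9 = true := by decide +kernel
theorem p6u1504 : ∀ k, 92070 ≤ k → k < 105615 → pointOk (k * 22) = true := between_extend pointOk 22 92070 105606 9 (p6u1503) p6r1504

theorem p6r1505 : allRange pointOk 22 105615 9 = true := by decide +kernel
theorem p6u1505 : ∀ k, 92070 ≤ k → k < 105624 → pointOk (k * 22) = true := between_extend pointOk 22 92070 105615 9 (p6u1504) p6r1505

theorem p6r1506 : allRange pointOk 22 105624 9 = true := by decide +kernel
theorem p6u1506 : ∀ k, 92070 ≤ k → k < 105633 → pointOk (k * 22) = true := between_extend pointOk 22 92070 105624 9 (p6u1505) p6r1506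

theorem p6r1507 : allRange pointOk 22 105633 9 = true := by decide +kernel
theorem p6u1507 : ∀ k, 92070 ≤ k → k < 105642 → pointOk (k * 22) = true := between_extend pointOk 22 92070 105633 9 (p6u1506) p6r1507

theorem p6r1508 : allRange pointOk 22 105642 9 = true := by decide +kernel
theorem p6u1508 : ∀ k, 92070 ≤ k → k < 105651 → pointOk (k * 22) = true := between_extend pointOk 22 92070 105642 9 (p6u1507) p6r1508

theorem p6r1509 : allRange pointOk 22 105651 9 = true := by decide +kernel
theorem p6u1509 : ∀ k, 92070 ≤ k → k < 105660 → pointOk (k * 22) = true := between_extend pointOk 22 92070 105651 9 (p6u1508) p6r1509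

theorem p6r1510 : allRange pointOk 22 105660 9 = true := by decide +kernel
theorem p6u1510 : ∀ k, 92070 ≤ k → k < 105669 → pointOk (k * 22) = true := between_extend pointOk 22 92070 105660 9 (p6u1509) p6r1510

theorem p6r1511 : allRange pointOk 22 105669 9 = true := by decide +kernel
theorem p6u1511 : ∀ k, 92070 ≤ k → k < 105678 → pointOk (k * 22) = true := between_extend pointOk 22 92070 105669 9 (p6u1510) p6r1511

theorem p6r1512 : allRange pointOk 22 105678 9 = true := by decide +kernel
theorem p6u1512 : ∀ k, 92070 ≤ k → k < 105687 → pointOk (k * 22) = true := between_extend pointOk 22 92070 105678 9 (p6u1511) p6r1512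

theorem p6r1513 : allRange pointOk 22 105687 9 = true := by decide +kernel
theorem p6u1513 : ∀ k, 92070 ≤ k → k < 105696 → pointOk (k * 22) = true := between_extend pointOk 22 92070 105687 9 (p6u1512) p6r1513

theorem p6r1514 : allRange pointOk 22 105696 9 = true := by decide +kernel
theorem p6u1514 : ∀ k, 92070 ≤ k → k < 105705 → pointOk (k * 22) = true := between_extend pointOk 22 92070 105696 9 (p6u1513) p6r1514

theorem p6r1515 : allRange pointOk 22 105705 9 = true := by decide +kernel
theorem p6u1515 : ∀ k, 92070 ≤ k → k < 105714 → pointOk (k * 22) = true := between_extend pointOk 22 92070 105705 9 (p6u1514) p6r1515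

theorem p6r1516 : allRange pointOk 22 105714 9 = true := by decide +kernel
theorem p6u1516 : ∀ k, 92070 ≤ k → k < 105723 → pointOk (k * 22) = true := between_extend pointOk 22 92070 105714 9 (p6u1515) p6r1516

theorem p6r1517 : allRange pointOk 22 105723 9 = true := by decide +kernel
theorem p6u1517 : ∀ k, 92070 ≤ k → k < 105732 → pointOk (k * 22) = true := between_extend pointOk 22 92070 105723 9 (p6u1516) p6r1517

theorem p6r1518 : allRange pointOk 22 105732 9 = true := by decide +kernel
theorem p6u1518 : ∀ k, 92070 ≤ k → k < 105741 → pointOk (k * 22) = true := between_extend pointOk 22 92070 105732 9 (p6u1517) p6r1518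

theorem p6r1519 : allRange pointOk 22 105741 9 = true := by decide +kernel
theorem p6u1519 : ∀ k, 92070 ≤ k → k < 105750 → pointOk (k * 22) = true := between_extend pointOk 22 92070 105741 9 (p6u1518) p6r1519

theorem p6r1520 : allRange pointOk 22 105750 9 = true := by decide +kernel
theorem p6u1520 : ∀ k, 92070 ≤ k → k < 105759 → pointOk (k * 22) = true := between_extend pointOk 22 92070 105750 9 (p6u1519) p6r1520

theorem p6r1521 : allRange pointOk 22 105759 9 = true := by decide +kernel
theorem p6u1521 : ∀ k, 92070 ≤ k → k < 105768 → pointOk (k * 22) = true := between_extend pointOk 22 92070 105759 9 (p6u1520) p6r1521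

theorem p6r1522 : allRange pointOk 22 105768 9 = true := by decide +kernel
theorem p6u1522 : ∀ k, 92070 ≤ k → k < 105777 → pointOk (k * 22) = true := between_extend pointOk 22 92070 105768 9 (p6u1521) p6r1522

theorem p6r1523 : allRange pointOk 22 105777 9 = true := by decide +kernel
theorem p6u1523 : ∀ k, 92070 ≤ k → k < 105786 → pointOk (k * 22) = true := between_extend pointOk 22 92070 105777 9 (p6u1522) p6r1523

theorem p6r1524 : allRange pointOk 22 105786 9 = true := by decide +kernel
theorem p6u1524 : ∀ k, 92070 ≤ k → k < 105795 → pointOk (k * 22) = true := between_extend pointOk 22 92070 105786 9 (p6u1523) p6r1524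

theorem p6r1525 : allRange pointOk 22 105795 9 = true := by decide +kernel
theorem p6u1525 : ∀ k, 92070 ≤ k → k < 105804 → pointOk (k * 22) = true := between_extend pointOk 22 92070 105795 9 (p6u1524) p6r1525

theorem p6r1526 : allRange pointOk 22 105804 9 = true := by decide +kernel
theorem p6u1526 : ∀ k, 92070 ≤ k → k < 105813 → pointOk (k * 22) = true := between_extend pointOk 22 92070 105804 9 (p6u1525) p6r1526

theorem p6r1527 : allRange pointOk 22 105813 9 = true := by decide +kernel
theorem p6u1527 : ∀ k, 92070 ≤ k → k < 105822 → pointOk (k * 22) = true := between_extend pointOk 22 92070 105813 9 (p6u1526) p6r1527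

theorem p6r1528 : allRange pointOk 22 105822 9 = true := by decide +kernel
theorem p6u1528 : ∀ k, 92070 ≤ k → k < 105831 → pointOk (k * 22) = true := between_extend pointOk 22 92070 105822 9 (p6u1527) p6r1528

theorem p6r1529 : allRange pointOk 22 105831 9 = true := by decide +kernel
theorem p6u1529 : ∀ k, 92070 ≤ k → k < 105840 → pointOk (k * 22) = true := between_extend pointOk 22 92070 105831 9 (p6u1528) p6r1529

theorem p6r1530 : allRange pointOk 22 105840 9 = true := by decide +kernel
theorem p6u1530 : ∀ k, 92070 ≤ k → k < 105849 → pointOk (k * 22) = true := between_extend pointOk 22 92070 105840 9 (p6u1529) p6r1530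

theorem p6r1531 : allRange pointOk 22 105849 9 = true := by decide +kernel
theorem p6u1531 : ∀ k, 92070 ≤ k → k < 105858 → pointOk (k * 22) = true := between_extend pointOk 22 92070 105849 9 (p6u1530) p6r1531

theorem p6r1532 : allRange pointOk 22 105858 9 = true := by decide +kernel
theorem p6u1532 : ∀ k, 92070 ≤ k → k < 105867 → pointOk (k * 22) = true := between_extend pointOk 22 92070 105858 9 (p6u1531) p6r1532

theorem p6r1533 : allRange pointOk 22 105867 9 = true := by decide +kernel
theorem p6u1533 : ∀ k, 92070 ≤ k → k < 105876 → pointOk (k * 22) = true := between_extend pointOk 22 92070 105867 9 (p6u1532) p6r1533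

theorem p6r1534 : allRange pointOk 22 105876 9 = true := by decide +kernel
theorem p6u1534 : ∀ k, 92070 ≤ k → k < 105885 → pointOk (k * 22) = true := between_extend pointOk 22 92070 105876 9 (p6u1533) p6r1534

theorem p6r1535 : allRange pointOk 22 105885 9 = true := by decide +kernel
theorem p6u1535 : ∀ k, 92070 ≤ k → k < 105894 → pointOk (k * 22) = true := between_extend pointOk 22 92070 105885 9 (p6u1534) p6r1535

theorem p6r1536 : allRange pointOk 22 105894 9 = true := by decide +kernel
theorem p6u1536 : ∀ k, 92070 ≤ k → k < 105903 → pointOk (k * 22) = true := between_extend pointOk 22 92070 105894 9 (p6u1535) p6r1536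

theorem p6r1537 : allRange pointOk 22 105903 9 = true := by decide +kernel
theorem p6u1537 : ∀ k, 92070 ≤ k → k < 105912 → pointOk (k * 22) = true := between_extend pointOk 22 92070 105903 9 (p6u1536) p6r1537

theorem p6r1538 : allRange pointOk 22 105912 9 = true := by decide +kernel
theorem p6u1538 : ∀ k, 92070 ≤ k → k < 105921 → pointOk (k * 22) = true := between_extend pointOk 22 92070 105912 9 (p6u1537) p6r1538

theorem p6r1539 : allRange pointOk 22 105921 9 = true := by decide +kernel
theorem p6u1539 : ∀ k, 92070 ≤ k → k < 105930 → pointOk (k * 22) = true := between_extend pointOk 22 92070 105921 9 (p6u1538) p6r1539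

theorem p6r1540 : allRange pointOk 22 105930 9 = true := by decide +kernel
theorem p6u1540 : ∀ k, 92070 ≤ k → k < 105939 → pointOk (k * 22) = true := between_extend pointOk 22 92070 105930 9 (p6u1539) p6r1540

theorem p6r1541 : allRange pointOk 22 105939 9 = true := by decide +kernel
theorem p6u1541 : ∀ k, 92070 ≤ k → k < 105948 → pointOk (k * 22) = true := between_extend pointOk 22 92070 105939 9 (p6u1540) p6r1541

theorem p6r1542 : allRange pointOk 22 105948 9 = true := by decide +kernel
theorem p6u1542 : ∀ k, 92070 ≤ k → k < 105957 → pointOk (k * 22) = true := between_extend pointOk 22 92070 105948 9 (p6u1541) p6r1542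

theorem p6r1543 : allRange pointOk 22 105957 9 = true := by decide +kernel
theorem p6u1543 : ∀ k, 92070 ≤ k → k < 105966 → pointOk (k * 22) = true := between_extend pointOk 22 92070 105957 9 (p6u1542) p6r1543

theorem p6r1544 : allRange pointOk 22 105966 9 = true := by decide +kernel
theorem p6u1544 : ∀ k, 92070 ≤ k → k < 105975 → pointOk (k * 22) = true := between_extend pointOk 22 92070 105966 9 (p6u1543) p6r1544

theorem p6r1545 : allRange pointOk 22 105975 9 = true := by decide +kernel
theorem p6u1545 : ∀ k, 92070 ≤ k → k < 105984 → pointOk (k * 22) = true := between_extend pointOk 22 92070 105975 9 (p6u1544) p6r1545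

theorem p6r1546 : allRange pointOk 22 105984 9 = true := by decide +kernel
theorem p6u1546 : ∀ k, 92070 ≤ k → k < 105993 → pointOk (k * 22) = true := between_extend pointOk 22 92070 105984 9 (p6u1545) p6r1546

theorem p6r1547 : allRange pointOk 22 105993 9 = true := by decide +kernel
theorem p6u1547 : ∀ k, 92070 ≤ k → k < 106002 → pointOk (k * 22) = true := between_extend pointOk 22 92070 105993 9 (p6u1546) p6r1547

theorem p6r1548 : allRange pointOk 22 106002 9 = true := by decide +kernel
theorem p6u1548 : ∀ k, 92070 ≤ k → k < 106011 → pointOk (k * 22) = true := between_extend pointOk 22 92070 106002 9 (p6u1547) p6r1548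

theorem p6r1549 : allRange pointOk 22 106011 9 = true := by decide +kernel
theorem p6u1549 : ∀ k, 92070 ≤ k → k < 106020 → pointOk (k * 22) = true := between_extend pointOk 22 92070 106011 9 (p6u1548) p6r1549

theorem p6r1550 : allRange pointOk 22 106020 9 = true := by decide +kernel
theorem p6u1550 : ∀ k, 92070 ≤ k → k < 106029 → pointOk (k * 22) = true := between_extend pointOk 22 92070 106020 9 (p6u1549) p6r1550

theorem p6r1551 : allRange pointOk 22 106029 9 = true := by decide +kernel
theorem p6u1551 : ∀ k, 92070 ≤ k → k < 106038 → pointOk (k * 22) = true := between_extend pointOk 22 92070 106029 9 (p6u1550) p6r1551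

theorem p6r1552 : allRange pointOk 22 106038 9 = true := by decide +kernel
theorem p6u1552 : ∀ k, 92070 ≤ k → k < 106047 → pointOk (k * 22) = true := between_extend pointOk 22 92070 106038 9 (p6u1551) p6r1552

theorem p6r1553 : allRange pointOk 22 106047 9 = true := by decide +kernel
theorem p6u1553 : ∀ k, 92070 ≤ k → k < 106056 → pointOk (k * 22) = true := between_extend pointOk 22 92070 106047 9 (p6u1552) p6r1553

theorem p6r1554 : allRange pointOk 22 106056 9 = true := by decide +kernel
theorem p6u1554 : ∀ k, 92070 ≤ k → k < 106065 → pointOk (k * 22) = true := between_extend pointOk 22 92070 106056 9 (p6u1553) p6r1554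

theorem p6r1555 : allRange pointOk 22 106065 9 = true := by decide +kernel
theorem p6u1555 : ∀ k, 92070 ≤ k → k < 106074 → pointOk (k * 22) = true := between_extend pointOk 22 92070 106065 9 (p6u1554) p6r1555

theorem p6r1556 : allRange pointOk 22 106074 9 = true := by decide +kernel
theorem p6u1556 : ∀ k, 92070 ≤ k → k < 106083 → pointOk (k * 22) = true := between_extend pointOk 22 92070 106074 9 (p6u1555) p6r1556

theorem p6r1557 : allRange pointOk 22 106083 9 = true := by decide +kernel
theorem p6u1557 : ∀ k, 92070 ≤ k → k < 106092 → pointOk (k * 22) = true := between_extend pointOk 22 92070 106083 9 (p6u1556) p6r1557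

theorem p6r1558 : allRange pointOk 22 106092 9 = true := by decide +kernel
theorem p6u1558 : ∀ k, 92070 ≤ k → k < 106101 → pointOk (k * 22) = true := between_extend pointOk 22 92070 106092 9 (p6u1557) p6r1558

theorem p6r1559 : allRange pointOk 22 106101 9 = true := by decide +kernel
theorem p6u1559 : ∀ k, 92070 ≤ k → k < 106110 → pointOk (k * 22) = true := between_extend pointOk 22 92070 106101 9 (p6u1558) p6r1559

theorem p6r1560 : allRange pointOk 22 106110 9 = true := by decide +kernel
theorem p6u1560 : ∀ k, 92070 ≤ k → k < 106119 → pointOk (k * 22) = true := between_extend pointOk 22 92070 106110 9 (p6u1559) p6r1560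

theorem p6r1561 : allRange pointOk 22 106119 9 = true := by decide +kernel
theorem p6u1561 : ∀ k, 92070 ≤ k → k < 106128 → pointOk (k * 22) = true := between_extend pointOk 22 92070 106119 9 (p6u1560) p6r1561

theorem p6r1562 : allRange pointOk 22 106128 9 = true := by decide +kernel
theorem p6u1562 : ∀ k, 92070 ≤ k → k < 106137 → pointOk (k * 22) = true := between_extend pointOk 22 92070 106128 9 (p6u1561) p6r1562

theorem p6r1563 : allRange pointOk 22 106137 9 = true := by decide +kernel
theorem p6u1563 : ∀ k, 92070 ≤ k → k < 106146 → pointOk (k * 22) = true := between_extend pointOk 22 92070 106137 9 (p6u1562) p6r1563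

theorem p6r1564 : allRange pointOk 22 106146 9 = true := by decide +kernel
theorem p6u1564 : ∀ k, 92070 ≤ k → k < 106155 → pointOk (k * 22) = true := between_extend pointOk 22 92070 106146 9 (p6u1563) p6r1564

theorem p6r1565 : allRange pointOk 22 106155 9 = true := by decide +kernel
theorem p6u1565 : ∀ k, 92070 ≤ k → k < 106164 → pointOk (k * 22) = true := between_extend pointOk 22 92070 106155 9 (p6u1564) p6r1565

theorem p6r1566 : allRange pointOk 22 106164 9 = true := by decide +kernel
theorem p6u1566 : ∀ k, 92070 ≤ k → k < 106173 → pointOk (k * 22) = true := between_extend pointOk 22 92070 106164 9 (p6u1565) p6r1566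

theorem p6r1567 : allRange pointOk 22 106173 9 = true := by decide +kernel
theorem p6u1567 : ∀ k, 92070 ≤ k → k < 106182 → pointOk (k * 22) = true := between_extend pointOk 22 92070 106173 9 (p6u1566) p6r1567

theorem p6r1568 : allRange pointOk 22 106182 9 = true := by decide +kernel
theorem p6u1568 : ∀ k, 92070 ≤ k → k < 106191 → pointOk (k * 22) = true := between_extend pointOk 22 92070 106182 9 (p6u1567) p6r1568

theorem p6r1569 : allRange pointOk 22 106191 9 = true := by decide +kernel
theorem p6u1569 : ∀ k, 92070 ≤ k → k < 106200 → pointOk (k * 22) = true := between_extend pointOk 22 92070 106191 9 (p6u1568) p6r1569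

theorem p6r1570 : allRange pointOk 22 106200 9 = true := by decide +kernel
theorem p6u1570 : ∀ k, 92070 ≤ k → k < 106209 → pointOk (k * 22) = true := between_extend pointOk 22 92070 106200 9 (p6u1569) p6r1570

theorem p6r1571 : allRange pointOk 22 106209 9 = true := by decide +kernel
theorem p6u1571 : ∀ k, 92070 ≤ k → k < 106218 → pointOk (k * 22) = true := between_extend pointOk 22 92070 106209 9 (p6u1570) p6r1571

theorem p6r1572 : allRange pointOk 22 106218 9 = true := by decide +kernel
theorem p6u1572 : ∀ k, 92070 ≤ k → k < 106227 → pointOk (k * 22) = true := between_extend pointOk 22 92070 106218 9 (p6u1571) p6r1572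

theorem p6r1573 : allRange pointOk 22 106227 9 = true := by decide +kernel
theorem p6u1573 : ∀ k, 92070 ≤ k → k < 106236 → pointOk (k * 22) = true := between_extend pointOk 22 92070 106227 9 (p6u1572) p6r1573

theorem p6r1574 : allRange pointOk 22 106236 9 = true := by decide +kernel
theorem p6u1574 : ∀ k, 92070 ≤ k → k < 106245 → pointOk (k * 22) = true := between_extend pointOk 22 92070 106236 9 (p6u1573) p6r1574

theorem p6r1575 : allRange pointOk 22 106245 9 = true := by decide +kernel
theorem p6u1575 : ∀ k, 92070 ≤ k → k < 106254 → pointOk (k * 22) = true := between_extend pointOk 22 92070 106245 9 (p6u1574) p6r1575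

theorem p6r1576 : allRange pointOk 22 106254 9 = true := by decide +kernel
theorem p6u1576 : ∀ k, 92070 ≤ k → k < 106263 → pointOk (k * 22) = true := between_extend pointOk 22 92070 106254 9 (p6u1575) p6r1576

theorem p6r1577 : allRange pointOk 22 106263 9 = true := by decide +kernel
theorem p6u1577 : ∀ k, 92070 ≤ k → k < 106272 → pointOk (k * 22) = true := between_extend pointOk 22 92070 106263 9 (p6u1576) p6r1577

theorem p6r1578 : allRange pointOk 22 106272 9 = true := by decide +kernel
theorem p6u1578 : ∀ k, 92070 ≤ k → k < 106281 → pointOk (k * 22) = true := between_extend pointOk 22 92070 106272 9 (p6u1577) p6r1578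

theorem p6r1579 : allRange pointOk 22 106281 9 = true := by decide +kernel
theorem p6u1579 : ∀ k, 92070 ≤ k → k < 106290 → pointOk (k * 22) = true := between_extend pointOk 22 92070 106281 9 (p6u1578) p6r1579

theorem p6r1580 : allRange pointOk 22 106290 9 = true := by decide +kernel
theorem p6u1580 : ∀ k, 92070 ≤ k → k < 106299 → pointOk (k * 22) = true := between_extend pointOk 22 92070 106290 9 (p6u1579) p6r1580

theorem p6r1581 : allRange pointOk 22 106299 9 = true := by decide +kernel
theorem p6u1581 : ∀ k, 92070 ≤ k → k < 106308 → pointOk (k * 22) = true := between_extend pointOk 22 92070 106299 9 (p6u1580) p6r1581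

theorem p6r1582 : allRange pointOk 22 106308 9 = true := by decide +kernel
theorem p6u1582 : ∀ k, 92070 ≤ k → k < 106317 → pointOk (k * 22) = true := between_extend pointOk 22 92070 106308 9 (p6u1581) p6r1582

theorem p6r1583 : allRange pointOk 22 106317 9 = true := by decide +kernel
theorem p6u1583 : ∀ k, 92070 ≤ k → k < 106326 → pointOk (k * 22) = true := between_extend pointOk 22 92070 106317 9 (p6u1582) p6r1583

theorem p6r1584 : allRange pointOk 22 106326 9 = true := by decide +kernel
theorem p6u1584 : ∀ k, 92070 ≤ k → k < 106335 → pointOk (k * 22) = true := between_extend pointOk 22 92070 106326 9 (p6u1583) p6r1584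

theorem p6r1585 : allRange pointOk 22 106335 9 = true := by decide +kernel
theorem p6u1585 : ∀ k, 92070 ≤ k → k < 106344 → pointOk (k * 22) = true := between_extend pointOk 22 92070 106335 9 (p6u1584) p6r1585

theorem p6r1586 : allRange pointOk 22 106344 9 = true := by decide +kernel
theorem p6u1586 : ∀ k, 92070 ≤ k → k < 106353 → pointOk (k * 22) = true := between_extend pointOk 22 92070 106344 9 (p6u1585) p6r1586

theorem p6r1587 : allRange pointOk 22 106353 9 = true := by decide +kernel
theorem p6u1587 : ∀ k, 92070 ≤ k → k < 106362 → pointOk (k * 22) = true := between_extend pointOk 22 92070 106353 9 (p6u1586) p6r1587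

theorem p6r1588 : allRange pointOk 22 106362 9 = true := by decide +kernel
theorem p6u1588 : ∀ k, 92070 ≤ k → k < 106371 → pointOk (k * 22) = true := between_extend pointOk 22 92070 106362 9 (p6u1587) p6r1588

theorem p6r1589 : allRange pointOk 22 106371 9 = true := by decide +kernel
theorem p6u1589 : ∀ k, 92070 ≤ k → k < 106380 → pointOk (k * 22) = true := between_extend pointOk 22 92070 106371 9 (p6u1588) p6r1589

theorem p6r1590 : allRange pointOk 22 106380 9 = true := by decide +kernel
theorem p6u1590 : ∀ k, 92070 ≤ k → k < 106389 → pointOk (k * 22) = true := between_extend pointOk 22 92070 106380 9 (p6u1589) p6r1590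

theorem p6r1591 : allRange pointOk 22 106389 9 = true := by decide +kernel
theorem p6u1591 : ∀ k, 92070 ≤ k → k < 106398 → pointOk (k * 22) = true := between_extend pointOk 22 92070 106389 9 (p6u1590) p6r1591

theorem p6r1592 : allRange pointOk 22 106398 9 = true := by decide +kernel
theorem p6u1592 : ∀ k, 92070 ≤ k → k < 106407 → pointOk (k * 22) = true := between_extend pointOk 22 92070 106398 9 (p6u1591) p6r1592

theorem p6r1593 : allRange pointOk 22 106407 9 = true := by decide +kernel
theorem p6u1593 : ∀ k, 92070 ≤ k → k < 106416 → pointOk (k * 22) = true := between_extend pointOk 22 92070 106407 9 (p6u1592) p6r1593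

theorem p6r1594 : allRange pointOk 22 106416 9 = true := by decide +kernel
theorem p6u1594 : ∀ k, 92070 ≤ k → k < 106425 → pointOk (k * 22) = true := between_extend pointOk 22 92070 106416 9 (p6u1593) p6r1594

theorem p6r1595 : allRange pointOk 22 106425 9 = true := by decide +kernel
theorem p6u1595 : ∀ k, 92070 ≤ k → k < 106434 → pointOk (k * 22) = true := between_extend pointOk 22 92070 106425 9 (p6u1594) p6r1595

theorem p6r1596 : allRange pointOk 22 106434 9 = true := by decide +kernel
theorem p6u1596 : ∀ k, 92070 ≤ k → k < 106443 → pointOk (k * 22) = true := between_extend pointOk 22 92070 106434 9 (p6u1595) p6r1596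

theorem p6r1597 : allRange pointOk 22 106443 9 = true := by decide +kernel
theorem p6u1597 : ∀ k, 92070 ≤ k → k < 106452 → pointOk (k * 22) = true := between_extend pointOk 22 92070 106443 9 (p6u1596) p6r1597

theorem p6r1598 : allRange pointOk 22 106452 9 = true := by decide +kernel
theorem p6u1598 : ∀ k, 92070 ≤ k → k < 106461 → pointOk (k * 22) = true := between_extend pointOk 22 92070 106452 9 (p6u1597) p6r1598

theorem p6r1599 : allRange pointOk 22 106461 9 = true := by decide +kernel
theorem p6u1599 : ∀ k, 92070 ≤ k → k < 106470 → pointOk (k * 22) = true := between_extend pointOk 22 92070 106461 9 (p6u1598) p6r1599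

theorem p6r1600 : allRange pointOk 22 106470 9 = true := by decide +kernel
theorem p6u1600 : ∀ k, 92070 ≤ k → k < 106479 → pointOk (k * 22) = true := between_extend pointOk 22 92070 106470 9 (p6u1599) p6r1600

theorem p6r1601 : allRange pointOk 22 106479 9 = true := by decide +kernel
theorem p6u1601 : ∀ k, 92070 ≤ k → k < 106488 → pointOk (k * 22) = true := between_extend pointOk 22 92070 106479 9 (p6u1600) p6r1601

theorem p6r1602 : allRange pointOk 22 106488 9 = true := by decide +kernel
theorem p6u1602 : ∀ k, 92070 ≤ k → k < 106497 → pointOk (k * 22) = true := between_extend pointOk 22 92070 106488 9 (p6u1601) p6r1602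

theorem p6r1603 : allRange pointOk 22 106497 9 = true := by decide +kernel
theorem p6u1603 : ∀ k, 92070 ≤ k → k < 106506 → pointOk (k * 22) = true := between_extend pointOk 22 92070 106497 9 (p6u1602) p6r1603

theorem p6r1604 : allRange pointOk 22 106506 9 = true := by decide +kernel
theorem p6u1604 : ∀ k, 92070 ≤ k → k < 106515 → pointOk (k * 22) = true := between_extend pointOk 22 92070 106506 9 (p6u1603) p6r1604

theorem p6r1605 : allRange pointOk 22 106515 9 = true := by decide +kernel
theorem p6u1605 : ∀ k, 92070 ≤ k → k < 106524 → pointOk (k * 22) = true := between_extend pointOk 22 92070 106515 9 (p6u1604) p6r1605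

theorem p6r1606 : allRange pointOk 22 106524 9 = true := by decide +kernel
theorem p6u1606 : ∀ k, 92070 ≤ k → k < 106533 → pointOk (k * 22) = true := between_extend pointOk 22 92070 106524 9 (p6u1605) p6r1606

theorem p6r1607 : allRange pointOk 22 106533 9 = true := by decide +kernel
theorem p6u1607 : ∀ k, 92070 ≤ k → k < 106542 → pointOk (k * 22) = true := between_extend pointOk 22 92070 106533 9 (p6u1606) p6r1607

theorem p6r1608 : allRange pointOk 22 106542 9 = true := by decide +kernel
theorem p6u1608 : ∀ k, 92070 ≤ k → k < 106551 → pointOk (k * 22) = true := between_extend pointOk 22 92070 106542 9 (p6u1607) p6r1608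

theorem p6r1609 : allRange pointOk 22 106551 9 = true := by decide +kernel
theorem p6u1609 : ∀ k, 92070 ≤ k → k < 106560 → pointOk (k * 22) = true := between_extend pointOk 22 92070 106551 9 (p6u1608) p6r1609

theorem p6r1610 : allRange pointOk 22 106560 9 = true := by decide +kernel
theorem p6u1610 : ∀ k, 92070 ≤ k → k < 106569 → pointOk (k * 22) = true := between_extend pointOk 22 92070 106560 9 (p6u1609) p6r1610

theorem p6r1611 : allRange pointOk 22 106569 9 = true := by decide +kernel
theorem p6u1611 : ∀ k, 92070 ≤ k → k < 106578 → pointOk (k * 22) = true := between_extend pointOk 22 92070 106569 9 (p6u1610) p6r1611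

theorem p6r1612 : allRange pointOk 22 106578 9 = true := by decide +kernel
theorem p6u1612 : ∀ k, 92070 ≤ k → k < 106587 → pointOk (k * 22) = true := between_extend pointOk 22 92070 106578 9 (p6u1611) p6r1612

theorem p6r1613 : allRange pointOk 22 106587 9 = true := by decide +kernel
theorem p6u1613 : ∀ k, 92070 ≤ k → k < 106596 → pointOk (k * 22) = true := between_extend pointOk 22 92070 106587 9 (p6u1612) p6r1613

theorem p6r1614 : allRange pointOk 22 106596 9 = true := by decide +kernel
theorem p6u1614 : ∀ k, 92070 ≤ k → k < 106605 → pointOk (k * 22) = true := between_extend pointOk 22 92070 106596 9 (p6u1613) p6r1614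

theorem p6r1615 : allRange pointOk 22 106605 9 = true := by decide +kernel
theorem p6u1615 : ∀ k, 92070 ≤ k → k < 106614 → pointOk (k * 22) = true := between_extend pointOk 22 92070 106605 9 (p6u1614) p6r1615

theorem p6r1616 : allRange pointOk 22 106614 9 = true := by decide +kernel
theorem p6u1616 : ∀ k, 92070 ≤ k → k < 106623 → pointOk (k * 22) = true := between_extend pointOk 22 92070 106614 9 (p6u1615) p6r1616

theorem p6r1617 : allRange pointOk 22 106623 9 = true := by decide +kernel
theorem p6u1617 : ∀ k, 92070 ≤ k → k < 106632 → pointOk (k * 22) = true := between_extend pointOk 22 92070 106623 9 (p6u1616) p6r1617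

theorem p6r1618 : allRange pointOk 22 106632 9 = true := by decide +kernel
theorem p6u1618 : ∀ k, 92070 ≤ k → k < 106641 → pointOk (k * 22) = true := between_extend pointOk 22 92070 106632 9 (p6u1617) p6r1618

theorem p6r1619 : allRange pointOk 22 106641 9 = true := by decide +kernel
theorem p6u1619 : ∀ k, 92070 ≤ k → k < 106650 → pointOk (k * 22) = true := between_extend pointOk 22 92070 106641 9 (p6u1618) p6r1619

theorem p6r1620 : allRange pointOk 22 106650 9 = true := by decide +kernel
theorem p6u1620 : ∀ k, 92070 ≤ k → k < 106659 → pointOk (k * 22) = true := between_extend pointOk 22 92070 106650 9 (p6u1619) p6r1620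

theorem p6r1621 : allRange pointOk 22 106659 9 = true := by decide +kernel
theorem p6u1621 : ∀ k, 92070 ≤ k → k < 106668 → pointOk (k * 22) = true := between_extend pointOk 22 92070 106659 9 (p6u1620) p6r1621

theorem p6r1622 : allRange pointOk 22 106668 9 = true := by decide +kernel
theorem p6u1622 : ∀ k, 92070 ≤ k → k < 106677 → pointOk (k * 22) = true := between_extend pointOk 22 92070 106668 9 (p6u1621) p6r1622

theorem p6r1623 : allRange pointOk 22 106677 9 = true := by decide +kernel
theorem p6u1623 : ∀ k, 92070 ≤ k → k < 106686 → pointOk (k * 22) = true := between_extend pointOk 22 92070 106677 9 (p6u1622) p6r1623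

theorem p6r1624 : allRange pointOk 22 106686 9 = true := by decide +kernel
theorem p6u1624 : ∀ k, 92070 ≤ k → k < 106695 → pointOk (k * 22) = true := between_extend pointOk 22 92070 106686 9 (p6u1623) p6r1624

theorem p6r1625 : allRange pointOk 22 106695 9 = true := by decide +kernel
theorem p6u1625 : ∀ k, 92070 ≤ k → k < 106704 → pointOk (k * 22) = true := between_extend pointOk 22 92070 106695 9 (p6u1624) p6r1625

theorem p6r1626 : allRange pointOk 22 106704 9 = true := by decide +kernel
theorem p6u1626 : ∀ k, 92070 ≤ k → k < 106713 → pointOk (k * 22) = true := between_extend pointOk 22 92070 106704 9 (p6u1625) p6r1626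

theorem p6r1627 : allRange pointOk 22 106713 9 = true := by decide +kernel
theorem p6u1627 : ∀ k, 92070 ≤ k → k < 106722 → pointOk (k * 22) = true := between_extend pointOk 22 92070 106713 9 (p6u1626) p6r1627

theorem p6r1628 : allRange pointOk 22 106722 9 = true := by decide +kernel
theorem p6u1628 : ∀ k, 92070 ≤ k → k < 106731 → pointOk (k * 22) = true := between_extend pointOk 22 92070 106722 9 (p6u1627) p6r1628

theorem p6r1629 : allRange pointOk 22 106731 9 = true := by decide +kernel
theorem p6u1629 : ∀ k, 92070 ≤ k → k < 106740 → pointOk (k * 22) = true := between_extend pointOk 22 92070 106731 9 (p6u1628) p6r1629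

theorem p6r1630 : allRange pointOk 22 106740 9 = true := by decide +kernel
theorem p6u1630 : ∀ k, 92070 ≤ k → k < 106749 → pointOk (k * 22) = true := between_extend pointOk 22 92070 106740 9 (p6u1629) p6r1630

theorem p6r1631 : allRange pointOk 22 106749 9 = true := by decide +kernel
theorem p6u1631 : ∀ k, 92070 ≤ k → k < 106758 → pointOk (k * 22) = true := between_extend pointOk 22 92070 106749 9 (p6u1630) p6r1631

theorem p6r1632 : allRange pointOk 22 106758 9 = true := by decide +kernel
theorem p6u1632 : ∀ k, 92070 ≤ k → k < 106767 → pointOk (k * 22) = true := between_extend pointOk 22 92070 106758 9 (p6u1631) p6r1632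

theorem p6r1633 : allRange pointOk 22 106767 9 = true := by decide +kernel
theorem p6u1633 : ∀ k, 92070 ≤ k → k < 106776 → pointOk (k * 22) = true := between_extend pointOk 22 92070 106767 9 (p6u1632) p6r1633

theorem p6r1634 : allRange pointOk 22 106776 9 = true := by decide +kernel
theorem p6u1634 : ∀ k, 92070 ≤ k → k < 106785 → pointOk (k * 22) = true := between_extend pointOk 22 92070 106776 9 (p6u1633) p6r1634

theorem p6r1635 : allRange pointOk 22 106785 9 = true := by decide +kernel
theorem p6u1635 : ∀ k, 92070 ≤ k → k < 106794 → pointOk (k * 22) = true := between_extend pointOk 22 92070 106785 9 (p6u1634) p6r1635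

theorem p6r1636 : allRange pointOk 22 106794 9 = true := by decide +kernel
theorem p6u1636 : ∀ k, 92070 ≤ k → k < 106803 → pointOk (k * 22) = true := between_extend pointOk 22 92070 106794 9 (p6u1635) p6r1636

theorem p6r1637 : allRange pointOk 22 106803 9 = true := by decide +kernel
theorem p6u1637 : ∀ k, 92070 ≤ k → k < 106812 → pointOk (k * 22) = true := between_extend pointOk 22 92070 106803 9 (p6u1636) p6r1637

theorem p6r1638 : allRange pointOk 22 106812 9 = true := by decide +kernel
theorem p6u1638 : ∀ k, 92070 ≤ k → k < 106821 → pointOk (k * 22) = true := between_extend pointOk 22 92070 106812 9 (p6u1637) p6r1638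

theorem p6r1639 : allRange pointOk 22 106821 9 = true := by decide +kernel
theorem p6u1639 : ∀ k, 92070 ≤ k → k < 106830 → pointOk (k * 22) = true := between_extend pointOk 22 92070 106821 9 (p6u1638) p6r1639

theorem p6r1640 : allRange pointOk 22 106830 9 = true := by decide +kernel
theorem p6u1640 : ∀ k, 92070 ≤ k → k < 106839 → pointOk (k * 22) = true := between_extend pointOk 22 92070 106830 9 (p6u1639) p6r1640

theorem p6r1641 : allRange pointOk 22 106839 9 = true := by decide +kernel
theorem p6u1641 : ∀ k, 92070 ≤ k → k < 106848 → pointOk (k * 22) = true := between_extend pointOk 22 92070 106839 9 (p6u1640) p6r1641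

theorem p6r1642 : allRange pointOk 22 106848 9 = true := by decide +kernel
theorem p6u1642 : ∀ k, 92070 ≤ k → k < 106857 → pointOk (k * 22) = true := between_extend pointOk 22 92070 106848 9 (p6u1641) p6r1642

theorem p6r1643 : allRange pointOk 22 106857 9 = true := by decide +kernel
theorem p6u1643 : ∀ k, 92070 ≤ k → k < 106866 → pointOk (k * 22) = true := between_extend pointOk 22 92070 106857 9 (p6u1642) p6r1643

theorem p6r1644 : allRange pointOk 22 106866 9 = true := by decide +kernel
theorem p6u1644 : ∀ k, 92070 ≤ k → k < 106875 → pointOk (k * 22) = true := between_extend pointOk 22 92070 106866 9 (p6u1643) p6r1644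

theorem p6r1645 : allRange pointOk 22 106875 9 = true := by decide +kernel
theorem p6u1645 : ∀ k, 92070 ≤ k → k < 106884 → pointOk (k * 22) = true := between_extend pointOk 22 92070 106875 9 (p6u1644) p6r1645

theorem p6r1646 : allRange pointOk 22 106884 9 = true := by decide +kernel
theorem p6u1646 : ∀ k, 92070 ≤ k → k < 106893 → pointOk (k * 22) = true := between_extend pointOk 22 92070 106884 9 (p6u1645) p6r1646

theorem p6r1647 : allRange pointOk 22 106893 9 = true := by decide +kernel
theorem p6u1647 : ∀ k, 92070 ≤ k → k < 106902 → pointOk (k * 22) = true := between_extend pointOk 22 92070 106893 9 (p6u1646) p6r1647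

theorem p6r1648 : allRange pointOk 22 106902 9 = true := by decide +kernel
theorem p6u1648 : ∀ k, 92070 ≤ k → k < 106911 → pointOk (k * 22) = true := between_extend pointOk 22 92070 106902 9 (p6u1647) p6r1648

theorem p6r1649 : allRange pointOk 22 106911 9 = true := by decide +kernel
theorem p6u1649 : ∀ k, 92070 ≤ k → k < 106920 → pointOk (k * 22) = true := between_extend pointOk 22 92070 106911 9 (p6u1648) p6r1649

theorem p6r1650 : allRange pointOk 22 106920 9 = true := by decide +kernel
theorem p6u1650 : ∀ k, 92070 ≤ k → k < 106929 → pointOk (k * 22) = true := between_extend pointOk 22 92070 106920 9 (p6u1649) p6r1650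

theorem p6r1651 : allRange pointOk 22 106929 9 = true := by decide +kernel
theorem p6u1651 : ∀ k, 92070 ≤ k → k < 106938 → pointOk (k * 22) = true := between_extend pointOk 22 92070 106929 9 (p6u1650) p6r1651

theorem p6r1652 : allRange pointOk 22 106938 9 = true := by decide +kernel
theorem p6u1652 : ∀ k, 92070 ≤ k → k < 106947 → pointOk (k * 22) = true := between_extend pointOk 22 92070 106938 9 (p6u1651) p6r1652

theorem p6r1653 : allRange pointOk 22 106947 9 = true := by decide +kernel
theorem p6u1653 : ∀ k, 92070 ≤ k → k < 106956 → pointOk (k * 22) = true := between_extend pointOk 22 92070 106947 9 (p6u1652) p6r1653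

theorem p6r1654 : allRange pointOk 22 106956 9 = true := by decide +kernel
theorem p6u1654 : ∀ k, 92070 ≤ k → k < 106965 → pointOk (k * 22) = true := between_extend pointOk 22 92070 106956 9 (p6u1653) p6r1654

theorem p6r1655 : allRange pointOk 22 106965 9 = true := by decide +kernel
theorem p6u1655 : ∀ k, 92070 ≤ k → k < 106974 → pointOk (k * 22) = true := between_extend pointOk 22 92070 106965 9 (p6u1654) p6r1655

theorem p6r1656 : allRange pointOk 22 106974 9 = true := by decide +kernel
theorem p6u1656 : ∀ k, 92070 ≤ k → k < 106983 → pointOk (k * 22) = true := between_extend pointOk 22 92070 106974 9 (p6u1655) p6r1656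

theorem p6r1657 : allRange pointOk 22 106983 9 = true := by decide +kernel
theorem p6u1657 : ∀ k, 92070 ≤ k → k < 106992 → pointOk (k * 22) = true := between_extend pointOk 22 92070 106983 9 (p6u1656) p6r1657

theorem p6r1658 : allRange pointOk 22 106992 9 = true := by decide +kernel
theorem p6u1658 : ∀ k, 92070 ≤ k → k < 107001 → pointOk (k * 22) = true := between_extend pointOk 22 92070 106992 9 (p6u1657) p6r1658

theorem p6r1659 : allRange pointOk 22 107001 9 = true := by decide +kernel
theorem p6u1659 : ∀ k, 92070 ≤ k → k < 107010 → pointOk (k * 22) = true := between_extend pointOk 22 92070 107001 9 (p6u1658) p6r1659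

theorem p6r1660 : allRange pointOk 22 107010 9 = true := by decide +kernel
theorem p6u1660 : ∀ k, 92070 ≤ k → k < 107019 → pointOk (k * 22) = true := between_extend pointOk 22 92070 107010 9 (p6u1659) p6r1660

theorem p6r1661 : allRange pointOk 22 107019 9 = true := by decide +kernel
theorem p6u1661 : ∀ k, 92070 ≤ k → k < 107028 → pointOk (k * 22) = true := between_extend pointOk 22 92070 107019 9 (p6u1660) p6r1661

theorem p6r1662 : allRange pointOk 22 107028 9 = true := by decide +kernel
theorem p6u1662 : ∀ k, 92070 ≤ k → k < 107037 → pointOk (k * 22) = true := between_extend pointOk 22 92070 107028 9 (p6u1661) p6r1662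

theorem p6r1663 : allRange pointOk 22 107037 9 = true := by decide +kernel
theorem p6u1663 : ∀ k, 92070 ≤ k → k < 107046 → pointOk (k * 22) = true := between_extend pointOk 22 92070 107037 9 (p6u1662) p6r1663

theorem p6r1664 : allRange pointOk 22 107046 9 = true := by decide +kernel
theorem p6u1664 : ∀ k, 92070 ≤ k → k < 107055 → pointOk (k * 22) = true := between_extend pointOk 22 92070 107046 9 (p6u1663) p6r1664

theorem p6r1665 : allRange pointOk 22 107055 9 = true := by decide +kernel
theorem p6u1665 : ∀ k, 92070 ≤ k → k < 107064 → pointOk (k * 22) = true := between_extend pointOk 22 92070 107055 9 (p6u1664) p6r1665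

theorem p6r1666 : allRange pointOk 22 107064 9 = true := by decide +kernel
theorem p6u1666 : ∀ k, 92070 ≤ k → k < 107073 → pointOk (k * 22) = true := between_extend pointOk 22 92070 107064 9 (p6u1665) p6r1666

theorem p6r1667 : allRange pointOk 22 107073 9 = true := by decide +kernel
theorem p6u1667 : ∀ k, 92070 ≤ k → k < 107082 → pointOk (k * 22) = true := between_extend pointOk 22 92070 107073 9 (p6u1666) p6r1667

theorem p6r1668 : allRange pointOk 22 107082 9 = true := by decide +kernel
theorem p6u1668 : ∀ k, 92070 ≤ k → k < 107091 → pointOk (k * 22) = true := between_extend pointOk 22 92070 107082 9 (p6u1667) p6r1668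

theorem p6r1669 : allRange pointOk 22 107091 9 = true := by decide +kernel
theorem p6u1669 : ∀ k, 92070 ≤ k → k < 107100 → pointOk (k * 22) = true := between_extend pointOk 22 92070 107091 9 (p6u1668) p6r1669

theorem p6r1670 : allRange pointOk 22 107100 9 = true := by decide +kernel
theorem p6u1670 : ∀ k, 92070 ≤ k → k < 107109 → pointOk (k * 22) = true := between_extend pointOk 22 92070 107100 9 (p6u1669) p6r1670

theorem p6r1671 : allRange pointOk 22 107109 9 = true := by decide +kernel
theorem p6u1671 : ∀ k, 92070 ≤ k → k < 107118 → pointOk (k * 22) = true := between_extend pointOk 22 92070 107109 9 (p6u1670) p6r1671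

theorem p6r1672 : allRange pointOk 22 107118 9 = true := by decide +kernel
theorem p6u1672 : ∀ k, 92070 ≤ k → k < 107127 → pointOk (k * 22) = true := between_extend pointOk 22 92070 107118 9 (p6u1671) p6r1672

theorem p6r1673 : allRange pointOk 22 107127 9 = true := by decide +kernel
theorem p6u1673 : ∀ k, 92070 ≤ k → k < 107136 → pointOk (k * 22) = true := between_extend pointOk 22 92070 107127 9 (p6u1672) p6r1673

theorem p6r1674 : allRange pointOk 22 107136 9 = true := by decide +kernel
theorem p6u1674 : ∀ k, 92070 ≤ k → k < 107145 → pointOk (k * 22) = true := between_extend pointOk 22 92070 107136 9 (p6u1673) p6r1674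

theorem p6r1675 : allRange pointOk 22 107145 9 = true := by decide +kernel
theorem p6u1675 : ∀ k, 92070 ≤ k → k < 107154 → pointOk (k * 22) = true := between_extend pointOk 22 92070 107145 9 (p6u1674) p6r1675

theorem p6r1676 : allRange pointOk 22 107154 9 = true := by decide +kernel
theorem p6u1676 : ∀ k, 92070 ≤ k → k < 107163 → pointOk (k * 22) = true := between_extend pointOk 22 92070 107154 9 (p6u1675) p6r1676

theorem p6r1677 : allRange pointOk 22 107163 9 = true := by decide +kernel
theorem p6u1677 : ∀ k, 92070 ≤ k → k < 107172 → pointOk (k * 22) = true := between_extend pointOk 22 92070 107163 9 (p6u1676) p6r1677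

theorem p6r1678 : allRange pointOk 22 107172 9 = true := by decide +kernel
theorem p6u1678 : ∀ k, 92070 ≤ k → k < 107181 → pointOk (k * 22) = true := between_extend pointOk 22 92070 107172 9 (p6u1677) p6r1678

theorem p6r1679 : allRange pointOk 22 107181 9 = true := by decide +kernel
theorem p6u1679 : ∀ k, 92070 ≤ k → k < 107190 → pointOk (k * 22) = true := between_extend pointOk 22 92070 107181 9 (p6u1678) p6r1679

theorem p6r1680 : allRange pointOk 22 107190 9 = true := by decide +kernel
theorem p6u1680 : ∀ k, 92070 ≤ k → k < 107199 → pointOk (k * 22) = true := between_extend pointOk 22 92070 107190 9 (p6u1679) p6r1680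

theorem p6r1681 : allRange pointOk 22 107199 9 = true := by decide +kernel
theorem p6u1681 : ∀ k, 92070 ≤ k → k < 107208 → pointOk (k * 22) = true := between_extend pointOk 22 92070 107199 9 (p6u1680) p6r1681

theorem p6r1682 : allRange pointOk 22 107208 9 = true := by decide +kernel
theorem p6u1682 : ∀ k, 92070 ≤ k → k < 107217 → pointOk (k * 22) = true := between_extend pointOk 22 92070 107208 9 (p6u1681) p6r1682

theorem p6r1683 : allRange pointOk 22 107217 9 = true := by decide +kernel
theorem p6u1683 : ∀ k, 92070 ≤ k → k < 107226 → pointOk (k * 22) = true := between_extend pointOk 22 92070 107217 9 (p6u1682) p6r1683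

theorem p6r1684 : allRange pointOk 22 107226 9 = true := by decide +kernel
theorem p6u1684 : ∀ k, 92070 ≤ k → k < 107235 → pointOk (k * 22) = true := between_extend pointOk 22 92070 107226 9 (p6u1683) p6r1684

theorem p6r1685 : allRange pointOk 22 107235 9 = true := by decide +kernel
theorem p6u1685 : ∀ k, 92070 ≤ k → k < 107244 → pointOk (k * 22) = true := between_extend pointOk 22 92070 107235 9 (p6u1684) p6r1685

theorem p6r1686 : allRange pointOk 22 107244 9 = true := by decide +kernel
theorem p6u1686 : ∀ k, 92070 ≤ k → k < 107253 → pointOk (k * 22) = true := between_extend pointOk 22 92070 107244 9 (p6u1685) p6r1686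

theorem p6r1687 : allRange pointOk 22 107253 9 = true := by decide +kernel
theorem p6u1687 : ∀ k, 92070 ≤ k → k < 107262 → pointOk (k * 22) = true := between_extend pointOk 22 92070 107253 9 (p6u1686) p6r1687

theorem p6r1688 : allRange pointOk 22 107262 9 = true := by decide +kernel
theorem p6u1688 : ∀ k, 92070 ≤ k → k < 107271 → pointOk (k * 22) = true := between_extend pointOk 22 92070 107262 9 (p6u1687) p6r1688

theorem p6r1689 : allRange pointOk 22 107271 9 = true := by decide +kernel
theorem p6u1689 : ∀ k, 92070 ≤ k → k < 107280 → pointOk (k * 22) = true := between_extend pointOk 22 92070 107271 9 (p6u1688) p6r1689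

theorem p6r1690 : allRange pointOk 22 107280 9 = true := by decide +kernel
theorem p6u1690 : ∀ k, 92070 ≤ k → k < 107289 → pointOk (k * 22) = true := between_extend pointOk 22 92070 107280 9 (p6u1689) p6r1690

theorem p6r1691 : allRange pointOk 22 107289 9 = true := by decide +kernel
theorem p6u1691 : ∀ k, 92070 ≤ k → k < 107298 → pointOk (k * 22) = true := between_extend pointOk 22 92070 107289 9 (p6u1690) p6r1691

theorem p6r1692 : allRange pointOk 22 107298 9 = true := by decide +kernel
theorem p6u1692 : ∀ k, 92070 ≤ k → k < 107307 → pointOk (k * 22) = true := between_extend pointOk 22 92070 107298 9 (p6u1691) p6r1692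

theorem p6r1693 : allRange pointOk 22 107307 9 = true := by decide +kernel
theorem p6u1693 : ∀ k, 92070 ≤ k → k < 107316 → pointOk (k * 22) = true := between_extend pointOk 22 92070 107307 9 (p6u1692) p6r1693

theorem p6r1694 : allRange pointOk 22 107316 9 = true := by decide +kernel
theorem p6u1694 : ∀ k, 92070 ≤ k → k < 107325 → pointOk (k * 22) = true := between_extend pointOk 22 92070 107316 9 (p6u1693) p6r1694

theorem p6r1695 : allRange pointOk 22 107325 9 = true := by decide +kernel
theorem p6u1695 : ∀ k, 92070 ≤ k → k < 107334 → pointOk (k * 22) = true := between_extend pointOk 22 92070 107325 9 (p6u1694) p6r1695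

theorem p6r1696 : allRange pointOk 22 107334 9 = true := by decide +kernel
theorem p6u1696 : ∀ k, 92070 ≤ k → k < 107343 → pointOk (k * 22) = true := between_extend pointOk 22 92070 107334 9 (p6u1695) p6r1696

theorem p6r1697 : allRange pointOk 22 107343 9 = true := by decide +kernel
theorem p6u1697 : ∀ k, 92070 ≤ k → k < 107352 → pointOk (k * 22) = true := between_extend pointOk 22 92070 107343 9 (p6u1696) p6r1697

theorem p6r1698 : allRange pointOk 22 107352 9 = true := by decide +kernel
theorem p6u1698 : ∀ k, 92070 ≤ k → k < 107361 → pointOk (k * 22) = true := between_extend pointOk 22 92070 107352 9 (p6u1697) p6r1698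

theorem p6r1699 : allRange pointOk 22 107361 9 = true := by decide +kernel
theorem p6u1699 : ∀ k, 92070 ≤ k → k < 107370 → pointOk (k * 22) = true := between_extend pointOk 22 92070 107361 9 (p6u1698) p6r1699

theorem p6r1700 : allRange pointOk 22 107370 9 = true := by decide +kernel
theorem p6u1700 : ∀ k, 92070 ≤ k → k < 107379 → pointOk (k * 22) = true := between_extend pointOk 22 92070 107370 9 (p6u1699) p6r1700

theorem p6r1701 : allRange pointOk 22 107379 9 = true := by decide +kernel
theorem p6u1701 : ∀ k, 92070 ≤ k → k < 107388 → pointOk (k * 22) = true := between_extend pointOk 22 92070 107379 9 (p6u1700) p6r1701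

theorem p6r1702 : allRange pointOk 22 107388 9 = true := by decide +kernel
theorem p6u1702 : ∀ k, 92070 ≤ k → k < 107397 → pointOk (k * 22) = true := between_extend pointOk 22 92070 107388 9 (p6u1701) p6r1702

theorem p6r1703 : allRange pointOk 22 107397 9 = true := by decide +kernel
theorem p6u1703 : ∀ k, 92070 ≤ k → k < 107406 → pointOk (k * 22) = true := between_extend pointOk 22 92070 107397 9 (p6u1702) p6r1703

theorem p6r1704 : allRange pointOk 22 107406 9 = true := by decide +kernel
theorem p6u1704 : ∀ k, 92070 ≤ k → k < 107415 → pointOk (k * 22) = true := between_extend pointOk 22 92070 107406 9 (p6u1703) p6r1704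

theorem p6 : ∀ k, 92070 ≤ k → k < 107415 → pointOk (k * 22) = true := p6u1704

end Cfsg.Agent.Lib.Helper28_S1692
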