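import Cfsg.Agent.Lib.Helper28_S1692P3  -- build-order chain (limits parallel memory use)
import Cfsg.Agent.Lib.Helper28_S1692Def

set_option autoImplicit false
set_option linter.constructorNameAsVariable false
set_option Elab.async false

namespace Cfsg.Agent.Lib.Helper28_S1692

open Cfsg.Agent.Lib.Helper28_CosetPerm

theorem p7r0 : allRange pointOk 22 107415 9 = true := by decide +kernel
theorem p7u0 : ∀ k, 107415 ≤ k → k < 107424 → pointOk (k * 22) = true := between_extend pointOk 22 107415 107415 9 (between_start pointOk 22 107415) p7r0

theorem p7r1 : allRange pointOk 22 107424 9 = true := by decide +kernel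
theorem p7u1 : ∀ k, 107415 ≤ k → k < 107433 → pointOk (k * 22) = true := between_extend pointOk 22 107415 107424 9 (p7u0) p7r1

theorem p7r2 : allRange pointOk 22 107433 9 = true := by decide +kernel
theorem p7u2 : ∀ k, 107415 ≤ k → k < 107442 → pointOk (k * 22) = true := between_extend pointOk 22 107415 107433 9 (p7u1) p7r2

theorem p7r3 : allRange pointOk 22 107442 9 = true := by decide +kernel
theorem p7u3 : ∀ k, 107415 ≤ k → k < 107451 → pointOk (k * 22) = true := between_extend pointOk 22 107415 107442 9 (p7u2) p7r3

theorem p7r4 : allRange pointOk 22 107451 9 = true := by decide +kernel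
theorem p7u4 : ∀ k, 107415 ≤ k → k < 107460 → pointOk (k * 22) = true := between_extend pointOk 22 107415 107451 9 (p7u3) p7r4

theorem p7r5 : allRange pointOk 22 107460 9 = true := by decide +kernel
theorem p7u5 : ∀ k, 107415 ≤ k → k < 107469 → pointOk (k * 22) = true := between_extend pointOk 22 107415 107460 9 (p7u4) p7r5

theorem p7r6 : allRange pointOk 22 107469 9 = true := by decide +kernel
theorem p7u6 : ∀ k, 107415 ≤ k → k < 107478 → pointOk (k * 22) = true := between_extend pointOk 22 107415 107469 9 (p7u5) p7r6

theorem p7r7 : allRange pointOk 22 107478 9 = true := by decide +kernel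
theorem p7u7 : ∀ k, 107415 ≤ k → k < 107487 → pointOk (k * 22) = true := between_extend pointOk 22 107415 107478 9 (p7u6) p7r7

theorem p7r8 : allRange pointOk 22 107487 9 = true := by decide +kernel
theorem p7u8 : ∀ k, 107415 ≤ k → k < 107496 → pointOk (k * 22) = true := between_extend pointOk 22 107415 107487 9 (p7u7) p7r8

theorem p7r9 : allRange pointOk 22 107496 9 = true := by decide +kernel
theorem p7u9 : ∀ k, 107415 ≤ k → k < 107505 → pointOk (k * 22) = true := between_extend pointOk 22 107415 107496 9 (p7u8) p7r9

theorem p7r10 : allRange pointOk 22 107505 9 = true := by decide +kernel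
theorem p7u10 : ∀ k, 107415 ≤ k → k < 107514 → pointOk (k * 22) = true := between_extend pointOk 22 107415 107505 9 (p7u9) p7r10

theorem p7r11 : allRange pointOk 22 107514 9 = true := by decide +kernel
theorem p7u11 : ∀ k, 107415 ≤ k → k < 107523 → pointOk (k * 22) = true := between_extend pointOk 22 107415 107514 9 (p7u10) p7r11

theorem p7r12 : allRange pointOk 22 107523 9 = true := by decide +kernel
theorem p7u12 : ∀ k, 107415 ≤ k → k < 107532 → pointOk (k * 22) = true := between_extend pointOk 22 107415 107523 9 (p7u11) p7r12

theorem p7r13 : allRange pointOk 22 107532 9 = true := by decide +kernel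
theorem p7u13 : ∀ k, 107415 ≤ k → k < 107541 → pointOk (k * 22) = true := between_extend pointOk 22 107415 107532 9 (p7u12) p7r13

theorem p7r14 : allRange pointOk 22 107541 9 = true := by decide +kernel
theorem p7u14 : ∀ k, 107415 ≤ k → k < 107550 → pointOk (k * 22) = true := between_extend pointOk 22 107415 107541 9 (p7u13) p7r14

theorem p7r15 : allRange pointOk 22 107550 9 = true := by decide +kernel
theorem p7u15 : ∀ k, 107415 ≤ k → k < 107559 → pointOk (k * 22) = true := between_extend pointOk 22 107415 107550 9 (p7u14) p7r15

theorem p7r16 : allRange pointOk 22 107559 9 = true := by decide +kernel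
theorem p7u16 : ∀ k, 107415 ≤ k → k < 107568 → pointOk (k * 22) = true := between_extend pointOk 22 107415 107559 9 (p7u15) p7r16

theorem p7r17 : allRange pointOk 22 107568 9 = true := by decide +kernel
theorem p7u17 : ∀ k, 107415 ≤ k → k < 107577 → pointOk (k * 22) = true := between_extend pointOk 22 107415 107568 9 (p7u16) p7r17

theorem p7r18 : allRange pointOk 22 107577 9 = true := by decide +kernel
theorem p7u18 : ∀ k, 107415 ≤ k → k < 107586 → pointOk (k * 22) = true := between_extend pointOk 22 107415 107577 9 (p7u17) p7r18

theorem p7r19 : allRange pointOk 22 107586 9 = true := by decide +kernel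
theorem p7u19 : ∀ k, 107415 ≤ k → k < 107595 → pointOk (k * 22) = true := between_extend pointOk 22 107415 107586 9 (p7u18) p7r19

theorem p7r20 : allRange pointOk 22 107595 9 = true := by decide +kernel
theorem p7u20 : ∀ k, 107415 ≤ k → k < 107604 → pointOk (k * 22) = true := between_extend pointOk 22 107415 107595 9 (p7u19) p7r20

theorem p7r21 : allRange pointOk 22 107604 9 = true := by decide +kernel
theorem p7u21 : ∀ k, 107415 ≤ k → k < 107613 → pointOk (k * 22) = true := between_extend pointOk 22 107415 107604 9 (p7u20) p7r21

theorem p7r22 : allRange pointOk 22 107613 9 = true := by decide +kernel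
theorem p7u22 : ∀ k, 107415 ≤ k → k < 107622 → pointOk (k * 22) = true := between_extend pointOk 22 107415 107613 9 (p7u21) p7r22

theorem p7r23 : allRange pointOk 22 107622 9 = true := by decide +kernel
theorem p7u23 : ∀ k, 107415 ≤ k → k < 107631 → pointOk (k * 22) = true := between_extend pointOk 22 107415 107622 9 (p7u22) p7r23

theorem p7r24 : allRange pointOk 22 107631 9 = true := by decide +kernel
theorem p7u24 : ∀ k, 107415 ≤ k → k < 107640 → pointOk (k * 22) = true := between_extend pointOk 22 107415 107631 9 (p7u23) p7r24

theorem p7r25 : allRange pointOk 22 107640 9 = true := by decide +kernel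
theorem p7u25 : ∀ k, 107415 ≤ k → k < 107649 → pointOk (k * 22) = true := between_extend pointOk 22 107415 107640 9 (p7u24) p7r25

theorem p7r26 : allRange pointOk 22 107649 9 = true := by decide +kernel
theorem p7u26 : ∀ k, 107415 ≤ k → k < 107658 → pointOk (k * 22) = true := between_extend pointOk 22 107415 107649 9 (p7u25) p7r26

theorem p7r27 : allRange pointOk 22 107658 9 = true := by decide +kernel
theorem p7u27 : ∀ k, 107415 ≤ k → k < 107667 → pointOk (k * 22) = true := between_extend pointOk 22 107415 107658 9 (p7u26) p7r27

theorem p7r28 : allRange pointOk 22 107667 9 = true := by decide +kernel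
theorem p7u28 : ∀ k, 107415 ≤ k → k < 107676 → pointOk (k * 22) = true := between_extend pointOk 22 107415 107667 9 (p7u27) p7r28

theorem p7r29 : allRange pointOk 22 107676 9 = true := by decide +kernel
theorem p7u29 : ∀ k, 107415 ≤ k → k < 107685 → pointOk (k * 22) = true := between_extend pointOk 22 107415 107676 9 (p7u28) p7r29

theorem p7r30 : allRange pointOk 22 107685 9 = true := by decide +kernel
theorem p7u30 : ∀ k, 107415 ≤ k → k < 107694 → pointOk (k * 22) = true := between_extend pointOk 22 107415 107685 9 (p7u29) p7r30

theorem p7r31 : allRange pointOk 22 107694 9 = true := by decide +kernel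
theorem p7u31 : ∀ k, 107415 ≤ k → k < 107703 → pointOk (k * 22) = true := between_extend pointOk 22 107415 107694 9 (p7u30) p7r31

theorem p7r32 : allRange pointOk 22 107703 9 = true := by decide +kernel
theorem p7u32 : ∀ k, 107415 ≤ k → k < 107712 → pointOk (k * 22) = true := between_extend pointOk 22 107415 107703 9 (p7u31) p7r32

theorem p7r33 : allRange pointOk 22 107712 9 = true := by decide +kernel
theorem p7u33 : ∀ k, 107415 ≤ k → k < 107721 → pointOk (k * 22) = true := between_extend pointOk 22 107415 107712 9 (p7u32) p7r33

theorem p7r34 : allRange pointOk 22 107721 9 = true := by decide +kernel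
theorem p7u34 : ∀ k, 107415 ≤ k → k < 107730 → pointOk (k * 22) = true := between_extend pointOk 22 107415 107721 9 (p7u33) p7r34

theorem p7r35 : allRange pointOk 22 107730 9 = true := by decide +kernel
theorem p7u35 : ∀ k, 107415 ≤ k → k < 107739 → pointOk (k * 22) = true := between_extend pointOk 22 107415 107730 9 (p7u34) p7r35

theorem p7r36 : allRange pointOk 22 107739 9 = true := by decide +kernel
theorem p7u36 : ∀ k, 107415 ≤ k → k < 107748 → pointOk (k * 22) = true := between_extend pointOk 22 107415 107739 9 (p7u35) p7r36

theorem p7r37 : allRange pointOk 22 107748 9 = true := by decide +kernel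
theorem p7u37 : ∀ k, 107415 ≤ k → k < 107757 → pointOk (k * 22) = true := between_extend pointOk 22 107415 107748 9 (p7u36) p7r37

theorem p7r38 : allRange pointOk 22 107757 9 = true := by decide +kernel
theorem p7u38 : ∀ k, 107415 ≤ k → k < 107766 → pointOk (k * 22) = true := between_extend pointOk 22 107415 107757 9 (p7u37) p7r38

theorem p7r39 : allRange pointOk 22 107766 9 = true := by decide +kernel
theorem p7u39 : ∀ k, 107415 ≤ k → k < 107775 → pointOk (k * 22) = true := between_extend pointOk 22 107415 107766 9 (p7u38) p7r39

theorem p7r40 : allRange pointOk 22 107775 9 = true := by decide +kernel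
theorem p7u40 : ∀ k, 107415 ≤ k → k < 107784 → pointOk (k * 22) = true := between_extend pointOk 22 107415 107775 9 (p7u39) p7r40

theorem p7r41 : allRange pointOk 22 107784 9 = true := by decide +kernel
theorem p7u41 : ∀ k, 107415 ≤ k → k < 107793 → pointOk (k * 22) = true := between_extend pointOk 22 107415 107784 9 (p7u40) p7r41

theorem p7r42 : allRange pointOk 22 107793 9 = true := by decide +kernel
theorem p7u42 : ∀ k, 107415 ≤ k → k < 107802 → pointOk (k * 22) = true := between_extend pointOk 22 107415 107793 9 (p7u41) p7r42

theorem p7r43 : allRange pointOk 22 107802 9 = true := by decide +kernel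
theorem p7u43 : ∀ k, 107415 ≤ k → k < 107811 → pointOk (k * 22) = true := between_extend pointOk 22 107415 107802 9 (p7u42) p7r43

theorem p7r44 : allRange pointOk 22 107811 9 = true := by decide +kernel
theorem p7u44 : ∀ k, 107415 ≤ k → k < 107820 → pointOk (k * 22) = true := between_extend pointOk 22 107415 107811 9 (p7u43) p7r44

theorem p7r45 : allRange pointOk 22 107820 9 = true := by decide +kernel
theorem p7u45 : ∀ k, 107415 ≤ k → k < 107829 → pointOk (k * 22) = true := between_extend pointOk 22 107415 107820 9 (p7u44) p7r45

theorem p7r46 : allRange pointOk 22 107829 9 = true := by decide +kernel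
theorem p7u46 : ∀ k, 107415 ≤ k → k < 107838 → pointOk (k * 22) = true := between_extend pointOk 22 107415 107829 9 (p7u45) p7r46

theorem p7r47 : allRange pointOk 22 107838 9 = true := by decide +kernel
theorem p7u47 : ∀ k, 107415 ≤ k → k < 107847 → pointOk (k * 22) = true := between_extend pointOk 22 107415 107838 9 (p7u46) p7r47

theorem p7r48 : allRange pointOk 22 107847 9 = true := by decide +kernel
theorem p7u48 : ∀ k, 107415 ≤ k → k < 107856 → pointOk (k * 22) = true := between_extend pointOk 22 107415 107847 9 (p7u47) p7r48

theorem p7r49 : allRange pointOk 22 107856 9 = true := by decide +kernel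
theorem p7u49 : ∀ k, 107415 ≤ k → k < 107865 → pointOk (k * 22) = true := between_extend pointOk 22 107415 107856 9 (p7u48) p7r49

theorem p7r50 : allRange pointOk 22 107865 9 = true := by decide +kernel
theorem p7u50 : ∀ k, 107415 ≤ k → k < 107874 → pointOk (k * 22) = true := between_extend pointOk 22 107415 107865 9 (p7u49) p7r50

theorem p7r51 : allRange pointOk 22 107874 9 = true := by decide +kernel
theorem p7u51 : ∀ k, 107415 ≤ k → k < 107883 → pointOk (k * 22) = true := between_extend pointOk 22 107415 107874 9 (p7u50) p7r51

theorem p7r52 : allRange pointOk 22 107883 9 = true := by decide +kernel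
theorem p7u52 : ∀ k, 107415 ≤ k → k < 107892 → pointOk (k * 22) = true := between_extend pointOk 22 107415 107883 9 (p7u51) p7r52

theorem p7r53 : allRange pointOk 22 107892 9 = true := by decide +kernel
theorem p7u53 : ∀ k, 107415 ≤ k → k < 107901 → pointOk (k * 22) = true := between_extend pointOk 22 107415 107892 9 (p7u52) p7r53

theorem p7r54 : allRange pointOk 22 107901 9 = true := by decide +kernel
theorem p7u54 : ∀ k, 107415 ≤ k → k < 107910 → pointOk (k * 22) = true := between_extend pointOk 22 107415 107901 9 (p7u53) p7r54

theorem p7r55 : allRange pointOk 22 107910 9 = true := by decide +kernel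
theorem p7u55 : ∀ k, 107415 ≤ k → k < 107919 → pointOk (k * 22) = true := between_extend pointOk 22 107415 107910 9 (p7u54) p7r55

theorem p7r56 : allRange pointOk 22 107919 9 = true := by decide +kernel
theorem p7u56 : ∀ k, 107415 ≤ k → k < 107928 → pointOk (k * 22) = true := between_extend pointOk 22 107415 107919 9 (p7u55) p7r56

theorem p7r57 : allRange pointOk 22 107928 9 = true := by decide +kernel
theorem p7u57 : ∀ k, 107415 ≤ k → k < 107937 → pointOk (k * 22) = true := between_extend pointOk 22 107415 107928 9 (p7u56) p7r57

theorem p7r58 : allRange pointOk 22 107937 9 = true := by decide +kernel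
theorem p7u58 : ∀ k, 107415 ≤ k → k < 107946 → pointOk (k * 22) = true := between_extend pointOk 22 107415 107937 9 (p7u57) p7r58

theorem p7r59 : allRange pointOk 22 107946 9 = true := by decide +kernel
theorem p7u59 : ∀ k, 107415 ≤ k → k < 107955 → pointOk (k * 22) = true := between_extend pointOk 22 107415 107946 9 (p7u58) p7r59

theorem p7r60 : allRange pointOk 22 107955 9 = true := by decide +kernel
theorem p7u60 : ∀ k, 107415 ≤ k → k < 107964 → pointOk (k * 22) = true := between_extend pointOk 22 107415 107955 9 (p7u59) p7r60

theorem p7r61 : allRange pointOk 22 107964 9 = true := by decide +kernel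
theorem p7u61 : ∀ k, 107415 ≤ k → k < 107973 → pointOk (k * 22) = true := between_extend pointOk 22 107415 107964 9 (p7u60) p7r61

theorem p7r62 : allRange pointOk 22 107973 9 = true := by decide +kernel
theorem p7u62 : ∀ k, 107415 ≤ k → k < 107982 → pointOk (k * 22) = true := between_extend pointOk 22 107415 107973 9 (p7u61) p7r62

theorem p7r63 : allRange pointOk 22 107982 9 = true := by decide +kernel
theorem p7u63 : ∀ k, 107415 ≤ k → k < 107991 → pointOk (k * 22) = true := between_extend pointOk 22 107415 107982 9 (p7u62) p7r63

theorem p7r64 : allRange pointOk 22 107991 9 = true := by decide +kernel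
theorem p7u64 : ∀ k, 107415 ≤ k → k < 108000 → pointOk (k * 22) = true := between_extend pointOk 22 107415 107991 9 (p7u63) p7r64

theorem p7r65 : allRange pointOk 22 108000 9 = true := by decide +kernel
theorem p7u65 : ∀ k, 107415 ≤ k → k < 108009 → pointOk (k * 22) = true := between_extend pointOk 22 107415 108000 9 (p7u64) p7r65

theorem p7r66 : allRange pointOk 22 108009 9 = true := by decide +kernel
theorem p7u66 : ∀ k, 107415 ≤ k → k < 108018 → pointOk (k * 22) = true := between_extend pointOk 22 107415 108009 9 (p7u65) p7r66

theorem p7r67 : allRange pointOk 22 108018 9 = true := by decide +kernel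
theorem p7u67 : ∀ k, 107415 ≤ k → k < 108027 → pointOk (k * 22) = true := between_extend pointOk 22 107415 108018 9 (p7u66) p7r67

theorem p7r68 : allRange pointOk 22 108027 9 = true := by decide +kernel
theorem p7u68 : ∀ k, 107415 ≤ k → k < 108036 → pointOk (k * 22) = true := between_extend pointOk 22 107415 108027 9 (p7u67) p7r68

theorem p7r69 : allRange pointOk 22 108036 9 = true := by decide +kernel
theorem p7u69 : ∀ k, 107415 ≤ k → k < 108045 → pointOk (k * 22) = true := between_extend pointOk 22 107415 108036 9 (p7u68) p7r69

theorem p7r70 : allRange pointOk 22 108045 9 = true := by decide +kernel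
theorem p7u70 : ∀ k, 107415 ≤ k → k < 108054 → pointOk (k * 22) = true := between_extend pointOk 22 107415 108045 9 (p7u69) p7r70

theorem p7r71 : allRange pointOk 22 108054 9 = true := by decide +kernel
theorem p7u71 : ∀ k, 107415 ≤ k → k < 108063 → pointOk (k * 22) = true := between_extend pointOk 22 107415 108054 9 (p7u70) p7r71

theorem p7r72 : allRange pointOk 22 108063 9 = true := by decide +kernel
theorem p7u72 : ∀ k, 107415 ≤ k → k < 108072 → pointOk (k * 22) = true := between_extend pointOk 22 107415 108063 9 (p7u71) p7r72

theorem p7r73 : allRange pointOk 22 108072 9 = true := by decide +kernel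
theorem p7u73 : ∀ k, 107415 ≤ k → k < 108081 → pointOk (k * 22) = true := between_extend pointOk 22 107415 108072 9 (p7u72) p7r73

theorem p7r74 : allRange pointOk 22 108081 9 = true := by decide +kernel
theorem p7u74 : ∀ k, 107415 ≤ k → k < 108090 → pointOk (k * 22) = true := between_extend pointOk 22 107415 108081 9 (p7u73) p7r74

theorem p7r75 : allRange pointOk 22 108090 9 = true := by decide +kernel
theorem p7u75 : ∀ k, 107415 ≤ k → k < 108099 → pointOk (k * 22) = true := between_extend pointOk 22 107415 108090 9 (p7u74) p7r75

theorem p7r76 : allRange pointOk 22 108099 9 = true := by decide +kernel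
theorem p7u76 : ∀ k, 107415 ≤ k → k < 108108 → pointOk (k * 22) = true := between_extend pointOk 22 107415 108099 9 (p7u75) p7r76

theorem p7r77 : allRange pointOk 22 108108 9 = true := by decide +kernel
theorem p7u77 : ∀ k, 107415 ≤ k → k < 108117 → pointOk (k * 22) = true := between_extend pointOk 22 107415 108108 9 (p7u76) p7r77

theorem p7r78 : allRange pointOk 22 108117 9 = true := by decide +kernel
theorem p7u78 : ∀ k, 107415 ≤ k → k < 108126 → pointOk (k * 22) = true := between_extend pointOk 22 107415 108117 9 (p7u77) p7r78

theorem p7r79 : allRange pointOk 22 108126 9 = true := by decide +kernel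
theorem p7u79 : ∀ k, 107415 ≤ k → k < 108135 → pointOk (k * 22) = true := between_extend pointOk 22 107415 108126 9 (p7u78) p7r79

theorem p7r80 : allRange pointOk 22 108135 9 = true := by decide +kernel
theorem p7u80 : ∀ k, 107415 ≤ k → k < 108144 → pointOk (k * 22) = true := between_extend pointOk 22 107415 108135 9 (p7u79) p7r80

theorem p7r81 : allRange pointOk 22 108144 9 = true := by decide +kernel
theorem p7u81 : ∀ k, 107415 ≤ k → k < 108153 → pointOk (k * 22) = true := between_extend pointOk 22 107415 108144 9 (p7u80) p7r81

theorem p7r82 : allRange pointOk 22 108153 9 = true := by decide +kernel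
theorem p7u82 : ∀ k, 107415 ≤ k → k < 108162 → pointOk (k * 22) = true := between_extend pointOk 22 107415 108153 9 (p7u81) p7r82

theorem p7r83 : allRange pointOk 22 108162 9 = true := by decide +kernel
theorem p7u83 : ∀ k, 107415 ≤ k → k < 108171 → pointOk (k * 22) = true := between_extend pointOk 22 107415 108162 9 (p7u82) p7r83

theorem p7r84 : allRange pointOk 22 108171 9 = true := by decide +kernel
theorem p7u84 : ∀ k, 107415 ≤ k → k < 108180 → pointOk (k * 22) = true := between_extend pointOk 22 107415 108171 9 (p7u83) p7r84

theorem p7r85 : allRange pointOk 22 108180 9 = true := by decide +kernel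
theorem p7u85 : ∀ k, 107415 ≤ k → k < 108189 → pointOk (k * 22) = true := between_extend pointOk 22 107415 108180 9 (p7u84) p7r85

theorem p7r86 : allRange pointOk 22 108189 9 = true := by decide +kernel
theorem p7u86 : ∀ k, 107415 ≤ k → k < 108198 → pointOk (k * 22) = true := between_extend pointOk 22 107415 108189 9 (p7u85) p7r86

theorem p7r87 : allRange pointOk 22 108198 9 = true := by decide +kernel
theorem p7u87 : ∀ k, 107415 ≤ k → k < 108207 → pointOk (k * 22) = true := between_extend pointOk 22 107415 108198 9 (p7u86) p7r87

theorem p7r88 : allRange pointOk 22 108207 9 = true := by decide +kernel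
theorem p7u88 : ∀ k, 107415 ≤ k → k < 108216 → pointOk (k * 22) = true := between_extend pointOk 22 107415 108207 9 (p7u87) p7r88

theorem p7r89 : allRange pointOk 22 108216 9 = true := by decide +kernel
theorem p7u89 : ∀ k, 107415 ≤ k → k < 108225 → pointOk (k * 22) = true := between_extend pointOk 22 107415 108216 9 (p7u88) p7r89

theorem p7r90 : allRange pointOk 22 108225 9 = true := by decide +kernel
theorem p7u90 : ∀ k, 107415 ≤ k → k < 108234 → pointOk (k * 22) = true := between_extend pointOk 22 107415 108225 9 (p7u89) p7r90

theorem p7r91 : allRange pointOk 22 108234 9 = true := by decide +kernel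
theorem p7u91 : ∀ k, 107415 ≤ k → k < 108243 → pointOk (k * 22) = true := between_extend pointOk 22 107415 108234 9 (p7u90) p7r91

theorem p7r92 : allRange pointOk 22 108243 9 = true := by decide +kernel
theorem p7u92 : ∀ k, 107415 ≤ k → k < 108252 → pointOk (k * 22) = true := between_extend pointOk 22 107415 108243 9 (p7u91) p7r92

theorem p7r93 : allRange pointOk 22 108252 9 = true := by decide +kernel
theorem p7u93 : ∀ k, 107415 ≤ k → k < 108261 → pointOk (k * 22) = true := between_extend pointOk 22 107415 108252 9 (p7u92) p7r93

theorem p7r94 : allRange pointOk 22 108261 9 = true := by decide +kernel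
theorem p7u94 : ∀ k, 107415 ≤ k → k < 108270 → pointOk (k * 22) = true := between_extend pointOk 22 107415 108261 9 (p7u93) p7r94

theorem p7r95 : allRange pointOk 22 108270 9 = true := by decide +kernel
theorem p7u95 : ∀ k, 107415 ≤ k → k < 108279 → pointOk (k * 22) = true := between_extend pointOk 22 107415 108270 9 (p7u94) p7r95

theorem p7r96 : allRange pointOk 22 108279 9 = true := by decide +kernel
theorem p7u96 : ∀ k, 107415 ≤ k → k < 108288 → pointOk (k * 22) = true := between_extend pointOk 22 107415 108279 9 (p7u95) p7r96

theorem p7r97 : allRange pointOk 22 108288 9 = true := by decide +kernel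
theorem p7u97 : ∀ k, 107415 ≤ k → k < 108297 → pointOk (k * 22) = true := between_extend pointOk 22 107415 108288 9 (p7u96) p7r97

theorem p7r98 : allRange pointOk 22 108297 9 = true := by decide +kernel
theorem p7u98 : ∀ k, 107415 ≤ k → k < 108306 → pointOk (k * 22) = true := between_extend pointOk 22 107415 108297 9 (p7u97) p7r98

theorem p7r99 : allRange pointOk 22 108306 9 = true := by decide +kernel
theorem p7u99 : ∀ k, 107415 ≤ k → k < 108315 → pointOk (k * 22) = true := between_extend pointOk 22 107415 108306 9 (p7u98) p7r99

theorem p7r100 : allRange pointOk 22 108315 9 = true := by decide +kernel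
theorem p7u100 : ∀ k, 107415 ≤ k → k < 108324 → pointOk (k * 22) = true := between_extend pointOk 22 107415 108315 9 (p7u99) p7r100

theorem p7r101 : allRange pointOk 22 108324 9 = true := by decide +kernel
theorem p7u101 : ∀ k, 107415 ≤ k → k < 108333 → pointOk (k * 22) = true := between_extend pointOk 22 107415 108324 9 (p7u100) p7r101

theorem p7r102 : allRange pointOk 22 108333 9 = true := by decide +kernel
theorem p7u102 : ∀ k, 107415 ≤ k → k < 108342 → pointOk (k * 22) = true := between_extend pointOk 22 107415 108333 9 (p7u101) p7r102

theorem p7r103 : allRange pointOk 22 108342 9 = true := by decide +kernel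
theorem p7u103 : ∀ k, 107415 ≤ k → k < 108351 → pointOk (k * 22) = true := between_extend pointOk 22 107415 108342 9 (p7u102) p7r103

theorem p7r104 : allRange pointOk 22 108351 9 = true := by decide +kernel
theorem p7u104 : ∀ k, 107415 ≤ k → k < 108360 → pointOk (k * 22) = true := between_extend pointOk 22 107415 108351 9 (p7u103) p7r104

theorem p7r105 : allRange pointOk 22 108360 9 = true := by decide +kernel
theorem p7u105 : ∀ k, 107415 ≤ k → k < 108369 → pointOk (k * 22) = true := between_extend pointOk 22 107415 108360 9 (p7u104) p7r105

theorem p7r106 : allRange pointOk 22 108369 9 = true := by decide +kernel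
theorem p7u106 : ∀ k, 107415 ≤ k → k < 108378 → pointOk (k * 22) = true := between_extend pointOk 22 107415 108369 9 (p7u105) p7r106

theorem p7r107 : allRange pointOk 22 108378 9 = true := by decide +kernel
theorem p7u107 : ∀ k, 107415 ≤ k → k < 108387 → pointOk (k * 22) = true := between_extend pointOk 22 107415 108378 9 (p7u106) p7r107

theorem p7r108 : allRange pointOk 22 108387 9 = true := by decide +kernel
theorem p7u108 : ∀ k, 107415 ≤ k → k < 108396 → pointOk (k * 22) = true := between_extend pointOk 22 107415 108387 9 (p7u107) p7r108

theorem p7r109 : allRange pointOk 22 108396 9 = true := by decide +kernel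
theorem p7u109 : ∀ k, 107415 ≤ k → k < 108405 → pointOk (k * 22) = true := between_extend pointOk 22 107415 108396 9 (p7u108) p7r109

theorem p7r110 : allRange pointOk 22 108405 9 = true := by decide +kernel
theorem p7u110 : ∀ k, 107415 ≤ k → k < 108414 → pointOk (k * 22) = true := between_extend pointOk 22 107415 108405 9 (p7u109) p7r110

theorem p7r111 : allRange pointOk 22 108414 9 = true := by decide +kernel
theorem p7u111 : ∀ k, 107415 ≤ k → k < 108423 → pointOk (k * 22) = true := between_extend pointOk 22 107415 108414 9 (p7u110) p7r111

theorem p7r112 : allRange pointOk 22 108423 9 = true := by decide +kernel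
theorem p7u112 : ∀ k, 107415 ≤ k → k < 108432 → pointOk (k * 22) = true := between_extend pointOk 22 107415 108423 9 (p7u111) p7r112

theorem p7r113 : allRange pointOk 22 108432 9 = true := by decide +kernel
theorem p7u113 : ∀ k, 107415 ≤ k → k < 108441 → pointOk (k * 22) = true := between_extend pointOk 22 107415 108432 9 (p7u112) p7r113

theorem p7r114 : allRange pointOk 22 108441 9 = true := by decide +kernel
theorem p7u114 : ∀ k, 107415 ≤ k → k < 108450 → pointOk (k * 22) = true := between_extend pointOk 22 107415 108441 9 (p7u113) p7r114

theorem p7r115 : allRange pointOk 22 108450 9 = true := by decide +kernel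
theorem p7u115 : ∀ k, 107415 ≤ k → k < 108459 → pointOk (k * 22) = true := between_extend pointOk 22 107415 108450 9 (p7u114) p7r115

theorem p7r116 : allRange pointOk 22 108459 9 = true := by decide +kernel
theorem p7u116 : ∀ k, 107415 ≤ k → k < 108468 → pointOk (k * 22) = true := between_extend pointOk 22 107415 108459 9 (p7u115) p7r116

theorem p7r117 : allRange pointOk 22 108468 9 = true := by decide +kernel
theorem p7u117 : ∀ k, 107415 ≤ k → k < 108477 → pointOk (k * 22) = true := between_extend pointOk 22 107415 108468 9 (p7u116) p7r117

theorem p7r118 : allRange pointOk 22 108477 9 = true := by decide +kernel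
theorem p7u118 : ∀ k, 107415 ≤ k → k < 108486 → pointOk (k * 22) = true := between_extend pointOk 22 107415 108477 9 (p7u117) p7r118

theorem p7r119 : allRange pointOk 22 108486 9 = true := by decide +kernel
theorem p7u119 : ∀ k, 107415 ≤ k → k < 108495 → pointOk (k * 22) = true := between_extend pointOk 22 107415 108486 9 (p7u118) p7r119

theorem p7r120 : allRange pointOk 22 108495 9 = true := by decide +kernel
theorem p7u120 : ∀ k, 107415 ≤ k → k < 108504 → pointOk (k * 22) = true := between_extend pointOk 22 107415 108495 9 (p7u119) p7r120

theorem p7r121 : allRange pointOk 22 108504 9 = true := by decide +kernel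
theorem p7u121 : ∀ k, 107415 ≤ k → k < 108513 → pointOk (k * 22) = true := between_extend pointOk 22 107415 108504 9 (p7u120) p7r121

theorem p7r122 : allRange pointOk 22 108513 9 = true := by decide +kernel
theorem p7u122 : ∀ k, 107415 ≤ k → k < 108522 → pointOk (k * 22) = true := between_extend pointOk 22 107415 108513 9 (p7u121) p7r122

theorem p7r123 : allRange pointOk 22 108522 9 = true := by decide +kernel
theorem p7u123 : ∀ k, 107415 ≤ k → k < 108531 → pointOk (k * 22) = true := between_extend pointOk 22 107415 108522 9 (p7u122) p7r123

theorem p7r124 : allRange pointOk 22 108531 9 = true := by decide +kernel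
theorem p7u124 : ∀ k, 107415 ≤ k → k < 108540 → pointOk (k * 22) = true := between_extend pointOk 22 107415 108531 9 (p7u123) p7r124

theorem p7r125 : allRange pointOk 22 108540 9 = true := by decide +kernel
theorem p7u125 : ∀ k, 107415 ≤ k → k < 108549 → pointOk (k * 22) = true := between_extend pointOk 22 107415 108540 9 (p7u124) p7r125

theorem p7r126 : allRange pointOk 22 108549 9 = true := by decide +kernel
theorem p7u126 : ∀ k, 107415 ≤ k → k < 108558 → pointOk (k * 22) = true := between_extend pointOk 22 107415 108549 9 (p7u125) p7r126

theorem p7r127 : allRange pointOk 22 108558 9 = true := by decide +kernel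
theorem p7u127 : ∀ k, 107415 ≤ k → k < 108567 → pointOk (k * 22) = true := between_extend pointOk 22 107415 108558 9 (p7u126) p7r127

theorem p7r128 : allRange pointOk 22 108567 9 = true := by decide +kernel
theorem p7u128 : ∀ k, 107415 ≤ k → k < 108576 → pointOk (k * 22) = true := between_extend pointOk 22 107415 108567 9 (p7u127) p7r128

theorem p7r129 : allRange pointOk 22 108576 9 = true := by decide +kernel
theorem p7u129 : ∀ k, 107415 ≤ k → k < 108585 → pointOk (k * 22) = true := between_extend pointOk 22 107415 108576 9 (p7u128) p7r129

theorem p7r130 : allRange pointOk 22 108585 9 = true := by decide +kernel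
theorem p7u130 : ∀ k, 107415 ≤ k → k < 108594 → pointOk (k * 22) = true := between_extend pointOk 22 107415 108585 9 (p7u129) p7r130

theorem p7r131 : allRange pointOk 22 108594 9 = true := by decide +kernel
theorem p7u131 : ∀ k, 107415 ≤ k → k < 108603 → pointOk (k * 22) = true := between_extend pointOk 22 107415 108594 9 (p7u130) p7r131

theorem p7r132 : allRange pointOk 22 108603 9 = true := by decide +kernel
theorem p7u132 : ∀ k, 107415 ≤ k → k < 108612 → pointOk (k * 22) = true := between_extend pointOk 22 107415 108603 9 (p7u131) p7r132

theorem p7r133 : allRange pointOk 22 108612 9 = true := by decide +kernel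
theorem p7u133 : ∀ k, 107415 ≤ k → k < 108621 → pointOk (k * 22) = true := between_extend pointOk 22 107415 108612 9 (p7u132) p7r133

theorem p7r134 : allRange pointOk 22 108621 9 = true := by decide +kernel
theorem p7u134 : ∀ k, 107415 ≤ k → k < 108630 → pointOk (k * 22) = true := between_extend pointOk 22 107415 108621 9 (p7u133) p7r134

theorem p7r135 : allRange pointOk 22 108630 9 = true := by decide +kernel
theorem p7u135 : ∀ k, 107415 ≤ k → k < 108639 → pointOk (k * 22) = true := between_extend pointOk 22 107415 108630 9 (p7u134) p7r135

theorem p7r136 : allRange pointOk 22 108639 9 = true := by decide +kernel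
theorem p7u136 : ∀ k, 107415 ≤ k → k < 108648 → pointOk (k * 22) = true := between_extend pointOk 22 107415 108639 9 (p7u135) p7r136

theorem p7r137 : allRange pointOk 22 108648 9 = true := by decide +kernel
theorem p7u137 : ∀ k, 107415 ≤ k → k < 108657 → pointOk (k * 22) = true := between_extend pointOk 22 107415 108648 9 (p7u136) p7r137

theorem p7r138 : allRange pointOk 22 108657 9 = true := by decide +kernel
theorem p7u138 : ∀ k, 107415 ≤ k → k < 108666 → pointOk (k * 22) = true := between_extend pointOk 22 107415 108657 9 (p7u137) p7r138

theorem p7r139 : allRange pointOk 22 108666 9 = true := by decide +kernel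
theorem p7u139 : ∀ k, 107415 ≤ k → k < 108675 → pointOk (k * 22) = true := between_extend pointOk 22 107415 108666 9 (p7u138) p7r139

theorem p7r140 : allRange pointOk 22 108675 9 = true := by decide +kernel
theorem p7u140 : ∀ k, 107415 ≤ k → k < 108684 → pointOk (k * 22) = true := between_extend pointOk 22 107415 108675 9 (p7u139) p7r140

theorem p7r141 : allRange pointOk 22 108684 9 = true := by decide +kernel
theorem p7u141 : ∀ k, 107415 ≤ k → k < 108693 → pointOk (k * 22) = true := between_extend pointOk 22 107415 108684 9 (p7u140) p7r141

theorem p7r142 : allRange pointOk 22 108693 9 = true := by decide +kernel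
theorem p7u142 : ∀ k, 107415 ≤ k → k < 108702 → pointOk (k * 22) = true := between_extend pointOk 22 107415 108693 9 (p7u141) p7r142

theorem p7r143 : allRange pointOk 22 108702 9 = true := by decide +kernel
theorem p7u143 : ∀ k, 107415 ≤ k → k < 108711 → pointOk (k * 22) = true := between_extend pointOk 22 107415 108702 9 (p7u142) p7r143

theorem p7r144 : allRange pointOk 22 108711 9 = true := by decide +kernel
theorem p7u144 : ∀ k, 107415 ≤ k → k < 108720 → pointOk (k * 22) = true := between_extend pointOk 22 107415 108711 9 (p7u143) p7r144

theorem p7r145 : allRange pointOk 22 108720 9 = true := by decide +kernel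
theorem p7u145 : ∀ k, 107415 ≤ k → k < 108729 → pointOk (k * 22) = true := between_extend pointOk 22 107415 108720 9 (p7u144) p7r145

theorem p7r146 : allRange pointOk 22 108729 9 = true := by decide +kernel
theorem p7u146 : ∀ k, 107415 ≤ k → k < 108738 → pointOk (k * 22) = true := between_extend pointOk 22 107415 108729 9 (p7u145) p7r146

theorem p7r147 : allRange pointOk 22 108738 9 = true := by decide +kernel
theorem p7u147 : ∀ k, 107415 ≤ k → k < 108747 → pointOk (k * 22) = true := between_extend pointOk 22 107415 108738 9 (p7u146) p7r147

theorem p7r148 : allRange pointOk 22 108747 9 = true := by decide +kernel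
theorem p7u148 : ∀ k, 107415 ≤ k → k < 108756 → pointOk (k * 22) = true := between_extend pointOk 22 107415 108747 9 (p7u147) p7r148

theorem p7r149 : allRange pointOk 22 108756 9 = true := by decide +kernel
theorem p7u149 : ∀ k, 107415 ≤ k → k < 108765 → pointOk (k * 22) = true := between_extend pointOk 22 107415 108756 9 (p7u148) p7r149

theorem p7r150 : allRange pointOk 22 108765 9 = true := by decide +kernel
theorem p7u150 : ∀ k, 107415 ≤ k → k < 108774 → pointOk (k * 22) = true := between_extend pointOk 22 107415 108765 9 (p7u149) p7r150

theorem p7r151 : allRange pointOk 22 108774 9 = true := by decide +kernel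
theorem p7u151 : ∀ k, 107415 ≤ k → k < 108783 → pointOk (k * 22) = true := between_extend pointOk 22 107415 108774 9 (p7u150) p7r151

theorem p7r152 : allRange pointOk 22 108783 9 = true := by decide +kernel
theorem p7u152 : ∀ k, 107415 ≤ k → k < 108792 → pointOk (k * 22) = true := between_extend pointOk 22 107415 108783 9 (p7u151) p7r152

theorem p7r153 : allRange pointOk 22 108792 9 = true := by decide +kernel
theorem p7u153 : ∀ k, 107415 ≤ k → k < 108801 → pointOk (k * 22) = true := between_extend pointOk 22 107415 108792 9 (p7u152) p7r153

theorem p7r154 : allRange pointOk 22 108801 9 = true := by decide +kernel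
theorem p7u154 : ∀ k, 107415 ≤ k → k < 108810 → pointOk (k * 22) = true := between_extend pointOk 22 107415 108801 9 (p7u153) p7r154

theorem p7r155 : allRange pointOk 22 108810 9 = true := by decide +kernel
theorem p7u155 : ∀ k, 107415 ≤ k → k < 108819 → pointOk (k * 22) = true := between_extend pointOk 22 107415 108810 9 (p7u154) p7r155

theorem p7r156 : allRange pointOk 22 108819 9 = true := by decide +kernel
theorem p7u156 : ∀ k, 107415 ≤ k → k < 108828 → pointOk (k * 22) = true := between_extend pointOk 22 107415 108819 9 (p7u155) p7r156

theorem p7r157 : allRange pointOk 22 108828 9 = true := by decide +kernel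
theorem p7u157 : ∀ k, 107415 ≤ k → k < 108837 → pointOk (k * 22) = true := between_extend pointOk 22 107415 108828 9 (p7u156) p7r157

theorem p7r158 : allRange pointOk 22 108837 9 = true := by decide +kernel
theorem p7u158 : ∀ k, 107415 ≤ k → k < 108846 → pointOk (k * 22) = true := between_extend pointOk 22 107415 108837 9 (p7u157) p7r158

theorem p7r159 : allRange pointOk 22 108846 9 = true := by decide +kernel
theorem p7u159 : ∀ k, 107415 ≤ k → k < 108855 → pointOk (k * 22) = true := between_extend pointOk 22 107415 108846 9 (p7u158) p7r159

theorem p7r160 : allRange pointOk 22 108855 9 = true := by decide +kernel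
theorem p7u160 : ∀ k, 107415 ≤ k → k < 108864 → pointOk (k * 22) = true := between_extend pointOk 22 107415 108855 9 (p7u159) p7r160

theorem p7r161 : allRange pointOk 22 108864 9 = true := by decide +kernel
theorem p7u161 : ∀ k, 107415 ≤ k → k < 108873 → pointOk (k * 22) = true := between_extend pointOk 22 107415 108864 9 (p7u160) p7r161

theorem p7r162 : allRange pointOk 22 108873 9 = true := by decide +kernel
theorem p7u162 : ∀ k, 107415 ≤ k → k < 108882 → pointOk (k * 22) = true := between_extend pointOk 22 107415 108873 9 (p7u161) p7r162

theorem p7r163 : allRange pointOk 22 108882 9 = true := by decide +kernel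
theorem p7u163 : ∀ k, 107415 ≤ k → k < 108891 → pointOk (k * 22) = true := between_extend pointOk 22 107415 108882 9 (p7u162) p7r163

theorem p7r164 : allRange pointOk 22 108891 9 = true := by decide +kernel
theorem p7u164 : ∀ k, 107415 ≤ k → k < 108900 → pointOk (k * 22) = true := between_extend pointOk 22 107415 108891 9 (p7u163) p7r164

theorem p7r165 : allRange pointOk 22 108900 9 = true := by decide +kernel
theorem p7u165 : ∀ k, 107415 ≤ k → k < 108909 → pointOk (k * 22) = true := between_extend pointOk 22 107415 108900 9 (p7u164) p7r165

theorem p7r166 : allRange pointOk 22 108909 9 = true := by decide +kernel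
theorem p7u166 : ∀ k, 107415 ≤ k → k < 108918 → pointOk (k * 22) = true := between_extend pointOk 22 107415 108909 9 (p7u165) p7r166

theorem p7r167 : allRange pointOk 22 108918 9 = true := by decide +kernel
theorem p7u167 : ∀ k, 107415 ≤ k → k < 108927 → pointOk (k * 22) = true := between_extend pointOk 22 107415 108918 9 (p7u166) p7r167

theorem p7r168 : allRange pointOk 22 108927 9 = true := by decide +kernel
theorem p7u168 : ∀ k, 107415 ≤ k → k < 108936 → pointOk (k * 22) = true := between_extend pointOk 22 107415 108927 9 (p7u167) p7r168

theorem p7r169 : allRange pointOk 22 108936 9 = true := by decide +kernel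
theorem p7u169 : ∀ k, 107415 ≤ k → k < 108945 → pointOk (k * 22) = true := between_extend pointOk 22 107415 108936 9 (p7u168) p7r169

theorem p7r170 : allRange pointOk 22 108945 9 = true := by decide +kernel
theorem p7u170 : ∀ k, 107415 ≤ k → k < 108954 → pointOk (k * 22) = true := between_extend pointOk 22 107415 108945 9 (p7u169) p7r170

theorem p7r171 : allRange pointOk 22 108954 9 = true := by decide +kernel
theorem p7u171 : ∀ k, 107415 ≤ k → k < 108963 → pointOk (k * 22) = true := between_extend pointOk 22 107415 108954 9 (p7u170) p7r171

theorem p7r172 : allRange pointOk 22 108963 9 = true := by decide +kernel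
theorem p7u172 : ∀ k, 107415 ≤ k → k < 108972 → pointOk (k * 22) = true := between_extend pointOk 22 107415 108963 9 (p7u171) p7r172

theorem p7r173 : allRange pointOk 22 108972 9 = true := by decide +kernel
theorem p7u173 : ∀ k, 107415 ≤ k → k < 108981 → pointOk (k * 22) = true := between_extend pointOk 22 107415 108972 9 (p7u172) p7r173

theorem p7r174 : allRange pointOk 22 108981 9 = true := by decide +kernel
theorem p7u174 : ∀ k, 107415 ≤ k → k < 108990 → pointOk (k * 22) = true := between_extend pointOk 22 107415 108981 9 (p7u173) p7r174

theorem p7r175 : allRange pointOk 22 108990 9 = true := by decide +kernel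
theorem p7u175 : ∀ k, 107415 ≤ k → k < 108999 → pointOk (k * 22) = true := between_extend pointOk 22 107415 108990 9 (p7u174) p7r175

theorem p7r176 : allRange pointOk 22 108999 9 = true := by decide +kernel
theorem p7u176 : ∀ k, 107415 ≤ k → k < 109008 → pointOk (k * 22) = true := between_extend pointOk 22 107415 108999 9 (p7u175) p7r176

theorem p7r177 : allRange pointOk 22 109008 9 = true := by decide +kernel
theorem p7u177 : ∀ k, 107415 ≤ k → k < 109017 → pointOk (k * 22) = true := between_extend pointOk 22 107415 109008 9 (p7u176) p7r177

theorem p7r178 : allRange pointOk 22 109017 9 = true := by decide +kernel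
theorem p7u178 : ∀ k, 107415 ≤ k → k < 109026 → pointOk (k * 22) = true := between_extend pointOk 22 107415 109017 9 (p7u177) p7r178

theorem p7r179 : allRange pointOk 22 109026 9 = true := by decide +kernel
theorem p7u179 : ∀ k, 107415 ≤ k → k < 109035 → pointOk (k * 22) = true := between_extend pointOk 22 107415 109026 9 (p7u178) p7r179

theorem p7r180 : allRange pointOk 22 109035 9 = true := by decide +kernel
theorem p7u180 : ∀ k, 107415 ≤ k → k < 109044 → pointOk (k * 22) = true := between_extend pointOk 22 107415 109035 9 (p7u179) p7r180

theorem p7r181 : allRange pointOk 22 109044 9 = true := by decide +kernel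
theorem p7u181 : ∀ k, 107415 ≤ k → k < 109053 → pointOk (k * 22) = true := between_extend pointOk 22 107415 109044 9 (p7u180) p7r181

theorem p7r182 : allRange pointOk 22 109053 9 = true := by decide +kernel
theorem p7u182 : ∀ k, 107415 ≤ k → k < 109062 → pointOk (k * 22) = true := between_extend pointOk 22 107415 109053 9 (p7u181) p7r182

theorem p7r183 : allRange pointOk 22 109062 9 = true := by decide +kernel
theorem p7u183 : ∀ k, 107415 ≤ k → k < 109071 → pointOk (k * 22) = true := between_extend pointOk 22 107415 109062 9 (p7u182) p7r183

theorem p7r184 : allRange pointOk 22 109071 9 = true := by decide +kernel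
theorem p7u184 : ∀ k, 107415 ≤ k → k < 109080 → pointOk (k * 22) = true := between_extend pointOk 22 107415 109071 9 (p7u183) p7r184

theorem p7r185 : allRange pointOk 22 109080 9 = true := by decide +kernel
theorem p7u185 : ∀ k, 107415 ≤ k → k < 109089 → pointOk (k * 22) = true := between_extend pointOk 22 107415 109080 9 (p7u184) p7r185

theorem p7r186 : allRange pointOk 22 109089 9 = true := by decide +kernel
theorem p7u186 : ∀ k, 107415 ≤ k → k < 109098 → pointOk (k * 22) = true := between_extend pointOk 22 107415 109089 9 (p7u185) p7r186

theorem p7r187 : allRange pointOk 22 109098 9 = true := by decide +kernel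
theorem p7u187 : ∀ k, 107415 ≤ k → k < 109107 → pointOk (k * 22) = true := between_extend pointOk 22 107415 109098 9 (p7u186) p7r187

theorem p7r188 : allRange pointOk 22 109107 9 = true := by decide +kernel
theorem p7u188 : ∀ k, 107415 ≤ k → k < 109116 → pointOk (k * 22) = true := between_extend pointOk 22 107415 109107 9 (p7u187) p7r188

theorem p7r189 : allRange pointOk 22 109116 9 = true := by decide +kernel
theorem p7u189 : ∀ k, 107415 ≤ k → k < 109125 → pointOk (k * 22) = true := between_extend pointOk 22 107415 109116 9 (p7u188) p7r189

theorem p7r190 : allRange pointOk 22 109125 9 = true := by decide +kernel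
theorem p7u190 : ∀ k, 107415 ≤ k → k < 109134 → pointOk (k * 22) = true := between_extend pointOk 22 107415 109125 9 (p7u189) p7r190

theorem p7r191 : allRange pointOk 22 109134 9 = true := by decide +kernel
theorem p7u191 : ∀ k, 107415 ≤ k → k < 109143 → pointOk (k * 22) = true := between_extend pointOk 22 107415 109134 9 (p7u190) p7r191

theorem p7r192 : allRange pointOk 22 109143 9 = true := by decide +kernel
theorem p7u192 : ∀ k, 107415 ≤ k → k < 109152 → pointOk (k * 22) = true := between_extend pointOk 22 107415 109143 9 (p7u191) p7r192

theorem p7r193 : allRange pointOk 22 109152 9 = true := by decide +kernel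
theorem p7u193 : ∀ k, 107415 ≤ k → k < 109161 → pointOk (k * 22) = true := between_extend pointOk 22 107415 109152 9 (p7u192) p7r193

theorem p7r194 : allRange pointOk 22 109161 9 = true := by decide +kernel
theorem p7u194 : ∀ k, 107415 ≤ k → k < 109170 → pointOk (k * 22) = true := between_extend pointOk 22 107415 109161 9 (p7u193) p7r194

theorem p7r195 : allRange pointOk 22 109170 9 = true := by decide +kernel
theorem p7u195 : ∀ k, 107415 ≤ k → k < 109179 → pointOk (k * 22) = true := between_extend pointOk 22 107415 109170 9 (p7u194) p7r195

theorem p7r196 : allRange pointOk 22 109179 9 = true := by decide +kernel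
theorem p7u196 : ∀ k, 107415 ≤ k → k < 109188 → pointOk (k * 22) = true := between_extend pointOk 22 107415 109179 9 (p7u195) p7r196

theorem p7r197 : allRange pointOk 22 109188 9 = true := by decide +kernel
theorem p7u197 : ∀ k, 107415 ≤ k → k < 109197 → pointOk (k * 22) = true := between_extend pointOk 22 107415 109188 9 (p7u196) p7r197

theorem p7r198 : allRange pointOk 22 109197 9 = true := by decide +kernel
theorem p7u198 : ∀ k, 107415 ≤ k → k < 109206 → pointOk (k * 22) = true := between_extend pointOk 22 107415 109197 9 (p7u197) p7r198

theorem p7r199 : allRange pointOk 22 109206 9 = true := by decide +kernel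
theorem p7u199 : ∀ k, 107415 ≤ k → k < 109215 → pointOk (k * 22) = true := between_extend pointOk 22 107415 109206 9 (p7u198) p7r199

theorem p7r200 : allRange pointOk 22 109215 9 = true := by decide +kernel
theorem p7u200 : ∀ k, 107415 ≤ k → k < 109224 → pointOk (k * 22) = true := between_extend pointOk 22 107415 109215 9 (p7u199) p7r200

theorem p7r201 : allRange pointOk 22 109224 9 = true := by decide +kernel
theorem p7u201 : ∀ k, 107415 ≤ k → k < 109233 → pointOk (k * 22) = true := between_extend pointOk 22 107415 109224 9 (p7u200) p7r201

theorem p7r202 : allRange pointOk 22 109233 9 = true := by decide +kernel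
theorem p7u202 : ∀ k, 107415 ≤ k → k < 109242 → pointOk (k * 22) = true := between_extend pointOk 22 107415 109233 9 (p7u201) p7r202

theorem p7r203 : allRange pointOk 22 109242 9 = true := by decide +kernel
theorem p7u203 : ∀ k, 107415 ≤ k → k < 109251 → pointOk (k * 22) = true := between_extend pointOk 22 107415 109242 9 (p7u202) p7r203

theorem p7r204 : allRange pointOk 22 109251 9 = true := by decide +kernel
theorem p7u204 : ∀ k, 107415 ≤ k → k < 109260 → pointOk (k * 22) = true := between_extend pointOk 22 107415 109251 9 (p7u203) p7r204

theorem p7r205 : allRange pointOk 22 109260 9 = true := by decide +kernel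
theorem p7u205 : ∀ k, 107415 ≤ k → k < 109269 → pointOk (k * 22) = true := between_extend pointOk 22 107415 109260 9 (p7u204) p7r205

theorem p7r206 : allRange pointOk 22 109269 9 = true := by decide +kernel
theorem p7u206 : ∀ k, 107415 ≤ k → k < 109278 → pointOk (k * 22) = true := between_extend pointOk 22 107415 109269 9 (p7u205) p7r206

theorem p7r207 : allRange pointOk 22 109278 9 = true := by decide +kernel
theorem p7u207 : ∀ k, 107415 ≤ k → k < 109287 → pointOk (k * 22) = true := between_extend pointOk 22 107415 109278 9 (p7u206) p7r207

theorem p7r208 : allRange pointOk 22 109287 9 = true := by decide +kernel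
theorem p7u208 : ∀ k, 107415 ≤ k → k < 109296 → pointOk (k * 22) = true := between_extend pointOk 22 107415 109287 9 (p7u207) p7r208

theorem p7r209 : allRange pointOk 22 109296 9 = true := by decide +kernel
theorem p7u209 : ∀ k, 107415 ≤ k → k < 109305 → pointOk (k * 22) = true := between_extend pointOk 22 107415 109296 9 (p7u208) p7r209

theorem p7r210 : allRange pointOk 22 109305 9 = true := by decide +kernel
theorem p7u210 : ∀ k, 107415 ≤ k → k < 109314 → pointOk (k * 22) = true := between_extend pointOk 22 107415 109305 9 (p7u209) p7r210

theorem p7r211 : allRange pointOk 22 109314 9 = true := by decide +kernel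
theorem p7u211 : ∀ k, 107415 ≤ k → k < 109323 → pointOk (k * 22) = true := between_extend pointOk 22 107415 109314 9 (p7u210) p7r211

theorem p7r212 : allRange pointOk 22 109323 9 = true := by decide +kernel
theorem p7u212 : ∀ k, 107415 ≤ k → k < 109332 → pointOk (k * 22) = true := between_extend pointOk 22 107415 109323 9 (p7u211) p7r212

theorem p7r213 : allRange pointOk 22 109332 9 = true := by decide +kernel
theorem p7u213 : ∀ k, 107415 ≤ k → k < 109341 → pointOk (k * 22) = true := between_extend pointOk 22 107415 109332 9 (p7u212) p7r213

theorem p7r214 : allRange pointOk 22 109341 9 = true := by decide +kernel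
theorem p7u214 : ∀ k, 107415 ≤ k → k < 109350 → pointOk (k * 22) = true := between_extend pointOk 22 107415 109341 9 (p7u213) p7r214

theorem p7r215 : allRange pointOk 22 109350 9 = true := by decide +kernel
theorem p7u215 : ∀ k, 107415 ≤ k → k < 109359 → pointOk (k * 22) = true := between_extend pointOk 22 107415 109350 9 (p7u214) p7r215

theorem p7r216 : allRange pointOk 22 109359 9 = true := by decide +kernel
theorem p7u216 : ∀ k, 107415 ≤ k → k < 109368 → pointOk (k * 22) = true := between_extend pointOk 22 107415 109359 9 (p7u215) p7r216

theorem p7r217 : allRange pointOk 22 109368 9 = true := by decide +kernel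
theorem p7u217 : ∀ k, 107415 ≤ k → k < 109377 → pointOk (k * 22) = true := between_extend pointOk 22 107415 109368 9 (p7u216) p7r217

theorem p7r218 : allRange pointOk 22 109377 9 = true := by decide +kernel
theorem p7u218 : ∀ k, 107415 ≤ k → k < 109386 → pointOk (k * 22) = true := between_extend pointOk 22 107415 109377 9 (p7u217) p7r218

theorem p7r219 : allRange pointOk 22 109386 9 = true := by decide +kernel
theorem p7u219 : ∀ k, 107415 ≤ k → k < 109395 → pointOk (k * 22) = true := between_extend pointOk 22 107415 109386 9 (p7u218) p7r219

theorem p7r220 : allRange pointOk 22 109395 9 = true := by decide +kernel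
theorem p7u220 : ∀ k, 107415 ≤ k → k < 109404 → pointOk (k * 22) = true := between_extend pointOk 22 107415 109395 9 (p7u219) p7r220

theorem p7r221 : allRange pointOk 22 109404 9 = true := by decide +kernel
theorem p7u221 : ∀ k, 107415 ≤ k → k < 109413 → pointOk (k * 22) = true := between_extend pointOk 22 107415 109404 9 (p7u220) p7r221

theorem p7r222 : allRange pointOk 22 109413 9 = true := by decide +kernel
theorem p7u222 : ∀ k, 107415 ≤ k → k < 109422 → pointOk (k * 22) = true := between_extend pointOk 22 107415 109413 9 (p7u221) p7r222

theorem p7r223 : allRange pointOk 22 109422 9 = true := by decide +kernel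
theorem p7u223 : ∀ k, 107415 ≤ k → k < 109431 → pointOk (k * 22) = true := between_extend pointOk 22 107415 109422 9 (p7u222) p7r223

theorem p7r224 : allRange pointOk 22 109431 9 = true := by decide +kernel
theorem p7u224 : ∀ k, 107415 ≤ k → k < 109440 → pointOk (k * 22) = true := between_extend pointOk 22 107415 109431 9 (p7u223) p7r224

theorem p7r225 : allRange pointOk 22 109440 9 = true := by decide +kernel
theorem p7u225 : ∀ k, 107415 ≤ k → k < 109449 → pointOk (k * 22) = true := between_extend pointOk 22 107415 109440 9 (p7u224) p7r225

theorem p7r226 : allRange pointOk 22 109449 9 = true := by decide +kernel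
theorem p7u226 : ∀ k, 107415 ≤ k → k < 109458 → pointOk (k * 22) = true := between_extend pointOk 22 107415 109449 9 (p7u225) p7r226

theorem p7r227 : allRange pointOk 22 109458 9 = true := by decide +kernel
theorem p7u227 : ∀ k, 107415 ≤ k → k < 109467 → pointOk (k * 22) = true := between_extend pointOk 22 107415 109458 9 (p7u226) p7r227

theorem p7r228 : allRange pointOk 22 109467 9 = true := by decide +kernel
theorem p7u228 : ∀ k, 107415 ≤ k → k < 109476 → pointOk (k * 22) = true := between_extend pointOk 22 107415 109467 9 (p7u227) p7r228

theorem p7r229 : allRange pointOk 22 109476 9 = true := by decide +kernel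
theorem p7u229 : ∀ k, 107415 ≤ k → k < 109485 → pointOk (k * 22) = true := between_extend pointOk 22 107415 109476 9 (p7u228) p7r229

theorem p7r230 : allRange pointOk 22 109485 9 = true := by decide +kernel
theorem p7u230 : ∀ k, 107415 ≤ k → k < 109494 → pointOk (k * 22) = true := between_extend pointOk 22 107415 109485 9 (p7u229) p7r230

theorem p7r231 : allRange pointOk 22 109494 9 = true := by decide +kernel
theorem p7u231 : ∀ k, 107415 ≤ k → k < 109503 → pointOk (k * 22) = true := between_extend pointOk 22 107415 109494 9 (p7u230) p7r231

theorem p7r232 : allRange pointOk 22 109503 9 = true := by decide +kernel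
theorem p7u232 : ∀ k, 107415 ≤ k → k < 109512 → pointOk (k * 22) = true := between_extend pointOk 22 107415 109503 9 (p7u231) p7r232

theorem p7r233 : allRange pointOk 22 109512 9 = true := by decide +kernel
theorem p7u233 : ∀ k, 107415 ≤ k → k < 109521 → pointOk (k * 22) = true := between_extend pointOk 22 107415 109512 9 (p7u232) p7r233

theorem p7r234 : allRange pointOk 22 109521 9 = true := by decide +kernel
theorem p7u234 : ∀ k, 107415 ≤ k → k < 109530 → pointOk (k * 22) = true := between_extend pointOk 22 107415 109521 9 (p7u233) p7r234

theorem p7r235 : allRange pointOk 22 109530 9 = true := by decide +kernel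
theorem p7u235 : ∀ k, 107415 ≤ k → k < 109539 → pointOk (k * 22) = true := between_extend pointOk 22 107415 109530 9 (p7u234) p7r235

theorem p7r236 : allRange pointOk 22 109539 9 = true := by decide +kernel
theorem p7u236 : ∀ k, 107415 ≤ k → k < 109548 → pointOk (k * 22) = true := between_extend pointOk 22 107415 109539 9 (p7u235) p7r236

theorem p7r237 : allRange pointOk 22 109548 9 = true := by decide +kernel
theorem p7u237 : ∀ k, 107415 ≤ k → k < 109557 → pointOk (k * 22) = true := between_extend pointOk 22 107415 109548 9 (p7u236) p7r237

theorem p7r238 : allRange pointOk 22 109557 9 = true := by decide +kernel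
theorem p7u238 : ∀ k, 107415 ≤ k → k < 109566 → pointOk (k * 22) = true := between_extend pointOk 22 107415 109557 9 (p7u237) p7r238

theorem p7r239 : allRange pointOk 22 109566 9 = true := by decide +kernel
theorem p7u239 : ∀ k, 107415 ≤ k → k < 109575 → pointOk (k * 22) = true := between_extend pointOk 22 107415 109566 9 (p7u238) p7r239

theorem p7r240 : allRange pointOk 22 109575 9 = true := by decide +kernel
theorem p7u240 : ∀ k, 107415 ≤ k → k < 109584 → pointOk (k * 22) = true := between_extend pointOk 22 107415 109575 9 (p7u239) p7r240

theorem p7r241 : allRange pointOk 22 109584 9 = true := by decide +kernel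
theorem p7u241 : ∀ k, 107415 ≤ k → k < 109593 → pointOk (k * 22) = true := between_extend pointOk 22 107415 109584 9 (p7u240) p7r241

theorem p7r242 : allRange pointOk 22 109593 9 = true := by decide +kernel
theorem p7u242 : ∀ k, 107415 ≤ k → k < 109602 → pointOk (k * 22) = true := between_extend pointOk 22 107415 109593 9 (p7u241) p7r242

theorem p7r243 : allRange pointOk 22 109602 9 = true := by decide +kernel
theorem p7u243 : ∀ k, 107415 ≤ k → k < 109611 → pointOk (k * 22) = true := between_extend pointOk 22 107415 109602 9 (p7u242) p7r243

theorem p7r244 : allRange pointOk 22 109611 9 = true := by decide +kernel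
theorem p7u244 : ∀ k, 107415 ≤ k → k < 109620 → pointOk (k * 22) = true := between_extend pointOk 22 107415 109611 9 (p7u243) p7r244

theorem p7r245 : allRange pointOk 22 109620 9 = true := by decide +kernel
theorem p7u245 : ∀ k, 107415 ≤ k → k < 109629 → pointOk (k * 22) = true := between_extend pointOk 22 107415 109620 9 (p7u244) p7r245

theorem p7r246 : allRange pointOk 22 109629 9 = true := by decide +kernel
theorem p7u246 : ∀ k, 107415 ≤ k → k < 109638 → pointOk (k * 22) = true := between_extend pointOk 22 107415 109629 9 (p7u245) p7r246

theorem p7r247 : allRange pointOk 22 109638 9 = true := by decide +kernel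
theorem p7u247 : ∀ k, 107415 ≤ k → k < 109647 → pointOk (k * 22) = true := between_extend pointOk 22 107415 109638 9 (p7u246) p7r247

theorem p7r248 : allRange pointOk 22 109647 9 = true := by decide +kernel
theorem p7u248 : ∀ k, 107415 ≤ k → k < 109656 → pointOk (k * 22) = true := between_extend pointOk 22 107415 109647 9 (p7u247) p7r248

theorem p7r249 : allRange pointOk 22 109656 9 = true := by decide +kernel
theorem p7u249 : ∀ k, 107415 ≤ k → k < 109665 → pointOk (k * 22) = true := between_extend pointOk 22 107415 109656 9 (p7u248) p7r249

theorem p7r250 : allRange pointOk 22 109665 9 = true := by decide +kernel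
theorem p7u250 : ∀ k, 107415 ≤ k → k < 109674 → pointOk (k * 22) = true := between_extend pointOk 22 107415 109665 9 (p7u249) p7r250

theorem p7r251 : allRange pointOk 22 109674 9 = true := by decide +kernel
theorem p7u251 : ∀ k, 107415 ≤ k → k < 109683 → pointOk (k * 22) = true := between_extend pointOk 22 107415 109674 9 (p7u250) p7r251

theorem p7r252 : allRange pointOk 22 109683 9 = true := by decide +kernel
theorem p7u252 : ∀ k, 107415 ≤ k → k < 109692 → pointOk (k * 22) = true := between_extend pointOk 22 107415 109683 9 (p7u251) p7r252

theorem p7r253 : allRange pointOk 22 109692 9 = true := by decide +kernel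
theorem p7u253 : ∀ k, 107415 ≤ k → k < 109701 → pointOk (k * 22) = true := between_extend pointOk 22 107415 109692 9 (p7u252) p7r253

theorem p7r254 : allRange pointOk 22 109701 9 = true := by decide +kernel
theorem p7u254 : ∀ k, 107415 ≤ k → k < 109710 → pointOk (k * 22) = true := between_extend pointOk 22 107415 109701 9 (p7u253) p7r254

theorem p7r255 : allRange pointOk 22 109710 9 = true := by decide +kernel
theorem p7u255 : ∀ k, 107415 ≤ k → k < 109719 → pointOk (k * 22) = true := between_extend pointOk 22 107415 109710 9 (p7u254) p7r255

theorem p7r256 : allRange pointOk 22 109719 9 = true := by decide +kernel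
theorem p7u256 : ∀ k, 107415 ≤ k → k < 109728 → pointOk (k * 22) = true := between_extend pointOk 22 107415 109719 9 (p7u255) p7r256

theorem p7r257 : allRange pointOk 22 109728 9 = true := by decide +kernel
theorem p7u257 : ∀ k, 107415 ≤ k → k < 109737 → pointOk (k * 22) = true := between_extend pointOk 22 107415 109728 9 (p7u256) p7r257

theorem p7r258 : allRange pointOk 22 109737 9 = true := by decide +kernel
theorem p7u258 : ∀ k, 107415 ≤ k → k < 109746 → pointOk (k * 22) = true := between_extend pointOk 22 107415 109737 9 (p7u257) p7r258

theorem p7r259 : allRange pointOk 22 109746 9 = true := by decide +kernel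
theorem p7u259 : ∀ k, 107415 ≤ k → k < 109755 → pointOk (k * 22) = true := between_extend pointOk 22 107415 109746 9 (p7u258) p7r259

theorem p7r260 : allRange pointOk 22 109755 9 = true := by decide +kernel
theorem p7u260 : ∀ k, 107415 ≤ k → k < 109764 → pointOk (k * 22) = true := between_extend pointOk 22 107415 109755 9 (p7u259) p7r260

theorem p7r261 : allRange pointOk 22 109764 9 = true := by decide +kernel
theorem p7u261 : ∀ k, 107415 ≤ k → k < 109773 → pointOk (k * 22) = true := between_extend pointOk 22 107415 109764 9 (p7u260) p7r261

theorem p7r262 : allRange pointOk 22 109773 9 = true := by decide +kernel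
theorem p7u262 : ∀ k, 107415 ≤ k → k < 109782 → pointOk (k * 22) = true := between_extend pointOk 22 107415 109773 9 (p7u261) p7r262

theorem p7r263 : allRange pointOk 22 109782 9 = true := by decide +kernel
theorem p7u263 : ∀ k, 107415 ≤ k → k < 109791 → pointOk (k * 22) = true := between_extend pointOk 22 107415 109782 9 (p7u262) p7r263

theorem p7r264 : allRange pointOk 22 109791 9 = true := by decide +kernel
theorem p7u264 : ∀ k, 107415 ≤ k → k < 109800 → pointOk (k * 22) = true := between_extend pointOk 22 107415 109791 9 (p7u263) p7r264

theorem p7r265 : allRange pointOk 22 109800 9 = true := by decide +kernel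
theorem p7u265 : ∀ k, 107415 ≤ k → k < 109809 → pointOk (k * 22) = true := between_extend pointOk 22 107415 109800 9 (p7u264) p7r265

theorem p7r266 : allRange pointOk 22 109809 9 = true := by decide +kernel
theorem p7u266 : ∀ k, 107415 ≤ k → k < 109818 → pointOk (k * 22) = true := between_extend pointOk 22 107415 109809 9 (p7u265) p7r266

theorem p7r267 : allRange pointOk 22 109818 9 = true := by decide +kernel
theorem p7u267 : ∀ k, 107415 ≤ k → k < 109827 → pointOk (k * 22) = true := between_extend pointOk 22 107415 109818 9 (p7u266) p7r267

theorem p7r268 : allRange pointOk 22 109827 9 = true := by decide +kernel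
theorem p7u268 : ∀ k, 107415 ≤ k → k < 109836 → pointOk (k * 22) = true := between_extend pointOk 22 107415 109827 9 (p7u267) p7r268

theorem p7r269 : allRange pointOk 22 109836 9 = true := by decide +kernel
theorem p7u269 : ∀ k, 107415 ≤ k → k < 109845 → pointOk (k * 22) = true := between_extend pointOk 22 107415 109836 9 (p7u268) p7r269

theorem p7r270 : allRange pointOk 22 109845 9 = true := by decide +kernel
theorem p7u270 : ∀ k, 107415 ≤ k → k < 109854 → pointOk (k * 22) = true := between_extend pointOk 22 107415 109845 9 (p7u269) p7r270

theorem p7r271 : allRange pointOk 22 109854 9 = true := by decide +kernel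
theorem p7u271 : ∀ k, 107415 ≤ k → k < 109863 → pointOk (k * 22) = true := between_extend pointOk 22 107415 109854 9 (p7u270) p7r271

theorem p7r272 : allRange pointOk 22 109863 9 = true := by decide +kernel
theorem p7u272 : ∀ k, 107415 ≤ k → k < 109872 → pointOk (k * 22) = true := between_extend pointOk 22 107415 109863 9 (p7u271) p7r272

theorem p7r273 : allRange pointOk 22 109872 9 = true := by decide +kernel
theorem p7u273 : ∀ k, 107415 ≤ k → k < 109881 → pointOk (k * 22) = true := between_extend pointOk 22 107415 109872 9 (p7u272) p7r273

theorem p7r274 : allRange pointOk 22 109881 9 = true := by decide +kernel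
theorem p7u274 : ∀ k, 107415 ≤ k → k < 109890 → pointOk (k * 22) = true := between_extend pointOk 22 107415 109881 9 (p7u273) p7r274

theorem p7r275 : allRange pointOk 22 109890 9 = true := by decide +kernel
theorem p7u275 : ∀ k, 107415 ≤ k → k < 109899 → pointOk (k * 22) = true := between_extend pointOk 22 107415 109890 9 (p7u274) p7r275

theorem p7r276 : allRange pointOk 22 109899 9 = true := by decide +kernel
theorem p7u276 : ∀ k, 107415 ≤ k → k < 109908 → pointOk (k * 22) = true := between_extend pointOk 22 107415 109899 9 (p7u275) p7r276

theorem p7r277 : allRange pointOk 22 109908 9 = true := by decide +kernel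
theorem p7u277 : ∀ k, 107415 ≤ k → k < 109917 → pointOk (k * 22) = true := between_extend pointOk 22 107415 109908 9 (p7u276) p7r277

theorem p7r278 : allRange pointOk 22 109917 9 = true := by decide +kernel
theorem p7u278 : ∀ k, 107415 ≤ k → k < 109926 → pointOk (k * 22) = true := between_extend pointOk 22 107415 109917 9 (p7u277) p7r278

theorem p7r279 : allRange pointOk 22 109926 9 = true := by decide +kernel
theorem p7u279 : ∀ k, 107415 ≤ k → k < 109935 → pointOk (k * 22) = true := between_extend pointOk 22 107415 109926 9 (p7u278) p7r279

theorem p7r280 : allRange pointOk 22 109935 9 = true := by decide +kernel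
theorem p7u280 : ∀ k, 107415 ≤ k → k < 109944 → pointOk (k * 22) = true := between_extend pointOk 22 107415 109935 9 (p7u279) p7r280

theorem p7r281 : allRange pointOk 22 109944 9 = true := by decide +kernel
theorem p7u281 : ∀ k, 107415 ≤ k → k < 109953 → pointOk (k * 22) = true := between_extend pointOk 22 107415 109944 9 (p7u280) p7r281

theorem p7r282 : allRange pointOk 22 109953 9 = true := by decide +kernel
theorem p7u282 : ∀ k, 107415 ≤ k → k < 109962 → pointOk (k * 22) = true := between_extend pointOk 22 107415 109953 9 (p7u281) p7r282

theorem p7r283 : allRange pointOk 22 109962 9 = true := by decide +kernel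
theorem p7u283 : ∀ k, 107415 ≤ k → k < 109971 → pointOk (k * 22) = true := between_extend pointOk 22 107415 109962 9 (p7u282) p7r283

theorem p7r284 : allRange pointOk 22 109971 9 = true := by decide +kernel
theorem p7u284 : ∀ k, 107415 ≤ k → k < 109980 → pointOk (k * 22) = true := between_extend pointOk 22 107415 109971 9 (p7u283) p7r284

theorem p7r285 : allRange pointOk 22 109980 9 = true := by decide +kernel
theorem p7u285 : ∀ k, 107415 ≤ k → k < 109989 → pointOk (k * 22) = true := between_extend pointOk 22 107415 109980 9 (p7u284) p7r285

theorem p7r286 : allRange pointOk 22 109989 9 = true := by decide +kernel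
theorem p7u286 : ∀ k, 107415 ≤ k → k < 109998 → pointOk (k * 22) = true := between_extend pointOk 22 107415 109989 9 (p7u285) p7r286

theorem p7r287 : allRange pointOk 22 109998 9 = true := by decide +kernel
theorem p7u287 : ∀ k, 107415 ≤ k → k < 110007 → pointOk (k * 22) = true := between_extend pointOk 22 107415 109998 9 (p7u286) p7r287

theorem p7r288 : allRange pointOk 22 110007 9 = true := by decide +kernel
theorem p7u288 : ∀ k, 107415 ≤ k → k < 110016 → pointOk (k * 22) = true := between_extend pointOk 22 107415 110007 9 (p7u287) p7r288

theorem p7r289 : allRange pointOk 22 110016 9 = true := by decide +kernel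
theorem p7u289 : ∀ k, 107415 ≤ k → k < 110025 → pointOk (k * 22) = true := between_extend pointOk 22 107415 110016 9 (p7u288) p7r289

theorem p7r290 : allRange pointOk 22 110025 9 = true := by decide +kernel
theorem p7u290 : ∀ k, 107415 ≤ k → k < 110034 → pointOk (k * 22) = true := between_extend pointOk 22 107415 110025 9 (p7u289) p7r290

theorem p7r291 : allRange pointOk 22 110034 9 = true := by decide +kernel
theorem p7u291 : ∀ k, 107415 ≤ k → k < 110043 → pointOk (k * 22) = true := between_extend pointOk 22 107415 110034 9 (p7u290) p7r291

theorem p7r292 : allRange pointOk 22 110043 9 = true := by decide +kernel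
theorem p7u292 : ∀ k, 107415 ≤ k → k < 110052 → pointOk (k * 22) = true := between_extend pointOk 22 107415 110043 9 (p7u291) p7r292

theorem p7r293 : allRange pointOk 22 110052 9 = true := by decide +kernel
theorem p7u293 : ∀ k, 107415 ≤ k → k < 110061 → pointOk (k * 22) = true := between_extend pointOk 22 107415 110052 9 (p7u292) p7r293

theorem p7r294 : allRange pointOk 22 110061 9 = true := by decide +kernel
theorem p7u294 : ∀ k, 107415 ≤ k → k < 110070 → pointOk (k * 22) = true := between_extend pointOk 22 107415 110061 9 (p7u293) p7r294

theorem p7r295 : allRange pointOk 22 110070 9 = true := by decide +kernel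
theorem p7u295 : ∀ k, 107415 ≤ k → k < 110079 → pointOk (k * 22) = true := between_extend pointOk 22 107415 110070 9 (p7u294) p7r295

theorem p7r296 : allRange pointOk 22 110079 9 = true := by decide +kernel
theorem p7u296 : ∀ k, 107415 ≤ k → k < 110088 → pointOk (k * 22) = true := between_extend pointOk 22 107415 110079 9 (p7u295) p7r296

theorem p7r297 : allRange pointOk 22 110088 9 = true := by decide +kernel
theorem p7u297 : ∀ k, 107415 ≤ k → k < 110097 → pointOk (k * 22) = true := between_extend pointOk 22 107415 110088 9 (p7u296) p7r297

theorem p7r298 : allRange pointOk 22 110097 9 = true := by decide +kernel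
theorem p7u298 : ∀ k, 107415 ≤ k → k < 110106 → pointOk (k * 22) = true := between_extend pointOk 22 107415 110097 9 (p7u297) p7r298

theorem p7r299 : allRange pointOk 22 110106 9 = true := by decide +kernel
theorem p7u299 : ∀ k, 107415 ≤ k → k < 110115 → pointOk (k * 22) = true := between_extend pointOk 22 107415 110106 9 (p7u298) p7r299

theorem p7r300 : allRange pointOk 22 110115 9 = true := by decide +kernel
theorem p7u300 : ∀ k, 107415 ≤ k → k < 110124 → pointOk (k * 22) = true := between_extend pointOk 22 107415 110115 9 (p7u299) p7r300

theorem p7r301 : allRange pointOk 22 110124 9 = true := by decide +kernel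
theorem p7u301 : ∀ k, 107415 ≤ k → k < 110133 → pointOk (k * 22) = true := between_extend pointOk 22 107415 110124 9 (p7u300) p7r301

theorem p7r302 : allRange pointOk 22 110133 9 = true := by decide +kernel
theorem p7u302 : ∀ k, 107415 ≤ k → k < 110142 → pointOk (k * 22) = true := between_extend pointOk 22 107415 110133 9 (p7u301) p7r302

theorem p7r303 : allRange pointOk 22 110142 9 = true := by decide +kernel
theorem p7u303 : ∀ k, 107415 ≤ k → k < 110151 → pointOk (k * 22) = true := between_extend pointOk 22 107415 110142 9 (p7u302) p7r303

theorem p7r304 : allRange pointOk 22 110151 9 = true := by decide +kernel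
theorem p7u304 : ∀ k, 107415 ≤ k → k < 110160 → pointOk (k * 22) = true := between_extend pointOk 22 107415 110151 9 (p7u303) p7r304

theorem p7r305 : allRange pointOk 22 110160 9 = true := by decide +kernel
theorem p7u305 : ∀ k, 107415 ≤ k → k < 110169 → pointOk (k * 22) = true := between_extend pointOk 22 107415 110160 9 (p7u304) p7r305

theorem p7r306 : allRange pointOk 22 110169 9 = true := by decide +kernel
theorem p7u306 : ∀ k, 107415 ≤ k → k < 110178 → pointOk (k * 22) = true := between_extend pointOk 22 107415 110169 9 (p7u305) p7r306

theorem p7r307 : allRange pointOk 22 110178 9 = true := by decide +kernel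
theorem p7u307 : ∀ k, 107415 ≤ k → k < 110187 → pointOk (k * 22) = true := between_extend pointOk 22 107415 110178 9 (p7u306) p7r307

theorem p7r308 : allRange pointOk 22 110187 9 = true := by decide +kernel
theorem p7u308 : ∀ k, 107415 ≤ k → k < 110196 → pointOk (k * 22) = true := between_extend pointOk 22 107415 110187 9 (p7u307) p7r308

theorem p7r309 : allRange pointOk 22 110196 9 = true := by decide +kernel
theorem p7u309 : ∀ k, 107415 ≤ k → k < 110205 → pointOk (k * 22) = true := between_extend pointOk 22 107415 110196 9 (p7u308) p7r309

theorem p7r310 : allRange pointOk 22 110205 9 = true := by decide +kernel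
theorem p7u310 : ∀ k, 107415 ≤ k → k < 110214 → pointOk (k * 22) = true := between_extend pointOk 22 107415 110205 9 (p7u309) p7r310

theorem p7r311 : allRange pointOk 22 110214 9 = true := by decide +kernel
theorem p7u311 : ∀ k, 107415 ≤ k → k < 110223 → pointOk (k * 22) = true := between_extend pointOk 22 107415 110214 9 (p7u310) p7r311

theorem p7r312 : allRange pointOk 22 110223 9 = true := by decide +kernel
theorem p7u312 : ∀ k, 107415 ≤ k → k < 110232 → pointOk (k * 22) = true := between_extend pointOk 22 107415 110223 9 (p7u311) p7r312

theorem p7r313 : allRange pointOk 22 110232 9 = true := by decide +kernel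
theorem p7u313 : ∀ k, 107415 ≤ k → k < 110241 → pointOk (k * 22) = true := between_extend pointOk 22 107415 110232 9 (p7u312) p7r313

theorem p7r314 : allRange pointOk 22 110241 9 = true := by decide +kernel
theorem p7u314 : ∀ k, 107415 ≤ k → k < 110250 → pointOk (k * 22) = true := between_extend pointOk 22 107415 110241 9 (p7u313) p7r314

theorem p7r315 : allRange pointOk 22 110250 9 = true := by decide +kernel
theorem p7u315 : ∀ k, 107415 ≤ k → k < 110259 → pointOk (k * 22) = true := between_extend pointOk 22 107415 110250 9 (p7u314) p7r315

theorem p7r316 : allRange pointOk 22 110259 9 = true := by decide +kernel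
theorem p7u316 : ∀ k, 107415 ≤ k → k < 110268 → pointOk (k * 22) = true := between_extend pointOk 22 107415 110259 9 (p7u315) p7r316

theorem p7r317 : allRange pointOk 22 110268 9 = true := by decide +kernel
theorem p7u317 : ∀ k, 107415 ≤ k → k < 110277 → pointOk (k * 22) = true := between_extend pointOk 22 107415 110268 9 (p7u316) p7r317

theorem p7r318 : allRange pointOk 22 110277 9 = true := by decide +kernel
theorem p7u318 : ∀ k, 107415 ≤ k → k < 110286 → pointOk (k * 22) = true := between_extend pointOk 22 107415 110277 9 (p7u317) p7r318

theorem p7r319 : allRange pointOk 22 110286 9 = true := by decide +kernel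
theorem p7u319 : ∀ k, 107415 ≤ k → k < 110295 → pointOk (k * 22) = true := between_extend pointOk 22 107415 110286 9 (p7u318) p7r319

theorem p7r320 : allRange pointOk 22 110295 9 = true := by decide +kernel
theorem p7u320 : ∀ k, 107415 ≤ k → k < 110304 → pointOk (k * 22) = true := between_extend pointOk 22 107415 110295 9 (p7u319) p7r320

theorem p7r321 : allRange pointOk 22 110304 9 = true := by decide +kernel
theorem p7u321 : ∀ k, 107415 ≤ k → k < 110313 → pointOk (k * 22) = true := between_extend pointOk 22 107415 110304 9 (p7u320) p7r321

theorem p7r322 : allRange pointOk 22 110313 9 = true := by decide +kernel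
theorem p7u322 : ∀ k, 107415 ≤ k → k < 110322 → pointOk (k * 22) = true := between_extend pointOk 22 107415 110313 9 (p7u321) p7r322

theorem p7r323 : allRange pointOk 22 110322 9 = true := by decide +kernel
theorem p7u323 : ∀ k, 107415 ≤ k → k < 110331 → pointOk (k * 22) = true := between_extend pointOk 22 107415 110322 9 (p7u322) p7r323

theorem p7r324 : allRange pointOk 22 110331 9 = true := by decide +kernel
theorem p7u324 : ∀ k, 107415 ≤ k → k < 110340 → pointOk (k * 22) = true := between_extend pointOk 22 107415 110331 9 (p7u323) p7r324

theorem p7r325 : allRange pointOk 22 110340 9 = true := by decide +kernel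
theorem p7u325 : ∀ k, 107415 ≤ k → k < 110349 → pointOk (k * 22) = true := between_extend pointOk 22 107415 110340 9 (p7u324) p7r325

theorem p7r326 : allRange pointOk 22 110349 9 = true := by decide +kernel
theorem p7u326 : ∀ k, 107415 ≤ k → k < 110358 → pointOk (k * 22) = true := between_extend pointOk 22 107415 110349 9 (p7u325) p7r326

theorem p7r327 : allRange pointOk 22 110358 9 = true := by decide +kernel
theorem p7u327 : ∀ k, 107415 ≤ k → k < 110367 → pointOk (k * 22) = true := between_extend pointOk 22 107415 110358 9 (p7u326) p7r327

theorem p7r328 : allRange pointOk 22 110367 9 = true := by decide +kernel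
theorem p7u328 : ∀ k, 107415 ≤ k → k < 110376 → pointOk (k * 22) = true := between_extend pointOk 22 107415 110367 9 (p7u327) p7r328

theorem p7r329 : allRange pointOk 22 110376 9 = true := by decide +kernel
theorem p7u329 : ∀ k, 107415 ≤ k → k < 110385 → pointOk (k * 22) = true := between_extend pointOk 22 107415 110376 9 (p7u328) p7r329

theorem p7r330 : allRange pointOk 22 110385 9 = true := by decide +kernel
theorem p7u330 : ∀ k, 107415 ≤ k → k < 110394 → pointOk (k * 22) = true := between_extend pointOk 22 107415 110385 9 (p7u329) p7r330

theorem p7r331 : allRange pointOk 22 110394 9 = true := by decide +kernel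
theorem p7u331 : ∀ k, 107415 ≤ k → k < 110403 → pointOk (k * 22) = true := between_extend pointOk 22 107415 110394 9 (p7u330) p7r331

theorem p7r332 : allRange pointOk 22 110403 9 = true := by decide +kernel
theorem p7u332 : ∀ k, 107415 ≤ k → k < 110412 → pointOk (k * 22) = true := between_extend pointOk 22 107415 110403 9 (p7u331) p7r332

theorem p7r333 : allRange pointOk 22 110412 9 = true := by decide +kernel
theorem p7u333 : ∀ k, 107415 ≤ k → k < 110421 → pointOk (k * 22) = true := between_extend pointOk 22 107415 110412 9 (p7u332) p7r333

theorem p7r334 : allRange pointOk 22 110421 9 = true := by decide +kernel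
theorem p7u334 : ∀ k, 107415 ≤ k → k < 110430 → pointOk (k * 22) = true := between_extend pointOk 22 107415 110421 9 (p7u333) p7r334

theorem p7r335 : allRange pointOk 22 110430 9 = true := by decide +kernel
theorem p7u335 : ∀ k, 107415 ≤ k → k < 110439 → pointOk (k * 22) = true := between_extend pointOk 22 107415 110430 9 (p7u334) p7r335

theorem p7r336 : allRange pointOk 22 110439 9 = true := by decide +kernel
theorem p7u336 : ∀ k, 107415 ≤ k → k < 110448 → pointOk (k * 22) = true := between_extend pointOk 22 107415 110439 9 (p7u335) p7r336

theorem p7r337 : allRange pointOk 22 110448 9 = true := by decide +kernel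
theorem p7u337 : ∀ k, 107415 ≤ k → k < 110457 → pointOk (k * 22) = true := between_extend pointOk 22 107415 110448 9 (p7u336) p7r337

theorem p7r338 : allRange pointOk 22 110457 9 = true := by decide +kernel
theorem p7u338 : ∀ k, 107415 ≤ k → k < 110466 → pointOk (k * 22) = true := between_extend pointOk 22 107415 110457 9 (p7u337) p7r338

theorem p7r339 : allRange pointOk 22 110466 9 = true := by decide +kernel
theorem p7u339 : ∀ k, 107415 ≤ k → k < 110475 → pointOk (k * 22) = true := between_extend pointOk 22 107415 110466 9 (p7u338) p7r339

theorem p7r340 : allRange pointOk 22 110475 9 = true := by decide +kernel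
theorem p7u340 : ∀ k, 107415 ≤ k → k < 110484 → pointOk (k * 22) = true := between_extend pointOk 22 107415 110475 9 (p7u339) p7r340

theorem p7r341 : allRange pointOk 22 110484 9 = true := by decide +kernel
theorem p7u341 : ∀ k, 107415 ≤ k → k < 110493 → pointOk (k * 22) = true := between_extend pointOk 22 107415 110484 9 (p7u340) p7r341

theorem p7r342 : allRange pointOk 22 110493 9 = true := by decide +kernel
theorem p7u342 : ∀ k, 107415 ≤ k → k < 110502 → pointOk (k * 22) = true := between_extend pointOk 22 107415 110493 9 (p7u341) p7r342

theorem p7r343 : allRange pointOk 22 110502 9 = true := by decide +kernel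
theorem p7u343 : ∀ k, 107415 ≤ k → k < 110511 → pointOk (k * 22) = true := between_extend pointOk 22 107415 110502 9 (p7u342) p7r343

theorem p7r344 : allRange pointOk 22 110511 9 = true := by decide +kernel
theorem p7u344 : ∀ k, 107415 ≤ k → k < 110520 → pointOk (k * 22) = true := between_extend pointOk 22 107415 110511 9 (p7u343) p7r344

theorem p7r345 : allRange pointOk 22 110520 9 = true := by decide +kernel
theorem p7u345 : ∀ k, 107415 ≤ k → k < 110529 → pointOk (k * 22) = true := between_extend pointOk 22 107415 110520 9 (p7u344) p7r345

theorem p7r346 : allRange pointOk 22 110529 9 = true := by decide +kernel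
theorem p7u346 : ∀ k, 107415 ≤ k → k < 110538 → pointOk (k * 22) = true := between_extend pointOk 22 107415 110529 9 (p7u345) p7r346

theorem p7r347 : allRange pointOk 22 110538 9 = true := by decide +kernel
theorem p7u347 : ∀ k, 107415 ≤ k → k < 110547 → pointOk (k * 22) = true := between_extend pointOk 22 107415 110538 9 (p7u346) p7r347

theorem p7r348 : allRange pointOk 22 110547 9 = true := by decide +kernel
theorem p7u348 : ∀ k, 107415 ≤ k → k < 110556 → pointOk (k * 22) = true := between_extend pointOk 22 107415 110547 9 (p7u347) p7r348

theorem p7r349 : allRange pointOk 22 110556 9 = true := by decide +kernel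
theorem p7u349 : ∀ k, 107415 ≤ k → k < 110565 → pointOk (k * 22) = true := between_extend pointOk 22 107415 110556 9 (p7u348) p7r349

theorem p7r350 : allRange pointOk 22 110565 9 = true := by decide +kernel
theorem p7u350 : ∀ k, 107415 ≤ k → k < 110574 → pointOk (k * 22) = true := between_extend pointOk 22 107415 110565 9 (p7u349) p7r350

theorem p7r351 : allRange pointOk 22 110574 9 = true := by decide +kernel
theorem p7u351 : ∀ k, 107415 ≤ k → k < 110583 → pointOk (k * 22) = true := between_extend pointOk 22 107415 110574 9 (p7u350) p7r351

theorem p7r352 : allRange pointOk 22 110583 9 = true := by decide +kernel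
theorem p7u352 : ∀ k, 107415 ≤ k → k < 110592 → pointOk (k * 22) = true := between_extend pointOk 22 107415 110583 9 (p7u351) p7r352

theorem p7r353 : allRange pointOk 22 110592 9 = true := by decide +kernel
theorem p7u353 : ∀ k, 107415 ≤ k → k < 110601 → pointOk (k * 22) = true := between_extend pointOk 22 107415 110592 9 (p7u352) p7r353

theorem p7r354 : allRange pointOk 22 110601 9 = true := by decide +kernel
theorem p7u354 : ∀ k, 107415 ≤ k → k < 110610 → pointOk (k * 22) = true := between_extend pointOk 22 107415 110601 9 (p7u353) p7r354

theorem p7r355 : allRange pointOk 22 110610 9 = true := by decide +kernel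
theorem p7u355 : ∀ k, 107415 ≤ k → k < 110619 → pointOk (k * 22) = true := between_extend pointOk 22 107415 110610 9 (p7u354) p7r355

theorem p7r356 : allRange pointOk 22 110619 9 = true := by decide +kernel
theorem p7u356 : ∀ k, 107415 ≤ k → k < 110628 → pointOk (k * 22) = true := between_extend pointOk 22 107415 110619 9 (p7u355) p7r356

theorem p7r357 : allRange pointOk 22 110628 9 = true := by decide +kernel
theorem p7u357 : ∀ k, 107415 ≤ k → k < 110637 → pointOk (k * 22) = true := between_extend pointOk 22 107415 110628 9 (p7u356) p7r357

theorem p7r358 : allRange pointOk 22 110637 9 = true := by decide +kernel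
theorem p7u358 : ∀ k, 107415 ≤ k → k < 110646 → pointOk (k * 22) = true := between_extend pointOk 22 107415 110637 9 (p7u357) p7r358

theorem p7r359 : allRange pointOk 22 110646 9 = true := by decide +kernel
theorem p7u359 : ∀ k, 107415 ≤ k → k < 110655 → pointOk (k * 22) = true := between_extend pointOk 22 107415 110646 9 (p7u358) p7r359

theorem p7r360 : allRange pointOk 22 110655 9 = true := by decide +kernel
theorem p7u360 : ∀ k, 107415 ≤ k → k < 110664 → pointOk (k * 22) = true := between_extend pointOk 22 107415 110655 9 (p7u359) p7r360

theorem p7r361 : allRange pointOk 22 110664 9 = true := by decide +kernel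
theorem p7u361 : ∀ k, 107415 ≤ k → k < 110673 → pointOk (k * 22) = true := between_extend pointOk 22 107415 110664 9 (p7u360) p7r361

theorem p7r362 : allRange pointOk 22 110673 9 = true := by decide +kernel
theorem p7u362 : ∀ k, 107415 ≤ k → k < 110682 → pointOk (k * 22) = true := between_extend pointOk 22 107415 110673 9 (p7u361) p7r362

theorem p7r363 : allRange pointOk 22 110682 9 = true := by decide +kernel
theorem p7u363 : ∀ k, 107415 ≤ k → k < 110691 → pointOk (k * 22) = true := between_extend pointOk 22 107415 110682 9 (p7u362) p7r363

theorem p7r364 : allRange pointOk 22 110691 9 = true := by decide +kernel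
theorem p7u364 : ∀ k, 107415 ≤ k → k < 110700 → pointOk (k * 22) = true := between_extend pointOk 22 107415 110691 9 (p7u363) p7r364

theorem p7r365 : allRange pointOk 22 110700 9 = true := by decide +kernel
theorem p7u365 : ∀ k, 107415 ≤ k → k < 110709 → pointOk (k * 22) = true := between_extend pointOk 22 107415 110700 9 (p7u364) p7r365

theorem p7r366 : allRange pointOk 22 110709 9 = true := by decide +kernel
theorem p7u366 : ∀ k, 107415 ≤ k → k < 110718 → pointOk (k * 22) = true := between_extend pointOk 22 107415 110709 9 (p7u365) p7r366

theorem p7r367 : allRange pointOk 22 110718 9 = true := by decide +kernel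
theorem p7u367 : ∀ k, 107415 ≤ k → k < 110727 → pointOk (k * 22) = true := between_extend pointOk 22 107415 110718 9 (p7u366) p7r367

theorem p7r368 : allRange pointOk 22 110727 9 = true := by decide +kernel
theorem p7u368 : ∀ k, 107415 ≤ k → k < 110736 → pointOk (k * 22) = true := between_extend pointOk 22 107415 110727 9 (p7u367) p7r368

theorem p7r369 : allRange pointOk 22 110736 9 = true := by decide +kernel
theorem p7u369 : ∀ k, 107415 ≤ k → k < 110745 → pointOk (k * 22) = true := between_extend pointOk 22 107415 110736 9 (p7u368) p7r369

theorem p7r370 : allRange pointOk 22 110745 9 = true := by decide +kernel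
theorem p7u370 : ∀ k, 107415 ≤ k → k < 110754 → pointOk (k * 22) = true := between_extend pointOk 22 107415 110745 9 (p7u369) p7r370

theorem p7r371 : allRange pointOk 22 110754 9 = true := by decide +kernel
theorem p7u371 : ∀ k, 107415 ≤ k → k < 110763 → pointOk (k * 22) = true := between_extend pointOk 22 107415 110754 9 (p7u370) p7r371

theorem p7r372 : allRange pointOk 22 110763 9 = true := by decide +kernel
theorem p7u372 : ∀ k, 107415 ≤ k → k < 110772 → pointOk (k * 22) = true := between_extend pointOk 22 107415 110763 9 (p7u371) p7r372

theorem p7r373 : allRange pointOk 22 110772 9 = true := by decide +kernel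
theorem p7u373 : ∀ k, 107415 ≤ k → k < 110781 → pointOk (k * 22) = true := between_extend pointOk 22 107415 110772 9 (p7u372) p7r373

theorem p7r374 : allRange pointOk 22 110781 9 = true := by decide +kernel
theorem p7u374 : ∀ k, 107415 ≤ k → k < 110790 → pointOk (k * 22) = true := between_extend pointOk 22 107415 110781 9 (p7u373) p7r374

theorem p7r375 : allRange pointOk 22 110790 9 = true := by decide +kernel
theorem p7u375 : ∀ k, 107415 ≤ k → k < 110799 → pointOk (k * 22) = true := between_extend pointOk 22 107415 110790 9 (p7u374) p7r375

theorem p7r376 : allRange pointOk 22 110799 9 = true := by decide +kernel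
theorem p7u376 : ∀ k, 107415 ≤ k → k < 110808 → pointOk (k * 22) = true := between_extend pointOk 22 107415 110799 9 (p7u375) p7r376

theorem p7r377 : allRange pointOk 22 110808 9 = true := by decide +kernel
theorem p7u377 : ∀ k, 107415 ≤ k → k < 110817 → pointOk (k * 22) = true := between_extend pointOk 22 107415 110808 9 (p7u376) p7r377

theorem p7r378 : allRange pointOk 22 110817 9 = true := by decide +kernel
theorem p7u378 : ∀ k, 107415 ≤ k → k < 110826 → pointOk (k * 22) = true := between_extend pointOk 22 107415 110817 9 (p7u377) p7r378

theorem p7r379 : allRange pointOk 22 110826 9 = true := by decide +kernel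
theorem p7u379 : ∀ k, 107415 ≤ k → k < 110835 → pointOk (k * 22) = true := between_extend pointOk 22 107415 110826 9 (p7u378) p7r379

theorem p7r380 : allRange pointOk 22 110835 9 = true := by decide +kernel
theorem p7u380 : ∀ k, 107415 ≤ k → k < 110844 → pointOk (k * 22) = true := between_extend pointOk 22 107415 110835 9 (p7u379) p7r380

theorem p7r381 : allRange pointOk 22 110844 9 = true := by decide +kernel
theorem p7u381 : ∀ k, 107415 ≤ k → k < 110853 → pointOk (k * 22) = true := between_extend pointOk 22 107415 110844 9 (p7u380) p7r381

theorem p7r382 : allRange pointOk 22 110853 9 = true := by decide +kernel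
theorem p7u382 : ∀ k, 107415 ≤ k → k < 110862 → pointOk (k * 22) = true := between_extend pointOk 22 107415 110853 9 (p7u381) p7r382

theorem p7r383 : allRange pointOk 22 110862 9 = true := by decide +kernel
theorem p7u383 : ∀ k, 107415 ≤ k → k < 110871 → pointOk (k * 22) = true := between_extend pointOk 22 107415 110862 9 (p7u382) p7r383

theorem p7r384 : allRange pointOk 22 110871 9 = true := by decide +kernel
theorem p7u384 : ∀ k, 107415 ≤ k → k < 110880 → pointOk (k * 22) = true := between_extend pointOk 22 107415 110871 9 (p7u383) p7r384

theorem p7r385 : allRange pointOk 22 110880 9 = true := by decide +kernel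
theorem p7u385 : ∀ k, 107415 ≤ k → k < 110889 → pointOk (k * 22) = true := between_extend pointOk 22 107415 110880 9 (p7u384) p7r385

theorem p7r386 : allRange pointOk 22 110889 9 = true := by decide +kernel
theorem p7u386 : ∀ k, 107415 ≤ k → k < 110898 → pointOk (k * 22) = true := between_extend pointOk 22 107415 110889 9 (p7u385) p7r386

theorem p7r387 : allRange pointOk 22 110898 9 = true := by decide +kernel
theorem p7u387 : ∀ k, 107415 ≤ k → k < 110907 → pointOk (k * 22) = true := between_extend pointOk 22 107415 110898 9 (p7u386) p7r387

theorem p7r388 : allRange pointOk 22 110907 9 = true := by decide +kernel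
theorem p7u388 : ∀ k, 107415 ≤ k → k < 110916 → pointOk (k * 22) = true := between_extend pointOk 22 107415 110907 9 (p7u387) p7r388

theorem p7r389 : allRange pointOk 22 110916 9 = true := by decide +kernel
theorem p7u389 : ∀ k, 107415 ≤ k → k < 110925 → pointOk (k * 22) = true := between_extend pointOk 22 107415 110916 9 (p7u388) p7r389

theorem p7r390 : allRange pointOk 22 110925 9 = true := by decide +kernel
theorem p7u390 : ∀ k, 107415 ≤ k → k < 110934 → pointOk (k * 22) = true := between_extend pointOk 22 107415 110925 9 (p7u389) p7r390

theorem p7r391 : allRange pointOk 22 110934 9 = true := by decide +kernel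
theorem p7u391 : ∀ k, 107415 ≤ k → k < 110943 → pointOk (k * 22) = true := between_extend pointOk 22 107415 110934 9 (p7u390) p7r391

theorem p7r392 : allRange pointOk 22 110943 9 = true := by decide +kernel
theorem p7u392 : ∀ k, 107415 ≤ k → k < 110952 → pointOk (k * 22) = true := between_extend pointOk 22 107415 110943 9 (p7u391) p7r392

theorem p7r393 : allRange pointOk 22 110952 9 = true := by decide +kernel
theorem p7u393 : ∀ k, 107415 ≤ k → k < 110961 → pointOk (k * 22) = true := between_extend pointOk 22 107415 110952 9 (p7u392) p7r393

theorem p7r394 : allRange pointOk 22 110961 9 = true := by decide +kernel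
theorem p7u394 : ∀ k, 107415 ≤ k → k < 110970 → pointOk (k * 22) = true := between_extend pointOk 22 107415 110961 9 (p7u393) p7r394

theorem p7r395 : allRange pointOk 22 110970 9 = true := by decide +kernel
theorem p7u395 : ∀ k, 107415 ≤ k → k < 110979 → pointOk (k * 22) = true := between_extend pointOk 22 107415 110970 9 (p7u394) p7r395

theorem p7r396 : allRange pointOk 22 110979 9 = true := by decide +kernel
theorem p7u396 : ∀ k, 107415 ≤ k → k < 110988 → pointOk (k * 22) = true := between_extend pointOk 22 107415 110979 9 (p7u395) p7r396

theorem p7r397 : allRange pointOk 22 110988 9 = true := by decide +kernel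
theorem p7u397 : ∀ k, 107415 ≤ k → k < 110997 → pointOk (k * 22) = true := between_extend pointOk 22 107415 110988 9 (p7u396) p7r397

theorem p7r398 : allRange pointOk 22 110997 9 = true := by decide +kernel
theorem p7u398 : ∀ k, 107415 ≤ k → k < 111006 → pointOk (k * 22) = true := between_extend pointOk 22 107415 110997 9 (p7u397) p7r398

theorem p7r399 : allRange pointOk 22 111006 9 = true := by decide +kernel
theorem p7u399 : ∀ k, 107415 ≤ k → k < 111015 → pointOk (k * 22) = true := between_extend pointOk 22 107415 111006 9 (p7u398) p7r399

theorem p7r400 : allRange pointOk 22 111015 9 = true := by decide +kernel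
theorem p7u400 : ∀ k, 107415 ≤ k → k < 111024 → pointOk (k * 22) = true := between_extend pointOk 22 107415 111015 9 (p7u399) p7r400

theorem p7r401 : allRange pointOk 22 111024 9 = true := by decide +kernel
theorem p7u401 : ∀ k, 107415 ≤ k → k < 111033 → pointOk (k * 22) = true := between_extend pointOk 22 107415 111024 9 (p7u400) p7r401

theorem p7r402 : allRange pointOk 22 111033 9 = true := by decide +kernel
theorem p7u402 : ∀ k, 107415 ≤ k → k < 111042 → pointOk (k * 22) = true := between_extend pointOk 22 107415 111033 9 (p7u401) p7r402

theorem p7r403 : allRange pointOk 22 111042 9 = true := by decide +kernel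
theorem p7u403 : ∀ k, 107415 ≤ k → k < 111051 → pointOk (k * 22) = true := between_extend pointOk 22 107415 111042 9 (p7u402) p7r403

theorem p7r404 : allRange pointOk 22 111051 9 = true := by decide +kernel
theorem p7u404 : ∀ k, 107415 ≤ k → k < 111060 → pointOk (k * 22) = true := between_extend pointOk 22 107415 111051 9 (p7u403) p7r404

theorem p7r405 : allRange pointOk 22 111060 9 = true := by decide +kernel
theorem p7u405 : ∀ k, 107415 ≤ k → k < 111069 → pointOk (k * 22) = true := between_extend pointOk 22 107415 111060 9 (p7u404) p7r405

theorem p7r406 : allRange pointOk 22 111069 9 = true := by decide +kernel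
theorem p7u406 : ∀ k, 107415 ≤ k → k < 111078 → pointOk (k * 22) = true := between_extend pointOk 22 107415 111069 9 (p7u405) p7r406

theorem p7r407 : allRange pointOk 22 111078 9 = true := by decide +kernel
theorem p7u407 : ∀ k, 107415 ≤ k → k < 111087 → pointOk (k * 22) = true := between_extend pointOk 22 107415 111078 9 (p7u406) p7r407

theorem p7r408 : allRange pointOk 22 111087 9 = true := by decide +kernel
theorem p7u408 : ∀ k, 107415 ≤ k → k < 111096 → pointOk (k * 22) = true := between_extend pointOk 22 107415 111087 9 (p7u407) p7r408

theorem p7r409 : allRange pointOk 22 111096 9 = true := by decide +kernel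
theorem p7u409 : ∀ k, 107415 ≤ k → k < 111105 → pointOk (k * 22) = true := between_extend pointOk 22 107415 111096 9 (p7u408) p7r409

theorem p7r410 : allRange pointOk 22 111105 9 = true := by decide +kernel
theorem p7u410 : ∀ k, 107415 ≤ k → k < 111114 → pointOk (k * 22) = true := between_extend pointOk 22 107415 111105 9 (p7u409) p7r410

theorem p7r411 : allRange pointOk 22 111114 9 = true := by decide +kernel
theorem p7u411 : ∀ k, 107415 ≤ k → k < 111123 → pointOk (k * 22) = true := between_extend pointOk 22 107415 111114 9 (p7u410) p7r411

theorem p7r412 : allRange pointOk 22 111123 9 = true := by decide +kernel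
theorem p7u412 : ∀ k, 107415 ≤ k → k < 111132 → pointOk (k * 22) = true := between_extend pointOk 22 107415 111123 9 (p7u411) p7r412

theorem p7r413 : allRange pointOk 22 111132 9 = true := by decide +kernel
theorem p7u413 : ∀ k, 107415 ≤ k → k < 111141 → pointOk (k * 22) = true := between_extend pointOk 22 107415 111132 9 (p7u412) p7r413

theorem p7r414 : allRange pointOk 22 111141 9 = true := by decide +kernel
theorem p7u414 : ∀ k, 107415 ≤ k → k < 111150 → pointOk (k * 22) = true := between_extend pointOk 22 107415 111141 9 (p7u413) p7r414

theorem p7r415 : allRange pointOk 22 111150 9 = true := by decide +kernel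
theorem p7u415 : ∀ k, 107415 ≤ k → k < 111159 → pointOk (k * 22) = true := between_extend pointOk 22 107415 111150 9 (p7u414) p7r415

theorem p7r416 : allRange pointOk 22 111159 9 = true := by decide +kernel
theorem p7u416 : ∀ k, 107415 ≤ k → k < 111168 → pointOk (k * 22) = true := between_extend pointOk 22 107415 111159 9 (p7u415) p7r416

theorem p7r417 : allRange pointOk 22 111168 9 = true := by decide +kernel
theorem p7u417 : ∀ k, 107415 ≤ k → k < 111177 → pointOk (k * 22) = true := between_extend pointOk 22 107415 111168 9 (p7u416) p7r417

theorem p7r418 : allRange pointOk 22 111177 9 = true := by decide +kernel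
theorem p7u418 : ∀ k, 107415 ≤ k → k < 111186 → pointOk (k * 22) = true := between_extend pointOk 22 107415 111177 9 (p7u417) p7r418

theorem p7r419 : allRange pointOk 22 111186 9 = true := by decide +kernel
theorem p7u419 : ∀ k, 107415 ≤ k → k < 111195 → pointOk (k * 22) = true := between_extend pointOk 22 107415 111186 9 (p7u418) p7r419

theorem p7r420 : allRange pointOk 22 111195 9 = true := by decide +kernel
theorem p7u420 : ∀ k, 107415 ≤ k → k < 111204 → pointOk (k * 22) = true := between_extend pointOk 22 107415 111195 9 (p7u419) p7r420

theorem p7r421 : allRange pointOk 22 111204 9 = true := by decide +kernel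
theorem p7u421 : ∀ k, 107415 ≤ k → k < 111213 → pointOk (k * 22) = true := between_extend pointOk 22 107415 111204 9 (p7u420) p7r421

theorem p7r422 : allRange pointOk 22 111213 9 = true := by decide +kernel
theorem p7u422 : ∀ k, 107415 ≤ k → k < 111222 → pointOk (k * 22) = true := between_extend pointOk 22 107415 111213 9 (p7u421) p7r422

theorem p7r423 : allRange pointOk 22 111222 9 = true := by decide +kernel
theorem p7u423 : ∀ k, 107415 ≤ k → k < 111231 → pointOk (k * 22) = true := between_extend pointOk 22 107415 111222 9 (p7u422) p7r423

theorem p7r424 : allRange pointOk 22 111231 9 = true := by decide +kernel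
theorem p7u424 : ∀ k, 107415 ≤ k → k < 111240 → pointOk (k * 22) = true := between_extend pointOk 22 107415 111231 9 (p7u423) p7r424

theorem p7r425 : allRange pointOk 22 111240 9 = true := by decide +kernel
theorem p7u425 : ∀ k, 107415 ≤ k → k < 111249 → pointOk (k * 22) = true := between_extend pointOk 22 107415 111240 9 (p7u424) p7r425

theorem p7r426 : allRange pointOk 22 111249 9 = true := by decide +kernel
theorem p7u426 : ∀ k, 107415 ≤ k → k < 111258 → pointOk (k * 22) = true := between_extend pointOk 22 107415 111249 9 (p7u425) p7r426

theorem p7r427 : allRange pointOk 22 111258 9 = true := by decide +kernel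
theorem p7u427 : ∀ k, 107415 ≤ k → k < 111267 → pointOk (k * 22) = true := between_extend pointOk 22 107415 111258 9 (p7u426) p7r427

theorem p7r428 : allRange pointOk 22 111267 9 = true := by decide +kernel
theorem p7u428 : ∀ k, 107415 ≤ k → k < 111276 → pointOk (k * 22) = true := between_extend pointOk 22 107415 111267 9 (p7u427) p7r428

theorem p7r429 : allRange pointOk 22 111276 9 = true := by decide +kernel
theorem p7u429 : ∀ k, 107415 ≤ k → k < 111285 → pointOk (k * 22) = true := between_extend pointOk 22 107415 111276 9 (p7u428) p7r429

theorem p7r430 : allRange pointOk 22 111285 9 = true := by decide +kernel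
theorem p7u430 : ∀ k, 107415 ≤ k → k < 111294 → pointOk (k * 22) = true := between_extend pointOk 22 107415 111285 9 (p7u429) p7r430

theorem p7r431 : allRange pointOk 22 111294 9 = true := by decide +kernel
theorem p7u431 : ∀ k, 107415 ≤ k → k < 111303 → pointOk (k * 22) = true := between_extend pointOk 22 107415 111294 9 (p7u430) p7r431

theorem p7r432 : allRange pointOk 22 111303 9 = true := by decide +kernel
theorem p7u432 : ∀ k, 107415 ≤ k → k < 111312 → pointOk (k * 22) = true := between_extend pointOk 22 107415 111303 9 (p7u431) p7r432

theorem p7r433 : allRange pointOk 22 111312 9 = true := by decide +kernel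
theorem p7u433 : ∀ k, 107415 ≤ k → k < 111321 → pointOk (k * 22) = true := between_extend pointOk 22 107415 111312 9 (p7u432) p7r433

theorem p7r434 : allRange pointOk 22 111321 9 = true := by decide +kernel
theorem p7u434 : ∀ k, 107415 ≤ k → k < 111330 → pointOk (k * 22) = true := between_extend pointOk 22 107415 111321 9 (p7u433) p7r434

theorem p7r435 : allRange pointOk 22 111330 9 = true := by decide +kernel
theorem p7u435 : ∀ k, 107415 ≤ k → k < 111339 → pointOk (k * 22) = true := between_extend pointOk 22 107415 111330 9 (p7u434) p7r435

theorem p7r436 : allRange pointOk 22 111339 9 = true := by decide +kernel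
theorem p7u436 : ∀ k, 107415 ≤ k → k < 111348 → pointOk (k * 22) = true := between_extend pointOk 22 107415 111339 9 (p7u435) p7r436

theorem p7r437 : allRange pointOk 22 111348 9 = true := by decide +kernel
theorem p7u437 : ∀ k, 107415 ≤ k → k < 111357 → pointOk (k * 22) = true := between_extend pointOk 22 107415 111348 9 (p7u436) p7r437

theorem p7r438 : allRange pointOk 22 111357 9 = true := by decide +kernel
theorem p7u438 : ∀ k, 107415 ≤ k → k < 111366 → pointOk (k * 22) = true := between_extend pointOk 22 107415 111357 9 (p7u437) p7r438

theorem p7r439 : allRange pointOk 22 111366 9 = true := by decide +kernel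
theorem p7u439 : ∀ k, 107415 ≤ k → k < 111375 → pointOk (k * 22) = true := between_extend pointOk 22 107415 111366 9 (p7u438) p7r439

theorem p7r440 : allRange pointOk 22 111375 9 = true := by decide +kernel
theorem p7u440 : ∀ k, 107415 ≤ k → k < 111384 → pointOk (k * 22) = true := between_extend pointOk 22 107415 111375 9 (p7u439) p7r440

theorem p7r441 : allRange pointOk 22 111384 9 = true := by decide +kernel
theorem p7u441 : ∀ k, 107415 ≤ k → k < 111393 → pointOk (k * 22) = true := between_extend pointOk 22 107415 111384 9 (p7u440) p7r441

theorem p7r442 : allRange pointOk 22 111393 9 = true := by decide +kernel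
theorem p7u442 : ∀ k, 107415 ≤ k → k < 111402 → pointOk (k * 22) = true := between_extend pointOk 22 107415 111393 9 (p7u441) p7r442

theorem p7r443 : allRange pointOk 22 111402 9 = true := by decide +kernel
theorem p7u443 : ∀ k, 107415 ≤ k → k < 111411 → pointOk (k * 22) = true := between_extend pointOk 22 107415 111402 9 (p7u442) p7r443

theorem p7r444 : allRange pointOk 22 111411 9 = true := by decide +kernel
theorem p7u444 : ∀ k, 107415 ≤ k → k < 111420 → pointOk (k * 22) = true := between_extend pointOk 22 107415 111411 9 (p7u443) p7r444

theorem p7r445 : allRange pointOk 22 111420 9 = true := by decide +kernel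
theorem p7u445 : ∀ k, 107415 ≤ k → k < 111429 → pointOk (k * 22) = true := between_extend pointOk 22 107415 111420 9 (p7u444) p7r445

theorem p7r446 : allRange pointOk 22 111429 9 = true := by decide +kernel
theorem p7u446 : ∀ k, 107415 ≤ k → k < 111438 → pointOk (k * 22) = true := between_extend pointOk 22 107415 111429 9 (p7u445) p7r446

theorem p7r447 : allRange pointOk 22 111438 9 = true := by decide +kernel
theorem p7u447 : ∀ k, 107415 ≤ k → k < 111447 → pointOk (k * 22) = true := between_extend pointOk 22 107415 111438 9 (p7u446) p7r447

theorem p7r448 : allRange pointOk 22 111447 9 = true := by decide +kernel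
theorem p7u448 : ∀ k, 107415 ≤ k → k < 111456 → pointOk (k * 22) = true := between_extend pointOk 22 107415 111447 9 (p7u447) p7r448

theorem p7r449 : allRange pointOk 22 111456 9 = true := by decide +kernel
theorem p7u449 : ∀ k, 107415 ≤ k → k < 111465 → pointOk (k * 22) = true := between_extend pointOk 22 107415 111456 9 (p7u448) p7r449

theorem p7r450 : allRange pointOk 22 111465 9 = true := by decide +kernel
theorem p7u450 : ∀ k, 107415 ≤ k → k < 111474 → pointOk (k * 22) = true := between_extend pointOk 22 107415 111465 9 (p7u449) p7r450

theorem p7r451 : allRange pointOk 22 111474 9 = true := by decide +kernel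
theorem p7u451 : ∀ k, 107415 ≤ k → k < 111483 → pointOk (k * 22) = true := between_extend pointOk 22 107415 111474 9 (p7u450) p7r451

theorem p7r452 : allRange pointOk 22 111483 9 = true := by decide +kernel
theorem p7u452 : ∀ k, 107415 ≤ k → k < 111492 → pointOk (k * 22) = true := between_extend pointOk 22 107415 111483 9 (p7u451) p7r452

theorem p7r453 : allRange pointOk 22 111492 9 = true := by decide +kernel
theorem p7u453 : ∀ k, 107415 ≤ k → k < 111501 → pointOk (k * 22) = true := between_extend pointOk 22 107415 111492 9 (p7u452) p7r453

theorem p7r454 : allRange pointOk 22 111501 9 = true := by decide +kernel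
theorem p7u454 : ∀ k, 107415 ≤ k → k < 111510 → pointOk (k * 22) = true := between_extend pointOk 22 107415 111501 9 (p7u453) p7r454

theorem p7r455 : allRange pointOk 22 111510 9 = true := by decide +kernel
theorem p7u455 : ∀ k, 107415 ≤ k → k < 111519 → pointOk (k * 22) = true := between_extend pointOk 22 107415 111510 9 (p7u454) p7r455

theorem p7r456 : allRange pointOk 22 111519 9 = true := by decide +kernel
theorem p7u456 : ∀ k, 107415 ≤ k → k < 111528 → pointOk (k * 22) = true := between_extend pointOk 22 107415 111519 9 (p7u455) p7r456

theorem p7r457 : allRange pointOk 22 111528 9 = true := by decide +kernel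
theorem p7u457 : ∀ k, 107415 ≤ k → k < 111537 → pointOk (k * 22) = true := between_extend pointOk 22 107415 111528 9 (p7u456) p7r457

theorem p7r458 : allRange pointOk 22 111537 9 = true := by decide +kernel
theorem p7u458 : ∀ k, 107415 ≤ k → k < 111546 → pointOk (k * 22) = true := between_extend pointOk 22 107415 111537 9 (p7u457) p7r458

theorem p7r459 : allRange pointOk 22 111546 9 = true := by decide +kernel
theorem p7u459 : ∀ k, 107415 ≤ k → k < 111555 → pointOk (k * 22) = true := between_extend pointOk 22 107415 111546 9 (p7u458) p7r459

theorem p7r460 : allRange pointOk 22 111555 9 = true := by decide +kernel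
theorem p7u460 : ∀ k, 107415 ≤ k → k < 111564 → pointOk (k * 22) = true := between_extend pointOk 22 107415 111555 9 (p7u459) p7r460

theorem p7r461 : allRange pointOk 22 111564 9 = true := by decide +kernel
theorem p7u461 : ∀ k, 107415 ≤ k → k < 111573 → pointOk (k * 22) = true := between_extend pointOk 22 107415 111564 9 (p7u460) p7r461

theorem p7r462 : allRange pointOk 22 111573 9 = true := by decide +kernel
theorem p7u462 : ∀ k, 107415 ≤ k → k < 111582 → pointOk (k * 22) = true := between_extend pointOk 22 107415 111573 9 (p7u461) p7r462

theorem p7r463 : allRange pointOk 22 111582 9 = true := by decide +kernel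
theorem p7u463 : ∀ k, 107415 ≤ k → k < 111591 → pointOk (k * 22) = true := between_extend pointOk 22 107415 111582 9 (p7u462) p7r463

theorem p7r464 : allRange pointOk 22 111591 9 = true := by decide +kernel
theorem p7u464 : ∀ k, 107415 ≤ k → k < 111600 → pointOk (k * 22) = true := between_extend pointOk 22 107415 111591 9 (p7u463) p7r464

theorem p7r465 : allRange pointOk 22 111600 9 = true := by decide +kernel
theorem p7u465 : ∀ k, 107415 ≤ k → k < 111609 → pointOk (k * 22) = true := between_extend pointOk 22 107415 111600 9 (p7u464) p7r465

theorem p7r466 : allRange pointOk 22 111609 9 = true := by decide +kernel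
theorem p7u466 : ∀ k, 107415 ≤ k → k < 111618 → pointOk (k * 22) = true := between_extend pointOk 22 107415 111609 9 (p7u465) p7r466

theorem p7r467 : allRange pointOk 22 111618 9 = true := by decide +kernel
theorem p7u467 : ∀ k, 107415 ≤ k → k < 111627 → pointOk (k * 22) = true := between_extend pointOk 22 107415 111618 9 (p7u466) p7r467

theorem p7r468 : allRange pointOk 22 111627 9 = true := by decide +kernel
theorem p7u468 : ∀ k, 107415 ≤ k → k < 111636 → pointOk (k * 22) = true := between_extend pointOk 22 107415 111627 9 (p7u467) p7r468

theorem p7r469 : allRange pointOk 22 111636 9 = true := by decide +kernel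
theorem p7u469 : ∀ k, 107415 ≤ k → k < 111645 → pointOk (k * 22) = true := between_extend pointOk 22 107415 111636 9 (p7u468) p7r469

theorem p7r470 : allRange pointOk 22 111645 9 = true := by decide +kernel
theorem p7u470 : ∀ k, 107415 ≤ k → k < 111654 → pointOk (k * 22) = true := between_extend pointOk 22 107415 111645 9 (p7u469) p7r470

theorem p7r471 : allRange pointOk 22 111654 9 = true := by decide +kernel
theorem p7u471 : ∀ k, 107415 ≤ k → k < 111663 → pointOk (k * 22) = true := between_extend pointOk 22 107415 111654 9 (p7u470) p7r471

theorem p7r472 : allRange pointOk 22 111663 9 = true := by decide +kernel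
theorem p7u472 : ∀ k, 107415 ≤ k → k < 111672 → pointOk (k * 22) = true := between_extend pointOk 22 107415 111663 9 (p7u471) p7r472

theorem p7r473 : allRange pointOk 22 111672 9 = true := by decide +kernel
theorem p7u473 : ∀ k, 107415 ≤ k → k < 111681 → pointOk (k * 22) = true := between_extend pointOk 22 107415 111672 9 (p7u472) p7r473

theorem p7r474 : allRange pointOk 22 111681 9 = true := by decide +kernel
theorem p7u474 : ∀ k, 107415 ≤ k → k < 111690 → pointOk (k * 22) = true := between_extend pointOk 22 107415 111681 9 (p7u473) p7r474

theorem p7r475 : allRange pointOk 22 111690 9 = true := by decide +kernel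
theorem p7u475 : ∀ k, 107415 ≤ k → k < 111699 → pointOk (k * 22) = true := between_extend pointOk 22 107415 111690 9 (p7u474) p7r475

theorem p7r476 : allRange pointOk 22 111699 9 = true := by decide +kernel
theorem p7u476 : ∀ k, 107415 ≤ k → k < 111708 → pointOk (k * 22) = true := between_extend pointOk 22 107415 111699 9 (p7u475) p7r476

theorem p7r477 : allRange pointOk 22 111708 9 = true := by decide +kernel
theorem p7u477 : ∀ k, 107415 ≤ k → k < 111717 → pointOk (k * 22) = true := between_extend pointOk 22 107415 111708 9 (p7u476) p7r477

theorem p7r478 : allRange pointOk 22 111717 9 = true := by decide +kernel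
theorem p7u478 : ∀ k, 107415 ≤ k → k < 111726 → pointOk (k * 22) = true := between_extend pointOk 22 107415 111717 9 (p7u477) p7r478

theorem p7r479 : allRange pointOk 22 111726 9 = true := by decide +kernel
theorem p7u479 : ∀ k, 107415 ≤ k → k < 111735 → pointOk (k * 22) = true := between_extend pointOk 22 107415 111726 9 (p7u478) p7r479

theorem p7r480 : allRange pointOk 22 111735 9 = true := by decide +kernel
theorem p7u480 : ∀ k, 107415 ≤ k → k < 111744 → pointOk (k * 22) = true := between_extend pointOk 22 107415 111735 9 (p7u479) p7r480

theorem p7r481 : allRange pointOk 22 111744 9 = true := by decide +kernel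
theorem p7u481 : ∀ k, 107415 ≤ k → k < 111753 → pointOk (k * 22) = true := between_extend pointOk 22 107415 111744 9 (p7u480) p7r481

theorem p7r482 : allRange pointOk 22 111753 9 = true := by decide +kernel
theorem p7u482 : ∀ k, 107415 ≤ k → k < 111762 → pointOk (k * 22) = true := between_extend pointOk 22 107415 111753 9 (p7u481) p7r482

theorem p7r483 : allRange pointOk 22 111762 9 = true := by decide +kernel
theorem p7u483 : ∀ k, 107415 ≤ k → k < 111771 → pointOk (k * 22) = true := between_extend pointOk 22 107415 111762 9 (p7u482) p7r483

theorem p7r484 : allRange pointOk 22 111771 9 = true := by decide +kernel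
theorem p7u484 : ∀ k, 107415 ≤ k → k < 111780 → pointOk (k * 22) = true := between_extend pointOk 22 107415 111771 9 (p7u483) p7r484

theorem p7r485 : allRange pointOk 22 111780 9 = true := by decide +kernel
theorem p7u485 : ∀ k, 107415 ≤ k → k < 111789 → pointOk (k * 22) = true := between_extend pointOk 22 107415 111780 9 (p7u484) p7r485

theorem p7r486 : allRange pointOk 22 111789 9 = true := by decide +kernel
theorem p7u486 : ∀ k, 107415 ≤ k → k < 111798 → pointOk (k * 22) = true := between_extend pointOk 22 107415 111789 9 (p7u485) p7r486

theorem p7r487 : allRange pointOk 22 111798 9 = true := by decide +kernel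
theorem p7u487 : ∀ k, 107415 ≤ k → k < 111807 → pointOk (k * 22) = true := between_extend pointOk 22 107415 111798 9 (p7u486) p7r487

theorem p7r488 : allRange pointOk 22 111807 9 = true := by decide +kernel
theorem p7u488 : ∀ k, 107415 ≤ k → k < 111816 → pointOk (k * 22) = true := between_extend pointOk 22 107415 111807 9 (p7u487) p7r488

theorem p7r489 : allRange pointOk 22 111816 9 = true := by decide +kernel
theorem p7u489 : ∀ k, 107415 ≤ k → k < 111825 → pointOk (k * 22) = true := between_extend pointOk 22 107415 111816 9 (p7u488) p7r489

theorem p7r490 : allRange pointOk 22 111825 9 = true := by decide +kernel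
theorem p7u490 : ∀ k, 107415 ≤ k → k < 111834 → pointOk (k * 22) = true := between_extend pointOk 22 107415 111825 9 (p7u489) p7r490

theorem p7r491 : allRange pointOk 22 111834 9 = true := by decide +kernel
theorem p7u491 : ∀ k, 107415 ≤ k → k < 111843 → pointOk (k * 22) = true := between_extend pointOk 22 107415 111834 9 (p7u490) p7r491

theorem p7r492 : allRange pointOk 22 111843 9 = true := by decide +kernel
theorem p7u492 : ∀ k, 107415 ≤ k → k < 111852 → pointOk (k * 22) = true := between_extend pointOk 22 107415 111843 9 (p7u491) p7r492

theorem p7r493 : allRange pointOk 22 111852 9 = true := by decide +kernel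
theorem p7u493 : ∀ k, 107415 ≤ k → k < 111861 → pointOk (k * 22) = true := between_extend pointOk 22 107415 111852 9 (p7u492) p7r493

theorem p7r494 : allRange pointOk 22 111861 9 = true := by decide +kernel
theorem p7u494 : ∀ k, 107415 ≤ k → k < 111870 → pointOk (k * 22) = true := between_extend pointOk 22 107415 111861 9 (p7u493) p7r494

theorem p7r495 : allRange pointOk 22 111870 9 = true := by decide +kernel
theorem p7u495 : ∀ k, 107415 ≤ k → k < 111879 → pointOk (k * 22) = true := between_extend pointOk 22 107415 111870 9 (p7u494) p7r495

theorem p7r496 : allRange pointOk 22 111879 9 = true := by decide +kernel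
theorem p7u496 : ∀ k, 107415 ≤ k → k < 111888 → pointOk (k * 22) = true := between_extend pointOk 22 107415 111879 9 (p7u495) p7r496

theorem p7r497 : allRange pointOk 22 111888 9 = true := by decide +kernel
theorem p7u497 : ∀ k, 107415 ≤ k → k < 111897 → pointOk (k * 22) = true := between_extend pointOk 22 107415 111888 9 (p7u496) p7r497

theorem p7r498 : allRange pointOk 22 111897 9 = true := by decide +kernel
theorem p7u498 : ∀ k, 107415 ≤ k → k < 111906 → pointOk (k * 22) = true := between_extend pointOk 22 107415 111897 9 (p7u497) p7r498

theorem p7r499 : allRange pointOk 22 111906 9 = true := by decide +kernel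
theorem p7u499 : ∀ k, 107415 ≤ k → k < 111915 → pointOk (k * 22) = true := between_extend pointOk 22 107415 111906 9 (p7u498) p7r499

theorem p7r500 : allRange pointOk 22 111915 9 = true := by decide +kernel
theorem p7u500 : ∀ k, 107415 ≤ k → k < 111924 → pointOk (k * 22) = true := between_extend pointOk 22 107415 111915 9 (p7u499) p7r500

theorem p7r501 : allRange pointOk 22 111924 9 = true := by decide +kernel
theorem p7u501 : ∀ k, 107415 ≤ k → k < 111933 → pointOk (k * 22) = true := between_extend pointOk 22 107415 111924 9 (p7u500) p7r501

theorem p7r502 : allRange pointOk 22 111933 9 = true := by decide +kernel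
theorem p7u502 : ∀ k, 107415 ≤ k → k < 111942 → pointOk (k * 22) = true := between_extend pointOk 22 107415 111933 9 (p7u501) p7r502

theorem p7r503 : allRange pointOk 22 111942 9 = true := by decide +kernel
theorem p7u503 : ∀ k, 107415 ≤ k → k < 111951 → pointOk (k * 22) = true := between_extend pointOk 22 107415 111942 9 (p7u502) p7r503

theorem p7r504 : allRange pointOk 22 111951 9 = true := by decide +kernel
theorem p7u504 : ∀ k, 107415 ≤ k → k < 111960 → pointOk (k * 22) = true := between_extend pointOk 22 107415 111951 9 (p7u503) p7r504

theorem p7r505 : allRange pointOk 22 111960 9 = true := by decide +kernel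
theorem p7u505 : ∀ k, 107415 ≤ k → k < 111969 → pointOk (k * 22) = true := between_extend pointOk 22 107415 111960 9 (p7u504) p7r505

theorem p7r506 : allRange pointOk 22 111969 9 = true := by decide +kernel
theorem p7u506 : ∀ k, 107415 ≤ k → k < 111978 → pointOk (k * 22) = true := between_extend pointOk 22 107415 111969 9 (p7u505) p7r506

theorem p7r507 : allRange pointOk 22 111978 9 = true := by decide +kernel
theorem p7u507 : ∀ k, 107415 ≤ k → k < 111987 → pointOk (k * 22) = true := between_extend pointOk 22 107415 111978 9 (p7u506) p7r507

theorem p7r508 : allRange pointOk 22 111987 9 = true := by decide +kernel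
theorem p7u508 : ∀ k, 107415 ≤ k → k < 111996 → pointOk (k * 22) = true := between_extend pointOk 22 107415 111987 9 (p7u507) p7r508

theorem p7r509 : allRange pointOk 22 111996 9 = true := by decide +kernel
theorem p7u509 : ∀ k, 107415 ≤ k → k < 112005 → pointOk (k * 22) = true := between_extend pointOk 22 107415 111996 9 (p7u508) p7r509

theorem p7r510 : allRange pointOk 22 112005 9 = true := by decide +kernel
theorem p7u510 : ∀ k, 107415 ≤ k → k < 112014 → pointOk (k * 22) = true := between_extend pointOk 22 107415 112005 9 (p7u509) p7r510

theorem p7r511 : allRange pointOk 22 112014 9 = true := by decide +kernel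
theorem p7u511 : ∀ k, 107415 ≤ k → k < 112023 → pointOk (k * 22) = true := between_extend pointOk 22 107415 112014 9 (p7u510) p7r511

theorem p7r512 : allRange pointOk 22 112023 9 = true := by decide +kernel
theorem p7u512 : ∀ k, 107415 ≤ k → k < 112032 → pointOk (k * 22) = true := between_extend pointOk 22 107415 112023 9 (p7u511) p7r512

theorem p7r513 : allRange pointOk 22 112032 9 = true := by decide +kernel
theorem p7u513 : ∀ k, 107415 ≤ k → k < 112041 → pointOk (k * 22) = true := between_extend pointOk 22 107415 112032 9 (p7u512) p7r513

theorem p7r514 : allRange pointOk 22 112041 9 = true := by decide +kernel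
theorem p7u514 : ∀ k, 107415 ≤ k → k < 112050 → pointOk (k * 22) = true := between_extend pointOk 22 107415 112041 9 (p7u513) p7r514

theorem p7r515 : allRange pointOk 22 112050 9 = true := by decide +kernel
theorem p7u515 : ∀ k, 107415 ≤ k → k < 112059 → pointOk (k * 22) = true := between_extend pointOk 22 107415 112050 9 (p7u514) p7r515

theorem p7r516 : allRange pointOk 22 112059 9 = true := by decide +kernel
theorem p7u516 : ∀ k, 107415 ≤ k → k < 112068 → pointOk (k * 22) = true := between_extend pointOk 22 107415 112059 9 (p7u515) p7r516

theorem p7r517 : allRange pointOk 22 112068 9 = true := by decide +kernel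
theorem p7u517 : ∀ k, 107415 ≤ k → k < 112077 → pointOk (k * 22) = true := between_extend pointOk 22 107415 112068 9 (p7u516) p7r517

theorem p7r518 : allRange pointOk 22 112077 9 = true := by decide +kernel
theorem p7u518 : ∀ k, 107415 ≤ k → k < 112086 → pointOk (k * 22) = true := between_extend pointOk 22 107415 112077 9 (p7u517) p7r518

theorem p7r519 : allRange pointOk 22 112086 9 = true := by decide +kernel
theorem p7u519 : ∀ k, 107415 ≤ k → k < 112095 → pointOk (k * 22) = true := between_extend pointOk 22 107415 112086 9 (p7u518) p7r519

theorem p7r520 : allRange pointOk 22 112095 9 = true := by decide +kernel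
theorem p7u520 : ∀ k, 107415 ≤ k → k < 112104 → pointOk (k * 22) = true := between_extend pointOk 22 107415 112095 9 (p7u519) p7r520

theorem p7r521 : allRange pointOk 22 112104 9 = true := by decide +kernel
theorem p7u521 : ∀ k, 107415 ≤ k → k < 112113 → pointOk (k * 22) = true := between_extend pointOk 22 107415 112104 9 (p7u520) p7r521

theorem p7r522 : allRange pointOk 22 112113 9 = true := by decide +kernel
theorem p7u522 : ∀ k, 107415 ≤ k → k < 112122 → pointOk (k * 22) = true := between_extend pointOk 22 107415 112113 9 (p7u521) p7r522

theorem p7r523 : allRange pointOk 22 112122 9 = true := by decide +kernel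
theorem p7u523 : ∀ k, 107415 ≤ k → k < 112131 → pointOk (k * 22) = true := between_extend pointOk 22 107415 112122 9 (p7u522) p7r523

theorem p7r524 : allRange pointOk 22 112131 9 = true := by decide +kernel
theorem p7u524 : ∀ k, 107415 ≤ k → k < 112140 → pointOk (k * 22) = true := between_extend pointOk 22 107415 112131 9 (p7u523) p7r524

theorem p7r525 : allRange pointOk 22 112140 9 = true := by decide +kernel
theorem p7u525 : ∀ k, 107415 ≤ k → k < 112149 → pointOk (k * 22) = true := between_extend pointOk 22 107415 112140 9 (p7u524) p7r525

theorem p7r526 : allRange pointOk 22 112149 9 = true := by decide +kernel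
theorem p7u526 : ∀ k, 107415 ≤ k → k < 112158 → pointOk (k * 22) = true := between_extend pointOk 22 107415 112149 9 (p7u525) p7r526

theorem p7r527 : allRange pointOk 22 112158 9 = true := by decide +kernel
theorem p7u527 : ∀ k, 107415 ≤ k → k < 112167 → pointOk (k * 22) = true := between_extend pointOk 22 107415 112158 9 (p7u526) p7r527

theorem p7r528 : allRange pointOk 22 112167 9 = true := by decide +kernel
theorem p7u528 : ∀ k, 107415 ≤ k → k < 112176 → pointOk (k * 22) = true := between_extend pointOk 22 107415 112167 9 (p7u527) p7r528

theorem p7r529 : allRange pointOk 22 112176 9 = true := by decide +kernel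
theorem p7u529 : ∀ k, 107415 ≤ k → k < 112185 → pointOk (k * 22) = true := between_extend pointOk 22 107415 112176 9 (p7u528) p7r529

theorem p7r530 : allRange pointOk 22 112185 9 = true := by decide +kernel
theorem p7u530 : ∀ k, 107415 ≤ k → k < 112194 → pointOk (k * 22) = true := between_extend pointOk 22 107415 112185 9 (p7u529) p7r530

theorem p7r531 : allRange pointOk 22 112194 9 = true := by decide +kernel
theorem p7u531 : ∀ k, 107415 ≤ k → k < 112203 → pointOk (k * 22) = true := between_extend pointOk 22 107415 112194 9 (p7u530) p7r531

theorem p7r532 : allRange pointOk 22 112203 9 = true := by decide +kernel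
theorem p7u532 : ∀ k, 107415 ≤ k → k < 112212 → pointOk (k * 22) = true := between_extend pointOk 22 107415 112203 9 (p7u531) p7r532

theorem p7r533 : allRange pointOk 22 112212 9 = true := by decide +kernel
theorem p7u533 : ∀ k, 107415 ≤ k → k < 112221 → pointOk (k * 22) = true := between_extend pointOk 22 107415 112212 9 (p7u532) p7r533

theorem p7r534 : allRange pointOk 22 112221 9 = true := by decide +kernel
theorem p7u534 : ∀ k, 107415 ≤ k → k < 112230 → pointOk (k * 22) = true := between_extend pointOk 22 107415 112221 9 (p7u533) p7r534

theorem p7r535 : allRange pointOk 22 112230 9 = true := by decide +kernel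
theorem p7u535 : ∀ k, 107415 ≤ k → k < 112239 → pointOk (k * 22) = true := between_extend pointOk 22 107415 112230 9 (p7u534) p7r535

theorem p7r536 : allRange pointOk 22 112239 9 = true := by decide +kernel
theorem p7u536 : ∀ k, 107415 ≤ k → k < 112248 → pointOk (k * 22) = true := between_extend pointOk 22 107415 112239 9 (p7u535) p7r536

theorem p7r537 : allRange pointOk 22 112248 9 = true := by decide +kernel
theorem p7u537 : ∀ k, 107415 ≤ k → k < 112257 → pointOk (k * 22) = true := between_extend pointOk 22 107415 112248 9 (p7u536) p7r537

theorem p7r538 : allRange pointOk 22 112257 9 = true := by decide +kernel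
theorem p7u538 : ∀ k, 107415 ≤ k → k < 112266 → pointOk (k * 22) = true := between_extend pointOk 22 107415 112257 9 (p7u537) p7r538

theorem p7r539 : allRange pointOk 22 112266 9 = true := by decide +kernel
theorem p7u539 : ∀ k, 107415 ≤ k → k < 112275 → pointOk (k * 22) = true := between_extend pointOk 22 107415 112266 9 (p7u538) p7r539

theorem p7r540 : allRange pointOk 22 112275 9 = true := by decide +kernel
theorem p7u540 : ∀ k, 107415 ≤ k → k < 112284 → pointOk (k * 22) = true := between_extend pointOk 22 107415 112275 9 (p7u539) p7r540

theorem p7r541 : allRange pointOk 22 112284 9 = true := by decide +kernel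
theorem p7u541 : ∀ k, 107415 ≤ k → k < 112293 → pointOk (k * 22) = true := between_extend pointOk 22 107415 112284 9 (p7u540) p7r541

theorem p7r542 : allRange pointOk 22 112293 9 = true := by decide +kernel
theorem p7u542 : ∀ k, 107415 ≤ k → k < 112302 → pointOk (k * 22) = true := between_extend pointOk 22 107415 112293 9 (p7u541) p7r542

theorem p7r543 : allRange pointOk 22 112302 9 = true := by decide +kernel
theorem p7u543 : ∀ k, 107415 ≤ k → k < 112311 → pointOk (k * 22) = true := between_extend pointOk 22 107415 112302 9 (p7u542) p7r543

theorem p7r544 : allRange pointOk 22 112311 9 = true := by decide +kernel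
theorem p7u544 : ∀ k, 107415 ≤ k → k < 112320 → pointOk (k * 22) = true := between_extend pointOk 22 107415 112311 9 (p7u543) p7r544

theorem p7r545 : allRange pointOk 22 112320 9 = true := by decide +kernel
theorem p7u545 : ∀ k, 107415 ≤ k → k < 112329 → pointOk (k * 22) = true := between_extend pointOk 22 107415 112320 9 (p7u544) p7r545

theorem p7r546 : allRange pointOk 22 112329 9 = true := by decide +kernel
theorem p7u546 : ∀ k, 107415 ≤ k → k < 112338 → pointOk (k * 22) = true := between_extend pointOk 22 107415 112329 9 (p7u545) p7r546

theorem p7r547 : allRange pointOk 22 112338 9 = true := by decide +kernel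
theorem p7u547 : ∀ k, 107415 ≤ k → k < 112347 → pointOk (k * 22) = true := between_extend pointOk 22 107415 112338 9 (p7u546) p7r547

theorem p7r548 : allRange pointOk 22 112347 9 = true := by decide +kernel
theorem p7u548 : ∀ k, 107415 ≤ k → k < 112356 → pointOk (k * 22) = true := between_extend pointOk 22 107415 112347 9 (p7u547) p7r548

theorem p7r549 : allRange pointOk 22 112356 9 = true := by decide +kernel
theorem p7u549 : ∀ k, 107415 ≤ k → k < 112365 → pointOk (k * 22) = true := between_extend pointOk 22 107415 112356 9 (p7u548) p7r549

theorem p7r550 : allRange pointOk 22 112365 9 = true := by decide +kernel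
theorem p7u550 : ∀ k, 107415 ≤ k → k < 112374 → pointOk (k * 22) = true := between_extend pointOk 22 107415 112365 9 (p7u549) p7r550

theorem p7r551 : allRange pointOk 22 112374 9 = true := by decide +kernel
theorem p7u551 : ∀ k, 107415 ≤ k → k < 112383 → pointOk (k * 22) = true := between_extend pointOk 22 107415 112374 9 (p7u550) p7r551

theorem p7r552 : allRange pointOk 22 112383 9 = true := by decide +kernel
theorem p7u552 : ∀ k, 107415 ≤ k → k < 112392 → pointOk (k * 22) = true := between_extend pointOk 22 107415 112383 9 (p7u551) p7r552

theorem p7r553 : allRange pointOk 22 112392 9 = true := by decide +kernel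
theorem p7u553 : ∀ k, 107415 ≤ k → k < 112401 → pointOk (k * 22) = true := between_extend pointOk 22 107415 112392 9 (p7u552) p7r553

theorem p7r554 : allRange pointOk 22 112401 9 = true := by decide +kernel
theorem p7u554 : ∀ k, 107415 ≤ k → k < 112410 → pointOk (k * 22) = true := between_extend pointOk 22 107415 112401 9 (p7u553) p7r554

theorem p7r555 : allRange pointOk 22 112410 9 = true := by decide +kernel
theorem p7u555 : ∀ k, 107415 ≤ k → k < 112419 → pointOk (k * 22) = true := between_extend pointOk 22 107415 112410 9 (p7u554) p7r555

theorem p7r556 : allRange pointOk 22 112419 9 = true := by decide +kernel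
theorem p7u556 : ∀ k, 107415 ≤ k → k < 112428 → pointOk (k * 22) = true := between_extend pointOk 22 107415 112419 9 (p7u555) p7r556

theorem p7r557 : allRange pointOk 22 112428 9 = true := by decide +kernel
theorem p7u557 : ∀ k, 107415 ≤ k → k < 112437 → pointOk (k * 22) = true := between_extend pointOk 22 107415 112428 9 (p7u556) p7r557

theorem p7r558 : allRange pointOk 22 112437 9 = true := by decide +kernel
theorem p7u558 : ∀ k, 107415 ≤ k → k < 112446 → pointOk (k * 22) = true := between_extend pointOk 22 107415 112437 9 (p7u557) p7r558

theorem p7r559 : allRange pointOk 22 112446 9 = true := by decide +kernel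
theorem p7u559 : ∀ k, 107415 ≤ k → k < 112455 → pointOk (k * 22) = true := between_extend pointOk 22 107415 112446 9 (p7u558) p7r559

theorem p7r560 : allRange pointOk 22 112455 9 = true := by decide +kernel
theorem p7u560 : ∀ k, 107415 ≤ k → k < 112464 → pointOk (k * 22) = true := between_extend pointOk 22 107415 112455 9 (p7u559) p7r560

theorem p7r561 : allRange pointOk 22 112464 9 = true := by decide +kernel
theorem p7u561 : ∀ k, 107415 ≤ k → k < 112473 → pointOk (k * 22) = true := between_extend pointOk 22 107415 112464 9 (p7u560) p7r561

theorem p7r562 : allRange pointOk 22 112473 9 = true := by decide +kernel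
theorem p7u562 : ∀ k, 107415 ≤ k → k < 112482 → pointOk (k * 22) = true := between_extend pointOk 22 107415 112473 9 (p7u561) p7r562

theorem p7r563 : allRange pointOk 22 112482 9 = true := by decide +kernel
theorem p7u563 : ∀ k, 107415 ≤ k → k < 112491 → pointOk (k * 22) = true := between_extend pointOk 22 107415 112482 9 (p7u562) p7r563

theorem p7r564 : allRange pointOk 22 112491 9 = true := by decide +kernel
theorem p7u564 : ∀ k, 107415 ≤ k → k < 112500 → pointOk (k * 22) = true := between_extend pointOk 22 107415 112491 9 (p7u563) p7r564

theorem p7r565 : allRange pointOk 22 112500 9 = true := by decide +kernel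
theorem p7u565 : ∀ k, 107415 ≤ k → k < 112509 → pointOk (k * 22) = true := between_extend pointOk 22 107415 112500 9 (p7u564) p7r565

theorem p7r566 : allRange pointOk 22 112509 9 = true := by decide +kernel
theorem p7u566 : ∀ k, 107415 ≤ k → k < 112518 → pointOk (k * 22) = true := between_extend pointOk 22 107415 112509 9 (p7u565) p7r566

theorem p7r567 : allRange pointOk 22 112518 9 = true := by decide +kernel
theorem p7u567 : ∀ k, 107415 ≤ k → k < 112527 → pointOk (k * 22) = true := between_extend pointOk 22 107415 112518 9 (p7u566) p7r567

theorem p7r568 : allRange pointOk 22 112527 9 = true := by decide +kernel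
theorem p7u568 : ∀ k, 107415 ≤ k → k < 112536 → pointOk (k * 22) = true := between_extend pointOk 22 107415 112527 9 (p7u567) p7r568

theorem p7r569 : allRange pointOk 22 112536 9 = true := by decide +kernel
theorem p7u569 : ∀ k, 107415 ≤ k → k < 112545 → pointOk (k * 22) = true := between_extend pointOk 22 107415 112536 9 (p7u568) p7r569

theorem p7r570 : allRange pointOk 22 112545 9 = true := by decide +kernel
theorem p7u570 : ∀ k, 107415 ≤ k → k < 112554 → pointOk (k * 22) = true := between_extend pointOk 22 107415 112545 9 (p7u569) p7r570

theorem p7r571 : allRange pointOk 22 112554 9 = true := by decide +kernel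
theorem p7u571 : ∀ k, 107415 ≤ k → k < 112563 → pointOk (k * 22) = true := between_extend pointOk 22 107415 112554 9 (p7u570) p7r571

theorem p7r572 : allRange pointOk 22 112563 9 = true := by decide +kernel
theorem p7u572 : ∀ k, 107415 ≤ k → k < 112572 → pointOk (k * 22) = true := between_extend pointOk 22 107415 112563 9 (p7u571) p7r572

theorem p7r573 : allRange pointOk 22 112572 9 = true := by decide +kernel
theorem p7u573 : ∀ k, 107415 ≤ k → k < 112581 → pointOk (k * 22) = true := between_extend pointOk 22 107415 112572 9 (p7u572) p7r573

theorem p7r574 : allRange pointOk 22 112581 9 = true := by decide +kernel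
theorem p7u574 : ∀ k, 107415 ≤ k → k < 112590 → pointOk (k * 22) = true := between_extend pointOk 22 107415 112581 9 (p7u573) p7r574

theorem p7r575 : allRange pointOk 22 112590 9 = true := by decide +kernel
theorem p7u575 : ∀ k, 107415 ≤ k → k < 112599 → pointOk (k * 22) = true := between_extend pointOk 22 107415 112590 9 (p7u574) p7r575

theorem p7r576 : allRange pointOk 22 112599 9 = true := by decide +kernel
theorem p7u576 : ∀ k, 107415 ≤ k → k < 112608 → pointOk (k * 22) = true := between_extend pointOk 22 107415 112599 9 (p7u575) p7r576

theorem p7r577 : allRange pointOk 22 112608 9 = true := by decide +kernel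
theorem p7u577 : ∀ k, 107415 ≤ k → k < 112617 → pointOk (k * 22) = true := between_extend pointOk 22 107415 112608 9 (p7u576) p7r577

theorem p7r578 : allRange pointOk 22 112617 9 = true := by decide +kernel
theorem p7u578 : ∀ k, 107415 ≤ k → k < 112626 → pointOk (k * 22) = true := between_extend pointOk 22 107415 112617 9 (p7u577) p7r578

theorem p7r579 : allRange pointOk 22 112626 9 = true := by decide +kernel
theorem p7u579 : ∀ k, 107415 ≤ k → k < 112635 → pointOk (k * 22) = true := between_extend pointOk 22 107415 112626 9 (p7u578) p7r579

theorem p7r580 : allRange pointOk 22 112635 9 = true := by decide +kernel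
theorem p7u580 : ∀ k, 107415 ≤ k → k < 112644 → pointOk (k * 22) = true := between_extend pointOk 22 107415 112635 9 (p7u579) p7r580

theorem p7r581 : allRange pointOk 22 112644 9 = true := by decide +kernel
theorem p7u581 : ∀ k, 107415 ≤ k → k < 112653 → pointOk (k * 22) = true := between_extend pointOk 22 107415 112644 9 (p7u580) p7r581

theorem p7r582 : allRange pointOk 22 112653 9 = true := by decide +kernel
theorem p7u582 : ∀ k, 107415 ≤ k → k < 112662 → pointOk (k * 22) = true := between_extend pointOk 22 107415 112653 9 (p7u581) p7r582

theorem p7r583 : allRange pointOk 22 112662 9 = true := by decide +kernel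
theorem p7u583 : ∀ k, 107415 ≤ k → k < 112671 → pointOk (k * 22) = true := between_extend pointOk 22 107415 112662 9 (p7u582) p7r583

theorem p7r584 : allRange pointOk 22 112671 9 = true := by decide +kernel
theorem p7u584 : ∀ k, 107415 ≤ k → k < 112680 → pointOk (k * 22) = true := between_extend pointOk 22 107415 112671 9 (p7u583) p7r584

theorem p7r585 : allRange pointOk 22 112680 9 = true := by decide +kernel
theorem p7u585 : ∀ k, 107415 ≤ k → k < 112689 → pointOk (k * 22) = true := between_extend pointOk 22 107415 112680 9 (p7u584) p7r585

theorem p7r586 : allRange pointOk 22 112689 9 = true := by decide +kernel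
theorem p7u586 : ∀ k, 107415 ≤ k → k < 112698 → pointOk (k * 22) = true := between_extend pointOk 22 107415 112689 9 (p7u585) p7r586

theorem p7r587 : allRange pointOk 22 112698 9 = true := by decide +kernel
theorem p7u587 : ∀ k, 107415 ≤ k → k < 112707 → pointOk (k * 22) = true := between_extend pointOk 22 107415 112698 9 (p7u586) p7r587

theorem p7r588 : allRange pointOk 22 112707 9 = true := by decide +kernel
theorem p7u588 : ∀ k, 107415 ≤ k → k < 112716 → pointOk (k * 22) = true := between_extend pointOk 22 107415 112707 9 (p7u587) p7r588

theorem p7r589 : allRange pointOk 22 112716 9 = true := by decide +kernel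
theorem p7u589 : ∀ k, 107415 ≤ k → k < 112725 → pointOk (k * 22) = true := between_extend pointOk 22 107415 112716 9 (p7u588) p7r589

theorem p7r590 : allRange pointOk 22 112725 9 = true := by decide +kernel
theorem p7u590 : ∀ k, 107415 ≤ k → k < 112734 → pointOk (k * 22) = true := between_extend pointOk 22 107415 112725 9 (p7u589) p7r590

theorem p7r591 : allRange pointOk 22 112734 9 = true := by decide +kernel
theorem p7u591 : ∀ k, 107415 ≤ k → k < 112743 → pointOk (k * 22) = true := between_extend pointOk 22 107415 112734 9 (p7u590) p7r591

theorem p7r592 : allRange pointOk 22 112743 9 = true := by decide +kernel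
theorem p7u592 : ∀ k, 107415 ≤ k → k < 112752 → pointOk (k * 22) = true := between_extend pointOk 22 107415 112743 9 (p7u591) p7r592

theorem p7r593 : allRange pointOk 22 112752 9 = true := by decide +kernel
theorem p7u593 : ∀ k, 107415 ≤ k → k < 112761 → pointOk (k * 22) = true := between_extend pointOk 22 107415 112752 9 (p7u592) p7r593

theorem p7r594 : allRange pointOk 22 112761 9 = true := by decide +kernel
theorem p7u594 : ∀ k, 107415 ≤ k → k < 112770 → pointOk (k * 22) = true := between_extend pointOk 22 107415 112761 9 (p7u593) p7r594

theorem p7r595 : allRange pointOk 22 112770 9 = true := by decide +kernel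
theorem p7u595 : ∀ k, 107415 ≤ k → k < 112779 → pointOk (k * 22) = true := between_extend pointOk 22 107415 112770 9 (p7u594) p7r595

theorem p7r596 : allRange pointOk 22 112779 9 = true := by decide +kernel
theorem p7u596 : ∀ k, 107415 ≤ k → k < 112788 → pointOk (k * 22) = true := between_extend pointOk 22 107415 112779 9 (p7u595) p7r596

theorem p7r597 : allRange pointOk 22 112788 9 = true := by decide +kernel
theorem p7u597 : ∀ k, 107415 ≤ k → k < 112797 → pointOk (k * 22) = true := between_extend pointOk 22 107415 112788 9 (p7u596) p7r597

theorem p7r598 : allRange pointOk 22 112797 9 = true := by decide +kernel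
theorem p7u598 : ∀ k, 107415 ≤ k → k < 112806 → pointOk (k * 22) = true := between_extend pointOk 22 107415 112797 9 (p7u597) p7r598

theorem p7r599 : allRange pointOk 22 112806 9 = true := by decide +kernel
theorem p7u599 : ∀ k, 107415 ≤ k → k < 112815 → pointOk (k * 22) = true := between_extend pointOk 22 107415 112806 9 (p7u598) p7r599

theorem p7r600 : allRange pointOk 22 112815 9 = true := by decide +kernel
theorem p7u600 : ∀ k, 107415 ≤ k → k < 112824 → pointOk (k * 22) = true := between_extend pointOk 22 107415 112815 9 (p7u599) p7r600

theorem p7r601 : allRange pointOk 22 112824 9 = true := by decide +kernel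
theorem p7u601 : ∀ k, 107415 ≤ k → k < 112833 → pointOk (k * 22) = true := between_extend pointOk 22 107415 112824 9 (p7u600) p7r601

theorem p7r602 : allRange pointOk 22 112833 9 = true := by decide +kernel
theorem p7u602 : ∀ k, 107415 ≤ k → k < 112842 → pointOk (k * 22) = true := between_extend pointOk 22 107415 112833 9 (p7u601) p7r602

theorem p7r603 : allRange pointOk 22 112842 9 = true := by decide +kernel
theorem p7u603 : ∀ k, 107415 ≤ k → k < 112851 → pointOk (k * 22) = true := between_extend pointOk 22 107415 112842 9 (p7u602) p7r603

theorem p7r604 : allRange pointOk 22 112851 9 = true := by decide +kernel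
theorem p7u604 : ∀ k, 107415 ≤ k → k < 112860 → pointOk (k * 22) = true := between_extend pointOk 22 107415 112851 9 (p7u603) p7r604

theorem p7r605 : allRange pointOk 22 112860 9 = true := by decide +kernel
theorem p7u605 : ∀ k, 107415 ≤ k → k < 112869 → pointOk (k * 22) = true := between_extend pointOk 22 107415 112860 9 (p7u604) p7r605

theorem p7r606 : allRange pointOk 22 112869 9 = true := by decide +kernel
theorem p7u606 : ∀ k, 107415 ≤ k → k < 112878 → pointOk (k * 22) = true := between_extend pointOk 22 107415 112869 9 (p7u605) p7r606

theorem p7r607 : allRange pointOk 22 112878 9 = true := by decide +kernel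
theorem p7u607 : ∀ k, 107415 ≤ k → k < 112887 → pointOk (k * 22) = true := between_extend pointOk 22 107415 112878 9 (p7u606) p7r607

theorem p7r608 : allRange pointOk 22 112887 9 = true := by decide +kernel
theorem p7u608 : ∀ k, 107415 ≤ k → k < 112896 → pointOk (k * 22) = true := between_extend pointOk 22 107415 112887 9 (p7u607) p7r608

theorem p7r609 : allRange pointOk 22 112896 9 = true := by decide +kernel
theorem p7u609 : ∀ k, 107415 ≤ k → k < 112905 → pointOk (k * 22) = true := between_extend pointOk 22 107415 112896 9 (p7u608) p7r609

theorem p7r610 : allRange pointOk 22 112905 9 = true := by decide +kernel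
theorem p7u610 : ∀ k, 107415 ≤ k → k < 112914 → pointOk (k * 22) = true := between_extend pointOk 22 107415 112905 9 (p7u609) p7r610

theorem p7r611 : allRange pointOk 22 112914 9 = true := by decide +kernel
theorem p7u611 : ∀ k, 107415 ≤ k → k < 112923 → pointOk (k * 22) = true := between_extend pointOk 22 107415 112914 9 (p7u610) p7r611

theorem p7r612 : allRange pointOk 22 112923 9 = true := by decide +kernel
theorem p7u612 : ∀ k, 107415 ≤ k → k < 112932 → pointOk (k * 22) = true := between_extend pointOk 22 107415 112923 9 (p7u611) p7r612

theorem p7r613 : allRange pointOk 22 112932 9 = true := by decide +kernel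
theorem p7u613 : ∀ k, 107415 ≤ k → k < 112941 → pointOk (k * 22) = true := between_extend pointOk 22 107415 112932 9 (p7u612) p7r613

theorem p7r614 : allRange pointOk 22 112941 9 = true := by decide +kernel
theorem p7u614 : ∀ k, 107415 ≤ k → k < 112950 → pointOk (k * 22) = true := between_extend pointOk 22 107415 112941 9 (p7u613) p7r614

theorem p7r615 : allRange pointOk 22 112950 9 = true := by decide +kernel
theorem p7u615 : ∀ k, 107415 ≤ k → k < 112959 → pointOk (k * 22) = true := between_extend pointOk 22 107415 112950 9 (p7u614) p7r615

theorem p7r616 : allRange pointOk 22 112959 9 = true := by decide +kernel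
theorem p7u616 : ∀ k, 107415 ≤ k → k < 112968 → pointOk (k * 22) = true := between_extend pointOk 22 107415 112959 9 (p7u615) p7r616

theorem p7r617 : allRange pointOk 22 112968 9 = true := by decide +kernel
theorem p7u617 : ∀ k, 107415 ≤ k → k < 112977 → pointOk (k * 22) = true := between_extend pointOk 22 107415 112968 9 (p7u616) p7r617

theorem p7r618 : allRange pointOk 22 112977 9 = true := by decide +kernel
theorem p7u618 : ∀ k, 107415 ≤ k → k < 112986 → pointOk (k * 22) = true := between_extend pointOk 22 107415 112977 9 (p7u617) p7r618

theorem p7r619 : allRange pointOk 22 112986 9 = true := by decide +kernel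
theorem p7u619 : ∀ k, 107415 ≤ k → k < 112995 → pointOk (k * 22) = true := between_extend pointOk 22 107415 112986 9 (p7u618) p7r619

theorem p7r620 : allRange pointOk 22 112995 9 = true := by decide +kernel
theorem p7u620 : ∀ k, 107415 ≤ k → k < 113004 → pointOk (k * 22) = true := between_extend pointOk 22 107415 112995 9 (p7u619) p7r620

theorem p7r621 : allRange pointOk 22 113004 9 = true := by decide +kernel
theorem p7u621 : ∀ k, 107415 ≤ k → k < 113013 → pointOk (k * 22) = true := between_extend pointOk 22 107415 113004 9 (p7u620) p7r621

theorem p7r622 : allRange pointOk 22 113013 9 = true := by decide +kernel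
theorem p7u622 : ∀ k, 107415 ≤ k → k < 113022 → pointOk (k * 22) = true := between_extend pointOk 22 107415 113013 9 (p7u621) p7r622

theorem p7r623 : allRange pointOk 22 113022 9 = true := by decide +kernel
theorem p7u623 : ∀ k, 107415 ≤ k → k < 113031 → pointOk (k * 22) = true := between_extend pointOk 22 107415 113022 9 (p7u622) p7r623

theorem p7r624 : allRange pointOk 22 113031 9 = true := by decide +kernel
theorem p7u624 : ∀ k, 107415 ≤ k → k < 113040 → pointOk (k * 22) = true := between_extend pointOk 22 107415 113031 9 (p7u623) p7r624

theorem p7r625 : allRange pointOk 22 113040 9 = true := by decide +kernel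
theorem p7u625 : ∀ k, 107415 ≤ k → k < 113049 → pointOk (k * 22) = true := between_extend pointOk 22 107415 113040 9 (p7u624) p7r625

theorem p7r626 : allRange pointOk 22 113049 9 = true := by decide +kernel
theorem p7u626 : ∀ k, 107415 ≤ k → k < 113058 → pointOk (k * 22) = true := between_extend pointOk 22 107415 113049 9 (p7u625) p7r626

theorem p7r627 : allRange pointOk 22 113058 9 = true := by decide +kernel
theorem p7u627 : ∀ k, 107415 ≤ k → k < 113067 → pointOk (k * 22) = true := between_extend pointOk 22 107415 113058 9 (p7u626) p7r627

theorem p7r628 : allRange pointOk 22 113067 9 = true := by decide +kernel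
theorem p7u628 : ∀ k, 107415 ≤ k → k < 113076 → pointOk (k * 22) = true := between_extend pointOk 22 107415 113067 9 (p7u627) p7r628

theorem p7r629 : allRange pointOk 22 113076 9 = true := by decide +kernel
theorem p7u629 : ∀ k, 107415 ≤ k → k < 113085 → pointOk (k * 22) = true := between_extend pointOk 22 107415 113076 9 (p7u628) p7r629

theorem p7r630 : allRange pointOk 22 113085 9 = true := by decide +kernel
theorem p7u630 : ∀ k, 107415 ≤ k → k < 113094 → pointOk (k * 22) = true := between_extend pointOk 22 107415 113085 9 (p7u629) p7r630

theorem p7r631 : allRange pointOk 22 113094 9 = true := by decide +kernel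
theorem p7u631 : ∀ k, 107415 ≤ k → k < 113103 → pointOk (k * 22) = true := between_extend pointOk 22 107415 113094 9 (p7u630) p7r631

theorem p7r632 : allRange pointOk 22 113103 9 = true := by decide +kernel
theorem p7u632 : ∀ k, 107415 ≤ k → k < 113112 → pointOk (k * 22) = true := between_extend pointOk 22 107415 113103 9 (p7u631) p7r632

theorem p7r633 : allRange pointOk 22 113112 9 = true := by decide +kernel
theorem p7u633 : ∀ k, 107415 ≤ k → k < 113121 → pointOk (k * 22) = true := between_extend pointOk 22 107415 113112 9 (p7u632) p7r633

theorem p7r634 : allRange pointOk 22 113121 9 = true := by decide +kernel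
theorem p7u634 : ∀ k, 107415 ≤ k → k < 113130 → pointOk (k * 22) = true := between_extend pointOk 22 107415 113121 9 (p7u633) p7r634

theorem p7r635 : allRange pointOk 22 113130 9 = true := by decide +kernel
theorem p7u635 : ∀ k, 107415 ≤ k → k < 113139 → pointOk (k * 22) = true := between_extend pointOk 22 107415 113130 9 (p7u634) p7r635

theorem p7r636 : allRange pointOk 22 113139 9 = true := by decide +kernel
theorem p7u636 : ∀ k, 107415 ≤ k → k < 113148 → pointOk (k * 22) = true := between_extend pointOk 22 107415 113139 9 (p7u635) p7r636

theorem p7r637 : allRange pointOk 22 113148 9 = true := by decide +kernel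
theorem p7u637 : ∀ k, 107415 ≤ k → k < 113157 → pointOk (k * 22) = true := between_extend pointOk 22 107415 113148 9 (p7u636) p7r637

theorem p7r638 : allRange pointOk 22 113157 9 = true := by decide +kernel
theorem p7u638 : ∀ k, 107415 ≤ k → k < 113166 → pointOk (k * 22) = true := between_extend pointOk 22 107415 113157 9 (p7u637) p7r638

theorem p7r639 : allRange pointOk 22 113166 9 = true := by decide +kernel
theorem p7u639 : ∀ k, 107415 ≤ k → k < 113175 → pointOk (k * 22) = true := between_extend pointOk 22 107415 113166 9 (p7u638) p7r639

theorem p7r640 : allRange pointOk 22 113175 9 = true := by decide +kernel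
theorem p7u640 : ∀ k, 107415 ≤ k → k < 113184 → pointOk (k * 22) = true := between_extend pointOk 22 107415 113175 9 (p7u639) p7r640

theorem p7r641 : allRange pointOk 22 113184 9 = true := by decide +kernel
theorem p7u641 : ∀ k, 107415 ≤ k → k < 113193 → pointOk (k * 22) = true := between_extend pointOk 22 107415 113184 9 (p7u640) p7r641

theorem p7r642 : allRange pointOk 22 113193 9 = true := by decide +kernel
theorem p7u642 : ∀ k, 107415 ≤ k → k < 113202 → pointOk (k * 22) = true := between_extend pointOk 22 107415 113193 9 (p7u641) p7r642

theorem p7r643 : allRange pointOk 22 113202 9 = true := by decide +kernel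
theorem p7u643 : ∀ k, 107415 ≤ k → k < 113211 → pointOk (k * 22) = true := between_extend pointOk 22 107415 113202 9 (p7u642) p7r643

theorem p7r644 : allRange pointOk 22 113211 9 = true := by decide +kernel
theorem p7u644 : ∀ k, 107415 ≤ k → k < 113220 → pointOk (k * 22) = true := between_extend pointOk 22 107415 113211 9 (p7u643) p7r644

theorem p7r645 : allRange pointOk 22 113220 9 = true := by decide +kernel
theorem p7u645 : ∀ k, 107415 ≤ k → k < 113229 → pointOk (k * 22) = true := between_extend pointOk 22 107415 113220 9 (p7u644) p7r645

theorem p7r646 : allRange pointOk 22 113229 9 = true := by decide +kernel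
theorem p7u646 : ∀ k, 107415 ≤ k → k < 113238 → pointOk (k * 22) = true := between_extend pointOk 22 107415 113229 9 (p7u645) p7r646

theorem p7r647 : allRange pointOk 22 113238 9 = true := by decide +kernel
theorem p7u647 : ∀ k, 107415 ≤ k → k < 113247 → pointOk (k * 22) = true := between_extend pointOk 22 107415 113238 9 (p7u646) p7r647

theorem p7r648 : allRange pointOk 22 113247 9 = true := by decide +kernel
theorem p7u648 : ∀ k, 107415 ≤ k → k < 113256 → pointOk (k * 22) = true := between_extend pointOk 22 107415 113247 9 (p7u647) p7r648

theorem p7r649 : allRange pointOk 22 113256 9 = true := by decide +kernel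
theorem p7u649 : ∀ k, 107415 ≤ k → k < 113265 → pointOk (k * 22) = true := between_extend pointOk 22 107415 113256 9 (p7u648) p7r649

theorem p7r650 : allRange pointOk 22 113265 9 = true := by decide +kernel
theorem p7u650 : ∀ k, 107415 ≤ k → k < 113274 → pointOk (k * 22) = true := between_extend pointOk 22 107415 113265 9 (p7u649) p7r650

theorem p7r651 : allRange pointOk 22 113274 9 = true := by decide +kernel
theorem p7u651 : ∀ k, 107415 ≤ k → k < 113283 → pointOk (k * 22) = true := between_extend pointOk 22 107415 113274 9 (p7u650) p7r651

theorem p7r652 : allRange pointOk 22 113283 9 = true := by decide +kernel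
theorem p7u652 : ∀ k, 107415 ≤ k → k < 113292 → pointOk (k * 22) = true := between_extend pointOk 22 107415 113283 9 (p7u651) p7r652

theorem p7r653 : allRange pointOk 22 113292 9 = true := by decide +kernel
theorem p7u653 : ∀ k, 107415 ≤ k → k < 113301 → pointOk (k * 22) = true := between_extend pointOk 22 107415 113292 9 (p7u652) p7r653

theorem p7r654 : allRange pointOk 22 113301 9 = true := by decide +kernel
theorem p7u654 : ∀ k, 107415 ≤ k → k < 113310 → pointOk (k * 22) = true := between_extend pointOk 22 107415 113301 9 (p7u653) p7r654

theorem p7r655 : allRange pointOk 22 113310 9 = true := by decide +kernel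
theorem p7u655 : ∀ k, 107415 ≤ k → k < 113319 → pointOk (k * 22) = true := between_extend pointOk 22 107415 113310 9 (p7u654) p7r655

theorem p7r656 : allRange pointOk 22 113319 9 = true := by decide +kernel
theorem p7u656 : ∀ k, 107415 ≤ k → k < 113328 → pointOk (k * 22) = true := between_extend pointOk 22 107415 113319 9 (p7u655) p7r656

theorem p7r657 : allRange pointOk 22 113328 9 = true := by decide +kernel
theorem p7u657 : ∀ k, 107415 ≤ k → k < 113337 → pointOk (k * 22) = true := between_extend pointOk 22 107415 113328 9 (p7u656) p7r657

theorem p7r658 : allRange pointOk 22 113337 9 = true := by decide +kernel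
theorem p7u658 : ∀ k, 107415 ≤ k → k < 113346 → pointOk (k * 22) = true := between_extend pointOk 22 107415 113337 9 (p7u657) p7r658

theorem p7r659 : allRange pointOk 22 113346 9 = true := by decide +kernel
theorem p7u659 : ∀ k, 107415 ≤ k → k < 113355 → pointOk (k * 22) = true := between_extend pointOk 22 107415 113346 9 (p7u658) p7r659

theorem p7r660 : allRange pointOk 22 113355 9 = true := by decide +kernel
theorem p7u660 : ∀ k, 107415 ≤ k → k < 113364 → pointOk (k * 22) = true := between_extend pointOk 22 107415 113355 9 (p7u659) p7r660

theorem p7r661 : allRange pointOk 22 113364 9 = true := by decide +kernel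
theorem p7u661 : ∀ k, 107415 ≤ k → k < 113373 → pointOk (k * 22) = true := between_extend pointOk 22 107415 113364 9 (p7u660) p7r661

theorem p7r662 : allRange pointOk 22 113373 9 = true := by decide +kernel
theorem p7u662 : ∀ k, 107415 ≤ k → k < 113382 → pointOk (k * 22) = true := between_extend pointOk 22 107415 113373 9 (p7u661) p7r662

theorem p7r663 : allRange pointOk 22 113382 9 = true := by decide +kernel
theorem p7u663 : ∀ k, 107415 ≤ k → k < 113391 → pointOk (k * 22) = true := between_extend pointOk 22 107415 113382 9 (p7u662) p7r663

theorem p7r664 : allRange pointOk 22 113391 9 = true := by decide +kernel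
theorem p7u664 : ∀ k, 107415 ≤ k → k < 113400 → pointOk (k * 22) = true := between_extend pointOk 22 107415 113391 9 (p7u663) p7r664

theorem p7r665 : allRange pointOk 22 113400 9 = true := by decide +kernel
theorem p7u665 : ∀ k, 107415 ≤ k → k < 113409 → pointOk (k * 22) = true := between_extend pointOk 22 107415 113400 9 (p7u664) p7r665

theorem p7r666 : allRange pointOk 22 113409 9 = true := by decide +kernel
theorem p7u666 : ∀ k, 107415 ≤ k → k < 113418 → pointOk (k * 22) = true := between_extend pointOk 22 107415 113409 9 (p7u665) p7r666

theorem p7r667 : allRange pointOk 22 113418 9 = true := by decide +kernel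
theorem p7u667 : ∀ k, 107415 ≤ k → k < 113427 → pointOk (k * 22) = true := between_extend pointOk 22 107415 113418 9 (p7u666) p7r667

theorem p7r668 : allRange pointOk 22 113427 9 = true := by decide +kernel
theorem p7u668 : ∀ k, 107415 ≤ k → k < 113436 → pointOk (k * 22) = true := between_extend pointOk 22 107415 113427 9 (p7u667) p7r668

theorem p7r669 : allRange pointOk 22 113436 9 = true := by decide +kernel
theorem p7u669 : ∀ k, 107415 ≤ k → k < 113445 → pointOk (k * 22) = true := between_extend pointOk 22 107415 113436 9 (p7u668) p7r669

theorem p7r670 : allRange pointOk 22 113445 9 = true := by decide +kernel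
theorem p7u670 : ∀ k, 107415 ≤ k → k < 113454 → pointOk (k * 22) = true := between_extend pointOk 22 107415 113445 9 (p7u669) p7r670

theorem p7r671 : allRange pointOk 22 113454 9 = true := by decide +kernel
theorem p7u671 : ∀ k, 107415 ≤ k → k < 113463 → pointOk (k * 22) = true := between_extend pointOk 22 107415 113454 9 (p7u670) p7r671

theorem p7r672 : allRange pointOk 22 113463 9 = true := by decide +kernel
theorem p7u672 : ∀ k, 107415 ≤ k → k < 113472 → pointOk (k * 22) = true := between_extend pointOk 22 107415 113463 9 (p7u671) p7r672

theorem p7r673 : allRange pointOk 22 113472 9 = true := by decide +kernel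
theorem p7u673 : ∀ k, 107415 ≤ k → k < 113481 → pointOk (k * 22) = true := between_extend pointOk 22 107415 113472 9 (p7u672) p7r673

theorem p7r674 : allRange pointOk 22 113481 9 = true := by decide +kernel
theorem p7u674 : ∀ k, 107415 ≤ k → k < 113490 → pointOk (k * 22) = true := between_extend pointOk 22 107415 113481 9 (p7u673) p7r674

theorem p7r675 : allRange pointOk 22 113490 9 = true := by decide +kernel
theorem p7u675 : ∀ k, 107415 ≤ k → k < 113499 → pointOk (k * 22) = true := between_extend pointOk 22 107415 113490 9 (p7u674) p7r675

theorem p7r676 : allRange pointOk 22 113499 9 = true := by decide +kernel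
theorem p7u676 : ∀ k, 107415 ≤ k → k < 113508 → pointOk (k * 22) = true := between_extend pointOk 22 107415 113499 9 (p7u675) p7r676

theorem p7r677 : allRange pointOk 22 113508 9 = true := by decide +kernel
theorem p7u677 : ∀ k, 107415 ≤ k → k < 113517 → pointOk (k * 22) = true := between_extend pointOk 22 107415 113508 9 (p7u676) p7r677

theorem p7r678 : allRange pointOk 22 113517 9 = true := by decide +kernel
theorem p7u678 : ∀ k, 107415 ≤ k → k < 113526 → pointOk (k * 22) = true := between_extend pointOk 22 107415 113517 9 (p7u677) p7r678

theorem p7r679 : allRange pointOk 22 113526 9 = true := by decide +kernel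
theorem p7u679 : ∀ k, 107415 ≤ k → k < 113535 → pointOk (k * 22) = true := between_extend pointOk 22 107415 113526 9 (p7u678) p7r679

theorem p7r680 : allRange pointOk 22 113535 9 = true := by decide +kernel
theorem p7u680 : ∀ k, 107415 ≤ k → k < 113544 → pointOk (k * 22) = true := between_extend pointOk 22 107415 113535 9 (p7u679) p7r680

theorem p7r681 : allRange pointOk 22 113544 9 = true := by decide +kernel
theorem p7u681 : ∀ k, 107415 ≤ k → k < 113553 → pointOk (k * 22) = true := between_extend pointOk 22 107415 113544 9 (p7u680) p7r681

theorem p7r682 : allRange pointOk 22 113553 9 = true := by decide +kernel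
theorem p7u682 : ∀ k, 107415 ≤ k → k < 113562 → pointOk (k * 22) = true := between_extend pointOk 22 107415 113553 9 (p7u681) p7r682

theorem p7r683 : allRange pointOk 22 113562 9 = true := by decide +kernel
theorem p7u683 : ∀ k, 107415 ≤ k → k < 113571 → pointOk (k * 22) = true := between_extend pointOk 22 107415 113562 9 (p7u682) p7r683

theorem p7r684 : allRange pointOk 22 113571 9 = true := by decide +kernel
theorem p7u684 : ∀ k, 107415 ≤ k → k < 113580 → pointOk (k * 22) = true := between_extend pointOk 22 107415 113571 9 (p7u683) p7r684

theorem p7r685 : allRange pointOk 22 113580 9 = true := by decide +kernel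
theorem p7u685 : ∀ k, 107415 ≤ k → k < 113589 → pointOk (k * 22) = true := between_extend pointOk 22 107415 113580 9 (p7u684) p7r685

theorem p7r686 : allRange pointOk 22 113589 9 = true := by decide +kernel
theorem p7u686 : ∀ k, 107415 ≤ k → k < 113598 → pointOk (k * 22) = true := between_extend pointOk 22 107415 113589 9 (p7u685) p7r686

theorem p7r687 : allRange pointOk 22 113598 9 = true := by decide +kernel
theorem p7u687 : ∀ k, 107415 ≤ k → k < 113607 → pointOk (k * 22) = true := between_extend pointOk 22 107415 113598 9 (p7u686) p7r687

theorem p7r688 : allRange pointOk 22 113607 9 = true := by decide +kernel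
theorem p7u688 : ∀ k, 107415 ≤ k → k < 113616 → pointOk (k * 22) = true := between_extend pointOk 22 107415 113607 9 (p7u687) p7r688

theorem p7r689 : allRange pointOk 22 113616 9 = true := by decide +kernel
theorem p7u689 : ∀ k, 107415 ≤ k → k < 113625 → pointOk (k * 22) = true := between_extend pointOk 22 107415 113616 9 (p7u688) p7r689

theorem p7r690 : allRange pointOk 22 113625 9 = true := by decide +kernel
theorem p7u690 : ∀ k, 107415 ≤ k → k < 113634 → pointOk (k * 22) = true := between_extend pointOk 22 107415 113625 9 (p7u689) p7r690

theorem p7r691 : allRange pointOk 22 113634 9 = true := by decide +kernel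
theorem p7u691 : ∀ k, 107415 ≤ k → k < 113643 → pointOk (k * 22) = true := between_extend pointOk 22 107415 113634 9 (p7u690) p7r691

theorem p7r692 : allRange pointOk 22 113643 9 = true := by decide +kernel
theorem p7u692 : ∀ k, 107415 ≤ k → k < 113652 → pointOk (k * 22) = true := between_extend pointOk 22 107415 113643 9 (p7u691) p7r692

theorem p7r693 : allRange pointOk 22 113652 9 = true := by decide +kernel
theorem p7u693 : ∀ k, 107415 ≤ k → k < 113661 → pointOk (k * 22) = true := between_extend pointOk 22 107415 113652 9 (p7u692) p7r693

theorem p7r694 : allRange pointOk 22 113661 9 = true := by decide +kernel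
theorem p7u694 : ∀ k, 107415 ≤ k → k < 113670 → pointOk (k * 22) = true := between_extend pointOk 22 107415 113661 9 (p7u693) p7r694

theorem p7r695 : allRange pointOk 22 113670 9 = true := by decide +kernel
theorem p7u695 : ∀ k, 107415 ≤ k → k < 113679 → pointOk (k * 22) = true := between_extend pointOk 22 107415 113670 9 (p7u694) p7r695

theorem p7r696 : allRange pointOk 22 113679 9 = true := by decide +kernel
theorem p7u696 : ∀ k, 107415 ≤ k → k < 113688 → pointOk (k * 22) = true := between_extend pointOk 22 107415 113679 9 (p7u695) p7r696

theorem p7r697 : allRange pointOk 22 113688 9 = true := by decide +kernel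
theorem p7u697 : ∀ k, 107415 ≤ k → k < 113697 → pointOk (k * 22) = true := between_extend pointOk 22 107415 113688 9 (p7u696) p7r697

theorem p7r698 : allRange pointOk 22 113697 9 = true := by decide +kernel
theorem p7u698 : ∀ k, 107415 ≤ k → k < 113706 → pointOk (k * 22) = true := between_extend pointOk 22 107415 113697 9 (p7u697) p7r698

theorem p7r699 : allRange pointOk 22 113706 9 = true := by decide +kernel
theorem p7u699 : ∀ k, 107415 ≤ k → k < 113715 → pointOk (k * 22) = true := between_extend pointOk 22 107415 113706 9 (p7u698) p7r699

theorem p7r700 : allRange pointOk 22 113715 9 = true := by decide +kernel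
theorem p7u700 : ∀ k, 107415 ≤ k → k < 113724 → pointOk (k * 22) = true := between_extend pointOk 22 107415 113715 9 (p7u699) p7r700

theorem p7r701 : allRange pointOk 22 113724 9 = true := by decide +kernel
theorem p7u701 : ∀ k, 107415 ≤ k → k < 113733 → pointOk (k * 22) = true := between_extend pointOk 22 107415 113724 9 (p7u700) p7r701

theorem p7r702 : allRange pointOk 22 113733 9 = true := by decide +kernel
theorem p7u702 : ∀ k, 107415 ≤ k → k < 113742 → pointOk (k * 22) = true := between_extend pointOk 22 107415 113733 9 (p7u701) p7r702

theorem p7r703 : allRange pointOk 22 113742 9 = true := by decide +kernel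
theorem p7u703 : ∀ k, 107415 ≤ k → k < 113751 → pointOk (k * 22) = true := between_extend pointOk 22 107415 113742 9 (p7u702) p7r703

theorem p7r704 : allRange pointOk 22 113751 9 = true := by decide +kernel
theorem p7u704 : ∀ k, 107415 ≤ k → k < 113760 → pointOk (k * 22) = true := between_extend pointOk 22 107415 113751 9 (p7u703) p7r704

theorem p7r705 : allRange pointOk 22 113760 9 = true := by decide +kernel
theorem p7u705 : ∀ k, 107415 ≤ k → k < 113769 → pointOk (k * 22) = true := between_extend pointOk 22 107415 113760 9 (p7u704) p7r705

theorem p7r706 : allRange pointOk 22 113769 9 = true := by decide +kernel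
theorem p7u706 : ∀ k, 107415 ≤ k → k < 113778 → pointOk (k * 22) = true := between_extend pointOk 22 107415 113769 9 (p7u705) p7r706

theorem p7r707 : allRange pointOk 22 113778 9 = true := by decide +kernel
theorem p7u707 : ∀ k, 107415 ≤ k → k < 113787 → pointOk (k * 22) = true := between_extend pointOk 22 107415 113778 9 (p7u706) p7r707

theorem p7r708 : allRange pointOk 22 113787 9 = true := by decide +kernel
theorem p7u708 : ∀ k, 107415 ≤ k → k < 113796 → pointOk (k * 22) = true := between_extend pointOk 22 107415 113787 9 (p7u707) p7r708

theorem p7r709 : allRange pointOk 22 113796 9 = true := by decide +kernel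
theorem p7u709 : ∀ k, 107415 ≤ k → k < 113805 → pointOk (k * 22) = true := between_extend pointOk 22 107415 113796 9 (p7u708) p7r709

theorem p7r710 : allRange pointOk 22 113805 9 = true := by decide +kernel
theorem p7u710 : ∀ k, 107415 ≤ k → k < 113814 → pointOk (k * 22) = true := between_extend pointOk 22 107415 113805 9 (p7u709) p7r710

theorem p7r711 : allRange pointOk 22 113814 9 = true := by decide +kernel
theorem p7u711 : ∀ k, 107415 ≤ k → k < 113823 → pointOk (k * 22) = true := between_extend pointOk 22 107415 113814 9 (p7u710) p7r711

theorem p7r712 : allRange pointOk 22 113823 9 = true := by decide +kernel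
theorem p7u712 : ∀ k, 107415 ≤ k → k < 113832 → pointOk (k * 22) = true := between_extend pointOk 22 107415 113823 9 (p7u711) p7r712

theorem p7r713 : allRange pointOk 22 113832 9 = true := by decide +kernel
theorem p7u713 : ∀ k, 107415 ≤ k → k < 113841 → pointOk (k * 22) = true := between_extend pointOk 22 107415 113832 9 (p7u712) p7r713

theorem p7r714 : allRange pointOk 22 113841 9 = true := by decide +kernel
theorem p7u714 : ∀ k, 107415 ≤ k → k < 113850 → pointOk (k * 22) = true := between_extend pointOk 22 107415 113841 9 (p7u713) p7r714

theorem p7r715 : allRange pointOk 22 113850 9 = true := by decide +kernel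
theorem p7u715 : ∀ k, 107415 ≤ k → k < 113859 → pointOk (k * 22) = true := between_extend pointOk 22 107415 113850 9 (p7u714) p7r715

theorem p7r716 : allRange pointOk 22 113859 9 = true := by decide +kernel
theorem p7u716 : ∀ k, 107415 ≤ k → k < 113868 → pointOk (k * 22) = true := between_extend pointOk 22 107415 113859 9 (p7u715) p7r716

theorem p7r717 : allRange pointOk 22 113868 9 = true := by decide +kernel
theorem p7u717 : ∀ k, 107415 ≤ k → k < 113877 → pointOk (k * 22) = true := between_extend pointOk 22 107415 113868 9 (p7u716) p7r717

theorem p7r718 : allRange pointOk 22 113877 9 = true := by decide +kernel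
theorem p7u718 : ∀ k, 107415 ≤ k → k < 113886 → pointOk (k * 22) = true := between_extend pointOk 22 107415 113877 9 (p7u717) p7r718

theorem p7r719 : allRange pointOk 22 113886 9 = true := by decide +kernel
theorem p7u719 : ∀ k, 107415 ≤ k → k < 113895 → pointOk (k * 22) = true := between_extend pointOk 22 107415 113886 9 (p7u718) p7r719

theorem p7r720 : allRange pointOk 22 113895 9 = true := by decide +kernel
theorem p7u720 : ∀ k, 107415 ≤ k → k < 113904 → pointOk (k * 22) = true := between_extend pointOk 22 107415 113895 9 (p7u719) p7r720

theorem p7r721 : allRange pointOk 22 113904 9 = true := by decide +kernel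
theorem p7u721 : ∀ k, 107415 ≤ k → k < 113913 → pointOk (k * 22) = true := between_extend pointOk 22 107415 113904 9 (p7u720) p7r721

theorem p7r722 : allRange pointOk 22 113913 9 = true := by decide +kernel
theorem p7u722 : ∀ k, 107415 ≤ k → k < 113922 → pointOk (k * 22) = true := between_extend pointOk 22 107415 113913 9 (p7u721) p7r722

theorem p7r723 : allRange pointOk 22 113922 9 = true := by decide +kernel
theorem p7u723 : ∀ k, 107415 ≤ k → k < 113931 → pointOk (k * 22) = true := between_extend pointOk 22 107415 113922 9 (p7u722) p7r723

theorem p7r724 : allRange pointOk 22 113931 9 = true := by decide +kernel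
theorem p7u724 : ∀ k, 107415 ≤ k → k < 113940 → pointOk (k * 22) = true := between_extend pointOk 22 107415 113931 9 (p7u723) p7r724

theorem p7r725 : allRange pointOk 22 113940 9 = true := by decide +kernel
theorem p7u725 : ∀ k, 107415 ≤ k → k < 113949 → pointOk (k * 22) = true := between_extend pointOk 22 107415 113940 9 (p7u724) p7r725

theorem p7r726 : allRange pointOk 22 113949 9 = true := by decide +kernel
theorem p7u726 : ∀ k, 107415 ≤ k → k < 113958 → pointOk (k * 22) = true := between_extend pointOk 22 107415 113949 9 (p7u725) p7r726

theorem p7r727 : allRange pointOk 22 113958 9 = true := by decide +kernel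
theorem p7u727 : ∀ k, 107415 ≤ k → k < 113967 → pointOk (k * 22) = true := between_extend pointOk 22 107415 113958 9 (p7u726) p7r727

theorem p7r728 : allRange pointOk 22 113967 9 = true := by decide +kernel
theorem p7u728 : ∀ k, 107415 ≤ k → k < 113976 → pointOk (k * 22) = true := between_extend pointOk 22 107415 113967 9 (p7u727) p7r728

theorem p7r729 : allRange pointOk 22 113976 9 = true := by decide +kernel
theorem p7u729 : ∀ k, 107415 ≤ k → k < 113985 → pointOk (k * 22) = true := between_extend pointOk 22 107415 113976 9 (p7u728) p7r729

theorem p7r730 : allRange pointOk 22 113985 9 = true := by decide +kernel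
theorem p7u730 : ∀ k, 107415 ≤ k → k < 113994 → pointOk (k * 22) = true := between_extend pointOk 22 107415 113985 9 (p7u729) p7r730

theorem p7r731 : allRange pointOk 22 113994 9 = true := by decide +kernel
theorem p7u731 : ∀ k, 107415 ≤ k → k < 114003 → pointOk (k * 22) = true := between_extend pointOk 22 107415 113994 9 (p7u730) p7r731

theorem p7r732 : allRange pointOk 22 114003 9 = true := by decide +kernel
theorem p7u732 : ∀ k, 107415 ≤ k → k < 114012 → pointOk (k * 22) = true := between_extend pointOk 22 107415 114003 9 (p7u731) p7r732

theorem p7r733 : allRange pointOk 22 114012 9 = true := by decide +kernel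
theorem p7u733 : ∀ k, 107415 ≤ k → k < 114021 → pointOk (k * 22) = true := between_extend pointOk 22 107415 114012 9 (p7u732) p7r733

theorem p7r734 : allRange pointOk 22 114021 9 = true := by decide +kernel
theorem p7u734 : ∀ k, 107415 ≤ k → k < 114030 → pointOk (k * 22) = true := between_extend pointOk 22 107415 114021 9 (p7u733) p7r734

theorem p7r735 : allRange pointOk 22 114030 9 = true := by decide +kernel
theorem p7u735 : ∀ k, 107415 ≤ k → k < 114039 → pointOk (k * 22) = true := between_extend pointOk 22 107415 114030 9 (p7u734) p7r735

theorem p7r736 : allRange pointOk 22 114039 9 = true := by decide +kernel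
theorem p7u736 : ∀ k, 107415 ≤ k → k < 114048 → pointOk (k * 22) = true := between_extend pointOk 22 107415 114039 9 (p7u735) p7r736

theorem p7r737 : allRange pointOk 22 114048 9 = true := by decide +kernel
theorem p7u737 : ∀ k, 107415 ≤ k → k < 114057 → pointOk (k * 22) = true := between_extend pointOk 22 107415 114048 9 (p7u736) p7r737

theorem p7r738 : allRange pointOk 22 114057 9 = true := by decide +kernel
theorem p7u738 : ∀ k, 107415 ≤ k → k < 114066 → pointOk (k * 22) = true := between_extend pointOk 22 107415 114057 9 (p7u737) p7r738

theorem p7r739 : allRange pointOk 22 114066 9 = true := by decide +kernel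
theorem p7u739 : ∀ k, 107415 ≤ k → k < 114075 → pointOk (k * 22) = true := between_extend pointOk 22 107415 114066 9 (p7u738) p7r739

theorem p7r740 : allRange pointOk 22 114075 9 = true := by decide +kernel
theorem p7u740 : ∀ k, 107415 ≤ k → k < 114084 → pointOk (k * 22) = true := between_extend pointOk 22 107415 114075 9 (p7u739) p7r740

theorem p7r741 : allRange pointOk 22 114084 9 = true := by decide +kernel
theorem p7u741 : ∀ k, 107415 ≤ k → k < 114093 → pointOk (k * 22) = true := between_extend pointOk 22 107415 114084 9 (p7u740) p7r741

theorem p7r742 : allRange pointOk 22 114093 9 = true := by decide +kernel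
theorem p7u742 : ∀ k, 107415 ≤ k → k < 114102 → pointOk (k * 22) = true := between_extend pointOk 22 107415 114093 9 (p7u741) p7r742

theorem p7r743 : allRange pointOk 22 114102 9 = true := by decide +kernel
theorem p7u743 : ∀ k, 107415 ≤ k → k < 114111 → pointOk (k * 22) = true := between_extend pointOk 22 107415 114102 9 (p7u742) p7r743

theorem p7r744 : allRange pointOk 22 114111 9 = true := by decide +kernel
theorem p7u744 : ∀ k, 107415 ≤ k → k < 114120 → pointOk (k * 22) = true := between_extend pointOk 22 107415 114111 9 (p7u743) p7r744

theorem p7r745 : allRange pointOk 22 114120 9 = true := by decide +kernel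
theorem p7u745 : ∀ k, 107415 ≤ k → k < 114129 → pointOk (k * 22) = true := between_extend pointOk 22 107415 114120 9 (p7u744) p7r745

theorem p7r746 : allRange pointOk 22 114129 9 = true := by decide +kernel
theorem p7u746 : ∀ k, 107415 ≤ k → k < 114138 → pointOk (k * 22) = true := between_extend pointOk 22 107415 114129 9 (p7u745) p7r746

theorem p7r747 : allRange pointOk 22 114138 9 = true := by decide +kernel
theorem p7u747 : ∀ k, 107415 ≤ k → k < 114147 → pointOk (k * 22) = true := between_extend pointOk 22 107415 114138 9 (p7u746) p7r747

theorem p7r748 : allRange pointOk 22 114147 9 = true := by decide +kernel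
theorem p7u748 : ∀ k, 107415 ≤ k → k < 114156 → pointOk (k * 22) = true := between_extend pointOk 22 107415 114147 9 (p7u747) p7r748

theorem p7r749 : allRange pointOk 22 114156 9 = true := by decide +kernel
theorem p7u749 : ∀ k, 107415 ≤ k → k < 114165 → pointOk (k * 22) = true := between_extend pointOk 22 107415 114156 9 (p7u748) p7r749

theorem p7r750 : allRange pointOk 22 114165 9 = true := by decide +kernel
theorem p7u750 : ∀ k, 107415 ≤ k → k < 114174 → pointOk (k * 22) = true := between_extend pointOk 22 107415 114165 9 (p7u749) p7r750

theorem p7r751 : allRange pointOk 22 114174 9 = true := by decide +kernel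
theorem p7u751 : ∀ k, 107415 ≤ k → k < 114183 → pointOk (k * 22) = true := between_extend pointOk 22 107415 114174 9 (p7u750) p7r751

theorem p7r752 : allRange pointOk 22 114183 9 = true := by decide +kernel
theorem p7u752 : ∀ k, 107415 ≤ k → k < 114192 → pointOk (k * 22) = true := between_extend pointOk 22 107415 114183 9 (p7u751) p7r752

theorem p7r753 : allRange pointOk 22 114192 9 = true := by decide +kernel
theorem p7u753 : ∀ k, 107415 ≤ k → k < 114201 → pointOk (k * 22) = true := between_extend pointOk 22 107415 114192 9 (p7u752) p7r753

theorem p7r754 : allRange pointOk 22 114201 9 = true := by decide +kernel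
theorem p7u754 : ∀ k, 107415 ≤ k → k < 114210 → pointOk (k * 22) = true := between_extend pointOk 22 107415 114201 9 (p7u753) p7r754

theorem p7r755 : allRange pointOk 22 114210 9 = true := by decide +kernel
theorem p7u755 : ∀ k, 107415 ≤ k → k < 114219 → pointOk (k * 22) = true := between_extend pointOk 22 107415 114210 9 (p7u754) p7r755

theorem p7r756 : allRange pointOk 22 114219 9 = true := by decide +kernel
theorem p7u756 : ∀ k, 107415 ≤ k → k < 114228 → pointOk (k * 22) = true := between_extend pointOk 22 107415 114219 9 (p7u755) p7r756

theorem p7r757 : allRange pointOk 22 114228 9 = true := by decide +kernel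
theorem p7u757 : ∀ k, 107415 ≤ k → k < 114237 → pointOk (k * 22) = true := between_extend pointOk 22 107415 114228 9 (p7u756) p7r757

theorem p7r758 : allRange pointOk 22 114237 9 = true := by decide +kernel
theorem p7u758 : ∀ k, 107415 ≤ k → k < 114246 → pointOk (k * 22) = true := between_extend pointOk 22 107415 114237 9 (p7u757) p7r758

theorem p7r759 : allRange pointOk 22 114246 9 = true := by decide +kernel
theorem p7u759 : ∀ k, 107415 ≤ k → k < 114255 → pointOk (k * 22) = true := between_extend pointOk 22 107415 114246 9 (p7u758) p7r759

theorem p7r760 : allRange pointOk 22 114255 9 = true := by decide +kernel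
theorem p7u760 : ∀ k, 107415 ≤ k → k < 114264 → pointOk (k * 22) = true := between_extend pointOk 22 107415 114255 9 (p7u759) p7r760

theorem p7r761 : allRange pointOk 22 114264 9 = true := by decide +kernel
theorem p7u761 : ∀ k, 107415 ≤ k → k < 114273 → pointOk (k * 22) = true := between_extend pointOk 22 107415 114264 9 (p7u760) p7r761

theorem p7r762 : allRange pointOk 22 114273 9 = true := by decide +kernel
theorem p7u762 : ∀ k, 107415 ≤ k → k < 114282 → pointOk (k * 22) = true := between_extend pointOk 22 107415 114273 9 (p7u761) p7r762

theorem p7r763 : allRange pointOk 22 114282 9 = true := by decide +kernel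
theorem p7u763 : ∀ k, 107415 ≤ k → k < 114291 → pointOk (k * 22) = true := between_extend pointOk 22 107415 114282 9 (p7u762) p7r763

theorem p7r764 : allRange pointOk 22 114291 9 = true := by decide +kernel
theorem p7u764 : ∀ k, 107415 ≤ k → k < 114300 → pointOk (k * 22) = true := between_extend pointOk 22 107415 114291 9 (p7u763) p7r764

theorem p7r765 : allRange pointOk 22 114300 9 = true := by decide +kernel
theorem p7u765 : ∀ k, 107415 ≤ k → k < 114309 → pointOk (k * 22) = true := between_extend pointOk 22 107415 114300 9 (p7u764) p7r765

theorem p7r766 : allRange pointOk 22 114309 9 = true := by decide +kernel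
theorem p7u766 : ∀ k, 107415 ≤ k → k < 114318 → pointOk (k * 22) = true := between_extend pointOk 22 107415 114309 9 (p7u765) p7r766

theorem p7r767 : allRange pointOk 22 114318 9 = true := by decide +kernel
theorem p7u767 : ∀ k, 107415 ≤ k → k < 114327 → pointOk (k * 22) = true := between_extend pointOk 22 107415 114318 9 (p7u766) p7r767

theorem p7r768 : allRange pointOk 22 114327 9 = true := by decide +kernel
theorem p7u768 : ∀ k, 107415 ≤ k → k < 114336 → pointOk (k * 22) = true := between_extend pointOk 22 107415 114327 9 (p7u767) p7r768

theorem p7r769 : allRange pointOk 22 114336 9 = true := by decide +kernel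
theorem p7u769 : ∀ k, 107415 ≤ k → k < 114345 → pointOk (k * 22) = true := between_extend pointOk 22 107415 114336 9 (p7u768) p7r769

theorem p7r770 : allRange pointOk 22 114345 9 = true := by decide +kernel
theorem p7u770 : ∀ k, 107415 ≤ k → k < 114354 → pointOk (k * 22) = true := between_extend pointOk 22 107415 114345 9 (p7u769) p7r770

theorem p7r771 : allRange pointOk 22 114354 9 = true := by decide +kernel
theorem p7u771 : ∀ k, 107415 ≤ k → k < 114363 → pointOk (k * 22) = true := between_extend pointOk 22 107415 114354 9 (p7u770) p7r771

theorem p7r772 : allRange pointOk 22 114363 9 = true := by decide +kernel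
theorem p7u772 : ∀ k, 107415 ≤ k → k < 114372 → pointOk (k * 22) = true := between_extend pointOk 22 107415 114363 9 (p7u771) p7r772

theorem p7r773 : allRange pointOk 22 114372 9 = true := by decide +kernel
theorem p7u773 : ∀ k, 107415 ≤ k → k < 114381 → pointOk (k * 22) = true := between_extend pointOk 22 107415 114372 9 (p7u772) p7r773

theorem p7r774 : allRange pointOk 22 114381 9 = true := by decide +kernel
theorem p7u774 : ∀ k, 107415 ≤ k → k < 114390 → pointOk (k * 22) = true := between_extend pointOk 22 107415 114381 9 (p7u773) p7r774

theorem p7r775 : allRange pointOk 22 114390 9 = true := by decide +kernel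
theorem p7u775 : ∀ k, 107415 ≤ k → k < 114399 → pointOk (k * 22) = true := between_extend pointOk 22 107415 114390 9 (p7u774) p7r775

theorem p7r776 : allRange pointOk 22 114399 9 = true := by decide +kernel
theorem p7u776 : ∀ k, 107415 ≤ k → k < 114408 → pointOk (k * 22) = true := between_extend pointOk 22 107415 114399 9 (p7u775) p7r776

theorem p7r777 : allRange pointOk 22 114408 9 = true := by decide +kernel
theorem p7u777 : ∀ k, 107415 ≤ k → k < 114417 → pointOk (k * 22) = true := between_extend pointOk 22 107415 114408 9 (p7u776) p7r777

theorem p7r778 : allRange pointOk 22 114417 9 = true := by decide +kernel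
theorem p7u778 : ∀ k, 107415 ≤ k → k < 114426 → pointOk (k * 22) = true := between_extend pointOk 22 107415 114417 9 (p7u777) p7r778

theorem p7r779 : allRange pointOk 22 114426 9 = true := by decide +kernel
theorem p7u779 : ∀ k, 107415 ≤ k → k < 114435 → pointOk (k * 22) = true := between_extend pointOk 22 107415 114426 9 (p7u778) p7r779

theorem p7r780 : allRange pointOk 22 114435 9 = true := by decide +kernel
theorem p7u780 : ∀ k, 107415 ≤ k → k < 114444 → pointOk (k * 22) = true := between_extend pointOk 22 107415 114435 9 (p7u779) p7r780

theorem p7r781 : allRange pointOk 22 114444 9 = true := by decide +kernel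
theorem p7u781 : ∀ k, 107415 ≤ k → k < 114453 → pointOk (k * 22) = true := between_extend pointOk 22 107415 114444 9 (p7u780) p7r781

theorem p7r782 : allRange pointOk 22 114453 9 = true := by decide +kernel
theorem p7u782 : ∀ k, 107415 ≤ k → k < 114462 → pointOk (k * 22) = true := between_extend pointOk 22 107415 114453 9 (p7u781) p7r782

theorem p7r783 : allRange pointOk 22 114462 9 = true := by decide +kernel
theorem p7u783 : ∀ k, 107415 ≤ k → k < 114471 → pointOk (k * 22) = true := between_extend pointOk 22 107415 114462 9 (p7u782) p7r783

theorem p7r784 : allRange pointOk 22 114471 9 = true := by decide +kernel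
theorem p7u784 : ∀ k, 107415 ≤ k → k < 114480 → pointOk (k * 22) = true := between_extend pointOk 22 107415 114471 9 (p7u783) p7r784

theorem p7r785 : allRange pointOk 22 114480 9 = true := by decide +kernel
theorem p7u785 : ∀ k, 107415 ≤ k → k < 114489 → pointOk (k * 22) = true := between_extend pointOk 22 107415 114480 9 (p7u784) p7r785

theorem p7r786 : allRange pointOk 22 114489 9 = true := by decide +kernel
theorem p7u786 : ∀ k, 107415 ≤ k → k < 114498 → pointOk (k * 22) = true := between_extend pointOk 22 107415 114489 9 (p7u785) p7r786

theorem p7r787 : allRange pointOk 22 114498 9 = true := by decide +kernel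
theorem p7u787 : ∀ k, 107415 ≤ k → k < 114507 → pointOk (k * 22) = true := between_extend pointOk 22 107415 114498 9 (p7u786) p7r787

theorem p7r788 : allRange pointOk 22 114507 9 = true := by decide +kernel
theorem p7u788 : ∀ k, 107415 ≤ k → k < 114516 → pointOk (k * 22) = true := between_extend pointOk 22 107415 114507 9 (p7u787) p7r788

theorem p7r789 : allRange pointOk 22 114516 9 = true := by decide +kernel
theorem p7u789 : ∀ k, 107415 ≤ k → k < 114525 → pointOk (k * 22) = true := between_extend pointOk 22 107415 114516 9 (p7u788) p7r789

theorem p7r790 : allRange pointOk 22 114525 9 = true := by decide +kernel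
theorem p7u790 : ∀ k, 107415 ≤ k → k < 114534 → pointOk (k * 22) = true := between_extend pointOk 22 107415 114525 9 (p7u789) p7r790

theorem p7r791 : allRange pointOk 22 114534 9 = true := by decide +kernel
theorem p7u791 : ∀ k, 107415 ≤ k → k < 114543 → pointOk (k * 22) = true := between_extend pointOk 22 107415 114534 9 (p7u790) p7r791

theorem p7r792 : allRange pointOk 22 114543 9 = true := by decide +kernel
theorem p7u792 : ∀ k, 107415 ≤ k → k < 114552 → pointOk (k * 22) = true := between_extend pointOk 22 107415 114543 9 (p7u791) p7r792

theorem p7r793 : allRange pointOk 22 114552 9 = true := by decide +kernel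
theorem p7u793 : ∀ k, 107415 ≤ k → k < 114561 → pointOk (k * 22) = true := between_extend pointOk 22 107415 114552 9 (p7u792) p7r793

theorem p7r794 : allRange pointOk 22 114561 9 = true := by decide +kernel
theorem p7u794 : ∀ k, 107415 ≤ k → k < 114570 → pointOk (k * 22) = true := between_extend pointOk 22 107415 114561 9 (p7u793) p7r794

theorem p7r795 : allRange pointOk 22 114570 9 = true := by decide +kernel
theorem p7u795 : ∀ k, 107415 ≤ k → k < 114579 → pointOk (k * 22) = true := between_extend pointOk 22 107415 114570 9 (p7u794) p7r795

theorem p7r796 : allRange pointOk 22 114579 9 = true := by decide +kernel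
theorem p7u796 : ∀ k, 107415 ≤ k → k < 114588 → pointOk (k * 22) = true := between_extend pointOk 22 107415 114579 9 (p7u795) p7r796

theorem p7r797 : allRange pointOk 22 114588 9 = true := by decide +kernel
theorem p7u797 : ∀ k, 107415 ≤ k → k < 114597 → pointOk (k * 22) = true := between_extend pointOk 22 107415 114588 9 (p7u796) p7r797

theorem p7r798 : allRange pointOk 22 114597 9 = true := by decide +kernel
theorem p7u798 : ∀ k, 107415 ≤ k → k < 114606 → pointOk (k * 22) = true := between_extend pointOk 22 107415 114597 9 (p7u797) p7r798

theorem p7r799 : allRange pointOk 22 114606 9 = true := by decide +kernel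
theorem p7u799 : ∀ k, 107415 ≤ k → k < 114615 → pointOk (k * 22) = true := between_extend pointOk 22 107415 114606 9 (p7u798) p7r799

theorem p7r800 : allRange pointOk 22 114615 9 = true := by decide +kernel
theorem p7u800 : ∀ k, 107415 ≤ k → k < 114624 → pointOk (k * 22) = true := between_extend pointOk 22 107415 114615 9 (p7u799) p7r800

theorem p7r801 : allRange pointOk 22 114624 9 = true := by decide +kernel
theorem p7u801 : ∀ k, 107415 ≤ k → k < 114633 → pointOk (k * 22) = true := between_extend pointOk 22 107415 114624 9 (p7u800) p7r801

theorem p7r802 : allRange pointOk 22 114633 9 = true := by decide +kernel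
theorem p7u802 : ∀ k, 107415 ≤ k → k < 114642 → pointOk (k * 22) = true := between_extend pointOk 22 107415 114633 9 (p7u801) p7r802

theorem p7r803 : allRange pointOk 22 114642 9 = true := by decide +kernel
theorem p7u803 : ∀ k, 107415 ≤ k → k < 114651 → pointOk (k * 22) = true := between_extend pointOk 22 107415 114642 9 (p7u802) p7r803

theorem p7r804 : allRange pointOk 22 114651 9 = true := by decide +kernel
theorem p7u804 : ∀ k, 107415 ≤ k → k < 114660 → pointOk (k * 22) = true := between_extend pointOk 22 107415 114651 9 (p7u803) p7r804

theorem p7r805 : allRange pointOk 22 114660 9 = true := by decide +kernel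
theorem p7u805 : ∀ k, 107415 ≤ k → k < 114669 → pointOk (k * 22) = true := between_extend pointOk 22 107415 114660 9 (p7u804) p7r805

theorem p7r806 : allRange pointOk 22 114669 9 = true := by decide +kernel
theorem p7u806 : ∀ k, 107415 ≤ k → k < 114678 → pointOk (k * 22) = true := between_extend pointOk 22 107415 114669 9 (p7u805) p7r806

theorem p7r807 : allRange pointOk 22 114678 9 = true := by decide +kernel
theorem p7u807 : ∀ k, 107415 ≤ k → k < 114687 → pointOk (k * 22) = true := between_extend pointOk 22 107415 114678 9 (p7u806) p7r807

theorem p7r808 : allRange pointOk 22 114687 9 = true := by decide +kernel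
theorem p7u808 : ∀ k, 107415 ≤ k → k < 114696 → pointOk (k * 22) = true := between_extend pointOk 22 107415 114687 9 (p7u807) p7r808

theorem p7r809 : allRange pointOk 22 114696 9 = true := by decide +kernel
theorem p7u809 : ∀ k, 107415 ≤ k → k < 114705 → pointOk (k * 22) = true := between_extend pointOk 22 107415 114696 9 (p7u808) p7r809

theorem p7r810 : allRange pointOk 22 114705 9 = true := by decide +kernel
theorem p7u810 : ∀ k, 107415 ≤ k → k < 114714 → pointOk (k * 22) = true := between_extend pointOk 22 107415 114705 9 (p7u809) p7r810

theorem p7r811 : allRange pointOk 22 114714 9 = true := by decide +kernel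
theorem p7u811 : ∀ k, 107415 ≤ k → k < 114723 → pointOk (k * 22) = true := between_extend pointOk 22 107415 114714 9 (p7u810) p7r811

theorem p7r812 : allRange pointOk 22 114723 9 = true := by decide +kernel
theorem p7u812 : ∀ k, 107415 ≤ k → k < 114732 → pointOk (k * 22) = true := between_extend pointOk 22 107415 114723 9 (p7u811) p7r812

theorem p7r813 : allRange pointOk 22 114732 9 = true := by decide +kernel
theorem p7u813 : ∀ k, 107415 ≤ k → k < 114741 → pointOk (k * 22) = true := between_extend pointOk 22 107415 114732 9 (p7u812) p7r813

theorem p7r814 : allRange pointOk 22 114741 9 = true := by decide +kernel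
theorem p7u814 : ∀ k, 107415 ≤ k → k < 114750 → pointOk (k * 22) = true := between_extend pointOk 22 107415 114741 9 (p7u813) p7r814

theorem p7r815 : allRange pointOk 22 114750 9 = true := by decide +kernel
theorem p7u815 : ∀ k, 107415 ≤ k → k < 114759 → pointOk (k * 22) = true := between_extend pointOk 22 107415 114750 9 (p7u814) p7r815

theorem p7r816 : allRange pointOk 22 114759 9 = true := by decide +kernel
theorem p7u816 : ∀ k, 107415 ≤ k → k < 114768 → pointOk (k * 22) = true := between_extend pointOk 22 107415 114759 9 (p7u815) p7r816

theorem p7r817 : allRange pointOk 22 114768 9 = true := by decide +kernel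
theorem p7u817 : ∀ k, 107415 ≤ k → k < 114777 → pointOk (k * 22) = true := between_extend pointOk 22 107415 114768 9 (p7u816) p7r817

theorem p7r818 : allRange pointOk 22 114777 9 = true := by decide +kernel
theorem p7u818 : ∀ k, 107415 ≤ k → k < 114786 → pointOk (k * 22) = true := between_extend pointOk 22 107415 114777 9 (p7u817) p7r818

theorem p7r819 : allRange pointOk 22 114786 9 = true := by decide +kernel
theorem p7u819 : ∀ k, 107415 ≤ k → k < 114795 → pointOk (k * 22) = true := between_extend pointOk 22 107415 114786 9 (p7u818) p7r819

theorem p7r820 : allRange pointOk 22 114795 9 = true := by decide +kernel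
theorem p7u820 : ∀ k, 107415 ≤ k → k < 114804 → pointOk (k * 22) = true := between_extend pointOk 22 107415 114795 9 (p7u819) p7r820

theorem p7r821 : allRange pointOk 22 114804 9 = true := by decide +kernel
theorem p7u821 : ∀ k, 107415 ≤ k → k < 114813 → pointOk (k * 22) = true := between_extend pointOk 22 107415 114804 9 (p7u820) p7r821

theorem p7r822 : allRange pointOk 22 114813 9 = true := by decide +kernel
theorem p7u822 : ∀ k, 107415 ≤ k → k < 114822 → pointOk (k * 22) = true := between_extend pointOk 22 107415 114813 9 (p7u821) p7r822

theorem p7r823 : allRange pointOk 22 114822 9 = true := by decide +kernel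
theorem p7u823 : ∀ k, 107415 ≤ k → k < 114831 → pointOk (k * 22) = true := between_extend pointOk 22 107415 114822 9 (p7u822) p7r823

theorem p7r824 : allRange pointOk 22 114831 9 = true := by decide +kernel
theorem p7u824 : ∀ k, 107415 ≤ k → k < 114840 → pointOk (k * 22) = true := between_extend pointOk 22 107415 114831 9 (p7u823) p7r824

theorem p7r825 : allRange pointOk 22 114840 9 = true := by decide +kernel
theorem p7u825 : ∀ k, 107415 ≤ k → k < 114849 → pointOk (k * 22) = true := between_extend pointOk 22 107415 114840 9 (p7u824) p7r825

theorem p7r826 : allRange pointOk 22 114849 9 = true := by decide +kernel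
theorem p7u826 : ∀ k, 107415 ≤ k → k < 114858 → pointOk (k * 22) = true := between_extend pointOk 22 107415 114849 9 (p7u825) p7r826

theorem p7r827 : allRange pointOk 22 114858 9 = true := by decide +kernel
theorem p7u827 : ∀ k, 107415 ≤ k → k < 114867 → pointOk (k * 22) = true := between_extend pointOk 22 107415 114858 9 (p7u826) p7r827

theorem p7r828 : allRange pointOk 22 114867 9 = true := by decide +kernel
theorem p7u828 : ∀ k, 107415 ≤ k → k < 114876 → pointOk (k * 22) = true := between_extend pointOk 22 107415 114867 9 (p7u827) p7r828

theorem p7r829 : allRange pointOk 22 114876 9 = true := by decide +kernel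
theorem p7u829 : ∀ k, 107415 ≤ k → k < 114885 → pointOk (k * 22) = true := between_extend pointOk 22 107415 114876 9 (p7u828) p7r829

theorem p7r830 : allRange pointOk 22 114885 9 = true := by decide +kernel
theorem p7u830 : ∀ k, 107415 ≤ k → k < 114894 → pointOk (k * 22) = true := between_extend pointOk 22 107415 114885 9 (p7u829) p7r830

theorem p7r831 : allRange pointOk 22 114894 9 = true := by decide +kernel
theorem p7u831 : ∀ k, 107415 ≤ k → k < 114903 → pointOk (k * 22) = true := between_extend pointOk 22 107415 114894 9 (p7u830) p7r831

theorem p7r832 : allRange pointOk 22 114903 9 = true := by decide +kernel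
theorem p7u832 : ∀ k, 107415 ≤ k → k < 114912 → pointOk (k * 22) = true := between_extend pointOk 22 107415 114903 9 (p7u831) p7r832

theorem p7r833 : allRange pointOk 22 114912 9 = true := by decide +kernel
theorem p7u833 : ∀ k, 107415 ≤ k → k < 114921 → pointOk (k * 22) = true := between_extend pointOk 22 107415 114912 9 (p7u832) p7r833

theorem p7r834 : allRange pointOk 22 114921 9 = true := by decide +kernel
theorem p7u834 : ∀ k, 107415 ≤ k → k < 114930 → pointOk (k * 22) = true := between_extend pointOk 22 107415 114921 9 (p7u833) p7r834

theorem p7r835 : allRange pointOk 22 114930 9 = true := by decide +kernel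
theorem p7u835 : ∀ k, 107415 ≤ k → k < 114939 → pointOk (k * 22) = true := between_extend pointOk 22 107415 114930 9 (p7u834) p7r835

theorem p7r836 : allRange pointOk 22 114939 9 = true := by decide +kernel
theorem p7u836 : ∀ k, 107415 ≤ k → k < 114948 → pointOk (k * 22) = true := between_extend pointOk 22 107415 114939 9 (p7u835) p7r836

theorem p7r837 : allRange pointOk 22 114948 9 = true := by decide +kernel
theorem p7u837 : ∀ k, 107415 ≤ k → k < 114957 → pointOk (k * 22) = true := between_extend pointOk 22 107415 114948 9 (p7u836) p7r837

theorem p7r838 : allRange pointOk 22 114957 9 = true := by decide +kernel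
theorem p7u838 : ∀ k, 107415 ≤ k → k < 114966 → pointOk (k * 22) = true := between_extend pointOk 22 107415 114957 9 (p7u837) p7r838

theorem p7r839 : allRange pointOk 22 114966 9 = true := by decide +kernel
theorem p7u839 : ∀ k, 107415 ≤ k → k < 114975 → pointOk (k * 22) = true := between_extend pointOk 22 107415 114966 9 (p7u838) p7r839

theorem p7r840 : allRange pointOk 22 114975 9 = true := by decide +kernel
theorem p7u840 : ∀ k, 107415 ≤ k → k < 114984 → pointOk (k * 22) = true := between_extend pointOk 22 107415 114975 9 (p7u839) p7r840

theorem p7r841 : allRange pointOk 22 114984 9 = true := by decide +kernel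
theorem p7u841 : ∀ k, 107415 ≤ k → k < 114993 → pointOk (k * 22) = true := between_extend pointOk 22 107415 114984 9 (p7u840) p7r841

theorem p7r842 : allRange pointOk 22 114993 9 = true := by decide +kernel
theorem p7u842 : ∀ k, 107415 ≤ k → k < 115002 → pointOk (k * 22) = true := between_extend pointOk 22 107415 114993 9 (p7u841) p7r842

theorem p7r843 : allRange pointOk 22 115002 9 = true := by decide +kernel
theorem p7u843 : ∀ k, 107415 ≤ k → k < 115011 → pointOk (k * 22) = true := between_extend pointOk 22 107415 115002 9 (p7u842) p7r843

theorem p7r844 : allRange pointOk 22 115011 9 = true := by decide +kernel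
theorem p7u844 : ∀ k, 107415 ≤ k → k < 115020 → pointOk (k * 22) = true := between_extend pointOk 22 107415 115011 9 (p7u843) p7r844

theorem p7r845 : allRange pointOk 22 115020 9 = true := by decide +kernel
theorem p7u845 : ∀ k, 107415 ≤ k → k < 115029 → pointOk (k * 22) = true := between_extend pointOk 22 107415 115020 9 (p7u844) p7r845

theorem p7r846 : allRange pointOk 22 115029 9 = true := by decide +kernel
theorem p7u846 : ∀ k, 107415 ≤ k → k < 115038 → pointOk (k * 22) = true := between_extend pointOk 22 107415 115029 9 (p7u845) p7r846

theorem p7r847 : allRange pointOk 22 115038 9 = true := by decide +kernel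
theorem p7u847 : ∀ k, 107415 ≤ k → k < 115047 → pointOk (k * 22) = true := between_extend pointOk 22 107415 115038 9 (p7u846) p7r847

theorem p7r848 : allRange pointOk 22 115047 9 = true := by decide +kernel
theorem p7u848 : ∀ k, 107415 ≤ k → k < 115056 → pointOk (k * 22) = true := between_extend pointOk 22 107415 115047 9 (p7u847) p7r848

theorem p7r849 : allRange pointOk 22 115056 9 = true := by decide +kernel
theorem p7u849 : ∀ k, 107415 ≤ k → k < 115065 → pointOk (k * 22) = true := between_extend pointOk 22 107415 115056 9 (p7u848) p7r849

theorem p7r850 : allRange pointOk 22 115065 9 = true := by decide +kernel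
theorem p7u850 : ∀ k, 107415 ≤ k → k < 115074 → pointOk (k * 22) = true := between_extend pointOk 22 107415 115065 9 (p7u849) p7r850

theorem p7r851 : allRange pointOk 22 115074 9 = true := by decide +kernel
theorem p7u851 : ∀ k, 107415 ≤ k → k < 115083 → pointOk (k * 22) = true := between_extend pointOk 22 107415 115074 9 (p7u850) p7r851

theorem p7r852 : allRange pointOk 22 115083 9 = true := by decide +kernel
theorem p7u852 : ∀ k, 107415 ≤ k → k < 115092 → pointOk (k * 22) = true := between_extend pointOk 22 107415 115083 9 (p7u851) p7r852

theorem p7r853 : allRange pointOk 22 115092 9 = true := by decide +kernel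
theorem p7u853 : ∀ k, 107415 ≤ k → k < 115101 → pointOk (k * 22) = true := between_extend pointOk 22 107415 115092 9 (p7u852) p7r853

theorem p7r854 : allRange pointOk 22 115101 9 = true := by decide +kernel
theorem p7u854 : ∀ k, 107415 ≤ k → k < 115110 → pointOk (k * 22) = true := between_extend pointOk 22 107415 115101 9 (p7u853) p7r854

theorem p7r855 : allRange pointOk 22 115110 9 = true := by decide +kernel
theorem p7u855 : ∀ k, 107415 ≤ k → k < 115119 → pointOk (k * 22) = true := between_extend pointOk 22 107415 115110 9 (p7u854) p7r855

theorem p7r856 : allRange pointOk 22 115119 9 = true := by decide +kernel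
theorem p7u856 : ∀ k, 107415 ≤ k → k < 115128 → pointOk (k * 22) = true := between_extend pointOk 22 107415 115119 9 (p7u855) p7r856

theorem p7r857 : allRange pointOk 22 115128 9 = true := by decide +kernel
theorem p7u857 : ∀ k, 107415 ≤ k → k < 115137 → pointOk (k * 22) = true := between_extend pointOk 22 107415 115128 9 (p7u856) p7r857

theorem p7r858 : allRange pointOk 22 115137 9 = true := by decide +kernel
theorem p7u858 : ∀ k, 107415 ≤ k → k < 115146 → pointOk (k * 22) = true := between_extend pointOk 22 107415 115137 9 (p7u857) p7r858

theorem p7r859 : allRange pointOk 22 115146 9 = true := by decide +kernel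
theorem p7u859 : ∀ k, 107415 ≤ k → k < 115155 → pointOk (k * 22) = true := between_extend pointOk 22 107415 115146 9 (p7u858) p7r859

theorem p7r860 : allRange pointOk 22 115155 9 = true := by decide +kernel
theorem p7u860 : ∀ k, 107415 ≤ k → k < 115164 → pointOk (k * 22) = true := between_extend pointOk 22 107415 115155 9 (p7u859) p7r860

theorem p7r861 : allRange pointOk 22 115164 9 = true := by decide +kernel
theorem p7u861 : ∀ k, 107415 ≤ k → k < 115173 → pointOk (k * 22) = true := between_extend pointOk 22 107415 115164 9 (p7u860) p7r861

theorem p7r862 : allRange pointOk 22 115173 9 = true := by decide +kernel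
theorem p7u862 : ∀ k, 107415 ≤ k → k < 115182 → pointOk (k * 22) = true := between_extend pointOk 22 107415 115173 9 (p7u861) p7r862

theorem p7r863 : allRange pointOk 22 115182 9 = true := by decide +kernel
theorem p7u863 : ∀ k, 107415 ≤ k → k < 115191 → pointOk (k * 22) = true := between_extend pointOk 22 107415 115182 9 (p7u862) p7r863

theorem p7r864 : allRange pointOk 22 115191 9 = true := by decide +kernel
theorem p7u864 : ∀ k, 107415 ≤ k → k < 115200 → pointOk (k * 22) = true := between_extend pointOk 22 107415 115191 9 (p7u863) p7r864

theorem p7r865 : allRange pointOk 22 115200 9 = true := by decide +kernel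
theorem p7u865 : ∀ k, 107415 ≤ k → k < 115209 → pointOk (k * 22) = true := between_extend pointOk 22 107415 115200 9 (p7u864) p7r865

theorem p7r866 : allRange pointOk 22 115209 9 = true := by decide +kernel
theorem p7u866 : ∀ k, 107415 ≤ k → k < 115218 → pointOk (k * 22) = true := between_extend pointOk 22 107415 115209 9 (p7u865) p7r866

theorem p7r867 : allRange pointOk 22 115218 9 = true := by decide +kernel
theorem p7u867 : ∀ k, 107415 ≤ k → k < 115227 → pointOk (k * 22) = true := between_extend pointOk 22 107415 115218 9 (p7u866) p7r867

theorem p7r868 : allRange pointOk 22 115227 9 = true := by decide +kernel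
theorem p7u868 : ∀ k, 107415 ≤ k → k < 115236 → pointOk (k * 22) = true := between_extend pointOk 22 107415 115227 9 (p7u867) p7r868

theorem p7r869 : allRange pointOk 22 115236 9 = true := by decide +kernel
theorem p7u869 : ∀ k, 107415 ≤ k → k < 115245 → pointOk (k * 22) = true := between_extend pointOk 22 107415 115236 9 (p7u868) p7r869

theorem p7r870 : allRange pointOk 22 115245 9 = true := by decide +kernel
theorem p7u870 : ∀ k, 107415 ≤ k → k < 115254 → pointOk (k * 22) = true := between_extend pointOk 22 107415 115245 9 (p7u869) p7r870

theorem p7r871 : allRange pointOk 22 115254 9 = true := by decide +kernel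
theorem p7u871 : ∀ k, 107415 ≤ k → k < 115263 → pointOk (k * 22) = true := between_extend pointOk 22 107415 115254 9 (p7u870) p7r871

theorem p7r872 : allRange pointOk 22 115263 9 = true := by decide +kernel
theorem p7u872 : ∀ k, 107415 ≤ k → k < 115272 → pointOk (k * 22) = true := between_extend pointOk 22 107415 115263 9 (p7u871) p7r872

theorem p7r873 : allRange pointOk 22 115272 9 = true := by decide +kernel
theorem p7u873 : ∀ k, 107415 ≤ k → k < 115281 → pointOk (k * 22) = true := between_extend pointOk 22 107415 115272 9 (p7u872) p7r873

theorem p7r874 : allRange pointOk 22 115281 9 = true := by decide +kernel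
theorem p7u874 : ∀ k, 107415 ≤ k → k < 115290 → pointOk (k * 22) = true := between_extend pointOk 22 107415 115281 9 (p7u873) p7r874

theorem p7r875 : allRange pointOk 22 115290 9 = true := by decide +kernel
theorem p7u875 : ∀ k, 107415 ≤ k → k < 115299 → pointOk (k * 22) = true := between_extend pointOk 22 107415 115290 9 (p7u874) p7r875

theorem p7r876 : allRange pointOk 22 115299 9 = true := by decide +kernel
theorem p7u876 : ∀ k, 107415 ≤ k → k < 115308 → pointOk (k * 22) = true := between_extend pointOk 22 107415 115299 9 (p7u875) p7r876

theorem p7r877 : allRange pointOk 22 115308 9 = true := by decide +kernel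
theorem p7u877 : ∀ k, 107415 ≤ k → k < 115317 → pointOk (k * 22) = true := between_extend pointOk 22 107415 115308 9 (p7u876) p7r877

theorem p7r878 : allRange pointOk 22 115317 9 = true := by decide +kernel
theorem p7u878 : ∀ k, 107415 ≤ k → k < 115326 → pointOk (k * 22) = true := between_extend pointOk 22 107415 115317 9 (p7u877) p7r878

theorem p7r879 : allRange pointOk 22 115326 9 = true := by decide +kernel
theorem p7u879 : ∀ k, 107415 ≤ k → k < 115335 → pointOk (k * 22) = true := between_extend pointOk 22 107415 115326 9 (p7u878) p7r879

theorem p7r880 : allRange pointOk 22 115335 9 = true := by decide +kernel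
theorem p7u880 : ∀ k, 107415 ≤ k → k < 115344 → pointOk (k * 22) = true := between_extend pointOk 22 107415 115335 9 (p7u879) p7r880

theorem p7r881 : allRange pointOk 22 115344 9 = true := by decide +kernel
theorem p7u881 : ∀ k, 107415 ≤ k → k < 115353 → pointOk (k * 22) = true := between_extend pointOk 22 107415 115344 9 (p7u880) p7r881

theorem p7r882 : allRange pointOk 22 115353 9 = true := by decide +kernel
theorem p7u882 : ∀ k, 107415 ≤ k → k < 115362 → pointOk (k * 22) = true := between_extend pointOk 22 107415 115353 9 (p7u881) p7r882

theorem p7r883 : allRange pointOk 22 115362 9 = true := by decide +kernel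
theorem p7u883 : ∀ k, 107415 ≤ k → k < 115371 → pointOk (k * 22) = true := between_extend pointOk 22 107415 115362 9 (p7u882) p7r883

theorem p7r884 : allRange pointOk 22 115371 9 = true := by decide +kernel
theorem p7u884 : ∀ k, 107415 ≤ k → k < 115380 → pointOk (k * 22) = true := between_extend pointOk 22 107415 115371 9 (p7u883) p7r884

theorem p7r885 : allRange pointOk 22 115380 9 = true := by decide +kernel
theorem p7u885 : ∀ k, 107415 ≤ k → k < 115389 → pointOk (k * 22) = true := between_extend pointOk 22 107415 115380 9 (p7u884) p7r885

theorem p7r886 : allRange pointOk 22 115389 9 = true := by decide +kernel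
theorem p7u886 : ∀ k, 107415 ≤ k → k < 115398 → pointOk (k * 22) = true := between_extend pointOk 22 107415 115389 9 (p7u885) p7r886

theorem p7r887 : allRange pointOk 22 115398 9 = true := by decide +kernel
theorem p7u887 : ∀ k, 107415 ≤ k → k < 115407 → pointOk (k * 22) = true := between_extend pointOk 22 107415 115398 9 (p7u886) p7r887

theorem p7r888 : allRange pointOk 22 115407 9 = true := by decide +kernel
theorem p7u888 : ∀ k, 107415 ≤ k → k < 115416 → pointOk (k * 22) = true := between_extend pointOk 22 107415 115407 9 (p7u887) p7r888

theorem p7r889 : allRange pointOk 22 115416 9 = true := by decide +kernel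
theorem p7u889 : ∀ k, 107415 ≤ k → k < 115425 → pointOk (k * 22) = true := between_extend pointOk 22 107415 115416 9 (p7u888) p7r889

theorem p7r890 : allRange pointOk 22 115425 9 = true := by decide +kernel
theorem p7u890 : ∀ k, 107415 ≤ k → k < 115434 → pointOk (k * 22) = true := between_extend pointOk 22 107415 115425 9 (p7u889) p7r890

theorem p7r891 : allRange pointOk 22 115434 9 = true := by decide +kernel
theorem p7u891 : ∀ k, 107415 ≤ k → k < 115443 → pointOk (k * 22) = true := between_extend pointOk 22 107415 115434 9 (p7u890) p7r891

theorem p7r892 : allRange pointOk 22 115443 9 = true := by decide +kernel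
theorem p7u892 : ∀ k, 107415 ≤ k → k < 115452 → pointOk (k * 22) = true := between_extend pointOk 22 107415 115443 9 (p7u891) p7r892

theorem p7r893 : allRange pointOk 22 115452 9 = true := by decide +kernel
theorem p7u893 : ∀ k, 107415 ≤ k → k < 115461 → pointOk (k * 22) = true := between_extend pointOk 22 107415 115452 9 (p7u892) p7r893

theorem p7r894 : allRange pointOk 22 115461 9 = true := by decide +kernel
theorem p7u894 : ∀ k, 107415 ≤ k → k < 115470 → pointOk (k * 22) = true := between_extend pointOk 22 107415 115461 9 (p7u893) p7r894

theorem p7r895 : allRange pointOk 22 115470 9 = true := by decide +kernel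
theorem p7u895 : ∀ k, 107415 ≤ k → k < 115479 → pointOk (k * 22) = true := between_extend pointOk 22 107415 115470 9 (p7u894) p7r895

theorem p7r896 : allRange pointOk 22 115479 9 = true := by decide +kernel
theorem p7u896 : ∀ k, 107415 ≤ k → k < 115488 → pointOk (k * 22) = true := between_extend pointOk 22 107415 115479 9 (p7u895) p7r896

theorem p7r897 : allRange pointOk 22 115488 9 = true := by decide +kernel
theorem p7u897 : ∀ k, 107415 ≤ k → k < 115497 → pointOk (k * 22) = true := between_extend pointOk 22 107415 115488 9 (p7u896) p7r897

theorem p7r898 : allRange pointOk 22 115497 9 = true := by decide +kernel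
theorem p7u898 : ∀ k, 107415 ≤ k → k < 115506 → pointOk (k * 22) = true := between_extend pointOk 22 107415 115497 9 (p7u897) p7r898

theorem p7r899 : allRange pointOk 22 115506 9 = true := by decide +kernel
theorem p7u899 : ∀ k, 107415 ≤ k → k < 115515 → pointOk (k * 22) = true := between_extend pointOk 22 107415 115506 9 (p7u898) p7r899

theorem p7r900 : allRange pointOk 22 115515 9 = true := by decide +kernel
theorem p7u900 : ∀ k, 107415 ≤ k → k < 115524 → pointOk (k * 22) = true := between_extend pointOk 22 107415 115515 9 (p7u899) p7r900

theorem p7r901 : allRange pointOk 22 115524 9 = true := by decide +kernel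
theorem p7u901 : ∀ k, 107415 ≤ k → k < 115533 → pointOk (k * 22) = true := between_extend pointOk 22 107415 115524 9 (p7u900) p7r901

theorem p7r902 : allRange pointOk 22 115533 9 = true := by decide +kernel
theorem p7u902 : ∀ k, 107415 ≤ k → k < 115542 → pointOk (k * 22) = true := between_extend pointOk 22 107415 115533 9 (p7u901) p7r902

theorem p7r903 : allRange pointOk 22 115542 9 = true := by decide +kernel
theorem p7u903 : ∀ k, 107415 ≤ k → k < 115551 → pointOk (k * 22) = true := between_extend pointOk 22 107415 115542 9 (p7u902) p7r903

theorem p7r904 : allRange pointOk 22 115551 9 = true := by decide +kernel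
theorem p7u904 : ∀ k, 107415 ≤ k → k < 115560 → pointOk (k * 22) = true := between_extend pointOk 22 107415 115551 9 (p7u903) p7r904

theorem p7r905 : allRange pointOk 22 115560 9 = true := by decide +kernel
theorem p7u905 : ∀ k, 107415 ≤ k → k < 115569 → pointOk (k * 22) = true := between_extend pointOk 22 107415 115560 9 (p7u904) p7r905

theorem p7r906 : allRange pointOk 22 115569 9 = true := by decide +kernel
theorem p7u906 : ∀ k, 107415 ≤ k → k < 115578 → pointOk (k * 22) = true := between_extend pointOk 22 107415 115569 9 (p7u905) p7r906

theorem p7r907 : allRange pointOk 22 115578 9 = true := by decide +kernel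
theorem p7u907 : ∀ k, 107415 ≤ k → k < 115587 → pointOk (k * 22) = true := between_extend pointOk 22 107415 115578 9 (p7u906) p7r907

theorem p7r908 : allRange pointOk 22 115587 9 = true := by decide +kernel
theorem p7u908 : ∀ k, 107415 ≤ k → k < 115596 → pointOk (k * 22) = true := between_extend pointOk 22 107415 115587 9 (p7u907) p7r908

theorem p7r909 : allRange pointOk 22 115596 9 = true := by decide +kernel
theorem p7u909 : ∀ k, 107415 ≤ k → k < 115605 → pointOk (k * 22) = true := between_extend pointOk 22 107415 115596 9 (p7u908) p7r909

theorem p7r910 : allRange pointOk 22 115605 9 = true := by decide +kernel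
theorem p7u910 : ∀ k, 107415 ≤ k → k < 115614 → pointOk (k * 22) = true := between_extend pointOk 22 107415 115605 9 (p7u909) p7r910

theorem p7r911 : allRange pointOk 22 115614 9 = true := by decide +kernel
theorem p7u911 : ∀ k, 107415 ≤ k → k < 115623 → pointOk (k * 22) = true := between_extend pointOk 22 107415 115614 9 (p7u910) p7r911

theorem p7r912 : allRange pointOk 22 115623 9 = true := by decide +kernel
theorem p7u912 : ∀ k, 107415 ≤ k → k < 115632 → pointOk (k * 22) = true := between_extend pointOk 22 107415 115623 9 (p7u911) p7r912

theorem p7r913 : allRange pointOk 22 115632 9 = true := by decide +kernel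
theorem p7u913 : ∀ k, 107415 ≤ k → k < 115641 → pointOk (k * 22) = true := between_extend pointOk 22 107415 115632 9 (p7u912) p7r913

theorem p7r914 : allRange pointOk 22 115641 9 = true := by decide +kernel
theorem p7u914 : ∀ k, 107415 ≤ k → k < 115650 → pointOk (k * 22) = true := between_extend pointOk 22 107415 115641 9 (p7u913) p7r914

theorem p7r915 : allRange pointOk 22 115650 9 = true := by decide +kernel
theorem p7u915 : ∀ k, 107415 ≤ k → k < 115659 → pointOk (k * 22) = true := between_extend pointOk 22 107415 115650 9 (p7u914) p7r915

theorem p7r916 : allRange pointOk 22 115659 9 = true := by decide +kernel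
theorem p7u916 : ∀ k, 107415 ≤ k → k < 115668 → pointOk (k * 22) = true := between_extend pointOk 22 107415 115659 9 (p7u915) p7r916

theorem p7r917 : allRange pointOk 22 115668 9 = true := by decide +kernel
theorem p7u917 : ∀ k, 107415 ≤ k → k < 115677 → pointOk (k * 22) = true := between_extend pointOk 22 107415 115668 9 (p7u916) p7r917

theorem p7r918 : allRange pointOk 22 115677 9 = true := by decide +kernel
theorem p7u918 : ∀ k, 107415 ≤ k → k < 115686 → pointOk (k * 22) = true := between_extend pointOk 22 107415 115677 9 (p7u917) p7r918

theorem p7r919 : allRange pointOk 22 115686 9 = true := by decide +kernel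
theorem p7u919 : ∀ k, 107415 ≤ k → k < 115695 → pointOk (k * 22) = true := between_extend pointOk 22 107415 115686 9 (p7u918) p7r919

theorem p7r920 : allRange pointOk 22 115695 9 = true := by decide +kernel
theorem p7u920 : ∀ k, 107415 ≤ k → k < 115704 → pointOk (k * 22) = true := between_extend pointOk 22 107415 115695 9 (p7u919) p7r920

theorem p7r921 : allRange pointOk 22 115704 9 = true := by decide +kernel
theorem p7u921 : ∀ k, 107415 ≤ k → k < 115713 → pointOk (k * 22) = true := between_extend pointOk 22 107415 115704 9 (p7u920) p7r921

theorem p7r922 : allRange pointOk 22 115713 9 = true := by decide +kernel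
theorem p7u922 : ∀ k, 107415 ≤ k → k < 115722 → pointOk (k * 22) = true := between_extend pointOk 22 107415 115713 9 (p7u921) p7r922

theorem p7r923 : allRange pointOk 22 115722 9 = true := by decide +kernel
theorem p7u923 : ∀ k, 107415 ≤ k → k < 115731 → pointOk (k * 22) = true := between_extend pointOk 22 107415 115722 9 (p7u922) p7r923

theorem p7r924 : allRange pointOk 22 115731 9 = true := by decide +kernel
theorem p7u924 : ∀ k, 107415 ≤ k → k < 115740 → pointOk (k * 22) = true := between_extend pointOk 22 107415 115731 9 (p7u923) p7r924

theorem p7r925 : allRange pointOk 22 115740 9 = true := by decide +kernel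
theorem p7u925 : ∀ k, 107415 ≤ k → k < 115749 → pointOk (k * 22) = true := between_extend pointOk 22 107415 115740 9 (p7u924) p7r925

theorem p7r926 : allRange pointOk 22 115749 9 = true := by decide +kernel
theorem p7u926 : ∀ k, 107415 ≤ k → k < 115758 → pointOk (k * 22) = true := between_extend pointOk 22 107415 115749 9 (p7u925) p7r926

theorem p7r927 : allRange pointOk 22 115758 9 = true := by decide +kernel
theorem p7u927 : ∀ k, 107415 ≤ k → k < 115767 → pointOk (k * 22) = true := between_extend pointOk 22 107415 115758 9 (p7u926) p7r927

theorem p7r928 : allRange pointOk 22 115767 9 = true := by decide +kernel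
theorem p7u928 : ∀ k, 107415 ≤ k → k < 115776 → pointOk (k * 22) = true := between_extend pointOk 22 107415 115767 9 (p7u927) p7r928

theorem p7r929 : allRange pointOk 22 115776 9 = true := by decide +kernel
theorem p7u929 : ∀ k, 107415 ≤ k → k < 115785 → pointOk (k * 22) = true := between_extend pointOk 22 107415 115776 9 (p7u928) p7r929

theorem p7r930 : allRange pointOk 22 115785 9 = true := by decide +kernel
theorem p7u930 : ∀ k, 107415 ≤ k → k < 115794 → pointOk (k * 22) = true := between_extend pointOk 22 107415 115785 9 (p7u929) p7r930

theorem p7r931 : allRange pointOk 22 115794 9 = true := by decide +kernel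
theorem p7u931 : ∀ k, 107415 ≤ k → k < 115803 → pointOk (k * 22) = true := between_extend pointOk 22 107415 115794 9 (p7u930) p7r931

theorem p7r932 : allRange pointOk 22 115803 9 = true := by decide +kernel
theorem p7u932 : ∀ k, 107415 ≤ k → k < 115812 → pointOk (k * 22) = true := between_extend pointOk 22 107415 115803 9 (p7u931) p7r932

theorem p7r933 : allRange pointOk 22 115812 9 = true := by decide +kernel
theorem p7u933 : ∀ k, 107415 ≤ k → k < 115821 → pointOk (k * 22) = true := between_extend pointOk 22 107415 115812 9 (p7u932) p7r933

theorem p7r934 : allRange pointOk 22 115821 9 = true := by decide +kernel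
theorem p7u934 : ∀ k, 107415 ≤ k → k < 115830 → pointOk (k * 22) = true := between_extend pointOk 22 107415 115821 9 (p7u933) p7r934

theorem p7r935 : allRange pointOk 22 115830 9 = true := by decide +kernel
theorem p7u935 : ∀ k, 107415 ≤ k → k < 115839 → pointOk (k * 22) = true := between_extend pointOk 22 107415 115830 9 (p7u934) p7r935

theorem p7r936 : allRange pointOk 22 115839 9 = true := by decide +kernel
theorem p7u936 : ∀ k, 107415 ≤ k → k < 115848 → pointOk (k * 22) = true := between_extend pointOk 22 107415 115839 9 (p7u935) p7r936

theorem p7r937 : allRange pointOk 22 115848 9 = true := by decide +kernel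
theorem p7u937 : ∀ k, 107415 ≤ k → k < 115857 → pointOk (k * 22) = true := between_extend pointOk 22 107415 115848 9 (p7u936) p7r937

theorem p7r938 : allRange pointOk 22 115857 9 = true := by decide +kernel
theorem p7u938 : ∀ k, 107415 ≤ k → k < 115866 → pointOk (k * 22) = true := between_extend pointOk 22 107415 115857 9 (p7u937) p7r938

theorem p7r939 : allRange pointOk 22 115866 9 = true := by decide +kernel
theorem p7u939 : ∀ k, 107415 ≤ k → k < 115875 → pointOk (k * 22) = true := between_extend pointOk 22 107415 115866 9 (p7u938) p7r939

theorem p7r940 : allRange pointOk 22 115875 9 = true := by decide +kernel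
theorem p7u940 : ∀ k, 107415 ≤ k → k < 115884 → pointOk (k * 22) = true := between_extend pointOk 22 107415 115875 9 (p7u939) p7r940

theorem p7r941 : allRange pointOk 22 115884 9 = true := by decide +kernel
theorem p7u941 : ∀ k, 107415 ≤ k → k < 115893 → pointOk (k * 22) = true := between_extend pointOk 22 107415 115884 9 (p7u940) p7r941

theorem p7r942 : allRange pointOk 22 115893 9 = true := by decide +kernel
theorem p7u942 : ∀ k, 107415 ≤ k → k < 115902 → pointOk (k * 22) = true := between_extend pointOk 22 107415 115893 9 (p7u941) p7r942

theorem p7r943 : allRange pointOk 22 115902 9 = true := by decide +kernel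
theorem p7u943 : ∀ k, 107415 ≤ k → k < 115911 → pointOk (k * 22) = true := between_extend pointOk 22 107415 115902 9 (p7u942) p7r943

theorem p7r944 : allRange pointOk 22 115911 9 = true := by decide +kernel
theorem p7u944 : ∀ k, 107415 ≤ k → k < 115920 → pointOk (k * 22) = true := between_extend pointOk 22 107415 115911 9 (p7u943) p7r944

theorem p7r945 : allRange pointOk 22 115920 9 = true := by decide +kernel
theorem p7u945 : ∀ k, 107415 ≤ k → k < 115929 → pointOk (k * 22) = true := between_extend pointOk 22 107415 115920 9 (p7u944) p7r945

theorem p7r946 : allRange pointOk 22 115929 9 = true := by decide +kernel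
theorem p7u946 : ∀ k, 107415 ≤ k → k < 115938 → pointOk (k * 22) = true := between_extend pointOk 22 107415 115929 9 (p7u945) p7r946

theorem p7r947 : allRange pointOk 22 115938 9 = true := by decide +kernel
theorem p7u947 : ∀ k, 107415 ≤ k → k < 115947 → pointOk (k * 22) = true := between_extend pointOk 22 107415 115938 9 (p7u946) p7r947

theorem p7r948 : allRange pointOk 22 115947 9 = true := by decide +kernel
theorem p7u948 : ∀ k, 107415 ≤ k → k < 115956 → pointOk (k * 22) = true := between_extend pointOk 22 107415 115947 9 (p7u947) p7r948

theorem p7r949 : allRange pointOk 22 115956 9 = true := by decide +kernel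
theorem p7u949 : ∀ k, 107415 ≤ k → k < 115965 → pointOk (k * 22) = true := between_extend pointOk 22 107415 115956 9 (p7u948) p7r949

theorem p7r950 : allRange pointOk 22 115965 9 = true := by decide +kernel
theorem p7u950 : ∀ k, 107415 ≤ k → k < 115974 → pointOk (k * 22) = true := between_extend pointOk 22 107415 115965 9 (p7u949) p7r950

theorem p7r951 : allRange pointOk 22 115974 9 = true := by decide +kernel
theorem p7u951 : ∀ k, 107415 ≤ k → k < 115983 → pointOk (k * 22) = true := between_extend pointOk 22 107415 115974 9 (p7u950) p7r951

theorem p7r952 : allRange pointOk 22 115983 9 = true := by decide +kernel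
theorem p7u952 : ∀ k, 107415 ≤ k → k < 115992 → pointOk (k * 22) = true := between_extend pointOk 22 107415 115983 9 (p7u951) p7r952

theorem p7r953 : allRange pointOk 22 115992 9 = true := by decide +kernel
theorem p7u953 : ∀ k, 107415 ≤ k → k < 116001 → pointOk (k * 22) = true := between_extend pointOk 22 107415 115992 9 (p7u952) p7r953

theorem p7r954 : allRange pointOk 22 116001 9 = true := by decide +kernel
theorem p7u954 : ∀ k, 107415 ≤ k → k < 116010 → pointOk (k * 22) = true := between_extend pointOk 22 107415 116001 9 (p7u953) p7r954

theorem p7r955 : allRange pointOk 22 116010 9 = true := by decide +kernel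
theorem p7u955 : ∀ k, 107415 ≤ k → k < 116019 → pointOk (k * 22) = true := between_extend pointOk 22 107415 116010 9 (p7u954) p7r955

theorem p7r956 : allRange pointOk 22 116019 9 = true := by decide +kernel
theorem p7u956 : ∀ k, 107415 ≤ k → k < 116028 → pointOk (k * 22) = true := between_extend pointOk 22 107415 116019 9 (p7u955) p7r956

theorem p7r957 : allRange pointOk 22 116028 9 = true := by decide +kernel
theorem p7u957 : ∀ k, 107415 ≤ k → k < 116037 → pointOk (k * 22) = true := between_extend pointOk 22 107415 116028 9 (p7u956) p7r957

theorem p7r958 : allRange pointOk 22 116037 9 = true := by decide +kernel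
theorem p7u958 : ∀ k, 107415 ≤ k → k < 116046 → pointOk (k * 22) = true := between_extend pointOk 22 107415 116037 9 (p7u957) p7r958

theorem p7r959 : allRange pointOk 22 116046 9 = true := by decide +kernel
theorem p7u959 : ∀ k, 107415 ≤ k → k < 116055 → pointOk (k * 22) = true := between_extend pointOk 22 107415 116046 9 (p7u958) p7r959

theorem p7r960 : allRange pointOk 22 116055 9 = true := by decide +kernel
theorem p7u960 : ∀ k, 107415 ≤ k → k < 116064 → pointOk (k * 22) = true := between_extend pointOk 22 107415 116055 9 (p7u959) p7r960

theorem p7r961 : allRange pointOk 22 116064 9 = true := by decide +kernel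
theorem p7u961 : ∀ k, 107415 ≤ k → k < 116073 → pointOk (k * 22) = true := between_extend pointOk 22 107415 116064 9 (p7u960) p7r961

theorem p7r962 : allRange pointOk 22 116073 9 = true := by decide +kernel
theorem p7u962 : ∀ k, 107415 ≤ k → k < 116082 → pointOk (k * 22) = true := between_extend pointOk 22 107415 116073 9 (p7u961) p7r962

theorem p7r963 : allRange pointOk 22 116082 9 = true := by decide +kernel
theorem p7u963 : ∀ k, 107415 ≤ k → k < 116091 → pointOk (k * 22) = true := between_extend pointOk 22 107415 116082 9 (p7u962) p7r963

theorem p7r964 : allRange pointOk 22 116091 9 = true := by decide +kernel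
theorem p7u964 : ∀ k, 107415 ≤ k → k < 116100 → pointOk (k * 22) = true := between_extend pointOk 22 107415 116091 9 (p7u963) p7r964

theorem p7r965 : allRange pointOk 22 116100 9 = true := by decide +kernel
theorem p7u965 : ∀ k, 107415 ≤ k → k < 116109 → pointOk (k * 22) = true := between_extend pointOk 22 107415 116100 9 (p7u964) p7r965

theorem p7r966 : allRange pointOk 22 116109 9 = true := by decide +kernel
theorem p7u966 : ∀ k, 107415 ≤ k → k < 116118 → pointOk (k * 22) = true := between_extend pointOk 22 107415 116109 9 (p7u965) p7r966

theorem p7r967 : allRange pointOk 22 116118 9 = true := by decide +kernel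
theorem p7u967 : ∀ k, 107415 ≤ k → k < 116127 → pointOk (k * 22) = true := between_extend pointOk 22 107415 116118 9 (p7u966) p7r967

theorem p7r968 : allRange pointOk 22 116127 9 = true := by decide +kernel
theorem p7u968 : ∀ k, 107415 ≤ k → k < 116136 → pointOk (k * 22) = true := between_extend pointOk 22 107415 116127 9 (p7u967) p7r968

theorem p7r969 : allRange pointOk 22 116136 9 = true := by decide +kernel
theorem p7u969 : ∀ k, 107415 ≤ k → k < 116145 → pointOk (k * 22) = true := between_extend pointOk 22 107415 116136 9 (p7u968) p7r969

theorem p7r970 : allRange pointOk 22 116145 9 = true := by decide +kernel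
theorem p7u970 : ∀ k, 107415 ≤ k → k < 116154 → pointOk (k * 22) = true := between_extend pointOk 22 107415 116145 9 (p7u969) p7r970

theorem p7r971 : allRange pointOk 22 116154 9 = true := by decide +kernel
theorem p7u971 : ∀ k, 107415 ≤ k → k < 116163 → pointOk (k * 22) = true := between_extend pointOk 22 107415 116154 9 (p7u970) p7r971

theorem p7r972 : allRange pointOk 22 116163 9 = true := by decide +kernel
theorem p7u972 : ∀ k, 107415 ≤ k → k < 116172 → pointOk (k * 22) = true := between_extend pointOk 22 107415 116163 9 (p7u971) p7r972

theorem p7r973 : allRange pointOk 22 116172 9 = true := by decide +kernel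
theorem p7u973 : ∀ k, 107415 ≤ k → k < 116181 → pointOk (k * 22) = true := between_extend pointOk 22 107415 116172 9 (p7u972) p7r973

theorem p7r974 : allRange pointOk 22 116181 9 = true := by decide +kernel
theorem p7u974 : ∀ k, 107415 ≤ k → k < 116190 → pointOk (k * 22) = true := between_extend pointOk 22 107415 116181 9 (p7u973) p7r974

theorem p7r975 : allRange pointOk 22 116190 9 = true := by decide +kernel
theorem p7u975 : ∀ k, 107415 ≤ k → k < 116199 → pointOk (k * 22) = true := between_extend pointOk 22 107415 116190 9 (p7u974) p7r975

theorem p7r976 : allRange pointOk 22 116199 9 = true := by decide +kernel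
theorem p7u976 : ∀ k, 107415 ≤ k → k < 116208 → pointOk (k * 22) = true := between_extend pointOk 22 107415 116199 9 (p7u975) p7r976

theorem p7r977 : allRange pointOk 22 116208 9 = true := by decide +kernel
theorem p7u977 : ∀ k, 107415 ≤ k → k < 116217 → pointOk (k * 22) = true := between_extend pointOk 22 107415 116208 9 (p7u976) p7r977

theorem p7r978 : allRange pointOk 22 116217 9 = true := by decide +kernel
theorem p7u978 : ∀ k, 107415 ≤ k → k < 116226 → pointOk (k * 22) = true := between_extend pointOk 22 107415 116217 9 (p7u977) p7r978

theorem p7r979 : allRange pointOk 22 116226 9 = true := by decide +kernel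
theorem p7u979 : ∀ k, 107415 ≤ k → k < 116235 → pointOk (k * 22) = true := between_extend pointOk 22 107415 116226 9 (p7u978) p7r979

theorem p7r980 : allRange pointOk 22 116235 9 = true := by decide +kernel
theorem p7u980 : ∀ k, 107415 ≤ k → k < 116244 → pointOk (k * 22) = true := between_extend pointOk 22 107415 116235 9 (p7u979) p7r980

theorem p7r981 : allRange pointOk 22 116244 9 = true := by decide +kernel
theorem p7u981 : ∀ k, 107415 ≤ k → k < 116253 → pointOk (k * 22) = true := between_extend pointOk 22 107415 116244 9 (p7u980) p7r981

theorem p7r982 : allRange pointOk 22 116253 9 = true := by decide +kernel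
theorem p7u982 : ∀ k, 107415 ≤ k → k < 116262 → pointOk (k * 22) = true := between_extend pointOk 22 107415 116253 9 (p7u981) p7r982

theorem p7r983 : allRange pointOk 22 116262 9 = true := by decide +kernel
theorem p7u983 : ∀ k, 107415 ≤ k → k < 116271 → pointOk (k * 22) = true := between_extend pointOk 22 107415 116262 9 (p7u982) p7r983

theorem p7r984 : allRange pointOk 22 116271 9 = true := by decide +kernel
theorem p7u984 : ∀ k, 107415 ≤ k → k < 116280 → pointOk (k * 22) = true := between_extend pointOk 22 107415 116271 9 (p7u983) p7r984

theorem p7r985 : allRange pointOk 22 116280 9 = true := by decide +kernel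
theorem p7u985 : ∀ k, 107415 ≤ k → k < 116289 → pointOk (k * 22) = true := between_extend pointOk 22 107415 116280 9 (p7u984) p7r985

theorem p7r986 : allRange pointOk 22 116289 9 = true := by decide +kernel
theorem p7u986 : ∀ k, 107415 ≤ k → k < 116298 → pointOk (k * 22) = true := between_extend pointOk 22 107415 116289 9 (p7u985) p7r986

theorem p7r987 : allRange pointOk 22 116298 9 = true := by decide +kernel
theorem p7u987 : ∀ k, 107415 ≤ k → k < 116307 → pointOk (k * 22) = true := between_extend pointOk 22 107415 116298 9 (p7u986) p7r987

theorem p7r988 : allRange pointOk 22 116307 9 = true := by decide +kernel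
theorem p7u988 : ∀ k, 107415 ≤ k → k < 116316 → pointOk (k * 22) = true := between_extend pointOk 22 107415 116307 9 (p7u987) p7r988

theorem p7r989 : allRange pointOk 22 116316 9 = true := by decide +kernel
theorem p7u989 : ∀ k, 107415 ≤ k → k < 116325 → pointOk (k * 22) = true := between_extend pointOk 22 107415 116316 9 (p7u988) p7r989

theorem p7r990 : allRange pointOk 22 116325 9 = true := by decide +kernel
theorem p7u990 : ∀ k, 107415 ≤ k → k < 116334 → pointOk (k * 22) = true := between_extend pointOk 22 107415 116325 9 (p7u989) p7r990

theorem p7r991 : allRange pointOk 22 116334 9 = true := by decide +kernel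
theorem p7u991 : ∀ k, 107415 ≤ k → k < 116343 → pointOk (k * 22) = true := between_extend pointOk 22 107415 116334 9 (p7u990) p7r991

theorem p7r992 : allRange pointOk 22 116343 9 = true := by decide +kernel
theorem p7u992 : ∀ k, 107415 ≤ k → k < 116352 → pointOk (k * 22) = true := between_extend pointOk 22 107415 116343 9 (p7u991) p7r992

theorem p7r993 : allRange pointOk 22 116352 9 = true := by decide +kernel
theorem p7u993 : ∀ k, 107415 ≤ k → k < 116361 → pointOk (k * 22) = true := between_extend pointOk 22 107415 116352 9 (p7u992) p7r993

theorem p7r994 : allRange pointOk 22 116361 9 = true := by decide +kernel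
theorem p7u994 : ∀ k, 107415 ≤ k → k < 116370 → pointOk (k * 22) = true := between_extend pointOk 22 107415 116361 9 (p7u993) p7r994

theorem p7r995 : allRange pointOk 22 116370 9 = true := by decide +kernel
theorem p7u995 : ∀ k, 107415 ≤ k → k < 116379 → pointOk (k * 22) = true := between_extend pointOk 22 107415 116370 9 (p7u994) p7r995

theorem p7r996 : allRange pointOk 22 116379 9 = true := by decide +kernel
theorem p7u996 : ∀ k, 107415 ≤ k → k < 116388 → pointOk (k * 22) = true := between_extend pointOk 22 107415 116379 9 (p7u995) p7r996

theorem p7r997 : allRange pointOk 22 116388 9 = true := by decide +kernel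
theorem p7u997 : ∀ k, 107415 ≤ k → k < 116397 → pointOk (k * 22) = true := between_extend pointOk 22 107415 116388 9 (p7u996) p7r997

theorem p7r998 : allRange pointOk 22 116397 9 = true := by decide +kernel
theorem p7u998 : ∀ k, 107415 ≤ k → k < 116406 → pointOk (k * 22) = true := between_extend pointOk 22 107415 116397 9 (p7u997) p7r998

theorem p7r999 : allRange pointOk 22 116406 9 = true := by decide +kernel
theorem p7u999 : ∀ k, 107415 ≤ k → k < 116415 → pointOk (k * 22) = true := between_extend pointOk 22 107415 116406 9 (p7u998) p7r999

theorem p7r1000 : allRange pointOk 22 116415 9 = true := by decide +kernel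
theorem p7u1000 : ∀ k, 107415 ≤ k → k < 116424 → pointOk (k * 22) = true := between_extend pointOk 22 107415 116415 9 (p7u999) p7r1000

theorem p7r1001 : allRange pointOk 22 116424 9 = true := by decide +kernel
theorem p7u1001 : ∀ k, 107415 ≤ k → k < 116433 → pointOk (k * 22) = true := between_extend pointOk 22 107415 116424 9 (p7u1000) p7r1001

theorem p7r1002 : allRange pointOk 22 116433 9 = true := by decide +kernel
theorem p7u1002 : ∀ k, 107415 ≤ k → k < 116442 → pointOk (k * 22) = true := between_extend pointOk 22 107415 116433 9 (p7u1001) p7r1002

theorem p7r1003 : allRange pointOk 22 116442 9 = true := by decide +kernel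
theorem p7u1003 : ∀ k, 107415 ≤ k → k < 116451 → pointOk (k * 22) = true := between_extend pointOk 22 107415 116442 9 (p7u1002) p7r1003

theorem p7r1004 : allRange pointOk 22 116451 9 = true := by decide +kernel
theorem p7u1004 : ∀ k, 107415 ≤ k → k < 116460 → pointOk (k * 22) = true := between_extend pointOk 22 107415 116451 9 (p7u1003) p7r1004

theorem p7r1005 : allRange pointOk 22 116460 9 = true := by decide +kernel
theorem p7u1005 : ∀ k, 107415 ≤ k → k < 116469 → pointOk (k * 22) = true := between_extend pointOk 22 107415 116460 9 (p7u1004) p7r1005

theorem p7r1006 : allRange pointOk 22 116469 9 = true := by decide +kernel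
theorem p7u1006 : ∀ k, 107415 ≤ k → k < 116478 → pointOk (k * 22) = true := between_extend pointOk 22 107415 116469 9 (p7u1005) p7r1006

theorem p7r1007 : allRange pointOk 22 116478 9 = true := by decide +kernel
theorem p7u1007 : ∀ k, 107415 ≤ k → k < 116487 → pointOk (k * 22) = true := between_extend pointOk 22 107415 116478 9 (p7u1006) p7r1007

theorem p7r1008 : allRange pointOk 22 116487 9 = true := by decide +kernel
theorem p7u1008 : ∀ k, 107415 ≤ k → k < 116496 → pointOk (k * 22) = true := between_extend pointOk 22 107415 116487 9 (p7u1007) p7r1008

theorem p7r1009 : allRange pointOk 22 116496 9 = true := by decide +kernel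
theorem p7u1009 : ∀ k, 107415 ≤ k → k < 116505 → pointOk (k * 22) = true := between_extend pointOk 22 107415 116496 9 (p7u1008) p7r1009

theorem p7r1010 : allRange pointOk 22 116505 9 = true := by decide +kernel
theorem p7u1010 : ∀ k, 107415 ≤ k → k < 116514 → pointOk (k * 22) = true := between_extend pointOk 22 107415 116505 9 (p7u1009) p7r1010

theorem p7r1011 : allRange pointOk 22 116514 9 = true := by decide +kernel
theorem p7u1011 : ∀ k, 107415 ≤ k → k < 116523 → pointOk (k * 22) = true := between_extend pointOk 22 107415 116514 9 (p7u1010) p7r1011

theorem p7r1012 : allRange pointOk 22 116523 9 = true := by decide +kernel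
theorem p7u1012 : ∀ k, 107415 ≤ k → k < 116532 → pointOk (k * 22) = true := between_extend pointOk 22 107415 116523 9 (p7u1011) p7r1012

theorem p7r1013 : allRange pointOk 22 116532 9 = true := by decide +kernel
theorem p7u1013 : ∀ k, 107415 ≤ k → k < 116541 → pointOk (k * 22) = true := between_extend pointOk 22 107415 116532 9 (p7u1012) p7r1013

theorem p7r1014 : allRange pointOk 22 116541 9 = true := by decide +kernel
theorem p7u1014 : ∀ k, 107415 ≤ k → k < 116550 → pointOk (k * 22) = true := between_extend pointOk 22 107415 116541 9 (p7u1013) p7r1014

theorem p7r1015 : allRange pointOk 22 116550 9 = true := by decide +kernel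
theorem p7u1015 : ∀ k, 107415 ≤ k → k < 116559 → pointOk (k * 22) = true := between_extend pointOk 22 107415 116550 9 (p7u1014) p7r1015

theorem p7r1016 : allRange pointOk 22 116559 9 = true := by decide +kernel
theorem p7u1016 : ∀ k, 107415 ≤ k → k < 116568 → pointOk (k * 22) = true := between_extend pointOk 22 107415 116559 9 (p7u1015) p7r1016

theorem p7r1017 : allRange pointOk 22 116568 9 = true := by decide +kernel
theorem p7u1017 : ∀ k, 107415 ≤ k → k < 116577 → pointOk (k * 22) = true := between_extend pointOk 22 107415 116568 9 (p7u1016) p7r1017

theorem p7r1018 : allRange pointOk 22 116577 9 = true := by decide +kernel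
theorem p7u1018 : ∀ k, 107415 ≤ k → k < 116586 → pointOk (k * 22) = true := between_extend pointOk 22 107415 116577 9 (p7u1017) p7r1018

theorem p7r1019 : allRange pointOk 22 116586 9 = true := by decide +kernel
theorem p7u1019 : ∀ k, 107415 ≤ k → k < 116595 → pointOk (k * 22) = true := between_extend pointOk 22 107415 116586 9 (p7u1018) p7r1019

theorem p7r1020 : allRange pointOk 22 116595 9 = true := by decide +kernel
theorem p7u1020 : ∀ k, 107415 ≤ k → k < 116604 → pointOk (k * 22) = true := between_extend pointOk 22 107415 116595 9 (p7u1019) p7r1020

theorem p7r1021 : allRange pointOk 22 116604 9 = true := by decide +kernel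
theorem p7u1021 : ∀ k, 107415 ≤ k → k < 116613 → pointOk (k * 22) = true := between_extend pointOk 22 107415 116604 9 (p7u1020) p7r1021

theorem p7r1022 : allRange pointOk 22 116613 9 = true := by decide +kernel
theorem p7u1022 : ∀ k, 107415 ≤ k → k < 116622 → pointOk (k * 22) = true := between_extend pointOk 22 107415 116613 9 (p7u1021) p7r1022

theorem p7r1023 : allRange pointOk 22 116622 9 = true := by decide +kernel
theorem p7u1023 : ∀ k, 107415 ≤ k → k < 116631 → pointOk (k * 22) = true := between_extend pointOk 22 107415 116622 9 (p7u1022) p7r1023

theorem p7r1024 : allRange pointOk 22 116631 9 = true := by decide +kernel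
theorem p7u1024 : ∀ k, 107415 ≤ k → k < 116640 → pointOk (k * 22) = true := between_extend pointOk 22 107415 116631 9 (p7u1023) p7r1024

theorem p7r1025 : allRange pointOk 22 116640 9 = true := by decide +kernel
theorem p7u1025 : ∀ k, 107415 ≤ k → k < 116649 → pointOk (k * 22) = true := between_extend pointOk 22 107415 116640 9 (p7u1024) p7r1025

theorem p7r1026 : allRange pointOk 22 116649 9 = true := by decide +kernel
theorem p7u1026 : ∀ k, 107415 ≤ k → k < 116658 → pointOk (k * 22) = true := between_extend pointOk 22 107415 116649 9 (p7u1025) p7r1026

theorem p7r1027 : allRange pointOk 22 116658 9 = true := by decide +kernel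
theorem p7u1027 : ∀ k, 107415 ≤ k → k < 116667 → pointOk (k * 22) = true := between_extend pointOk 22 107415 116658 9 (p7u1026) p7r1027

theorem p7r1028 : allRange pointOk 22 116667 9 = true := by decide +kernel
theorem p7u1028 : ∀ k, 107415 ≤ k → k < 116676 → pointOk (k * 22) = true := between_extend pointOk 22 107415 116667 9 (p7u1027) p7r1028

theorem p7r1029 : allRange pointOk 22 116676 9 = true := by decide +kernel
theorem p7u1029 : ∀ k, 107415 ≤ k → k < 116685 → pointOk (k * 22) = true := between_extend pointOk 22 107415 116676 9 (p7u1028) p7r1029

theorem p7r1030 : allRange pointOk 22 116685 9 = true := by decide +kernel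
theorem p7u1030 : ∀ k, 107415 ≤ k → k < 116694 → pointOk (k * 22) = true := between_extend pointOk 22 107415 116685 9 (p7u1029) p7r1030

theorem p7r1031 : allRange pointOk 22 116694 9 = true := by decide +kernel
theorem p7u1031 : ∀ k, 107415 ≤ k → k < 116703 → pointOk (k * 22) = true := between_extend pointOk 22 107415 116694 9 (p7u1030) p7r1031

theorem p7r1032 : allRange pointOk 22 116703 9 = true := by decide +kernel
theorem p7u1032 : ∀ k, 107415 ≤ k → k < 116712 → pointOk (k * 22) = true := between_extend pointOk 22 107415 116703 9 (p7u1031) p7r1032

theorem p7r1033 : allRange pointOk 22 116712 9 = true := by decide +kernel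
theorem p7u1033 : ∀ k, 107415 ≤ k → k < 116721 → pointOk (k * 22) = true := between_extend pointOk 22 107415 116712 9 (p7u1032) p7r1033

theorem p7r1034 : allRange pointOk 22 116721 9 = true := by decide +kernel
theorem p7u1034 : ∀ k, 107415 ≤ k → k < 116730 → pointOk (k * 22) = true := between_extend pointOk 22 107415 116721 9 (p7u1033) p7r1034

theorem p7r1035 : allRange pointOk 22 116730 9 = true := by decide +kernel
theorem p7u1035 : ∀ k, 107415 ≤ k → k < 116739 → pointOk (k * 22) = true := between_extend pointOk 22 107415 116730 9 (p7u1034) p7r1035

theorem p7r1036 : allRange pointOk 22 116739 9 = true := by decide +kernel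
theorem p7u1036 : ∀ k, 107415 ≤ k → k < 116748 → pointOk (k * 22) = true := between_extend pointOk 22 107415 116739 9 (p7u1035) p7r1036

theorem p7r1037 : allRange pointOk 22 116748 9 = true := by decide +kernel
theorem p7u1037 : ∀ k, 107415 ≤ k → k < 116757 → pointOk (k * 22) = true := between_extend pointOk 22 107415 116748 9 (p7u1036) p7r1037

theorem p7r1038 : allRange pointOk 22 116757 9 = true := by decide +kernel
theorem p7u1038 : ∀ k, 107415 ≤ k → k < 116766 → pointOk (k * 22) = true := between_extend pointOk 22 107415 116757 9 (p7u1037) p7r1038

theorem p7r1039 : allRange pointOk 22 116766 9 = true := by decide +kernel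
theorem p7u1039 : ∀ k, 107415 ≤ k → k < 116775 → pointOk (k * 22) = true := between_extend pointOk 22 107415 116766 9 (p7u1038) p7r1039

theorem p7r1040 : allRange pointOk 22 116775 9 = true := by decide +kernel
theorem p7u1040 : ∀ k, 107415 ≤ k → k < 116784 → pointOk (k * 22) = true := between_extend pointOk 22 107415 116775 9 (p7u1039) p7r1040

theorem p7r1041 : allRange pointOk 22 116784 9 = true := by decide +kernel
theorem p7u1041 : ∀ k, 107415 ≤ k → k < 116793 → pointOk (k * 22) = true := between_extend pointOk 22 107415 116784 9 (p7u1040) p7r1041

theorem p7r1042 : allRange pointOk 22 116793 9 = true := by decide +kernel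
theorem p7u1042 : ∀ k, 107415 ≤ k → k < 116802 → pointOk (k * 22) = true := between_extend pointOk 22 107415 116793 9 (p7u1041) p7r1042

theorem p7r1043 : allRange pointOk 22 116802 9 = true := by decide +kernel
theorem p7u1043 : ∀ k, 107415 ≤ k → k < 116811 → pointOk (k * 22) = true := between_extend pointOk 22 107415 116802 9 (p7u1042) p7r1043

theorem p7r1044 : allRange pointOk 22 116811 9 = true := by decide +kernel
theorem p7u1044 : ∀ k, 107415 ≤ k → k < 116820 → pointOk (k * 22) = true := between_extend pointOk 22 107415 116811 9 (p7u1043) p7r1044

theorem p7r1045 : allRange pointOk 22 116820 9 = true := by decide +kernel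
theorem p7u1045 : ∀ k, 107415 ≤ k → k < 116829 → pointOk (k * 22) = true := between_extend pointOk 22 107415 116820 9 (p7u1044) p7r1045

theorem p7r1046 : allRange pointOk 22 116829 9 = true := by decide +kernel
theorem p7u1046 : ∀ k, 107415 ≤ k → k < 116838 → pointOk (k * 22) = true := between_extend pointOk 22 107415 116829 9 (p7u1045) p7r1046

theorem p7r1047 : allRange pointOk 22 116838 9 = true := by decide +kernel
theorem p7u1047 : ∀ k, 107415 ≤ k → k < 116847 → pointOk (k * 22) = true := between_extend pointOk 22 107415 116838 9 (p7u1046) p7r1047

theorem p7r1048 : allRange pointOk 22 116847 9 = true := by decide +kernel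
theorem p7u1048 : ∀ k, 107415 ≤ k → k < 116856 → pointOk (k * 22) = true := between_extend pointOk 22 107415 116847 9 (p7u1047) p7r1048

theorem p7r1049 : allRange pointOk 22 116856 9 = true := by decide +kernel
theorem p7u1049 : ∀ k, 107415 ≤ k → k < 116865 → pointOk (k * 22) = true := between_extend pointOk 22 107415 116856 9 (p7u1048) p7r1049

theorem p7r1050 : allRange pointOk 22 116865 9 = true := by decide +kernel
theorem p7u1050 : ∀ k, 107415 ≤ k → k < 116874 → pointOk (k * 22) = true := between_extend pointOk 22 107415 116865 9 (p7u1049) p7r1050

theorem p7r1051 : allRange pointOk 22 116874 9 = true := by decide +kernel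
theorem p7u1051 : ∀ k, 107415 ≤ k → k < 116883 → pointOk (k * 22) = true := between_extend pointOk 22 107415 116874 9 (p7u1050) p7r1051

theorem p7r1052 : allRange pointOk 22 116883 9 = true := by decide +kernel
theorem p7u1052 : ∀ k, 107415 ≤ k → k < 116892 → pointOk (k * 22) = true := between_extend pointOk 22 107415 116883 9 (p7u1051) p7r1052

theorem p7r1053 : allRange pointOk 22 116892 9 = true := by decide +kernel
theorem p7u1053 : ∀ k, 107415 ≤ k → k < 116901 → pointOk (k * 22) = true := between_extend pointOk 22 107415 116892 9 (p7u1052) p7r1053

theorem p7r1054 : allRange pointOk 22 116901 9 = true := by decide +kernel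
theorem p7u1054 : ∀ k, 107415 ≤ k → k < 116910 → pointOk (k * 22) = true := between_extend pointOk 22 107415 116901 9 (p7u1053) p7r1054

theorem p7r1055 : allRange pointOk 22 116910 9 = true := by decide +kernel
theorem p7u1055 : ∀ k, 107415 ≤ k → k < 116919 → pointOk (k * 22) = true := between_extend pointOk 22 107415 116910 9 (p7u1054) p7r1055

theorem p7r1056 : allRange pointOk 22 116919 9 = true := by decide +kernel
theorem p7u1056 : ∀ k, 107415 ≤ k → k < 116928 → pointOk (k * 22) = true := between_extend pointOk 22 107415 116919 9 (p7u1055) p7r1056

theorem p7r1057 : allRange pointOk 22 116928 9 = true := by decide +kernel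
theorem p7u1057 : ∀ k, 107415 ≤ k → k < 116937 → pointOk (k * 22) = true := between_extend pointOk 22 107415 116928 9 (p7u1056) p7r1057

theorem p7r1058 : allRange pointOk 22 116937 9 = true := by decide +kernel
theorem p7u1058 : ∀ k, 107415 ≤ k → k < 116946 → pointOk (k * 22) = true := between_extend pointOk 22 107415 116937 9 (p7u1057) p7r1058

theorem p7r1059 : allRange pointOk 22 116946 9 = true := by decide +kernel
theorem p7u1059 : ∀ k, 107415 ≤ k → k < 116955 → pointOk (k * 22) = true := between_extend pointOk 22 107415 116946 9 (p7u1058) p7r1059

theorem p7r1060 : allRange pointOk 22 116955 9 = true := by decide +kernel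
theorem p7u1060 : ∀ k, 107415 ≤ k → k < 116964 → pointOk (k * 22) = true := between_extend pointOk 22 107415 116955 9 (p7u1059) p7r1060

theorem p7r1061 : allRange pointOk 22 116964 9 = true := by decide +kernel
theorem p7u1061 : ∀ k, 107415 ≤ k → k < 116973 → pointOk (k * 22) = true := between_extend pointOk 22 107415 116964 9 (p7u1060) p7r1061

theorem p7r1062 : allRange pointOk 22 116973 9 = true := by decide +kernel
theorem p7u1062 : ∀ k, 107415 ≤ k → k < 116982 → pointOk (k * 22) = true := between_extend pointOk 22 107415 116973 9 (p7u1061) p7r1062

theorem p7r1063 : allRange pointOk 22 116982 9 = true := by decide +kernel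
theorem p7u1063 : ∀ k, 107415 ≤ k → k < 116991 → pointOk (k * 22) = true := between_extend pointOk 22 107415 116982 9 (p7u1062) p7r1063

theorem p7r1064 : allRange pointOk 22 116991 9 = true := by decide +kernel
theorem p7u1064 : ∀ k, 107415 ≤ k → k < 117000 → pointOk (k * 22) = true := between_extend pointOk 22 107415 116991 9 (p7u1063) p7r1064

theorem p7r1065 : allRange pointOk 22 117000 9 = true := by decide +kernel
theorem p7u1065 : ∀ k, 107415 ≤ k → k < 117009 → pointOk (k * 22) = true := between_extend pointOk 22 107415 117000 9 (p7u1064) p7r1065

theorem p7r1066 : allRange pointOk 22 117009 9 = true := by decide +kernel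
theorem p7u1066 : ∀ k, 107415 ≤ k → k < 117018 → pointOk (k * 22) = true := between_extend pointOk 22 107415 117009 9 (p7u1065) p7r1066

theorem p7r1067 : allRange pointOk 22 117018 9 = true := by decide +kernel
theorem p7u1067 : ∀ k, 107415 ≤ k → k < 117027 → pointOk (k * 22) = true := between_extend pointOk 22 107415 117018 9 (p7u1066) p7r1067

theorem p7r1068 : allRange pointOk 22 117027 9 = true := by decide +kernel
theorem p7u1068 : ∀ k, 107415 ≤ k → k < 117036 → pointOk (k * 22) = true := between_extend pointOk 22 107415 117027 9 (p7u1067) p7r1068

theorem p7r1069 : allRange pointOk 22 117036 9 = true := by decide +kernel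
theorem p7u1069 : ∀ k, 107415 ≤ k → k < 117045 → pointOk (k * 22) = true := between_extend pointOk 22 107415 117036 9 (p7u1068) p7r1069

theorem p7r1070 : allRange pointOk 22 117045 9 = true := by decide +kernel
theorem p7u1070 : ∀ k, 107415 ≤ k → k < 117054 → pointOk (k * 22) = true := between_extend pointOk 22 107415 117045 9 (p7u1069) p7r1070

theorem p7r1071 : allRange pointOk 22 117054 9 = true := by decide +kernel
theorem p7u1071 : ∀ k, 107415 ≤ k → k < 117063 → pointOk (k * 22) = true := between_extend pointOk 22 107415 117054 9 (p7u1070) p7r1071

theorem p7r1072 : allRange pointOk 22 117063 9 = true := by decide +kernel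
theorem p7u1072 : ∀ k, 107415 ≤ k → k < 117072 → pointOk (k * 22) = true := between_extend pointOk 22 107415 117063 9 (p7u1071) p7r1072

theorem p7r1073 : allRange pointOk 22 117072 9 = true := by decide +kernel
theorem p7u1073 : ∀ k, 107415 ≤ k → k < 117081 → pointOk (k * 22) = true := between_extend pointOk 22 107415 117072 9 (p7u1072) p7r1073

theorem p7r1074 : allRange pointOk 22 117081 9 = true := by decide +kernel
theorem p7u1074 : ∀ k, 107415 ≤ k → k < 117090 → pointOk (k * 22) = true := between_extend pointOk 22 107415 117081 9 (p7u1073) p7r1074

theorem p7r1075 : allRange pointOk 22 117090 9 = true := by decide +kernel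
theorem p7u1075 : ∀ k, 107415 ≤ k → k < 117099 → pointOk (k * 22) = true := between_extend pointOk 22 107415 117090 9 (p7u1074) p7r1075

theorem p7r1076 : allRange pointOk 22 117099 9 = true := by decide +kernel
theorem p7u1076 : ∀ k, 107415 ≤ k → k < 117108 → pointOk (k * 22) = true := between_extend pointOk 22 107415 117099 9 (p7u1075) p7r1076

theorem p7r1077 : allRange pointOk 22 117108 9 = true := by decide +kernel
theorem p7u1077 : ∀ k, 107415 ≤ k → k < 117117 → pointOk (k * 22) = true := between_extend pointOk 22 107415 117108 9 (p7u1076) p7r1077

theorem p7r1078 : allRange pointOk 22 117117 9 = true := by decide +kernel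
theorem p7u1078 : ∀ k, 107415 ≤ k → k < 117126 → pointOk (k * 22) = true := between_extend pointOk 22 107415 117117 9 (p7u1077) p7r1078

theorem p7r1079 : allRange pointOk 22 117126 9 = true := by decide +kernel
theorem p7u1079 : ∀ k, 107415 ≤ k → k < 117135 → pointOk (k * 22) = true := between_extend pointOk 22 107415 117126 9 (p7u1078) p7r1079

theorem p7r1080 : allRange pointOk 22 117135 9 = true := by decide +kernel
theorem p7u1080 : ∀ k, 107415 ≤ k → k < 117144 → pointOk (k * 22) = true := between_extend pointOk 22 107415 117135 9 (p7u1079) p7r1080

theorem p7r1081 : allRange pointOk 22 117144 9 = true := by decide +kernel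
theorem p7u1081 : ∀ k, 107415 ≤ k → k < 117153 → pointOk (k * 22) = true := between_extend pointOk 22 107415 117144 9 (p7u1080) p7r1081

theorem p7r1082 : allRange pointOk 22 117153 9 = true := by decide +kernel
theorem p7u1082 : ∀ k, 107415 ≤ k → k < 117162 → pointOk (k * 22) = true := between_extend pointOk 22 107415 117153 9 (p7u1081) p7r1082

theorem p7r1083 : allRange pointOk 22 117162 9 = true := by decide +kernel
theorem p7u1083 : ∀ k, 107415 ≤ k → k < 117171 → pointOk (k * 22) = true := between_extend pointOk 22 107415 117162 9 (p7u1082) p7r1083

theorem p7r1084 : allRange pointOk 22 117171 9 = true := by decide +kernel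
theorem p7u1084 : ∀ k, 107415 ≤ k → k < 117180 → pointOk (k * 22) = true := between_extend pointOk 22 107415 117171 9 (p7u1083) p7r1084

theorem p7r1085 : allRange pointOk 22 117180 9 = true := by decide +kernel
theorem p7u1085 : ∀ k, 107415 ≤ k → k < 117189 → pointOk (k * 22) = true := between_extend pointOk 22 107415 117180 9 (p7u1084) p7r1085

theorem p7r1086 : allRange pointOk 22 117189 9 = true := by decide +kernel
theorem p7u1086 : ∀ k, 107415 ≤ k → k < 117198 → pointOk (k * 22) = true := between_extend pointOk 22 107415 117189 9 (p7u1085) p7r1086

theorem p7r1087 : allRange pointOk 22 117198 9 = true := by decide +kernel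
theorem p7u1087 : ∀ k, 107415 ≤ k → k < 117207 → pointOk (k * 22) = true := between_extend pointOk 22 107415 117198 9 (p7u1086) p7r1087

theorem p7r1088 : allRange pointOk 22 117207 9 = true := by decide +kernel
theorem p7u1088 : ∀ k, 107415 ≤ k → k < 117216 → pointOk (k * 22) = true := between_extend pointOk 22 107415 117207 9 (p7u1087) p7r1088

theorem p7r1089 : allRange pointOk 22 117216 9 = true := by decide +kernel
theorem p7u1089 : ∀ k, 107415 ≤ k → k < 117225 → pointOk (k * 22) = true := between_extend pointOk 22 107415 117216 9 (p7u1088) p7r1089

theorem p7r1090 : allRange pointOk 22 117225 9 = true := by decide +kernel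
theorem p7u1090 : ∀ k, 107415 ≤ k → k < 117234 → pointOk (k * 22) = true := between_extend pointOk 22 107415 117225 9 (p7u1089) p7r1090

theorem p7r1091 : allRange pointOk 22 117234 9 = true := by decide +kernel
theorem p7u1091 : ∀ k, 107415 ≤ k → k < 117243 → pointOk (k * 22) = true := between_extend pointOk 22 107415 117234 9 (p7u1090) p7r1091

theorem p7r1092 : allRange pointOk 22 117243 9 = true := by decide +kernel
theorem p7u1092 : ∀ k, 107415 ≤ k → k < 117252 → pointOk (k * 22) = true := between_extend pointOk 22 107415 117243 9 (p7u1091) p7r1092

theorem p7r1093 : allRange pointOk 22 117252 9 = true := by decide +kernel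
theorem p7u1093 : ∀ k, 107415 ≤ k → k < 117261 → pointOk (k * 22) = true := between_extend pointOk 22 107415 117252 9 (p7u1092) p7r1093

theorem p7r1094 : allRange pointOk 22 117261 9 = true := by decide +kernel
theorem p7u1094 : ∀ k, 107415 ≤ k → k < 117270 → pointOk (k * 22) = true := between_extend pointOk 22 107415 117261 9 (p7u1093) p7r1094

theorem p7r1095 : allRange pointOk 22 117270 9 = true := by decide +kernel
theorem p7u1095 : ∀ k, 107415 ≤ k → k < 117279 → pointOk (k * 22) = true := between_extend pointOk 22 107415 117270 9 (p7u1094) p7r1095

theorem p7r1096 : allRange pointOk 22 117279 9 = true := by decide +kernel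
theorem p7u1096 : ∀ k, 107415 ≤ k → k < 117288 → pointOk (k * 22) = true := between_extend pointOk 22 107415 117279 9 (p7u1095) p7r1096

theorem p7r1097 : allRange pointOk 22 117288 9 = true := by decide +kernel
theorem p7u1097 : ∀ k, 107415 ≤ k → k < 117297 → pointOk (k * 22) = true := between_extend pointOk 22 107415 117288 9 (p7u1096) p7r1097

theorem p7r1098 : allRange pointOk 22 117297 9 = true := by decide +kernel
theorem p7u1098 : ∀ k, 107415 ≤ k → k < 117306 → pointOk (k * 22) = true := between_extend pointOk 22 107415 117297 9 (p7u1097) p7r1098

theorem p7r1099 : allRange pointOk 22 117306 9 = true := by decide +kernel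
theorem p7u1099 : ∀ k, 107415 ≤ k → k < 117315 → pointOk (k * 22) = true := between_extend pointOk 22 107415 117306 9 (p7u1098) p7r1099

theorem p7r1100 : allRange pointOk 22 117315 9 = true := by decide +kernel
theorem p7u1100 : ∀ k, 107415 ≤ k → k < 117324 → pointOk (k * 22) = true := between_extend pointOk 22 107415 117315 9 (p7u1099) p7r1100

theorem p7r1101 : allRange pointOk 22 117324 9 = true := by decide +kernel
theorem p7u1101 : ∀ k, 107415 ≤ k → k < 117333 → pointOk (k * 22) = true := between_extend pointOk 22 107415 117324 9 (p7u1100) p7r1101

theorem p7r1102 : allRange pointOk 22 117333 9 = true := by decide +kernel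
theorem p7u1102 : ∀ k, 107415 ≤ k → k < 117342 → pointOk (k * 22) = true := between_extend pointOk 22 107415 117333 9 (p7u1101) p7r1102

theorem p7r1103 : allRange pointOk 22 117342 9 = true := by decide +kernel
theorem p7u1103 : ∀ k, 107415 ≤ k → k < 117351 → pointOk (k * 22) = true := between_extend pointOk 22 107415 117342 9 (p7u1102) p7r1103

theorem p7r1104 : allRange pointOk 22 117351 9 = true := by decide +kernel
theorem p7u1104 : ∀ k, 107415 ≤ k → k < 117360 → pointOk (k * 22) = true := between_extend pointOk 22 107415 117351 9 (p7u1103) p7r1104

theorem p7r1105 : allRange pointOk 22 117360 9 = true := by decide +kernel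
theorem p7u1105 : ∀ k, 107415 ≤ k → k < 117369 → pointOk (k * 22) = true := between_extend pointOk 22 107415 117360 9 (p7u1104) p7r1105

theorem p7r1106 : allRange pointOk 22 117369 9 = true := by decide +kernel
theorem p7u1106 : ∀ k, 107415 ≤ k → k < 117378 → pointOk (k * 22) = true := between_extend pointOk 22 107415 117369 9 (p7u1105) p7r1106

theorem p7r1107 : allRange pointOk 22 117378 9 = true := by decide +kernel
theorem p7u1107 : ∀ k, 107415 ≤ k → k < 117387 → pointOk (k * 22) = true := between_extend pointOk 22 107415 117378 9 (p7u1106) p7r1107

theorem p7r1108 : allRange pointOk 22 117387 9 = true := by decide +kernel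
theorem p7u1108 : ∀ k, 107415 ≤ k → k < 117396 → pointOk (k * 22) = true := between_extend pointOk 22 107415 117387 9 (p7u1107) p7r1108

theorem p7r1109 : allRange pointOk 22 117396 9 = true := by decide +kernel
theorem p7u1109 : ∀ k, 107415 ≤ k → k < 117405 → pointOk (k * 22) = true := between_extend pointOk 22 107415 117396 9 (p7u1108) p7r1109

theorem p7r1110 : allRange pointOk 22 117405 9 = true := by decide +kernel
theorem p7u1110 : ∀ k, 107415 ≤ k → k < 117414 → pointOk (k * 22) = true := between_extend pointOk 22 107415 117405 9 (p7u1109) p7r1110

theorem p7r1111 : allRange pointOk 22 117414 9 = true := by decide +kernel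
theorem p7u1111 : ∀ k, 107415 ≤ k → k < 117423 → pointOk (k * 22) = true := between_extend pointOk 22 107415 117414 9 (p7u1110) p7r1111

theorem p7r1112 : allRange pointOk 22 117423 9 = true := by decide +kernel
theorem p7u1112 : ∀ k, 107415 ≤ k → k < 117432 → pointOk (k * 22) = true := between_extend pointOk 22 107415 117423 9 (p7u1111) p7r1112

theorem p7r1113 : allRange pointOk 22 117432 9 = true := by decide +kernel
theorem p7u1113 : ∀ k, 107415 ≤ k → k < 117441 → pointOk (k * 22) = true := between_extend pointOk 22 107415 117432 9 (p7u1112) p7r1113

theorem p7r1114 : allRange pointOk 22 117441 9 = true := by decide +kernel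
theorem p7u1114 : ∀ k, 107415 ≤ k → k < 117450 → pointOk (k * 22) = true := between_extend pointOk 22 107415 117441 9 (p7u1113) p7r1114

theorem p7r1115 : allRange pointOk 22 117450 9 = true := by decide +kernel
theorem p7u1115 : ∀ k, 107415 ≤ k → k < 117459 → pointOk (k * 22) = true := between_extend pointOk 22 107415 117450 9 (p7u1114) p7r1115

theorem p7r1116 : allRange pointOk 22 117459 9 = true := by decide +kernel
theorem p7u1116 : ∀ k, 107415 ≤ k → k < 117468 → pointOk (k * 22) = true := between_extend pointOk 22 107415 117459 9 (p7u1115) p7r1116

theorem p7r1117 : allRange pointOk 22 117468 9 = true := by decide +kernel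
theorem p7u1117 : ∀ k, 107415 ≤ k → k < 117477 → pointOk (k * 22) = true := between_extend pointOk 22 107415 117468 9 (p7u1116) p7r1117

theorem p7r1118 : allRange pointOk 22 117477 9 = true := by decide +kernel
theorem p7u1118 : ∀ k, 107415 ≤ k → k < 117486 → pointOk (k * 22) = true := between_extend pointOk 22 107415 117477 9 (p7u1117) p7r1118

theorem p7r1119 : allRange pointOk 22 117486 9 = true := by decide +kernel
theorem p7u1119 : ∀ k, 107415 ≤ k → k < 117495 → pointOk (k * 22) = true := between_extend pointOk 22 107415 117486 9 (p7u1118) p7r1119

theorem p7r1120 : allRange pointOk 22 117495 9 = true := by decide +kernel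
theorem p7u1120 : ∀ k, 107415 ≤ k → k < 117504 → pointOk (k * 22) = true := between_extend pointOk 22 107415 117495 9 (p7u1119) p7r1120

theorem p7r1121 : allRange pointOk 22 117504 9 = true := by decide +kernel
theorem p7u1121 : ∀ k, 107415 ≤ k → k < 117513 → pointOk (k * 22) = true := between_extend pointOk 22 107415 117504 9 (p7u1120) p7r1121

theorem p7r1122 : allRange pointOk 22 117513 9 = true := by decide +kernel
theorem p7u1122 : ∀ k, 107415 ≤ k → k < 117522 → pointOk (k * 22) = true := between_extend pointOk 22 107415 117513 9 (p7u1121) p7r1122

theorem p7r1123 : allRange pointOk 22 117522 9 = true := by decide +kernel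
theorem p7u1123 : ∀ k, 107415 ≤ k → k < 117531 → pointOk (k * 22) = true := between_extend pointOk 22 107415 117522 9 (p7u1122) p7r1123

theorem p7r1124 : allRange pointOk 22 117531 9 = true := by decide +kernel
theorem p7u1124 : ∀ k, 107415 ≤ k → k < 117540 → pointOk (k * 22) = true := between_extend pointOk 22 107415 117531 9 (p7u1123) p7r1124

theorem p7r1125 : allRange pointOk 22 117540 9 = true := by decide +kernel
theorem p7u1125 : ∀ k, 107415 ≤ k → k < 117549 → pointOk (k * 22) = true := between_extend pointOk 22 107415 117540 9 (p7u1124) p7r1125

theorem p7r1126 : allRange pointOk 22 117549 9 = true := by decide +kernel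
theorem p7u1126 : ∀ k, 107415 ≤ k → k < 117558 → pointOk (k * 22) = true := between_extend pointOk 22 107415 117549 9 (p7u1125) p7r1126

theorem p7r1127 : allRange pointOk 22 117558 9 = true := by decide +kernel
theorem p7u1127 : ∀ k, 107415 ≤ k → k < 117567 → pointOk (k * 22) = true := between_extend pointOk 22 107415 117558 9 (p7u1126) p7r1127

theorem p7r1128 : allRange pointOk 22 117567 9 = true := by decide +kernel
theorem p7u1128 : ∀ k, 107415 ≤ k → k < 117576 → pointOk (k * 22) = true := between_extend pointOk 22 107415 117567 9 (p7u1127) p7r1128

theorem p7r1129 : allRange pointOk 22 117576 9 = true := by decide +kernel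
theorem p7u1129 : ∀ k, 107415 ≤ k → k < 117585 → pointOk (k * 22) = true := between_extend pointOk 22 107415 117576 9 (p7u1128) p7r1129

theorem p7r1130 : allRange pointOk 22 117585 9 = true := by decide +kernel
theorem p7u1130 : ∀ k, 107415 ≤ k → k < 117594 → pointOk (k * 22) = true := between_extend pointOk 22 107415 117585 9 (p7u1129) p7r1130

theorem p7r1131 : allRange pointOk 22 117594 9 = true := by decide +kernel
theorem p7u1131 : ∀ k, 107415 ≤ k → k < 117603 → pointOk (k * 22) = true := between_extend pointOk 22 107415 117594 9 (p7u1130) p7r1131

theorem p7r1132 : allRange pointOk 22 117603 9 = true := by decide +kernel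
theorem p7u1132 : ∀ k, 107415 ≤ k → k < 117612 → pointOk (k * 22) = true := between_extend pointOk 22 107415 117603 9 (p7u1131) p7r1132

theorem p7r1133 : allRange pointOk 22 117612 9 = true := by decide +kernel
theorem p7u1133 : ∀ k, 107415 ≤ k → k < 117621 → pointOk (k * 22) = true := between_extend pointOk 22 107415 117612 9 (p7u1132) p7r1133

theorem p7r1134 : allRange pointOk 22 117621 9 = true := by decide +kernel
theorem p7u1134 : ∀ k, 107415 ≤ k → k < 117630 → pointOk (k * 22) = true := between_extend pointOk 22 107415 117621 9 (p7u1133) p7r1134

theorem p7r1135 : allRange pointOk 22 117630 9 = true := by decide +kernel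
theorem p7u1135 : ∀ k, 107415 ≤ k → k < 117639 → pointOk (k * 22) = true := between_extend pointOk 22 107415 117630 9 (p7u1134) p7r1135

theorem p7r1136 : allRange pointOk 22 117639 9 = true := by decide +kernel
theorem p7u1136 : ∀ k, 107415 ≤ k → k < 117648 → pointOk (k * 22) = true := between_extend pointOk 22 107415 117639 9 (p7u1135) p7r1136

theorem p7r1137 : allRange pointOk 22 117648 9 = true := by decide +kernel
theorem p7u1137 : ∀ k, 107415 ≤ k → k < 117657 → pointOk (k * 22) = true := between_extend pointOk 22 107415 117648 9 (p7u1136) p7r1137

theorem p7r1138 : allRange pointOk 22 117657 9 = true := by decide +kernel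
theorem p7u1138 : ∀ k, 107415 ≤ k → k < 117666 → pointOk (k * 22) = true := between_extend pointOk 22 107415 117657 9 (p7u1137) p7r1138

theorem p7r1139 : allRange pointOk 22 117666 9 = true := by decide +kernel
theorem p7u1139 : ∀ k, 107415 ≤ k → k < 117675 → pointOk (k * 22) = true := between_extend pointOk 22 107415 117666 9 (p7u1138) p7r1139

theorem p7r1140 : allRange pointOk 22 117675 9 = true := by decide +kernel
theorem p7u1140 : ∀ k, 107415 ≤ k → k < 117684 → pointOk (k * 22) = true := between_extend pointOk 22 107415 117675 9 (p7u1139) p7r1140

theorem p7r1141 : allRange pointOk 22 117684 9 = true := by decide +kernel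
theorem p7u1141 : ∀ k, 107415 ≤ k → k < 117693 → pointOk (k * 22) = true := between_extend pointOk 22 107415 117684 9 (p7u1140) p7r1141

theorem p7r1142 : allRange pointOk 22 117693 9 = true := by decide +kernel
theorem p7u1142 : ∀ k, 107415 ≤ k → k < 117702 → pointOk (k * 22) = true := between_extend pointOk 22 107415 117693 9 (p7u1141) p7r1142

theorem p7r1143 : allRange pointOk 22 117702 9 = true := by decide +kernel
theorem p7u1143 : ∀ k, 107415 ≤ k → k < 117711 → pointOk (k * 22) = true := between_extend pointOk 22 107415 117702 9 (p7u1142) p7r1143

theorem p7r1144 : allRange pointOk 22 117711 9 = true := by decide +kernel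
theorem p7u1144 : ∀ k, 107415 ≤ k → k < 117720 → pointOk (k * 22) = true := between_extend pointOk 22 107415 117711 9 (p7u1143) p7r1144

theorem p7r1145 : allRange pointOk 22 117720 9 = true := by decide +kernel
theorem p7u1145 : ∀ k, 107415 ≤ k → k < 117729 → pointOk (k * 22) = true := between_extend pointOk 22 107415 117720 9 (p7u1144) p7r1145

theorem p7r1146 : allRange pointOk 22 117729 9 = true := by decide +kernel
theorem p7u1146 : ∀ k, 107415 ≤ k → k < 117738 → pointOk (k * 22) = true := between_extend pointOk 22 107415 117729 9 (p7u1145) p7r1146

theorem p7r1147 : allRange pointOk 22 117738 9 = true := by decide +kernel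
theorem p7u1147 : ∀ k, 107415 ≤ k → k < 117747 → pointOk (k * 22) = true := between_extend pointOk 22 107415 117738 9 (p7u1146) p7r1147

theorem p7r1148 : allRange pointOk 22 117747 9 = true := by decide +kernel
theorem p7u1148 : ∀ k, 107415 ≤ k → k < 117756 → pointOk (k * 22) = true := between_extend pointOk 22 107415 117747 9 (p7u1147) p7r1148

theorem p7r1149 : allRange pointOk 22 117756 9 = true := by decide +kernel
theorem p7u1149 : ∀ k, 107415 ≤ k → k < 117765 → pointOk (k * 22) = true := between_extend pointOk 22 107415 117756 9 (p7u1148) p7r1149

theorem p7r1150 : allRange pointOk 22 117765 9 = true := by decide +kernel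
theorem p7u1150 : ∀ k, 107415 ≤ k → k < 117774 → pointOk (k * 22) = true := between_extend pointOk 22 107415 117765 9 (p7u1149) p7r1150

theorem p7r1151 : allRange pointOk 22 117774 9 = true := by decide +kernel
theorem p7u1151 : ∀ k, 107415 ≤ k → k < 117783 → pointOk (k * 22) = true := between_extend pointOk 22 107415 117774 9 (p7u1150) p7r1151

theorem p7r1152 : allRange pointOk 22 117783 9 = true := by decide +kernel
theorem p7u1152 : ∀ k, 107415 ≤ k → k < 117792 → pointOk (k * 22) = true := between_extend pointOk 22 107415 117783 9 (p7u1151) p7r1152

theorem p7r1153 : allRange pointOk 22 117792 9 = true := by decide +kernel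
theorem p7u1153 : ∀ k, 107415 ≤ k → k < 117801 → pointOk (k * 22) = true := between_extend pointOk 22 107415 117792 9 (p7u1152) p7r1153

theorem p7r1154 : allRange pointOk 22 117801 9 = true := by decide +kernel
theorem p7u1154 : ∀ k, 107415 ≤ k → k < 117810 → pointOk (k * 22) = true := between_extend pointOk 22 107415 117801 9 (p7u1153) p7r1154

theorem p7r1155 : allRange pointOk 22 117810 9 = true := by decide +kernel
theorem p7u1155 : ∀ k, 107415 ≤ k → k < 117819 → pointOk (k * 22) = true := between_extend pointOk 22 107415 117810 9 (p7u1154) p7r1155

theorem p7r1156 : allRange pointOk 22 117819 9 = true := by decide +kernel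
theorem p7u1156 : ∀ k, 107415 ≤ k → k < 117828 → pointOk (k * 22) = true := between_extend pointOk 22 107415 117819 9 (p7u1155) p7r1156

theorem p7r1157 : allRange pointOk 22 117828 9 = true := by decide +kernel
theorem p7u1157 : ∀ k, 107415 ≤ k → k < 117837 → pointOk (k * 22) = true := between_extend pointOk 22 107415 117828 9 (p7u1156) p7r1157

theorem p7r1158 : allRange pointOk 22 117837 9 = true := by decide +kernel
theorem p7u1158 : ∀ k, 107415 ≤ k → k < 117846 → pointOk (k * 22) = true := between_extend pointOk 22 107415 117837 9 (p7u1157) p7r1158

theorem p7r1159 : allRange pointOk 22 117846 9 = true := by decide +kernel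
theorem p7u1159 : ∀ k, 107415 ≤ k → k < 117855 → pointOk (k * 22) = true := between_extend pointOk 22 107415 117846 9 (p7u1158) p7r1159

theorem p7r1160 : allRange pointOk 22 117855 9 = true := by decide +kernel
theorem p7u1160 : ∀ k, 107415 ≤ k → k < 117864 → pointOk (k * 22) = true := between_extend pointOk 22 107415 117855 9 (p7u1159) p7r1160

theorem p7r1161 : allRange pointOk 22 117864 9 = true := by decide +kernel
theorem p7u1161 : ∀ k, 107415 ≤ k → k < 117873 → pointOk (k * 22) = true := between_extend pointOk 22 107415 117864 9 (p7u1160) p7r1161

theorem p7r1162 : allRange pointOk 22 117873 9 = true := by decide +kernel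
theorem p7u1162 : ∀ k, 107415 ≤ k → k < 117882 → pointOk (k * 22) = true := between_extend pointOk 22 107415 117873 9 (p7u1161) p7r1162

theorem p7r1163 : allRange pointOk 22 117882 9 = true := by decide +kernel
theorem p7u1163 : ∀ k, 107415 ≤ k → k < 117891 → pointOk (k * 22) = true := between_extend pointOk 22 107415 117882 9 (p7u1162) p7r1163

theorem p7r1164 : allRange pointOk 22 117891 9 = true := by decide +kernel
theorem p7u1164 : ∀ k, 107415 ≤ k → k < 117900 → pointOk (k * 22) = true := between_extend pointOk 22 107415 117891 9 (p7u1163) p7r1164

theorem p7r1165 : allRange pointOk 22 117900 9 = true := by decide +kernel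
theorem p7u1165 : ∀ k, 107415 ≤ k → k < 117909 → pointOk (k * 22) = true := between_extend pointOk 22 107415 117900 9 (p7u1164) p7r1165

theorem p7r1166 : allRange pointOk 22 117909 9 = true := by decide +kernel
theorem p7u1166 : ∀ k, 107415 ≤ k → k < 117918 → pointOk (k * 22) = true := between_extend pointOk 22 107415 117909 9 (p7u1165) p7r1166

theorem p7r1167 : allRange pointOk 22 117918 9 = true := by decide +kernel
theorem p7u1167 : ∀ k, 107415 ≤ k → k < 117927 → pointOk (k * 22) = true := between_extend pointOk 22 107415 117918 9 (p7u1166) p7r1167

theorem p7r1168 : allRange pointOk 22 117927 9 = true := by decide +kernel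
theorem p7u1168 : ∀ k, 107415 ≤ k → k < 117936 → pointOk (k * 22) = true := between_extend pointOk 22 107415 117927 9 (p7u1167) p7r1168

theorem p7r1169 : allRange pointOk 22 117936 9 = true := by decide +kernel
theorem p7u1169 : ∀ k, 107415 ≤ k → k < 117945 → pointOk (k * 22) = true := between_extend pointOk 22 107415 117936 9 (p7u1168) p7r1169

theorem p7r1170 : allRange pointOk 22 117945 9 = true := by decide +kernel
theorem p7u1170 : ∀ k, 107415 ≤ k → k < 117954 → pointOk (k * 22) = true := between_extend pointOk 22 107415 117945 9 (p7u1169) p7r1170

theorem p7r1171 : allRange pointOk 22 117954 9 = true := by decide +kernel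
theorem p7u1171 : ∀ k, 107415 ≤ k → k < 117963 → pointOk (k * 22) = true := between_extend pointOk 22 107415 117954 9 (p7u1170) p7r1171

theorem p7r1172 : allRange pointOk 22 117963 9 = true := by decide +kernel
theorem p7u1172 : ∀ k, 107415 ≤ k → k < 117972 → pointOk (k * 22) = true := between_extend pointOk 22 107415 117963 9 (p7u1171) p7r1172

theorem p7r1173 : allRange pointOk 22 117972 9 = true := by decide +kernel
theorem p7u1173 : ∀ k, 107415 ≤ k → k < 117981 → pointOk (k * 22) = true := between_extend pointOk 22 107415 117972 9 (p7u1172) p7r1173

theorem p7r1174 : allRange pointOk 22 117981 9 = true := by decide +kernel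
theorem p7u1174 : ∀ k, 107415 ≤ k → k < 117990 → pointOk (k * 22) = true := between_extend pointOk 22 107415 117981 9 (p7u1173) p7r1174

theorem p7r1175 : allRange pointOk 22 117990 9 = true := by decide +kernel
theorem p7u1175 : ∀ k, 107415 ≤ k → k < 117999 → pointOk (k * 22) = true := between_extend pointOk 22 107415 117990 9 (p7u1174) p7r1175

theorem p7r1176 : allRange pointOk 22 117999 9 = true := by decide +kernel
theorem p7u1176 : ∀ k, 107415 ≤ k → k < 118008 → pointOk (k * 22) = true := between_extend pointOk 22 107415 117999 9 (p7u1175) p7r1176

theorem p7r1177 : allRange pointOk 22 118008 9 = true := by decide +kernel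
theorem p7u1177 : ∀ k, 107415 ≤ k → k < 118017 → pointOk (k * 22) = true := between_extend pointOk 22 107415 118008 9 (p7u1176) p7r1177

theorem p7r1178 : allRange pointOk 22 118017 9 = true := by decide +kernel
theorem p7u1178 : ∀ k, 107415 ≤ k → k < 118026 → pointOk (k * 22) = true := between_extend pointOk 22 107415 118017 9 (p7u1177) p7r1178

theorem p7r1179 : allRange pointOk 22 118026 9 = true := by decide +kernel
theorem p7u1179 : ∀ k, 107415 ≤ k → k < 118035 → pointOk (k * 22) = true := between_extend pointOk 22 107415 118026 9 (p7u1178) p7r1179

theorem p7r1180 : allRange pointOk 22 118035 9 = true := by decide +kernel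
theorem p7u1180 : ∀ k, 107415 ≤ k → k < 118044 → pointOk (k * 22) = true := between_extend pointOk 22 107415 118035 9 (p7u1179) p7r1180

theorem p7r1181 : allRange pointOk 22 118044 9 = true := by decide +kernel
theorem p7u1181 : ∀ k, 107415 ≤ k → k < 118053 → pointOk (k * 22) = true := between_extend pointOk 22 107415 118044 9 (p7u1180) p7r1181

theorem p7r1182 : allRange pointOk 22 118053 9 = true := by decide +kernel
theorem p7u1182 : ∀ k, 107415 ≤ k → k < 118062 → pointOk (k * 22) = true := between_extend pointOk 22 107415 118053 9 (p7u1181) p7r1182

theorem p7r1183 : allRange pointOk 22 118062 9 = true := by decide +kernel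
theorem p7u1183 : ∀ k, 107415 ≤ k → k < 118071 → pointOk (k * 22) = true := between_extend pointOk 22 107415 118062 9 (p7u1182) p7r1183

theorem p7r1184 : allRange pointOk 22 118071 9 = true := by decide +kernel
theorem p7u1184 : ∀ k, 107415 ≤ k → k < 118080 → pointOk (k * 22) = true := between_extend pointOk 22 107415 118071 9 (p7u1183) p7r1184

theorem p7r1185 : allRange pointOk 22 118080 9 = true := by decide +kernel
theorem p7u1185 : ∀ k, 107415 ≤ k → k < 118089 → pointOk (k * 22) = true := between_extend pointOk 22 107415 118080 9 (p7u1184) p7r1185

theorem p7r1186 : allRange pointOk 22 118089 9 = true := by decide +kernel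
theorem p7u1186 : ∀ k, 107415 ≤ k → k < 118098 → pointOk (k * 22) = true := between_extend pointOk 22 107415 118089 9 (p7u1185) p7r1186

theorem p7r1187 : allRange pointOk 22 118098 9 = true := by decide +kernel
theorem p7u1187 : ∀ k, 107415 ≤ k → k < 118107 → pointOk (k * 22) = true := between_extend pointOk 22 107415 118098 9 (p7u1186) p7r1187

theorem p7r1188 : allRange pointOk 22 118107 9 = true := by decide +kernel
theorem p7u1188 : ∀ k, 107415 ≤ k → k < 118116 → pointOk (k * 22) = true := between_extend pointOk 22 107415 118107 9 (p7u1187) p7r1188

theorem p7r1189 : allRange pointOk 22 118116 9 = true := by decide +kernel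
theorem p7u1189 : ∀ k, 107415 ≤ k → k < 118125 → pointOk (k * 22) = true := between_extend pointOk 22 107415 118116 9 (p7u1188) p7r1189

theorem p7r1190 : allRange pointOk 22 118125 9 = true := by decide +kernel
theorem p7u1190 : ∀ k, 107415 ≤ k → k < 118134 → pointOk (k * 22) = true := between_extend pointOk 22 107415 118125 9 (p7u1189) p7r1190

theorem p7r1191 : allRange pointOk 22 118134 9 = true := by decide +kernel
theorem p7u1191 : ∀ k, 107415 ≤ k → k < 118143 → pointOk (k * 22) = true := between_extend pointOk 22 107415 118134 9 (p7u1190) p7r1191

theorem p7r1192 : allRange pointOk 22 118143 9 = true := by decide +kernel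
theorem p7u1192 : ∀ k, 107415 ≤ k → k < 118152 → pointOk (k * 22) = true := between_extend pointOk 22 107415 118143 9 (p7u1191) p7r1192

theorem p7r1193 : allRange pointOk 22 118152 9 = true := by decide +kernel
theorem p7u1193 : ∀ k, 107415 ≤ k → k < 118161 → pointOk (k * 22) = true := between_extend pointOk 22 107415 118152 9 (p7u1192) p7r1193

theorem p7r1194 : allRange pointOk 22 118161 9 = true := by decide +kernel
theorem p7u1194 : ∀ k, 107415 ≤ k → k < 118170 → pointOk (k * 22) = true := between_extend pointOk 22 107415 118161 9 (p7u1193) p7r1194

theorem p7r1195 : allRange pointOk 22 118170 9 = true := by decide +kernel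
theorem p7u1195 : ∀ k, 107415 ≤ k → k < 118179 → pointOk (k * 22) = true := between_extend pointOk 22 107415 118170 9 (p7u1194) p7r1195

theorem p7r1196 : allRange pointOk 22 118179 9 = true := by decide +kernel
theorem p7u1196 : ∀ k, 107415 ≤ k → k < 118188 → pointOk (k * 22) = true := between_extend pointOk 22 107415 118179 9 (p7u1195) p7r1196

theorem p7r1197 : allRange pointOk 22 118188 9 = true := by decide +kernel
theorem p7u1197 : ∀ k, 107415 ≤ k → k < 118197 → pointOk (k * 22) = true := between_extend pointOk 22 107415 118188 9 (p7u1196) p7r1197

theorem p7r1198 : allRange pointOk 22 118197 9 = true := by decide +kernel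
theorem p7u1198 : ∀ k, 107415 ≤ k → k < 118206 → pointOk (k * 22) = true := between_extend pointOk 22 107415 118197 9 (p7u1197) p7r1198

theorem p7r1199 : allRange pointOk 22 118206 9 = true := by decide +kernel
theorem p7u1199 : ∀ k, 107415 ≤ k → k < 118215 → pointOk (k * 22) = true := between_extend pointOk 22 107415 118206 9 (p7u1198) p7r1199

theorem p7r1200 : allRange pointOk 22 118215 9 = true := by decide +kernel
theorem p7u1200 : ∀ k, 107415 ≤ k → k < 118224 → pointOk (k * 22) = true := between_extend pointOk 22 107415 118215 9 (p7u1199) p7r1200

theorem p7r1201 : allRange pointOk 22 118224 9 = true := by decide +kernel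
theorem p7u1201 : ∀ k, 107415 ≤ k → k < 118233 → pointOk (k * 22) = true := between_extend pointOk 22 107415 118224 9 (p7u1200) p7r1201

theorem p7r1202 : allRange pointOk 22 118233 9 = true := by decide +kernel
theorem p7u1202 : ∀ k, 107415 ≤ k → k < 118242 → pointOk (k * 22) = true := between_extend pointOk 22 107415 118233 9 (p7u1201) p7r1202

theorem p7r1203 : allRange pointOk 22 118242 9 = true := by decide +kernel
theorem p7u1203 : ∀ k, 107415 ≤ k → k < 118251 → pointOk (k * 22) = true := between_extend pointOk 22 107415 118242 9 (p7u1202) p7r1203

theorem p7r1204 : allRange pointOk 22 118251 9 = true := by decide +kernel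
theorem p7u1204 : ∀ k, 107415 ≤ k → k < 118260 → pointOk (k * 22) = true := between_extend pointOk 22 107415 118251 9 (p7u1203) p7r1204

theorem p7r1205 : allRange pointOk 22 118260 9 = true := by decide +kernel
theorem p7u1205 : ∀ k, 107415 ≤ k → k < 118269 → pointOk (k * 22) = true := between_extend pointOk 22 107415 118260 9 (p7u1204) p7r1205

theorem p7r1206 : allRange pointOk 22 118269 9 = true := by decide +kernel
theorem p7u1206 : ∀ k, 107415 ≤ k → k < 118278 → pointOk (k * 22) = true := between_extend pointOk 22 107415 118269 9 (p7u1205) p7r1206

theorem p7r1207 : allRange pointOk 22 118278 9 = true := by decide +kernel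
theorem p7u1207 : ∀ k, 107415 ≤ k → k < 118287 → pointOk (k * 22) = true := between_extend pointOk 22 107415 118278 9 (p7u1206) p7r1207

theorem p7r1208 : allRange pointOk 22 118287 9 = true := by decide +kernel
theorem p7u1208 : ∀ k, 107415 ≤ k → k < 118296 → pointOk (k * 22) = true := between_extend pointOk 22 107415 118287 9 (p7u1207) p7r1208

theorem p7r1209 : allRange pointOk 22 118296 9 = true := by decide +kernel
theorem p7u1209 : ∀ k, 107415 ≤ k → k < 118305 → pointOk (k * 22) = true := between_extend pointOk 22 107415 118296 9 (p7u1208) p7r1209

theorem p7r1210 : allRange pointOk 22 118305 9 = true := by decide +kernel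
theorem p7u1210 : ∀ k, 107415 ≤ k → k < 118314 → pointOk (k * 22) = true := between_extend pointOk 22 107415 118305 9 (p7u1209) p7r1210

theorem p7r1211 : allRange pointOk 22 118314 9 = true := by decide +kernel
theorem p7u1211 : ∀ k, 107415 ≤ k → k < 118323 → pointOk (k * 22) = true := between_extend pointOk 22 107415 118314 9 (p7u1210) p7r1211

theorem p7r1212 : allRange pointOk 22 118323 9 = true := by decide +kernel
theorem p7u1212 : ∀ k, 107415 ≤ k → k < 118332 → pointOk (k * 22) = true := between_extend pointOk 22 107415 118323 9 (p7u1211) p7r1212

theorem p7r1213 : allRange pointOk 22 118332 9 = true := by decide +kernel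
theorem p7u1213 : ∀ k, 107415 ≤ k → k < 118341 → pointOk (k * 22) = true := between_extend pointOk 22 107415 118332 9 (p7u1212) p7r1213

theorem p7r1214 : allRange pointOk 22 118341 9 = true := by decide +kernel
theorem p7u1214 : ∀ k, 107415 ≤ k → k < 118350 → pointOk (k * 22) = true := between_extend pointOk 22 107415 118341 9 (p7u1213) p7r1214

theorem p7r1215 : allRange pointOk 22 118350 9 = true := by decide +kernel
theorem p7u1215 : ∀ k, 107415 ≤ k → k < 118359 → pointOk (k * 22) = true := between_extend pointOk 22 107415 118350 9 (p7u1214) p7r1215

theorem p7r1216 : allRange pointOk 22 118359 9 = true := by decide +kernel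
theorem p7u1216 : ∀ k, 107415 ≤ k → k < 118368 → pointOk (k * 22) = true := between_extend pointOk 22 107415 118359 9 (p7u1215) p7r1216

theorem p7r1217 : allRange pointOk 22 118368 9 = true := by decide +kernel
theorem p7u1217 : ∀ k, 107415 ≤ k → k < 118377 → pointOk (k * 22) = true := between_extend pointOk 22 107415 118368 9 (p7u1216) p7r1217

theorem p7r1218 : allRange pointOk 22 118377 9 = true := by decide +kernel
theorem p7u1218 : ∀ k, 107415 ≤ k → k < 118386 → pointOk (k * 22) = true := between_extend pointOk 22 107415 118377 9 (p7u1217) p7r1218

theorem p7r1219 : allRange pointOk 22 118386 9 = true := by decide +kernel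
theorem p7u1219 : ∀ k, 107415 ≤ k → k < 118395 → pointOk (k * 22) = true := between_extend pointOk 22 107415 118386 9 (p7u1218) p7r1219

theorem p7r1220 : allRange pointOk 22 118395 9 = true := by decide +kernel
theorem p7u1220 : ∀ k, 107415 ≤ k → k < 118404 → pointOk (k * 22) = true := between_extend pointOk 22 107415 118395 9 (p7u1219) p7r1220

theorem p7r1221 : allRange pointOk 22 118404 9 = true := by decide +kernel
theorem p7u1221 : ∀ k, 107415 ≤ k → k < 118413 → pointOk (k * 22) = true := between_extend pointOk 22 107415 118404 9 (p7u1220) p7r1221

theorem p7r1222 : allRange pointOk 22 118413 9 = true := by decide +kernel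
theorem p7u1222 : ∀ k, 107415 ≤ k → k < 118422 → pointOk (k * 22) = true := between_extend pointOk 22 107415 118413 9 (p7u1221) p7r1222

theorem p7r1223 : allRange pointOk 22 118422 9 = true := by decide +kernel
theorem p7u1223 : ∀ k, 107415 ≤ k → k < 118431 → pointOk (k * 22) = true := between_extend pointOk 22 107415 118422 9 (p7u1222) p7r1223

theorem p7r1224 : allRange pointOk 22 118431 9 = true := by decide +kernel
theorem p7u1224 : ∀ k, 107415 ≤ k → k < 118440 → pointOk (k * 22) = true := between_extend pointOk 22 107415 118431 9 (p7u1223) p7r1224

theorem p7r1225 : allRange pointOk 22 118440 9 = true := by decide +kernel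
theorem p7u1225 : ∀ k, 107415 ≤ k → k < 118449 → pointOk (k * 22) = true := between_extend pointOk 22 107415 118440 9 (p7u1224) p7r1225

theorem p7r1226 : allRange pointOk 22 118449 9 = true := by decide +kernel
theorem p7u1226 : ∀ k, 107415 ≤ k → k < 118458 → pointOk (k * 22) = true := between_extend pointOk 22 107415 118449 9 (p7u1225) p7r1226

theorem p7r1227 : allRange pointOk 22 118458 9 = true := by decide +kernel
theorem p7u1227 : ∀ k, 107415 ≤ k → k < 118467 → pointOk (k * 22) = true := between_extend pointOk 22 107415 118458 9 (p7u1226) p7r1227

theorem p7r1228 : allRange pointOk 22 118467 9 = true := by decide +kernel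
theorem p7u1228 : ∀ k, 107415 ≤ k → k < 118476 → pointOk (k * 22) = true := between_extend pointOk 22 107415 118467 9 (p7u1227) p7r1228

theorem p7r1229 : allRange pointOk 22 118476 9 = true := by decide +kernel
theorem p7u1229 : ∀ k, 107415 ≤ k → k < 118485 → pointOk (k * 22) = true := between_extend pointOk 22 107415 118476 9 (p7u1228) p7r1229

theorem p7r1230 : allRange pointOk 22 118485 9 = true := by decide +kernel
theorem p7u1230 : ∀ k, 107415 ≤ k → k < 118494 → pointOk (k * 22) = true := between_extend pointOk 22 107415 118485 9 (p7u1229) p7r1230

theorem p7r1231 : allRange pointOk 22 118494 9 = true := by decide +kernel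
theorem p7u1231 : ∀ k, 107415 ≤ k → k < 118503 → pointOk (k * 22) = true := between_extend pointOk 22 107415 118494 9 (p7u1230) p7r1231

theorem p7r1232 : allRange pointOk 22 118503 9 = true := by decide +kernel
theorem p7u1232 : ∀ k, 107415 ≤ k → k < 118512 → pointOk (k * 22) = true := between_extend pointOk 22 107415 118503 9 (p7u1231) p7r1232

theorem p7r1233 : allRange pointOk 22 118512 9 = true := by decide +kernel
theorem p7u1233 : ∀ k, 107415 ≤ k → k < 118521 → pointOk (k * 22) = true := between_extend pointOk 22 107415 118512 9 (p7u1232) p7r1233

theorem p7r1234 : allRange pointOk 22 118521 9 = true := by decide +kernel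
theorem p7u1234 : ∀ k, 107415 ≤ k → k < 118530 → pointOk (k * 22) = true := between_extend pointOk 22 107415 118521 9 (p7u1233) p7r1234

theorem p7r1235 : allRange pointOk 22 118530 9 = true := by decide +kernel
theorem p7u1235 : ∀ k, 107415 ≤ k → k < 118539 → pointOk (k * 22) = true := between_extend pointOk 22 107415 118530 9 (p7u1234) p7r1235

theorem p7r1236 : allRange pointOk 22 118539 9 = true := by decide +kernel
theorem p7u1236 : ∀ k, 107415 ≤ k → k < 118548 → pointOk (k * 22) = true := between_extend pointOk 22 107415 118539 9 (p7u1235) p7r1236

theorem p7r1237 : allRange pointOk 22 118548 9 = true := by decide +kernel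
theorem p7u1237 : ∀ k, 107415 ≤ k → k < 118557 → pointOk (k * 22) = true := between_extend pointOk 22 107415 118548 9 (p7u1236) p7r1237

theorem p7r1238 : allRange pointOk 22 118557 9 = true := by decide +kernel
theorem p7u1238 : ∀ k, 107415 ≤ k → k < 118566 → pointOk (k * 22) = true := between_extend pointOk 22 107415 118557 9 (p7u1237) p7r1238

theorem p7r1239 : allRange pointOk 22 118566 9 = true := by decide +kernel
theorem p7u1239 : ∀ k, 107415 ≤ k → k < 118575 → pointOk (k * 22) = true := between_extend pointOk 22 107415 118566 9 (p7u1238) p7r1239

theorem p7r1240 : allRange pointOk 22 118575 9 = true := by decide +kernel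
theorem p7u1240 : ∀ k, 107415 ≤ k → k < 118584 → pointOk (k * 22) = true := between_extend pointOk 22 107415 118575 9 (p7u1239) p7r1240

theorem p7r1241 : allRange pointOk 22 118584 9 = true := by decide +kernel
theorem p7u1241 : ∀ k, 107415 ≤ k → k < 118593 → pointOk (k * 22) = true := between_extend pointOk 22 107415 118584 9 (p7u1240) p7r1241

theorem p7r1242 : allRange pointOk 22 118593 9 = true := by decide +kernel
theorem p7u1242 : ∀ k, 107415 ≤ k → k < 118602 → pointOk (k * 22) = true := between_extend pointOk 22 107415 118593 9 (p7u1241) p7r1242

theorem p7r1243 : allRange pointOk 22 118602 9 = true := by decide +kernel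
theorem p7u1243 : ∀ k, 107415 ≤ k → k < 118611 → pointOk (k * 22) = true := between_extend pointOk 22 107415 118602 9 (p7u1242) p7r1243

theorem p7r1244 : allRange pointOk 22 118611 9 = true := by decide +kernel
theorem p7u1244 : ∀ k, 107415 ≤ k → k < 118620 → pointOk (k * 22) = true := between_extend pointOk 22 107415 118611 9 (p7u1243) p7r1244

theorem p7r1245 : allRange pointOk 22 118620 9 = true := by decide +kernel
theorem p7u1245 : ∀ k, 107415 ≤ k → k < 118629 → pointOk (k * 22) = true := between_extend pointOk 22 107415 118620 9 (p7u1244) p7r1245

theorem p7r1246 : allRange pointOk 22 118629 9 = true := by decide +kernel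
theorem p7u1246 : ∀ k, 107415 ≤ k → k < 118638 → pointOk (k * 22) = true := between_extend pointOk 22 107415 118629 9 (p7u1245) p7r1246

theorem p7r1247 : allRange pointOk 22 118638 9 = true := by decide +kernel
theorem p7u1247 : ∀ k, 107415 ≤ k → k < 118647 → pointOk (k * 22) = true := between_extend pointOk 22 107415 118638 9 (p7u1246) p7r1247

theorem p7r1248 : allRange pointOk 22 118647 9 = true := by decide +kernel
theorem p7u1248 : ∀ k, 107415 ≤ k → k < 118656 → pointOk (k * 22) = true := between_extend pointOk 22 107415 118647 9 (p7u1247) p7r1248

theorem p7r1249 : allRange pointOk 22 118656 9 = true := by decide +kernel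
theorem p7u1249 : ∀ k, 107415 ≤ k → k < 118665 → pointOk (k * 22) = true := between_extend pointOk 22 107415 118656 9 (p7u1248) p7r1249

theorem p7r1250 : allRange pointOk 22 118665 9 = true := by decide +kernel
theorem p7u1250 : ∀ k, 107415 ≤ k → k < 118674 → pointOk (k * 22) = true := between_extend pointOk 22 107415 118665 9 (p7u1249) p7r1250

theorem p7r1251 : allRange pointOk 22 118674 9 = true := by decide +kernel
theorem p7u1251 : ∀ k, 107415 ≤ k → k < 118683 → pointOk (k * 22) = true := between_extend pointOk 22 107415 118674 9 (p7u1250) p7r1251

theorem p7r1252 : allRange pointOk 22 118683 9 = true := by decide +kernel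
theorem p7u1252 : ∀ k, 107415 ≤ k → k < 118692 → pointOk (k * 22) = true := between_extend pointOk 22 107415 118683 9 (p7u1251) p7r1252

theorem p7r1253 : allRange pointOk 22 118692 9 = true := by decide +kernel
theorem p7u1253 : ∀ k, 107415 ≤ k → k < 118701 → pointOk (k * 22) = true := between_extend pointOk 22 107415 118692 9 (p7u1252) p7r1253

theorem p7r1254 : allRange pointOk 22 118701 9 = true := by decide +kernel
theorem p7u1254 : ∀ k, 107415 ≤ k → k < 118710 → pointOk (k * 22) = true := between_extend pointOk 22 107415 118701 9 (p7u1253) p7r1254

theorem p7r1255 : allRange pointOk 22 118710 9 = true := by decide +kernel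
theorem p7u1255 : ∀ k, 107415 ≤ k → k < 118719 → pointOk (k * 22) = true := between_extend pointOk 22 107415 118710 9 (p7u1254) p7r1255

theorem p7r1256 : allRange pointOk 22 118719 9 = true := by decide +kernel
theorem p7u1256 : ∀ k, 107415 ≤ k → k < 118728 → pointOk (k * 22) = true := between_extend pointOk 22 107415 118719 9 (p7u1255) p7r1256

theorem p7r1257 : allRange pointOk 22 118728 9 = true := by decide +kernel
theorem p7u1257 : ∀ k, 107415 ≤ k → k < 118737 → pointOk (k * 22) = true := between_extend pointOk 22 107415 118728 9 (p7u1256) p7r1257

theorem p7r1258 : allRange pointOk 22 118737 9 = true := by decide +kernel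
theorem p7u1258 : ∀ k, 107415 ≤ k → k < 118746 → pointOk (k * 22) = true := between_extend pointOk 22 107415 118737 9 (p7u1257) p7r1258

theorem p7r1259 : allRange pointOk 22 118746 9 = true := by decide +kernel
theorem p7u1259 : ∀ k, 107415 ≤ k → k < 118755 → pointOk (k * 22) = true := between_extend pointOk 22 107415 118746 9 (p7u1258) p7r1259

theorem p7r1260 : allRange pointOk 22 118755 9 = true := by decide +kernel
theorem p7u1260 : ∀ k, 107415 ≤ k → k < 118764 → pointOk (k * 22) = true := between_extend pointOk 22 107415 118755 9 (p7u1259) p7r1260

theorem p7r1261 : allRange pointOk 22 118764 9 = true := by decide +kernel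
theorem p7u1261 : ∀ k, 107415 ≤ k → k < 118773 → pointOk (k * 22) = true := between_extend pointOk 22 107415 118764 9 (p7u1260) p7r1261

theorem p7r1262 : allRange pointOk 22 118773 9 = true := by decide +kernel
theorem p7u1262 : ∀ k, 107415 ≤ k → k < 118782 → pointOk (k * 22) = true := between_extend pointOk 22 107415 118773 9 (p7u1261) p7r1262

theorem p7r1263 : allRange pointOk 22 118782 9 = true := by decide +kernel
theorem p7u1263 : ∀ k, 107415 ≤ k → k < 118791 → pointOk (k * 22) = true := between_extend pointOk 22 107415 118782 9 (p7u1262) p7r1263

theorem p7r1264 : allRange pointOk 22 118791 9 = true := by decide +kernel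
theorem p7u1264 : ∀ k, 107415 ≤ k → k < 118800 → pointOk (k * 22) = true := between_extend pointOk 22 107415 118791 9 (p7u1263) p7r1264

theorem p7r1265 : allRange pointOk 22 118800 9 = true := by decide +kernel
theorem p7u1265 : ∀ k, 107415 ≤ k → k < 118809 → pointOk (k * 22) = true := between_extend pointOk 22 107415 118800 9 (p7u1264) p7r1265

theorem p7r1266 : allRange pointOk 22 118809 9 = true := by decide +kernel
theorem p7u1266 : ∀ k, 107415 ≤ k → k < 118818 → pointOk (k * 22) = true := between_extend pointOk 22 107415 118809 9 (p7u1265) p7r1266

theorem p7r1267 : allRange pointOk 22 118818 9 = true := by decide +kernel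
theorem p7u1267 : ∀ k, 107415 ≤ k → k < 118827 → pointOk (k * 22) = true := between_extend pointOk 22 107415 118818 9 (p7u1266) p7r1267

theorem p7r1268 : allRange pointOk 22 118827 9 = true := by decide +kernel
theorem p7u1268 : ∀ k, 107415 ≤ k → k < 118836 → pointOk (k * 22) = true := between_extend pointOk 22 107415 118827 9 (p7u1267) p7r1268

theorem p7r1269 : allRange pointOk 22 118836 9 = true := by decide +kernel
theorem p7u1269 : ∀ k, 107415 ≤ k → k < 118845 → pointOk (k * 22) = true := between_extend pointOk 22 107415 118836 9 (p7u1268) p7r1269

theorem p7r1270 : allRange pointOk 22 118845 9 = true := by decide +kernel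
theorem p7u1270 : ∀ k, 107415 ≤ k → k < 118854 → pointOk (k * 22) = true := between_extend pointOk 22 107415 118845 9 (p7u1269) p7r1270

theorem p7r1271 : allRange pointOk 22 118854 9 = true := by decide +kernel
theorem p7u1271 : ∀ k, 107415 ≤ k → k < 118863 → pointOk (k * 22) = true := between_extend pointOk 22 107415 118854 9 (p7u1270) p7r1271

theorem p7r1272 : allRange pointOk 22 118863 9 = true := by decide +kernel
theorem p7u1272 : ∀ k, 107415 ≤ k → k < 118872 → pointOk (k * 22) = true := between_extend pointOk 22 107415 118863 9 (p7u1271) p7r1272

theorem p7r1273 : allRange pointOk 22 118872 9 = true := by decide +kernel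
theorem p7u1273 : ∀ k, 107415 ≤ k → k < 118881 → pointOk (k * 22) = true := between_extend pointOk 22 107415 118872 9 (p7u1272) p7r1273

theorem p7r1274 : allRange pointOk 22 118881 9 = true := by decide +kernel
theorem p7u1274 : ∀ k, 107415 ≤ k → k < 118890 → pointOk (k * 22) = true := between_extend pointOk 22 107415 118881 9 (p7u1273) p7r1274

theorem p7r1275 : allRange pointOk 22 118890 9 = true := by decide +kernel
theorem p7u1275 : ∀ k, 107415 ≤ k → k < 118899 → pointOk (k * 22) = true := between_extend pointOk 22 107415 118890 9 (p7u1274) p7r1275

theorem p7r1276 : allRange pointOk 22 118899 9 = true := by decide +kernel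
theorem p7u1276 : ∀ k, 107415 ≤ k → k < 118908 → pointOk (k * 22) = true := between_extend pointOk 22 107415 118899 9 (p7u1275) p7r1276

theorem p7r1277 : allRange pointOk 22 118908 9 = true := by decide +kernel
theorem p7u1277 : ∀ k, 107415 ≤ k → k < 118917 → pointOk (k * 22) = true := between_extend pointOk 22 107415 118908 9 (p7u1276) p7r1277

theorem p7r1278 : allRange pointOk 22 118917 9 = true := by decide +kernel
theorem p7u1278 : ∀ k, 107415 ≤ k → k < 118926 → pointOk (k * 22) = true := between_extend pointOk 22 107415 118917 9 (p7u1277) p7r1278

theorem p7r1279 : allRange pointOk 22 118926 9 = true := by decide +kernel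
theorem p7u1279 : ∀ k, 107415 ≤ k → k < 118935 → pointOk (k * 22) = true := between_extend pointOk 22 107415 118926 9 (p7u1278) p7r1279

theorem p7r1280 : allRange pointOk 22 118935 9 = true := by decide +kernel
theorem p7u1280 : ∀ k, 107415 ≤ k → k < 118944 → pointOk (k * 22) = true := between_extend pointOk 22 107415 118935 9 (p7u1279) p7r1280

theorem p7r1281 : allRange pointOk 22 118944 9 = true := by decide +kernel
theorem p7u1281 : ∀ k, 107415 ≤ k → k < 118953 → pointOk (k * 22) = true := between_extend pointOk 22 107415 118944 9 (p7u1280) p7r1281

theorem p7r1282 : allRange pointOk 22 118953 9 = true := by decide +kernel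
theorem p7u1282 : ∀ k, 107415 ≤ k → k < 118962 → pointOk (k * 22) = true := between_extend pointOk 22 107415 118953 9 (p7u1281) p7r1282

theorem p7r1283 : allRange pointOk 22 118962 9 = true := by decide +kernel
theorem p7u1283 : ∀ k, 107415 ≤ k → k < 118971 → pointOk (k * 22) = true := between_extend pointOk 22 107415 118962 9 (p7u1282) p7r1283

theorem p7r1284 : allRange pointOk 22 118971 9 = true := by decide +kernel
theorem p7u1284 : ∀ k, 107415 ≤ k → k < 118980 → pointOk (k * 22) = true := between_extend pointOk 22 107415 118971 9 (p7u1283) p7r1284

theorem p7r1285 : allRange pointOk 22 118980 9 = true := by decide +kernel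
theorem p7u1285 : ∀ k, 107415 ≤ k → k < 118989 → pointOk (k * 22) = true := between_extend pointOk 22 107415 118980 9 (p7u1284) p7r1285

theorem p7r1286 : allRange pointOk 22 118989 9 = true := by decide +kernel
theorem p7u1286 : ∀ k, 107415 ≤ k → k < 118998 → pointOk (k * 22) = true := between_extend pointOk 22 107415 118989 9 (p7u1285) p7r1286

theorem p7r1287 : allRange pointOk 22 118998 9 = true := by decide +kernel
theorem p7u1287 : ∀ k, 107415 ≤ k → k < 119007 → pointOk (k * 22) = true := between_extend pointOk 22 107415 118998 9 (p7u1286) p7r1287

theorem p7r1288 : allRange pointOk 22 119007 9 = true := by decide +kernel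
theorem p7u1288 : ∀ k, 107415 ≤ k → k < 119016 → pointOk (k * 22) = true := between_extend pointOk 22 107415 119007 9 (p7u1287) p7r1288

theorem p7r1289 : allRange pointOk 22 119016 9 = true := by decide +kernel
theorem p7u1289 : ∀ k, 107415 ≤ k → k < 119025 → pointOk (k * 22) = true := between_extend pointOk 22 107415 119016 9 (p7u1288) p7r1289

theorem p7r1290 : allRange pointOk 22 119025 9 = true := by decide +kernel
theorem p7u1290 : ∀ k, 107415 ≤ k → k < 119034 → pointOk (k * 22) = true := between_extend pointOk 22 107415 119025 9 (p7u1289) p7r1290

theorem p7r1291 : allRange pointOk 22 119034 9 = true := by decide +kernel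
theorem p7u1291 : ∀ k, 107415 ≤ k → k < 119043 → pointOk (k * 22) = true := between_extend pointOk 22 107415 119034 9 (p7u1290) p7r1291

theorem p7r1292 : allRange pointOk 22 119043 9 = true := by decide +kernel
theorem p7u1292 : ∀ k, 107415 ≤ k → k < 119052 → pointOk (k * 22) = true := between_extend pointOk 22 107415 119043 9 (p7u1291) p7r1292

theorem p7r1293 : allRange pointOk 22 119052 9 = true := by decide +kernel
theorem p7u1293 : ∀ k, 107415 ≤ k → k < 119061 → pointOk (k * 22) = true := between_extend pointOk 22 107415 119052 9 (p7u1292) p7r1293

theorem p7r1294 : allRange pointOk 22 119061 9 = true := by decide +kernel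
theorem p7u1294 : ∀ k, 107415 ≤ k → k < 119070 → pointOk (k * 22) = true := between_extend pointOk 22 107415 119061 9 (p7u1293) p7r1294

theorem p7r1295 : allRange pointOk 22 119070 9 = true := by decide +kernel
theorem p7u1295 : ∀ k, 107415 ≤ k → k < 119079 → pointOk (k * 22) = true := between_extend pointOk 22 107415 119070 9 (p7u1294) p7r1295

theorem p7r1296 : allRange pointOk 22 119079 9 = true := by decide +kernel
theorem p7u1296 : ∀ k, 107415 ≤ k → k < 119088 → pointOk (k * 22) = true := between_extend pointOk 22 107415 119079 9 (p7u1295) p7r1296

theorem p7r1297 : allRange pointOk 22 119088 9 = true := by decide +kernel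
theorem p7u1297 : ∀ k, 107415 ≤ k → k < 119097 → pointOk (k * 22) = true := between_extend pointOk 22 107415 119088 9 (p7u1296) p7r1297

theorem p7r1298 : allRange pointOk 22 119097 9 = true := by decide +kernel
theorem p7u1298 : ∀ k, 107415 ≤ k → k < 119106 → pointOk (k * 22) = true := between_extend pointOk 22 107415 119097 9 (p7u1297) p7r1298

theorem p7r1299 : allRange pointOk 22 119106 9 = true := by decide +kernel
theorem p7u1299 : ∀ k, 107415 ≤ k → k < 119115 → pointOk (k * 22) = true := between_extend pointOk 22 107415 119106 9 (p7u1298) p7r1299

theorem p7r1300 : allRange pointOk 22 119115 9 = true := by decide +kernel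
theorem p7u1300 : ∀ k, 107415 ≤ k → k < 119124 → pointOk (k * 22) = true := between_extend pointOk 22 107415 119115 9 (p7u1299) p7r1300

theorem p7r1301 : allRange pointOk 22 119124 9 = true := by decide +kernel
theorem p7u1301 : ∀ k, 107415 ≤ k → k < 119133 → pointOk (k * 22) = true := between_extend pointOk 22 107415 119124 9 (p7u1300) p7r1301

theorem p7r1302 : allRange pointOk 22 119133 9 = true := by decide +kernel
theorem p7u1302 : ∀ k, 107415 ≤ k → k < 119142 → pointOk (k * 22) = true := between_extend pointOk 22 107415 119133 9 (p7u1301) p7r1302

theorem p7r1303 : allRange pointOk 22 119142 9 = true := by decide +kernel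
theorem p7u1303 : ∀ k, 107415 ≤ k → k < 119151 → pointOk (k * 22) = true := between_extend pointOk 22 107415 119142 9 (p7u1302) p7r1303

theorem p7r1304 : allRange pointOk 22 119151 9 = true := by decide +kernel
theorem p7u1304 : ∀ k, 107415 ≤ k → k < 119160 → pointOk (k * 22) = true := between_extend pointOk 22 107415 119151 9 (p7u1303) p7r1304

theorem p7r1305 : allRange pointOk 22 119160 9 = true := by decide +kernel
theorem p7u1305 : ∀ k, 107415 ≤ k → k < 119169 → pointOk (k * 22) = true := between_extend pointOk 22 107415 119160 9 (p7u1304) p7r1305

theorem p7r1306 : allRange pointOk 22 119169 9 = true := by decide +kernel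
theorem p7u1306 : ∀ k, 107415 ≤ k → k < 119178 → pointOk (k * 22) = true := between_extend pointOk 22 107415 119169 9 (p7u1305) p7r1306

theorem p7r1307 : allRange pointOk 22 119178 9 = true := by decide +kernel
theorem p7u1307 : ∀ k, 107415 ≤ k → k < 119187 → pointOk (k * 22) = true := between_extend pointOk 22 107415 119178 9 (p7u1306) p7r1307

theorem p7r1308 : allRange pointOk 22 119187 9 = true := by decide +kernel
theorem p7u1308 : ∀ k, 107415 ≤ k → k < 119196 → pointOk (k * 22) = true := between_extend pointOk 22 107415 119187 9 (p7u1307) p7r1308

theorem p7r1309 : allRange pointOk 22 119196 9 = true := by decide +kernel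
theorem p7u1309 : ∀ k, 107415 ≤ k → k < 119205 → pointOk (k * 22) = true := between_extend pointOk 22 107415 119196 9 (p7u1308) p7r1309

theorem p7r1310 : allRange pointOk 22 119205 9 = true := by decide +kernel
theorem p7u1310 : ∀ k, 107415 ≤ k → k < 119214 → pointOk (k * 22) = true := between_extend pointOk 22 107415 119205 9 (p7u1309) p7r1310

theorem p7r1311 : allRange pointOk 22 119214 9 = true := by decide +kernel
theorem p7u1311 : ∀ k, 107415 ≤ k → k < 119223 → pointOk (k * 22) = true := between_extend pointOk 22 107415 119214 9 (p7u1310) p7r1311

theorem p7r1312 : allRange pointOk 22 119223 9 = true := by decide +kernel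
theorem p7u1312 : ∀ k, 107415 ≤ k → k < 119232 → pointOk (k * 22) = true := between_extend pointOk 22 107415 119223 9 (p7u1311) p7r1312

theorem p7r1313 : allRange pointOk 22 119232 9 = true := by decide +kernel
theorem p7u1313 : ∀ k, 107415 ≤ k → k < 119241 → pointOk (k * 22) = true := between_extend pointOk 22 107415 119232 9 (p7u1312) p7r1313

theorem p7r1314 : allRange pointOk 22 119241 9 = true := by decide +kernel
theorem p7u1314 : ∀ k, 107415 ≤ k → k < 119250 → pointOk (k * 22) = true := between_extend pointOk 22 107415 119241 9 (p7u1313) p7r1314

theorem p7r1315 : allRange pointOk 22 119250 9 = true := by decide +kernel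
theorem p7u1315 : ∀ k, 107415 ≤ k → k < 119259 → pointOk (k * 22) = true := between_extend pointOk 22 107415 119250 9 (p7u1314) p7r1315

theorem p7r1316 : allRange pointOk 22 119259 9 = true := by decide +kernel
theorem p7u1316 : ∀ k, 107415 ≤ k → k < 119268 → pointOk (k * 22) = true := between_extend pointOk 22 107415 119259 9 (p7u1315) p7r1316

theorem p7r1317 : allRange pointOk 22 119268 9 = true := by decide +kernel
theorem p7u1317 : ∀ k, 107415 ≤ k → k < 119277 → pointOk (k * 22) = true := between_extend pointOk 22 107415 119268 9 (p7u1316) p7r1317

theorem p7r1318 : allRange pointOk 22 119277 9 = true := by decide +kernel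
theorem p7u1318 : ∀ k, 107415 ≤ k → k < 119286 → pointOk (k * 22) = true := between_extend pointOk 22 107415 119277 9 (p7u1317) p7r1318

theorem p7r1319 : allRange pointOk 22 119286 9 = true := by decide +kernel
theorem p7u1319 : ∀ k, 107415 ≤ k → k < 119295 → pointOk (k * 22) = true := between_extend pointOk 22 107415 119286 9 (p7u1318) p7r1319

theorem p7r1320 : allRange pointOk 22 119295 9 = true := by decide +kernel
theorem p7u1320 : ∀ k, 107415 ≤ k → k < 119304 → pointOk (k * 22) = true := between_extend pointOk 22 107415 119295 9 (p7u1319) p7r1320

theorem p7r1321 : allRange pointOk 22 119304 9 = true := by decide +kernel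
theorem p7u1321 : ∀ k, 107415 ≤ k → k < 119313 → pointOk (k * 22) = true := between_extend pointOk 22 107415 119304 9 (p7u1320) p7r1321

theorem p7r1322 : allRange pointOk 22 119313 9 = true := by decide +kernel
theorem p7u1322 : ∀ k, 107415 ≤ k → k < 119322 → pointOk (k * 22) = true := between_extend pointOk 22 107415 119313 9 (p7u1321) p7r1322

theorem p7r1323 : allRange pointOk 22 119322 9 = true := by decide +kernel
theorem p7u1323 : ∀ k, 107415 ≤ k → k < 119331 → pointOk (k * 22) = true := between_extend pointOk 22 107415 119322 9 (p7u1322) p7r1323

theorem p7r1324 : allRange pointOk 22 119331 9 = true := by decide +kernel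
theorem p7u1324 : ∀ k, 107415 ≤ k → k < 119340 → pointOk (k * 22) = true := between_extend pointOk 22 107415 119331 9 (p7u1323) p7r1324

theorem p7r1325 : allRange pointOk 22 119340 9 = true := by decide +kernel
theorem p7u1325 : ∀ k, 107415 ≤ k → k < 119349 → pointOk (k * 22) = true := between_extend pointOk 22 107415 119340 9 (p7u1324) p7r1325

theorem p7r1326 : allRange pointOk 22 119349 9 = true := by decide +kernel
theorem p7u1326 : ∀ k, 107415 ≤ k → k < 119358 → pointOk (k * 22) = true := between_extend pointOk 22 107415 119349 9 (p7u1325) p7r1326

theorem p7r1327 : allRange pointOk 22 119358 9 = true := by decide +kernel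
theorem p7u1327 : ∀ k, 107415 ≤ k → k < 119367 → pointOk (k * 22) = true := between_extend pointOk 22 107415 119358 9 (p7u1326) p7r1327

theorem p7r1328 : allRange pointOk 22 119367 9 = true := by decide +kernel
theorem p7u1328 : ∀ k, 107415 ≤ k → k < 119376 → pointOk (k * 22) = true := between_extend pointOk 22 107415 119367 9 (p7u1327) p7r1328

theorem p7r1329 : allRange pointOk 22 119376 9 = true := by decide +kernel
theorem p7u1329 : ∀ k, 107415 ≤ k → k < 119385 → pointOk (k * 22) = true := between_extend pointOk 22 107415 119376 9 (p7u1328) p7r1329

theorem p7r1330 : allRange pointOk 22 119385 9 = true := by decide +kernel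
theorem p7u1330 : ∀ k, 107415 ≤ k → k < 119394 → pointOk (k * 22) = true := between_extend pointOk 22 107415 119385 9 (p7u1329) p7r1330

theorem p7r1331 : allRange pointOk 22 119394 9 = true := by decide +kernel
theorem p7u1331 : ∀ k, 107415 ≤ k → k < 119403 → pointOk (k * 22) = true := between_extend pointOk 22 107415 119394 9 (p7u1330) p7r1331

theorem p7r1332 : allRange pointOk 22 119403 9 = true := by decide +kernel
theorem p7u1332 : ∀ k, 107415 ≤ k → k < 119412 → pointOk (k * 22) = true := between_extend pointOk 22 107415 119403 9 (p7u1331) p7r1332

theorem p7r1333 : allRange pointOk 22 119412 9 = true := by decide +kernel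
theorem p7u1333 : ∀ k, 107415 ≤ k → k < 119421 → pointOk (k * 22) = true := between_extend pointOk 22 107415 119412 9 (p7u1332) p7r1333

theorem p7r1334 : allRange pointOk 22 119421 9 = true := by decide +kernel
theorem p7u1334 : ∀ k, 107415 ≤ k → k < 119430 → pointOk (k * 22) = true := between_extend pointOk 22 107415 119421 9 (p7u1333) p7r1334

theorem p7r1335 : allRange pointOk 22 119430 9 = true := by decide +kernel
theorem p7u1335 : ∀ k, 107415 ≤ k → k < 119439 → pointOk (k * 22) = true := between_extend pointOk 22 107415 119430 9 (p7u1334) p7r1335

theorem p7r1336 : allRange pointOk 22 119439 9 = true := by decide +kernel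
theorem p7u1336 : ∀ k, 107415 ≤ k → k < 119448 → pointOk (k * 22) = true := between_extend pointOk 22 107415 119439 9 (p7u1335) p7r1336

theorem p7r1337 : allRange pointOk 22 119448 9 = true := by decide +kernel
theorem p7u1337 : ∀ k, 107415 ≤ k → k < 119457 → pointOk (k * 22) = true := between_extend pointOk 22 107415 119448 9 (p7u1336) p7r1337

theorem p7r1338 : allRange pointOk 22 119457 9 = true := by decide +kernel
theorem p7u1338 : ∀ k, 107415 ≤ k → k < 119466 → pointOk (k * 22) = true := between_extend pointOk 22 107415 119457 9 (p7u1337) p7r1338

theorem p7r1339 : allRange pointOk 22 119466 9 = true := by decide +kernel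
theorem p7u1339 : ∀ k, 107415 ≤ k → k < 119475 → pointOk (k * 22) = true := between_extend pointOk 22 107415 119466 9 (p7u1338) p7r1339

theorem p7r1340 : allRange pointOk 22 119475 9 = true := by decide +kernel
theorem p7u1340 : ∀ k, 107415 ≤ k → k < 119484 → pointOk (k * 22) = true := between_extend pointOk 22 107415 119475 9 (p7u1339) p7r1340

theorem p7r1341 : allRange pointOk 22 119484 9 = true := by decide +kernel
theorem p7u1341 : ∀ k, 107415 ≤ k → k < 119493 → pointOk (k * 22) = true := between_extend pointOk 22 107415 119484 9 (p7u1340) p7r1341

theorem p7r1342 : allRange pointOk 22 119493 9 = true := by decide +kernel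
theorem p7u1342 : ∀ k, 107415 ≤ k → k < 119502 → pointOk (k * 22) = true := between_extend pointOk 22 107415 119493 9 (p7u1341) p7r1342

theorem p7r1343 : allRange pointOk 22 119502 9 = true := by decide +kernel
theorem p7u1343 : ∀ k, 107415 ≤ k → k < 119511 → pointOk (k * 22) = true := between_extend pointOk 22 107415 119502 9 (p7u1342) p7r1343

theorem p7r1344 : allRange pointOk 22 119511 9 = true := by decide +kernel
theorem p7u1344 : ∀ k, 107415 ≤ k → k < 119520 → pointOk (k * 22) = true := between_extend pointOk 22 107415 119511 9 (p7u1343) p7r1344

theorem p7r1345 : allRange pointOk 22 119520 9 = true := by decide +kernel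
theorem p7u1345 : ∀ k, 107415 ≤ k → k < 119529 → pointOk (k * 22) = true := between_extend pointOk 22 107415 119520 9 (p7u1344) p7r1345

theorem p7r1346 : allRange pointOk 22 119529 9 = true := by decide +kernel
theorem p7u1346 : ∀ k, 107415 ≤ k → k < 119538 → pointOk (k * 22) = true := between_extend pointOk 22 107415 119529 9 (p7u1345) p7r1346

theorem p7r1347 : allRange pointOk 22 119538 9 = true := by decide +kernel
theorem p7u1347 : ∀ k, 107415 ≤ k → k < 119547 → pointOk (k * 22) = true := between_extend pointOk 22 107415 119538 9 (p7u1346) p7r1347

theorem p7r1348 : allRange pointOk 22 119547 9 = true := by decide +kernel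
theorem p7u1348 : ∀ k, 107415 ≤ k → k < 119556 → pointOk (k * 22) = true := between_extend pointOk 22 107415 119547 9 (p7u1347) p7r1348

theorem p7r1349 : allRange pointOk 22 119556 9 = true := by decide +kernel
theorem p7u1349 : ∀ k, 107415 ≤ k → k < 119565 → pointOk (k * 22) = true := between_extend pointOk 22 107415 119556 9 (p7u1348) p7r1349

theorem p7r1350 : allRange pointOk 22 119565 9 = true := by decide +kernel
theorem p7u1350 : ∀ k, 107415 ≤ k → k < 119574 → pointOk (k * 22) = true := between_extend pointOk 22 107415 119565 9 (p7u1349) p7r1350

theorem p7r1351 : allRange pointOk 22 119574 9 = true := by decide +kernel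
theorem p7u1351 : ∀ k, 107415 ≤ k → k < 119583 → pointOk (k * 22) = true := between_extend pointOk 22 107415 119574 9 (p7u1350) p7r1351

theorem p7r1352 : allRange pointOk 22 119583 9 = true := by decide +kernel
theorem p7u1352 : ∀ k, 107415 ≤ k → k < 119592 → pointOk (k * 22) = true := between_extend pointOk 22 107415 119583 9 (p7u1351) p7r1352

theorem p7r1353 : allRange pointOk 22 119592 9 = true := by decide +kernel
theorem p7u1353 : ∀ k, 107415 ≤ k → k < 119601 → pointOk (k * 22) = true := between_extend pointOk 22 107415 119592 9 (p7u1352) p7r1353

theorem p7r1354 : allRange pointOk 22 119601 9 = true := by decide +kernel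
theorem p7u1354 : ∀ k, 107415 ≤ k → k < 119610 → pointOk (k * 22) = true := between_extend pointOk 22 107415 119601 9 (p7u1353) p7r1354

theorem p7r1355 : allRange pointOk 22 119610 9 = true := by decide +kernel
theorem p7u1355 : ∀ k, 107415 ≤ k → k < 119619 → pointOk (k * 22) = true := between_extend pointOk 22 107415 119610 9 (p7u1354) p7r1355

theorem p7r1356 : allRange pointOk 22 119619 9 = true := by decide +kernel
theorem p7u1356 : ∀ k, 107415 ≤ k → k < 119628 → pointOk (k * 22) = true := between_extend pointOk 22 107415 119619 9 (p7u1355) p7r1356

theorem p7r1357 : allRange pointOk 22 119628 9 = true := by decide +kernel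
theorem p7u1357 : ∀ k, 107415 ≤ k → k < 119637 → pointOk (k * 22) = true := between_extend pointOk 22 107415 119628 9 (p7u1356) p7r1357

theorem p7r1358 : allRange pointOk 22 119637 9 = true := by decide +kernel
theorem p7u1358 : ∀ k, 107415 ≤ k → k < 119646 → pointOk (k * 22) = true := between_extend pointOk 22 107415 119637 9 (p7u1357) p7r1358

theorem p7r1359 : allRange pointOk 22 119646 9 = true := by decide +kernel
theorem p7u1359 : ∀ k, 107415 ≤ k → k < 119655 → pointOk (k * 22) = true := between_extend pointOk 22 107415 119646 9 (p7u1358) p7r1359

theorem p7r1360 : allRange pointOk 22 119655 9 = true := by decide +kernel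
theorem p7u1360 : ∀ k, 107415 ≤ k → k < 119664 → pointOk (k * 22) = true := between_extend pointOk 22 107415 119655 9 (p7u1359) p7r1360

theorem p7r1361 : allRange pointOk 22 119664 9 = true := by decide +kernel
theorem p7u1361 : ∀ k, 107415 ≤ k → k < 119673 → pointOk (k * 22) = true := between_extend pointOk 22 107415 119664 9 (p7u1360) p7r1361

theorem p7r1362 : allRange pointOk 22 119673 9 = true := by decide +kernel
theorem p7u1362 : ∀ k, 107415 ≤ k → k < 119682 → pointOk (k * 22) = true := between_extend pointOk 22 107415 119673 9 (p7u1361) p7r1362

theorem p7r1363 : allRange pointOk 22 119682 9 = true := by decide +kernel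
theorem p7u1363 : ∀ k, 107415 ≤ k → k < 119691 → pointOk (k * 22) = true := between_extend pointOk 22 107415 119682 9 (p7u1362) p7r1363

theorem p7r1364 : allRange pointOk 22 119691 9 = true := by decide +kernel
theorem p7u1364 : ∀ k, 107415 ≤ k → k < 119700 → pointOk (k * 22) = true := between_extend pointOk 22 107415 119691 9 (p7u1363) p7r1364

theorem p7r1365 : allRange pointOk 22 119700 9 = true := by decide +kernel
theorem p7u1365 : ∀ k, 107415 ≤ k → k < 119709 → pointOk (k * 22) = true := between_extend pointOk 22 107415 119700 9 (p7u1364) p7r1365

theorem p7r1366 : allRange pointOk 22 119709 9 = true := by decide +kernel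
theorem p7u1366 : ∀ k, 107415 ≤ k → k < 119718 → pointOk (k * 22) = true := between_extend pointOk 22 107415 119709 9 (p7u1365) p7r1366

theorem p7r1367 : allRange pointOk 22 119718 9 = true := by decide +kernel
theorem p7u1367 : ∀ k, 107415 ≤ k → k < 119727 → pointOk (k * 22) = true := between_extend pointOk 22 107415 119718 9 (p7u1366) p7r1367

theorem p7r1368 : allRange pointOk 22 119727 9 = true := by decide +kernel
theorem p7u1368 : ∀ k, 107415 ≤ k → k < 119736 → pointOk (k * 22) = true := between_extend pointOk 22 107415 119727 9 (p7u1367) p7r1368

theorem p7r1369 : allRange pointOk 22 119736 9 = true := by decide +kernel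
theorem p7u1369 : ∀ k, 107415 ≤ k → k < 119745 → pointOk (k * 22) = true := between_extend pointOk 22 107415 119736 9 (p7u1368) p7r1369

theorem p7r1370 : allRange pointOk 22 119745 9 = true := by decide +kernel
theorem p7u1370 : ∀ k, 107415 ≤ k → k < 119754 → pointOk (k * 22) = true := between_extend pointOk 22 107415 119745 9 (p7u1369) p7r1370

theorem p7r1371 : allRange pointOk 22 119754 9 = true := by decide +kernel
theorem p7u1371 : ∀ k, 107415 ≤ k → k < 119763 → pointOk (k * 22) = true := between_extend pointOk 22 107415 119754 9 (p7u1370) p7r1371

theorem p7r1372 : allRange pointOk 22 119763 9 = true := by decide +kernel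
theorem p7u1372 : ∀ k, 107415 ≤ k → k < 119772 → pointOk (k * 22) = true := between_extend pointOk 22 107415 119763 9 (p7u1371) p7r1372

theorem p7r1373 : allRange pointOk 22 119772 9 = true := by decide +kernel
theorem p7u1373 : ∀ k, 107415 ≤ k → k < 119781 → pointOk (k * 22) = true := between_extend pointOk 22 107415 119772 9 (p7u1372) p7r1373

theorem p7r1374 : allRange pointOk 22 119781 9 = true := by decide +kernel
theorem p7u1374 : ∀ k, 107415 ≤ k → k < 119790 → pointOk (k * 22) = true := between_extend pointOk 22 107415 119781 9 (p7u1373) p7r1374

theorem p7r1375 : allRange pointOk 22 119790 9 = true := by decide +kernel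
theorem p7u1375 : ∀ k, 107415 ≤ k → k < 119799 → pointOk (k * 22) = true := between_extend pointOk 22 107415 119790 9 (p7u1374) p7r1375

theorem p7r1376 : allRange pointOk 22 119799 9 = true := by decide +kernel
theorem p7u1376 : ∀ k, 107415 ≤ k → k < 119808 → pointOk (k * 22) = true := between_extend pointOk 22 107415 119799 9 (p7u1375) p7r1376

theorem p7r1377 : allRange pointOk 22 119808 9 = true := by decide +kernel
theorem p7u1377 : ∀ k, 107415 ≤ k → k < 119817 → pointOk (k * 22) = true := between_extend pointOk 22 107415 119808 9 (p7u1376) p7r1377

theorem p7r1378 : allRange pointOk 22 119817 9 = true := by decide +kernel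
theorem p7u1378 : ∀ k, 107415 ≤ k → k < 119826 → pointOk (k * 22) = true := between_extend pointOk 22 107415 119817 9 (p7u1377) p7r1378

theorem p7r1379 : allRange pointOk 22 119826 9 = true := by decide +kernel
theorem p7u1379 : ∀ k, 107415 ≤ k → k < 119835 → pointOk (k * 22) = true := between_extend pointOk 22 107415 119826 9 (p7u1378) p7r1379

theorem p7r1380 : allRange pointOk 22 119835 9 = true := by decide +kernel
theorem p7u1380 : ∀ k, 107415 ≤ k → k < 119844 → pointOk (k * 22) = true := between_extend pointOk 22 107415 119835 9 (p7u1379) p7r1380

theorem p7r1381 : allRange pointOk 22 119844 9 = true := by decide +kernel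
theorem p7u1381 : ∀ k, 107415 ≤ k → k < 119853 → pointOk (k * 22) = true := between_extend pointOk 22 107415 119844 9 (p7u1380) p7r1381

theorem p7r1382 : allRange pointOk 22 119853 9 = true := by decide +kernel
theorem p7u1382 : ∀ k, 107415 ≤ k → k < 119862 → pointOk (k * 22) = true := between_extend pointOk 22 107415 119853 9 (p7u1381) p7r1382

theorem p7r1383 : allRange pointOk 22 119862 9 = true := by decide +kernel
theorem p7u1383 : ∀ k, 107415 ≤ k → k < 119871 → pointOk (k * 22) = true := between_extend pointOk 22 107415 119862 9 (p7u1382) p7r1383

theorem p7r1384 : allRange pointOk 22 119871 9 = true := by decide +kernel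
theorem p7u1384 : ∀ k, 107415 ≤ k → k < 119880 → pointOk (k * 22) = true := between_extend pointOk 22 107415 119871 9 (p7u1383) p7r1384

theorem p7r1385 : allRange pointOk 22 119880 9 = true := by decide +kernel
theorem p7u1385 : ∀ k, 107415 ≤ k → k < 119889 → pointOk (k * 22) = true := between_extend pointOk 22 107415 119880 9 (p7u1384) p7r1385

theorem p7r1386 : allRange pointOk 22 119889 9 = true := by decide +kernel
theorem p7u1386 : ∀ k, 107415 ≤ k → k < 119898 → pointOk (k * 22) = true := between_extend pointOk 22 107415 119889 9 (p7u1385) p7r1386

theorem p7r1387 : allRange pointOk 22 119898 9 = true := by decide +kernel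
theorem p7u1387 : ∀ k, 107415 ≤ k → k < 119907 → pointOk (k * 22) = true := between_extend pointOk 22 107415 119898 9 (p7u1386) p7r1387

theorem p7r1388 : allRange pointOk 22 119907 9 = true := by decide +kernel
theorem p7u1388 : ∀ k, 107415 ≤ k → k < 119916 → pointOk (k * 22) = true := between_extend pointOk 22 107415 119907 9 (p7u1387) p7r1388

theorem p7r1389 : allRange pointOk 22 119916 9 = true := by decide +kernel
theorem p7u1389 : ∀ k, 107415 ≤ k → k < 119925 → pointOk (k * 22) = true := between_extend pointOk 22 107415 119916 9 (p7u1388) p7r1389

theorem p7r1390 : allRange pointOk 22 119925 9 = true := by decide +kernel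
theorem p7u1390 : ∀ k, 107415 ≤ k → k < 119934 → pointOk (k * 22) = true := between_extend pointOk 22 107415 119925 9 (p7u1389) p7r1390

theorem p7r1391 : allRange pointOk 22 119934 9 = true := by decide +kernel
theorem p7u1391 : ∀ k, 107415 ≤ k → k < 119943 → pointOk (k * 22) = true := between_extend pointOk 22 107415 119934 9 (p7u1390) p7r1391

theorem p7r1392 : allRange pointOk 22 119943 9 = true := by decide +kernel
theorem p7u1392 : ∀ k, 107415 ≤ k → k < 119952 → pointOk (k * 22) = true := between_extend pointOk 22 107415 119943 9 (p7u1391) p7r1392

theorem p7r1393 : allRange pointOk 22 119952 9 = true := by decide +kernel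
theorem p7u1393 : ∀ k, 107415 ≤ k → k < 119961 → pointOk (k * 22) = true := between_extend pointOk 22 107415 119952 9 (p7u1392) p7r1393

theorem p7r1394 : allRange pointOk 22 119961 9 = true := by decide +kernel
theorem p7u1394 : ∀ k, 107415 ≤ k → k < 119970 → pointOk (k * 22) = true := between_extend pointOk 22 107415 119961 9 (p7u1393) p7r1394

theorem p7r1395 : allRange pointOk 22 119970 9 = true := by decide +kernel
theorem p7u1395 : ∀ k, 107415 ≤ k → k < 119979 → pointOk (k * 22) = true := between_extend pointOk 22 107415 119970 9 (p7u1394) p7r1395

theorem p7r1396 : allRange pointOk 22 119979 9 = true := by decide +kernel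
theorem p7u1396 : ∀ k, 107415 ≤ k → k < 119988 → pointOk (k * 22) = true := between_extend pointOk 22 107415 119979 9 (p7u1395) p7r1396

theorem p7r1397 : allRange pointOk 22 119988 9 = true := by decide +kernel
theorem p7u1397 : ∀ k, 107415 ≤ k → k < 119997 → pointOk (k * 22) = true := between_extend pointOk 22 107415 119988 9 (p7u1396) p7r1397

theorem p7r1398 : allRange pointOk 22 119997 9 = true := by decide +kernel
theorem p7u1398 : ∀ k, 107415 ≤ k → k < 120006 → pointOk (k * 22) = true := between_extend pointOk 22 107415 119997 9 (p7u1397) p7r1398

theorem p7r1399 : allRange pointOk 22 120006 9 = true := by decide +kernel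
theorem p7u1399 : ∀ k, 107415 ≤ k → k < 120015 → pointOk (k * 22) = true := between_extend pointOk 22 107415 120006 9 (p7u1398) p7r1399

theorem p7r1400 : allRange pointOk 22 120015 9 = true := by decide +kernel
theorem p7u1400 : ∀ k, 107415 ≤ k → k < 120024 → pointOk (k * 22) = true := between_extend pointOk 22 107415 120015 9 (p7u1399) p7r1400

theorem p7r1401 : allRange pointOk 22 120024 9 = true := by decide +kernel
theorem p7u1401 : ∀ k, 107415 ≤ k → k < 120033 → pointOk (k * 22) = true := between_extend pointOk 22 107415 120024 9 (p7u1400) p7r1401

theorem p7r1402 : allRange pointOk 22 120033 9 = true := by decide +kernel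
theorem p7u1402 : ∀ k, 107415 ≤ k → k < 120042 → pointOk (k * 22) = true := between_extend pointOk 22 107415 120033 9 (p7u1401) p7r1402

theorem p7r1403 : allRange pointOk 22 120042 9 = true := by decide +kernel
theorem p7u1403 : ∀ k, 107415 ≤ k → k < 120051 → pointOk (k * 22) = true := between_extend pointOk 22 107415 120042 9 (p7u1402) p7r1403

theorem p7r1404 : allRange pointOk 22 120051 9 = true := by decide +kernel
theorem p7u1404 : ∀ k, 107415 ≤ k → k < 120060 → pointOk (k * 22) = true := between_extend pointOk 22 107415 120051 9 (p7u1403) p7r1404

theorem p7r1405 : allRange pointOk 22 120060 9 = true := by decide +kernel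
theorem p7u1405 : ∀ k, 107415 ≤ k → k < 120069 → pointOk (k * 22) = true := between_extend pointOk 22 107415 120060 9 (p7u1404) p7r1405

theorem p7r1406 : allRange pointOk 22 120069 9 = true := by decide +kernel
theorem p7u1406 : ∀ k, 107415 ≤ k → k < 120078 → pointOk (k * 22) = true := between_extend pointOk 22 107415 120069 9 (p7u1405) p7r1406

theorem p7r1407 : allRange pointOk 22 120078 9 = true := by decide +kernel
theorem p7u1407 : ∀ k, 107415 ≤ k → k < 120087 → pointOk (k * 22) = true := between_extend pointOk 22 107415 120078 9 (p7u1406) p7r1407

theorem p7r1408 : allRange pointOk 22 120087 9 = true := by decide +kernel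
theorem p7u1408 : ∀ k, 107415 ≤ k → k < 120096 → pointOk (k * 22) = true := between_extend pointOk 22 107415 120087 9 (p7u1407) p7r1408

theorem p7r1409 : allRange pointOk 22 120096 9 = true := by decide +kernel
theorem p7u1409 : ∀ k, 107415 ≤ k → k < 120105 → pointOk (k * 22) = true := between_extend pointOk 22 107415 120096 9 (p7u1408) p7r1409

theorem p7r1410 : allRange pointOk 22 120105 9 = true := by decide +kernel
theorem p7u1410 : ∀ k, 107415 ≤ k → k < 120114 → pointOk (k * 22) = true := between_extend pointOk 22 107415 120105 9 (p7u1409) p7r1410

theorem p7r1411 : allRange pointOk 22 120114 9 = true := by decide +kernel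
theorem p7u1411 : ∀ k, 107415 ≤ k → k < 120123 → pointOk (k * 22) = true := between_extend pointOk 22 107415 120114 9 (p7u1410) p7r1411

theorem p7r1412 : allRange pointOk 22 120123 9 = true := by decide +kernel
theorem p7u1412 : ∀ k, 107415 ≤ k → k < 120132 → pointOk (k * 22) = true := between_extend pointOk 22 107415 120123 9 (p7u1411) p7r1412

theorem p7r1413 : allRange pointOk 22 120132 9 = true := by decide +kernel
theorem p7u1413 : ∀ k, 107415 ≤ k → k < 120141 → pointOk (k * 22) = true := between_extend pointOk 22 107415 120132 9 (p7u1412) p7r1413

theorem p7r1414 : allRange pointOk 22 120141 9 = true := by decide +kernel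
theorem p7u1414 : ∀ k, 107415 ≤ k → k < 120150 → pointOk (k * 22) = true := between_extend pointOk 22 107415 120141 9 (p7u1413) p7r1414

theorem p7r1415 : allRange pointOk 22 120150 9 = true := by decide +kernel
theorem p7u1415 : ∀ k, 107415 ≤ k → k < 120159 → pointOk (k * 22) = true := between_extend pointOk 22 107415 120150 9 (p7u1414) p7r1415

theorem p7r1416 : allRange pointOk 22 120159 9 = true := by decide +kernel
theorem p7u1416 : ∀ k, 107415 ≤ k → k < 120168 → pointOk (k * 22) = true := between_extend pointOk 22 107415 120159 9 (p7u1415) p7r1416

theorem p7r1417 : allRange pointOk 22 120168 9 = true := by decide +kernel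
theorem p7u1417 : ∀ k, 107415 ≤ k → k < 120177 → pointOk (k * 22) = true := between_extend pointOk 22 107415 120168 9 (p7u1416) p7r1417

theorem p7r1418 : allRange pointOk 22 120177 9 = true := by decide +kernel
theorem p7u1418 : ∀ k, 107415 ≤ k → k < 120186 → pointOk (k * 22) = true := between_extend pointOk 22 107415 120177 9 (p7u1417) p7r1418

theorem p7r1419 : allRange pointOk 22 120186 9 = true := by decide +kernel
theorem p7u1419 : ∀ k, 107415 ≤ k → k < 120195 → pointOk (k * 22) = true := between_extend pointOk 22 107415 120186 9 (p7u1418) p7r1419

theorem p7r1420 : allRange pointOk 22 120195 9 = true := by decide +kernel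
theorem p7u1420 : ∀ k, 107415 ≤ k → k < 120204 → pointOk (k * 22) = true := between_extend pointOk 22 107415 120195 9 (p7u1419) p7r1420

theorem p7r1421 : allRange pointOk 22 120204 9 = true := by decide +kernel
theorem p7u1421 : ∀ k, 107415 ≤ k → k < 120213 → pointOk (k * 22) = true := between_extend pointOk 22 107415 120204 9 (p7u1420) p7r1421

theorem p7r1422 : allRange pointOk 22 120213 9 = true := by decide +kernel
theorem p7u1422 : ∀ k, 107415 ≤ k → k < 120222 → pointOk (k * 22) = true := between_extend pointOk 22 107415 120213 9 (p7u1421) p7r1422

theorem p7r1423 : allRange pointOk 22 120222 9 = true := by decide +kernel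
theorem p7u1423 : ∀ k, 107415 ≤ k → k < 120231 → pointOk (k * 22) = true := between_extend pointOk 22 107415 120222 9 (p7u1422) p7r1423

theorem p7r1424 : allRange pointOk 22 120231 9 = true := by decide +kernel
theorem p7u1424 : ∀ k, 107415 ≤ k → k < 120240 → pointOk (k * 22) = true := between_extend pointOk 22 107415 120231 9 (p7u1423) p7r1424

theorem p7r1425 : allRange pointOk 22 120240 9 = true := by decide +kernel
theorem p7u1425 : ∀ k, 107415 ≤ k → k < 120249 → pointOk (k * 22) = true := between_extend pointOk 22 107415 120240 9 (p7u1424) p7r1425

theorem p7r1426 : allRange pointOk 22 120249 9 = true := by decide +kernel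
theorem p7u1426 : ∀ k, 107415 ≤ k → k < 120258 → pointOk (k * 22) = true := between_extend pointOk 22 107415 120249 9 (p7u1425) p7r1426

theorem p7r1427 : allRange pointOk 22 120258 9 = true := by decide +kernel
theorem p7u1427 : ∀ k, 107415 ≤ k → k < 120267 → pointOk (k * 22) = true := between_extend pointOk 22 107415 120258 9 (p7u1426) p7r1427

theorem p7r1428 : allRange pointOk 22 120267 9 = true := by decide +kernel
theorem p7u1428 : ∀ k, 107415 ≤ k → k < 120276 → pointOk (k * 22) = true := between_extend pointOk 22 107415 120267 9 (p7u1427) p7r1428

theorem p7r1429 : allRange pointOk 22 120276 9 = true := by decide +kernel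
theorem p7u1429 : ∀ k, 107415 ≤ k → k < 120285 → pointOk (k * 22) = true := between_extend pointOk 22 107415 120276 9 (p7u1428) p7r1429

theorem p7r1430 : allRange pointOk 22 120285 9 = true := by decide +kernel
theorem p7u1430 : ∀ k, 107415 ≤ k → k < 120294 → pointOk (k * 22) = true := between_extend pointOk 22 107415 120285 9 (p7u1429) p7r1430

theorem p7r1431 : allRange pointOk 22 120294 9 = true := by decide +kernel
theorem p7u1431 : ∀ k, 107415 ≤ k → k < 120303 → pointOk (k * 22) = true := between_extend pointOk 22 107415 120294 9 (p7u1430) p7r1431

theorem p7r1432 : allRange pointOk 22 120303 9 = true := by decide +kernel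
theorem p7u1432 : ∀ k, 107415 ≤ k → k < 120312 → pointOk (k * 22) = true := between_extend pointOk 22 107415 120303 9 (p7u1431) p7r1432

theorem p7r1433 : allRange pointOk 22 120312 9 = true := by decide +kernel
theorem p7u1433 : ∀ k, 107415 ≤ k → k < 120321 → pointOk (k * 22) = true := between_extend pointOk 22 107415 120312 9 (p7u1432) p7r1433

theorem p7r1434 : allRange pointOk 22 120321 9 = true := by decide +kernel
theorem p7u1434 : ∀ k, 107415 ≤ k → k < 120330 → pointOk (k * 22) = true := between_extend pointOk 22 107415 120321 9 (p7u1433) p7r1434

theorem p7r1435 : allRange pointOk 22 120330 9 = true := by decide +kernel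
theorem p7u1435 : ∀ k, 107415 ≤ k → k < 120339 → pointOk (k * 22) = true := between_extend pointOk 22 107415 120330 9 (p7u1434) p7r1435

theorem p7r1436 : allRange pointOk 22 120339 9 = true := by decide +kernel
theorem p7u1436 : ∀ k, 107415 ≤ k → k < 120348 → pointOk (k * 22) = true := between_extend pointOk 22 107415 120339 9 (p7u1435) p7r1436

theorem p7r1437 : allRange pointOk 22 120348 9 = true := by decide +kernel
theorem p7u1437 : ∀ k, 107415 ≤ k → k < 120357 → pointOk (k * 22) = true := between_extend pointOk 22 107415 120348 9 (p7u1436) p7r1437

theorem p7r1438 : allRange pointOk 22 120357 9 = true := by decide +kernel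
theorem p7u1438 : ∀ k, 107415 ≤ k → k < 120366 → pointOk (k * 22) = true := between_extend pointOk 22 107415 120357 9 (p7u1437) p7r1438

theorem p7r1439 : allRange pointOk 22 120366 9 = true := by decide +kernel
theorem p7u1439 : ∀ k, 107415 ≤ k → k < 120375 → pointOk (k * 22) = true := between_extend pointOk 22 107415 120366 9 (p7u1438) p7r1439

theorem p7r1440 : allRange pointOk 22 120375 9 = true := by decide +kernel
theorem p7u1440 : ∀ k, 107415 ≤ k → k < 120384 → pointOk (k * 22) = true := between_extend pointOk 22 107415 120375 9 (p7u1439) p7r1440

theorem p7r1441 : allRange pointOk 22 120384 9 = true := by decide +kernel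
theorem p7u1441 : ∀ k, 107415 ≤ k → k < 120393 → pointOk (k * 22) = true := between_extend pointOk 22 107415 120384 9 (p7u1440) p7r1441

theorem p7r1442 : allRange pointOk 22 120393 9 = true := by decide +kernel
theorem p7u1442 : ∀ k, 107415 ≤ k → k < 120402 → pointOk (k * 22) = true := between_extend pointOk 22 107415 120393 9 (p7u1441) p7r1442

theorem p7r1443 : allRange pointOk 22 120402 9 = true := by decide +kernel
theorem p7u1443 : ∀ k, 107415 ≤ k → k < 120411 → pointOk (k * 22) = true := between_extend pointOk 22 107415 120402 9 (p7u1442) p7r1443

theorem p7r1444 : allRange pointOk 22 120411 9 = true := by decide +kernel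
theorem p7u1444 : ∀ k, 107415 ≤ k → k < 120420 → pointOk (k * 22) = true := between_extend pointOk 22 107415 120411 9 (p7u1443) p7r1444

theorem p7r1445 : allRange pointOk 22 120420 9 = true := by decide +kernel
theorem p7u1445 : ∀ k, 107415 ≤ k → k < 120429 → pointOk (k * 22) = true := between_extend pointOk 22 107415 120420 9 (p7u1444) p7r1445

theorem p7r1446 : allRange pointOk 22 120429 9 = true := by decide +kernel
theorem p7u1446 : ∀ k, 107415 ≤ k → k < 120438 → pointOk (k * 22) = true := between_extend pointOk 22 107415 120429 9 (p7u1445) p7r1446

theorem p7r1447 : allRange pointOk 22 120438 9 = true := by decide +kernel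
theorem p7u1447 : ∀ k, 107415 ≤ k → k < 120447 → pointOk (k * 22) = true := between_extend pointOk 22 107415 120438 9 (p7u1446) p7r1447

theorem p7r1448 : allRange pointOk 22 120447 9 = true := by decide +kernel
theorem p7u1448 : ∀ k, 107415 ≤ k → k < 120456 → pointOk (k * 22) = true := between_extend pointOk 22 107415 120447 9 (p7u1447) p7r1448

theorem p7r1449 : allRange pointOk 22 120456 9 = true := by decide +kernel
theorem p7u1449 : ∀ k, 107415 ≤ k → k < 120465 → pointOk (k * 22) = true := between_extend pointOk 22 107415 120456 9 (p7u1448) p7r1449

theorem p7r1450 : allRange pointOk 22 120465 9 = true := by decide +kernel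
theorem p7u1450 : ∀ k, 107415 ≤ k → k < 120474 → pointOk (k * 22) = true := between_extend pointOk 22 107415 120465 9 (p7u1449) p7r1450

theorem p7r1451 : allRange pointOk 22 120474 9 = true := by decide +kernel
theorem p7u1451 : ∀ k, 107415 ≤ k → k < 120483 → pointOk (k * 22) = true := between_extend pointOk 22 107415 120474 9 (p7u1450) p7r1451

theorem p7r1452 : allRange pointOk 22 120483 9 = true := by decide +kernel
theorem p7u1452 : ∀ k, 107415 ≤ k → k < 120492 → pointOk (k * 22) = true := between_extend pointOk 22 107415 120483 9 (p7u1451) p7r1452

theorem p7r1453 : allRange pointOk 22 120492 9 = true := by decide +kernel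
theorem p7u1453 : ∀ k, 107415 ≤ k → k < 120501 → pointOk (k * 22) = true := between_extend pointOk 22 107415 120492 9 (p7u1452) p7r1453

theorem p7r1454 : allRange pointOk 22 120501 9 = true := by decide +kernel
theorem p7u1454 : ∀ k, 107415 ≤ k → k < 120510 → pointOk (k * 22) = true := between_extend pointOk 22 107415 120501 9 (p7u1453) p7r1454

theorem p7r1455 : allRange pointOk 22 120510 9 = true := by decide +kernel
theorem p7u1455 : ∀ k, 107415 ≤ k → k < 120519 → pointOk (k * 22) = true := between_extend pointOk 22 107415 120510 9 (p7u1454) p7r1455

theorem p7r1456 : allRange pointOk 22 120519 9 = true := by decide +kernel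
theorem p7u1456 : ∀ k, 107415 ≤ k → k < 120528 → pointOk (k * 22) = true := between_extend pointOk 22 107415 120519 9 (p7u1455) p7r1456

theorem p7r1457 : allRange pointOk 22 120528 9 = true := by decide +kernel
theorem p7u1457 : ∀ k, 107415 ≤ k → k < 120537 → pointOk (k * 22) = true := between_extend pointOk 22 107415 120528 9 (p7u1456) p7r1457

theorem p7r1458 : allRange pointOk 22 120537 9 = true := by decide +kernel
theorem p7u1458 : ∀ k, 107415 ≤ k → k < 120546 → pointOk (k * 22) = true := between_extend pointOk 22 107415 120537 9 (p7u1457) p7r1458

theorem p7r1459 : allRange pointOk 22 120546 9 = true := by decide +kernel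
theorem p7u1459 : ∀ k, 107415 ≤ k → k < 120555 → pointOk (k * 22) = true := between_extend pointOk 22 107415 120546 9 (p7u1458) p7r1459

theorem p7r1460 : allRange pointOk 22 120555 9 = true := by decide +kernel
theorem p7u1460 : ∀ k, 107415 ≤ k → k < 120564 → pointOk (k * 22) = true := between_extend pointOk 22 107415 120555 9 (p7u1459) p7r1460

theorem p7r1461 : allRange pointOk 22 120564 9 = true := by decide +kernel
theorem p7u1461 : ∀ k, 107415 ≤ k → k < 120573 → pointOk (k * 22) = true := between_extend pointOk 22 107415 120564 9 (p7u1460) p7r1461

theorem p7r1462 : allRange pointOk 22 120573 9 = true := by decide +kernel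
theorem p7u1462 : ∀ k, 107415 ≤ k → k < 120582 → pointOk (k * 22) = true := between_extend pointOk 22 107415 120573 9 (p7u1461) p7r1462

theorem p7r1463 : allRange pointOk 22 120582 9 = true := by decide +kernel
theorem p7u1463 : ∀ k, 107415 ≤ k → k < 120591 → pointOk (k * 22) = true := between_extend pointOk 22 107415 120582 9 (p7u1462) p7r1463

theorem p7r1464 : allRange pointOk 22 120591 9 = true := by decide +kernel
theorem p7u1464 : ∀ k, 107415 ≤ k → k < 120600 → pointOk (k * 22) = true := between_extend pointOk 22 107415 120591 9 (p7u1463) p7r1464

theorem p7r1465 : allRange pointOk 22 120600 9 = true := by decide +kernel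
theorem p7u1465 : ∀ k, 107415 ≤ k → k < 120609 → pointOk (k * 22) = true := between_extend pointOk 22 107415 120600 9 (p7u1464) p7r1465

theorem p7r1466 : allRange pointOk 22 120609 9 = true := by decide +kernel
theorem p7u1466 : ∀ k, 107415 ≤ k → k < 120618 → pointOk (k * 22) = true := between_extend pointOk 22 107415 120609 9 (p7u1465) p7r1466

theorem p7r1467 : allRange pointOk 22 120618 9 = true := by decide +kernel
theorem p7u1467 : ∀ k, 107415 ≤ k → k < 120627 → pointOk (k * 22) = true := between_extend pointOk 22 107415 120618 9 (p7u1466) p7r1467

theorem p7r1468 : allRange pointOk 22 120627 9 = true := by decide +kernel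
theorem p7u1468 : ∀ k, 107415 ≤ k → k < 120636 → pointOk (k * 22) = true := between_extend pointOk 22 107415 120627 9 (p7u1467) p7r1468

theorem p7r1469 : allRange pointOk 22 120636 9 = true := by decide +kernel
theorem p7u1469 : ∀ k, 107415 ≤ k → k < 120645 → pointOk (k * 22) = true := between_extend pointOk 22 107415 120636 9 (p7u1468) p7r1469

theorem p7r1470 : allRange pointOk 22 120645 9 = true := by decide +kernel
theorem p7u1470 : ∀ k, 107415 ≤ k → k < 120654 → pointOk (k * 22) = true := between_extend pointOk 22 107415 120645 9 (p7u1469) p7r1470

theorem p7r1471 : allRange pointOk 22 120654 9 = true := by decide +kernel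
theorem p7u1471 : ∀ k, 107415 ≤ k → k < 120663 → pointOk (k * 22) = true := between_extend pointOk 22 107415 120654 9 (p7u1470) p7r1471

theorem p7r1472 : allRange pointOk 22 120663 9 = true := by decide +kernel
theorem p7u1472 : ∀ k, 107415 ≤ k → k < 120672 → pointOk (k * 22) = true := between_extend pointOk 22 107415 120663 9 (p7u1471) p7r1472

theorem p7r1473 : allRange pointOk 22 120672 9 = true := by decide +kernel
theorem p7u1473 : ∀ k, 107415 ≤ k → k < 120681 → pointOk (k * 22) = true := between_extend pointOk 22 107415 120672 9 (p7u1472) p7r1473

theorem p7r1474 : allRange pointOk 22 120681 9 = true := by decide +kernel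
theorem p7u1474 : ∀ k, 107415 ≤ k → k < 120690 → pointOk (k * 22) = true := between_extend pointOk 22 107415 120681 9 (p7u1473) p7r1474

theorem p7r1475 : allRange pointOk 22 120690 9 = true := by decide +kernel
theorem p7u1475 : ∀ k, 107415 ≤ k → k < 120699 → pointOk (k * 22) = true := between_extend pointOk 22 107415 120690 9 (p7u1474) p7r1475

theorem p7r1476 : allRange pointOk 22 120699 9 = true := by decide +kernel
theorem p7u1476 : ∀ k, 107415 ≤ k → k < 120708 → pointOk (k * 22) = true := between_extend pointOk 22 107415 120699 9 (p7u1475) p7r1476

theorem p7r1477 : allRange pointOk 22 120708 9 = true := by decide +kernel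
theorem p7u1477 : ∀ k, 107415 ≤ k → k < 120717 → pointOk (k * 22) = true := between_extend pointOk 22 107415 120708 9 (p7u1476) p7r1477

theorem p7r1478 : allRange pointOk 22 120717 9 = true := by decide +kernel
theorem p7u1478 : ∀ k, 107415 ≤ k → k < 120726 → pointOk (k * 22) = true := between_extend pointOk 22 107415 120717 9 (p7u1477) p7r1478

theorem p7r1479 : allRange pointOk 22 120726 9 = true := by decide +kernel
theorem p7u1479 : ∀ k, 107415 ≤ k → k < 120735 → pointOk (k * 22) = true := between_extend pointOk 22 107415 120726 9 (p7u1478) p7r1479

theorem p7r1480 : allRange pointOk 22 120735 9 = true := by decide +kernel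
theorem p7u1480 : ∀ k, 107415 ≤ k → k < 120744 → pointOk (k * 22) = true := between_extend pointOk 22 107415 120735 9 (p7u1479) p7r1480

theorem p7r1481 : allRange pointOk 22 120744 9 = true := by decide +kernel
theorem p7u1481 : ∀ k, 107415 ≤ k → k < 120753 → pointOk (k * 22) = true := between_extend pointOk 22 107415 120744 9 (p7u1480) p7r1481

theorem p7r1482 : allRange pointOk 22 120753 9 = true := by decide +kernel
theorem p7u1482 : ∀ k, 107415 ≤ k → k < 120762 → pointOk (k * 22) = true := between_extend pointOk 22 107415 120753 9 (p7u1481) p7r1482

theorem p7r1483 : allRange pointOk 22 120762 9 = true := by decide +kernel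
theorem p7u1483 : ∀ k, 107415 ≤ k → k < 120771 → pointOk (k * 22) = true := between_extend pointOk 22 107415 120762 9 (p7u1482) p7r1483

theorem p7r1484 : allRange pointOk 22 120771 9 = true := by decide +kernel
theorem p7u1484 : ∀ k, 107415 ≤ k → k < 120780 → pointOk (k * 22) = true := between_extend pointOk 22 107415 120771 9 (p7u1483) p7r1484

theorem p7r1485 : allRange pointOk 22 120780 9 = true := by decide +kernel
theorem p7u1485 : ∀ k, 107415 ≤ k → k < 120789 → pointOk (k * 22) = true := between_extend pointOk 22 107415 120780 9 (p7u1484) p7r1485

theorem p7r1486 : allRange pointOk 22 120789 9 = true := by decide +kernel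
theorem p7u1486 : ∀ k, 107415 ≤ k → k < 120798 → pointOk (k * 22) = true := between_extend pointOk 22 107415 120789 9 (p7u1485) p7r1486

theorem p7r1487 : allRange pointOk 22 120798 9 = true := by decide +kernel
theorem p7u1487 : ∀ k, 107415 ≤ k → k < 120807 → pointOk (k * 22) = true := between_extend pointOk 22 107415 120798 9 (p7u1486) p7r1487

theorem p7r1488 : allRange pointOk 22 120807 9 = true := by decide +kernel
theorem p7u1488 : ∀ k, 107415 ≤ k → k < 120816 → pointOk (k * 22) = true := between_extend pointOk 22 107415 120807 9 (p7u1487) p7r1488

theorem p7r1489 : allRange pointOk 22 120816 9 = true := by decide +kernel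
theorem p7u1489 : ∀ k, 107415 ≤ k → k < 120825 → pointOk (k * 22) = true := between_extend pointOk 22 107415 120816 9 (p7u1488) p7r1489

theorem p7r1490 : allRange pointOk 22 120825 9 = true := by decide +kernel
theorem p7u1490 : ∀ k, 107415 ≤ k → k < 120834 → pointOk (k * 22) = true := between_extend pointOk 22 107415 120825 9 (p7u1489) p7r1490

theorem p7r1491 : allRange pointOk 22 120834 9 = true := by decide +kernel
theorem p7u1491 : ∀ k, 107415 ≤ k → k < 120843 → pointOk (k * 22) = true := between_extend pointOk 22 107415 120834 9 (p7u1490) p7r1491

theorem p7r1492 : allRange pointOk 22 120843 9 = true := by decide +kernel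
theorem p7u1492 : ∀ k, 107415 ≤ k → k < 120852 → pointOk (k * 22) = true := between_extend pointOk 22 107415 120843 9 (p7u1491) p7r1492

theorem p7r1493 : allRange pointOk 22 120852 9 = true := by decide +kernel
theorem p7u1493 : ∀ k, 107415 ≤ k → k < 120861 → pointOk (k * 22) = true := between_extend pointOk 22 107415 120852 9 (p7u1492) p7r1493

theorem p7r1494 : allRange pointOk 22 120861 9 = true := by decide +kernel
theorem p7u1494 : ∀ k, 107415 ≤ k → k < 120870 → pointOk (k * 22) = true := between_extend pointOk 22 107415 120861 9 (p7u1493) p7r1494

theorem p7r1495 : allRange pointOk 22 120870 9 = true := by decide +kernel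
theorem p7u1495 : ∀ k, 107415 ≤ k → k < 120879 → pointOk (k * 22) = true := between_extend pointOk 22 107415 120870 9 (p7u1494) p7r1495

theorem p7r1496 : allRange pointOk 22 120879 9 = true := by decide +kernel
theorem p7u1496 : ∀ k, 107415 ≤ k → k < 120888 → pointOk (k * 22) = true := between_extend pointOk 22 107415 120879 9 (p7u1495) p7r1496

theorem p7r1497 : allRange pointOk 22 120888 9 = true := by decide +kernel
theorem p7u1497 : ∀ k, 107415 ≤ k → k < 120897 → pointOk (k * 22) = true := between_extend pointOk 22 107415 120888 9 (p7u1496) p7r1497

theorem p7r1498 : allRange pointOk 22 120897 9 = true := by decide +kernel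
theorem p7u1498 : ∀ k, 107415 ≤ k → k < 120906 → pointOk (k * 22) = true := between_extend pointOk 22 107415 120897 9 (p7u1497) p7r1498

theorem p7r1499 : allRange pointOk 22 120906 9 = true := by decide +kernel
theorem p7u1499 : ∀ k, 107415 ≤ k → k < 120915 → pointOk (k * 22) = true := between_extend pointOk 22 107415 120906 9 (p7u1498) p7r1499

theorem p7r1500 : allRange pointOk 22 120915 9 = true := by decide +kernel
theorem p7u1500 : ∀ k, 107415 ≤ k → k < 120924 → pointOk (k * 22) = true := between_extend pointOk 22 107415 120915 9 (p7u1499) p7r1500

theorem p7r1501 : allRange pointOk 22 120924 9 = true := by decide +kernel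
theorem p7u1501 : ∀ k, 107415 ≤ k → k < 120933 → pointOk (k * 22) = true := between_extend pointOk 22 107415 120924 9 (p7u1500) p7r1501

theorem p7r1502 : allRange pointOk 22 120933 9 = true := by decide +kernel
theorem p7u1502 : ∀ k, 107415 ≤ k → k < 120942 → pointOk (k * 22) = true := between_extend pointOk 22 107415 120933 9 (p7u1501) p7r1502

theorem p7r1503 : allRange pointOk 22 120942 9 = true := by decide +kernel
theorem p7u1503 : ∀ k, 107415 ≤ k → k < 120951 → pointOk (k * 22) = true := between_extend pointOk 22 107415 120942 9 (p7u1502) p7r1503

theorem p7r1504 : allRange pointOk 22 120951 9 = true := by decide +kernel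
theorem p7u1504 : ∀ k, 107415 ≤ k → k < 120960 → pointOk (k * 22) = true := between_extend pointOk 22 107415 120951 9 (p7u1503) p7r1504

theorem p7r1505 : allRange pointOk 22 120960 9 = true := by decide +kernel
theorem p7u1505 : ∀ k, 107415 ≤ k → k < 120969 → pointOk (k * 22) = true := between_extend pointOk 22 107415 120960 9 (p7u1504) p7r1505

theorem p7r1506 : allRange pointOk 22 120969 9 = true := by decide +kernel
theorem p7u1506 : ∀ k, 107415 ≤ k → k < 120978 → pointOk (k * 22) = true := between_extend pointOk 22 107415 120969 9 (p7u1505) p7r1506

theorem p7r1507 : allRange pointOk 22 120978 9 = true := by decide +kernel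
theorem p7u1507 : ∀ k, 107415 ≤ k → k < 120987 → pointOk (k * 22) = true := between_extend pointOk 22 107415 120978 9 (p7u1506) p7r1507

theorem p7r1508 : allRange pointOk 22 120987 9 = true := by decide +kernel
theorem p7u1508 : ∀ k, 107415 ≤ k → k < 120996 → pointOk (k * 22) = true := between_extend pointOk 22 107415 120987 9 (p7u1507) p7r1508

theorem p7r1509 : allRange pointOk 22 120996 9 = true := by decide +kernel
theorem p7u1509 : ∀ k, 107415 ≤ k → k < 121005 → pointOk (k * 22) = true := between_extend pointOk 22 107415 120996 9 (p7u1508) p7r1509

theorem p7r1510 : allRange pointOk 22 121005 9 = true := by decide +kernel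
theorem p7u1510 : ∀ k, 107415 ≤ k → k < 121014 → pointOk (k * 22) = true := between_extend pointOk 22 107415 121005 9 (p7u1509) p7r1510

theorem p7r1511 : allRange pointOk 22 121014 9 = true := by decide +kernel
theorem p7u1511 : ∀ k, 107415 ≤ k → k < 121023 → pointOk (k * 22) = true := between_extend pointOk 22 107415 121014 9 (p7u1510) p7r1511

theorem p7r1512 : allRange pointOk 22 121023 9 = true := by decide +kernel
theorem p7u1512 : ∀ k, 107415 ≤ k → k < 121032 → pointOk (k * 22) = true := between_extend pointOk 22 107415 121023 9 (p7u1511) p7r1512

theorem p7r1513 : allRange pointOk 22 121032 9 = true := by decide +kernel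
theorem p7u1513 : ∀ k, 107415 ≤ k → k < 121041 → pointOk (k * 22) = true := between_extend pointOk 22 107415 121032 9 (p7u1512) p7r1513

theorem p7r1514 : allRange pointOk 22 121041 9 = true := by decide +kernel
theorem p7u1514 : ∀ k, 107415 ≤ k → k < 121050 → pointOk (k * 22) = true := between_extend pointOk 22 107415 121041 9 (p7u1513) p7r1514

theorem p7r1515 : allRange pointOk 22 121050 9 = true := by decide +kernel
theorem p7u1515 : ∀ k, 107415 ≤ k → k < 121059 → pointOk (k * 22) = true := between_extend pointOk 22 107415 121050 9 (p7u1514) p7r1515

theorem p7r1516 : allRange pointOk 22 121059 9 = true := by decide +kernel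
theorem p7u1516 : ∀ k, 107415 ≤ k → k < 121068 → pointOk (k * 22) = true := between_extend pointOk 22 107415 121059 9 (p7u1515) p7r1516

theorem p7r1517 : allRange pointOk 22 121068 9 = true := by decide +kernel
theorem p7u1517 : ∀ k, 107415 ≤ k → k < 121077 → pointOk (k * 22) = true := between_extend pointOk 22 107415 121068 9 (p7u1516) p7r1517

theorem p7r1518 : allRange pointOk 22 121077 9 = true := by decide +kernel
theorem p7u1518 : ∀ k, 107415 ≤ k → k < 121086 → pointOk (k * 22) = true := between_extend pointOk 22 107415 121077 9 (p7u1517) p7r1518

theorem p7r1519 : allRange pointOk 22 121086 9 = true := by decide +kernel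
theorem p7u1519 : ∀ k, 107415 ≤ k → k < 121095 → pointOk (k * 22) = true := between_extend pointOk 22 107415 121086 9 (p7u1518) p7r1519

theorem p7r1520 : allRange pointOk 22 121095 9 = true := by decide +kernel
theorem p7u1520 : ∀ k, 107415 ≤ k → k < 121104 → pointOk (k * 22) = true := between_extend pointOk 22 107415 121095 9 (p7u1519) p7r1520

theorem p7r1521 : allRange pointOk 22 121104 9 = true := by decide +kernel
theorem p7u1521 : ∀ k, 107415 ≤ k → k < 121113 → pointOk (k * 22) = true := between_extend pointOk 22 107415 121104 9 (p7u1520) p7r1521

theorem p7r1522 : allRange pointOk 22 121113 9 = true := by decide +kernel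
theorem p7u1522 : ∀ k, 107415 ≤ k → k < 121122 → pointOk (k * 22) = true := between_extend pointOk 22 107415 121113 9 (p7u1521) p7r1522

theorem p7r1523 : allRange pointOk 22 121122 9 = true := by decide +kernel
theorem p7u1523 : ∀ k, 107415 ≤ k → k < 121131 → pointOk (k * 22) = true := between_extend pointOk 22 107415 121122 9 (p7u1522) p7r1523

theorem p7r1524 : allRange pointOk 22 121131 9 = true := by decide +kernel
theorem p7u1524 : ∀ k, 107415 ≤ k → k < 121140 → pointOk (k * 22) = true := between_extend pointOk 22 107415 121131 9 (p7u1523) p7r1524

theorem p7r1525 : allRange pointOk 22 121140 9 = true := by decide +kernel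
theorem p7u1525 : ∀ k, 107415 ≤ k → k < 121149 → pointOk (k * 22) = true := between_extend pointOk 22 107415 121140 9 (p7u1524) p7r1525

theorem p7r1526 : allRange pointOk 22 121149 9 = true := by decide +kernel
theorem p7u1526 : ∀ k, 107415 ≤ k → k < 121158 → pointOk (k * 22) = true := between_extend pointOk 22 107415 121149 9 (p7u1525) p7r1526

theorem p7r1527 : allRange pointOk 22 121158 9 = true := by decide +kernel
theorem p7u1527 : ∀ k, 107415 ≤ k → k < 121167 → pointOk (k * 22) = true := between_extend pointOk 22 107415 121158 9 (p7u1526) p7r1527

theorem p7r1528 : allRange pointOk 22 121167 9 = true := by decide +kernel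
theorem p7u1528 : ∀ k, 107415 ≤ k → k < 121176 → pointOk (k * 22) = true := between_extend pointOk 22 107415 121167 9 (p7u1527) p7r1528

theorem p7r1529 : allRange pointOk 22 121176 9 = true := by decide +kernel
theorem p7u1529 : ∀ k, 107415 ≤ k → k < 121185 → pointOk (k * 22) = true := between_extend pointOk 22 107415 121176 9 (p7u1528) p7r1529

theorem p7r1530 : allRange pointOk 22 121185 9 = true := by decide +kernel
theorem p7u1530 : ∀ k, 107415 ≤ k → k < 121194 → pointOk (k * 22) = true := between_extend pointOk 22 107415 121185 9 (p7u1529) p7r1530

theorem p7r1531 : allRange pointOk 22 121194 9 = true := by decide +kernel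
theorem p7u1531 : ∀ k, 107415 ≤ k → k < 121203 → pointOk (k * 22) = true := between_extend pointOk 22 107415 121194 9 (p7u1530) p7r1531

theorem p7r1532 : allRange pointOk 22 121203 9 = true := by decide +kernel
theorem p7u1532 : ∀ k, 107415 ≤ k → k < 121212 → pointOk (k * 22) = true := between_extend pointOk 22 107415 121203 9 (p7u1531) p7r1532

theorem p7r1533 : allRange pointOk 22 121212 9 = true := by decide +kernel
theorem p7u1533 : ∀ k, 107415 ≤ k → k < 121221 → pointOk (k * 22) = true := between_extend pointOk 22 107415 121212 9 (p7u1532) p7r1533

theorem p7r1534 : allRange pointOk 22 121221 9 = true := by decide +kernel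
theorem p7u1534 : ∀ k, 107415 ≤ k → k < 121230 → pointOk (k * 22) = true := between_extend pointOk 22 107415 121221 9 (p7u1533) p7r1534

theorem p7r1535 : allRange pointOk 22 121230 9 = true := by decide +kernel
theorem p7u1535 : ∀ k, 107415 ≤ k → k < 121239 → pointOk (k * 22) = true := between_extend pointOk 22 107415 121230 9 (p7u1534) p7r1535

theorem p7r1536 : allRange pointOk 22 121239 9 = true := by decide +kernel
theorem p7u1536 : ∀ k, 107415 ≤ k → k < 121248 → pointOk (k * 22) = true := between_extend pointOk 22 107415 121239 9 (p7u1535) p7r1536

theorem p7r1537 : allRange pointOk 22 121248 9 = true := by decide +kernel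
theorem p7u1537 : ∀ k, 107415 ≤ k → k < 121257 → pointOk (k * 22) = true := between_extend pointOk 22 107415 121248 9 (p7u1536) p7r1537

theorem p7r1538 : allRange pointOk 22 121257 9 = true := by decide +kernel
theorem p7u1538 : ∀ k, 107415 ≤ k → k < 121266 → pointOk (k * 22) = true := between_extend pointOk 22 107415 121257 9 (p7u1537) p7r1538

theorem p7r1539 : allRange pointOk 22 121266 9 = true := by decide +kernel
theorem p7u1539 : ∀ k, 107415 ≤ k → k < 121275 → pointOk (k * 22) = true := between_extend pointOk 22 107415 121266 9 (p7u1538) p7r1539

theorem p7r1540 : allRange pointOk 22 121275 9 = true := by decide +kernel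
theorem p7u1540 : ∀ k, 107415 ≤ k → k < 121284 → pointOk (k * 22) = true := between_extend pointOk 22 107415 121275 9 (p7u1539) p7r1540

theorem p7r1541 : allRange pointOk 22 121284 9 = true := by decide +kernel
theorem p7u1541 : ∀ k, 107415 ≤ k → k < 121293 → pointOk (k * 22) = true := between_extend pointOk 22 107415 121284 9 (p7u1540) p7r1541

theorem p7r1542 : allRange pointOk 22 121293 9 = true := by decide +kernel
theorem p7u1542 : ∀ k, 107415 ≤ k → k < 121302 → pointOk (k * 22) = true := between_extend pointOk 22 107415 121293 9 (p7u1541) p7r1542

theorem p7r1543 : allRange pointOk 22 121302 9 = true := by decide +kernel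
theorem p7u1543 : ∀ k, 107415 ≤ k → k < 121311 → pointOk (k * 22) = true := between_extend pointOk 22 107415 121302 9 (p7u1542) p7r1543

theorem p7r1544 : allRange pointOk 22 121311 9 = true := by decide +kernel
theorem p7u1544 : ∀ k, 107415 ≤ k → k < 121320 → pointOk (k * 22) = true := between_extend pointOk 22 107415 121311 9 (p7u1543) p7r1544

theorem p7r1545 : allRange pointOk 22 121320 9 = true := by decide +kernel
theorem p7u1545 : ∀ k, 107415 ≤ k → k < 121329 → pointOk (k * 22) = true := between_extend pointOk 22 107415 121320 9 (p7u1544) p7r1545

theorem p7r1546 : allRange pointOk 22 121329 9 = true := by decide +kernel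
theorem p7u1546 : ∀ k, 107415 ≤ k → k < 121338 → pointOk (k * 22) = true := between_extend pointOk 22 107415 121329 9 (p7u1545) p7r1546

theorem p7r1547 : allRange pointOk 22 121338 9 = true := by decide +kernel
theorem p7u1547 : ∀ k, 107415 ≤ k → k < 121347 → pointOk (k * 22) = true := between_extend pointOk 22 107415 121338 9 (p7u1546) p7r1547

theorem p7r1548 : allRange pointOk 22 121347 9 = true := by decide +kernel
theorem p7u1548 : ∀ k, 107415 ≤ k → k < 121356 → pointOk (k * 22) = true := between_extend pointOk 22 107415 121347 9 (p7u1547) p7r1548

theorem p7r1549 : allRange pointOk 22 121356 9 = true := by decide +kernel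
theorem p7u1549 : ∀ k, 107415 ≤ k → k < 121365 → pointOk (k * 22) = true := between_extend pointOk 22 107415 121356 9 (p7u1548) p7r1549

theorem p7r1550 : allRange pointOk 22 121365 9 = true := by decide +kernel
theorem p7u1550 : ∀ k, 107415 ≤ k → k < 121374 → pointOk (k * 22) = true := between_extend pointOk 22 107415 121365 9 (p7u1549) p7r1550

theorem p7r1551 : allRange pointOk 22 121374 9 = true := by decide +kernel
theorem p7u1551 : ∀ k, 107415 ≤ k → k < 121383 → pointOk (k * 22) = true := between_extend pointOk 22 107415 121374 9 (p7u1550) p7r1551

theorem p7r1552 : allRange pointOk 22 121383 9 = true := by decide +kernel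
theorem p7u1552 : ∀ k, 107415 ≤ k → k < 121392 → pointOk (k * 22) = true := between_extend pointOk 22 107415 121383 9 (p7u1551) p7r1552

theorem p7r1553 : allRange pointOk 22 121392 9 = true := by decide +kernel
theorem p7u1553 : ∀ k, 107415 ≤ k → k < 121401 → pointOk (k * 22) = true := between_extend pointOk 22 107415 121392 9 (p7u1552) p7r1553

theorem p7r1554 : allRange pointOk 22 121401 9 = true := by decide +kernel
theorem p7u1554 : ∀ k, 107415 ≤ k → k < 121410 → pointOk (k * 22) = true := between_extend pointOk 22 107415 121401 9 (p7u1553) p7r1554

theorem p7r1555 : allRange pointOk 22 121410 9 = true := by decide +kernel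
theorem p7u1555 : ∀ k, 107415 ≤ k → k < 121419 → pointOk (k * 22) = true := between_extend pointOk 22 107415 121410 9 (p7u1554) p7r1555

theorem p7r1556 : allRange pointOk 22 121419 9 = true := by decide +kernel
theorem p7u1556 : ∀ k, 107415 ≤ k → k < 121428 → pointOk (k * 22) = true := between_extend pointOk 22 107415 121419 9 (p7u1555) p7r1556

theorem p7r1557 : allRange pointOk 22 121428 9 = true := by decide +kernel
theorem p7u1557 : ∀ k, 107415 ≤ k → k < 121437 → pointOk (k * 22) = true := between_extend pointOk 22 107415 121428 9 (p7u1556) p7r1557

theorem p7r1558 : allRange pointOk 22 121437 9 = true := by decide +kernel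
theorem p7u1558 : ∀ k, 107415 ≤ k → k < 121446 → pointOk (k * 22) = true := between_extend pointOk 22 107415 121437 9 (p7u1557) p7r1558

theorem p7r1559 : allRange pointOk 22 121446 9 = true := by decide +kernel
theorem p7u1559 : ∀ k, 107415 ≤ k → k < 121455 → pointOk (k * 22) = true := between_extend pointOk 22 107415 121446 9 (p7u1558) p7r1559

theorem p7r1560 : allRange pointOk 22 121455 9 = true := by decide +kernel
theorem p7u1560 : ∀ k, 107415 ≤ k → k < 121464 → pointOk (k * 22) = true := between_extend pointOk 22 107415 121455 9 (p7u1559) p7r1560

theorem p7r1561 : allRange pointOk 22 121464 9 = true := by decide +kernel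
theorem p7u1561 : ∀ k, 107415 ≤ k → k < 121473 → pointOk (k * 22) = true := between_extend pointOk 22 107415 121464 9 (p7u1560) p7r1561

theorem p7r1562 : allRange pointOk 22 121473 9 = true := by decide +kernel
theorem p7u1562 : ∀ k, 107415 ≤ k → k < 121482 → pointOk (k * 22) = true := between_extend pointOk 22 107415 121473 9 (p7u1561) p7r1562

theorem p7r1563 : allRange pointOk 22 121482 9 = true := by decide +kernel
theorem p7u1563 : ∀ k, 107415 ≤ k → k < 121491 → pointOk (k * 22) = true := between_extend pointOk 22 107415 121482 9 (p7u1562) p7r1563

theorem p7r1564 : allRange pointOk 22 121491 9 = true := by decide +kernel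
theorem p7u1564 : ∀ k, 107415 ≤ k → k < 121500 → pointOk (k * 22) = true := between_extend pointOk 22 107415 121491 9 (p7u1563) p7r1564

theorem p7r1565 : allRange pointOk 22 121500 9 = true := by decide +kernel
theorem p7u1565 : ∀ k, 107415 ≤ k → k < 121509 → pointOk (k * 22) = true := between_extend pointOk 22 107415 121500 9 (p7u1564) p7r1565

theorem p7r1566 : allRange pointOk 22 121509 9 = true := by decide +kernel
theorem p7u1566 : ∀ k, 107415 ≤ k → k < 121518 → pointOk (k * 22) = true := between_extend pointOk 22 107415 121509 9 (p7u1565) p7r1566

theorem p7r1567 : allRange pointOk 22 121518 9 = true := by decide +kernel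
theorem p7u1567 : ∀ k, 107415 ≤ k → k < 121527 → pointOk (k * 22) = true := between_extend pointOk 22 107415 121518 9 (p7u1566) p7r1567

theorem p7r1568 : allRange pointOk 22 121527 9 = true := by decide +kernel
theorem p7u1568 : ∀ k, 107415 ≤ k → k < 121536 → pointOk (k * 22) = true := between_extend pointOk 22 107415 121527 9 (p7u1567) p7r1568

theorem p7r1569 : allRange pointOk 22 121536 9 = true := by decide +kernel
theorem p7u1569 : ∀ k, 107415 ≤ k → k < 121545 → pointOk (k * 22) = true := between_extend pointOk 22 107415 121536 9 (p7u1568) p7r1569

theorem p7r1570 : allRange pointOk 22 121545 9 = true := by decide +kernel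
theorem p7u1570 : ∀ k, 107415 ≤ k → k < 121554 → pointOk (k * 22) = true := between_extend pointOk 22 107415 121545 9 (p7u1569) p7r1570

theorem p7r1571 : allRange pointOk 22 121554 9 = true := by decide +kernel
theorem p7u1571 : ∀ k, 107415 ≤ k → k < 121563 → pointOk (k * 22) = true := between_extend pointOk 22 107415 121554 9 (p7u1570) p7r1571

theorem p7r1572 : allRange pointOk 22 121563 9 = true := by decide +kernel
theorem p7u1572 : ∀ k, 107415 ≤ k → k < 121572 → pointOk (k * 22) = true := between_extend pointOk 22 107415 121563 9 (p7u1571) p7r1572

theorem p7r1573 : allRange pointOk 22 121572 9 = true := by decide +kernel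
theorem p7u1573 : ∀ k, 107415 ≤ k → k < 121581 → pointOk (k * 22) = true := between_extend pointOk 22 107415 121572 9 (p7u1572) p7r1573

theorem p7r1574 : allRange pointOk 22 121581 9 = true := by decide +kernel
theorem p7u1574 : ∀ k, 107415 ≤ k → k < 121590 → pointOk (k * 22) = true := between_extend pointOk 22 107415 121581 9 (p7u1573) p7r1574

theorem p7r1575 : allRange pointOk 22 121590 9 = true := by decide +kernel
theorem p7u1575 : ∀ k, 107415 ≤ k → k < 121599 → pointOk (k * 22) = true := between_extend pointOk 22 107415 121590 9 (p7u1574) p7r1575

theorem p7r1576 : allRange pointOk 22 121599 9 = true := by decide +kernel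
theorem p7u1576 : ∀ k, 107415 ≤ k → k < 121608 → pointOk (k * 22) = true := between_extend pointOk 22 107415 121599 9 (p7u1575) p7r1576

theorem p7r1577 : allRange pointOk 22 121608 9 = true := by decide +kernel
theorem p7u1577 : ∀ k, 107415 ≤ k → k < 121617 → pointOk (k * 22) = true := between_extend pointOk 22 107415 121608 9 (p7u1576) p7r1577

theorem p7r1578 : allRange pointOk 22 121617 9 = true := by decide +kernel
theorem p7u1578 : ∀ k, 107415 ≤ k → k < 121626 → pointOk (k * 22) = true := between_extend pointOk 22 107415 121617 9 (p7u1577) p7r1578

theorem p7r1579 : allRange pointOk 22 121626 9 = true := by decide +kernel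
theorem p7u1579 : ∀ k, 107415 ≤ k → k < 121635 → pointOk (k * 22) = true := between_extend pointOk 22 107415 121626 9 (p7u1578) p7r1579

theorem p7r1580 : allRange pointOk 22 121635 9 = true := by decide +kernel
theorem p7u1580 : ∀ k, 107415 ≤ k → k < 121644 → pointOk (k * 22) = true := between_extend pointOk 22 107415 121635 9 (p7u1579) p7r1580

theorem p7r1581 : allRange pointOk 22 121644 9 = true := by decide +kernel
theorem p7u1581 : ∀ k, 107415 ≤ k → k < 121653 → pointOk (k * 22) = true := between_extend pointOk 22 107415 121644 9 (p7u1580) p7r1581

theorem p7r1582 : allRange pointOk 22 121653 9 = true := by decide +kernel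
theorem p7u1582 : ∀ k, 107415 ≤ k → k < 121662 → pointOk (k * 22) = true := between_extend pointOk 22 107415 121653 9 (p7u1581) p7r1582

theorem p7r1583 : allRange pointOk 22 121662 9 = true := by decide +kernel
theorem p7u1583 : ∀ k, 107415 ≤ k → k < 121671 → pointOk (k * 22) = true := between_extend pointOk 22 107415 121662 9 (p7u1582) p7r1583

theorem p7r1584 : allRange pointOk 22 121671 9 = true := by decide +kernel
theorem p7u1584 : ∀ k, 107415 ≤ k → k < 121680 → pointOk (k * 22) = true := between_extend pointOk 22 107415 121671 9 (p7u1583) p7r1584

theorem p7r1585 : allRange pointOk 22 121680 9 = true := by decide +kernel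
theorem p7u1585 : ∀ k, 107415 ≤ k → k < 121689 → pointOk (k * 22) = true := between_extend pointOk 22 107415 121680 9 (p7u1584) p7r1585

theorem p7r1586 : allRange pointOk 22 121689 9 = true := by decide +kernel
theorem p7u1586 : ∀ k, 107415 ≤ k → k < 121698 → pointOk (k * 22) = true := between_extend pointOk 22 107415 121689 9 (p7u1585) p7r1586

theorem p7r1587 : allRange pointOk 22 121698 9 = true := by decide +kernel
theorem p7u1587 : ∀ k, 107415 ≤ k → k < 121707 → pointOk (k * 22) = true := between_extend pointOk 22 107415 121698 9 (p7u1586) p7r1587

theorem p7r1588 : allRange pointOk 22 121707 9 = true := by decide +kernel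
theorem p7u1588 : ∀ k, 107415 ≤ k → k < 121716 → pointOk (k * 22) = true := between_extend pointOk 22 107415 121707 9 (p7u1587) p7r1588

theorem p7r1589 : allRange pointOk 22 121716 9 = true := by decide +kernel
theorem p7u1589 : ∀ k, 107415 ≤ k → k < 121725 → pointOk (k * 22) = true := between_extend pointOk 22 107415 121716 9 (p7u1588) p7r1589

theorem p7r1590 : allRange pointOk 22 121725 9 = true := by decide +kernel
theorem p7u1590 : ∀ k, 107415 ≤ k → k < 121734 → pointOk (k * 22) = true := between_extend pointOk 22 107415 121725 9 (p7u1589) p7r1590

theorem p7r1591 : allRange pointOk 22 121734 9 = true := by decide +kernel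
theorem p7u1591 : ∀ k, 107415 ≤ k → k < 121743 → pointOk (k * 22) = true := between_extend pointOk 22 107415 121734 9 (p7u1590) p7r1591

theorem p7r1592 : allRange pointOk 22 121743 9 = true := by decide +kernel
theorem p7u1592 : ∀ k, 107415 ≤ k → k < 121752 → pointOk (k * 22) = true := between_extend pointOk 22 107415 121743 9 (p7u1591) p7r1592

theorem p7r1593 : allRange pointOk 22 121752 9 = true := by decide +kernel
theorem p7u1593 : ∀ k, 107415 ≤ k → k < 121761 → pointOk (k * 22) = true := between_extend pointOk 22 107415 121752 9 (p7u1592) p7r1593

theorem p7r1594 : allRange pointOk 22 121761 9 = true := by decide +kernel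
theorem p7u1594 : ∀ k, 107415 ≤ k → k < 121770 → pointOk (k * 22) = true := between_extend pointOk 22 107415 121761 9 (p7u1593) p7r1594

theorem p7r1595 : allRange pointOk 22 121770 9 = true := by decide +kernel
theorem p7u1595 : ∀ k, 107415 ≤ k → k < 121779 → pointOk (k * 22) = true := between_extend pointOk 22 107415 121770 9 (p7u1594) p7r1595

theorem p7r1596 : allRange pointOk 22 121779 9 = true := by decide +kernel
theorem p7u1596 : ∀ k, 107415 ≤ k → k < 121788 → pointOk (k * 22) = true := between_extend pointOk 22 107415 121779 9 (p7u1595) p7r1596

theorem p7r1597 : allRange pointOk 22 121788 9 = true := by decide +kernel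
theorem p7u1597 : ∀ k, 107415 ≤ k → k < 121797 → pointOk (k * 22) = true := between_extend pointOk 22 107415 121788 9 (p7u1596) p7r1597

theorem p7r1598 : allRange pointOk 22 121797 9 = true := by decide +kernel
theorem p7u1598 : ∀ k, 107415 ≤ k → k < 121806 → pointOk (k * 22) = true := between_extend pointOk 22 107415 121797 9 (p7u1597) p7r1598

theorem p7r1599 : allRange pointOk 22 121806 9 = true := by decide +kernel
theorem p7u1599 : ∀ k, 107415 ≤ k → k < 121815 → pointOk (k * 22) = true := between_extend pointOk 22 107415 121806 9 (p7u1598) p7r1599

theorem p7r1600 : allRange pointOk 22 121815 9 = true := by decide +kernel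
theorem p7u1600 : ∀ k, 107415 ≤ k → k < 121824 → pointOk (k * 22) = true := between_extend pointOk 22 107415 121815 9 (p7u1599) p7r1600

theorem p7r1601 : allRange pointOk 22 121824 9 = true := by decide +kernel
theorem p7u1601 : ∀ k, 107415 ≤ k → k < 121833 → pointOk (k * 22) = true := between_extend pointOk 22 107415 121824 9 (p7u1600) p7r1601

theorem p7r1602 : allRange pointOk 22 121833 9 = true := by decide +kernel
theorem p7u1602 : ∀ k, 107415 ≤ k → k < 121842 → pointOk (k * 22) = true := between_extend pointOk 22 107415 121833 9 (p7u1601) p7r1602

theorem p7r1603 : allRange pointOk 22 121842 9 = true := by decide +kernel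
theorem p7u1603 : ∀ k, 107415 ≤ k → k < 121851 → pointOk (k * 22) = true := between_extend pointOk 22 107415 121842 9 (p7u1602) p7r1603

theorem p7r1604 : allRange pointOk 22 121851 9 = true := by decide +kernel
theorem p7u1604 : ∀ k, 107415 ≤ k → k < 121860 → pointOk (k * 22) = true := between_extend pointOk 22 107415 121851 9 (p7u1603) p7r1604

theorem p7r1605 : allRange pointOk 22 121860 9 = true := by decide +kernel
theorem p7u1605 : ∀ k, 107415 ≤ k → k < 121869 → pointOk (k * 22) = true := between_extend pointOk 22 107415 121860 9 (p7u1604) p7r1605

theorem p7r1606 : allRange pointOk 22 121869 9 = true := by decide +kernel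
theorem p7u1606 : ∀ k, 107415 ≤ k → k < 121878 → pointOk (k * 22) = true := between_extend pointOk 22 107415 121869 9 (p7u1605) p7r1606

theorem p7r1607 : allRange pointOk 22 121878 9 = true := by decide +kernel
theorem p7u1607 : ∀ k, 107415 ≤ k → k < 121887 → pointOk (k * 22) = true := between_extend pointOk 22 107415 121878 9 (p7u1606) p7r1607

theorem p7r1608 : allRange pointOk 22 121887 9 = true := by decide +kernel
theorem p7u1608 : ∀ k, 107415 ≤ k → k < 121896 → pointOk (k * 22) = true := between_extend pointOk 22 107415 121887 9 (p7u1607) p7r1608

theorem p7r1609 : allRange pointOk 22 121896 9 = true := by decide +kernel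
theorem p7u1609 : ∀ k, 107415 ≤ k → k < 121905 → pointOk (k * 22) = true := between_extend pointOk 22 107415 121896 9 (p7u1608) p7r1609

theorem p7r1610 : allRange pointOk 22 121905 9 = true := by decide +kernel
theorem p7u1610 : ∀ k, 107415 ≤ k → k < 121914 → pointOk (k * 22) = true := between_extend pointOk 22 107415 121905 9 (p7u1609) p7r1610

theorem p7r1611 : allRange pointOk 22 121914 9 = true := by decide +kernel
theorem p7u1611 : ∀ k, 107415 ≤ k → k < 121923 → pointOk (k * 22) = true := between_extend pointOk 22 107415 121914 9 (p7u1610) p7r1611

theorem p7r1612 : allRange pointOk 22 121923 9 = true := by decide +kernel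
theorem p7u1612 : ∀ k, 107415 ≤ k → k < 121932 → pointOk (k * 22) = true := between_extend pointOk 22 107415 121923 9 (p7u1611) p7r1612

theorem p7r1613 : allRange pointOk 22 121932 9 = true := by decide +kernel
theorem p7u1613 : ∀ k, 107415 ≤ k → k < 121941 → pointOk (k * 22) = true := between_extend pointOk 22 107415 121932 9 (p7u1612) p7r1613

theorem p7r1614 : allRange pointOk 22 121941 9 = true := by decide +kernel
theorem p7u1614 : ∀ k, 107415 ≤ k → k < 121950 → pointOk (k * 22) = true := between_extend pointOk 22 107415 121941 9 (p7u1613) p7r1614

theorem p7r1615 : allRange pointOk 22 121950 9 = true := by decide +kernel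
theorem p7u1615 : ∀ k, 107415 ≤ k → k < 121959 → pointOk (k * 22) = true := between_extend pointOk 22 107415 121950 9 (p7u1614) p7r1615

theorem p7r1616 : allRange pointOk 22 121959 9 = true := by decide +kernel
theorem p7u1616 : ∀ k, 107415 ≤ k → k < 121968 → pointOk (k * 22) = true := between_extend pointOk 22 107415 121959 9 (p7u1615) p7r1616

theorem p7r1617 : allRange pointOk 22 121968 9 = true := by decide +kernel
theorem p7u1617 : ∀ k, 107415 ≤ k → k < 121977 → pointOk (k * 22) = true := between_extend pointOk 22 107415 121968 9 (p7u1616) p7r1617

theorem p7r1618 : allRange pointOk 22 121977 9 = true := by decide +kernel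
theorem p7u1618 : ∀ k, 107415 ≤ k → k < 121986 → pointOk (k * 22) = true := between_extend pointOk 22 107415 121977 9 (p7u1617) p7r1618

theorem p7r1619 : allRange pointOk 22 121986 9 = true := by decide +kernel
theorem p7u1619 : ∀ k, 107415 ≤ k → k < 121995 → pointOk (k * 22) = true := between_extend pointOk 22 107415 121986 9 (p7u1618) p7r1619

theorem p7r1620 : allRange pointOk 22 121995 9 = true := by decide +kernel
theorem p7u1620 : ∀ k, 107415 ≤ k → k < 122004 → pointOk (k * 22) = true := between_extend pointOk 22 107415 121995 9 (p7u1619) p7r1620

theorem p7r1621 : allRange pointOk 22 122004 9 = true := by decide +kernel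
theorem p7u1621 : ∀ k, 107415 ≤ k → k < 122013 → pointOk (k * 22) = true := between_extend pointOk 22 107415 122004 9 (p7u1620) p7r1621

theorem p7r1622 : allRange pointOk 22 122013 9 = true := by decide +kernel
theorem p7u1622 : ∀ k, 107415 ≤ k → k < 122022 → pointOk (k * 22) = true := between_extend pointOk 22 107415 122013 9 (p7u1621) p7r1622

theorem p7r1623 : allRange pointOk 22 122022 9 = true := by decide +kernel
theorem p7u1623 : ∀ k, 107415 ≤ k → k < 122031 → pointOk (k * 22) = true := between_extend pointOk 22 107415 122022 9 (p7u1622) p7r1623

theorem p7r1624 : allRange pointOk 22 122031 9 = true := by decide +kernel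
theorem p7u1624 : ∀ k, 107415 ≤ k → k < 122040 → pointOk (k * 22) = true := between_extend pointOk 22 107415 122031 9 (p7u1623) p7r1624

theorem p7r1625 : allRange pointOk 22 122040 9 = true := by decide +kernel
theorem p7u1625 : ∀ k, 107415 ≤ k → k < 122049 → pointOk (k * 22) = true := between_extend pointOk 22 107415 122040 9 (p7u1624) p7r1625

theorem p7r1626 : allRange pointOk 22 122049 9 = true := by decide +kernel
theorem p7u1626 : ∀ k, 107415 ≤ k → k < 122058 → pointOk (k * 22) = true := between_extend pointOk 22 107415 122049 9 (p7u1625) p7r1626

theorem p7r1627 : allRange pointOk 22 122058 9 = true := by decide +kernel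
theorem p7u1627 : ∀ k, 107415 ≤ k → k < 122067 → pointOk (k * 22) = true := between_extend pointOk 22 107415 122058 9 (p7u1626) p7r1627

theorem p7r1628 : allRange pointOk 22 122067 9 = true := by decide +kernel
theorem p7u1628 : ∀ k, 107415 ≤ k → k < 122076 → pointOk (k * 22) = true := between_extend pointOk 22 107415 122067 9 (p7u1627) p7r1628

theorem p7r1629 : allRange pointOk 22 122076 9 = true := by decide +kernel
theorem p7u1629 : ∀ k, 107415 ≤ k → k < 122085 → pointOk (k * 22) = true := between_extend pointOk 22 107415 122076 9 (p7u1628) p7r1629

theorem p7r1630 : allRange pointOk 22 122085 9 = true := by decide +kernel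
theorem p7u1630 : ∀ k, 107415 ≤ k → k < 122094 → pointOk (k * 22) = true := between_extend pointOk 22 107415 122085 9 (p7u1629) p7r1630

theorem p7r1631 : allRange pointOk 22 122094 9 = true := by decide +kernel
theorem p7u1631 : ∀ k, 107415 ≤ k → k < 122103 → pointOk (k * 22) = true := between_extend pointOk 22 107415 122094 9 (p7u1630) p7r1631

theorem p7r1632 : allRange pointOk 22 122103 9 = true := by decide +kernel
theorem p7u1632 : ∀ k, 107415 ≤ k → k < 122112 → pointOk (k * 22) = true := between_extend pointOk 22 107415 122103 9 (p7u1631) p7r1632

theorem p7r1633 : allRange pointOk 22 122112 9 = true := by decide +kernel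
theorem p7u1633 : ∀ k, 107415 ≤ k → k < 122121 → pointOk (k * 22) = true := between_extend pointOk 22 107415 122112 9 (p7u1632) p7r1633

theorem p7r1634 : allRange pointOk 22 122121 9 = true := by decide +kernel
theorem p7u1634 : ∀ k, 107415 ≤ k → k < 122130 → pointOk (k * 22) = true := between_extend pointOk 22 107415 122121 9 (p7u1633) p7r1634

theorem p7r1635 : allRange pointOk 22 122130 9 = true := by decide +kernel
theorem p7u1635 : ∀ k, 107415 ≤ k → k < 122139 → pointOk (k * 22) = true := between_extend pointOk 22 107415 122130 9 (p7u1634) p7r1635

theorem p7r1636 : allRange pointOk 22 122139 9 = true := by decide +kernel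
theorem p7u1636 : ∀ k, 107415 ≤ k → k < 122148 → pointOk (k * 22) = true := between_extend pointOk 22 107415 122139 9 (p7u1635) p7r1636

theorem p7r1637 : allRange pointOk 22 122148 9 = true := by decide +kernel
theorem p7u1637 : ∀ k, 107415 ≤ k → k < 122157 → pointOk (k * 22) = true := between_extend pointOk 22 107415 122148 9 (p7u1636) p7r1637

theorem p7r1638 : allRange pointOk 22 122157 9 = true := by decide +kernel
theorem p7u1638 : ∀ k, 107415 ≤ k → k < 122166 → pointOk (k * 22) = true := between_extend pointOk 22 107415 122157 9 (p7u1637) p7r1638

theorem p7r1639 : allRange pointOk 22 122166 9 = true := by decide +kernel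
theorem p7u1639 : ∀ k, 107415 ≤ k → k < 122175 → pointOk (k * 22) = true := between_extend pointOk 22 107415 122166 9 (p7u1638) p7r1639

theorem p7r1640 : allRange pointOk 22 122175 9 = true := by decide +kernel
theorem p7u1640 : ∀ k, 107415 ≤ k → k < 122184 → pointOk (k * 22) = true := between_extend pointOk 22 107415 122175 9 (p7u1639) p7r1640

theorem p7r1641 : allRange pointOk 22 122184 9 = true := by decide +kernel
theorem p7u1641 : ∀ k, 107415 ≤ k → k < 122193 → pointOk (k * 22) = true := between_extend pointOk 22 107415 122184 9 (p7u1640) p7r1641

theorem p7r1642 : allRange pointOk 22 122193 9 = true := by decide +kernel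
theorem p7u1642 : ∀ k, 107415 ≤ k → k < 122202 → pointOk (k * 22) = true := between_extend pointOk 22 107415 122193 9 (p7u1641) p7r1642

theorem p7r1643 : allRange pointOk 22 122202 9 = true := by decide +kernel
theorem p7u1643 : ∀ k, 107415 ≤ k → k < 122211 → pointOk (k * 22) = true := between_extend pointOk 22 107415 122202 9 (p7u1642) p7r1643

theorem p7r1644 : allRange pointOk 22 122211 9 = true := by decide +kernel
theorem p7u1644 : ∀ k, 107415 ≤ k → k < 122220 → pointOk (k * 22) = true := between_extend pointOk 22 107415 122211 9 (p7u1643) p7r1644

theorem p7r1645 : allRange pointOk 22 122220 9 = true := by decide +kernel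
theorem p7u1645 : ∀ k, 107415 ≤ k → k < 122229 → pointOk (k * 22) = true := between_extend pointOk 22 107415 122220 9 (p7u1644) p7r1645

theorem p7r1646 : allRange pointOk 22 122229 9 = true := by decide +kernel
theorem p7u1646 : ∀ k, 107415 ≤ k → k < 122238 → pointOk (k * 22) = true := between_extend pointOk 22 107415 122229 9 (p7u1645) p7r1646

theorem p7r1647 : allRange pointOk 22 122238 9 = true := by decide +kernel
theorem p7u1647 : ∀ k, 107415 ≤ k → k < 122247 → pointOk (k * 22) = true := between_extend pointOk 22 107415 122238 9 (p7u1646) p7r1647

theorem p7r1648 : allRange pointOk 22 122247 9 = true := by decide +kernel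
theorem p7u1648 : ∀ k, 107415 ≤ k → k < 122256 → pointOk (k * 22) = true := between_extend pointOk 22 107415 122247 9 (p7u1647) p7r1648

theorem p7r1649 : allRange pointOk 22 122256 9 = true := by decide +kernel
theorem p7u1649 : ∀ k, 107415 ≤ k → k < 122265 → pointOk (k * 22) = true := between_extend pointOk 22 107415 122256 9 (p7u1648) p7r1649

theorem p7r1650 : allRange pointOk 22 122265 9 = true := by decide +kernel
theorem p7u1650 : ∀ k, 107415 ≤ k → k < 122274 → pointOk (k * 22) = true := between_extend pointOk 22 107415 122265 9 (p7u1649) p7r1650

theorem p7r1651 : allRange pointOk 22 122274 9 = true := by decide +kernel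
theorem p7u1651 : ∀ k, 107415 ≤ k → k < 122283 → pointOk (k * 22) = true := between_extend pointOk 22 107415 122274 9 (p7u1650) p7r1651

theorem p7r1652 : allRange pointOk 22 122283 9 = true := by decide +kernel
theorem p7u1652 : ∀ k, 107415 ≤ k → k < 122292 → pointOk (k * 22) = true := between_extend pointOk 22 107415 122283 9 (p7u1651) p7r1652

theorem p7r1653 : allRange pointOk 22 122292 9 = true := by decide +kernel
theorem p7u1653 : ∀ k, 107415 ≤ k → k < 122301 → pointOk (k * 22) = true := between_extend pointOk 22 107415 122292 9 (p7u1652) p7r1653

theorem p7r1654 : allRange pointOk 22 122301 9 = true := by decide +kernel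
theorem p7u1654 : ∀ k, 107415 ≤ k → k < 122310 → pointOk (k * 22) = true := between_extend pointOk 22 107415 122301 9 (p7u1653) p7r1654

theorem p7r1655 : allRange pointOk 22 122310 9 = true := by decide +kernel
theorem p7u1655 : ∀ k, 107415 ≤ k → k < 122319 → pointOk (k * 22) = true := between_extend pointOk 22 107415 122310 9 (p7u1654) p7r1655

theorem p7r1656 : allRange pointOk 22 122319 9 = true := by decide +kernel
theorem p7u1656 : ∀ k, 107415 ≤ k → k < 122328 → pointOk (k * 22) = true := between_extend pointOk 22 107415 122319 9 (p7u1655) p7r1656

theorem p7r1657 : allRange pointOk 22 122328 9 = true := by decide +kernel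
theorem p7u1657 : ∀ k, 107415 ≤ k → k < 122337 → pointOk (k * 22) = true := between_extend pointOk 22 107415 122328 9 (p7u1656) p7r1657

theorem p7r1658 : allRange pointOk 22 122337 9 = true := by decide +kernel
theorem p7u1658 : ∀ k, 107415 ≤ k → k < 122346 → pointOk (k * 22) = true := between_extend pointOk 22 107415 122337 9 (p7u1657) p7r1658

theorem p7r1659 : allRange pointOk 22 122346 9 = true := by decide +kernel
theorem p7u1659 : ∀ k, 107415 ≤ k → k < 122355 → pointOk (k * 22) = true := between_extend pointOk 22 107415 122346 9 (p7u1658) p7r1659

theorem p7r1660 : allRange pointOk 22 122355 9 = true := by decide +kernel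
theorem p7u1660 : ∀ k, 107415 ≤ k → k < 122364 → pointOk (k * 22) = true := between_extend pointOk 22 107415 122355 9 (p7u1659) p7r1660

theorem p7r1661 : allRange pointOk 22 122364 9 = true := by decide +kernel
theorem p7u1661 : ∀ k, 107415 ≤ k → k < 122373 → pointOk (k * 22) = true := between_extend pointOk 22 107415 122364 9 (p7u1660) p7r1661

theorem p7r1662 : allRange pointOk 22 122373 9 = true := by decide +kernel
theorem p7u1662 : ∀ k, 107415 ≤ k → k < 122382 → pointOk (k * 22) = true := between_extend pointOk 22 107415 122373 9 (p7u1661) p7r1662

theorem p7r1663 : allRange pointOk 22 122382 9 = true := by decide +kernel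
theorem p7u1663 : ∀ k, 107415 ≤ k → k < 122391 → pointOk (k * 22) = true := between_extend pointOk 22 107415 122382 9 (p7u1662) p7r1663

theorem p7r1664 : allRange pointOk 22 122391 9 = true := by decide +kernel
theorem p7u1664 : ∀ k, 107415 ≤ k → k < 122400 → pointOk (k * 22) = true := between_extend pointOk 22 107415 122391 9 (p7u1663) p7r1664

theorem p7r1665 : allRange pointOk 22 122400 9 = true := by decide +kernel
theorem p7u1665 : ∀ k, 107415 ≤ k → k < 122409 → pointOk (k * 22) = true := between_extend pointOk 22 107415 122400 9 (p7u1664) p7r1665

theorem p7r1666 : allRange pointOk 22 122409 9 = true := by decide +kernel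
theorem p7u1666 : ∀ k, 107415 ≤ k → k < 122418 → pointOk (k * 22) = true := between_extend pointOk 22 107415 122409 9 (p7u1665) p7r1666

theorem p7r1667 : allRange pointOk 22 122418 9 = true := by decide +kernel
theorem p7u1667 : ∀ k, 107415 ≤ k → k < 122427 → pointOk (k * 22) = true := between_extend pointOk 22 107415 122418 9 (p7u1666) p7r1667

theorem p7r1668 : allRange pointOk 22 122427 9 = true := by decide +kernel
theorem p7u1668 : ∀ k, 107415 ≤ k → k < 122436 → pointOk (k * 22) = true := between_extend pointOk 22 107415 122427 9 (p7u1667) p7r1668

theorem p7r1669 : allRange pointOk 22 122436 9 = true := by decide +kernel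
theorem p7u1669 : ∀ k, 107415 ≤ k → k < 122445 → pointOk (k * 22) = true := between_extend pointOk 22 107415 122436 9 (p7u1668) p7r1669

theorem p7r1670 : allRange pointOk 22 122445 9 = true := by decide +kernel
theorem p7u1670 : ∀ k, 107415 ≤ k → k < 122454 → pointOk (k * 22) = true := between_extend pointOk 22 107415 122445 9 (p7u1669) p7r1670

theorem p7r1671 : allRange pointOk 22 122454 9 = true := by decide +kernel
theorem p7u1671 : ∀ k, 107415 ≤ k → k < 122463 → pointOk (k * 22) = true := between_extend pointOk 22 107415 122454 9 (p7u1670) p7r1671

theorem p7r1672 : allRange pointOk 22 122463 9 = true := by decide +kernel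
theorem p7u1672 : ∀ k, 107415 ≤ k → k < 122472 → pointOk (k * 22) = true := between_extend pointOk 22 107415 122463 9 (p7u1671) p7r1672

theorem p7r1673 : allRange pointOk 22 122472 9 = true := by decide +kernel
theorem p7u1673 : ∀ k, 107415 ≤ k → k < 122481 → pointOk (k * 22) = true := between_extend pointOk 22 107415 122472 9 (p7u1672) p7r1673

theorem p7r1674 : allRange pointOk 22 122481 9 = true := by decide +kernel
theorem p7u1674 : ∀ k, 107415 ≤ k → k < 122490 → pointOk (k * 22) = true := between_extend pointOk 22 107415 122481 9 (p7u1673) p7r1674

theorem p7r1675 : allRange pointOk 22 122490 9 = true := by decide +kernel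
theorem p7u1675 : ∀ k, 107415 ≤ k → k < 122499 → pointOk (k * 22) = true := between_extend pointOk 22 107415 122490 9 (p7u1674) p7r1675

theorem p7r1676 : allRange pointOk 22 122499 9 = true := by decide +kernel
theorem p7u1676 : ∀ k, 107415 ≤ k → k < 122508 → pointOk (k * 22) = true := between_extend pointOk 22 107415 122499 9 (p7u1675) p7r1676

theorem p7r1677 : allRange pointOk 22 122508 9 = true := by decide +kernel
theorem p7u1677 : ∀ k, 107415 ≤ k → k < 122517 → pointOk (k * 22) = true := between_extend pointOk 22 107415 122508 9 (p7u1676) p7r1677

theorem p7r1678 : allRange pointOk 22 122517 9 = true := by decide +kernel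
theorem p7u1678 : ∀ k, 107415 ≤ k → k < 122526 → pointOk (k * 22) = true := between_extend pointOk 22 107415 122517 9 (p7u1677) p7r1678

theorem p7r1679 : allRange pointOk 22 122526 9 = true := by decide +kernel
theorem p7u1679 : ∀ k, 107415 ≤ k → k < 122535 → pointOk (k * 22) = true := between_extend pointOk 22 107415 122526 9 (p7u1678) p7r1679

theorem p7r1680 : allRange pointOk 22 122535 9 = true := by decide +kernel
theorem p7u1680 : ∀ k, 107415 ≤ k → k < 122544 → pointOk (k * 22) = true := between_extend pointOk 22 107415 122535 9 (p7u1679) p7r1680

theorem p7r1681 : allRange pointOk 22 122544 9 = true := by decide +kernel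
theorem p7u1681 : ∀ k, 107415 ≤ k → k < 122553 → pointOk (k * 22) = true := between_extend pointOk 22 107415 122544 9 (p7u1680) p7r1681

theorem p7r1682 : allRange pointOk 22 122553 9 = true := by decide +kernel
theorem p7u1682 : ∀ k, 107415 ≤ k → k < 122562 → pointOk (k * 22) = true := between_extend pointOk 22 107415 122553 9 (p7u1681) p7r1682

theorem p7r1683 : allRange pointOk 22 122562 9 = true := by decide +kernel
theorem p7u1683 : ∀ k, 107415 ≤ k → k < 122571 → pointOk (k * 22) = true := between_extend pointOk 22 107415 122562 9 (p7u1682) p7r1683

theorem p7r1684 : allRange pointOk 22 122571 9 = true := by decide +kernel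
theorem p7u1684 : ∀ k, 107415 ≤ k → k < 122580 → pointOk (k * 22) = true := between_extend pointOk 22 107415 122571 9 (p7u1683) p7r1684

theorem p7r1685 : allRange pointOk 22 122580 9 = true := by decide +kernel
theorem p7u1685 : ∀ k, 107415 ≤ k → k < 122589 → pointOk (k * 22) = true := between_extend pointOk 22 107415 122580 9 (p7u1684) p7r1685

theorem p7r1686 : allRange pointOk 22 122589 9 = true := by decide +kernel
theorem p7u1686 : ∀ k, 107415 ≤ k → k < 122598 → pointOk (k * 22) = true := between_extend pointOk 22 107415 122589 9 (p7u1685) p7r1686

theorem p7r1687 : allRange pointOk 22 122598 9 = true := by decide +kernel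
theorem p7u1687 : ∀ k, 107415 ≤ k → k < 122607 → pointOk (k * 22) = true := between_extend pointOk 22 107415 122598 9 (p7u1686) p7r1687

theorem p7r1688 : allRange pointOk 22 122607 9 = true := by decide +kernel
theorem p7u1688 : ∀ k, 107415 ≤ k → k < 122616 → pointOk (k * 22) = true := between_extend pointOk 22 107415 122607 9 (p7u1687) p7r1688

theorem p7r1689 : allRange pointOk 22 122616 9 = true := by decide +kernel
theorem p7u1689 : ∀ k, 107415 ≤ k → k < 122625 → pointOk (k * 22) = true := between_extend pointOk 22 107415 122616 9 (p7u1688) p7r1689

theorem p7r1690 : allRange pointOk 22 122625 9 = true := by decide +kernel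
theorem p7u1690 : ∀ k, 107415 ≤ k → k < 122634 → pointOk (k * 22) = true := between_extend pointOk 22 107415 122625 9 (p7u1689) p7r1690

theorem p7r1691 : allRange pointOk 22 122634 9 = true := by decide +kernel
theorem p7u1691 : ∀ k, 107415 ≤ k → k < 122643 → pointOk (k * 22) = true := between_extend pointOk 22 107415 122634 9 (p7u1690) p7r1691

theorem p7r1692 : allRange pointOk 22 122643 9 = true := by decide +kernel
theorem p7u1692 : ∀ k, 107415 ≤ k → k < 122652 → pointOk (k * 22) = true := between_extend pointOk 22 107415 122643 9 (p7u1691) p7r1692

theorem p7r1693 : allRange pointOk 22 122652 9 = true := by decide +kernel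
theorem p7u1693 : ∀ k, 107415 ≤ k → k < 122661 → pointOk (k * 22) = true := between_extend pointOk 22 107415 122652 9 (p7u1692) p7r1693

theorem p7r1694 : allRange pointOk 22 122661 9 = true := by decide +kernel
theorem p7u1694 : ∀ k, 107415 ≤ k → k < 122670 → pointOk (k * 22) = true := between_extend pointOk 22 107415 122661 9 (p7u1693) p7r1694

theorem p7r1695 : allRange pointOk 22 122670 9 = true := by decide +kernel
theorem p7u1695 : ∀ k, 107415 ≤ k → k < 122679 → pointOk (k * 22) = true := between_extend pointOk 22 107415 122670 9 (p7u1694) p7r1695

theorem p7r1696 : allRange pointOk 22 122679 9 = true := by decide +kernel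
theorem p7u1696 : ∀ k, 107415 ≤ k → k < 122688 → pointOk (k * 22) = true := between_extend pointOk 22 107415 122679 9 (p7u1695) p7r1696

theorem p7r1697 : allRange pointOk 22 122688 9 = true := by decide +kernel
theorem p7u1697 : ∀ k, 107415 ≤ k → k < 122697 → pointOk (k * 22) = true := between_extend pointOk 22 107415 122688 9 (p7u1696) p7r1697

theorem p7r1698 : allRange pointOk 22 122697 9 = true := by decide +kernel
theorem p7u1698 : ∀ k, 107415 ≤ k → k < 122706 → pointOk (k * 22) = true := between_extend pointOk 22 107415 122697 9 (p7u1697) p7r1698

theorem p7r1699 : allRange pointOk 22 122706 9 = true := by decide +kernel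
theorem p7u1699 : ∀ k, 107415 ≤ k → k < 122715 → pointOk (k * 22) = true := between_extend pointOk 22 107415 122706 9 (p7u1698) p7r1699

theorem p7r1700 : allRange pointOk 22 122715 9 = true := by decide +kernel
theorem p7u1700 : ∀ k, 107415 ≤ k → k < 122724 → pointOk (k * 22) = true := between_extend pointOk 22 107415 122715 9 (p7u1699) p7r1700

theorem p7r1701 : allRange pointOk 22 122724 9 = true := by decide +kernel
theorem p7u1701 : ∀ k, 107415 ≤ k → k < 122733 → pointOk (k * 22) = true := between_extend pointOk 22 107415 122724 9 (p7u1700) p7r1701

theorem p7r1702 : allRange pointOk 22 122733 9 = true := by decide +kernel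
theorem p7u1702 : ∀ k, 107415 ≤ k → k < 122742 → pointOk (k * 22) = true := between_extend pointOk 22 107415 122733 9 (p7u1701) p7r1702

theorem p7r1703 : allRange pointOk 22 122742 9 = true := by decide +kernel
theorem p7u1703 : ∀ k, 107415 ≤ k → k < 122751 → pointOk (k * 22) = true := between_extend pointOk 22 107415 122742 9 (p7u1702) p7r1703

theorem p7r1704 : allRange pointOk 22 122751 9 = true := by decide +kernel
theorem p7u1704 : ∀ k, 107415 ≤ k → k < 122760 → pointOk (k * 22) = true := between_extend pointOk 22 107415 122751 9 (p7u1703) p7r1704

theorem p7 : ∀ k, 107415 ≤ k → k < 122760 → pointOk (k * 22) = true := p7u1704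

end Cfsg.Agent.Lib.Helper28_S1692
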