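import Cfsg.Agent.Lib.Helper28_S1692P0
import Cfsg.Agent.Lib.Helper28_S1692P1
import Cfsg.Agent.Lib.Helper28_S1692P2
import Cfsg.Agent.Lib.Helper28_S1692P3
import Cfsg.Agent.Lib.Helper28_S1692P4
import Cfsg.Agent.Lib.Helper28_S1692P5
import Cfsg.Agent.Lib.Helper28_S1692P6
import Cfsg.Agent.Lib.Helper28_S1692P7
import Cfsg.Agent.Lib.Helper28_S1692O0
import Cfsg.Agent.Lib.Helper28_S1692O1
import Cfsg.Agent.Lib.Helper28_CntSplit

set_option autoImplicit false
set_option linter.constructorNameAsVariable false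
set_option Elab.async false

namespace Cfsg.Agent.Lib.Helper28_S1692

open Cfsg.Spor Cfsg.Agent.Lib.Helper28_CosetPerm Cfsg.Agent.Lib.Helper28_CosetCox Cfsg.Agent.Lib.Helper28_S1692Tab

theorem all_ok : ∀ k < 122760, pchk 2700720 22 4194303 col letters words (k * 22) = true := by
  intro k hk
  rw [← pointOk_eq]
  exact between_all pointOk 22 122760 (between_trans pointOk 22 0 107415 122760 (between_trans pointOk 22 0 92070 107415 (between_trans pointOk 22 0 76725 92070 (between_trans pointOk 22 0 61380 76725 (between_trans pointOk 22 0 46035 61380 (between_trans pointOk 22 0 30690 46035 (between_trans pointOk 22 0 15345 30690 p0 p1) p2) p3) p4) p5) p6) p7) k hk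

theorem all_letters : ∀ (a : Cfsg.Spor.ON.Gen) (b : Bool), (a, b) ∈ letters := by
  intro a b; cases a <;> cases b <;> decide

theorem cox_covered : CoxCovered ON.edges words := by decide

theorem extra_covered : ExtraCovered ON.extra words := by
  unfold ExtraCovered; decide

theorem sub_fix : ∀ s ∈ ({Cfsg.Spor.ON.a, Cfsg.Spor.ON.b, Cfsg.Spor.ON.c, Cfsg.Spor.ON.d, Cfsg.Spor.ON.e, Cfsg.Spor.ON.f} : Set (FreeGroup Cfsg.Spor.ON.Gen)), ∃ u : List (Cfsg.Spor.ON.Gen × Bool), FreeGroup.mk u = s ∧ walk 4194303 col u 0 = 0 := by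
  intro s hs
  simp only [Set.mem_insert_iff, Set.mem_singleton_iff] at hs
  rcases hs with rfl | rfl | rfl | rfl | rfl | rfl
  · exact ⟨[(.a, true)], by decide, by decide +kernel⟩
  · exact ⟨[(.b, true)], by decide, by decide +kernel⟩
  · exact ⟨[(.c, true)], by decide, by decide +kernel⟩
  · exact ⟨[(.d, true)], by decide, by decide +kernel⟩
  · exact ⟨[(.e, true)], by decide, by decide +kernel⟩
  · exact ⟨[(.f, true)], by decide, by decide +kernel⟩

instance : NeZero (122760 : ℕ) := ⟨by norm_num⟩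

theorem verified : Verified 122760 22 4194303 col (Cfsg.Spor.coxRelators Cfsg.Spor.ON.edges ∪ {r | r ∈ Cfsg.Spor.ON.extra}) ({Cfsg.Spor.ON.a, Cfsg.Spor.ON.b, Cfsg.Spor.ON.c, Cfsg.Spor.ON.d, Cfsg.Spor.ON.e, Cfsg.Spor.ON.f} : Set (FreeGroup Cfsg.Spor.ON.Gen)) :=
  verified_of_table (n := 122760) (w := 22) (mask := 4194303) (col := col) 2700720 (by norm_num) (by norm_num) letters all_letters ON.edges ON.extra words all_ok cox_covered extra_covered _ sub_fix

/-- the lower bound, index part -/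
theorem lower_index (hfin : ((Subgroup.closure ({Cfsg.Spor.ON.a, Cfsg.Spor.ON.b, Cfsg.Spor.ON.c, Cfsg.Spor.ON.d, Cfsg.Spor.ON.e, Cfsg.Spor.ON.f} : Set (FreeGroup Cfsg.Spor.ON.Gen))).map (PresentedGroup.mk (Cfsg.Spor.coxRelators Cfsg.Spor.ON.edges ∪ {r | r ∈ Cfsg.Spor.ON.extra}))).index ≠ 0) (hle : ((Subgroup.closure ({Cfsg.Spor.ON.a, Cfsg.Spor.ON.b, Cfsg.Spor.ON.c, Cfsg.Spor.ON.d, Cfsg.Spor.ON.e, Cfsg.Spor.ON.f} : Set (FreeGroup Cfsg.Spor.ON.Gen))).map (PresentedGroup.mk (Cfsg.Spor.coxRelators Cfsg.Spor.ON.edges ∪ {r | r ∈ Cfsg.Spor.ON.extra}))).index ≤ 122760) : ((Subgroup.closure ({Cfsg.Spor.ON.a, Cfsg.Spor.ON.b, Cfsg.Spor.ON.c, Cfsg.Spor.ON.d, Cfsg.Spor.ON.e, Cfsg.Spor.ON.f} : Set (FreeGroup Cfsg.Spor.ON.Gen))).map (PresentedGroup.mk (Cfsg.Spor.coxRelators Cfsg.Spor.ON.edges ∪ {r | r ∈ Cfsg.Spor.ON.extra}))).index = 122760 :=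
  verified.index_eq hfin hle

theorem orb_ok : ∀ k < 122760, ochk 4194303 col oidA rnkA bases cl (k * 22) = true := by
  intro k hk
  rw [← orbOk_eq]
  exact between_all orbOk 22 122760 (between_trans orbOk 22 0 61380 122760 o0 o1) k hk

theorem cl_mem : ∀ u ∈ cl, FreeGroup.mk u ∈ Subgroup.closure ({Cfsg.Spor.ON.a, Cfsg.Spor.ON.b, Cfsg.Spor.ON.c, Cfsg.Spor.ON.d, Cfsg.Spor.ON.e, Cfsg.Spor.ON.f} : Set (FreeGroup Cfsg.Spor.ON.Gen)) := by
  intro u hu
  simp only [cl, List.mem_cons, List.not_mem_nil, or_false] at hu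
  rcases hu with rfl | rfl | rfl | rfl | rfl | rfl
  · exact Subgroup.subset_closure (by simp only [Set.mem_insert_iff, Set.mem_singleton_iff]; decide)
  · exact Subgroup.subset_closure (by simp only [Set.mem_insert_iff, Set.mem_singleton_iff]; decide)
  · exact Subgroup.subset_closure (by simp only [Set.mem_insert_iff, Set.mem_singleton_iff]; decide)
  · exact Subgroup.subset_closure (by simp only [Set.mem_insert_iff, Set.mem_singleton_iff]; decide)
  · exact Subgroup.subset_closure (by simp only [Set.mem_insert_iff, Set.mem_singleton_iff]; decide)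
  · exact Subgroup.subset_closure (by simp only [Set.mem_insert_iff, Set.mem_singleton_iff]; decide)

theorem S_cl : ∀ s ∈ ({Cfsg.Spor.ON.a, Cfsg.Spor.ON.b, Cfsg.Spor.ON.c, Cfsg.Spor.ON.d, Cfsg.Spor.ON.e, Cfsg.Spor.ON.f} : Set (FreeGroup Cfsg.Spor.ON.Gen)), ∃ u ∈ cl, FreeGroup.mk u = s := by
  intro s hs
  simp only [Set.mem_insert_iff, Set.mem_singleton_iff] at hs
  rcases hs with rfl | rfl | rfl | rfl | rfl | rfl
  · exact ⟨[(.a, true)], by decide, by decide⟩
  · exact ⟨[(.b, true)], by decide, by decide⟩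
  · exact ⟨[(.c, true)], by decide, by decide⟩
  · exact ⟨[(.d, true)], by decide, by decide⟩
  · exact ⟨[(.e, true)], by decide, by decide⟩
  · exact ⟨[(.f, true)], by decide, by decide⟩

def cntW0 : List ℕ := [553, 511, 506, 454, 449, 476, 407, 427, 480, 343, 506, 463, 463, 365, 477, 395, 483, 444, 347, 413, 521, 422, 463, 447, 433, 449, 374, 453, 423, 525, 446, 435, 467, 438, 476, 464, 398, 403, 397, 520, 514, 417, 398, 479, 420, 446, 448, 423, 488, 461, 405, 475, 514, 426, 519, 502, 512, 485, 467, 510, 475, 467, 506, 485, 444, 503, 458, 472, 502, 458, 464, 551, 490, 482, 409, 372, 528, 500, 457, 506, 415, 498, 516, 479, 475, 515, 532, 534, 504, 520, 498, 563, 544, 504, 510, 519, 485, 568, 570, 498, 560, 542, 533, 512, 520, 600, 535, 503, 600, 510, 530, 598, 563, 622, 629, 622, 580, 697, 696, 700]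

theorem cnt0_c0 : cntB (fun j => Nat.beq (nxt 4194303 oidA (Nat.mul (0 * 1023 + j) 22)) 1) 1023 = cntW0.getD 0 0 := by decide +kernel
theorem cnt0_c1 : cntB (fun j => Nat.beq (nxt 4194303 oidA (Nat.mul (1 * 1023 + j) 22)) 1) 1023 = cntW0.getD 1 0 := by decide +kernel
theorem cnt0_c2 : cntB (fun j => Nat.beq (nxt 4194303 oidA (Nat.mul (2 * 1023 + j) 22)) 1) 1023 = cntW0.getD 2 0 := by decide +kernel
theorem cnt0_c3 : cntB (fun j => Nat.beq (nxt 4194303 oidA (Nat.mul (3 * 1023 + j) 22)) 1) 1023 = cntW0.getD 3 0 := by decide +kernel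
theorem cnt0_c4 : cntB (fun j => Nat.beq (nxt 4194303 oidA (Nat.mul (4 * 1023 + j) 22)) 1) 1023 = cntW0.getD 4 0 := by decide +kernel
theorem cnt0_c5 : cntB (fun j => Nat.beq (nxt 4194303 oidA (Nat.mul (5 * 1023 + j) 22)) 1) 1023 = cntW0.getD 5 0 := by decide +kernel
theorem cnt0_c6 : cntB (fun j => Nat.beq (nxt 4194303 oidA (Nat.mul (6 * 1023 + j) 22)) 1) 1023 = cntW0.getD 6 0 := by decide +kernel
theorem cnt0_c7 : cntB (fun j => Nat.beq (nxt 4194303 oidA (Nat.mul (7 * 1023 + j) 22)) 1) 1023 = cntW0.getD 7 0 := by decide +kernel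
theorem cnt0_c8 : cntB (fun j => Nat.beq (nxt 4194303 oidA (Nat.mul (8 * 1023 + j) 22)) 1) 1023 = cntW0.getD 8 0 := by decide +kernel
theorem cnt0_c9 : cntB (fun j => Nat.beq (nxt 4194303 oidA (Nat.mul (9 * 1023 + j) 22)) 1) 1023 = cntW0.getD 9 0 := by decide +kernel
theorem cnt0_c10 : cntB (fun j => Nat.beq (nxt 4194303 oidA (Nat.mul (10 * 1023 + j) 22)) 1) 1023 = cntW0.getD 10 0 := by decide +kernel
theorem cnt0_c11 : cntB (fun j => Nat.beq (nxt 4194303 oidA (Nat.mul (11 * 1023 + j) 22)) 1) 1023 = cntW0.getD 11 0 := by decide +kernel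
theorem cnt0_c12 : cntB (fun j => Nat.beq (nxt 4194303 oidA (Nat.mul (12 * 1023 + j) 22)) 1) 1023 = cntW0.getD 12 0 := by decide +kernel
theorem cnt0_c13 : cntB (fun j => Nat.beq (nxt 4194303 oidA (Nat.mul (13 * 1023 + j) 22)) 1) 1023 = cntW0.getD 13 0 := by decide +kernel
theorem cnt0_c14 : cntB (fun j => Nat.beq (nxt 4194303 oidA (Nat.mul (14 * 1023 + j) 22)) 1) 1023 = cntW0.getD 14 0 := by decide +kernel
theorem cnt0_c15 : cntB (fun j => Nat.beq (nxt 4194303 oidA (Nat.mul (15 * 1023 + j) 22)) 1) 1023 = cntW0.getD 15 0 := by decide +kernel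
theorem cnt0_c16 : cntB (fun j => Nat.beq (nxt 4194303 oidA (Nat.mul (16 * 1023 + j) 22)) 1) 1023 = cntW0.getD 16 0 := by decide +kernel
theorem cnt0_c17 : cntB (fun j => Nat.beq (nxt 4194303 oidA (Nat.mul (17 * 1023 + j) 22)) 1) 1023 = cntW0.getD 17 0 := by decide +kernel
theorem cnt0_c18 : cntB (fun j => Nat.beq (nxt 4194303 oidA (Nat.mul (18 * 1023 + j) 22)) 1) 1023 = cntW0.getD 18 0 := by decide +kernel
theorem cnt0_c19 : cntB (fun j => Nat.beq (nxt 4194303 oidA (Nat.mul (19 * 1023 + j) 22)) 1) 1023 = cntW0.getD 19 0 := by decide +kernel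
theorem cnt0_c20 : cntB (fun j => Nat.beq (nxt 4194303 oidA (Nat.mul (20 * 1023 + j) 22)) 1) 1023 = cntW0.getD 20 0 := by decide +kernel
theorem cnt0_c21 : cntB (fun j => Nat.beq (nxt 4194303 oidA (Nat.mul (21 * 1023 + j) 22)) 1) 1023 = cntW0.getD 21 0 := by decide +kernel
theorem cnt0_c22 : cntB (fun j => Nat.beq (nxt 4194303 oidA (Nat.mul (22 * 1023 + j) 22)) 1) 1023 = cntW0.getD 22 0 := by decide +kernel
theorem cnt0_c23 : cntB (fun j => Nat.beq (nxt 4194303 oidA (Nat.mul (23 * 1023 + j) 22)) 1) 1023 = cntW0.getD 23 0 := by decide +kernel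
theorem cnt0_c24 : cntB (fun j => Nat.beq (nxt 4194303 oidA (Nat.mul (24 * 1023 + j) 22)) 1) 1023 = cntW0.getD 24 0 := by decide +kernel
theorem cnt0_c25 : cntB (fun j => Nat.beq (nxt 4194303 oidA (Nat.mul (25 * 1023 + j) 22)) 1) 1023 = cntW0.getD 25 0 := by decide +kernel
theorem cnt0_c26 : cntB (fun j => Nat.beq (nxt 4194303 oidA (Nat.mul (26 * 1023 + j) 22)) 1) 1023 = cntW0.getD 26 0 := by decide +kernel
theorem cnt0_c27 : cntB (fun j => Nat.beq (nxt 4194303 oidA (Nat.mul (27 * 1023 + j) 22)) 1) 1023 = cntW0.getD 27 0 := by decide +kernel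
theorem cnt0_c28 : cntB (fun j => Nat.beq (nxt 4194303 oidA (Nat.mul (28 * 1023 + j) 22)) 1) 1023 = cntW0.getD 28 0 := by decide +kernel
theorem cnt0_c29 : cntB (fun j => Nat.beq (nxt 4194303 oidA (Nat.mul (29 * 1023 + j) 22)) 1) 1023 = cntW0.getD 29 0 := by decide +kernel
theorem cnt0_c30 : cntB (fun j => Nat.beq (nxt 4194303 oidA (Nat.mul (30 * 1023 + j) 22)) 1) 1023 = cntW0.getD 30 0 := by decide +kernel
theorem cnt0_c31 : cntB (fun j => Nat.beq (nxt 4194303 oidA (Nat.mul (31 * 1023 + j) 22)) 1) 1023 = cntW0.getD 31 0 := by decide +kernel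
theorem cnt0_c32 : cntB (fun j => Nat.beq (nxt 4194303 oidA (Nat.mul (32 * 1023 + j) 22)) 1) 1023 = cntW0.getD 32 0 := by decide +kernel
theorem cnt0_c33 : cntB (fun j => Nat.beq (nxt 4194303 oidA (Nat.mul (33 * 1023 + j) 22)) 1) 1023 = cntW0.getD 33 0 := by decide +kernel
theorem cnt0_c34 : cntB (fun j => Nat.beq (nxt 4194303 oidA (Nat.mul (34 * 1023 + j) 22)) 1) 1023 = cntW0.getD 34 0 := by decide +kernel
theorem cnt0_c35 : cntB (fun j => Nat.beq (nxt 4194303 oidA (Nat.mul (35 * 1023 + j) 22)) 1) 1023 = cntW0.getD 35 0 := by decide +kernel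
theorem cnt0_c36 : cntB (fun j => Nat.beq (nxt 4194303 oidA (Nat.mul (36 * 1023 + j) 22)) 1) 1023 = cntW0.getD 36 0 := by decide +kernel
theorem cnt0_c37 : cntB (fun j => Nat.beq (nxt 4194303 oidA (Nat.mul (37 * 1023 + j) 22)) 1) 1023 = cntW0.getD 37 0 := by decide +kernel
theorem cnt0_c38 : cntB (fun j => Nat.beq (nxt 4194303 oidA (Nat.mul (38 * 1023 + j) 22)) 1) 1023 = cntW0.getD 38 0 := by decide +kernel
theorem cnt0_c39 : cntB (fun j => Nat.beq (nxt 4194303 oidA (Nat.mul (39 * 1023 + j) 22)) 1) 1023 = cntW0.getD 39 0 := by decide +kernel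
theorem cnt0_c40 : cntB (fun j => Nat.beq (nxt 4194303 oidA (Nat.mul (40 * 1023 + j) 22)) 1) 1023 = cntW0.getD 40 0 := by decide +kernel
theorem cnt0_c41 : cntB (fun j => Nat.beq (nxt 4194303 oidA (Nat.mul (41 * 1023 + j) 22)) 1) 1023 = cntW0.getD 41 0 := by decide +kernel
theorem cnt0_c42 : cntB (fun j => Nat.beq (nxt 4194303 oidA (Nat.mul (42 * 1023 + j) 22)) 1) 1023 = cntW0.getD 42 0 := by decide +kernel
theorem cnt0_c43 : cntB (fun j => Nat.beq (nxt 4194303 oidA (Nat.mul (43 * 1023 + j) 22)) 1) 1023 = cntW0.getD 43 0 := by decide +kernel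
theorem cnt0_c44 : cntB (fun j => Nat.beq (nxt 4194303 oidA (Nat.mul (44 * 1023 + j) 22)) 1) 1023 = cntW0.getD 44 0 := by decide +kernel
theorem cnt0_c45 : cntB (fun j => Nat.beq (nxt 4194303 oidA (Nat.mul (45 * 1023 + j) 22)) 1) 1023 = cntW0.getD 45 0 := by decide +kernel
theorem cnt0_c46 : cntB (fun j => Nat.beq (nxt 4194303 oidA (Nat.mul (46 * 1023 + j) 22)) 1) 1023 = cntW0.getD 46 0 := by decide +kernel
theorem cnt0_c47 : cntB (fun j => Nat.beq (nxt 4194303 oidA (Nat.mul (47 * 1023 + j) 22)) 1) 1023 = cntW0.getD 47 0 := by decide +kernel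
theorem cnt0_c48 : cntB (fun j => Nat.beq (nxt 4194303 oidA (Nat.mul (48 * 1023 + j) 22)) 1) 1023 = cntW0.getD 48 0 := by decide +kernel
theorem cnt0_c49 : cntB (fun j => Nat.beq (nxt 4194303 oidA (Nat.mul (49 * 1023 + j) 22)) 1) 1023 = cntW0.getD 49 0 := by decide +kernel
theorem cnt0_c50 : cntB (fun j => Nat.beq (nxt 4194303 oidA (Nat.mul (50 * 1023 + j) 22)) 1) 1023 = cntW0.getD 50 0 := by decide +kernel
theorem cnt0_c51 : cntB (fun j => Nat.beq (nxt 4194303 oidA (Nat.mul (51 * 1023 + j) 22)) 1) 1023 = cntW0.getD 51 0 := by decide +kernel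
theorem cnt0_c52 : cntB (fun j => Nat.beq (nxt 4194303 oidA (Nat.mul (52 * 1023 + j) 22)) 1) 1023 = cntW0.getD 52 0 := by decide +kernel
theorem cnt0_c53 : cntB (fun j => Nat.beq (nxt 4194303 oidA (Nat.mul (53 * 1023 + j) 22)) 1) 1023 = cntW0.getD 53 0 := by decide +kernel
theorem cnt0_c54 : cntB (fun j => Nat.beq (nxt 4194303 oidA (Nat.mul (54 * 1023 + j) 22)) 1) 1023 = cntW0.getD 54 0 := by decide +kernel
theorem cnt0_c55 : cntB (fun j => Nat.beq (nxt 4194303 oidA (Nat.mul (55 * 1023 + j) 22)) 1) 1023 = cntW0.getD 55 0 := by decide +kernel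
theorem cnt0_c56 : cntB (fun j => Nat.beq (nxt 4194303 oidA (Nat.mul (56 * 1023 + j) 22)) 1) 1023 = cntW0.getD 56 0 := by decide +kernel
theorem cnt0_c57 : cntB (fun j => Nat.beq (nxt 4194303 oidA (Nat.mul (57 * 1023 + j) 22)) 1) 1023 = cntW0.getD 57 0 := by decide +kernel
theorem cnt0_c58 : cntB (fun j => Nat.beq (nxt 4194303 oidA (Nat.mul (58 * 1023 + j) 22)) 1) 1023 = cntW0.getD 58 0 := by decide +kernel
theorem cnt0_c59 : cntB (fun j => Nat.beq (nxt 4194303 oidA (Nat.mul (59 * 1023 + j) 22)) 1) 1023 = cntW0.getD 59 0 := by decide +kernel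
theorem cnt0_c60 : cntB (fun j => Nat.beq (nxt 4194303 oidA (Nat.mul (60 * 1023 + j) 22)) 1) 1023 = cntW0.getD 60 0 := by decide +kernel
theorem cnt0_c61 : cntB (fun j => Nat.beq (nxt 4194303 oidA (Nat.mul (61 * 1023 + j) 22)) 1) 1023 = cntW0.getD 61 0 := by decide +kernel
theorem cnt0_c62 : cntB (fun j => Nat.beq (nxt 4194303 oidA (Nat.mul (62 * 1023 + j) 22)) 1) 1023 = cntW0.getD 62 0 := by decide +kernel
theorem cnt0_c63 : cntB (fun j => Nat.beq (nxt 4194303 oidA (Nat.mul (63 * 1023 + j) 22)) 1) 1023 = cntW0.getD 63 0 := by decide +kernel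
theorem cnt0_c64 : cntB (fun j => Nat.beq (nxt 4194303 oidA (Nat.mul (64 * 1023 + j) 22)) 1) 1023 = cntW0.getD 64 0 := by decide +kernel
theorem cnt0_c65 : cntB (fun j => Nat.beq (nxt 4194303 oidA (Nat.mul (65 * 1023 + j) 22)) 1) 1023 = cntW0.getD 65 0 := by decide +kernel
theorem cnt0_c66 : cntB (fun j => Nat.beq (nxt 4194303 oidA (Nat.mul (66 * 1023 + j) 22)) 1) 1023 = cntW0.getD 66 0 := by decide +kernel
theorem cnt0_c67 : cntB (fun j => Nat.beq (nxt 4194303 oidA (Nat.mul (67 * 1023 + j) 22)) 1) 1023 = cntW0.getD 67 0 := by decide +kernel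
theorem cnt0_c68 : cntB (fun j => Nat.beq (nxt 4194303 oidA (Nat.mul (68 * 1023 + j) 22)) 1) 1023 = cntW0.getD 68 0 := by decide +kernel
theorem cnt0_c69 : cntB (fun j => Nat.beq (nxt 4194303 oidA (Nat.mul (69 * 1023 + j) 22)) 1) 1023 = cntW0.getD 69 0 := by decide +kernel
theorem cnt0_c70 : cntB (fun j => Nat.beq (nxt 4194303 oidA (Nat.mul (70 * 1023 + j) 22)) 1) 1023 = cntW0.getD 70 0 := by decide +kernel
theorem cnt0_c71 : cntB (fun j => Nat.beq (nxt 4194303 oidA (Nat.mul (71 * 1023 + j) 22)) 1) 1023 = cntW0.getD 71 0 := by decide +kernel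
theorem cnt0_c72 : cntB (fun j => Nat.beq (nxt 4194303 oidA (Nat.mul (72 * 1023 + j) 22)) 1) 1023 = cntW0.getD 72 0 := by decide +kernel
theorem cnt0_c73 : cntB (fun j => Nat.beq (nxt 4194303 oidA (Nat.mul (73 * 1023 + j) 22)) 1) 1023 = cntW0.getD 73 0 := by decide +kernel
theorem cnt0_c74 : cntB (fun j => Nat.beq (nxt 4194303 oidA (Nat.mul (74 * 1023 + j) 22)) 1) 1023 = cntW0.getD 74 0 := by decide +kernel
theorem cnt0_c75 : cntB (fun j => Nat.beq (nxt 4194303 oidA (Nat.mul (75 * 1023 + j) 22)) 1) 1023 = cntW0.getD 75 0 := by decide +kernel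
theorem cnt0_c76 : cntB (fun j => Nat.beq (nxt 4194303 oidA (Nat.mul (76 * 1023 + j) 22)) 1) 1023 = cntW0.getD 76 0 := by decide +kernel
theorem cnt0_c77 : cntB (fun j => Nat.beq (nxt 4194303 oidA (Nat.mul (77 * 1023 + j) 22)) 1) 1023 = cntW0.getD 77 0 := by decide +kernel
theorem cnt0_c78 : cntB (fun j => Nat.beq (nxt 4194303 oidA (Nat.mul (78 * 1023 + j) 22)) 1) 1023 = cntW0.getD 78 0 := by decide +kernel
theorem cnt0_c79 : cntB (fun j => Nat.beq (nxt 4194303 oidA (Nat.mul (79 * 1023 + j) 22)) 1) 1023 = cntW0.getD 79 0 := by decide +kernel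
theorem cnt0_c80 : cntB (fun j => Nat.beq (nxt 4194303 oidA (Nat.mul (80 * 1023 + j) 22)) 1) 1023 = cntW0.getD 80 0 := by decide +kernel
theorem cnt0_c81 : cntB (fun j => Nat.beq (nxt 4194303 oidA (Nat.mul (81 * 1023 + j) 22)) 1) 1023 = cntW0.getD 81 0 := by decide +kernel
theorem cnt0_c82 : cntB (fun j => Nat.beq (nxt 4194303 oidA (Nat.mul (82 * 1023 + j) 22)) 1) 1023 = cntW0.getD 82 0 := by decide +kernel
theorem cnt0_c83 : cntB (fun j => Nat.beq (nxt 4194303 oidA (Nat.mul (83 * 1023 + j) 22)) 1) 1023 = cntW0.getD 83 0 := by decide +kernel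
theorem cnt0_c84 : cntB (fun j => Nat.beq (nxt 4194303 oidA (Nat.mul (84 * 1023 + j) 22)) 1) 1023 = cntW0.getD 84 0 := by decide +kernel
theorem cnt0_c85 : cntB (fun j => Nat.beq (nxt 4194303 oidA (Nat.mul (85 * 1023 + j) 22)) 1) 1023 = cntW0.getD 85 0 := by decide +kernel
theorem cnt0_c86 : cntB (fun j => Nat.beq (nxt 4194303 oidA (Nat.mul (86 * 1023 + j) 22)) 1) 1023 = cntW0.getD 86 0 := by decide +kernel
theorem cnt0_c87 : cntB (fun j => Nat.beq (nxt 4194303 oidA (Nat.mul (87 * 1023 + j) 22)) 1) 1023 = cntW0.getD 87 0 := by decide +kernel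
theorem cnt0_c88 : cntB (fun j => Nat.beq (nxt 4194303 oidA (Nat.mul (88 * 1023 + j) 22)) 1) 1023 = cntW0.getD 88 0 := by decide +kernel
theorem cnt0_c89 : cntB (fun j => Nat.beq (nxt 4194303 oidA (Nat.mul (89 * 1023 + j) 22)) 1) 1023 = cntW0.getD 89 0 := by decide +kernel
theorem cnt0_c90 : cntB (fun j => Nat.beq (nxt 4194303 oidA (Nat.mul (90 * 1023 + j) 22)) 1) 1023 = cntW0.getD 90 0 := by decide +kernel
theorem cnt0_c91 : cntB (fun j => Nat.beq (nxt 4194303 oidA (Nat.mul (91 * 1023 + j) 22)) 1) 1023 = cntW0.getD 91 0 := by decide +kernel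
theorem cnt0_c92 : cntB (fun j => Nat.beq (nxt 4194303 oidA (Nat.mul (92 * 1023 + j) 22)) 1) 1023 = cntW0.getD 92 0 := by decide +kernel
theorem cnt0_c93 : cntB (fun j => Nat.beq (nxt 4194303 oidA (Nat.mul (93 * 1023 + j) 22)) 1) 1023 = cntW0.getD 93 0 := by decide +kernel
theorem cnt0_c94 : cntB (fun j => Nat.beq (nxt 4194303 oidA (Nat.mul (94 * 1023 + j) 22)) 1) 1023 = cntW0.getD 94 0 := by decide +kernel
theorem cnt0_c95 : cntB (fun j => Nat.beq (nxt 4194303 oidA (Nat.mul (95 * 1023 + j) 22)) 1) 1023 = cntW0.getD 95 0 := by decide +kernel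
theorem cnt0_c96 : cntB (fun j => Nat.beq (nxt 4194303 oidA (Nat.mul (96 * 1023 + j) 22)) 1) 1023 = cntW0.getD 96 0 := by decide +kernel
theorem cnt0_c97 : cntB (fun j => Nat.beq (nxt 4194303 oidA (Nat.mul (97 * 1023 + j) 22)) 1) 1023 = cntW0.getD 97 0 := by decide +kernel
theorem cnt0_c98 : cntB (fun j => Nat.beq (nxt 4194303 oidA (Nat.mul (98 * 1023 + j) 22)) 1) 1023 = cntW0.getD 98 0 := by decide +kernel
theorem cnt0_c99 : cntB (fun j => Nat.beq (nxt 4194303 oidA (Nat.mul (99 * 1023 + j) 22)) 1) 1023 = cntW0.getD 99 0 := by decide +kernel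
theorem cnt0_c100 : cntB (fun j => Nat.beq (nxt 4194303 oidA (Nat.mul (100 * 1023 + j) 22)) 1) 1023 = cntW0.getD 100 0 := by decide +kernel
theorem cnt0_c101 : cntB (fun j => Nat.beq (nxt 4194303 oidA (Nat.mul (101 * 1023 + j) 22)) 1) 1023 = cntW0.getD 101 0 := by decide +kernel
theorem cnt0_c102 : cntB (fun j => Nat.beq (nxt 4194303 oidA (Nat.mul (102 * 1023 + j) 22)) 1) 1023 = cntW0.getD 102 0 := by decide +kernel
theorem cnt0_c103 : cntB (fun j => Nat.beq (nxt 4194303 oidA (Nat.mul (103 * 1023 + j) 22)) 1) 1023 = cntW0.getD 103 0 := by decide +kernel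
theorem cnt0_c104 : cntB (fun j => Nat.beq (nxt 4194303 oidA (Nat.mul (104 * 1023 + j) 22)) 1) 1023 = cntW0.getD 104 0 := by decide +kernel
theorem cnt0_c105 : cntB (fun j => Nat.beq (nxt 4194303 oidA (Nat.mul (105 * 1023 + j) 22)) 1) 1023 = cntW0.getD 105 0 := by decide +kernel
theorem cnt0_c106 : cntB (fun j => Nat.beq (nxt 4194303 oidA (Nat.mul (106 * 1023 + j) 22)) 1) 1023 = cntW0.getD 106 0 := by decide +kernel
theorem cnt0_c107 : cntB (fun j => Nat.beq (nxt 4194303 oidA (Nat.mul (107 * 1023 + j) 22)) 1) 1023 = cntW0.getD 107 0 := by decide +kernel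
theorem cnt0_c108 : cntB (fun j => Nat.beq (nxt 4194303 oidA (Nat.mul (108 * 1023 + j) 22)) 1) 1023 = cntW0.getD 108 0 := by decide +kernel
theorem cnt0_c109 : cntB (fun j => Nat.beq (nxt 4194303 oidA (Nat.mul (109 * 1023 + j) 22)) 1) 1023 = cntW0.getD 109 0 := by decide +kernel
theorem cnt0_c110 : cntB (fun j => Nat.beq (nxt 4194303 oidA (Nat.mul (110 * 1023 + j) 22)) 1) 1023 = cntW0.getD 110 0 := by decide +kernel
theorem cnt0_c111 : cntB (fun j => Nat.beq (nxt 4194303 oidA (Nat.mul (111 * 1023 + j) 22)) 1) 1023 = cntW0.getD 111 0 := by decide +kernel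
theorem cnt0_c112 : cntB (fun j => Nat.beq (nxt 4194303 oidA (Nat.mul (112 * 1023 + j) 22)) 1) 1023 = cntW0.getD 112 0 := by decide +kernel
theorem cnt0_c113 : cntB (fun j => Nat.beq (nxt 4194303 oidA (Nat.mul (113 * 1023 + j) 22)) 1) 1023 = cntW0.getD 113 0 := by decide +kernel
theorem cnt0_c114 : cntB (fun j => Nat.beq (nxt 4194303 oidA (Nat.mul (114 * 1023 + j) 22)) 1) 1023 = cntW0.getD 114 0 := by decide +kernel
theorem cnt0_c115 : cntB (fun j => Nat.beq (nxt 4194303 oidA (Nat.mul (115 * 1023 + j) 22)) 1) 1023 = cntW0.getD 115 0 := by decide +kernel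
theorem cnt0_c116 : cntB (fun j => Nat.beq (nxt 4194303 oidA (Nat.mul (116 * 1023 + j) 22)) 1) 1023 = cntW0.getD 116 0 := by decide +kernel
theorem cnt0_c117 : cntB (fun j => Nat.beq (nxt 4194303 oidA (Nat.mul (117 * 1023 + j) 22)) 1) 1023 = cntW0.getD 117 0 := by decide +kernel
theorem cnt0_c118 : cntB (fun j => Nat.beq (nxt 4194303 oidA (Nat.mul (118 * 1023 + j) 22)) 1) 1023 = cntW0.getD 118 0 := by decide +kernel
theorem cnt0_c119 : cntB (fun j => Nat.beq (nxt 4194303 oidA (Nat.mul (119 * 1023 + j) 22)) 1) 1023 = cntW0.getD 119 0 := by decide +kernel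

theorem cnt0 : cntB (fun k => Nat.beq (nxt 4194303 oidA (Nat.mul k 22)) 1) 122760 = 58653 := by
  have h := Cfsg.Agent.Lib.Helper28_CntSplit.cntB_chunks (fun k => Nat.beq (nxt 4194303 oidA (Nat.mul k 22)) 1) 1023
    (fun i => cntW0.getD i 0) 120 (by
      intro i hi
      interval_cases i
      · exact cnt0_c0
      · exact cnt0_c1
      · exact cnt0_c2
      · exact cnt0_c3
      · exact cnt0_c4
      · exact cnt0_c5
      · exact cnt0_c6
      · exact cnt0_c7
      · exact cnt0_c8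
      · exact cnt0_c9
      · exact cnt0_c10
      · exact cnt0_c11
      · exact cnt0_c12
      · exact cnt0_c13
      · exact cnt0_c14
      · exact cnt0_c15
      · exact cnt0_c16
      · exact cnt0_c17
      · exact cnt0_c18
      · exact cnt0_c19
      · exact cnt0_c20
      · exact cnt0_c21
      · exact cnt0_c22
      · exact cnt0_c23
      · exact cnt0_c24
      · exact cnt0_c25
      · exact cnt0_c26
      · exact cnt0_c27
      · exact cnt0_c28
      · exact cnt0_c29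
      · exact cnt0_c30
      · exact cnt0_c31
      · exact cnt0_c32
      · exact cnt0_c33
      · exact cnt0_c34
      · exact cnt0_c35
      · exact cnt0_c36
      · exact cnt0_c37
      · exact cnt0_c38
      · exact cnt0_c39
      · exact cnt0_c40
      · exact cnt0_c41
      · exact cnt0_c42
      · exact cnt0_c43
      · exact cnt0_c44
      · exact cnt0_c45
      · exact cnt0_c46
      · exact cnt0_c47
      · exact cnt0_c48
      · exact cnt0_c49
      · exact cnt0_c50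
      · exact cnt0_c51
      · exact cnt0_c52
      · exact cnt0_c53
      · exact cnt0_c54
      · exact cnt0_c55
      · exact cnt0_c56
      · exact cnt0_c57
      · exact cnt0_c58
      · exact cnt0_c59
      · exact cnt0_c60
      · exact cnt0_c61
      · exact cnt0_c62
      · exact cnt0_c63
      · exact cnt0_c64
      · exact cnt0_c65
      · exact cnt0_c66
      · exact cnt0_c67
      · exact cnt0_c68
      · exact cnt0_c69
      · exact cnt0_c70
      · exact cnt0_c71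
      · exact cnt0_c72
      · exact cnt0_c73
      · exact cnt0_c74
      · exact cnt0_c75
      · exact cnt0_c76
      · exact cnt0_c77
      · exact cnt0_c78
      · exact cnt0_c79
      · exact cnt0_c80
      · exact cnt0_c81
      · exact cnt0_c82
      · exact cnt0_c83
      · exact cnt0_c84
      · exact cnt0_c85
      · exact cnt0_c86
      · exact cnt0_c87
      · exact cnt0_c88
      · exact cnt0_c89
      · exact cnt0_c90
      · exact cnt0_c91
      · exact cnt0_c92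
      · exact cnt0_c93
      · exact cnt0_c94
      · exact cnt0_c95
      · exact cnt0_c96
      · exact cnt0_c97
      · exact cnt0_c98
      · exact cnt0_c99
      · exact cnt0_c100
      · exact cnt0_c101
      · exact cnt0_c102
      · exact cnt0_c103
      · exact cnt0_c104
      · exact cnt0_c105
      · exact cnt0_c106
      · exact cnt0_c107
      · exact cnt0_c108
      · exact cnt0_c109
      · exact cnt0_c110
      · exact cnt0_c111
      · exact cnt0_c112
      · exact cnt0_c113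
      · exact cnt0_c114
      · exact cnt0_c115
      · exact cnt0_c116
      · exact cnt0_c117
      · exact cnt0_c118
      · exact cnt0_c119
      )
  exact h.trans (by decide +kernel)

def cntW1 : List ℕ := [235, 341, 384, 429, 455, 398, 504, 475, 418, 576, 409, 494, 443, 555, 450, 479, 427, 468, 601, 476, 451, 497, 446, 513, 483, 469, 554, 467, 495, 420, 437, 424, 460, 502, 417, 458, 566, 533, 500, 408, 447, 521, 502, 396, 533, 505, 473, 482, 439, 466, 521, 486, 397, 484, 425, 460, 394, 418, 415, 365, 458, 436, 466, 398, 476, 432, 495, 517, 405, 496, 402, 393, 426, 458, 456, 532, 355, 444, 479, 415, 474, 409, 449, 445, 430, 459, 424, 386, 446, 411, 460, 393, 356, 406, 427, 372, 439, 364, 349, 419, 387, 419, 436, 431, 378, 334, 411, 405, 320, 421, 358, 388, 376, 348, 326, 345, 360, 263, 262, 265]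

theorem cnt1_c0 : cntB (fun j => Nat.beq (nxt 4194303 oidA (Nat.mul (0 * 1023 + j) 22)) 2) 1023 = cntW1.getD 0 0 := by decide +kernel
theorem cnt1_c1 : cntB (fun j => Nat.beq (nxt 4194303 oidA (Nat.mul (1 * 1023 + j) 22)) 2) 1023 = cntW1.getD 1 0 := by decide +kernel
theorem cnt1_c2 : cntB (fun j => Nat.beq (nxt 4194303 oidA (Nat.mul (2 * 1023 + j) 22)) 2) 1023 = cntW1.getD 2 0 := by decide +kernel
theorem cnt1_c3 : cntB (fun j => Nat.beq (nxt 4194303 oidA (Nat.mul (3 * 1023 + j) 22)) 2) 1023 = cntW1.getD 3 0 := by decide +kernel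
theorem cnt1_c4 : cntB (fun j => Nat.beq (nxt 4194303 oidA (Nat.mul (4 * 1023 + j) 22)) 2) 1023 = cntW1.getD 4 0 := by decide +kernel
theorem cnt1_c5 : cntB (fun j => Nat.beq (nxt 4194303 oidA (Nat.mul (5 * 1023 + j) 22)) 2) 1023 = cntW1.getD 5 0 := by decide +kernel
theorem cnt1_c6 : cntB (fun j => Nat.beq (nxt 4194303 oidA (Nat.mul (6 * 1023 + j) 22)) 2) 1023 = cntW1.getD 6 0 := by decide +kernel
theorem cnt1_c7 : cntB (fun j => Nat.beq (nxt 4194303 oidA (Nat.mul (7 * 1023 + j) 22)) 2) 1023 = cntW1.getD 7 0 := by decide +kernel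
theorem cnt1_c8 : cntB (fun j => Nat.beq (nxt 4194303 oidA (Nat.mul (8 * 1023 + j) 22)) 2) 1023 = cntW1.getD 8 0 := by decide +kernel
theorem cnt1_c9 : cntB (fun j => Nat.beq (nxt 4194303 oidA (Nat.mul (9 * 1023 + j) 22)) 2) 1023 = cntW1.getD 9 0 := by decide +kernel
theorem cnt1_c10 : cntB (fun j => Nat.beq (nxt 4194303 oidA (Nat.mul (10 * 1023 + j) 22)) 2) 1023 = cntW1.getD 10 0 := by decide +kernel
theorem cnt1_c11 : cntB (fun j => Nat.beq (nxt 4194303 oidA (Nat.mul (11 * 1023 + j) 22)) 2) 1023 = cntW1.getD 11 0 := by decide +kernel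
theorem cnt1_c12 : cntB (fun j => Nat.beq (nxt 4194303 oidA (Nat.mul (12 * 1023 + j) 22)) 2) 1023 = cntW1.getD 12 0 := by decide +kernel
theorem cnt1_c13 : cntB (fun j => Nat.beq (nxt 4194303 oidA (Nat.mul (13 * 1023 + j) 22)) 2) 1023 = cntW1.getD 13 0 := by decide +kernel
theorem cnt1_c14 : cntB (fun j => Nat.beq (nxt 4194303 oidA (Nat.mul (14 * 1023 + j) 22)) 2) 1023 = cntW1.getD 14 0 := by decide +kernel
theorem cnt1_c15 : cntB (fun j => Nat.beq (nxt 4194303 oidA (Nat.mul (15 * 1023 + j) 22)) 2) 1023 = cntW1.getD 15 0 := by decide +kernel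
theorem cnt1_c16 : cntB (fun j => Nat.beq (nxt 4194303 oidA (Nat.mul (16 * 1023 + j) 22)) 2) 1023 = cntW1.getD 16 0 := by decide +kernel
theorem cnt1_c17 : cntB (fun j => Nat.beq (nxt 4194303 oidA (Nat.mul (17 * 1023 + j) 22)) 2) 1023 = cntW1.getD 17 0 := by decide +kernel
theorem cnt1_c18 : cntB (fun j => Nat.beq (nxt 4194303 oidA (Nat.mul (18 * 1023 + j) 22)) 2) 1023 = cntW1.getD 18 0 := by decide +kernel
theorem cnt1_c19 : cntB (fun j => Nat.beq (nxt 4194303 oidA (Nat.mul (19 * 1023 + j) 22)) 2) 1023 = cntW1.getD 19 0 := by decide +kernel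
theorem cnt1_c20 : cntB (fun j => Nat.beq (nxt 4194303 oidA (Nat.mul (20 * 1023 + j) 22)) 2) 1023 = cntW1.getD 20 0 := by decide +kernel
theorem cnt1_c21 : cntB (fun j => Nat.beq (nxt 4194303 oidA (Nat.mul (21 * 1023 + j) 22)) 2) 1023 = cntW1.getD 21 0 := by decide +kernel
theorem cnt1_c22 : cntB (fun j => Nat.beq (nxt 4194303 oidA (Nat.mul (22 * 1023 + j) 22)) 2) 1023 = cntW1.getD 22 0 := by decide +kernel
theorem cnt1_c23 : cntB (fun j => Nat.beq (nxt 4194303 oidA (Nat.mul (23 * 1023 + j) 22)) 2) 1023 = cntW1.getD 23 0 := by decide +kernel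
theorem cnt1_c24 : cntB (fun j => Nat.beq (nxt 4194303 oidA (Nat.mul (24 * 1023 + j) 22)) 2) 1023 = cntW1.getD 24 0 := by decide +kernel
theorem cnt1_c25 : cntB (fun j => Nat.beq (nxt 4194303 oidA (Nat.mul (25 * 1023 + j) 22)) 2) 1023 = cntW1.getD 25 0 := by decide +kernel
theorem cnt1_c26 : cntB (fun j => Nat.beq (nxt 4194303 oidA (Nat.mul (26 * 1023 + j) 22)) 2) 1023 = cntW1.getD 26 0 := by decide +kernel
theorem cnt1_c27 : cntB (fun j => Nat.beq (nxt 4194303 oidA (Nat.mul (27 * 1023 + j) 22)) 2) 1023 = cntW1.getD 27 0 := by decide +kernel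
theorem cnt1_c28 : cntB (fun j => Nat.beq (nxt 4194303 oidA (Nat.mul (28 * 1023 + j) 22)) 2) 1023 = cntW1.getD 28 0 := by decide +kernel
theorem cnt1_c29 : cntB (fun j => Nat.beq (nxt 4194303 oidA (Nat.mul (29 * 1023 + j) 22)) 2) 1023 = cntW1.getD 29 0 := by decide +kernel
theorem cnt1_c30 : cntB (fun j => Nat.beq (nxt 4194303 oidA (Nat.mul (30 * 1023 + j) 22)) 2) 1023 = cntW1.getD 30 0 := by decide +kernel
theorem cnt1_c31 : cntB (fun j => Nat.beq (nxt 4194303 oidA (Nat.mul (31 * 1023 + j) 22)) 2) 1023 = cntW1.getD 31 0 := by decide +kernel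
theorem cnt1_c32 : cntB (fun j => Nat.beq (nxt 4194303 oidA (Nat.mul (32 * 1023 + j) 22)) 2) 1023 = cntW1.getD 32 0 := by decide +kernel
theorem cnt1_c33 : cntB (fun j => Nat.beq (nxt 4194303 oidA (Nat.mul (33 * 1023 + j) 22)) 2) 1023 = cntW1.getD 33 0 := by decide +kernel
theorem cnt1_c34 : cntB (fun j => Nat.beq (nxt 4194303 oidA (Nat.mul (34 * 1023 + j) 22)) 2) 1023 = cntW1.getD 34 0 := by decide +kernel
theorem cnt1_c35 : cntB (fun j => Nat.beq (nxt 4194303 oidA (Nat.mul (35 * 1023 + j) 22)) 2) 1023 = cntW1.getD 35 0 := by decide +kernel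
theorem cnt1_c36 : cntB (fun j => Nat.beq (nxt 4194303 oidA (Nat.mul (36 * 1023 + j) 22)) 2) 1023 = cntW1.getD 36 0 := by decide +kernel
theorem cnt1_c37 : cntB (fun j => Nat.beq (nxt 4194303 oidA (Nat.mul (37 * 1023 + j) 22)) 2) 1023 = cntW1.getD 37 0 := by decide +kernel
theorem cnt1_c38 : cntB (fun j => Nat.beq (nxt 4194303 oidA (Nat.mul (38 * 1023 + j) 22)) 2) 1023 = cntW1.getD 38 0 := by decide +kernel
theorem cnt1_c39 : cntB (fun j => Nat.beq (nxt 4194303 oidA (Nat.mul (39 * 1023 + j) 22)) 2) 1023 = cntW1.getD 39 0 := by decide +kernel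
theorem cnt1_c40 : cntB (fun j => Nat.beq (nxt 4194303 oidA (Nat.mul (40 * 1023 + j) 22)) 2) 1023 = cntW1.getD 40 0 := by decide +kernel
theorem cnt1_c41 : cntB (fun j => Nat.beq (nxt 4194303 oidA (Nat.mul (41 * 1023 + j) 22)) 2) 1023 = cntW1.getD 41 0 := by decide +kernel
theorem cnt1_c42 : cntB (fun j => Nat.beq (nxt 4194303 oidA (Nat.mul (42 * 1023 + j) 22)) 2) 1023 = cntW1.getD 42 0 := by decide +kernel
theorem cnt1_c43 : cntB (fun j => Nat.beq (nxt 4194303 oidA (Nat.mul (43 * 1023 + j) 22)) 2) 1023 = cntW1.getD 43 0 := by decide +kernel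
theorem cnt1_c44 : cntB (fun j => Nat.beq (nxt 4194303 oidA (Nat.mul (44 * 1023 + j) 22)) 2) 1023 = cntW1.getD 44 0 := by decide +kernel
theorem cnt1_c45 : cntB (fun j => Nat.beq (nxt 4194303 oidA (Nat.mul (45 * 1023 + j) 22)) 2) 1023 = cntW1.getD 45 0 := by decide +kernel
theorem cnt1_c46 : cntB (fun j => Nat.beq (nxt 4194303 oidA (Nat.mul (46 * 1023 + j) 22)) 2) 1023 = cntW1.getD 46 0 := by decide +kernel
theorem cnt1_c47 : cntB (fun j => Nat.beq (nxt 4194303 oidA (Nat.mul (47 * 1023 + j) 22)) 2) 1023 = cntW1.getD 47 0 := by decide +kernel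
theorem cnt1_c48 : cntB (fun j => Nat.beq (nxt 4194303 oidA (Nat.mul (48 * 1023 + j) 22)) 2) 1023 = cntW1.getD 48 0 := by decide +kernel
theorem cnt1_c49 : cntB (fun j => Nat.beq (nxt 4194303 oidA (Nat.mul (49 * 1023 + j) 22)) 2) 1023 = cntW1.getD 49 0 := by decide +kernel
theorem cnt1_c50 : cntB (fun j => Nat.beq (nxt 4194303 oidA (Nat.mul (50 * 1023 + j) 22)) 2) 1023 = cntW1.getD 50 0 := by decide +kernel
theorem cnt1_c51 : cntB (fun j => Nat.beq (nxt 4194303 oidA (Nat.mul (51 * 1023 + j) 22)) 2) 1023 = cntW1.getD 51 0 := by decide +kernel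
theorem cnt1_c52 : cntB (fun j => Nat.beq (nxt 4194303 oidA (Nat.mul (52 * 1023 + j) 22)) 2) 1023 = cntW1.getD 52 0 := by decide +kernel
theorem cnt1_c53 : cntB (fun j => Nat.beq (nxt 4194303 oidA (Nat.mul (53 * 1023 + j) 22)) 2) 1023 = cntW1.getD 53 0 := by decide +kernel
theorem cnt1_c54 : cntB (fun j => Nat.beq (nxt 4194303 oidA (Nat.mul (54 * 1023 + j) 22)) 2) 1023 = cntW1.getD 54 0 := by decide +kernel
theorem cnt1_c55 : cntB (fun j => Nat.beq (nxt 4194303 oidA (Nat.mul (55 * 1023 + j) 22)) 2) 1023 = cntW1.getD 55 0 := by decide +kernel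
theorem cnt1_c56 : cntB (fun j => Nat.beq (nxt 4194303 oidA (Nat.mul (56 * 1023 + j) 22)) 2) 1023 = cntW1.getD 56 0 := by decide +kernel
theorem cnt1_c57 : cntB (fun j => Nat.beq (nxt 4194303 oidA (Nat.mul (57 * 1023 + j) 22)) 2) 1023 = cntW1.getD 57 0 := by decide +kernel
theorem cnt1_c58 : cntB (fun j => Nat.beq (nxt 4194303 oidA (Nat.mul (58 * 1023 + j) 22)) 2) 1023 = cntW1.getD 58 0 := by decide +kernel
theorem cnt1_c59 : cntB (fun j => Nat.beq (nxt 4194303 oidA (Nat.mul (59 * 1023 + j) 22)) 2) 1023 = cntW1.getD 59 0 := by decide +kernel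
theorem cnt1_c60 : cntB (fun j => Nat.beq (nxt 4194303 oidA (Nat.mul (60 * 1023 + j) 22)) 2) 1023 = cntW1.getD 60 0 := by decide +kernel
theorem cnt1_c61 : cntB (fun j => Nat.beq (nxt 4194303 oidA (Nat.mul (61 * 1023 + j) 22)) 2) 1023 = cntW1.getD 61 0 := by decide +kernel
theorem cnt1_c62 : cntB (fun j => Nat.beq (nxt 4194303 oidA (Nat.mul (62 * 1023 + j) 22)) 2) 1023 = cntW1.getD 62 0 := by decide +kernel
theorem cnt1_c63 : cntB (fun j => Nat.beq (nxt 4194303 oidA (Nat.mul (63 * 1023 + j) 22)) 2) 1023 = cntW1.getD 63 0 := by decide +kernel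
theorem cnt1_c64 : cntB (fun j => Nat.beq (nxt 4194303 oidA (Nat.mul (64 * 1023 + j) 22)) 2) 1023 = cntW1.getD 64 0 := by decide +kernel
theorem cnt1_c65 : cntB (fun j => Nat.beq (nxt 4194303 oidA (Nat.mul (65 * 1023 + j) 22)) 2) 1023 = cntW1.getD 65 0 := by decide +kernel
theorem cnt1_c66 : cntB (fun j => Nat.beq (nxt 4194303 oidA (Nat.mul (66 * 1023 + j) 22)) 2) 1023 = cntW1.getD 66 0 := by decide +kernel
theorem cnt1_c67 : cntB (fun j => Nat.beq (nxt 4194303 oidA (Nat.mul (67 * 1023 + j) 22)) 2) 1023 = cntW1.getD 67 0 := by decide +kernel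
theorem cnt1_c68 : cntB (fun j => Nat.beq (nxt 4194303 oidA (Nat.mul (68 * 1023 + j) 22)) 2) 1023 = cntW1.getD 68 0 := by decide +kernel
theorem cnt1_c69 : cntB (fun j => Nat.beq (nxt 4194303 oidA (Nat.mul (69 * 1023 + j) 22)) 2) 1023 = cntW1.getD 69 0 := by decide +kernel
theorem cnt1_c70 : cntB (fun j => Nat.beq (nxt 4194303 oidA (Nat.mul (70 * 1023 + j) 22)) 2) 1023 = cntW1.getD 70 0 := by decide +kernel
theorem cnt1_c71 : cntB (fun j => Nat.beq (nxt 4194303 oidA (Nat.mul (71 * 1023 + j) 22)) 2) 1023 = cntW1.getD 71 0 := by decide +kernel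
theorem cnt1_c72 : cntB (fun j => Nat.beq (nxt 4194303 oidA (Nat.mul (72 * 1023 + j) 22)) 2) 1023 = cntW1.getD 72 0 := by decide +kernel
theorem cnt1_c73 : cntB (fun j => Nat.beq (nxt 4194303 oidA (Nat.mul (73 * 1023 + j) 22)) 2) 1023 = cntW1.getD 73 0 := by decide +kernel
theorem cnt1_c74 : cntB (fun j => Nat.beq (nxt 4194303 oidA (Nat.mul (74 * 1023 + j) 22)) 2) 1023 = cntW1.getD 74 0 := by decide +kernel
theorem cnt1_c75 : cntB (fun j => Nat.beq (nxt 4194303 oidA (Nat.mul (75 * 1023 + j) 22)) 2) 1023 = cntW1.getD 75 0 := by decide +kernel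
theorem cnt1_c76 : cntB (fun j => Nat.beq (nxt 4194303 oidA (Nat.mul (76 * 1023 + j) 22)) 2) 1023 = cntW1.getD 76 0 := by decide +kernel
theorem cnt1_c77 : cntB (fun j => Nat.beq (nxt 4194303 oidA (Nat.mul (77 * 1023 + j) 22)) 2) 1023 = cntW1.getD 77 0 := by decide +kernel
theorem cnt1_c78 : cntB (fun j => Nat.beq (nxt 4194303 oidA (Nat.mul (78 * 1023 + j) 22)) 2) 1023 = cntW1.getD 78 0 := by decide +kernel
theorem cnt1_c79 : cntB (fun j => Nat.beq (nxt 4194303 oidA (Nat.mul (79 * 1023 + j) 22)) 2) 1023 = cntW1.getD 79 0 := by decide +kernel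
theorem cnt1_c80 : cntB (fun j => Nat.beq (nxt 4194303 oidA (Nat.mul (80 * 1023 + j) 22)) 2) 1023 = cntW1.getD 80 0 := by decide +kernel
theorem cnt1_c81 : cntB (fun j => Nat.beq (nxt 4194303 oidA (Nat.mul (81 * 1023 + j) 22)) 2) 1023 = cntW1.getD 81 0 := by decide +kernel
theorem cnt1_c82 : cntB (fun j => Nat.beq (nxt 4194303 oidA (Nat.mul (82 * 1023 + j) 22)) 2) 1023 = cntW1.getD 82 0 := by decide +kernel
theorem cnt1_c83 : cntB (fun j => Nat.beq (nxt 4194303 oidA (Nat.mul (83 * 1023 + j) 22)) 2) 1023 = cntW1.getD 83 0 := by decide +kernel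
theorem cnt1_c84 : cntB (fun j => Nat.beq (nxt 4194303 oidA (Nat.mul (84 * 1023 + j) 22)) 2) 1023 = cntW1.getD 84 0 := by decide +kernel
theorem cnt1_c85 : cntB (fun j => Nat.beq (nxt 4194303 oidA (Nat.mul (85 * 1023 + j) 22)) 2) 1023 = cntW1.getD 85 0 := by decide +kernel
theorem cnt1_c86 : cntB (fun j => Nat.beq (nxt 4194303 oidA (Nat.mul (86 * 1023 + j) 22)) 2) 1023 = cntW1.getD 86 0 := by decide +kernel
theorem cnt1_c87 : cntB (fun j => Nat.beq (nxt 4194303 oidA (Nat.mul (87 * 1023 + j) 22)) 2) 1023 = cntW1.getD 87 0 := by decide +kernel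
theorem cnt1_c88 : cntB (fun j => Nat.beq (nxt 4194303 oidA (Nat.mul (88 * 1023 + j) 22)) 2) 1023 = cntW1.getD 88 0 := by decide +kernel
theorem cnt1_c89 : cntB (fun j => Nat.beq (nxt 4194303 oidA (Nat.mul (89 * 1023 + j) 22)) 2) 1023 = cntW1.getD 89 0 := by decide +kernel
theorem cnt1_c90 : cntB (fun j => Nat.beq (nxt 4194303 oidA (Nat.mul (90 * 1023 + j) 22)) 2) 1023 = cntW1.getD 90 0 := by decide +kernel
theorem cnt1_c91 : cntB (fun j => Nat.beq (nxt 4194303 oidA (Nat.mul (91 * 1023 + j) 22)) 2) 1023 = cntW1.getD 91 0 := by decide +kernel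
theorem cnt1_c92 : cntB (fun j => Nat.beq (nxt 4194303 oidA (Nat.mul (92 * 1023 + j) 22)) 2) 1023 = cntW1.getD 92 0 := by decide +kernel
theorem cnt1_c93 : cntB (fun j => Nat.beq (nxt 4194303 oidA (Nat.mul (93 * 1023 + j) 22)) 2) 1023 = cntW1.getD 93 0 := by decide +kernel
theorem cnt1_c94 : cntB (fun j => Nat.beq (nxt 4194303 oidA (Nat.mul (94 * 1023 + j) 22)) 2) 1023 = cntW1.getD 94 0 := by decide +kernel
theorem cnt1_c95 : cntB (fun j => Nat.beq (nxt 4194303 oidA (Nat.mul (95 * 1023 + j) 22)) 2) 1023 = cntW1.getD 95 0 := by decide +kernel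
theorem cnt1_c96 : cntB (fun j => Nat.beq (nxt 4194303 oidA (Nat.mul (96 * 1023 + j) 22)) 2) 1023 = cntW1.getD 96 0 := by decide +kernel
theorem cnt1_c97 : cntB (fun j => Nat.beq (nxt 4194303 oidA (Nat.mul (97 * 1023 + j) 22)) 2) 1023 = cntW1.getD 97 0 := by decide +kernel
theorem cnt1_c98 : cntB (fun j => Nat.beq (nxt 4194303 oidA (Nat.mul (98 * 1023 + j) 22)) 2) 1023 = cntW1.getD 98 0 := by decide +kernel
theorem cnt1_c99 : cntB (fun j => Nat.beq (nxt 4194303 oidA (Nat.mul (99 * 1023 + j) 22)) 2) 1023 = cntW1.getD 99 0 := by decide +kernel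
theorem cnt1_c100 : cntB (fun j => Nat.beq (nxt 4194303 oidA (Nat.mul (100 * 1023 + j) 22)) 2) 1023 = cntW1.getD 100 0 := by decide +kernel
theorem cnt1_c101 : cntB (fun j => Nat.beq (nxt 4194303 oidA (Nat.mul (101 * 1023 + j) 22)) 2) 1023 = cntW1.getD 101 0 := by decide +kernel
theorem cnt1_c102 : cntB (fun j => Nat.beq (nxt 4194303 oidA (Nat.mul (102 * 1023 + j) 22)) 2) 1023 = cntW1.getD 102 0 := by decide +kernel
theorem cnt1_c103 : cntB (fun j => Nat.beq (nxt 4194303 oidA (Nat.mul (103 * 1023 + j) 22)) 2) 1023 = cntW1.getD 103 0 := by decide +kernel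
theorem cnt1_c104 : cntB (fun j => Nat.beq (nxt 4194303 oidA (Nat.mul (104 * 1023 + j) 22)) 2) 1023 = cntW1.getD 104 0 := by decide +kernel
theorem cnt1_c105 : cntB (fun j => Nat.beq (nxt 4194303 oidA (Nat.mul (105 * 1023 + j) 22)) 2) 1023 = cntW1.getD 105 0 := by decide +kernel
theorem cnt1_c106 : cntB (fun j => Nat.beq (nxt 4194303 oidA (Nat.mul (106 * 1023 + j) 22)) 2) 1023 = cntW1.getD 106 0 := by decide +kernel
theorem cnt1_c107 : cntB (fun j => Nat.beq (nxt 4194303 oidA (Nat.mul (107 * 1023 + j) 22)) 2) 1023 = cntW1.getD 107 0 := by decide +kernel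
theorem cnt1_c108 : cntB (fun j => Nat.beq (nxt 4194303 oidA (Nat.mul (108 * 1023 + j) 22)) 2) 1023 = cntW1.getD 108 0 := by decide +kernel
theorem cnt1_c109 : cntB (fun j => Nat.beq (nxt 4194303 oidA (Nat.mul (109 * 1023 + j) 22)) 2) 1023 = cntW1.getD 109 0 := by decide +kernel
theorem cnt1_c110 : cntB (fun j => Nat.beq (nxt 4194303 oidA (Nat.mul (110 * 1023 + j) 22)) 2) 1023 = cntW1.getD 110 0 := by decide +kernel
theorem cnt1_c111 : cntB (fun j => Nat.beq (nxt 4194303 oidA (Nat.mul (111 * 1023 + j) 22)) 2) 1023 = cntW1.getD 111 0 := by decide +kernel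
theorem cnt1_c112 : cntB (fun j => Nat.beq (nxt 4194303 oidA (Nat.mul (112 * 1023 + j) 22)) 2) 1023 = cntW1.getD 112 0 := by decide +kernel
theorem cnt1_c113 : cntB (fun j => Nat.beq (nxt 4194303 oidA (Nat.mul (113 * 1023 + j) 22)) 2) 1023 = cntW1.getD 113 0 := by decide +kernel
theorem cnt1_c114 : cntB (fun j => Nat.beq (nxt 4194303 oidA (Nat.mul (114 * 1023 + j) 22)) 2) 1023 = cntW1.getD 114 0 := by decide +kernel
theorem cnt1_c115 : cntB (fun j => Nat.beq (nxt 4194303 oidA (Nat.mul (115 * 1023 + j) 22)) 2) 1023 = cntW1.getD 115 0 := by decide +kernel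
theorem cnt1_c116 : cntB (fun j => Nat.beq (nxt 4194303 oidA (Nat.mul (116 * 1023 + j) 22)) 2) 1023 = cntW1.getD 116 0 := by decide +kernel
theorem cnt1_c117 : cntB (fun j => Nat.beq (nxt 4194303 oidA (Nat.mul (117 * 1023 + j) 22)) 2) 1023 = cntW1.getD 117 0 := by decide +kernel
theorem cnt1_c118 : cntB (fun j => Nat.beq (nxt 4194303 oidA (Nat.mul (118 * 1023 + j) 22)) 2) 1023 = cntW1.getD 118 0 := by decide +kernel
theorem cnt1_c119 : cntB (fun j => Nat.beq (nxt 4194303 oidA (Nat.mul (119 * 1023 + j) 22)) 2) 1023 = cntW1.getD 119 0 := by decide +kernel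

theorem cnt1 : cntB (fun k => Nat.beq (nxt 4194303 oidA (Nat.mul k 22)) 2) 122760 = 52136 := by
  have h := Cfsg.Agent.Lib.Helper28_CntSplit.cntB_chunks (fun k => Nat.beq (nxt 4194303 oidA (Nat.mul k 22)) 2) 1023
    (fun i => cntW1.getD i 0) 120 (by
      intro i hi
      interval_cases i
      · exact cnt1_c0
      · exact cnt1_c1
      · exact cnt1_c2
      · exact cnt1_c3
      · exact cnt1_c4
      · exact cnt1_c5
      · exact cnt1_c6
      · exact cnt1_c7
      · exact cnt1_c8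
      · exact cnt1_c9
      · exact cnt1_c10
      · exact cnt1_c11
      · exact cnt1_c12
      · exact cnt1_c13
      · exact cnt1_c14
      · exact cnt1_c15
      · exact cnt1_c16
      · exact cnt1_c17
      · exact cnt1_c18
      · exact cnt1_c19
      · exact cnt1_c20
      · exact cnt1_c21
      · exact cnt1_c22
      · exact cnt1_c23
      · exact cnt1_c24
      · exact cnt1_c25
      · exact cnt1_c26
      · exact cnt1_c27
      · exact cnt1_c28
      · exact cnt1_c29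
      · exact cnt1_c30
      · exact cnt1_c31
      · exact cnt1_c32
      · exact cnt1_c33
      · exact cnt1_c34
      · exact cnt1_c35
      · exact cnt1_c36
      · exact cnt1_c37
      · exact cnt1_c38
      · exact cnt1_c39
      · exact cnt1_c40
      · exact cnt1_c41
      · exact cnt1_c42
      · exact cnt1_c43
      · exact cnt1_c44
      · exact cnt1_c45
      · exact cnt1_c46
      · exact cnt1_c47
      · exact cnt1_c48
      · exact cnt1_c49
      · exact cnt1_c50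
      · exact cnt1_c51
      · exact cnt1_c52
      · exact cnt1_c53
      · exact cnt1_c54
      · exact cnt1_c55
      · exact cnt1_c56
      · exact cnt1_c57
      · exact cnt1_c58
      · exact cnt1_c59
      · exact cnt1_c60
      · exact cnt1_c61
      · exact cnt1_c62
      · exact cnt1_c63
      · exact cnt1_c64
      · exact cnt1_c65
      · exact cnt1_c66
      · exact cnt1_c67
      · exact cnt1_c68
      · exact cnt1_c69
      · exact cnt1_c70
      · exact cnt1_c71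
      · exact cnt1_c72
      · exact cnt1_c73
      · exact cnt1_c74
      · exact cnt1_c75
      · exact cnt1_c76
      · exact cnt1_c77
      · exact cnt1_c78
      · exact cnt1_c79
      · exact cnt1_c80
      · exact cnt1_c81
      · exact cnt1_c82
      · exact cnt1_c83
      · exact cnt1_c84
      · exact cnt1_c85
      · exact cnt1_c86
      · exact cnt1_c87
      · exact cnt1_c88
      · exact cnt1_c89
      · exact cnt1_c90
      · exact cnt1_c91
      · exact cnt1_c92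
      · exact cnt1_c93
      · exact cnt1_c94
      · exact cnt1_c95
      · exact cnt1_c96
      · exact cnt1_c97
      · exact cnt1_c98
      · exact cnt1_c99
      · exact cnt1_c100
      · exact cnt1_c101
      · exact cnt1_c102
      · exact cnt1_c103
      · exact cnt1_c104
      · exact cnt1_c105
      · exact cnt1_c106
      · exact cnt1_c107
      · exact cnt1_c108
      · exact cnt1_c109
      · exact cnt1_c110
      · exact cnt1_c111
      · exact cnt1_c112
      · exact cnt1_c113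
      · exact cnt1_c114
      · exact cnt1_c115
      · exact cnt1_c116
      · exact cnt1_c117
      · exact cnt1_c118
      · exact cnt1_c119
      )
  exact h.trans (by decide +kernel)

def cntW2 : List ℕ := [80, 40, 37, 31, 44, 77, 41, 43, 57, 45, 48, 59, 50, 54, 33, 84, 17, 63, 64, 60, 21, 37, 88, 56, 38, 57, 56, 48, 36, 42, 105, 58, 28, 17, 66, 86, 47, 25, 80, 33, 33, 32, 41, 90, 60, 56, 23, 47, 59, 32, 82, 36, 35, 38, 29, 33, 48, 92, 36, 58, 33, 16, 19, 42, 80, 66, 50, 27, 33, 37, 80, 29, 42, 28, 26, 35, 84, 58, 59, 24, 41, 77, 19, 27, 80, 40, 30, 34, 30, 23, 27, 35, 53, 81, 36, 62, 46, 20, 39, 37, 57, 51, 20, 31, 63, 35, 37, 38, 65, 56, 76, 21, 50, 34, 21, 41, 55, 26, 43, 50]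

theorem cnt2_c0 : cntB (fun j => Nat.beq (nxt 4194303 oidA (Nat.mul (0 * 1023 + j) 22)) 3) 1023 = cntW2.getD 0 0 := by decide +kernel
theorem cnt2_c1 : cntB (fun j => Nat.beq (nxt 4194303 oidA (Nat.mul (1 * 1023 + j) 22)) 3) 1023 = cntW2.getD 1 0 := by decide +kernel
theorem cnt2_c2 : cntB (fun j => Nat.beq (nxt 4194303 oidA (Nat.mul (2 * 1023 + j) 22)) 3) 1023 = cntW2.getD 2 0 := by decide +kernel
theorem cnt2_c3 : cntB (fun j => Nat.beq (nxt 4194303 oidA (Nat.mul (3 * 1023 + j) 22)) 3) 1023 = cntW2.getD 3 0 := by decide +kernel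
theorem cnt2_c4 : cntB (fun j => Nat.beq (nxt 4194303 oidA (Nat.mul (4 * 1023 + j) 22)) 3) 1023 = cntW2.getD 4 0 := by decide +kernel
theorem cnt2_c5 : cntB (fun j => Nat.beq (nxt 4194303 oidA (Nat.mul (5 * 1023 + j) 22)) 3) 1023 = cntW2.getD 5 0 := by decide +kernel
theorem cnt2_c6 : cntB (fun j => Nat.beq (nxt 4194303 oidA (Nat.mul (6 * 1023 + j) 22)) 3) 1023 = cntW2.getD 6 0 := by decide +kernel
theorem cnt2_c7 : cntB (fun j => Nat.beq (nxt 4194303 oidA (Nat.mul (7 * 1023 + j) 22)) 3) 1023 = cntW2.getD 7 0 := by decide +kernel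
theorem cnt2_c8 : cntB (fun j => Nat.beq (nxt 4194303 oidA (Nat.mul (8 * 1023 + j) 22)) 3) 1023 = cntW2.getD 8 0 := by decide +kernel
theorem cnt2_c9 : cntB (fun j => Nat.beq (nxt 4194303 oidA (Nat.mul (9 * 1023 + j) 22)) 3) 1023 = cntW2.getD 9 0 := by decide +kernel
theorem cnt2_c10 : cntB (fun j => Nat.beq (nxt 4194303 oidA (Nat.mul (10 * 1023 + j) 22)) 3) 1023 = cntW2.getD 10 0 := by decide +kernel
theorem cnt2_c11 : cntB (fun j => Nat.beq (nxt 4194303 oidA (Nat.mul (11 * 1023 + j) 22)) 3) 1023 = cntW2.getD 11 0 := by decide +kernel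
theorem cnt2_c12 : cntB (fun j => Nat.beq (nxt 4194303 oidA (Nat.mul (12 * 1023 + j) 22)) 3) 1023 = cntW2.getD 12 0 := by decide +kernel
theorem cnt2_c13 : cntB (fun j => Nat.beq (nxt 4194303 oidA (Nat.mul (13 * 1023 + j) 22)) 3) 1023 = cntW2.getD 13 0 := by decide +kernel
theorem cnt2_c14 : cntB (fun j => Nat.beq (nxt 4194303 oidA (Nat.mul (14 * 1023 + j) 22)) 3) 1023 = cntW2.getD 14 0 := by decide +kernel
theorem cnt2_c15 : cntB (fun j => Nat.beq (nxt 4194303 oidA (Nat.mul (15 * 1023 + j) 22)) 3) 1023 = cntW2.getD 15 0 := by decide +kernel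
theorem cnt2_c16 : cntB (fun j => Nat.beq (nxt 4194303 oidA (Nat.mul (16 * 1023 + j) 22)) 3) 1023 = cntW2.getD 16 0 := by decide +kernel
theorem cnt2_c17 : cntB (fun j => Nat.beq (nxt 4194303 oidA (Nat.mul (17 * 1023 + j) 22)) 3) 1023 = cntW2.getD 17 0 := by decide +kernel
theorem cnt2_c18 : cntB (fun j => Nat.beq (nxt 4194303 oidA (Nat.mul (18 * 1023 + j) 22)) 3) 1023 = cntW2.getD 18 0 := by decide +kernel
theorem cnt2_c19 : cntB (fun j => Nat.beq (nxt 4194303 oidA (Nat.mul (19 * 1023 + j) 22)) 3) 1023 = cntW2.getD 19 0 := by decide +kernel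
theorem cnt2_c20 : cntB (fun j => Nat.beq (nxt 4194303 oidA (Nat.mul (20 * 1023 + j) 22)) 3) 1023 = cntW2.getD 20 0 := by decide +kernel
theorem cnt2_c21 : cntB (fun j => Nat.beq (nxt 4194303 oidA (Nat.mul (21 * 1023 + j) 22)) 3) 1023 = cntW2.getD 21 0 := by decide +kernel
theorem cnt2_c22 : cntB (fun j => Nat.beq (nxt 4194303 oidA (Nat.mul (22 * 1023 + j) 22)) 3) 1023 = cntW2.getD 22 0 := by decide +kernel
theorem cnt2_c23 : cntB (fun j => Nat.beq (nxt 4194303 oidA (Nat.mul (23 * 1023 + j) 22)) 3) 1023 = cntW2.getD 23 0 := by decide +kernel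
theorem cnt2_c24 : cntB (fun j => Nat.beq (nxt 4194303 oidA (Nat.mul (24 * 1023 + j) 22)) 3) 1023 = cntW2.getD 24 0 := by decide +kernel
theorem cnt2_c25 : cntB (fun j => Nat.beq (nxt 4194303 oidA (Nat.mul (25 * 1023 + j) 22)) 3) 1023 = cntW2.getD 25 0 := by decide +kernel
theorem cnt2_c26 : cntB (fun j => Nat.beq (nxt 4194303 oidA (Nat.mul (26 * 1023 + j) 22)) 3) 1023 = cntW2.getD 26 0 := by decide +kernel
theorem cnt2_c27 : cntB (fun j => Nat.beq (nxt 4194303 oidA (Nat.mul (27 * 1023 + j) 22)) 3) 1023 = cntW2.getD 27 0 := by decide +kernel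
theorem cnt2_c28 : cntB (fun j => Nat.beq (nxt 4194303 oidA (Nat.mul (28 * 1023 + j) 22)) 3) 1023 = cntW2.getD 28 0 := by decide +kernel
theorem cnt2_c29 : cntB (fun j => Nat.beq (nxt 4194303 oidA (Nat.mul (29 * 1023 + j) 22)) 3) 1023 = cntW2.getD 29 0 := by decide +kernel
theorem cnt2_c30 : cntB (fun j => Nat.beq (nxt 4194303 oidA (Nat.mul (30 * 1023 + j) 22)) 3) 1023 = cntW2.getD 30 0 := by decide +kernel
theorem cnt2_c31 : cntB (fun j => Nat.beq (nxt 4194303 oidA (Nat.mul (31 * 1023 + j) 22)) 3) 1023 = cntW2.getD 31 0 := by decide +kernel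
theorem cnt2_c32 : cntB (fun j => Nat.beq (nxt 4194303 oidA (Nat.mul (32 * 1023 + j) 22)) 3) 1023 = cntW2.getD 32 0 := by decide +kernel
theorem cnt2_c33 : cntB (fun j => Nat.beq (nxt 4194303 oidA (Nat.mul (33 * 1023 + j) 22)) 3) 1023 = cntW2.getD 33 0 := by decide +kernel
theorem cnt2_c34 : cntB (fun j => Nat.beq (nxt 4194303 oidA (Nat.mul (34 * 1023 + j) 22)) 3) 1023 = cntW2.getD 34 0 := by decide +kernel
theorem cnt2_c35 : cntB (fun j => Nat.beq (nxt 4194303 oidA (Nat.mul (35 * 1023 + j) 22)) 3) 1023 = cntW2.getD 35 0 := by decide +kernel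
theorem cnt2_c36 : cntB (fun j => Nat.beq (nxt 4194303 oidA (Nat.mul (36 * 1023 + j) 22)) 3) 1023 = cntW2.getD 36 0 := by decide +kernel
theorem cnt2_c37 : cntB (fun j => Nat.beq (nxt 4194303 oidA (Nat.mul (37 * 1023 + j) 22)) 3) 1023 = cntW2.getD 37 0 := by decide +kernel
theorem cnt2_c38 : cntB (fun j => Nat.beq (nxt 4194303 oidA (Nat.mul (38 * 1023 + j) 22)) 3) 1023 = cntW2.getD 38 0 := by decide +kernel
theorem cnt2_c39 : cntB (fun j => Nat.beq (nxt 4194303 oidA (Nat.mul (39 * 1023 + j) 22)) 3) 1023 = cntW2.getD 39 0 := by decide +kernel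
theorem cnt2_c40 : cntB (fun j => Nat.beq (nxt 4194303 oidA (Nat.mul (40 * 1023 + j) 22)) 3) 1023 = cntW2.getD 40 0 := by decide +kernel
theorem cnt2_c41 : cntB (fun j => Nat.beq (nxt 4194303 oidA (Nat.mul (41 * 1023 + j) 22)) 3) 1023 = cntW2.getD 41 0 := by decide +kernel
theorem cnt2_c42 : cntB (fun j => Nat.beq (nxt 4194303 oidA (Nat.mul (42 * 1023 + j) 22)) 3) 1023 = cntW2.getD 42 0 := by decide +kernel
theorem cnt2_c43 : cntB (fun j => Nat.beq (nxt 4194303 oidA (Nat.mul (43 * 1023 + j) 22)) 3) 1023 = cntW2.getD 43 0 := by decide +kernel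
theorem cnt2_c44 : cntB (fun j => Nat.beq (nxt 4194303 oidA (Nat.mul (44 * 1023 + j) 22)) 3) 1023 = cntW2.getD 44 0 := by decide +kernel
theorem cnt2_c45 : cntB (fun j => Nat.beq (nxt 4194303 oidA (Nat.mul (45 * 1023 + j) 22)) 3) 1023 = cntW2.getD 45 0 := by decide +kernel
theorem cnt2_c46 : cntB (fun j => Nat.beq (nxt 4194303 oidA (Nat.mul (46 * 1023 + j) 22)) 3) 1023 = cntW2.getD 46 0 := by decide +kernel
theorem cnt2_c47 : cntB (fun j => Nat.beq (nxt 4194303 oidA (Nat.mul (47 * 1023 + j) 22)) 3) 1023 = cntW2.getD 47 0 := by decide +kernel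
theorem cnt2_c48 : cntB (fun j => Nat.beq (nxt 4194303 oidA (Nat.mul (48 * 1023 + j) 22)) 3) 1023 = cntW2.getD 48 0 := by decide +kernel
theorem cnt2_c49 : cntB (fun j => Nat.beq (nxt 4194303 oidA (Nat.mul (49 * 1023 + j) 22)) 3) 1023 = cntW2.getD 49 0 := by decide +kernel
theorem cnt2_c50 : cntB (fun j => Nat.beq (nxt 4194303 oidA (Nat.mul (50 * 1023 + j) 22)) 3) 1023 = cntW2.getD 50 0 := by decide +kernel
theorem cnt2_c51 : cntB (fun j => Nat.beq (nxt 4194303 oidA (Nat.mul (51 * 1023 + j) 22)) 3) 1023 = cntW2.getD 51 0 := by decide +kernel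
theorem cnt2_c52 : cntB (fun j => Nat.beq (nxt 4194303 oidA (Nat.mul (52 * 1023 + j) 22)) 3) 1023 = cntW2.getD 52 0 := by decide +kernel
theorem cnt2_c53 : cntB (fun j => Nat.beq (nxt 4194303 oidA (Nat.mul (53 * 1023 + j) 22)) 3) 1023 = cntW2.getD 53 0 := by decide +kernel
theorem cnt2_c54 : cntB (fun j => Nat.beq (nxt 4194303 oidA (Nat.mul (54 * 1023 + j) 22)) 3) 1023 = cntW2.getD 54 0 := by decide +kernel
theorem cnt2_c55 : cntB (fun j => Nat.beq (nxt 4194303 oidA (Nat.mul (55 * 1023 + j) 22)) 3) 1023 = cntW2.getD 55 0 := by decide +kernel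
theorem cnt2_c56 : cntB (fun j => Nat.beq (nxt 4194303 oidA (Nat.mul (56 * 1023 + j) 22)) 3) 1023 = cntW2.getD 56 0 := by decide +kernel
theorem cnt2_c57 : cntB (fun j => Nat.beq (nxt 4194303 oidA (Nat.mul (57 * 1023 + j) 22)) 3) 1023 = cntW2.getD 57 0 := by decide +kernel
theorem cnt2_c58 : cntB (fun j => Nat.beq (nxt 4194303 oidA (Nat.mul (58 * 1023 + j) 22)) 3) 1023 = cntW2.getD 58 0 := by decide +kernel
theorem cnt2_c59 : cntB (fun j => Nat.beq (nxt 4194303 oidA (Nat.mul (59 * 1023 + j) 22)) 3) 1023 = cntW2.getD 59 0 := by decide +kernel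
theorem cnt2_c60 : cntB (fun j => Nat.beq (nxt 4194303 oidA (Nat.mul (60 * 1023 + j) 22)) 3) 1023 = cntW2.getD 60 0 := by decide +kernel
theorem cnt2_c61 : cntB (fun j => Nat.beq (nxt 4194303 oidA (Nat.mul (61 * 1023 + j) 22)) 3) 1023 = cntW2.getD 61 0 := by decide +kernel
theorem cnt2_c62 : cntB (fun j => Nat.beq (nxt 4194303 oidA (Nat.mul (62 * 1023 + j) 22)) 3) 1023 = cntW2.getD 62 0 := by decide +kernel
theorem cnt2_c63 : cntB (fun j => Nat.beq (nxt 4194303 oidA (Nat.mul (63 * 1023 + j) 22)) 3) 1023 = cntW2.getD 63 0 := by decide +kernel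
theorem cnt2_c64 : cntB (fun j => Nat.beq (nxt 4194303 oidA (Nat.mul (64 * 1023 + j) 22)) 3) 1023 = cntW2.getD 64 0 := by decide +kernel
theorem cnt2_c65 : cntB (fun j => Nat.beq (nxt 4194303 oidA (Nat.mul (65 * 1023 + j) 22)) 3) 1023 = cntW2.getD 65 0 := by decide +kernel
theorem cnt2_c66 : cntB (fun j => Nat.beq (nxt 4194303 oidA (Nat.mul (66 * 1023 + j) 22)) 3) 1023 = cntW2.getD 66 0 := by decide +kernel
theorem cnt2_c67 : cntB (fun j => Nat.beq (nxt 4194303 oidA (Nat.mul (67 * 1023 + j) 22)) 3) 1023 = cntW2.getD 67 0 := by decide +kernel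
theorem cnt2_c68 : cntB (fun j => Nat.beq (nxt 4194303 oidA (Nat.mul (68 * 1023 + j) 22)) 3) 1023 = cntW2.getD 68 0 := by decide +kernel
theorem cnt2_c69 : cntB (fun j => Nat.beq (nxt 4194303 oidA (Nat.mul (69 * 1023 + j) 22)) 3) 1023 = cntW2.getD 69 0 := by decide +kernel
theorem cnt2_c70 : cntB (fun j => Nat.beq (nxt 4194303 oidA (Nat.mul (70 * 1023 + j) 22)) 3) 1023 = cntW2.getD 70 0 := by decide +kernel
theorem cnt2_c71 : cntB (fun j => Nat.beq (nxt 4194303 oidA (Nat.mul (71 * 1023 + j) 22)) 3) 1023 = cntW2.getD 71 0 := by decide +kernel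
theorem cnt2_c72 : cntB (fun j => Nat.beq (nxt 4194303 oidA (Nat.mul (72 * 1023 + j) 22)) 3) 1023 = cntW2.getD 72 0 := by decide +kernel
theorem cnt2_c73 : cntB (fun j => Nat.beq (nxt 4194303 oidA (Nat.mul (73 * 1023 + j) 22)) 3) 1023 = cntW2.getD 73 0 := by decide +kernel
theorem cnt2_c74 : cntB (fun j => Nat.beq (nxt 4194303 oidA (Nat.mul (74 * 1023 + j) 22)) 3) 1023 = cntW2.getD 74 0 := by decide +kernel
theorem cnt2_c75 : cntB (fun j => Nat.beq (nxt 4194303 oidA (Nat.mul (75 * 1023 + j) 22)) 3) 1023 = cntW2.getD 75 0 := by decide +kernel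
theorem cnt2_c76 : cntB (fun j => Nat.beq (nxt 4194303 oidA (Nat.mul (76 * 1023 + j) 22)) 3) 1023 = cntW2.getD 76 0 := by decide +kernel
theorem cnt2_c77 : cntB (fun j => Nat.beq (nxt 4194303 oidA (Nat.mul (77 * 1023 + j) 22)) 3) 1023 = cntW2.getD 77 0 := by decide +kernel
theorem cnt2_c78 : cntB (fun j => Nat.beq (nxt 4194303 oidA (Nat.mul (78 * 1023 + j) 22)) 3) 1023 = cntW2.getD 78 0 := by decide +kernel
theorem cnt2_c79 : cntB (fun j => Nat.beq (nxt 4194303 oidA (Nat.mul (79 * 1023 + j) 22)) 3) 1023 = cntW2.getD 79 0 := by decide +kernel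
theorem cnt2_c80 : cntB (fun j => Nat.beq (nxt 4194303 oidA (Nat.mul (80 * 1023 + j) 22)) 3) 1023 = cntW2.getD 80 0 := by decide +kernel
theorem cnt2_c81 : cntB (fun j => Nat.beq (nxt 4194303 oidA (Nat.mul (81 * 1023 + j) 22)) 3) 1023 = cntW2.getD 81 0 := by decide +kernel
theorem cnt2_c82 : cntB (fun j => Nat.beq (nxt 4194303 oidA (Nat.mul (82 * 1023 + j) 22)) 3) 1023 = cntW2.getD 82 0 := by decide +kernel
theorem cnt2_c83 : cntB (fun j => Nat.beq (nxt 4194303 oidA (Nat.mul (83 * 1023 + j) 22)) 3) 1023 = cntW2.getD 83 0 := by decide +kernel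
theorem cnt2_c84 : cntB (fun j => Nat.beq (nxt 4194303 oidA (Nat.mul (84 * 1023 + j) 22)) 3) 1023 = cntW2.getD 84 0 := by decide +kernel
theorem cnt2_c85 : cntB (fun j => Nat.beq (nxt 4194303 oidA (Nat.mul (85 * 1023 + j) 22)) 3) 1023 = cntW2.getD 85 0 := by decide +kernel
theorem cnt2_c86 : cntB (fun j => Nat.beq (nxt 4194303 oidA (Nat.mul (86 * 1023 + j) 22)) 3) 1023 = cntW2.getD 86 0 := by decide +kernel
theorem cnt2_c87 : cntB (fun j => Nat.beq (nxt 4194303 oidA (Nat.mul (87 * 1023 + j) 22)) 3) 1023 = cntW2.getD 87 0 := by decide +kernel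
theorem cnt2_c88 : cntB (fun j => Nat.beq (nxt 4194303 oidA (Nat.mul (88 * 1023 + j) 22)) 3) 1023 = cntW2.getD 88 0 := by decide +kernel
theorem cnt2_c89 : cntB (fun j => Nat.beq (nxt 4194303 oidA (Nat.mul (89 * 1023 + j) 22)) 3) 1023 = cntW2.getD 89 0 := by decide +kernel
theorem cnt2_c90 : cntB (fun j => Nat.beq (nxt 4194303 oidA (Nat.mul (90 * 1023 + j) 22)) 3) 1023 = cntW2.getD 90 0 := by decide +kernel
theorem cnt2_c91 : cntB (fun j => Nat.beq (nxt 4194303 oidA (Nat.mul (91 * 1023 + j) 22)) 3) 1023 = cntW2.getD 91 0 := by decide +kernel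
theorem cnt2_c92 : cntB (fun j => Nat.beq (nxt 4194303 oidA (Nat.mul (92 * 1023 + j) 22)) 3) 1023 = cntW2.getD 92 0 := by decide +kernel
theorem cnt2_c93 : cntB (fun j => Nat.beq (nxt 4194303 oidA (Nat.mul (93 * 1023 + j) 22)) 3) 1023 = cntW2.getD 93 0 := by decide +kernel
theorem cnt2_c94 : cntB (fun j => Nat.beq (nxt 4194303 oidA (Nat.mul (94 * 1023 + j) 22)) 3) 1023 = cntW2.getD 94 0 := by decide +kernel
theorem cnt2_c95 : cntB (fun j => Nat.beq (nxt 4194303 oidA (Nat.mul (95 * 1023 + j) 22)) 3) 1023 = cntW2.getD 95 0 := by decide +kernel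
theorem cnt2_c96 : cntB (fun j => Nat.beq (nxt 4194303 oidA (Nat.mul (96 * 1023 + j) 22)) 3) 1023 = cntW2.getD 96 0 := by decide +kernel
theorem cnt2_c97 : cntB (fun j => Nat.beq (nxt 4194303 oidA (Nat.mul (97 * 1023 + j) 22)) 3) 1023 = cntW2.getD 97 0 := by decide +kernel
theorem cnt2_c98 : cntB (fun j => Nat.beq (nxt 4194303 oidA (Nat.mul (98 * 1023 + j) 22)) 3) 1023 = cntW2.getD 98 0 := by decide +kernel
theorem cnt2_c99 : cntB (fun j => Nat.beq (nxt 4194303 oidA (Nat.mul (99 * 1023 + j) 22)) 3) 1023 = cntW2.getD 99 0 := by decide +kernel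
theorem cnt2_c100 : cntB (fun j => Nat.beq (nxt 4194303 oidA (Nat.mul (100 * 1023 + j) 22)) 3) 1023 = cntW2.getD 100 0 := by decide +kernel
theorem cnt2_c101 : cntB (fun j => Nat.beq (nxt 4194303 oidA (Nat.mul (101 * 1023 + j) 22)) 3) 1023 = cntW2.getD 101 0 := by decide +kernel
theorem cnt2_c102 : cntB (fun j => Nat.beq (nxt 4194303 oidA (Nat.mul (102 * 1023 + j) 22)) 3) 1023 = cntW2.getD 102 0 := by decide +kernel
theorem cnt2_c103 : cntB (fun j => Nat.beq (nxt 4194303 oidA (Nat.mul (103 * 1023 + j) 22)) 3) 1023 = cntW2.getD 103 0 := by decide +kernel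
theorem cnt2_c104 : cntB (fun j => Nat.beq (nxt 4194303 oidA (Nat.mul (104 * 1023 + j) 22)) 3) 1023 = cntW2.getD 104 0 := by decide +kernel
theorem cnt2_c105 : cntB (fun j => Nat.beq (nxt 4194303 oidA (Nat.mul (105 * 1023 + j) 22)) 3) 1023 = cntW2.getD 105 0 := by decide +kernel
theorem cnt2_c106 : cntB (fun j => Nat.beq (nxt 4194303 oidA (Nat.mul (106 * 1023 + j) 22)) 3) 1023 = cntW2.getD 106 0 := by decide +kernel
theorem cnt2_c107 : cntB (fun j => Nat.beq (nxt 4194303 oidA (Nat.mul (107 * 1023 + j) 22)) 3) 1023 = cntW2.getD 107 0 := by decide +kernel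
theorem cnt2_c108 : cntB (fun j => Nat.beq (nxt 4194303 oidA (Nat.mul (108 * 1023 + j) 22)) 3) 1023 = cntW2.getD 108 0 := by decide +kernel
theorem cnt2_c109 : cntB (fun j => Nat.beq (nxt 4194303 oidA (Nat.mul (109 * 1023 + j) 22)) 3) 1023 = cntW2.getD 109 0 := by decide +kernel
theorem cnt2_c110 : cntB (fun j => Nat.beq (nxt 4194303 oidA (Nat.mul (110 * 1023 + j) 22)) 3) 1023 = cntW2.getD 110 0 := by decide +kernel
theorem cnt2_c111 : cntB (fun j => Nat.beq (nxt 4194303 oidA (Nat.mul (111 * 1023 + j) 22)) 3) 1023 = cntW2.getD 111 0 := by decide +kernel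
theorem cnt2_c112 : cntB (fun j => Nat.beq (nxt 4194303 oidA (Nat.mul (112 * 1023 + j) 22)) 3) 1023 = cntW2.getD 112 0 := by decide +kernel
theorem cnt2_c113 : cntB (fun j => Nat.beq (nxt 4194303 oidA (Nat.mul (113 * 1023 + j) 22)) 3) 1023 = cntW2.getD 113 0 := by decide +kernel
theorem cnt2_c114 : cntB (fun j => Nat.beq (nxt 4194303 oidA (Nat.mul (114 * 1023 + j) 22)) 3) 1023 = cntW2.getD 114 0 := by decide +kernel
theorem cnt2_c115 : cntB (fun j => Nat.beq (nxt 4194303 oidA (Nat.mul (115 * 1023 + j) 22)) 3) 1023 = cntW2.getD 115 0 := by decide +kernel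
theorem cnt2_c116 : cntB (fun j => Nat.beq (nxt 4194303 oidA (Nat.mul (116 * 1023 + j) 22)) 3) 1023 = cntW2.getD 116 0 := by decide +kernel
theorem cnt2_c117 : cntB (fun j => Nat.beq (nxt 4194303 oidA (Nat.mul (117 * 1023 + j) 22)) 3) 1023 = cntW2.getD 117 0 := by decide +kernel
theorem cnt2_c118 : cntB (fun j => Nat.beq (nxt 4194303 oidA (Nat.mul (118 * 1023 + j) 22)) 3) 1023 = cntW2.getD 118 0 := by decide +kernel
theorem cnt2_c119 : cntB (fun j => Nat.beq (nxt 4194303 oidA (Nat.mul (119 * 1023 + j) 22)) 3) 1023 = cntW2.getD 119 0 := by decide +kernel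

theorem cnt2 : cntB (fun k => Nat.beq (nxt 4194303 oidA (Nat.mul k 22)) 3) 122760 = 5586 := by
  have h := Cfsg.Agent.Lib.Helper28_CntSplit.cntB_chunks (fun k => Nat.beq (nxt 4194303 oidA (Nat.mul k 22)) 3) 1023
    (fun i => cntW2.getD i 0) 120 (by
      intro i hi
      interval_cases i
      · exact cnt2_c0
      · exact cnt2_c1
      · exact cnt2_c2
      · exact cnt2_c3
      · exact cnt2_c4
      · exact cnt2_c5
      · exact cnt2_c6
      · exact cnt2_c7
      · exact cnt2_c8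
      · exact cnt2_c9
      · exact cnt2_c10
      · exact cnt2_c11
      · exact cnt2_c12
      · exact cnt2_c13
      · exact cnt2_c14
      · exact cnt2_c15
      · exact cnt2_c16
      · exact cnt2_c17
      · exact cnt2_c18
      · exact cnt2_c19
      · exact cnt2_c20
      · exact cnt2_c21
      · exact cnt2_c22
      · exact cnt2_c23
      · exact cnt2_c24
      · exact cnt2_c25
      · exact cnt2_c26
      · exact cnt2_c27
      · exact cnt2_c28
      · exact cnt2_c29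
      · exact cnt2_c30
      · exact cnt2_c31
      · exact cnt2_c32
      · exact cnt2_c33
      · exact cnt2_c34
      · exact cnt2_c35
      · exact cnt2_c36
      · exact cnt2_c37
      · exact cnt2_c38
      · exact cnt2_c39
      · exact cnt2_c40
      · exact cnt2_c41
      · exact cnt2_c42
      · exact cnt2_c43
      · exact cnt2_c44
      · exact cnt2_c45
      · exact cnt2_c46
      · exact cnt2_c47
      · exact cnt2_c48
      · exact cnt2_c49
      · exact cnt2_c50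
      · exact cnt2_c51
      · exact cnt2_c52
      · exact cnt2_c53
      · exact cnt2_c54
      · exact cnt2_c55
      · exact cnt2_c56
      · exact cnt2_c57
      · exact cnt2_c58
      · exact cnt2_c59
      · exact cnt2_c60
      · exact cnt2_c61
      · exact cnt2_c62
      · exact cnt2_c63
      · exact cnt2_c64
      · exact cnt2_c65
      · exact cnt2_c66
      · exact cnt2_c67
      · exact cnt2_c68
      · exact cnt2_c69
      · exact cnt2_c70
      · exact cnt2_c71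
      · exact cnt2_c72
      · exact cnt2_c73
      · exact cnt2_c74
      · exact cnt2_c75
      · exact cnt2_c76
      · exact cnt2_c77
      · exact cnt2_c78
      · exact cnt2_c79
      · exact cnt2_c80
      · exact cnt2_c81
      · exact cnt2_c82
      · exact cnt2_c83
      · exact cnt2_c84
      · exact cnt2_c85
      · exact cnt2_c86
      · exact cnt2_c87
      · exact cnt2_c88
      · exact cnt2_c89
      · exact cnt2_c90
      · exact cnt2_c91
      · exact cnt2_c92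
      · exact cnt2_c93
      · exact cnt2_c94
      · exact cnt2_c95
      · exact cnt2_c96
      · exact cnt2_c97
      · exact cnt2_c98
      · exact cnt2_c99
      · exact cnt2_c100
      · exact cnt2_c101
      · exact cnt2_c102
      · exact cnt2_c103
      · exact cnt2_c104
      · exact cnt2_c105
      · exact cnt2_c106
      · exact cnt2_c107
      · exact cnt2_c108
      · exact cnt2_c109
      · exact cnt2_c110
      · exact cnt2_c111
      · exact cnt2_c112
      · exact cnt2_c113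
      · exact cnt2_c114
      · exact cnt2_c115
      · exact cnt2_c116
      · exact cnt2_c117
      · exact cnt2_c118
      · exact cnt2_c119
      )
  exact h.trans (by decide +kernel)

def cntW3 : List ℕ := [154, 131, 96, 109, 75, 72, 71, 78, 68, 59, 60, 7, 67, 49, 63, 65, 96, 48, 11, 74, 30, 67, 26, 7, 69, 48, 39, 55, 69, 36, 35, 106, 68, 66, 64, 15, 12, 62, 46, 62, 29, 53, 82, 58, 10, 16, 79, 71, 37, 64, 15, 26, 77, 75, 50, 28, 69, 28, 105, 90, 57, 104, 32, 98, 23, 22, 20, 7, 83, 32, 77, 50, 65, 55, 132, 84, 56, 21, 28, 78, 93, 39, 39, 72, 38, 9, 37, 69, 43, 69, 38, 32, 70, 32, 50, 70, 53, 71, 65, 69, 19, 11, 34, 49, 62, 54, 40, 77, 38, 36, 59, 16, 34, 19, 47, 15, 28, 37, 22, 8]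

theorem cnt3_c0 : cntB (fun j => Nat.beq (nxt 4194303 oidA (Nat.mul (0 * 1023 + j) 22)) 4) 1023 = cntW3.getD 0 0 := by decide +kernel
theorem cnt3_c1 : cntB (fun j => Nat.beq (nxt 4194303 oidA (Nat.mul (1 * 1023 + j) 22)) 4) 1023 = cntW3.getD 1 0 := by decide +kernel
theorem cnt3_c2 : cntB (fun j => Nat.beq (nxt 4194303 oidA (Nat.mul (2 * 1023 + j) 22)) 4) 1023 = cntW3.getD 2 0 := by decide +kernel
theorem cnt3_c3 : cntB (fun j => Nat.beq (nxt 4194303 oidA (Nat.mul (3 * 1023 + j) 22)) 4) 1023 = cntW3.getD 3 0 := by decide +kernel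
theorem cnt3_c4 : cntB (fun j => Nat.beq (nxt 4194303 oidA (Nat.mul (4 * 1023 + j) 22)) 4) 1023 = cntW3.getD 4 0 := by decide +kernel
theorem cnt3_c5 : cntB (fun j => Nat.beq (nxt 4194303 oidA (Nat.mul (5 * 1023 + j) 22)) 4) 1023 = cntW3.getD 5 0 := by decide +kernel
theorem cnt3_c6 : cntB (fun j => Nat.beq (nxt 4194303 oidA (Nat.mul (6 * 1023 + j) 22)) 4) 1023 = cntW3.getD 6 0 := by decide +kernel
theorem cnt3_c7 : cntB (fun j => Nat.beq (nxt 4194303 oidA (Nat.mul (7 * 1023 + j) 22)) 4) 1023 = cntW3.getD 7 0 := by decide +kernel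
theorem cnt3_c8 : cntB (fun j => Nat.beq (nxt 4194303 oidA (Nat.mul (8 * 1023 + j) 22)) 4) 1023 = cntW3.getD 8 0 := by decide +kernel
theorem cnt3_c9 : cntB (fun j => Nat.beq (nxt 4194303 oidA (Nat.mul (9 * 1023 + j) 22)) 4) 1023 = cntW3.getD 9 0 := by decide +kernel
theorem cnt3_c10 : cntB (fun j => Nat.beq (nxt 4194303 oidA (Nat.mul (10 * 1023 + j) 22)) 4) 1023 = cntW3.getD 10 0 := by decide +kernel
theorem cnt3_c11 : cntB (fun j => Nat.beq (nxt 4194303 oidA (Nat.mul (11 * 1023 + j) 22)) 4) 1023 = cntW3.getD 11 0 := by decide +kernel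
theorem cnt3_c12 : cntB (fun j => Nat.beq (nxt 4194303 oidA (Nat.mul (12 * 1023 + j) 22)) 4) 1023 = cntW3.getD 12 0 := by decide +kernel
theorem cnt3_c13 : cntB (fun j => Nat.beq (nxt 4194303 oidA (Nat.mul (13 * 1023 + j) 22)) 4) 1023 = cntW3.getD 13 0 := by decide +kernel
theorem cnt3_c14 : cntB (fun j => Nat.beq (nxt 4194303 oidA (Nat.mul (14 * 1023 + j) 22)) 4) 1023 = cntW3.getD 14 0 := by decide +kernel
theorem cnt3_c15 : cntB (fun j => Nat.beq (nxt 4194303 oidA (Nat.mul (15 * 1023 + j) 22)) 4) 1023 = cntW3.getD 15 0 := by decide +kernel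
theorem cnt3_c16 : cntB (fun j => Nat.beq (nxt 4194303 oidA (Nat.mul (16 * 1023 + j) 22)) 4) 1023 = cntW3.getD 16 0 := by decide +kernel
theorem cnt3_c17 : cntB (fun j => Nat.beq (nxt 4194303 oidA (Nat.mul (17 * 1023 + j) 22)) 4) 1023 = cntW3.getD 17 0 := by decide +kernel
theorem cnt3_c18 : cntB (fun j => Nat.beq (nxt 4194303 oidA (Nat.mul (18 * 1023 + j) 22)) 4) 1023 = cntW3.getD 18 0 := by decide +kernel
theorem cnt3_c19 : cntB (fun j => Nat.beq (nxt 4194303 oidA (Nat.mul (19 * 1023 + j) 22)) 4) 1023 = cntW3.getD 19 0 := by decide +kernel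
theorem cnt3_c20 : cntB (fun j => Nat.beq (nxt 4194303 oidA (Nat.mul (20 * 1023 + j) 22)) 4) 1023 = cntW3.getD 20 0 := by decide +kernel
theorem cnt3_c21 : cntB (fun j => Nat.beq (nxt 4194303 oidA (Nat.mul (21 * 1023 + j) 22)) 4) 1023 = cntW3.getD 21 0 := by decide +kernel
theorem cnt3_c22 : cntB (fun j => Nat.beq (nxt 4194303 oidA (Nat.mul (22 * 1023 + j) 22)) 4) 1023 = cntW3.getD 22 0 := by decide +kernel
theorem cnt3_c23 : cntB (fun j => Nat.beq (nxt 4194303 oidA (Nat.mul (23 * 1023 + j) 22)) 4) 1023 = cntW3.getD 23 0 := by decide +kernel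
theorem cnt3_c24 : cntB (fun j => Nat.beq (nxt 4194303 oidA (Nat.mul (24 * 1023 + j) 22)) 4) 1023 = cntW3.getD 24 0 := by decide +kernel
theorem cnt3_c25 : cntB (fun j => Nat.beq (nxt 4194303 oidA (Nat.mul (25 * 1023 + j) 22)) 4) 1023 = cntW3.getD 25 0 := by decide +kernel
theorem cnt3_c26 : cntB (fun j => Nat.beq (nxt 4194303 oidA (Nat.mul (26 * 1023 + j) 22)) 4) 1023 = cntW3.getD 26 0 := by decide +kernel
theorem cnt3_c27 : cntB (fun j => Nat.beq (nxt 4194303 oidA (Nat.mul (27 * 1023 + j) 22)) 4) 1023 = cntW3.getD 27 0 := by decide +kernel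
theorem cnt3_c28 : cntB (fun j => Nat.beq (nxt 4194303 oidA (Nat.mul (28 * 1023 + j) 22)) 4) 1023 = cntW3.getD 28 0 := by decide +kernel
theorem cnt3_c29 : cntB (fun j => Nat.beq (nxt 4194303 oidA (Nat.mul (29 * 1023 + j) 22)) 4) 1023 = cntW3.getD 29 0 := by decide +kernel
theorem cnt3_c30 : cntB (fun j => Nat.beq (nxt 4194303 oidA (Nat.mul (30 * 1023 + j) 22)) 4) 1023 = cntW3.getD 30 0 := by decide +kernel
theorem cnt3_c31 : cntB (fun j => Nat.beq (nxt 4194303 oidA (Nat.mul (31 * 1023 + j) 22)) 4) 1023 = cntW3.getD 31 0 := by decide +kernel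
theorem cnt3_c32 : cntB (fun j => Nat.beq (nxt 4194303 oidA (Nat.mul (32 * 1023 + j) 22)) 4) 1023 = cntW3.getD 32 0 := by decide +kernel
theorem cnt3_c33 : cntB (fun j => Nat.beq (nxt 4194303 oidA (Nat.mul (33 * 1023 + j) 22)) 4) 1023 = cntW3.getD 33 0 := by decide +kernel
theorem cnt3_c34 : cntB (fun j => Nat.beq (nxt 4194303 oidA (Nat.mul (34 * 1023 + j) 22)) 4) 1023 = cntW3.getD 34 0 := by decide +kernel
theorem cnt3_c35 : cntB (fun j => Nat.beq (nxt 4194303 oidA (Nat.mul (35 * 1023 + j) 22)) 4) 1023 = cntW3.getD 35 0 := by decide +kernel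
theorem cnt3_c36 : cntB (fun j => Nat.beq (nxt 4194303 oidA (Nat.mul (36 * 1023 + j) 22)) 4) 1023 = cntW3.getD 36 0 := by decide +kernel
theorem cnt3_c37 : cntB (fun j => Nat.beq (nxt 4194303 oidA (Nat.mul (37 * 1023 + j) 22)) 4) 1023 = cntW3.getD 37 0 := by decide +kernel
theorem cnt3_c38 : cntB (fun j => Nat.beq (nxt 4194303 oidA (Nat.mul (38 * 1023 + j) 22)) 4) 1023 = cntW3.getD 38 0 := by decide +kernel
theorem cnt3_c39 : cntB (fun j => Nat.beq (nxt 4194303 oidA (Nat.mul (39 * 1023 + j) 22)) 4) 1023 = cntW3.getD 39 0 := by decide +kernel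
theorem cnt3_c40 : cntB (fun j => Nat.beq (nxt 4194303 oidA (Nat.mul (40 * 1023 + j) 22)) 4) 1023 = cntW3.getD 40 0 := by decide +kernel
theorem cnt3_c41 : cntB (fun j => Nat.beq (nxt 4194303 oidA (Nat.mul (41 * 1023 + j) 22)) 4) 1023 = cntW3.getD 41 0 := by decide +kernel
theorem cnt3_c42 : cntB (fun j => Nat.beq (nxt 4194303 oidA (Nat.mul (42 * 1023 + j) 22)) 4) 1023 = cntW3.getD 42 0 := by decide +kernel
theorem cnt3_c43 : cntB (fun j => Nat.beq (nxt 4194303 oidA (Nat.mul (43 * 1023 + j) 22)) 4) 1023 = cntW3.getD 43 0 := by decide +kernel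
theorem cnt3_c44 : cntB (fun j => Nat.beq (nxt 4194303 oidA (Nat.mul (44 * 1023 + j) 22)) 4) 1023 = cntW3.getD 44 0 := by decide +kernel
theorem cnt3_c45 : cntB (fun j => Nat.beq (nxt 4194303 oidA (Nat.mul (45 * 1023 + j) 22)) 4) 1023 = cntW3.getD 45 0 := by decide +kernel
theorem cnt3_c46 : cntB (fun j => Nat.beq (nxt 4194303 oidA (Nat.mul (46 * 1023 + j) 22)) 4) 1023 = cntW3.getD 46 0 := by decide +kernel
theorem cnt3_c47 : cntB (fun j => Nat.beq (nxt 4194303 oidA (Nat.mul (47 * 1023 + j) 22)) 4) 1023 = cntW3.getD 47 0 := by decide +kernel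
theorem cnt3_c48 : cntB (fun j => Nat.beq (nxt 4194303 oidA (Nat.mul (48 * 1023 + j) 22)) 4) 1023 = cntW3.getD 48 0 := by decide +kernel
theorem cnt3_c49 : cntB (fun j => Nat.beq (nxt 4194303 oidA (Nat.mul (49 * 1023 + j) 22)) 4) 1023 = cntW3.getD 49 0 := by decide +kernel
theorem cnt3_c50 : cntB (fun j => Nat.beq (nxt 4194303 oidA (Nat.mul (50 * 1023 + j) 22)) 4) 1023 = cntW3.getD 50 0 := by decide +kernel
theorem cnt3_c51 : cntB (fun j => Nat.beq (nxt 4194303 oidA (Nat.mul (51 * 1023 + j) 22)) 4) 1023 = cntW3.getD 51 0 := by decide +kernel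
theorem cnt3_c52 : cntB (fun j => Nat.beq (nxt 4194303 oidA (Nat.mul (52 * 1023 + j) 22)) 4) 1023 = cntW3.getD 52 0 := by decide +kernel
theorem cnt3_c53 : cntB (fun j => Nat.beq (nxt 4194303 oidA (Nat.mul (53 * 1023 + j) 22)) 4) 1023 = cntW3.getD 53 0 := by decide +kernel
theorem cnt3_c54 : cntB (fun j => Nat.beq (nxt 4194303 oidA (Nat.mul (54 * 1023 + j) 22)) 4) 1023 = cntW3.getD 54 0 := by decide +kernel
theorem cnt3_c55 : cntB (fun j => Nat.beq (nxt 4194303 oidA (Nat.mul (55 * 1023 + j) 22)) 4) 1023 = cntW3.getD 55 0 := by decide +kernel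
theorem cnt3_c56 : cntB (fun j => Nat.beq (nxt 4194303 oidA (Nat.mul (56 * 1023 + j) 22)) 4) 1023 = cntW3.getD 56 0 := by decide +kernel
theorem cnt3_c57 : cntB (fun j => Nat.beq (nxt 4194303 oidA (Nat.mul (57 * 1023 + j) 22)) 4) 1023 = cntW3.getD 57 0 := by decide +kernel
theorem cnt3_c58 : cntB (fun j => Nat.beq (nxt 4194303 oidA (Nat.mul (58 * 1023 + j) 22)) 4) 1023 = cntW3.getD 58 0 := by decide +kernel
theorem cnt3_c59 : cntB (fun j => Nat.beq (nxt 4194303 oidA (Nat.mul (59 * 1023 + j) 22)) 4) 1023 = cntW3.getD 59 0 := by decide +kernel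
theorem cnt3_c60 : cntB (fun j => Nat.beq (nxt 4194303 oidA (Nat.mul (60 * 1023 + j) 22)) 4) 1023 = cntW3.getD 60 0 := by decide +kernel
theorem cnt3_c61 : cntB (fun j => Nat.beq (nxt 4194303 oidA (Nat.mul (61 * 1023 + j) 22)) 4) 1023 = cntW3.getD 61 0 := by decide +kernel
theorem cnt3_c62 : cntB (fun j => Nat.beq (nxt 4194303 oidA (Nat.mul (62 * 1023 + j) 22)) 4) 1023 = cntW3.getD 62 0 := by decide +kernel
theorem cnt3_c63 : cntB (fun j => Nat.beq (nxt 4194303 oidA (Nat.mul (63 * 1023 + j) 22)) 4) 1023 = cntW3.getD 63 0 := by decide +kernel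
theorem cnt3_c64 : cntB (fun j => Nat.beq (nxt 4194303 oidA (Nat.mul (64 * 1023 + j) 22)) 4) 1023 = cntW3.getD 64 0 := by decide +kernel
theorem cnt3_c65 : cntB (fun j => Nat.beq (nxt 4194303 oidA (Nat.mul (65 * 1023 + j) 22)) 4) 1023 = cntW3.getD 65 0 := by decide +kernel
theorem cnt3_c66 : cntB (fun j => Nat.beq (nxt 4194303 oidA (Nat.mul (66 * 1023 + j) 22)) 4) 1023 = cntW3.getD 66 0 := by decide +kernel
theorem cnt3_c67 : cntB (fun j => Nat.beq (nxt 4194303 oidA (Nat.mul (67 * 1023 + j) 22)) 4) 1023 = cntW3.getD 67 0 := by decide +kernel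
theorem cnt3_c68 : cntB (fun j => Nat.beq (nxt 4194303 oidA (Nat.mul (68 * 1023 + j) 22)) 4) 1023 = cntW3.getD 68 0 := by decide +kernel
theorem cnt3_c69 : cntB (fun j => Nat.beq (nxt 4194303 oidA (Nat.mul (69 * 1023 + j) 22)) 4) 1023 = cntW3.getD 69 0 := by decide +kernel
theorem cnt3_c70 : cntB (fun j => Nat.beq (nxt 4194303 oidA (Nat.mul (70 * 1023 + j) 22)) 4) 1023 = cntW3.getD 70 0 := by decide +kernel
theorem cnt3_c71 : cntB (fun j => Nat.beq (nxt 4194303 oidA (Nat.mul (71 * 1023 + j) 22)) 4) 1023 = cntW3.getD 71 0 := by decide +kernel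
theorem cnt3_c72 : cntB (fun j => Nat.beq (nxt 4194303 oidA (Nat.mul (72 * 1023 + j) 22)) 4) 1023 = cntW3.getD 72 0 := by decide +kernel
theorem cnt3_c73 : cntB (fun j => Nat.beq (nxt 4194303 oidA (Nat.mul (73 * 1023 + j) 22)) 4) 1023 = cntW3.getD 73 0 := by decide +kernel
theorem cnt3_c74 : cntB (fun j => Nat.beq (nxt 4194303 oidA (Nat.mul (74 * 1023 + j) 22)) 4) 1023 = cntW3.getD 74 0 := by decide +kernel
theorem cnt3_c75 : cntB (fun j => Nat.beq (nxt 4194303 oidA (Nat.mul (75 * 1023 + j) 22)) 4) 1023 = cntW3.getD 75 0 := by decide +kernel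
theorem cnt3_c76 : cntB (fun j => Nat.beq (nxt 4194303 oidA (Nat.mul (76 * 1023 + j) 22)) 4) 1023 = cntW3.getD 76 0 := by decide +kernel
theorem cnt3_c77 : cntB (fun j => Nat.beq (nxt 4194303 oidA (Nat.mul (77 * 1023 + j) 22)) 4) 1023 = cntW3.getD 77 0 := by decide +kernel
theorem cnt3_c78 : cntB (fun j => Nat.beq (nxt 4194303 oidA (Nat.mul (78 * 1023 + j) 22)) 4) 1023 = cntW3.getD 78 0 := by decide +kernel
theorem cnt3_c79 : cntB (fun j => Nat.beq (nxt 4194303 oidA (Nat.mul (79 * 1023 + j) 22)) 4) 1023 = cntW3.getD 79 0 := by decide +kernel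
theorem cnt3_c80 : cntB (fun j => Nat.beq (nxt 4194303 oidA (Nat.mul (80 * 1023 + j) 22)) 4) 1023 = cntW3.getD 80 0 := by decide +kernel
theorem cnt3_c81 : cntB (fun j => Nat.beq (nxt 4194303 oidA (Nat.mul (81 * 1023 + j) 22)) 4) 1023 = cntW3.getD 81 0 := by decide +kernel
theorem cnt3_c82 : cntB (fun j => Nat.beq (nxt 4194303 oidA (Nat.mul (82 * 1023 + j) 22)) 4) 1023 = cntW3.getD 82 0 := by decide +kernel
theorem cnt3_c83 : cntB (fun j => Nat.beq (nxt 4194303 oidA (Nat.mul (83 * 1023 + j) 22)) 4) 1023 = cntW3.getD 83 0 := by decide +kernel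
theorem cnt3_c84 : cntB (fun j => Nat.beq (nxt 4194303 oidA (Nat.mul (84 * 1023 + j) 22)) 4) 1023 = cntW3.getD 84 0 := by decide +kernel
theorem cnt3_c85 : cntB (fun j => Nat.beq (nxt 4194303 oidA (Nat.mul (85 * 1023 + j) 22)) 4) 1023 = cntW3.getD 85 0 := by decide +kernel
theorem cnt3_c86 : cntB (fun j => Nat.beq (nxt 4194303 oidA (Nat.mul (86 * 1023 + j) 22)) 4) 1023 = cntW3.getD 86 0 := by decide +kernel
theorem cnt3_c87 : cntB (fun j => Nat.beq (nxt 4194303 oidA (Nat.mul (87 * 1023 + j) 22)) 4) 1023 = cntW3.getD 87 0 := by decide +kernel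
theorem cnt3_c88 : cntB (fun j => Nat.beq (nxt 4194303 oidA (Nat.mul (88 * 1023 + j) 22)) 4) 1023 = cntW3.getD 88 0 := by decide +kernel
theorem cnt3_c89 : cntB (fun j => Nat.beq (nxt 4194303 oidA (Nat.mul (89 * 1023 + j) 22)) 4) 1023 = cntW3.getD 89 0 := by decide +kernel
theorem cnt3_c90 : cntB (fun j => Nat.beq (nxt 4194303 oidA (Nat.mul (90 * 1023 + j) 22)) 4) 1023 = cntW3.getD 90 0 := by decide +kernel
theorem cnt3_c91 : cntB (fun j => Nat.beq (nxt 4194303 oidA (Nat.mul (91 * 1023 + j) 22)) 4) 1023 = cntW3.getD 91 0 := by decide +kernel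
theorem cnt3_c92 : cntB (fun j => Nat.beq (nxt 4194303 oidA (Nat.mul (92 * 1023 + j) 22)) 4) 1023 = cntW3.getD 92 0 := by decide +kernel
theorem cnt3_c93 : cntB (fun j => Nat.beq (nxt 4194303 oidA (Nat.mul (93 * 1023 + j) 22)) 4) 1023 = cntW3.getD 93 0 := by decide +kernel
theorem cnt3_c94 : cntB (fun j => Nat.beq (nxt 4194303 oidA (Nat.mul (94 * 1023 + j) 22)) 4) 1023 = cntW3.getD 94 0 := by decide +kernel
theorem cnt3_c95 : cntB (fun j => Nat.beq (nxt 4194303 oidA (Nat.mul (95 * 1023 + j) 22)) 4) 1023 = cntW3.getD 95 0 := by decide +kernel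
theorem cnt3_c96 : cntB (fun j => Nat.beq (nxt 4194303 oidA (Nat.mul (96 * 1023 + j) 22)) 4) 1023 = cntW3.getD 96 0 := by decide +kernel
theorem cnt3_c97 : cntB (fun j => Nat.beq (nxt 4194303 oidA (Nat.mul (97 * 1023 + j) 22)) 4) 1023 = cntW3.getD 97 0 := by decide +kernel
theorem cnt3_c98 : cntB (fun j => Nat.beq (nxt 4194303 oidA (Nat.mul (98 * 1023 + j) 22)) 4) 1023 = cntW3.getD 98 0 := by decide +kernel
theorem cnt3_c99 : cntB (fun j => Nat.beq (nxt 4194303 oidA (Nat.mul (99 * 1023 + j) 22)) 4) 1023 = cntW3.getD 99 0 := by decide +kernel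
theorem cnt3_c100 : cntB (fun j => Nat.beq (nxt 4194303 oidA (Nat.mul (100 * 1023 + j) 22)) 4) 1023 = cntW3.getD 100 0 := by decide +kernel
theorem cnt3_c101 : cntB (fun j => Nat.beq (nxt 4194303 oidA (Nat.mul (101 * 1023 + j) 22)) 4) 1023 = cntW3.getD 101 0 := by decide +kernel
theorem cnt3_c102 : cntB (fun j => Nat.beq (nxt 4194303 oidA (Nat.mul (102 * 1023 + j) 22)) 4) 1023 = cntW3.getD 102 0 := by decide +kernel
theorem cnt3_c103 : cntB (fun j => Nat.beq (nxt 4194303 oidA (Nat.mul (103 * 1023 + j) 22)) 4) 1023 = cntW3.getD 103 0 := by decide +kernel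
theorem cnt3_c104 : cntB (fun j => Nat.beq (nxt 4194303 oidA (Nat.mul (104 * 1023 + j) 22)) 4) 1023 = cntW3.getD 104 0 := by decide +kernel
theorem cnt3_c105 : cntB (fun j => Nat.beq (nxt 4194303 oidA (Nat.mul (105 * 1023 + j) 22)) 4) 1023 = cntW3.getD 105 0 := by decide +kernel
theorem cnt3_c106 : cntB (fun j => Nat.beq (nxt 4194303 oidA (Nat.mul (106 * 1023 + j) 22)) 4) 1023 = cntW3.getD 106 0 := by decide +kernel
theorem cnt3_c107 : cntB (fun j => Nat.beq (nxt 4194303 oidA (Nat.mul (107 * 1023 + j) 22)) 4) 1023 = cntW3.getD 107 0 := by decide +kernel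
theorem cnt3_c108 : cntB (fun j => Nat.beq (nxt 4194303 oidA (Nat.mul (108 * 1023 + j) 22)) 4) 1023 = cntW3.getD 108 0 := by decide +kernel
theorem cnt3_c109 : cntB (fun j => Nat.beq (nxt 4194303 oidA (Nat.mul (109 * 1023 + j) 22)) 4) 1023 = cntW3.getD 109 0 := by decide +kernel
theorem cnt3_c110 : cntB (fun j => Nat.beq (nxt 4194303 oidA (Nat.mul (110 * 1023 + j) 22)) 4) 1023 = cntW3.getD 110 0 := by decide +kernel
theorem cnt3_c111 : cntB (fun j => Nat.beq (nxt 4194303 oidA (Nat.mul (111 * 1023 + j) 22)) 4) 1023 = cntW3.getD 111 0 := by decide +kernel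
theorem cnt3_c112 : cntB (fun j => Nat.beq (nxt 4194303 oidA (Nat.mul (112 * 1023 + j) 22)) 4) 1023 = cntW3.getD 112 0 := by decide +kernel
theorem cnt3_c113 : cntB (fun j => Nat.beq (nxt 4194303 oidA (Nat.mul (113 * 1023 + j) 22)) 4) 1023 = cntW3.getD 113 0 := by decide +kernel
theorem cnt3_c114 : cntB (fun j => Nat.beq (nxt 4194303 oidA (Nat.mul (114 * 1023 + j) 22)) 4) 1023 = cntW3.getD 114 0 := by decide +kernel
theorem cnt3_c115 : cntB (fun j => Nat.beq (nxt 4194303 oidA (Nat.mul (115 * 1023 + j) 22)) 4) 1023 = cntW3.getD 115 0 := by decide +kernel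
theorem cnt3_c116 : cntB (fun j => Nat.beq (nxt 4194303 oidA (Nat.mul (116 * 1023 + j) 22)) 4) 1023 = cntW3.getD 116 0 := by decide +kernel
theorem cnt3_c117 : cntB (fun j => Nat.beq (nxt 4194303 oidA (Nat.mul (117 * 1023 + j) 22)) 4) 1023 = cntW3.getD 117 0 := by decide +kernel
theorem cnt3_c118 : cntB (fun j => Nat.beq (nxt 4194303 oidA (Nat.mul (118 * 1023 + j) 22)) 4) 1023 = cntW3.getD 118 0 := by decide +kernel
theorem cnt3_c119 : cntB (fun j => Nat.beq (nxt 4194303 oidA (Nat.mul (119 * 1023 + j) 22)) 4) 1023 = cntW3.getD 119 0 := by decide +kernel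

theorem cnt3 : cntB (fun k => Nat.beq (nxt 4194303 oidA (Nat.mul k 22)) 4) 122760 = 6384 := by
  have h := Cfsg.Agent.Lib.Helper28_CntSplit.cntB_chunks (fun k => Nat.beq (nxt 4194303 oidA (Nat.mul k 22)) 4) 1023
    (fun i => cntW3.getD i 0) 120 (by
      intro i hi
      interval_cases i
      · exact cnt3_c0
      · exact cnt3_c1
      · exact cnt3_c2
      · exact cnt3_c3
      · exact cnt3_c4
      · exact cnt3_c5
      · exact cnt3_c6
      · exact cnt3_c7
      · exact cnt3_c8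
      · exact cnt3_c9
      · exact cnt3_c10
      · exact cnt3_c11
      · exact cnt3_c12
      · exact cnt3_c13
      · exact cnt3_c14
      · exact cnt3_c15
      · exact cnt3_c16
      · exact cnt3_c17
      · exact cnt3_c18
      · exact cnt3_c19
      · exact cnt3_c20
      · exact cnt3_c21
      · exact cnt3_c22
      · exact cnt3_c23
      · exact cnt3_c24
      · exact cnt3_c25
      · exact cnt3_c26
      · exact cnt3_c27
      · exact cnt3_c28
      · exact cnt3_c29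
      · exact cnt3_c30
      · exact cnt3_c31
      · exact cnt3_c32
      · exact cnt3_c33
      · exact cnt3_c34
      · exact cnt3_c35
      · exact cnt3_c36
      · exact cnt3_c37
      · exact cnt3_c38
      · exact cnt3_c39
      · exact cnt3_c40
      · exact cnt3_c41
      · exact cnt3_c42
      · exact cnt3_c43
      · exact cnt3_c44
      · exact cnt3_c45
      · exact cnt3_c46
      · exact cnt3_c47
      · exact cnt3_c48
      · exact cnt3_c49
      · exact cnt3_c50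
      · exact cnt3_c51
      · exact cnt3_c52
      · exact cnt3_c53
      · exact cnt3_c54
      · exact cnt3_c55
      · exact cnt3_c56
      · exact cnt3_c57
      · exact cnt3_c58
      · exact cnt3_c59
      · exact cnt3_c60
      · exact cnt3_c61
      · exact cnt3_c62
      · exact cnt3_c63
      · exact cnt3_c64
      · exact cnt3_c65
      · exact cnt3_c66
      · exact cnt3_c67
      · exact cnt3_c68
      · exact cnt3_c69
      · exact cnt3_c70
      · exact cnt3_c71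
      · exact cnt3_c72
      · exact cnt3_c73
      · exact cnt3_c74
      · exact cnt3_c75
      · exact cnt3_c76
      · exact cnt3_c77
      · exact cnt3_c78
      · exact cnt3_c79
      · exact cnt3_c80
      · exact cnt3_c81
      · exact cnt3_c82
      · exact cnt3_c83
      · exact cnt3_c84
      · exact cnt3_c85
      · exact cnt3_c86
      · exact cnt3_c87
      · exact cnt3_c88
      · exact cnt3_c89
      · exact cnt3_c90
      · exact cnt3_c91
      · exact cnt3_c92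
      · exact cnt3_c93
      · exact cnt3_c94
      · exact cnt3_c95
      · exact cnt3_c96
      · exact cnt3_c97
      · exact cnt3_c98
      · exact cnt3_c99
      · exact cnt3_c100
      · exact cnt3_c101
      · exact cnt3_c102
      · exact cnt3_c103
      · exact cnt3_c104
      · exact cnt3_c105
      · exact cnt3_c106
      · exact cnt3_c107
      · exact cnt3_c108
      · exact cnt3_c109
      · exact cnt3_c110
      · exact cnt3_c111
      · exact cnt3_c112
      · exact cnt3_c113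
      · exact cnt3_c114
      · exact cnt3_c115
      · exact cnt3_c116
      · exact cnt3_c117
      · exact cnt3_c118
      · exact cnt3_c119
      )
  exact h.trans (by decide +kernel)

/-- the lower bound: the full statement from the upper bound -/
theorem lower (hfin : ((Subgroup.closure ({Cfsg.Spor.ON.a, Cfsg.Spor.ON.b, Cfsg.Spor.ON.c, Cfsg.Spor.ON.d, Cfsg.Spor.ON.e, Cfsg.Spor.ON.f} : Set (FreeGroup Cfsg.Spor.ON.Gen))).map (PresentedGroup.mk (Cfsg.Spor.coxRelators Cfsg.Spor.ON.edges ∪ {r | r ∈ Cfsg.Spor.ON.extra}))).index ≠ 0) (hle : ((Subgroup.closure ({Cfsg.Spor.ON.a, Cfsg.Spor.ON.b, Cfsg.Spor.ON.c, Cfsg.Spor.ON.d, Cfsg.Spor.ON.e, Cfsg.Spor.ON.f} : Set (FreeGroup Cfsg.Spor.ON.Gen))).map (PresentedGroup.mk (Cfsg.Spor.coxRelators Cfsg.Spor.ON.edges ∪ {r | r ∈ Cfsg.Spor.ON.extra}))).index ≤ 122760) :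
    ((Subgroup.closure ({Cfsg.Spor.ON.a, Cfsg.Spor.ON.b, Cfsg.Spor.ON.c, Cfsg.Spor.ON.d, Cfsg.Spor.ON.e, Cfsg.Spor.ON.f} : Set (FreeGroup Cfsg.Spor.ON.Gen))).map (PresentedGroup.mk (Cfsg.Spor.coxRelators Cfsg.Spor.ON.edges ∪ {r | r ∈ Cfsg.Spor.ON.extra}))).index = 122760 ∧ ∃ q1 q2 q3 q4 : Cfsg.Spor.ON ⧸ ((Subgroup.closure ({Cfsg.Spor.ON.a, Cfsg.Spor.ON.b, Cfsg.Spor.ON.c, Cfsg.Spor.ON.d, Cfsg.Spor.ON.e, Cfsg.Spor.ON.f} : Set (FreeGroup Cfsg.Spor.ON.Gen))).map (PresentedGroup.mk (Cfsg.Spor.coxRelators Cfsg.Spor.ON.edges ∪ {r | r ∈ Cfsg.Spor.ON.extra}))), (MulAction.orbit ((Subgroup.closure ({Cfsg.Spor.ON.a, Cfsg.Spor.ON.b, Cfsg.Spor.ON.c, Cfsg.Spor.ON.d, Cfsg.Spor.ON.e, Cfsg.Spor.ON.f} : Set (FreeGroup Cfsg.Spor.ON.Gen))).map (PresentedGroup.mk (Cfsg.Spor.coxRelators Cfsg.Spor.ON.edges ∪ {r | r ∈ Cfsg.Spor.ON.extra}))) q1).ncard = 58653 ∧ (MulAction.orbit ((Subgroup.closure ({Cfsg.Spor.ON.a, Cfsg.Spor.ON.b, Cfsg.Spor.ON.c, Cfsg.Spor.ON.d,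 Cfsg.Spor.ON.e, Cfsg.Spor.ON.f} : Set (FreeGroup Cfsg.Spor.ON.Gen))).map (PresentedGroup.mk (Cfsg.Spor.coxRelators Cfsg.Spor.ON.edges ∪ {r | r ∈ Cfsg.Spor.ON.extra}))) q2).ncard = 52136 ∧ (MulAction.orbit ((Subgroup.closure ({Cfsg.Spor.ON.a, Cfsg.Spor.ON.b, Cfsg.Spor.ON.c, Cfsg.Spor.ON.d, Cfsg.Spor.ON.e, Cfsg.Spor.ON.f} : Set (FreeGroup Cfsg.Spor.ON.Gen))).map (PresentedGroup.mk (Cfsg.Spor.coxRelators Cfsg.Spor.ON.edges ∪ {r | r ∈ Cfsg.Spor.ON.extra}))) q3).ncard = 5586 ∧ (MulAction.orbit ((Subgroup.closure ({Cfsg.Spor.ON.a, Cfsg.Spor.ON.b, Cfsg.Spor.ON.c, Cfsg.Spor.ON.d, Cfsg.Spor.ON.e, Cfsg.Spor.ON.f} : Set (FreeGroup Cfsg.Spor.ON.Gen))).map (PresentedGroup.mk (Cfsg.Spor.coxRelators Cfsg.Spor.ON.edges ∪ {r | r ∈ Cfsg.Spor.ON.extra}))) q4).ncard = 6384 := by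
  refine ⟨lower_index hfin hle, ?_⟩
  obtain ⟨q1, hb1, himg1, hcard1⟩ := verified.orbit hfin hle oidA rnkA bases cl cl_mem S_cl orb_ok 1 (⟨1, by norm_num⟩ : Fin 122760) (by decide) (by decide +kernel)
  obtain ⟨q2, hb2, himg2, hcard2⟩ := verified.orbit hfin hle oidA rnkA bases cl cl_mem S_cl orb_ok 2 (⟨6, by norm_num⟩ : Fin 122760) (by decide) (by decide +kernel)
  obtain ⟨q3, hb3, himg3, hcard3⟩ := verified.orbit hfin hle oidA rnkA bases cl cl_mem S_cl orb_ok 3 (⟨12, by norm_num⟩ : Fin 122760) (by decide) (by decide +kernel)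
  obtain ⟨q4, hb4, himg4, hcard4⟩ := verified.orbit hfin hle oidA rnkA bases cl cl_mem S_cl orb_ok 4 (⟨32, by norm_num⟩ : Fin 122760) (by decide) (by decide +kernel)
  refine ⟨q1, q2, q3, q4, ?_⟩
  rw [card_orbSet] at hcard1 hcard2 hcard3 hcard4
  rw [cnt0] at hcard1
  rw [cnt1] at hcard2
  rw [cnt2] at hcard3
  rw [cnt3] at hcard4
  exact ⟨hcard1, hcard2, hcard3, hcard4⟩

end Cfsg.Agent.Lib.Helper28_S1692
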