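import Cfsg.Agent.Lib.Helper28_ONLB1  -- build-order chain (limits parallel memory use)
import Cfsg.Agent.Lib.Helper28_S1692
import Cfsg.Agent.Lib.Helper28_OrbitLB2
import Cfsg.Agent.Lib.Helper28_CntSplit

set_option autoImplicit false
set_option linter.constructorNameAsVariable false
set_option Elab.async false

namespace Cfsg.Agent.Lib.Helper28_ONLB5

open Cfsg.Spor Cfsg.Agent.Lib.Helper28_CosetPerm Cfsg.Agent.Lib.Helper28_OrbitLB Cfsg.Agent.Lib.Helper28_S1692 Cfsg.Agent.Lib.Helper28_S1692Tab

def lab : Nat := 0x20000000000000000400000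

def ls : List (Cfsg.Spor.ON.Gen × Bool) := [(.d, true), (.f, true)]

def chk (x : ℕ) : Bool := lchk 4194303 col lab 22 ls x

theorem r0 : allRange chk 22 0 876 = true := by decide +kernel
theorem u0 : ∀ k, 0 ≤ k → k < 876 → chk (k * 22) = true := between_extend chk 22 0 0 876 (between_start chk 22 0) r0

theorem r1 : allRange chk 22 876 888 = true := by decide +kernel
theorem u1 : ∀ k, 0 ≤ k → k < 1764 → chk (k * 22) = true := between_extend chk 22 0 876 888 (u0) r1

theorem r2 : allRange chk 22 1764 888 = true := by decide +kernel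
theorem u2 : ∀ k, 0 ≤ k → k < 2652 → chk (k * 22) = true := between_extend chk 22 0 1764 888 (u1) r2

theorem r3 : allRange chk 22 2652 888 = true := by decide +kernel
theorem u3 : ∀ k, 0 ≤ k → k < 3540 → chk (k * 22) = true := between_extend chk 22 0 2652 888 (u2) r3

theorem r4 : allRange chk 22 3540 888 = true := by decide +kernel
theorem u4 : ∀ k, 0 ≤ k → k < 4428 → chk (k * 22) = true := between_extend chk 22 0 3540 888 (u3) r4

theorem r5 : allRange chk 22 4428 888 = true := by decide +kernel
theorem u5 : ∀ k, 0 ≤ k → k < 5316 → chk (k * 22) = true := between_extend chk 22 0 4428 888 (u4) r5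

theorem r6 : allRange chk 22 5316 888 = true := by decide +kernel
theorem u6 : ∀ k, 0 ≤ k → k < 6204 → chk (k * 22) = true := between_extend chk 22 0 5316 888 (u5) r6

theorem r7 : allRange chk 22 6204 888 = true := by decide +kernel
theorem u7 : ∀ k, 0 ≤ k → k < 7092 → chk (k * 22) = true := between_extend chk 22 0 6204 888 (u6) r7

theorem r8 : allRange chk 22 7092 888 = true := by decide +kernel
theorem u8 : ∀ k, 0 ≤ k → k < 7980 → chk (k * 22) = true := between_extend chk 22 0 7092 888 (u7) r8

theorem r9 : allRange chk 22 7980 888 = true := by decide +kernel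
theorem u9 : ∀ k, 0 ≤ k → k < 8868 → chk (k * 22) = true := between_extend chk 22 0 7980 888 (u8) r9

theorem r10 : allRange chk 22 8868 888 = true := by decide +kernel
theorem u10 : ∀ k, 0 ≤ k → k < 9756 → chk (k * 22) = true := between_extend chk 22 0 8868 888 (u9) r10

theorem r11 : allRange chk 22 9756 888 = true := by decide +kernel
theorem u11 : ∀ k, 0 ≤ k → k < 10644 → chk (k * 22) = true := between_extend chk 22 0 9756 888 (u10) r11

theorem r12 : allRange chk 22 10644 888 = true := by decide +kernel
theorem u12 : ∀ k, 0 ≤ k → k < 11532 → chk (k * 22) = true := between_extend chk 22 0 10644 888 (u11) r12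

theorem r13 : allRange chk 22 11532 888 = true := by decide +kernel
theorem u13 : ∀ k, 0 ≤ k → k < 12420 → chk (k * 22) = true := between_extend chk 22 0 11532 888 (u12) r13

theorem r14 : allRange chk 22 12420 888 = true := by decide +kernel
theorem u14 : ∀ k, 0 ≤ k → k < 13308 → chk (k * 22) = true := between_extend chk 22 0 12420 888 (u13) r14

theorem r15 : allRange chk 22 13308 888 = true := by decide +kernel
theorem u15 : ∀ k, 0 ≤ k → k < 14196 → chk (k * 22) = true := between_extend chk 22 0 13308 888 (u14) r15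

theorem r16 : allRange chk 22 14196 888 = true := by decide +kernel
theorem u16 : ∀ k, 0 ≤ k → k < 15084 → chk (k * 22) = true := between_extend chk 22 0 14196 888 (u15) r16

theorem r17 : allRange chk 22 15084 888 = true := by decide +kernel
theorem u17 : ∀ k, 0 ≤ k → k < 15972 → chk (k * 22) = true := between_extend chk 22 0 15084 888 (u16) r17

theorem r18 : allRange chk 22 15972 888 = true := by decide +kernel
theorem u18 : ∀ k, 0 ≤ k → k < 16860 → chk (k * 22) = true := between_extend chk 22 0 15972 888 (u17) r18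

theorem r19 : allRange chk 22 16860 888 = true := by decide +kernel
theorem u19 : ∀ k, 0 ≤ k → k < 17748 → chk (k * 22) = true := between_extend chk 22 0 16860 888 (u18) r19

theorem r20 : allRange chk 22 17748 888 = true := by decide +kernel
theorem u20 : ∀ k, 0 ≤ k → k < 18636 → chk (k * 22) = true := between_extend chk 22 0 17748 888 (u19) r20

theorem r21 : allRange chk 22 18636 888 = true := by decide +kernel
theorem u21 : ∀ k, 0 ≤ k → k < 19524 → chk (k * 22) = true := between_extend chk 22 0 18636 888 (u20) r21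

theorem r22 : allRange chk 22 19524 888 = true := by decide +kernel
theorem u22 : ∀ k, 0 ≤ k → k < 20412 → chk (k * 22) = true := between_extend chk 22 0 19524 888 (u21) r22

theorem r23 : allRange chk 22 20412 888 = true := by decide +kernel
theorem u23 : ∀ k, 0 ≤ k → k < 21300 → chk (k * 22) = true := between_extend chk 22 0 20412 888 (u22) r23

theorem r24 : allRange chk 22 21300 888 = true := by decide +kernel
theorem u24 : ∀ k, 0 ≤ k → k < 22188 → chk (k * 22) = true := between_extend chk 22 0 21300 888 (u23) r24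

theorem r25 : allRange chk 22 22188 888 = true := by decide +kernel
theorem u25 : ∀ k, 0 ≤ k → k < 23076 → chk (k * 22) = true := between_extend chk 22 0 22188 888 (u24) r25

theorem r26 : allRange chk 22 23076 888 = true := by decide +kernel
theorem u26 : ∀ k, 0 ≤ k → k < 23964 → chk (k * 22) = true := between_extend chk 22 0 23076 888 (u25) r26

theorem r27 : allRange chk 22 23964 888 = true := by decide +kernel
theorem u27 : ∀ k, 0 ≤ k → k < 24852 → chk (k * 22) = true := between_extend chk 22 0 23964 888 (u26) r27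

theorem r28 : allRange chk 22 24852 888 = true := by decide +kernel
theorem u28 : ∀ k, 0 ≤ k → k < 25740 → chk (k * 22) = true := between_extend chk 22 0 24852 888 (u27) r28

theorem r29 : allRange chk 22 25740 888 = true := by decide +kernel
theorem u29 : ∀ k, 0 ≤ k → k < 26628 → chk (k * 22) = true := between_extend chk 22 0 25740 888 (u28) r29

theorem r30 : allRange chk 22 26628 888 = true := by decide +kernel
theorem u30 : ∀ k, 0 ≤ k → k < 27516 → chk (k * 22) = true := between_extend chk 22 0 26628 888 (u29) r30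

theorem r31 : allRange chk 22 27516 888 = true := by decide +kernel
theorem u31 : ∀ k, 0 ≤ k → k < 28404 → chk (k * 22) = true := between_extend chk 22 0 27516 888 (u30) r31

theorem r32 : allRange chk 22 28404 888 = true := by decide +kernel
theorem u32 : ∀ k, 0 ≤ k → k < 29292 → chk (k * 22) = true := between_extend chk 22 0 28404 888 (u31) r32

theorem r33 : allRange chk 22 29292 888 = true := by decide +kernel
theorem u33 : ∀ k, 0 ≤ k → k < 30180 → chk (k * 22) = true := between_extend chk 22 0 29292 888 (u32) r33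

theorem r34 : allRange chk 22 30180 888 = true := by decide +kernel
theorem u34 : ∀ k, 0 ≤ k → k < 31068 → chk (k * 22) = true := between_extend chk 22 0 30180 888 (u33) r34

theorem r35 : allRange chk 22 31068 888 = true := by decide +kernel
theorem u35 : ∀ k, 0 ≤ k → k < 31956 → chk (k * 22) = true := between_extend chk 22 0 31068 888 (u34) r35

theorem r36 : allRange chk 22 31956 888 = true := by decide +kernel
theorem u36 : ∀ k, 0 ≤ k → k < 32844 → chk (k * 22) = true := between_extend chk 22 0 31956 888 (u35) r36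

theorem r37 : allRange chk 22 32844 888 = true := by decide +kernel
theorem u37 : ∀ k, 0 ≤ k → k < 33732 → chk (k * 22) = true := between_extend chk 22 0 32844 888 (u36) r37

theorem r38 : allRange chk 22 33732 888 = true := by decide +kernel
theorem u38 : ∀ k, 0 ≤ k → k < 34620 → chk (k * 22) = true := between_extend chk 22 0 33732 888 (u37) r38

theorem r39 : allRange chk 22 34620 888 = true := by decide +kernel
theorem u39 : ∀ k, 0 ≤ k → k < 35508 → chk (k * 22) = true := between_extend chk 22 0 34620 888 (u38) r39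

theorem r40 : allRange chk 22 35508 888 = true := by decide +kernel
theorem u40 : ∀ k, 0 ≤ k → k < 36396 → chk (k * 22) = true := between_extend chk 22 0 35508 888 (u39) r40

theorem r41 : allRange chk 22 36396 888 = true := by decide +kernel
theorem u41 : ∀ k, 0 ≤ k → k < 37284 → chk (k * 22) = true := between_extend chk 22 0 36396 888 (u40) r41

theorem r42 : allRange chk 22 37284 888 = true := by decide +kernel
theorem u42 : ∀ k, 0 ≤ k → k < 38172 → chk (k * 22) = true := between_extend chk 22 0 37284 888 (u41) r42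

theorem r43 : allRange chk 22 38172 888 = true := by decide +kernel
theorem u43 : ∀ k, 0 ≤ k → k < 39060 → chk (k * 22) = true := between_extend chk 22 0 38172 888 (u42) r43

theorem r44 : allRange chk 22 39060 888 = true := by decide +kernel
theorem u44 : ∀ k, 0 ≤ k → k < 39948 → chk (k * 22) = true := between_extend chk 22 0 39060 888 (u43) r44

theorem r45 : allRange chk 22 39948 888 = true := by decide +kernel
theorem u45 : ∀ k, 0 ≤ k → k < 40836 → chk (k * 22) = true := between_extend chk 22 0 39948 888 (u44) r45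

theorem r46 : allRange chk 22 40836 888 = true := by decide +kernel
theorem u46 : ∀ k, 0 ≤ k → k < 41724 → chk (k * 22) = true := between_extend chk 22 0 40836 888 (u45) r46

theorem r47 : allRange chk 22 41724 888 = true := by decide +kernel
theorem u47 : ∀ k, 0 ≤ k → k < 42612 → chk (k * 22) = true := between_extend chk 22 0 41724 888 (u46) r47

theorem r48 : allRange chk 22 42612 888 = true := by decide +kernel
theorem u48 : ∀ k, 0 ≤ k → k < 43500 → chk (k * 22) = true := between_extend chk 22 0 42612 888 (u47) r48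

theorem r49 : allRange chk 22 43500 888 = true := by decide +kernel
theorem u49 : ∀ k, 0 ≤ k → k < 44388 → chk (k * 22) = true := between_extend chk 22 0 43500 888 (u48) r49

theorem r50 : allRange chk 22 44388 888 = true := by decide +kernel
theorem u50 : ∀ k, 0 ≤ k → k < 45276 → chk (k * 22) = true := between_extend chk 22 0 44388 888 (u49) r50

theorem r51 : allRange chk 22 45276 888 = true := by decide +kernel
theorem u51 : ∀ k, 0 ≤ k → k < 46164 → chk (k * 22) = true := between_extend chk 22 0 45276 888 (u50) r51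

theorem r52 : allRange chk 22 46164 888 = true := by decide +kernel
theorem u52 : ∀ k, 0 ≤ k → k < 47052 → chk (k * 22) = true := between_extend chk 22 0 46164 888 (u51) r52

theorem r53 : allRange chk 22 47052 888 = true := by decide +kernel
theorem u53 : ∀ k, 0 ≤ k → k < 47940 → chk (k * 22) = true := between_extend chk 22 0 47052 888 (u52) r53

theorem r54 : allRange chk 22 47940 888 = true := by decide +kernel
theorem u54 : ∀ k, 0 ≤ k → k < 48828 → chk (k * 22) = true := between_extend chk 22 0 47940 888 (u53) r54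

theorem r55 : allRange chk 22 48828 888 = true := by decide +kernel
theorem u55 : ∀ k, 0 ≤ k → k < 49716 → chk (k * 22) = true := between_extend chk 22 0 48828 888 (u54) r55

theorem r56 : allRange chk 22 49716 888 = true := by decide +kernel
theorem u56 : ∀ k, 0 ≤ k → k < 50604 → chk (k * 22) = true := between_extend chk 22 0 49716 888 (u55) r56

theorem r57 : allRange chk 22 50604 888 = true := by decide +kernel
theorem u57 : ∀ k, 0 ≤ k → k < 51492 → chk (k * 22) = true := between_extend chk 22 0 50604 888 (u56) r57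

theorem r58 : allRange chk 22 51492 888 = true := by decide +kernel
theorem u58 : ∀ k, 0 ≤ k → k < 52380 → chk (k * 22) = true := between_extend chk 22 0 51492 888 (u57) r58

theorem r59 : allRange chk 22 52380 888 = true := by decide +kernel
theorem u59 : ∀ k, 0 ≤ k → k < 53268 → chk (k * 22) = true := between_extend chk 22 0 52380 888 (u58) r59

theorem r60 : allRange chk 22 53268 888 = true := by decide +kernel
theorem u60 : ∀ k, 0 ≤ k → k < 54156 → chk (k * 22) = true := between_extend chk 22 0 53268 888 (u59) r60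

theorem r61 : allRange chk 22 54156 888 = true := by decide +kernel
theorem u61 : ∀ k, 0 ≤ k → k < 55044 → chk (k * 22) = true := between_extend chk 22 0 54156 888 (u60) r61

theorem r62 : allRange chk 22 55044 888 = true := by decide +kernel
theorem u62 : ∀ k, 0 ≤ k → k < 55932 → chk (k * 22) = true := between_extend chk 22 0 55044 888 (u61) r62

theorem r63 : allRange chk 22 55932 888 = true := by decide +kernel
theorem u63 : ∀ k, 0 ≤ k → k < 56820 → chk (k * 22) = true := between_extend chk 22 0 55932 888 (u62) r63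

theorem r64 : allRange chk 22 56820 888 = true := by decide +kernel
theorem u64 : ∀ k, 0 ≤ k → k < 57708 → chk (k * 22) = true := between_extend chk 22 0 56820 888 (u63) r64

theorem r65 : allRange chk 22 57708 888 = true := by decide +kernel
theorem u65 : ∀ k, 0 ≤ k → k < 58596 → chk (k * 22) = true := between_extend chk 22 0 57708 888 (u64) r65

theorem r66 : allRange chk 22 58596 888 = true := by decide +kernel
theorem u66 : ∀ k, 0 ≤ k → k < 59484 → chk (k * 22) = true := between_extend chk 22 0 58596 888 (u65) r66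

theorem r67 : allRange chk 22 59484 888 = true := by decide +kernel
theorem u67 : ∀ k, 0 ≤ k → k < 60372 → chk (k * 22) = true := between_extend chk 22 0 59484 888 (u66) r67

theorem r68 : allRange chk 22 60372 888 = true := by decide +kernel
theorem u68 : ∀ k, 0 ≤ k → k < 61260 → chk (k * 22) = true := between_extend chk 22 0 60372 888 (u67) r68

theorem r69 : allRange chk 22 61260 888 = true := by decide +kernel
theorem u69 : ∀ k, 0 ≤ k → k < 62148 → chk (k * 22) = true := between_extend chk 22 0 61260 888 (u68) r69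

theorem r70 : allRange chk 22 62148 888 = true := by decide +kernel
theorem u70 : ∀ k, 0 ≤ k → k < 63036 → chk (k * 22) = true := between_extend chk 22 0 62148 888 (u69) r70

theorem r71 : allRange chk 22 63036 888 = true := by decide +kernel
theorem u71 : ∀ k, 0 ≤ k → k < 63924 → chk (k * 22) = true := between_extend chk 22 0 63036 888 (u70) r71

theorem r72 : allRange chk 22 63924 888 = true := by decide +kernel
theorem u72 : ∀ k, 0 ≤ k → k < 64812 → chk (k * 22) = true := between_extend chk 22 0 63924 888 (u71) r72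

theorem r73 : allRange chk 22 64812 888 = true := by decide +kernel
theorem u73 : ∀ k, 0 ≤ k → k < 65700 → chk (k * 22) = true := between_extend chk 22 0 64812 888 (u72) r73

theorem r74 : allRange chk 22 65700 888 = true := by decide +kernel
theorem u74 : ∀ k, 0 ≤ k → k < 66588 → chk (k * 22) = true := between_extend chk 22 0 65700 888 (u73) r74

theorem r75 : allRange chk 22 66588 888 = true := by decide +kernel
theorem u75 : ∀ k, 0 ≤ k → k < 67476 → chk (k * 22) = true := between_extend chk 22 0 66588 888 (u74) r75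

theorem r76 : allRange chk 22 67476 888 = true := by decide +kernel
theorem u76 : ∀ k, 0 ≤ k → k < 68364 → chk (k * 22) = true := between_extend chk 22 0 67476 888 (u75) r76

theorem r77 : allRange chk 22 68364 888 = true := by decide +kernel
theorem u77 : ∀ k, 0 ≤ k → k < 69252 → chk (k * 22) = true := between_extend chk 22 0 68364 888 (u76) r77

theorem r78 : allRange chk 22 69252 888 = true := by decide +kernel
theorem u78 : ∀ k, 0 ≤ k → k < 70140 → chk (k * 22) = true := between_extend chk 22 0 69252 888 (u77) r78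

theorem r79 : allRange chk 22 70140 888 = true := by decide +kernel
theorem u79 : ∀ k, 0 ≤ k → k < 71028 → chk (k * 22) = true := between_extend chk 22 0 70140 888 (u78) r79

theorem r80 : allRange chk 22 71028 888 = true := by decide +kernel
theorem u80 : ∀ k, 0 ≤ k → k < 71916 → chk (k * 22) = true := between_extend chk 22 0 71028 888 (u79) r80

theorem r81 : allRange chk 22 71916 888 = true := by decide +kernel
theorem u81 : ∀ k, 0 ≤ k → k < 72804 → chk (k * 22) = true := between_extend chk 22 0 71916 888 (u80) r81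

theorem r82 : allRange chk 22 72804 888 = true := by decide +kernel
theorem u82 : ∀ k, 0 ≤ k → k < 73692 → chk (k * 22) = true := between_extend chk 22 0 72804 888 (u81) r82

theorem r83 : allRange chk 22 73692 888 = true := by decide +kernel
theorem u83 : ∀ k, 0 ≤ k → k < 74580 → chk (k * 22) = true := between_extend chk 22 0 73692 888 (u82) r83

theorem r84 : allRange chk 22 74580 888 = true := by decide +kernel
theorem u84 : ∀ k, 0 ≤ k → k < 75468 → chk (k * 22) = true := between_extend chk 22 0 74580 888 (u83) r84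

theorem r85 : allRange chk 22 75468 888 = true := by decide +kernel
theorem u85 : ∀ k, 0 ≤ k → k < 76356 → chk (k * 22) = true := between_extend chk 22 0 75468 888 (u84) r85

theorem r86 : allRange chk 22 76356 888 = true := by decide +kernel
theorem u86 : ∀ k, 0 ≤ k → k < 77244 → chk (k * 22) = true := between_extend chk 22 0 76356 888 (u85) r86

theorem r87 : allRange chk 22 77244 888 = true := by decide +kernel
theorem u87 : ∀ k, 0 ≤ k → k < 78132 → chk (k * 22) = true := between_extend chk 22 0 77244 888 (u86) r87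

theorem r88 : allRange chk 22 78132 888 = true := by decide +kernel
theorem u88 : ∀ k, 0 ≤ k → k < 79020 → chk (k * 22) = true := between_extend chk 22 0 78132 888 (u87) r88

theorem r89 : allRange chk 22 79020 888 = true := by decide +kernel
theorem u89 : ∀ k, 0 ≤ k → k < 79908 → chk (k * 22) = true := between_extend chk 22 0 79020 888 (u88) r89

theorem r90 : allRange chk 22 79908 888 = true := by decide +kernel
theorem u90 : ∀ k, 0 ≤ k → k < 80796 → chk (k * 22) = true := between_extend chk 22 0 79908 888 (u89) r90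

theorem r91 : allRange chk 22 80796 888 = true := by decide +kernel
theorem u91 : ∀ k, 0 ≤ k → k < 81684 → chk (k * 22) = true := between_extend chk 22 0 80796 888 (u90) r91

theorem r92 : allRange chk 22 81684 888 = true := by decide +kernel
theorem u92 : ∀ k, 0 ≤ k → k < 82572 → chk (k * 22) = true := between_extend chk 22 0 81684 888 (u91) r92

theorem r93 : allRange chk 22 82572 888 = true := by decide +kernel
theorem u93 : ∀ k, 0 ≤ k → k < 83460 → chk (k * 22) = true := between_extend chk 22 0 82572 888 (u92) r93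

theorem r94 : allRange chk 22 83460 888 = true := by decide +kernel
theorem u94 : ∀ k, 0 ≤ k → k < 84348 → chk (k * 22) = true := between_extend chk 22 0 83460 888 (u93) r94

theorem r95 : allRange chk 22 84348 888 = true := by decide +kernel
theorem u95 : ∀ k, 0 ≤ k → k < 85236 → chk (k * 22) = true := between_extend chk 22 0 84348 888 (u94) r95

theorem r96 : allRange chk 22 85236 888 = true := by decide +kernel
theorem u96 : ∀ k, 0 ≤ k → k < 86124 → chk (k * 22) = true := between_extend chk 22 0 85236 888 (u95) r96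

theorem r97 : allRange chk 22 86124 888 = true := by decide +kernel
theorem u97 : ∀ k, 0 ≤ k → k < 87012 → chk (k * 22) = true := between_extend chk 22 0 86124 888 (u96) r97

theorem r98 : allRange chk 22 87012 888 = true := by decide +kernel
theorem u98 : ∀ k, 0 ≤ k → k < 87900 → chk (k * 22) = true := between_extend chk 22 0 87012 888 (u97) r98

theorem r99 : allRange chk 22 87900 888 = true := by decide +kernel
theorem u99 : ∀ k, 0 ≤ k → k < 88788 → chk (k * 22) = true := between_extend chk 22 0 87900 888 (u98) r99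

theorem r100 : allRange chk 22 88788 888 = true := by decide +kernel
theorem u100 : ∀ k, 0 ≤ k → k < 89676 → chk (k * 22) = true := between_extend chk 22 0 88788 888 (u99) r100

theorem r101 : allRange chk 22 89676 888 = true := by decide +kernel
theorem u101 : ∀ k, 0 ≤ k → k < 90564 → chk (k * 22) = true := between_extend chk 22 0 89676 888 (u100) r101

theorem r102 : allRange chk 22 90564 888 = true := by decide +kernel
theorem u102 : ∀ k, 0 ≤ k → k < 91452 → chk (k * 22) = true := between_extend chk 22 0 90564 888 (u101) r102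

theorem r103 : allRange chk 22 91452 888 = true := by decide +kernel
theorem u103 : ∀ k, 0 ≤ k → k < 92340 → chk (k * 22) = true := between_extend chk 22 0 91452 888 (u102) r103

theorem r104 : allRange chk 22 92340 888 = true := by decide +kernel
theorem u104 : ∀ k, 0 ≤ k → k < 93228 → chk (k * 22) = true := between_extend chk 22 0 92340 888 (u103) r104

theorem r105 : allRange chk 22 93228 888 = true := by decide +kernel
theorem u105 : ∀ k, 0 ≤ k → k < 94116 → chk (k * 22) = true := between_extend chk 22 0 93228 888 (u104) r105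

theorem r106 : allRange chk 22 94116 888 = true := by decide +kernel
theorem u106 : ∀ k, 0 ≤ k → k < 95004 → chk (k * 22) = true := between_extend chk 22 0 94116 888 (u105) r106

theorem r107 : allRange chk 22 95004 888 = true := by decide +kernel
theorem u107 : ∀ k, 0 ≤ k → k < 95892 → chk (k * 22) = true := between_extend chk 22 0 95004 888 (u106) r107

theorem r108 : allRange chk 22 95892 888 = true := by decide +kernel
theorem u108 : ∀ k, 0 ≤ k → k < 96780 → chk (k * 22) = true := between_extend chk 22 0 95892 888 (u107) r108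

theorem r109 : allRange chk 22 96780 888 = true := by decide +kernel
theorem u109 : ∀ k, 0 ≤ k → k < 97668 → chk (k * 22) = true := between_extend chk 22 0 96780 888 (u108) r109

theorem r110 : allRange chk 22 97668 888 = true := by decide +kernel
theorem u110 : ∀ k, 0 ≤ k → k < 98556 → chk (k * 22) = true := between_extend chk 22 0 97668 888 (u109) r110

theorem r111 : allRange chk 22 98556 888 = true := by decide +kernel
theorem u111 : ∀ k, 0 ≤ k → k < 99444 → chk (k * 22) = true := between_extend chk 22 0 98556 888 (u110) r111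

theorem r112 : allRange chk 22 99444 888 = true := by decide +kernel
theorem u112 : ∀ k, 0 ≤ k → k < 100332 → chk (k * 22) = true := between_extend chk 22 0 99444 888 (u111) r112

theorem r113 : allRange chk 22 100332 888 = true := by decide +kernel
theorem u113 : ∀ k, 0 ≤ k → k < 101220 → chk (k * 22) = true := between_extend chk 22 0 100332 888 (u112) r113

theorem r114 : allRange chk 22 101220 888 = true := by decide +kernel
theorem u114 : ∀ k, 0 ≤ k → k < 102108 → chk (k * 22) = true := between_extend chk 22 0 101220 888 (u113) r114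

theorem r115 : allRange chk 22 102108 888 = true := by decide +kernel
theorem u115 : ∀ k, 0 ≤ k → k < 102996 → chk (k * 22) = true := between_extend chk 22 0 102108 888 (u114) r115

theorem r116 : allRange chk 22 102996 888 = true := by decide +kernel
theorem u116 : ∀ k, 0 ≤ k → k < 103884 → chk (k * 22) = true := between_extend chk 22 0 102996 888 (u115) r116

theorem r117 : allRange chk 22 103884 888 = true := by decide +kernel
theorem u117 : ∀ k, 0 ≤ k → k < 104772 → chk (k * 22) = true := between_extend chk 22 0 103884 888 (u116) r117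

theorem r118 : allRange chk 22 104772 888 = true := by decide +kernel
theorem u118 : ∀ k, 0 ≤ k → k < 105660 → chk (k * 22) = true := between_extend chk 22 0 104772 888 (u117) r118

theorem r119 : allRange chk 22 105660 888 = true := by decide +kernel
theorem u119 : ∀ k, 0 ≤ k → k < 106548 → chk (k * 22) = true := between_extend chk 22 0 105660 888 (u118) r119

theorem r120 : allRange chk 22 106548 888 = true := by decide +kernel
theorem u120 : ∀ k, 0 ≤ k → k < 107436 → chk (k * 22) = true := between_extend chk 22 0 106548 888 (u119) r120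

theorem r121 : allRange chk 22 107436 888 = true := by decide +kernel
theorem u121 : ∀ k, 0 ≤ k → k < 108324 → chk (k * 22) = true := between_extend chk 22 0 107436 888 (u120) r121

theorem r122 : allRange chk 22 108324 888 = true := by decide +kernel
theorem u122 : ∀ k, 0 ≤ k → k < 109212 → chk (k * 22) = true := between_extend chk 22 0 108324 888 (u121) r122

theorem r123 : allRange chk 22 109212 888 = true := by decide +kernel
theorem u123 : ∀ k, 0 ≤ k → k < 110100 → chk (k * 22) = true := between_extend chk 22 0 109212 888 (u122) r123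

theorem r124 : allRange chk 22 110100 888 = true := by decide +kernel
theorem u124 : ∀ k, 0 ≤ k → k < 110988 → chk (k * 22) = true := between_extend chk 22 0 110100 888 (u123) r124

theorem r125 : allRange chk 22 110988 888 = true := by decide +kernel
theorem u125 : ∀ k, 0 ≤ k → k < 111876 → chk (k * 22) = true := between_extend chk 22 0 110988 888 (u124) r125

theorem r126 : allRange chk 22 111876 888 = true := by decide +kernel
theorem u126 : ∀ k, 0 ≤ k → k < 112764 → chk (k * 22) = true := between_extend chk 22 0 111876 888 (u125) r126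

theorem r127 : allRange chk 22 112764 888 = true := by decide +kernel
theorem u127 : ∀ k, 0 ≤ k → k < 113652 → chk (k * 22) = true := between_extend chk 22 0 112764 888 (u126) r127

theorem r128 : allRange chk 22 113652 888 = true := by decide +kernel
theorem u128 : ∀ k, 0 ≤ k → k < 114540 → chk (k * 22) = true := between_extend chk 22 0 113652 888 (u127) r128

theorem r129 : allRange chk 22 114540 888 = true := by decide +kernel
theorem u129 : ∀ k, 0 ≤ k → k < 115428 → chk (k * 22) = true := between_extend chk 22 0 114540 888 (u128) r129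

theorem r130 : allRange chk 22 115428 888 = true := by decide +kernel
theorem u130 : ∀ k, 0 ≤ k → k < 116316 → chk (k * 22) = true := between_extend chk 22 0 115428 888 (u129) r130

theorem r131 : allRange chk 22 116316 888 = true := by decide +kernel
theorem u131 : ∀ k, 0 ≤ k → k < 117204 → chk (k * 22) = true := between_extend chk 22 0 116316 888 (u130) r131

theorem r132 : allRange chk 22 117204 888 = true := by decide +kernel
theorem u132 : ∀ k, 0 ≤ k → k < 118092 → chk (k * 22) = true := between_extend chk 22 0 117204 888 (u131) r132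

theorem r133 : allRange chk 22 118092 888 = true := by decide +kernel
theorem u133 : ∀ k, 0 ≤ k → k < 118980 → chk (k * 22) = true := between_extend chk 22 0 118092 888 (u132) r133

theorem r134 : allRange chk 22 118980 888 = true := by decide +kernel
theorem u134 : ∀ k, 0 ≤ k → k < 119868 → chk (k * 22) = true := between_extend chk 22 0 118980 888 (u133) r134

theorem r135 : allRange chk 22 119868 888 = true := by decide +kernel
theorem u135 : ∀ k, 0 ≤ k → k < 120756 → chk (k * 22) = true := between_extend chk 22 0 119868 888 (u134) r135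

theorem r136 : allRange chk 22 120756 888 = true := by decide +kernel
theorem u136 : ∀ k, 0 ≤ k → k < 121644 → chk (k * 22) = true := between_extend chk 22 0 120756 888 (u135) r136

theorem r137 : allRange chk 22 121644 888 = true := by decide +kernel
theorem u137 : ∀ k, 0 ≤ k → k < 122532 → chk (k * 22) = true := between_extend chk 22 0 121644 888 (u136) r137

theorem r138 : allRange chk 22 122532 228 = true := by decide +kernel
theorem u138 : ∀ k, 0 ≤ k → k < 122760 → chk (k * 22) = true := between_extend chk 22 0 122532 228 (u137) r138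

theorem chk_all : ∀ k < 122760, lchk 4194303 col lab 22 ls (k * 22) = true := between_all chk 22 122760 u138

def cntW : List ℕ := [2, 0, 0, 0, 0, 0, 0, 0, 0, 0, 0, 0, 0, 0, 0, 0, 0, 0, 0, 0, 0, 0, 0, 0, 0, 0, 0, 0, 0, 0, 0, 0, 0, 0, 0, 0, 0, 0, 0, 0, 0, 0, 0, 0, 0, 0, 0, 0, 0, 0, 0, 0, 0, 0, 0, 0, 0, 0, 0, 0, 0, 0, 0, 0, 0, 0, 0, 0, 0, 0, 0, 0, 0, 0, 0, 0, 0, 0, 0, 0, 0, 0, 0, 0, 0, 0, 0, 0, 0, 0, 0, 0, 0, 0, 0, 0, 0, 0, 0, 0, 0, 0, 0, 0, 0, 0, 0, 0, 0, 0, 0, 0, 0, 0, 0, 0, 0, 0, 0, 0]

theorem cnt_c0 : cntB (fun j => Nat.blt 0 (nxt 4194303 lab (Nat.mul (0 * 1023 + j) 22))) 1023 = cntW.getD 0 0 := by decide +kernel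
theorem cnt_c1 : cntB (fun j => Nat.blt 0 (nxt 4194303 lab (Nat.mul (1 * 1023 + j) 22))) 1023 = cntW.getD 1 0 := by decide +kernel
theorem cnt_c2 : cntB (fun j => Nat.blt 0 (nxt 4194303 lab (Nat.mul (2 * 1023 + j) 22))) 1023 = cntW.getD 2 0 := by decide +kernel
theorem cnt_c3 : cntB (fun j => Nat.blt 0 (nxt 4194303 lab (Nat.mul (3 * 1023 + j) 22))) 1023 = cntW.getD 3 0 := by decide +kernel
theorem cnt_c4 : cntB (fun j => Nat.blt 0 (nxt 4194303 lab (Nat.mul (4 * 1023 + j) 22))) 1023 = cntW.getD 4 0 := by decide +kernel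
theorem cnt_c5 : cntB (fun j => Nat.blt 0 (nxt 4194303 lab (Nat.mul (5 * 1023 + j) 22))) 1023 = cntW.getD 5 0 := by decide +kernel
theorem cnt_c6 : cntB (fun j => Nat.blt 0 (nxt 4194303 lab (Nat.mul (6 * 1023 + j) 22))) 1023 = cntW.getD 6 0 := by decide +kernel
theorem cnt_c7 : cntB (fun j => Nat.blt 0 (nxt 4194303 lab (Nat.mul (7 * 1023 + j) 22))) 1023 = cntW.getD 7 0 := by decide +kernel
theorem cnt_c8 : cntB (fun j => Nat.blt 0 (nxt 4194303 lab (Nat.mul (8 * 1023 + j) 22))) 1023 = cntW.getD 8 0 := by decide +kernel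
theorem cnt_c9 : cntB (fun j => Nat.blt 0 (nxt 4194303 lab (Nat.mul (9 * 1023 + j) 22))) 1023 = cntW.getD 9 0 := by decide +kernel
theorem cnt_c10 : cntB (fun j => Nat.blt 0 (nxt 4194303 lab (Nat.mul (10 * 1023 + j) 22))) 1023 = cntW.getD 10 0 := by decide +kernel
theorem cnt_c11 : cntB (fun j => Nat.blt 0 (nxt 4194303 lab (Nat.mul (11 * 1023 + j) 22))) 1023 = cntW.getD 11 0 := by decide +kernel
theorem cnt_c12 : cntB (fun j => Nat.blt 0 (nxt 4194303 lab (Nat.mul (12 * 1023 + j) 22))) 1023 = cntW.getD 12 0 := by decide +kernel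
theorem cnt_c13 : cntB (fun j => Nat.blt 0 (nxt 4194303 lab (Nat.mul (13 * 1023 + j) 22))) 1023 = cntW.getD 13 0 := by decide +kernel
theorem cnt_c14 : cntB (fun j => Nat.blt 0 (nxt 4194303 lab (Nat.mul (14 * 1023 + j) 22))) 1023 = cntW.getD 14 0 := by decide +kernel
theorem cnt_c15 : cntB (fun j => Nat.blt 0 (nxt 4194303 lab (Nat.mul (15 * 1023 + j) 22))) 1023 = cntW.getD 15 0 := by decide +kernel
theorem cnt_c16 : cntB (fun j => Nat.blt 0 (nxt 4194303 lab (Nat.mul (16 * 1023 + j) 22))) 1023 = cntW.getD 16 0 := by decide +kernel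
theorem cnt_c17 : cntB (fun j => Nat.blt 0 (nxt 4194303 lab (Nat.mul (17 * 1023 + j) 22))) 1023 = cntW.getD 17 0 := by decide +kernel
theorem cnt_c18 : cntB (fun j => Nat.blt 0 (nxt 4194303 lab (Nat.mul (18 * 1023 + j) 22))) 1023 = cntW.getD 18 0 := by decide +kernel
theorem cnt_c19 : cntB (fun j => Nat.blt 0 (nxt 4194303 lab (Nat.mul (19 * 1023 + j) 22))) 1023 = cntW.getD 19 0 := by decide +kernel
theorem cnt_c20 : cntB (fun j => Nat.blt 0 (nxt 4194303 lab (Nat.mul (20 * 1023 + j) 22))) 1023 = cntW.getD 20 0 := by decide +kernel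
theorem cnt_c21 : cntB (fun j => Nat.blt 0 (nxt 4194303 lab (Nat.mul (21 * 1023 + j) 22))) 1023 = cntW.getD 21 0 := by decide +kernel
theorem cnt_c22 : cntB (fun j => Nat.blt 0 (nxt 4194303 lab (Nat.mul (22 * 1023 + j) 22))) 1023 = cntW.getD 22 0 := by decide +kernel
theorem cnt_c23 : cntB (fun j => Nat.blt 0 (nxt 4194303 lab (Nat.mul (23 * 1023 + j) 22))) 1023 = cntW.getD 23 0 := by decide +kernel
theorem cnt_c24 : cntB (fun j => Nat.blt 0 (nxt 4194303 lab (Nat.mul (24 * 1023 + j) 22))) 1023 = cntW.getD 24 0 := by decide +kernel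
theorem cnt_c25 : cntB (fun j => Nat.blt 0 (nxt 4194303 lab (Nat.mul (25 * 1023 + j) 22))) 1023 = cntW.getD 25 0 := by decide +kernel
theorem cnt_c26 : cntB (fun j => Nat.blt 0 (nxt 4194303 lab (Nat.mul (26 * 1023 + j) 22))) 1023 = cntW.getD 26 0 := by decide +kernel
theorem cnt_c27 : cntB (fun j => Nat.blt 0 (nxt 4194303 lab (Nat.mul (27 * 1023 + j) 22))) 1023 = cntW.getD 27 0 := by decide +kernel
theorem cnt_c28 : cntB (fun j => Nat.blt 0 (nxt 4194303 lab (Nat.mul (28 * 1023 + j) 22))) 1023 = cntW.getD 28 0 := by decide +kernel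
theorem cnt_c29 : cntB (fun j => Nat.blt 0 (nxt 4194303 lab (Nat.mul (29 * 1023 + j) 22))) 1023 = cntW.getD 29 0 := by decide +kernel
theorem cnt_c30 : cntB (fun j => Nat.blt 0 (nxt 4194303 lab (Nat.mul (30 * 1023 + j) 22))) 1023 = cntW.getD 30 0 := by decide +kernel
theorem cnt_c31 : cntB (fun j => Nat.blt 0 (nxt 4194303 lab (Nat.mul (31 * 1023 + j) 22))) 1023 = cntW.getD 31 0 := by decide +kernel
theorem cnt_c32 : cntB (fun j => Nat.blt 0 (nxt 4194303 lab (Nat.mul (32 * 1023 + j) 22))) 1023 = cntW.getD 32 0 := by decide +kernel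
theorem cnt_c33 : cntB (fun j => Nat.blt 0 (nxt 4194303 lab (Nat.mul (33 * 1023 + j) 22))) 1023 = cntW.getD 33 0 := by decide +kernel
theorem cnt_c34 : cntB (fun j => Nat.blt 0 (nxt 4194303 lab (Nat.mul (34 * 1023 + j) 22))) 1023 = cntW.getD 34 0 := by decide +kernel
theorem cnt_c35 : cntB (fun j => Nat.blt 0 (nxt 4194303 lab (Nat.mul (35 * 1023 + j) 22))) 1023 = cntW.getD 35 0 := by decide +kernel
theorem cnt_c36 : cntB (fun j => Nat.blt 0 (nxt 4194303 lab (Nat.mul (36 * 1023 + j) 22))) 1023 = cntW.getD 36 0 := by decide +kernel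
theorem cnt_c37 : cntB (fun j => Nat.blt 0 (nxt 4194303 lab (Nat.mul (37 * 1023 + j) 22))) 1023 = cntW.getD 37 0 := by decide +kernel
theorem cnt_c38 : cntB (fun j => Nat.blt 0 (nxt 4194303 lab (Nat.mul (38 * 1023 + j) 22))) 1023 = cntW.getD 38 0 := by decide +kernel
theorem cnt_c39 : cntB (fun j => Nat.blt 0 (nxt 4194303 lab (Nat.mul (39 * 1023 + j) 22))) 1023 = cntW.getD 39 0 := by decide +kernel
theorem cnt_c40 : cntB (fun j => Nat.blt 0 (nxt 4194303 lab (Nat.mul (40 * 1023 + j) 22))) 1023 = cntW.getD 40 0 := by decide +kernel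
theorem cnt_c41 : cntB (fun j => Nat.blt 0 (nxt 4194303 lab (Nat.mul (41 * 1023 + j) 22))) 1023 = cntW.getD 41 0 := by decide +kernel
theorem cnt_c42 : cntB (fun j => Nat.blt 0 (nxt 4194303 lab (Nat.mul (42 * 1023 + j) 22))) 1023 = cntW.getD 42 0 := by decide +kernel
theorem cnt_c43 : cntB (fun j => Nat.blt 0 (nxt 4194303 lab (Nat.mul (43 * 1023 + j) 22))) 1023 = cntW.getD 43 0 := by decide +kernel
theorem cnt_c44 : cntB (fun j => Nat.blt 0 (nxt 4194303 lab (Nat.mul (44 * 1023 + j) 22))) 1023 = cntW.getD 44 0 := by decide +kernel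
theorem cnt_c45 : cntB (fun j => Nat.blt 0 (nxt 4194303 lab (Nat.mul (45 * 1023 + j) 22))) 1023 = cntW.getD 45 0 := by decide +kernel
theorem cnt_c46 : cntB (fun j => Nat.blt 0 (nxt 4194303 lab (Nat.mul (46 * 1023 + j) 22))) 1023 = cntW.getD 46 0 := by decide +kernel
theorem cnt_c47 : cntB (fun j => Nat.blt 0 (nxt 4194303 lab (Nat.mul (47 * 1023 + j) 22))) 1023 = cntW.getD 47 0 := by decide +kernel
theorem cnt_c48 : cntB (fun j => Nat.blt 0 (nxt 4194303 lab (Nat.mul (48 * 1023 + j) 22))) 1023 = cntW.getD 48 0 := by decide +kernel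
theorem cnt_c49 : cntB (fun j => Nat.blt 0 (nxt 4194303 lab (Nat.mul (49 * 1023 + j) 22))) 1023 = cntW.getD 49 0 := by decide +kernel
theorem cnt_c50 : cntB (fun j => Nat.blt 0 (nxt 4194303 lab (Nat.mul (50 * 1023 + j) 22))) 1023 = cntW.getD 50 0 := by decide +kernel
theorem cnt_c51 : cntB (fun j => Nat.blt 0 (nxt 4194303 lab (Nat.mul (51 * 1023 + j) 22))) 1023 = cntW.getD 51 0 := by decide +kernel
theorem cnt_c52 : cntB (fun j => Nat.blt 0 (nxt 4194303 lab (Nat.mul (52 * 1023 + j) 22))) 1023 = cntW.getD 52 0 := by decide +kernel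
theorem cnt_c53 : cntB (fun j => Nat.blt 0 (nxt 4194303 lab (Nat.mul (53 * 1023 + j) 22))) 1023 = cntW.getD 53 0 := by decide +kernel
theorem cnt_c54 : cntB (fun j => Nat.blt 0 (nxt 4194303 lab (Nat.mul (54 * 1023 + j) 22))) 1023 = cntW.getD 54 0 := by decide +kernel
theorem cnt_c55 : cntB (fun j => Nat.blt 0 (nxt 4194303 lab (Nat.mul (55 * 1023 + j) 22))) 1023 = cntW.getD 55 0 := by decide +kernel
theorem cnt_c56 : cntB (fun j => Nat.blt 0 (nxt 4194303 lab (Nat.mul (56 * 1023 + j) 22))) 1023 = cntW.getD 56 0 := by decide +kernel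
theorem cnt_c57 : cntB (fun j => Nat.blt 0 (nxt 4194303 lab (Nat.mul (57 * 1023 + j) 22))) 1023 = cntW.getD 57 0 := by decide +kernel
theorem cnt_c58 : cntB (fun j => Nat.blt 0 (nxt 4194303 lab (Nat.mul (58 * 1023 + j) 22))) 1023 = cntW.getD 58 0 := by decide +kernel
theorem cnt_c59 : cntB (fun j => Nat.blt 0 (nxt 4194303 lab (Nat.mul (59 * 1023 + j) 22))) 1023 = cntW.getD 59 0 := by decide +kernel
theorem cnt_c60 : cntB (fun j => Nat.blt 0 (nxt 4194303 lab (Nat.mul (60 * 1023 + j) 22))) 1023 = cntW.getD 60 0 := by decide +kernel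
theorem cnt_c61 : cntB (fun j => Nat.blt 0 (nxt 4194303 lab (Nat.mul (61 * 1023 + j) 22))) 1023 = cntW.getD 61 0 := by decide +kernel
theorem cnt_c62 : cntB (fun j => Nat.blt 0 (nxt 4194303 lab (Nat.mul (62 * 1023 + j) 22))) 1023 = cntW.getD 62 0 := by decide +kernel
theorem cnt_c63 : cntB (fun j => Nat.blt 0 (nxt 4194303 lab (Nat.mul (63 * 1023 + j) 22))) 1023 = cntW.getD 63 0 := by decide +kernel
theorem cnt_c64 : cntB (fun j => Nat.blt 0 (nxt 4194303 lab (Nat.mul (64 * 1023 + j) 22))) 1023 = cntW.getD 64 0 := by decide +kernel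
theorem cnt_c65 : cntB (fun j => Nat.blt 0 (nxt 4194303 lab (Nat.mul (65 * 1023 + j) 22))) 1023 = cntW.getD 65 0 := by decide +kernel
theorem cnt_c66 : cntB (fun j => Nat.blt 0 (nxt 4194303 lab (Nat.mul (66 * 1023 + j) 22))) 1023 = cntW.getD 66 0 := by decide +kernel
theorem cnt_c67 : cntB (fun j => Nat.blt 0 (nxt 4194303 lab (Nat.mul (67 * 1023 + j) 22))) 1023 = cntW.getD 67 0 := by decide +kernel
theorem cnt_c68 : cntB (fun j => Nat.blt 0 (nxt 4194303 lab (Nat.mul (68 * 1023 + j) 22))) 1023 = cntW.getD 68 0 := by decide +kernel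
theorem cnt_c69 : cntB (fun j => Nat.blt 0 (nxt 4194303 lab (Nat.mul (69 * 1023 + j) 22))) 1023 = cntW.getD 69 0 := by decide +kernel
theorem cnt_c70 : cntB (fun j => Nat.blt 0 (nxt 4194303 lab (Nat.mul (70 * 1023 + j) 22))) 1023 = cntW.getD 70 0 := by decide +kernel
theorem cnt_c71 : cntB (fun j => Nat.blt 0 (nxt 4194303 lab (Nat.mul (71 * 1023 + j) 22))) 1023 = cntW.getD 71 0 := by decide +kernel
theorem cnt_c72 : cntB (fun j => Nat.blt 0 (nxt 4194303 lab (Nat.mul (72 * 1023 + j) 22))) 1023 = cntW.getD 72 0 := by decide +kernel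
theorem cnt_c73 : cntB (fun j => Nat.blt 0 (nxt 4194303 lab (Nat.mul (73 * 1023 + j) 22))) 1023 = cntW.getD 73 0 := by decide +kernel
theorem cnt_c74 : cntB (fun j => Nat.blt 0 (nxt 4194303 lab (Nat.mul (74 * 1023 + j) 22))) 1023 = cntW.getD 74 0 := by decide +kernel
theorem cnt_c75 : cntB (fun j => Nat.blt 0 (nxt 4194303 lab (Nat.mul (75 * 1023 + j) 22))) 1023 = cntW.getD 75 0 := by decide +kernel
theorem cnt_c76 : cntB (fun j => Nat.blt 0 (nxt 4194303 lab (Nat.mul (76 * 1023 + j) 22))) 1023 = cntW.getD 76 0 := by decide +kernel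
theorem cnt_c77 : cntB (fun j => Nat.blt 0 (nxt 4194303 lab (Nat.mul (77 * 1023 + j) 22))) 1023 = cntW.getD 77 0 := by decide +kernel
theorem cnt_c78 : cntB (fun j => Nat.blt 0 (nxt 4194303 lab (Nat.mul (78 * 1023 + j) 22))) 1023 = cntW.getD 78 0 := by decide +kernel
theorem cnt_c79 : cntB (fun j => Nat.blt 0 (nxt 4194303 lab (Nat.mul (79 * 1023 + j) 22))) 1023 = cntW.getD 79 0 := by decide +kernel
theorem cnt_c80 : cntB (fun j => Nat.blt 0 (nxt 4194303 lab (Nat.mul (80 * 1023 + j) 22))) 1023 = cntW.getD 80 0 := by decide +kernel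
theorem cnt_c81 : cntB (fun j => Nat.blt 0 (nxt 4194303 lab (Nat.mul (81 * 1023 + j) 22))) 1023 = cntW.getD 81 0 := by decide +kernel
theorem cnt_c82 : cntB (fun j => Nat.blt 0 (nxt 4194303 lab (Nat.mul (82 * 1023 + j) 22))) 1023 = cntW.getD 82 0 := by decide +kernel
theorem cnt_c83 : cntB (fun j => Nat.blt 0 (nxt 4194303 lab (Nat.mul (83 * 1023 + j) 22))) 1023 = cntW.getD 83 0 := by decide +kernel
theorem cnt_c84 : cntB (fun j => Nat.blt 0 (nxt 4194303 lab (Nat.mul (84 * 1023 + j) 22))) 1023 = cntW.getD 84 0 := by decide +kernel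
theorem cnt_c85 : cntB (fun j => Nat.blt 0 (nxt 4194303 lab (Nat.mul (85 * 1023 + j) 22))) 1023 = cntW.getD 85 0 := by decide +kernel
theorem cnt_c86 : cntB (fun j => Nat.blt 0 (nxt 4194303 lab (Nat.mul (86 * 1023 + j) 22))) 1023 = cntW.getD 86 0 := by decide +kernel
theorem cnt_c87 : cntB (fun j => Nat.blt 0 (nxt 4194303 lab (Nat.mul (87 * 1023 + j) 22))) 1023 = cntW.getD 87 0 := by decide +kernel
theorem cnt_c88 : cntB (fun j => Nat.blt 0 (nxt 4194303 lab (Nat.mul (88 * 1023 + j) 22))) 1023 = cntW.getD 88 0 := by decide +kernel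
theorem cnt_c89 : cntB (fun j => Nat.blt 0 (nxt 4194303 lab (Nat.mul (89 * 1023 + j) 22))) 1023 = cntW.getD 89 0 := by decide +kernel
theorem cnt_c90 : cntB (fun j => Nat.blt 0 (nxt 4194303 lab (Nat.mul (90 * 1023 + j) 22))) 1023 = cntW.getD 90 0 := by decide +kernel
theorem cnt_c91 : cntB (fun j => Nat.blt 0 (nxt 4194303 lab (Nat.mul (91 * 1023 + j) 22))) 1023 = cntW.getD 91 0 := by decide +kernel
theorem cnt_c92 : cntB (fun j => Nat.blt 0 (nxt 4194303 lab (Nat.mul (92 * 1023 + j) 22))) 1023 = cntW.getD 92 0 := by decide +kernel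
theorem cnt_c93 : cntB (fun j => Nat.blt 0 (nxt 4194303 lab (Nat.mul (93 * 1023 + j) 22))) 1023 = cntW.getD 93 0 := by decide +kernel
theorem cnt_c94 : cntB (fun j => Nat.blt 0 (nxt 4194303 lab (Nat.mul (94 * 1023 + j) 22))) 1023 = cntW.getD 94 0 := by decide +kernel
theorem cnt_c95 : cntB (fun j => Nat.blt 0 (nxt 4194303 lab (Nat.mul (95 * 1023 + j) 22))) 1023 = cntW.getD 95 0 := by decide +kernel
theorem cnt_c96 : cntB (fun j => Nat.blt 0 (nxt 4194303 lab (Nat.mul (96 * 1023 + j) 22))) 1023 = cntW.getD 96 0 := by decide +kernel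
theorem cnt_c97 : cntB (fun j => Nat.blt 0 (nxt 4194303 lab (Nat.mul (97 * 1023 + j) 22))) 1023 = cntW.getD 97 0 := by decide +kernel
theorem cnt_c98 : cntB (fun j => Nat.blt 0 (nxt 4194303 lab (Nat.mul (98 * 1023 + j) 22))) 1023 = cntW.getD 98 0 := by decide +kernel
theorem cnt_c99 : cntB (fun j => Nat.blt 0 (nxt 4194303 lab (Nat.mul (99 * 1023 + j) 22))) 1023 = cntW.getD 99 0 := by decide +kernel
theorem cnt_c100 : cntB (fun j => Nat.blt 0 (nxt 4194303 lab (Nat.mul (100 * 1023 + j) 22))) 1023 = cntW.getD 100 0 := by decide +kernel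
theorem cnt_c101 : cntB (fun j => Nat.blt 0 (nxt 4194303 lab (Nat.mul (101 * 1023 + j) 22))) 1023 = cntW.getD 101 0 := by decide +kernel
theorem cnt_c102 : cntB (fun j => Nat.blt 0 (nxt 4194303 lab (Nat.mul (102 * 1023 + j) 22))) 1023 = cntW.getD 102 0 := by decide +kernel
theorem cnt_c103 : cntB (fun j => Nat.blt 0 (nxt 4194303 lab (Nat.mul (103 * 1023 + j) 22))) 1023 = cntW.getD 103 0 := by decide +kernel
theorem cnt_c104 : cntB (fun j => Nat.blt 0 (nxt 4194303 lab (Nat.mul (104 * 1023 + j) 22))) 1023 = cntW.getD 104 0 := by decide +kernel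
theorem cnt_c105 : cntB (fun j => Nat.blt 0 (nxt 4194303 lab (Nat.mul (105 * 1023 + j) 22))) 1023 = cntW.getD 105 0 := by decide +kernel
theorem cnt_c106 : cntB (fun j => Nat.blt 0 (nxt 4194303 lab (Nat.mul (106 * 1023 + j) 22))) 1023 = cntW.getD 106 0 := by decide +kernel
theorem cnt_c107 : cntB (fun j => Nat.blt 0 (nxt 4194303 lab (Nat.mul (107 * 1023 + j) 22))) 1023 = cntW.getD 107 0 := by decide +kernel
theorem cnt_c108 : cntB (fun j => Nat.blt 0 (nxt 4194303 lab (Nat.mul (108 * 1023 + j) 22))) 1023 = cntW.getD 108 0 := by decide +kernel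
theorem cnt_c109 : cntB (fun j => Nat.blt 0 (nxt 4194303 lab (Nat.mul (109 * 1023 + j) 22))) 1023 = cntW.getD 109 0 := by decide +kernel
theorem cnt_c110 : cntB (fun j => Nat.blt 0 (nxt 4194303 lab (Nat.mul (110 * 1023 + j) 22))) 1023 = cntW.getD 110 0 := by decide +kernel
theorem cnt_c111 : cntB (fun j => Nat.blt 0 (nxt 4194303 lab (Nat.mul (111 * 1023 + j) 22))) 1023 = cntW.getD 111 0 := by decide +kernel
theorem cnt_c112 : cntB (fun j => Nat.blt 0 (nxt 4194303 lab (Nat.mul (112 * 1023 + j) 22))) 1023 = cntW.getD 112 0 := by decide +kernel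
theorem cnt_c113 : cntB (fun j => Nat.blt 0 (nxt 4194303 lab (Nat.mul (113 * 1023 + j) 22))) 1023 = cntW.getD 113 0 := by decide +kernel
theorem cnt_c114 : cntB (fun j => Nat.blt 0 (nxt 4194303 lab (Nat.mul (114 * 1023 + j) 22))) 1023 = cntW.getD 114 0 := by decide +kernel
theorem cnt_c115 : cntB (fun j => Nat.blt 0 (nxt 4194303 lab (Nat.mul (115 * 1023 + j) 22))) 1023 = cntW.getD 115 0 := by decide +kernel
theorem cnt_c116 : cntB (fun j => Nat.blt 0 (nxt 4194303 lab (Nat.mul (116 * 1023 + j) 22))) 1023 = cntW.getD 116 0 := by decide +kernel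
theorem cnt_c117 : cntB (fun j => Nat.blt 0 (nxt 4194303 lab (Nat.mul (117 * 1023 + j) 22))) 1023 = cntW.getD 117 0 := by decide +kernel
theorem cnt_c118 : cntB (fun j => Nat.blt 0 (nxt 4194303 lab (Nat.mul (118 * 1023 + j) 22))) 1023 = cntW.getD 118 0 := by decide +kernel
theorem cnt_c119 : cntB (fun j => Nat.blt 0 (nxt 4194303 lab (Nat.mul (119 * 1023 + j) 22))) 1023 = cntW.getD 119 0 := by decide +kernel

theorem cnt : cntB (fun k => Nat.blt 0 (nxt 4194303 lab (Nat.mul k 22))) 122760 = 2 := by
  have h := Cfsg.Agent.Lib.Helper28_CntSplit.cntB_chunks (fun k => Nat.blt 0 (nxt 4194303 lab (Nat.mul k 22))) 1023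
    (fun i => cntW.getD i 0) 120 (by
      intro i hi
      interval_cases i
      · exact cnt_c0
      · exact cnt_c1
      · exact cnt_c2
      · exact cnt_c3
      · exact cnt_c4
      · exact cnt_c5
      · exact cnt_c6
      · exact cnt_c7
      · exact cnt_c8
      · exact cnt_c9
      · exact cnt_c10
      · exact cnt_c11
      · exact cnt_c12
      · exact cnt_c13
      · exact cnt_c14
      · exact cnt_c15
      · exact cnt_c16
      · exact cnt_c17
      · exact cnt_c18
      · exact cnt_c19
      · exact cnt_c20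
      · exact cnt_c21
      · exact cnt_c22
      · exact cnt_c23
      · exact cnt_c24
      · exact cnt_c25
      · exact cnt_c26
      · exact cnt_c27
      · exact cnt_c28
      · exact cnt_c29
      · exact cnt_c30
      · exact cnt_c31
      · exact cnt_c32
      · exact cnt_c33
      · exact cnt_c34
      · exact cnt_c35
      · exact cnt_c36
      · exact cnt_c37
      · exact cnt_c38
      · exact cnt_c39
      · exact cnt_c40
      · exact cnt_c41
      · exact cnt_c42
      · exact cnt_c43
      · exact cnt_c44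
      · exact cnt_c45
      · exact cnt_c46
      · exact cnt_c47
      · exact cnt_c48
      · exact cnt_c49
      · exact cnt_c50
      · exact cnt_c51
      · exact cnt_c52
      · exact cnt_c53
      · exact cnt_c54
      · exact cnt_c55
      · exact cnt_c56
      · exact cnt_c57
      · exact cnt_c58
      · exact cnt_c59
      · exact cnt_c60
      · exact cnt_c61
      · exact cnt_c62
      · exact cnt_c63
      · exact cnt_c64
      · exact cnt_c65
      · exact cnt_c66
      · exact cnt_c67
      · exact cnt_c68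
      · exact cnt_c69
      · exact cnt_c70
      · exact cnt_c71
      · exact cnt_c72
      · exact cnt_c73
      · exact cnt_c74
      · exact cnt_c75
      · exact cnt_c76
      · exact cnt_c77
      · exact cnt_c78
      · exact cnt_c79
      · exact cnt_c80
      · exact cnt_c81
      · exact cnt_c82
      · exact cnt_c83
      · exact cnt_c84
      · exact cnt_c85
      · exact cnt_c86
      · exact cnt_c87
      · exact cnt_c88
      · exact cnt_c89
      · exact cnt_c90
      · exact cnt_c91
      · exact cnt_c92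
      · exact cnt_c93
      · exact cnt_c94
      · exact cnt_c95
      · exact cnt_c96
      · exact cnt_c97
      · exact cnt_c98
      · exact cnt_c99
      · exact cnt_c100
      · exact cnt_c101
      · exact cnt_c102
      · exact cnt_c103
      · exact cnt_c104
      · exact cnt_c105
      · exact cnt_c106
      · exact cnt_c107
      · exact cnt_c108
      · exact cnt_c109
      · exact cnt_c110
      · exact cnt_c111
      · exact cnt_c112
      · exact cnt_c113
      · exact cnt_c114
      · exact cnt_c115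
      · exact cnt_c116
      · exact cnt_c117
      · exact cnt_c118
      · exact cnt_c119
      )
  exact h.trans (by decide +kernel)

theorem fix : ∀ a ∈ ([.f] : List Cfsg.Spor.ON.Gen), walk 4194303 col [(a, true)] (1 * 22) = 1 * 22 := by decide +kernel

theorem step [Finite (PresentedGroup (Cfsg.Spor.coxRelators Cfsg.Spor.ON.edges ∪ {r | r ∈ Cfsg.Spor.ON.extra}))] (Z : Subgroup (PresentedGroup (Cfsg.Spor.coxRelators Cfsg.Spor.ON.edges ∪ {r | r ∈ Cfsg.Spor.ON.extra}))) (hZ : ∀ z ∈ Z, psi (perm Cfsg.Agent.Lib.Helper28_S1692.verified.hv) Cfsg.Agent.Lib.Helper28_S1692.verified.hrel z = 1) :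
    2 * Nat.card (SG (Cfsg.Spor.coxRelators Cfsg.Spor.ON.edges ∪ {r | r ∈ Cfsg.Spor.ON.extra}) [.f] ⊔ Z : Subgroup (PresentedGroup (Cfsg.Spor.coxRelators Cfsg.Spor.ON.edges ∪ {r | r ∈ Cfsg.Spor.ON.extra}))) ≤ Nat.card (SG (Cfsg.Spor.coxRelators Cfsg.Spor.ON.edges ∪ {r | r ∈ Cfsg.Spor.ON.extra}) [.d, .f] ⊔ Z : Subgroup (PresentedGroup (Cfsg.Spor.coxRelators Cfsg.Spor.ON.edges ∪ {r | r ∈ Cfsg.Spor.ON.extra}))) :=
  Verified.step Cfsg.Agent.Lib.Helper28_S1692.verified Z hZ [.d, .f] [.f] (by decide) lab (⟨1, by norm_num⟩ : Fin 122760) ls (by decide) fix chk_all 2 cnt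

theorem stab [Finite (PresentedGroup (Cfsg.Spor.coxRelators Cfsg.Spor.ON.edges ∪ {r | r ∈ Cfsg.Spor.ON.extra}))] (htight : Nat.card (SG (Cfsg.Spor.coxRelators Cfsg.Spor.ON.edges ∪ {r | r ∈ Cfsg.Spor.ON.extra}) [.d, .f]) ≤ 2 * Nat.card (SG (Cfsg.Spor.coxRelators Cfsg.Spor.ON.edges ∪ {r | r ∈ Cfsg.Spor.ON.extra}) [.f])) :
    ∀ g ∈ SG (Cfsg.Spor.coxRelators Cfsg.Spor.ON.edges ∪ {r | r ∈ Cfsg.Spor.ON.extra}) [.d, .f], psi (perm Cfsg.Agent.Lib.Helper28_S1692.verified.hv) Cfsg.Agent.Lib.Helper28_S1692.verified.hrel g (⟨1, by norm_num⟩ : Fin 122760) = (⟨1, by norm_num⟩ : Fin 122760) → g ∈ SG (Cfsg.Spor.coxRelators Cfsg.Spor.ON.edges ∪ {r | r ∈ Cfsg.Spor.ON.extra}) [.f] :=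
  Verified.stab_step Cfsg.Agent.Lib.Helper28_S1692.verified [.d, .f] [.f] (by decide) lab (⟨1, by norm_num⟩ : Fin 122760) ls (by decide) fix chk_all 2 cnt (by norm_num) htight

end Cfsg.Agent.Lib.Helper28_ONLB5
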