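import Cfsg.Agent.Lib.Helper28_ONLB2  -- build-order chain (limits parallel memory use)
import Cfsg.Agent.Lib.Helper28_S1692
import Cfsg.Agent.Lib.Helper28_OrbitLB2
import Cfsg.Agent.Lib.Helper28_CntSplit

set_option autoImplicit false
set_option linter.constructorNameAsVariable false
set_option Elab.async false

namespace Cfsg.Agent.Lib.Helper28_ONLB6

open Cfsg.Spor Cfsg.Agent.Lib.Helper28_CosetPerm Cfsg.Agent.Lib.Helper28_OrbitLB Cfsg.Agent.Lib.Helper28_S1692 Cfsg.Agent.Lib.Helper28_S1692Tab

def lab : Nat := 0x80000000000000000000000000000000000000000000000000000000000000000000000000000000000000004000000000000000000000000000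

def ls : List (Cfsg.Spor.ON.Gen × Bool) := [(.f, true)]

def chk (x : ℕ) : Bool := lchk 4194303 col lab 110 ls x

theorem r0 : allRange chk 22 0 882 = true := by decide +kernel
theorem u0 : ∀ k, 0 ≤ k → k < 882 → chk (k * 22) = true := between_extend chk 22 0 0 882 (between_start chk 22 0) r0

theorem r1 : allRange chk 22 882 888 = true := by decide +kernel
theorem u1 : ∀ k, 0 ≤ k → k < 1770 → chk (k * 22) = true := between_extend chk 22 0 882 888 (u0) r1

theorem r2 : allRange chk 22 1770 888 = true := by decide +kernel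
theorem u2 : ∀ k, 0 ≤ k → k < 2658 → chk (k * 22) = true := between_extend chk 22 0 1770 888 (u1) r2

theorem r3 : allRange chk 22 2658 888 = true := by decide +kernel
theorem u3 : ∀ k, 0 ≤ k → k < 3546 → chk (k * 22) = true := between_extend chk 22 0 2658 888 (u2) r3

theorem r4 : allRange chk 22 3546 888 = true := by decide +kernel
theorem u4 : ∀ k, 0 ≤ k → k < 4434 → chk (k * 22) = true := between_extend chk 22 0 3546 888 (u3) r4

theorem r5 : allRange chk 22 4434 888 = true := by decide +kernel
theorem u5 : ∀ k, 0 ≤ k → k < 5322 → chk (k * 22) = true := between_extend chk 22 0 4434 888 (u4) r5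

theorem r6 : allRange chk 22 5322 888 = true := by decide +kernel
theorem u6 : ∀ k, 0 ≤ k → k < 6210 → chk (k * 22) = true := between_extend chk 22 0 5322 888 (u5) r6

theorem r7 : allRange chk 22 6210 888 = true := by decide +kernel
theorem u7 : ∀ k, 0 ≤ k → k < 7098 → chk (k * 22) = true := between_extend chk 22 0 6210 888 (u6) r7

theorem r8 : allRange chk 22 7098 888 = true := by decide +kernel
theorem u8 : ∀ k, 0 ≤ k → k < 7986 → chk (k * 22) = true := between_extend chk 22 0 7098 888 (u7) r8

theorem r9 : allRange chk 22 7986 888 = true := by decide +kernel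
theorem u9 : ∀ k, 0 ≤ k → k < 8874 → chk (k * 22) = true := between_extend chk 22 0 7986 888 (u8) r9

theorem r10 : allRange chk 22 8874 888 = true := by decide +kernel
theorem u10 : ∀ k, 0 ≤ k → k < 9762 → chk (k * 22) = true := between_extend chk 22 0 8874 888 (u9) r10

theorem r11 : allRange chk 22 9762 888 = true := by decide +kernel
theorem u11 : ∀ k, 0 ≤ k → k < 10650 → chk (k * 22) = true := between_extend chk 22 0 9762 888 (u10) r11

theorem r12 : allRange chk 22 10650 888 = true := by decide +kernel
theorem u12 : ∀ k, 0 ≤ k → k < 11538 → chk (k * 22) = true := between_extend chk 22 0 10650 888 (u11) r12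

theorem r13 : allRange chk 22 11538 888 = true := by decide +kernel
theorem u13 : ∀ k, 0 ≤ k → k < 12426 → chk (k * 22) = true := between_extend chk 22 0 11538 888 (u12) r13

theorem r14 : allRange chk 22 12426 888 = true := by decide +kernel
theorem u14 : ∀ k, 0 ≤ k → k < 13314 → chk (k * 22) = true := between_extend chk 22 0 12426 888 (u13) r14

theorem r15 : allRange chk 22 13314 888 = true := by decide +kernel
theorem u15 : ∀ k, 0 ≤ k → k < 14202 → chk (k * 22) = true := between_extend chk 22 0 13314 888 (u14) r15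

theorem r16 : allRange chk 22 14202 888 = true := by decide +kernel
theorem u16 : ∀ k, 0 ≤ k → k < 15090 → chk (k * 22) = true := between_extend chk 22 0 14202 888 (u15) r16

theorem r17 : allRange chk 22 15090 888 = true := by decide +kernel
theorem u17 : ∀ k, 0 ≤ k → k < 15978 → chk (k * 22) = true := between_extend chk 22 0 15090 888 (u16) r17

theorem r18 : allRange chk 22 15978 888 = true := by decide +kernel
theorem u18 : ∀ k, 0 ≤ k → k < 16866 → chk (k * 22) = true := between_extend chk 22 0 15978 888 (u17) r18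

theorem r19 : allRange chk 22 16866 888 = true := by decide +kernel
theorem u19 : ∀ k, 0 ≤ k → k < 17754 → chk (k * 22) = true := between_extend chk 22 0 16866 888 (u18) r19

theorem r20 : allRange chk 22 17754 888 = true := by decide +kernel
theorem u20 : ∀ k, 0 ≤ k → k < 18642 → chk (k * 22) = true := between_extend chk 22 0 17754 888 (u19) r20

theorem r21 : allRange chk 22 18642 888 = true := by decide +kernel
theorem u21 : ∀ k, 0 ≤ k → k < 19530 → chk (k * 22) = true := between_extend chk 22 0 18642 888 (u20) r21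

theorem r22 : allRange chk 22 19530 888 = true := by decide +kernel
theorem u22 : ∀ k, 0 ≤ k → k < 20418 → chk (k * 22) = true := between_extend chk 22 0 19530 888 (u21) r22

theorem r23 : allRange chk 22 20418 888 = true := by decide +kernel
theorem u23 : ∀ k, 0 ≤ k → k < 21306 → chk (k * 22) = true := between_extend chk 22 0 20418 888 (u22) r23

theorem r24 : allRange chk 22 21306 888 = true := by decide +kernel
theorem u24 : ∀ k, 0 ≤ k → k < 22194 → chk (k * 22) = true := between_extend chk 22 0 21306 888 (u23) r24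

theorem r25 : allRange chk 22 22194 888 = true := by decide +kernel
theorem u25 : ∀ k, 0 ≤ k → k < 23082 → chk (k * 22) = true := between_extend chk 22 0 22194 888 (u24) r25

theorem r26 : allRange chk 22 23082 888 = true := by decide +kernel
theorem u26 : ∀ k, 0 ≤ k → k < 23970 → chk (k * 22) = true := between_extend chk 22 0 23082 888 (u25) r26

theorem r27 : allRange chk 22 23970 888 = true := by decide +kernel
theorem u27 : ∀ k, 0 ≤ k → k < 24858 → chk (k * 22) = true := between_extend chk 22 0 23970 888 (u26) r27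

theorem r28 : allRange chk 22 24858 888 = true := by decide +kernel
theorem u28 : ∀ k, 0 ≤ k → k < 25746 → chk (k * 22) = true := between_extend chk 22 0 24858 888 (u27) r28

theorem r29 : allRange chk 22 25746 888 = true := by decide +kernel
theorem u29 : ∀ k, 0 ≤ k → k < 26634 → chk (k * 22) = true := between_extend chk 22 0 25746 888 (u28) r29

theorem r30 : allRange chk 22 26634 888 = true := by decide +kernel
theorem u30 : ∀ k, 0 ≤ k → k < 27522 → chk (k * 22) = true := between_extend chk 22 0 26634 888 (u29) r30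

theorem r31 : allRange chk 22 27522 888 = true := by decide +kernel
theorem u31 : ∀ k, 0 ≤ k → k < 28410 → chk (k * 22) = true := between_extend chk 22 0 27522 888 (u30) r31

theorem r32 : allRange chk 22 28410 888 = true := by decide +kernel
theorem u32 : ∀ k, 0 ≤ k → k < 29298 → chk (k * 22) = true := between_extend chk 22 0 28410 888 (u31) r32

theorem r33 : allRange chk 22 29298 888 = true := by decide +kernel
theorem u33 : ∀ k, 0 ≤ k → k < 30186 → chk (k * 22) = true := between_extend chk 22 0 29298 888 (u32) r33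

theorem r34 : allRange chk 22 30186 888 = true := by decide +kernel
theorem u34 : ∀ k, 0 ≤ k → k < 31074 → chk (k * 22) = true := between_extend chk 22 0 30186 888 (u33) r34

theorem r35 : allRange chk 22 31074 888 = true := by decide +kernel
theorem u35 : ∀ k, 0 ≤ k → k < 31962 → chk (k * 22) = true := between_extend chk 22 0 31074 888 (u34) r35

theorem r36 : allRange chk 22 31962 888 = true := by decide +kernel
theorem u36 : ∀ k, 0 ≤ k → k < 32850 → chk (k * 22) = true := between_extend chk 22 0 31962 888 (u35) r36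

theorem r37 : allRange chk 22 32850 888 = true := by decide +kernel
theorem u37 : ∀ k, 0 ≤ k → k < 33738 → chk (k * 22) = true := between_extend chk 22 0 32850 888 (u36) r37

theorem r38 : allRange chk 22 33738 888 = true := by decide +kernel
theorem u38 : ∀ k, 0 ≤ k → k < 34626 → chk (k * 22) = true := between_extend chk 22 0 33738 888 (u37) r38

theorem r39 : allRange chk 22 34626 888 = true := by decide +kernel
theorem u39 : ∀ k, 0 ≤ k → k < 35514 → chk (k * 22) = true := between_extend chk 22 0 34626 888 (u38) r39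

theorem r40 : allRange chk 22 35514 888 = true := by decide +kernel
theorem u40 : ∀ k, 0 ≤ k → k < 36402 → chk (k * 22) = true := between_extend chk 22 0 35514 888 (u39) r40

theorem r41 : allRange chk 22 36402 888 = true := by decide +kernel
theorem u41 : ∀ k, 0 ≤ k → k < 37290 → chk (k * 22) = true := between_extend chk 22 0 36402 888 (u40) r41

theorem r42 : allRange chk 22 37290 888 = true := by decide +kernel
theorem u42 : ∀ k, 0 ≤ k → k < 38178 → chk (k * 22) = true := between_extend chk 22 0 37290 888 (u41) r42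

theorem r43 : allRange chk 22 38178 888 = true := by decide +kernel
theorem u43 : ∀ k, 0 ≤ k → k < 39066 → chk (k * 22) = true := between_extend chk 22 0 38178 888 (u42) r43

theorem r44 : allRange chk 22 39066 888 = true := by decide +kernel
theorem u44 : ∀ k, 0 ≤ k → k < 39954 → chk (k * 22) = true := between_extend chk 22 0 39066 888 (u43) r44

theorem r45 : allRange chk 22 39954 888 = true := by decide +kernel
theorem u45 : ∀ k, 0 ≤ k → k < 40842 → chk (k * 22) = true := between_extend chk 22 0 39954 888 (u44) r45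

theorem r46 : allRange chk 22 40842 888 = true := by decide +kernel
theorem u46 : ∀ k, 0 ≤ k → k < 41730 → chk (k * 22) = true := between_extend chk 22 0 40842 888 (u45) r46

theorem r47 : allRange chk 22 41730 888 = true := by decide +kernel
theorem u47 : ∀ k, 0 ≤ k → k < 42618 → chk (k * 22) = true := between_extend chk 22 0 41730 888 (u46) r47

theorem r48 : allRange chk 22 42618 888 = true := by decide +kernel
theorem u48 : ∀ k, 0 ≤ k → k < 43506 → chk (k * 22) = true := between_extend chk 22 0 42618 888 (u47) r48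

theorem r49 : allRange chk 22 43506 888 = true := by decide +kernel
theorem u49 : ∀ k, 0 ≤ k → k < 44394 → chk (k * 22) = true := between_extend chk 22 0 43506 888 (u48) r49

theorem r50 : allRange chk 22 44394 888 = true := by decide +kernel
theorem u50 : ∀ k, 0 ≤ k → k < 45282 → chk (k * 22) = true := between_extend chk 22 0 44394 888 (u49) r50

theorem r51 : allRange chk 22 45282 888 = true := by decide +kernel
theorem u51 : ∀ k, 0 ≤ k → k < 46170 → chk (k * 22) = true := between_extend chk 22 0 45282 888 (u50) r51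

theorem r52 : allRange chk 22 46170 888 = true := by decide +kernel
theorem u52 : ∀ k, 0 ≤ k → k < 47058 → chk (k * 22) = true := between_extend chk 22 0 46170 888 (u51) r52

theorem r53 : allRange chk 22 47058 888 = true := by decide +kernel
theorem u53 : ∀ k, 0 ≤ k → k < 47946 → chk (k * 22) = true := between_extend chk 22 0 47058 888 (u52) r53

theorem r54 : allRange chk 22 47946 888 = true := by decide +kernel
theorem u54 : ∀ k, 0 ≤ k → k < 48834 → chk (k * 22) = true := between_extend chk 22 0 47946 888 (u53) r54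

theorem r55 : allRange chk 22 48834 888 = true := by decide +kernel
theorem u55 : ∀ k, 0 ≤ k → k < 49722 → chk (k * 22) = true := between_extend chk 22 0 48834 888 (u54) r55

theorem r56 : allRange chk 22 49722 888 = true := by decide +kernel
theorem u56 : ∀ k, 0 ≤ k → k < 50610 → chk (k * 22) = true := between_extend chk 22 0 49722 888 (u55) r56

theorem r57 : allRange chk 22 50610 888 = true := by decide +kernel
theorem u57 : ∀ k, 0 ≤ k → k < 51498 → chk (k * 22) = true := between_extend chk 22 0 50610 888 (u56) r57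

theorem r58 : allRange chk 22 51498 888 = true := by decide +kernel
theorem u58 : ∀ k, 0 ≤ k → k < 52386 → chk (k * 22) = true := between_extend chk 22 0 51498 888 (u57) r58

theorem r59 : allRange chk 22 52386 888 = true := by decide +kernel
theorem u59 : ∀ k, 0 ≤ k → k < 53274 → chk (k * 22) = true := between_extend chk 22 0 52386 888 (u58) r59

theorem r60 : allRange chk 22 53274 888 = true := by decide +kernel
theorem u60 : ∀ k, 0 ≤ k → k < 54162 → chk (k * 22) = true := between_extend chk 22 0 53274 888 (u59) r60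

theorem r61 : allRange chk 22 54162 888 = true := by decide +kernel
theorem u61 : ∀ k, 0 ≤ k → k < 55050 → chk (k * 22) = true := between_extend chk 22 0 54162 888 (u60) r61

theorem r62 : allRange chk 22 55050 888 = true := by decide +kernel
theorem u62 : ∀ k, 0 ≤ k → k < 55938 → chk (k * 22) = true := between_extend chk 22 0 55050 888 (u61) r62

theorem r63 : allRange chk 22 55938 888 = true := by decide +kernel
theorem u63 : ∀ k, 0 ≤ k → k < 56826 → chk (k * 22) = true := between_extend chk 22 0 55938 888 (u62) r63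

theorem r64 : allRange chk 22 56826 888 = true := by decide +kernel
theorem u64 : ∀ k, 0 ≤ k → k < 57714 → chk (k * 22) = true := between_extend chk 22 0 56826 888 (u63) r64

theorem r65 : allRange chk 22 57714 888 = true := by decide +kernel
theorem u65 : ∀ k, 0 ≤ k → k < 58602 → chk (k * 22) = true := between_extend chk 22 0 57714 888 (u64) r65

theorem r66 : allRange chk 22 58602 888 = true := by decide +kernel
theorem u66 : ∀ k, 0 ≤ k → k < 59490 → chk (k * 22) = true := between_extend chk 22 0 58602 888 (u65) r66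

theorem r67 : allRange chk 22 59490 888 = true := by decide +kernel
theorem u67 : ∀ k, 0 ≤ k → k < 60378 → chk (k * 22) = true := between_extend chk 22 0 59490 888 (u66) r67

theorem r68 : allRange chk 22 60378 888 = true := by decide +kernel
theorem u68 : ∀ k, 0 ≤ k → k < 61266 → chk (k * 22) = true := between_extend chk 22 0 60378 888 (u67) r68

theorem r69 : allRange chk 22 61266 888 = true := by decide +kernel
theorem u69 : ∀ k, 0 ≤ k → k < 62154 → chk (k * 22) = true := between_extend chk 22 0 61266 888 (u68) r69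

theorem r70 : allRange chk 22 62154 888 = true := by decide +kernel
theorem u70 : ∀ k, 0 ≤ k → k < 63042 → chk (k * 22) = true := between_extend chk 22 0 62154 888 (u69) r70

theorem r71 : allRange chk 22 63042 888 = true := by decide +kernel
theorem u71 : ∀ k, 0 ≤ k → k < 63930 → chk (k * 22) = true := between_extend chk 22 0 63042 888 (u70) r71

theorem r72 : allRange chk 22 63930 888 = true := by decide +kernel
theorem u72 : ∀ k, 0 ≤ k → k < 64818 → chk (k * 22) = true := between_extend chk 22 0 63930 888 (u71) r72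

theorem r73 : allRange chk 22 64818 888 = true := by decide +kernel
theorem u73 : ∀ k, 0 ≤ k → k < 65706 → chk (k * 22) = true := between_extend chk 22 0 64818 888 (u72) r73

theorem r74 : allRange chk 22 65706 888 = true := by decide +kernel
theorem u74 : ∀ k, 0 ≤ k → k < 66594 → chk (k * 22) = true := between_extend chk 22 0 65706 888 (u73) r74

theorem r75 : allRange chk 22 66594 888 = true := by decide +kernel
theorem u75 : ∀ k, 0 ≤ k → k < 67482 → chk (k * 22) = true := between_extend chk 22 0 66594 888 (u74) r75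

theorem r76 : allRange chk 22 67482 888 = true := by decide +kernel
theorem u76 : ∀ k, 0 ≤ k → k < 68370 → chk (k * 22) = true := between_extend chk 22 0 67482 888 (u75) r76

theorem r77 : allRange chk 22 68370 888 = true := by decide +kernel
theorem u77 : ∀ k, 0 ≤ k → k < 69258 → chk (k * 22) = true := between_extend chk 22 0 68370 888 (u76) r77

theorem r78 : allRange chk 22 69258 888 = true := by decide +kernel
theorem u78 : ∀ k, 0 ≤ k → k < 70146 → chk (k * 22) = true := between_extend chk 22 0 69258 888 (u77) r78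

theorem r79 : allRange chk 22 70146 888 = true := by decide +kernel
theorem u79 : ∀ k, 0 ≤ k → k < 71034 → chk (k * 22) = true := between_extend chk 22 0 70146 888 (u78) r79

theorem r80 : allRange chk 22 71034 888 = true := by decide +kernel
theorem u80 : ∀ k, 0 ≤ k → k < 71922 → chk (k * 22) = true := between_extend chk 22 0 71034 888 (u79) r80

theorem r81 : allRange chk 22 71922 888 = true := by decide +kernel
theorem u81 : ∀ k, 0 ≤ k → k < 72810 → chk (k * 22) = true := between_extend chk 22 0 71922 888 (u80) r81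

theorem r82 : allRange chk 22 72810 888 = true := by decide +kernel
theorem u82 : ∀ k, 0 ≤ k → k < 73698 → chk (k * 22) = true := between_extend chk 22 0 72810 888 (u81) r82

theorem r83 : allRange chk 22 73698 888 = true := by decide +kernel
theorem u83 : ∀ k, 0 ≤ k → k < 74586 → chk (k * 22) = true := between_extend chk 22 0 73698 888 (u82) r83

theorem r84 : allRange chk 22 74586 888 = true := by decide +kernel
theorem u84 : ∀ k, 0 ≤ k → k < 75474 → chk (k * 22) = true := between_extend chk 22 0 74586 888 (u83) r84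

theorem r85 : allRange chk 22 75474 888 = true := by decide +kernel
theorem u85 : ∀ k, 0 ≤ k → k < 76362 → chk (k * 22) = true := between_extend chk 22 0 75474 888 (u84) r85

theorem r86 : allRange chk 22 76362 888 = true := by decide +kernel
theorem u86 : ∀ k, 0 ≤ k → k < 77250 → chk (k * 22) = true := between_extend chk 22 0 76362 888 (u85) r86

theorem r87 : allRange chk 22 77250 888 = true := by decide +kernel
theorem u87 : ∀ k, 0 ≤ k → k < 78138 → chk (k * 22) = true := between_extend chk 22 0 77250 888 (u86) r87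

theorem r88 : allRange chk 22 78138 888 = true := by decide +kernel
theorem u88 : ∀ k, 0 ≤ k → k < 79026 → chk (k * 22) = true := between_extend chk 22 0 78138 888 (u87) r88

theorem r89 : allRange chk 22 79026 888 = true := by decide +kernel
theorem u89 : ∀ k, 0 ≤ k → k < 79914 → chk (k * 22) = true := between_extend chk 22 0 79026 888 (u88) r89

theorem r90 : allRange chk 22 79914 888 = true := by decide +kernel
theorem u90 : ∀ k, 0 ≤ k → k < 80802 → chk (k * 22) = true := between_extend chk 22 0 79914 888 (u89) r90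

theorem r91 : allRange chk 22 80802 888 = true := by decide +kernel
theorem u91 : ∀ k, 0 ≤ k → k < 81690 → chk (k * 22) = true := between_extend chk 22 0 80802 888 (u90) r91

theorem r92 : allRange chk 22 81690 888 = true := by decide +kernel
theorem u92 : ∀ k, 0 ≤ k → k < 82578 → chk (k * 22) = true := between_extend chk 22 0 81690 888 (u91) r92

theorem r93 : allRange chk 22 82578 888 = true := by decide +kernel
theorem u93 : ∀ k, 0 ≤ k → k < 83466 → chk (k * 22) = true := between_extend chk 22 0 82578 888 (u92) r93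

theorem r94 : allRange chk 22 83466 888 = true := by decide +kernel
theorem u94 : ∀ k, 0 ≤ k → k < 84354 → chk (k * 22) = true := between_extend chk 22 0 83466 888 (u93) r94

theorem r95 : allRange chk 22 84354 888 = true := by decide +kernel
theorem u95 : ∀ k, 0 ≤ k → k < 85242 → chk (k * 22) = true := between_extend chk 22 0 84354 888 (u94) r95

theorem r96 : allRange chk 22 85242 888 = true := by decide +kernel
theorem u96 : ∀ k, 0 ≤ k → k < 86130 → chk (k * 22) = true := between_extend chk 22 0 85242 888 (u95) r96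

theorem r97 : allRange chk 22 86130 888 = true := by decide +kernel
theorem u97 : ∀ k, 0 ≤ k → k < 87018 → chk (k * 22) = true := between_extend chk 22 0 86130 888 (u96) r97

theorem r98 : allRange chk 22 87018 888 = true := by decide +kernel
theorem u98 : ∀ k, 0 ≤ k → k < 87906 → chk (k * 22) = true := between_extend chk 22 0 87018 888 (u97) r98

theorem r99 : allRange chk 22 87906 888 = true := by decide +kernel
theorem u99 : ∀ k, 0 ≤ k → k < 88794 → chk (k * 22) = true := between_extend chk 22 0 87906 888 (u98) r99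

theorem r100 : allRange chk 22 88794 888 = true := by decide +kernel
theorem u100 : ∀ k, 0 ≤ k → k < 89682 → chk (k * 22) = true := between_extend chk 22 0 88794 888 (u99) r100

theorem r101 : allRange chk 22 89682 888 = true := by decide +kernel
theorem u101 : ∀ k, 0 ≤ k → k < 90570 → chk (k * 22) = true := between_extend chk 22 0 89682 888 (u100) r101

theorem r102 : allRange chk 22 90570 888 = true := by decide +kernel
theorem u102 : ∀ k, 0 ≤ k → k < 91458 → chk (k * 22) = true := between_extend chk 22 0 90570 888 (u101) r102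

theorem r103 : allRange chk 22 91458 888 = true := by decide +kernel
theorem u103 : ∀ k, 0 ≤ k → k < 92346 → chk (k * 22) = true := between_extend chk 22 0 91458 888 (u102) r103

theorem r104 : allRange chk 22 92346 888 = true := by decide +kernel
theorem u104 : ∀ k, 0 ≤ k → k < 93234 → chk (k * 22) = true := between_extend chk 22 0 92346 888 (u103) r104

theorem r105 : allRange chk 22 93234 888 = true := by decide +kernel
theorem u105 : ∀ k, 0 ≤ k → k < 94122 → chk (k * 22) = true := between_extend chk 22 0 93234 888 (u104) r105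

theorem r106 : allRange chk 22 94122 888 = true := by decide +kernel
theorem u106 : ∀ k, 0 ≤ k → k < 95010 → chk (k * 22) = true := between_extend chk 22 0 94122 888 (u105) r106

theorem r107 : allRange chk 22 95010 888 = true := by decide +kernel
theorem u107 : ∀ k, 0 ≤ k → k < 95898 → chk (k * 22) = true := between_extend chk 22 0 95010 888 (u106) r107

theorem r108 : allRange chk 22 95898 888 = true := by decide +kernel
theorem u108 : ∀ k, 0 ≤ k → k < 96786 → chk (k * 22) = true := between_extend chk 22 0 95898 888 (u107) r108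

theorem r109 : allRange chk 22 96786 888 = true := by decide +kernel
theorem u109 : ∀ k, 0 ≤ k → k < 97674 → chk (k * 22) = true := between_extend chk 22 0 96786 888 (u108) r109

theorem r110 : allRange chk 22 97674 888 = true := by decide +kernel
theorem u110 : ∀ k, 0 ≤ k → k < 98562 → chk (k * 22) = true := between_extend chk 22 0 97674 888 (u109) r110

theorem r111 : allRange chk 22 98562 888 = true := by decide +kernel
theorem u111 : ∀ k, 0 ≤ k → k < 99450 → chk (k * 22) = true := between_extend chk 22 0 98562 888 (u110) r111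

theorem r112 : allRange chk 22 99450 888 = true := by decide +kernel
theorem u112 : ∀ k, 0 ≤ k → k < 100338 → chk (k * 22) = true := between_extend chk 22 0 99450 888 (u111) r112

theorem r113 : allRange chk 22 100338 888 = true := by decide +kernel
theorem u113 : ∀ k, 0 ≤ k → k < 101226 → chk (k * 22) = true := between_extend chk 22 0 100338 888 (u112) r113

theorem r114 : allRange chk 22 101226 888 = true := by decide +kernel
theorem u114 : ∀ k, 0 ≤ k → k < 102114 → chk (k * 22) = true := between_extend chk 22 0 101226 888 (u113) r114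

theorem r115 : allRange chk 22 102114 888 = true := by decide +kernel
theorem u115 : ∀ k, 0 ≤ k → k < 103002 → chk (k * 22) = true := between_extend chk 22 0 102114 888 (u114) r115

theorem r116 : allRange chk 22 103002 888 = true := by decide +kernel
theorem u116 : ∀ k, 0 ≤ k → k < 103890 → chk (k * 22) = true := between_extend chk 22 0 103002 888 (u115) r116

theorem r117 : allRange chk 22 103890 888 = true := by decide +kernel
theorem u117 : ∀ k, 0 ≤ k → k < 104778 → chk (k * 22) = true := between_extend chk 22 0 103890 888 (u116) r117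

theorem r118 : allRange chk 22 104778 888 = true := by decide +kernel
theorem u118 : ∀ k, 0 ≤ k → k < 105666 → chk (k * 22) = true := between_extend chk 22 0 104778 888 (u117) r118

theorem r119 : allRange chk 22 105666 888 = true := by decide +kernel
theorem u119 : ∀ k, 0 ≤ k → k < 106554 → chk (k * 22) = true := between_extend chk 22 0 105666 888 (u118) r119

theorem r120 : allRange chk 22 106554 888 = true := by decide +kernel
theorem u120 : ∀ k, 0 ≤ k → k < 107442 → chk (k * 22) = true := between_extend chk 22 0 106554 888 (u119) r120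

theorem r121 : allRange chk 22 107442 888 = true := by decide +kernel
theorem u121 : ∀ k, 0 ≤ k → k < 108330 → chk (k * 22) = true := between_extend chk 22 0 107442 888 (u120) r121

theorem r122 : allRange chk 22 108330 888 = true := by decide +kernel
theorem u122 : ∀ k, 0 ≤ k → k < 109218 → chk (k * 22) = true := between_extend chk 22 0 108330 888 (u121) r122

theorem r123 : allRange chk 22 109218 888 = true := by decide +kernel
theorem u123 : ∀ k, 0 ≤ k → k < 110106 → chk (k * 22) = true := between_extend chk 22 0 109218 888 (u122) r123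

theorem r124 : allRange chk 22 110106 888 = true := by decide +kernel
theorem u124 : ∀ k, 0 ≤ k → k < 110994 → chk (k * 22) = true := between_extend chk 22 0 110106 888 (u123) r124

theorem r125 : allRange chk 22 110994 888 = true := by decide +kernel
theorem u125 : ∀ k, 0 ≤ k → k < 111882 → chk (k * 22) = true := between_extend chk 22 0 110994 888 (u124) r125

theorem r126 : allRange chk 22 111882 888 = true := by decide +kernel
theorem u126 : ∀ k, 0 ≤ k → k < 112770 → chk (k * 22) = true := between_extend chk 22 0 111882 888 (u125) r126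

theorem r127 : allRange chk 22 112770 888 = true := by decide +kernel
theorem u127 : ∀ k, 0 ≤ k → k < 113658 → chk (k * 22) = true := between_extend chk 22 0 112770 888 (u126) r127

theorem r128 : allRange chk 22 113658 888 = true := by decide +kernel
theorem u128 : ∀ k, 0 ≤ k → k < 114546 → chk (k * 22) = true := between_extend chk 22 0 113658 888 (u127) r128

theorem r129 : allRange chk 22 114546 888 = true := by decide +kernel
theorem u129 : ∀ k, 0 ≤ k → k < 115434 → chk (k * 22) = true := between_extend chk 22 0 114546 888 (u128) r129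

theorem r130 : allRange chk 22 115434 888 = true := by decide +kernel
theorem u130 : ∀ k, 0 ≤ k → k < 116322 → chk (k * 22) = true := between_extend chk 22 0 115434 888 (u129) r130

theorem r131 : allRange chk 22 116322 888 = true := by decide +kernel
theorem u131 : ∀ k, 0 ≤ k → k < 117210 → chk (k * 22) = true := between_extend chk 22 0 116322 888 (u130) r131

theorem r132 : allRange chk 22 117210 888 = true := by decide +kernel
theorem u132 : ∀ k, 0 ≤ k → k < 118098 → chk (k * 22) = true := between_extend chk 22 0 117210 888 (u131) r132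

theorem r133 : allRange chk 22 118098 888 = true := by decide +kernel
theorem u133 : ∀ k, 0 ≤ k → k < 118986 → chk (k * 22) = true := between_extend chk 22 0 118098 888 (u132) r133

theorem r134 : allRange chk 22 118986 888 = true := by decide +kernel
theorem u134 : ∀ k, 0 ≤ k → k < 119874 → chk (k * 22) = true := between_extend chk 22 0 118986 888 (u133) r134

theorem r135 : allRange chk 22 119874 888 = true := by decide +kernel
theorem u135 : ∀ k, 0 ≤ k → k < 120762 → chk (k * 22) = true := between_extend chk 22 0 119874 888 (u134) r135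

theorem r136 : allRange chk 22 120762 888 = true := by decide +kernel
theorem u136 : ∀ k, 0 ≤ k → k < 121650 → chk (k * 22) = true := between_extend chk 22 0 120762 888 (u135) r136

theorem r137 : allRange chk 22 121650 888 = true := by decide +kernel
theorem u137 : ∀ k, 0 ≤ k → k < 122538 → chk (k * 22) = true := between_extend chk 22 0 121650 888 (u136) r137

theorem r138 : allRange chk 22 122538 222 = true := by decide +kernel
theorem u138 : ∀ k, 0 ≤ k → k < 122760 → chk (k * 22) = true := between_extend chk 22 0 122538 222 (u137) r138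

theorem chk_all : ∀ k < 122760, lchk 4194303 col lab 110 ls (k * 22) = true := between_all chk 22 122760 u138

def cntW : List ℕ := [2, 0, 0, 0, 0, 0, 0, 0, 0, 0, 0, 0, 0, 0, 0, 0, 0, 0, 0, 0, 0, 0, 0, 0, 0, 0, 0, 0, 0, 0, 0, 0, 0, 0, 0, 0, 0, 0, 0, 0, 0, 0, 0, 0, 0, 0, 0, 0, 0, 0, 0, 0, 0, 0, 0, 0, 0, 0, 0, 0, 0, 0, 0, 0, 0, 0, 0, 0, 0, 0, 0, 0, 0, 0, 0, 0, 0, 0, 0, 0, 0, 0, 0, 0, 0, 0, 0, 0, 0, 0, 0, 0, 0, 0, 0, 0, 0, 0, 0, 0, 0, 0, 0, 0, 0, 0, 0, 0, 0, 0, 0, 0, 0, 0, 0, 0, 0, 0, 0, 0]

theorem cnt_c0 : cntB (fun j => Nat.blt 0 (nxt 4194303 lab (Nat.mul (0 * 1023 + j) 22))) 1023 = cntW.getD 0 0 := by decide +kernel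
theorem cnt_c1 : cntB (fun j => Nat.blt 0 (nxt 4194303 lab (Nat.mul (1 * 1023 + j) 22))) 1023 = cntW.getD 1 0 := by decide +kernel
theorem cnt_c2 : cntB (fun j => Nat.blt 0 (nxt 4194303 lab (Nat.mul (2 * 1023 + j) 22))) 1023 = cntW.getD 2 0 := by decide +kernel
theorem cnt_c3 : cntB (fun j => Nat.blt 0 (nxt 4194303 lab (Nat.mul (3 * 1023 + j) 22))) 1023 = cntW.getD 3 0 := by decide +kernel
theorem cnt_c4 : cntB (fun j => Nat.blt 0 (nxt 4194303 lab (Nat.mul (4 * 1023 + j) 22))) 1023 = cntW.getD 4 0 := by decide +kernel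
theorem cnt_c5 : cntB (fun j => Nat.blt 0 (nxt 4194303 lab (Nat.mul (5 * 1023 + j) 22))) 1023 = cntW.getD 5 0 := by decide +kernel
theorem cnt_c6 : cntB (fun j => Nat.blt 0 (nxt 4194303 lab (Nat.mul (6 * 1023 + j) 22))) 1023 = cntW.getD 6 0 := by decide +kernel
theorem cnt_c7 : cntB (fun j => Nat.blt 0 (nxt 4194303 lab (Nat.mul (7 * 1023 + j) 22))) 1023 = cntW.getD 7 0 := by decide +kernel
theorem cnt_c8 : cntB (fun j => Nat.blt 0 (nxt 4194303 lab (Nat.mul (8 * 1023 + j) 22))) 1023 = cntW.getD 8 0 := by decide +kernel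
theorem cnt_c9 : cntB (fun j => Nat.blt 0 (nxt 4194303 lab (Nat.mul (9 * 1023 + j) 22))) 1023 = cntW.getD 9 0 := by decide +kernel
theorem cnt_c10 : cntB (fun j => Nat.blt 0 (nxt 4194303 lab (Nat.mul (10 * 1023 + j) 22))) 1023 = cntW.getD 10 0 := by decide +kernel
theorem cnt_c11 : cntB (fun j => Nat.blt 0 (nxt 4194303 lab (Nat.mul (11 * 1023 + j) 22))) 1023 = cntW.getD 11 0 := by decide +kernel
theorem cnt_c12 : cntB (fun j => Nat.blt 0 (nxt 4194303 lab (Nat.mul (12 * 1023 + j) 22))) 1023 = cntW.getD 12 0 := by decide +kernel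
theorem cnt_c13 : cntB (fun j => Nat.blt 0 (nxt 4194303 lab (Nat.mul (13 * 1023 + j) 22))) 1023 = cntW.getD 13 0 := by decide +kernel
theorem cnt_c14 : cntB (fun j => Nat.blt 0 (nxt 4194303 lab (Nat.mul (14 * 1023 + j) 22))) 1023 = cntW.getD 14 0 := by decide +kernel
theorem cnt_c15 : cntB (fun j => Nat.blt 0 (nxt 4194303 lab (Nat.mul (15 * 1023 + j) 22))) 1023 = cntW.getD 15 0 := by decide +kernel
theorem cnt_c16 : cntB (fun j => Nat.blt 0 (nxt 4194303 lab (Nat.mul (16 * 1023 + j) 22))) 1023 = cntW.getD 16 0 := by decide +kernel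
theorem cnt_c17 : cntB (fun j => Nat.blt 0 (nxt 4194303 lab (Nat.mul (17 * 1023 + j) 22))) 1023 = cntW.getD 17 0 := by decide +kernel
theorem cnt_c18 : cntB (fun j => Nat.blt 0 (nxt 4194303 lab (Nat.mul (18 * 1023 + j) 22))) 1023 = cntW.getD 18 0 := by decide +kernel
theorem cnt_c19 : cntB (fun j => Nat.blt 0 (nxt 4194303 lab (Nat.mul (19 * 1023 + j) 22))) 1023 = cntW.getD 19 0 := by decide +kernel
theorem cnt_c20 : cntB (fun j => Nat.blt 0 (nxt 4194303 lab (Nat.mul (20 * 1023 + j) 22))) 1023 = cntW.getD 20 0 := by decide +kernel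
theorem cnt_c21 : cntB (fun j => Nat.blt 0 (nxt 4194303 lab (Nat.mul (21 * 1023 + j) 22))) 1023 = cntW.getD 21 0 := by decide +kernel
theorem cnt_c22 : cntB (fun j => Nat.blt 0 (nxt 4194303 lab (Nat.mul (22 * 1023 + j) 22))) 1023 = cntW.getD 22 0 := by decide +kernel
theorem cnt_c23 : cntB (fun j => Nat.blt 0 (nxt 4194303 lab (Nat.mul (23 * 1023 + j) 22))) 1023 = cntW.getD 23 0 := by decide +kernel
theorem cnt_c24 : cntB (fun j => Nat.blt 0 (nxt 4194303 lab (Nat.mul (24 * 1023 + j) 22))) 1023 = cntW.getD 24 0 := by decide +kernel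
theorem cnt_c25 : cntB (fun j => Nat.blt 0 (nxt 4194303 lab (Nat.mul (25 * 1023 + j) 22))) 1023 = cntW.getD 25 0 := by decide +kernel
theorem cnt_c26 : cntB (fun j => Nat.blt 0 (nxt 4194303 lab (Nat.mul (26 * 1023 + j) 22))) 1023 = cntW.getD 26 0 := by decide +kernel
theorem cnt_c27 : cntB (fun j => Nat.blt 0 (nxt 4194303 lab (Nat.mul (27 * 1023 + j) 22))) 1023 = cntW.getD 27 0 := by decide +kernel
theorem cnt_c28 : cntB (fun j => Nat.blt 0 (nxt 4194303 lab (Nat.mul (28 * 1023 + j) 22))) 1023 = cntW.getD 28 0 := by decide +kernel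
theorem cnt_c29 : cntB (fun j => Nat.blt 0 (nxt 4194303 lab (Nat.mul (29 * 1023 + j) 22))) 1023 = cntW.getD 29 0 := by decide +kernel
theorem cnt_c30 : cntB (fun j => Nat.blt 0 (nxt 4194303 lab (Nat.mul (30 * 1023 + j) 22))) 1023 = cntW.getD 30 0 := by decide +kernel
theorem cnt_c31 : cntB (fun j => Nat.blt 0 (nxt 4194303 lab (Nat.mul (31 * 1023 + j) 22))) 1023 = cntW.getD 31 0 := by decide +kernel
theorem cnt_c32 : cntB (fun j => Nat.blt 0 (nxt 4194303 lab (Nat.mul (32 * 1023 + j) 22))) 1023 = cntW.getD 32 0 := by decide +kernel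
theorem cnt_c33 : cntB (fun j => Nat.blt 0 (nxt 4194303 lab (Nat.mul (33 * 1023 + j) 22))) 1023 = cntW.getD 33 0 := by decide +kernel
theorem cnt_c34 : cntB (fun j => Nat.blt 0 (nxt 4194303 lab (Nat.mul (34 * 1023 + j) 22))) 1023 = cntW.getD 34 0 := by decide +kernel
theorem cnt_c35 : cntB (fun j => Nat.blt 0 (nxt 4194303 lab (Nat.mul (35 * 1023 + j) 22))) 1023 = cntW.getD 35 0 := by decide +kernel
theorem cnt_c36 : cntB (fun j => Nat.blt 0 (nxt 4194303 lab (Nat.mul (36 * 1023 + j) 22))) 1023 = cntW.getD 36 0 := by decide +kernel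
theorem cnt_c37 : cntB (fun j => Nat.blt 0 (nxt 4194303 lab (Nat.mul (37 * 1023 + j) 22))) 1023 = cntW.getD 37 0 := by decide +kernel
theorem cnt_c38 : cntB (fun j => Nat.blt 0 (nxt 4194303 lab (Nat.mul (38 * 1023 + j) 22))) 1023 = cntW.getD 38 0 := by decide +kernel
theorem cnt_c39 : cntB (fun j => Nat.blt 0 (nxt 4194303 lab (Nat.mul (39 * 1023 + j) 22))) 1023 = cntW.getD 39 0 := by decide +kernel
theorem cnt_c40 : cntB (fun j => Nat.blt 0 (nxt 4194303 lab (Nat.mul (40 * 1023 + j) 22))) 1023 = cntW.getD 40 0 := by decide +kernel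
theorem cnt_c41 : cntB (fun j => Nat.blt 0 (nxt 4194303 lab (Nat.mul (41 * 1023 + j) 22))) 1023 = cntW.getD 41 0 := by decide +kernel
theorem cnt_c42 : cntB (fun j => Nat.blt 0 (nxt 4194303 lab (Nat.mul (42 * 1023 + j) 22))) 1023 = cntW.getD 42 0 := by decide +kernel
theorem cnt_c43 : cntB (fun j => Nat.blt 0 (nxt 4194303 lab (Nat.mul (43 * 1023 + j) 22))) 1023 = cntW.getD 43 0 := by decide +kernel
theorem cnt_c44 : cntB (fun j => Nat.blt 0 (nxt 4194303 lab (Nat.mul (44 * 1023 + j) 22))) 1023 = cntW.getD 44 0 := by decide +kernel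
theorem cnt_c45 : cntB (fun j => Nat.blt 0 (nxt 4194303 lab (Nat.mul (45 * 1023 + j) 22))) 1023 = cntW.getD 45 0 := by decide +kernel
theorem cnt_c46 : cntB (fun j => Nat.blt 0 (nxt 4194303 lab (Nat.mul (46 * 1023 + j) 22))) 1023 = cntW.getD 46 0 := by decide +kernel
theorem cnt_c47 : cntB (fun j => Nat.blt 0 (nxt 4194303 lab (Nat.mul (47 * 1023 + j) 22))) 1023 = cntW.getD 47 0 := by decide +kernel
theorem cnt_c48 : cntB (fun j => Nat.blt 0 (nxt 4194303 lab (Nat.mul (48 * 1023 + j) 22))) 1023 = cntW.getD 48 0 := by decide +kernel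
theorem cnt_c49 : cntB (fun j => Nat.blt 0 (nxt 4194303 lab (Nat.mul (49 * 1023 + j) 22))) 1023 = cntW.getD 49 0 := by decide +kernel
theorem cnt_c50 : cntB (fun j => Nat.blt 0 (nxt 4194303 lab (Nat.mul (50 * 1023 + j) 22))) 1023 = cntW.getD 50 0 := by decide +kernel
theorem cnt_c51 : cntB (fun j => Nat.blt 0 (nxt 4194303 lab (Nat.mul (51 * 1023 + j) 22))) 1023 = cntW.getD 51 0 := by decide +kernel
theorem cnt_c52 : cntB (fun j => Nat.blt 0 (nxt 4194303 lab (Nat.mul (52 * 1023 + j) 22))) 1023 = cntW.getD 52 0 := by decide +kernel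
theorem cnt_c53 : cntB (fun j => Nat.blt 0 (nxt 4194303 lab (Nat.mul (53 * 1023 + j) 22))) 1023 = cntW.getD 53 0 := by decide +kernel
theorem cnt_c54 : cntB (fun j => Nat.blt 0 (nxt 4194303 lab (Nat.mul (54 * 1023 + j) 22))) 1023 = cntW.getD 54 0 := by decide +kernel
theorem cnt_c55 : cntB (fun j => Nat.blt 0 (nxt 4194303 lab (Nat.mul (55 * 1023 + j) 22))) 1023 = cntW.getD 55 0 := by decide +kernel
theorem cnt_c56 : cntB (fun j => Nat.blt 0 (nxt 4194303 lab (Nat.mul (56 * 1023 + j) 22))) 1023 = cntW.getD 56 0 := by decide +kernel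
theorem cnt_c57 : cntB (fun j => Nat.blt 0 (nxt 4194303 lab (Nat.mul (57 * 1023 + j) 22))) 1023 = cntW.getD 57 0 := by decide +kernel
theorem cnt_c58 : cntB (fun j => Nat.blt 0 (nxt 4194303 lab (Nat.mul (58 * 1023 + j) 22))) 1023 = cntW.getD 58 0 := by decide +kernel
theorem cnt_c59 : cntB (fun j => Nat.blt 0 (nxt 4194303 lab (Nat.mul (59 * 1023 + j) 22))) 1023 = cntW.getD 59 0 := by decide +kernel
theorem cnt_c60 : cntB (fun j => Nat.blt 0 (nxt 4194303 lab (Nat.mul (60 * 1023 + j) 22))) 1023 = cntW.getD 60 0 := by decide +kernel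
theorem cnt_c61 : cntB (fun j => Nat.blt 0 (nxt 4194303 lab (Nat.mul (61 * 1023 + j) 22))) 1023 = cntW.getD 61 0 := by decide +kernel
theorem cnt_c62 : cntB (fun j => Nat.blt 0 (nxt 4194303 lab (Nat.mul (62 * 1023 + j) 22))) 1023 = cntW.getD 62 0 := by decide +kernel
theorem cnt_c63 : cntB (fun j => Nat.blt 0 (nxt 4194303 lab (Nat.mul (63 * 1023 + j) 22))) 1023 = cntW.getD 63 0 := by decide +kernel
theorem cnt_c64 : cntB (fun j => Nat.blt 0 (nxt 4194303 lab (Nat.mul (64 * 1023 + j) 22))) 1023 = cntW.getD 64 0 := by decide +kernel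
theorem cnt_c65 : cntB (fun j => Nat.blt 0 (nxt 4194303 lab (Nat.mul (65 * 1023 + j) 22))) 1023 = cntW.getD 65 0 := by decide +kernel
theorem cnt_c66 : cntB (fun j => Nat.blt 0 (nxt 4194303 lab (Nat.mul (66 * 1023 + j) 22))) 1023 = cntW.getD 66 0 := by decide +kernel
theorem cnt_c67 : cntB (fun j => Nat.blt 0 (nxt 4194303 lab (Nat.mul (67 * 1023 + j) 22))) 1023 = cntW.getD 67 0 := by decide +kernel
theorem cnt_c68 : cntB (fun j => Nat.blt 0 (nxt 4194303 lab (Nat.mul (68 * 1023 + j) 22))) 1023 = cntW.getD 68 0 := by decide +kernel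
theorem cnt_c69 : cntB (fun j => Nat.blt 0 (nxt 4194303 lab (Nat.mul (69 * 1023 + j) 22))) 1023 = cntW.getD 69 0 := by decide +kernel
theorem cnt_c70 : cntB (fun j => Nat.blt 0 (nxt 4194303 lab (Nat.mul (70 * 1023 + j) 22))) 1023 = cntW.getD 70 0 := by decide +kernel
theorem cnt_c71 : cntB (fun j => Nat.blt 0 (nxt 4194303 lab (Nat.mul (71 * 1023 + j) 22))) 1023 = cntW.getD 71 0 := by decide +kernel
theorem cnt_c72 : cntB (fun j => Nat.blt 0 (nxt 4194303 lab (Nat.mul (72 * 1023 + j) 22))) 1023 = cntW.getD 72 0 := by decide +kernel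
theorem cnt_c73 : cntB (fun j => Nat.blt 0 (nxt 4194303 lab (Nat.mul (73 * 1023 + j) 22))) 1023 = cntW.getD 73 0 := by decide +kernel
theorem cnt_c74 : cntB (fun j => Nat.blt 0 (nxt 4194303 lab (Nat.mul (74 * 1023 + j) 22))) 1023 = cntW.getD 74 0 := by decide +kernel
theorem cnt_c75 : cntB (fun j => Nat.blt 0 (nxt 4194303 lab (Nat.mul (75 * 1023 + j) 22))) 1023 = cntW.getD 75 0 := by decide +kernel
theorem cnt_c76 : cntB (fun j => Nat.blt 0 (nxt 4194303 lab (Nat.mul (76 * 1023 + j) 22))) 1023 = cntW.getD 76 0 := by decide +kernel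
theorem cnt_c77 : cntB (fun j => Nat.blt 0 (nxt 4194303 lab (Nat.mul (77 * 1023 + j) 22))) 1023 = cntW.getD 77 0 := by decide +kernel
theorem cnt_c78 : cntB (fun j => Nat.blt 0 (nxt 4194303 lab (Nat.mul (78 * 1023 + j) 22))) 1023 = cntW.getD 78 0 := by decide +kernel
theorem cnt_c79 : cntB (fun j => Nat.blt 0 (nxt 4194303 lab (Nat.mul (79 * 1023 + j) 22))) 1023 = cntW.getD 79 0 := by decide +kernel
theorem cnt_c80 : cntB (fun j => Nat.blt 0 (nxt 4194303 lab (Nat.mul (80 * 1023 + j) 22))) 1023 = cntW.getD 80 0 := by decide +kernel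
theorem cnt_c81 : cntB (fun j => Nat.blt 0 (nxt 4194303 lab (Nat.mul (81 * 1023 + j) 22))) 1023 = cntW.getD 81 0 := by decide +kernel
theorem cnt_c82 : cntB (fun j => Nat.blt 0 (nxt 4194303 lab (Nat.mul (82 * 1023 + j) 22))) 1023 = cntW.getD 82 0 := by decide +kernel
theorem cnt_c83 : cntB (fun j => Nat.blt 0 (nxt 4194303 lab (Nat.mul (83 * 1023 + j) 22))) 1023 = cntW.getD 83 0 := by decide +kernel
theorem cnt_c84 : cntB (fun j => Nat.blt 0 (nxt 4194303 lab (Nat.mul (84 * 1023 + j) 22))) 1023 = cntW.getD 84 0 := by decide +kernel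
theorem cnt_c85 : cntB (fun j => Nat.blt 0 (nxt 4194303 lab (Nat.mul (85 * 1023 + j) 22))) 1023 = cntW.getD 85 0 := by decide +kernel
theorem cnt_c86 : cntB (fun j => Nat.blt 0 (nxt 4194303 lab (Nat.mul (86 * 1023 + j) 22))) 1023 = cntW.getD 86 0 := by decide +kernel
theorem cnt_c87 : cntB (fun j => Nat.blt 0 (nxt 4194303 lab (Nat.mul (87 * 1023 + j) 22))) 1023 = cntW.getD 87 0 := by decide +kernel
theorem cnt_c88 : cntB (fun j => Nat.blt 0 (nxt 4194303 lab (Nat.mul (88 * 1023 + j) 22))) 1023 = cntW.getD 88 0 := by decide +kernel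
theorem cnt_c89 : cntB (fun j => Nat.blt 0 (nxt 4194303 lab (Nat.mul (89 * 1023 + j) 22))) 1023 = cntW.getD 89 0 := by decide +kernel
theorem cnt_c90 : cntB (fun j => Nat.blt 0 (nxt 4194303 lab (Nat.mul (90 * 1023 + j) 22))) 1023 = cntW.getD 90 0 := by decide +kernel
theorem cnt_c91 : cntB (fun j => Nat.blt 0 (nxt 4194303 lab (Nat.mul (91 * 1023 + j) 22))) 1023 = cntW.getD 91 0 := by decide +kernel
theorem cnt_c92 : cntB (fun j => Nat.blt 0 (nxt 4194303 lab (Nat.mul (92 * 1023 + j) 22))) 1023 = cntW.getD 92 0 := by decide +kernel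
theorem cnt_c93 : cntB (fun j => Nat.blt 0 (nxt 4194303 lab (Nat.mul (93 * 1023 + j) 22))) 1023 = cntW.getD 93 0 := by decide +kernel
theorem cnt_c94 : cntB (fun j => Nat.blt 0 (nxt 4194303 lab (Nat.mul (94 * 1023 + j) 22))) 1023 = cntW.getD 94 0 := by decide +kernel
theorem cnt_c95 : cntB (fun j => Nat.blt 0 (nxt 4194303 lab (Nat.mul (95 * 1023 + j) 22))) 1023 = cntW.getD 95 0 := by decide +kernel
theorem cnt_c96 : cntB (fun j => Nat.blt 0 (nxt 4194303 lab (Nat.mul (96 * 1023 + j) 22))) 1023 = cntW.getD 96 0 := by decide +kernel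
theorem cnt_c97 : cntB (fun j => Nat.blt 0 (nxt 4194303 lab (Nat.mul (97 * 1023 + j) 22))) 1023 = cntW.getD 97 0 := by decide +kernel
theorem cnt_c98 : cntB (fun j => Nat.blt 0 (nxt 4194303 lab (Nat.mul (98 * 1023 + j) 22))) 1023 = cntW.getD 98 0 := by decide +kernel
theorem cnt_c99 : cntB (fun j => Nat.blt 0 (nxt 4194303 lab (Nat.mul (99 * 1023 + j) 22))) 1023 = cntW.getD 99 0 := by decide +kernel
theorem cnt_c100 : cntB (fun j => Nat.blt 0 (nxt 4194303 lab (Nat.mul (100 * 1023 + j) 22))) 1023 = cntW.getD 100 0 := by decide +kernel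
theorem cnt_c101 : cntB (fun j => Nat.blt 0 (nxt 4194303 lab (Nat.mul (101 * 1023 + j) 22))) 1023 = cntW.getD 101 0 := by decide +kernel
theorem cnt_c102 : cntB (fun j => Nat.blt 0 (nxt 4194303 lab (Nat.mul (102 * 1023 + j) 22))) 1023 = cntW.getD 102 0 := by decide +kernel
theorem cnt_c103 : cntB (fun j => Nat.blt 0 (nxt 4194303 lab (Nat.mul (103 * 1023 + j) 22))) 1023 = cntW.getD 103 0 := by decide +kernel
theorem cnt_c104 : cntB (fun j => Nat.blt 0 (nxt 4194303 lab (Nat.mul (104 * 1023 + j) 22))) 1023 = cntW.getD 104 0 := by decide +kernel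
theorem cnt_c105 : cntB (fun j => Nat.blt 0 (nxt 4194303 lab (Nat.mul (105 * 1023 + j) 22))) 1023 = cntW.getD 105 0 := by decide +kernel
theorem cnt_c106 : cntB (fun j => Nat.blt 0 (nxt 4194303 lab (Nat.mul (106 * 1023 + j) 22))) 1023 = cntW.getD 106 0 := by decide +kernel
theorem cnt_c107 : cntB (fun j => Nat.blt 0 (nxt 4194303 lab (Nat.mul (107 * 1023 + j) 22))) 1023 = cntW.getD 107 0 := by decide +kernel
theorem cnt_c108 : cntB (fun j => Nat.blt 0 (nxt 4194303 lab (Nat.mul (108 * 1023 + j) 22))) 1023 = cntW.getD 108 0 := by decide +kernel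
theorem cnt_c109 : cntB (fun j => Nat.blt 0 (nxt 4194303 lab (Nat.mul (109 * 1023 + j) 22))) 1023 = cntW.getD 109 0 := by decide +kernel
theorem cnt_c110 : cntB (fun j => Nat.blt 0 (nxt 4194303 lab (Nat.mul (110 * 1023 + j) 22))) 1023 = cntW.getD 110 0 := by decide +kernel
theorem cnt_c111 : cntB (fun j => Nat.blt 0 (nxt 4194303 lab (Nat.mul (111 * 1023 + j) 22))) 1023 = cntW.getD 111 0 := by decide +kernel
theorem cnt_c112 : cntB (fun j => Nat.blt 0 (nxt 4194303 lab (Nat.mul (112 * 1023 + j) 22))) 1023 = cntW.getD 112 0 := by decide +kernel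
theorem cnt_c113 : cntB (fun j => Nat.blt 0 (nxt 4194303 lab (Nat.mul (113 * 1023 + j) 22))) 1023 = cntW.getD 113 0 := by decide +kernel
theorem cnt_c114 : cntB (fun j => Nat.blt 0 (nxt 4194303 lab (Nat.mul (114 * 1023 + j) 22))) 1023 = cntW.getD 114 0 := by decide +kernel
theorem cnt_c115 : cntB (fun j => Nat.blt 0 (nxt 4194303 lab (Nat.mul (115 * 1023 + j) 22))) 1023 = cntW.getD 115 0 := by decide +kernel
theorem cnt_c116 : cntB (fun j => Nat.blt 0 (nxt 4194303 lab (Nat.mul (116 * 1023 + j) 22))) 1023 = cntW.getD 116 0 := by decide +kernel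
theorem cnt_c117 : cntB (fun j => Nat.blt 0 (nxt 4194303 lab (Nat.mul (117 * 1023 + j) 22))) 1023 = cntW.getD 117 0 := by decide +kernel
theorem cnt_c118 : cntB (fun j => Nat.blt 0 (nxt 4194303 lab (Nat.mul (118 * 1023 + j) 22))) 1023 = cntW.getD 118 0 := by decide +kernel
theorem cnt_c119 : cntB (fun j => Nat.blt 0 (nxt 4194303 lab (Nat.mul (119 * 1023 + j) 22))) 1023 = cntW.getD 119 0 := by decide +kernel

theorem cnt : cntB (fun k => Nat.blt 0 (nxt 4194303 lab (Nat.mul k 22))) 122760 = 2 := by
  have h := Cfsg.Agent.Lib.Helper28_CntSplit.cntB_chunks (fun k => Nat.blt 0 (nxt 4194303 lab (Nat.mul k 22))) 1023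
    (fun i => cntW.getD i 0) 120 (by
      intro i hi
      interval_cases i
      · exact cnt_c0
      · exact cnt_c1
      · exact cnt_c2
      · exact cnt_c3
      · exact cnt_c4
      · exact cnt_c5
      · exact cnt_c6
      · exact cnt_c7
      · exact cnt_c8
      · exact cnt_c9
      · exact cnt_c10
      · exact cnt_c11
      · exact cnt_c12
      · exact cnt_c13
      · exact cnt_c14
      · exact cnt_c15
      · exact cnt_c16
      · exact cnt_c17
      · exact cnt_c18
      · exact cnt_c19
      · exact cnt_c20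
      · exact cnt_c21
      · exact cnt_c22
      · exact cnt_c23
      · exact cnt_c24
      · exact cnt_c25
      · exact cnt_c26
      · exact cnt_c27
      · exact cnt_c28
      · exact cnt_c29
      · exact cnt_c30
      · exact cnt_c31
      · exact cnt_c32
      · exact cnt_c33
      · exact cnt_c34
      · exact cnt_c35
      · exact cnt_c36
      · exact cnt_c37
      · exact cnt_c38
      · exact cnt_c39
      · exact cnt_c40
      · exact cnt_c41
      · exact cnt_c42
      · exact cnt_c43
      · exact cnt_c44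
      · exact cnt_c45
      · exact cnt_c46
      · exact cnt_c47
      · exact cnt_c48
      · exact cnt_c49
      · exact cnt_c50
      · exact cnt_c51
      · exact cnt_c52
      · exact cnt_c53
      · exact cnt_c54
      · exact cnt_c55
      · exact cnt_c56
      · exact cnt_c57
      · exact cnt_c58
      · exact cnt_c59
      · exact cnt_c60
      · exact cnt_c61
      · exact cnt_c62
      · exact cnt_c63
      · exact cnt_c64
      · exact cnt_c65
      · exact cnt_c66
      · exact cnt_c67
      · exact cnt_c68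
      · exact cnt_c69
      · exact cnt_c70
      · exact cnt_c71
      · exact cnt_c72
      · exact cnt_c73
      · exact cnt_c74
      · exact cnt_c75
      · exact cnt_c76
      · exact cnt_c77
      · exact cnt_c78
      · exact cnt_c79
      · exact cnt_c80
      · exact cnt_c81
      · exact cnt_c82
      · exact cnt_c83
      · exact cnt_c84
      · exact cnt_c85
      · exact cnt_c86
      · exact cnt_c87
      · exact cnt_c88
      · exact cnt_c89
      · exact cnt_c90
      · exact cnt_c91
      · exact cnt_c92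
      · exact cnt_c93
      · exact cnt_c94
      · exact cnt_c95
      · exact cnt_c96
      · exact cnt_c97
      · exact cnt_c98
      · exact cnt_c99
      · exact cnt_c100
      · exact cnt_c101
      · exact cnt_c102
      · exact cnt_c103
      · exact cnt_c104
      · exact cnt_c105
      · exact cnt_c106
      · exact cnt_c107
      · exact cnt_c108
      · exact cnt_c109
      · exact cnt_c110
      · exact cnt_c111
      · exact cnt_c112
      · exact cnt_c113
      · exact cnt_c114
      · exact cnt_c115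
      · exact cnt_c116
      · exact cnt_c117
      · exact cnt_c118
      · exact cnt_c119
      )
  exact h.trans (by decide +kernel)

theorem fix : ∀ a ∈ ([] : List Cfsg.Spor.ON.Gen), walk 4194303 col [(a, true)] (5 * 22) = 5 * 22 := by decide +kernel

theorem step [Finite (PresentedGroup (Cfsg.Spor.coxRelators Cfsg.Spor.ON.edges ∪ {r | r ∈ Cfsg.Spor.ON.extra}))] (Z : Subgroup (PresentedGroup (Cfsg.Spor.coxRelators Cfsg.Spor.ON.edges ∪ {r | r ∈ Cfsg.Spor.ON.extra}))) (hZ : ∀ z ∈ Z, psi (perm Cfsg.Agent.Lib.Helper28_S1692.verified.hv) Cfsg.Agent.Lib.Helper28_S1692.verified.hrel z = 1) :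
    2 * Nat.card (SG (Cfsg.Spor.coxRelators Cfsg.Spor.ON.edges ∪ {r | r ∈ Cfsg.Spor.ON.extra}) [] ⊔ Z : Subgroup (PresentedGroup (Cfsg.Spor.coxRelators Cfsg.Spor.ON.edges ∪ {r | r ∈ Cfsg.Spor.ON.extra}))) ≤ Nat.card (SG (Cfsg.Spor.coxRelators Cfsg.Spor.ON.edges ∪ {r | r ∈ Cfsg.Spor.ON.extra}) [.f] ⊔ Z : Subgroup (PresentedGroup (Cfsg.Spor.coxRelators Cfsg.Spor.ON.edges ∪ {r | r ∈ Cfsg.Spor.ON.extra}))) :=
  Verified.step Cfsg.Agent.Lib.Helper28_S1692.verified Z hZ [.f] [] (by decide) lab (⟨5, by norm_num⟩ : Fin 122760) ls (by decide) fix chk_all 2 cnt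

theorem stab [Finite (PresentedGroup (Cfsg.Spor.coxRelators Cfsg.Spor.ON.edges ∪ {r | r ∈ Cfsg.Spor.ON.extra}))] (htight : Nat.card (SG (Cfsg.Spor.coxRelators Cfsg.Spor.ON.edges ∪ {r | r ∈ Cfsg.Spor.ON.extra}) [.f]) ≤ 2 * Nat.card (SG (Cfsg.Spor.coxRelators Cfsg.Spor.ON.edges ∪ {r | r ∈ Cfsg.Spor.ON.extra}) [])) :
    ∀ g ∈ SG (Cfsg.Spor.coxRelators Cfsg.Spor.ON.edges ∪ {r | r ∈ Cfsg.Spor.ON.extra}) [.f], psi (perm Cfsg.Agent.Lib.Helper28_S1692.verified.hv) Cfsg.Agent.Lib.Helper28_S1692.verified.hrel g (⟨5, by norm_num⟩ : Fin 122760) = (⟨5, by norm_num⟩ : Fin 122760) → g ∈ SG (Cfsg.Spor.coxRelators Cfsg.Spor.ON.edges ∪ {r | r ∈ Cfsg.Spor.ON.extra}) [] :=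
  Verified.stab_step Cfsg.Agent.Lib.Helper28_S1692.verified [.f] [] (by decide) lab (⟨5, by norm_num⟩ : Fin 122760) ls (by decide) fix chk_all 2 cnt (by norm_num) htight

end Cfsg.Agent.Lib.Helper28_ONLB6
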