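import Cfsg.Agent.Lib.Helper28_ONOrderU
import Cfsg.Agent.Lib.Helper28_ONLB0
import Cfsg.Agent.Lib.Helper28_ONLB1
import Cfsg.Agent.Lib.Helper28_ONLB2
import Cfsg.Agent.Lib.Helper28_ONLB3
import Cfsg.Agent.Lib.Helper28_ONLB4
import Cfsg.Agent.Lib.Helper28_ONLB5
import Cfsg.Agent.Lib.Helper28_ONLB6

/-!
# The order of the presented group `ON`, faithfulness of its coset actions, and the
triviality of the pointwise stabiliser of the base points (helper28; generated by tools/helper28/gen_lbchain.py)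
-/

set_option autoImplicit false
set_option linter.constructorNameAsVariable false
set_option linter.unusedVariables false

namespace Cfsg.Agent.Lib.Helper28_ONOrder

open Cfsg.Spor Cfsg.Agent.Lib.Helper28_CosetPerm Cfsg.Agent.Lib.Helper28_OrbitLB

/-- the relators -/
abbrev RELS : Set (FreeGroup Cfsg.Spor.ON.Gen) :=
  Cfsg.Spor.coxRelators Cfsg.Spor.ON.edges ∪ {r | r ∈ Cfsg.Spor.ON.extra}

instance finiteG : Finite (PresentedGroup RELS) := card_le.1

/-- the action on the 122760 cosets of the table S1692 -/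
noncomputable def rhoS1692 : PresentedGroup RELS →* Equiv.Perm (Fin 122760) :=
  psi (perm Cfsg.Agent.Lib.Helper28_S1692.verified.hv) Cfsg.Agent.Lib.Helper28_S1692.verified.hrel

/-- the common kernel -/
noncomputable def Z : Subgroup (PresentedGroup RELS) := rhoS1692.ker

theorem hZS1692 : ∀ z ∈ Z, rhoS1692 z = 1 := fun _ hz => MonoidHom.mem_ker.mp hz

theorem top_eq : SG RELS [.g, .a, .b, .c, .d, .e, .f] = ⊤ :=
  SG_top RELS _ (by intro x; cases x <;> decide)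

theorem chain : 460815505920 * Nat.card Z ≤ Nat.card (PresentedGroup RELS) := by
  have h0 := Cfsg.Agent.Lib.Helper28_ONLB0.step Z hZS1692
  have h1 := Cfsg.Agent.Lib.Helper28_ONLB1.step Z hZS1692
  have h2 := Cfsg.Agent.Lib.Helper28_ONLB2.step Z hZS1692
  have h3 := Cfsg.Agent.Lib.Helper28_ONLB3.step Z hZS1692
  have h4 := Cfsg.Agent.Lib.Helper28_ONLB4.step Z hZS1692
  have h5 := Cfsg.Agent.Lib.Helper28_ONLB5.step Z hZS1692
  have h6 := Cfsg.Agent.Lib.Helper28_ONLB6.step Z hZS1692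
  have c5 := le_trans (Nat.mul_le_mul_left 2 h6) h5
  have c4 := le_trans (Nat.mul_le_mul_left 2 c5) h4
  have c3 := le_trans (Nat.mul_le_mul_left 3 c4) h3
  have c2 := le_trans (Nat.mul_le_mul_left 28 c3) h2
  have c1 := le_trans (Nat.mul_le_mul_left 5586 c2) h1
  have c0 := le_trans (Nat.mul_le_mul_left 122760 c1) h0
  rw [top_eq, top_sup_eq, Subgroup.card_top, SG_nil, bot_sup_eq] at c0
  calc 460815505920 * Nat.card Z = 122760 * (5586 * (28 * (3 * (2 * (2 * (2 * (Nat.card Z))))))) := by ring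
    _ ≤ _ := c0

/-- the order -/
theorem card_eq : Nat.card (PresentedGroup RELS) = 460815505920 := by
  have h1 := chain
  have h2 := card_le.2
  have hZ : 1 ≤ Nat.card Z := Nat.card_pos
  apply le_antisymm h2
  calc 460815505920 = 460815505920 * 1 := by norm_num
    _ ≤ 460815505920 * Nat.card Z := Nat.mul_le_mul_left _ hZ
    _ ≤ _ := h1

theorem Z_eq_bot : Z = ⊥ := by
  have h1 := chain
  have h2 := card_le.2
  have h3 : 460815505920 * Nat.card Z ≤ 460815505920 * 1 := by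
    rw [Nat.mul_one]; exact le_trans h1 h2
  have h4 : Nat.card Z ≤ 1 := Nat.le_of_mul_le_mul_left h3 (by norm_num)
  exact Z.eq_bot_of_card_le h4

/-- faithfulness: an element acting trivially on the coset spaces is trivial -/
theorem eq_one_of_act (g : PresentedGroup RELS) (hS1692 : rhoS1692 g = 1) : g = 1 := by
  have : g ∈ Z := MonoidHom.mem_ker.mpr hS1692
  rw [Z_eq_bot] at this
  exact Subgroup.mem_bot.mp this

theorem s0 : 122760 * Nat.card (SG RELS [.a, .b, .c, .d, .e, .f]) ≤ Nat.card (SG RELS [.g, .a, .b, .c, .d, .e, .f]) := by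
  have h := Cfsg.Agent.Lib.Helper28_ONLB0.step ⊥ (fun z hz => by rw [Subgroup.mem_bot.mp hz, map_one])
  rwa [sup_bot_eq, sup_bot_eq] at h

theorem s1 : 5586 * Nat.card (SG RELS [.a, .b, .c, .d, .f]) ≤ Nat.card (SG RELS [.a, .b, .c, .d, .e, .f]) := by
  have h := Cfsg.Agent.Lib.Helper28_ONLB1.step ⊥ (fun z hz => by rw [Subgroup.mem_bot.mp hz, map_one])
  rwa [sup_bot_eq, sup_bot_eq] at h

theorem s2 : 28 * Nat.card (SG RELS [.a, .b, .d, .f]) ≤ Nat.card (SG RELS [.a, .b, .c, .d, .f]) := by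
  have h := Cfsg.Agent.Lib.Helper28_ONLB2.step ⊥ (fun z hz => by rw [Subgroup.mem_bot.mp hz, map_one])
  rwa [sup_bot_eq, sup_bot_eq] at h

theorem s3 : 3 * Nat.card (SG RELS [.b, .d, .f]) ≤ Nat.card (SG RELS [.a, .b, .d, .f]) := by
  have h := Cfsg.Agent.Lib.Helper28_ONLB3.step ⊥ (fun z hz => by rw [Subgroup.mem_bot.mp hz, map_one])
  rwa [sup_bot_eq, sup_bot_eq] at h

theorem s4 : 2 * Nat.card (SG RELS [.d, .f]) ≤ Nat.card (SG RELS [.b, .d, .f]) := by
  have h := Cfsg.Agent.Lib.Helper28_ONLB4.step ⊥ (fun z hz => by rw [Subgroup.mem_bot.mp hz, map_one])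
  rwa [sup_bot_eq, sup_bot_eq] at h

theorem s5 : 2 * Nat.card (SG RELS [.f]) ≤ Nat.card (SG RELS [.d, .f]) := by
  have h := Cfsg.Agent.Lib.Helper28_ONLB5.step ⊥ (fun z hz => by rw [Subgroup.mem_bot.mp hz, map_one])
  rwa [sup_bot_eq, sup_bot_eq] at h

theorem s6 : 2 * Nat.card (SG RELS []) ≤ Nat.card (SG RELS [.f]) := by
  have h := Cfsg.Agent.Lib.Helper28_ONLB6.step ⊥ (fun z hz => by rw [Subgroup.mem_bot.mp hz, map_one])
  rwa [sup_bot_eq, sup_bot_eq] at h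

theorem lo7 : 1 ≤ Nat.card (SG RELS ([] : List Cfsg.Spor.ON.Gen)) := Nat.card_pos

theorem lo6 : 2 ≤ Nat.card (SG RELS [.f]) :=
  calc 2 = 2 * 1 := by norm_num
    _ ≤ 2 * Nat.card (SG RELS []) := Nat.mul_le_mul_left _ lo7
    _ ≤ _ := s6

theorem lo5 : 4 ≤ Nat.card (SG RELS [.d, .f]) :=
  calc 4 = 2 * 2 := by norm_num
    _ ≤ 2 * Nat.card (SG RELS [.f]) := Nat.mul_le_mul_left _ lo6
    _ ≤ _ := s5

theorem lo4 : 8 ≤ Nat.card (SG RELS [.b, .d, .f]) :=
  calc 8 = 2 * 4 := by norm_num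
    _ ≤ 2 * Nat.card (SG RELS [.d, .f]) := Nat.mul_le_mul_left _ lo5
    _ ≤ _ := s4

theorem lo3 : 24 ≤ Nat.card (SG RELS [.a, .b, .d, .f]) :=
  calc 24 = 3 * 8 := by norm_num
    _ ≤ 3 * Nat.card (SG RELS [.b, .d, .f]) := Nat.mul_le_mul_left _ lo4
    _ ≤ _ := s3

theorem lo2 : 672 ≤ Nat.card (SG RELS [.a, .b, .c, .d, .f]) :=
  calc 672 = 28 * 24 := by norm_num
    _ ≤ 28 * Nat.card (SG RELS [.a, .b, .d, .f]) := Nat.mul_le_mul_left _ lo3
    _ ≤ _ := s2

theorem lo1 : 3753792 ≤ Nat.card (SG RELS [.a, .b, .c, .d, .e, .f]) :=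
  calc 3753792 = 5586 * 672 := by norm_num
    _ ≤ 5586 * Nat.card (SG RELS [.a, .b, .c, .d, .f]) := Nat.mul_le_mul_left _ lo2
    _ ≤ _ := s1

theorem lo0 : 460815505920 ≤ Nat.card (SG RELS [.g, .a, .b, .c, .d, .e, .f]) :=
  calc 460815505920 = 122760 * 3753792 := by norm_num
    _ ≤ 122760 * Nat.card (SG RELS [.a, .b, .c, .d, .e, .f]) := Nat.mul_le_mul_left _ lo1
    _ ≤ _ := s0

theorem hi0 : Nat.card (SG RELS [.g, .a, .b, .c, .d, .e, .f]) ≤ 460815505920 := by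
  rw [top_eq, Subgroup.card_top]; exact card_le.2

theorem hi1 : Nat.card (SG RELS [.a, .b, .c, .d, .e, .f]) ≤ 3753792 := by
  have h1 : 122760 * Nat.card (SG RELS [.a, .b, .c, .d, .e, .f]) ≤ 122760 * 3753792 :=
    le_trans s0 (le_trans hi0 (by norm_num))
  exact Nat.le_of_mul_le_mul_left h1 (by norm_num)

theorem hi2 : Nat.card (SG RELS [.a, .b, .c, .d, .f]) ≤ 672 := by
  have h1 : 5586 * Nat.card (SG RELS [.a, .b, .c, .d, .f]) ≤ 5586 * 672 :=
    le_trans s1 (le_trans hi1 (by norm_num))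
  exact Nat.le_of_mul_le_mul_left h1 (by norm_num)

theorem hi3 : Nat.card (SG RELS [.a, .b, .d, .f]) ≤ 24 := by
  have h1 : 28 * Nat.card (SG RELS [.a, .b, .d, .f]) ≤ 28 * 24 :=
    le_trans s2 (le_trans hi2 (by norm_num))
  exact Nat.le_of_mul_le_mul_left h1 (by norm_num)

theorem hi4 : Nat.card (SG RELS [.b, .d, .f]) ≤ 8 := by
  have h1 : 3 * Nat.card (SG RELS [.b, .d, .f]) ≤ 3 * 8 :=
    le_trans s3 (le_trans hi3 (by norm_num))
  exact Nat.le_of_mul_le_mul_left h1 (by norm_num)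

theorem hi5 : Nat.card (SG RELS [.d, .f]) ≤ 4 := by
  have h1 : 2 * Nat.card (SG RELS [.d, .f]) ≤ 2 * 4 :=
    le_trans s4 (le_trans hi4 (by norm_num))
  exact Nat.le_of_mul_le_mul_left h1 (by norm_num)

theorem hi6 : Nat.card (SG RELS [.f]) ≤ 2 := by
  have h1 : 2 * Nat.card (SG RELS [.f]) ≤ 2 * 2 :=
    le_trans s5 (le_trans hi5 (by norm_num))
  exact Nat.le_of_mul_le_mul_left h1 (by norm_num)

theorem hi7 : Nat.card (SG RELS []) ≤ 1 := by
  have h1 : 2 * Nat.card (SG RELS []) ≤ 2 * 1 :=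
    le_trans s6 (le_trans hi6 (by norm_num))
  exact Nat.le_of_mul_le_mul_left h1 (by norm_num)

theorem tight0 : Nat.card (SG RELS [.g, .a, .b, .c, .d, .e, .f]) ≤ 122760 * Nat.card (SG RELS [.a, .b, .c, .d, .e, .f]) :=
  le_trans hi0 (le_trans (by norm_num : 460815505920 ≤ 122760 * 3753792) (Nat.mul_le_mul_left _ lo1))

theorem tight1 : Nat.card (SG RELS [.a, .b, .c, .d, .e, .f]) ≤ 5586 * Nat.card (SG RELS [.a, .b, .c, .d, .f]) :=
  le_trans hi1 (le_trans (by norm_num : 3753792 ≤ 5586 * 672) (Nat.mul_le_mul_left _ lo2))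

theorem tight2 : Nat.card (SG RELS [.a, .b, .c, .d, .f]) ≤ 28 * Nat.card (SG RELS [.a, .b, .d, .f]) :=
  le_trans hi2 (le_trans (by norm_num : 672 ≤ 28 * 24) (Nat.mul_le_mul_left _ lo3))

theorem tight3 : Nat.card (SG RELS [.a, .b, .d, .f]) ≤ 3 * Nat.card (SG RELS [.b, .d, .f]) :=
  le_trans hi3 (le_trans (by norm_num : 24 ≤ 3 * 8) (Nat.mul_le_mul_left _ lo4))

theorem tight4 : Nat.card (SG RELS [.b, .d, .f]) ≤ 2 * Nat.card (SG RELS [.d, .f]) :=
  le_trans hi4 (le_trans (by norm_num : 8 ≤ 2 * 4) (Nat.mul_le_mul_left _ lo5))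

theorem tight5 : Nat.card (SG RELS [.d, .f]) ≤ 2 * Nat.card (SG RELS [.f]) :=
  le_trans hi5 (le_trans (by norm_num : 4 ≤ 2 * 2) (Nat.mul_le_mul_left _ lo6))

theorem tight6 : Nat.card (SG RELS [.f]) ≤ 2 * Nat.card (SG RELS []) :=
  le_trans hi6 (le_trans (by norm_num : 2 ≤ 2 * 1) (Nat.mul_le_mul_left _ lo7))

/-- an element fixing all the base points is trivial -/
theorem eq_one_of_fix (g : PresentedGroup RELS) (h0 : rhoS1692 g (⟨0, by norm_num⟩ : Fin 122760) = (⟨0, by norm_num⟩ : Fin 122760)) (h1 : rhoS1692 g (⟨16, by norm_num⟩ : Fin 122760) = (⟨16, by norm_num⟩ : Fin 122760)) (h2 : rhoS1692 g (⟨135, by norm_num⟩ : Fin 122760) = (⟨135, by norm_num⟩ : Fin 122760)) (h3 : rhoS1692 g (⟨41, by norm_num⟩ : Fin 122760) = (⟨41, by norm_num⟩ : Fin 122760)) (h4 : rhoS1692 g (⟨6, by norm_num⟩ : Fin 122760) = (⟨6, by norm_num⟩ : Fin 122760)) (h5 : rhoS1692 g (⟨1, by norm_num⟩ : Fin 122760) = (⟨1, by norm_num⟩ : Fin 122760))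 (h6 : rhoS1692 g (⟨5, by norm_num⟩ : Fin 122760) = (⟨5, by norm_num⟩ : Fin 122760)) : g = 1 := by
  have m0 : g ∈ SG RELS [.g, .a, .b, .c, .d, .e, .f] := by rw [top_eq]; exact Subgroup.mem_top g
  have m1 := Cfsg.Agent.Lib.Helper28_ONLB0.stab tight0 g m0 h0
  have m2 := Cfsg.Agent.Lib.Helper28_ONLB1.stab tight1 g m1 h1
  have m3 := Cfsg.Agent.Lib.Helper28_ONLB2.stab tight2 g m2 h2
  have m4 := Cfsg.Agent.Lib.Helper28_ONLB3.stab tight3 g m3 h3
  have m5 := Cfsg.Agent.Lib.Helper28_ONLB4.stab tight4 g m4 h4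
  have m6 := Cfsg.Agent.Lib.Helper28_ONLB5.stab tight5 g m5 h5
  have m7 := Cfsg.Agent.Lib.Helper28_ONLB6.stab tight6 g m6 h6
  rw [SG_nil] at m7
  exact Subgroup.mem_bot.mp m7

/-- the base offsets in the table S1692 -/
def offsS1692 : List ℕ := [0, 352, 2970, 902, 132, 22, 110]

/-- a word walking back to every base offset is trivial in the presented group -/
theorem mk_eq_one_of_walk (u : List (Cfsg.Spor.ON.Gen × Bool)) (hS1692 : ∀ x ∈ offsS1692, walk 4194303 Cfsg.Agent.Lib.Helper28_S1692.col u x = x) :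
    PresentedGroup.mk RELS (FreeGroup.mk u) = 1 := by
  apply eq_one_of_fix
  · exact psi_fix_of_walk Cfsg.Agent.Lib.Helper28_S1692.verified u (⟨0, by norm_num⟩ : Fin 122760) (hS1692 0 (by decide))
  · exact psi_fix_of_walk Cfsg.Agent.Lib.Helper28_S1692.verified u (⟨16, by norm_num⟩ : Fin 122760) (hS1692 352 (by decide))
  · exact psi_fix_of_walk Cfsg.Agent.Lib.Helper28_S1692.verified u (⟨135, by norm_num⟩ : Fin 122760) (hS1692 2970 (by decide))
  · exact psi_fix_of_walk Cfsg.Agent.Lib.Helper28_S1692.verified u (⟨41, by norm_num⟩ : Fin 122760) (hS1692 902 (by decide))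
  · exact psi_fix_of_walk Cfsg.Agent.Lib.Helper28_S1692.verified u (⟨6, by norm_num⟩ : Fin 122760) (hS1692 132 (by decide))
  · exact psi_fix_of_walk Cfsg.Agent.Lib.Helper28_S1692.verified u (⟨1, by norm_num⟩ : Fin 122760) (hS1692 22 (by decide))
  · exact psi_fix_of_walk Cfsg.Agent.Lib.Helper28_S1692.verified u (⟨5, by norm_num⟩ : Fin 122760) (hS1692 110 (by decide))

end Cfsg.Agent.Lib.Helper28_ONOrder
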