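import Cfsg.Agent.Lib.Helper28_S1692U
import Cfsg.Agent.Lib.Helper28_ONc1U
import Cfsg.Agent.Lib.Helper28_ONc2U
import Cfsg.Agent.Lib.Helper28_ONc3U
import Cfsg.Agent.Lib.Helper28_ONc4U

set_option autoImplicit false

namespace Cfsg.Agent.Lib.Helper28_ONOrder

open Cfsg.Spor Cfsg.Agent.Lib.Helper28_OrderChain Cfsg.Agent.Lib.Helper28_ONChain

theorem card4 : Finite (PresentedGroup (coxRelators edges4 ∪ {r | r ∈ extra4})) ∧ Nat.card (PresentedGroup (coxRelators edges4 ∪ {r | r ∈ extra4})) ≤ 6 :=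
  card_le_empty _ 6 Cfsg.Agent.Lib.Helper28_ONc4.U.upper

theorem hS3 : ∀ s ∈ ({Cfsg.Spor.ON.a, Cfsg.Spor.ON.b} : Set (FreeGroup Cfsg.Spor.ON.Gen)), ∃ x, x ∉ dropped4 ∧ s = FreeGroup.of x := by
  intro s hs
  simp only [Set.mem_insert_iff, Set.mem_singleton_iff] at hs
  rcases hs with rfl | rfl
  · exact ⟨.a, by decide, rfl⟩
  · exact ⟨.b, by decide, rfl⟩

theorem card3 : Finite (PresentedGroup (coxRelators edges3 ∪ {r | r ∈ extra3})) ∧ Nat.card (PresentedGroup (coxRelators edges3 ∪ {r | r ∈ extra3})) ≤ 4 * 6 :=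
  card_le_sub edges3 edges4 extra3 kept4 dropped4 h1_4 h2_4 h3_4 ({Cfsg.Spor.ON.a, Cfsg.Spor.ON.b} : Set (FreeGroup Cfsg.Spor.ON.Gen)) hS3 4 6 Cfsg.Agent.Lib.Helper28_ONc3.U.upper (by have := card4; norm_num at this ⊢; exact this)

theorem hS2 : ∀ s ∈ ({Cfsg.Spor.ON.a, Cfsg.Spor.ON.b, Cfsg.Spor.ON.c} : Set (FreeGroup Cfsg.Spor.ON.Gen)), ∃ x, x ∉ dropped3 ∧ s = FreeGroup.of x := by
  intro s hs
  simp only [Set.mem_insert_iff, Set.mem_singleton_iff] at hs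
  rcases hs with rfl | rfl | rfl
  · exact ⟨.a, by decide, rfl⟩
  · exact ⟨.b, by decide, rfl⟩
  · exact ⟨.c, by decide, rfl⟩

theorem card2 : Finite (PresentedGroup (coxRelators edges2 ∪ {r | r ∈ extra2})) ∧ Nat.card (PresentedGroup (coxRelators edges2 ∪ {r | r ∈ extra2})) ≤ 28 * 24 :=
  card_le_sub edges2 edges3 extra2 kept3 dropped3 h1_3 h2_3 h3_3 ({Cfsg.Spor.ON.a, Cfsg.Spor.ON.b, Cfsg.Spor.ON.c} : Set (FreeGroup Cfsg.Spor.ON.Gen)) hS2 28 24 Cfsg.Agent.Lib.Helper28_ONc2.U.upper (by have := card3; norm_num at this ⊢; exact this)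

theorem hS1 : ∀ s ∈ ({Cfsg.Spor.ON.a, Cfsg.Spor.ON.b, Cfsg.Spor.ON.c, Cfsg.Spor.ON.d, Cfsg.Spor.ON.f} : Set (FreeGroup Cfsg.Spor.ON.Gen)), ∃ x, x ∉ dropped2 ∧ s = FreeGroup.of x := by
  intro s hs
  simp only [Set.mem_insert_iff, Set.mem_singleton_iff] at hs
  rcases hs with rfl | rfl | rfl | rfl | rfl
  · exact ⟨.a, by decide, rfl⟩
  · exact ⟨.b, by decide, rfl⟩
  · exact ⟨.c, by decide, rfl⟩
  · exact ⟨.d, by decide, rfl⟩
  · exact ⟨.f, by decide, rfl⟩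

theorem card1 : Finite (PresentedGroup (coxRelators edges1 ∪ {r | r ∈ extra1})) ∧ Nat.card (PresentedGroup (coxRelators edges1 ∪ {r | r ∈ extra1})) ≤ 5586 * 672 :=
  card_le_sub edges1 edges2 extra1 kept2 dropped2 h1_2 h2_2 h3_2 ({Cfsg.Spor.ON.a, Cfsg.Spor.ON.b, Cfsg.Spor.ON.c, Cfsg.Spor.ON.d, Cfsg.Spor.ON.f} : Set (FreeGroup Cfsg.Spor.ON.Gen)) hS1 5586 672 Cfsg.Agent.Lib.Helper28_ONc1.U.upper (by have := card2; norm_num at this ⊢; exact this)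

theorem hS0 : ∀ s ∈ ({Cfsg.Spor.ON.a, Cfsg.Spor.ON.b, Cfsg.Spor.ON.c, Cfsg.Spor.ON.d, Cfsg.Spor.ON.e, Cfsg.Spor.ON.f} : Set (FreeGroup Cfsg.Spor.ON.Gen)), ∃ x, x ∉ dropped1 ∧ s = FreeGroup.of x := by
  intro s hs
  simp only [Set.mem_insert_iff, Set.mem_singleton_iff] at hs
  rcases hs with rfl | rfl | rfl | rfl | rfl | rfl
  · exact ⟨.a, by decide, rfl⟩
  · exact ⟨.b, by decide, rfl⟩
  · exact ⟨.c, by decide, rfl⟩
  · exact ⟨.d, by decide, rfl⟩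
  · exact ⟨.e, by decide, rfl⟩
  · exact ⟨.f, by decide, rfl⟩

theorem card0 : Finite (PresentedGroup (coxRelators Cfsg.Spor.ON.edges ∪ {r | r ∈ Cfsg.Spor.ON.extra})) ∧ Nat.card (PresentedGroup (coxRelators Cfsg.Spor.ON.edges ∪ {r | r ∈ Cfsg.Spor.ON.extra})) ≤ 122760 * 3753792 :=
  card_le_sub Cfsg.Spor.ON.edges edges1 Cfsg.Spor.ON.extra kept1 dropped1 h1_1 h2_1 h3_1 ({Cfsg.Spor.ON.a, Cfsg.Spor.ON.b, Cfsg.Spor.ON.c, Cfsg.Spor.ON.d, Cfsg.Spor.ON.e, Cfsg.Spor.ON.f} : Set (FreeGroup Cfsg.Spor.ON.Gen)) hS0 122760 3753792 Cfsg.Agent.Lib.Helper28_S1692.U.upper (by have := card1; norm_num at this ⊢; exact this)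

/-- the upper bound for the order -/
theorem card_le : Finite (Cfsg.Spor.ON) ∧ Nat.card (Cfsg.Spor.ON) ≤ 460815505920 := by
  have := card0
  norm_num at this ⊢
  exact this

end Cfsg.Agent.Lib.Helper28_ONOrder
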