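import Mathlib

/-!
# The O'Nan presentation collapses when `b c d g` is killed (helper28)

A purely group-theoretic lemma: in any group in which the images of the generators satisfy (some
of) the relations of the presentation of the O'Nan group and in addition `b c d g = 1`, all the
generators are trivial.  Used to show that the normal closure of the element `b c d g` of order `5`
is the whole group.
-/

set_option autoImplicit false
set_option linter.unusedSimpArgs false

namespace Cfsg.Agent.Lib.Helper28_ONQuot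

theorem on_quot_trivial {Q : Type*} [Group Q] (a b c d e f g : Q)
    (ha : a * a = 1) (hb : b * b = 1) (hc : c * c = 1) (hd : d * d = 1) (he : e * e = 1)
    (hab : (a * b) ^ 3 = 1) (hbc : (b * c) ^ 3 = 1) (hde : (d * e) ^ 3 = 1)
    (r2 : (a * f) * ((c * d) ^ 4)⁻¹ = 1)
    (r3 : c * ((d * g * d * g)⁻¹ * c * (d * g * d * g)) = 1)
    (r6 : g * b * (c⁻¹ * g * c) * (b⁻¹ * g * b) * (c⁻¹ * g * c) = 1)
    (r7 : g * e * (d⁻¹ * g * d) * (e⁻¹ * g * e) * (d⁻¹ * g * d) = 1)
    (hy : b * c * d * g = 1) :
    a = 1 ∧ b = 1 ∧ c = 1 ∧ d = 1 ∧ e = 1 ∧ f = 1 ∧ g = 1 := by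
  have hbi : b⁻¹ = b := inv_eq_of_mul_eq_one_left hb
  have hci : c⁻¹ = c := inv_eq_of_mul_eq_one_left hc
  have hdi : d⁻¹ = d := inv_eq_of_mul_eq_one_left hd
  have hei : e⁻¹ = e := inv_eq_of_mul_eq_one_left he
  have hb' : ∀ x, b * (b * x) = x := fun x => by rw [← mul_assoc, hb, one_mul]
  have hc' : ∀ x, c * (c * x) = x := fun x => by rw [← mul_assoc, hc, one_mul]
  have hd' : ∀ x, d * (d * x) = x := fun x => by rw [← mul_assoc, hd, one_mul]
  have he' : ∀ x, e * (e * x) = x := fun x => by rw [← mul_assoc, he, one_mul]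
  have hg : g = d * c * b := by
    have : g = (b * c * d)⁻¹ := eq_inv_of_mul_eq_one_right hy
    rw [this, mul_inv_rev, mul_inv_rev, hbi, hci, hdi, mul_assoc]
  subst hg
  -- `c = b`
  have hbc3 : b * (c * (b * (c * (b * c)))) = 1 := by
    have := hbc
    simpa [pow_succ, mul_assoc] using this
  have hbc3' : ∀ x, b * (c * (b * (c * (b * (c * x))))) = x := fun x => by
    have : b * (c * (b * (c * (b * (c * x))))) = (b * (c * (b * (c * (b * c))))) * x := by
      simp only [mul_assoc]
    rw [this, hbc3, one_mul]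
  have hcb : c * b = 1 := by
    simp only [mul_assoc, mul_inv_rev, hbi, hci, hdi, hd', hc', hb', hbc3', hb, hc, hd, mul_one,
      one_mul] at r3
    exact r3
  have hceq : c = b := by
    have := eq_inv_of_mul_eq_one_left hcb
    rw [this, hbi]
  -- `b = 1`
  have hb1 : b = 1 := by
    rw [hceq] at r6
    simp only [mul_assoc, hbi, hdi, hd', hb', hb, hd, mul_one, one_mul] at r6
    exact r6
  have hc1 : c = 1 := by rw [hceq, hb1]
  -- `a = 1`
  have ha1 : a = 1 := by
    rw [hb1, mul_one, pow_succ, pow_two, ha, one_mul] at hab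
    exact hab
  -- `f = 1`
  have hf1 : f = 1 := by
    rw [ha1, hc1, one_mul, one_mul] at r2
    have h4 : d ^ 4 = 1 := by
      have : d ^ 4 = (d * d) * (d * d) := by simp only [pow_succ, pow_zero, one_mul, mul_assoc]
      rw [this, hd, one_mul]
    rw [h4, inv_one, mul_one] at r2
    exact r2
  -- `d = 1`
  have hde3 : d * (e * (d * (e * (d * e)))) = 1 := by
    have := hde
    simpa [pow_succ, mul_assoc] using this
  have hde3' : ∀ x, d * (e * (d * (e * (d * (e * x))))) = x := fun x => by
    have : d * (e * (d * (e * (d * (e * x))))) = (d * (e * (d * (e * (d * e))))) * x := by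
      simp only [mul_assoc]
    rw [this, hde3, one_mul]
  have hd1 : d = 1 := by
    rw [hc1, hb1] at r7
    simp only [mul_one, one_mul, inv_one] at r7
    simp only [mul_assoc, hdi, hei, hd', he', hde3', hd, he, mul_one, one_mul] at r7
    exact r7
  have he1 : e = 1 := by
    rw [hd1, one_mul, pow_succ, pow_two, he, one_mul] at hde
    exact hde
  refine ⟨ha1, hb1, hc1, hd1, he1, hf1, ?_⟩
  rw [hd1, hc1, hb1, mul_one, mul_one]

end Cfsg.Agent.Lib.Helper28_ONQuot
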