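import Cfsg.Agent.Lib.Helper28_ONc1UDef

set_option autoImplicit false
set_option linter.constructorNameAsVariable false
set_option linter.unusedVariables false
set_option Elab.async false

namespace Cfsg.Agent.Lib.Helper28_ONc1.U

open Cfsg.Agent.Lib.Helper28_CosetPerm

theorem f0r0 : allRange blockOk 1 0 90 = true := by decide +kernel
theorem f0u0 : ∀ k, 0 ≤ k → k < 90 → blockOk (k * 1) = true := between_extend blockOk 1 0 0 90 (between_start blockOk 1 0) f0r0

theorem f0r1 : allRange blockOk 1 90 42 = true := by decide +kernel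
theorem f0u1 : ∀ k, 0 ≤ k → k < 132 → blockOk (k * 1) = true := between_extend blockOk 1 0 90 42 (f0u0) f0r1

theorem f0 : ∀ k, 0 ≤ k → k < 132 → blockOk (k * 1) = true := f0u1

end Cfsg.Agent.Lib.Helper28_ONc1.U
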