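import Cfsg.Agent.Lib.Helper28_CosetCox

/-!
# Upper bounds for the order of a Coxeter-style presented group through a chain of
sub-presentations (helper28)

A sub-presentation lives on the *same* generator type: the generators that are dropped are
added as relators.  There is then a homomorphism from the sub-presented group to the ambient
presented group whose range contains the subgroup generated by the kept generators, so that
`|P| ≤ [P : K] * |P'|`.
-/

set_option autoImplicit false
set_option linter.unusedSectionVars false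
set_option linter.unusedVariables false

namespace Cfsg.Agent.Lib.Helper28_OrderChain

open Cfsg.Spor Cfsg.Agent.Lib.Helper28_CosetCox

section Abstract

/-- One step of the chain: a subgroup `K` of finite index `≤ n` contained in the range of a
homomorphism from a finite group of order `≤ m`. -/
theorem card_le_step {P Q : Type*} [Group P] [Group Q] (φ : Q →* P) (K : Subgroup P)
    (hK : K ≤ φ.range) (n m : ℕ) (hidx : K.index ≠ 0 ∧ K.index ≤ n)
    (hQ : Finite Q ∧ Nat.card Q ≤ m) : Finite P ∧ Nat.card P ≤ n * m := by
  obtain ⟨hQf, hQc⟩ := hQ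
  have : Finite φ.range := Set.finite_range φ |>.to_subtype
  have : Finite K := Finite.of_injective (Subgroup.inclusion hK) (Subgroup.inclusion_injective hK)
  have h1 : Nat.card K ≤ Nat.card φ.range :=
    Nat.card_le_card_of_injective (Subgroup.inclusion hK) (Subgroup.inclusion_injective hK)
  have h2 : Nat.card φ.range ≤ Nat.card Q :=
    Nat.card_le_card_of_surjective φ.rangeRestrict φ.rangeRestrict_surjective
  have h3 : Nat.card K * K.index = Nat.card P := K.card_mul_index
  have hKpos : Nat.card K ≠ 0 := Nat.card_pos.ne'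
  have hP : Nat.card P ≠ 0 := by
    rw [← h3]; exact Nat.mul_ne_zero hKpos hidx.1
  refine ⟨Nat.finite_of_card_ne_zero hP, ?_⟩
  rw [← h3, Nat.mul_comm]
  exact Nat.mul_le_mul hidx.2 (le_trans (le_trans h1 h2) hQc)

/-- Base of the chain: the trivial subgroup has finite index `≤ n`. -/
theorem card_le_base {P : Type*} [Group P] (K : Subgroup P) (hK : K = ⊥) (n : ℕ)
    (hidx : K.index ≠ 0 ∧ K.index ≤ n) : Finite P ∧ Nat.card P ≤ n := by
  subst hK
  have h3 : Nat.card (⊥ : Subgroup P) * (⊥ : Subgroup P).index = Nat.card P :=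
    (⊥ : Subgroup P).card_mul_index
  rw [Subgroup.card_bot, Nat.one_mul] at h3
  have hP : Nat.card P ≠ 0 := by rw [← h3]; exact hidx.1
  exact ⟨Nat.finite_of_card_ne_zero hP, by rw [← h3]; exact hidx.2⟩

end Abstract

section Sub

variable {α : Type} [DecidableEq α]

/-- The extra relators of a sub-presentation: the kept relators (as letter lists) and the
dropped generators. -/
def subExtra (kept : List (List (α × Bool))) (dropped : List α) : List (FreeGroup α) :=
  kept.map FreeGroup.mk ++ dropped.map FreeGroup.of

/-- The generator map of the comparison homomorphism. -/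
def subMap (rels : Set (FreeGroup α)) (dropped : List α) (x : α) : PresentedGroup rels :=
  if x ∈ dropped then 1 else PresentedGroup.of x

theorem lift_subMap_mk (rels : Set (FreeGroup α)) (dropped : List α) (u : List (α × Bool))
    (hu : ∀ l ∈ u, l.1 ∉ dropped) :
    FreeGroup.lift (subMap rels dropped) (FreeGroup.mk u) =
      PresentedGroup.mk rels (FreeGroup.mk u) := by
  induction u with
  | nil => simp [FreeGroup.lift_mk]; rfl
  | cons l ls ih =>
    have h1 : (FreeGroup.mk (l :: ls) : FreeGroup α) = FreeGroup.mk [l] * FreeGroup.mk ls := by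
      rw [FreeGroup.mul_mk]; rfl
    rw [h1, map_mul, map_mul, ih (fun l' hl' => hu l' (List.mem_cons_of_mem _ hl'))]
    congr 1
    obtain ⟨a, b⟩ := l
    have ha : a ∉ dropped := hu (a, b) List.mem_cons_self
    cases b with
    | true =>
      show FreeGroup.lift (subMap rels dropped) (FreeGroup.of a) = _
      rw [FreeGroup.lift_apply_of]
      unfold subMap
      rw [if_neg ha]
      rfl
    | false =>
      show FreeGroup.lift (subMap rels dropped) (FreeGroup.of a)⁻¹ = _
      rw [map_inv, FreeGroup.lift_apply_of]
      unfold subMap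
      rw [if_neg ha]
      rfl

/-- Decidable form of membership in the relator set. -/
def InRels (edges : List (α × ℕ × α)) (extra : List (FreeGroup α)) (r : FreeGroup α) : Prop :=
  (∃ x ∈ coxNodes edges, ∃ y ∈ coxNodes edges,
    r = (FreeGroup.of x * FreeGroup.of y) ^ coxLabel edges x y) ∨ r ∈ extra

instance (edges : List (α × ℕ × α)) (extra : List (FreeGroup α)) (r : FreeGroup α) :
    Decidable (InRels edges extra r) := by
  unfold InRels; infer_instance

theorem mem_of_inRels (edges : List (α × ℕ × α)) (extra : List (FreeGroup α)) (r : FreeGroup α)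
    (h : InRels edges extra r) : r ∈ coxRelators edges ∪ {r | r ∈ extra} := by
  rcases h with ⟨x, hx, y, hy, rfl⟩ | h
  · exact Or.inl ⟨x, hx, y, hy, rfl⟩
  · exact Or.inr h

/-- The relators of the sub-presentation are killed by `subMap`. -/
theorem subMap_rels (edges edges' : List (α × ℕ × α)) (extra : List (FreeGroup α))
    (kept : List (List (α × Bool))) (dropped : List α)
    (h1 : ∀ x ∈ coxNodes edges', x ∈ coxNodes edges ∧ x ∉ dropped)
    (h2 : ∀ x ∈ coxNodes edges', ∀ y ∈ coxNodes edges',
      coxLabel edges' x y = coxLabel edges x y)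
    (h3 : ∀ u ∈ kept, InRels edges extra (FreeGroup.mk u) ∧ ∀ l ∈ u, l.1 ∉ dropped) :
    ∀ r ∈ coxRelators edges' ∪ {r | r ∈ subExtra kept dropped},
      FreeGroup.lift (subMap (coxRelators edges ∪ {r | r ∈ extra}) dropped) r = 1 := by
  rintro r (hr | hr)
  · revert r
    apply cox_lift_eq_one
    intro x hx y hy
    unfold subMap
    rw [if_neg (h1 x hx).2, if_neg (h1 y hy).2, h2 x hx y hy]
    have hmem : (FreeGroup.of x * FreeGroup.of y) ^ coxLabel edges x y ∈
        coxRelators edges ∪ {r | r ∈ extra} :=
      Or.inl ⟨x, (h1 x hx).1, y, (h1 y hy).1, rfl⟩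
    have := PresentedGroup.one_of_mem hmem
    rwa [map_pow, map_mul] at this
  · have hr' : r ∈ subExtra kept dropped := hr
    unfold subExtra at hr'
    rcases List.mem_append.mp hr' with h | h
    · obtain ⟨u, hu, rfl⟩ := List.mem_map.mp h
      rw [lift_subMap_mk _ _ u (h3 u hu).2]
      exact PresentedGroup.one_of_mem (mem_of_inRels _ _ _ (h3 u hu).1)
    · obtain ⟨x, hx, rfl⟩ := List.mem_map.mp h
      rw [FreeGroup.lift_apply_of]
      unfold subMap
      rw [if_pos hx]

/-- The comparison homomorphism from the sub-presented group. -/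
noncomputable def subHom (edges edges' : List (α × ℕ × α)) (extra : List (FreeGroup α))
    (kept : List (List (α × Bool))) (dropped : List α)
    (h1 : ∀ x ∈ coxNodes edges', x ∈ coxNodes edges ∧ x ∉ dropped)
    (h2 : ∀ x ∈ coxNodes edges', ∀ y ∈ coxNodes edges',
      coxLabel edges' x y = coxLabel edges x y)
    (h3 : ∀ u ∈ kept, InRels edges extra (FreeGroup.mk u) ∧ ∀ l ∈ u, l.1 ∉ dropped) :
    PresentedGroup (coxRelators edges' ∪ {r | r ∈ subExtra kept dropped}) →*
      PresentedGroup (coxRelators edges ∪ {r | r ∈ extra}) :=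
  PresentedGroup.toGroup (subMap_rels edges edges' extra kept dropped h1 h2 h3)

theorem subHom_of (edges edges' : List (α × ℕ × α)) (extra : List (FreeGroup α))
    (kept : List (List (α × Bool))) (dropped : List α)
    (h1 : ∀ x ∈ coxNodes edges', x ∈ coxNodes edges ∧ x ∉ dropped)
    (h2 : ∀ x ∈ coxNodes edges', ∀ y ∈ coxNodes edges',
      coxLabel edges' x y = coxLabel edges x y)
    (h3 : ∀ u ∈ kept, InRels edges extra (FreeGroup.mk u) ∧ ∀ l ∈ u, l.1 ∉ dropped)
    (x : α) (hx : x ∉ dropped) :
    subHom edges edges' extra kept dropped h1 h2 h3 (PresentedGroup.of x) =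
      PresentedGroup.of x := by
  unfold subHom
  rw [PresentedGroup.toGroup.of]
  unfold subMap
  rw [if_neg hx]

/-- The chain step for a sub-presentation. -/
theorem card_le_sub (edges edges' : List (α × ℕ × α)) (extra : List (FreeGroup α))
    (kept : List (List (α × Bool))) (dropped : List α)
    (h1 : ∀ x ∈ coxNodes edges', x ∈ coxNodes edges ∧ x ∉ dropped)
    (h2 : ∀ x ∈ coxNodes edges', ∀ y ∈ coxNodes edges',
      coxLabel edges' x y = coxLabel edges x y)
    (h3 : ∀ u ∈ kept, InRels edges extra (FreeGroup.mk u) ∧ ∀ l ∈ u, l.1 ∉ dropped)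
    (S : Set (FreeGroup α)) (hS : ∀ s ∈ S, ∃ x, x ∉ dropped ∧ s = FreeGroup.of x)
    (n m : ℕ)
    (hidx : ((Subgroup.closure S).map
        (PresentedGroup.mk (coxRelators edges ∪ {r | r ∈ extra}))).index ≠ 0 ∧
      ((Subgroup.closure S).map
        (PresentedGroup.mk (coxRelators edges ∪ {r | r ∈ extra}))).index ≤ n)
    (hQ : Finite (PresentedGroup (coxRelators edges' ∪ {r | r ∈ subExtra kept dropped})) ∧
      Nat.card (PresentedGroup (coxRelators edges' ∪ {r | r ∈ subExtra kept dropped})) ≤ m) :
    Finite (PresentedGroup (coxRelators edges ∪ {r | r ∈ extra})) ∧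
      Nat.card (PresentedGroup (coxRelators edges ∪ {r | r ∈ extra})) ≤ n * m := by
  apply card_le_step (subHom edges edges' extra kept dropped h1 h2 h3) _ _ n m hidx hQ
  rw [Subgroup.map_le_iff_le_comap, Subgroup.closure_le]
  intro s hs
  obtain ⟨x, hx, rfl⟩ := hS s hs
  exact ⟨PresentedGroup.of x, subHom_of edges edges' extra kept dropped h1 h2 h3 x hx⟩

/-- The base step: the subgroup generated by nothing. -/
theorem card_le_empty (rels : Set (FreeGroup α)) (n : ℕ)
    (hidx : ((Subgroup.closure (∅ : Set (FreeGroup α))).map (PresentedGroup.mk rels)).index ≠ 0 ∧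
      ((Subgroup.closure (∅ : Set (FreeGroup α))).map (PresentedGroup.mk rels)).index ≤ n) :
    Finite (PresentedGroup rels) ∧ Nat.card (PresentedGroup rels) ≤ n := by
  apply card_le_base _ _ n hidx
  rw [Subgroup.closure_empty, Subgroup.map_bot]

end Sub

end Cfsg.Agent.Lib.Helper28_OrderChain
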