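import Cfsg.Agent.Lib.Helper28_S1680Def

set_option autoImplicit false
set_option linter.constructorNameAsVariable false
set_option Elab.async false

namespace Cfsg.Agent.Lib.Helper28_S1680

open Cfsg.Agent.Lib.Helper28_CosetPerm

theorem o0r0 : allRange orbOk 15 0 1782 = true := by decide +kernel
theorem o0u0 : ∀ k, 0 ≤ k → k < 1782 → orbOk (k * 15) = true := between_extend orbOk 15 0 0 1782 (between_start orbOk 15 0) o0r0

theorem o0 : ∀ k, 0 ≤ k → k < 1782 → orbOk (k * 15) = true := o0u0

end Cfsg.Agent.Lib.Helper28_S1680
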