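import Cfsg.Agent.Lib.Helper28_S1680P0
import Cfsg.Agent.Lib.Helper28_S1680O0

set_option autoImplicit false
set_option linter.constructorNameAsVariable false
set_option Elab.async false

namespace Cfsg.Agent.Lib.Helper28_S1680

open Cfsg.Spor Cfsg.Agent.Lib.Helper28_CosetPerm Cfsg.Agent.Lib.Helper28_CosetCox Cfsg.Agent.Lib.Helper28_S1680Tab

theorem all_ok : ∀ k < 1782, pchk 26730 15 32767 col letters words (k * 15) = true := by
  intro k hk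
  rw [← pointOk_eq]
  exact between_all pointOk 15 1782 p0 k hk

theorem all_letters : ∀ (a : Cfsg.Spor.Suz.Gen) (b : Bool), (a, b) ∈ letters := by
  intro a b; cases a <;> cases b <;> decide

theorem cox_covered : CoxCovered Suz.edges words := by decide

theorem extra_covered : ExtraCovered Suz.extra words := by
  unfold ExtraCovered; decide

theorem sub_fix : ∀ s ∈ ({Cfsg.Spor.Suz.a, Cfsg.Spor.Suz.b, Cfsg.Spor.Suz.c, Cfsg.Spor.Suz.d, Cfsg.Spor.Suz.e, Cfsg.Spor.Suz.f} : Set (FreeGroup Cfsg.Spor.Suz.Gen)), ∃ u : List (Cfsg.Spor.Suz.Gen × Bool), FreeGroup.mk u = s ∧ walk 32767 col u 0 = 0 := by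
  intro s hs
  simp only [Set.mem_insert_iff, Set.mem_singleton_iff] at hs
  rcases hs with rfl | rfl | rfl | rfl | rfl | rfl
  · exact ⟨[(.a, true)], by decide, by decide +kernel⟩
  · exact ⟨[(.b, true)], by decide, by decide +kernel⟩
  · exact ⟨[(.c, true)], by decide, by decide +kernel⟩
  · exact ⟨[(.d, true)], by decide, by decide +kernel⟩
  · exact ⟨[(.e, true)], by decide, by decide +kernel⟩
  · exact ⟨[(.f, true)], by decide, by decide +kernel⟩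

instance : NeZero (1782 : ℕ) := ⟨by norm_num⟩

theorem verified : Verified 1782 15 32767 col (Cfsg.Spor.coxRelators Cfsg.Spor.Suz.edges ∪ {r | r ∈ Cfsg.Spor.Suz.extra}) ({Cfsg.Spor.Suz.a, Cfsg.Spor.Suz.b, Cfsg.Spor.Suz.c, Cfsg.Spor.Suz.d, Cfsg.Spor.Suz.e, Cfsg.Spor.Suz.f} : Set (FreeGroup Cfsg.Spor.Suz.Gen)) :=
  verified_of_table (n := 1782) (w := 15) (mask := 32767) (col := col) 26730 (by norm_num) (by norm_num) letters all_letters Suz.edges Suz.extra words all_ok cox_covered extra_covered _ sub_fix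

/-- the lower bound, index part -/
theorem lower_index (hfin : ((Subgroup.closure ({Cfsg.Spor.Suz.a, Cfsg.Spor.Suz.b, Cfsg.Spor.Suz.c, Cfsg.Spor.Suz.d, Cfsg.Spor.Suz.e, Cfsg.Spor.Suz.f} : Set (FreeGroup Cfsg.Spor.Suz.Gen))).map (PresentedGroup.mk (Cfsg.Spor.coxRelators Cfsg.Spor.Suz.edges ∪ {r | r ∈ Cfsg.Spor.Suz.extra}))).index ≠ 0) (hle : ((Subgroup.closure ({Cfsg.Spor.Suz.a, Cfsg.Spor.Suz.b, Cfsg.Spor.Suz.c, Cfsg.Spor.Suz.d, Cfsg.Spor.Suz.e, Cfsg.Spor.Suz.f} : Set (FreeGroup Cfsg.Spor.Suz.Gen))).map (PresentedGroup.mk (Cfsg.Spor.coxRelators Cfsg.Spor.Suz.edges ∪ {r | r ∈ Cfsg.Spor.Suz.extra}))).index ≤ 1782) : ((Subgroup.closure ({Cfsg.Spor.Suz.a, Cfsg.Spor.Suz.b, Cfsg.Spor.Suz.c, Cfsg.Spor.Suz.d, Cfsg.Spor.Suz.e, Cfsg.Spor.Suz.f} : Set (FreeGroup Cfsg.Spor.Suz.Gen))).map (PresentedGroup.mk (Cfsg.Spor.coxRelators Cfsg.Spor.Suz.edges ∪ {r | r ∈ Cfsg.Spor.Suz.extra}))).index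 = 1782 :=
  verified.index_eq hfin hle

theorem orb_ok : ∀ k < 1782, ochk 32767 col oidA rnkA bases cl (k * 15) = true := by
  intro k hk
  rw [← orbOk_eq]
  exact between_all orbOk 15 1782 o0 k hk

theorem cl_mem : ∀ u ∈ cl, FreeGroup.mk u ∈ Subgroup.closure ({Cfsg.Spor.Suz.a, Cfsg.Spor.Suz.b, Cfsg.Spor.Suz.c, Cfsg.Spor.Suz.d, Cfsg.Spor.Suz.e, Cfsg.Spor.Suz.f} : Set (FreeGroup Cfsg.Spor.Suz.Gen)) := by
  intro u hu
  simp only [cl, List.mem_cons, List.not_mem_nil, or_false] at hu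
  rcases hu with rfl | rfl | rfl | rfl | rfl | rfl
  · exact Subgroup.subset_closure (by simp only [Set.mem_insert_iff, Set.mem_singleton_iff]; decide)
  · exact Subgroup.subset_closure (by simp only [Set.mem_insert_iff, Set.mem_singleton_iff]; decide)
  · exact Subgroup.subset_closure (by simp only [Set.mem_insert_iff, Set.mem_singleton_iff]; decide)
  · exact Subgroup.subset_closure (by simp only [Set.mem_insert_iff, Set.mem_singleton_iff]; decide)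
  · exact Subgroup.subset_closure (by simp only [Set.mem_insert_iff, Set.mem_singleton_iff]; decide)
  · exact Subgroup.subset_closure (by simp only [Set.mem_insert_iff, Set.mem_singleton_iff]; decide)

theorem S_cl : ∀ s ∈ ({Cfsg.Spor.Suz.a, Cfsg.Spor.Suz.b, Cfsg.Spor.Suz.c, Cfsg.Spor.Suz.d, Cfsg.Spor.Suz.e, Cfsg.Spor.Suz.f} : Set (FreeGroup Cfsg.Spor.Suz.Gen)), ∃ u ∈ cl, FreeGroup.mk u = s := by
  intro s hs
  simp only [Set.mem_insert_iff, Set.mem_singleton_iff] at hs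
  rcases hs with rfl | rfl | rfl | rfl | rfl | rfl
  · exact ⟨[(.a, true)], by decide, by decide⟩
  · exact ⟨[(.b, true)], by decide, by decide⟩
  · exact ⟨[(.c, true)], by decide, by decide⟩
  · exact ⟨[(.d, true)], by decide, by decide⟩
  · exact ⟨[(.e, true)], by decide, by decide⟩
  · exact ⟨[(.f, true)], by decide, by decide⟩

theorem cnt0 : cntB (fun k => Nat.beq (nxt 32767 oidA (Nat.mul k 15)) 2) 1782 = 416 := by decide +kernel

theorem cnt1 : cntB (fun k => Nat.beq (nxt 32767 oidA (Nat.mul k 15)) 1) 1782 = 1365 := by decide +kernel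

/-- the lower bound: the full statement from the upper bound -/
theorem lower (hfin : ((Subgroup.closure ({Cfsg.Spor.Suz.a, Cfsg.Spor.Suz.b, Cfsg.Spor.Suz.c, Cfsg.Spor.Suz.d, Cfsg.Spor.Suz.e, Cfsg.Spor.Suz.f} : Set (FreeGroup Cfsg.Spor.Suz.Gen))).map (PresentedGroup.mk (Cfsg.Spor.coxRelators Cfsg.Spor.Suz.edges ∪ {r | r ∈ Cfsg.Spor.Suz.extra}))).index ≠ 0) (hle : ((Subgroup.closure ({Cfsg.Spor.Suz.a, Cfsg.Spor.Suz.b, Cfsg.Spor.Suz.c, Cfsg.Spor.Suz.d, Cfsg.Spor.Suz.e, Cfsg.Spor.Suz.f} : Set (FreeGroup Cfsg.Spor.Suz.Gen))).map (PresentedGroup.mk (Cfsg.Spor.coxRelators Cfsg.Spor.Suz.edges ∪ {r | r ∈ Cfsg.Spor.Suz.extra}))).index ≤ 1782) :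
    ((Subgroup.closure ({Cfsg.Spor.Suz.a, Cfsg.Spor.Suz.b, Cfsg.Spor.Suz.c, Cfsg.Spor.Suz.d, Cfsg.Spor.Suz.e, Cfsg.Spor.Suz.f} : Set (FreeGroup Cfsg.Spor.Suz.Gen))).map (PresentedGroup.mk (Cfsg.Spor.coxRelators Cfsg.Spor.Suz.edges ∪ {r | r ∈ Cfsg.Spor.Suz.extra}))).index = 1782 ∧ ∃ q1 q2 : Cfsg.Spor.Suz ⧸ ((Subgroup.closure ({Cfsg.Spor.Suz.a, Cfsg.Spor.Suz.b, Cfsg.Spor.Suz.c, Cfsg.Spor.Suz.d, Cfsg.Spor.Suz.e, Cfsg.Spor.Suz.f} : Set (FreeGroup Cfsg.Spor.Suz.Gen))).map (PresentedGroup.mk (Cfsg.Spor.coxRelators Cfsg.Spor.Suz.edges ∪ {r | r ∈ Cfsg.Spor.Suz.extra}))), (MulAction.orbit ((Subgroup.closure ({Cfsg.Spor.Suz.a, Cfsg.Spor.Suz.b, Cfsg.Spor.Suz.c, Cfsg.Spor.Suz.d, Cfsg.Spor.Suz.e, Cfsg.Spor.Suz.f} : Set (FreeGroup Cfsg.Spor.Suz.Gen))).map (PresentedGroup.mk (Cfsg.Spor.coxRelators Cfsg.Spor.Suz.edges ∪ {r | r ∈ Cfsg.Spor.Suz.extra}))) q1).ncard = 416 ∧ (MulAction.orbit ((Subgroup.closure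 ({Cfsg.Spor.Suz.a, Cfsg.Spor.Suz.b, Cfsg.Spor.Suz.c, Cfsg.Spor.Suz.d, Cfsg.Spor.Suz.e, Cfsg.Spor.Suz.f} : Set (FreeGroup Cfsg.Spor.Suz.Gen))).map (PresentedGroup.mk (Cfsg.Spor.coxRelators Cfsg.Spor.Suz.edges ∪ {r | r ∈ Cfsg.Spor.Suz.extra}))) q2).ncard = 1365 := by
  refine ⟨lower_index hfin hle, ?_⟩
  obtain ⟨q1, hb1, himg1, hcard1⟩ := verified.orbit hfin hle oidA rnkA bases cl cl_mem S_cl orb_ok 2 (⟨47, by norm_num⟩ : Fin 1782) (by decide) (by decide +kernel)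
  obtain ⟨q2, hb2, himg2, hcard2⟩ := verified.orbit hfin hle oidA rnkA bases cl cl_mem S_cl orb_ok 1 (⟨1, by norm_num⟩ : Fin 1782) (by decide) (by decide +kernel)
  refine ⟨q1, q2, ?_⟩
  rw [card_orbSet] at hcard1 hcard2
  rw [cnt0] at hcard1
  rw [cnt1] at hcard2
  exact ⟨hcard1, hcard2⟩

end Cfsg.Agent.Lib.Helper28_S1680
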