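import Cfsg.Agent.Lib.Helper28_CosetCox
import Cfsg.Agent.Lib.Helper28_S1680Tab
import Cfsg.Prelude.Def_Spor_Suz

set_option autoImplicit false
set_option linter.constructorNameAsVariable false
set_option Elab.async false

namespace Cfsg.Agent.Lib.Helper28_S1680

open Cfsg.Spor Cfsg.Agent.Lib.Helper28_CosetPerm Cfsg.Agent.Lib.Helper28_CosetCox Cfsg.Agent.Lib.Helper28_S1680Tab

/-- the packed column of a letter -/
def col : Cfsg.Spor.Suz.Gen → Bool → ℕ
  | .a, _ => cA
  | .b, _ => cB
  | .c, _ => cC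
  | .d, _ => cD
  | .e, _ => cE
  | .f, _ => cF
  | .g, _ => cG

/-- all letters -/
def letters : List (Cfsg.Spor.Suz.Gen × Bool) := [(.a, true), (.b, true), (.c, true), (.d, true), (.e, true), (.f, true), (.g, true), (.a, false), (.b, false), (.c, false), (.d, false), (.e, false), (.f, false), (.g, false)]

/-- the checked words -/
def words : List (List (Cfsg.Spor.Suz.Gen × Bool)) := [
  [(.a, true), (.a, true)],
  [(.a, true), (.b, true), (.a, true), (.b, true), (.a, true), (.b, true), (.a, true), (.b, true), (.a, true), (.b, true)],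
  [(.a, true), (.c, true), (.a, true), (.c, true)],
  [(.a, true), (.d, true), (.a, true), (.d, true)],
  [(.a, true), (.f, true), (.a, true), (.f, true)],
  [(.a, true), (.g, true), (.a, true), (.g, true)],
  [(.a, true), (.e, true), (.a, true), (.e, true)],
  [(.b, true), (.b, true)],
  [(.b, true), (.c, true), (.b, true), (.c, true), (.b, true), (.c, true)],
  [(.b, true), (.d, true), (.b, true), (.d, true)],
  [(.b, true), (.f, true), (.b, true), (.f, true), (.b, true), (.f, true)],
  [(.b, true), (.g, true), (.b, true), (.g, true), (.b, true), (.g, true)],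
  [(.b, true), (.e, true), (.b, true), (.e, true)],
  [(.c, true), (.c, true)],
  [(.c, true), (.d, true), (.c, true), (.d, true), (.c, true), (.d, true), (.c, true), (.d, true), (.c, true), (.d, true), (.c, true), (.d, true), (.c, true), (.d, true), (.c, true), (.d, true)],
  [(.c, true), (.f, true), (.c, true), (.f, true)],
  [(.c, true), (.g, true), (.c, true), (.g, true)],
  [(.c, true), (.e, true), (.c, true), (.e, true)],
  [(.d, true), (.d, true)],
  [(.d, true), (.f, true), (.d, true), (.f, true)],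
  [(.d, true), (.g, true), (.d, true), (.g, true)],
  [(.d, true), (.e, true), (.d, true), (.e, true), (.d, true), (.e, true)],
  [(.f, true), (.f, true)],
  [(.f, true), (.g, true), (.f, true), (.g, true), (.f, true), (.g, true), (.f, true), (.g, true)],
  [(.g, true), (.g, true)],
  [(.e, true), (.f, true), (.e, true), (.f, true)],
  [(.e, true), (.g, true), (.e, true), (.g, true)],
  [(.e, true), (.e, true)],
  [(.a, true), (.d, false), (.c, false), (.d, false), (.c, false), (.d, false), (.c, false), (.d, false), (.c, false)],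
  [(.a, true), (.g, false), (.f, false), (.g, false), (.f, false)],
  [(.a, true), (.b, true), (.c, true), (.f, true), (.a, true), (.b, true), (.c, true), (.f, true), (.a, true), (.b, true), (.c, true), (.f, true), (.a, true), (.b, true), (.c, true), (.f, true), (.a, true), (.b, true), (.c, true), (.f, true)],
  [(.b, true), (.f, true), (.g, true), (.b, true), (.f, true), (.g, true), (.b, true), (.f, true), (.g, true), (.b, true), (.f, true), (.g, true), (.b, true), (.f, true), (.g, true)],
  [(.b, true), (.c, true), (.d, true), (.c, true), (.d, true), (.b, true), (.c, true), (.d, true), (.c, true), (.d, true), (.b, true), (.c, true), (.d, true), (.c, true), (.d, true), (.b, true), (.c, true), (.d, true), (.c, true), (.d, true), (.b, true), (.c, true), (.d, true), (.c, true), (.d, true), (.e, true), (.b, true), (.c, true), (.d, true), (.c, true), (.d, true), (.b, true), (.c, true), (.d, true), (.c, true), (.d, true), (.b, true), (.c, true), (.d, true), (.c, true), (.d, true), (.b,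 true), (.c, true), (.d, true), (.c, true), (.d, true), (.b, true), (.c, true), (.d, true), (.c, true), (.d, true), (.e, true), (.b, true), (.c, true), (.d, true), (.c, true), (.d, true), (.b, true), (.c, true), (.d, true), (.c, true), (.d, true), (.b, true), (.c, true), (.d, true), (.c, true), (.d, true), (.b, true), (.c, true), (.d, true), (.c, true), (.d, true), (.b, true), (.c, true), (.d, true), (.c, true), (.d, true), (.e, true)]]

/-- the unrolled pointwise check -/
def pointOk (x : ℕ) : Bool :=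
  and (and (and (Nat.beq (Nat.mod (Nat.land (Nat.shiftRight cA x) 32767) 15) 0) (and (Nat.blt (Nat.land (Nat.shiftRight cA x) 32767) 26730) (Nat.beq (Nat.land (Nat.shiftRight cA (Nat.land (Nat.shiftRight cA x) 32767)) 32767) x))) (and (and (Nat.beq (Nat.mod (Nat.land (Nat.shiftRight cB x) 32767) 15) 0) (and (Nat.blt (Nat.land (Nat.shiftRight cB x) 32767) 26730) (Nat.beq (Nat.land (Nat.shiftRight cB (Nat.land (Nat.shiftRight cB x) 32767)) 32767) x))) (and (and (Nat.beq (Nat.mod (Nat.land (Nat.shiftRight cC x) 32767) 15) 0) (and (Nat.blt (Nat.land (Nat.shiftRight cC x) 32767) 26730) (Nat.beq (Nat.land (Nat.shiftRight cC (Nat.land (Nat.shiftRight cC x) 32767)) 32767) x))) (and (and (Nat.beq (Nat.mod (Nat.land (Nat.shiftRight cD x) 32767) 15) 0) (and (Nat.blt (Nat.land (Nat.shiftRight cD x) 32767) 26730) (Nat.beq (Nat.land (Nat.shiftRight cD (Nat.land (Nat.shiftRight cD x) 32767)) 32767) x))) (and (and (Nat.beq (Nat.mod (Nat.land (Nat.shiftRight cE x) 32767) 15) 0) (and (Nat.blt (Nat.land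 (Nat.shiftRight cE x) 32767) 26730) (Nat.beq (Nat.land (Nat.shiftRight cE (Nat.land (Nat.shiftRight cE x) 32767)) 32767) x))) (and (and (Nat.beq (Nat.mod (Nat.land (Nat.shiftRight cF x) 32767) 15) 0) (and (Nat.blt (Nat.land (Nat.shiftRight cF x) 32767) 26730) (Nat.beq (Nat.land (Nat.shiftRight cF (Nat.land (Nat.shiftRight cF x) 32767)) 32767) x))) (and (and (Nat.beq (Nat.mod (Nat.land (Nat.shiftRight cG x) 32767) 15) 0) (and (Nat.blt (Nat.land (Nat.shiftRight cG x) 32767) 26730) (Nat.beq (Nat.land (Nat.shiftRight cG (Nat.land (Nat.shiftRight cG x) 32767)) 32767) x))) (and (and (Nat.beq (Nat.mod (Nat.land (Nat.shiftRight cA x) 32767) 15) 0) (and (Nat.blt (Nat.land (Nat.shiftRight cA x) 32767) 26730) (Nat.beq (Nat.land (Nat.shiftRight cA (Nat.land (Nat.shiftRight cA x) 32767)) 32767) x))) (and (and (Nat.beq (Nat.mod (Nat.land (Nat.shiftRight cB x) 32767) 15) 0) (and (Nat.blt (Nat.land (Nat.shiftRight cB x) 32767) 26730) (Nat.beq (Nat.land (Nat.shiftRight cB (Nat.land (Nat.shiftRight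 cB x) 32767)) 32767) x))) (and (and (Nat.beq (Nat.mod (Nat.land (Nat.shiftRight cC x) 32767) 15) 0) (and (Nat.blt (Nat.land (Nat.shiftRight cC x) 32767) 26730) (Nat.beq (Nat.land (Nat.shiftRight cC (Nat.land (Nat.shiftRight cC x) 32767)) 32767) x))) (and (and (Nat.beq (Nat.mod (Nat.land (Nat.shiftRight cD x) 32767) 15) 0) (and (Nat.blt (Nat.land (Nat.shiftRight cD x) 32767) 26730) (Nat.beq (Nat.land (Nat.shiftRight cD (Nat.land (Nat.shiftRight cD x) 32767)) 32767) x))) (and (and (Nat.beq (Nat.mod (Nat.land (Nat.shiftRight cE x) 32767) 15) 0) (and (Nat.blt (Nat.land (Nat.shiftRight cE x) 32767) 26730) (Nat.beq (Nat.land (Nat.shiftRight cE (Nat.land (Nat.shiftRight cE x) 32767)) 32767) x))) (and (and (Nat.beq (Nat.mod (Nat.land (Nat.shiftRight cF x) 32767) 15) 0) (and (Nat.blt (Nat.land (Nat.shiftRight cF x) 32767) 26730) (Nat.beq (Nat.land (Nat.shiftRight cF (Nat.land (Nat.shiftRight cF x) 32767)) 32767) x))) (and (and (Nat.beq (Nat.mod (Nat.land (Nat.shiftRight cG x) 32767) 15) 0)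 (and (Nat.blt (Nat.land (Nat.shiftRight cG x) 32767) 26730) (Nat.beq (Nat.land (Nat.shiftRight cG (Nat.land (Nat.shiftRight cG x) 32767)) 32767) x))) true))))))))))))))
    (and (and (Nat.beq (Nat.land (Nat.shiftRight cA (Nat.land (Nat.shiftRight cA x) 32767)) 32767) x) (and (Nat.beq (Nat.land (Nat.shiftRight cB (Nat.land (Nat.shiftRight cA (Nat.land (Nat.shiftRight cB (Nat.land (Nat.shiftRight cA (Nat.land (Nat.shiftRight cB (Nat.land (Nat.shiftRight cA (Nat.land (Nat.shiftRight cB (Nat.land (Nat.shiftRight cA (Nat.land (Nat.shiftRight cB (Nat.land (Nat.shiftRight cA x) 32767)) 32767)) 32767)) 32767)) 32767)) 32767)) 32767)) 32767)) 32767)) 32767) x) (and (Nat.beq (Nat.land (Nat.shiftRight cC (Nat.land (Nat.shiftRight cA (Nat.land (Nat.shiftRight cC (Nat.land (Nat.shiftRight cA x) 32767)) 32767)) 32767)) 32767) x) (and (Nat.beq (Nat.land (Nat.shiftRight cD (Nat.land (Nat.shiftRight cA (Nat.land (Nat.shiftRight cD (Nat.land (Nat.shiftRight cA x) 32767)) 32767)) 32767)) 32767) x) (and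 (Nat.beq (Nat.land (Nat.shiftRight cF (Nat.land (Nat.shiftRight cA (Nat.land (Nat.shiftRight cF (Nat.land (Nat.shiftRight cA x) 32767)) 32767)) 32767)) 32767) x) (and (Nat.beq (Nat.land (Nat.shiftRight cG (Nat.land (Nat.shiftRight cA (Nat.land (Nat.shiftRight cG (Nat.land (Nat.shiftRight cA x) 32767)) 32767)) 32767)) 32767) x) (and (Nat.beq (Nat.land (Nat.shiftRight cE (Nat.land (Nat.shiftRight cA (Nat.land (Nat.shiftRight cE (Nat.land (Nat.shiftRight cA x) 32767)) 32767)) 32767)) 32767) x) (and (Nat.beq (Nat.land (Nat.shiftRight cB (Nat.land (Nat.shiftRight cB x) 32767)) 32767) x) (and (Nat.beq (Nat.land (Nat.shiftRight cC (Nat.land (Nat.shiftRight cB (Nat.land (Nat.shiftRight cC (Nat.land (Nat.shiftRight cB (Nat.land (Nat.shiftRight cC (Nat.land (Nat.shiftRight cB x) 32767)) 32767)) 32767)) 32767)) 32767)) 32767) x) (and (Nat.beq (Nat.land (Nat.shiftRight cD (Nat.land (Nat.shiftRight cB (Nat.land (Nat.shiftRight cD (Nat.land (Nat.shiftRight cB x) 32767)) 32767)) 32767)) 32767) x)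 (and (Nat.beq (Nat.land (Nat.shiftRight cF (Nat.land (Nat.shiftRight cB (Nat.land (Nat.shiftRight cF (Nat.land (Nat.shiftRight cB (Nat.land (Nat.shiftRight cF (Nat.land (Nat.shiftRight cB x) 32767)) 32767)) 32767)) 32767)) 32767)) 32767) x) (and (Nat.beq (Nat.land (Nat.shiftRight cG (Nat.land (Nat.shiftRight cB (Nat.land (Nat.shiftRight cG (Nat.land (Nat.shiftRight cB (Nat.land (Nat.shiftRight cG (Nat.land (Nat.shiftRight cB x) 32767)) 32767)) 32767)) 32767)) 32767)) 32767) x) (and (Nat.beq (Nat.land (Nat.shiftRight cE (Nat.land (Nat.shiftRight cB (Nat.land (Nat.shiftRight cE (Nat.land (Nat.shiftRight cB x) 32767)) 32767)) 32767)) 32767) x) (and (Nat.beq (Nat.land (Nat.shiftRight cC (Nat.land (Nat.shiftRight cC x) 32767)) 32767) x) (and (Nat.beq (Nat.land (Nat.shiftRight cD (Nat.land (Nat.shiftRight cC (Nat.land (Nat.shiftRight cD (Nat.land (Nat.shiftRight cC (Nat.land (Nat.shiftRight cD (Nat.land (Nat.shiftRight cC (Nat.land (Nat.shiftRight cD (Nat.land (Nat.shiftRight cC (Nat.land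 (Nat.shiftRight cD (Nat.land (Nat.shiftRight cC (Nat.land (Nat.shiftRight cD (Nat.land (Nat.shiftRight cC (Nat.land (Nat.shiftRight cD (Nat.land (Nat.shiftRight cC (Nat.land (Nat.shiftRight cD (Nat.land (Nat.shiftRight cC x) 32767)) 32767)) 32767)) 32767)) 32767)) 32767)) 32767)) 32767)) 32767)) 32767)) 32767)) 32767)) 32767)) 32767)) 32767)) 32767) x) (and (Nat.beq (Nat.land (Nat.shiftRight cF (Nat.land (Nat.shiftRight cC (Nat.land (Nat.shiftRight cF (Nat.land (Nat.shiftRight cC x) 32767)) 32767)) 32767)) 32767) x) (and (Nat.beq (Nat.land (Nat.shiftRight cG (Nat.land (Nat.shiftRight cC (Nat.land (Nat.shiftRight cG (Nat.land (Nat.shiftRight cC x) 32767)) 32767)) 32767)) 32767) x) (and (Nat.beq (Nat.land (Nat.shiftRight cE (Nat.land (Nat.shiftRight cC (Nat.land (Nat.shiftRight cE (Nat.land (Nat.shiftRight cC x) 32767)) 32767)) 32767)) 32767) x) (and (Nat.beq (Nat.land (Nat.shiftRight cD (Nat.land (Nat.shiftRight cD x) 32767)) 32767) x) (and (Nat.beq (Nat.land (Nat.shiftRight cF (Nat.land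 (Nat.shiftRight cD (Nat.land (Nat.shiftRight cF (Nat.land (Nat.shiftRight cD x) 32767)) 32767)) 32767)) 32767) x) (and (Nat.beq (Nat.land (Nat.shiftRight cG (Nat.land (Nat.shiftRight cD (Nat.land (Nat.shiftRight cG (Nat.land (Nat.shiftRight cD x) 32767)) 32767)) 32767)) 32767) x) (and (Nat.beq (Nat.land (Nat.shiftRight cE (Nat.land (Nat.shiftRight cD (Nat.land (Nat.shiftRight cE (Nat.land (Nat.shiftRight cD (Nat.land (Nat.shiftRight cE (Nat.land (Nat.shiftRight cD x) 32767)) 32767)) 32767)) 32767)) 32767)) 32767) x) (and (Nat.beq (Nat.land (Nat.shiftRight cF (Nat.land (Nat.shiftRight cF x) 32767)) 32767) x) (and (Nat.beq (Nat.land (Nat.shiftRight cG (Nat.land (Nat.shiftRight cF (Nat.land (Nat.shiftRight cG (Nat.land (Nat.shiftRight cF (Nat.land (Nat.shiftRight cG (Nat.land (Nat.shiftRight cF (Nat.land (Nat.shiftRight cG (Nat.land (Nat.shiftRight cF x) 32767)) 32767)) 32767)) 32767)) 32767)) 32767)) 32767)) 32767) x) (and (Nat.beq (Nat.land (Nat.shiftRight cG (Nat.land (Nat.shiftRight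 cG x) 32767)) 32767) x) (and (Nat.beq (Nat.land (Nat.shiftRight cF (Nat.land (Nat.shiftRight cE (Nat.land (Nat.shiftRight cF (Nat.land (Nat.shiftRight cE x) 32767)) 32767)) 32767)) 32767) x) (and (Nat.beq (Nat.land (Nat.shiftRight cG (Nat.land (Nat.shiftRight cE (Nat.land (Nat.shiftRight cG (Nat.land (Nat.shiftRight cE x) 32767)) 32767)) 32767)) 32767) x) (and (Nat.beq (Nat.land (Nat.shiftRight cE (Nat.land (Nat.shiftRight cE x) 32767)) 32767) x) (and (Nat.beq (Nat.land (Nat.shiftRight cC (Nat.land (Nat.shiftRight cD (Nat.land (Nat.shiftRight cC (Nat.land (Nat.shiftRight cD (Nat.land (Nat.shiftRight cC (Nat.land (Nat.shiftRight cD (Nat.land (Nat.shiftRight cC (Nat.land (Nat.shiftRight cD (Nat.land (Nat.shiftRight cA x) 32767)) 32767)) 32767)) 32767)) 32767)) 32767)) 32767)) 32767)) 32767) x) (and (Nat.beq (Nat.land (Nat.shiftRight cF (Nat.land (Nat.shiftRight cG (Nat.land (Nat.shiftRight cF (Nat.land (Nat.shiftRight cG (Nat.land (Nat.shiftRight cA x) 32767)) 32767)) 32767)) 32767))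 32767) x) (and (Nat.beq (Nat.land (Nat.shiftRight cF (Nat.land (Nat.shiftRight cC (Nat.land (Nat.shiftRight cB (Nat.land (Nat.shiftRight cA (Nat.land (Nat.shiftRight cF (Nat.land (Nat.shiftRight cC (Nat.land (Nat.shiftRight cB (Nat.land (Nat.shiftRight cA (Nat.land (Nat.shiftRight cF (Nat.land (Nat.shiftRight cC (Nat.land (Nat.shiftRight cB (Nat.land (Nat.shiftRight cA (Nat.land (Nat.shiftRight cF (Nat.land (Nat.shiftRight cC (Nat.land (Nat.shiftRight cB (Nat.land (Nat.shiftRight cA (Nat.land (Nat.shiftRight cF (Nat.land (Nat.shiftRight cC (Nat.land (Nat.shiftRight cB (Nat.land (Nat.shiftRight cA x) 32767)) 32767)) 32767)) 32767)) 32767)) 32767)) 32767)) 32767)) 32767)) 32767)) 32767)) 32767)) 32767)) 32767)) 32767)) 32767)) 32767)) 32767)) 32767)) 32767) x) (and (Nat.beq (Nat.land (Nat.shiftRight cG (Nat.land (Nat.shiftRight cF (Nat.land (Nat.shiftRight cB (Nat.land (Nat.shiftRight cG (Nat.land (Nat.shiftRight cF (Nat.land (Nat.shiftRight cB (Nat.land (Nat.shiftRight cG (Nat.land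 (Nat.shiftRight cF (Nat.land (Nat.shiftRight cB (Nat.land (Nat.shiftRight cG (Nat.land (Nat.shiftRight cF (Nat.land (Nat.shiftRight cB (Nat.land (Nat.shiftRight cG (Nat.land (Nat.shiftRight cF (Nat.land (Nat.shiftRight cB x) 32767)) 32767)) 32767)) 32767)) 32767)) 32767)) 32767)) 32767)) 32767)) 32767)) 32767)) 32767)) 32767)) 32767)) 32767) x) (and (Nat.beq (Nat.land (Nat.shiftRight cE (Nat.land (Nat.shiftRight cD (Nat.land (Nat.shiftRight cC (Nat.land (Nat.shiftRight cD (Nat.land (Nat.shiftRight cC (Nat.land (Nat.shiftRight cB (Nat.land (Nat.shiftRight cD (Nat.land (Nat.shiftRight cC (Nat.land (Nat.shiftRight cD (Nat.land (Nat.shiftRight cC (Nat.land (Nat.shiftRight cB (Nat.land (Nat.shiftRight cD (Nat.land (Nat.shiftRight cC (Nat.land (Nat.shiftRight cD (Nat.land (Nat.shiftRight cC (Nat.land (Nat.shiftRight cB (Nat.land (Nat.shiftRight cD (Nat.land (Nat.shiftRight cC (Nat.land (Nat.shiftRight cD (Nat.land (Nat.shiftRight cC (Nat.land (Nat.shiftRight cB (Nat.land (Nat.shiftRight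 cD (Nat.land (Nat.shiftRight cC (Nat.land (Nat.shiftRight cD (Nat.land (Nat.shiftRight cC (Nat.land (Nat.shiftRight cB (Nat.land (Nat.shiftRight cE (Nat.land (Nat.shiftRight cD (Nat.land (Nat.shiftRight cC (Nat.land (Nat.shiftRight cD (Nat.land (Nat.shiftRight cC (Nat.land (Nat.shiftRight cB (Nat.land (Nat.shiftRight cD (Nat.land (Nat.shiftRight cC (Nat.land (Nat.shiftRight cD (Nat.land (Nat.shiftRight cC (Nat.land (Nat.shiftRight cB (Nat.land (Nat.shiftRight cD (Nat.land (Nat.shiftRight cC (Nat.land (Nat.shiftRight cD (Nat.land (Nat.shiftRight cC (Nat.land (Nat.shiftRight cB (Nat.land (Nat.shiftRight cD (Nat.land (Nat.shiftRight cC (Nat.land (Nat.shiftRight cD (Nat.land (Nat.shiftRight cC (Nat.land (Nat.shiftRight cB (Nat.land (Nat.shiftRight cD (Nat.land (Nat.shiftRight cC (Nat.land (Nat.shiftRight cD (Nat.land (Nat.shiftRight cC (Nat.land (Nat.shiftRight cB (Nat.land (Nat.shiftRight cE (Nat.land (Nat.shiftRight cD (Nat.land (Nat.shiftRight cC (Nat.land (Nat.shiftRight cD (Nat.land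 (Nat.shiftRight cC (Nat.land (Nat.shiftRight cB (Nat.land (Nat.shiftRight cD (Nat.land (Nat.shiftRight cC (Nat.land (Nat.shiftRight cD (Nat.land (Nat.shiftRight cC (Nat.land (Nat.shiftRight cB (Nat.land (Nat.shiftRight cD (Nat.land (Nat.shiftRight cC (Nat.land (Nat.shiftRight cD (Nat.land (Nat.shiftRight cC (Nat.land (Nat.shiftRight cB (Nat.land (Nat.shiftRight cD (Nat.land (Nat.shiftRight cC (Nat.land (Nat.shiftRight cD (Nat.land (Nat.shiftRight cC (Nat.land (Nat.shiftRight cB (Nat.land (Nat.shiftRight cD (Nat.land (Nat.shiftRight cC (Nat.land (Nat.shiftRight cD (Nat.land (Nat.shiftRight cC (Nat.land (Nat.shiftRight cB x) 32767)) 32767)) 32767)) 32767)) 32767)) 32767)) 32767)) 32767)) 32767)) 32767)) 32767)) 32767)) 32767)) 32767)) 32767)) 32767)) 32767)) 32767)) 32767)) 32767)) 32767)) 32767)) 32767)) 32767)) 32767)) 32767)) 32767)) 32767)) 32767)) 32767)) 32767)) 32767)) 32767)) 32767)) 32767)) 32767)) 32767)) 32767)) 32767)) 32767)) 32767)) 32767)) 32767)) 32767)) 32767)) 32767))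 32767)) 32767)) 32767)) 32767)) 32767)) 32767)) 32767)) 32767)) 32767)) 32767)) 32767)) 32767)) 32767)) 32767)) 32767)) 32767)) 32767)) 32767)) 32767)) 32767)) 32767)) 32767)) 32767)) 32767)) 32767)) 32767)) 32767)) 32767)) 32767)) 32767)) 32767)) 32767) x) true)))))))))))))))))))))))))))))))))
      (or (Nat.beq x 0) (or (Nat.blt (Nat.land (Nat.shiftRight cA x) 32767) x) (or (Nat.blt (Nat.land (Nat.shiftRight cB x) 32767) x) (or (Nat.blt (Nat.land (Nat.shiftRight cC x) 32767) x) (or (Nat.blt (Nat.land (Nat.shiftRight cD x) 32767) x) (or (Nat.blt (Nat.land (Nat.shiftRight cE x) 32767) x) (or (Nat.blt (Nat.land (Nat.shiftRight cF x) 32767) x) (or (Nat.blt (Nat.land (Nat.shiftRight cG x) 32767) x) (or (Nat.blt (Nat.land (Nat.shiftRight cA x) 32767) x) (or (Nat.blt (Nat.land (Nat.shiftRight cB x) 32767) x) (or (Nat.blt (Nat.land (Nat.shiftRight cC x) 32767) x) (or (Nat.blt (Nat.land (Nat.shiftRight cD x) 32767) x) (or (Nat.blt (Nat.land (Nat.shiftRight cE x) 32767) x) (or (Nat.blt (Nat.land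 (Nat.shiftRight cF x) 32767) x) (or (Nat.blt (Nat.land (Nat.shiftRight cG x) 32767) x) false))))))))))))))))

set_option maxRecDepth 1000000 in
theorem pointOk_eq (x : ℕ) : pointOk x = pchk 26730 15 32767 col letters words x := rfl

/-- words generating the subgroup (with inverses where needed) -/
def cl : List (List (Cfsg.Spor.Suz.Gen × Bool)) := [
  [(.a, true)],
  [(.b, true)],
  [(.c, true)],
  [(.d, true)],
  [(.e, true)],
  [(.f, true)]]

/-- base points (offsets) of the orbits -/
def bases : List ℕ := [0, 15, 705]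

/-- the unrolled orbit check -/
def orbOk (x : ℕ) : Bool :=
  and (and (Nat.beq (Nat.land (Nat.shiftRight oidA (Nat.land (Nat.shiftRight cA x) 32767)) 32767) (Nat.land (Nat.shiftRight oidA x) 32767)) (and (Nat.beq (Nat.land (Nat.shiftRight oidA (Nat.land (Nat.shiftRight cB x) 32767)) 32767) (Nat.land (Nat.shiftRight oidA x) 32767)) (and (Nat.beq (Nat.land (Nat.shiftRight oidA (Nat.land (Nat.shiftRight cC x) 32767)) 32767) (Nat.land (Nat.shiftRight oidA x) 32767)) (and (Nat.beq (Nat.land (Nat.shiftRight oidA (Nat.land (Nat.shiftRight cD x) 32767)) 32767) (Nat.land (Nat.shiftRight oidA x) 32767)) (and (Nat.beq (Nat.land (Nat.shiftRight oidA (Nat.land (Nat.shiftRight cE x) 32767)) 32767) (Nat.land (Nat.shiftRight oidA x) 32767)) (and (Nat.beq (Nat.land (Nat.shiftRight oidA (Nat.land (Nat.shiftRight cF x) 32767)) 32767) (Nat.land (Nat.shiftRight oidA x) 32767)) true))))))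
    (or (and (Nat.beq (Nat.land (Nat.shiftRight rnkA x) 32767) 0) (Nat.beq x (bases.getD (Nat.land (Nat.shiftRight oidA x) 32767) 0)))
      (or (Nat.blt (Nat.land (Nat.shiftRight rnkA (Nat.land (Nat.shiftRight cA x) 32767)) 32767) (Nat.land (Nat.shiftRight rnkA x) 32767)) (or (Nat.blt (Nat.land (Nat.shiftRight rnkA (Nat.land (Nat.shiftRight cB x) 32767)) 32767) (Nat.land (Nat.shiftRight rnkA x) 32767)) (or (Nat.blt (Nat.land (Nat.shiftRight rnkA (Nat.land (Nat.shiftRight cC x) 32767)) 32767) (Nat.land (Nat.shiftRight rnkA x) 32767)) (or (Nat.blt (Nat.land (Nat.shiftRight rnkA (Nat.land (Nat.shiftRight cD x) 32767)) 32767) (Nat.land (Nat.shiftRight rnkA x) 32767)) (or (Nat.blt (Nat.land (Nat.shiftRight rnkA (Nat.land (Nat.shiftRight cE x) 32767)) 32767) (Nat.land (Nat.shiftRight rnkA x) 32767)) (or (Nat.blt (Nat.land (Nat.shiftRight rnkA (Nat.land (Nat.shiftRight cF x) 32767)) 32767) (Nat.land (Nat.shiftRight rnkA x) 32767)) false)))))))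

set_option maxRecDepth 1000000 in
theorem orbOk_eq (x : ℕ) : orbOk x = ochk 32767 col oidA rnkA bases cl x := rfl

end Cfsg.Agent.Lib.Helper28_S1680
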