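import Cfsg.Agent.Lib.Helper28_S1681Def

set_option autoImplicit false
set_option linter.constructorNameAsVariable false
set_option Elab.async false

namespace Cfsg.Agent.Lib.Helper28_S1681

open Cfsg.Agent.Lib.Helper28_CosetPerm

theorem p1r0 : allRange pointOk 19 5720 45 = true := by decide +kernel
theorem p1u0 : ∀ k, 5720 ≤ k → k < 5765 → pointOk (k * 19) = true := between_extend pointOk 19 5720 5720 45 (between_start pointOk 19 5720) p1r0

theorem p1r1 : allRange pointOk 19 5765 45 = true := by decide +kernel
theorem p1u1 : ∀ k, 5720 ≤ k → k < 5810 → pointOk (k * 19) = true := between_extend pointOk 19 5720 5765 45 (p1u0) p1r1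

theorem p1r2 : allRange pointOk 19 5810 45 = true := by decide +kernel
theorem p1u2 : ∀ k, 5720 ≤ k → k < 5855 → pointOk (k * 19) = true := between_extend pointOk 19 5720 5810 45 (p1u1) p1r2

theorem p1r3 : allRange pointOk 19 5855 45 = true := by decide +kernel
theorem p1u3 : ∀ k, 5720 ≤ k → k < 5900 → pointOk (k * 19) = true := between_extend pointOk 19 5720 5855 45 (p1u2) p1r3

theorem p1r4 : allRange pointOk 19 5900 45 = true := by decide +kernel
theorem p1u4 : ∀ k, 5720 ≤ k → k < 5945 → pointOk (k * 19) = true := between_extend pointOk 19 5720 5900 45 (p1u3) p1r4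

theorem p1r5 : allRange pointOk 19 5945 45 = true := by decide +kernel
theorem p1u5 : ∀ k, 5720 ≤ k → k < 5990 → pointOk (k * 19) = true := between_extend pointOk 19 5720 5945 45 (p1u4) p1r5

theorem p1r6 : allRange pointOk 19 5990 45 = true := by decide +kernel
theorem p1u6 : ∀ k, 5720 ≤ k → k < 6035 → pointOk (k * 19) = true := between_extend pointOk 19 5720 5990 45 (p1u5) p1r6

theorem p1r7 : allRange pointOk 19 6035 45 = true := by decide +kernel
theorem p1u7 : ∀ k, 5720 ≤ k → k < 6080 → pointOk (k * 19) = true := between_extend pointOk 19 5720 6035 45 (p1u6) p1r7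

theorem p1r8 : allRange pointOk 19 6080 45 = true := by decide +kernel
theorem p1u8 : ∀ k, 5720 ≤ k → k < 6125 → pointOk (k * 19) = true := between_extend pointOk 19 5720 6080 45 (p1u7) p1r8

theorem p1r9 : allRange pointOk 19 6125 45 = true := by decide +kernel
theorem p1u9 : ∀ k, 5720 ≤ k → k < 6170 → pointOk (k * 19) = true := between_extend pointOk 19 5720 6125 45 (p1u8) p1r9

theorem p1r10 : allRange pointOk 19 6170 45 = true := by decide +kernel
theorem p1u10 : ∀ k, 5720 ≤ k → k < 6215 → pointOk (k * 19) = true := between_extend pointOk 19 5720 6170 45 (p1u9) p1r10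

theorem p1r11 : allRange pointOk 19 6215 45 = true := by decide +kernel
theorem p1u11 : ∀ k, 5720 ≤ k → k < 6260 → pointOk (k * 19) = true := between_extend pointOk 19 5720 6215 45 (p1u10) p1r11

theorem p1r12 : allRange pointOk 19 6260 45 = true := by decide +kernel
theorem p1u12 : ∀ k, 5720 ≤ k → k < 6305 → pointOk (k * 19) = true := between_extend pointOk 19 5720 6260 45 (p1u11) p1r12

theorem p1r13 : allRange pointOk 19 6305 45 = true := by decide +kernel
theorem p1u13 : ∀ k, 5720 ≤ k → k < 6350 → pointOk (k * 19) = true := between_extend pointOk 19 5720 6305 45 (p1u12) p1r13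

theorem p1r14 : allRange pointOk 19 6350 45 = true := by decide +kernel
theorem p1u14 : ∀ k, 5720 ≤ k → k < 6395 → pointOk (k * 19) = true := between_extend pointOk 19 5720 6350 45 (p1u13) p1r14

theorem p1r15 : allRange pointOk 19 6395 45 = true := by decide +kernel
theorem p1u15 : ∀ k, 5720 ≤ k → k < 6440 → pointOk (k * 19) = true := between_extend pointOk 19 5720 6395 45 (p1u14) p1r15

theorem p1r16 : allRange pointOk 19 6440 45 = true := by decide +kernel
theorem p1u16 : ∀ k, 5720 ≤ k → k < 6485 → pointOk (k * 19) = true := between_extend pointOk 19 5720 6440 45 (p1u15) p1r16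

theorem p1r17 : allRange pointOk 19 6485 45 = true := by decide +kernel
theorem p1u17 : ∀ k, 5720 ≤ k → k < 6530 → pointOk (k * 19) = true := between_extend pointOk 19 5720 6485 45 (p1u16) p1r17

theorem p1r18 : allRange pointOk 19 6530 45 = true := by decide +kernel
theorem p1u18 : ∀ k, 5720 ≤ k → k < 6575 → pointOk (k * 19) = true := between_extend pointOk 19 5720 6530 45 (p1u17) p1r18

theorem p1r19 : allRange pointOk 19 6575 45 = true := by decide +kernel
theorem p1u19 : ∀ k, 5720 ≤ k → k < 6620 → pointOk (k * 19) = true := between_extend pointOk 19 5720 6575 45 (p1u18) p1r19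

theorem p1r20 : allRange pointOk 19 6620 45 = true := by decide +kernel
theorem p1u20 : ∀ k, 5720 ≤ k → k < 6665 → pointOk (k * 19) = true := between_extend pointOk 19 5720 6620 45 (p1u19) p1r20

theorem p1r21 : allRange pointOk 19 6665 45 = true := by decide +kernel
theorem p1u21 : ∀ k, 5720 ≤ k → k < 6710 → pointOk (k * 19) = true := between_extend pointOk 19 5720 6665 45 (p1u20) p1r21

theorem p1r22 : allRange pointOk 19 6710 45 = true := by decide +kernel
theorem p1u22 : ∀ k, 5720 ≤ k → k < 6755 → pointOk (k * 19) = true := between_extend pointOk 19 5720 6710 45 (p1u21) p1r22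

theorem p1r23 : allRange pointOk 19 6755 45 = true := by decide +kernel
theorem p1u23 : ∀ k, 5720 ≤ k → k < 6800 → pointOk (k * 19) = true := between_extend pointOk 19 5720 6755 45 (p1u22) p1r23

theorem p1r24 : allRange pointOk 19 6800 45 = true := by decide +kernel
theorem p1u24 : ∀ k, 5720 ≤ k → k < 6845 → pointOk (k * 19) = true := between_extend pointOk 19 5720 6800 45 (p1u23) p1r24

theorem p1r25 : allRange pointOk 19 6845 45 = true := by decide +kernel
theorem p1u25 : ∀ k, 5720 ≤ k → k < 6890 → pointOk (k * 19) = true := between_extend pointOk 19 5720 6845 45 (p1u24) p1r25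

theorem p1r26 : allRange pointOk 19 6890 45 = true := by decide +kernel
theorem p1u26 : ∀ k, 5720 ≤ k → k < 6935 → pointOk (k * 19) = true := between_extend pointOk 19 5720 6890 45 (p1u25) p1r26

theorem p1r27 : allRange pointOk 19 6935 45 = true := by decide +kernel
theorem p1u27 : ∀ k, 5720 ≤ k → k < 6980 → pointOk (k * 19) = true := between_extend pointOk 19 5720 6935 45 (p1u26) p1r27

theorem p1r28 : allRange pointOk 19 6980 45 = true := by decide +kernel
theorem p1u28 : ∀ k, 5720 ≤ k → k < 7025 → pointOk (k * 19) = true := between_extend pointOk 19 5720 6980 45 (p1u27) p1r28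

theorem p1r29 : allRange pointOk 19 7025 45 = true := by decide +kernel
theorem p1u29 : ∀ k, 5720 ≤ k → k < 7070 → pointOk (k * 19) = true := between_extend pointOk 19 5720 7025 45 (p1u28) p1r29

theorem p1r30 : allRange pointOk 19 7070 45 = true := by decide +kernel
theorem p1u30 : ∀ k, 5720 ≤ k → k < 7115 → pointOk (k * 19) = true := between_extend pointOk 19 5720 7070 45 (p1u29) p1r30

theorem p1r31 : allRange pointOk 19 7115 45 = true := by decide +kernel
theorem p1u31 : ∀ k, 5720 ≤ k → k < 7160 → pointOk (k * 19) = true := between_extend pointOk 19 5720 7115 45 (p1u30) p1r31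

theorem p1r32 : allRange pointOk 19 7160 45 = true := by decide +kernel
theorem p1u32 : ∀ k, 5720 ≤ k → k < 7205 → pointOk (k * 19) = true := between_extend pointOk 19 5720 7160 45 (p1u31) p1r32

theorem p1r33 : allRange pointOk 19 7205 45 = true := by decide +kernel
theorem p1u33 : ∀ k, 5720 ≤ k → k < 7250 → pointOk (k * 19) = true := between_extend pointOk 19 5720 7205 45 (p1u32) p1r33

theorem p1r34 : allRange pointOk 19 7250 45 = true := by decide +kernel
theorem p1u34 : ∀ k, 5720 ≤ k → k < 7295 → pointOk (k * 19) = true := between_extend pointOk 19 5720 7250 45 (p1u33) p1r34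

theorem p1r35 : allRange pointOk 19 7295 45 = true := by decide +kernel
theorem p1u35 : ∀ k, 5720 ≤ k → k < 7340 → pointOk (k * 19) = true := between_extend pointOk 19 5720 7295 45 (p1u34) p1r35

theorem p1r36 : allRange pointOk 19 7340 45 = true := by decide +kernel
theorem p1u36 : ∀ k, 5720 ≤ k → k < 7385 → pointOk (k * 19) = true := between_extend pointOk 19 5720 7340 45 (p1u35) p1r36

theorem p1r37 : allRange pointOk 19 7385 45 = true := by decide +kernel
theorem p1u37 : ∀ k, 5720 ≤ k → k < 7430 → pointOk (k * 19) = true := between_extend pointOk 19 5720 7385 45 (p1u36) p1r37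

theorem p1r38 : allRange pointOk 19 7430 45 = true := by decide +kernel
theorem p1u38 : ∀ k, 5720 ≤ k → k < 7475 → pointOk (k * 19) = true := between_extend pointOk 19 5720 7430 45 (p1u37) p1r38

theorem p1r39 : allRange pointOk 19 7475 45 = true := by decide +kernel
theorem p1u39 : ∀ k, 5720 ≤ k → k < 7520 → pointOk (k * 19) = true := between_extend pointOk 19 5720 7475 45 (p1u38) p1r39

theorem p1r40 : allRange pointOk 19 7520 45 = true := by decide +kernel
theorem p1u40 : ∀ k, 5720 ≤ k → k < 7565 → pointOk (k * 19) = true := between_extend pointOk 19 5720 7520 45 (p1u39) p1r40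

theorem p1r41 : allRange pointOk 19 7565 45 = true := by decide +kernel
theorem p1u41 : ∀ k, 5720 ≤ k → k < 7610 → pointOk (k * 19) = true := between_extend pointOk 19 5720 7565 45 (p1u40) p1r41

theorem p1r42 : allRange pointOk 19 7610 45 = true := by decide +kernel
theorem p1u42 : ∀ k, 5720 ≤ k → k < 7655 → pointOk (k * 19) = true := between_extend pointOk 19 5720 7610 45 (p1u41) p1r42

theorem p1r43 : allRange pointOk 19 7655 45 = true := by decide +kernel
theorem p1u43 : ∀ k, 5720 ≤ k → k < 7700 → pointOk (k * 19) = true := between_extend pointOk 19 5720 7655 45 (p1u42) p1r43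

theorem p1r44 : allRange pointOk 19 7700 45 = true := by decide +kernel
theorem p1u44 : ∀ k, 5720 ≤ k → k < 7745 → pointOk (k * 19) = true := between_extend pointOk 19 5720 7700 45 (p1u43) p1r44

theorem p1r45 : allRange pointOk 19 7745 45 = true := by decide +kernel
theorem p1u45 : ∀ k, 5720 ≤ k → k < 7790 → pointOk (k * 19) = true := between_extend pointOk 19 5720 7745 45 (p1u44) p1r45

theorem p1r46 : allRange pointOk 19 7790 45 = true := by decide +kernel
theorem p1u46 : ∀ k, 5720 ≤ k → k < 7835 → pointOk (k * 19) = true := between_extend pointOk 19 5720 7790 45 (p1u45) p1r46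

theorem p1r47 : allRange pointOk 19 7835 45 = true := by decide +kernel
theorem p1u47 : ∀ k, 5720 ≤ k → k < 7880 → pointOk (k * 19) = true := between_extend pointOk 19 5720 7835 45 (p1u46) p1r47

theorem p1r48 : allRange pointOk 19 7880 45 = true := by decide +kernel
theorem p1u48 : ∀ k, 5720 ≤ k → k < 7925 → pointOk (k * 19) = true := between_extend pointOk 19 5720 7880 45 (p1u47) p1r48

theorem p1r49 : allRange pointOk 19 7925 45 = true := by decide +kernel
theorem p1u49 : ∀ k, 5720 ≤ k → k < 7970 → pointOk (k * 19) = true := between_extend pointOk 19 5720 7925 45 (p1u48) p1r49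

theorem p1r50 : allRange pointOk 19 7970 45 = true := by decide +kernel
theorem p1u50 : ∀ k, 5720 ≤ k → k < 8015 → pointOk (k * 19) = true := between_extend pointOk 19 5720 7970 45 (p1u49) p1r50

theorem p1r51 : allRange pointOk 19 8015 45 = true := by decide +kernel
theorem p1u51 : ∀ k, 5720 ≤ k → k < 8060 → pointOk (k * 19) = true := between_extend pointOk 19 5720 8015 45 (p1u50) p1r51

theorem p1r52 : allRange pointOk 19 8060 45 = true := by decide +kernel
theorem p1u52 : ∀ k, 5720 ≤ k → k < 8105 → pointOk (k * 19) = true := between_extend pointOk 19 5720 8060 45 (p1u51) p1r52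

theorem p1r53 : allRange pointOk 19 8105 45 = true := by decide +kernel
theorem p1u53 : ∀ k, 5720 ≤ k → k < 8150 → pointOk (k * 19) = true := between_extend pointOk 19 5720 8105 45 (p1u52) p1r53

theorem p1r54 : allRange pointOk 19 8150 45 = true := by decide +kernel
theorem p1u54 : ∀ k, 5720 ≤ k → k < 8195 → pointOk (k * 19) = true := between_extend pointOk 19 5720 8150 45 (p1u53) p1r54

theorem p1r55 : allRange pointOk 19 8195 45 = true := by decide +kernel
theorem p1u55 : ∀ k, 5720 ≤ k → k < 8240 → pointOk (k * 19) = true := between_extend pointOk 19 5720 8195 45 (p1u54) p1r55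

theorem p1r56 : allRange pointOk 19 8240 45 = true := by decide +kernel
theorem p1u56 : ∀ k, 5720 ≤ k → k < 8285 → pointOk (k * 19) = true := between_extend pointOk 19 5720 8240 45 (p1u55) p1r56

theorem p1r57 : allRange pointOk 19 8285 45 = true := by decide +kernel
theorem p1u57 : ∀ k, 5720 ≤ k → k < 8330 → pointOk (k * 19) = true := between_extend pointOk 19 5720 8285 45 (p1u56) p1r57

theorem p1r58 : allRange pointOk 19 8330 45 = true := by decide +kernel
theorem p1u58 : ∀ k, 5720 ≤ k → k < 8375 → pointOk (k * 19) = true := between_extend pointOk 19 5720 8330 45 (p1u57) p1r58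

theorem p1r59 : allRange pointOk 19 8375 45 = true := by decide +kernel
theorem p1u59 : ∀ k, 5720 ≤ k → k < 8420 → pointOk (k * 19) = true := between_extend pointOk 19 5720 8375 45 (p1u58) p1r59

theorem p1r60 : allRange pointOk 19 8420 45 = true := by decide +kernel
theorem p1u60 : ∀ k, 5720 ≤ k → k < 8465 → pointOk (k * 19) = true := between_extend pointOk 19 5720 8420 45 (p1u59) p1r60

theorem p1r61 : allRange pointOk 19 8465 45 = true := by decide +kernel
theorem p1u61 : ∀ k, 5720 ≤ k → k < 8510 → pointOk (k * 19) = true := between_extend pointOk 19 5720 8465 45 (p1u60) p1r61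

theorem p1r62 : allRange pointOk 19 8510 45 = true := by decide +kernel
theorem p1u62 : ∀ k, 5720 ≤ k → k < 8555 → pointOk (k * 19) = true := between_extend pointOk 19 5720 8510 45 (p1u61) p1r62

theorem p1r63 : allRange pointOk 19 8555 45 = true := by decide +kernel
theorem p1u63 : ∀ k, 5720 ≤ k → k < 8600 → pointOk (k * 19) = true := between_extend pointOk 19 5720 8555 45 (p1u62) p1r63

theorem p1r64 : allRange pointOk 19 8600 45 = true := by decide +kernel
theorem p1u64 : ∀ k, 5720 ≤ k → k < 8645 → pointOk (k * 19) = true := between_extend pointOk 19 5720 8600 45 (p1u63) p1r64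

theorem p1r65 : allRange pointOk 19 8645 45 = true := by decide +kernel
theorem p1u65 : ∀ k, 5720 ≤ k → k < 8690 → pointOk (k * 19) = true := between_extend pointOk 19 5720 8645 45 (p1u64) p1r65

theorem p1r66 : allRange pointOk 19 8690 45 = true := by decide +kernel
theorem p1u66 : ∀ k, 5720 ≤ k → k < 8735 → pointOk (k * 19) = true := between_extend pointOk 19 5720 8690 45 (p1u65) p1r66

theorem p1r67 : allRange pointOk 19 8735 45 = true := by decide +kernel
theorem p1u67 : ∀ k, 5720 ≤ k → k < 8780 → pointOk (k * 19) = true := between_extend pointOk 19 5720 8735 45 (p1u66) p1r67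

theorem p1r68 : allRange pointOk 19 8780 45 = true := by decide +kernel
theorem p1u68 : ∀ k, 5720 ≤ k → k < 8825 → pointOk (k * 19) = true := between_extend pointOk 19 5720 8780 45 (p1u67) p1r68

theorem p1r69 : allRange pointOk 19 8825 45 = true := by decide +kernel
theorem p1u69 : ∀ k, 5720 ≤ k → k < 8870 → pointOk (k * 19) = true := between_extend pointOk 19 5720 8825 45 (p1u68) p1r69

theorem p1r70 : allRange pointOk 19 8870 45 = true := by decide +kernel
theorem p1u70 : ∀ k, 5720 ≤ k → k < 8915 → pointOk (k * 19) = true := between_extend pointOk 19 5720 8870 45 (p1u69) p1r70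

theorem p1r71 : allRange pointOk 19 8915 45 = true := by decide +kernel
theorem p1u71 : ∀ k, 5720 ≤ k → k < 8960 → pointOk (k * 19) = true := between_extend pointOk 19 5720 8915 45 (p1u70) p1r71

theorem p1r72 : allRange pointOk 19 8960 45 = true := by decide +kernel
theorem p1u72 : ∀ k, 5720 ≤ k → k < 9005 → pointOk (k * 19) = true := between_extend pointOk 19 5720 8960 45 (p1u71) p1r72

theorem p1r73 : allRange pointOk 19 9005 45 = true := by decide +kernel
theorem p1u73 : ∀ k, 5720 ≤ k → k < 9050 → pointOk (k * 19) = true := between_extend pointOk 19 5720 9005 45 (p1u72) p1r73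

theorem p1r74 : allRange pointOk 19 9050 45 = true := by decide +kernel
theorem p1u74 : ∀ k, 5720 ≤ k → k < 9095 → pointOk (k * 19) = true := between_extend pointOk 19 5720 9050 45 (p1u73) p1r74

theorem p1r75 : allRange pointOk 19 9095 45 = true := by decide +kernel
theorem p1u75 : ∀ k, 5720 ≤ k → k < 9140 → pointOk (k * 19) = true := between_extend pointOk 19 5720 9095 45 (p1u74) p1r75

theorem p1r76 : allRange pointOk 19 9140 45 = true := by decide +kernel
theorem p1u76 : ∀ k, 5720 ≤ k → k < 9185 → pointOk (k * 19) = true := between_extend pointOk 19 5720 9140 45 (p1u75) p1r76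

theorem p1r77 : allRange pointOk 19 9185 45 = true := by decide +kernel
theorem p1u77 : ∀ k, 5720 ≤ k → k < 9230 → pointOk (k * 19) = true := between_extend pointOk 19 5720 9185 45 (p1u76) p1r77

theorem p1r78 : allRange pointOk 19 9230 45 = true := by decide +kernel
theorem p1u78 : ∀ k, 5720 ≤ k → k < 9275 → pointOk (k * 19) = true := between_extend pointOk 19 5720 9230 45 (p1u77) p1r78

theorem p1r79 : allRange pointOk 19 9275 45 = true := by decide +kernel
theorem p1u79 : ∀ k, 5720 ≤ k → k < 9320 → pointOk (k * 19) = true := between_extend pointOk 19 5720 9275 45 (p1u78) p1r79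

theorem p1r80 : allRange pointOk 19 9320 45 = true := by decide +kernel
theorem p1u80 : ∀ k, 5720 ≤ k → k < 9365 → pointOk (k * 19) = true := between_extend pointOk 19 5720 9320 45 (p1u79) p1r80

theorem p1r81 : allRange pointOk 19 9365 45 = true := by decide +kernel
theorem p1u81 : ∀ k, 5720 ≤ k → k < 9410 → pointOk (k * 19) = true := between_extend pointOk 19 5720 9365 45 (p1u80) p1r81

theorem p1r82 : allRange pointOk 19 9410 45 = true := by decide +kernel
theorem p1u82 : ∀ k, 5720 ≤ k → k < 9455 → pointOk (k * 19) = true := between_extend pointOk 19 5720 9410 45 (p1u81) p1r82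

theorem p1r83 : allRange pointOk 19 9455 45 = true := by decide +kernel
theorem p1u83 : ∀ k, 5720 ≤ k → k < 9500 → pointOk (k * 19) = true := between_extend pointOk 19 5720 9455 45 (p1u82) p1r83

theorem p1r84 : allRange pointOk 19 9500 45 = true := by decide +kernel
theorem p1u84 : ∀ k, 5720 ≤ k → k < 9545 → pointOk (k * 19) = true := between_extend pointOk 19 5720 9500 45 (p1u83) p1r84

theorem p1r85 : allRange pointOk 19 9545 45 = true := by decide +kernel
theorem p1u85 : ∀ k, 5720 ≤ k → k < 9590 → pointOk (k * 19) = true := between_extend pointOk 19 5720 9545 45 (p1u84) p1r85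

theorem p1r86 : allRange pointOk 19 9590 45 = true := by decide +kernel
theorem p1u86 : ∀ k, 5720 ≤ k → k < 9635 → pointOk (k * 19) = true := between_extend pointOk 19 5720 9590 45 (p1u85) p1r86

theorem p1r87 : allRange pointOk 19 9635 45 = true := by decide +kernel
theorem p1u87 : ∀ k, 5720 ≤ k → k < 9680 → pointOk (k * 19) = true := between_extend pointOk 19 5720 9635 45 (p1u86) p1r87

theorem p1r88 : allRange pointOk 19 9680 45 = true := by decide +kernel
theorem p1u88 : ∀ k, 5720 ≤ k → k < 9725 → pointOk (k * 19) = true := between_extend pointOk 19 5720 9680 45 (p1u87) p1r88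

theorem p1r89 : allRange pointOk 19 9725 45 = true := by decide +kernel
theorem p1u89 : ∀ k, 5720 ≤ k → k < 9770 → pointOk (k * 19) = true := between_extend pointOk 19 5720 9725 45 (p1u88) p1r89

theorem p1r90 : allRange pointOk 19 9770 45 = true := by decide +kernel
theorem p1u90 : ∀ k, 5720 ≤ k → k < 9815 → pointOk (k * 19) = true := between_extend pointOk 19 5720 9770 45 (p1u89) p1r90

theorem p1r91 : allRange pointOk 19 9815 45 = true := by decide +kernel
theorem p1u91 : ∀ k, 5720 ≤ k → k < 9860 → pointOk (k * 19) = true := between_extend pointOk 19 5720 9815 45 (p1u90) p1r91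

theorem p1r92 : allRange pointOk 19 9860 45 = true := by decide +kernel
theorem p1u92 : ∀ k, 5720 ≤ k → k < 9905 → pointOk (k * 19) = true := between_extend pointOk 19 5720 9860 45 (p1u91) p1r92

theorem p1r93 : allRange pointOk 19 9905 45 = true := by decide +kernel
theorem p1u93 : ∀ k, 5720 ≤ k → k < 9950 → pointOk (k * 19) = true := between_extend pointOk 19 5720 9905 45 (p1u92) p1r93

theorem p1r94 : allRange pointOk 19 9950 45 = true := by decide +kernel
theorem p1u94 : ∀ k, 5720 ≤ k → k < 9995 → pointOk (k * 19) = true := between_extend pointOk 19 5720 9950 45 (p1u93) p1r94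

theorem p1r95 : allRange pointOk 19 9995 45 = true := by decide +kernel
theorem p1u95 : ∀ k, 5720 ≤ k → k < 10040 → pointOk (k * 19) = true := between_extend pointOk 19 5720 9995 45 (p1u94) p1r95

theorem p1r96 : allRange pointOk 19 10040 45 = true := by decide +kernel
theorem p1u96 : ∀ k, 5720 ≤ k → k < 10085 → pointOk (k * 19) = true := between_extend pointOk 19 5720 10040 45 (p1u95) p1r96

theorem p1r97 : allRange pointOk 19 10085 45 = true := by decide +kernel
theorem p1u97 : ∀ k, 5720 ≤ k → k < 10130 → pointOk (k * 19) = true := between_extend pointOk 19 5720 10085 45 (p1u96) p1r97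

theorem p1r98 : allRange pointOk 19 10130 45 = true := by decide +kernel
theorem p1u98 : ∀ k, 5720 ≤ k → k < 10175 → pointOk (k * 19) = true := between_extend pointOk 19 5720 10130 45 (p1u97) p1r98

theorem p1r99 : allRange pointOk 19 10175 45 = true := by decide +kernel
theorem p1u99 : ∀ k, 5720 ≤ k → k < 10220 → pointOk (k * 19) = true := between_extend pointOk 19 5720 10175 45 (p1u98) p1r99

theorem p1r100 : allRange pointOk 19 10220 45 = true := by decide +kernel
theorem p1u100 : ∀ k, 5720 ≤ k → k < 10265 → pointOk (k * 19) = true := between_extend pointOk 19 5720 10220 45 (p1u99) p1r100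

theorem p1r101 : allRange pointOk 19 10265 45 = true := by decide +kernel
theorem p1u101 : ∀ k, 5720 ≤ k → k < 10310 → pointOk (k * 19) = true := between_extend pointOk 19 5720 10265 45 (p1u100) p1r101

theorem p1r102 : allRange pointOk 19 10310 45 = true := by decide +kernel
theorem p1u102 : ∀ k, 5720 ≤ k → k < 10355 → pointOk (k * 19) = true := between_extend pointOk 19 5720 10310 45 (p1u101) p1r102

theorem p1r103 : allRange pointOk 19 10355 45 = true := by decide +kernel
theorem p1u103 : ∀ k, 5720 ≤ k → k < 10400 → pointOk (k * 19) = true := between_extend pointOk 19 5720 10355 45 (p1u102) p1r103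

theorem p1r104 : allRange pointOk 19 10400 45 = true := by decide +kernel
theorem p1u104 : ∀ k, 5720 ≤ k → k < 10445 → pointOk (k * 19) = true := between_extend pointOk 19 5720 10400 45 (p1u103) p1r104

theorem p1r105 : allRange pointOk 19 10445 45 = true := by decide +kernel
theorem p1u105 : ∀ k, 5720 ≤ k → k < 10490 → pointOk (k * 19) = true := between_extend pointOk 19 5720 10445 45 (p1u104) p1r105

theorem p1r106 : allRange pointOk 19 10490 45 = true := by decide +kernel
theorem p1u106 : ∀ k, 5720 ≤ k → k < 10535 → pointOk (k * 19) = true := between_extend pointOk 19 5720 10490 45 (p1u105) p1r106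

theorem p1r107 : allRange pointOk 19 10535 45 = true := by decide +kernel
theorem p1u107 : ∀ k, 5720 ≤ k → k < 10580 → pointOk (k * 19) = true := between_extend pointOk 19 5720 10535 45 (p1u106) p1r107

theorem p1r108 : allRange pointOk 19 10580 45 = true := by decide +kernel
theorem p1u108 : ∀ k, 5720 ≤ k → k < 10625 → pointOk (k * 19) = true := between_extend pointOk 19 5720 10580 45 (p1u107) p1r108

theorem p1r109 : allRange pointOk 19 10625 45 = true := by decide +kernel
theorem p1u109 : ∀ k, 5720 ≤ k → k < 10670 → pointOk (k * 19) = true := between_extend pointOk 19 5720 10625 45 (p1u108) p1r109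

theorem p1r110 : allRange pointOk 19 10670 45 = true := by decide +kernel
theorem p1u110 : ∀ k, 5720 ≤ k → k < 10715 → pointOk (k * 19) = true := between_extend pointOk 19 5720 10670 45 (p1u109) p1r110

theorem p1r111 : allRange pointOk 19 10715 45 = true := by decide +kernel
theorem p1u111 : ∀ k, 5720 ≤ k → k < 10760 → pointOk (k * 19) = true := between_extend pointOk 19 5720 10715 45 (p1u110) p1r111

theorem p1r112 : allRange pointOk 19 10760 45 = true := by decide +kernel
theorem p1u112 : ∀ k, 5720 ≤ k → k < 10805 → pointOk (k * 19) = true := between_extend pointOk 19 5720 10760 45 (p1u111) p1r112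

theorem p1r113 : allRange pointOk 19 10805 45 = true := by decide +kernel
theorem p1u113 : ∀ k, 5720 ≤ k → k < 10850 → pointOk (k * 19) = true := between_extend pointOk 19 5720 10805 45 (p1u112) p1r113

theorem p1r114 : allRange pointOk 19 10850 45 = true := by decide +kernel
theorem p1u114 : ∀ k, 5720 ≤ k → k < 10895 → pointOk (k * 19) = true := between_extend pointOk 19 5720 10850 45 (p1u113) p1r114

theorem p1r115 : allRange pointOk 19 10895 45 = true := by decide +kernel
theorem p1u115 : ∀ k, 5720 ≤ k → k < 10940 → pointOk (k * 19) = true := between_extend pointOk 19 5720 10895 45 (p1u114) p1r115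

theorem p1r116 : allRange pointOk 19 10940 45 = true := by decide +kernel
theorem p1u116 : ∀ k, 5720 ≤ k → k < 10985 → pointOk (k * 19) = true := between_extend pointOk 19 5720 10940 45 (p1u115) p1r116

theorem p1r117 : allRange pointOk 19 10985 45 = true := by decide +kernel
theorem p1u117 : ∀ k, 5720 ≤ k → k < 11030 → pointOk (k * 19) = true := between_extend pointOk 19 5720 10985 45 (p1u116) p1r117

theorem p1r118 : allRange pointOk 19 11030 45 = true := by decide +kernel
theorem p1u118 : ∀ k, 5720 ≤ k → k < 11075 → pointOk (k * 19) = true := between_extend pointOk 19 5720 11030 45 (p1u117) p1r118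

theorem p1r119 : allRange pointOk 19 11075 45 = true := by decide +kernel
theorem p1u119 : ∀ k, 5720 ≤ k → k < 11120 → pointOk (k * 19) = true := between_extend pointOk 19 5720 11075 45 (p1u118) p1r119

theorem p1r120 : allRange pointOk 19 11120 45 = true := by decide +kernel
theorem p1u120 : ∀ k, 5720 ≤ k → k < 11165 → pointOk (k * 19) = true := between_extend pointOk 19 5720 11120 45 (p1u119) p1r120

theorem p1r121 : allRange pointOk 19 11165 45 = true := by decide +kernel
theorem p1u121 : ∀ k, 5720 ≤ k → k < 11210 → pointOk (k * 19) = true := between_extend pointOk 19 5720 11165 45 (p1u120) p1r121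

theorem p1r122 : allRange pointOk 19 11210 45 = true := by decide +kernel
theorem p1u122 : ∀ k, 5720 ≤ k → k < 11255 → pointOk (k * 19) = true := between_extend pointOk 19 5720 11210 45 (p1u121) p1r122

theorem p1r123 : allRange pointOk 19 11255 45 = true := by decide +kernel
theorem p1u123 : ∀ k, 5720 ≤ k → k < 11300 → pointOk (k * 19) = true := between_extend pointOk 19 5720 11255 45 (p1u122) p1r123

theorem p1r124 : allRange pointOk 19 11300 45 = true := by decide +kernel
theorem p1u124 : ∀ k, 5720 ≤ k → k < 11345 → pointOk (k * 19) = true := between_extend pointOk 19 5720 11300 45 (p1u123) p1r124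

theorem p1r125 : allRange pointOk 19 11345 45 = true := by decide +kernel
theorem p1u125 : ∀ k, 5720 ≤ k → k < 11390 → pointOk (k * 19) = true := between_extend pointOk 19 5720 11345 45 (p1u124) p1r125

theorem p1r126 : allRange pointOk 19 11390 45 = true := by decide +kernel
theorem p1u126 : ∀ k, 5720 ≤ k → k < 11435 → pointOk (k * 19) = true := between_extend pointOk 19 5720 11390 45 (p1u125) p1r126

theorem p1r127 : allRange pointOk 19 11435 5 = true := by decide +kernel
theorem p1u127 : ∀ k, 5720 ≤ k → k < 11440 → pointOk (k * 19) = true := between_extend pointOk 19 5720 11435 5 (p1u126) p1r127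

theorem p1 : ∀ k, 5720 ≤ k → k < 11440 → pointOk (k * 19) = true := p1u127

end Cfsg.Agent.Lib.Helper28_S1681
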