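import Cfsg.Agent.Lib.Helper28_S1681Def

set_option autoImplicit false
set_option linter.constructorNameAsVariable false
set_option Elab.async false

namespace Cfsg.Agent.Lib.Helper28_S1681

open Cfsg.Agent.Lib.Helper28_CosetPerm

theorem p2r0 : allRange pointOk 19 11440 45 = true := by decide +kernel
theorem p2u0 : ∀ k, 11440 ≤ k → k < 11485 → pointOk (k * 19) = true := between_extend pointOk 19 11440 11440 45 (between_start pointOk 19 11440) p2r0

theorem p2r1 : allRange pointOk 19 11485 45 = true := by decide +kernel
theorem p2u1 : ∀ k, 11440 ≤ k → k < 11530 → pointOk (k * 19) = true := between_extend pointOk 19 11440 11485 45 (p2u0) p2r1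

theorem p2r2 : allRange pointOk 19 11530 45 = true := by decide +kernel
theorem p2u2 : ∀ k, 11440 ≤ k → k < 11575 → pointOk (k * 19) = true := between_extend pointOk 19 11440 11530 45 (p2u1) p2r2

theorem p2r3 : allRange pointOk 19 11575 45 = true := by decide +kernel
theorem p2u3 : ∀ k, 11440 ≤ k → k < 11620 → pointOk (k * 19) = true := between_extend pointOk 19 11440 11575 45 (p2u2) p2r3

theorem p2r4 : allRange pointOk 19 11620 45 = true := by decide +kernel
theorem p2u4 : ∀ k, 11440 ≤ k → k < 11665 → pointOk (k * 19) = true := between_extend pointOk 19 11440 11620 45 (p2u3) p2r4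

theorem p2r5 : allRange pointOk 19 11665 45 = true := by decide +kernel
theorem p2u5 : ∀ k, 11440 ≤ k → k < 11710 → pointOk (k * 19) = true := between_extend pointOk 19 11440 11665 45 (p2u4) p2r5

theorem p2r6 : allRange pointOk 19 11710 45 = true := by decide +kernel
theorem p2u6 : ∀ k, 11440 ≤ k → k < 11755 → pointOk (k * 19) = true := between_extend pointOk 19 11440 11710 45 (p2u5) p2r6

theorem p2r7 : allRange pointOk 19 11755 45 = true := by decide +kernel
theorem p2u7 : ∀ k, 11440 ≤ k → k < 11800 → pointOk (k * 19) = true := between_extend pointOk 19 11440 11755 45 (p2u6) p2r7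

theorem p2r8 : allRange pointOk 19 11800 45 = true := by decide +kernel
theorem p2u8 : ∀ k, 11440 ≤ k → k < 11845 → pointOk (k * 19) = true := between_extend pointOk 19 11440 11800 45 (p2u7) p2r8

theorem p2r9 : allRange pointOk 19 11845 45 = true := by decide +kernel
theorem p2u9 : ∀ k, 11440 ≤ k → k < 11890 → pointOk (k * 19) = true := between_extend pointOk 19 11440 11845 45 (p2u8) p2r9

theorem p2r10 : allRange pointOk 19 11890 45 = true := by decide +kernel
theorem p2u10 : ∀ k, 11440 ≤ k → k < 11935 → pointOk (k * 19) = true := between_extend pointOk 19 11440 11890 45 (p2u9) p2r10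

theorem p2r11 : allRange pointOk 19 11935 45 = true := by decide +kernel
theorem p2u11 : ∀ k, 11440 ≤ k → k < 11980 → pointOk (k * 19) = true := between_extend pointOk 19 11440 11935 45 (p2u10) p2r11

theorem p2r12 : allRange pointOk 19 11980 45 = true := by decide +kernel
theorem p2u12 : ∀ k, 11440 ≤ k → k < 12025 → pointOk (k * 19) = true := between_extend pointOk 19 11440 11980 45 (p2u11) p2r12

theorem p2r13 : allRange pointOk 19 12025 45 = true := by decide +kernel
theorem p2u13 : ∀ k, 11440 ≤ k → k < 12070 → pointOk (k * 19) = true := between_extend pointOk 19 11440 12025 45 (p2u12) p2r13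

theorem p2r14 : allRange pointOk 19 12070 45 = true := by decide +kernel
theorem p2u14 : ∀ k, 11440 ≤ k → k < 12115 → pointOk (k * 19) = true := between_extend pointOk 19 11440 12070 45 (p2u13) p2r14

theorem p2r15 : allRange pointOk 19 12115 45 = true := by decide +kernel
theorem p2u15 : ∀ k, 11440 ≤ k → k < 12160 → pointOk (k * 19) = true := between_extend pointOk 19 11440 12115 45 (p2u14) p2r15

theorem p2r16 : allRange pointOk 19 12160 45 = true := by decide +kernel
theorem p2u16 : ∀ k, 11440 ≤ k → k < 12205 → pointOk (k * 19) = true := between_extend pointOk 19 11440 12160 45 (p2u15) p2r16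

theorem p2r17 : allRange pointOk 19 12205 45 = true := by decide +kernel
theorem p2u17 : ∀ k, 11440 ≤ k → k < 12250 → pointOk (k * 19) = true := between_extend pointOk 19 11440 12205 45 (p2u16) p2r17

theorem p2r18 : allRange pointOk 19 12250 45 = true := by decide +kernel
theorem p2u18 : ∀ k, 11440 ≤ k → k < 12295 → pointOk (k * 19) = true := between_extend pointOk 19 11440 12250 45 (p2u17) p2r18

theorem p2r19 : allRange pointOk 19 12295 45 = true := by decide +kernel
theorem p2u19 : ∀ k, 11440 ≤ k → k < 12340 → pointOk (k * 19) = true := between_extend pointOk 19 11440 12295 45 (p2u18) p2r19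

theorem p2r20 : allRange pointOk 19 12340 45 = true := by decide +kernel
theorem p2u20 : ∀ k, 11440 ≤ k → k < 12385 → pointOk (k * 19) = true := between_extend pointOk 19 11440 12340 45 (p2u19) p2r20

theorem p2r21 : allRange pointOk 19 12385 45 = true := by decide +kernel
theorem p2u21 : ∀ k, 11440 ≤ k → k < 12430 → pointOk (k * 19) = true := between_extend pointOk 19 11440 12385 45 (p2u20) p2r21

theorem p2r22 : allRange pointOk 19 12430 45 = true := by decide +kernel
theorem p2u22 : ∀ k, 11440 ≤ k → k < 12475 → pointOk (k * 19) = true := between_extend pointOk 19 11440 12430 45 (p2u21) p2r22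

theorem p2r23 : allRange pointOk 19 12475 45 = true := by decide +kernel
theorem p2u23 : ∀ k, 11440 ≤ k → k < 12520 → pointOk (k * 19) = true := between_extend pointOk 19 11440 12475 45 (p2u22) p2r23

theorem p2r24 : allRange pointOk 19 12520 45 = true := by decide +kernel
theorem p2u24 : ∀ k, 11440 ≤ k → k < 12565 → pointOk (k * 19) = true := between_extend pointOk 19 11440 12520 45 (p2u23) p2r24

theorem p2r25 : allRange pointOk 19 12565 45 = true := by decide +kernel
theorem p2u25 : ∀ k, 11440 ≤ k → k < 12610 → pointOk (k * 19) = true := between_extend pointOk 19 11440 12565 45 (p2u24) p2r25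

theorem p2r26 : allRange pointOk 19 12610 45 = true := by decide +kernel
theorem p2u26 : ∀ k, 11440 ≤ k → k < 12655 → pointOk (k * 19) = true := between_extend pointOk 19 11440 12610 45 (p2u25) p2r26

theorem p2r27 : allRange pointOk 19 12655 45 = true := by decide +kernel
theorem p2u27 : ∀ k, 11440 ≤ k → k < 12700 → pointOk (k * 19) = true := between_extend pointOk 19 11440 12655 45 (p2u26) p2r27

theorem p2r28 : allRange pointOk 19 12700 45 = true := by decide +kernel
theorem p2u28 : ∀ k, 11440 ≤ k → k < 12745 → pointOk (k * 19) = true := between_extend pointOk 19 11440 12700 45 (p2u27) p2r28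

theorem p2r29 : allRange pointOk 19 12745 45 = true := by decide +kernel
theorem p2u29 : ∀ k, 11440 ≤ k → k < 12790 → pointOk (k * 19) = true := between_extend pointOk 19 11440 12745 45 (p2u28) p2r29

theorem p2r30 : allRange pointOk 19 12790 45 = true := by decide +kernel
theorem p2u30 : ∀ k, 11440 ≤ k → k < 12835 → pointOk (k * 19) = true := between_extend pointOk 19 11440 12790 45 (p2u29) p2r30

theorem p2r31 : allRange pointOk 19 12835 45 = true := by decide +kernel
theorem p2u31 : ∀ k, 11440 ≤ k → k < 12880 → pointOk (k * 19) = true := between_extend pointOk 19 11440 12835 45 (p2u30) p2r31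

theorem p2r32 : allRange pointOk 19 12880 45 = true := by decide +kernel
theorem p2u32 : ∀ k, 11440 ≤ k → k < 12925 → pointOk (k * 19) = true := between_extend pointOk 19 11440 12880 45 (p2u31) p2r32

theorem p2r33 : allRange pointOk 19 12925 45 = true := by decide +kernel
theorem p2u33 : ∀ k, 11440 ≤ k → k < 12970 → pointOk (k * 19) = true := between_extend pointOk 19 11440 12925 45 (p2u32) p2r33

theorem p2r34 : allRange pointOk 19 12970 45 = true := by decide +kernel
theorem p2u34 : ∀ k, 11440 ≤ k → k < 13015 → pointOk (k * 19) = true := between_extend pointOk 19 11440 12970 45 (p2u33) p2r34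

theorem p2r35 : allRange pointOk 19 13015 45 = true := by decide +kernel
theorem p2u35 : ∀ k, 11440 ≤ k → k < 13060 → pointOk (k * 19) = true := between_extend pointOk 19 11440 13015 45 (p2u34) p2r35

theorem p2r36 : allRange pointOk 19 13060 45 = true := by decide +kernel
theorem p2u36 : ∀ k, 11440 ≤ k → k < 13105 → pointOk (k * 19) = true := between_extend pointOk 19 11440 13060 45 (p2u35) p2r36

theorem p2r37 : allRange pointOk 19 13105 45 = true := by decide +kernel
theorem p2u37 : ∀ k, 11440 ≤ k → k < 13150 → pointOk (k * 19) = true := between_extend pointOk 19 11440 13105 45 (p2u36) p2r37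

theorem p2r38 : allRange pointOk 19 13150 45 = true := by decide +kernel
theorem p2u38 : ∀ k, 11440 ≤ k → k < 13195 → pointOk (k * 19) = true := between_extend pointOk 19 11440 13150 45 (p2u37) p2r38

theorem p2r39 : allRange pointOk 19 13195 45 = true := by decide +kernel
theorem p2u39 : ∀ k, 11440 ≤ k → k < 13240 → pointOk (k * 19) = true := between_extend pointOk 19 11440 13195 45 (p2u38) p2r39

theorem p2r40 : allRange pointOk 19 13240 45 = true := by decide +kernel
theorem p2u40 : ∀ k, 11440 ≤ k → k < 13285 → pointOk (k * 19) = true := between_extend pointOk 19 11440 13240 45 (p2u39) p2r40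

theorem p2r41 : allRange pointOk 19 13285 45 = true := by decide +kernel
theorem p2u41 : ∀ k, 11440 ≤ k → k < 13330 → pointOk (k * 19) = true := between_extend pointOk 19 11440 13285 45 (p2u40) p2r41

theorem p2r42 : allRange pointOk 19 13330 45 = true := by decide +kernel
theorem p2u42 : ∀ k, 11440 ≤ k → k < 13375 → pointOk (k * 19) = true := between_extend pointOk 19 11440 13330 45 (p2u41) p2r42

theorem p2r43 : allRange pointOk 19 13375 45 = true := by decide +kernel
theorem p2u43 : ∀ k, 11440 ≤ k → k < 13420 → pointOk (k * 19) = true := between_extend pointOk 19 11440 13375 45 (p2u42) p2r43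

theorem p2r44 : allRange pointOk 19 13420 45 = true := by decide +kernel
theorem p2u44 : ∀ k, 11440 ≤ k → k < 13465 → pointOk (k * 19) = true := between_extend pointOk 19 11440 13420 45 (p2u43) p2r44

theorem p2r45 : allRange pointOk 19 13465 45 = true := by decide +kernel
theorem p2u45 : ∀ k, 11440 ≤ k → k < 13510 → pointOk (k * 19) = true := between_extend pointOk 19 11440 13465 45 (p2u44) p2r45

theorem p2r46 : allRange pointOk 19 13510 45 = true := by decide +kernel
theorem p2u46 : ∀ k, 11440 ≤ k → k < 13555 → pointOk (k * 19) = true := between_extend pointOk 19 11440 13510 45 (p2u45) p2r46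

theorem p2r47 : allRange pointOk 19 13555 45 = true := by decide +kernel
theorem p2u47 : ∀ k, 11440 ≤ k → k < 13600 → pointOk (k * 19) = true := between_extend pointOk 19 11440 13555 45 (p2u46) p2r47

theorem p2r48 : allRange pointOk 19 13600 45 = true := by decide +kernel
theorem p2u48 : ∀ k, 11440 ≤ k → k < 13645 → pointOk (k * 19) = true := between_extend pointOk 19 11440 13600 45 (p2u47) p2r48

theorem p2r49 : allRange pointOk 19 13645 45 = true := by decide +kernel
theorem p2u49 : ∀ k, 11440 ≤ k → k < 13690 → pointOk (k * 19) = true := between_extend pointOk 19 11440 13645 45 (p2u48) p2r49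

theorem p2r50 : allRange pointOk 19 13690 45 = true := by decide +kernel
theorem p2u50 : ∀ k, 11440 ≤ k → k < 13735 → pointOk (k * 19) = true := between_extend pointOk 19 11440 13690 45 (p2u49) p2r50

theorem p2r51 : allRange pointOk 19 13735 45 = true := by decide +kernel
theorem p2u51 : ∀ k, 11440 ≤ k → k < 13780 → pointOk (k * 19) = true := between_extend pointOk 19 11440 13735 45 (p2u50) p2r51

theorem p2r52 : allRange pointOk 19 13780 45 = true := by decide +kernel
theorem p2u52 : ∀ k, 11440 ≤ k → k < 13825 → pointOk (k * 19) = true := between_extend pointOk 19 11440 13780 45 (p2u51) p2r52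

theorem p2r53 : allRange pointOk 19 13825 45 = true := by decide +kernel
theorem p2u53 : ∀ k, 11440 ≤ k → k < 13870 → pointOk (k * 19) = true := between_extend pointOk 19 11440 13825 45 (p2u52) p2r53

theorem p2r54 : allRange pointOk 19 13870 45 = true := by decide +kernel
theorem p2u54 : ∀ k, 11440 ≤ k → k < 13915 → pointOk (k * 19) = true := between_extend pointOk 19 11440 13870 45 (p2u53) p2r54

theorem p2r55 : allRange pointOk 19 13915 45 = true := by decide +kernel
theorem p2u55 : ∀ k, 11440 ≤ k → k < 13960 → pointOk (k * 19) = true := between_extend pointOk 19 11440 13915 45 (p2u54) p2r55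

theorem p2r56 : allRange pointOk 19 13960 45 = true := by decide +kernel
theorem p2u56 : ∀ k, 11440 ≤ k → k < 14005 → pointOk (k * 19) = true := between_extend pointOk 19 11440 13960 45 (p2u55) p2r56

theorem p2r57 : allRange pointOk 19 14005 45 = true := by decide +kernel
theorem p2u57 : ∀ k, 11440 ≤ k → k < 14050 → pointOk (k * 19) = true := between_extend pointOk 19 11440 14005 45 (p2u56) p2r57

theorem p2r58 : allRange pointOk 19 14050 45 = true := by decide +kernel
theorem p2u58 : ∀ k, 11440 ≤ k → k < 14095 → pointOk (k * 19) = true := between_extend pointOk 19 11440 14050 45 (p2u57) p2r58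

theorem p2r59 : allRange pointOk 19 14095 45 = true := by decide +kernel
theorem p2u59 : ∀ k, 11440 ≤ k → k < 14140 → pointOk (k * 19) = true := between_extend pointOk 19 11440 14095 45 (p2u58) p2r59

theorem p2r60 : allRange pointOk 19 14140 45 = true := by decide +kernel
theorem p2u60 : ∀ k, 11440 ≤ k → k < 14185 → pointOk (k * 19) = true := between_extend pointOk 19 11440 14140 45 (p2u59) p2r60

theorem p2r61 : allRange pointOk 19 14185 45 = true := by decide +kernel
theorem p2u61 : ∀ k, 11440 ≤ k → k < 14230 → pointOk (k * 19) = true := between_extend pointOk 19 11440 14185 45 (p2u60) p2r61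

theorem p2r62 : allRange pointOk 19 14230 45 = true := by decide +kernel
theorem p2u62 : ∀ k, 11440 ≤ k → k < 14275 → pointOk (k * 19) = true := between_extend pointOk 19 11440 14230 45 (p2u61) p2r62

theorem p2r63 : allRange pointOk 19 14275 45 = true := by decide +kernel
theorem p2u63 : ∀ k, 11440 ≤ k → k < 14320 → pointOk (k * 19) = true := between_extend pointOk 19 11440 14275 45 (p2u62) p2r63

theorem p2r64 : allRange pointOk 19 14320 45 = true := by decide +kernel
theorem p2u64 : ∀ k, 11440 ≤ k → k < 14365 → pointOk (k * 19) = true := between_extend pointOk 19 11440 14320 45 (p2u63) p2r64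

theorem p2r65 : allRange pointOk 19 14365 45 = true := by decide +kernel
theorem p2u65 : ∀ k, 11440 ≤ k → k < 14410 → pointOk (k * 19) = true := between_extend pointOk 19 11440 14365 45 (p2u64) p2r65

theorem p2r66 : allRange pointOk 19 14410 45 = true := by decide +kernel
theorem p2u66 : ∀ k, 11440 ≤ k → k < 14455 → pointOk (k * 19) = true := between_extend pointOk 19 11440 14410 45 (p2u65) p2r66

theorem p2r67 : allRange pointOk 19 14455 45 = true := by decide +kernel
theorem p2u67 : ∀ k, 11440 ≤ k → k < 14500 → pointOk (k * 19) = true := between_extend pointOk 19 11440 14455 45 (p2u66) p2r67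

theorem p2r68 : allRange pointOk 19 14500 45 = true := by decide +kernel
theorem p2u68 : ∀ k, 11440 ≤ k → k < 14545 → pointOk (k * 19) = true := between_extend pointOk 19 11440 14500 45 (p2u67) p2r68

theorem p2r69 : allRange pointOk 19 14545 45 = true := by decide +kernel
theorem p2u69 : ∀ k, 11440 ≤ k → k < 14590 → pointOk (k * 19) = true := between_extend pointOk 19 11440 14545 45 (p2u68) p2r69

theorem p2r70 : allRange pointOk 19 14590 45 = true := by decide +kernel
theorem p2u70 : ∀ k, 11440 ≤ k → k < 14635 → pointOk (k * 19) = true := between_extend pointOk 19 11440 14590 45 (p2u69) p2r70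

theorem p2r71 : allRange pointOk 19 14635 45 = true := by decide +kernel
theorem p2u71 : ∀ k, 11440 ≤ k → k < 14680 → pointOk (k * 19) = true := between_extend pointOk 19 11440 14635 45 (p2u70) p2r71

theorem p2r72 : allRange pointOk 19 14680 45 = true := by decide +kernel
theorem p2u72 : ∀ k, 11440 ≤ k → k < 14725 → pointOk (k * 19) = true := between_extend pointOk 19 11440 14680 45 (p2u71) p2r72

theorem p2r73 : allRange pointOk 19 14725 45 = true := by decide +kernel
theorem p2u73 : ∀ k, 11440 ≤ k → k < 14770 → pointOk (k * 19) = true := between_extend pointOk 19 11440 14725 45 (p2u72) p2r73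

theorem p2r74 : allRange pointOk 19 14770 45 = true := by decide +kernel
theorem p2u74 : ∀ k, 11440 ≤ k → k < 14815 → pointOk (k * 19) = true := between_extend pointOk 19 11440 14770 45 (p2u73) p2r74

theorem p2r75 : allRange pointOk 19 14815 45 = true := by decide +kernel
theorem p2u75 : ∀ k, 11440 ≤ k → k < 14860 → pointOk (k * 19) = true := between_extend pointOk 19 11440 14815 45 (p2u74) p2r75

theorem p2r76 : allRange pointOk 19 14860 45 = true := by decide +kernel
theorem p2u76 : ∀ k, 11440 ≤ k → k < 14905 → pointOk (k * 19) = true := between_extend pointOk 19 11440 14860 45 (p2u75) p2r76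

theorem p2r77 : allRange pointOk 19 14905 45 = true := by decide +kernel
theorem p2u77 : ∀ k, 11440 ≤ k → k < 14950 → pointOk (k * 19) = true := between_extend pointOk 19 11440 14905 45 (p2u76) p2r77

theorem p2r78 : allRange pointOk 19 14950 45 = true := by decide +kernel
theorem p2u78 : ∀ k, 11440 ≤ k → k < 14995 → pointOk (k * 19) = true := between_extend pointOk 19 11440 14950 45 (p2u77) p2r78

theorem p2r79 : allRange pointOk 19 14995 45 = true := by decide +kernel
theorem p2u79 : ∀ k, 11440 ≤ k → k < 15040 → pointOk (k * 19) = true := between_extend pointOk 19 11440 14995 45 (p2u78) p2r79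

theorem p2r80 : allRange pointOk 19 15040 45 = true := by decide +kernel
theorem p2u80 : ∀ k, 11440 ≤ k → k < 15085 → pointOk (k * 19) = true := between_extend pointOk 19 11440 15040 45 (p2u79) p2r80

theorem p2r81 : allRange pointOk 19 15085 45 = true := by decide +kernel
theorem p2u81 : ∀ k, 11440 ≤ k → k < 15130 → pointOk (k * 19) = true := between_extend pointOk 19 11440 15085 45 (p2u80) p2r81

theorem p2r82 : allRange pointOk 19 15130 45 = true := by decide +kernel
theorem p2u82 : ∀ k, 11440 ≤ k → k < 15175 → pointOk (k * 19) = true := between_extend pointOk 19 11440 15130 45 (p2u81) p2r82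

theorem p2r83 : allRange pointOk 19 15175 45 = true := by decide +kernel
theorem p2u83 : ∀ k, 11440 ≤ k → k < 15220 → pointOk (k * 19) = true := between_extend pointOk 19 11440 15175 45 (p2u82) p2r83

theorem p2r84 : allRange pointOk 19 15220 45 = true := by decide +kernel
theorem p2u84 : ∀ k, 11440 ≤ k → k < 15265 → pointOk (k * 19) = true := between_extend pointOk 19 11440 15220 45 (p2u83) p2r84

theorem p2r85 : allRange pointOk 19 15265 45 = true := by decide +kernel
theorem p2u85 : ∀ k, 11440 ≤ k → k < 15310 → pointOk (k * 19) = true := between_extend pointOk 19 11440 15265 45 (p2u84) p2r85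

theorem p2r86 : allRange pointOk 19 15310 45 = true := by decide +kernel
theorem p2u86 : ∀ k, 11440 ≤ k → k < 15355 → pointOk (k * 19) = true := between_extend pointOk 19 11440 15310 45 (p2u85) p2r86

theorem p2r87 : allRange pointOk 19 15355 45 = true := by decide +kernel
theorem p2u87 : ∀ k, 11440 ≤ k → k < 15400 → pointOk (k * 19) = true := between_extend pointOk 19 11440 15355 45 (p2u86) p2r87

theorem p2r88 : allRange pointOk 19 15400 45 = true := by decide +kernel
theorem p2u88 : ∀ k, 11440 ≤ k → k < 15445 → pointOk (k * 19) = true := between_extend pointOk 19 11440 15400 45 (p2u87) p2r88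

theorem p2r89 : allRange pointOk 19 15445 45 = true := by decide +kernel
theorem p2u89 : ∀ k, 11440 ≤ k → k < 15490 → pointOk (k * 19) = true := between_extend pointOk 19 11440 15445 45 (p2u88) p2r89

theorem p2r90 : allRange pointOk 19 15490 45 = true := by decide +kernel
theorem p2u90 : ∀ k, 11440 ≤ k → k < 15535 → pointOk (k * 19) = true := between_extend pointOk 19 11440 15490 45 (p2u89) p2r90

theorem p2r91 : allRange pointOk 19 15535 45 = true := by decide +kernel
theorem p2u91 : ∀ k, 11440 ≤ k → k < 15580 → pointOk (k * 19) = true := between_extend pointOk 19 11440 15535 45 (p2u90) p2r91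

theorem p2r92 : allRange pointOk 19 15580 45 = true := by decide +kernel
theorem p2u92 : ∀ k, 11440 ≤ k → k < 15625 → pointOk (k * 19) = true := between_extend pointOk 19 11440 15580 45 (p2u91) p2r92

theorem p2r93 : allRange pointOk 19 15625 45 = true := by decide +kernel
theorem p2u93 : ∀ k, 11440 ≤ k → k < 15670 → pointOk (k * 19) = true := between_extend pointOk 19 11440 15625 45 (p2u92) p2r93

theorem p2r94 : allRange pointOk 19 15670 45 = true := by decide +kernel
theorem p2u94 : ∀ k, 11440 ≤ k → k < 15715 → pointOk (k * 19) = true := between_extend pointOk 19 11440 15670 45 (p2u93) p2r94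

theorem p2r95 : allRange pointOk 19 15715 45 = true := by decide +kernel
theorem p2u95 : ∀ k, 11440 ≤ k → k < 15760 → pointOk (k * 19) = true := between_extend pointOk 19 11440 15715 45 (p2u94) p2r95

theorem p2r96 : allRange pointOk 19 15760 45 = true := by decide +kernel
theorem p2u96 : ∀ k, 11440 ≤ k → k < 15805 → pointOk (k * 19) = true := between_extend pointOk 19 11440 15760 45 (p2u95) p2r96

theorem p2r97 : allRange pointOk 19 15805 45 = true := by decide +kernel
theorem p2u97 : ∀ k, 11440 ≤ k → k < 15850 → pointOk (k * 19) = true := between_extend pointOk 19 11440 15805 45 (p2u96) p2r97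

theorem p2r98 : allRange pointOk 19 15850 45 = true := by decide +kernel
theorem p2u98 : ∀ k, 11440 ≤ k → k < 15895 → pointOk (k * 19) = true := between_extend pointOk 19 11440 15850 45 (p2u97) p2r98

theorem p2r99 : allRange pointOk 19 15895 45 = true := by decide +kernel
theorem p2u99 : ∀ k, 11440 ≤ k → k < 15940 → pointOk (k * 19) = true := between_extend pointOk 19 11440 15895 45 (p2u98) p2r99

theorem p2r100 : allRange pointOk 19 15940 45 = true := by decide +kernel
theorem p2u100 : ∀ k, 11440 ≤ k → k < 15985 → pointOk (k * 19) = true := between_extend pointOk 19 11440 15940 45 (p2u99) p2r100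

theorem p2r101 : allRange pointOk 19 15985 45 = true := by decide +kernel
theorem p2u101 : ∀ k, 11440 ≤ k → k < 16030 → pointOk (k * 19) = true := between_extend pointOk 19 11440 15985 45 (p2u100) p2r101

theorem p2r102 : allRange pointOk 19 16030 45 = true := by decide +kernel
theorem p2u102 : ∀ k, 11440 ≤ k → k < 16075 → pointOk (k * 19) = true := between_extend pointOk 19 11440 16030 45 (p2u101) p2r102

theorem p2r103 : allRange pointOk 19 16075 45 = true := by decide +kernel
theorem p2u103 : ∀ k, 11440 ≤ k → k < 16120 → pointOk (k * 19) = true := between_extend pointOk 19 11440 16075 45 (p2u102) p2r103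

theorem p2r104 : allRange pointOk 19 16120 45 = true := by decide +kernel
theorem p2u104 : ∀ k, 11440 ≤ k → k < 16165 → pointOk (k * 19) = true := between_extend pointOk 19 11440 16120 45 (p2u103) p2r104

theorem p2r105 : allRange pointOk 19 16165 45 = true := by decide +kernel
theorem p2u105 : ∀ k, 11440 ≤ k → k < 16210 → pointOk (k * 19) = true := between_extend pointOk 19 11440 16165 45 (p2u104) p2r105

theorem p2r106 : allRange pointOk 19 16210 45 = true := by decide +kernel
theorem p2u106 : ∀ k, 11440 ≤ k → k < 16255 → pointOk (k * 19) = true := between_extend pointOk 19 11440 16210 45 (p2u105) p2r106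

theorem p2r107 : allRange pointOk 19 16255 45 = true := by decide +kernel
theorem p2u107 : ∀ k, 11440 ≤ k → k < 16300 → pointOk (k * 19) = true := between_extend pointOk 19 11440 16255 45 (p2u106) p2r107

theorem p2r108 : allRange pointOk 19 16300 45 = true := by decide +kernel
theorem p2u108 : ∀ k, 11440 ≤ k → k < 16345 → pointOk (k * 19) = true := between_extend pointOk 19 11440 16300 45 (p2u107) p2r108

theorem p2r109 : allRange pointOk 19 16345 45 = true := by decide +kernel
theorem p2u109 : ∀ k, 11440 ≤ k → k < 16390 → pointOk (k * 19) = true := between_extend pointOk 19 11440 16345 45 (p2u108) p2r109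

theorem p2r110 : allRange pointOk 19 16390 45 = true := by decide +kernel
theorem p2u110 : ∀ k, 11440 ≤ k → k < 16435 → pointOk (k * 19) = true := between_extend pointOk 19 11440 16390 45 (p2u109) p2r110

theorem p2r111 : allRange pointOk 19 16435 45 = true := by decide +kernel
theorem p2u111 : ∀ k, 11440 ≤ k → k < 16480 → pointOk (k * 19) = true := between_extend pointOk 19 11440 16435 45 (p2u110) p2r111

theorem p2r112 : allRange pointOk 19 16480 45 = true := by decide +kernel
theorem p2u112 : ∀ k, 11440 ≤ k → k < 16525 → pointOk (k * 19) = true := between_extend pointOk 19 11440 16480 45 (p2u111) p2r112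

theorem p2r113 : allRange pointOk 19 16525 45 = true := by decide +kernel
theorem p2u113 : ∀ k, 11440 ≤ k → k < 16570 → pointOk (k * 19) = true := between_extend pointOk 19 11440 16525 45 (p2u112) p2r113

theorem p2r114 : allRange pointOk 19 16570 45 = true := by decide +kernel
theorem p2u114 : ∀ k, 11440 ≤ k → k < 16615 → pointOk (k * 19) = true := between_extend pointOk 19 11440 16570 45 (p2u113) p2r114

theorem p2r115 : allRange pointOk 19 16615 45 = true := by decide +kernel
theorem p2u115 : ∀ k, 11440 ≤ k → k < 16660 → pointOk (k * 19) = true := between_extend pointOk 19 11440 16615 45 (p2u114) p2r115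

theorem p2r116 : allRange pointOk 19 16660 45 = true := by decide +kernel
theorem p2u116 : ∀ k, 11440 ≤ k → k < 16705 → pointOk (k * 19) = true := between_extend pointOk 19 11440 16660 45 (p2u115) p2r116

theorem p2r117 : allRange pointOk 19 16705 45 = true := by decide +kernel
theorem p2u117 : ∀ k, 11440 ≤ k → k < 16750 → pointOk (k * 19) = true := between_extend pointOk 19 11440 16705 45 (p2u116) p2r117

theorem p2r118 : allRange pointOk 19 16750 45 = true := by decide +kernel
theorem p2u118 : ∀ k, 11440 ≤ k → k < 16795 → pointOk (k * 19) = true := between_extend pointOk 19 11440 16750 45 (p2u117) p2r118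

theorem p2r119 : allRange pointOk 19 16795 45 = true := by decide +kernel
theorem p2u119 : ∀ k, 11440 ≤ k → k < 16840 → pointOk (k * 19) = true := between_extend pointOk 19 11440 16795 45 (p2u118) p2r119

theorem p2r120 : allRange pointOk 19 16840 45 = true := by decide +kernel
theorem p2u120 : ∀ k, 11440 ≤ k → k < 16885 → pointOk (k * 19) = true := between_extend pointOk 19 11440 16840 45 (p2u119) p2r120

theorem p2r121 : allRange pointOk 19 16885 45 = true := by decide +kernel
theorem p2u121 : ∀ k, 11440 ≤ k → k < 16930 → pointOk (k * 19) = true := between_extend pointOk 19 11440 16885 45 (p2u120) p2r121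

theorem p2r122 : allRange pointOk 19 16930 45 = true := by decide +kernel
theorem p2u122 : ∀ k, 11440 ≤ k → k < 16975 → pointOk (k * 19) = true := between_extend pointOk 19 11440 16930 45 (p2u121) p2r122

theorem p2r123 : allRange pointOk 19 16975 45 = true := by decide +kernel
theorem p2u123 : ∀ k, 11440 ≤ k → k < 17020 → pointOk (k * 19) = true := between_extend pointOk 19 11440 16975 45 (p2u122) p2r123

theorem p2r124 : allRange pointOk 19 17020 45 = true := by decide +kernel
theorem p2u124 : ∀ k, 11440 ≤ k → k < 17065 → pointOk (k * 19) = true := between_extend pointOk 19 11440 17020 45 (p2u123) p2r124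

theorem p2r125 : allRange pointOk 19 17065 45 = true := by decide +kernel
theorem p2u125 : ∀ k, 11440 ≤ k → k < 17110 → pointOk (k * 19) = true := between_extend pointOk 19 11440 17065 45 (p2u124) p2r125

theorem p2r126 : allRange pointOk 19 17110 45 = true := by decide +kernel
theorem p2u126 : ∀ k, 11440 ≤ k → k < 17155 → pointOk (k * 19) = true := between_extend pointOk 19 11440 17110 45 (p2u125) p2r126

theorem p2r127 : allRange pointOk 19 17155 5 = true := by decide +kernel
theorem p2u127 : ∀ k, 11440 ≤ k → k < 17160 → pointOk (k * 19) = true := between_extend pointOk 19 11440 17155 5 (p2u126) p2r127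

theorem p2 : ∀ k, 11440 ≤ k → k < 17160 → pointOk (k * 19) = true := p2u127

end Cfsg.Agent.Lib.Helper28_S1681
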