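import Cfsg.Agent.Lib.Helper28_S1681Def

set_option autoImplicit false
set_option linter.constructorNameAsVariable false
set_option Elab.async false

namespace Cfsg.Agent.Lib.Helper28_S1681

open Cfsg.Agent.Lib.Helper28_CosetPerm

theorem p3r0 : allRange pointOk 19 17160 45 = true := by decide +kernel
theorem p3u0 : ∀ k, 17160 ≤ k → k < 17205 → pointOk (k * 19) = true := between_extend pointOk 19 17160 17160 45 (between_start pointOk 19 17160) p3r0

theorem p3r1 : allRange pointOk 19 17205 45 = true := by decide +kernel
theorem p3u1 : ∀ k, 17160 ≤ k → k < 17250 → pointOk (k * 19) = true := between_extend pointOk 19 17160 17205 45 (p3u0) p3r1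

theorem p3r2 : allRange pointOk 19 17250 45 = true := by decide +kernel
theorem p3u2 : ∀ k, 17160 ≤ k → k < 17295 → pointOk (k * 19) = true := between_extend pointOk 19 17160 17250 45 (p3u1) p3r2

theorem p3r3 : allRange pointOk 19 17295 45 = true := by decide +kernel
theorem p3u3 : ∀ k, 17160 ≤ k → k < 17340 → pointOk (k * 19) = true := between_extend pointOk 19 17160 17295 45 (p3u2) p3r3

theorem p3r4 : allRange pointOk 19 17340 45 = true := by decide +kernel
theorem p3u4 : ∀ k, 17160 ≤ k → k < 17385 → pointOk (k * 19) = true := between_extend pointOk 19 17160 17340 45 (p3u3) p3r4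

theorem p3r5 : allRange pointOk 19 17385 45 = true := by decide +kernel
theorem p3u5 : ∀ k, 17160 ≤ k → k < 17430 → pointOk (k * 19) = true := between_extend pointOk 19 17160 17385 45 (p3u4) p3r5

theorem p3r6 : allRange pointOk 19 17430 45 = true := by decide +kernel
theorem p3u6 : ∀ k, 17160 ≤ k → k < 17475 → pointOk (k * 19) = true := between_extend pointOk 19 17160 17430 45 (p3u5) p3r6

theorem p3r7 : allRange pointOk 19 17475 45 = true := by decide +kernel
theorem p3u7 : ∀ k, 17160 ≤ k → k < 17520 → pointOk (k * 19) = true := between_extend pointOk 19 17160 17475 45 (p3u6) p3r7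

theorem p3r8 : allRange pointOk 19 17520 45 = true := by decide +kernel
theorem p3u8 : ∀ k, 17160 ≤ k → k < 17565 → pointOk (k * 19) = true := between_extend pointOk 19 17160 17520 45 (p3u7) p3r8

theorem p3r9 : allRange pointOk 19 17565 45 = true := by decide +kernel
theorem p3u9 : ∀ k, 17160 ≤ k → k < 17610 → pointOk (k * 19) = true := between_extend pointOk 19 17160 17565 45 (p3u8) p3r9

theorem p3r10 : allRange pointOk 19 17610 45 = true := by decide +kernel
theorem p3u10 : ∀ k, 17160 ≤ k → k < 17655 → pointOk (k * 19) = true := between_extend pointOk 19 17160 17610 45 (p3u9) p3r10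

theorem p3r11 : allRange pointOk 19 17655 45 = true := by decide +kernel
theorem p3u11 : ∀ k, 17160 ≤ k → k < 17700 → pointOk (k * 19) = true := between_extend pointOk 19 17160 17655 45 (p3u10) p3r11

theorem p3r12 : allRange pointOk 19 17700 45 = true := by decide +kernel
theorem p3u12 : ∀ k, 17160 ≤ k → k < 17745 → pointOk (k * 19) = true := between_extend pointOk 19 17160 17700 45 (p3u11) p3r12

theorem p3r13 : allRange pointOk 19 17745 45 = true := by decide +kernel
theorem p3u13 : ∀ k, 17160 ≤ k → k < 17790 → pointOk (k * 19) = true := between_extend pointOk 19 17160 17745 45 (p3u12) p3r13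

theorem p3r14 : allRange pointOk 19 17790 45 = true := by decide +kernel
theorem p3u14 : ∀ k, 17160 ≤ k → k < 17835 → pointOk (k * 19) = true := between_extend pointOk 19 17160 17790 45 (p3u13) p3r14

theorem p3r15 : allRange pointOk 19 17835 45 = true := by decide +kernel
theorem p3u15 : ∀ k, 17160 ≤ k → k < 17880 → pointOk (k * 19) = true := between_extend pointOk 19 17160 17835 45 (p3u14) p3r15

theorem p3r16 : allRange pointOk 19 17880 45 = true := by decide +kernel
theorem p3u16 : ∀ k, 17160 ≤ k → k < 17925 → pointOk (k * 19) = true := between_extend pointOk 19 17160 17880 45 (p3u15) p3r16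

theorem p3r17 : allRange pointOk 19 17925 45 = true := by decide +kernel
theorem p3u17 : ∀ k, 17160 ≤ k → k < 17970 → pointOk (k * 19) = true := between_extend pointOk 19 17160 17925 45 (p3u16) p3r17

theorem p3r18 : allRange pointOk 19 17970 45 = true := by decide +kernel
theorem p3u18 : ∀ k, 17160 ≤ k → k < 18015 → pointOk (k * 19) = true := between_extend pointOk 19 17160 17970 45 (p3u17) p3r18

theorem p3r19 : allRange pointOk 19 18015 45 = true := by decide +kernel
theorem p3u19 : ∀ k, 17160 ≤ k → k < 18060 → pointOk (k * 19) = true := between_extend pointOk 19 17160 18015 45 (p3u18) p3r19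

theorem p3r20 : allRange pointOk 19 18060 45 = true := by decide +kernel
theorem p3u20 : ∀ k, 17160 ≤ k → k < 18105 → pointOk (k * 19) = true := between_extend pointOk 19 17160 18060 45 (p3u19) p3r20

theorem p3r21 : allRange pointOk 19 18105 45 = true := by decide +kernel
theorem p3u21 : ∀ k, 17160 ≤ k → k < 18150 → pointOk (k * 19) = true := between_extend pointOk 19 17160 18105 45 (p3u20) p3r21

theorem p3r22 : allRange pointOk 19 18150 45 = true := by decide +kernel
theorem p3u22 : ∀ k, 17160 ≤ k → k < 18195 → pointOk (k * 19) = true := between_extend pointOk 19 17160 18150 45 (p3u21) p3r22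

theorem p3r23 : allRange pointOk 19 18195 45 = true := by decide +kernel
theorem p3u23 : ∀ k, 17160 ≤ k → k < 18240 → pointOk (k * 19) = true := between_extend pointOk 19 17160 18195 45 (p3u22) p3r23

theorem p3r24 : allRange pointOk 19 18240 45 = true := by decide +kernel
theorem p3u24 : ∀ k, 17160 ≤ k → k < 18285 → pointOk (k * 19) = true := between_extend pointOk 19 17160 18240 45 (p3u23) p3r24

theorem p3r25 : allRange pointOk 19 18285 45 = true := by decide +kernel
theorem p3u25 : ∀ k, 17160 ≤ k → k < 18330 → pointOk (k * 19) = true := between_extend pointOk 19 17160 18285 45 (p3u24) p3r25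

theorem p3r26 : allRange pointOk 19 18330 45 = true := by decide +kernel
theorem p3u26 : ∀ k, 17160 ≤ k → k < 18375 → pointOk (k * 19) = true := between_extend pointOk 19 17160 18330 45 (p3u25) p3r26

theorem p3r27 : allRange pointOk 19 18375 45 = true := by decide +kernel
theorem p3u27 : ∀ k, 17160 ≤ k → k < 18420 → pointOk (k * 19) = true := between_extend pointOk 19 17160 18375 45 (p3u26) p3r27

theorem p3r28 : allRange pointOk 19 18420 45 = true := by decide +kernel
theorem p3u28 : ∀ k, 17160 ≤ k → k < 18465 → pointOk (k * 19) = true := between_extend pointOk 19 17160 18420 45 (p3u27) p3r28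

theorem p3r29 : allRange pointOk 19 18465 45 = true := by decide +kernel
theorem p3u29 : ∀ k, 17160 ≤ k → k < 18510 → pointOk (k * 19) = true := between_extend pointOk 19 17160 18465 45 (p3u28) p3r29

theorem p3r30 : allRange pointOk 19 18510 45 = true := by decide +kernel
theorem p3u30 : ∀ k, 17160 ≤ k → k < 18555 → pointOk (k * 19) = true := between_extend pointOk 19 17160 18510 45 (p3u29) p3r30

theorem p3r31 : allRange pointOk 19 18555 45 = true := by decide +kernel
theorem p3u31 : ∀ k, 17160 ≤ k → k < 18600 → pointOk (k * 19) = true := between_extend pointOk 19 17160 18555 45 (p3u30) p3r31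

theorem p3r32 : allRange pointOk 19 18600 45 = true := by decide +kernel
theorem p3u32 : ∀ k, 17160 ≤ k → k < 18645 → pointOk (k * 19) = true := between_extend pointOk 19 17160 18600 45 (p3u31) p3r32

theorem p3r33 : allRange pointOk 19 18645 45 = true := by decide +kernel
theorem p3u33 : ∀ k, 17160 ≤ k → k < 18690 → pointOk (k * 19) = true := between_extend pointOk 19 17160 18645 45 (p3u32) p3r33

theorem p3r34 : allRange pointOk 19 18690 45 = true := by decide +kernel
theorem p3u34 : ∀ k, 17160 ≤ k → k < 18735 → pointOk (k * 19) = true := between_extend pointOk 19 17160 18690 45 (p3u33) p3r34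

theorem p3r35 : allRange pointOk 19 18735 45 = true := by decide +kernel
theorem p3u35 : ∀ k, 17160 ≤ k → k < 18780 → pointOk (k * 19) = true := between_extend pointOk 19 17160 18735 45 (p3u34) p3r35

theorem p3r36 : allRange pointOk 19 18780 45 = true := by decide +kernel
theorem p3u36 : ∀ k, 17160 ≤ k → k < 18825 → pointOk (k * 19) = true := between_extend pointOk 19 17160 18780 45 (p3u35) p3r36

theorem p3r37 : allRange pointOk 19 18825 45 = true := by decide +kernel
theorem p3u37 : ∀ k, 17160 ≤ k → k < 18870 → pointOk (k * 19) = true := between_extend pointOk 19 17160 18825 45 (p3u36) p3r37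

theorem p3r38 : allRange pointOk 19 18870 45 = true := by decide +kernel
theorem p3u38 : ∀ k, 17160 ≤ k → k < 18915 → pointOk (k * 19) = true := between_extend pointOk 19 17160 18870 45 (p3u37) p3r38

theorem p3r39 : allRange pointOk 19 18915 45 = true := by decide +kernel
theorem p3u39 : ∀ k, 17160 ≤ k → k < 18960 → pointOk (k * 19) = true := between_extend pointOk 19 17160 18915 45 (p3u38) p3r39

theorem p3r40 : allRange pointOk 19 18960 45 = true := by decide +kernel
theorem p3u40 : ∀ k, 17160 ≤ k → k < 19005 → pointOk (k * 19) = true := between_extend pointOk 19 17160 18960 45 (p3u39) p3r40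

theorem p3r41 : allRange pointOk 19 19005 45 = true := by decide +kernel
theorem p3u41 : ∀ k, 17160 ≤ k → k < 19050 → pointOk (k * 19) = true := between_extend pointOk 19 17160 19005 45 (p3u40) p3r41

theorem p3r42 : allRange pointOk 19 19050 45 = true := by decide +kernel
theorem p3u42 : ∀ k, 17160 ≤ k → k < 19095 → pointOk (k * 19) = true := between_extend pointOk 19 17160 19050 45 (p3u41) p3r42

theorem p3r43 : allRange pointOk 19 19095 45 = true := by decide +kernel
theorem p3u43 : ∀ k, 17160 ≤ k → k < 19140 → pointOk (k * 19) = true := between_extend pointOk 19 17160 19095 45 (p3u42) p3r43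

theorem p3r44 : allRange pointOk 19 19140 45 = true := by decide +kernel
theorem p3u44 : ∀ k, 17160 ≤ k → k < 19185 → pointOk (k * 19) = true := between_extend pointOk 19 17160 19140 45 (p3u43) p3r44

theorem p3r45 : allRange pointOk 19 19185 45 = true := by decide +kernel
theorem p3u45 : ∀ k, 17160 ≤ k → k < 19230 → pointOk (k * 19) = true := between_extend pointOk 19 17160 19185 45 (p3u44) p3r45

theorem p3r46 : allRange pointOk 19 19230 45 = true := by decide +kernel
theorem p3u46 : ∀ k, 17160 ≤ k → k < 19275 → pointOk (k * 19) = true := between_extend pointOk 19 17160 19230 45 (p3u45) p3r46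

theorem p3r47 : allRange pointOk 19 19275 45 = true := by decide +kernel
theorem p3u47 : ∀ k, 17160 ≤ k → k < 19320 → pointOk (k * 19) = true := between_extend pointOk 19 17160 19275 45 (p3u46) p3r47

theorem p3r48 : allRange pointOk 19 19320 45 = true := by decide +kernel
theorem p3u48 : ∀ k, 17160 ≤ k → k < 19365 → pointOk (k * 19) = true := between_extend pointOk 19 17160 19320 45 (p3u47) p3r48

theorem p3r49 : allRange pointOk 19 19365 45 = true := by decide +kernel
theorem p3u49 : ∀ k, 17160 ≤ k → k < 19410 → pointOk (k * 19) = true := between_extend pointOk 19 17160 19365 45 (p3u48) p3r49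

theorem p3r50 : allRange pointOk 19 19410 45 = true := by decide +kernel
theorem p3u50 : ∀ k, 17160 ≤ k → k < 19455 → pointOk (k * 19) = true := between_extend pointOk 19 17160 19410 45 (p3u49) p3r50

theorem p3r51 : allRange pointOk 19 19455 45 = true := by decide +kernel
theorem p3u51 : ∀ k, 17160 ≤ k → k < 19500 → pointOk (k * 19) = true := between_extend pointOk 19 17160 19455 45 (p3u50) p3r51

theorem p3r52 : allRange pointOk 19 19500 45 = true := by decide +kernel
theorem p3u52 : ∀ k, 17160 ≤ k → k < 19545 → pointOk (k * 19) = true := between_extend pointOk 19 17160 19500 45 (p3u51) p3r52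

theorem p3r53 : allRange pointOk 19 19545 45 = true := by decide +kernel
theorem p3u53 : ∀ k, 17160 ≤ k → k < 19590 → pointOk (k * 19) = true := between_extend pointOk 19 17160 19545 45 (p3u52) p3r53

theorem p3r54 : allRange pointOk 19 19590 45 = true := by decide +kernel
theorem p3u54 : ∀ k, 17160 ≤ k → k < 19635 → pointOk (k * 19) = true := between_extend pointOk 19 17160 19590 45 (p3u53) p3r54

theorem p3r55 : allRange pointOk 19 19635 45 = true := by decide +kernel
theorem p3u55 : ∀ k, 17160 ≤ k → k < 19680 → pointOk (k * 19) = true := between_extend pointOk 19 17160 19635 45 (p3u54) p3r55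

theorem p3r56 : allRange pointOk 19 19680 45 = true := by decide +kernel
theorem p3u56 : ∀ k, 17160 ≤ k → k < 19725 → pointOk (k * 19) = true := between_extend pointOk 19 17160 19680 45 (p3u55) p3r56

theorem p3r57 : allRange pointOk 19 19725 45 = true := by decide +kernel
theorem p3u57 : ∀ k, 17160 ≤ k → k < 19770 → pointOk (k * 19) = true := between_extend pointOk 19 17160 19725 45 (p3u56) p3r57

theorem p3r58 : allRange pointOk 19 19770 45 = true := by decide +kernel
theorem p3u58 : ∀ k, 17160 ≤ k → k < 19815 → pointOk (k * 19) = true := between_extend pointOk 19 17160 19770 45 (p3u57) p3r58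

theorem p3r59 : allRange pointOk 19 19815 45 = true := by decide +kernel
theorem p3u59 : ∀ k, 17160 ≤ k → k < 19860 → pointOk (k * 19) = true := between_extend pointOk 19 17160 19815 45 (p3u58) p3r59

theorem p3r60 : allRange pointOk 19 19860 45 = true := by decide +kernel
theorem p3u60 : ∀ k, 17160 ≤ k → k < 19905 → pointOk (k * 19) = true := between_extend pointOk 19 17160 19860 45 (p3u59) p3r60

theorem p3r61 : allRange pointOk 19 19905 45 = true := by decide +kernel
theorem p3u61 : ∀ k, 17160 ≤ k → k < 19950 → pointOk (k * 19) = true := between_extend pointOk 19 17160 19905 45 (p3u60) p3r61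

theorem p3r62 : allRange pointOk 19 19950 45 = true := by decide +kernel
theorem p3u62 : ∀ k, 17160 ≤ k → k < 19995 → pointOk (k * 19) = true := between_extend pointOk 19 17160 19950 45 (p3u61) p3r62

theorem p3r63 : allRange pointOk 19 19995 45 = true := by decide +kernel
theorem p3u63 : ∀ k, 17160 ≤ k → k < 20040 → pointOk (k * 19) = true := between_extend pointOk 19 17160 19995 45 (p3u62) p3r63

theorem p3r64 : allRange pointOk 19 20040 45 = true := by decide +kernel
theorem p3u64 : ∀ k, 17160 ≤ k → k < 20085 → pointOk (k * 19) = true := between_extend pointOk 19 17160 20040 45 (p3u63) p3r64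

theorem p3r65 : allRange pointOk 19 20085 45 = true := by decide +kernel
theorem p3u65 : ∀ k, 17160 ≤ k → k < 20130 → pointOk (k * 19) = true := between_extend pointOk 19 17160 20085 45 (p3u64) p3r65

theorem p3r66 : allRange pointOk 19 20130 45 = true := by decide +kernel
theorem p3u66 : ∀ k, 17160 ≤ k → k < 20175 → pointOk (k * 19) = true := between_extend pointOk 19 17160 20130 45 (p3u65) p3r66

theorem p3r67 : allRange pointOk 19 20175 45 = true := by decide +kernel
theorem p3u67 : ∀ k, 17160 ≤ k → k < 20220 → pointOk (k * 19) = true := between_extend pointOk 19 17160 20175 45 (p3u66) p3r67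

theorem p3r68 : allRange pointOk 19 20220 45 = true := by decide +kernel
theorem p3u68 : ∀ k, 17160 ≤ k → k < 20265 → pointOk (k * 19) = true := between_extend pointOk 19 17160 20220 45 (p3u67) p3r68

theorem p3r69 : allRange pointOk 19 20265 45 = true := by decide +kernel
theorem p3u69 : ∀ k, 17160 ≤ k → k < 20310 → pointOk (k * 19) = true := between_extend pointOk 19 17160 20265 45 (p3u68) p3r69

theorem p3r70 : allRange pointOk 19 20310 45 = true := by decide +kernel
theorem p3u70 : ∀ k, 17160 ≤ k → k < 20355 → pointOk (k * 19) = true := between_extend pointOk 19 17160 20310 45 (p3u69) p3r70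

theorem p3r71 : allRange pointOk 19 20355 45 = true := by decide +kernel
theorem p3u71 : ∀ k, 17160 ≤ k → k < 20400 → pointOk (k * 19) = true := between_extend pointOk 19 17160 20355 45 (p3u70) p3r71

theorem p3r72 : allRange pointOk 19 20400 45 = true := by decide +kernel
theorem p3u72 : ∀ k, 17160 ≤ k → k < 20445 → pointOk (k * 19) = true := between_extend pointOk 19 17160 20400 45 (p3u71) p3r72

theorem p3r73 : allRange pointOk 19 20445 45 = true := by decide +kernel
theorem p3u73 : ∀ k, 17160 ≤ k → k < 20490 → pointOk (k * 19) = true := between_extend pointOk 19 17160 20445 45 (p3u72) p3r73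

theorem p3r74 : allRange pointOk 19 20490 45 = true := by decide +kernel
theorem p3u74 : ∀ k, 17160 ≤ k → k < 20535 → pointOk (k * 19) = true := between_extend pointOk 19 17160 20490 45 (p3u73) p3r74

theorem p3r75 : allRange pointOk 19 20535 45 = true := by decide +kernel
theorem p3u75 : ∀ k, 17160 ≤ k → k < 20580 → pointOk (k * 19) = true := between_extend pointOk 19 17160 20535 45 (p3u74) p3r75

theorem p3r76 : allRange pointOk 19 20580 45 = true := by decide +kernel
theorem p3u76 : ∀ k, 17160 ≤ k → k < 20625 → pointOk (k * 19) = true := between_extend pointOk 19 17160 20580 45 (p3u75) p3r76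

theorem p3r77 : allRange pointOk 19 20625 45 = true := by decide +kernel
theorem p3u77 : ∀ k, 17160 ≤ k → k < 20670 → pointOk (k * 19) = true := between_extend pointOk 19 17160 20625 45 (p3u76) p3r77

theorem p3r78 : allRange pointOk 19 20670 45 = true := by decide +kernel
theorem p3u78 : ∀ k, 17160 ≤ k → k < 20715 → pointOk (k * 19) = true := between_extend pointOk 19 17160 20670 45 (p3u77) p3r78

theorem p3r79 : allRange pointOk 19 20715 45 = true := by decide +kernel
theorem p3u79 : ∀ k, 17160 ≤ k → k < 20760 → pointOk (k * 19) = true := between_extend pointOk 19 17160 20715 45 (p3u78) p3r79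

theorem p3r80 : allRange pointOk 19 20760 45 = true := by decide +kernel
theorem p3u80 : ∀ k, 17160 ≤ k → k < 20805 → pointOk (k * 19) = true := between_extend pointOk 19 17160 20760 45 (p3u79) p3r80

theorem p3r81 : allRange pointOk 19 20805 45 = true := by decide +kernel
theorem p3u81 : ∀ k, 17160 ≤ k → k < 20850 → pointOk (k * 19) = true := between_extend pointOk 19 17160 20805 45 (p3u80) p3r81

theorem p3r82 : allRange pointOk 19 20850 45 = true := by decide +kernel
theorem p3u82 : ∀ k, 17160 ≤ k → k < 20895 → pointOk (k * 19) = true := between_extend pointOk 19 17160 20850 45 (p3u81) p3r82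

theorem p3r83 : allRange pointOk 19 20895 45 = true := by decide +kernel
theorem p3u83 : ∀ k, 17160 ≤ k → k < 20940 → pointOk (k * 19) = true := between_extend pointOk 19 17160 20895 45 (p3u82) p3r83

theorem p3r84 : allRange pointOk 19 20940 45 = true := by decide +kernel
theorem p3u84 : ∀ k, 17160 ≤ k → k < 20985 → pointOk (k * 19) = true := between_extend pointOk 19 17160 20940 45 (p3u83) p3r84

theorem p3r85 : allRange pointOk 19 20985 45 = true := by decide +kernel
theorem p3u85 : ∀ k, 17160 ≤ k → k < 21030 → pointOk (k * 19) = true := between_extend pointOk 19 17160 20985 45 (p3u84) p3r85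

theorem p3r86 : allRange pointOk 19 21030 45 = true := by decide +kernel
theorem p3u86 : ∀ k, 17160 ≤ k → k < 21075 → pointOk (k * 19) = true := between_extend pointOk 19 17160 21030 45 (p3u85) p3r86

theorem p3r87 : allRange pointOk 19 21075 45 = true := by decide +kernel
theorem p3u87 : ∀ k, 17160 ≤ k → k < 21120 → pointOk (k * 19) = true := between_extend pointOk 19 17160 21075 45 (p3u86) p3r87

theorem p3r88 : allRange pointOk 19 21120 45 = true := by decide +kernel
theorem p3u88 : ∀ k, 17160 ≤ k → k < 21165 → pointOk (k * 19) = true := between_extend pointOk 19 17160 21120 45 (p3u87) p3r88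

theorem p3r89 : allRange pointOk 19 21165 45 = true := by decide +kernel
theorem p3u89 : ∀ k, 17160 ≤ k → k < 21210 → pointOk (k * 19) = true := between_extend pointOk 19 17160 21165 45 (p3u88) p3r89

theorem p3r90 : allRange pointOk 19 21210 45 = true := by decide +kernel
theorem p3u90 : ∀ k, 17160 ≤ k → k < 21255 → pointOk (k * 19) = true := between_extend pointOk 19 17160 21210 45 (p3u89) p3r90

theorem p3r91 : allRange pointOk 19 21255 45 = true := by decide +kernel
theorem p3u91 : ∀ k, 17160 ≤ k → k < 21300 → pointOk (k * 19) = true := between_extend pointOk 19 17160 21255 45 (p3u90) p3r91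

theorem p3r92 : allRange pointOk 19 21300 45 = true := by decide +kernel
theorem p3u92 : ∀ k, 17160 ≤ k → k < 21345 → pointOk (k * 19) = true := between_extend pointOk 19 17160 21300 45 (p3u91) p3r92

theorem p3r93 : allRange pointOk 19 21345 45 = true := by decide +kernel
theorem p3u93 : ∀ k, 17160 ≤ k → k < 21390 → pointOk (k * 19) = true := between_extend pointOk 19 17160 21345 45 (p3u92) p3r93

theorem p3r94 : allRange pointOk 19 21390 45 = true := by decide +kernel
theorem p3u94 : ∀ k, 17160 ≤ k → k < 21435 → pointOk (k * 19) = true := between_extend pointOk 19 17160 21390 45 (p3u93) p3r94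

theorem p3r95 : allRange pointOk 19 21435 45 = true := by decide +kernel
theorem p3u95 : ∀ k, 17160 ≤ k → k < 21480 → pointOk (k * 19) = true := between_extend pointOk 19 17160 21435 45 (p3u94) p3r95

theorem p3r96 : allRange pointOk 19 21480 45 = true := by decide +kernel
theorem p3u96 : ∀ k, 17160 ≤ k → k < 21525 → pointOk (k * 19) = true := between_extend pointOk 19 17160 21480 45 (p3u95) p3r96

theorem p3r97 : allRange pointOk 19 21525 45 = true := by decide +kernel
theorem p3u97 : ∀ k, 17160 ≤ k → k < 21570 → pointOk (k * 19) = true := between_extend pointOk 19 17160 21525 45 (p3u96) p3r97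

theorem p3r98 : allRange pointOk 19 21570 45 = true := by decide +kernel
theorem p3u98 : ∀ k, 17160 ≤ k → k < 21615 → pointOk (k * 19) = true := between_extend pointOk 19 17160 21570 45 (p3u97) p3r98

theorem p3r99 : allRange pointOk 19 21615 45 = true := by decide +kernel
theorem p3u99 : ∀ k, 17160 ≤ k → k < 21660 → pointOk (k * 19) = true := between_extend pointOk 19 17160 21615 45 (p3u98) p3r99

theorem p3r100 : allRange pointOk 19 21660 45 = true := by decide +kernel
theorem p3u100 : ∀ k, 17160 ≤ k → k < 21705 → pointOk (k * 19) = true := between_extend pointOk 19 17160 21660 45 (p3u99) p3r100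

theorem p3r101 : allRange pointOk 19 21705 45 = true := by decide +kernel
theorem p3u101 : ∀ k, 17160 ≤ k → k < 21750 → pointOk (k * 19) = true := between_extend pointOk 19 17160 21705 45 (p3u100) p3r101

theorem p3r102 : allRange pointOk 19 21750 45 = true := by decide +kernel
theorem p3u102 : ∀ k, 17160 ≤ k → k < 21795 → pointOk (k * 19) = true := between_extend pointOk 19 17160 21750 45 (p3u101) p3r102

theorem p3r103 : allRange pointOk 19 21795 45 = true := by decide +kernel
theorem p3u103 : ∀ k, 17160 ≤ k → k < 21840 → pointOk (k * 19) = true := between_extend pointOk 19 17160 21795 45 (p3u102) p3r103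

theorem p3r104 : allRange pointOk 19 21840 45 = true := by decide +kernel
theorem p3u104 : ∀ k, 17160 ≤ k → k < 21885 → pointOk (k * 19) = true := between_extend pointOk 19 17160 21840 45 (p3u103) p3r104

theorem p3r105 : allRange pointOk 19 21885 45 = true := by decide +kernel
theorem p3u105 : ∀ k, 17160 ≤ k → k < 21930 → pointOk (k * 19) = true := between_extend pointOk 19 17160 21885 45 (p3u104) p3r105

theorem p3r106 : allRange pointOk 19 21930 45 = true := by decide +kernel
theorem p3u106 : ∀ k, 17160 ≤ k → k < 21975 → pointOk (k * 19) = true := between_extend pointOk 19 17160 21930 45 (p3u105) p3r106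

theorem p3r107 : allRange pointOk 19 21975 45 = true := by decide +kernel
theorem p3u107 : ∀ k, 17160 ≤ k → k < 22020 → pointOk (k * 19) = true := between_extend pointOk 19 17160 21975 45 (p3u106) p3r107

theorem p3r108 : allRange pointOk 19 22020 45 = true := by decide +kernel
theorem p3u108 : ∀ k, 17160 ≤ k → k < 22065 → pointOk (k * 19) = true := between_extend pointOk 19 17160 22020 45 (p3u107) p3r108

theorem p3r109 : allRange pointOk 19 22065 45 = true := by decide +kernel
theorem p3u109 : ∀ k, 17160 ≤ k → k < 22110 → pointOk (k * 19) = true := between_extend pointOk 19 17160 22065 45 (p3u108) p3r109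

theorem p3r110 : allRange pointOk 19 22110 45 = true := by decide +kernel
theorem p3u110 : ∀ k, 17160 ≤ k → k < 22155 → pointOk (k * 19) = true := between_extend pointOk 19 17160 22110 45 (p3u109) p3r110

theorem p3r111 : allRange pointOk 19 22155 45 = true := by decide +kernel
theorem p3u111 : ∀ k, 17160 ≤ k → k < 22200 → pointOk (k * 19) = true := between_extend pointOk 19 17160 22155 45 (p3u110) p3r111

theorem p3r112 : allRange pointOk 19 22200 45 = true := by decide +kernel
theorem p3u112 : ∀ k, 17160 ≤ k → k < 22245 → pointOk (k * 19) = true := between_extend pointOk 19 17160 22200 45 (p3u111) p3r112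

theorem p3r113 : allRange pointOk 19 22245 45 = true := by decide +kernel
theorem p3u113 : ∀ k, 17160 ≤ k → k < 22290 → pointOk (k * 19) = true := between_extend pointOk 19 17160 22245 45 (p3u112) p3r113

theorem p3r114 : allRange pointOk 19 22290 45 = true := by decide +kernel
theorem p3u114 : ∀ k, 17160 ≤ k → k < 22335 → pointOk (k * 19) = true := between_extend pointOk 19 17160 22290 45 (p3u113) p3r114

theorem p3r115 : allRange pointOk 19 22335 45 = true := by decide +kernel
theorem p3u115 : ∀ k, 17160 ≤ k → k < 22380 → pointOk (k * 19) = true := between_extend pointOk 19 17160 22335 45 (p3u114) p3r115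

theorem p3r116 : allRange pointOk 19 22380 45 = true := by decide +kernel
theorem p3u116 : ∀ k, 17160 ≤ k → k < 22425 → pointOk (k * 19) = true := between_extend pointOk 19 17160 22380 45 (p3u115) p3r116

theorem p3r117 : allRange pointOk 19 22425 45 = true := by decide +kernel
theorem p3u117 : ∀ k, 17160 ≤ k → k < 22470 → pointOk (k * 19) = true := between_extend pointOk 19 17160 22425 45 (p3u116) p3r117

theorem p3r118 : allRange pointOk 19 22470 45 = true := by decide +kernel
theorem p3u118 : ∀ k, 17160 ≤ k → k < 22515 → pointOk (k * 19) = true := between_extend pointOk 19 17160 22470 45 (p3u117) p3r118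

theorem p3r119 : allRange pointOk 19 22515 45 = true := by decide +kernel
theorem p3u119 : ∀ k, 17160 ≤ k → k < 22560 → pointOk (k * 19) = true := between_extend pointOk 19 17160 22515 45 (p3u118) p3r119

theorem p3r120 : allRange pointOk 19 22560 45 = true := by decide +kernel
theorem p3u120 : ∀ k, 17160 ≤ k → k < 22605 → pointOk (k * 19) = true := between_extend pointOk 19 17160 22560 45 (p3u119) p3r120

theorem p3r121 : allRange pointOk 19 22605 45 = true := by decide +kernel
theorem p3u121 : ∀ k, 17160 ≤ k → k < 22650 → pointOk (k * 19) = true := between_extend pointOk 19 17160 22605 45 (p3u120) p3r121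

theorem p3r122 : allRange pointOk 19 22650 45 = true := by decide +kernel
theorem p3u122 : ∀ k, 17160 ≤ k → k < 22695 → pointOk (k * 19) = true := between_extend pointOk 19 17160 22650 45 (p3u121) p3r122

theorem p3r123 : allRange pointOk 19 22695 45 = true := by decide +kernel
theorem p3u123 : ∀ k, 17160 ≤ k → k < 22740 → pointOk (k * 19) = true := between_extend pointOk 19 17160 22695 45 (p3u122) p3r123

theorem p3r124 : allRange pointOk 19 22740 45 = true := by decide +kernel
theorem p3u124 : ∀ k, 17160 ≤ k → k < 22785 → pointOk (k * 19) = true := between_extend pointOk 19 17160 22740 45 (p3u123) p3r124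

theorem p3r125 : allRange pointOk 19 22785 45 = true := by decide +kernel
theorem p3u125 : ∀ k, 17160 ≤ k → k < 22830 → pointOk (k * 19) = true := between_extend pointOk 19 17160 22785 45 (p3u124) p3r125

theorem p3r126 : allRange pointOk 19 22830 45 = true := by decide +kernel
theorem p3u126 : ∀ k, 17160 ≤ k → k < 22875 → pointOk (k * 19) = true := between_extend pointOk 19 17160 22830 45 (p3u125) p3r126

theorem p3r127 : allRange pointOk 19 22875 5 = true := by decide +kernel
theorem p3u127 : ∀ k, 17160 ≤ k → k < 22880 → pointOk (k * 19) = true := between_extend pointOk 19 17160 22875 5 (p3u126) p3r127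

theorem p3 : ∀ k, 17160 ≤ k → k < 22880 → pointOk (k * 19) = true := p3u127

end Cfsg.Agent.Lib.Helper28_S1681
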