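import Cfsg.Agent.Lib.Helper28_S1681P0
import Cfsg.Agent.Lib.Helper28_S1681P1
import Cfsg.Agent.Lib.Helper28_S1681P2
import Cfsg.Agent.Lib.Helper28_S1681P3

set_option autoImplicit false
set_option linter.constructorNameAsVariable false
set_option Elab.async false

namespace Cfsg.Agent.Lib.Helper28_S1681

open Cfsg.Spor Cfsg.Agent.Lib.Helper28_CosetPerm Cfsg.Agent.Lib.Helper28_CosetCox Cfsg.Agent.Lib.Helper28_S1681Tab

theorem all_ok : ∀ k < 22880, pchk 434720 19 524287 col letters words (k * 19) = true := by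
  intro k hk
  rw [← pointOk_eq]
  exact between_all pointOk 19 22880 (between_trans pointOk 19 0 17160 22880 (between_trans pointOk 19 0 11440 17160 (between_trans pointOk 19 0 5720 11440 p0 p1) p2) p3) k hk

theorem all_letters : ∀ (a : Cfsg.Spor.Suz.Gen) (b : Bool), (a, b) ∈ letters := by
  intro a b; cases a <;> cases b <;> decide

theorem cox_covered : CoxCovered Suz.edges words := by decide

theorem extra_covered : ExtraCovered Suz.extra words := by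
  unfold ExtraCovered; decide

theorem sub_fix : ∀ s ∈ ({Cfsg.Spor.Suz.a, Cfsg.Spor.Suz.b, Cfsg.Spor.Suz.c, Cfsg.Spor.Suz.d, Cfsg.Spor.Suz.f, Cfsg.Spor.Suz.g} : Set (FreeGroup Cfsg.Spor.Suz.Gen)), ∃ u : List (Cfsg.Spor.Suz.Gen × Bool), FreeGroup.mk u = s ∧ walk 524287 col u 0 = 0 := by
  intro s hs
  simp only [Set.mem_insert_iff, Set.mem_singleton_iff] at hs
  rcases hs with rfl | rfl | rfl | rfl | rfl | rfl
  · exact ⟨[(.a, true)], by decide, by decide +kernel⟩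
  · exact ⟨[(.b, true)], by decide, by decide +kernel⟩
  · exact ⟨[(.c, true)], by decide, by decide +kernel⟩
  · exact ⟨[(.d, true)], by decide, by decide +kernel⟩
  · exact ⟨[(.f, true)], by decide, by decide +kernel⟩
  · exact ⟨[(.g, true)], by decide, by decide +kernel⟩

instance : NeZero (22880 : ℕ) := ⟨by norm_num⟩

theorem verified : Verified 22880 19 524287 col (Cfsg.Spor.coxRelators Cfsg.Spor.Suz.edges ∪ {r | r ∈ Cfsg.Spor.Suz.extra}) ({Cfsg.Spor.Suz.a, Cfsg.Spor.Suz.b, Cfsg.Spor.Suz.c, Cfsg.Spor.Suz.d, Cfsg.Spor.Suz.f, Cfsg.Spor.Suz.g} : Set (FreeGroup Cfsg.Spor.Suz.Gen)) :=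
  verified_of_table (n := 22880) (w := 19) (mask := 524287) (col := col) 434720 (by norm_num) (by norm_num) letters all_letters Suz.edges Suz.extra words all_ok cox_covered extra_covered _ sub_fix

/-- the lower bound, index part -/
theorem lower_index (hfin : ((Subgroup.closure ({Cfsg.Spor.Suz.a, Cfsg.Spor.Suz.b, Cfsg.Spor.Suz.c, Cfsg.Spor.Suz.d, Cfsg.Spor.Suz.f, Cfsg.Spor.Suz.g} : Set (FreeGroup Cfsg.Spor.Suz.Gen))).map (PresentedGroup.mk (Cfsg.Spor.coxRelators Cfsg.Spor.Suz.edges ∪ {r | r ∈ Cfsg.Spor.Suz.extra}))).index ≠ 0) (hle : ((Subgroup.closure ({Cfsg.Spor.Suz.a, Cfsg.Spor.Suz.b, Cfsg.Spor.Suz.c, Cfsg.Spor.Suz.d, Cfsg.Spor.Suz.f, Cfsg.Spor.Suz.g} : Set (FreeGroup Cfsg.Spor.Suz.Gen))).map (PresentedGroup.mk (Cfsg.Spor.coxRelators Cfsg.Spor.Suz.edges ∪ {r | r ∈ Cfsg.Spor.Suz.extra}))).index ≤ 22880) : ((Subgroup.closure ({Cfsg.Spor.Suz.a, Cfsg.Spor.Suz.b, Cfsg.Spor.Suz.c, Cfsg.Spor.Suz.d, Cfsg.Spor.Suz.f,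 Cfsg.Spor.Suz.g} : Set (FreeGroup Cfsg.Spor.Suz.Gen))).map (PresentedGroup.mk (Cfsg.Spor.coxRelators Cfsg.Spor.Suz.edges ∪ {r | r ∈ Cfsg.Spor.Suz.extra}))).index = 22880 :=
  verified.index_eq hfin hle

end Cfsg.Agent.Lib.Helper28_S1681
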