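import Cfsg.Agent.Lib.Helper28_CosetCox
import Cfsg.Agent.Lib.Helper28_S1681Tab
import Cfsg.Prelude.Def_Spor_Suz

set_option autoImplicit false
set_option linter.constructorNameAsVariable false
set_option Elab.async false

namespace Cfsg.Agent.Lib.Helper28_S1681

open Cfsg.Spor Cfsg.Agent.Lib.Helper28_CosetPerm Cfsg.Agent.Lib.Helper28_CosetCox Cfsg.Agent.Lib.Helper28_S1681Tab

/-- the packed column of a letter -/
def col : Cfsg.Spor.Suz.Gen → Bool → ℕ
  | .a, _ => cA
  | .b, _ => cB
  | .c, _ => cC
  | .d, _ => cD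
  | .e, _ => cE
  | .f, _ => cF
  | .g, _ => cG

/-- all letters -/
def letters : List (Cfsg.Spor.Suz.Gen × Bool) := [(.a, true), (.b, true), (.c, true), (.d, true), (.e, true), (.f, true), (.g, true), (.a, false), (.b, false), (.c, false), (.d, false), (.e, false), (.f, false), (.g, false)]

/-- the checked words -/
def words : List (List (Cfsg.Spor.Suz.Gen × Bool)) := [
  [(.a, true), (.a, true)],
  [(.a, true), (.b, true), (.a, true), (.b, true), (.a, true), (.b, true), (.a, true), (.b, true), (.a, true), (.b, true)],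
  [(.a, true), (.c, true), (.a, true), (.c, true)],
  [(.a, true), (.d, true), (.a, true), (.d, true)],
  [(.a, true), (.f, true), (.a, true), (.f, true)],
  [(.a, true), (.g, true), (.a, true), (.g, true)],
  [(.a, true), (.e, true), (.a, true), (.e, true)],
  [(.b, true), (.b, true)],
  [(.b, true), (.c, true), (.b, true), (.c, true), (.b, true), (.c, true)],
  [(.b, true), (.d, true), (.b, true), (.d, true)],
  [(.b, true), (.f, true), (.b, true), (.f, true), (.b, true), (.f, true)],
  [(.b, true), (.g, true), (.b, true), (.g, true), (.b, true), (.g, true)],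
  [(.b, true), (.e, true), (.b, true), (.e, true)],
  [(.c, true), (.c, true)],
  [(.c, true), (.d, true), (.c, true), (.d, true), (.c, true), (.d, true), (.c, true), (.d, true), (.c, true), (.d, true), (.c, true), (.d, true), (.c, true), (.d, true), (.c, true), (.d, true)],
  [(.c, true), (.f, true), (.c, true), (.f, true)],
  [(.c, true), (.g, true), (.c, true), (.g, true)],
  [(.c, true), (.e, true), (.c, true), (.e, true)],
  [(.d, true), (.d, true)],
  [(.d, true), (.f, true), (.d, true), (.f, true)],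
  [(.d, true), (.g, true), (.d, true), (.g, true)],
  [(.d, true), (.e, true), (.d, true), (.e, true), (.d, true), (.e, true)],
  [(.f, true), (.f, true)],
  [(.f, true), (.g, true), (.f, true), (.g, true), (.f, true), (.g, true), (.f, true), (.g, true)],
  [(.g, true), (.g, true)],
  [(.e, true), (.f, true), (.e, true), (.f, true)],
  [(.e, true), (.g, true), (.e, true), (.g, true)],
  [(.e, true), (.e, true)],
  [(.a, true), (.d, false), (.c, false), (.d, false), (.c, false), (.d, false), (.c, false), (.d, false), (.c, false)],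
  [(.a, true), (.g, false), (.f, false), (.g, false), (.f, false)],
  [(.a, true), (.b, true), (.c, true), (.f, true), (.a, true), (.b, true), (.c, true), (.f, true), (.a, true), (.b, true), (.c, true), (.f, true), (.a, true), (.b, true), (.c, true), (.f, true), (.a, true), (.b, true), (.c, true), (.f, true)],
  [(.b, true), (.f, true), (.g, true), (.b, true), (.f, true), (.g, true), (.b, true), (.f, true), (.g, true), (.b, true), (.f, true), (.g, true), (.b, true), (.f, true), (.g, true)],
  [(.b, true), (.c, true), (.d, true), (.c, true), (.d, true), (.b, true), (.c, true), (.d, true), (.c, true), (.d, true), (.b, true), (.c, true), (.d, true), (.c, true), (.d, true), (.b, true), (.c, true), (.d, true), (.c, true), (.d, true), (.b, true), (.c, true), (.d, true), (.c, true), (.d, true), (.e, true), (.b, true), (.c, true), (.d, true), (.c, true), (.d, true), (.b, true), (.c, true), (.d, true), (.c, true), (.d, true), (.b, true), (.c, true), (.d, true), (.c, true), (.d, true), (.b, true), (.c, true),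 (.d, true), (.c, true), (.d, true), (.b, true), (.c, true), (.d, true), (.c, true), (.d, true), (.e, true), (.b, true), (.c, true), (.d, true), (.c, true), (.d, true), (.b, true), (.c, true), (.d, true), (.c, true), (.d, true), (.b, true), (.c, true), (.d, true), (.c, true), (.d, true), (.b, true), (.c, true), (.d, true), (.c, true), (.d, true), (.b, true), (.c, true), (.d, true), (.c, true), (.d, true), (.e, true)]]

/-- the unrolled pointwise check -/
def pointOk (x : ℕ) : Bool :=
  and (and (and (Nat.beq (Nat.mod (Nat.land (Nat.shiftRight cA x) 524287) 19) 0) (and (Nat.blt (Nat.land (Nat.shiftRight cA x) 524287) 434720) (Nat.beq (Nat.land (Nat.shiftRight cA (Nat.land (Nat.shiftRight cA x) 524287)) 524287) x))) (and (and (Nat.beq (Nat.mod (Nat.land (Nat.shiftRight cB x) 524287) 19) 0) (and (Nat.blt (Nat.land (Nat.shiftRight cB x) 524287) 434720) (Nat.beq (Nat.land (Nat.shiftRight cB (Nat.land (Nat.shiftRight cB x) 524287)) 524287) x))) (and (and (Nat.beq (Nat.mod (Nat.land (Nat.shiftRight cC x) 524287)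 19) 0) (and (Nat.blt (Nat.land (Nat.shiftRight cC x) 524287) 434720) (Nat.beq (Nat.land (Nat.shiftRight cC (Nat.land (Nat.shiftRight cC x) 524287)) 524287) x))) (and (and (Nat.beq (Nat.mod (Nat.land (Nat.shiftRight cD x) 524287) 19) 0) (and (Nat.blt (Nat.land (Nat.shiftRight cD x) 524287) 434720) (Nat.beq (Nat.land (Nat.shiftRight cD (Nat.land (Nat.shiftRight cD x) 524287)) 524287) x))) (and (and (Nat.beq (Nat.mod (Nat.land (Nat.shiftRight cE x) 524287) 19) 0) (and (Nat.blt (Nat.land (Nat.shiftRight cE x) 524287) 434720) (Nat.beq (Nat.land (Nat.shiftRight cE (Nat.land (Nat.shiftRight cE x) 524287)) 524287) x))) (and (and (Nat.beq (Nat.mod (Nat.land (Nat.shiftRight cF x) 524287) 19) 0) (and (Nat.blt (Nat.land (Nat.shiftRight cF x) 524287) 434720) (Nat.beq (Nat.land (Nat.shiftRight cF (Nat.land (Nat.shiftRight cF x) 524287)) 524287) x))) (and (and (Nat.beq (Nat.mod (Nat.land (Nat.shiftRight cG x) 524287) 19) 0) (and (Nat.blt (Nat.land (Nat.shiftRight cG x) 524287) 434720) (Nat.beq (Nat.land (Nat.shiftRight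 cG (Nat.land (Nat.shiftRight cG x) 524287)) 524287) x))) (and (and (Nat.beq (Nat.mod (Nat.land (Nat.shiftRight cA x) 524287) 19) 0) (and (Nat.blt (Nat.land (Nat.shiftRight cA x) 524287) 434720) (Nat.beq (Nat.land (Nat.shiftRight cA (Nat.land (Nat.shiftRight cA x) 524287)) 524287) x))) (and (and (Nat.beq (Nat.mod (Nat.land (Nat.shiftRight cB x) 524287) 19) 0) (and (Nat.blt (Nat.land (Nat.shiftRight cB x) 524287) 434720) (Nat.beq (Nat.land (Nat.shiftRight cB (Nat.land (Nat.shiftRight cB x) 524287)) 524287) x))) (and (and (Nat.beq (Nat.mod (Nat.land (Nat.shiftRight cC x) 524287) 19) 0) (and (Nat.blt (Nat.land (Nat.shiftRight cC x) 524287) 434720) (Nat.beq (Nat.land (Nat.shiftRight cC (Nat.land (Nat.shiftRight cC x) 524287)) 524287) x))) (and (and (Nat.beq (Nat.mod (Nat.land (Nat.shiftRight cD x) 524287) 19) 0) (and (Nat.blt (Nat.land (Nat.shiftRight cD x) 524287) 434720) (Nat.beq (Nat.land (Nat.shiftRight cD (Nat.land (Nat.shiftRight cD x) 524287)) 524287) x))) (and (and (Nat.beq (Nat.mod (Nat.land (Nat.shiftRight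 cE x) 524287) 19) 0) (and (Nat.blt (Nat.land (Nat.shiftRight cE x) 524287) 434720) (Nat.beq (Nat.land (Nat.shiftRight cE (Nat.land (Nat.shiftRight cE x) 524287)) 524287) x))) (and (and (Nat.beq (Nat.mod (Nat.land (Nat.shiftRight cF x) 524287) 19) 0) (and (Nat.blt (Nat.land (Nat.shiftRight cF x) 524287) 434720) (Nat.beq (Nat.land (Nat.shiftRight cF (Nat.land (Nat.shiftRight cF x) 524287)) 524287) x))) (and (and (Nat.beq (Nat.mod (Nat.land (Nat.shiftRight cG x) 524287) 19) 0) (and (Nat.blt (Nat.land (Nat.shiftRight cG x) 524287) 434720) (Nat.beq (Nat.land (Nat.shiftRight cG (Nat.land (Nat.shiftRight cG x) 524287)) 524287) x))) true))))))))))))))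
    (and (and (Nat.beq (Nat.land (Nat.shiftRight cA (Nat.land (Nat.shiftRight cA x) 524287)) 524287) x) (and (Nat.beq (Nat.land (Nat.shiftRight cB (Nat.land (Nat.shiftRight cA (Nat.land (Nat.shiftRight cB (Nat.land (Nat.shiftRight cA (Nat.land (Nat.shiftRight cB (Nat.land (Nat.shiftRight cA (Nat.land (Nat.shiftRight cB (Nat.land (Nat.shiftRight cA (Nat.land (Nat.shiftRight cB (Nat.land (Nat.shiftRight cA x) 524287)) 524287)) 524287)) 524287)) 524287)) 524287)) 524287)) 524287)) 524287)) 524287) x) (and (Nat.beq (Nat.land (Nat.shiftRight cC (Nat.land (Nat.shiftRight cA (Nat.land (Nat.shiftRight cC (Nat.land (Nat.shiftRight cA x) 524287)) 524287)) 524287)) 524287) x) (and (Nat.beq (Nat.land (Nat.shiftRight cD (Nat.land (Nat.shiftRight cA (Nat.land (Nat.shiftRight cD (Nat.land (Nat.shiftRight cA x) 524287)) 524287)) 524287)) 524287) x) (and (Nat.beq (Nat.land (Nat.shiftRight cF (Nat.land (Nat.shiftRight cA (Nat.land (Nat.shiftRight cF (Nat.land (Nat.shiftRight cA x) 524287)) 524287)) 524287)) 524287) x)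 (and (Nat.beq (Nat.land (Nat.shiftRight cG (Nat.land (Nat.shiftRight cA (Nat.land (Nat.shiftRight cG (Nat.land (Nat.shiftRight cA x) 524287)) 524287)) 524287)) 524287) x) (and (Nat.beq (Nat.land (Nat.shiftRight cE (Nat.land (Nat.shiftRight cA (Nat.land (Nat.shiftRight cE (Nat.land (Nat.shiftRight cA x) 524287)) 524287)) 524287)) 524287) x) (and (Nat.beq (Nat.land (Nat.shiftRight cB (Nat.land (Nat.shiftRight cB x) 524287)) 524287) x) (and (Nat.beq (Nat.land (Nat.shiftRight cC (Nat.land (Nat.shiftRight cB (Nat.land (Nat.shiftRight cC (Nat.land (Nat.shiftRight cB (Nat.land (Nat.shiftRight cC (Nat.land (Nat.shiftRight cB x) 524287)) 524287)) 524287)) 524287)) 524287)) 524287) x) (and (Nat.beq (Nat.land (Nat.shiftRight cD (Nat.land (Nat.shiftRight cB (Nat.land (Nat.shiftRight cD (Nat.land (Nat.shiftRight cB x) 524287)) 524287)) 524287)) 524287) x) (and (Nat.beq (Nat.land (Nat.shiftRight cF (Nat.land (Nat.shiftRight cB (Nat.land (Nat.shiftRight cF (Nat.land (Nat.shiftRight cB (Nat.land (Nat.shiftRight cF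 (Nat.land (Nat.shiftRight cB x) 524287)) 524287)) 524287)) 524287)) 524287)) 524287) x) (and (Nat.beq (Nat.land (Nat.shiftRight cG (Nat.land (Nat.shiftRight cB (Nat.land (Nat.shiftRight cG (Nat.land (Nat.shiftRight cB (Nat.land (Nat.shiftRight cG (Nat.land (Nat.shiftRight cB x) 524287)) 524287)) 524287)) 524287)) 524287)) 524287) x) (and (Nat.beq (Nat.land (Nat.shiftRight cE (Nat.land (Nat.shiftRight cB (Nat.land (Nat.shiftRight cE (Nat.land (Nat.shiftRight cB x) 524287)) 524287)) 524287)) 524287) x) (and (Nat.beq (Nat.land (Nat.shiftRight cC (Nat.land (Nat.shiftRight cC x) 524287)) 524287) x) (and (Nat.beq (Nat.land (Nat.shiftRight cD (Nat.land (Nat.shiftRight cC (Nat.land (Nat.shiftRight cD (Nat.land (Nat.shiftRight cC (Nat.land (Nat.shiftRight cD (Nat.land (Nat.shiftRight cC (Nat.land (Nat.shiftRight cD (Nat.land (Nat.shiftRight cC (Nat.land (Nat.shiftRight cD (Nat.land (Nat.shiftRight cC (Nat.land (Nat.shiftRight cD (Nat.land (Nat.shiftRight cC (Nat.land (Nat.shiftRight cD (Nat.land (Nat.shiftRight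 cC (Nat.land (Nat.shiftRight cD (Nat.land (Nat.shiftRight cC x) 524287)) 524287)) 524287)) 524287)) 524287)) 524287)) 524287)) 524287)) 524287)) 524287)) 524287)) 524287)) 524287)) 524287)) 524287)) 524287) x) (and (Nat.beq (Nat.land (Nat.shiftRight cF (Nat.land (Nat.shiftRight cC (Nat.land (Nat.shiftRight cF (Nat.land (Nat.shiftRight cC x) 524287)) 524287)) 524287)) 524287) x) (and (Nat.beq (Nat.land (Nat.shiftRight cG (Nat.land (Nat.shiftRight cC (Nat.land (Nat.shiftRight cG (Nat.land (Nat.shiftRight cC x) 524287)) 524287)) 524287)) 524287) x) (and (Nat.beq (Nat.land (Nat.shiftRight cE (Nat.land (Nat.shiftRight cC (Nat.land (Nat.shiftRight cE (Nat.land (Nat.shiftRight cC x) 524287)) 524287)) 524287)) 524287) x) (and (Nat.beq (Nat.land (Nat.shiftRight cD (Nat.land (Nat.shiftRight cD x) 524287)) 524287) x) (and (Nat.beq (Nat.land (Nat.shiftRight cF (Nat.land (Nat.shiftRight cD (Nat.land (Nat.shiftRight cF (Nat.land (Nat.shiftRight cD x) 524287)) 524287)) 524287)) 524287) x) (and (Nat.beq (Nat.land (Nat.shiftRight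 cG (Nat.land (Nat.shiftRight cD (Nat.land (Nat.shiftRight cG (Nat.land (Nat.shiftRight cD x) 524287)) 524287)) 524287)) 524287) x) (and (Nat.beq (Nat.land (Nat.shiftRight cE (Nat.land (Nat.shiftRight cD (Nat.land (Nat.shiftRight cE (Nat.land (Nat.shiftRight cD (Nat.land (Nat.shiftRight cE (Nat.land (Nat.shiftRight cD x) 524287)) 524287)) 524287)) 524287)) 524287)) 524287) x) (and (Nat.beq (Nat.land (Nat.shiftRight cF (Nat.land (Nat.shiftRight cF x) 524287)) 524287) x) (and (Nat.beq (Nat.land (Nat.shiftRight cG (Nat.land (Nat.shiftRight cF (Nat.land (Nat.shiftRight cG (Nat.land (Nat.shiftRight cF (Nat.land (Nat.shiftRight cG (Nat.land (Nat.shiftRight cF (Nat.land (Nat.shiftRight cG (Nat.land (Nat.shiftRight cF x) 524287)) 524287)) 524287)) 524287)) 524287)) 524287)) 524287)) 524287) x) (and (Nat.beq (Nat.land (Nat.shiftRight cG (Nat.land (Nat.shiftRight cG x) 524287)) 524287) x) (and (Nat.beq (Nat.land (Nat.shiftRight cF (Nat.land (Nat.shiftRight cE (Nat.land (Nat.shiftRight cF (Nat.land (Nat.shiftRight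 cE x) 524287)) 524287)) 524287)) 524287) x) (and (Nat.beq (Nat.land (Nat.shiftRight cG (Nat.land (Nat.shiftRight cE (Nat.land (Nat.shiftRight cG (Nat.land (Nat.shiftRight cE x) 524287)) 524287)) 524287)) 524287) x) (and (Nat.beq (Nat.land (Nat.shiftRight cE (Nat.land (Nat.shiftRight cE x) 524287)) 524287) x) (and (Nat.beq (Nat.land (Nat.shiftRight cC (Nat.land (Nat.shiftRight cD (Nat.land (Nat.shiftRight cC (Nat.land (Nat.shiftRight cD (Nat.land (Nat.shiftRight cC (Nat.land (Nat.shiftRight cD (Nat.land (Nat.shiftRight cC (Nat.land (Nat.shiftRight cD (Nat.land (Nat.shiftRight cA x) 524287)) 524287)) 524287)) 524287)) 524287)) 524287)) 524287)) 524287)) 524287) x) (and (Nat.beq (Nat.land (Nat.shiftRight cF (Nat.land (Nat.shiftRight cG (Nat.land (Nat.shiftRight cF (Nat.land (Nat.shiftRight cG (Nat.land (Nat.shiftRight cA x) 524287)) 524287)) 524287)) 524287)) 524287) x) (and (Nat.beq (Nat.land (Nat.shiftRight cF (Nat.land (Nat.shiftRight cC (Nat.land (Nat.shiftRight cB (Nat.land (Nat.shiftRight cA (Nat.land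 (Nat.shiftRight cF (Nat.land (Nat.shiftRight cC (Nat.land (Nat.shiftRight cB (Nat.land (Nat.shiftRight cA (Nat.land (Nat.shiftRight cF (Nat.land (Nat.shiftRight cC (Nat.land (Nat.shiftRight cB (Nat.land (Nat.shiftRight cA (Nat.land (Nat.shiftRight cF (Nat.land (Nat.shiftRight cC (Nat.land (Nat.shiftRight cB (Nat.land (Nat.shiftRight cA (Nat.land (Nat.shiftRight cF (Nat.land (Nat.shiftRight cC (Nat.land (Nat.shiftRight cB (Nat.land (Nat.shiftRight cA x) 524287)) 524287)) 524287)) 524287)) 524287)) 524287)) 524287)) 524287)) 524287)) 524287)) 524287)) 524287)) 524287)) 524287)) 524287)) 524287)) 524287)) 524287)) 524287)) 524287) x) (and (Nat.beq (Nat.land (Nat.shiftRight cG (Nat.land (Nat.shiftRight cF (Nat.land (Nat.shiftRight cB (Nat.land (Nat.shiftRight cG (Nat.land (Nat.shiftRight cF (Nat.land (Nat.shiftRight cB (Nat.land (Nat.shiftRight cG (Nat.land (Nat.shiftRight cF (Nat.land (Nat.shiftRight cB (Nat.land (Nat.shiftRight cG (Nat.land (Nat.shiftRight cF (Nat.land (Nat.shiftRight cB (Nat.land (Nat.shiftRight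 cG (Nat.land (Nat.shiftRight cF (Nat.land (Nat.shiftRight cB x) 524287)) 524287)) 524287)) 524287)) 524287)) 524287)) 524287)) 524287)) 524287)) 524287)) 524287)) 524287)) 524287)) 524287)) 524287) x) (and (Nat.beq (Nat.land (Nat.shiftRight cE (Nat.land (Nat.shiftRight cD (Nat.land (Nat.shiftRight cC (Nat.land (Nat.shiftRight cD (Nat.land (Nat.shiftRight cC (Nat.land (Nat.shiftRight cB (Nat.land (Nat.shiftRight cD (Nat.land (Nat.shiftRight cC (Nat.land (Nat.shiftRight cD (Nat.land (Nat.shiftRight cC (Nat.land (Nat.shiftRight cB (Nat.land (Nat.shiftRight cD (Nat.land (Nat.shiftRight cC (Nat.land (Nat.shiftRight cD (Nat.land (Nat.shiftRight cC (Nat.land (Nat.shiftRight cB (Nat.land (Nat.shiftRight cD (Nat.land (Nat.shiftRight cC (Nat.land (Nat.shiftRight cD (Nat.land (Nat.shiftRight cC (Nat.land (Nat.shiftRight cB (Nat.land (Nat.shiftRight cD (Nat.land (Nat.shiftRight cC (Nat.land (Nat.shiftRight cD (Nat.land (Nat.shiftRight cC (Nat.land (Nat.shiftRight cB (Nat.land (Nat.shiftRight cE (Nat.land (Nat.shiftRight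 cD (Nat.land (Nat.shiftRight cC (Nat.land (Nat.shiftRight cD (Nat.land (Nat.shiftRight cC (Nat.land (Nat.shiftRight cB (Nat.land (Nat.shiftRight cD (Nat.land (Nat.shiftRight cC (Nat.land (Nat.shiftRight cD (Nat.land (Nat.shiftRight cC (Nat.land (Nat.shiftRight cB (Nat.land (Nat.shiftRight cD (Nat.land (Nat.shiftRight cC (Nat.land (Nat.shiftRight cD (Nat.land (Nat.shiftRight cC (Nat.land (Nat.shiftRight cB (Nat.land (Nat.shiftRight cD (Nat.land (Nat.shiftRight cC (Nat.land (Nat.shiftRight cD (Nat.land (Nat.shiftRight cC (Nat.land (Nat.shiftRight cB (Nat.land (Nat.shiftRight cD (Nat.land (Nat.shiftRight cC (Nat.land (Nat.shiftRight cD (Nat.land (Nat.shiftRight cC (Nat.land (Nat.shiftRight cB (Nat.land (Nat.shiftRight cE (Nat.land (Nat.shiftRight cD (Nat.land (Nat.shiftRight cC (Nat.land (Nat.shiftRight cD (Nat.land (Nat.shiftRight cC (Nat.land (Nat.shiftRight cB (Nat.land (Nat.shiftRight cD (Nat.land (Nat.shiftRight cC (Nat.land (Nat.shiftRight cD (Nat.land (Nat.shiftRight cC (Nat.land (Nat.shiftRight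 cB (Nat.land (Nat.shiftRight cD (Nat.land (Nat.shiftRight cC (Nat.land (Nat.shiftRight cD (Nat.land (Nat.shiftRight cC (Nat.land (Nat.shiftRight cB (Nat.land (Nat.shiftRight cD (Nat.land (Nat.shiftRight cC (Nat.land (Nat.shiftRight cD (Nat.land (Nat.shiftRight cC (Nat.land (Nat.shiftRight cB (Nat.land (Nat.shiftRight cD (Nat.land (Nat.shiftRight cC (Nat.land (Nat.shiftRight cD (Nat.land (Nat.shiftRight cC (Nat.land (Nat.shiftRight cB x) 524287)) 524287)) 524287)) 524287)) 524287)) 524287)) 524287)) 524287)) 524287)) 524287)) 524287)) 524287)) 524287)) 524287)) 524287)) 524287)) 524287)) 524287)) 524287)) 524287)) 524287)) 524287)) 524287)) 524287)) 524287)) 524287)) 524287)) 524287)) 524287)) 524287)) 524287)) 524287)) 524287)) 524287)) 524287)) 524287)) 524287)) 524287)) 524287)) 524287)) 524287)) 524287)) 524287)) 524287)) 524287)) 524287)) 524287)) 524287)) 524287)) 524287)) 524287)) 524287)) 524287)) 524287)) 524287)) 524287)) 524287)) 524287)) 524287)) 524287)) 524287)) 524287)) 524287)) 524287))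 524287)) 524287)) 524287)) 524287)) 524287)) 524287)) 524287)) 524287)) 524287)) 524287)) 524287)) 524287)) 524287)) 524287) x) true)))))))))))))))))))))))))))))))))
      (or (Nat.beq x 0) (or (Nat.blt (Nat.land (Nat.shiftRight cA x) 524287) x) (or (Nat.blt (Nat.land (Nat.shiftRight cB x) 524287) x) (or (Nat.blt (Nat.land (Nat.shiftRight cC x) 524287) x) (or (Nat.blt (Nat.land (Nat.shiftRight cD x) 524287) x) (or (Nat.blt (Nat.land (Nat.shiftRight cE x) 524287) x) (or (Nat.blt (Nat.land (Nat.shiftRight cF x) 524287) x) (or (Nat.blt (Nat.land (Nat.shiftRight cG x) 524287) x) (or (Nat.blt (Nat.land (Nat.shiftRight cA x) 524287) x) (or (Nat.blt (Nat.land (Nat.shiftRight cB x) 524287) x) (or (Nat.blt (Nat.land (Nat.shiftRight cC x) 524287) x) (or (Nat.blt (Nat.land (Nat.shiftRight cD x) 524287) x) (or (Nat.blt (Nat.land (Nat.shiftRight cE x) 524287) x) (or (Nat.blt (Nat.land (Nat.shiftRight cF x) 524287) x) (or (Nat.blt (Nat.land (Nat.shiftRight cG x) 524287) x) false))))))))))))))))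

set_option maxRecDepth 1000000 in
theorem pointOk_eq (x : ℕ) : pointOk x = pchk 434720 19 524287 col letters words x := rfl

end Cfsg.Agent.Lib.Helper28_S1681
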