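import Cfsg.Agent.Lib.Helper28_S1681Def

set_option autoImplicit false
set_option linter.constructorNameAsVariable false
set_option Elab.async false

namespace Cfsg.Agent.Lib.Helper28_S1681

open Cfsg.Agent.Lib.Helper28_CosetPerm

theorem p0r0 : allRange pointOk 19 0 45 = true := by decide +kernel
theorem p0u0 : ∀ k, 0 ≤ k → k < 45 → pointOk (k * 19) = true := between_extend pointOk 19 0 0 45 (between_start pointOk 19 0) p0r0

theorem p0r1 : allRange pointOk 19 45 45 = true := by decide +kernel
theorem p0u1 : ∀ k, 0 ≤ k → k < 90 → pointOk (k * 19) = true := between_extend pointOk 19 0 45 45 (p0u0) p0r1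

theorem p0r2 : allRange pointOk 19 90 45 = true := by decide +kernel
theorem p0u2 : ∀ k, 0 ≤ k → k < 135 → pointOk (k * 19) = true := between_extend pointOk 19 0 90 45 (p0u1) p0r2

theorem p0r3 : allRange pointOk 19 135 45 = true := by decide +kernel
theorem p0u3 : ∀ k, 0 ≤ k → k < 180 → pointOk (k * 19) = true := between_extend pointOk 19 0 135 45 (p0u2) p0r3

theorem p0r4 : allRange pointOk 19 180 45 = true := by decide +kernel
theorem p0u4 : ∀ k, 0 ≤ k → k < 225 → pointOk (k * 19) = true := between_extend pointOk 19 0 180 45 (p0u3) p0r4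

theorem p0r5 : allRange pointOk 19 225 45 = true := by decide +kernel
theorem p0u5 : ∀ k, 0 ≤ k → k < 270 → pointOk (k * 19) = true := between_extend pointOk 19 0 225 45 (p0u4) p0r5

theorem p0r6 : allRange pointOk 19 270 45 = true := by decide +kernel
theorem p0u6 : ∀ k, 0 ≤ k → k < 315 → pointOk (k * 19) = true := between_extend pointOk 19 0 270 45 (p0u5) p0r6

theorem p0r7 : allRange pointOk 19 315 45 = true := by decide +kernel
theorem p0u7 : ∀ k, 0 ≤ k → k < 360 → pointOk (k * 19) = true := between_extend pointOk 19 0 315 45 (p0u6) p0r7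

theorem p0r8 : allRange pointOk 19 360 45 = true := by decide +kernel
theorem p0u8 : ∀ k, 0 ≤ k → k < 405 → pointOk (k * 19) = true := between_extend pointOk 19 0 360 45 (p0u7) p0r8

theorem p0r9 : allRange pointOk 19 405 45 = true := by decide +kernel
theorem p0u9 : ∀ k, 0 ≤ k → k < 450 → pointOk (k * 19) = true := between_extend pointOk 19 0 405 45 (p0u8) p0r9

theorem p0r10 : allRange pointOk 19 450 45 = true := by decide +kernel
theorem p0u10 : ∀ k, 0 ≤ k → k < 495 → pointOk (k * 19) = true := between_extend pointOk 19 0 450 45 (p0u9) p0r10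

theorem p0r11 : allRange pointOk 19 495 45 = true := by decide +kernel
theorem p0u11 : ∀ k, 0 ≤ k → k < 540 → pointOk (k * 19) = true := between_extend pointOk 19 0 495 45 (p0u10) p0r11

theorem p0r12 : allRange pointOk 19 540 45 = true := by decide +kernel
theorem p0u12 : ∀ k, 0 ≤ k → k < 585 → pointOk (k * 19) = true := between_extend pointOk 19 0 540 45 (p0u11) p0r12

theorem p0r13 : allRange pointOk 19 585 45 = true := by decide +kernel
theorem p0u13 : ∀ k, 0 ≤ k → k < 630 → pointOk (k * 19) = true := between_extend pointOk 19 0 585 45 (p0u12) p0r13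

theorem p0r14 : allRange pointOk 19 630 45 = true := by decide +kernel
theorem p0u14 : ∀ k, 0 ≤ k → k < 675 → pointOk (k * 19) = true := between_extend pointOk 19 0 630 45 (p0u13) p0r14

theorem p0r15 : allRange pointOk 19 675 45 = true := by decide +kernel
theorem p0u15 : ∀ k, 0 ≤ k → k < 720 → pointOk (k * 19) = true := between_extend pointOk 19 0 675 45 (p0u14) p0r15

theorem p0r16 : allRange pointOk 19 720 45 = true := by decide +kernel
theorem p0u16 : ∀ k, 0 ≤ k → k < 765 → pointOk (k * 19) = true := between_extend pointOk 19 0 720 45 (p0u15) p0r16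

theorem p0r17 : allRange pointOk 19 765 45 = true := by decide +kernel
theorem p0u17 : ∀ k, 0 ≤ k → k < 810 → pointOk (k * 19) = true := between_extend pointOk 19 0 765 45 (p0u16) p0r17

theorem p0r18 : allRange pointOk 19 810 45 = true := by decide +kernel
theorem p0u18 : ∀ k, 0 ≤ k → k < 855 → pointOk (k * 19) = true := between_extend pointOk 19 0 810 45 (p0u17) p0r18

theorem p0r19 : allRange pointOk 19 855 45 = true := by decide +kernel
theorem p0u19 : ∀ k, 0 ≤ k → k < 900 → pointOk (k * 19) = true := between_extend pointOk 19 0 855 45 (p0u18) p0r19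

theorem p0r20 : allRange pointOk 19 900 45 = true := by decide +kernel
theorem p0u20 : ∀ k, 0 ≤ k → k < 945 → pointOk (k * 19) = true := between_extend pointOk 19 0 900 45 (p0u19) p0r20

theorem p0r21 : allRange pointOk 19 945 45 = true := by decide +kernel
theorem p0u21 : ∀ k, 0 ≤ k → k < 990 → pointOk (k * 19) = true := between_extend pointOk 19 0 945 45 (p0u20) p0r21

theorem p0r22 : allRange pointOk 19 990 45 = true := by decide +kernel
theorem p0u22 : ∀ k, 0 ≤ k → k < 1035 → pointOk (k * 19) = true := between_extend pointOk 19 0 990 45 (p0u21) p0r22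

theorem p0r23 : allRange pointOk 19 1035 45 = true := by decide +kernel
theorem p0u23 : ∀ k, 0 ≤ k → k < 1080 → pointOk (k * 19) = true := between_extend pointOk 19 0 1035 45 (p0u22) p0r23

theorem p0r24 : allRange pointOk 19 1080 45 = true := by decide +kernel
theorem p0u24 : ∀ k, 0 ≤ k → k < 1125 → pointOk (k * 19) = true := between_extend pointOk 19 0 1080 45 (p0u23) p0r24

theorem p0r25 : allRange pointOk 19 1125 45 = true := by decide +kernel
theorem p0u25 : ∀ k, 0 ≤ k → k < 1170 → pointOk (k * 19) = true := between_extend pointOk 19 0 1125 45 (p0u24) p0r25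

theorem p0r26 : allRange pointOk 19 1170 45 = true := by decide +kernel
theorem p0u26 : ∀ k, 0 ≤ k → k < 1215 → pointOk (k * 19) = true := between_extend pointOk 19 0 1170 45 (p0u25) p0r26

theorem p0r27 : allRange pointOk 19 1215 45 = true := by decide +kernel
theorem p0u27 : ∀ k, 0 ≤ k → k < 1260 → pointOk (k * 19) = true := between_extend pointOk 19 0 1215 45 (p0u26) p0r27

theorem p0r28 : allRange pointOk 19 1260 45 = true := by decide +kernel
theorem p0u28 : ∀ k, 0 ≤ k → k < 1305 → pointOk (k * 19) = true := between_extend pointOk 19 0 1260 45 (p0u27) p0r28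

theorem p0r29 : allRange pointOk 19 1305 45 = true := by decide +kernel
theorem p0u29 : ∀ k, 0 ≤ k → k < 1350 → pointOk (k * 19) = true := between_extend pointOk 19 0 1305 45 (p0u28) p0r29

theorem p0r30 : allRange pointOk 19 1350 45 = true := by decide +kernel
theorem p0u30 : ∀ k, 0 ≤ k → k < 1395 → pointOk (k * 19) = true := between_extend pointOk 19 0 1350 45 (p0u29) p0r30

theorem p0r31 : allRange pointOk 19 1395 45 = true := by decide +kernel
theorem p0u31 : ∀ k, 0 ≤ k → k < 1440 → pointOk (k * 19) = true := between_extend pointOk 19 0 1395 45 (p0u30) p0r31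

theorem p0r32 : allRange pointOk 19 1440 45 = true := by decide +kernel
theorem p0u32 : ∀ k, 0 ≤ k → k < 1485 → pointOk (k * 19) = true := between_extend pointOk 19 0 1440 45 (p0u31) p0r32

theorem p0r33 : allRange pointOk 19 1485 45 = true := by decide +kernel
theorem p0u33 : ∀ k, 0 ≤ k → k < 1530 → pointOk (k * 19) = true := between_extend pointOk 19 0 1485 45 (p0u32) p0r33

theorem p0r34 : allRange pointOk 19 1530 45 = true := by decide +kernel
theorem p0u34 : ∀ k, 0 ≤ k → k < 1575 → pointOk (k * 19) = true := between_extend pointOk 19 0 1530 45 (p0u33) p0r34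

theorem p0r35 : allRange pointOk 19 1575 45 = true := by decide +kernel
theorem p0u35 : ∀ k, 0 ≤ k → k < 1620 → pointOk (k * 19) = true := between_extend pointOk 19 0 1575 45 (p0u34) p0r35

theorem p0r36 : allRange pointOk 19 1620 45 = true := by decide +kernel
theorem p0u36 : ∀ k, 0 ≤ k → k < 1665 → pointOk (k * 19) = true := between_extend pointOk 19 0 1620 45 (p0u35) p0r36

theorem p0r37 : allRange pointOk 19 1665 45 = true := by decide +kernel
theorem p0u37 : ∀ k, 0 ≤ k → k < 1710 → pointOk (k * 19) = true := between_extend pointOk 19 0 1665 45 (p0u36) p0r37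

theorem p0r38 : allRange pointOk 19 1710 45 = true := by decide +kernel
theorem p0u38 : ∀ k, 0 ≤ k → k < 1755 → pointOk (k * 19) = true := between_extend pointOk 19 0 1710 45 (p0u37) p0r38

theorem p0r39 : allRange pointOk 19 1755 45 = true := by decide +kernel
theorem p0u39 : ∀ k, 0 ≤ k → k < 1800 → pointOk (k * 19) = true := between_extend pointOk 19 0 1755 45 (p0u38) p0r39

theorem p0r40 : allRange pointOk 19 1800 45 = true := by decide +kernel
theorem p0u40 : ∀ k, 0 ≤ k → k < 1845 → pointOk (k * 19) = true := between_extend pointOk 19 0 1800 45 (p0u39) p0r40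

theorem p0r41 : allRange pointOk 19 1845 45 = true := by decide +kernel
theorem p0u41 : ∀ k, 0 ≤ k → k < 1890 → pointOk (k * 19) = true := between_extend pointOk 19 0 1845 45 (p0u40) p0r41

theorem p0r42 : allRange pointOk 19 1890 45 = true := by decide +kernel
theorem p0u42 : ∀ k, 0 ≤ k → k < 1935 → pointOk (k * 19) = true := between_extend pointOk 19 0 1890 45 (p0u41) p0r42

theorem p0r43 : allRange pointOk 19 1935 45 = true := by decide +kernel
theorem p0u43 : ∀ k, 0 ≤ k → k < 1980 → pointOk (k * 19) = true := between_extend pointOk 19 0 1935 45 (p0u42) p0r43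

theorem p0r44 : allRange pointOk 19 1980 45 = true := by decide +kernel
theorem p0u44 : ∀ k, 0 ≤ k → k < 2025 → pointOk (k * 19) = true := between_extend pointOk 19 0 1980 45 (p0u43) p0r44

theorem p0r45 : allRange pointOk 19 2025 45 = true := by decide +kernel
theorem p0u45 : ∀ k, 0 ≤ k → k < 2070 → pointOk (k * 19) = true := between_extend pointOk 19 0 2025 45 (p0u44) p0r45

theorem p0r46 : allRange pointOk 19 2070 45 = true := by decide +kernel
theorem p0u46 : ∀ k, 0 ≤ k → k < 2115 → pointOk (k * 19) = true := between_extend pointOk 19 0 2070 45 (p0u45) p0r46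

theorem p0r47 : allRange pointOk 19 2115 45 = true := by decide +kernel
theorem p0u47 : ∀ k, 0 ≤ k → k < 2160 → pointOk (k * 19) = true := between_extend pointOk 19 0 2115 45 (p0u46) p0r47

theorem p0r48 : allRange pointOk 19 2160 45 = true := by decide +kernel
theorem p0u48 : ∀ k, 0 ≤ k → k < 2205 → pointOk (k * 19) = true := between_extend pointOk 19 0 2160 45 (p0u47) p0r48

theorem p0r49 : allRange pointOk 19 2205 45 = true := by decide +kernel
theorem p0u49 : ∀ k, 0 ≤ k → k < 2250 → pointOk (k * 19) = true := between_extend pointOk 19 0 2205 45 (p0u48) p0r49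

theorem p0r50 : allRange pointOk 19 2250 45 = true := by decide +kernel
theorem p0u50 : ∀ k, 0 ≤ k → k < 2295 → pointOk (k * 19) = true := between_extend pointOk 19 0 2250 45 (p0u49) p0r50

theorem p0r51 : allRange pointOk 19 2295 45 = true := by decide +kernel
theorem p0u51 : ∀ k, 0 ≤ k → k < 2340 → pointOk (k * 19) = true := between_extend pointOk 19 0 2295 45 (p0u50) p0r51

theorem p0r52 : allRange pointOk 19 2340 45 = true := by decide +kernel
theorem p0u52 : ∀ k, 0 ≤ k → k < 2385 → pointOk (k * 19) = true := between_extend pointOk 19 0 2340 45 (p0u51) p0r52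

theorem p0r53 : allRange pointOk 19 2385 45 = true := by decide +kernel
theorem p0u53 : ∀ k, 0 ≤ k → k < 2430 → pointOk (k * 19) = true := between_extend pointOk 19 0 2385 45 (p0u52) p0r53

theorem p0r54 : allRange pointOk 19 2430 45 = true := by decide +kernel
theorem p0u54 : ∀ k, 0 ≤ k → k < 2475 → pointOk (k * 19) = true := between_extend pointOk 19 0 2430 45 (p0u53) p0r54

theorem p0r55 : allRange pointOk 19 2475 45 = true := by decide +kernel
theorem p0u55 : ∀ k, 0 ≤ k → k < 2520 → pointOk (k * 19) = true := between_extend pointOk 19 0 2475 45 (p0u54) p0r55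

theorem p0r56 : allRange pointOk 19 2520 45 = true := by decide +kernel
theorem p0u56 : ∀ k, 0 ≤ k → k < 2565 → pointOk (k * 19) = true := between_extend pointOk 19 0 2520 45 (p0u55) p0r56

theorem p0r57 : allRange pointOk 19 2565 45 = true := by decide +kernel
theorem p0u57 : ∀ k, 0 ≤ k → k < 2610 → pointOk (k * 19) = true := between_extend pointOk 19 0 2565 45 (p0u56) p0r57

theorem p0r58 : allRange pointOk 19 2610 45 = true := by decide +kernel
theorem p0u58 : ∀ k, 0 ≤ k → k < 2655 → pointOk (k * 19) = true := between_extend pointOk 19 0 2610 45 (p0u57) p0r58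

theorem p0r59 : allRange pointOk 19 2655 45 = true := by decide +kernel
theorem p0u59 : ∀ k, 0 ≤ k → k < 2700 → pointOk (k * 19) = true := between_extend pointOk 19 0 2655 45 (p0u58) p0r59

theorem p0r60 : allRange pointOk 19 2700 45 = true := by decide +kernel
theorem p0u60 : ∀ k, 0 ≤ k → k < 2745 → pointOk (k * 19) = true := between_extend pointOk 19 0 2700 45 (p0u59) p0r60

theorem p0r61 : allRange pointOk 19 2745 45 = true := by decide +kernel
theorem p0u61 : ∀ k, 0 ≤ k → k < 2790 → pointOk (k * 19) = true := between_extend pointOk 19 0 2745 45 (p0u60) p0r61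

theorem p0r62 : allRange pointOk 19 2790 45 = true := by decide +kernel
theorem p0u62 : ∀ k, 0 ≤ k → k < 2835 → pointOk (k * 19) = true := between_extend pointOk 19 0 2790 45 (p0u61) p0r62

theorem p0r63 : allRange pointOk 19 2835 45 = true := by decide +kernel
theorem p0u63 : ∀ k, 0 ≤ k → k < 2880 → pointOk (k * 19) = true := between_extend pointOk 19 0 2835 45 (p0u62) p0r63

theorem p0r64 : allRange pointOk 19 2880 45 = true := by decide +kernel
theorem p0u64 : ∀ k, 0 ≤ k → k < 2925 → pointOk (k * 19) = true := between_extend pointOk 19 0 2880 45 (p0u63) p0r64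

theorem p0r65 : allRange pointOk 19 2925 45 = true := by decide +kernel
theorem p0u65 : ∀ k, 0 ≤ k → k < 2970 → pointOk (k * 19) = true := between_extend pointOk 19 0 2925 45 (p0u64) p0r65

theorem p0r66 : allRange pointOk 19 2970 45 = true := by decide +kernel
theorem p0u66 : ∀ k, 0 ≤ k → k < 3015 → pointOk (k * 19) = true := between_extend pointOk 19 0 2970 45 (p0u65) p0r66

theorem p0r67 : allRange pointOk 19 3015 45 = true := by decide +kernel
theorem p0u67 : ∀ k, 0 ≤ k → k < 3060 → pointOk (k * 19) = true := between_extend pointOk 19 0 3015 45 (p0u66) p0r67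

theorem p0r68 : allRange pointOk 19 3060 45 = true := by decide +kernel
theorem p0u68 : ∀ k, 0 ≤ k → k < 3105 → pointOk (k * 19) = true := between_extend pointOk 19 0 3060 45 (p0u67) p0r68

theorem p0r69 : allRange pointOk 19 3105 45 = true := by decide +kernel
theorem p0u69 : ∀ k, 0 ≤ k → k < 3150 → pointOk (k * 19) = true := between_extend pointOk 19 0 3105 45 (p0u68) p0r69

theorem p0r70 : allRange pointOk 19 3150 45 = true := by decide +kernel
theorem p0u70 : ∀ k, 0 ≤ k → k < 3195 → pointOk (k * 19) = true := between_extend pointOk 19 0 3150 45 (p0u69) p0r70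

theorem p0r71 : allRange pointOk 19 3195 45 = true := by decide +kernel
theorem p0u71 : ∀ k, 0 ≤ k → k < 3240 → pointOk (k * 19) = true := between_extend pointOk 19 0 3195 45 (p0u70) p0r71

theorem p0r72 : allRange pointOk 19 3240 45 = true := by decide +kernel
theorem p0u72 : ∀ k, 0 ≤ k → k < 3285 → pointOk (k * 19) = true := between_extend pointOk 19 0 3240 45 (p0u71) p0r72

theorem p0r73 : allRange pointOk 19 3285 45 = true := by decide +kernel
theorem p0u73 : ∀ k, 0 ≤ k → k < 3330 → pointOk (k * 19) = true := between_extend pointOk 19 0 3285 45 (p0u72) p0r73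

theorem p0r74 : allRange pointOk 19 3330 45 = true := by decide +kernel
theorem p0u74 : ∀ k, 0 ≤ k → k < 3375 → pointOk (k * 19) = true := between_extend pointOk 19 0 3330 45 (p0u73) p0r74

theorem p0r75 : allRange pointOk 19 3375 45 = true := by decide +kernel
theorem p0u75 : ∀ k, 0 ≤ k → k < 3420 → pointOk (k * 19) = true := between_extend pointOk 19 0 3375 45 (p0u74) p0r75

theorem p0r76 : allRange pointOk 19 3420 45 = true := by decide +kernel
theorem p0u76 : ∀ k, 0 ≤ k → k < 3465 → pointOk (k * 19) = true := between_extend pointOk 19 0 3420 45 (p0u75) p0r76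

theorem p0r77 : allRange pointOk 19 3465 45 = true := by decide +kernel
theorem p0u77 : ∀ k, 0 ≤ k → k < 3510 → pointOk (k * 19) = true := between_extend pointOk 19 0 3465 45 (p0u76) p0r77

theorem p0r78 : allRange pointOk 19 3510 45 = true := by decide +kernel
theorem p0u78 : ∀ k, 0 ≤ k → k < 3555 → pointOk (k * 19) = true := between_extend pointOk 19 0 3510 45 (p0u77) p0r78

theorem p0r79 : allRange pointOk 19 3555 45 = true := by decide +kernel
theorem p0u79 : ∀ k, 0 ≤ k → k < 3600 → pointOk (k * 19) = true := between_extend pointOk 19 0 3555 45 (p0u78) p0r79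

theorem p0r80 : allRange pointOk 19 3600 45 = true := by decide +kernel
theorem p0u80 : ∀ k, 0 ≤ k → k < 3645 → pointOk (k * 19) = true := between_extend pointOk 19 0 3600 45 (p0u79) p0r80

theorem p0r81 : allRange pointOk 19 3645 45 = true := by decide +kernel
theorem p0u81 : ∀ k, 0 ≤ k → k < 3690 → pointOk (k * 19) = true := between_extend pointOk 19 0 3645 45 (p0u80) p0r81

theorem p0r82 : allRange pointOk 19 3690 45 = true := by decide +kernel
theorem p0u82 : ∀ k, 0 ≤ k → k < 3735 → pointOk (k * 19) = true := between_extend pointOk 19 0 3690 45 (p0u81) p0r82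

theorem p0r83 : allRange pointOk 19 3735 45 = true := by decide +kernel
theorem p0u83 : ∀ k, 0 ≤ k → k < 3780 → pointOk (k * 19) = true := between_extend pointOk 19 0 3735 45 (p0u82) p0r83

theorem p0r84 : allRange pointOk 19 3780 45 = true := by decide +kernel
theorem p0u84 : ∀ k, 0 ≤ k → k < 3825 → pointOk (k * 19) = true := between_extend pointOk 19 0 3780 45 (p0u83) p0r84

theorem p0r85 : allRange pointOk 19 3825 45 = true := by decide +kernel
theorem p0u85 : ∀ k, 0 ≤ k → k < 3870 → pointOk (k * 19) = true := between_extend pointOk 19 0 3825 45 (p0u84) p0r85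

theorem p0r86 : allRange pointOk 19 3870 45 = true := by decide +kernel
theorem p0u86 : ∀ k, 0 ≤ k → k < 3915 → pointOk (k * 19) = true := between_extend pointOk 19 0 3870 45 (p0u85) p0r86

theorem p0r87 : allRange pointOk 19 3915 45 = true := by decide +kernel
theorem p0u87 : ∀ k, 0 ≤ k → k < 3960 → pointOk (k * 19) = true := between_extend pointOk 19 0 3915 45 (p0u86) p0r87

theorem p0r88 : allRange pointOk 19 3960 45 = true := by decide +kernel
theorem p0u88 : ∀ k, 0 ≤ k → k < 4005 → pointOk (k * 19) = true := between_extend pointOk 19 0 3960 45 (p0u87) p0r88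

theorem p0r89 : allRange pointOk 19 4005 45 = true := by decide +kernel
theorem p0u89 : ∀ k, 0 ≤ k → k < 4050 → pointOk (k * 19) = true := between_extend pointOk 19 0 4005 45 (p0u88) p0r89

theorem p0r90 : allRange pointOk 19 4050 45 = true := by decide +kernel
theorem p0u90 : ∀ k, 0 ≤ k → k < 4095 → pointOk (k * 19) = true := between_extend pointOk 19 0 4050 45 (p0u89) p0r90

theorem p0r91 : allRange pointOk 19 4095 45 = true := by decide +kernel
theorem p0u91 : ∀ k, 0 ≤ k → k < 4140 → pointOk (k * 19) = true := between_extend pointOk 19 0 4095 45 (p0u90) p0r91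

theorem p0r92 : allRange pointOk 19 4140 45 = true := by decide +kernel
theorem p0u92 : ∀ k, 0 ≤ k → k < 4185 → pointOk (k * 19) = true := between_extend pointOk 19 0 4140 45 (p0u91) p0r92

theorem p0r93 : allRange pointOk 19 4185 45 = true := by decide +kernel
theorem p0u93 : ∀ k, 0 ≤ k → k < 4230 → pointOk (k * 19) = true := between_extend pointOk 19 0 4185 45 (p0u92) p0r93

theorem p0r94 : allRange pointOk 19 4230 45 = true := by decide +kernel
theorem p0u94 : ∀ k, 0 ≤ k → k < 4275 → pointOk (k * 19) = true := between_extend pointOk 19 0 4230 45 (p0u93) p0r94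

theorem p0r95 : allRange pointOk 19 4275 45 = true := by decide +kernel
theorem p0u95 : ∀ k, 0 ≤ k → k < 4320 → pointOk (k * 19) = true := between_extend pointOk 19 0 4275 45 (p0u94) p0r95

theorem p0r96 : allRange pointOk 19 4320 45 = true := by decide +kernel
theorem p0u96 : ∀ k, 0 ≤ k → k < 4365 → pointOk (k * 19) = true := between_extend pointOk 19 0 4320 45 (p0u95) p0r96

theorem p0r97 : allRange pointOk 19 4365 45 = true := by decide +kernel
theorem p0u97 : ∀ k, 0 ≤ k → k < 4410 → pointOk (k * 19) = true := between_extend pointOk 19 0 4365 45 (p0u96) p0r97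

theorem p0r98 : allRange pointOk 19 4410 45 = true := by decide +kernel
theorem p0u98 : ∀ k, 0 ≤ k → k < 4455 → pointOk (k * 19) = true := between_extend pointOk 19 0 4410 45 (p0u97) p0r98

theorem p0r99 : allRange pointOk 19 4455 45 = true := by decide +kernel
theorem p0u99 : ∀ k, 0 ≤ k → k < 4500 → pointOk (k * 19) = true := between_extend pointOk 19 0 4455 45 (p0u98) p0r99

theorem p0r100 : allRange pointOk 19 4500 45 = true := by decide +kernel
theorem p0u100 : ∀ k, 0 ≤ k → k < 4545 → pointOk (k * 19) = true := between_extend pointOk 19 0 4500 45 (p0u99) p0r100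

theorem p0r101 : allRange pointOk 19 4545 45 = true := by decide +kernel
theorem p0u101 : ∀ k, 0 ≤ k → k < 4590 → pointOk (k * 19) = true := between_extend pointOk 19 0 4545 45 (p0u100) p0r101

theorem p0r102 : allRange pointOk 19 4590 45 = true := by decide +kernel
theorem p0u102 : ∀ k, 0 ≤ k → k < 4635 → pointOk (k * 19) = true := between_extend pointOk 19 0 4590 45 (p0u101) p0r102

theorem p0r103 : allRange pointOk 19 4635 45 = true := by decide +kernel
theorem p0u103 : ∀ k, 0 ≤ k → k < 4680 → pointOk (k * 19) = true := between_extend pointOk 19 0 4635 45 (p0u102) p0r103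

theorem p0r104 : allRange pointOk 19 4680 45 = true := by decide +kernel
theorem p0u104 : ∀ k, 0 ≤ k → k < 4725 → pointOk (k * 19) = true := between_extend pointOk 19 0 4680 45 (p0u103) p0r104

theorem p0r105 : allRange pointOk 19 4725 45 = true := by decide +kernel
theorem p0u105 : ∀ k, 0 ≤ k → k < 4770 → pointOk (k * 19) = true := between_extend pointOk 19 0 4725 45 (p0u104) p0r105

theorem p0r106 : allRange pointOk 19 4770 45 = true := by decide +kernel
theorem p0u106 : ∀ k, 0 ≤ k → k < 4815 → pointOk (k * 19) = true := between_extend pointOk 19 0 4770 45 (p0u105) p0r106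

theorem p0r107 : allRange pointOk 19 4815 45 = true := by decide +kernel
theorem p0u107 : ∀ k, 0 ≤ k → k < 4860 → pointOk (k * 19) = true := between_extend pointOk 19 0 4815 45 (p0u106) p0r107

theorem p0r108 : allRange pointOk 19 4860 45 = true := by decide +kernel
theorem p0u108 : ∀ k, 0 ≤ k → k < 4905 → pointOk (k * 19) = true := between_extend pointOk 19 0 4860 45 (p0u107) p0r108

theorem p0r109 : allRange pointOk 19 4905 45 = true := by decide +kernel
theorem p0u109 : ∀ k, 0 ≤ k → k < 4950 → pointOk (k * 19) = true := between_extend pointOk 19 0 4905 45 (p0u108) p0r109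

theorem p0r110 : allRange pointOk 19 4950 45 = true := by decide +kernel
theorem p0u110 : ∀ k, 0 ≤ k → k < 4995 → pointOk (k * 19) = true := between_extend pointOk 19 0 4950 45 (p0u109) p0r110

theorem p0r111 : allRange pointOk 19 4995 45 = true := by decide +kernel
theorem p0u111 : ∀ k, 0 ≤ k → k < 5040 → pointOk (k * 19) = true := between_extend pointOk 19 0 4995 45 (p0u110) p0r111

theorem p0r112 : allRange pointOk 19 5040 45 = true := by decide +kernel
theorem p0u112 : ∀ k, 0 ≤ k → k < 5085 → pointOk (k * 19) = true := between_extend pointOk 19 0 5040 45 (p0u111) p0r112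

theorem p0r113 : allRange pointOk 19 5085 45 = true := by decide +kernel
theorem p0u113 : ∀ k, 0 ≤ k → k < 5130 → pointOk (k * 19) = true := between_extend pointOk 19 0 5085 45 (p0u112) p0r113

theorem p0r114 : allRange pointOk 19 5130 45 = true := by decide +kernel
theorem p0u114 : ∀ k, 0 ≤ k → k < 5175 → pointOk (k * 19) = true := between_extend pointOk 19 0 5130 45 (p0u113) p0r114

theorem p0r115 : allRange pointOk 19 5175 45 = true := by decide +kernel
theorem p0u115 : ∀ k, 0 ≤ k → k < 5220 → pointOk (k * 19) = true := between_extend pointOk 19 0 5175 45 (p0u114) p0r115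

theorem p0r116 : allRange pointOk 19 5220 45 = true := by decide +kernel
theorem p0u116 : ∀ k, 0 ≤ k → k < 5265 → pointOk (k * 19) = true := between_extend pointOk 19 0 5220 45 (p0u115) p0r116

theorem p0r117 : allRange pointOk 19 5265 45 = true := by decide +kernel
theorem p0u117 : ∀ k, 0 ≤ k → k < 5310 → pointOk (k * 19) = true := between_extend pointOk 19 0 5265 45 (p0u116) p0r117

theorem p0r118 : allRange pointOk 19 5310 45 = true := by decide +kernel
theorem p0u118 : ∀ k, 0 ≤ k → k < 5355 → pointOk (k * 19) = true := between_extend pointOk 19 0 5310 45 (p0u117) p0r118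

theorem p0r119 : allRange pointOk 19 5355 45 = true := by decide +kernel
theorem p0u119 : ∀ k, 0 ≤ k → k < 5400 → pointOk (k * 19) = true := between_extend pointOk 19 0 5355 45 (p0u118) p0r119

theorem p0r120 : allRange pointOk 19 5400 45 = true := by decide +kernel
theorem p0u120 : ∀ k, 0 ≤ k → k < 5445 → pointOk (k * 19) = true := between_extend pointOk 19 0 5400 45 (p0u119) p0r120

theorem p0r121 : allRange pointOk 19 5445 45 = true := by decide +kernel
theorem p0u121 : ∀ k, 0 ≤ k → k < 5490 → pointOk (k * 19) = true := between_extend pointOk 19 0 5445 45 (p0u120) p0r121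

theorem p0r122 : allRange pointOk 19 5490 45 = true := by decide +kernel
theorem p0u122 : ∀ k, 0 ≤ k → k < 5535 → pointOk (k * 19) = true := between_extend pointOk 19 0 5490 45 (p0u121) p0r122

theorem p0r123 : allRange pointOk 19 5535 45 = true := by decide +kernel
theorem p0u123 : ∀ k, 0 ≤ k → k < 5580 → pointOk (k * 19) = true := between_extend pointOk 19 0 5535 45 (p0u122) p0r123

theorem p0r124 : allRange pointOk 19 5580 45 = true := by decide +kernel
theorem p0u124 : ∀ k, 0 ≤ k → k < 5625 → pointOk (k * 19) = true := between_extend pointOk 19 0 5580 45 (p0u123) p0r124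

theorem p0r125 : allRange pointOk 19 5625 45 = true := by decide +kernel
theorem p0u125 : ∀ k, 0 ≤ k → k < 5670 → pointOk (k * 19) = true := between_extend pointOk 19 0 5625 45 (p0u124) p0r125

theorem p0r126 : allRange pointOk 19 5670 45 = true := by decide +kernel
theorem p0u126 : ∀ k, 0 ≤ k → k < 5715 → pointOk (k * 19) = true := between_extend pointOk 19 0 5670 45 (p0u125) p0r126

theorem p0r127 : allRange pointOk 19 5715 5 = true := by decide +kernel
theorem p0u127 : ∀ k, 0 ≤ k → k < 5720 → pointOk (k * 19) = true := between_extend pointOk 19 0 5715 5 (p0u126) p0r127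

theorem p0 : ∀ k, 0 ≤ k → k < 5720 → pointOk (k * 19) = true := p0u127

end Cfsg.Agent.Lib.Helper28_S1681
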