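import Cfsg.Agent.Lib.Helper28_S1683Def

set_option autoImplicit false
set_option linter.constructorNameAsVariable false
set_option Elab.async false

namespace Cfsg.Agent.Lib.Helper28_S1683

open Cfsg.Agent.Lib.Helper28_CosetPerm

theorem o0r0 : allRange orbOk 15 0 1175 = true := by decide +kernel
theorem o0u0 : ∀ k, 0 ≤ k → k < 1175 → orbOk (k * 15) = true := between_extend orbOk 15 0 0 1175 (between_start orbOk 15 0) o0r0

theorem o0r1 : allRange orbOk 15 1175 883 = true := by decide +kernel
theorem o0u1 : ∀ k, 0 ≤ k → k < 2058 → orbOk (k * 15) = true := between_extend orbOk 15 0 1175 883 (o0u0) o0r1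

theorem o0 : ∀ k, 0 ≤ k → k < 2058 → orbOk (k * 15) = true := o0u1

end Cfsg.Agent.Lib.Helper28_S1683
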