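import Cfsg.Agent.Lib.Helper28_S1683P0
import Cfsg.Agent.Lib.Helper28_S1683O0

set_option autoImplicit false
set_option linter.constructorNameAsVariable false
set_option Elab.async false

namespace Cfsg.Agent.Lib.Helper28_S1683

open Cfsg.Spor Cfsg.Agent.Lib.Helper28_CosetPerm Cfsg.Agent.Lib.Helper28_CosetCox Cfsg.Agent.Lib.Helper28_S1683Tab

theorem all_ok : ∀ k < 2058, pchk 30870 15 32767 col letters words (k * 15) = true := by
  intro k hk
  rw [← pointOk_eq]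
  exact between_all pointOk 15 2058 p0 k hk

theorem all_letters : ∀ (a : Cfsg.Spor.He.Gen) (b : Bool), (a, b) ∈ letters := by
  intro a b; cases a <;> cases b <;> decide

theorem cox_covered : CoxCovered He.edges words := by decide

theorem extra_covered : ExtraCovered He.extra words := by
  unfold ExtraCovered; decide

theorem sub_fix : ∀ s ∈ ({Cfsg.Spor.He.a, Cfsg.Spor.He.c, Cfsg.Spor.He.d, Cfsg.Spor.He.e, Cfsg.Spor.He.f, (Cfsg.Spor.He.a * Cfsg.Spor.He.b) ^ 2, (Cfsg.Spor.He.b * Cfsg.Spor.He.c * Cfsg.Spor.He.d * Cfsg.Spor.He.e) ^ 7} : Set (FreeGroup Cfsg.Spor.He.Gen)), ∃ u : List (Cfsg.Spor.He.Gen × Bool), FreeGroup.mk u = s ∧ walk 32767 col u 0 = 0 := by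
  intro s hs
  simp only [Set.mem_insert_iff, Set.mem_singleton_iff] at hs
  rcases hs with rfl | rfl | rfl | rfl | rfl | rfl | rfl
  · exact ⟨[(.a, true)], by decide, by decide +kernel⟩
  · exact ⟨[(.c, true)], by decide, by decide +kernel⟩
  · exact ⟨[(.d, true)], by decide, by decide +kernel⟩
  · exact ⟨[(.e, true)], by decide, by decide +kernel⟩
  · exact ⟨[(.f, true)], by decide, by decide +kernel⟩
  · exact ⟨[(.a, true), (.b, true), (.a, true), (.b, true)], by decide, by decide +kernel⟩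
  · exact ⟨[(.b, true), (.c, true), (.d, true), (.e, true), (.b, true), (.c, true), (.d, true), (.e, true), (.b, true), (.c, true), (.d, true), (.e, true), (.b, true), (.c, true), (.d, true), (.e, true), (.b, true), (.c, true), (.d, true), (.e, true), (.b, true), (.c, true), (.d, true), (.e, true), (.b, true), (.c, true), (.d, true), (.e, true)], by decide, by decide +kernel⟩

instance : NeZero (2058 : ℕ) := ⟨by norm_num⟩

theorem verified : Verified 2058 15 32767 col (Cfsg.Spor.coxRelators Cfsg.Spor.He.edges ∪ {r | r ∈ Cfsg.Spor.He.extra}) ({Cfsg.Spor.He.a, Cfsg.Spor.He.c, Cfsg.Spor.He.d, Cfsg.Spor.He.e, Cfsg.Spor.He.f, (Cfsg.Spor.He.a * Cfsg.Spor.He.b) ^ 2, (Cfsg.Spor.He.b * Cfsg.Spor.He.c * Cfsg.Spor.He.d * Cfsg.Spor.He.e) ^ 7} : Set (FreeGroup Cfsg.Spor.He.Gen)) :=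
  verified_of_table (n := 2058) (w := 15) (mask := 32767) (col := col) 30870 (by norm_num) (by norm_num) letters all_letters He.edges He.extra words all_ok cox_covered extra_covered _ sub_fix

/-- the lower bound, index part -/
theorem lower_index (hfin : ((Subgroup.closure ({Cfsg.Spor.He.a, Cfsg.Spor.He.c, Cfsg.Spor.He.d, Cfsg.Spor.He.e, Cfsg.Spor.He.f, (Cfsg.Spor.He.a * Cfsg.Spor.He.b) ^ 2, (Cfsg.Spor.He.b * Cfsg.Spor.He.c * Cfsg.Spor.He.d * Cfsg.Spor.He.e) ^ 7} : Set (FreeGroup Cfsg.Spor.He.Gen))).map (PresentedGroup.mk (Cfsg.Spor.coxRelators Cfsg.Spor.He.edges ∪ {r | r ∈ Cfsg.Spor.He.extra}))).index ≠ 0) (hle : ((Subgroup.closure ({Cfsg.Spor.He.a, Cfsg.Spor.He.c, Cfsg.Spor.He.d, Cfsg.Spor.He.e, Cfsg.Spor.He.f, (Cfsg.Spor.He.a * Cfsg.Spor.He.b) ^ 2, (Cfsg.Spor.He.b * Cfsg.Spor.He.c * Cfsg.Spor.He.d * Cfsg.Spor.He.e) ^ 7} : Set (FreeGroup Cfsg.Spor.He.Gen))).map (PresentedGroup.mk (Cfsg.Spor.coxRelators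 Cfsg.Spor.He.edges ∪ {r | r ∈ Cfsg.Spor.He.extra}))).index ≤ 2058) : ((Subgroup.closure ({Cfsg.Spor.He.a, Cfsg.Spor.He.c, Cfsg.Spor.He.d, Cfsg.Spor.He.e, Cfsg.Spor.He.f, (Cfsg.Spor.He.a * Cfsg.Spor.He.b) ^ 2, (Cfsg.Spor.He.b * Cfsg.Spor.He.c * Cfsg.Spor.He.d * Cfsg.Spor.He.e) ^ 7} : Set (FreeGroup Cfsg.Spor.He.Gen))).map (PresentedGroup.mk (Cfsg.Spor.coxRelators Cfsg.Spor.He.edges ∪ {r | r ∈ Cfsg.Spor.He.extra}))).index = 2058 :=
  verified.index_eq hfin hle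

theorem orb_ok : ∀ k < 2058, ochk 32767 col oidA rnkA bases cl (k * 15) = true := by
  intro k hk
  rw [← orbOk_eq]
  exact between_all orbOk 15 2058 o0 k hk

theorem cl_mem : ∀ u ∈ cl, FreeGroup.mk u ∈ Subgroup.closure ({Cfsg.Spor.He.a, Cfsg.Spor.He.c, Cfsg.Spor.He.d, Cfsg.Spor.He.e, Cfsg.Spor.He.f, (Cfsg.Spor.He.a * Cfsg.Spor.He.b) ^ 2, (Cfsg.Spor.He.b * Cfsg.Spor.He.c * Cfsg.Spor.He.d * Cfsg.Spor.He.e) ^ 7} : Set (FreeGroup Cfsg.Spor.He.Gen)) := by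
  intro u hu
  simp only [cl, List.mem_cons, List.not_mem_nil, or_false] at hu
  rcases hu with rfl | rfl | rfl | rfl | rfl | rfl | rfl | rfl
  · exact Subgroup.subset_closure (by simp only [Set.mem_insert_iff, Set.mem_singleton_iff]; decide)
  · exact Subgroup.subset_closure (by simp only [Set.mem_insert_iff, Set.mem_singleton_iff]; decide)
  · exact Subgroup.subset_closure (by simp only [Set.mem_insert_iff, Set.mem_singleton_iff]; decide)
  · exact Subgroup.subset_closure (by simp only [Set.mem_insert_iff, Set.mem_singleton_iff]; decide)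
  · exact Subgroup.subset_closure (by simp only [Set.mem_insert_iff, Set.mem_singleton_iff]; decide)
  · exact Subgroup.subset_closure (by simp only [Set.mem_insert_iff, Set.mem_singleton_iff]; decide)
  · exact Subgroup.subset_closure (by simp only [Set.mem_insert_iff, Set.mem_singleton_iff]; decide)
  · have h : (FreeGroup.mk [(.e, false), (.d, false), (.c, false), (.b, false), (.e, false), (.d, false), (.c, false), (.b, false), (.e, false), (.d, false), (.c, false), (.b, false), (.e, false), (.d, false), (.c, false), (.b, false), (.e, false), (.d, false), (.c, false), (.b, false), (.e, false), (.d, false), (.c, false), (.b, false), (.e, false), (.d, false), (.c, false), (.b, false)] : FreeGroup Cfsg.Spor.He.Gen) = (FreeGroup.mk [(.b, true), (.c, true), (.d, true), (.e, true), (.b, true), (.c, true), (.d, true), (.e, true), (.b, true), (.c, true), (.d, true), (.e, true), (.b, true),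 (.c, true), (.d, true), (.e, true), (.b, true), (.c, true), (.d, true), (.e, true), (.b, true), (.c, true), (.d, true), (.e, true), (.b, true), (.c, true), (.d, true), (.e, true)])⁻¹ := by decide
    rw [h]
    exact Subgroup.inv_mem _ (Subgroup.subset_closure (by simp only [Set.mem_insert_iff, Set.mem_singleton_iff]; decide))

theorem S_cl : ∀ s ∈ ({Cfsg.Spor.He.a, Cfsg.Spor.He.c, Cfsg.Spor.He.d, Cfsg.Spor.He.e, Cfsg.Spor.He.f, (Cfsg.Spor.He.a * Cfsg.Spor.He.b) ^ 2, (Cfsg.Spor.He.b * Cfsg.Spor.He.c * Cfsg.Spor.He.d * Cfsg.Spor.He.e) ^ 7} : Set (FreeGroup Cfsg.Spor.He.Gen)), ∃ u ∈ cl, FreeGroup.mk u = s := by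
  intro s hs
  simp only [Set.mem_insert_iff, Set.mem_singleton_iff] at hs
  rcases hs with rfl | rfl | rfl | rfl | rfl | rfl | rfl
  · exact ⟨[(.a, true)], by decide, by decide⟩
  · exact ⟨[(.c, true)], by decide, by decide⟩
  · exact ⟨[(.d, true)], by decide, by decide⟩
  · exact ⟨[(.e, true)], by decide, by decide⟩
  · exact ⟨[(.f, true)], by decide, by decide⟩
  · exact ⟨[(.a, true), (.b, true), (.a, true), (.b, true)], by decide, by decide⟩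
  · exact ⟨[(.b, true), (.c, true), (.d, true), (.e, true), (.b, true), (.c, true), (.d, true), (.e, true), (.b, true), (.c, true), (.d, true), (.e, true), (.b, true), (.c, true), (.d, true), (.e, true), (.b, true), (.c, true), (.d, true), (.e, true), (.b, true), (.c, true), (.d, true), (.e, true), (.b, true), (.c, true), (.d, true), (.e, true)], by decide, by decide⟩

theorem cnt0 : cntB (fun k => Nat.beq (nxt 32767 oidA (Nat.mul k 15)) 3) 2058 = 136 := by decide +kernel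

theorem cnt1 : cntB (fun k => Nat.beq (nxt 32767 oidA (Nat.mul k 15)) 4) 2058 = 136 := by decide +kernel

theorem cnt2 : cntB (fun k => Nat.beq (nxt 32767 oidA (Nat.mul k 15)) 2) 2058 = 425 := by decide +kernel

theorem cnt3 : cntB (fun k => Nat.beq (nxt 32767 oidA (Nat.mul k 15)) 1) 2058 = 1360 := by decide +kernel

/-- the lower bound: the full statement from the upper bound -/
theorem lower (hfin : ((Subgroup.closure ({Cfsg.Spor.He.a, Cfsg.Spor.He.c, Cfsg.Spor.He.d, Cfsg.Spor.He.e, Cfsg.Spor.He.f, (Cfsg.Spor.He.a * Cfsg.Spor.He.b) ^ 2, (Cfsg.Spor.He.b * Cfsg.Spor.He.c * Cfsg.Spor.He.d * Cfsg.Spor.He.e) ^ 7} : Set (FreeGroup Cfsg.Spor.He.Gen))).map (PresentedGroup.mk (Cfsg.Spor.coxRelators Cfsg.Spor.He.edges ∪ {r | r ∈ Cfsg.Spor.He.extra}))).index ≠ 0) (hle : ((Subgroup.closure ({Cfsg.Spor.He.a, Cfsg.Spor.He.c, Cfsg.Spor.He.d, Cfsg.Spor.He.e, Cfsg.Spor.He.f, (Cfsg.Spor.He.a * Cfsg.Spor.He.b)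 ^ 2, (Cfsg.Spor.He.b * Cfsg.Spor.He.c * Cfsg.Spor.He.d * Cfsg.Spor.He.e) ^ 7} : Set (FreeGroup Cfsg.Spor.He.Gen))).map (PresentedGroup.mk (Cfsg.Spor.coxRelators Cfsg.Spor.He.edges ∪ {r | r ∈ Cfsg.Spor.He.extra}))).index ≤ 2058) :
    ((Subgroup.closure ({Cfsg.Spor.He.a, Cfsg.Spor.He.c, Cfsg.Spor.He.d, Cfsg.Spor.He.e, Cfsg.Spor.He.f, (Cfsg.Spor.He.a * Cfsg.Spor.He.b) ^ 2, (Cfsg.Spor.He.b * Cfsg.Spor.He.c * Cfsg.Spor.He.d * Cfsg.Spor.He.e) ^ 7} : Set (FreeGroup Cfsg.Spor.He.Gen))).map (PresentedGroup.mk (Cfsg.Spor.coxRelators Cfsg.Spor.He.edges ∪ {r | r ∈ Cfsg.Spor.He.extra}))).index = 2058 ∧ ∃ q1 q2 q3 q4 : Cfsg.Spor.He ⧸ ((Subgroup.closure ({Cfsg.Spor.He.a, Cfsg.Spor.He.c, Cfsg.Spor.He.d, Cfsg.Spor.He.e, Cfsg.Spor.He.f, (Cfsg.Spor.He.a * Cfsg.Spor.He.b) ^ 2, (Cfsg.Spor.He.b * Cfsg.Spor.He.c * Cfsg.Spor.He.d * Cfsg.Spor.He.e) ^ 7} : Set (FreeGroup Cfsg.Spor.He.Gen))).map (PresentedGroup.mk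 (Cfsg.Spor.coxRelators Cfsg.Spor.He.edges ∪ {r | r ∈ Cfsg.Spor.He.extra}))), MulAction.orbit ((Subgroup.closure ({Cfsg.Spor.He.a, Cfsg.Spor.He.c, Cfsg.Spor.He.d, Cfsg.Spor.He.e, Cfsg.Spor.He.f, (Cfsg.Spor.He.a * Cfsg.Spor.He.b) ^ 2, (Cfsg.Spor.He.b * Cfsg.Spor.He.c * Cfsg.Spor.He.d * Cfsg.Spor.He.e) ^ 7} : Set (FreeGroup Cfsg.Spor.He.Gen))).map (PresentedGroup.mk (Cfsg.Spor.coxRelators Cfsg.Spor.He.edges ∪ {r | r ∈ Cfsg.Spor.He.extra}))) q1 ≠ MulAction.orbit ((Subgroup.closure ({Cfsg.Spor.He.a, Cfsg.Spor.He.c, Cfsg.Spor.He.d, Cfsg.Spor.He.e, Cfsg.Spor.He.f, (Cfsg.Spor.He.a * Cfsg.Spor.He.b) ^ 2, (Cfsg.Spor.He.b * Cfsg.Spor.He.c * Cfsg.Spor.He.d * Cfsg.Spor.He.e) ^ 7} : Set (FreeGroup Cfsg.Spor.He.Gen))).map (PresentedGroup.mk (Cfsg.Spor.coxRelators Cfsg.Spor.He.edges ∪ {r | r ∈ Cfsg.Spor.He.extra}))) q2 ∧ (MulAction.orbit ((Subgroup.closure ({Cfsg.Spor.He.a, Cfsg.Spor.He.c, Cfsg.Spor.He.d,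 Cfsg.Spor.He.e, Cfsg.Spor.He.f, (Cfsg.Spor.He.a * Cfsg.Spor.He.b) ^ 2, (Cfsg.Spor.He.b * Cfsg.Spor.He.c * Cfsg.Spor.He.d * Cfsg.Spor.He.e) ^ 7} : Set (FreeGroup Cfsg.Spor.He.Gen))).map (PresentedGroup.mk (Cfsg.Spor.coxRelators Cfsg.Spor.He.edges ∪ {r | r ∈ Cfsg.Spor.He.extra}))) q1).ncard = 136 ∧ (MulAction.orbit ((Subgroup.closure ({Cfsg.Spor.He.a, Cfsg.Spor.He.c, Cfsg.Spor.He.d, Cfsg.Spor.He.e, Cfsg.Spor.He.f, (Cfsg.Spor.He.a * Cfsg.Spor.He.b) ^ 2, (Cfsg.Spor.He.b * Cfsg.Spor.He.c * Cfsg.Spor.He.d * Cfsg.Spor.He.e) ^ 7} : Set (FreeGroup Cfsg.Spor.He.Gen))).map (PresentedGroup.mk (Cfsg.Spor.coxRelators Cfsg.Spor.He.edges ∪ {r | r ∈ Cfsg.Spor.He.extra}))) q2).ncard = 136 ∧ (MulAction.orbit ((Subgroup.closure ({Cfsg.Spor.He.a, Cfsg.Spor.He.c, Cfsg.Spor.He.d, Cfsg.Spor.He.e, Cfsg.Spor.He.f, (Cfsg.Spor.He.a * Cfsg.Spor.He.b) ^ 2, (Cfsg.Spor.He.b * Cfsg.Spor.He.c * Cfsg.Spor.He.d * Cfsg.Spor.He.e)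 ^ 7} : Set (FreeGroup Cfsg.Spor.He.Gen))).map (PresentedGroup.mk (Cfsg.Spor.coxRelators Cfsg.Spor.He.edges ∪ {r | r ∈ Cfsg.Spor.He.extra}))) q3).ncard = 425 ∧ (MulAction.orbit ((Subgroup.closure ({Cfsg.Spor.He.a, Cfsg.Spor.He.c, Cfsg.Spor.He.d, Cfsg.Spor.He.e, Cfsg.Spor.He.f, (Cfsg.Spor.He.a * Cfsg.Spor.He.b) ^ 2, (Cfsg.Spor.He.b * Cfsg.Spor.He.c * Cfsg.Spor.He.d * Cfsg.Spor.He.e) ^ 7} : Set (FreeGroup Cfsg.Spor.He.Gen))).map (PresentedGroup.mk (Cfsg.Spor.coxRelators Cfsg.Spor.He.edges ∪ {r | r ∈ Cfsg.Spor.He.extra}))) q4).ncard = 1360 := by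
  refine ⟨lower_index hfin hle, ?_⟩
  obtain ⟨q1, hb1, himg1, hcard1⟩ := verified.orbit hfin hle oidA rnkA bases cl cl_mem S_cl orb_ok 3 (⟨46, by norm_num⟩ : Fin 2058) (by decide) (by decide +kernel)
  obtain ⟨q2, hb2, himg2, hcard2⟩ := verified.orbit hfin hle oidA rnkA bases cl cl_mem S_cl orb_ok 4 (⟨65, by norm_num⟩ : Fin 2058) (by decide) (by decide +kernel)
  obtain ⟨q3, hb3, himg3, hcard3⟩ := verified.orbit hfin hle oidA rnkA bases cl cl_mem S_cl orb_ok 2 (⟨2, by norm_num⟩ : Fin 2058) (by decide) (by decide +kernel)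
  obtain ⟨q4, hb4, himg4, hcard4⟩ := verified.orbit hfin hle oidA rnkA bases cl cl_mem S_cl orb_ok 1 (⟨1, by norm_num⟩ : Fin 2058) (by decide) (by decide +kernel)
  refine ⟨q1, q2, q3, q4, ?_⟩
  rw [card_orbSet] at hcard1 hcard2 hcard3 hcard4
  rw [cnt0] at hcard1
  rw [cnt1] at hcard2
  rw [cnt2] at hcard3
  rw [cnt3] at hcard4
  refine ⟨?_, hcard1, hcard2, hcard3, hcard4⟩
  intro heq
  rw [heq, himg2] at himg1
  have hmem : (⟨65, by norm_num⟩ : Fin 2058) ∈ (orbSet 2058 15 32767 oidA 3 : Set (Fin 2058)) := by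
    rw [← himg1]
    simp only [orbSet, Finset.coe_filter, Finset.mem_univ, true_and, Set.mem_ofPred_eq]
    decide +kernel
  simp only [orbSet, Finset.coe_filter, Finset.mem_univ, true_and, Set.mem_ofPred_eq] at hmem
  revert hmem
  decide +kernel

end Cfsg.Agent.Lib.Helper28_S1683
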