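import Cfsg.Agent.Lib.Helper28_S1683Def

set_option autoImplicit false
set_option linter.constructorNameAsVariable false
set_option Elab.async false

namespace Cfsg.Agent.Lib.Helper28_S1683

open Cfsg.Agent.Lib.Helper28_CosetPerm

theorem p0r0 : allRange pointOk 15 0 821 = true := by decide +kernel
theorem p0u0 : ∀ k, 0 ≤ k → k < 821 → pointOk (k * 15) = true := between_extend pointOk 15 0 0 821 (between_start pointOk 15 0) p0r0

theorem p0r1 : allRange pointOk 15 821 821 = true := by decide +kernel
theorem p0u1 : ∀ k, 0 ≤ k → k < 1642 → pointOk (k * 15) = true := between_extend pointOk 15 0 821 821 (p0u0) p0r1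

theorem p0r2 : allRange pointOk 15 1642 416 = true := by decide +kernel
theorem p0u2 : ∀ k, 0 ≤ k → k < 2058 → pointOk (k * 15) = true := between_extend pointOk 15 0 1642 416 (p0u1) p0r2

theorem p0 : ∀ k, 0 ≤ k → k < 2058 → pointOk (k * 15) = true := p0u2

end Cfsg.Agent.Lib.Helper28_S1683
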