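import Cfsg.Agent.Lib.Helper28_S1685Def

set_option autoImplicit false
set_option linter.constructorNameAsVariable false
set_option Elab.async false

namespace Cfsg.Agent.Lib.Helper28_S1685

open Cfsg.Agent.Lib.Helper28_CosetPerm

theorem p0r0 : allRange pointOk 18 0 52 = true := by decide +kernel
theorem p0u0 : ∀ k, 0 ≤ k → k < 52 → pointOk (k * 18) = true := between_extend pointOk 18 0 0 52 (between_start pointOk 18 0) p0r0

theorem p0r1 : allRange pointOk 18 52 52 = true := by decide +kernel
theorem p0u1 : ∀ k, 0 ≤ k → k < 104 → pointOk (k * 18) = true := between_extend pointOk 18 0 52 52 (p0u0) p0r1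

theorem p0r2 : allRange pointOk 18 104 52 = true := by decide +kernel
theorem p0u2 : ∀ k, 0 ≤ k → k < 156 → pointOk (k * 18) = true := between_extend pointOk 18 0 104 52 (p0u1) p0r2

theorem p0r3 : allRange pointOk 18 156 52 = true := by decide +kernel
theorem p0u3 : ∀ k, 0 ≤ k → k < 208 → pointOk (k * 18) = true := between_extend pointOk 18 0 156 52 (p0u2) p0r3

theorem p0r4 : allRange pointOk 18 208 52 = true := by decide +kernel
theorem p0u4 : ∀ k, 0 ≤ k → k < 260 → pointOk (k * 18) = true := between_extend pointOk 18 0 208 52 (p0u3) p0r4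

theorem p0r5 : allRange pointOk 18 260 52 = true := by decide +kernel
theorem p0u5 : ∀ k, 0 ≤ k → k < 312 → pointOk (k * 18) = true := between_extend pointOk 18 0 260 52 (p0u4) p0r5

theorem p0r6 : allRange pointOk 18 312 52 = true := by decide +kernel
theorem p0u6 : ∀ k, 0 ≤ k → k < 364 → pointOk (k * 18) = true := between_extend pointOk 18 0 312 52 (p0u5) p0r6

theorem p0r7 : allRange pointOk 18 364 52 = true := by decide +kernel
theorem p0u7 : ∀ k, 0 ≤ k → k < 416 → pointOk (k * 18) = true := between_extend pointOk 18 0 364 52 (p0u6) p0r7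

theorem p0r8 : allRange pointOk 18 416 52 = true := by decide +kernel
theorem p0u8 : ∀ k, 0 ≤ k → k < 468 → pointOk (k * 18) = true := between_extend pointOk 18 0 416 52 (p0u7) p0r8

theorem p0r9 : allRange pointOk 18 468 52 = true := by decide +kernel
theorem p0u9 : ∀ k, 0 ≤ k → k < 520 → pointOk (k * 18) = true := between_extend pointOk 18 0 468 52 (p0u8) p0r9

theorem p0r10 : allRange pointOk 18 520 52 = true := by decide +kernel
theorem p0u10 : ∀ k, 0 ≤ k → k < 572 → pointOk (k * 18) = true := between_extend pointOk 18 0 520 52 (p0u9) p0r10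

theorem p0r11 : allRange pointOk 18 572 52 = true := by decide +kernel
theorem p0u11 : ∀ k, 0 ≤ k → k < 624 → pointOk (k * 18) = true := between_extend pointOk 18 0 572 52 (p0u10) p0r11

theorem p0r12 : allRange pointOk 18 624 52 = true := by decide +kernel
theorem p0u12 : ∀ k, 0 ≤ k → k < 676 → pointOk (k * 18) = true := between_extend pointOk 18 0 624 52 (p0u11) p0r12

theorem p0r13 : allRange pointOk 18 676 52 = true := by decide +kernel
theorem p0u13 : ∀ k, 0 ≤ k → k < 728 → pointOk (k * 18) = true := between_extend pointOk 18 0 676 52 (p0u12) p0r13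

theorem p0r14 : allRange pointOk 18 728 52 = true := by decide +kernel
theorem p0u14 : ∀ k, 0 ≤ k → k < 780 → pointOk (k * 18) = true := between_extend pointOk 18 0 728 52 (p0u13) p0r14

theorem p0r15 : allRange pointOk 18 780 52 = true := by decide +kernel
theorem p0u15 : ∀ k, 0 ≤ k → k < 832 → pointOk (k * 18) = true := between_extend pointOk 18 0 780 52 (p0u14) p0r15

theorem p0r16 : allRange pointOk 18 832 52 = true := by decide +kernel
theorem p0u16 : ∀ k, 0 ≤ k → k < 884 → pointOk (k * 18) = true := between_extend pointOk 18 0 832 52 (p0u15) p0r16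

theorem p0r17 : allRange pointOk 18 884 52 = true := by decide +kernel
theorem p0u17 : ∀ k, 0 ≤ k → k < 936 → pointOk (k * 18) = true := between_extend pointOk 18 0 884 52 (p0u16) p0r17

theorem p0r18 : allRange pointOk 18 936 52 = true := by decide +kernel
theorem p0u18 : ∀ k, 0 ≤ k → k < 988 → pointOk (k * 18) = true := between_extend pointOk 18 0 936 52 (p0u17) p0r18

theorem p0r19 : allRange pointOk 18 988 52 = true := by decide +kernel
theorem p0u19 : ∀ k, 0 ≤ k → k < 1040 → pointOk (k * 18) = true := between_extend pointOk 18 0 988 52 (p0u18) p0r19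

theorem p0r20 : allRange pointOk 18 1040 52 = true := by decide +kernel
theorem p0u20 : ∀ k, 0 ≤ k → k < 1092 → pointOk (k * 18) = true := between_extend pointOk 18 0 1040 52 (p0u19) p0r20

theorem p0r21 : allRange pointOk 18 1092 52 = true := by decide +kernel
theorem p0u21 : ∀ k, 0 ≤ k → k < 1144 → pointOk (k * 18) = true := between_extend pointOk 18 0 1092 52 (p0u20) p0r21

theorem p0r22 : allRange pointOk 18 1144 52 = true := by decide +kernel
theorem p0u22 : ∀ k, 0 ≤ k → k < 1196 → pointOk (k * 18) = true := between_extend pointOk 18 0 1144 52 (p0u21) p0r22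

theorem p0r23 : allRange pointOk 18 1196 52 = true := by decide +kernel
theorem p0u23 : ∀ k, 0 ≤ k → k < 1248 → pointOk (k * 18) = true := between_extend pointOk 18 0 1196 52 (p0u22) p0r23

theorem p0r24 : allRange pointOk 18 1248 52 = true := by decide +kernel
theorem p0u24 : ∀ k, 0 ≤ k → k < 1300 → pointOk (k * 18) = true := between_extend pointOk 18 0 1248 52 (p0u23) p0r24

theorem p0r25 : allRange pointOk 18 1300 52 = true := by decide +kernel
theorem p0u25 : ∀ k, 0 ≤ k → k < 1352 → pointOk (k * 18) = true := between_extend pointOk 18 0 1300 52 (p0u24) p0r25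

theorem p0r26 : allRange pointOk 18 1352 52 = true := by decide +kernel
theorem p0u26 : ∀ k, 0 ≤ k → k < 1404 → pointOk (k * 18) = true := between_extend pointOk 18 0 1352 52 (p0u25) p0r26

theorem p0r27 : allRange pointOk 18 1404 52 = true := by decide +kernel
theorem p0u27 : ∀ k, 0 ≤ k → k < 1456 → pointOk (k * 18) = true := between_extend pointOk 18 0 1404 52 (p0u26) p0r27

theorem p0r28 : allRange pointOk 18 1456 52 = true := by decide +kernel
theorem p0u28 : ∀ k, 0 ≤ k → k < 1508 → pointOk (k * 18) = true := between_extend pointOk 18 0 1456 52 (p0u27) p0r28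

theorem p0r29 : allRange pointOk 18 1508 52 = true := by decide +kernel
theorem p0u29 : ∀ k, 0 ≤ k → k < 1560 → pointOk (k * 18) = true := between_extend pointOk 18 0 1508 52 (p0u28) p0r29

theorem p0r30 : allRange pointOk 18 1560 52 = true := by decide +kernel
theorem p0u30 : ∀ k, 0 ≤ k → k < 1612 → pointOk (k * 18) = true := between_extend pointOk 18 0 1560 52 (p0u29) p0r30

theorem p0r31 : allRange pointOk 18 1612 52 = true := by decide +kernel
theorem p0u31 : ∀ k, 0 ≤ k → k < 1664 → pointOk (k * 18) = true := between_extend pointOk 18 0 1612 52 (p0u30) p0r31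

theorem p0r32 : allRange pointOk 18 1664 52 = true := by decide +kernel
theorem p0u32 : ∀ k, 0 ≤ k → k < 1716 → pointOk (k * 18) = true := between_extend pointOk 18 0 1664 52 (p0u31) p0r32

theorem p0r33 : allRange pointOk 18 1716 52 = true := by decide +kernel
theorem p0u33 : ∀ k, 0 ≤ k → k < 1768 → pointOk (k * 18) = true := between_extend pointOk 18 0 1716 52 (p0u32) p0r33

theorem p0r34 : allRange pointOk 18 1768 52 = true := by decide +kernel
theorem p0u34 : ∀ k, 0 ≤ k → k < 1820 → pointOk (k * 18) = true := between_extend pointOk 18 0 1768 52 (p0u33) p0r34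

theorem p0r35 : allRange pointOk 18 1820 52 = true := by decide +kernel
theorem p0u35 : ∀ k, 0 ≤ k → k < 1872 → pointOk (k * 18) = true := between_extend pointOk 18 0 1820 52 (p0u34) p0r35

theorem p0r36 : allRange pointOk 18 1872 52 = true := by decide +kernel
theorem p0u36 : ∀ k, 0 ≤ k → k < 1924 → pointOk (k * 18) = true := between_extend pointOk 18 0 1872 52 (p0u35) p0r36

theorem p0r37 : allRange pointOk 18 1924 52 = true := by decide +kernel
theorem p0u37 : ∀ k, 0 ≤ k → k < 1976 → pointOk (k * 18) = true := between_extend pointOk 18 0 1924 52 (p0u36) p0r37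

theorem p0r38 : allRange pointOk 18 1976 52 = true := by decide +kernel
theorem p0u38 : ∀ k, 0 ≤ k → k < 2028 → pointOk (k * 18) = true := between_extend pointOk 18 0 1976 52 (p0u37) p0r38

theorem p0r39 : allRange pointOk 18 2028 52 = true := by decide +kernel
theorem p0u39 : ∀ k, 0 ≤ k → k < 2080 → pointOk (k * 18) = true := between_extend pointOk 18 0 2028 52 (p0u38) p0r39

theorem p0r40 : allRange pointOk 18 2080 52 = true := by decide +kernel
theorem p0u40 : ∀ k, 0 ≤ k → k < 2132 → pointOk (k * 18) = true := between_extend pointOk 18 0 2080 52 (p0u39) p0r40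

theorem p0r41 : allRange pointOk 18 2132 52 = true := by decide +kernel
theorem p0u41 : ∀ k, 0 ≤ k → k < 2184 → pointOk (k * 18) = true := between_extend pointOk 18 0 2132 52 (p0u40) p0r41

theorem p0r42 : allRange pointOk 18 2184 52 = true := by decide +kernel
theorem p0u42 : ∀ k, 0 ≤ k → k < 2236 → pointOk (k * 18) = true := between_extend pointOk 18 0 2184 52 (p0u41) p0r42

theorem p0r43 : allRange pointOk 18 2236 52 = true := by decide +kernel
theorem p0u43 : ∀ k, 0 ≤ k → k < 2288 → pointOk (k * 18) = true := between_extend pointOk 18 0 2236 52 (p0u42) p0r43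

theorem p0r44 : allRange pointOk 18 2288 52 = true := by decide +kernel
theorem p0u44 : ∀ k, 0 ≤ k → k < 2340 → pointOk (k * 18) = true := between_extend pointOk 18 0 2288 52 (p0u43) p0r44

theorem p0r45 : allRange pointOk 18 2340 52 = true := by decide +kernel
theorem p0u45 : ∀ k, 0 ≤ k → k < 2392 → pointOk (k * 18) = true := between_extend pointOk 18 0 2340 52 (p0u44) p0r45

theorem p0r46 : allRange pointOk 18 2392 52 = true := by decide +kernel
theorem p0u46 : ∀ k, 0 ≤ k → k < 2444 → pointOk (k * 18) = true := between_extend pointOk 18 0 2392 52 (p0u45) p0r46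

theorem p0r47 : allRange pointOk 18 2444 52 = true := by decide +kernel
theorem p0u47 : ∀ k, 0 ≤ k → k < 2496 → pointOk (k * 18) = true := between_extend pointOk 18 0 2444 52 (p0u46) p0r47

theorem p0r48 : allRange pointOk 18 2496 52 = true := by decide +kernel
theorem p0u48 : ∀ k, 0 ≤ k → k < 2548 → pointOk (k * 18) = true := between_extend pointOk 18 0 2496 52 (p0u47) p0r48

theorem p0r49 : allRange pointOk 18 2548 52 = true := by decide +kernel
theorem p0u49 : ∀ k, 0 ≤ k → k < 2600 → pointOk (k * 18) = true := between_extend pointOk 18 0 2548 52 (p0u48) p0r49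

theorem p0r50 : allRange pointOk 18 2600 52 = true := by decide +kernel
theorem p0u50 : ∀ k, 0 ≤ k → k < 2652 → pointOk (k * 18) = true := between_extend pointOk 18 0 2600 52 (p0u49) p0r50

theorem p0r51 : allRange pointOk 18 2652 52 = true := by decide +kernel
theorem p0u51 : ∀ k, 0 ≤ k → k < 2704 → pointOk (k * 18) = true := between_extend pointOk 18 0 2652 52 (p0u50) p0r51

theorem p0r52 : allRange pointOk 18 2704 52 = true := by decide +kernel
theorem p0u52 : ∀ k, 0 ≤ k → k < 2756 → pointOk (k * 18) = true := between_extend pointOk 18 0 2704 52 (p0u51) p0r52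

theorem p0r53 : allRange pointOk 18 2756 52 = true := by decide +kernel
theorem p0u53 : ∀ k, 0 ≤ k → k < 2808 → pointOk (k * 18) = true := between_extend pointOk 18 0 2756 52 (p0u52) p0r53

theorem p0r54 : allRange pointOk 18 2808 52 = true := by decide +kernel
theorem p0u54 : ∀ k, 0 ≤ k → k < 2860 → pointOk (k * 18) = true := between_extend pointOk 18 0 2808 52 (p0u53) p0r54

theorem p0r55 : allRange pointOk 18 2860 52 = true := by decide +kernel
theorem p0u55 : ∀ k, 0 ≤ k → k < 2912 → pointOk (k * 18) = true := between_extend pointOk 18 0 2860 52 (p0u54) p0r55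

theorem p0r56 : allRange pointOk 18 2912 52 = true := by decide +kernel
theorem p0u56 : ∀ k, 0 ≤ k → k < 2964 → pointOk (k * 18) = true := between_extend pointOk 18 0 2912 52 (p0u55) p0r56

theorem p0r57 : allRange pointOk 18 2964 52 = true := by decide +kernel
theorem p0u57 : ∀ k, 0 ≤ k → k < 3016 → pointOk (k * 18) = true := between_extend pointOk 18 0 2964 52 (p0u56) p0r57

theorem p0r58 : allRange pointOk 18 3016 52 = true := by decide +kernel
theorem p0u58 : ∀ k, 0 ≤ k → k < 3068 → pointOk (k * 18) = true := between_extend pointOk 18 0 3016 52 (p0u57) p0r58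

theorem p0r59 : allRange pointOk 18 3068 52 = true := by decide +kernel
theorem p0u59 : ∀ k, 0 ≤ k → k < 3120 → pointOk (k * 18) = true := between_extend pointOk 18 0 3068 52 (p0u58) p0r59

theorem p0r60 : allRange pointOk 18 3120 52 = true := by decide +kernel
theorem p0u60 : ∀ k, 0 ≤ k → k < 3172 → pointOk (k * 18) = true := between_extend pointOk 18 0 3120 52 (p0u59) p0r60

theorem p0r61 : allRange pointOk 18 3172 52 = true := by decide +kernel
theorem p0u61 : ∀ k, 0 ≤ k → k < 3224 → pointOk (k * 18) = true := between_extend pointOk 18 0 3172 52 (p0u60) p0r61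

theorem p0r62 : allRange pointOk 18 3224 52 = true := by decide +kernel
theorem p0u62 : ∀ k, 0 ≤ k → k < 3276 → pointOk (k * 18) = true := between_extend pointOk 18 0 3224 52 (p0u61) p0r62

theorem p0r63 : allRange pointOk 18 3276 52 = true := by decide +kernel
theorem p0u63 : ∀ k, 0 ≤ k → k < 3328 → pointOk (k * 18) = true := between_extend pointOk 18 0 3276 52 (p0u62) p0r63

theorem p0r64 : allRange pointOk 18 3328 52 = true := by decide +kernel
theorem p0u64 : ∀ k, 0 ≤ k → k < 3380 → pointOk (k * 18) = true := between_extend pointOk 18 0 3328 52 (p0u63) p0r64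

theorem p0r65 : allRange pointOk 18 3380 52 = true := by decide +kernel
theorem p0u65 : ∀ k, 0 ≤ k → k < 3432 → pointOk (k * 18) = true := between_extend pointOk 18 0 3380 52 (p0u64) p0r65

theorem p0r66 : allRange pointOk 18 3432 52 = true := by decide +kernel
theorem p0u66 : ∀ k, 0 ≤ k → k < 3484 → pointOk (k * 18) = true := between_extend pointOk 18 0 3432 52 (p0u65) p0r66

theorem p0r67 : allRange pointOk 18 3484 36 = true := by decide +kernel
theorem p0u67 : ∀ k, 0 ≤ k → k < 3520 → pointOk (k * 18) = true := between_extend pointOk 18 0 3484 36 (p0u66) p0r67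

theorem p0 : ∀ k, 0 ≤ k → k < 3520 → pointOk (k * 18) = true := p0u67

end Cfsg.Agent.Lib.Helper28_S1685
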