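import Cfsg.Agent.Lib.Helper28_S1685UDef

set_option autoImplicit false
set_option linter.constructorNameAsVariable false
set_option Elab.async false

namespace Cfsg.Agent.Lib.Helper28_S1685.U

open Cfsg.Agent.Lib.Helper28_CosetPerm

theorem f1r0 : allRange blockOk 1 77 61 = true := by decide +kernel
theorem f1u0 : ∀ k, 77 ≤ k → k < 138 → blockOk (k * 1) = true := between_extend blockOk 1 77 77 61 (between_start blockOk 1 77) f1r0

theorem f1r1 : allRange blockOk 1 138 12 = true := by decide +kernel
theorem f1u1 : ∀ k, 77 ≤ k → k < 150 → blockOk (k * 1) = true := between_extend blockOk 1 77 138 12 (f1u0) f1r1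

theorem f1 : ∀ k, 77 ≤ k → k < 150 → blockOk (k * 1) = true := f1u1

end Cfsg.Agent.Lib.Helper28_S1685.U
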