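import Cfsg.Agent.Lib.Helper28_S1685UDef

set_option autoImplicit false
set_option linter.constructorNameAsVariable false
set_option Elab.async false

namespace Cfsg.Agent.Lib.Helper28_S1685.U

open Cfsg.Agent.Lib.Helper28_CosetPerm

theorem r1r0 : allRange rowOk 1 8452 3787 = true := by decide +kernel
theorem r1u0 : ∀ k, 8452 ≤ k → k < 12239 → rowOk (k * 1) = true := between_extend rowOk 1 8452 8452 3787 (between_start rowOk 1 8452) r1r0

theorem r1r1 : allRange rowOk 1 12239 3280 = true := by decide +kernel
theorem r1u1 : ∀ k, 8452 ≤ k → k < 15519 → rowOk (k * 1) = true := between_extend rowOk 1 8452 12239 3280 (r1u0) r1r1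

theorem r1 : ∀ k, 8452 ≤ k → k < 15519 → rowOk (k * 1) = true := r1u1

end Cfsg.Agent.Lib.Helper28_S1685.U
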