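import Cfsg.Agent.Lib.Helper28_S1687Def

set_option autoImplicit false
set_option linter.constructorNameAsVariable false
set_option Elab.async false

namespace Cfsg.Agent.Lib.Helper28_S1687

open Cfsg.Agent.Lib.Helper28_CosetPerm

theorem o0r0 : allRange orbOk 16 0 936 = true := by decide +kernel
theorem o0u0 : ∀ k, 0 ≤ k → k < 936 → orbOk (k * 16) = true := between_extend orbOk 16 0 0 936 (between_start orbOk 16 0) o0r0

theorem o0r1 : allRange orbOk 16 936 936 = true := by decide +kernel
theorem o0u1 : ∀ k, 0 ≤ k → k < 1872 → orbOk (k * 16) = true := between_extend orbOk 16 0 936 936 (o0u0) o0r1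

theorem o0r2 : allRange orbOk 16 1872 936 = true := by decide +kernel
theorem o0u2 : ∀ k, 0 ≤ k → k < 2808 → orbOk (k * 16) = true := between_extend orbOk 16 0 1872 936 (o0u1) o0r2

theorem o0r3 : allRange orbOk 16 2808 702 = true := by decide +kernel
theorem o0u3 : ∀ k, 0 ≤ k → k < 3510 → orbOk (k * 16) = true := between_extend orbOk 16 0 2808 702 (o0u2) o0r3

theorem o0 : ∀ k, 0 ≤ k → k < 3510 → orbOk (k * 16) = true := o0u3

end Cfsg.Agent.Lib.Helper28_S1687
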