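import Cfsg.Agent.Lib.Helper28_S1687Def

set_option autoImplicit false
set_option linter.constructorNameAsVariable false
set_option Elab.async false

namespace Cfsg.Agent.Lib.Helper28_S1687

open Cfsg.Agent.Lib.Helper28_CosetPerm

theorem p0r0 : allRange pointOk 16 0 232 = true := by decide +kernel
theorem p0u0 : ∀ k, 0 ≤ k → k < 232 → pointOk (k * 16) = true := between_extend pointOk 16 0 0 232 (between_start pointOk 16 0) p0r0

theorem p0r1 : allRange pointOk 16 232 232 = true := by decide +kernel
theorem p0u1 : ∀ k, 0 ≤ k → k < 464 → pointOk (k * 16) = true := between_extend pointOk 16 0 232 232 (p0u0) p0r1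

theorem p0r2 : allRange pointOk 16 464 232 = true := by decide +kernel
theorem p0u2 : ∀ k, 0 ≤ k → k < 696 → pointOk (k * 16) = true := between_extend pointOk 16 0 464 232 (p0u1) p0r2

theorem p0r3 : allRange pointOk 16 696 232 = true := by decide +kernel
theorem p0u3 : ∀ k, 0 ≤ k → k < 928 → pointOk (k * 16) = true := between_extend pointOk 16 0 696 232 (p0u2) p0r3

theorem p0r4 : allRange pointOk 16 928 232 = true := by decide +kernel
theorem p0u4 : ∀ k, 0 ≤ k → k < 1160 → pointOk (k * 16) = true := between_extend pointOk 16 0 928 232 (p0u3) p0r4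

theorem p0r5 : allRange pointOk 16 1160 232 = true := by decide +kernel
theorem p0u5 : ∀ k, 0 ≤ k → k < 1392 → pointOk (k * 16) = true := between_extend pointOk 16 0 1160 232 (p0u4) p0r5

theorem p0r6 : allRange pointOk 16 1392 232 = true := by decide +kernel
theorem p0u6 : ∀ k, 0 ≤ k → k < 1624 → pointOk (k * 16) = true := between_extend pointOk 16 0 1392 232 (p0u5) p0r6

theorem p0r7 : allRange pointOk 16 1624 232 = true := by decide +kernel
theorem p0u7 : ∀ k, 0 ≤ k → k < 1856 → pointOk (k * 16) = true := between_extend pointOk 16 0 1624 232 (p0u6) p0r7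

theorem p0r8 : allRange pointOk 16 1856 232 = true := by decide +kernel
theorem p0u8 : ∀ k, 0 ≤ k → k < 2088 → pointOk (k * 16) = true := between_extend pointOk 16 0 1856 232 (p0u7) p0r8

theorem p0r9 : allRange pointOk 16 2088 232 = true := by decide +kernel
theorem p0u9 : ∀ k, 0 ≤ k → k < 2320 → pointOk (k * 16) = true := between_extend pointOk 16 0 2088 232 (p0u8) p0r9

theorem p0r10 : allRange pointOk 16 2320 232 = true := by decide +kernel
theorem p0u10 : ∀ k, 0 ≤ k → k < 2552 → pointOk (k * 16) = true := between_extend pointOk 16 0 2320 232 (p0u9) p0r10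

theorem p0r11 : allRange pointOk 16 2552 232 = true := by decide +kernel
theorem p0u11 : ∀ k, 0 ≤ k → k < 2784 → pointOk (k * 16) = true := between_extend pointOk 16 0 2552 232 (p0u10) p0r11

theorem p0r12 : allRange pointOk 16 2784 232 = true := by decide +kernel
theorem p0u12 : ∀ k, 0 ≤ k → k < 3016 → pointOk (k * 16) = true := between_extend pointOk 16 0 2784 232 (p0u11) p0r12

theorem p0r13 : allRange pointOk 16 3016 232 = true := by decide +kernel
theorem p0u13 : ∀ k, 0 ≤ k → k < 3248 → pointOk (k * 16) = true := between_extend pointOk 16 0 3016 232 (p0u12) p0r13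

theorem p0r14 : allRange pointOk 16 3248 232 = true := by decide +kernel
theorem p0u14 : ∀ k, 0 ≤ k → k < 3480 → pointOk (k * 16) = true := between_extend pointOk 16 0 3248 232 (p0u13) p0r14

theorem p0r15 : allRange pointOk 16 3480 30 = true := by decide +kernel
theorem p0u15 : ∀ k, 0 ≤ k → k < 3510 → pointOk (k * 16) = true := between_extend pointOk 16 0 3480 30 (p0u14) p0r15

theorem p0 : ∀ k, 0 ≤ k → k < 3510 → pointOk (k * 16) = true := p0u15

end Cfsg.Agent.Lib.Helper28_S1687
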