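import Cfsg.Agent.Lib.Helper28_S1689Def

set_option autoImplicit false
set_option linter.constructorNameAsVariable false
set_option Elab.async false

namespace Cfsg.Agent.Lib.Helper28_S1689

open Cfsg.Agent.Lib.Helper28_CosetPerm

theorem o0r0 : allRange orbOk 20 0 172 = true := by decide +kernel
theorem o0u0 : ∀ k, 0 ≤ k → k < 172 → orbOk (k * 20) = true := between_extend orbOk 20 0 0 172 (between_start orbOk 20 0) o0r0

theorem o0r1 : allRange orbOk 20 172 172 = true := by decide +kernel
theorem o0u1 : ∀ k, 0 ≤ k → k < 344 → orbOk (k * 20) = true := between_extend orbOk 20 0 172 172 (o0u0) o0r1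

theorem o0r2 : allRange orbOk 20 344 172 = true := by decide +kernel
theorem o0u2 : ∀ k, 0 ≤ k → k < 516 → orbOk (k * 20) = true := between_extend orbOk 20 0 344 172 (o0u1) o0r2

theorem o0r3 : allRange orbOk 20 516 172 = true := by decide +kernel
theorem o0u3 : ∀ k, 0 ≤ k → k < 688 → orbOk (k * 20) = true := between_extend orbOk 20 0 516 172 (o0u2) o0r3

theorem o0r4 : allRange orbOk 20 688 172 = true := by decide +kernel
theorem o0u4 : ∀ k, 0 ≤ k → k < 860 → orbOk (k * 20) = true := between_extend orbOk 20 0 688 172 (o0u3) o0r4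

theorem o0r5 : allRange orbOk 20 860 172 = true := by decide +kernel
theorem o0u5 : ∀ k, 0 ≤ k → k < 1032 → orbOk (k * 20) = true := between_extend orbOk 20 0 860 172 (o0u4) o0r5

theorem o0r6 : allRange orbOk 20 1032 172 = true := by decide +kernel
theorem o0u6 : ∀ k, 0 ≤ k → k < 1204 → orbOk (k * 20) = true := between_extend orbOk 20 0 1032 172 (o0u5) o0r6

theorem o0r7 : allRange orbOk 20 1204 172 = true := by decide +kernel
theorem o0u7 : ∀ k, 0 ≤ k → k < 1376 → orbOk (k * 20) = true := between_extend orbOk 20 0 1204 172 (o0u6) o0r7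

theorem o0r8 : allRange orbOk 20 1376 172 = true := by decide +kernel
theorem o0u8 : ∀ k, 0 ≤ k → k < 1548 → orbOk (k * 20) = true := between_extend orbOk 20 0 1376 172 (o0u7) o0r8

theorem o0r9 : allRange orbOk 20 1548 172 = true := by decide +kernel
theorem o0u9 : ∀ k, 0 ≤ k → k < 1720 → orbOk (k * 20) = true := between_extend orbOk 20 0 1548 172 (o0u8) o0r9

theorem o0r10 : allRange orbOk 20 1720 172 = true := by decide +kernel
theorem o0u10 : ∀ k, 0 ≤ k → k < 1892 → orbOk (k * 20) = true := between_extend orbOk 20 0 1720 172 (o0u9) o0r10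

theorem o0r11 : allRange orbOk 20 1892 172 = true := by decide +kernel
theorem o0u11 : ∀ k, 0 ≤ k → k < 2064 → orbOk (k * 20) = true := between_extend orbOk 20 0 1892 172 (o0u10) o0r11

theorem o0r12 : allRange orbOk 20 2064 172 = true := by decide +kernel
theorem o0u12 : ∀ k, 0 ≤ k → k < 2236 → orbOk (k * 20) = true := between_extend orbOk 20 0 2064 172 (o0u11) o0r12

theorem o0r13 : allRange orbOk 20 2236 172 = true := by decide +kernel
theorem o0u13 : ∀ k, 0 ≤ k → k < 2408 → orbOk (k * 20) = true := between_extend orbOk 20 0 2236 172 (o0u12) o0r13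

theorem o0r14 : allRange orbOk 20 2408 172 = true := by decide +kernel
theorem o0u14 : ∀ k, 0 ≤ k → k < 2580 → orbOk (k * 20) = true := between_extend orbOk 20 0 2408 172 (o0u13) o0r14

theorem o0r15 : allRange orbOk 20 2580 172 = true := by decide +kernel
theorem o0u15 : ∀ k, 0 ≤ k → k < 2752 → orbOk (k * 20) = true := between_extend orbOk 20 0 2580 172 (o0u14) o0r15

theorem o0r16 : allRange orbOk 20 2752 172 = true := by decide +kernel
theorem o0u16 : ∀ k, 0 ≤ k → k < 2924 → orbOk (k * 20) = true := between_extend orbOk 20 0 2752 172 (o0u15) o0r16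

theorem o0r17 : allRange orbOk 20 2924 172 = true := by decide +kernel
theorem o0u17 : ∀ k, 0 ≤ k → k < 3096 → orbOk (k * 20) = true := between_extend orbOk 20 0 2924 172 (o0u16) o0r17

theorem o0r18 : allRange orbOk 20 3096 172 = true := by decide +kernel
theorem o0u18 : ∀ k, 0 ≤ k → k < 3268 → orbOk (k * 20) = true := between_extend orbOk 20 0 3096 172 (o0u17) o0r18

theorem o0r19 : allRange orbOk 20 3268 172 = true := by decide +kernel
theorem o0u19 : ∀ k, 0 ≤ k → k < 3440 → orbOk (k * 20) = true := between_extend orbOk 20 0 3268 172 (o0u18) o0r19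

theorem o0r20 : allRange orbOk 20 3440 172 = true := by decide +kernel
theorem o0u20 : ∀ k, 0 ≤ k → k < 3612 → orbOk (k * 20) = true := between_extend orbOk 20 0 3440 172 (o0u19) o0r20

theorem o0r21 : allRange orbOk 20 3612 172 = true := by decide +kernel
theorem o0u21 : ∀ k, 0 ≤ k → k < 3784 → orbOk (k * 20) = true := between_extend orbOk 20 0 3612 172 (o0u20) o0r21

theorem o0r22 : allRange orbOk 20 3784 172 = true := by decide +kernel
theorem o0u22 : ∀ k, 0 ≤ k → k < 3956 → orbOk (k * 20) = true := between_extend orbOk 20 0 3784 172 (o0u21) o0r22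

theorem o0r23 : allRange orbOk 20 3956 172 = true := by decide +kernel
theorem o0u23 : ∀ k, 0 ≤ k → k < 4128 → orbOk (k * 20) = true := between_extend orbOk 20 0 3956 172 (o0u22) o0r23

theorem o0r24 : allRange orbOk 20 4128 172 = true := by decide +kernel
theorem o0u24 : ∀ k, 0 ≤ k → k < 4300 → orbOk (k * 20) = true := between_extend orbOk 20 0 4128 172 (o0u23) o0r24

theorem o0r25 : allRange orbOk 20 4300 172 = true := by decide +kernel
theorem o0u25 : ∀ k, 0 ≤ k → k < 4472 → orbOk (k * 20) = true := between_extend orbOk 20 0 4300 172 (o0u24) o0r25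

theorem o0r26 : allRange orbOk 20 4472 172 = true := by decide +kernel
theorem o0u26 : ∀ k, 0 ≤ k → k < 4644 → orbOk (k * 20) = true := between_extend orbOk 20 0 4472 172 (o0u25) o0r26

theorem o0r27 : allRange orbOk 20 4644 172 = true := by decide +kernel
theorem o0u27 : ∀ k, 0 ≤ k → k < 4816 → orbOk (k * 20) = true := between_extend orbOk 20 0 4644 172 (o0u26) o0r27

theorem o0r28 : allRange orbOk 20 4816 172 = true := by decide +kernel
theorem o0u28 : ∀ k, 0 ≤ k → k < 4988 → orbOk (k * 20) = true := between_extend orbOk 20 0 4816 172 (o0u27) o0r28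

theorem o0r29 : allRange orbOk 20 4988 172 = true := by decide +kernel
theorem o0u29 : ∀ k, 0 ≤ k → k < 5160 → orbOk (k * 20) = true := between_extend orbOk 20 0 4988 172 (o0u28) o0r29

theorem o0r30 : allRange orbOk 20 5160 172 = true := by decide +kernel
theorem o0u30 : ∀ k, 0 ≤ k → k < 5332 → orbOk (k * 20) = true := between_extend orbOk 20 0 5160 172 (o0u29) o0r30

theorem o0r31 : allRange orbOk 20 5332 172 = true := by decide +kernel
theorem o0u31 : ∀ k, 0 ≤ k → k < 5504 → orbOk (k * 20) = true := between_extend orbOk 20 0 5332 172 (o0u30) o0r31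

theorem o0r32 : allRange orbOk 20 5504 172 = true := by decide +kernel
theorem o0u32 : ∀ k, 0 ≤ k → k < 5676 → orbOk (k * 20) = true := between_extend orbOk 20 0 5504 172 (o0u31) o0r32

theorem o0r33 : allRange orbOk 20 5676 172 = true := by decide +kernel
theorem o0u33 : ∀ k, 0 ≤ k → k < 5848 → orbOk (k * 20) = true := between_extend orbOk 20 0 5676 172 (o0u32) o0r33

theorem o0r34 : allRange orbOk 20 5848 172 = true := by decide +kernel
theorem o0u34 : ∀ k, 0 ≤ k → k < 6020 → orbOk (k * 20) = true := between_extend orbOk 20 0 5848 172 (o0u33) o0r34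

theorem o0r35 : allRange orbOk 20 6020 172 = true := by decide +kernel
theorem o0u35 : ∀ k, 0 ≤ k → k < 6192 → orbOk (k * 20) = true := between_extend orbOk 20 0 6020 172 (o0u34) o0r35

theorem o0r36 : allRange orbOk 20 6192 172 = true := by decide +kernel
theorem o0u36 : ∀ k, 0 ≤ k → k < 6364 → orbOk (k * 20) = true := between_extend orbOk 20 0 6192 172 (o0u35) o0r36

theorem o0r37 : allRange orbOk 20 6364 172 = true := by decide +kernel
theorem o0u37 : ∀ k, 0 ≤ k → k < 6536 → orbOk (k * 20) = true := between_extend orbOk 20 0 6364 172 (o0u36) o0r37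

theorem o0r38 : allRange orbOk 20 6536 172 = true := by decide +kernel
theorem o0u38 : ∀ k, 0 ≤ k → k < 6708 → orbOk (k * 20) = true := between_extend orbOk 20 0 6536 172 (o0u37) o0r38

theorem o0r39 : allRange orbOk 20 6708 172 = true := by decide +kernel
theorem o0u39 : ∀ k, 0 ≤ k → k < 6880 → orbOk (k * 20) = true := between_extend orbOk 20 0 6708 172 (o0u38) o0r39

theorem o0r40 : allRange orbOk 20 6880 172 = true := by decide +kernel
theorem o0u40 : ∀ k, 0 ≤ k → k < 7052 → orbOk (k * 20) = true := between_extend orbOk 20 0 6880 172 (o0u39) o0r40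

theorem o0r41 : allRange orbOk 20 7052 172 = true := by decide +kernel
theorem o0u41 : ∀ k, 0 ≤ k → k < 7224 → orbOk (k * 20) = true := between_extend orbOk 20 0 7052 172 (o0u40) o0r41

theorem o0r42 : allRange orbOk 20 7224 172 = true := by decide +kernel
theorem o0u42 : ∀ k, 0 ≤ k → k < 7396 → orbOk (k * 20) = true := between_extend orbOk 20 0 7224 172 (o0u41) o0r42

theorem o0r43 : allRange orbOk 20 7396 172 = true := by decide +kernel
theorem o0u43 : ∀ k, 0 ≤ k → k < 7568 → orbOk (k * 20) = true := between_extend orbOk 20 0 7396 172 (o0u42) o0r43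

theorem o0r44 : allRange orbOk 20 7568 172 = true := by decide +kernel
theorem o0u44 : ∀ k, 0 ≤ k → k < 7740 → orbOk (k * 20) = true := between_extend orbOk 20 0 7568 172 (o0u43) o0r44

theorem o0r45 : allRange orbOk 20 7740 172 = true := by decide +kernel
theorem o0u45 : ∀ k, 0 ≤ k → k < 7912 → orbOk (k * 20) = true := between_extend orbOk 20 0 7740 172 (o0u44) o0r45

theorem o0r46 : allRange orbOk 20 7912 172 = true := by decide +kernel
theorem o0u46 : ∀ k, 0 ≤ k → k < 8084 → orbOk (k * 20) = true := between_extend orbOk 20 0 7912 172 (o0u45) o0r46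

theorem o0r47 : allRange orbOk 20 8084 172 = true := by decide +kernel
theorem o0u47 : ∀ k, 0 ≤ k → k < 8256 → orbOk (k * 20) = true := between_extend orbOk 20 0 8084 172 (o0u46) o0r47

theorem o0r48 : allRange orbOk 20 8256 172 = true := by decide +kernel
theorem o0u48 : ∀ k, 0 ≤ k → k < 8428 → orbOk (k * 20) = true := between_extend orbOk 20 0 8256 172 (o0u47) o0r48

theorem o0r49 : allRange orbOk 20 8428 172 = true := by decide +kernel
theorem o0u49 : ∀ k, 0 ≤ k → k < 8600 → orbOk (k * 20) = true := between_extend orbOk 20 0 8428 172 (o0u48) o0r49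

theorem o0r50 : allRange orbOk 20 8600 172 = true := by decide +kernel
theorem o0u50 : ∀ k, 0 ≤ k → k < 8772 → orbOk (k * 20) = true := between_extend orbOk 20 0 8600 172 (o0u49) o0r50

theorem o0r51 : allRange orbOk 20 8772 172 = true := by decide +kernel
theorem o0u51 : ∀ k, 0 ≤ k → k < 8944 → orbOk (k * 20) = true := between_extend orbOk 20 0 8772 172 (o0u50) o0r51

theorem o0r52 : allRange orbOk 20 8944 172 = true := by decide +kernel
theorem o0u52 : ∀ k, 0 ≤ k → k < 9116 → orbOk (k * 20) = true := between_extend orbOk 20 0 8944 172 (o0u51) o0r52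

theorem o0r53 : allRange orbOk 20 9116 172 = true := by decide +kernel
theorem o0u53 : ∀ k, 0 ≤ k → k < 9288 → orbOk (k * 20) = true := between_extend orbOk 20 0 9116 172 (o0u52) o0r53

theorem o0r54 : allRange orbOk 20 9288 172 = true := by decide +kernel
theorem o0u54 : ∀ k, 0 ≤ k → k < 9460 → orbOk (k * 20) = true := between_extend orbOk 20 0 9288 172 (o0u53) o0r54

theorem o0r55 : allRange orbOk 20 9460 172 = true := by decide +kernel
theorem o0u55 : ∀ k, 0 ≤ k → k < 9632 → orbOk (k * 20) = true := between_extend orbOk 20 0 9460 172 (o0u54) o0r55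

theorem o0r56 : allRange orbOk 20 9632 172 = true := by decide +kernel
theorem o0u56 : ∀ k, 0 ≤ k → k < 9804 → orbOk (k * 20) = true := between_extend orbOk 20 0 9632 172 (o0u55) o0r56

theorem o0r57 : allRange orbOk 20 9804 172 = true := by decide +kernel
theorem o0u57 : ∀ k, 0 ≤ k → k < 9976 → orbOk (k * 20) = true := between_extend orbOk 20 0 9804 172 (o0u56) o0r57

theorem o0r58 : allRange orbOk 20 9976 172 = true := by decide +kernel
theorem o0u58 : ∀ k, 0 ≤ k → k < 10148 → orbOk (k * 20) = true := between_extend orbOk 20 0 9976 172 (o0u57) o0r58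

theorem o0r59 : allRange orbOk 20 10148 172 = true := by decide +kernel
theorem o0u59 : ∀ k, 0 ≤ k → k < 10320 → orbOk (k * 20) = true := between_extend orbOk 20 0 10148 172 (o0u58) o0r59

theorem o0r60 : allRange orbOk 20 10320 172 = true := by decide +kernel
theorem o0u60 : ∀ k, 0 ≤ k → k < 10492 → orbOk (k * 20) = true := between_extend orbOk 20 0 10320 172 (o0u59) o0r60

theorem o0r61 : allRange orbOk 20 10492 172 = true := by decide +kernel
theorem o0u61 : ∀ k, 0 ≤ k → k < 10664 → orbOk (k * 20) = true := between_extend orbOk 20 0 10492 172 (o0u60) o0r61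

theorem o0r62 : allRange orbOk 20 10664 172 = true := by decide +kernel
theorem o0u62 : ∀ k, 0 ≤ k → k < 10836 → orbOk (k * 20) = true := between_extend orbOk 20 0 10664 172 (o0u61) o0r62

theorem o0r63 : allRange orbOk 20 10836 172 = true := by decide +kernel
theorem o0u63 : ∀ k, 0 ≤ k → k < 11008 → orbOk (k * 20) = true := between_extend orbOk 20 0 10836 172 (o0u62) o0r63

theorem o0r64 : allRange orbOk 20 11008 172 = true := by decide +kernel
theorem o0u64 : ∀ k, 0 ≤ k → k < 11180 → orbOk (k * 20) = true := between_extend orbOk 20 0 11008 172 (o0u63) o0r64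

theorem o0r65 : allRange orbOk 20 11180 172 = true := by decide +kernel
theorem o0u65 : ∀ k, 0 ≤ k → k < 11352 → orbOk (k * 20) = true := between_extend orbOk 20 0 11180 172 (o0u64) o0r65

theorem o0r66 : allRange orbOk 20 11352 172 = true := by decide +kernel
theorem o0u66 : ∀ k, 0 ≤ k → k < 11524 → orbOk (k * 20) = true := between_extend orbOk 20 0 11352 172 (o0u65) o0r66

theorem o0r67 : allRange orbOk 20 11524 172 = true := by decide +kernel
theorem o0u67 : ∀ k, 0 ≤ k → k < 11696 → orbOk (k * 20) = true := between_extend orbOk 20 0 11524 172 (o0u66) o0r67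

theorem o0r68 : allRange orbOk 20 11696 172 = true := by decide +kernel
theorem o0u68 : ∀ k, 0 ≤ k → k < 11868 → orbOk (k * 20) = true := between_extend orbOk 20 0 11696 172 (o0u67) o0r68

theorem o0r69 : allRange orbOk 20 11868 172 = true := by decide +kernel
theorem o0u69 : ∀ k, 0 ≤ k → k < 12040 → orbOk (k * 20) = true := between_extend orbOk 20 0 11868 172 (o0u68) o0r69

theorem o0r70 : allRange orbOk 20 12040 172 = true := by decide +kernel
theorem o0u70 : ∀ k, 0 ≤ k → k < 12212 → orbOk (k * 20) = true := between_extend orbOk 20 0 12040 172 (o0u69) o0r70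

theorem o0r71 : allRange orbOk 20 12212 172 = true := by decide +kernel
theorem o0u71 : ∀ k, 0 ≤ k → k < 12384 → orbOk (k * 20) = true := between_extend orbOk 20 0 12212 172 (o0u70) o0r71

theorem o0r72 : allRange orbOk 20 12384 172 = true := by decide +kernel
theorem o0u72 : ∀ k, 0 ≤ k → k < 12556 → orbOk (k * 20) = true := between_extend orbOk 20 0 12384 172 (o0u71) o0r72

theorem o0r73 : allRange orbOk 20 12556 172 = true := by decide +kernel
theorem o0u73 : ∀ k, 0 ≤ k → k < 12728 → orbOk (k * 20) = true := between_extend orbOk 20 0 12556 172 (o0u72) o0r73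

theorem o0r74 : allRange orbOk 20 12728 172 = true := by decide +kernel
theorem o0u74 : ∀ k, 0 ≤ k → k < 12900 → orbOk (k * 20) = true := between_extend orbOk 20 0 12728 172 (o0u73) o0r74

theorem o0r75 : allRange orbOk 20 12900 172 = true := by decide +kernel
theorem o0u75 : ∀ k, 0 ≤ k → k < 13072 → orbOk (k * 20) = true := between_extend orbOk 20 0 12900 172 (o0u74) o0r75

theorem o0r76 : allRange orbOk 20 13072 172 = true := by decide +kernel
theorem o0u76 : ∀ k, 0 ≤ k → k < 13244 → orbOk (k * 20) = true := between_extend orbOk 20 0 13072 172 (o0u75) o0r76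

theorem o0r77 : allRange orbOk 20 13244 172 = true := by decide +kernel
theorem o0u77 : ∀ k, 0 ≤ k → k < 13416 → orbOk (k * 20) = true := between_extend orbOk 20 0 13244 172 (o0u76) o0r77

theorem o0r78 : allRange orbOk 20 13416 172 = true := by decide +kernel
theorem o0u78 : ∀ k, 0 ≤ k → k < 13588 → orbOk (k * 20) = true := between_extend orbOk 20 0 13416 172 (o0u77) o0r78

theorem o0r79 : allRange orbOk 20 13588 172 = true := by decide +kernel
theorem o0u79 : ∀ k, 0 ≤ k → k < 13760 → orbOk (k * 20) = true := between_extend orbOk 20 0 13588 172 (o0u78) o0r79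

theorem o0r80 : allRange orbOk 20 13760 172 = true := by decide +kernel
theorem o0u80 : ∀ k, 0 ≤ k → k < 13932 → orbOk (k * 20) = true := between_extend orbOk 20 0 13760 172 (o0u79) o0r80

theorem o0r81 : allRange orbOk 20 13932 172 = true := by decide +kernel
theorem o0u81 : ∀ k, 0 ≤ k → k < 14104 → orbOk (k * 20) = true := between_extend orbOk 20 0 13932 172 (o0u80) o0r81

theorem o0r82 : allRange orbOk 20 14104 172 = true := by decide +kernel
theorem o0u82 : ∀ k, 0 ≤ k → k < 14276 → orbOk (k * 20) = true := between_extend orbOk 20 0 14104 172 (o0u81) o0r82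

theorem o0r83 : allRange orbOk 20 14276 172 = true := by decide +kernel
theorem o0u83 : ∀ k, 0 ≤ k → k < 14448 → orbOk (k * 20) = true := between_extend orbOk 20 0 14276 172 (o0u82) o0r83

theorem o0r84 : allRange orbOk 20 14448 172 = true := by decide +kernel
theorem o0u84 : ∀ k, 0 ≤ k → k < 14620 → orbOk (k * 20) = true := between_extend orbOk 20 0 14448 172 (o0u83) o0r84

theorem o0r85 : allRange orbOk 20 14620 172 = true := by decide +kernel
theorem o0u85 : ∀ k, 0 ≤ k → k < 14792 → orbOk (k * 20) = true := between_extend orbOk 20 0 14620 172 (o0u84) o0r85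

theorem o0r86 : allRange orbOk 20 14792 172 = true := by decide +kernel
theorem o0u86 : ∀ k, 0 ≤ k → k < 14964 → orbOk (k * 20) = true := between_extend orbOk 20 0 14792 172 (o0u85) o0r86

theorem o0r87 : allRange orbOk 20 14964 172 = true := by decide +kernel
theorem o0u87 : ∀ k, 0 ≤ k → k < 15136 → orbOk (k * 20) = true := between_extend orbOk 20 0 14964 172 (o0u86) o0r87

theorem o0r88 : allRange orbOk 20 15136 172 = true := by decide +kernel
theorem o0u88 : ∀ k, 0 ≤ k → k < 15308 → orbOk (k * 20) = true := between_extend orbOk 20 0 15136 172 (o0u87) o0r88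

theorem o0r89 : allRange orbOk 20 15308 172 = true := by decide +kernel
theorem o0u89 : ∀ k, 0 ≤ k → k < 15480 → orbOk (k * 20) = true := between_extend orbOk 20 0 15308 172 (o0u88) o0r89

theorem o0r90 : allRange orbOk 20 15480 172 = true := by decide +kernel
theorem o0u90 : ∀ k, 0 ≤ k → k < 15652 → orbOk (k * 20) = true := between_extend orbOk 20 0 15480 172 (o0u89) o0r90

theorem o0r91 : allRange orbOk 20 15652 172 = true := by decide +kernel
theorem o0u91 : ∀ k, 0 ≤ k → k < 15824 → orbOk (k * 20) = true := between_extend orbOk 20 0 15652 172 (o0u90) o0r91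

theorem o0r92 : allRange orbOk 20 15824 12 = true := by decide +kernel
theorem o0u92 : ∀ k, 0 ≤ k → k < 15836 → orbOk (k * 20) = true := between_extend orbOk 20 0 15824 12 (o0u91) o0r92

theorem o0 : ∀ k, 0 ≤ k → k < 15836 → orbOk (k * 20) = true := o0u92

end Cfsg.Agent.Lib.Helper28_S1689
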