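import Cfsg.Agent.Lib.Helper28_S1689Def

set_option autoImplicit false
set_option linter.constructorNameAsVariable false
set_option Elab.async false

namespace Cfsg.Agent.Lib.Helper28_S1689

open Cfsg.Agent.Lib.Helper28_CosetPerm

theorem o1r0 : allRange orbOk 20 15836 172 = true := by decide +kernel
theorem o1u0 : ∀ k, 15836 ≤ k → k < 16008 → orbOk (k * 20) = true := between_extend orbOk 20 15836 15836 172 (between_start orbOk 20 15836) o1r0

theorem o1r1 : allRange orbOk 20 16008 172 = true := by decide +kernel
theorem o1u1 : ∀ k, 15836 ≤ k → k < 16180 → orbOk (k * 20) = true := between_extend orbOk 20 15836 16008 172 (o1u0) o1r1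

theorem o1r2 : allRange orbOk 20 16180 172 = true := by decide +kernel
theorem o1u2 : ∀ k, 15836 ≤ k → k < 16352 → orbOk (k * 20) = true := between_extend orbOk 20 15836 16180 172 (o1u1) o1r2

theorem o1r3 : allRange orbOk 20 16352 172 = true := by decide +kernel
theorem o1u3 : ∀ k, 15836 ≤ k → k < 16524 → orbOk (k * 20) = true := between_extend orbOk 20 15836 16352 172 (o1u2) o1r3

theorem o1r4 : allRange orbOk 20 16524 172 = true := by decide +kernel
theorem o1u4 : ∀ k, 15836 ≤ k → k < 16696 → orbOk (k * 20) = true := between_extend orbOk 20 15836 16524 172 (o1u3) o1r4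

theorem o1r5 : allRange orbOk 20 16696 172 = true := by decide +kernel
theorem o1u5 : ∀ k, 15836 ≤ k → k < 16868 → orbOk (k * 20) = true := between_extend orbOk 20 15836 16696 172 (o1u4) o1r5

theorem o1r6 : allRange orbOk 20 16868 172 = true := by decide +kernel
theorem o1u6 : ∀ k, 15836 ≤ k → k < 17040 → orbOk (k * 20) = true := between_extend orbOk 20 15836 16868 172 (o1u5) o1r6

theorem o1r7 : allRange orbOk 20 17040 172 = true := by decide +kernel
theorem o1u7 : ∀ k, 15836 ≤ k → k < 17212 → orbOk (k * 20) = true := between_extend orbOk 20 15836 17040 172 (o1u6) o1r7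

theorem o1r8 : allRange orbOk 20 17212 172 = true := by decide +kernel
theorem o1u8 : ∀ k, 15836 ≤ k → k < 17384 → orbOk (k * 20) = true := between_extend orbOk 20 15836 17212 172 (o1u7) o1r8

theorem o1r9 : allRange orbOk 20 17384 172 = true := by decide +kernel
theorem o1u9 : ∀ k, 15836 ≤ k → k < 17556 → orbOk (k * 20) = true := between_extend orbOk 20 15836 17384 172 (o1u8) o1r9

theorem o1r10 : allRange orbOk 20 17556 172 = true := by decide +kernel
theorem o1u10 : ∀ k, 15836 ≤ k → k < 17728 → orbOk (k * 20) = true := between_extend orbOk 20 15836 17556 172 (o1u9) o1r10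

theorem o1r11 : allRange orbOk 20 17728 172 = true := by decide +kernel
theorem o1u11 : ∀ k, 15836 ≤ k → k < 17900 → orbOk (k * 20) = true := between_extend orbOk 20 15836 17728 172 (o1u10) o1r11

theorem o1r12 : allRange orbOk 20 17900 172 = true := by decide +kernel
theorem o1u12 : ∀ k, 15836 ≤ k → k < 18072 → orbOk (k * 20) = true := between_extend orbOk 20 15836 17900 172 (o1u11) o1r12

theorem o1r13 : allRange orbOk 20 18072 172 = true := by decide +kernel
theorem o1u13 : ∀ k, 15836 ≤ k → k < 18244 → orbOk (k * 20) = true := between_extend orbOk 20 15836 18072 172 (o1u12) o1r13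

theorem o1r14 : allRange orbOk 20 18244 172 = true := by decide +kernel
theorem o1u14 : ∀ k, 15836 ≤ k → k < 18416 → orbOk (k * 20) = true := between_extend orbOk 20 15836 18244 172 (o1u13) o1r14

theorem o1r15 : allRange orbOk 20 18416 172 = true := by decide +kernel
theorem o1u15 : ∀ k, 15836 ≤ k → k < 18588 → orbOk (k * 20) = true := between_extend orbOk 20 15836 18416 172 (o1u14) o1r15

theorem o1r16 : allRange orbOk 20 18588 172 = true := by decide +kernel
theorem o1u16 : ∀ k, 15836 ≤ k → k < 18760 → orbOk (k * 20) = true := between_extend orbOk 20 15836 18588 172 (o1u15) o1r16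

theorem o1r17 : allRange orbOk 20 18760 172 = true := by decide +kernel
theorem o1u17 : ∀ k, 15836 ≤ k → k < 18932 → orbOk (k * 20) = true := between_extend orbOk 20 15836 18760 172 (o1u16) o1r17

theorem o1r18 : allRange orbOk 20 18932 172 = true := by decide +kernel
theorem o1u18 : ∀ k, 15836 ≤ k → k < 19104 → orbOk (k * 20) = true := between_extend orbOk 20 15836 18932 172 (o1u17) o1r18

theorem o1r19 : allRange orbOk 20 19104 172 = true := by decide +kernel
theorem o1u19 : ∀ k, 15836 ≤ k → k < 19276 → orbOk (k * 20) = true := between_extend orbOk 20 15836 19104 172 (o1u18) o1r19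

theorem o1r20 : allRange orbOk 20 19276 172 = true := by decide +kernel
theorem o1u20 : ∀ k, 15836 ≤ k → k < 19448 → orbOk (k * 20) = true := between_extend orbOk 20 15836 19276 172 (o1u19) o1r20

theorem o1r21 : allRange orbOk 20 19448 172 = true := by decide +kernel
theorem o1u21 : ∀ k, 15836 ≤ k → k < 19620 → orbOk (k * 20) = true := between_extend orbOk 20 15836 19448 172 (o1u20) o1r21

theorem o1r22 : allRange orbOk 20 19620 172 = true := by decide +kernel
theorem o1u22 : ∀ k, 15836 ≤ k → k < 19792 → orbOk (k * 20) = true := between_extend orbOk 20 15836 19620 172 (o1u21) o1r22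

theorem o1r23 : allRange orbOk 20 19792 172 = true := by decide +kernel
theorem o1u23 : ∀ k, 15836 ≤ k → k < 19964 → orbOk (k * 20) = true := between_extend orbOk 20 15836 19792 172 (o1u22) o1r23

theorem o1r24 : allRange orbOk 20 19964 172 = true := by decide +kernel
theorem o1u24 : ∀ k, 15836 ≤ k → k < 20136 → orbOk (k * 20) = true := between_extend orbOk 20 15836 19964 172 (o1u23) o1r24

theorem o1r25 : allRange orbOk 20 20136 172 = true := by decide +kernel
theorem o1u25 : ∀ k, 15836 ≤ k → k < 20308 → orbOk (k * 20) = true := between_extend orbOk 20 15836 20136 172 (o1u24) o1r25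

theorem o1r26 : allRange orbOk 20 20308 172 = true := by decide +kernel
theorem o1u26 : ∀ k, 15836 ≤ k → k < 20480 → orbOk (k * 20) = true := between_extend orbOk 20 15836 20308 172 (o1u25) o1r26

theorem o1r27 : allRange orbOk 20 20480 172 = true := by decide +kernel
theorem o1u27 : ∀ k, 15836 ≤ k → k < 20652 → orbOk (k * 20) = true := between_extend orbOk 20 15836 20480 172 (o1u26) o1r27

theorem o1r28 : allRange orbOk 20 20652 172 = true := by decide +kernel
theorem o1u28 : ∀ k, 15836 ≤ k → k < 20824 → orbOk (k * 20) = true := between_extend orbOk 20 15836 20652 172 (o1u27) o1r28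

theorem o1r29 : allRange orbOk 20 20824 172 = true := by decide +kernel
theorem o1u29 : ∀ k, 15836 ≤ k → k < 20996 → orbOk (k * 20) = true := between_extend orbOk 20 15836 20824 172 (o1u28) o1r29

theorem o1r30 : allRange orbOk 20 20996 172 = true := by decide +kernel
theorem o1u30 : ∀ k, 15836 ≤ k → k < 21168 → orbOk (k * 20) = true := between_extend orbOk 20 15836 20996 172 (o1u29) o1r30

theorem o1r31 : allRange orbOk 20 21168 172 = true := by decide +kernel
theorem o1u31 : ∀ k, 15836 ≤ k → k < 21340 → orbOk (k * 20) = true := between_extend orbOk 20 15836 21168 172 (o1u30) o1r31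

theorem o1r32 : allRange orbOk 20 21340 172 = true := by decide +kernel
theorem o1u32 : ∀ k, 15836 ≤ k → k < 21512 → orbOk (k * 20) = true := between_extend orbOk 20 15836 21340 172 (o1u31) o1r32

theorem o1r33 : allRange orbOk 20 21512 172 = true := by decide +kernel
theorem o1u33 : ∀ k, 15836 ≤ k → k < 21684 → orbOk (k * 20) = true := between_extend orbOk 20 15836 21512 172 (o1u32) o1r33

theorem o1r34 : allRange orbOk 20 21684 172 = true := by decide +kernel
theorem o1u34 : ∀ k, 15836 ≤ k → k < 21856 → orbOk (k * 20) = true := between_extend orbOk 20 15836 21684 172 (o1u33) o1r34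

theorem o1r35 : allRange orbOk 20 21856 172 = true := by decide +kernel
theorem o1u35 : ∀ k, 15836 ≤ k → k < 22028 → orbOk (k * 20) = true := between_extend orbOk 20 15836 21856 172 (o1u34) o1r35

theorem o1r36 : allRange orbOk 20 22028 172 = true := by decide +kernel
theorem o1u36 : ∀ k, 15836 ≤ k → k < 22200 → orbOk (k * 20) = true := between_extend orbOk 20 15836 22028 172 (o1u35) o1r36

theorem o1r37 : allRange orbOk 20 22200 172 = true := by decide +kernel
theorem o1u37 : ∀ k, 15836 ≤ k → k < 22372 → orbOk (k * 20) = true := between_extend orbOk 20 15836 22200 172 (o1u36) o1r37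

theorem o1r38 : allRange orbOk 20 22372 172 = true := by decide +kernel
theorem o1u38 : ∀ k, 15836 ≤ k → k < 22544 → orbOk (k * 20) = true := between_extend orbOk 20 15836 22372 172 (o1u37) o1r38

theorem o1r39 : allRange orbOk 20 22544 172 = true := by decide +kernel
theorem o1u39 : ∀ k, 15836 ≤ k → k < 22716 → orbOk (k * 20) = true := between_extend orbOk 20 15836 22544 172 (o1u38) o1r39

theorem o1r40 : allRange orbOk 20 22716 172 = true := by decide +kernel
theorem o1u40 : ∀ k, 15836 ≤ k → k < 22888 → orbOk (k * 20) = true := between_extend orbOk 20 15836 22716 172 (o1u39) o1r40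

theorem o1r41 : allRange orbOk 20 22888 172 = true := by decide +kernel
theorem o1u41 : ∀ k, 15836 ≤ k → k < 23060 → orbOk (k * 20) = true := between_extend orbOk 20 15836 22888 172 (o1u40) o1r41

theorem o1r42 : allRange orbOk 20 23060 172 = true := by decide +kernel
theorem o1u42 : ∀ k, 15836 ≤ k → k < 23232 → orbOk (k * 20) = true := between_extend orbOk 20 15836 23060 172 (o1u41) o1r42

theorem o1r43 : allRange orbOk 20 23232 172 = true := by decide +kernel
theorem o1u43 : ∀ k, 15836 ≤ k → k < 23404 → orbOk (k * 20) = true := between_extend orbOk 20 15836 23232 172 (o1u42) o1r43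

theorem o1r44 : allRange orbOk 20 23404 172 = true := by decide +kernel
theorem o1u44 : ∀ k, 15836 ≤ k → k < 23576 → orbOk (k * 20) = true := between_extend orbOk 20 15836 23404 172 (o1u43) o1r44

theorem o1r45 : allRange orbOk 20 23576 172 = true := by decide +kernel
theorem o1u45 : ∀ k, 15836 ≤ k → k < 23748 → orbOk (k * 20) = true := between_extend orbOk 20 15836 23576 172 (o1u44) o1r45

theorem o1r46 : allRange orbOk 20 23748 172 = true := by decide +kernel
theorem o1u46 : ∀ k, 15836 ≤ k → k < 23920 → orbOk (k * 20) = true := between_extend orbOk 20 15836 23748 172 (o1u45) o1r46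

theorem o1r47 : allRange orbOk 20 23920 172 = true := by decide +kernel
theorem o1u47 : ∀ k, 15836 ≤ k → k < 24092 → orbOk (k * 20) = true := between_extend orbOk 20 15836 23920 172 (o1u46) o1r47

theorem o1r48 : allRange orbOk 20 24092 172 = true := by decide +kernel
theorem o1u48 : ∀ k, 15836 ≤ k → k < 24264 → orbOk (k * 20) = true := between_extend orbOk 20 15836 24092 172 (o1u47) o1r48

theorem o1r49 : allRange orbOk 20 24264 172 = true := by decide +kernel
theorem o1u49 : ∀ k, 15836 ≤ k → k < 24436 → orbOk (k * 20) = true := between_extend orbOk 20 15836 24264 172 (o1u48) o1r49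

theorem o1r50 : allRange orbOk 20 24436 172 = true := by decide +kernel
theorem o1u50 : ∀ k, 15836 ≤ k → k < 24608 → orbOk (k * 20) = true := between_extend orbOk 20 15836 24436 172 (o1u49) o1r50

theorem o1r51 : allRange orbOk 20 24608 172 = true := by decide +kernel
theorem o1u51 : ∀ k, 15836 ≤ k → k < 24780 → orbOk (k * 20) = true := between_extend orbOk 20 15836 24608 172 (o1u50) o1r51

theorem o1r52 : allRange orbOk 20 24780 172 = true := by decide +kernel
theorem o1u52 : ∀ k, 15836 ≤ k → k < 24952 → orbOk (k * 20) = true := between_extend orbOk 20 15836 24780 172 (o1u51) o1r52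

theorem o1r53 : allRange orbOk 20 24952 172 = true := by decide +kernel
theorem o1u53 : ∀ k, 15836 ≤ k → k < 25124 → orbOk (k * 20) = true := between_extend orbOk 20 15836 24952 172 (o1u52) o1r53

theorem o1r54 : allRange orbOk 20 25124 172 = true := by decide +kernel
theorem o1u54 : ∀ k, 15836 ≤ k → k < 25296 → orbOk (k * 20) = true := between_extend orbOk 20 15836 25124 172 (o1u53) o1r54

theorem o1r55 : allRange orbOk 20 25296 172 = true := by decide +kernel
theorem o1u55 : ∀ k, 15836 ≤ k → k < 25468 → orbOk (k * 20) = true := between_extend orbOk 20 15836 25296 172 (o1u54) o1r55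

theorem o1r56 : allRange orbOk 20 25468 172 = true := by decide +kernel
theorem o1u56 : ∀ k, 15836 ≤ k → k < 25640 → orbOk (k * 20) = true := between_extend orbOk 20 15836 25468 172 (o1u55) o1r56

theorem o1r57 : allRange orbOk 20 25640 172 = true := by decide +kernel
theorem o1u57 : ∀ k, 15836 ≤ k → k < 25812 → orbOk (k * 20) = true := between_extend orbOk 20 15836 25640 172 (o1u56) o1r57

theorem o1r58 : allRange orbOk 20 25812 172 = true := by decide +kernel
theorem o1u58 : ∀ k, 15836 ≤ k → k < 25984 → orbOk (k * 20) = true := between_extend orbOk 20 15836 25812 172 (o1u57) o1r58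

theorem o1r59 : allRange orbOk 20 25984 172 = true := by decide +kernel
theorem o1u59 : ∀ k, 15836 ≤ k → k < 26156 → orbOk (k * 20) = true := between_extend orbOk 20 15836 25984 172 (o1u58) o1r59

theorem o1r60 : allRange orbOk 20 26156 172 = true := by decide +kernel
theorem o1u60 : ∀ k, 15836 ≤ k → k < 26328 → orbOk (k * 20) = true := between_extend orbOk 20 15836 26156 172 (o1u59) o1r60

theorem o1r61 : allRange orbOk 20 26328 172 = true := by decide +kernel
theorem o1u61 : ∀ k, 15836 ≤ k → k < 26500 → orbOk (k * 20) = true := between_extend orbOk 20 15836 26328 172 (o1u60) o1r61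

theorem o1r62 : allRange orbOk 20 26500 172 = true := by decide +kernel
theorem o1u62 : ∀ k, 15836 ≤ k → k < 26672 → orbOk (k * 20) = true := between_extend orbOk 20 15836 26500 172 (o1u61) o1r62

theorem o1r63 : allRange orbOk 20 26672 172 = true := by decide +kernel
theorem o1u63 : ∀ k, 15836 ≤ k → k < 26844 → orbOk (k * 20) = true := between_extend orbOk 20 15836 26672 172 (o1u62) o1r63

theorem o1r64 : allRange orbOk 20 26844 172 = true := by decide +kernel
theorem o1u64 : ∀ k, 15836 ≤ k → k < 27016 → orbOk (k * 20) = true := between_extend orbOk 20 15836 26844 172 (o1u63) o1r64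

theorem o1r65 : allRange orbOk 20 27016 172 = true := by decide +kernel
theorem o1u65 : ∀ k, 15836 ≤ k → k < 27188 → orbOk (k * 20) = true := between_extend orbOk 20 15836 27016 172 (o1u64) o1r65

theorem o1r66 : allRange orbOk 20 27188 172 = true := by decide +kernel
theorem o1u66 : ∀ k, 15836 ≤ k → k < 27360 → orbOk (k * 20) = true := between_extend orbOk 20 15836 27188 172 (o1u65) o1r66

theorem o1r67 : allRange orbOk 20 27360 172 = true := by decide +kernel
theorem o1u67 : ∀ k, 15836 ≤ k → k < 27532 → orbOk (k * 20) = true := between_extend orbOk 20 15836 27360 172 (o1u66) o1r67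

theorem o1r68 : allRange orbOk 20 27532 172 = true := by decide +kernel
theorem o1u68 : ∀ k, 15836 ≤ k → k < 27704 → orbOk (k * 20) = true := between_extend orbOk 20 15836 27532 172 (o1u67) o1r68

theorem o1r69 : allRange orbOk 20 27704 172 = true := by decide +kernel
theorem o1u69 : ∀ k, 15836 ≤ k → k < 27876 → orbOk (k * 20) = true := between_extend orbOk 20 15836 27704 172 (o1u68) o1r69

theorem o1r70 : allRange orbOk 20 27876 172 = true := by decide +kernel
theorem o1u70 : ∀ k, 15836 ≤ k → k < 28048 → orbOk (k * 20) = true := between_extend orbOk 20 15836 27876 172 (o1u69) o1r70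

theorem o1r71 : allRange orbOk 20 28048 172 = true := by decide +kernel
theorem o1u71 : ∀ k, 15836 ≤ k → k < 28220 → orbOk (k * 20) = true := between_extend orbOk 20 15836 28048 172 (o1u70) o1r71

theorem o1r72 : allRange orbOk 20 28220 172 = true := by decide +kernel
theorem o1u72 : ∀ k, 15836 ≤ k → k < 28392 → orbOk (k * 20) = true := between_extend orbOk 20 15836 28220 172 (o1u71) o1r72

theorem o1r73 : allRange orbOk 20 28392 172 = true := by decide +kernel
theorem o1u73 : ∀ k, 15836 ≤ k → k < 28564 → orbOk (k * 20) = true := between_extend orbOk 20 15836 28392 172 (o1u72) o1r73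

theorem o1r74 : allRange orbOk 20 28564 172 = true := by decide +kernel
theorem o1u74 : ∀ k, 15836 ≤ k → k < 28736 → orbOk (k * 20) = true := between_extend orbOk 20 15836 28564 172 (o1u73) o1r74

theorem o1r75 : allRange orbOk 20 28736 172 = true := by decide +kernel
theorem o1u75 : ∀ k, 15836 ≤ k → k < 28908 → orbOk (k * 20) = true := between_extend orbOk 20 15836 28736 172 (o1u74) o1r75

theorem o1r76 : allRange orbOk 20 28908 172 = true := by decide +kernel
theorem o1u76 : ∀ k, 15836 ≤ k → k < 29080 → orbOk (k * 20) = true := between_extend orbOk 20 15836 28908 172 (o1u75) o1r76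

theorem o1r77 : allRange orbOk 20 29080 172 = true := by decide +kernel
theorem o1u77 : ∀ k, 15836 ≤ k → k < 29252 → orbOk (k * 20) = true := between_extend orbOk 20 15836 29080 172 (o1u76) o1r77

theorem o1r78 : allRange orbOk 20 29252 172 = true := by decide +kernel
theorem o1u78 : ∀ k, 15836 ≤ k → k < 29424 → orbOk (k * 20) = true := between_extend orbOk 20 15836 29252 172 (o1u77) o1r78

theorem o1r79 : allRange orbOk 20 29424 172 = true := by decide +kernel
theorem o1u79 : ∀ k, 15836 ≤ k → k < 29596 → orbOk (k * 20) = true := between_extend orbOk 20 15836 29424 172 (o1u78) o1r79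

theorem o1r80 : allRange orbOk 20 29596 172 = true := by decide +kernel
theorem o1u80 : ∀ k, 15836 ≤ k → k < 29768 → orbOk (k * 20) = true := between_extend orbOk 20 15836 29596 172 (o1u79) o1r80

theorem o1r81 : allRange orbOk 20 29768 172 = true := by decide +kernel
theorem o1u81 : ∀ k, 15836 ≤ k → k < 29940 → orbOk (k * 20) = true := between_extend orbOk 20 15836 29768 172 (o1u80) o1r81

theorem o1r82 : allRange orbOk 20 29940 172 = true := by decide +kernel
theorem o1u82 : ∀ k, 15836 ≤ k → k < 30112 → orbOk (k * 20) = true := between_extend orbOk 20 15836 29940 172 (o1u81) o1r82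

theorem o1r83 : allRange orbOk 20 30112 172 = true := by decide +kernel
theorem o1u83 : ∀ k, 15836 ≤ k → k < 30284 → orbOk (k * 20) = true := between_extend orbOk 20 15836 30112 172 (o1u82) o1r83

theorem o1r84 : allRange orbOk 20 30284 172 = true := by decide +kernel
theorem o1u84 : ∀ k, 15836 ≤ k → k < 30456 → orbOk (k * 20) = true := between_extend orbOk 20 15836 30284 172 (o1u83) o1r84

theorem o1r85 : allRange orbOk 20 30456 172 = true := by decide +kernel
theorem o1u85 : ∀ k, 15836 ≤ k → k < 30628 → orbOk (k * 20) = true := between_extend orbOk 20 15836 30456 172 (o1u84) o1r85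

theorem o1r86 : allRange orbOk 20 30628 172 = true := by decide +kernel
theorem o1u86 : ∀ k, 15836 ≤ k → k < 30800 → orbOk (k * 20) = true := between_extend orbOk 20 15836 30628 172 (o1u85) o1r86

theorem o1r87 : allRange orbOk 20 30800 172 = true := by decide +kernel
theorem o1u87 : ∀ k, 15836 ≤ k → k < 30972 → orbOk (k * 20) = true := between_extend orbOk 20 15836 30800 172 (o1u86) o1r87

theorem o1r88 : allRange orbOk 20 30972 172 = true := by decide +kernel
theorem o1u88 : ∀ k, 15836 ≤ k → k < 31144 → orbOk (k * 20) = true := between_extend orbOk 20 15836 30972 172 (o1u87) o1r88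

theorem o1r89 : allRange orbOk 20 31144 172 = true := by decide +kernel
theorem o1u89 : ∀ k, 15836 ≤ k → k < 31316 → orbOk (k * 20) = true := between_extend orbOk 20 15836 31144 172 (o1u88) o1r89

theorem o1r90 : allRange orbOk 20 31316 172 = true := by decide +kernel
theorem o1u90 : ∀ k, 15836 ≤ k → k < 31488 → orbOk (k * 20) = true := between_extend orbOk 20 15836 31316 172 (o1u89) o1r90

theorem o1r91 : allRange orbOk 20 31488 172 = true := by decide +kernel
theorem o1u91 : ∀ k, 15836 ≤ k → k < 31660 → orbOk (k * 20) = true := between_extend orbOk 20 15836 31488 172 (o1u90) o1r91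

theorem o1r92 : allRange orbOk 20 31660 11 = true := by decide +kernel
theorem o1u92 : ∀ k, 15836 ≤ k → k < 31671 → orbOk (k * 20) = true := between_extend orbOk 20 15836 31660 11 (o1u91) o1r92

theorem o1 : ∀ k, 15836 ≤ k → k < 31671 → orbOk (k * 20) = true := o1u92

end Cfsg.Agent.Lib.Helper28_S1689
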