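import Cfsg.Agent.Lib.Helper28_S1689Def

set_option autoImplicit false
set_option linter.constructorNameAsVariable false
set_option Elab.async false

namespace Cfsg.Agent.Lib.Helper28_S1689

open Cfsg.Agent.Lib.Helper28_CosetPerm

theorem p1r0 : allRange pointOk 20 3959 21 = true := by decide +kernel
theorem p1u0 : ∀ k, 3959 ≤ k → k < 3980 → pointOk (k * 20) = true := between_extend pointOk 20 3959 3959 21 (between_start pointOk 20 3959) p1r0

theorem p1r1 : allRange pointOk 20 3980 21 = true := by decide +kernel
theorem p1u1 : ∀ k, 3959 ≤ k → k < 4001 → pointOk (k * 20) = true := between_extend pointOk 20 3959 3980 21 (p1u0) p1r1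

theorem p1r2 : allRange pointOk 20 4001 21 = true := by decide +kernel
theorem p1u2 : ∀ k, 3959 ≤ k → k < 4022 → pointOk (k * 20) = true := between_extend pointOk 20 3959 4001 21 (p1u1) p1r2

theorem p1r3 : allRange pointOk 20 4022 21 = true := by decide +kernel
theorem p1u3 : ∀ k, 3959 ≤ k → k < 4043 → pointOk (k * 20) = true := between_extend pointOk 20 3959 4022 21 (p1u2) p1r3

theorem p1r4 : allRange pointOk 20 4043 21 = true := by decide +kernel
theorem p1u4 : ∀ k, 3959 ≤ k → k < 4064 → pointOk (k * 20) = true := between_extend pointOk 20 3959 4043 21 (p1u3) p1r4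

theorem p1r5 : allRange pointOk 20 4064 21 = true := by decide +kernel
theorem p1u5 : ∀ k, 3959 ≤ k → k < 4085 → pointOk (k * 20) = true := between_extend pointOk 20 3959 4064 21 (p1u4) p1r5

theorem p1r6 : allRange pointOk 20 4085 21 = true := by decide +kernel
theorem p1u6 : ∀ k, 3959 ≤ k → k < 4106 → pointOk (k * 20) = true := between_extend pointOk 20 3959 4085 21 (p1u5) p1r6

theorem p1r7 : allRange pointOk 20 4106 21 = true := by decide +kernel
theorem p1u7 : ∀ k, 3959 ≤ k → k < 4127 → pointOk (k * 20) = true := between_extend pointOk 20 3959 4106 21 (p1u6) p1r7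

theorem p1r8 : allRange pointOk 20 4127 21 = true := by decide +kernel
theorem p1u8 : ∀ k, 3959 ≤ k → k < 4148 → pointOk (k * 20) = true := between_extend pointOk 20 3959 4127 21 (p1u7) p1r8

theorem p1r9 : allRange pointOk 20 4148 21 = true := by decide +kernel
theorem p1u9 : ∀ k, 3959 ≤ k → k < 4169 → pointOk (k * 20) = true := between_extend pointOk 20 3959 4148 21 (p1u8) p1r9

theorem p1r10 : allRange pointOk 20 4169 21 = true := by decide +kernel
theorem p1u10 : ∀ k, 3959 ≤ k → k < 4190 → pointOk (k * 20) = true := between_extend pointOk 20 3959 4169 21 (p1u9) p1r10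

theorem p1r11 : allRange pointOk 20 4190 21 = true := by decide +kernel
theorem p1u11 : ∀ k, 3959 ≤ k → k < 4211 → pointOk (k * 20) = true := between_extend pointOk 20 3959 4190 21 (p1u10) p1r11

theorem p1r12 : allRange pointOk 20 4211 21 = true := by decide +kernel
theorem p1u12 : ∀ k, 3959 ≤ k → k < 4232 → pointOk (k * 20) = true := between_extend pointOk 20 3959 4211 21 (p1u11) p1r12

theorem p1r13 : allRange pointOk 20 4232 21 = true := by decide +kernel
theorem p1u13 : ∀ k, 3959 ≤ k → k < 4253 → pointOk (k * 20) = true := between_extend pointOk 20 3959 4232 21 (p1u12) p1r13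

theorem p1r14 : allRange pointOk 20 4253 21 = true := by decide +kernel
theorem p1u14 : ∀ k, 3959 ≤ k → k < 4274 → pointOk (k * 20) = true := between_extend pointOk 20 3959 4253 21 (p1u13) p1r14

theorem p1r15 : allRange pointOk 20 4274 21 = true := by decide +kernel
theorem p1u15 : ∀ k, 3959 ≤ k → k < 4295 → pointOk (k * 20) = true := between_extend pointOk 20 3959 4274 21 (p1u14) p1r15

theorem p1r16 : allRange pointOk 20 4295 21 = true := by decide +kernel
theorem p1u16 : ∀ k, 3959 ≤ k → k < 4316 → pointOk (k * 20) = true := between_extend pointOk 20 3959 4295 21 (p1u15) p1r16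

theorem p1r17 : allRange pointOk 20 4316 21 = true := by decide +kernel
theorem p1u17 : ∀ k, 3959 ≤ k → k < 4337 → pointOk (k * 20) = true := between_extend pointOk 20 3959 4316 21 (p1u16) p1r17

theorem p1r18 : allRange pointOk 20 4337 21 = true := by decide +kernel
theorem p1u18 : ∀ k, 3959 ≤ k → k < 4358 → pointOk (k * 20) = true := between_extend pointOk 20 3959 4337 21 (p1u17) p1r18

theorem p1r19 : allRange pointOk 20 4358 21 = true := by decide +kernel
theorem p1u19 : ∀ k, 3959 ≤ k → k < 4379 → pointOk (k * 20) = true := between_extend pointOk 20 3959 4358 21 (p1u18) p1r19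

theorem p1r20 : allRange pointOk 20 4379 21 = true := by decide +kernel
theorem p1u20 : ∀ k, 3959 ≤ k → k < 4400 → pointOk (k * 20) = true := between_extend pointOk 20 3959 4379 21 (p1u19) p1r20

theorem p1r21 : allRange pointOk 20 4400 21 = true := by decide +kernel
theorem p1u21 : ∀ k, 3959 ≤ k → k < 4421 → pointOk (k * 20) = true := between_extend pointOk 20 3959 4400 21 (p1u20) p1r21

theorem p1r22 : allRange pointOk 20 4421 21 = true := by decide +kernel
theorem p1u22 : ∀ k, 3959 ≤ k → k < 4442 → pointOk (k * 20) = true := between_extend pointOk 20 3959 4421 21 (p1u21) p1r22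

theorem p1r23 : allRange pointOk 20 4442 21 = true := by decide +kernel
theorem p1u23 : ∀ k, 3959 ≤ k → k < 4463 → pointOk (k * 20) = true := between_extend pointOk 20 3959 4442 21 (p1u22) p1r23

theorem p1r24 : allRange pointOk 20 4463 21 = true := by decide +kernel
theorem p1u24 : ∀ k, 3959 ≤ k → k < 4484 → pointOk (k * 20) = true := between_extend pointOk 20 3959 4463 21 (p1u23) p1r24

theorem p1r25 : allRange pointOk 20 4484 21 = true := by decide +kernel
theorem p1u25 : ∀ k, 3959 ≤ k → k < 4505 → pointOk (k * 20) = true := between_extend pointOk 20 3959 4484 21 (p1u24) p1r25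

theorem p1r26 : allRange pointOk 20 4505 21 = true := by decide +kernel
theorem p1u26 : ∀ k, 3959 ≤ k → k < 4526 → pointOk (k * 20) = true := between_extend pointOk 20 3959 4505 21 (p1u25) p1r26

theorem p1r27 : allRange pointOk 20 4526 21 = true := by decide +kernel
theorem p1u27 : ∀ k, 3959 ≤ k → k < 4547 → pointOk (k * 20) = true := between_extend pointOk 20 3959 4526 21 (p1u26) p1r27

theorem p1r28 : allRange pointOk 20 4547 21 = true := by decide +kernel
theorem p1u28 : ∀ k, 3959 ≤ k → k < 4568 → pointOk (k * 20) = true := between_extend pointOk 20 3959 4547 21 (p1u27) p1r28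

theorem p1r29 : allRange pointOk 20 4568 21 = true := by decide +kernel
theorem p1u29 : ∀ k, 3959 ≤ k → k < 4589 → pointOk (k * 20) = true := between_extend pointOk 20 3959 4568 21 (p1u28) p1r29

theorem p1r30 : allRange pointOk 20 4589 21 = true := by decide +kernel
theorem p1u30 : ∀ k, 3959 ≤ k → k < 4610 → pointOk (k * 20) = true := between_extend pointOk 20 3959 4589 21 (p1u29) p1r30

theorem p1r31 : allRange pointOk 20 4610 21 = true := by decide +kernel
theorem p1u31 : ∀ k, 3959 ≤ k → k < 4631 → pointOk (k * 20) = true := between_extend pointOk 20 3959 4610 21 (p1u30) p1r31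

theorem p1r32 : allRange pointOk 20 4631 21 = true := by decide +kernel
theorem p1u32 : ∀ k, 3959 ≤ k → k < 4652 → pointOk (k * 20) = true := between_extend pointOk 20 3959 4631 21 (p1u31) p1r32

theorem p1r33 : allRange pointOk 20 4652 21 = true := by decide +kernel
theorem p1u33 : ∀ k, 3959 ≤ k → k < 4673 → pointOk (k * 20) = true := between_extend pointOk 20 3959 4652 21 (p1u32) p1r33

theorem p1r34 : allRange pointOk 20 4673 21 = true := by decide +kernel
theorem p1u34 : ∀ k, 3959 ≤ k → k < 4694 → pointOk (k * 20) = true := between_extend pointOk 20 3959 4673 21 (p1u33) p1r34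

theorem p1r35 : allRange pointOk 20 4694 21 = true := by decide +kernel
theorem p1u35 : ∀ k, 3959 ≤ k → k < 4715 → pointOk (k * 20) = true := between_extend pointOk 20 3959 4694 21 (p1u34) p1r35

theorem p1r36 : allRange pointOk 20 4715 21 = true := by decide +kernel
theorem p1u36 : ∀ k, 3959 ≤ k → k < 4736 → pointOk (k * 20) = true := between_extend pointOk 20 3959 4715 21 (p1u35) p1r36

theorem p1r37 : allRange pointOk 20 4736 21 = true := by decide +kernel
theorem p1u37 : ∀ k, 3959 ≤ k → k < 4757 → pointOk (k * 20) = true := between_extend pointOk 20 3959 4736 21 (p1u36) p1r37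

theorem p1r38 : allRange pointOk 20 4757 21 = true := by decide +kernel
theorem p1u38 : ∀ k, 3959 ≤ k → k < 4778 → pointOk (k * 20) = true := between_extend pointOk 20 3959 4757 21 (p1u37) p1r38

theorem p1r39 : allRange pointOk 20 4778 21 = true := by decide +kernel
theorem p1u39 : ∀ k, 3959 ≤ k → k < 4799 → pointOk (k * 20) = true := between_extend pointOk 20 3959 4778 21 (p1u38) p1r39

theorem p1r40 : allRange pointOk 20 4799 21 = true := by decide +kernel
theorem p1u40 : ∀ k, 3959 ≤ k → k < 4820 → pointOk (k * 20) = true := between_extend pointOk 20 3959 4799 21 (p1u39) p1r40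

theorem p1r41 : allRange pointOk 20 4820 21 = true := by decide +kernel
theorem p1u41 : ∀ k, 3959 ≤ k → k < 4841 → pointOk (k * 20) = true := between_extend pointOk 20 3959 4820 21 (p1u40) p1r41

theorem p1r42 : allRange pointOk 20 4841 21 = true := by decide +kernel
theorem p1u42 : ∀ k, 3959 ≤ k → k < 4862 → pointOk (k * 20) = true := between_extend pointOk 20 3959 4841 21 (p1u41) p1r42

theorem p1r43 : allRange pointOk 20 4862 21 = true := by decide +kernel
theorem p1u43 : ∀ k, 3959 ≤ k → k < 4883 → pointOk (k * 20) = true := between_extend pointOk 20 3959 4862 21 (p1u42) p1r43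

theorem p1r44 : allRange pointOk 20 4883 21 = true := by decide +kernel
theorem p1u44 : ∀ k, 3959 ≤ k → k < 4904 → pointOk (k * 20) = true := between_extend pointOk 20 3959 4883 21 (p1u43) p1r44

theorem p1r45 : allRange pointOk 20 4904 21 = true := by decide +kernel
theorem p1u45 : ∀ k, 3959 ≤ k → k < 4925 → pointOk (k * 20) = true := between_extend pointOk 20 3959 4904 21 (p1u44) p1r45

theorem p1r46 : allRange pointOk 20 4925 21 = true := by decide +kernel
theorem p1u46 : ∀ k, 3959 ≤ k → k < 4946 → pointOk (k * 20) = true := between_extend pointOk 20 3959 4925 21 (p1u45) p1r46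

theorem p1r47 : allRange pointOk 20 4946 21 = true := by decide +kernel
theorem p1u47 : ∀ k, 3959 ≤ k → k < 4967 → pointOk (k * 20) = true := between_extend pointOk 20 3959 4946 21 (p1u46) p1r47

theorem p1r48 : allRange pointOk 20 4967 21 = true := by decide +kernel
theorem p1u48 : ∀ k, 3959 ≤ k → k < 4988 → pointOk (k * 20) = true := between_extend pointOk 20 3959 4967 21 (p1u47) p1r48

theorem p1r49 : allRange pointOk 20 4988 21 = true := by decide +kernel
theorem p1u49 : ∀ k, 3959 ≤ k → k < 5009 → pointOk (k * 20) = true := between_extend pointOk 20 3959 4988 21 (p1u48) p1r49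

theorem p1r50 : allRange pointOk 20 5009 21 = true := by decide +kernel
theorem p1u50 : ∀ k, 3959 ≤ k → k < 5030 → pointOk (k * 20) = true := between_extend pointOk 20 3959 5009 21 (p1u49) p1r50

theorem p1r51 : allRange pointOk 20 5030 21 = true := by decide +kernel
theorem p1u51 : ∀ k, 3959 ≤ k → k < 5051 → pointOk (k * 20) = true := between_extend pointOk 20 3959 5030 21 (p1u50) p1r51

theorem p1r52 : allRange pointOk 20 5051 21 = true := by decide +kernel
theorem p1u52 : ∀ k, 3959 ≤ k → k < 5072 → pointOk (k * 20) = true := between_extend pointOk 20 3959 5051 21 (p1u51) p1r52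

theorem p1r53 : allRange pointOk 20 5072 21 = true := by decide +kernel
theorem p1u53 : ∀ k, 3959 ≤ k → k < 5093 → pointOk (k * 20) = true := between_extend pointOk 20 3959 5072 21 (p1u52) p1r53

theorem p1r54 : allRange pointOk 20 5093 21 = true := by decide +kernel
theorem p1u54 : ∀ k, 3959 ≤ k → k < 5114 → pointOk (k * 20) = true := between_extend pointOk 20 3959 5093 21 (p1u53) p1r54

theorem p1r55 : allRange pointOk 20 5114 21 = true := by decide +kernel
theorem p1u55 : ∀ k, 3959 ≤ k → k < 5135 → pointOk (k * 20) = true := between_extend pointOk 20 3959 5114 21 (p1u54) p1r55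

theorem p1r56 : allRange pointOk 20 5135 21 = true := by decide +kernel
theorem p1u56 : ∀ k, 3959 ≤ k → k < 5156 → pointOk (k * 20) = true := between_extend pointOk 20 3959 5135 21 (p1u55) p1r56

theorem p1r57 : allRange pointOk 20 5156 21 = true := by decide +kernel
theorem p1u57 : ∀ k, 3959 ≤ k → k < 5177 → pointOk (k * 20) = true := between_extend pointOk 20 3959 5156 21 (p1u56) p1r57

theorem p1r58 : allRange pointOk 20 5177 21 = true := by decide +kernel
theorem p1u58 : ∀ k, 3959 ≤ k → k < 5198 → pointOk (k * 20) = true := between_extend pointOk 20 3959 5177 21 (p1u57) p1r58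

theorem p1r59 : allRange pointOk 20 5198 21 = true := by decide +kernel
theorem p1u59 : ∀ k, 3959 ≤ k → k < 5219 → pointOk (k * 20) = true := between_extend pointOk 20 3959 5198 21 (p1u58) p1r59

theorem p1r60 : allRange pointOk 20 5219 21 = true := by decide +kernel
theorem p1u60 : ∀ k, 3959 ≤ k → k < 5240 → pointOk (k * 20) = true := between_extend pointOk 20 3959 5219 21 (p1u59) p1r60

theorem p1r61 : allRange pointOk 20 5240 21 = true := by decide +kernel
theorem p1u61 : ∀ k, 3959 ≤ k → k < 5261 → pointOk (k * 20) = true := between_extend pointOk 20 3959 5240 21 (p1u60) p1r61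

theorem p1r62 : allRange pointOk 20 5261 21 = true := by decide +kernel
theorem p1u62 : ∀ k, 3959 ≤ k → k < 5282 → pointOk (k * 20) = true := between_extend pointOk 20 3959 5261 21 (p1u61) p1r62

theorem p1r63 : allRange pointOk 20 5282 21 = true := by decide +kernel
theorem p1u63 : ∀ k, 3959 ≤ k → k < 5303 → pointOk (k * 20) = true := between_extend pointOk 20 3959 5282 21 (p1u62) p1r63

theorem p1r64 : allRange pointOk 20 5303 21 = true := by decide +kernel
theorem p1u64 : ∀ k, 3959 ≤ k → k < 5324 → pointOk (k * 20) = true := between_extend pointOk 20 3959 5303 21 (p1u63) p1r64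

theorem p1r65 : allRange pointOk 20 5324 21 = true := by decide +kernel
theorem p1u65 : ∀ k, 3959 ≤ k → k < 5345 → pointOk (k * 20) = true := between_extend pointOk 20 3959 5324 21 (p1u64) p1r65

theorem p1r66 : allRange pointOk 20 5345 21 = true := by decide +kernel
theorem p1u66 : ∀ k, 3959 ≤ k → k < 5366 → pointOk (k * 20) = true := between_extend pointOk 20 3959 5345 21 (p1u65) p1r66

theorem p1r67 : allRange pointOk 20 5366 21 = true := by decide +kernel
theorem p1u67 : ∀ k, 3959 ≤ k → k < 5387 → pointOk (k * 20) = true := between_extend pointOk 20 3959 5366 21 (p1u66) p1r67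

theorem p1r68 : allRange pointOk 20 5387 21 = true := by decide +kernel
theorem p1u68 : ∀ k, 3959 ≤ k → k < 5408 → pointOk (k * 20) = true := between_extend pointOk 20 3959 5387 21 (p1u67) p1r68

theorem p1r69 : allRange pointOk 20 5408 21 = true := by decide +kernel
theorem p1u69 : ∀ k, 3959 ≤ k → k < 5429 → pointOk (k * 20) = true := between_extend pointOk 20 3959 5408 21 (p1u68) p1r69

theorem p1r70 : allRange pointOk 20 5429 21 = true := by decide +kernel
theorem p1u70 : ∀ k, 3959 ≤ k → k < 5450 → pointOk (k * 20) = true := between_extend pointOk 20 3959 5429 21 (p1u69) p1r70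

theorem p1r71 : allRange pointOk 20 5450 21 = true := by decide +kernel
theorem p1u71 : ∀ k, 3959 ≤ k → k < 5471 → pointOk (k * 20) = true := between_extend pointOk 20 3959 5450 21 (p1u70) p1r71

theorem p1r72 : allRange pointOk 20 5471 21 = true := by decide +kernel
theorem p1u72 : ∀ k, 3959 ≤ k → k < 5492 → pointOk (k * 20) = true := between_extend pointOk 20 3959 5471 21 (p1u71) p1r72

theorem p1r73 : allRange pointOk 20 5492 21 = true := by decide +kernel
theorem p1u73 : ∀ k, 3959 ≤ k → k < 5513 → pointOk (k * 20) = true := between_extend pointOk 20 3959 5492 21 (p1u72) p1r73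

theorem p1r74 : allRange pointOk 20 5513 21 = true := by decide +kernel
theorem p1u74 : ∀ k, 3959 ≤ k → k < 5534 → pointOk (k * 20) = true := between_extend pointOk 20 3959 5513 21 (p1u73) p1r74

theorem p1r75 : allRange pointOk 20 5534 21 = true := by decide +kernel
theorem p1u75 : ∀ k, 3959 ≤ k → k < 5555 → pointOk (k * 20) = true := between_extend pointOk 20 3959 5534 21 (p1u74) p1r75

theorem p1r76 : allRange pointOk 20 5555 21 = true := by decide +kernel
theorem p1u76 : ∀ k, 3959 ≤ k → k < 5576 → pointOk (k * 20) = true := between_extend pointOk 20 3959 5555 21 (p1u75) p1r76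

theorem p1r77 : allRange pointOk 20 5576 21 = true := by decide +kernel
theorem p1u77 : ∀ k, 3959 ≤ k → k < 5597 → pointOk (k * 20) = true := between_extend pointOk 20 3959 5576 21 (p1u76) p1r77

theorem p1r78 : allRange pointOk 20 5597 21 = true := by decide +kernel
theorem p1u78 : ∀ k, 3959 ≤ k → k < 5618 → pointOk (k * 20) = true := between_extend pointOk 20 3959 5597 21 (p1u77) p1r78

theorem p1r79 : allRange pointOk 20 5618 21 = true := by decide +kernel
theorem p1u79 : ∀ k, 3959 ≤ k → k < 5639 → pointOk (k * 20) = true := between_extend pointOk 20 3959 5618 21 (p1u78) p1r79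

theorem p1r80 : allRange pointOk 20 5639 21 = true := by decide +kernel
theorem p1u80 : ∀ k, 3959 ≤ k → k < 5660 → pointOk (k * 20) = true := between_extend pointOk 20 3959 5639 21 (p1u79) p1r80

theorem p1r81 : allRange pointOk 20 5660 21 = true := by decide +kernel
theorem p1u81 : ∀ k, 3959 ≤ k → k < 5681 → pointOk (k * 20) = true := between_extend pointOk 20 3959 5660 21 (p1u80) p1r81

theorem p1r82 : allRange pointOk 20 5681 21 = true := by decide +kernel
theorem p1u82 : ∀ k, 3959 ≤ k → k < 5702 → pointOk (k * 20) = true := between_extend pointOk 20 3959 5681 21 (p1u81) p1r82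

theorem p1r83 : allRange pointOk 20 5702 21 = true := by decide +kernel
theorem p1u83 : ∀ k, 3959 ≤ k → k < 5723 → pointOk (k * 20) = true := between_extend pointOk 20 3959 5702 21 (p1u82) p1r83

theorem p1r84 : allRange pointOk 20 5723 21 = true := by decide +kernel
theorem p1u84 : ∀ k, 3959 ≤ k → k < 5744 → pointOk (k * 20) = true := between_extend pointOk 20 3959 5723 21 (p1u83) p1r84

theorem p1r85 : allRange pointOk 20 5744 21 = true := by decide +kernel
theorem p1u85 : ∀ k, 3959 ≤ k → k < 5765 → pointOk (k * 20) = true := between_extend pointOk 20 3959 5744 21 (p1u84) p1r85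

theorem p1r86 : allRange pointOk 20 5765 21 = true := by decide +kernel
theorem p1u86 : ∀ k, 3959 ≤ k → k < 5786 → pointOk (k * 20) = true := between_extend pointOk 20 3959 5765 21 (p1u85) p1r86

theorem p1r87 : allRange pointOk 20 5786 21 = true := by decide +kernel
theorem p1u87 : ∀ k, 3959 ≤ k → k < 5807 → pointOk (k * 20) = true := between_extend pointOk 20 3959 5786 21 (p1u86) p1r87

theorem p1r88 : allRange pointOk 20 5807 21 = true := by decide +kernel
theorem p1u88 : ∀ k, 3959 ≤ k → k < 5828 → pointOk (k * 20) = true := between_extend pointOk 20 3959 5807 21 (p1u87) p1r88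

theorem p1r89 : allRange pointOk 20 5828 21 = true := by decide +kernel
theorem p1u89 : ∀ k, 3959 ≤ k → k < 5849 → pointOk (k * 20) = true := between_extend pointOk 20 3959 5828 21 (p1u88) p1r89

theorem p1r90 : allRange pointOk 20 5849 21 = true := by decide +kernel
theorem p1u90 : ∀ k, 3959 ≤ k → k < 5870 → pointOk (k * 20) = true := between_extend pointOk 20 3959 5849 21 (p1u89) p1r90

theorem p1r91 : allRange pointOk 20 5870 21 = true := by decide +kernel
theorem p1u91 : ∀ k, 3959 ≤ k → k < 5891 → pointOk (k * 20) = true := between_extend pointOk 20 3959 5870 21 (p1u90) p1r91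

theorem p1r92 : allRange pointOk 20 5891 21 = true := by decide +kernel
theorem p1u92 : ∀ k, 3959 ≤ k → k < 5912 → pointOk (k * 20) = true := between_extend pointOk 20 3959 5891 21 (p1u91) p1r92

theorem p1r93 : allRange pointOk 20 5912 21 = true := by decide +kernel
theorem p1u93 : ∀ k, 3959 ≤ k → k < 5933 → pointOk (k * 20) = true := between_extend pointOk 20 3959 5912 21 (p1u92) p1r93

theorem p1r94 : allRange pointOk 20 5933 21 = true := by decide +kernel
theorem p1u94 : ∀ k, 3959 ≤ k → k < 5954 → pointOk (k * 20) = true := between_extend pointOk 20 3959 5933 21 (p1u93) p1r94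

theorem p1r95 : allRange pointOk 20 5954 21 = true := by decide +kernel
theorem p1u95 : ∀ k, 3959 ≤ k → k < 5975 → pointOk (k * 20) = true := between_extend pointOk 20 3959 5954 21 (p1u94) p1r95

theorem p1r96 : allRange pointOk 20 5975 21 = true := by decide +kernel
theorem p1u96 : ∀ k, 3959 ≤ k → k < 5996 → pointOk (k * 20) = true := between_extend pointOk 20 3959 5975 21 (p1u95) p1r96

theorem p1r97 : allRange pointOk 20 5996 21 = true := by decide +kernel
theorem p1u97 : ∀ k, 3959 ≤ k → k < 6017 → pointOk (k * 20) = true := between_extend pointOk 20 3959 5996 21 (p1u96) p1r97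

theorem p1r98 : allRange pointOk 20 6017 21 = true := by decide +kernel
theorem p1u98 : ∀ k, 3959 ≤ k → k < 6038 → pointOk (k * 20) = true := between_extend pointOk 20 3959 6017 21 (p1u97) p1r98

theorem p1r99 : allRange pointOk 20 6038 21 = true := by decide +kernel
theorem p1u99 : ∀ k, 3959 ≤ k → k < 6059 → pointOk (k * 20) = true := between_extend pointOk 20 3959 6038 21 (p1u98) p1r99

theorem p1r100 : allRange pointOk 20 6059 21 = true := by decide +kernel
theorem p1u100 : ∀ k, 3959 ≤ k → k < 6080 → pointOk (k * 20) = true := between_extend pointOk 20 3959 6059 21 (p1u99) p1r100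

theorem p1r101 : allRange pointOk 20 6080 21 = true := by decide +kernel
theorem p1u101 : ∀ k, 3959 ≤ k → k < 6101 → pointOk (k * 20) = true := between_extend pointOk 20 3959 6080 21 (p1u100) p1r101

theorem p1r102 : allRange pointOk 20 6101 21 = true := by decide +kernel
theorem p1u102 : ∀ k, 3959 ≤ k → k < 6122 → pointOk (k * 20) = true := between_extend pointOk 20 3959 6101 21 (p1u101) p1r102

theorem p1r103 : allRange pointOk 20 6122 21 = true := by decide +kernel
theorem p1u103 : ∀ k, 3959 ≤ k → k < 6143 → pointOk (k * 20) = true := between_extend pointOk 20 3959 6122 21 (p1u102) p1r103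

theorem p1r104 : allRange pointOk 20 6143 21 = true := by decide +kernel
theorem p1u104 : ∀ k, 3959 ≤ k → k < 6164 → pointOk (k * 20) = true := between_extend pointOk 20 3959 6143 21 (p1u103) p1r104

theorem p1r105 : allRange pointOk 20 6164 21 = true := by decide +kernel
theorem p1u105 : ∀ k, 3959 ≤ k → k < 6185 → pointOk (k * 20) = true := between_extend pointOk 20 3959 6164 21 (p1u104) p1r105

theorem p1r106 : allRange pointOk 20 6185 21 = true := by decide +kernel
theorem p1u106 : ∀ k, 3959 ≤ k → k < 6206 → pointOk (k * 20) = true := between_extend pointOk 20 3959 6185 21 (p1u105) p1r106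

theorem p1r107 : allRange pointOk 20 6206 21 = true := by decide +kernel
theorem p1u107 : ∀ k, 3959 ≤ k → k < 6227 → pointOk (k * 20) = true := between_extend pointOk 20 3959 6206 21 (p1u106) p1r107

theorem p1r108 : allRange pointOk 20 6227 21 = true := by decide +kernel
theorem p1u108 : ∀ k, 3959 ≤ k → k < 6248 → pointOk (k * 20) = true := between_extend pointOk 20 3959 6227 21 (p1u107) p1r108

theorem p1r109 : allRange pointOk 20 6248 21 = true := by decide +kernel
theorem p1u109 : ∀ k, 3959 ≤ k → k < 6269 → pointOk (k * 20) = true := between_extend pointOk 20 3959 6248 21 (p1u108) p1r109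

theorem p1r110 : allRange pointOk 20 6269 21 = true := by decide +kernel
theorem p1u110 : ∀ k, 3959 ≤ k → k < 6290 → pointOk (k * 20) = true := between_extend pointOk 20 3959 6269 21 (p1u109) p1r110

theorem p1r111 : allRange pointOk 20 6290 21 = true := by decide +kernel
theorem p1u111 : ∀ k, 3959 ≤ k → k < 6311 → pointOk (k * 20) = true := between_extend pointOk 20 3959 6290 21 (p1u110) p1r111

theorem p1r112 : allRange pointOk 20 6311 21 = true := by decide +kernel
theorem p1u112 : ∀ k, 3959 ≤ k → k < 6332 → pointOk (k * 20) = true := between_extend pointOk 20 3959 6311 21 (p1u111) p1r112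

theorem p1r113 : allRange pointOk 20 6332 21 = true := by decide +kernel
theorem p1u113 : ∀ k, 3959 ≤ k → k < 6353 → pointOk (k * 20) = true := between_extend pointOk 20 3959 6332 21 (p1u112) p1r113

theorem p1r114 : allRange pointOk 20 6353 21 = true := by decide +kernel
theorem p1u114 : ∀ k, 3959 ≤ k → k < 6374 → pointOk (k * 20) = true := between_extend pointOk 20 3959 6353 21 (p1u113) p1r114

theorem p1r115 : allRange pointOk 20 6374 21 = true := by decide +kernel
theorem p1u115 : ∀ k, 3959 ≤ k → k < 6395 → pointOk (k * 20) = true := between_extend pointOk 20 3959 6374 21 (p1u114) p1r115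

theorem p1r116 : allRange pointOk 20 6395 21 = true := by decide +kernel
theorem p1u116 : ∀ k, 3959 ≤ k → k < 6416 → pointOk (k * 20) = true := between_extend pointOk 20 3959 6395 21 (p1u115) p1r116

theorem p1r117 : allRange pointOk 20 6416 21 = true := by decide +kernel
theorem p1u117 : ∀ k, 3959 ≤ k → k < 6437 → pointOk (k * 20) = true := between_extend pointOk 20 3959 6416 21 (p1u116) p1r117

theorem p1r118 : allRange pointOk 20 6437 21 = true := by decide +kernel
theorem p1u118 : ∀ k, 3959 ≤ k → k < 6458 → pointOk (k * 20) = true := between_extend pointOk 20 3959 6437 21 (p1u117) p1r118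

theorem p1r119 : allRange pointOk 20 6458 21 = true := by decide +kernel
theorem p1u119 : ∀ k, 3959 ≤ k → k < 6479 → pointOk (k * 20) = true := between_extend pointOk 20 3959 6458 21 (p1u118) p1r119

theorem p1r120 : allRange pointOk 20 6479 21 = true := by decide +kernel
theorem p1u120 : ∀ k, 3959 ≤ k → k < 6500 → pointOk (k * 20) = true := between_extend pointOk 20 3959 6479 21 (p1u119) p1r120

theorem p1r121 : allRange pointOk 20 6500 21 = true := by decide +kernel
theorem p1u121 : ∀ k, 3959 ≤ k → k < 6521 → pointOk (k * 20) = true := between_extend pointOk 20 3959 6500 21 (p1u120) p1r121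

theorem p1r122 : allRange pointOk 20 6521 21 = true := by decide +kernel
theorem p1u122 : ∀ k, 3959 ≤ k → k < 6542 → pointOk (k * 20) = true := between_extend pointOk 20 3959 6521 21 (p1u121) p1r122

theorem p1r123 : allRange pointOk 20 6542 21 = true := by decide +kernel
theorem p1u123 : ∀ k, 3959 ≤ k → k < 6563 → pointOk (k * 20) = true := between_extend pointOk 20 3959 6542 21 (p1u122) p1r123

theorem p1r124 : allRange pointOk 20 6563 21 = true := by decide +kernel
theorem p1u124 : ∀ k, 3959 ≤ k → k < 6584 → pointOk (k * 20) = true := between_extend pointOk 20 3959 6563 21 (p1u123) p1r124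

theorem p1r125 : allRange pointOk 20 6584 21 = true := by decide +kernel
theorem p1u125 : ∀ k, 3959 ≤ k → k < 6605 → pointOk (k * 20) = true := between_extend pointOk 20 3959 6584 21 (p1u124) p1r125

theorem p1r126 : allRange pointOk 20 6605 21 = true := by decide +kernel
theorem p1u126 : ∀ k, 3959 ≤ k → k < 6626 → pointOk (k * 20) = true := between_extend pointOk 20 3959 6605 21 (p1u125) p1r126

theorem p1r127 : allRange pointOk 20 6626 21 = true := by decide +kernel
theorem p1u127 : ∀ k, 3959 ≤ k → k < 6647 → pointOk (k * 20) = true := between_extend pointOk 20 3959 6626 21 (p1u126) p1r127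

theorem p1r128 : allRange pointOk 20 6647 21 = true := by decide +kernel
theorem p1u128 : ∀ k, 3959 ≤ k → k < 6668 → pointOk (k * 20) = true := between_extend pointOk 20 3959 6647 21 (p1u127) p1r128

theorem p1r129 : allRange pointOk 20 6668 21 = true := by decide +kernel
theorem p1u129 : ∀ k, 3959 ≤ k → k < 6689 → pointOk (k * 20) = true := between_extend pointOk 20 3959 6668 21 (p1u128) p1r129

theorem p1r130 : allRange pointOk 20 6689 21 = true := by decide +kernel
theorem p1u130 : ∀ k, 3959 ≤ k → k < 6710 → pointOk (k * 20) = true := between_extend pointOk 20 3959 6689 21 (p1u129) p1r130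

theorem p1r131 : allRange pointOk 20 6710 21 = true := by decide +kernel
theorem p1u131 : ∀ k, 3959 ≤ k → k < 6731 → pointOk (k * 20) = true := between_extend pointOk 20 3959 6710 21 (p1u130) p1r131

theorem p1r132 : allRange pointOk 20 6731 21 = true := by decide +kernel
theorem p1u132 : ∀ k, 3959 ≤ k → k < 6752 → pointOk (k * 20) = true := between_extend pointOk 20 3959 6731 21 (p1u131) p1r132

theorem p1r133 : allRange pointOk 20 6752 21 = true := by decide +kernel
theorem p1u133 : ∀ k, 3959 ≤ k → k < 6773 → pointOk (k * 20) = true := between_extend pointOk 20 3959 6752 21 (p1u132) p1r133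

theorem p1r134 : allRange pointOk 20 6773 21 = true := by decide +kernel
theorem p1u134 : ∀ k, 3959 ≤ k → k < 6794 → pointOk (k * 20) = true := between_extend pointOk 20 3959 6773 21 (p1u133) p1r134

theorem p1r135 : allRange pointOk 20 6794 21 = true := by decide +kernel
theorem p1u135 : ∀ k, 3959 ≤ k → k < 6815 → pointOk (k * 20) = true := between_extend pointOk 20 3959 6794 21 (p1u134) p1r135

theorem p1r136 : allRange pointOk 20 6815 21 = true := by decide +kernel
theorem p1u136 : ∀ k, 3959 ≤ k → k < 6836 → pointOk (k * 20) = true := between_extend pointOk 20 3959 6815 21 (p1u135) p1r136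

theorem p1r137 : allRange pointOk 20 6836 21 = true := by decide +kernel
theorem p1u137 : ∀ k, 3959 ≤ k → k < 6857 → pointOk (k * 20) = true := between_extend pointOk 20 3959 6836 21 (p1u136) p1r137

theorem p1r138 : allRange pointOk 20 6857 21 = true := by decide +kernel
theorem p1u138 : ∀ k, 3959 ≤ k → k < 6878 → pointOk (k * 20) = true := between_extend pointOk 20 3959 6857 21 (p1u137) p1r138

theorem p1r139 : allRange pointOk 20 6878 21 = true := by decide +kernel
theorem p1u139 : ∀ k, 3959 ≤ k → k < 6899 → pointOk (k * 20) = true := between_extend pointOk 20 3959 6878 21 (p1u138) p1r139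

theorem p1r140 : allRange pointOk 20 6899 21 = true := by decide +kernel
theorem p1u140 : ∀ k, 3959 ≤ k → k < 6920 → pointOk (k * 20) = true := between_extend pointOk 20 3959 6899 21 (p1u139) p1r140

theorem p1r141 : allRange pointOk 20 6920 21 = true := by decide +kernel
theorem p1u141 : ∀ k, 3959 ≤ k → k < 6941 → pointOk (k * 20) = true := between_extend pointOk 20 3959 6920 21 (p1u140) p1r141

theorem p1r142 : allRange pointOk 20 6941 21 = true := by decide +kernel
theorem p1u142 : ∀ k, 3959 ≤ k → k < 6962 → pointOk (k * 20) = true := between_extend pointOk 20 3959 6941 21 (p1u141) p1r142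

theorem p1r143 : allRange pointOk 20 6962 21 = true := by decide +kernel
theorem p1u143 : ∀ k, 3959 ≤ k → k < 6983 → pointOk (k * 20) = true := between_extend pointOk 20 3959 6962 21 (p1u142) p1r143

theorem p1r144 : allRange pointOk 20 6983 21 = true := by decide +kernel
theorem p1u144 : ∀ k, 3959 ≤ k → k < 7004 → pointOk (k * 20) = true := between_extend pointOk 20 3959 6983 21 (p1u143) p1r144

theorem p1r145 : allRange pointOk 20 7004 21 = true := by decide +kernel
theorem p1u145 : ∀ k, 3959 ≤ k → k < 7025 → pointOk (k * 20) = true := between_extend pointOk 20 3959 7004 21 (p1u144) p1r145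

theorem p1r146 : allRange pointOk 20 7025 21 = true := by decide +kernel
theorem p1u146 : ∀ k, 3959 ≤ k → k < 7046 → pointOk (k * 20) = true := between_extend pointOk 20 3959 7025 21 (p1u145) p1r146

theorem p1r147 : allRange pointOk 20 7046 21 = true := by decide +kernel
theorem p1u147 : ∀ k, 3959 ≤ k → k < 7067 → pointOk (k * 20) = true := between_extend pointOk 20 3959 7046 21 (p1u146) p1r147

theorem p1r148 : allRange pointOk 20 7067 21 = true := by decide +kernel
theorem p1u148 : ∀ k, 3959 ≤ k → k < 7088 → pointOk (k * 20) = true := between_extend pointOk 20 3959 7067 21 (p1u147) p1r148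

theorem p1r149 : allRange pointOk 20 7088 21 = true := by decide +kernel
theorem p1u149 : ∀ k, 3959 ≤ k → k < 7109 → pointOk (k * 20) = true := between_extend pointOk 20 3959 7088 21 (p1u148) p1r149

theorem p1r150 : allRange pointOk 20 7109 21 = true := by decide +kernel
theorem p1u150 : ∀ k, 3959 ≤ k → k < 7130 → pointOk (k * 20) = true := between_extend pointOk 20 3959 7109 21 (p1u149) p1r150

theorem p1r151 : allRange pointOk 20 7130 21 = true := by decide +kernel
theorem p1u151 : ∀ k, 3959 ≤ k → k < 7151 → pointOk (k * 20) = true := between_extend pointOk 20 3959 7130 21 (p1u150) p1r151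

theorem p1r152 : allRange pointOk 20 7151 21 = true := by decide +kernel
theorem p1u152 : ∀ k, 3959 ≤ k → k < 7172 → pointOk (k * 20) = true := between_extend pointOk 20 3959 7151 21 (p1u151) p1r152

theorem p1r153 : allRange pointOk 20 7172 21 = true := by decide +kernel
theorem p1u153 : ∀ k, 3959 ≤ k → k < 7193 → pointOk (k * 20) = true := between_extend pointOk 20 3959 7172 21 (p1u152) p1r153

theorem p1r154 : allRange pointOk 20 7193 21 = true := by decide +kernel
theorem p1u154 : ∀ k, 3959 ≤ k → k < 7214 → pointOk (k * 20) = true := between_extend pointOk 20 3959 7193 21 (p1u153) p1r154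

theorem p1r155 : allRange pointOk 20 7214 21 = true := by decide +kernel
theorem p1u155 : ∀ k, 3959 ≤ k → k < 7235 → pointOk (k * 20) = true := between_extend pointOk 20 3959 7214 21 (p1u154) p1r155

theorem p1r156 : allRange pointOk 20 7235 21 = true := by decide +kernel
theorem p1u156 : ∀ k, 3959 ≤ k → k < 7256 → pointOk (k * 20) = true := between_extend pointOk 20 3959 7235 21 (p1u155) p1r156

theorem p1r157 : allRange pointOk 20 7256 21 = true := by decide +kernel
theorem p1u157 : ∀ k, 3959 ≤ k → k < 7277 → pointOk (k * 20) = true := between_extend pointOk 20 3959 7256 21 (p1u156) p1r157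

theorem p1r158 : allRange pointOk 20 7277 21 = true := by decide +kernel
theorem p1u158 : ∀ k, 3959 ≤ k → k < 7298 → pointOk (k * 20) = true := between_extend pointOk 20 3959 7277 21 (p1u157) p1r158

theorem p1r159 : allRange pointOk 20 7298 21 = true := by decide +kernel
theorem p1u159 : ∀ k, 3959 ≤ k → k < 7319 → pointOk (k * 20) = true := between_extend pointOk 20 3959 7298 21 (p1u158) p1r159

theorem p1r160 : allRange pointOk 20 7319 21 = true := by decide +kernel
theorem p1u160 : ∀ k, 3959 ≤ k → k < 7340 → pointOk (k * 20) = true := between_extend pointOk 20 3959 7319 21 (p1u159) p1r160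

theorem p1r161 : allRange pointOk 20 7340 21 = true := by decide +kernel
theorem p1u161 : ∀ k, 3959 ≤ k → k < 7361 → pointOk (k * 20) = true := between_extend pointOk 20 3959 7340 21 (p1u160) p1r161

theorem p1r162 : allRange pointOk 20 7361 21 = true := by decide +kernel
theorem p1u162 : ∀ k, 3959 ≤ k → k < 7382 → pointOk (k * 20) = true := between_extend pointOk 20 3959 7361 21 (p1u161) p1r162

theorem p1r163 : allRange pointOk 20 7382 21 = true := by decide +kernel
theorem p1u163 : ∀ k, 3959 ≤ k → k < 7403 → pointOk (k * 20) = true := between_extend pointOk 20 3959 7382 21 (p1u162) p1r163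

theorem p1r164 : allRange pointOk 20 7403 21 = true := by decide +kernel
theorem p1u164 : ∀ k, 3959 ≤ k → k < 7424 → pointOk (k * 20) = true := between_extend pointOk 20 3959 7403 21 (p1u163) p1r164

theorem p1r165 : allRange pointOk 20 7424 21 = true := by decide +kernel
theorem p1u165 : ∀ k, 3959 ≤ k → k < 7445 → pointOk (k * 20) = true := between_extend pointOk 20 3959 7424 21 (p1u164) p1r165

theorem p1r166 : allRange pointOk 20 7445 21 = true := by decide +kernel
theorem p1u166 : ∀ k, 3959 ≤ k → k < 7466 → pointOk (k * 20) = true := between_extend pointOk 20 3959 7445 21 (p1u165) p1r166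

theorem p1r167 : allRange pointOk 20 7466 21 = true := by decide +kernel
theorem p1u167 : ∀ k, 3959 ≤ k → k < 7487 → pointOk (k * 20) = true := between_extend pointOk 20 3959 7466 21 (p1u166) p1r167

theorem p1r168 : allRange pointOk 20 7487 21 = true := by decide +kernel
theorem p1u168 : ∀ k, 3959 ≤ k → k < 7508 → pointOk (k * 20) = true := between_extend pointOk 20 3959 7487 21 (p1u167) p1r168

theorem p1r169 : allRange pointOk 20 7508 21 = true := by decide +kernel
theorem p1u169 : ∀ k, 3959 ≤ k → k < 7529 → pointOk (k * 20) = true := between_extend pointOk 20 3959 7508 21 (p1u168) p1r169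

theorem p1r170 : allRange pointOk 20 7529 21 = true := by decide +kernel
theorem p1u170 : ∀ k, 3959 ≤ k → k < 7550 → pointOk (k * 20) = true := between_extend pointOk 20 3959 7529 21 (p1u169) p1r170

theorem p1r171 : allRange pointOk 20 7550 21 = true := by decide +kernel
theorem p1u171 : ∀ k, 3959 ≤ k → k < 7571 → pointOk (k * 20) = true := between_extend pointOk 20 3959 7550 21 (p1u170) p1r171

theorem p1r172 : allRange pointOk 20 7571 21 = true := by decide +kernel
theorem p1u172 : ∀ k, 3959 ≤ k → k < 7592 → pointOk (k * 20) = true := between_extend pointOk 20 3959 7571 21 (p1u171) p1r172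

theorem p1r173 : allRange pointOk 20 7592 21 = true := by decide +kernel
theorem p1u173 : ∀ k, 3959 ≤ k → k < 7613 → pointOk (k * 20) = true := between_extend pointOk 20 3959 7592 21 (p1u172) p1r173

theorem p1r174 : allRange pointOk 20 7613 21 = true := by decide +kernel
theorem p1u174 : ∀ k, 3959 ≤ k → k < 7634 → pointOk (k * 20) = true := between_extend pointOk 20 3959 7613 21 (p1u173) p1r174

theorem p1r175 : allRange pointOk 20 7634 21 = true := by decide +kernel
theorem p1u175 : ∀ k, 3959 ≤ k → k < 7655 → pointOk (k * 20) = true := between_extend pointOk 20 3959 7634 21 (p1u174) p1r175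

theorem p1r176 : allRange pointOk 20 7655 21 = true := by decide +kernel
theorem p1u176 : ∀ k, 3959 ≤ k → k < 7676 → pointOk (k * 20) = true := between_extend pointOk 20 3959 7655 21 (p1u175) p1r176

theorem p1r177 : allRange pointOk 20 7676 21 = true := by decide +kernel
theorem p1u177 : ∀ k, 3959 ≤ k → k < 7697 → pointOk (k * 20) = true := between_extend pointOk 20 3959 7676 21 (p1u176) p1r177

theorem p1r178 : allRange pointOk 20 7697 21 = true := by decide +kernel
theorem p1u178 : ∀ k, 3959 ≤ k → k < 7718 → pointOk (k * 20) = true := between_extend pointOk 20 3959 7697 21 (p1u177) p1r178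

theorem p1r179 : allRange pointOk 20 7718 21 = true := by decide +kernel
theorem p1u179 : ∀ k, 3959 ≤ k → k < 7739 → pointOk (k * 20) = true := between_extend pointOk 20 3959 7718 21 (p1u178) p1r179

theorem p1r180 : allRange pointOk 20 7739 21 = true := by decide +kernel
theorem p1u180 : ∀ k, 3959 ≤ k → k < 7760 → pointOk (k * 20) = true := between_extend pointOk 20 3959 7739 21 (p1u179) p1r180

theorem p1r181 : allRange pointOk 20 7760 21 = true := by decide +kernel
theorem p1u181 : ∀ k, 3959 ≤ k → k < 7781 → pointOk (k * 20) = true := between_extend pointOk 20 3959 7760 21 (p1u180) p1r181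

theorem p1r182 : allRange pointOk 20 7781 21 = true := by decide +kernel
theorem p1u182 : ∀ k, 3959 ≤ k → k < 7802 → pointOk (k * 20) = true := between_extend pointOk 20 3959 7781 21 (p1u181) p1r182

theorem p1r183 : allRange pointOk 20 7802 21 = true := by decide +kernel
theorem p1u183 : ∀ k, 3959 ≤ k → k < 7823 → pointOk (k * 20) = true := between_extend pointOk 20 3959 7802 21 (p1u182) p1r183

theorem p1r184 : allRange pointOk 20 7823 21 = true := by decide +kernel
theorem p1u184 : ∀ k, 3959 ≤ k → k < 7844 → pointOk (k * 20) = true := between_extend pointOk 20 3959 7823 21 (p1u183) p1r184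

theorem p1r185 : allRange pointOk 20 7844 21 = true := by decide +kernel
theorem p1u185 : ∀ k, 3959 ≤ k → k < 7865 → pointOk (k * 20) = true := between_extend pointOk 20 3959 7844 21 (p1u184) p1r185

theorem p1r186 : allRange pointOk 20 7865 21 = true := by decide +kernel
theorem p1u186 : ∀ k, 3959 ≤ k → k < 7886 → pointOk (k * 20) = true := between_extend pointOk 20 3959 7865 21 (p1u185) p1r186

theorem p1r187 : allRange pointOk 20 7886 21 = true := by decide +kernel
theorem p1u187 : ∀ k, 3959 ≤ k → k < 7907 → pointOk (k * 20) = true := between_extend pointOk 20 3959 7886 21 (p1u186) p1r187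

theorem p1r188 : allRange pointOk 20 7907 11 = true := by decide +kernel
theorem p1u188 : ∀ k, 3959 ≤ k → k < 7918 → pointOk (k * 20) = true := between_extend pointOk 20 3959 7907 11 (p1u187) p1r188

theorem p1 : ∀ k, 3959 ≤ k → k < 7918 → pointOk (k * 20) = true := p1u188

end Cfsg.Agent.Lib.Helper28_S1689
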