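import Cfsg.Agent.Lib.Helper28_S1689Def

set_option autoImplicit false
set_option linter.constructorNameAsVariable false
set_option Elab.async false

namespace Cfsg.Agent.Lib.Helper28_S1689

open Cfsg.Agent.Lib.Helper28_CosetPerm

theorem p2r0 : allRange pointOk 20 7918 21 = true := by decide +kernel
theorem p2u0 : ∀ k, 7918 ≤ k → k < 7939 → pointOk (k * 20) = true := between_extend pointOk 20 7918 7918 21 (between_start pointOk 20 7918) p2r0

theorem p2r1 : allRange pointOk 20 7939 21 = true := by decide +kernel
theorem p2u1 : ∀ k, 7918 ≤ k → k < 7960 → pointOk (k * 20) = true := between_extend pointOk 20 7918 7939 21 (p2u0) p2r1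

theorem p2r2 : allRange pointOk 20 7960 21 = true := by decide +kernel
theorem p2u2 : ∀ k, 7918 ≤ k → k < 7981 → pointOk (k * 20) = true := between_extend pointOk 20 7918 7960 21 (p2u1) p2r2

theorem p2r3 : allRange pointOk 20 7981 21 = true := by decide +kernel
theorem p2u3 : ∀ k, 7918 ≤ k → k < 8002 → pointOk (k * 20) = true := between_extend pointOk 20 7918 7981 21 (p2u2) p2r3

theorem p2r4 : allRange pointOk 20 8002 21 = true := by decide +kernel
theorem p2u4 : ∀ k, 7918 ≤ k → k < 8023 → pointOk (k * 20) = true := between_extend pointOk 20 7918 8002 21 (p2u3) p2r4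

theorem p2r5 : allRange pointOk 20 8023 21 = true := by decide +kernel
theorem p2u5 : ∀ k, 7918 ≤ k → k < 8044 → pointOk (k * 20) = true := between_extend pointOk 20 7918 8023 21 (p2u4) p2r5

theorem p2r6 : allRange pointOk 20 8044 21 = true := by decide +kernel
theorem p2u6 : ∀ k, 7918 ≤ k → k < 8065 → pointOk (k * 20) = true := between_extend pointOk 20 7918 8044 21 (p2u5) p2r6

theorem p2r7 : allRange pointOk 20 8065 21 = true := by decide +kernel
theorem p2u7 : ∀ k, 7918 ≤ k → k < 8086 → pointOk (k * 20) = true := between_extend pointOk 20 7918 8065 21 (p2u6) p2r7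

theorem p2r8 : allRange pointOk 20 8086 21 = true := by decide +kernel
theorem p2u8 : ∀ k, 7918 ≤ k → k < 8107 → pointOk (k * 20) = true := between_extend pointOk 20 7918 8086 21 (p2u7) p2r8

theorem p2r9 : allRange pointOk 20 8107 21 = true := by decide +kernel
theorem p2u9 : ∀ k, 7918 ≤ k → k < 8128 → pointOk (k * 20) = true := between_extend pointOk 20 7918 8107 21 (p2u8) p2r9

theorem p2r10 : allRange pointOk 20 8128 21 = true := by decide +kernel
theorem p2u10 : ∀ k, 7918 ≤ k → k < 8149 → pointOk (k * 20) = true := between_extend pointOk 20 7918 8128 21 (p2u9) p2r10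

theorem p2r11 : allRange pointOk 20 8149 21 = true := by decide +kernel
theorem p2u11 : ∀ k, 7918 ≤ k → k < 8170 → pointOk (k * 20) = true := between_extend pointOk 20 7918 8149 21 (p2u10) p2r11

theorem p2r12 : allRange pointOk 20 8170 21 = true := by decide +kernel
theorem p2u12 : ∀ k, 7918 ≤ k → k < 8191 → pointOk (k * 20) = true := between_extend pointOk 20 7918 8170 21 (p2u11) p2r12

theorem p2r13 : allRange pointOk 20 8191 21 = true := by decide +kernel
theorem p2u13 : ∀ k, 7918 ≤ k → k < 8212 → pointOk (k * 20) = true := between_extend pointOk 20 7918 8191 21 (p2u12) p2r13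

theorem p2r14 : allRange pointOk 20 8212 21 = true := by decide +kernel
theorem p2u14 : ∀ k, 7918 ≤ k → k < 8233 → pointOk (k * 20) = true := between_extend pointOk 20 7918 8212 21 (p2u13) p2r14

theorem p2r15 : allRange pointOk 20 8233 21 = true := by decide +kernel
theorem p2u15 : ∀ k, 7918 ≤ k → k < 8254 → pointOk (k * 20) = true := between_extend pointOk 20 7918 8233 21 (p2u14) p2r15

theorem p2r16 : allRange pointOk 20 8254 21 = true := by decide +kernel
theorem p2u16 : ∀ k, 7918 ≤ k → k < 8275 → pointOk (k * 20) = true := between_extend pointOk 20 7918 8254 21 (p2u15) p2r16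

theorem p2r17 : allRange pointOk 20 8275 21 = true := by decide +kernel
theorem p2u17 : ∀ k, 7918 ≤ k → k < 8296 → pointOk (k * 20) = true := between_extend pointOk 20 7918 8275 21 (p2u16) p2r17

theorem p2r18 : allRange pointOk 20 8296 21 = true := by decide +kernel
theorem p2u18 : ∀ k, 7918 ≤ k → k < 8317 → pointOk (k * 20) = true := between_extend pointOk 20 7918 8296 21 (p2u17) p2r18

theorem p2r19 : allRange pointOk 20 8317 21 = true := by decide +kernel
theorem p2u19 : ∀ k, 7918 ≤ k → k < 8338 → pointOk (k * 20) = true := between_extend pointOk 20 7918 8317 21 (p2u18) p2r19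

theorem p2r20 : allRange pointOk 20 8338 21 = true := by decide +kernel
theorem p2u20 : ∀ k, 7918 ≤ k → k < 8359 → pointOk (k * 20) = true := between_extend pointOk 20 7918 8338 21 (p2u19) p2r20

theorem p2r21 : allRange pointOk 20 8359 21 = true := by decide +kernel
theorem p2u21 : ∀ k, 7918 ≤ k → k < 8380 → pointOk (k * 20) = true := between_extend pointOk 20 7918 8359 21 (p2u20) p2r21

theorem p2r22 : allRange pointOk 20 8380 21 = true := by decide +kernel
theorem p2u22 : ∀ k, 7918 ≤ k → k < 8401 → pointOk (k * 20) = true := between_extend pointOk 20 7918 8380 21 (p2u21) p2r22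

theorem p2r23 : allRange pointOk 20 8401 21 = true := by decide +kernel
theorem p2u23 : ∀ k, 7918 ≤ k → k < 8422 → pointOk (k * 20) = true := between_extend pointOk 20 7918 8401 21 (p2u22) p2r23

theorem p2r24 : allRange pointOk 20 8422 21 = true := by decide +kernel
theorem p2u24 : ∀ k, 7918 ≤ k → k < 8443 → pointOk (k * 20) = true := between_extend pointOk 20 7918 8422 21 (p2u23) p2r24

theorem p2r25 : allRange pointOk 20 8443 21 = true := by decide +kernel
theorem p2u25 : ∀ k, 7918 ≤ k → k < 8464 → pointOk (k * 20) = true := between_extend pointOk 20 7918 8443 21 (p2u24) p2r25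

theorem p2r26 : allRange pointOk 20 8464 21 = true := by decide +kernel
theorem p2u26 : ∀ k, 7918 ≤ k → k < 8485 → pointOk (k * 20) = true := between_extend pointOk 20 7918 8464 21 (p2u25) p2r26

theorem p2r27 : allRange pointOk 20 8485 21 = true := by decide +kernel
theorem p2u27 : ∀ k, 7918 ≤ k → k < 8506 → pointOk (k * 20) = true := between_extend pointOk 20 7918 8485 21 (p2u26) p2r27

theorem p2r28 : allRange pointOk 20 8506 21 = true := by decide +kernel
theorem p2u28 : ∀ k, 7918 ≤ k → k < 8527 → pointOk (k * 20) = true := between_extend pointOk 20 7918 8506 21 (p2u27) p2r28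

theorem p2r29 : allRange pointOk 20 8527 21 = true := by decide +kernel
theorem p2u29 : ∀ k, 7918 ≤ k → k < 8548 → pointOk (k * 20) = true := between_extend pointOk 20 7918 8527 21 (p2u28) p2r29

theorem p2r30 : allRange pointOk 20 8548 21 = true := by decide +kernel
theorem p2u30 : ∀ k, 7918 ≤ k → k < 8569 → pointOk (k * 20) = true := between_extend pointOk 20 7918 8548 21 (p2u29) p2r30

theorem p2r31 : allRange pointOk 20 8569 21 = true := by decide +kernel
theorem p2u31 : ∀ k, 7918 ≤ k → k < 8590 → pointOk (k * 20) = true := between_extend pointOk 20 7918 8569 21 (p2u30) p2r31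

theorem p2r32 : allRange pointOk 20 8590 21 = true := by decide +kernel
theorem p2u32 : ∀ k, 7918 ≤ k → k < 8611 → pointOk (k * 20) = true := between_extend pointOk 20 7918 8590 21 (p2u31) p2r32

theorem p2r33 : allRange pointOk 20 8611 21 = true := by decide +kernel
theorem p2u33 : ∀ k, 7918 ≤ k → k < 8632 → pointOk (k * 20) = true := between_extend pointOk 20 7918 8611 21 (p2u32) p2r33

theorem p2r34 : allRange pointOk 20 8632 21 = true := by decide +kernel
theorem p2u34 : ∀ k, 7918 ≤ k → k < 8653 → pointOk (k * 20) = true := between_extend pointOk 20 7918 8632 21 (p2u33) p2r34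

theorem p2r35 : allRange pointOk 20 8653 21 = true := by decide +kernel
theorem p2u35 : ∀ k, 7918 ≤ k → k < 8674 → pointOk (k * 20) = true := between_extend pointOk 20 7918 8653 21 (p2u34) p2r35

theorem p2r36 : allRange pointOk 20 8674 21 = true := by decide +kernel
theorem p2u36 : ∀ k, 7918 ≤ k → k < 8695 → pointOk (k * 20) = true := between_extend pointOk 20 7918 8674 21 (p2u35) p2r36

theorem p2r37 : allRange pointOk 20 8695 21 = true := by decide +kernel
theorem p2u37 : ∀ k, 7918 ≤ k → k < 8716 → pointOk (k * 20) = true := between_extend pointOk 20 7918 8695 21 (p2u36) p2r37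

theorem p2r38 : allRange pointOk 20 8716 21 = true := by decide +kernel
theorem p2u38 : ∀ k, 7918 ≤ k → k < 8737 → pointOk (k * 20) = true := between_extend pointOk 20 7918 8716 21 (p2u37) p2r38

theorem p2r39 : allRange pointOk 20 8737 21 = true := by decide +kernel
theorem p2u39 : ∀ k, 7918 ≤ k → k < 8758 → pointOk (k * 20) = true := between_extend pointOk 20 7918 8737 21 (p2u38) p2r39

theorem p2r40 : allRange pointOk 20 8758 21 = true := by decide +kernel
theorem p2u40 : ∀ k, 7918 ≤ k → k < 8779 → pointOk (k * 20) = true := between_extend pointOk 20 7918 8758 21 (p2u39) p2r40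

theorem p2r41 : allRange pointOk 20 8779 21 = true := by decide +kernel
theorem p2u41 : ∀ k, 7918 ≤ k → k < 8800 → pointOk (k * 20) = true := between_extend pointOk 20 7918 8779 21 (p2u40) p2r41

theorem p2r42 : allRange pointOk 20 8800 21 = true := by decide +kernel
theorem p2u42 : ∀ k, 7918 ≤ k → k < 8821 → pointOk (k * 20) = true := between_extend pointOk 20 7918 8800 21 (p2u41) p2r42

theorem p2r43 : allRange pointOk 20 8821 21 = true := by decide +kernel
theorem p2u43 : ∀ k, 7918 ≤ k → k < 8842 → pointOk (k * 20) = true := between_extend pointOk 20 7918 8821 21 (p2u42) p2r43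

theorem p2r44 : allRange pointOk 20 8842 21 = true := by decide +kernel
theorem p2u44 : ∀ k, 7918 ≤ k → k < 8863 → pointOk (k * 20) = true := between_extend pointOk 20 7918 8842 21 (p2u43) p2r44

theorem p2r45 : allRange pointOk 20 8863 21 = true := by decide +kernel
theorem p2u45 : ∀ k, 7918 ≤ k → k < 8884 → pointOk (k * 20) = true := between_extend pointOk 20 7918 8863 21 (p2u44) p2r45

theorem p2r46 : allRange pointOk 20 8884 21 = true := by decide +kernel
theorem p2u46 : ∀ k, 7918 ≤ k → k < 8905 → pointOk (k * 20) = true := between_extend pointOk 20 7918 8884 21 (p2u45) p2r46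

theorem p2r47 : allRange pointOk 20 8905 21 = true := by decide +kernel
theorem p2u47 : ∀ k, 7918 ≤ k → k < 8926 → pointOk (k * 20) = true := between_extend pointOk 20 7918 8905 21 (p2u46) p2r47

theorem p2r48 : allRange pointOk 20 8926 21 = true := by decide +kernel
theorem p2u48 : ∀ k, 7918 ≤ k → k < 8947 → pointOk (k * 20) = true := between_extend pointOk 20 7918 8926 21 (p2u47) p2r48

theorem p2r49 : allRange pointOk 20 8947 21 = true := by decide +kernel
theorem p2u49 : ∀ k, 7918 ≤ k → k < 8968 → pointOk (k * 20) = true := between_extend pointOk 20 7918 8947 21 (p2u48) p2r49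

theorem p2r50 : allRange pointOk 20 8968 21 = true := by decide +kernel
theorem p2u50 : ∀ k, 7918 ≤ k → k < 8989 → pointOk (k * 20) = true := between_extend pointOk 20 7918 8968 21 (p2u49) p2r50

theorem p2r51 : allRange pointOk 20 8989 21 = true := by decide +kernel
theorem p2u51 : ∀ k, 7918 ≤ k → k < 9010 → pointOk (k * 20) = true := between_extend pointOk 20 7918 8989 21 (p2u50) p2r51

theorem p2r52 : allRange pointOk 20 9010 21 = true := by decide +kernel
theorem p2u52 : ∀ k, 7918 ≤ k → k < 9031 → pointOk (k * 20) = true := between_extend pointOk 20 7918 9010 21 (p2u51) p2r52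

theorem p2r53 : allRange pointOk 20 9031 21 = true := by decide +kernel
theorem p2u53 : ∀ k, 7918 ≤ k → k < 9052 → pointOk (k * 20) = true := between_extend pointOk 20 7918 9031 21 (p2u52) p2r53

theorem p2r54 : allRange pointOk 20 9052 21 = true := by decide +kernel
theorem p2u54 : ∀ k, 7918 ≤ k → k < 9073 → pointOk (k * 20) = true := between_extend pointOk 20 7918 9052 21 (p2u53) p2r54

theorem p2r55 : allRange pointOk 20 9073 21 = true := by decide +kernel
theorem p2u55 : ∀ k, 7918 ≤ k → k < 9094 → pointOk (k * 20) = true := between_extend pointOk 20 7918 9073 21 (p2u54) p2r55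

theorem p2r56 : allRange pointOk 20 9094 21 = true := by decide +kernel
theorem p2u56 : ∀ k, 7918 ≤ k → k < 9115 → pointOk (k * 20) = true := between_extend pointOk 20 7918 9094 21 (p2u55) p2r56

theorem p2r57 : allRange pointOk 20 9115 21 = true := by decide +kernel
theorem p2u57 : ∀ k, 7918 ≤ k → k < 9136 → pointOk (k * 20) = true := between_extend pointOk 20 7918 9115 21 (p2u56) p2r57

theorem p2r58 : allRange pointOk 20 9136 21 = true := by decide +kernel
theorem p2u58 : ∀ k, 7918 ≤ k → k < 9157 → pointOk (k * 20) = true := between_extend pointOk 20 7918 9136 21 (p2u57) p2r58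

theorem p2r59 : allRange pointOk 20 9157 21 = true := by decide +kernel
theorem p2u59 : ∀ k, 7918 ≤ k → k < 9178 → pointOk (k * 20) = true := between_extend pointOk 20 7918 9157 21 (p2u58) p2r59

theorem p2r60 : allRange pointOk 20 9178 21 = true := by decide +kernel
theorem p2u60 : ∀ k, 7918 ≤ k → k < 9199 → pointOk (k * 20) = true := between_extend pointOk 20 7918 9178 21 (p2u59) p2r60

theorem p2r61 : allRange pointOk 20 9199 21 = true := by decide +kernel
theorem p2u61 : ∀ k, 7918 ≤ k → k < 9220 → pointOk (k * 20) = true := between_extend pointOk 20 7918 9199 21 (p2u60) p2r61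

theorem p2r62 : allRange pointOk 20 9220 21 = true := by decide +kernel
theorem p2u62 : ∀ k, 7918 ≤ k → k < 9241 → pointOk (k * 20) = true := between_extend pointOk 20 7918 9220 21 (p2u61) p2r62

theorem p2r63 : allRange pointOk 20 9241 21 = true := by decide +kernel
theorem p2u63 : ∀ k, 7918 ≤ k → k < 9262 → pointOk (k * 20) = true := between_extend pointOk 20 7918 9241 21 (p2u62) p2r63

theorem p2r64 : allRange pointOk 20 9262 21 = true := by decide +kernel
theorem p2u64 : ∀ k, 7918 ≤ k → k < 9283 → pointOk (k * 20) = true := between_extend pointOk 20 7918 9262 21 (p2u63) p2r64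

theorem p2r65 : allRange pointOk 20 9283 21 = true := by decide +kernel
theorem p2u65 : ∀ k, 7918 ≤ k → k < 9304 → pointOk (k * 20) = true := between_extend pointOk 20 7918 9283 21 (p2u64) p2r65

theorem p2r66 : allRange pointOk 20 9304 21 = true := by decide +kernel
theorem p2u66 : ∀ k, 7918 ≤ k → k < 9325 → pointOk (k * 20) = true := between_extend pointOk 20 7918 9304 21 (p2u65) p2r66

theorem p2r67 : allRange pointOk 20 9325 21 = true := by decide +kernel
theorem p2u67 : ∀ k, 7918 ≤ k → k < 9346 → pointOk (k * 20) = true := between_extend pointOk 20 7918 9325 21 (p2u66) p2r67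

theorem p2r68 : allRange pointOk 20 9346 21 = true := by decide +kernel
theorem p2u68 : ∀ k, 7918 ≤ k → k < 9367 → pointOk (k * 20) = true := between_extend pointOk 20 7918 9346 21 (p2u67) p2r68

theorem p2r69 : allRange pointOk 20 9367 21 = true := by decide +kernel
theorem p2u69 : ∀ k, 7918 ≤ k → k < 9388 → pointOk (k * 20) = true := between_extend pointOk 20 7918 9367 21 (p2u68) p2r69

theorem p2r70 : allRange pointOk 20 9388 21 = true := by decide +kernel
theorem p2u70 : ∀ k, 7918 ≤ k → k < 9409 → pointOk (k * 20) = true := between_extend pointOk 20 7918 9388 21 (p2u69) p2r70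

theorem p2r71 : allRange pointOk 20 9409 21 = true := by decide +kernel
theorem p2u71 : ∀ k, 7918 ≤ k → k < 9430 → pointOk (k * 20) = true := between_extend pointOk 20 7918 9409 21 (p2u70) p2r71

theorem p2r72 : allRange pointOk 20 9430 21 = true := by decide +kernel
theorem p2u72 : ∀ k, 7918 ≤ k → k < 9451 → pointOk (k * 20) = true := between_extend pointOk 20 7918 9430 21 (p2u71) p2r72

theorem p2r73 : allRange pointOk 20 9451 21 = true := by decide +kernel
theorem p2u73 : ∀ k, 7918 ≤ k → k < 9472 → pointOk (k * 20) = true := between_extend pointOk 20 7918 9451 21 (p2u72) p2r73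

theorem p2r74 : allRange pointOk 20 9472 21 = true := by decide +kernel
theorem p2u74 : ∀ k, 7918 ≤ k → k < 9493 → pointOk (k * 20) = true := between_extend pointOk 20 7918 9472 21 (p2u73) p2r74

theorem p2r75 : allRange pointOk 20 9493 21 = true := by decide +kernel
theorem p2u75 : ∀ k, 7918 ≤ k → k < 9514 → pointOk (k * 20) = true := between_extend pointOk 20 7918 9493 21 (p2u74) p2r75

theorem p2r76 : allRange pointOk 20 9514 21 = true := by decide +kernel
theorem p2u76 : ∀ k, 7918 ≤ k → k < 9535 → pointOk (k * 20) = true := between_extend pointOk 20 7918 9514 21 (p2u75) p2r76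

theorem p2r77 : allRange pointOk 20 9535 21 = true := by decide +kernel
theorem p2u77 : ∀ k, 7918 ≤ k → k < 9556 → pointOk (k * 20) = true := between_extend pointOk 20 7918 9535 21 (p2u76) p2r77

theorem p2r78 : allRange pointOk 20 9556 21 = true := by decide +kernel
theorem p2u78 : ∀ k, 7918 ≤ k → k < 9577 → pointOk (k * 20) = true := between_extend pointOk 20 7918 9556 21 (p2u77) p2r78

theorem p2r79 : allRange pointOk 20 9577 21 = true := by decide +kernel
theorem p2u79 : ∀ k, 7918 ≤ k → k < 9598 → pointOk (k * 20) = true := between_extend pointOk 20 7918 9577 21 (p2u78) p2r79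

theorem p2r80 : allRange pointOk 20 9598 21 = true := by decide +kernel
theorem p2u80 : ∀ k, 7918 ≤ k → k < 9619 → pointOk (k * 20) = true := between_extend pointOk 20 7918 9598 21 (p2u79) p2r80

theorem p2r81 : allRange pointOk 20 9619 21 = true := by decide +kernel
theorem p2u81 : ∀ k, 7918 ≤ k → k < 9640 → pointOk (k * 20) = true := between_extend pointOk 20 7918 9619 21 (p2u80) p2r81

theorem p2r82 : allRange pointOk 20 9640 21 = true := by decide +kernel
theorem p2u82 : ∀ k, 7918 ≤ k → k < 9661 → pointOk (k * 20) = true := between_extend pointOk 20 7918 9640 21 (p2u81) p2r82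

theorem p2r83 : allRange pointOk 20 9661 21 = true := by decide +kernel
theorem p2u83 : ∀ k, 7918 ≤ k → k < 9682 → pointOk (k * 20) = true := between_extend pointOk 20 7918 9661 21 (p2u82) p2r83

theorem p2r84 : allRange pointOk 20 9682 21 = true := by decide +kernel
theorem p2u84 : ∀ k, 7918 ≤ k → k < 9703 → pointOk (k * 20) = true := between_extend pointOk 20 7918 9682 21 (p2u83) p2r84

theorem p2r85 : allRange pointOk 20 9703 21 = true := by decide +kernel
theorem p2u85 : ∀ k, 7918 ≤ k → k < 9724 → pointOk (k * 20) = true := between_extend pointOk 20 7918 9703 21 (p2u84) p2r85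

theorem p2r86 : allRange pointOk 20 9724 21 = true := by decide +kernel
theorem p2u86 : ∀ k, 7918 ≤ k → k < 9745 → pointOk (k * 20) = true := between_extend pointOk 20 7918 9724 21 (p2u85) p2r86

theorem p2r87 : allRange pointOk 20 9745 21 = true := by decide +kernel
theorem p2u87 : ∀ k, 7918 ≤ k → k < 9766 → pointOk (k * 20) = true := between_extend pointOk 20 7918 9745 21 (p2u86) p2r87

theorem p2r88 : allRange pointOk 20 9766 21 = true := by decide +kernel
theorem p2u88 : ∀ k, 7918 ≤ k → k < 9787 → pointOk (k * 20) = true := between_extend pointOk 20 7918 9766 21 (p2u87) p2r88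

theorem p2r89 : allRange pointOk 20 9787 21 = true := by decide +kernel
theorem p2u89 : ∀ k, 7918 ≤ k → k < 9808 → pointOk (k * 20) = true := between_extend pointOk 20 7918 9787 21 (p2u88) p2r89

theorem p2r90 : allRange pointOk 20 9808 21 = true := by decide +kernel
theorem p2u90 : ∀ k, 7918 ≤ k → k < 9829 → pointOk (k * 20) = true := between_extend pointOk 20 7918 9808 21 (p2u89) p2r90

theorem p2r91 : allRange pointOk 20 9829 21 = true := by decide +kernel
theorem p2u91 : ∀ k, 7918 ≤ k → k < 9850 → pointOk (k * 20) = true := between_extend pointOk 20 7918 9829 21 (p2u90) p2r91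

theorem p2r92 : allRange pointOk 20 9850 21 = true := by decide +kernel
theorem p2u92 : ∀ k, 7918 ≤ k → k < 9871 → pointOk (k * 20) = true := between_extend pointOk 20 7918 9850 21 (p2u91) p2r92

theorem p2r93 : allRange pointOk 20 9871 21 = true := by decide +kernel
theorem p2u93 : ∀ k, 7918 ≤ k → k < 9892 → pointOk (k * 20) = true := between_extend pointOk 20 7918 9871 21 (p2u92) p2r93

theorem p2r94 : allRange pointOk 20 9892 21 = true := by decide +kernel
theorem p2u94 : ∀ k, 7918 ≤ k → k < 9913 → pointOk (k * 20) = true := between_extend pointOk 20 7918 9892 21 (p2u93) p2r94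

theorem p2r95 : allRange pointOk 20 9913 21 = true := by decide +kernel
theorem p2u95 : ∀ k, 7918 ≤ k → k < 9934 → pointOk (k * 20) = true := between_extend pointOk 20 7918 9913 21 (p2u94) p2r95

theorem p2r96 : allRange pointOk 20 9934 21 = true := by decide +kernel
theorem p2u96 : ∀ k, 7918 ≤ k → k < 9955 → pointOk (k * 20) = true := between_extend pointOk 20 7918 9934 21 (p2u95) p2r96

theorem p2r97 : allRange pointOk 20 9955 21 = true := by decide +kernel
theorem p2u97 : ∀ k, 7918 ≤ k → k < 9976 → pointOk (k * 20) = true := between_extend pointOk 20 7918 9955 21 (p2u96) p2r97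

theorem p2r98 : allRange pointOk 20 9976 21 = true := by decide +kernel
theorem p2u98 : ∀ k, 7918 ≤ k → k < 9997 → pointOk (k * 20) = true := between_extend pointOk 20 7918 9976 21 (p2u97) p2r98

theorem p2r99 : allRange pointOk 20 9997 21 = true := by decide +kernel
theorem p2u99 : ∀ k, 7918 ≤ k → k < 10018 → pointOk (k * 20) = true := between_extend pointOk 20 7918 9997 21 (p2u98) p2r99

theorem p2r100 : allRange pointOk 20 10018 21 = true := by decide +kernel
theorem p2u100 : ∀ k, 7918 ≤ k → k < 10039 → pointOk (k * 20) = true := between_extend pointOk 20 7918 10018 21 (p2u99) p2r100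

theorem p2r101 : allRange pointOk 20 10039 21 = true := by decide +kernel
theorem p2u101 : ∀ k, 7918 ≤ k → k < 10060 → pointOk (k * 20) = true := between_extend pointOk 20 7918 10039 21 (p2u100) p2r101

theorem p2r102 : allRange pointOk 20 10060 21 = true := by decide +kernel
theorem p2u102 : ∀ k, 7918 ≤ k → k < 10081 → pointOk (k * 20) = true := between_extend pointOk 20 7918 10060 21 (p2u101) p2r102

theorem p2r103 : allRange pointOk 20 10081 21 = true := by decide +kernel
theorem p2u103 : ∀ k, 7918 ≤ k → k < 10102 → pointOk (k * 20) = true := between_extend pointOk 20 7918 10081 21 (p2u102) p2r103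

theorem p2r104 : allRange pointOk 20 10102 21 = true := by decide +kernel
theorem p2u104 : ∀ k, 7918 ≤ k → k < 10123 → pointOk (k * 20) = true := between_extend pointOk 20 7918 10102 21 (p2u103) p2r104

theorem p2r105 : allRange pointOk 20 10123 21 = true := by decide +kernel
theorem p2u105 : ∀ k, 7918 ≤ k → k < 10144 → pointOk (k * 20) = true := between_extend pointOk 20 7918 10123 21 (p2u104) p2r105

theorem p2r106 : allRange pointOk 20 10144 21 = true := by decide +kernel
theorem p2u106 : ∀ k, 7918 ≤ k → k < 10165 → pointOk (k * 20) = true := between_extend pointOk 20 7918 10144 21 (p2u105) p2r106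

theorem p2r107 : allRange pointOk 20 10165 21 = true := by decide +kernel
theorem p2u107 : ∀ k, 7918 ≤ k → k < 10186 → pointOk (k * 20) = true := between_extend pointOk 20 7918 10165 21 (p2u106) p2r107

theorem p2r108 : allRange pointOk 20 10186 21 = true := by decide +kernel
theorem p2u108 : ∀ k, 7918 ≤ k → k < 10207 → pointOk (k * 20) = true := between_extend pointOk 20 7918 10186 21 (p2u107) p2r108

theorem p2r109 : allRange pointOk 20 10207 21 = true := by decide +kernel
theorem p2u109 : ∀ k, 7918 ≤ k → k < 10228 → pointOk (k * 20) = true := between_extend pointOk 20 7918 10207 21 (p2u108) p2r109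

theorem p2r110 : allRange pointOk 20 10228 21 = true := by decide +kernel
theorem p2u110 : ∀ k, 7918 ≤ k → k < 10249 → pointOk (k * 20) = true := between_extend pointOk 20 7918 10228 21 (p2u109) p2r110

theorem p2r111 : allRange pointOk 20 10249 21 = true := by decide +kernel
theorem p2u111 : ∀ k, 7918 ≤ k → k < 10270 → pointOk (k * 20) = true := between_extend pointOk 20 7918 10249 21 (p2u110) p2r111

theorem p2r112 : allRange pointOk 20 10270 21 = true := by decide +kernel
theorem p2u112 : ∀ k, 7918 ≤ k → k < 10291 → pointOk (k * 20) = true := between_extend pointOk 20 7918 10270 21 (p2u111) p2r112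

theorem p2r113 : allRange pointOk 20 10291 21 = true := by decide +kernel
theorem p2u113 : ∀ k, 7918 ≤ k → k < 10312 → pointOk (k * 20) = true := between_extend pointOk 20 7918 10291 21 (p2u112) p2r113

theorem p2r114 : allRange pointOk 20 10312 21 = true := by decide +kernel
theorem p2u114 : ∀ k, 7918 ≤ k → k < 10333 → pointOk (k * 20) = true := between_extend pointOk 20 7918 10312 21 (p2u113) p2r114

theorem p2r115 : allRange pointOk 20 10333 21 = true := by decide +kernel
theorem p2u115 : ∀ k, 7918 ≤ k → k < 10354 → pointOk (k * 20) = true := between_extend pointOk 20 7918 10333 21 (p2u114) p2r115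

theorem p2r116 : allRange pointOk 20 10354 21 = true := by decide +kernel
theorem p2u116 : ∀ k, 7918 ≤ k → k < 10375 → pointOk (k * 20) = true := between_extend pointOk 20 7918 10354 21 (p2u115) p2r116

theorem p2r117 : allRange pointOk 20 10375 21 = true := by decide +kernel
theorem p2u117 : ∀ k, 7918 ≤ k → k < 10396 → pointOk (k * 20) = true := between_extend pointOk 20 7918 10375 21 (p2u116) p2r117

theorem p2r118 : allRange pointOk 20 10396 21 = true := by decide +kernel
theorem p2u118 : ∀ k, 7918 ≤ k → k < 10417 → pointOk (k * 20) = true := between_extend pointOk 20 7918 10396 21 (p2u117) p2r118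

theorem p2r119 : allRange pointOk 20 10417 21 = true := by decide +kernel
theorem p2u119 : ∀ k, 7918 ≤ k → k < 10438 → pointOk (k * 20) = true := between_extend pointOk 20 7918 10417 21 (p2u118) p2r119

theorem p2r120 : allRange pointOk 20 10438 21 = true := by decide +kernel
theorem p2u120 : ∀ k, 7918 ≤ k → k < 10459 → pointOk (k * 20) = true := between_extend pointOk 20 7918 10438 21 (p2u119) p2r120

theorem p2r121 : allRange pointOk 20 10459 21 = true := by decide +kernel
theorem p2u121 : ∀ k, 7918 ≤ k → k < 10480 → pointOk (k * 20) = true := between_extend pointOk 20 7918 10459 21 (p2u120) p2r121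

theorem p2r122 : allRange pointOk 20 10480 21 = true := by decide +kernel
theorem p2u122 : ∀ k, 7918 ≤ k → k < 10501 → pointOk (k * 20) = true := between_extend pointOk 20 7918 10480 21 (p2u121) p2r122

theorem p2r123 : allRange pointOk 20 10501 21 = true := by decide +kernel
theorem p2u123 : ∀ k, 7918 ≤ k → k < 10522 → pointOk (k * 20) = true := between_extend pointOk 20 7918 10501 21 (p2u122) p2r123

theorem p2r124 : allRange pointOk 20 10522 21 = true := by decide +kernel
theorem p2u124 : ∀ k, 7918 ≤ k → k < 10543 → pointOk (k * 20) = true := between_extend pointOk 20 7918 10522 21 (p2u123) p2r124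

theorem p2r125 : allRange pointOk 20 10543 21 = true := by decide +kernel
theorem p2u125 : ∀ k, 7918 ≤ k → k < 10564 → pointOk (k * 20) = true := between_extend pointOk 20 7918 10543 21 (p2u124) p2r125

theorem p2r126 : allRange pointOk 20 10564 21 = true := by decide +kernel
theorem p2u126 : ∀ k, 7918 ≤ k → k < 10585 → pointOk (k * 20) = true := between_extend pointOk 20 7918 10564 21 (p2u125) p2r126

theorem p2r127 : allRange pointOk 20 10585 21 = true := by decide +kernel
theorem p2u127 : ∀ k, 7918 ≤ k → k < 10606 → pointOk (k * 20) = true := between_extend pointOk 20 7918 10585 21 (p2u126) p2r127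

theorem p2r128 : allRange pointOk 20 10606 21 = true := by decide +kernel
theorem p2u128 : ∀ k, 7918 ≤ k → k < 10627 → pointOk (k * 20) = true := between_extend pointOk 20 7918 10606 21 (p2u127) p2r128

theorem p2r129 : allRange pointOk 20 10627 21 = true := by decide +kernel
theorem p2u129 : ∀ k, 7918 ≤ k → k < 10648 → pointOk (k * 20) = true := between_extend pointOk 20 7918 10627 21 (p2u128) p2r129

theorem p2r130 : allRange pointOk 20 10648 21 = true := by decide +kernel
theorem p2u130 : ∀ k, 7918 ≤ k → k < 10669 → pointOk (k * 20) = true := between_extend pointOk 20 7918 10648 21 (p2u129) p2r130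

theorem p2r131 : allRange pointOk 20 10669 21 = true := by decide +kernel
theorem p2u131 : ∀ k, 7918 ≤ k → k < 10690 → pointOk (k * 20) = true := between_extend pointOk 20 7918 10669 21 (p2u130) p2r131

theorem p2r132 : allRange pointOk 20 10690 21 = true := by decide +kernel
theorem p2u132 : ∀ k, 7918 ≤ k → k < 10711 → pointOk (k * 20) = true := between_extend pointOk 20 7918 10690 21 (p2u131) p2r132

theorem p2r133 : allRange pointOk 20 10711 21 = true := by decide +kernel
theorem p2u133 : ∀ k, 7918 ≤ k → k < 10732 → pointOk (k * 20) = true := between_extend pointOk 20 7918 10711 21 (p2u132) p2r133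

theorem p2r134 : allRange pointOk 20 10732 21 = true := by decide +kernel
theorem p2u134 : ∀ k, 7918 ≤ k → k < 10753 → pointOk (k * 20) = true := between_extend pointOk 20 7918 10732 21 (p2u133) p2r134

theorem p2r135 : allRange pointOk 20 10753 21 = true := by decide +kernel
theorem p2u135 : ∀ k, 7918 ≤ k → k < 10774 → pointOk (k * 20) = true := between_extend pointOk 20 7918 10753 21 (p2u134) p2r135

theorem p2r136 : allRange pointOk 20 10774 21 = true := by decide +kernel
theorem p2u136 : ∀ k, 7918 ≤ k → k < 10795 → pointOk (k * 20) = true := between_extend pointOk 20 7918 10774 21 (p2u135) p2r136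

theorem p2r137 : allRange pointOk 20 10795 21 = true := by decide +kernel
theorem p2u137 : ∀ k, 7918 ≤ k → k < 10816 → pointOk (k * 20) = true := between_extend pointOk 20 7918 10795 21 (p2u136) p2r137

theorem p2r138 : allRange pointOk 20 10816 21 = true := by decide +kernel
theorem p2u138 : ∀ k, 7918 ≤ k → k < 10837 → pointOk (k * 20) = true := between_extend pointOk 20 7918 10816 21 (p2u137) p2r138

theorem p2r139 : allRange pointOk 20 10837 21 = true := by decide +kernel
theorem p2u139 : ∀ k, 7918 ≤ k → k < 10858 → pointOk (k * 20) = true := between_extend pointOk 20 7918 10837 21 (p2u138) p2r139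

theorem p2r140 : allRange pointOk 20 10858 21 = true := by decide +kernel
theorem p2u140 : ∀ k, 7918 ≤ k → k < 10879 → pointOk (k * 20) = true := between_extend pointOk 20 7918 10858 21 (p2u139) p2r140

theorem p2r141 : allRange pointOk 20 10879 21 = true := by decide +kernel
theorem p2u141 : ∀ k, 7918 ≤ k → k < 10900 → pointOk (k * 20) = true := between_extend pointOk 20 7918 10879 21 (p2u140) p2r141

theorem p2r142 : allRange pointOk 20 10900 21 = true := by decide +kernel
theorem p2u142 : ∀ k, 7918 ≤ k → k < 10921 → pointOk (k * 20) = true := between_extend pointOk 20 7918 10900 21 (p2u141) p2r142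

theorem p2r143 : allRange pointOk 20 10921 21 = true := by decide +kernel
theorem p2u143 : ∀ k, 7918 ≤ k → k < 10942 → pointOk (k * 20) = true := between_extend pointOk 20 7918 10921 21 (p2u142) p2r143

theorem p2r144 : allRange pointOk 20 10942 21 = true := by decide +kernel
theorem p2u144 : ∀ k, 7918 ≤ k → k < 10963 → pointOk (k * 20) = true := between_extend pointOk 20 7918 10942 21 (p2u143) p2r144

theorem p2r145 : allRange pointOk 20 10963 21 = true := by decide +kernel
theorem p2u145 : ∀ k, 7918 ≤ k → k < 10984 → pointOk (k * 20) = true := between_extend pointOk 20 7918 10963 21 (p2u144) p2r145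

theorem p2r146 : allRange pointOk 20 10984 21 = true := by decide +kernel
theorem p2u146 : ∀ k, 7918 ≤ k → k < 11005 → pointOk (k * 20) = true := between_extend pointOk 20 7918 10984 21 (p2u145) p2r146

theorem p2r147 : allRange pointOk 20 11005 21 = true := by decide +kernel
theorem p2u147 : ∀ k, 7918 ≤ k → k < 11026 → pointOk (k * 20) = true := between_extend pointOk 20 7918 11005 21 (p2u146) p2r147

theorem p2r148 : allRange pointOk 20 11026 21 = true := by decide +kernel
theorem p2u148 : ∀ k, 7918 ≤ k → k < 11047 → pointOk (k * 20) = true := between_extend pointOk 20 7918 11026 21 (p2u147) p2r148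

theorem p2r149 : allRange pointOk 20 11047 21 = true := by decide +kernel
theorem p2u149 : ∀ k, 7918 ≤ k → k < 11068 → pointOk (k * 20) = true := between_extend pointOk 20 7918 11047 21 (p2u148) p2r149

theorem p2r150 : allRange pointOk 20 11068 21 = true := by decide +kernel
theorem p2u150 : ∀ k, 7918 ≤ k → k < 11089 → pointOk (k * 20) = true := between_extend pointOk 20 7918 11068 21 (p2u149) p2r150

theorem p2r151 : allRange pointOk 20 11089 21 = true := by decide +kernel
theorem p2u151 : ∀ k, 7918 ≤ k → k < 11110 → pointOk (k * 20) = true := between_extend pointOk 20 7918 11089 21 (p2u150) p2r151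

theorem p2r152 : allRange pointOk 20 11110 21 = true := by decide +kernel
theorem p2u152 : ∀ k, 7918 ≤ k → k < 11131 → pointOk (k * 20) = true := between_extend pointOk 20 7918 11110 21 (p2u151) p2r152

theorem p2r153 : allRange pointOk 20 11131 21 = true := by decide +kernel
theorem p2u153 : ∀ k, 7918 ≤ k → k < 11152 → pointOk (k * 20) = true := between_extend pointOk 20 7918 11131 21 (p2u152) p2r153

theorem p2r154 : allRange pointOk 20 11152 21 = true := by decide +kernel
theorem p2u154 : ∀ k, 7918 ≤ k → k < 11173 → pointOk (k * 20) = true := between_extend pointOk 20 7918 11152 21 (p2u153) p2r154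

theorem p2r155 : allRange pointOk 20 11173 21 = true := by decide +kernel
theorem p2u155 : ∀ k, 7918 ≤ k → k < 11194 → pointOk (k * 20) = true := between_extend pointOk 20 7918 11173 21 (p2u154) p2r155

theorem p2r156 : allRange pointOk 20 11194 21 = true := by decide +kernel
theorem p2u156 : ∀ k, 7918 ≤ k → k < 11215 → pointOk (k * 20) = true := between_extend pointOk 20 7918 11194 21 (p2u155) p2r156

theorem p2r157 : allRange pointOk 20 11215 21 = true := by decide +kernel
theorem p2u157 : ∀ k, 7918 ≤ k → k < 11236 → pointOk (k * 20) = true := between_extend pointOk 20 7918 11215 21 (p2u156) p2r157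

theorem p2r158 : allRange pointOk 20 11236 21 = true := by decide +kernel
theorem p2u158 : ∀ k, 7918 ≤ k → k < 11257 → pointOk (k * 20) = true := between_extend pointOk 20 7918 11236 21 (p2u157) p2r158

theorem p2r159 : allRange pointOk 20 11257 21 = true := by decide +kernel
theorem p2u159 : ∀ k, 7918 ≤ k → k < 11278 → pointOk (k * 20) = true := between_extend pointOk 20 7918 11257 21 (p2u158) p2r159

theorem p2r160 : allRange pointOk 20 11278 21 = true := by decide +kernel
theorem p2u160 : ∀ k, 7918 ≤ k → k < 11299 → pointOk (k * 20) = true := between_extend pointOk 20 7918 11278 21 (p2u159) p2r160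

theorem p2r161 : allRange pointOk 20 11299 21 = true := by decide +kernel
theorem p2u161 : ∀ k, 7918 ≤ k → k < 11320 → pointOk (k * 20) = true := between_extend pointOk 20 7918 11299 21 (p2u160) p2r161

theorem p2r162 : allRange pointOk 20 11320 21 = true := by decide +kernel
theorem p2u162 : ∀ k, 7918 ≤ k → k < 11341 → pointOk (k * 20) = true := between_extend pointOk 20 7918 11320 21 (p2u161) p2r162

theorem p2r163 : allRange pointOk 20 11341 21 = true := by decide +kernel
theorem p2u163 : ∀ k, 7918 ≤ k → k < 11362 → pointOk (k * 20) = true := between_extend pointOk 20 7918 11341 21 (p2u162) p2r163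

theorem p2r164 : allRange pointOk 20 11362 21 = true := by decide +kernel
theorem p2u164 : ∀ k, 7918 ≤ k → k < 11383 → pointOk (k * 20) = true := between_extend pointOk 20 7918 11362 21 (p2u163) p2r164

theorem p2r165 : allRange pointOk 20 11383 21 = true := by decide +kernel
theorem p2u165 : ∀ k, 7918 ≤ k → k < 11404 → pointOk (k * 20) = true := between_extend pointOk 20 7918 11383 21 (p2u164) p2r165

theorem p2r166 : allRange pointOk 20 11404 21 = true := by decide +kernel
theorem p2u166 : ∀ k, 7918 ≤ k → k < 11425 → pointOk (k * 20) = true := between_extend pointOk 20 7918 11404 21 (p2u165) p2r166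

theorem p2r167 : allRange pointOk 20 11425 21 = true := by decide +kernel
theorem p2u167 : ∀ k, 7918 ≤ k → k < 11446 → pointOk (k * 20) = true := between_extend pointOk 20 7918 11425 21 (p2u166) p2r167

theorem p2r168 : allRange pointOk 20 11446 21 = true := by decide +kernel
theorem p2u168 : ∀ k, 7918 ≤ k → k < 11467 → pointOk (k * 20) = true := between_extend pointOk 20 7918 11446 21 (p2u167) p2r168

theorem p2r169 : allRange pointOk 20 11467 21 = true := by decide +kernel
theorem p2u169 : ∀ k, 7918 ≤ k → k < 11488 → pointOk (k * 20) = true := between_extend pointOk 20 7918 11467 21 (p2u168) p2r169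

theorem p2r170 : allRange pointOk 20 11488 21 = true := by decide +kernel
theorem p2u170 : ∀ k, 7918 ≤ k → k < 11509 → pointOk (k * 20) = true := between_extend pointOk 20 7918 11488 21 (p2u169) p2r170

theorem p2r171 : allRange pointOk 20 11509 21 = true := by decide +kernel
theorem p2u171 : ∀ k, 7918 ≤ k → k < 11530 → pointOk (k * 20) = true := between_extend pointOk 20 7918 11509 21 (p2u170) p2r171

theorem p2r172 : allRange pointOk 20 11530 21 = true := by decide +kernel
theorem p2u172 : ∀ k, 7918 ≤ k → k < 11551 → pointOk (k * 20) = true := between_extend pointOk 20 7918 11530 21 (p2u171) p2r172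

theorem p2r173 : allRange pointOk 20 11551 21 = true := by decide +kernel
theorem p2u173 : ∀ k, 7918 ≤ k → k < 11572 → pointOk (k * 20) = true := between_extend pointOk 20 7918 11551 21 (p2u172) p2r173

theorem p2r174 : allRange pointOk 20 11572 21 = true := by decide +kernel
theorem p2u174 : ∀ k, 7918 ≤ k → k < 11593 → pointOk (k * 20) = true := between_extend pointOk 20 7918 11572 21 (p2u173) p2r174

theorem p2r175 : allRange pointOk 20 11593 21 = true := by decide +kernel
theorem p2u175 : ∀ k, 7918 ≤ k → k < 11614 → pointOk (k * 20) = true := between_extend pointOk 20 7918 11593 21 (p2u174) p2r175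

theorem p2r176 : allRange pointOk 20 11614 21 = true := by decide +kernel
theorem p2u176 : ∀ k, 7918 ≤ k → k < 11635 → pointOk (k * 20) = true := between_extend pointOk 20 7918 11614 21 (p2u175) p2r176

theorem p2r177 : allRange pointOk 20 11635 21 = true := by decide +kernel
theorem p2u177 : ∀ k, 7918 ≤ k → k < 11656 → pointOk (k * 20) = true := between_extend pointOk 20 7918 11635 21 (p2u176) p2r177

theorem p2r178 : allRange pointOk 20 11656 21 = true := by decide +kernel
theorem p2u178 : ∀ k, 7918 ≤ k → k < 11677 → pointOk (k * 20) = true := between_extend pointOk 20 7918 11656 21 (p2u177) p2r178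

theorem p2r179 : allRange pointOk 20 11677 21 = true := by decide +kernel
theorem p2u179 : ∀ k, 7918 ≤ k → k < 11698 → pointOk (k * 20) = true := between_extend pointOk 20 7918 11677 21 (p2u178) p2r179

theorem p2r180 : allRange pointOk 20 11698 21 = true := by decide +kernel
theorem p2u180 : ∀ k, 7918 ≤ k → k < 11719 → pointOk (k * 20) = true := between_extend pointOk 20 7918 11698 21 (p2u179) p2r180

theorem p2r181 : allRange pointOk 20 11719 21 = true := by decide +kernel
theorem p2u181 : ∀ k, 7918 ≤ k → k < 11740 → pointOk (k * 20) = true := between_extend pointOk 20 7918 11719 21 (p2u180) p2r181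

theorem p2r182 : allRange pointOk 20 11740 21 = true := by decide +kernel
theorem p2u182 : ∀ k, 7918 ≤ k → k < 11761 → pointOk (k * 20) = true := between_extend pointOk 20 7918 11740 21 (p2u181) p2r182

theorem p2r183 : allRange pointOk 20 11761 21 = true := by decide +kernel
theorem p2u183 : ∀ k, 7918 ≤ k → k < 11782 → pointOk (k * 20) = true := between_extend pointOk 20 7918 11761 21 (p2u182) p2r183

theorem p2r184 : allRange pointOk 20 11782 21 = true := by decide +kernel
theorem p2u184 : ∀ k, 7918 ≤ k → k < 11803 → pointOk (k * 20) = true := between_extend pointOk 20 7918 11782 21 (p2u183) p2r184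

theorem p2r185 : allRange pointOk 20 11803 21 = true := by decide +kernel
theorem p2u185 : ∀ k, 7918 ≤ k → k < 11824 → pointOk (k * 20) = true := between_extend pointOk 20 7918 11803 21 (p2u184) p2r185

theorem p2r186 : allRange pointOk 20 11824 21 = true := by decide +kernel
theorem p2u186 : ∀ k, 7918 ≤ k → k < 11845 → pointOk (k * 20) = true := between_extend pointOk 20 7918 11824 21 (p2u185) p2r186

theorem p2r187 : allRange pointOk 20 11845 21 = true := by decide +kernel
theorem p2u187 : ∀ k, 7918 ≤ k → k < 11866 → pointOk (k * 20) = true := between_extend pointOk 20 7918 11845 21 (p2u186) p2r187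

theorem p2r188 : allRange pointOk 20 11866 11 = true := by decide +kernel
theorem p2u188 : ∀ k, 7918 ≤ k → k < 11877 → pointOk (k * 20) = true := between_extend pointOk 20 7918 11866 11 (p2u187) p2r188

theorem p2 : ∀ k, 7918 ≤ k → k < 11877 → pointOk (k * 20) = true := p2u188

end Cfsg.Agent.Lib.Helper28_S1689
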