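import Cfsg.Agent.Lib.Helper28_S1689Def

set_option autoImplicit false
set_option linter.constructorNameAsVariable false
set_option Elab.async false

namespace Cfsg.Agent.Lib.Helper28_S1689

open Cfsg.Agent.Lib.Helper28_CosetPerm

theorem p3r0 : allRange pointOk 20 11877 21 = true := by decide +kernel
theorem p3u0 : ∀ k, 11877 ≤ k → k < 11898 → pointOk (k * 20) = true := between_extend pointOk 20 11877 11877 21 (between_start pointOk 20 11877) p3r0

theorem p3r1 : allRange pointOk 20 11898 21 = true := by decide +kernel
theorem p3u1 : ∀ k, 11877 ≤ k → k < 11919 → pointOk (k * 20) = true := between_extend pointOk 20 11877 11898 21 (p3u0) p3r1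

theorem p3r2 : allRange pointOk 20 11919 21 = true := by decide +kernel
theorem p3u2 : ∀ k, 11877 ≤ k → k < 11940 → pointOk (k * 20) = true := between_extend pointOk 20 11877 11919 21 (p3u1) p3r2

theorem p3r3 : allRange pointOk 20 11940 21 = true := by decide +kernel
theorem p3u3 : ∀ k, 11877 ≤ k → k < 11961 → pointOk (k * 20) = true := between_extend pointOk 20 11877 11940 21 (p3u2) p3r3

theorem p3r4 : allRange pointOk 20 11961 21 = true := by decide +kernel
theorem p3u4 : ∀ k, 11877 ≤ k → k < 11982 → pointOk (k * 20) = true := between_extend pointOk 20 11877 11961 21 (p3u3) p3r4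

theorem p3r5 : allRange pointOk 20 11982 21 = true := by decide +kernel
theorem p3u5 : ∀ k, 11877 ≤ k → k < 12003 → pointOk (k * 20) = true := between_extend pointOk 20 11877 11982 21 (p3u4) p3r5

theorem p3r6 : allRange pointOk 20 12003 21 = true := by decide +kernel
theorem p3u6 : ∀ k, 11877 ≤ k → k < 12024 → pointOk (k * 20) = true := between_extend pointOk 20 11877 12003 21 (p3u5) p3r6

theorem p3r7 : allRange pointOk 20 12024 21 = true := by decide +kernel
theorem p3u7 : ∀ k, 11877 ≤ k → k < 12045 → pointOk (k * 20) = true := between_extend pointOk 20 11877 12024 21 (p3u6) p3r7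

theorem p3r8 : allRange pointOk 20 12045 21 = true := by decide +kernel
theorem p3u8 : ∀ k, 11877 ≤ k → k < 12066 → pointOk (k * 20) = true := between_extend pointOk 20 11877 12045 21 (p3u7) p3r8

theorem p3r9 : allRange pointOk 20 12066 21 = true := by decide +kernel
theorem p3u9 : ∀ k, 11877 ≤ k → k < 12087 → pointOk (k * 20) = true := between_extend pointOk 20 11877 12066 21 (p3u8) p3r9

theorem p3r10 : allRange pointOk 20 12087 21 = true := by decide +kernel
theorem p3u10 : ∀ k, 11877 ≤ k → k < 12108 → pointOk (k * 20) = true := between_extend pointOk 20 11877 12087 21 (p3u9) p3r10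

theorem p3r11 : allRange pointOk 20 12108 21 = true := by decide +kernel
theorem p3u11 : ∀ k, 11877 ≤ k → k < 12129 → pointOk (k * 20) = true := between_extend pointOk 20 11877 12108 21 (p3u10) p3r11

theorem p3r12 : allRange pointOk 20 12129 21 = true := by decide +kernel
theorem p3u12 : ∀ k, 11877 ≤ k → k < 12150 → pointOk (k * 20) = true := between_extend pointOk 20 11877 12129 21 (p3u11) p3r12

theorem p3r13 : allRange pointOk 20 12150 21 = true := by decide +kernel
theorem p3u13 : ∀ k, 11877 ≤ k → k < 12171 → pointOk (k * 20) = true := between_extend pointOk 20 11877 12150 21 (p3u12) p3r13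

theorem p3r14 : allRange pointOk 20 12171 21 = true := by decide +kernel
theorem p3u14 : ∀ k, 11877 ≤ k → k < 12192 → pointOk (k * 20) = true := between_extend pointOk 20 11877 12171 21 (p3u13) p3r14

theorem p3r15 : allRange pointOk 20 12192 21 = true := by decide +kernel
theorem p3u15 : ∀ k, 11877 ≤ k → k < 12213 → pointOk (k * 20) = true := between_extend pointOk 20 11877 12192 21 (p3u14) p3r15

theorem p3r16 : allRange pointOk 20 12213 21 = true := by decide +kernel
theorem p3u16 : ∀ k, 11877 ≤ k → k < 12234 → pointOk (k * 20) = true := between_extend pointOk 20 11877 12213 21 (p3u15) p3r16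

theorem p3r17 : allRange pointOk 20 12234 21 = true := by decide +kernel
theorem p3u17 : ∀ k, 11877 ≤ k → k < 12255 → pointOk (k * 20) = true := between_extend pointOk 20 11877 12234 21 (p3u16) p3r17

theorem p3r18 : allRange pointOk 20 12255 21 = true := by decide +kernel
theorem p3u18 : ∀ k, 11877 ≤ k → k < 12276 → pointOk (k * 20) = true := between_extend pointOk 20 11877 12255 21 (p3u17) p3r18

theorem p3r19 : allRange pointOk 20 12276 21 = true := by decide +kernel
theorem p3u19 : ∀ k, 11877 ≤ k → k < 12297 → pointOk (k * 20) = true := between_extend pointOk 20 11877 12276 21 (p3u18) p3r19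

theorem p3r20 : allRange pointOk 20 12297 21 = true := by decide +kernel
theorem p3u20 : ∀ k, 11877 ≤ k → k < 12318 → pointOk (k * 20) = true := between_extend pointOk 20 11877 12297 21 (p3u19) p3r20

theorem p3r21 : allRange pointOk 20 12318 21 = true := by decide +kernel
theorem p3u21 : ∀ k, 11877 ≤ k → k < 12339 → pointOk (k * 20) = true := between_extend pointOk 20 11877 12318 21 (p3u20) p3r21

theorem p3r22 : allRange pointOk 20 12339 21 = true := by decide +kernel
theorem p3u22 : ∀ k, 11877 ≤ k → k < 12360 → pointOk (k * 20) = true := between_extend pointOk 20 11877 12339 21 (p3u21) p3r22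

theorem p3r23 : allRange pointOk 20 12360 21 = true := by decide +kernel
theorem p3u23 : ∀ k, 11877 ≤ k → k < 12381 → pointOk (k * 20) = true := between_extend pointOk 20 11877 12360 21 (p3u22) p3r23

theorem p3r24 : allRange pointOk 20 12381 21 = true := by decide +kernel
theorem p3u24 : ∀ k, 11877 ≤ k → k < 12402 → pointOk (k * 20) = true := between_extend pointOk 20 11877 12381 21 (p3u23) p3r24

theorem p3r25 : allRange pointOk 20 12402 21 = true := by decide +kernel
theorem p3u25 : ∀ k, 11877 ≤ k → k < 12423 → pointOk (k * 20) = true := between_extend pointOk 20 11877 12402 21 (p3u24) p3r25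

theorem p3r26 : allRange pointOk 20 12423 21 = true := by decide +kernel
theorem p3u26 : ∀ k, 11877 ≤ k → k < 12444 → pointOk (k * 20) = true := between_extend pointOk 20 11877 12423 21 (p3u25) p3r26

theorem p3r27 : allRange pointOk 20 12444 21 = true := by decide +kernel
theorem p3u27 : ∀ k, 11877 ≤ k → k < 12465 → pointOk (k * 20) = true := between_extend pointOk 20 11877 12444 21 (p3u26) p3r27

theorem p3r28 : allRange pointOk 20 12465 21 = true := by decide +kernel
theorem p3u28 : ∀ k, 11877 ≤ k → k < 12486 → pointOk (k * 20) = true := between_extend pointOk 20 11877 12465 21 (p3u27) p3r28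

theorem p3r29 : allRange pointOk 20 12486 21 = true := by decide +kernel
theorem p3u29 : ∀ k, 11877 ≤ k → k < 12507 → pointOk (k * 20) = true := between_extend pointOk 20 11877 12486 21 (p3u28) p3r29

theorem p3r30 : allRange pointOk 20 12507 21 = true := by decide +kernel
theorem p3u30 : ∀ k, 11877 ≤ k → k < 12528 → pointOk (k * 20) = true := between_extend pointOk 20 11877 12507 21 (p3u29) p3r30

theorem p3r31 : allRange pointOk 20 12528 21 = true := by decide +kernel
theorem p3u31 : ∀ k, 11877 ≤ k → k < 12549 → pointOk (k * 20) = true := between_extend pointOk 20 11877 12528 21 (p3u30) p3r31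

theorem p3r32 : allRange pointOk 20 12549 21 = true := by decide +kernel
theorem p3u32 : ∀ k, 11877 ≤ k → k < 12570 → pointOk (k * 20) = true := between_extend pointOk 20 11877 12549 21 (p3u31) p3r32

theorem p3r33 : allRange pointOk 20 12570 21 = true := by decide +kernel
theorem p3u33 : ∀ k, 11877 ≤ k → k < 12591 → pointOk (k * 20) = true := between_extend pointOk 20 11877 12570 21 (p3u32) p3r33

theorem p3r34 : allRange pointOk 20 12591 21 = true := by decide +kernel
theorem p3u34 : ∀ k, 11877 ≤ k → k < 12612 → pointOk (k * 20) = true := between_extend pointOk 20 11877 12591 21 (p3u33) p3r34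

theorem p3r35 : allRange pointOk 20 12612 21 = true := by decide +kernel
theorem p3u35 : ∀ k, 11877 ≤ k → k < 12633 → pointOk (k * 20) = true := between_extend pointOk 20 11877 12612 21 (p3u34) p3r35

theorem p3r36 : allRange pointOk 20 12633 21 = true := by decide +kernel
theorem p3u36 : ∀ k, 11877 ≤ k → k < 12654 → pointOk (k * 20) = true := between_extend pointOk 20 11877 12633 21 (p3u35) p3r36

theorem p3r37 : allRange pointOk 20 12654 21 = true := by decide +kernel
theorem p3u37 : ∀ k, 11877 ≤ k → k < 12675 → pointOk (k * 20) = true := between_extend pointOk 20 11877 12654 21 (p3u36) p3r37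

theorem p3r38 : allRange pointOk 20 12675 21 = true := by decide +kernel
theorem p3u38 : ∀ k, 11877 ≤ k → k < 12696 → pointOk (k * 20) = true := between_extend pointOk 20 11877 12675 21 (p3u37) p3r38

theorem p3r39 : allRange pointOk 20 12696 21 = true := by decide +kernel
theorem p3u39 : ∀ k, 11877 ≤ k → k < 12717 → pointOk (k * 20) = true := between_extend pointOk 20 11877 12696 21 (p3u38) p3r39

theorem p3r40 : allRange pointOk 20 12717 21 = true := by decide +kernel
theorem p3u40 : ∀ k, 11877 ≤ k → k < 12738 → pointOk (k * 20) = true := between_extend pointOk 20 11877 12717 21 (p3u39) p3r40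

theorem p3r41 : allRange pointOk 20 12738 21 = true := by decide +kernel
theorem p3u41 : ∀ k, 11877 ≤ k → k < 12759 → pointOk (k * 20) = true := between_extend pointOk 20 11877 12738 21 (p3u40) p3r41

theorem p3r42 : allRange pointOk 20 12759 21 = true := by decide +kernel
theorem p3u42 : ∀ k, 11877 ≤ k → k < 12780 → pointOk (k * 20) = true := between_extend pointOk 20 11877 12759 21 (p3u41) p3r42

theorem p3r43 : allRange pointOk 20 12780 21 = true := by decide +kernel
theorem p3u43 : ∀ k, 11877 ≤ k → k < 12801 → pointOk (k * 20) = true := between_extend pointOk 20 11877 12780 21 (p3u42) p3r43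

theorem p3r44 : allRange pointOk 20 12801 21 = true := by decide +kernel
theorem p3u44 : ∀ k, 11877 ≤ k → k < 12822 → pointOk (k * 20) = true := between_extend pointOk 20 11877 12801 21 (p3u43) p3r44

theorem p3r45 : allRange pointOk 20 12822 21 = true := by decide +kernel
theorem p3u45 : ∀ k, 11877 ≤ k → k < 12843 → pointOk (k * 20) = true := between_extend pointOk 20 11877 12822 21 (p3u44) p3r45

theorem p3r46 : allRange pointOk 20 12843 21 = true := by decide +kernel
theorem p3u46 : ∀ k, 11877 ≤ k → k < 12864 → pointOk (k * 20) = true := between_extend pointOk 20 11877 12843 21 (p3u45) p3r46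

theorem p3r47 : allRange pointOk 20 12864 21 = true := by decide +kernel
theorem p3u47 : ∀ k, 11877 ≤ k → k < 12885 → pointOk (k * 20) = true := between_extend pointOk 20 11877 12864 21 (p3u46) p3r47

theorem p3r48 : allRange pointOk 20 12885 21 = true := by decide +kernel
theorem p3u48 : ∀ k, 11877 ≤ k → k < 12906 → pointOk (k * 20) = true := between_extend pointOk 20 11877 12885 21 (p3u47) p3r48

theorem p3r49 : allRange pointOk 20 12906 21 = true := by decide +kernel
theorem p3u49 : ∀ k, 11877 ≤ k → k < 12927 → pointOk (k * 20) = true := between_extend pointOk 20 11877 12906 21 (p3u48) p3r49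

theorem p3r50 : allRange pointOk 20 12927 21 = true := by decide +kernel
theorem p3u50 : ∀ k, 11877 ≤ k → k < 12948 → pointOk (k * 20) = true := between_extend pointOk 20 11877 12927 21 (p3u49) p3r50

theorem p3r51 : allRange pointOk 20 12948 21 = true := by decide +kernel
theorem p3u51 : ∀ k, 11877 ≤ k → k < 12969 → pointOk (k * 20) = true := between_extend pointOk 20 11877 12948 21 (p3u50) p3r51

theorem p3r52 : allRange pointOk 20 12969 21 = true := by decide +kernel
theorem p3u52 : ∀ k, 11877 ≤ k → k < 12990 → pointOk (k * 20) = true := between_extend pointOk 20 11877 12969 21 (p3u51) p3r52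

theorem p3r53 : allRange pointOk 20 12990 21 = true := by decide +kernel
theorem p3u53 : ∀ k, 11877 ≤ k → k < 13011 → pointOk (k * 20) = true := between_extend pointOk 20 11877 12990 21 (p3u52) p3r53

theorem p3r54 : allRange pointOk 20 13011 21 = true := by decide +kernel
theorem p3u54 : ∀ k, 11877 ≤ k → k < 13032 → pointOk (k * 20) = true := between_extend pointOk 20 11877 13011 21 (p3u53) p3r54

theorem p3r55 : allRange pointOk 20 13032 21 = true := by decide +kernel
theorem p3u55 : ∀ k, 11877 ≤ k → k < 13053 → pointOk (k * 20) = true := between_extend pointOk 20 11877 13032 21 (p3u54) p3r55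

theorem p3r56 : allRange pointOk 20 13053 21 = true := by decide +kernel
theorem p3u56 : ∀ k, 11877 ≤ k → k < 13074 → pointOk (k * 20) = true := between_extend pointOk 20 11877 13053 21 (p3u55) p3r56

theorem p3r57 : allRange pointOk 20 13074 21 = true := by decide +kernel
theorem p3u57 : ∀ k, 11877 ≤ k → k < 13095 → pointOk (k * 20) = true := between_extend pointOk 20 11877 13074 21 (p3u56) p3r57

theorem p3r58 : allRange pointOk 20 13095 21 = true := by decide +kernel
theorem p3u58 : ∀ k, 11877 ≤ k → k < 13116 → pointOk (k * 20) = true := between_extend pointOk 20 11877 13095 21 (p3u57) p3r58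

theorem p3r59 : allRange pointOk 20 13116 21 = true := by decide +kernel
theorem p3u59 : ∀ k, 11877 ≤ k → k < 13137 → pointOk (k * 20) = true := between_extend pointOk 20 11877 13116 21 (p3u58) p3r59

theorem p3r60 : allRange pointOk 20 13137 21 = true := by decide +kernel
theorem p3u60 : ∀ k, 11877 ≤ k → k < 13158 → pointOk (k * 20) = true := between_extend pointOk 20 11877 13137 21 (p3u59) p3r60

theorem p3r61 : allRange pointOk 20 13158 21 = true := by decide +kernel
theorem p3u61 : ∀ k, 11877 ≤ k → k < 13179 → pointOk (k * 20) = true := between_extend pointOk 20 11877 13158 21 (p3u60) p3r61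

theorem p3r62 : allRange pointOk 20 13179 21 = true := by decide +kernel
theorem p3u62 : ∀ k, 11877 ≤ k → k < 13200 → pointOk (k * 20) = true := between_extend pointOk 20 11877 13179 21 (p3u61) p3r62

theorem p3r63 : allRange pointOk 20 13200 21 = true := by decide +kernel
theorem p3u63 : ∀ k, 11877 ≤ k → k < 13221 → pointOk (k * 20) = true := between_extend pointOk 20 11877 13200 21 (p3u62) p3r63

theorem p3r64 : allRange pointOk 20 13221 21 = true := by decide +kernel
theorem p3u64 : ∀ k, 11877 ≤ k → k < 13242 → pointOk (k * 20) = true := between_extend pointOk 20 11877 13221 21 (p3u63) p3r64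

theorem p3r65 : allRange pointOk 20 13242 21 = true := by decide +kernel
theorem p3u65 : ∀ k, 11877 ≤ k → k < 13263 → pointOk (k * 20) = true := between_extend pointOk 20 11877 13242 21 (p3u64) p3r65

theorem p3r66 : allRange pointOk 20 13263 21 = true := by decide +kernel
theorem p3u66 : ∀ k, 11877 ≤ k → k < 13284 → pointOk (k * 20) = true := between_extend pointOk 20 11877 13263 21 (p3u65) p3r66

theorem p3r67 : allRange pointOk 20 13284 21 = true := by decide +kernel
theorem p3u67 : ∀ k, 11877 ≤ k → k < 13305 → pointOk (k * 20) = true := between_extend pointOk 20 11877 13284 21 (p3u66) p3r67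

theorem p3r68 : allRange pointOk 20 13305 21 = true := by decide +kernel
theorem p3u68 : ∀ k, 11877 ≤ k → k < 13326 → pointOk (k * 20) = true := between_extend pointOk 20 11877 13305 21 (p3u67) p3r68

theorem p3r69 : allRange pointOk 20 13326 21 = true := by decide +kernel
theorem p3u69 : ∀ k, 11877 ≤ k → k < 13347 → pointOk (k * 20) = true := between_extend pointOk 20 11877 13326 21 (p3u68) p3r69

theorem p3r70 : allRange pointOk 20 13347 21 = true := by decide +kernel
theorem p3u70 : ∀ k, 11877 ≤ k → k < 13368 → pointOk (k * 20) = true := between_extend pointOk 20 11877 13347 21 (p3u69) p3r70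

theorem p3r71 : allRange pointOk 20 13368 21 = true := by decide +kernel
theorem p3u71 : ∀ k, 11877 ≤ k → k < 13389 → pointOk (k * 20) = true := between_extend pointOk 20 11877 13368 21 (p3u70) p3r71

theorem p3r72 : allRange pointOk 20 13389 21 = true := by decide +kernel
theorem p3u72 : ∀ k, 11877 ≤ k → k < 13410 → pointOk (k * 20) = true := between_extend pointOk 20 11877 13389 21 (p3u71) p3r72

theorem p3r73 : allRange pointOk 20 13410 21 = true := by decide +kernel
theorem p3u73 : ∀ k, 11877 ≤ k → k < 13431 → pointOk (k * 20) = true := between_extend pointOk 20 11877 13410 21 (p3u72) p3r73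

theorem p3r74 : allRange pointOk 20 13431 21 = true := by decide +kernel
theorem p3u74 : ∀ k, 11877 ≤ k → k < 13452 → pointOk (k * 20) = true := between_extend pointOk 20 11877 13431 21 (p3u73) p3r74

theorem p3r75 : allRange pointOk 20 13452 21 = true := by decide +kernel
theorem p3u75 : ∀ k, 11877 ≤ k → k < 13473 → pointOk (k * 20) = true := between_extend pointOk 20 11877 13452 21 (p3u74) p3r75

theorem p3r76 : allRange pointOk 20 13473 21 = true := by decide +kernel
theorem p3u76 : ∀ k, 11877 ≤ k → k < 13494 → pointOk (k * 20) = true := between_extend pointOk 20 11877 13473 21 (p3u75) p3r76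

theorem p3r77 : allRange pointOk 20 13494 21 = true := by decide +kernel
theorem p3u77 : ∀ k, 11877 ≤ k → k < 13515 → pointOk (k * 20) = true := between_extend pointOk 20 11877 13494 21 (p3u76) p3r77

theorem p3r78 : allRange pointOk 20 13515 21 = true := by decide +kernel
theorem p3u78 : ∀ k, 11877 ≤ k → k < 13536 → pointOk (k * 20) = true := between_extend pointOk 20 11877 13515 21 (p3u77) p3r78

theorem p3r79 : allRange pointOk 20 13536 21 = true := by decide +kernel
theorem p3u79 : ∀ k, 11877 ≤ k → k < 13557 → pointOk (k * 20) = true := between_extend pointOk 20 11877 13536 21 (p3u78) p3r79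

theorem p3r80 : allRange pointOk 20 13557 21 = true := by decide +kernel
theorem p3u80 : ∀ k, 11877 ≤ k → k < 13578 → pointOk (k * 20) = true := between_extend pointOk 20 11877 13557 21 (p3u79) p3r80

theorem p3r81 : allRange pointOk 20 13578 21 = true := by decide +kernel
theorem p3u81 : ∀ k, 11877 ≤ k → k < 13599 → pointOk (k * 20) = true := between_extend pointOk 20 11877 13578 21 (p3u80) p3r81

theorem p3r82 : allRange pointOk 20 13599 21 = true := by decide +kernel
theorem p3u82 : ∀ k, 11877 ≤ k → k < 13620 → pointOk (k * 20) = true := between_extend pointOk 20 11877 13599 21 (p3u81) p3r82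

theorem p3r83 : allRange pointOk 20 13620 21 = true := by decide +kernel
theorem p3u83 : ∀ k, 11877 ≤ k → k < 13641 → pointOk (k * 20) = true := between_extend pointOk 20 11877 13620 21 (p3u82) p3r83

theorem p3r84 : allRange pointOk 20 13641 21 = true := by decide +kernel
theorem p3u84 : ∀ k, 11877 ≤ k → k < 13662 → pointOk (k * 20) = true := between_extend pointOk 20 11877 13641 21 (p3u83) p3r84

theorem p3r85 : allRange pointOk 20 13662 21 = true := by decide +kernel
theorem p3u85 : ∀ k, 11877 ≤ k → k < 13683 → pointOk (k * 20) = true := between_extend pointOk 20 11877 13662 21 (p3u84) p3r85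

theorem p3r86 : allRange pointOk 20 13683 21 = true := by decide +kernel
theorem p3u86 : ∀ k, 11877 ≤ k → k < 13704 → pointOk (k * 20) = true := between_extend pointOk 20 11877 13683 21 (p3u85) p3r86

theorem p3r87 : allRange pointOk 20 13704 21 = true := by decide +kernel
theorem p3u87 : ∀ k, 11877 ≤ k → k < 13725 → pointOk (k * 20) = true := between_extend pointOk 20 11877 13704 21 (p3u86) p3r87

theorem p3r88 : allRange pointOk 20 13725 21 = true := by decide +kernel
theorem p3u88 : ∀ k, 11877 ≤ k → k < 13746 → pointOk (k * 20) = true := between_extend pointOk 20 11877 13725 21 (p3u87) p3r88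

theorem p3r89 : allRange pointOk 20 13746 21 = true := by decide +kernel
theorem p3u89 : ∀ k, 11877 ≤ k → k < 13767 → pointOk (k * 20) = true := between_extend pointOk 20 11877 13746 21 (p3u88) p3r89

theorem p3r90 : allRange pointOk 20 13767 21 = true := by decide +kernel
theorem p3u90 : ∀ k, 11877 ≤ k → k < 13788 → pointOk (k * 20) = true := between_extend pointOk 20 11877 13767 21 (p3u89) p3r90

theorem p3r91 : allRange pointOk 20 13788 21 = true := by decide +kernel
theorem p3u91 : ∀ k, 11877 ≤ k → k < 13809 → pointOk (k * 20) = true := between_extend pointOk 20 11877 13788 21 (p3u90) p3r91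

theorem p3r92 : allRange pointOk 20 13809 21 = true := by decide +kernel
theorem p3u92 : ∀ k, 11877 ≤ k → k < 13830 → pointOk (k * 20) = true := between_extend pointOk 20 11877 13809 21 (p3u91) p3r92

theorem p3r93 : allRange pointOk 20 13830 21 = true := by decide +kernel
theorem p3u93 : ∀ k, 11877 ≤ k → k < 13851 → pointOk (k * 20) = true := between_extend pointOk 20 11877 13830 21 (p3u92) p3r93

theorem p3r94 : allRange pointOk 20 13851 21 = true := by decide +kernel
theorem p3u94 : ∀ k, 11877 ≤ k → k < 13872 → pointOk (k * 20) = true := between_extend pointOk 20 11877 13851 21 (p3u93) p3r94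

theorem p3r95 : allRange pointOk 20 13872 21 = true := by decide +kernel
theorem p3u95 : ∀ k, 11877 ≤ k → k < 13893 → pointOk (k * 20) = true := between_extend pointOk 20 11877 13872 21 (p3u94) p3r95

theorem p3r96 : allRange pointOk 20 13893 21 = true := by decide +kernel
theorem p3u96 : ∀ k, 11877 ≤ k → k < 13914 → pointOk (k * 20) = true := between_extend pointOk 20 11877 13893 21 (p3u95) p3r96

theorem p3r97 : allRange pointOk 20 13914 21 = true := by decide +kernel
theorem p3u97 : ∀ k, 11877 ≤ k → k < 13935 → pointOk (k * 20) = true := between_extend pointOk 20 11877 13914 21 (p3u96) p3r97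

theorem p3r98 : allRange pointOk 20 13935 21 = true := by decide +kernel
theorem p3u98 : ∀ k, 11877 ≤ k → k < 13956 → pointOk (k * 20) = true := between_extend pointOk 20 11877 13935 21 (p3u97) p3r98

theorem p3r99 : allRange pointOk 20 13956 21 = true := by decide +kernel
theorem p3u99 : ∀ k, 11877 ≤ k → k < 13977 → pointOk (k * 20) = true := between_extend pointOk 20 11877 13956 21 (p3u98) p3r99

theorem p3r100 : allRange pointOk 20 13977 21 = true := by decide +kernel
theorem p3u100 : ∀ k, 11877 ≤ k → k < 13998 → pointOk (k * 20) = true := between_extend pointOk 20 11877 13977 21 (p3u99) p3r100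

theorem p3r101 : allRange pointOk 20 13998 21 = true := by decide +kernel
theorem p3u101 : ∀ k, 11877 ≤ k → k < 14019 → pointOk (k * 20) = true := between_extend pointOk 20 11877 13998 21 (p3u100) p3r101

theorem p3r102 : allRange pointOk 20 14019 21 = true := by decide +kernel
theorem p3u102 : ∀ k, 11877 ≤ k → k < 14040 → pointOk (k * 20) = true := between_extend pointOk 20 11877 14019 21 (p3u101) p3r102

theorem p3r103 : allRange pointOk 20 14040 21 = true := by decide +kernel
theorem p3u103 : ∀ k, 11877 ≤ k → k < 14061 → pointOk (k * 20) = true := between_extend pointOk 20 11877 14040 21 (p3u102) p3r103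

theorem p3r104 : allRange pointOk 20 14061 21 = true := by decide +kernel
theorem p3u104 : ∀ k, 11877 ≤ k → k < 14082 → pointOk (k * 20) = true := between_extend pointOk 20 11877 14061 21 (p3u103) p3r104

theorem p3r105 : allRange pointOk 20 14082 21 = true := by decide +kernel
theorem p3u105 : ∀ k, 11877 ≤ k → k < 14103 → pointOk (k * 20) = true := between_extend pointOk 20 11877 14082 21 (p3u104) p3r105

theorem p3r106 : allRange pointOk 20 14103 21 = true := by decide +kernel
theorem p3u106 : ∀ k, 11877 ≤ k → k < 14124 → pointOk (k * 20) = true := between_extend pointOk 20 11877 14103 21 (p3u105) p3r106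

theorem p3r107 : allRange pointOk 20 14124 21 = true := by decide +kernel
theorem p3u107 : ∀ k, 11877 ≤ k → k < 14145 → pointOk (k * 20) = true := between_extend pointOk 20 11877 14124 21 (p3u106) p3r107

theorem p3r108 : allRange pointOk 20 14145 21 = true := by decide +kernel
theorem p3u108 : ∀ k, 11877 ≤ k → k < 14166 → pointOk (k * 20) = true := between_extend pointOk 20 11877 14145 21 (p3u107) p3r108

theorem p3r109 : allRange pointOk 20 14166 21 = true := by decide +kernel
theorem p3u109 : ∀ k, 11877 ≤ k → k < 14187 → pointOk (k * 20) = true := between_extend pointOk 20 11877 14166 21 (p3u108) p3r109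

theorem p3r110 : allRange pointOk 20 14187 21 = true := by decide +kernel
theorem p3u110 : ∀ k, 11877 ≤ k → k < 14208 → pointOk (k * 20) = true := between_extend pointOk 20 11877 14187 21 (p3u109) p3r110

theorem p3r111 : allRange pointOk 20 14208 21 = true := by decide +kernel
theorem p3u111 : ∀ k, 11877 ≤ k → k < 14229 → pointOk (k * 20) = true := between_extend pointOk 20 11877 14208 21 (p3u110) p3r111

theorem p3r112 : allRange pointOk 20 14229 21 = true := by decide +kernel
theorem p3u112 : ∀ k, 11877 ≤ k → k < 14250 → pointOk (k * 20) = true := between_extend pointOk 20 11877 14229 21 (p3u111) p3r112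

theorem p3r113 : allRange pointOk 20 14250 21 = true := by decide +kernel
theorem p3u113 : ∀ k, 11877 ≤ k → k < 14271 → pointOk (k * 20) = true := between_extend pointOk 20 11877 14250 21 (p3u112) p3r113

theorem p3r114 : allRange pointOk 20 14271 21 = true := by decide +kernel
theorem p3u114 : ∀ k, 11877 ≤ k → k < 14292 → pointOk (k * 20) = true := between_extend pointOk 20 11877 14271 21 (p3u113) p3r114

theorem p3r115 : allRange pointOk 20 14292 21 = true := by decide +kernel
theorem p3u115 : ∀ k, 11877 ≤ k → k < 14313 → pointOk (k * 20) = true := between_extend pointOk 20 11877 14292 21 (p3u114) p3r115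

theorem p3r116 : allRange pointOk 20 14313 21 = true := by decide +kernel
theorem p3u116 : ∀ k, 11877 ≤ k → k < 14334 → pointOk (k * 20) = true := between_extend pointOk 20 11877 14313 21 (p3u115) p3r116

theorem p3r117 : allRange pointOk 20 14334 21 = true := by decide +kernel
theorem p3u117 : ∀ k, 11877 ≤ k → k < 14355 → pointOk (k * 20) = true := between_extend pointOk 20 11877 14334 21 (p3u116) p3r117

theorem p3r118 : allRange pointOk 20 14355 21 = true := by decide +kernel
theorem p3u118 : ∀ k, 11877 ≤ k → k < 14376 → pointOk (k * 20) = true := between_extend pointOk 20 11877 14355 21 (p3u117) p3r118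

theorem p3r119 : allRange pointOk 20 14376 21 = true := by decide +kernel
theorem p3u119 : ∀ k, 11877 ≤ k → k < 14397 → pointOk (k * 20) = true := between_extend pointOk 20 11877 14376 21 (p3u118) p3r119

theorem p3r120 : allRange pointOk 20 14397 21 = true := by decide +kernel
theorem p3u120 : ∀ k, 11877 ≤ k → k < 14418 → pointOk (k * 20) = true := between_extend pointOk 20 11877 14397 21 (p3u119) p3r120

theorem p3r121 : allRange pointOk 20 14418 21 = true := by decide +kernel
theorem p3u121 : ∀ k, 11877 ≤ k → k < 14439 → pointOk (k * 20) = true := between_extend pointOk 20 11877 14418 21 (p3u120) p3r121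

theorem p3r122 : allRange pointOk 20 14439 21 = true := by decide +kernel
theorem p3u122 : ∀ k, 11877 ≤ k → k < 14460 → pointOk (k * 20) = true := between_extend pointOk 20 11877 14439 21 (p3u121) p3r122

theorem p3r123 : allRange pointOk 20 14460 21 = true := by decide +kernel
theorem p3u123 : ∀ k, 11877 ≤ k → k < 14481 → pointOk (k * 20) = true := between_extend pointOk 20 11877 14460 21 (p3u122) p3r123

theorem p3r124 : allRange pointOk 20 14481 21 = true := by decide +kernel
theorem p3u124 : ∀ k, 11877 ≤ k → k < 14502 → pointOk (k * 20) = true := between_extend pointOk 20 11877 14481 21 (p3u123) p3r124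

theorem p3r125 : allRange pointOk 20 14502 21 = true := by decide +kernel
theorem p3u125 : ∀ k, 11877 ≤ k → k < 14523 → pointOk (k * 20) = true := between_extend pointOk 20 11877 14502 21 (p3u124) p3r125

theorem p3r126 : allRange pointOk 20 14523 21 = true := by decide +kernel
theorem p3u126 : ∀ k, 11877 ≤ k → k < 14544 → pointOk (k * 20) = true := between_extend pointOk 20 11877 14523 21 (p3u125) p3r126

theorem p3r127 : allRange pointOk 20 14544 21 = true := by decide +kernel
theorem p3u127 : ∀ k, 11877 ≤ k → k < 14565 → pointOk (k * 20) = true := between_extend pointOk 20 11877 14544 21 (p3u126) p3r127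

theorem p3r128 : allRange pointOk 20 14565 21 = true := by decide +kernel
theorem p3u128 : ∀ k, 11877 ≤ k → k < 14586 → pointOk (k * 20) = true := between_extend pointOk 20 11877 14565 21 (p3u127) p3r128

theorem p3r129 : allRange pointOk 20 14586 21 = true := by decide +kernel
theorem p3u129 : ∀ k, 11877 ≤ k → k < 14607 → pointOk (k * 20) = true := between_extend pointOk 20 11877 14586 21 (p3u128) p3r129

theorem p3r130 : allRange pointOk 20 14607 21 = true := by decide +kernel
theorem p3u130 : ∀ k, 11877 ≤ k → k < 14628 → pointOk (k * 20) = true := between_extend pointOk 20 11877 14607 21 (p3u129) p3r130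

theorem p3r131 : allRange pointOk 20 14628 21 = true := by decide +kernel
theorem p3u131 : ∀ k, 11877 ≤ k → k < 14649 → pointOk (k * 20) = true := between_extend pointOk 20 11877 14628 21 (p3u130) p3r131

theorem p3r132 : allRange pointOk 20 14649 21 = true := by decide +kernel
theorem p3u132 : ∀ k, 11877 ≤ k → k < 14670 → pointOk (k * 20) = true := between_extend pointOk 20 11877 14649 21 (p3u131) p3r132

theorem p3r133 : allRange pointOk 20 14670 21 = true := by decide +kernel
theorem p3u133 : ∀ k, 11877 ≤ k → k < 14691 → pointOk (k * 20) = true := between_extend pointOk 20 11877 14670 21 (p3u132) p3r133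

theorem p3r134 : allRange pointOk 20 14691 21 = true := by decide +kernel
theorem p3u134 : ∀ k, 11877 ≤ k → k < 14712 → pointOk (k * 20) = true := between_extend pointOk 20 11877 14691 21 (p3u133) p3r134

theorem p3r135 : allRange pointOk 20 14712 21 = true := by decide +kernel
theorem p3u135 : ∀ k, 11877 ≤ k → k < 14733 → pointOk (k * 20) = true := between_extend pointOk 20 11877 14712 21 (p3u134) p3r135

theorem p3r136 : allRange pointOk 20 14733 21 = true := by decide +kernel
theorem p3u136 : ∀ k, 11877 ≤ k → k < 14754 → pointOk (k * 20) = true := between_extend pointOk 20 11877 14733 21 (p3u135) p3r136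

theorem p3r137 : allRange pointOk 20 14754 21 = true := by decide +kernel
theorem p3u137 : ∀ k, 11877 ≤ k → k < 14775 → pointOk (k * 20) = true := between_extend pointOk 20 11877 14754 21 (p3u136) p3r137

theorem p3r138 : allRange pointOk 20 14775 21 = true := by decide +kernel
theorem p3u138 : ∀ k, 11877 ≤ k → k < 14796 → pointOk (k * 20) = true := between_extend pointOk 20 11877 14775 21 (p3u137) p3r138

theorem p3r139 : allRange pointOk 20 14796 21 = true := by decide +kernel
theorem p3u139 : ∀ k, 11877 ≤ k → k < 14817 → pointOk (k * 20) = true := between_extend pointOk 20 11877 14796 21 (p3u138) p3r139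

theorem p3r140 : allRange pointOk 20 14817 21 = true := by decide +kernel
theorem p3u140 : ∀ k, 11877 ≤ k → k < 14838 → pointOk (k * 20) = true := between_extend pointOk 20 11877 14817 21 (p3u139) p3r140

theorem p3r141 : allRange pointOk 20 14838 21 = true := by decide +kernel
theorem p3u141 : ∀ k, 11877 ≤ k → k < 14859 → pointOk (k * 20) = true := between_extend pointOk 20 11877 14838 21 (p3u140) p3r141

theorem p3r142 : allRange pointOk 20 14859 21 = true := by decide +kernel
theorem p3u142 : ∀ k, 11877 ≤ k → k < 14880 → pointOk (k * 20) = true := between_extend pointOk 20 11877 14859 21 (p3u141) p3r142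

theorem p3r143 : allRange pointOk 20 14880 21 = true := by decide +kernel
theorem p3u143 : ∀ k, 11877 ≤ k → k < 14901 → pointOk (k * 20) = true := between_extend pointOk 20 11877 14880 21 (p3u142) p3r143

theorem p3r144 : allRange pointOk 20 14901 21 = true := by decide +kernel
theorem p3u144 : ∀ k, 11877 ≤ k → k < 14922 → pointOk (k * 20) = true := between_extend pointOk 20 11877 14901 21 (p3u143) p3r144

theorem p3r145 : allRange pointOk 20 14922 21 = true := by decide +kernel
theorem p3u145 : ∀ k, 11877 ≤ k → k < 14943 → pointOk (k * 20) = true := between_extend pointOk 20 11877 14922 21 (p3u144) p3r145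

theorem p3r146 : allRange pointOk 20 14943 21 = true := by decide +kernel
theorem p3u146 : ∀ k, 11877 ≤ k → k < 14964 → pointOk (k * 20) = true := between_extend pointOk 20 11877 14943 21 (p3u145) p3r146

theorem p3r147 : allRange pointOk 20 14964 21 = true := by decide +kernel
theorem p3u147 : ∀ k, 11877 ≤ k → k < 14985 → pointOk (k * 20) = true := between_extend pointOk 20 11877 14964 21 (p3u146) p3r147

theorem p3r148 : allRange pointOk 20 14985 21 = true := by decide +kernel
theorem p3u148 : ∀ k, 11877 ≤ k → k < 15006 → pointOk (k * 20) = true := between_extend pointOk 20 11877 14985 21 (p3u147) p3r148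

theorem p3r149 : allRange pointOk 20 15006 21 = true := by decide +kernel
theorem p3u149 : ∀ k, 11877 ≤ k → k < 15027 → pointOk (k * 20) = true := between_extend pointOk 20 11877 15006 21 (p3u148) p3r149

theorem p3r150 : allRange pointOk 20 15027 21 = true := by decide +kernel
theorem p3u150 : ∀ k, 11877 ≤ k → k < 15048 → pointOk (k * 20) = true := between_extend pointOk 20 11877 15027 21 (p3u149) p3r150

theorem p3r151 : allRange pointOk 20 15048 21 = true := by decide +kernel
theorem p3u151 : ∀ k, 11877 ≤ k → k < 15069 → pointOk (k * 20) = true := between_extend pointOk 20 11877 15048 21 (p3u150) p3r151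

theorem p3r152 : allRange pointOk 20 15069 21 = true := by decide +kernel
theorem p3u152 : ∀ k, 11877 ≤ k → k < 15090 → pointOk (k * 20) = true := between_extend pointOk 20 11877 15069 21 (p3u151) p3r152

theorem p3r153 : allRange pointOk 20 15090 21 = true := by decide +kernel
theorem p3u153 : ∀ k, 11877 ≤ k → k < 15111 → pointOk (k * 20) = true := between_extend pointOk 20 11877 15090 21 (p3u152) p3r153

theorem p3r154 : allRange pointOk 20 15111 21 = true := by decide +kernel
theorem p3u154 : ∀ k, 11877 ≤ k → k < 15132 → pointOk (k * 20) = true := between_extend pointOk 20 11877 15111 21 (p3u153) p3r154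

theorem p3r155 : allRange pointOk 20 15132 21 = true := by decide +kernel
theorem p3u155 : ∀ k, 11877 ≤ k → k < 15153 → pointOk (k * 20) = true := between_extend pointOk 20 11877 15132 21 (p3u154) p3r155

theorem p3r156 : allRange pointOk 20 15153 21 = true := by decide +kernel
theorem p3u156 : ∀ k, 11877 ≤ k → k < 15174 → pointOk (k * 20) = true := between_extend pointOk 20 11877 15153 21 (p3u155) p3r156

theorem p3r157 : allRange pointOk 20 15174 21 = true := by decide +kernel
theorem p3u157 : ∀ k, 11877 ≤ k → k < 15195 → pointOk (k * 20) = true := between_extend pointOk 20 11877 15174 21 (p3u156) p3r157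

theorem p3r158 : allRange pointOk 20 15195 21 = true := by decide +kernel
theorem p3u158 : ∀ k, 11877 ≤ k → k < 15216 → pointOk (k * 20) = true := between_extend pointOk 20 11877 15195 21 (p3u157) p3r158

theorem p3r159 : allRange pointOk 20 15216 21 = true := by decide +kernel
theorem p3u159 : ∀ k, 11877 ≤ k → k < 15237 → pointOk (k * 20) = true := between_extend pointOk 20 11877 15216 21 (p3u158) p3r159

theorem p3r160 : allRange pointOk 20 15237 21 = true := by decide +kernel
theorem p3u160 : ∀ k, 11877 ≤ k → k < 15258 → pointOk (k * 20) = true := between_extend pointOk 20 11877 15237 21 (p3u159) p3r160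

theorem p3r161 : allRange pointOk 20 15258 21 = true := by decide +kernel
theorem p3u161 : ∀ k, 11877 ≤ k → k < 15279 → pointOk (k * 20) = true := between_extend pointOk 20 11877 15258 21 (p3u160) p3r161

theorem p3r162 : allRange pointOk 20 15279 21 = true := by decide +kernel
theorem p3u162 : ∀ k, 11877 ≤ k → k < 15300 → pointOk (k * 20) = true := between_extend pointOk 20 11877 15279 21 (p3u161) p3r162

theorem p3r163 : allRange pointOk 20 15300 21 = true := by decide +kernel
theorem p3u163 : ∀ k, 11877 ≤ k → k < 15321 → pointOk (k * 20) = true := between_extend pointOk 20 11877 15300 21 (p3u162) p3r163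

theorem p3r164 : allRange pointOk 20 15321 21 = true := by decide +kernel
theorem p3u164 : ∀ k, 11877 ≤ k → k < 15342 → pointOk (k * 20) = true := between_extend pointOk 20 11877 15321 21 (p3u163) p3r164

theorem p3r165 : allRange pointOk 20 15342 21 = true := by decide +kernel
theorem p3u165 : ∀ k, 11877 ≤ k → k < 15363 → pointOk (k * 20) = true := between_extend pointOk 20 11877 15342 21 (p3u164) p3r165

theorem p3r166 : allRange pointOk 20 15363 21 = true := by decide +kernel
theorem p3u166 : ∀ k, 11877 ≤ k → k < 15384 → pointOk (k * 20) = true := between_extend pointOk 20 11877 15363 21 (p3u165) p3r166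

theorem p3r167 : allRange pointOk 20 15384 21 = true := by decide +kernel
theorem p3u167 : ∀ k, 11877 ≤ k → k < 15405 → pointOk (k * 20) = true := between_extend pointOk 20 11877 15384 21 (p3u166) p3r167

theorem p3r168 : allRange pointOk 20 15405 21 = true := by decide +kernel
theorem p3u168 : ∀ k, 11877 ≤ k → k < 15426 → pointOk (k * 20) = true := between_extend pointOk 20 11877 15405 21 (p3u167) p3r168

theorem p3r169 : allRange pointOk 20 15426 21 = true := by decide +kernel
theorem p3u169 : ∀ k, 11877 ≤ k → k < 15447 → pointOk (k * 20) = true := between_extend pointOk 20 11877 15426 21 (p3u168) p3r169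

theorem p3r170 : allRange pointOk 20 15447 21 = true := by decide +kernel
theorem p3u170 : ∀ k, 11877 ≤ k → k < 15468 → pointOk (k * 20) = true := between_extend pointOk 20 11877 15447 21 (p3u169) p3r170

theorem p3r171 : allRange pointOk 20 15468 21 = true := by decide +kernel
theorem p3u171 : ∀ k, 11877 ≤ k → k < 15489 → pointOk (k * 20) = true := between_extend pointOk 20 11877 15468 21 (p3u170) p3r171

theorem p3r172 : allRange pointOk 20 15489 21 = true := by decide +kernel
theorem p3u172 : ∀ k, 11877 ≤ k → k < 15510 → pointOk (k * 20) = true := between_extend pointOk 20 11877 15489 21 (p3u171) p3r172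

theorem p3r173 : allRange pointOk 20 15510 21 = true := by decide +kernel
theorem p3u173 : ∀ k, 11877 ≤ k → k < 15531 → pointOk (k * 20) = true := between_extend pointOk 20 11877 15510 21 (p3u172) p3r173

theorem p3r174 : allRange pointOk 20 15531 21 = true := by decide +kernel
theorem p3u174 : ∀ k, 11877 ≤ k → k < 15552 → pointOk (k * 20) = true := between_extend pointOk 20 11877 15531 21 (p3u173) p3r174

theorem p3r175 : allRange pointOk 20 15552 21 = true := by decide +kernel
theorem p3u175 : ∀ k, 11877 ≤ k → k < 15573 → pointOk (k * 20) = true := between_extend pointOk 20 11877 15552 21 (p3u174) p3r175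

theorem p3r176 : allRange pointOk 20 15573 21 = true := by decide +kernel
theorem p3u176 : ∀ k, 11877 ≤ k → k < 15594 → pointOk (k * 20) = true := between_extend pointOk 20 11877 15573 21 (p3u175) p3r176

theorem p3r177 : allRange pointOk 20 15594 21 = true := by decide +kernel
theorem p3u177 : ∀ k, 11877 ≤ k → k < 15615 → pointOk (k * 20) = true := between_extend pointOk 20 11877 15594 21 (p3u176) p3r177

theorem p3r178 : allRange pointOk 20 15615 21 = true := by decide +kernel
theorem p3u178 : ∀ k, 11877 ≤ k → k < 15636 → pointOk (k * 20) = true := between_extend pointOk 20 11877 15615 21 (p3u177) p3r178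

theorem p3r179 : allRange pointOk 20 15636 21 = true := by decide +kernel
theorem p3u179 : ∀ k, 11877 ≤ k → k < 15657 → pointOk (k * 20) = true := between_extend pointOk 20 11877 15636 21 (p3u178) p3r179

theorem p3r180 : allRange pointOk 20 15657 21 = true := by decide +kernel
theorem p3u180 : ∀ k, 11877 ≤ k → k < 15678 → pointOk (k * 20) = true := between_extend pointOk 20 11877 15657 21 (p3u179) p3r180

theorem p3r181 : allRange pointOk 20 15678 21 = true := by decide +kernel
theorem p3u181 : ∀ k, 11877 ≤ k → k < 15699 → pointOk (k * 20) = true := between_extend pointOk 20 11877 15678 21 (p3u180) p3r181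

theorem p3r182 : allRange pointOk 20 15699 21 = true := by decide +kernel
theorem p3u182 : ∀ k, 11877 ≤ k → k < 15720 → pointOk (k * 20) = true := between_extend pointOk 20 11877 15699 21 (p3u181) p3r182

theorem p3r183 : allRange pointOk 20 15720 21 = true := by decide +kernel
theorem p3u183 : ∀ k, 11877 ≤ k → k < 15741 → pointOk (k * 20) = true := between_extend pointOk 20 11877 15720 21 (p3u182) p3r183

theorem p3r184 : allRange pointOk 20 15741 21 = true := by decide +kernel
theorem p3u184 : ∀ k, 11877 ≤ k → k < 15762 → pointOk (k * 20) = true := between_extend pointOk 20 11877 15741 21 (p3u183) p3r184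

theorem p3r185 : allRange pointOk 20 15762 21 = true := by decide +kernel
theorem p3u185 : ∀ k, 11877 ≤ k → k < 15783 → pointOk (k * 20) = true := between_extend pointOk 20 11877 15762 21 (p3u184) p3r185

theorem p3r186 : allRange pointOk 20 15783 21 = true := by decide +kernel
theorem p3u186 : ∀ k, 11877 ≤ k → k < 15804 → pointOk (k * 20) = true := between_extend pointOk 20 11877 15783 21 (p3u185) p3r186

theorem p3r187 : allRange pointOk 20 15804 21 = true := by decide +kernel
theorem p3u187 : ∀ k, 11877 ≤ k → k < 15825 → pointOk (k * 20) = true := between_extend pointOk 20 11877 15804 21 (p3u186) p3r187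

theorem p3r188 : allRange pointOk 20 15825 11 = true := by decide +kernel
theorem p3u188 : ∀ k, 11877 ≤ k → k < 15836 → pointOk (k * 20) = true := between_extend pointOk 20 11877 15825 11 (p3u187) p3r188

theorem p3 : ∀ k, 11877 ≤ k → k < 15836 → pointOk (k * 20) = true := p3u188

end Cfsg.Agent.Lib.Helper28_S1689
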