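import Cfsg.Agent.Lib.Helper28_S1689Def

set_option autoImplicit false
set_option linter.constructorNameAsVariable false
set_option Elab.async false

namespace Cfsg.Agent.Lib.Helper28_S1689

open Cfsg.Agent.Lib.Helper28_CosetPerm

theorem p4r0 : allRange pointOk 20 15836 21 = true := by decide +kernel
theorem p4u0 : ∀ k, 15836 ≤ k → k < 15857 → pointOk (k * 20) = true := between_extend pointOk 20 15836 15836 21 (between_start pointOk 20 15836) p4r0

theorem p4r1 : allRange pointOk 20 15857 21 = true := by decide +kernel
theorem p4u1 : ∀ k, 15836 ≤ k → k < 15878 → pointOk (k * 20) = true := between_extend pointOk 20 15836 15857 21 (p4u0) p4r1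

theorem p4r2 : allRange pointOk 20 15878 21 = true := by decide +kernel
theorem p4u2 : ∀ k, 15836 ≤ k → k < 15899 → pointOk (k * 20) = true := between_extend pointOk 20 15836 15878 21 (p4u1) p4r2

theorem p4r3 : allRange pointOk 20 15899 21 = true := by decide +kernel
theorem p4u3 : ∀ k, 15836 ≤ k → k < 15920 → pointOk (k * 20) = true := between_extend pointOk 20 15836 15899 21 (p4u2) p4r3

theorem p4r4 : allRange pointOk 20 15920 21 = true := by decide +kernel
theorem p4u4 : ∀ k, 15836 ≤ k → k < 15941 → pointOk (k * 20) = true := between_extend pointOk 20 15836 15920 21 (p4u3) p4r4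

theorem p4r5 : allRange pointOk 20 15941 21 = true := by decide +kernel
theorem p4u5 : ∀ k, 15836 ≤ k → k < 15962 → pointOk (k * 20) = true := between_extend pointOk 20 15836 15941 21 (p4u4) p4r5

theorem p4r6 : allRange pointOk 20 15962 21 = true := by decide +kernel
theorem p4u6 : ∀ k, 15836 ≤ k → k < 15983 → pointOk (k * 20) = true := between_extend pointOk 20 15836 15962 21 (p4u5) p4r6

theorem p4r7 : allRange pointOk 20 15983 21 = true := by decide +kernel
theorem p4u7 : ∀ k, 15836 ≤ k → k < 16004 → pointOk (k * 20) = true := between_extend pointOk 20 15836 15983 21 (p4u6) p4r7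

theorem p4r8 : allRange pointOk 20 16004 21 = true := by decide +kernel
theorem p4u8 : ∀ k, 15836 ≤ k → k < 16025 → pointOk (k * 20) = true := between_extend pointOk 20 15836 16004 21 (p4u7) p4r8

theorem p4r9 : allRange pointOk 20 16025 21 = true := by decide +kernel
theorem p4u9 : ∀ k, 15836 ≤ k → k < 16046 → pointOk (k * 20) = true := between_extend pointOk 20 15836 16025 21 (p4u8) p4r9

theorem p4r10 : allRange pointOk 20 16046 21 = true := by decide +kernel
theorem p4u10 : ∀ k, 15836 ≤ k → k < 16067 → pointOk (k * 20) = true := between_extend pointOk 20 15836 16046 21 (p4u9) p4r10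

theorem p4r11 : allRange pointOk 20 16067 21 = true := by decide +kernel
theorem p4u11 : ∀ k, 15836 ≤ k → k < 16088 → pointOk (k * 20) = true := between_extend pointOk 20 15836 16067 21 (p4u10) p4r11

theorem p4r12 : allRange pointOk 20 16088 21 = true := by decide +kernel
theorem p4u12 : ∀ k, 15836 ≤ k → k < 16109 → pointOk (k * 20) = true := between_extend pointOk 20 15836 16088 21 (p4u11) p4r12

theorem p4r13 : allRange pointOk 20 16109 21 = true := by decide +kernel
theorem p4u13 : ∀ k, 15836 ≤ k → k < 16130 → pointOk (k * 20) = true := between_extend pointOk 20 15836 16109 21 (p4u12) p4r13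

theorem p4r14 : allRange pointOk 20 16130 21 = true := by decide +kernel
theorem p4u14 : ∀ k, 15836 ≤ k → k < 16151 → pointOk (k * 20) = true := between_extend pointOk 20 15836 16130 21 (p4u13) p4r14

theorem p4r15 : allRange pointOk 20 16151 21 = true := by decide +kernel
theorem p4u15 : ∀ k, 15836 ≤ k → k < 16172 → pointOk (k * 20) = true := between_extend pointOk 20 15836 16151 21 (p4u14) p4r15

theorem p4r16 : allRange pointOk 20 16172 21 = true := by decide +kernel
theorem p4u16 : ∀ k, 15836 ≤ k → k < 16193 → pointOk (k * 20) = true := between_extend pointOk 20 15836 16172 21 (p4u15) p4r16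

theorem p4r17 : allRange pointOk 20 16193 21 = true := by decide +kernel
theorem p4u17 : ∀ k, 15836 ≤ k → k < 16214 → pointOk (k * 20) = true := between_extend pointOk 20 15836 16193 21 (p4u16) p4r17

theorem p4r18 : allRange pointOk 20 16214 21 = true := by decide +kernel
theorem p4u18 : ∀ k, 15836 ≤ k → k < 16235 → pointOk (k * 20) = true := between_extend pointOk 20 15836 16214 21 (p4u17) p4r18

theorem p4r19 : allRange pointOk 20 16235 21 = true := by decide +kernel
theorem p4u19 : ∀ k, 15836 ≤ k → k < 16256 → pointOk (k * 20) = true := between_extend pointOk 20 15836 16235 21 (p4u18) p4r19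

theorem p4r20 : allRange pointOk 20 16256 21 = true := by decide +kernel
theorem p4u20 : ∀ k, 15836 ≤ k → k < 16277 → pointOk (k * 20) = true := between_extend pointOk 20 15836 16256 21 (p4u19) p4r20

theorem p4r21 : allRange pointOk 20 16277 21 = true := by decide +kernel
theorem p4u21 : ∀ k, 15836 ≤ k → k < 16298 → pointOk (k * 20) = true := between_extend pointOk 20 15836 16277 21 (p4u20) p4r21

theorem p4r22 : allRange pointOk 20 16298 21 = true := by decide +kernel
theorem p4u22 : ∀ k, 15836 ≤ k → k < 16319 → pointOk (k * 20) = true := between_extend pointOk 20 15836 16298 21 (p4u21) p4r22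

theorem p4r23 : allRange pointOk 20 16319 21 = true := by decide +kernel
theorem p4u23 : ∀ k, 15836 ≤ k → k < 16340 → pointOk (k * 20) = true := between_extend pointOk 20 15836 16319 21 (p4u22) p4r23

theorem p4r24 : allRange pointOk 20 16340 21 = true := by decide +kernel
theorem p4u24 : ∀ k, 15836 ≤ k → k < 16361 → pointOk (k * 20) = true := between_extend pointOk 20 15836 16340 21 (p4u23) p4r24

theorem p4r25 : allRange pointOk 20 16361 21 = true := by decide +kernel
theorem p4u25 : ∀ k, 15836 ≤ k → k < 16382 → pointOk (k * 20) = true := between_extend pointOk 20 15836 16361 21 (p4u24) p4r25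

theorem p4r26 : allRange pointOk 20 16382 21 = true := by decide +kernel
theorem p4u26 : ∀ k, 15836 ≤ k → k < 16403 → pointOk (k * 20) = true := between_extend pointOk 20 15836 16382 21 (p4u25) p4r26

theorem p4r27 : allRange pointOk 20 16403 21 = true := by decide +kernel
theorem p4u27 : ∀ k, 15836 ≤ k → k < 16424 → pointOk (k * 20) = true := between_extend pointOk 20 15836 16403 21 (p4u26) p4r27

theorem p4r28 : allRange pointOk 20 16424 21 = true := by decide +kernel
theorem p4u28 : ∀ k, 15836 ≤ k → k < 16445 → pointOk (k * 20) = true := between_extend pointOk 20 15836 16424 21 (p4u27) p4r28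

theorem p4r29 : allRange pointOk 20 16445 21 = true := by decide +kernel
theorem p4u29 : ∀ k, 15836 ≤ k → k < 16466 → pointOk (k * 20) = true := between_extend pointOk 20 15836 16445 21 (p4u28) p4r29

theorem p4r30 : allRange pointOk 20 16466 21 = true := by decide +kernel
theorem p4u30 : ∀ k, 15836 ≤ k → k < 16487 → pointOk (k * 20) = true := between_extend pointOk 20 15836 16466 21 (p4u29) p4r30

theorem p4r31 : allRange pointOk 20 16487 21 = true := by decide +kernel
theorem p4u31 : ∀ k, 15836 ≤ k → k < 16508 → pointOk (k * 20) = true := between_extend pointOk 20 15836 16487 21 (p4u30) p4r31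

theorem p4r32 : allRange pointOk 20 16508 21 = true := by decide +kernel
theorem p4u32 : ∀ k, 15836 ≤ k → k < 16529 → pointOk (k * 20) = true := between_extend pointOk 20 15836 16508 21 (p4u31) p4r32

theorem p4r33 : allRange pointOk 20 16529 21 = true := by decide +kernel
theorem p4u33 : ∀ k, 15836 ≤ k → k < 16550 → pointOk (k * 20) = true := between_extend pointOk 20 15836 16529 21 (p4u32) p4r33

theorem p4r34 : allRange pointOk 20 16550 21 = true := by decide +kernel
theorem p4u34 : ∀ k, 15836 ≤ k → k < 16571 → pointOk (k * 20) = true := between_extend pointOk 20 15836 16550 21 (p4u33) p4r34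

theorem p4r35 : allRange pointOk 20 16571 21 = true := by decide +kernel
theorem p4u35 : ∀ k, 15836 ≤ k → k < 16592 → pointOk (k * 20) = true := between_extend pointOk 20 15836 16571 21 (p4u34) p4r35

theorem p4r36 : allRange pointOk 20 16592 21 = true := by decide +kernel
theorem p4u36 : ∀ k, 15836 ≤ k → k < 16613 → pointOk (k * 20) = true := between_extend pointOk 20 15836 16592 21 (p4u35) p4r36

theorem p4r37 : allRange pointOk 20 16613 21 = true := by decide +kernel
theorem p4u37 : ∀ k, 15836 ≤ k → k < 16634 → pointOk (k * 20) = true := between_extend pointOk 20 15836 16613 21 (p4u36) p4r37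

theorem p4r38 : allRange pointOk 20 16634 21 = true := by decide +kernel
theorem p4u38 : ∀ k, 15836 ≤ k → k < 16655 → pointOk (k * 20) = true := between_extend pointOk 20 15836 16634 21 (p4u37) p4r38

theorem p4r39 : allRange pointOk 20 16655 21 = true := by decide +kernel
theorem p4u39 : ∀ k, 15836 ≤ k → k < 16676 → pointOk (k * 20) = true := between_extend pointOk 20 15836 16655 21 (p4u38) p4r39

theorem p4r40 : allRange pointOk 20 16676 21 = true := by decide +kernel
theorem p4u40 : ∀ k, 15836 ≤ k → k < 16697 → pointOk (k * 20) = true := between_extend pointOk 20 15836 16676 21 (p4u39) p4r40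

theorem p4r41 : allRange pointOk 20 16697 21 = true := by decide +kernel
theorem p4u41 : ∀ k, 15836 ≤ k → k < 16718 → pointOk (k * 20) = true := between_extend pointOk 20 15836 16697 21 (p4u40) p4r41

theorem p4r42 : allRange pointOk 20 16718 21 = true := by decide +kernel
theorem p4u42 : ∀ k, 15836 ≤ k → k < 16739 → pointOk (k * 20) = true := between_extend pointOk 20 15836 16718 21 (p4u41) p4r42

theorem p4r43 : allRange pointOk 20 16739 21 = true := by decide +kernel
theorem p4u43 : ∀ k, 15836 ≤ k → k < 16760 → pointOk (k * 20) = true := between_extend pointOk 20 15836 16739 21 (p4u42) p4r43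

theorem p4r44 : allRange pointOk 20 16760 21 = true := by decide +kernel
theorem p4u44 : ∀ k, 15836 ≤ k → k < 16781 → pointOk (k * 20) = true := between_extend pointOk 20 15836 16760 21 (p4u43) p4r44

theorem p4r45 : allRange pointOk 20 16781 21 = true := by decide +kernel
theorem p4u45 : ∀ k, 15836 ≤ k → k < 16802 → pointOk (k * 20) = true := between_extend pointOk 20 15836 16781 21 (p4u44) p4r45

theorem p4r46 : allRange pointOk 20 16802 21 = true := by decide +kernel
theorem p4u46 : ∀ k, 15836 ≤ k → k < 16823 → pointOk (k * 20) = true := between_extend pointOk 20 15836 16802 21 (p4u45) p4r46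

theorem p4r47 : allRange pointOk 20 16823 21 = true := by decide +kernel
theorem p4u47 : ∀ k, 15836 ≤ k → k < 16844 → pointOk (k * 20) = true := between_extend pointOk 20 15836 16823 21 (p4u46) p4r47

theorem p4r48 : allRange pointOk 20 16844 21 = true := by decide +kernel
theorem p4u48 : ∀ k, 15836 ≤ k → k < 16865 → pointOk (k * 20) = true := between_extend pointOk 20 15836 16844 21 (p4u47) p4r48

theorem p4r49 : allRange pointOk 20 16865 21 = true := by decide +kernel
theorem p4u49 : ∀ k, 15836 ≤ k → k < 16886 → pointOk (k * 20) = true := between_extend pointOk 20 15836 16865 21 (p4u48) p4r49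

theorem p4r50 : allRange pointOk 20 16886 21 = true := by decide +kernel
theorem p4u50 : ∀ k, 15836 ≤ k → k < 16907 → pointOk (k * 20) = true := between_extend pointOk 20 15836 16886 21 (p4u49) p4r50

theorem p4r51 : allRange pointOk 20 16907 21 = true := by decide +kernel
theorem p4u51 : ∀ k, 15836 ≤ k → k < 16928 → pointOk (k * 20) = true := between_extend pointOk 20 15836 16907 21 (p4u50) p4r51

theorem p4r52 : allRange pointOk 20 16928 21 = true := by decide +kernel
theorem p4u52 : ∀ k, 15836 ≤ k → k < 16949 → pointOk (k * 20) = true := between_extend pointOk 20 15836 16928 21 (p4u51) p4r52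

theorem p4r53 : allRange pointOk 20 16949 21 = true := by decide +kernel
theorem p4u53 : ∀ k, 15836 ≤ k → k < 16970 → pointOk (k * 20) = true := between_extend pointOk 20 15836 16949 21 (p4u52) p4r53

theorem p4r54 : allRange pointOk 20 16970 21 = true := by decide +kernel
theorem p4u54 : ∀ k, 15836 ≤ k → k < 16991 → pointOk (k * 20) = true := between_extend pointOk 20 15836 16970 21 (p4u53) p4r54

theorem p4r55 : allRange pointOk 20 16991 21 = true := by decide +kernel
theorem p4u55 : ∀ k, 15836 ≤ k → k < 17012 → pointOk (k * 20) = true := between_extend pointOk 20 15836 16991 21 (p4u54) p4r55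

theorem p4r56 : allRange pointOk 20 17012 21 = true := by decide +kernel
theorem p4u56 : ∀ k, 15836 ≤ k → k < 17033 → pointOk (k * 20) = true := between_extend pointOk 20 15836 17012 21 (p4u55) p4r56

theorem p4r57 : allRange pointOk 20 17033 21 = true := by decide +kernel
theorem p4u57 : ∀ k, 15836 ≤ k → k < 17054 → pointOk (k * 20) = true := between_extend pointOk 20 15836 17033 21 (p4u56) p4r57

theorem p4r58 : allRange pointOk 20 17054 21 = true := by decide +kernel
theorem p4u58 : ∀ k, 15836 ≤ k → k < 17075 → pointOk (k * 20) = true := between_extend pointOk 20 15836 17054 21 (p4u57) p4r58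

theorem p4r59 : allRange pointOk 20 17075 21 = true := by decide +kernel
theorem p4u59 : ∀ k, 15836 ≤ k → k < 17096 → pointOk (k * 20) = true := between_extend pointOk 20 15836 17075 21 (p4u58) p4r59

theorem p4r60 : allRange pointOk 20 17096 21 = true := by decide +kernel
theorem p4u60 : ∀ k, 15836 ≤ k → k < 17117 → pointOk (k * 20) = true := between_extend pointOk 20 15836 17096 21 (p4u59) p4r60

theorem p4r61 : allRange pointOk 20 17117 21 = true := by decide +kernel
theorem p4u61 : ∀ k, 15836 ≤ k → k < 17138 → pointOk (k * 20) = true := between_extend pointOk 20 15836 17117 21 (p4u60) p4r61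

theorem p4r62 : allRange pointOk 20 17138 21 = true := by decide +kernel
theorem p4u62 : ∀ k, 15836 ≤ k → k < 17159 → pointOk (k * 20) = true := between_extend pointOk 20 15836 17138 21 (p4u61) p4r62

theorem p4r63 : allRange pointOk 20 17159 21 = true := by decide +kernel
theorem p4u63 : ∀ k, 15836 ≤ k → k < 17180 → pointOk (k * 20) = true := between_extend pointOk 20 15836 17159 21 (p4u62) p4r63

theorem p4r64 : allRange pointOk 20 17180 21 = true := by decide +kernel
theorem p4u64 : ∀ k, 15836 ≤ k → k < 17201 → pointOk (k * 20) = true := between_extend pointOk 20 15836 17180 21 (p4u63) p4r64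

theorem p4r65 : allRange pointOk 20 17201 21 = true := by decide +kernel
theorem p4u65 : ∀ k, 15836 ≤ k → k < 17222 → pointOk (k * 20) = true := between_extend pointOk 20 15836 17201 21 (p4u64) p4r65

theorem p4r66 : allRange pointOk 20 17222 21 = true := by decide +kernel
theorem p4u66 : ∀ k, 15836 ≤ k → k < 17243 → pointOk (k * 20) = true := between_extend pointOk 20 15836 17222 21 (p4u65) p4r66

theorem p4r67 : allRange pointOk 20 17243 21 = true := by decide +kernel
theorem p4u67 : ∀ k, 15836 ≤ k → k < 17264 → pointOk (k * 20) = true := between_extend pointOk 20 15836 17243 21 (p4u66) p4r67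

theorem p4r68 : allRange pointOk 20 17264 21 = true := by decide +kernel
theorem p4u68 : ∀ k, 15836 ≤ k → k < 17285 → pointOk (k * 20) = true := between_extend pointOk 20 15836 17264 21 (p4u67) p4r68

theorem p4r69 : allRange pointOk 20 17285 21 = true := by decide +kernel
theorem p4u69 : ∀ k, 15836 ≤ k → k < 17306 → pointOk (k * 20) = true := between_extend pointOk 20 15836 17285 21 (p4u68) p4r69

theorem p4r70 : allRange pointOk 20 17306 21 = true := by decide +kernel
theorem p4u70 : ∀ k, 15836 ≤ k → k < 17327 → pointOk (k * 20) = true := between_extend pointOk 20 15836 17306 21 (p4u69) p4r70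

theorem p4r71 : allRange pointOk 20 17327 21 = true := by decide +kernel
theorem p4u71 : ∀ k, 15836 ≤ k → k < 17348 → pointOk (k * 20) = true := between_extend pointOk 20 15836 17327 21 (p4u70) p4r71

theorem p4r72 : allRange pointOk 20 17348 21 = true := by decide +kernel
theorem p4u72 : ∀ k, 15836 ≤ k → k < 17369 → pointOk (k * 20) = true := between_extend pointOk 20 15836 17348 21 (p4u71) p4r72

theorem p4r73 : allRange pointOk 20 17369 21 = true := by decide +kernel
theorem p4u73 : ∀ k, 15836 ≤ k → k < 17390 → pointOk (k * 20) = true := between_extend pointOk 20 15836 17369 21 (p4u72) p4r73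

theorem p4r74 : allRange pointOk 20 17390 21 = true := by decide +kernel
theorem p4u74 : ∀ k, 15836 ≤ k → k < 17411 → pointOk (k * 20) = true := between_extend pointOk 20 15836 17390 21 (p4u73) p4r74

theorem p4r75 : allRange pointOk 20 17411 21 = true := by decide +kernel
theorem p4u75 : ∀ k, 15836 ≤ k → k < 17432 → pointOk (k * 20) = true := between_extend pointOk 20 15836 17411 21 (p4u74) p4r75

theorem p4r76 : allRange pointOk 20 17432 21 = true := by decide +kernel
theorem p4u76 : ∀ k, 15836 ≤ k → k < 17453 → pointOk (k * 20) = true := between_extend pointOk 20 15836 17432 21 (p4u75) p4r76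

theorem p4r77 : allRange pointOk 20 17453 21 = true := by decide +kernel
theorem p4u77 : ∀ k, 15836 ≤ k → k < 17474 → pointOk (k * 20) = true := between_extend pointOk 20 15836 17453 21 (p4u76) p4r77

theorem p4r78 : allRange pointOk 20 17474 21 = true := by decide +kernel
theorem p4u78 : ∀ k, 15836 ≤ k → k < 17495 → pointOk (k * 20) = true := between_extend pointOk 20 15836 17474 21 (p4u77) p4r78

theorem p4r79 : allRange pointOk 20 17495 21 = true := by decide +kernel
theorem p4u79 : ∀ k, 15836 ≤ k → k < 17516 → pointOk (k * 20) = true := between_extend pointOk 20 15836 17495 21 (p4u78) p4r79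

theorem p4r80 : allRange pointOk 20 17516 21 = true := by decide +kernel
theorem p4u80 : ∀ k, 15836 ≤ k → k < 17537 → pointOk (k * 20) = true := between_extend pointOk 20 15836 17516 21 (p4u79) p4r80

theorem p4r81 : allRange pointOk 20 17537 21 = true := by decide +kernel
theorem p4u81 : ∀ k, 15836 ≤ k → k < 17558 → pointOk (k * 20) = true := between_extend pointOk 20 15836 17537 21 (p4u80) p4r81

theorem p4r82 : allRange pointOk 20 17558 21 = true := by decide +kernel
theorem p4u82 : ∀ k, 15836 ≤ k → k < 17579 → pointOk (k * 20) = true := between_extend pointOk 20 15836 17558 21 (p4u81) p4r82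

theorem p4r83 : allRange pointOk 20 17579 21 = true := by decide +kernel
theorem p4u83 : ∀ k, 15836 ≤ k → k < 17600 → pointOk (k * 20) = true := between_extend pointOk 20 15836 17579 21 (p4u82) p4r83

theorem p4r84 : allRange pointOk 20 17600 21 = true := by decide +kernel
theorem p4u84 : ∀ k, 15836 ≤ k → k < 17621 → pointOk (k * 20) = true := between_extend pointOk 20 15836 17600 21 (p4u83) p4r84

theorem p4r85 : allRange pointOk 20 17621 21 = true := by decide +kernel
theorem p4u85 : ∀ k, 15836 ≤ k → k < 17642 → pointOk (k * 20) = true := between_extend pointOk 20 15836 17621 21 (p4u84) p4r85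

theorem p4r86 : allRange pointOk 20 17642 21 = true := by decide +kernel
theorem p4u86 : ∀ k, 15836 ≤ k → k < 17663 → pointOk (k * 20) = true := between_extend pointOk 20 15836 17642 21 (p4u85) p4r86

theorem p4r87 : allRange pointOk 20 17663 21 = true := by decide +kernel
theorem p4u87 : ∀ k, 15836 ≤ k → k < 17684 → pointOk (k * 20) = true := between_extend pointOk 20 15836 17663 21 (p4u86) p4r87

theorem p4r88 : allRange pointOk 20 17684 21 = true := by decide +kernel
theorem p4u88 : ∀ k, 15836 ≤ k → k < 17705 → pointOk (k * 20) = true := between_extend pointOk 20 15836 17684 21 (p4u87) p4r88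

theorem p4r89 : allRange pointOk 20 17705 21 = true := by decide +kernel
theorem p4u89 : ∀ k, 15836 ≤ k → k < 17726 → pointOk (k * 20) = true := between_extend pointOk 20 15836 17705 21 (p4u88) p4r89

theorem p4r90 : allRange pointOk 20 17726 21 = true := by decide +kernel
theorem p4u90 : ∀ k, 15836 ≤ k → k < 17747 → pointOk (k * 20) = true := between_extend pointOk 20 15836 17726 21 (p4u89) p4r90

theorem p4r91 : allRange pointOk 20 17747 21 = true := by decide +kernel
theorem p4u91 : ∀ k, 15836 ≤ k → k < 17768 → pointOk (k * 20) = true := between_extend pointOk 20 15836 17747 21 (p4u90) p4r91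

theorem p4r92 : allRange pointOk 20 17768 21 = true := by decide +kernel
theorem p4u92 : ∀ k, 15836 ≤ k → k < 17789 → pointOk (k * 20) = true := between_extend pointOk 20 15836 17768 21 (p4u91) p4r92

theorem p4r93 : allRange pointOk 20 17789 21 = true := by decide +kernel
theorem p4u93 : ∀ k, 15836 ≤ k → k < 17810 → pointOk (k * 20) = true := between_extend pointOk 20 15836 17789 21 (p4u92) p4r93

theorem p4r94 : allRange pointOk 20 17810 21 = true := by decide +kernel
theorem p4u94 : ∀ k, 15836 ≤ k → k < 17831 → pointOk (k * 20) = true := between_extend pointOk 20 15836 17810 21 (p4u93) p4r94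

theorem p4r95 : allRange pointOk 20 17831 21 = true := by decide +kernel
theorem p4u95 : ∀ k, 15836 ≤ k → k < 17852 → pointOk (k * 20) = true := between_extend pointOk 20 15836 17831 21 (p4u94) p4r95

theorem p4r96 : allRange pointOk 20 17852 21 = true := by decide +kernel
theorem p4u96 : ∀ k, 15836 ≤ k → k < 17873 → pointOk (k * 20) = true := between_extend pointOk 20 15836 17852 21 (p4u95) p4r96

theorem p4r97 : allRange pointOk 20 17873 21 = true := by decide +kernel
theorem p4u97 : ∀ k, 15836 ≤ k → k < 17894 → pointOk (k * 20) = true := between_extend pointOk 20 15836 17873 21 (p4u96) p4r97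

theorem p4r98 : allRange pointOk 20 17894 21 = true := by decide +kernel
theorem p4u98 : ∀ k, 15836 ≤ k → k < 17915 → pointOk (k * 20) = true := between_extend pointOk 20 15836 17894 21 (p4u97) p4r98

theorem p4r99 : allRange pointOk 20 17915 21 = true := by decide +kernel
theorem p4u99 : ∀ k, 15836 ≤ k → k < 17936 → pointOk (k * 20) = true := between_extend pointOk 20 15836 17915 21 (p4u98) p4r99

theorem p4r100 : allRange pointOk 20 17936 21 = true := by decide +kernel
theorem p4u100 : ∀ k, 15836 ≤ k → k < 17957 → pointOk (k * 20) = true := between_extend pointOk 20 15836 17936 21 (p4u99) p4r100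

theorem p4r101 : allRange pointOk 20 17957 21 = true := by decide +kernel
theorem p4u101 : ∀ k, 15836 ≤ k → k < 17978 → pointOk (k * 20) = true := between_extend pointOk 20 15836 17957 21 (p4u100) p4r101

theorem p4r102 : allRange pointOk 20 17978 21 = true := by decide +kernel
theorem p4u102 : ∀ k, 15836 ≤ k → k < 17999 → pointOk (k * 20) = true := between_extend pointOk 20 15836 17978 21 (p4u101) p4r102

theorem p4r103 : allRange pointOk 20 17999 21 = true := by decide +kernel
theorem p4u103 : ∀ k, 15836 ≤ k → k < 18020 → pointOk (k * 20) = true := between_extend pointOk 20 15836 17999 21 (p4u102) p4r103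

theorem p4r104 : allRange pointOk 20 18020 21 = true := by decide +kernel
theorem p4u104 : ∀ k, 15836 ≤ k → k < 18041 → pointOk (k * 20) = true := between_extend pointOk 20 15836 18020 21 (p4u103) p4r104

theorem p4r105 : allRange pointOk 20 18041 21 = true := by decide +kernel
theorem p4u105 : ∀ k, 15836 ≤ k → k < 18062 → pointOk (k * 20) = true := between_extend pointOk 20 15836 18041 21 (p4u104) p4r105

theorem p4r106 : allRange pointOk 20 18062 21 = true := by decide +kernel
theorem p4u106 : ∀ k, 15836 ≤ k → k < 18083 → pointOk (k * 20) = true := between_extend pointOk 20 15836 18062 21 (p4u105) p4r106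

theorem p4r107 : allRange pointOk 20 18083 21 = true := by decide +kernel
theorem p4u107 : ∀ k, 15836 ≤ k → k < 18104 → pointOk (k * 20) = true := between_extend pointOk 20 15836 18083 21 (p4u106) p4r107

theorem p4r108 : allRange pointOk 20 18104 21 = true := by decide +kernel
theorem p4u108 : ∀ k, 15836 ≤ k → k < 18125 → pointOk (k * 20) = true := between_extend pointOk 20 15836 18104 21 (p4u107) p4r108

theorem p4r109 : allRange pointOk 20 18125 21 = true := by decide +kernel
theorem p4u109 : ∀ k, 15836 ≤ k → k < 18146 → pointOk (k * 20) = true := between_extend pointOk 20 15836 18125 21 (p4u108) p4r109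

theorem p4r110 : allRange pointOk 20 18146 21 = true := by decide +kernel
theorem p4u110 : ∀ k, 15836 ≤ k → k < 18167 → pointOk (k * 20) = true := between_extend pointOk 20 15836 18146 21 (p4u109) p4r110

theorem p4r111 : allRange pointOk 20 18167 21 = true := by decide +kernel
theorem p4u111 : ∀ k, 15836 ≤ k → k < 18188 → pointOk (k * 20) = true := between_extend pointOk 20 15836 18167 21 (p4u110) p4r111

theorem p4r112 : allRange pointOk 20 18188 21 = true := by decide +kernel
theorem p4u112 : ∀ k, 15836 ≤ k → k < 18209 → pointOk (k * 20) = true := between_extend pointOk 20 15836 18188 21 (p4u111) p4r112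

theorem p4r113 : allRange pointOk 20 18209 21 = true := by decide +kernel
theorem p4u113 : ∀ k, 15836 ≤ k → k < 18230 → pointOk (k * 20) = true := between_extend pointOk 20 15836 18209 21 (p4u112) p4r113

theorem p4r114 : allRange pointOk 20 18230 21 = true := by decide +kernel
theorem p4u114 : ∀ k, 15836 ≤ k → k < 18251 → pointOk (k * 20) = true := between_extend pointOk 20 15836 18230 21 (p4u113) p4r114

theorem p4r115 : allRange pointOk 20 18251 21 = true := by decide +kernel
theorem p4u115 : ∀ k, 15836 ≤ k → k < 18272 → pointOk (k * 20) = true := between_extend pointOk 20 15836 18251 21 (p4u114) p4r115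

theorem p4r116 : allRange pointOk 20 18272 21 = true := by decide +kernel
theorem p4u116 : ∀ k, 15836 ≤ k → k < 18293 → pointOk (k * 20) = true := between_extend pointOk 20 15836 18272 21 (p4u115) p4r116

theorem p4r117 : allRange pointOk 20 18293 21 = true := by decide +kernel
theorem p4u117 : ∀ k, 15836 ≤ k → k < 18314 → pointOk (k * 20) = true := between_extend pointOk 20 15836 18293 21 (p4u116) p4r117

theorem p4r118 : allRange pointOk 20 18314 21 = true := by decide +kernel
theorem p4u118 : ∀ k, 15836 ≤ k → k < 18335 → pointOk (k * 20) = true := between_extend pointOk 20 15836 18314 21 (p4u117) p4r118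

theorem p4r119 : allRange pointOk 20 18335 21 = true := by decide +kernel
theorem p4u119 : ∀ k, 15836 ≤ k → k < 18356 → pointOk (k * 20) = true := between_extend pointOk 20 15836 18335 21 (p4u118) p4r119

theorem p4r120 : allRange pointOk 20 18356 21 = true := by decide +kernel
theorem p4u120 : ∀ k, 15836 ≤ k → k < 18377 → pointOk (k * 20) = true := between_extend pointOk 20 15836 18356 21 (p4u119) p4r120

theorem p4r121 : allRange pointOk 20 18377 21 = true := by decide +kernel
theorem p4u121 : ∀ k, 15836 ≤ k → k < 18398 → pointOk (k * 20) = true := between_extend pointOk 20 15836 18377 21 (p4u120) p4r121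

theorem p4r122 : allRange pointOk 20 18398 21 = true := by decide +kernel
theorem p4u122 : ∀ k, 15836 ≤ k → k < 18419 → pointOk (k * 20) = true := between_extend pointOk 20 15836 18398 21 (p4u121) p4r122

theorem p4r123 : allRange pointOk 20 18419 21 = true := by decide +kernel
theorem p4u123 : ∀ k, 15836 ≤ k → k < 18440 → pointOk (k * 20) = true := between_extend pointOk 20 15836 18419 21 (p4u122) p4r123

theorem p4r124 : allRange pointOk 20 18440 21 = true := by decide +kernel
theorem p4u124 : ∀ k, 15836 ≤ k → k < 18461 → pointOk (k * 20) = true := between_extend pointOk 20 15836 18440 21 (p4u123) p4r124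

theorem p4r125 : allRange pointOk 20 18461 21 = true := by decide +kernel
theorem p4u125 : ∀ k, 15836 ≤ k → k < 18482 → pointOk (k * 20) = true := between_extend pointOk 20 15836 18461 21 (p4u124) p4r125

theorem p4r126 : allRange pointOk 20 18482 21 = true := by decide +kernel
theorem p4u126 : ∀ k, 15836 ≤ k → k < 18503 → pointOk (k * 20) = true := between_extend pointOk 20 15836 18482 21 (p4u125) p4r126

theorem p4r127 : allRange pointOk 20 18503 21 = true := by decide +kernel
theorem p4u127 : ∀ k, 15836 ≤ k → k < 18524 → pointOk (k * 20) = true := between_extend pointOk 20 15836 18503 21 (p4u126) p4r127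

theorem p4r128 : allRange pointOk 20 18524 21 = true := by decide +kernel
theorem p4u128 : ∀ k, 15836 ≤ k → k < 18545 → pointOk (k * 20) = true := between_extend pointOk 20 15836 18524 21 (p4u127) p4r128

theorem p4r129 : allRange pointOk 20 18545 21 = true := by decide +kernel
theorem p4u129 : ∀ k, 15836 ≤ k → k < 18566 → pointOk (k * 20) = true := between_extend pointOk 20 15836 18545 21 (p4u128) p4r129

theorem p4r130 : allRange pointOk 20 18566 21 = true := by decide +kernel
theorem p4u130 : ∀ k, 15836 ≤ k → k < 18587 → pointOk (k * 20) = true := between_extend pointOk 20 15836 18566 21 (p4u129) p4r130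

theorem p4r131 : allRange pointOk 20 18587 21 = true := by decide +kernel
theorem p4u131 : ∀ k, 15836 ≤ k → k < 18608 → pointOk (k * 20) = true := between_extend pointOk 20 15836 18587 21 (p4u130) p4r131

theorem p4r132 : allRange pointOk 20 18608 21 = true := by decide +kernel
theorem p4u132 : ∀ k, 15836 ≤ k → k < 18629 → pointOk (k * 20) = true := between_extend pointOk 20 15836 18608 21 (p4u131) p4r132

theorem p4r133 : allRange pointOk 20 18629 21 = true := by decide +kernel
theorem p4u133 : ∀ k, 15836 ≤ k → k < 18650 → pointOk (k * 20) = true := between_extend pointOk 20 15836 18629 21 (p4u132) p4r133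

theorem p4r134 : allRange pointOk 20 18650 21 = true := by decide +kernel
theorem p4u134 : ∀ k, 15836 ≤ k → k < 18671 → pointOk (k * 20) = true := between_extend pointOk 20 15836 18650 21 (p4u133) p4r134

theorem p4r135 : allRange pointOk 20 18671 21 = true := by decide +kernel
theorem p4u135 : ∀ k, 15836 ≤ k → k < 18692 → pointOk (k * 20) = true := between_extend pointOk 20 15836 18671 21 (p4u134) p4r135

theorem p4r136 : allRange pointOk 20 18692 21 = true := by decide +kernel
theorem p4u136 : ∀ k, 15836 ≤ k → k < 18713 → pointOk (k * 20) = true := between_extend pointOk 20 15836 18692 21 (p4u135) p4r136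

theorem p4r137 : allRange pointOk 20 18713 21 = true := by decide +kernel
theorem p4u137 : ∀ k, 15836 ≤ k → k < 18734 → pointOk (k * 20) = true := between_extend pointOk 20 15836 18713 21 (p4u136) p4r137

theorem p4r138 : allRange pointOk 20 18734 21 = true := by decide +kernel
theorem p4u138 : ∀ k, 15836 ≤ k → k < 18755 → pointOk (k * 20) = true := between_extend pointOk 20 15836 18734 21 (p4u137) p4r138

theorem p4r139 : allRange pointOk 20 18755 21 = true := by decide +kernel
theorem p4u139 : ∀ k, 15836 ≤ k → k < 18776 → pointOk (k * 20) = true := between_extend pointOk 20 15836 18755 21 (p4u138) p4r139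

theorem p4r140 : allRange pointOk 20 18776 21 = true := by decide +kernel
theorem p4u140 : ∀ k, 15836 ≤ k → k < 18797 → pointOk (k * 20) = true := between_extend pointOk 20 15836 18776 21 (p4u139) p4r140

theorem p4r141 : allRange pointOk 20 18797 21 = true := by decide +kernel
theorem p4u141 : ∀ k, 15836 ≤ k → k < 18818 → pointOk (k * 20) = true := between_extend pointOk 20 15836 18797 21 (p4u140) p4r141

theorem p4r142 : allRange pointOk 20 18818 21 = true := by decide +kernel
theorem p4u142 : ∀ k, 15836 ≤ k → k < 18839 → pointOk (k * 20) = true := between_extend pointOk 20 15836 18818 21 (p4u141) p4r142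

theorem p4r143 : allRange pointOk 20 18839 21 = true := by decide +kernel
theorem p4u143 : ∀ k, 15836 ≤ k → k < 18860 → pointOk (k * 20) = true := between_extend pointOk 20 15836 18839 21 (p4u142) p4r143

theorem p4r144 : allRange pointOk 20 18860 21 = true := by decide +kernel
theorem p4u144 : ∀ k, 15836 ≤ k → k < 18881 → pointOk (k * 20) = true := between_extend pointOk 20 15836 18860 21 (p4u143) p4r144

theorem p4r145 : allRange pointOk 20 18881 21 = true := by decide +kernel
theorem p4u145 : ∀ k, 15836 ≤ k → k < 18902 → pointOk (k * 20) = true := between_extend pointOk 20 15836 18881 21 (p4u144) p4r145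

theorem p4r146 : allRange pointOk 20 18902 21 = true := by decide +kernel
theorem p4u146 : ∀ k, 15836 ≤ k → k < 18923 → pointOk (k * 20) = true := between_extend pointOk 20 15836 18902 21 (p4u145) p4r146

theorem p4r147 : allRange pointOk 20 18923 21 = true := by decide +kernel
theorem p4u147 : ∀ k, 15836 ≤ k → k < 18944 → pointOk (k * 20) = true := between_extend pointOk 20 15836 18923 21 (p4u146) p4r147

theorem p4r148 : allRange pointOk 20 18944 21 = true := by decide +kernel
theorem p4u148 : ∀ k, 15836 ≤ k → k < 18965 → pointOk (k * 20) = true := between_extend pointOk 20 15836 18944 21 (p4u147) p4r148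

theorem p4r149 : allRange pointOk 20 18965 21 = true := by decide +kernel
theorem p4u149 : ∀ k, 15836 ≤ k → k < 18986 → pointOk (k * 20) = true := between_extend pointOk 20 15836 18965 21 (p4u148) p4r149

theorem p4r150 : allRange pointOk 20 18986 21 = true := by decide +kernel
theorem p4u150 : ∀ k, 15836 ≤ k → k < 19007 → pointOk (k * 20) = true := between_extend pointOk 20 15836 18986 21 (p4u149) p4r150

theorem p4r151 : allRange pointOk 20 19007 21 = true := by decide +kernel
theorem p4u151 : ∀ k, 15836 ≤ k → k < 19028 → pointOk (k * 20) = true := between_extend pointOk 20 15836 19007 21 (p4u150) p4r151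

theorem p4r152 : allRange pointOk 20 19028 21 = true := by decide +kernel
theorem p4u152 : ∀ k, 15836 ≤ k → k < 19049 → pointOk (k * 20) = true := between_extend pointOk 20 15836 19028 21 (p4u151) p4r152

theorem p4r153 : allRange pointOk 20 19049 21 = true := by decide +kernel
theorem p4u153 : ∀ k, 15836 ≤ k → k < 19070 → pointOk (k * 20) = true := between_extend pointOk 20 15836 19049 21 (p4u152) p4r153

theorem p4r154 : allRange pointOk 20 19070 21 = true := by decide +kernel
theorem p4u154 : ∀ k, 15836 ≤ k → k < 19091 → pointOk (k * 20) = true := between_extend pointOk 20 15836 19070 21 (p4u153) p4r154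

theorem p4r155 : allRange pointOk 20 19091 21 = true := by decide +kernel
theorem p4u155 : ∀ k, 15836 ≤ k → k < 19112 → pointOk (k * 20) = true := between_extend pointOk 20 15836 19091 21 (p4u154) p4r155

theorem p4r156 : allRange pointOk 20 19112 21 = true := by decide +kernel
theorem p4u156 : ∀ k, 15836 ≤ k → k < 19133 → pointOk (k * 20) = true := between_extend pointOk 20 15836 19112 21 (p4u155) p4r156

theorem p4r157 : allRange pointOk 20 19133 21 = true := by decide +kernel
theorem p4u157 : ∀ k, 15836 ≤ k → k < 19154 → pointOk (k * 20) = true := between_extend pointOk 20 15836 19133 21 (p4u156) p4r157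

theorem p4r158 : allRange pointOk 20 19154 21 = true := by decide +kernel
theorem p4u158 : ∀ k, 15836 ≤ k → k < 19175 → pointOk (k * 20) = true := between_extend pointOk 20 15836 19154 21 (p4u157) p4r158

theorem p4r159 : allRange pointOk 20 19175 21 = true := by decide +kernel
theorem p4u159 : ∀ k, 15836 ≤ k → k < 19196 → pointOk (k * 20) = true := between_extend pointOk 20 15836 19175 21 (p4u158) p4r159

theorem p4r160 : allRange pointOk 20 19196 21 = true := by decide +kernel
theorem p4u160 : ∀ k, 15836 ≤ k → k < 19217 → pointOk (k * 20) = true := between_extend pointOk 20 15836 19196 21 (p4u159) p4r160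

theorem p4r161 : allRange pointOk 20 19217 21 = true := by decide +kernel
theorem p4u161 : ∀ k, 15836 ≤ k → k < 19238 → pointOk (k * 20) = true := between_extend pointOk 20 15836 19217 21 (p4u160) p4r161

theorem p4r162 : allRange pointOk 20 19238 21 = true := by decide +kernel
theorem p4u162 : ∀ k, 15836 ≤ k → k < 19259 → pointOk (k * 20) = true := between_extend pointOk 20 15836 19238 21 (p4u161) p4r162

theorem p4r163 : allRange pointOk 20 19259 21 = true := by decide +kernel
theorem p4u163 : ∀ k, 15836 ≤ k → k < 19280 → pointOk (k * 20) = true := between_extend pointOk 20 15836 19259 21 (p4u162) p4r163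

theorem p4r164 : allRange pointOk 20 19280 21 = true := by decide +kernel
theorem p4u164 : ∀ k, 15836 ≤ k → k < 19301 → pointOk (k * 20) = true := between_extend pointOk 20 15836 19280 21 (p4u163) p4r164

theorem p4r165 : allRange pointOk 20 19301 21 = true := by decide +kernel
theorem p4u165 : ∀ k, 15836 ≤ k → k < 19322 → pointOk (k * 20) = true := between_extend pointOk 20 15836 19301 21 (p4u164) p4r165

theorem p4r166 : allRange pointOk 20 19322 21 = true := by decide +kernel
theorem p4u166 : ∀ k, 15836 ≤ k → k < 19343 → pointOk (k * 20) = true := between_extend pointOk 20 15836 19322 21 (p4u165) p4r166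

theorem p4r167 : allRange pointOk 20 19343 21 = true := by decide +kernel
theorem p4u167 : ∀ k, 15836 ≤ k → k < 19364 → pointOk (k * 20) = true := between_extend pointOk 20 15836 19343 21 (p4u166) p4r167

theorem p4r168 : allRange pointOk 20 19364 21 = true := by decide +kernel
theorem p4u168 : ∀ k, 15836 ≤ k → k < 19385 → pointOk (k * 20) = true := between_extend pointOk 20 15836 19364 21 (p4u167) p4r168

theorem p4r169 : allRange pointOk 20 19385 21 = true := by decide +kernel
theorem p4u169 : ∀ k, 15836 ≤ k → k < 19406 → pointOk (k * 20) = true := between_extend pointOk 20 15836 19385 21 (p4u168) p4r169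

theorem p4r170 : allRange pointOk 20 19406 21 = true := by decide +kernel
theorem p4u170 : ∀ k, 15836 ≤ k → k < 19427 → pointOk (k * 20) = true := between_extend pointOk 20 15836 19406 21 (p4u169) p4r170

theorem p4r171 : allRange pointOk 20 19427 21 = true := by decide +kernel
theorem p4u171 : ∀ k, 15836 ≤ k → k < 19448 → pointOk (k * 20) = true := between_extend pointOk 20 15836 19427 21 (p4u170) p4r171

theorem p4r172 : allRange pointOk 20 19448 21 = true := by decide +kernel
theorem p4u172 : ∀ k, 15836 ≤ k → k < 19469 → pointOk (k * 20) = true := between_extend pointOk 20 15836 19448 21 (p4u171) p4r172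

theorem p4r173 : allRange pointOk 20 19469 21 = true := by decide +kernel
theorem p4u173 : ∀ k, 15836 ≤ k → k < 19490 → pointOk (k * 20) = true := between_extend pointOk 20 15836 19469 21 (p4u172) p4r173

theorem p4r174 : allRange pointOk 20 19490 21 = true := by decide +kernel
theorem p4u174 : ∀ k, 15836 ≤ k → k < 19511 → pointOk (k * 20) = true := between_extend pointOk 20 15836 19490 21 (p4u173) p4r174

theorem p4r175 : allRange pointOk 20 19511 21 = true := by decide +kernel
theorem p4u175 : ∀ k, 15836 ≤ k → k < 19532 → pointOk (k * 20) = true := between_extend pointOk 20 15836 19511 21 (p4u174) p4r175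

theorem p4r176 : allRange pointOk 20 19532 21 = true := by decide +kernel
theorem p4u176 : ∀ k, 15836 ≤ k → k < 19553 → pointOk (k * 20) = true := between_extend pointOk 20 15836 19532 21 (p4u175) p4r176

theorem p4r177 : allRange pointOk 20 19553 21 = true := by decide +kernel
theorem p4u177 : ∀ k, 15836 ≤ k → k < 19574 → pointOk (k * 20) = true := between_extend pointOk 20 15836 19553 21 (p4u176) p4r177

theorem p4r178 : allRange pointOk 20 19574 21 = true := by decide +kernel
theorem p4u178 : ∀ k, 15836 ≤ k → k < 19595 → pointOk (k * 20) = true := between_extend pointOk 20 15836 19574 21 (p4u177) p4r178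

theorem p4r179 : allRange pointOk 20 19595 21 = true := by decide +kernel
theorem p4u179 : ∀ k, 15836 ≤ k → k < 19616 → pointOk (k * 20) = true := between_extend pointOk 20 15836 19595 21 (p4u178) p4r179

theorem p4r180 : allRange pointOk 20 19616 21 = true := by decide +kernel
theorem p4u180 : ∀ k, 15836 ≤ k → k < 19637 → pointOk (k * 20) = true := between_extend pointOk 20 15836 19616 21 (p4u179) p4r180

theorem p4r181 : allRange pointOk 20 19637 21 = true := by decide +kernel
theorem p4u181 : ∀ k, 15836 ≤ k → k < 19658 → pointOk (k * 20) = true := between_extend pointOk 20 15836 19637 21 (p4u180) p4r181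

theorem p4r182 : allRange pointOk 20 19658 21 = true := by decide +kernel
theorem p4u182 : ∀ k, 15836 ≤ k → k < 19679 → pointOk (k * 20) = true := between_extend pointOk 20 15836 19658 21 (p4u181) p4r182

theorem p4r183 : allRange pointOk 20 19679 21 = true := by decide +kernel
theorem p4u183 : ∀ k, 15836 ≤ k → k < 19700 → pointOk (k * 20) = true := between_extend pointOk 20 15836 19679 21 (p4u182) p4r183

theorem p4r184 : allRange pointOk 20 19700 21 = true := by decide +kernel
theorem p4u184 : ∀ k, 15836 ≤ k → k < 19721 → pointOk (k * 20) = true := between_extend pointOk 20 15836 19700 21 (p4u183) p4r184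

theorem p4r185 : allRange pointOk 20 19721 21 = true := by decide +kernel
theorem p4u185 : ∀ k, 15836 ≤ k → k < 19742 → pointOk (k * 20) = true := between_extend pointOk 20 15836 19721 21 (p4u184) p4r185

theorem p4r186 : allRange pointOk 20 19742 21 = true := by decide +kernel
theorem p4u186 : ∀ k, 15836 ≤ k → k < 19763 → pointOk (k * 20) = true := between_extend pointOk 20 15836 19742 21 (p4u185) p4r186

theorem p4r187 : allRange pointOk 20 19763 21 = true := by decide +kernel
theorem p4u187 : ∀ k, 15836 ≤ k → k < 19784 → pointOk (k * 20) = true := between_extend pointOk 20 15836 19763 21 (p4u186) p4r187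

theorem p4r188 : allRange pointOk 20 19784 11 = true := by decide +kernel
theorem p4u188 : ∀ k, 15836 ≤ k → k < 19795 → pointOk (k * 20) = true := between_extend pointOk 20 15836 19784 11 (p4u187) p4r188

theorem p4 : ∀ k, 15836 ≤ k → k < 19795 → pointOk (k * 20) = true := p4u188

end Cfsg.Agent.Lib.Helper28_S1689
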