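import Cfsg.Agent.Lib.Helper28_S1689Def

set_option autoImplicit false
set_option linter.constructorNameAsVariable false
set_option Elab.async false

namespace Cfsg.Agent.Lib.Helper28_S1689

open Cfsg.Agent.Lib.Helper28_CosetPerm

theorem p5r0 : allRange pointOk 20 19795 21 = true := by decide +kernel
theorem p5u0 : ∀ k, 19795 ≤ k → k < 19816 → pointOk (k * 20) = true := between_extend pointOk 20 19795 19795 21 (between_start pointOk 20 19795) p5r0

theorem p5r1 : allRange pointOk 20 19816 21 = true := by decide +kernel
theorem p5u1 : ∀ k, 19795 ≤ k → k < 19837 → pointOk (k * 20) = true := between_extend pointOk 20 19795 19816 21 (p5u0) p5r1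

theorem p5r2 : allRange pointOk 20 19837 21 = true := by decide +kernel
theorem p5u2 : ∀ k, 19795 ≤ k → k < 19858 → pointOk (k * 20) = true := between_extend pointOk 20 19795 19837 21 (p5u1) p5r2

theorem p5r3 : allRange pointOk 20 19858 21 = true := by decide +kernel
theorem p5u3 : ∀ k, 19795 ≤ k → k < 19879 → pointOk (k * 20) = true := between_extend pointOk 20 19795 19858 21 (p5u2) p5r3

theorem p5r4 : allRange pointOk 20 19879 21 = true := by decide +kernel
theorem p5u4 : ∀ k, 19795 ≤ k → k < 19900 → pointOk (k * 20) = true := between_extend pointOk 20 19795 19879 21 (p5u3) p5r4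

theorem p5r5 : allRange pointOk 20 19900 21 = true := by decide +kernel
theorem p5u5 : ∀ k, 19795 ≤ k → k < 19921 → pointOk (k * 20) = true := between_extend pointOk 20 19795 19900 21 (p5u4) p5r5

theorem p5r6 : allRange pointOk 20 19921 21 = true := by decide +kernel
theorem p5u6 : ∀ k, 19795 ≤ k → k < 19942 → pointOk (k * 20) = true := between_extend pointOk 20 19795 19921 21 (p5u5) p5r6

theorem p5r7 : allRange pointOk 20 19942 21 = true := by decide +kernel
theorem p5u7 : ∀ k, 19795 ≤ k → k < 19963 → pointOk (k * 20) = true := between_extend pointOk 20 19795 19942 21 (p5u6) p5r7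

theorem p5r8 : allRange pointOk 20 19963 21 = true := by decide +kernel
theorem p5u8 : ∀ k, 19795 ≤ k → k < 19984 → pointOk (k * 20) = true := between_extend pointOk 20 19795 19963 21 (p5u7) p5r8

theorem p5r9 : allRange pointOk 20 19984 21 = true := by decide +kernel
theorem p5u9 : ∀ k, 19795 ≤ k → k < 20005 → pointOk (k * 20) = true := between_extend pointOk 20 19795 19984 21 (p5u8) p5r9

theorem p5r10 : allRange pointOk 20 20005 21 = true := by decide +kernel
theorem p5u10 : ∀ k, 19795 ≤ k → k < 20026 → pointOk (k * 20) = true := between_extend pointOk 20 19795 20005 21 (p5u9) p5r10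

theorem p5r11 : allRange pointOk 20 20026 21 = true := by decide +kernel
theorem p5u11 : ∀ k, 19795 ≤ k → k < 20047 → pointOk (k * 20) = true := between_extend pointOk 20 19795 20026 21 (p5u10) p5r11

theorem p5r12 : allRange pointOk 20 20047 21 = true := by decide +kernel
theorem p5u12 : ∀ k, 19795 ≤ k → k < 20068 → pointOk (k * 20) = true := between_extend pointOk 20 19795 20047 21 (p5u11) p5r12

theorem p5r13 : allRange pointOk 20 20068 21 = true := by decide +kernel
theorem p5u13 : ∀ k, 19795 ≤ k → k < 20089 → pointOk (k * 20) = true := between_extend pointOk 20 19795 20068 21 (p5u12) p5r13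

theorem p5r14 : allRange pointOk 20 20089 21 = true := by decide +kernel
theorem p5u14 : ∀ k, 19795 ≤ k → k < 20110 → pointOk (k * 20) = true := between_extend pointOk 20 19795 20089 21 (p5u13) p5r14

theorem p5r15 : allRange pointOk 20 20110 21 = true := by decide +kernel
theorem p5u15 : ∀ k, 19795 ≤ k → k < 20131 → pointOk (k * 20) = true := between_extend pointOk 20 19795 20110 21 (p5u14) p5r15

theorem p5r16 : allRange pointOk 20 20131 21 = true := by decide +kernel
theorem p5u16 : ∀ k, 19795 ≤ k → k < 20152 → pointOk (k * 20) = true := between_extend pointOk 20 19795 20131 21 (p5u15) p5r16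

theorem p5r17 : allRange pointOk 20 20152 21 = true := by decide +kernel
theorem p5u17 : ∀ k, 19795 ≤ k → k < 20173 → pointOk (k * 20) = true := between_extend pointOk 20 19795 20152 21 (p5u16) p5r17

theorem p5r18 : allRange pointOk 20 20173 21 = true := by decide +kernel
theorem p5u18 : ∀ k, 19795 ≤ k → k < 20194 → pointOk (k * 20) = true := between_extend pointOk 20 19795 20173 21 (p5u17) p5r18

theorem p5r19 : allRange pointOk 20 20194 21 = true := by decide +kernel
theorem p5u19 : ∀ k, 19795 ≤ k → k < 20215 → pointOk (k * 20) = true := between_extend pointOk 20 19795 20194 21 (p5u18) p5r19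

theorem p5r20 : allRange pointOk 20 20215 21 = true := by decide +kernel
theorem p5u20 : ∀ k, 19795 ≤ k → k < 20236 → pointOk (k * 20) = true := between_extend pointOk 20 19795 20215 21 (p5u19) p5r20

theorem p5r21 : allRange pointOk 20 20236 21 = true := by decide +kernel
theorem p5u21 : ∀ k, 19795 ≤ k → k < 20257 → pointOk (k * 20) = true := between_extend pointOk 20 19795 20236 21 (p5u20) p5r21

theorem p5r22 : allRange pointOk 20 20257 21 = true := by decide +kernel
theorem p5u22 : ∀ k, 19795 ≤ k → k < 20278 → pointOk (k * 20) = true := between_extend pointOk 20 19795 20257 21 (p5u21) p5r22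

theorem p5r23 : allRange pointOk 20 20278 21 = true := by decide +kernel
theorem p5u23 : ∀ k, 19795 ≤ k → k < 20299 → pointOk (k * 20) = true := between_extend pointOk 20 19795 20278 21 (p5u22) p5r23

theorem p5r24 : allRange pointOk 20 20299 21 = true := by decide +kernel
theorem p5u24 : ∀ k, 19795 ≤ k → k < 20320 → pointOk (k * 20) = true := between_extend pointOk 20 19795 20299 21 (p5u23) p5r24

theorem p5r25 : allRange pointOk 20 20320 21 = true := by decide +kernel
theorem p5u25 : ∀ k, 19795 ≤ k → k < 20341 → pointOk (k * 20) = true := between_extend pointOk 20 19795 20320 21 (p5u24) p5r25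

theorem p5r26 : allRange pointOk 20 20341 21 = true := by decide +kernel
theorem p5u26 : ∀ k, 19795 ≤ k → k < 20362 → pointOk (k * 20) = true := between_extend pointOk 20 19795 20341 21 (p5u25) p5r26

theorem p5r27 : allRange pointOk 20 20362 21 = true := by decide +kernel
theorem p5u27 : ∀ k, 19795 ≤ k → k < 20383 → pointOk (k * 20) = true := between_extend pointOk 20 19795 20362 21 (p5u26) p5r27

theorem p5r28 : allRange pointOk 20 20383 21 = true := by decide +kernel
theorem p5u28 : ∀ k, 19795 ≤ k → k < 20404 → pointOk (k * 20) = true := between_extend pointOk 20 19795 20383 21 (p5u27) p5r28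

theorem p5r29 : allRange pointOk 20 20404 21 = true := by decide +kernel
theorem p5u29 : ∀ k, 19795 ≤ k → k < 20425 → pointOk (k * 20) = true := between_extend pointOk 20 19795 20404 21 (p5u28) p5r29

theorem p5r30 : allRange pointOk 20 20425 21 = true := by decide +kernel
theorem p5u30 : ∀ k, 19795 ≤ k → k < 20446 → pointOk (k * 20) = true := between_extend pointOk 20 19795 20425 21 (p5u29) p5r30

theorem p5r31 : allRange pointOk 20 20446 21 = true := by decide +kernel
theorem p5u31 : ∀ k, 19795 ≤ k → k < 20467 → pointOk (k * 20) = true := between_extend pointOk 20 19795 20446 21 (p5u30) p5r31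

theorem p5r32 : allRange pointOk 20 20467 21 = true := by decide +kernel
theorem p5u32 : ∀ k, 19795 ≤ k → k < 20488 → pointOk (k * 20) = true := between_extend pointOk 20 19795 20467 21 (p5u31) p5r32

theorem p5r33 : allRange pointOk 20 20488 21 = true := by decide +kernel
theorem p5u33 : ∀ k, 19795 ≤ k → k < 20509 → pointOk (k * 20) = true := between_extend pointOk 20 19795 20488 21 (p5u32) p5r33

theorem p5r34 : allRange pointOk 20 20509 21 = true := by decide +kernel
theorem p5u34 : ∀ k, 19795 ≤ k → k < 20530 → pointOk (k * 20) = true := between_extend pointOk 20 19795 20509 21 (p5u33) p5r34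

theorem p5r35 : allRange pointOk 20 20530 21 = true := by decide +kernel
theorem p5u35 : ∀ k, 19795 ≤ k → k < 20551 → pointOk (k * 20) = true := between_extend pointOk 20 19795 20530 21 (p5u34) p5r35

theorem p5r36 : allRange pointOk 20 20551 21 = true := by decide +kernel
theorem p5u36 : ∀ k, 19795 ≤ k → k < 20572 → pointOk (k * 20) = true := between_extend pointOk 20 19795 20551 21 (p5u35) p5r36

theorem p5r37 : allRange pointOk 20 20572 21 = true := by decide +kernel
theorem p5u37 : ∀ k, 19795 ≤ k → k < 20593 → pointOk (k * 20) = true := between_extend pointOk 20 19795 20572 21 (p5u36) p5r37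

theorem p5r38 : allRange pointOk 20 20593 21 = true := by decide +kernel
theorem p5u38 : ∀ k, 19795 ≤ k → k < 20614 → pointOk (k * 20) = true := between_extend pointOk 20 19795 20593 21 (p5u37) p5r38

theorem p5r39 : allRange pointOk 20 20614 21 = true := by decide +kernel
theorem p5u39 : ∀ k, 19795 ≤ k → k < 20635 → pointOk (k * 20) = true := between_extend pointOk 20 19795 20614 21 (p5u38) p5r39

theorem p5r40 : allRange pointOk 20 20635 21 = true := by decide +kernel
theorem p5u40 : ∀ k, 19795 ≤ k → k < 20656 → pointOk (k * 20) = true := between_extend pointOk 20 19795 20635 21 (p5u39) p5r40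

theorem p5r41 : allRange pointOk 20 20656 21 = true := by decide +kernel
theorem p5u41 : ∀ k, 19795 ≤ k → k < 20677 → pointOk (k * 20) = true := between_extend pointOk 20 19795 20656 21 (p5u40) p5r41

theorem p5r42 : allRange pointOk 20 20677 21 = true := by decide +kernel
theorem p5u42 : ∀ k, 19795 ≤ k → k < 20698 → pointOk (k * 20) = true := between_extend pointOk 20 19795 20677 21 (p5u41) p5r42

theorem p5r43 : allRange pointOk 20 20698 21 = true := by decide +kernel
theorem p5u43 : ∀ k, 19795 ≤ k → k < 20719 → pointOk (k * 20) = true := between_extend pointOk 20 19795 20698 21 (p5u42) p5r43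

theorem p5r44 : allRange pointOk 20 20719 21 = true := by decide +kernel
theorem p5u44 : ∀ k, 19795 ≤ k → k < 20740 → pointOk (k * 20) = true := between_extend pointOk 20 19795 20719 21 (p5u43) p5r44

theorem p5r45 : allRange pointOk 20 20740 21 = true := by decide +kernel
theorem p5u45 : ∀ k, 19795 ≤ k → k < 20761 → pointOk (k * 20) = true := between_extend pointOk 20 19795 20740 21 (p5u44) p5r45

theorem p5r46 : allRange pointOk 20 20761 21 = true := by decide +kernel
theorem p5u46 : ∀ k, 19795 ≤ k → k < 20782 → pointOk (k * 20) = true := between_extend pointOk 20 19795 20761 21 (p5u45) p5r46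

theorem p5r47 : allRange pointOk 20 20782 21 = true := by decide +kernel
theorem p5u47 : ∀ k, 19795 ≤ k → k < 20803 → pointOk (k * 20) = true := between_extend pointOk 20 19795 20782 21 (p5u46) p5r47

theorem p5r48 : allRange pointOk 20 20803 21 = true := by decide +kernel
theorem p5u48 : ∀ k, 19795 ≤ k → k < 20824 → pointOk (k * 20) = true := between_extend pointOk 20 19795 20803 21 (p5u47) p5r48

theorem p5r49 : allRange pointOk 20 20824 21 = true := by decide +kernel
theorem p5u49 : ∀ k, 19795 ≤ k → k < 20845 → pointOk (k * 20) = true := between_extend pointOk 20 19795 20824 21 (p5u48) p5r49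

theorem p5r50 : allRange pointOk 20 20845 21 = true := by decide +kernel
theorem p5u50 : ∀ k, 19795 ≤ k → k < 20866 → pointOk (k * 20) = true := between_extend pointOk 20 19795 20845 21 (p5u49) p5r50

theorem p5r51 : allRange pointOk 20 20866 21 = true := by decide +kernel
theorem p5u51 : ∀ k, 19795 ≤ k → k < 20887 → pointOk (k * 20) = true := between_extend pointOk 20 19795 20866 21 (p5u50) p5r51

theorem p5r52 : allRange pointOk 20 20887 21 = true := by decide +kernel
theorem p5u52 : ∀ k, 19795 ≤ k → k < 20908 → pointOk (k * 20) = true := between_extend pointOk 20 19795 20887 21 (p5u51) p5r52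

theorem p5r53 : allRange pointOk 20 20908 21 = true := by decide +kernel
theorem p5u53 : ∀ k, 19795 ≤ k → k < 20929 → pointOk (k * 20) = true := between_extend pointOk 20 19795 20908 21 (p5u52) p5r53

theorem p5r54 : allRange pointOk 20 20929 21 = true := by decide +kernel
theorem p5u54 : ∀ k, 19795 ≤ k → k < 20950 → pointOk (k * 20) = true := between_extend pointOk 20 19795 20929 21 (p5u53) p5r54

theorem p5r55 : allRange pointOk 20 20950 21 = true := by decide +kernel
theorem p5u55 : ∀ k, 19795 ≤ k → k < 20971 → pointOk (k * 20) = true := between_extend pointOk 20 19795 20950 21 (p5u54) p5r55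

theorem p5r56 : allRange pointOk 20 20971 21 = true := by decide +kernel
theorem p5u56 : ∀ k, 19795 ≤ k → k < 20992 → pointOk (k * 20) = true := between_extend pointOk 20 19795 20971 21 (p5u55) p5r56

theorem p5r57 : allRange pointOk 20 20992 21 = true := by decide +kernel
theorem p5u57 : ∀ k, 19795 ≤ k → k < 21013 → pointOk (k * 20) = true := between_extend pointOk 20 19795 20992 21 (p5u56) p5r57

theorem p5r58 : allRange pointOk 20 21013 21 = true := by decide +kernel
theorem p5u58 : ∀ k, 19795 ≤ k → k < 21034 → pointOk (k * 20) = true := between_extend pointOk 20 19795 21013 21 (p5u57) p5r58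

theorem p5r59 : allRange pointOk 20 21034 21 = true := by decide +kernel
theorem p5u59 : ∀ k, 19795 ≤ k → k < 21055 → pointOk (k * 20) = true := between_extend pointOk 20 19795 21034 21 (p5u58) p5r59

theorem p5r60 : allRange pointOk 20 21055 21 = true := by decide +kernel
theorem p5u60 : ∀ k, 19795 ≤ k → k < 21076 → pointOk (k * 20) = true := between_extend pointOk 20 19795 21055 21 (p5u59) p5r60

theorem p5r61 : allRange pointOk 20 21076 21 = true := by decide +kernel
theorem p5u61 : ∀ k, 19795 ≤ k → k < 21097 → pointOk (k * 20) = true := between_extend pointOk 20 19795 21076 21 (p5u60) p5r61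

theorem p5r62 : allRange pointOk 20 21097 21 = true := by decide +kernel
theorem p5u62 : ∀ k, 19795 ≤ k → k < 21118 → pointOk (k * 20) = true := between_extend pointOk 20 19795 21097 21 (p5u61) p5r62

theorem p5r63 : allRange pointOk 20 21118 21 = true := by decide +kernel
theorem p5u63 : ∀ k, 19795 ≤ k → k < 21139 → pointOk (k * 20) = true := between_extend pointOk 20 19795 21118 21 (p5u62) p5r63

theorem p5r64 : allRange pointOk 20 21139 21 = true := by decide +kernel
theorem p5u64 : ∀ k, 19795 ≤ k → k < 21160 → pointOk (k * 20) = true := between_extend pointOk 20 19795 21139 21 (p5u63) p5r64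

theorem p5r65 : allRange pointOk 20 21160 21 = true := by decide +kernel
theorem p5u65 : ∀ k, 19795 ≤ k → k < 21181 → pointOk (k * 20) = true := between_extend pointOk 20 19795 21160 21 (p5u64) p5r65

theorem p5r66 : allRange pointOk 20 21181 21 = true := by decide +kernel
theorem p5u66 : ∀ k, 19795 ≤ k → k < 21202 → pointOk (k * 20) = true := between_extend pointOk 20 19795 21181 21 (p5u65) p5r66

theorem p5r67 : allRange pointOk 20 21202 21 = true := by decide +kernel
theorem p5u67 : ∀ k, 19795 ≤ k → k < 21223 → pointOk (k * 20) = true := between_extend pointOk 20 19795 21202 21 (p5u66) p5r67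

theorem p5r68 : allRange pointOk 20 21223 21 = true := by decide +kernel
theorem p5u68 : ∀ k, 19795 ≤ k → k < 21244 → pointOk (k * 20) = true := between_extend pointOk 20 19795 21223 21 (p5u67) p5r68

theorem p5r69 : allRange pointOk 20 21244 21 = true := by decide +kernel
theorem p5u69 : ∀ k, 19795 ≤ k → k < 21265 → pointOk (k * 20) = true := between_extend pointOk 20 19795 21244 21 (p5u68) p5r69

theorem p5r70 : allRange pointOk 20 21265 21 = true := by decide +kernel
theorem p5u70 : ∀ k, 19795 ≤ k → k < 21286 → pointOk (k * 20) = true := between_extend pointOk 20 19795 21265 21 (p5u69) p5r70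

theorem p5r71 : allRange pointOk 20 21286 21 = true := by decide +kernel
theorem p5u71 : ∀ k, 19795 ≤ k → k < 21307 → pointOk (k * 20) = true := between_extend pointOk 20 19795 21286 21 (p5u70) p5r71

theorem p5r72 : allRange pointOk 20 21307 21 = true := by decide +kernel
theorem p5u72 : ∀ k, 19795 ≤ k → k < 21328 → pointOk (k * 20) = true := between_extend pointOk 20 19795 21307 21 (p5u71) p5r72

theorem p5r73 : allRange pointOk 20 21328 21 = true := by decide +kernel
theorem p5u73 : ∀ k, 19795 ≤ k → k < 21349 → pointOk (k * 20) = true := between_extend pointOk 20 19795 21328 21 (p5u72) p5r73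

theorem p5r74 : allRange pointOk 20 21349 21 = true := by decide +kernel
theorem p5u74 : ∀ k, 19795 ≤ k → k < 21370 → pointOk (k * 20) = true := between_extend pointOk 20 19795 21349 21 (p5u73) p5r74

theorem p5r75 : allRange pointOk 20 21370 21 = true := by decide +kernel
theorem p5u75 : ∀ k, 19795 ≤ k → k < 21391 → pointOk (k * 20) = true := between_extend pointOk 20 19795 21370 21 (p5u74) p5r75

theorem p5r76 : allRange pointOk 20 21391 21 = true := by decide +kernel
theorem p5u76 : ∀ k, 19795 ≤ k → k < 21412 → pointOk (k * 20) = true := between_extend pointOk 20 19795 21391 21 (p5u75) p5r76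

theorem p5r77 : allRange pointOk 20 21412 21 = true := by decide +kernel
theorem p5u77 : ∀ k, 19795 ≤ k → k < 21433 → pointOk (k * 20) = true := between_extend pointOk 20 19795 21412 21 (p5u76) p5r77

theorem p5r78 : allRange pointOk 20 21433 21 = true := by decide +kernel
theorem p5u78 : ∀ k, 19795 ≤ k → k < 21454 → pointOk (k * 20) = true := between_extend pointOk 20 19795 21433 21 (p5u77) p5r78

theorem p5r79 : allRange pointOk 20 21454 21 = true := by decide +kernel
theorem p5u79 : ∀ k, 19795 ≤ k → k < 21475 → pointOk (k * 20) = true := between_extend pointOk 20 19795 21454 21 (p5u78) p5r79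

theorem p5r80 : allRange pointOk 20 21475 21 = true := by decide +kernel
theorem p5u80 : ∀ k, 19795 ≤ k → k < 21496 → pointOk (k * 20) = true := between_extend pointOk 20 19795 21475 21 (p5u79) p5r80

theorem p5r81 : allRange pointOk 20 21496 21 = true := by decide +kernel
theorem p5u81 : ∀ k, 19795 ≤ k → k < 21517 → pointOk (k * 20) = true := between_extend pointOk 20 19795 21496 21 (p5u80) p5r81

theorem p5r82 : allRange pointOk 20 21517 21 = true := by decide +kernel
theorem p5u82 : ∀ k, 19795 ≤ k → k < 21538 → pointOk (k * 20) = true := between_extend pointOk 20 19795 21517 21 (p5u81) p5r82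

theorem p5r83 : allRange pointOk 20 21538 21 = true := by decide +kernel
theorem p5u83 : ∀ k, 19795 ≤ k → k < 21559 → pointOk (k * 20) = true := between_extend pointOk 20 19795 21538 21 (p5u82) p5r83

theorem p5r84 : allRange pointOk 20 21559 21 = true := by decide +kernel
theorem p5u84 : ∀ k, 19795 ≤ k → k < 21580 → pointOk (k * 20) = true := between_extend pointOk 20 19795 21559 21 (p5u83) p5r84

theorem p5r85 : allRange pointOk 20 21580 21 = true := by decide +kernel
theorem p5u85 : ∀ k, 19795 ≤ k → k < 21601 → pointOk (k * 20) = true := between_extend pointOk 20 19795 21580 21 (p5u84) p5r85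

theorem p5r86 : allRange pointOk 20 21601 21 = true := by decide +kernel
theorem p5u86 : ∀ k, 19795 ≤ k → k < 21622 → pointOk (k * 20) = true := between_extend pointOk 20 19795 21601 21 (p5u85) p5r86

theorem p5r87 : allRange pointOk 20 21622 21 = true := by decide +kernel
theorem p5u87 : ∀ k, 19795 ≤ k → k < 21643 → pointOk (k * 20) = true := between_extend pointOk 20 19795 21622 21 (p5u86) p5r87

theorem p5r88 : allRange pointOk 20 21643 21 = true := by decide +kernel
theorem p5u88 : ∀ k, 19795 ≤ k → k < 21664 → pointOk (k * 20) = true := between_extend pointOk 20 19795 21643 21 (p5u87) p5r88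

theorem p5r89 : allRange pointOk 20 21664 21 = true := by decide +kernel
theorem p5u89 : ∀ k, 19795 ≤ k → k < 21685 → pointOk (k * 20) = true := between_extend pointOk 20 19795 21664 21 (p5u88) p5r89

theorem p5r90 : allRange pointOk 20 21685 21 = true := by decide +kernel
theorem p5u90 : ∀ k, 19795 ≤ k → k < 21706 → pointOk (k * 20) = true := between_extend pointOk 20 19795 21685 21 (p5u89) p5r90

theorem p5r91 : allRange pointOk 20 21706 21 = true := by decide +kernel
theorem p5u91 : ∀ k, 19795 ≤ k → k < 21727 → pointOk (k * 20) = true := between_extend pointOk 20 19795 21706 21 (p5u90) p5r91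

theorem p5r92 : allRange pointOk 20 21727 21 = true := by decide +kernel
theorem p5u92 : ∀ k, 19795 ≤ k → k < 21748 → pointOk (k * 20) = true := between_extend pointOk 20 19795 21727 21 (p5u91) p5r92

theorem p5r93 : allRange pointOk 20 21748 21 = true := by decide +kernel
theorem p5u93 : ∀ k, 19795 ≤ k → k < 21769 → pointOk (k * 20) = true := between_extend pointOk 20 19795 21748 21 (p5u92) p5r93

theorem p5r94 : allRange pointOk 20 21769 21 = true := by decide +kernel
theorem p5u94 : ∀ k, 19795 ≤ k → k < 21790 → pointOk (k * 20) = true := between_extend pointOk 20 19795 21769 21 (p5u93) p5r94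

theorem p5r95 : allRange pointOk 20 21790 21 = true := by decide +kernel
theorem p5u95 : ∀ k, 19795 ≤ k → k < 21811 → pointOk (k * 20) = true := between_extend pointOk 20 19795 21790 21 (p5u94) p5r95

theorem p5r96 : allRange pointOk 20 21811 21 = true := by decide +kernel
theorem p5u96 : ∀ k, 19795 ≤ k → k < 21832 → pointOk (k * 20) = true := between_extend pointOk 20 19795 21811 21 (p5u95) p5r96

theorem p5r97 : allRange pointOk 20 21832 21 = true := by decide +kernel
theorem p5u97 : ∀ k, 19795 ≤ k → k < 21853 → pointOk (k * 20) = true := between_extend pointOk 20 19795 21832 21 (p5u96) p5r97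

theorem p5r98 : allRange pointOk 20 21853 21 = true := by decide +kernel
theorem p5u98 : ∀ k, 19795 ≤ k → k < 21874 → pointOk (k * 20) = true := between_extend pointOk 20 19795 21853 21 (p5u97) p5r98

theorem p5r99 : allRange pointOk 20 21874 21 = true := by decide +kernel
theorem p5u99 : ∀ k, 19795 ≤ k → k < 21895 → pointOk (k * 20) = true := between_extend pointOk 20 19795 21874 21 (p5u98) p5r99

theorem p5r100 : allRange pointOk 20 21895 21 = true := by decide +kernel
theorem p5u100 : ∀ k, 19795 ≤ k → k < 21916 → pointOk (k * 20) = true := between_extend pointOk 20 19795 21895 21 (p5u99) p5r100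

theorem p5r101 : allRange pointOk 20 21916 21 = true := by decide +kernel
theorem p5u101 : ∀ k, 19795 ≤ k → k < 21937 → pointOk (k * 20) = true := between_extend pointOk 20 19795 21916 21 (p5u100) p5r101

theorem p5r102 : allRange pointOk 20 21937 21 = true := by decide +kernel
theorem p5u102 : ∀ k, 19795 ≤ k → k < 21958 → pointOk (k * 20) = true := between_extend pointOk 20 19795 21937 21 (p5u101) p5r102

theorem p5r103 : allRange pointOk 20 21958 21 = true := by decide +kernel
theorem p5u103 : ∀ k, 19795 ≤ k → k < 21979 → pointOk (k * 20) = true := between_extend pointOk 20 19795 21958 21 (p5u102) p5r103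

theorem p5r104 : allRange pointOk 20 21979 21 = true := by decide +kernel
theorem p5u104 : ∀ k, 19795 ≤ k → k < 22000 → pointOk (k * 20) = true := between_extend pointOk 20 19795 21979 21 (p5u103) p5r104

theorem p5r105 : allRange pointOk 20 22000 21 = true := by decide +kernel
theorem p5u105 : ∀ k, 19795 ≤ k → k < 22021 → pointOk (k * 20) = true := between_extend pointOk 20 19795 22000 21 (p5u104) p5r105

theorem p5r106 : allRange pointOk 20 22021 21 = true := by decide +kernel
theorem p5u106 : ∀ k, 19795 ≤ k → k < 22042 → pointOk (k * 20) = true := between_extend pointOk 20 19795 22021 21 (p5u105) p5r106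

theorem p5r107 : allRange pointOk 20 22042 21 = true := by decide +kernel
theorem p5u107 : ∀ k, 19795 ≤ k → k < 22063 → pointOk (k * 20) = true := between_extend pointOk 20 19795 22042 21 (p5u106) p5r107

theorem p5r108 : allRange pointOk 20 22063 21 = true := by decide +kernel
theorem p5u108 : ∀ k, 19795 ≤ k → k < 22084 → pointOk (k * 20) = true := between_extend pointOk 20 19795 22063 21 (p5u107) p5r108

theorem p5r109 : allRange pointOk 20 22084 21 = true := by decide +kernel
theorem p5u109 : ∀ k, 19795 ≤ k → k < 22105 → pointOk (k * 20) = true := between_extend pointOk 20 19795 22084 21 (p5u108) p5r109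

theorem p5r110 : allRange pointOk 20 22105 21 = true := by decide +kernel
theorem p5u110 : ∀ k, 19795 ≤ k → k < 22126 → pointOk (k * 20) = true := between_extend pointOk 20 19795 22105 21 (p5u109) p5r110

theorem p5r111 : allRange pointOk 20 22126 21 = true := by decide +kernel
theorem p5u111 : ∀ k, 19795 ≤ k → k < 22147 → pointOk (k * 20) = true := between_extend pointOk 20 19795 22126 21 (p5u110) p5r111

theorem p5r112 : allRange pointOk 20 22147 21 = true := by decide +kernel
theorem p5u112 : ∀ k, 19795 ≤ k → k < 22168 → pointOk (k * 20) = true := between_extend pointOk 20 19795 22147 21 (p5u111) p5r112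

theorem p5r113 : allRange pointOk 20 22168 21 = true := by decide +kernel
theorem p5u113 : ∀ k, 19795 ≤ k → k < 22189 → pointOk (k * 20) = true := between_extend pointOk 20 19795 22168 21 (p5u112) p5r113

theorem p5r114 : allRange pointOk 20 22189 21 = true := by decide +kernel
theorem p5u114 : ∀ k, 19795 ≤ k → k < 22210 → pointOk (k * 20) = true := between_extend pointOk 20 19795 22189 21 (p5u113) p5r114

theorem p5r115 : allRange pointOk 20 22210 21 = true := by decide +kernel
theorem p5u115 : ∀ k, 19795 ≤ k → k < 22231 → pointOk (k * 20) = true := between_extend pointOk 20 19795 22210 21 (p5u114) p5r115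

theorem p5r116 : allRange pointOk 20 22231 21 = true := by decide +kernel
theorem p5u116 : ∀ k, 19795 ≤ k → k < 22252 → pointOk (k * 20) = true := between_extend pointOk 20 19795 22231 21 (p5u115) p5r116

theorem p5r117 : allRange pointOk 20 22252 21 = true := by decide +kernel
theorem p5u117 : ∀ k, 19795 ≤ k → k < 22273 → pointOk (k * 20) = true := between_extend pointOk 20 19795 22252 21 (p5u116) p5r117

theorem p5r118 : allRange pointOk 20 22273 21 = true := by decide +kernel
theorem p5u118 : ∀ k, 19795 ≤ k → k < 22294 → pointOk (k * 20) = true := between_extend pointOk 20 19795 22273 21 (p5u117) p5r118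

theorem p5r119 : allRange pointOk 20 22294 21 = true := by decide +kernel
theorem p5u119 : ∀ k, 19795 ≤ k → k < 22315 → pointOk (k * 20) = true := between_extend pointOk 20 19795 22294 21 (p5u118) p5r119

theorem p5r120 : allRange pointOk 20 22315 21 = true := by decide +kernel
theorem p5u120 : ∀ k, 19795 ≤ k → k < 22336 → pointOk (k * 20) = true := between_extend pointOk 20 19795 22315 21 (p5u119) p5r120

theorem p5r121 : allRange pointOk 20 22336 21 = true := by decide +kernel
theorem p5u121 : ∀ k, 19795 ≤ k → k < 22357 → pointOk (k * 20) = true := between_extend pointOk 20 19795 22336 21 (p5u120) p5r121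

theorem p5r122 : allRange pointOk 20 22357 21 = true := by decide +kernel
theorem p5u122 : ∀ k, 19795 ≤ k → k < 22378 → pointOk (k * 20) = true := between_extend pointOk 20 19795 22357 21 (p5u121) p5r122

theorem p5r123 : allRange pointOk 20 22378 21 = true := by decide +kernel
theorem p5u123 : ∀ k, 19795 ≤ k → k < 22399 → pointOk (k * 20) = true := between_extend pointOk 20 19795 22378 21 (p5u122) p5r123

theorem p5r124 : allRange pointOk 20 22399 21 = true := by decide +kernel
theorem p5u124 : ∀ k, 19795 ≤ k → k < 22420 → pointOk (k * 20) = true := between_extend pointOk 20 19795 22399 21 (p5u123) p5r124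

theorem p5r125 : allRange pointOk 20 22420 21 = true := by decide +kernel
theorem p5u125 : ∀ k, 19795 ≤ k → k < 22441 → pointOk (k * 20) = true := between_extend pointOk 20 19795 22420 21 (p5u124) p5r125

theorem p5r126 : allRange pointOk 20 22441 21 = true := by decide +kernel
theorem p5u126 : ∀ k, 19795 ≤ k → k < 22462 → pointOk (k * 20) = true := between_extend pointOk 20 19795 22441 21 (p5u125) p5r126

theorem p5r127 : allRange pointOk 20 22462 21 = true := by decide +kernel
theorem p5u127 : ∀ k, 19795 ≤ k → k < 22483 → pointOk (k * 20) = true := between_extend pointOk 20 19795 22462 21 (p5u126) p5r127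

theorem p5r128 : allRange pointOk 20 22483 21 = true := by decide +kernel
theorem p5u128 : ∀ k, 19795 ≤ k → k < 22504 → pointOk (k * 20) = true := between_extend pointOk 20 19795 22483 21 (p5u127) p5r128

theorem p5r129 : allRange pointOk 20 22504 21 = true := by decide +kernel
theorem p5u129 : ∀ k, 19795 ≤ k → k < 22525 → pointOk (k * 20) = true := between_extend pointOk 20 19795 22504 21 (p5u128) p5r129

theorem p5r130 : allRange pointOk 20 22525 21 = true := by decide +kernel
theorem p5u130 : ∀ k, 19795 ≤ k → k < 22546 → pointOk (k * 20) = true := between_extend pointOk 20 19795 22525 21 (p5u129) p5r130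

theorem p5r131 : allRange pointOk 20 22546 21 = true := by decide +kernel
theorem p5u131 : ∀ k, 19795 ≤ k → k < 22567 → pointOk (k * 20) = true := between_extend pointOk 20 19795 22546 21 (p5u130) p5r131

theorem p5r132 : allRange pointOk 20 22567 21 = true := by decide +kernel
theorem p5u132 : ∀ k, 19795 ≤ k → k < 22588 → pointOk (k * 20) = true := between_extend pointOk 20 19795 22567 21 (p5u131) p5r132

theorem p5r133 : allRange pointOk 20 22588 21 = true := by decide +kernel
theorem p5u133 : ∀ k, 19795 ≤ k → k < 22609 → pointOk (k * 20) = true := between_extend pointOk 20 19795 22588 21 (p5u132) p5r133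

theorem p5r134 : allRange pointOk 20 22609 21 = true := by decide +kernel
theorem p5u134 : ∀ k, 19795 ≤ k → k < 22630 → pointOk (k * 20) = true := between_extend pointOk 20 19795 22609 21 (p5u133) p5r134

theorem p5r135 : allRange pointOk 20 22630 21 = true := by decide +kernel
theorem p5u135 : ∀ k, 19795 ≤ k → k < 22651 → pointOk (k * 20) = true := between_extend pointOk 20 19795 22630 21 (p5u134) p5r135

theorem p5r136 : allRange pointOk 20 22651 21 = true := by decide +kernel
theorem p5u136 : ∀ k, 19795 ≤ k → k < 22672 → pointOk (k * 20) = true := between_extend pointOk 20 19795 22651 21 (p5u135) p5r136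

theorem p5r137 : allRange pointOk 20 22672 21 = true := by decide +kernel
theorem p5u137 : ∀ k, 19795 ≤ k → k < 22693 → pointOk (k * 20) = true := between_extend pointOk 20 19795 22672 21 (p5u136) p5r137

theorem p5r138 : allRange pointOk 20 22693 21 = true := by decide +kernel
theorem p5u138 : ∀ k, 19795 ≤ k → k < 22714 → pointOk (k * 20) = true := between_extend pointOk 20 19795 22693 21 (p5u137) p5r138

theorem p5r139 : allRange pointOk 20 22714 21 = true := by decide +kernel
theorem p5u139 : ∀ k, 19795 ≤ k → k < 22735 → pointOk (k * 20) = true := between_extend pointOk 20 19795 22714 21 (p5u138) p5r139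

theorem p5r140 : allRange pointOk 20 22735 21 = true := by decide +kernel
theorem p5u140 : ∀ k, 19795 ≤ k → k < 22756 → pointOk (k * 20) = true := between_extend pointOk 20 19795 22735 21 (p5u139) p5r140

theorem p5r141 : allRange pointOk 20 22756 21 = true := by decide +kernel
theorem p5u141 : ∀ k, 19795 ≤ k → k < 22777 → pointOk (k * 20) = true := between_extend pointOk 20 19795 22756 21 (p5u140) p5r141

theorem p5r142 : allRange pointOk 20 22777 21 = true := by decide +kernel
theorem p5u142 : ∀ k, 19795 ≤ k → k < 22798 → pointOk (k * 20) = true := between_extend pointOk 20 19795 22777 21 (p5u141) p5r142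

theorem p5r143 : allRange pointOk 20 22798 21 = true := by decide +kernel
theorem p5u143 : ∀ k, 19795 ≤ k → k < 22819 → pointOk (k * 20) = true := between_extend pointOk 20 19795 22798 21 (p5u142) p5r143

theorem p5r144 : allRange pointOk 20 22819 21 = true := by decide +kernel
theorem p5u144 : ∀ k, 19795 ≤ k → k < 22840 → pointOk (k * 20) = true := between_extend pointOk 20 19795 22819 21 (p5u143) p5r144

theorem p5r145 : allRange pointOk 20 22840 21 = true := by decide +kernel
theorem p5u145 : ∀ k, 19795 ≤ k → k < 22861 → pointOk (k * 20) = true := between_extend pointOk 20 19795 22840 21 (p5u144) p5r145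

theorem p5r146 : allRange pointOk 20 22861 21 = true := by decide +kernel
theorem p5u146 : ∀ k, 19795 ≤ k → k < 22882 → pointOk (k * 20) = true := between_extend pointOk 20 19795 22861 21 (p5u145) p5r146

theorem p5r147 : allRange pointOk 20 22882 21 = true := by decide +kernel
theorem p5u147 : ∀ k, 19795 ≤ k → k < 22903 → pointOk (k * 20) = true := between_extend pointOk 20 19795 22882 21 (p5u146) p5r147

theorem p5r148 : allRange pointOk 20 22903 21 = true := by decide +kernel
theorem p5u148 : ∀ k, 19795 ≤ k → k < 22924 → pointOk (k * 20) = true := between_extend pointOk 20 19795 22903 21 (p5u147) p5r148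

theorem p5r149 : allRange pointOk 20 22924 21 = true := by decide +kernel
theorem p5u149 : ∀ k, 19795 ≤ k → k < 22945 → pointOk (k * 20) = true := between_extend pointOk 20 19795 22924 21 (p5u148) p5r149

theorem p5r150 : allRange pointOk 20 22945 21 = true := by decide +kernel
theorem p5u150 : ∀ k, 19795 ≤ k → k < 22966 → pointOk (k * 20) = true := between_extend pointOk 20 19795 22945 21 (p5u149) p5r150

theorem p5r151 : allRange pointOk 20 22966 21 = true := by decide +kernel
theorem p5u151 : ∀ k, 19795 ≤ k → k < 22987 → pointOk (k * 20) = true := between_extend pointOk 20 19795 22966 21 (p5u150) p5r151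

theorem p5r152 : allRange pointOk 20 22987 21 = true := by decide +kernel
theorem p5u152 : ∀ k, 19795 ≤ k → k < 23008 → pointOk (k * 20) = true := between_extend pointOk 20 19795 22987 21 (p5u151) p5r152

theorem p5r153 : allRange pointOk 20 23008 21 = true := by decide +kernel
theorem p5u153 : ∀ k, 19795 ≤ k → k < 23029 → pointOk (k * 20) = true := between_extend pointOk 20 19795 23008 21 (p5u152) p5r153

theorem p5r154 : allRange pointOk 20 23029 21 = true := by decide +kernel
theorem p5u154 : ∀ k, 19795 ≤ k → k < 23050 → pointOk (k * 20) = true := between_extend pointOk 20 19795 23029 21 (p5u153) p5r154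

theorem p5r155 : allRange pointOk 20 23050 21 = true := by decide +kernel
theorem p5u155 : ∀ k, 19795 ≤ k → k < 23071 → pointOk (k * 20) = true := between_extend pointOk 20 19795 23050 21 (p5u154) p5r155

theorem p5r156 : allRange pointOk 20 23071 21 = true := by decide +kernel
theorem p5u156 : ∀ k, 19795 ≤ k → k < 23092 → pointOk (k * 20) = true := between_extend pointOk 20 19795 23071 21 (p5u155) p5r156

theorem p5r157 : allRange pointOk 20 23092 21 = true := by decide +kernel
theorem p5u157 : ∀ k, 19795 ≤ k → k < 23113 → pointOk (k * 20) = true := between_extend pointOk 20 19795 23092 21 (p5u156) p5r157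

theorem p5r158 : allRange pointOk 20 23113 21 = true := by decide +kernel
theorem p5u158 : ∀ k, 19795 ≤ k → k < 23134 → pointOk (k * 20) = true := between_extend pointOk 20 19795 23113 21 (p5u157) p5r158

theorem p5r159 : allRange pointOk 20 23134 21 = true := by decide +kernel
theorem p5u159 : ∀ k, 19795 ≤ k → k < 23155 → pointOk (k * 20) = true := between_extend pointOk 20 19795 23134 21 (p5u158) p5r159

theorem p5r160 : allRange pointOk 20 23155 21 = true := by decide +kernel
theorem p5u160 : ∀ k, 19795 ≤ k → k < 23176 → pointOk (k * 20) = true := between_extend pointOk 20 19795 23155 21 (p5u159) p5r160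

theorem p5r161 : allRange pointOk 20 23176 21 = true := by decide +kernel
theorem p5u161 : ∀ k, 19795 ≤ k → k < 23197 → pointOk (k * 20) = true := between_extend pointOk 20 19795 23176 21 (p5u160) p5r161

theorem p5r162 : allRange pointOk 20 23197 21 = true := by decide +kernel
theorem p5u162 : ∀ k, 19795 ≤ k → k < 23218 → pointOk (k * 20) = true := between_extend pointOk 20 19795 23197 21 (p5u161) p5r162

theorem p5r163 : allRange pointOk 20 23218 21 = true := by decide +kernel
theorem p5u163 : ∀ k, 19795 ≤ k → k < 23239 → pointOk (k * 20) = true := between_extend pointOk 20 19795 23218 21 (p5u162) p5r163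

theorem p5r164 : allRange pointOk 20 23239 21 = true := by decide +kernel
theorem p5u164 : ∀ k, 19795 ≤ k → k < 23260 → pointOk (k * 20) = true := between_extend pointOk 20 19795 23239 21 (p5u163) p5r164

theorem p5r165 : allRange pointOk 20 23260 21 = true := by decide +kernel
theorem p5u165 : ∀ k, 19795 ≤ k → k < 23281 → pointOk (k * 20) = true := between_extend pointOk 20 19795 23260 21 (p5u164) p5r165

theorem p5r166 : allRange pointOk 20 23281 21 = true := by decide +kernel
theorem p5u166 : ∀ k, 19795 ≤ k → k < 23302 → pointOk (k * 20) = true := between_extend pointOk 20 19795 23281 21 (p5u165) p5r166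

theorem p5r167 : allRange pointOk 20 23302 21 = true := by decide +kernel
theorem p5u167 : ∀ k, 19795 ≤ k → k < 23323 → pointOk (k * 20) = true := between_extend pointOk 20 19795 23302 21 (p5u166) p5r167

theorem p5r168 : allRange pointOk 20 23323 21 = true := by decide +kernel
theorem p5u168 : ∀ k, 19795 ≤ k → k < 23344 → pointOk (k * 20) = true := between_extend pointOk 20 19795 23323 21 (p5u167) p5r168

theorem p5r169 : allRange pointOk 20 23344 21 = true := by decide +kernel
theorem p5u169 : ∀ k, 19795 ≤ k → k < 23365 → pointOk (k * 20) = true := between_extend pointOk 20 19795 23344 21 (p5u168) p5r169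

theorem p5r170 : allRange pointOk 20 23365 21 = true := by decide +kernel
theorem p5u170 : ∀ k, 19795 ≤ k → k < 23386 → pointOk (k * 20) = true := between_extend pointOk 20 19795 23365 21 (p5u169) p5r170

theorem p5r171 : allRange pointOk 20 23386 21 = true := by decide +kernel
theorem p5u171 : ∀ k, 19795 ≤ k → k < 23407 → pointOk (k * 20) = true := between_extend pointOk 20 19795 23386 21 (p5u170) p5r171

theorem p5r172 : allRange pointOk 20 23407 21 = true := by decide +kernel
theorem p5u172 : ∀ k, 19795 ≤ k → k < 23428 → pointOk (k * 20) = true := between_extend pointOk 20 19795 23407 21 (p5u171) p5r172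

theorem p5r173 : allRange pointOk 20 23428 21 = true := by decide +kernel
theorem p5u173 : ∀ k, 19795 ≤ k → k < 23449 → pointOk (k * 20) = true := between_extend pointOk 20 19795 23428 21 (p5u172) p5r173

theorem p5r174 : allRange pointOk 20 23449 21 = true := by decide +kernel
theorem p5u174 : ∀ k, 19795 ≤ k → k < 23470 → pointOk (k * 20) = true := between_extend pointOk 20 19795 23449 21 (p5u173) p5r174

theorem p5r175 : allRange pointOk 20 23470 21 = true := by decide +kernel
theorem p5u175 : ∀ k, 19795 ≤ k → k < 23491 → pointOk (k * 20) = true := between_extend pointOk 20 19795 23470 21 (p5u174) p5r175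

theorem p5r176 : allRange pointOk 20 23491 21 = true := by decide +kernel
theorem p5u176 : ∀ k, 19795 ≤ k → k < 23512 → pointOk (k * 20) = true := between_extend pointOk 20 19795 23491 21 (p5u175) p5r176

theorem p5r177 : allRange pointOk 20 23512 21 = true := by decide +kernel
theorem p5u177 : ∀ k, 19795 ≤ k → k < 23533 → pointOk (k * 20) = true := between_extend pointOk 20 19795 23512 21 (p5u176) p5r177

theorem p5r178 : allRange pointOk 20 23533 21 = true := by decide +kernel
theorem p5u178 : ∀ k, 19795 ≤ k → k < 23554 → pointOk (k * 20) = true := between_extend pointOk 20 19795 23533 21 (p5u177) p5r178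

theorem p5r179 : allRange pointOk 20 23554 21 = true := by decide +kernel
theorem p5u179 : ∀ k, 19795 ≤ k → k < 23575 → pointOk (k * 20) = true := between_extend pointOk 20 19795 23554 21 (p5u178) p5r179

theorem p5r180 : allRange pointOk 20 23575 21 = true := by decide +kernel
theorem p5u180 : ∀ k, 19795 ≤ k → k < 23596 → pointOk (k * 20) = true := between_extend pointOk 20 19795 23575 21 (p5u179) p5r180

theorem p5r181 : allRange pointOk 20 23596 21 = true := by decide +kernel
theorem p5u181 : ∀ k, 19795 ≤ k → k < 23617 → pointOk (k * 20) = true := between_extend pointOk 20 19795 23596 21 (p5u180) p5r181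

theorem p5r182 : allRange pointOk 20 23617 21 = true := by decide +kernel
theorem p5u182 : ∀ k, 19795 ≤ k → k < 23638 → pointOk (k * 20) = true := between_extend pointOk 20 19795 23617 21 (p5u181) p5r182

theorem p5r183 : allRange pointOk 20 23638 21 = true := by decide +kernel
theorem p5u183 : ∀ k, 19795 ≤ k → k < 23659 → pointOk (k * 20) = true := between_extend pointOk 20 19795 23638 21 (p5u182) p5r183

theorem p5r184 : allRange pointOk 20 23659 21 = true := by decide +kernel
theorem p5u184 : ∀ k, 19795 ≤ k → k < 23680 → pointOk (k * 20) = true := between_extend pointOk 20 19795 23659 21 (p5u183) p5r184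

theorem p5r185 : allRange pointOk 20 23680 21 = true := by decide +kernel
theorem p5u185 : ∀ k, 19795 ≤ k → k < 23701 → pointOk (k * 20) = true := between_extend pointOk 20 19795 23680 21 (p5u184) p5r185

theorem p5r186 : allRange pointOk 20 23701 21 = true := by decide +kernel
theorem p5u186 : ∀ k, 19795 ≤ k → k < 23722 → pointOk (k * 20) = true := between_extend pointOk 20 19795 23701 21 (p5u185) p5r186

theorem p5r187 : allRange pointOk 20 23722 21 = true := by decide +kernel
theorem p5u187 : ∀ k, 19795 ≤ k → k < 23743 → pointOk (k * 20) = true := between_extend pointOk 20 19795 23722 21 (p5u186) p5r187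

theorem p5r188 : allRange pointOk 20 23743 11 = true := by decide +kernel
theorem p5u188 : ∀ k, 19795 ≤ k → k < 23754 → pointOk (k * 20) = true := between_extend pointOk 20 19795 23743 11 (p5u187) p5r188

theorem p5 : ∀ k, 19795 ≤ k → k < 23754 → pointOk (k * 20) = true := p5u188

end Cfsg.Agent.Lib.Helper28_S1689
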