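import Cfsg.Agent.Lib.Helper28_S1689Def

set_option autoImplicit false
set_option linter.constructorNameAsVariable false
set_option Elab.async false

namespace Cfsg.Agent.Lib.Helper28_S1689

open Cfsg.Agent.Lib.Helper28_CosetPerm

theorem p6r0 : allRange pointOk 20 23754 21 = true := by decide +kernel
theorem p6u0 : ∀ k, 23754 ≤ k → k < 23775 → pointOk (k * 20) = true := between_extend pointOk 20 23754 23754 21 (between_start pointOk 20 23754) p6r0

theorem p6r1 : allRange pointOk 20 23775 21 = true := by decide +kernel
theorem p6u1 : ∀ k, 23754 ≤ k → k < 23796 → pointOk (k * 20) = true := between_extend pointOk 20 23754 23775 21 (p6u0) p6r1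

theorem p6r2 : allRange pointOk 20 23796 21 = true := by decide +kernel
theorem p6u2 : ∀ k, 23754 ≤ k → k < 23817 → pointOk (k * 20) = true := between_extend pointOk 20 23754 23796 21 (p6u1) p6r2

theorem p6r3 : allRange pointOk 20 23817 21 = true := by decide +kernel
theorem p6u3 : ∀ k, 23754 ≤ k → k < 23838 → pointOk (k * 20) = true := between_extend pointOk 20 23754 23817 21 (p6u2) p6r3

theorem p6r4 : allRange pointOk 20 23838 21 = true := by decide +kernel
theorem p6u4 : ∀ k, 23754 ≤ k → k < 23859 → pointOk (k * 20) = true := between_extend pointOk 20 23754 23838 21 (p6u3) p6r4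

theorem p6r5 : allRange pointOk 20 23859 21 = true := by decide +kernel
theorem p6u5 : ∀ k, 23754 ≤ k → k < 23880 → pointOk (k * 20) = true := between_extend pointOk 20 23754 23859 21 (p6u4) p6r5

theorem p6r6 : allRange pointOk 20 23880 21 = true := by decide +kernel
theorem p6u6 : ∀ k, 23754 ≤ k → k < 23901 → pointOk (k * 20) = true := between_extend pointOk 20 23754 23880 21 (p6u5) p6r6

theorem p6r7 : allRange pointOk 20 23901 21 = true := by decide +kernel
theorem p6u7 : ∀ k, 23754 ≤ k → k < 23922 → pointOk (k * 20) = true := between_extend pointOk 20 23754 23901 21 (p6u6) p6r7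

theorem p6r8 : allRange pointOk 20 23922 21 = true := by decide +kernel
theorem p6u8 : ∀ k, 23754 ≤ k → k < 23943 → pointOk (k * 20) = true := between_extend pointOk 20 23754 23922 21 (p6u7) p6r8

theorem p6r9 : allRange pointOk 20 23943 21 = true := by decide +kernel
theorem p6u9 : ∀ k, 23754 ≤ k → k < 23964 → pointOk (k * 20) = true := between_extend pointOk 20 23754 23943 21 (p6u8) p6r9

theorem p6r10 : allRange pointOk 20 23964 21 = true := by decide +kernel
theorem p6u10 : ∀ k, 23754 ≤ k → k < 23985 → pointOk (k * 20) = true := between_extend pointOk 20 23754 23964 21 (p6u9) p6r10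

theorem p6r11 : allRange pointOk 20 23985 21 = true := by decide +kernel
theorem p6u11 : ∀ k, 23754 ≤ k → k < 24006 → pointOk (k * 20) = true := between_extend pointOk 20 23754 23985 21 (p6u10) p6r11

theorem p6r12 : allRange pointOk 20 24006 21 = true := by decide +kernel
theorem p6u12 : ∀ k, 23754 ≤ k → k < 24027 → pointOk (k * 20) = true := between_extend pointOk 20 23754 24006 21 (p6u11) p6r12

theorem p6r13 : allRange pointOk 20 24027 21 = true := by decide +kernel
theorem p6u13 : ∀ k, 23754 ≤ k → k < 24048 → pointOk (k * 20) = true := between_extend pointOk 20 23754 24027 21 (p6u12) p6r13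

theorem p6r14 : allRange pointOk 20 24048 21 = true := by decide +kernel
theorem p6u14 : ∀ k, 23754 ≤ k → k < 24069 → pointOk (k * 20) = true := between_extend pointOk 20 23754 24048 21 (p6u13) p6r14

theorem p6r15 : allRange pointOk 20 24069 21 = true := by decide +kernel
theorem p6u15 : ∀ k, 23754 ≤ k → k < 24090 → pointOk (k * 20) = true := between_extend pointOk 20 23754 24069 21 (p6u14) p6r15

theorem p6r16 : allRange pointOk 20 24090 21 = true := by decide +kernel
theorem p6u16 : ∀ k, 23754 ≤ k → k < 24111 → pointOk (k * 20) = true := between_extend pointOk 20 23754 24090 21 (p6u15) p6r16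

theorem p6r17 : allRange pointOk 20 24111 21 = true := by decide +kernel
theorem p6u17 : ∀ k, 23754 ≤ k → k < 24132 → pointOk (k * 20) = true := between_extend pointOk 20 23754 24111 21 (p6u16) p6r17

theorem p6r18 : allRange pointOk 20 24132 21 = true := by decide +kernel
theorem p6u18 : ∀ k, 23754 ≤ k → k < 24153 → pointOk (k * 20) = true := between_extend pointOk 20 23754 24132 21 (p6u17) p6r18

theorem p6r19 : allRange pointOk 20 24153 21 = true := by decide +kernel
theorem p6u19 : ∀ k, 23754 ≤ k → k < 24174 → pointOk (k * 20) = true := between_extend pointOk 20 23754 24153 21 (p6u18) p6r19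

theorem p6r20 : allRange pointOk 20 24174 21 = true := by decide +kernel
theorem p6u20 : ∀ k, 23754 ≤ k → k < 24195 → pointOk (k * 20) = true := between_extend pointOk 20 23754 24174 21 (p6u19) p6r20

theorem p6r21 : allRange pointOk 20 24195 21 = true := by decide +kernel
theorem p6u21 : ∀ k, 23754 ≤ k → k < 24216 → pointOk (k * 20) = true := between_extend pointOk 20 23754 24195 21 (p6u20) p6r21

theorem p6r22 : allRange pointOk 20 24216 21 = true := by decide +kernel
theorem p6u22 : ∀ k, 23754 ≤ k → k < 24237 → pointOk (k * 20) = true := between_extend pointOk 20 23754 24216 21 (p6u21) p6r22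

theorem p6r23 : allRange pointOk 20 24237 21 = true := by decide +kernel
theorem p6u23 : ∀ k, 23754 ≤ k → k < 24258 → pointOk (k * 20) = true := between_extend pointOk 20 23754 24237 21 (p6u22) p6r23

theorem p6r24 : allRange pointOk 20 24258 21 = true := by decide +kernel
theorem p6u24 : ∀ k, 23754 ≤ k → k < 24279 → pointOk (k * 20) = true := between_extend pointOk 20 23754 24258 21 (p6u23) p6r24

theorem p6r25 : allRange pointOk 20 24279 21 = true := by decide +kernel
theorem p6u25 : ∀ k, 23754 ≤ k → k < 24300 → pointOk (k * 20) = true := between_extend pointOk 20 23754 24279 21 (p6u24) p6r25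

theorem p6r26 : allRange pointOk 20 24300 21 = true := by decide +kernel
theorem p6u26 : ∀ k, 23754 ≤ k → k < 24321 → pointOk (k * 20) = true := between_extend pointOk 20 23754 24300 21 (p6u25) p6r26

theorem p6r27 : allRange pointOk 20 24321 21 = true := by decide +kernel
theorem p6u27 : ∀ k, 23754 ≤ k → k < 24342 → pointOk (k * 20) = true := between_extend pointOk 20 23754 24321 21 (p6u26) p6r27

theorem p6r28 : allRange pointOk 20 24342 21 = true := by decide +kernel
theorem p6u28 : ∀ k, 23754 ≤ k → k < 24363 → pointOk (k * 20) = true := between_extend pointOk 20 23754 24342 21 (p6u27) p6r28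

theorem p6r29 : allRange pointOk 20 24363 21 = true := by decide +kernel
theorem p6u29 : ∀ k, 23754 ≤ k → k < 24384 → pointOk (k * 20) = true := between_extend pointOk 20 23754 24363 21 (p6u28) p6r29

theorem p6r30 : allRange pointOk 20 24384 21 = true := by decide +kernel
theorem p6u30 : ∀ k, 23754 ≤ k → k < 24405 → pointOk (k * 20) = true := between_extend pointOk 20 23754 24384 21 (p6u29) p6r30

theorem p6r31 : allRange pointOk 20 24405 21 = true := by decide +kernel
theorem p6u31 : ∀ k, 23754 ≤ k → k < 24426 → pointOk (k * 20) = true := between_extend pointOk 20 23754 24405 21 (p6u30) p6r31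

theorem p6r32 : allRange pointOk 20 24426 21 = true := by decide +kernel
theorem p6u32 : ∀ k, 23754 ≤ k → k < 24447 → pointOk (k * 20) = true := between_extend pointOk 20 23754 24426 21 (p6u31) p6r32

theorem p6r33 : allRange pointOk 20 24447 21 = true := by decide +kernel
theorem p6u33 : ∀ k, 23754 ≤ k → k < 24468 → pointOk (k * 20) = true := between_extend pointOk 20 23754 24447 21 (p6u32) p6r33

theorem p6r34 : allRange pointOk 20 24468 21 = true := by decide +kernel
theorem p6u34 : ∀ k, 23754 ≤ k → k < 24489 → pointOk (k * 20) = true := between_extend pointOk 20 23754 24468 21 (p6u33) p6r34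

theorem p6r35 : allRange pointOk 20 24489 21 = true := by decide +kernel
theorem p6u35 : ∀ k, 23754 ≤ k → k < 24510 → pointOk (k * 20) = true := between_extend pointOk 20 23754 24489 21 (p6u34) p6r35

theorem p6r36 : allRange pointOk 20 24510 21 = true := by decide +kernel
theorem p6u36 : ∀ k, 23754 ≤ k → k < 24531 → pointOk (k * 20) = true := between_extend pointOk 20 23754 24510 21 (p6u35) p6r36

theorem p6r37 : allRange pointOk 20 24531 21 = true := by decide +kernel
theorem p6u37 : ∀ k, 23754 ≤ k → k < 24552 → pointOk (k * 20) = true := between_extend pointOk 20 23754 24531 21 (p6u36) p6r37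

theorem p6r38 : allRange pointOk 20 24552 21 = true := by decide +kernel
theorem p6u38 : ∀ k, 23754 ≤ k → k < 24573 → pointOk (k * 20) = true := between_extend pointOk 20 23754 24552 21 (p6u37) p6r38

theorem p6r39 : allRange pointOk 20 24573 21 = true := by decide +kernel
theorem p6u39 : ∀ k, 23754 ≤ k → k < 24594 → pointOk (k * 20) = true := between_extend pointOk 20 23754 24573 21 (p6u38) p6r39

theorem p6r40 : allRange pointOk 20 24594 21 = true := by decide +kernel
theorem p6u40 : ∀ k, 23754 ≤ k → k < 24615 → pointOk (k * 20) = true := between_extend pointOk 20 23754 24594 21 (p6u39) p6r40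

theorem p6r41 : allRange pointOk 20 24615 21 = true := by decide +kernel
theorem p6u41 : ∀ k, 23754 ≤ k → k < 24636 → pointOk (k * 20) = true := between_extend pointOk 20 23754 24615 21 (p6u40) p6r41

theorem p6r42 : allRange pointOk 20 24636 21 = true := by decide +kernel
theorem p6u42 : ∀ k, 23754 ≤ k → k < 24657 → pointOk (k * 20) = true := between_extend pointOk 20 23754 24636 21 (p6u41) p6r42

theorem p6r43 : allRange pointOk 20 24657 21 = true := by decide +kernel
theorem p6u43 : ∀ k, 23754 ≤ k → k < 24678 → pointOk (k * 20) = true := between_extend pointOk 20 23754 24657 21 (p6u42) p6r43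

theorem p6r44 : allRange pointOk 20 24678 21 = true := by decide +kernel
theorem p6u44 : ∀ k, 23754 ≤ k → k < 24699 → pointOk (k * 20) = true := between_extend pointOk 20 23754 24678 21 (p6u43) p6r44

theorem p6r45 : allRange pointOk 20 24699 21 = true := by decide +kernel
theorem p6u45 : ∀ k, 23754 ≤ k → k < 24720 → pointOk (k * 20) = true := between_extend pointOk 20 23754 24699 21 (p6u44) p6r45

theorem p6r46 : allRange pointOk 20 24720 21 = true := by decide +kernel
theorem p6u46 : ∀ k, 23754 ≤ k → k < 24741 → pointOk (k * 20) = true := between_extend pointOk 20 23754 24720 21 (p6u45) p6r46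

theorem p6r47 : allRange pointOk 20 24741 21 = true := by decide +kernel
theorem p6u47 : ∀ k, 23754 ≤ k → k < 24762 → pointOk (k * 20) = true := between_extend pointOk 20 23754 24741 21 (p6u46) p6r47

theorem p6r48 : allRange pointOk 20 24762 21 = true := by decide +kernel
theorem p6u48 : ∀ k, 23754 ≤ k → k < 24783 → pointOk (k * 20) = true := between_extend pointOk 20 23754 24762 21 (p6u47) p6r48

theorem p6r49 : allRange pointOk 20 24783 21 = true := by decide +kernel
theorem p6u49 : ∀ k, 23754 ≤ k → k < 24804 → pointOk (k * 20) = true := between_extend pointOk 20 23754 24783 21 (p6u48) p6r49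

theorem p6r50 : allRange pointOk 20 24804 21 = true := by decide +kernel
theorem p6u50 : ∀ k, 23754 ≤ k → k < 24825 → pointOk (k * 20) = true := between_extend pointOk 20 23754 24804 21 (p6u49) p6r50

theorem p6r51 : allRange pointOk 20 24825 21 = true := by decide +kernel
theorem p6u51 : ∀ k, 23754 ≤ k → k < 24846 → pointOk (k * 20) = true := between_extend pointOk 20 23754 24825 21 (p6u50) p6r51

theorem p6r52 : allRange pointOk 20 24846 21 = true := by decide +kernel
theorem p6u52 : ∀ k, 23754 ≤ k → k < 24867 → pointOk (k * 20) = true := between_extend pointOk 20 23754 24846 21 (p6u51) p6r52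

theorem p6r53 : allRange pointOk 20 24867 21 = true := by decide +kernel
theorem p6u53 : ∀ k, 23754 ≤ k → k < 24888 → pointOk (k * 20) = true := between_extend pointOk 20 23754 24867 21 (p6u52) p6r53

theorem p6r54 : allRange pointOk 20 24888 21 = true := by decide +kernel
theorem p6u54 : ∀ k, 23754 ≤ k → k < 24909 → pointOk (k * 20) = true := between_extend pointOk 20 23754 24888 21 (p6u53) p6r54

theorem p6r55 : allRange pointOk 20 24909 21 = true := by decide +kernel
theorem p6u55 : ∀ k, 23754 ≤ k → k < 24930 → pointOk (k * 20) = true := between_extend pointOk 20 23754 24909 21 (p6u54) p6r55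

theorem p6r56 : allRange pointOk 20 24930 21 = true := by decide +kernel
theorem p6u56 : ∀ k, 23754 ≤ k → k < 24951 → pointOk (k * 20) = true := between_extend pointOk 20 23754 24930 21 (p6u55) p6r56

theorem p6r57 : allRange pointOk 20 24951 21 = true := by decide +kernel
theorem p6u57 : ∀ k, 23754 ≤ k → k < 24972 → pointOk (k * 20) = true := between_extend pointOk 20 23754 24951 21 (p6u56) p6r57

theorem p6r58 : allRange pointOk 20 24972 21 = true := by decide +kernel
theorem p6u58 : ∀ k, 23754 ≤ k → k < 24993 → pointOk (k * 20) = true := between_extend pointOk 20 23754 24972 21 (p6u57) p6r58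

theorem p6r59 : allRange pointOk 20 24993 21 = true := by decide +kernel
theorem p6u59 : ∀ k, 23754 ≤ k → k < 25014 → pointOk (k * 20) = true := between_extend pointOk 20 23754 24993 21 (p6u58) p6r59

theorem p6r60 : allRange pointOk 20 25014 21 = true := by decide +kernel
theorem p6u60 : ∀ k, 23754 ≤ k → k < 25035 → pointOk (k * 20) = true := between_extend pointOk 20 23754 25014 21 (p6u59) p6r60

theorem p6r61 : allRange pointOk 20 25035 21 = true := by decide +kernel
theorem p6u61 : ∀ k, 23754 ≤ k → k < 25056 → pointOk (k * 20) = true := between_extend pointOk 20 23754 25035 21 (p6u60) p6r61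

theorem p6r62 : allRange pointOk 20 25056 21 = true := by decide +kernel
theorem p6u62 : ∀ k, 23754 ≤ k → k < 25077 → pointOk (k * 20) = true := between_extend pointOk 20 23754 25056 21 (p6u61) p6r62

theorem p6r63 : allRange pointOk 20 25077 21 = true := by decide +kernel
theorem p6u63 : ∀ k, 23754 ≤ k → k < 25098 → pointOk (k * 20) = true := between_extend pointOk 20 23754 25077 21 (p6u62) p6r63

theorem p6r64 : allRange pointOk 20 25098 21 = true := by decide +kernel
theorem p6u64 : ∀ k, 23754 ≤ k → k < 25119 → pointOk (k * 20) = true := between_extend pointOk 20 23754 25098 21 (p6u63) p6r64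

theorem p6r65 : allRange pointOk 20 25119 21 = true := by decide +kernel
theorem p6u65 : ∀ k, 23754 ≤ k → k < 25140 → pointOk (k * 20) = true := between_extend pointOk 20 23754 25119 21 (p6u64) p6r65

theorem p6r66 : allRange pointOk 20 25140 21 = true := by decide +kernel
theorem p6u66 : ∀ k, 23754 ≤ k → k < 25161 → pointOk (k * 20) = true := between_extend pointOk 20 23754 25140 21 (p6u65) p6r66

theorem p6r67 : allRange pointOk 20 25161 21 = true := by decide +kernel
theorem p6u67 : ∀ k, 23754 ≤ k → k < 25182 → pointOk (k * 20) = true := between_extend pointOk 20 23754 25161 21 (p6u66) p6r67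

theorem p6r68 : allRange pointOk 20 25182 21 = true := by decide +kernel
theorem p6u68 : ∀ k, 23754 ≤ k → k < 25203 → pointOk (k * 20) = true := between_extend pointOk 20 23754 25182 21 (p6u67) p6r68

theorem p6r69 : allRange pointOk 20 25203 21 = true := by decide +kernel
theorem p6u69 : ∀ k, 23754 ≤ k → k < 25224 → pointOk (k * 20) = true := between_extend pointOk 20 23754 25203 21 (p6u68) p6r69

theorem p6r70 : allRange pointOk 20 25224 21 = true := by decide +kernel
theorem p6u70 : ∀ k, 23754 ≤ k → k < 25245 → pointOk (k * 20) = true := between_extend pointOk 20 23754 25224 21 (p6u69) p6r70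

theorem p6r71 : allRange pointOk 20 25245 21 = true := by decide +kernel
theorem p6u71 : ∀ k, 23754 ≤ k → k < 25266 → pointOk (k * 20) = true := between_extend pointOk 20 23754 25245 21 (p6u70) p6r71

theorem p6r72 : allRange pointOk 20 25266 21 = true := by decide +kernel
theorem p6u72 : ∀ k, 23754 ≤ k → k < 25287 → pointOk (k * 20) = true := between_extend pointOk 20 23754 25266 21 (p6u71) p6r72

theorem p6r73 : allRange pointOk 20 25287 21 = true := by decide +kernel
theorem p6u73 : ∀ k, 23754 ≤ k → k < 25308 → pointOk (k * 20) = true := between_extend pointOk 20 23754 25287 21 (p6u72) p6r73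

theorem p6r74 : allRange pointOk 20 25308 21 = true := by decide +kernel
theorem p6u74 : ∀ k, 23754 ≤ k → k < 25329 → pointOk (k * 20) = true := between_extend pointOk 20 23754 25308 21 (p6u73) p6r74

theorem p6r75 : allRange pointOk 20 25329 21 = true := by decide +kernel
theorem p6u75 : ∀ k, 23754 ≤ k → k < 25350 → pointOk (k * 20) = true := between_extend pointOk 20 23754 25329 21 (p6u74) p6r75

theorem p6r76 : allRange pointOk 20 25350 21 = true := by decide +kernel
theorem p6u76 : ∀ k, 23754 ≤ k → k < 25371 → pointOk (k * 20) = true := between_extend pointOk 20 23754 25350 21 (p6u75) p6r76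

theorem p6r77 : allRange pointOk 20 25371 21 = true := by decide +kernel
theorem p6u77 : ∀ k, 23754 ≤ k → k < 25392 → pointOk (k * 20) = true := between_extend pointOk 20 23754 25371 21 (p6u76) p6r77

theorem p6r78 : allRange pointOk 20 25392 21 = true := by decide +kernel
theorem p6u78 : ∀ k, 23754 ≤ k → k < 25413 → pointOk (k * 20) = true := between_extend pointOk 20 23754 25392 21 (p6u77) p6r78

theorem p6r79 : allRange pointOk 20 25413 21 = true := by decide +kernel
theorem p6u79 : ∀ k, 23754 ≤ k → k < 25434 → pointOk (k * 20) = true := between_extend pointOk 20 23754 25413 21 (p6u78) p6r79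

theorem p6r80 : allRange pointOk 20 25434 21 = true := by decide +kernel
theorem p6u80 : ∀ k, 23754 ≤ k → k < 25455 → pointOk (k * 20) = true := between_extend pointOk 20 23754 25434 21 (p6u79) p6r80

theorem p6r81 : allRange pointOk 20 25455 21 = true := by decide +kernel
theorem p6u81 : ∀ k, 23754 ≤ k → k < 25476 → pointOk (k * 20) = true := between_extend pointOk 20 23754 25455 21 (p6u80) p6r81

theorem p6r82 : allRange pointOk 20 25476 21 = true := by decide +kernel
theorem p6u82 : ∀ k, 23754 ≤ k → k < 25497 → pointOk (k * 20) = true := between_extend pointOk 20 23754 25476 21 (p6u81) p6r82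

theorem p6r83 : allRange pointOk 20 25497 21 = true := by decide +kernel
theorem p6u83 : ∀ k, 23754 ≤ k → k < 25518 → pointOk (k * 20) = true := between_extend pointOk 20 23754 25497 21 (p6u82) p6r83

theorem p6r84 : allRange pointOk 20 25518 21 = true := by decide +kernel
theorem p6u84 : ∀ k, 23754 ≤ k → k < 25539 → pointOk (k * 20) = true := between_extend pointOk 20 23754 25518 21 (p6u83) p6r84

theorem p6r85 : allRange pointOk 20 25539 21 = true := by decide +kernel
theorem p6u85 : ∀ k, 23754 ≤ k → k < 25560 → pointOk (k * 20) = true := between_extend pointOk 20 23754 25539 21 (p6u84) p6r85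

theorem p6r86 : allRange pointOk 20 25560 21 = true := by decide +kernel
theorem p6u86 : ∀ k, 23754 ≤ k → k < 25581 → pointOk (k * 20) = true := between_extend pointOk 20 23754 25560 21 (p6u85) p6r86

theorem p6r87 : allRange pointOk 20 25581 21 = true := by decide +kernel
theorem p6u87 : ∀ k, 23754 ≤ k → k < 25602 → pointOk (k * 20) = true := between_extend pointOk 20 23754 25581 21 (p6u86) p6r87

theorem p6r88 : allRange pointOk 20 25602 21 = true := by decide +kernel
theorem p6u88 : ∀ k, 23754 ≤ k → k < 25623 → pointOk (k * 20) = true := between_extend pointOk 20 23754 25602 21 (p6u87) p6r88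

theorem p6r89 : allRange pointOk 20 25623 21 = true := by decide +kernel
theorem p6u89 : ∀ k, 23754 ≤ k → k < 25644 → pointOk (k * 20) = true := between_extend pointOk 20 23754 25623 21 (p6u88) p6r89

theorem p6r90 : allRange pointOk 20 25644 21 = true := by decide +kernel
theorem p6u90 : ∀ k, 23754 ≤ k → k < 25665 → pointOk (k * 20) = true := between_extend pointOk 20 23754 25644 21 (p6u89) p6r90

theorem p6r91 : allRange pointOk 20 25665 21 = true := by decide +kernel
theorem p6u91 : ∀ k, 23754 ≤ k → k < 25686 → pointOk (k * 20) = true := between_extend pointOk 20 23754 25665 21 (p6u90) p6r91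

theorem p6r92 : allRange pointOk 20 25686 21 = true := by decide +kernel
theorem p6u92 : ∀ k, 23754 ≤ k → k < 25707 → pointOk (k * 20) = true := between_extend pointOk 20 23754 25686 21 (p6u91) p6r92

theorem p6r93 : allRange pointOk 20 25707 21 = true := by decide +kernel
theorem p6u93 : ∀ k, 23754 ≤ k → k < 25728 → pointOk (k * 20) = true := between_extend pointOk 20 23754 25707 21 (p6u92) p6r93

theorem p6r94 : allRange pointOk 20 25728 21 = true := by decide +kernel
theorem p6u94 : ∀ k, 23754 ≤ k → k < 25749 → pointOk (k * 20) = true := between_extend pointOk 20 23754 25728 21 (p6u93) p6r94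

theorem p6r95 : allRange pointOk 20 25749 21 = true := by decide +kernel
theorem p6u95 : ∀ k, 23754 ≤ k → k < 25770 → pointOk (k * 20) = true := between_extend pointOk 20 23754 25749 21 (p6u94) p6r95

theorem p6r96 : allRange pointOk 20 25770 21 = true := by decide +kernel
theorem p6u96 : ∀ k, 23754 ≤ k → k < 25791 → pointOk (k * 20) = true := between_extend pointOk 20 23754 25770 21 (p6u95) p6r96

theorem p6r97 : allRange pointOk 20 25791 21 = true := by decide +kernel
theorem p6u97 : ∀ k, 23754 ≤ k → k < 25812 → pointOk (k * 20) = true := between_extend pointOk 20 23754 25791 21 (p6u96) p6r97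

theorem p6r98 : allRange pointOk 20 25812 21 = true := by decide +kernel
theorem p6u98 : ∀ k, 23754 ≤ k → k < 25833 → pointOk (k * 20) = true := between_extend pointOk 20 23754 25812 21 (p6u97) p6r98

theorem p6r99 : allRange pointOk 20 25833 21 = true := by decide +kernel
theorem p6u99 : ∀ k, 23754 ≤ k → k < 25854 → pointOk (k * 20) = true := between_extend pointOk 20 23754 25833 21 (p6u98) p6r99

theorem p6r100 : allRange pointOk 20 25854 21 = true := by decide +kernel
theorem p6u100 : ∀ k, 23754 ≤ k → k < 25875 → pointOk (k * 20) = true := between_extend pointOk 20 23754 25854 21 (p6u99) p6r100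

theorem p6r101 : allRange pointOk 20 25875 21 = true := by decide +kernel
theorem p6u101 : ∀ k, 23754 ≤ k → k < 25896 → pointOk (k * 20) = true := between_extend pointOk 20 23754 25875 21 (p6u100) p6r101

theorem p6r102 : allRange pointOk 20 25896 21 = true := by decide +kernel
theorem p6u102 : ∀ k, 23754 ≤ k → k < 25917 → pointOk (k * 20) = true := between_extend pointOk 20 23754 25896 21 (p6u101) p6r102

theorem p6r103 : allRange pointOk 20 25917 21 = true := by decide +kernel
theorem p6u103 : ∀ k, 23754 ≤ k → k < 25938 → pointOk (k * 20) = true := between_extend pointOk 20 23754 25917 21 (p6u102) p6r103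

theorem p6r104 : allRange pointOk 20 25938 21 = true := by decide +kernel
theorem p6u104 : ∀ k, 23754 ≤ k → k < 25959 → pointOk (k * 20) = true := between_extend pointOk 20 23754 25938 21 (p6u103) p6r104

theorem p6r105 : allRange pointOk 20 25959 21 = true := by decide +kernel
theorem p6u105 : ∀ k, 23754 ≤ k → k < 25980 → pointOk (k * 20) = true := between_extend pointOk 20 23754 25959 21 (p6u104) p6r105

theorem p6r106 : allRange pointOk 20 25980 21 = true := by decide +kernel
theorem p6u106 : ∀ k, 23754 ≤ k → k < 26001 → pointOk (k * 20) = true := between_extend pointOk 20 23754 25980 21 (p6u105) p6r106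

theorem p6r107 : allRange pointOk 20 26001 21 = true := by decide +kernel
theorem p6u107 : ∀ k, 23754 ≤ k → k < 26022 → pointOk (k * 20) = true := between_extend pointOk 20 23754 26001 21 (p6u106) p6r107

theorem p6r108 : allRange pointOk 20 26022 21 = true := by decide +kernel
theorem p6u108 : ∀ k, 23754 ≤ k → k < 26043 → pointOk (k * 20) = true := between_extend pointOk 20 23754 26022 21 (p6u107) p6r108

theorem p6r109 : allRange pointOk 20 26043 21 = true := by decide +kernel
theorem p6u109 : ∀ k, 23754 ≤ k → k < 26064 → pointOk (k * 20) = true := between_extend pointOk 20 23754 26043 21 (p6u108) p6r109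

theorem p6r110 : allRange pointOk 20 26064 21 = true := by decide +kernel
theorem p6u110 : ∀ k, 23754 ≤ k → k < 26085 → pointOk (k * 20) = true := between_extend pointOk 20 23754 26064 21 (p6u109) p6r110

theorem p6r111 : allRange pointOk 20 26085 21 = true := by decide +kernel
theorem p6u111 : ∀ k, 23754 ≤ k → k < 26106 → pointOk (k * 20) = true := between_extend pointOk 20 23754 26085 21 (p6u110) p6r111

theorem p6r112 : allRange pointOk 20 26106 21 = true := by decide +kernel
theorem p6u112 : ∀ k, 23754 ≤ k → k < 26127 → pointOk (k * 20) = true := between_extend pointOk 20 23754 26106 21 (p6u111) p6r112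

theorem p6r113 : allRange pointOk 20 26127 21 = true := by decide +kernel
theorem p6u113 : ∀ k, 23754 ≤ k → k < 26148 → pointOk (k * 20) = true := between_extend pointOk 20 23754 26127 21 (p6u112) p6r113

theorem p6r114 : allRange pointOk 20 26148 21 = true := by decide +kernel
theorem p6u114 : ∀ k, 23754 ≤ k → k < 26169 → pointOk (k * 20) = true := between_extend pointOk 20 23754 26148 21 (p6u113) p6r114

theorem p6r115 : allRange pointOk 20 26169 21 = true := by decide +kernel
theorem p6u115 : ∀ k, 23754 ≤ k → k < 26190 → pointOk (k * 20) = true := between_extend pointOk 20 23754 26169 21 (p6u114) p6r115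

theorem p6r116 : allRange pointOk 20 26190 21 = true := by decide +kernel
theorem p6u116 : ∀ k, 23754 ≤ k → k < 26211 → pointOk (k * 20) = true := between_extend pointOk 20 23754 26190 21 (p6u115) p6r116

theorem p6r117 : allRange pointOk 20 26211 21 = true := by decide +kernel
theorem p6u117 : ∀ k, 23754 ≤ k → k < 26232 → pointOk (k * 20) = true := between_extend pointOk 20 23754 26211 21 (p6u116) p6r117

theorem p6r118 : allRange pointOk 20 26232 21 = true := by decide +kernel
theorem p6u118 : ∀ k, 23754 ≤ k → k < 26253 → pointOk (k * 20) = true := between_extend pointOk 20 23754 26232 21 (p6u117) p6r118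

theorem p6r119 : allRange pointOk 20 26253 21 = true := by decide +kernel
theorem p6u119 : ∀ k, 23754 ≤ k → k < 26274 → pointOk (k * 20) = true := between_extend pointOk 20 23754 26253 21 (p6u118) p6r119

theorem p6r120 : allRange pointOk 20 26274 21 = true := by decide +kernel
theorem p6u120 : ∀ k, 23754 ≤ k → k < 26295 → pointOk (k * 20) = true := between_extend pointOk 20 23754 26274 21 (p6u119) p6r120

theorem p6r121 : allRange pointOk 20 26295 21 = true := by decide +kernel
theorem p6u121 : ∀ k, 23754 ≤ k → k < 26316 → pointOk (k * 20) = true := between_extend pointOk 20 23754 26295 21 (p6u120) p6r121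

theorem p6r122 : allRange pointOk 20 26316 21 = true := by decide +kernel
theorem p6u122 : ∀ k, 23754 ≤ k → k < 26337 → pointOk (k * 20) = true := between_extend pointOk 20 23754 26316 21 (p6u121) p6r122

theorem p6r123 : allRange pointOk 20 26337 21 = true := by decide +kernel
theorem p6u123 : ∀ k, 23754 ≤ k → k < 26358 → pointOk (k * 20) = true := between_extend pointOk 20 23754 26337 21 (p6u122) p6r123

theorem p6r124 : allRange pointOk 20 26358 21 = true := by decide +kernel
theorem p6u124 : ∀ k, 23754 ≤ k → k < 26379 → pointOk (k * 20) = true := between_extend pointOk 20 23754 26358 21 (p6u123) p6r124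

theorem p6r125 : allRange pointOk 20 26379 21 = true := by decide +kernel
theorem p6u125 : ∀ k, 23754 ≤ k → k < 26400 → pointOk (k * 20) = true := between_extend pointOk 20 23754 26379 21 (p6u124) p6r125

theorem p6r126 : allRange pointOk 20 26400 21 = true := by decide +kernel
theorem p6u126 : ∀ k, 23754 ≤ k → k < 26421 → pointOk (k * 20) = true := between_extend pointOk 20 23754 26400 21 (p6u125) p6r126

theorem p6r127 : allRange pointOk 20 26421 21 = true := by decide +kernel
theorem p6u127 : ∀ k, 23754 ≤ k → k < 26442 → pointOk (k * 20) = true := between_extend pointOk 20 23754 26421 21 (p6u126) p6r127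

theorem p6r128 : allRange pointOk 20 26442 21 = true := by decide +kernel
theorem p6u128 : ∀ k, 23754 ≤ k → k < 26463 → pointOk (k * 20) = true := between_extend pointOk 20 23754 26442 21 (p6u127) p6r128

theorem p6r129 : allRange pointOk 20 26463 21 = true := by decide +kernel
theorem p6u129 : ∀ k, 23754 ≤ k → k < 26484 → pointOk (k * 20) = true := between_extend pointOk 20 23754 26463 21 (p6u128) p6r129

theorem p6r130 : allRange pointOk 20 26484 21 = true := by decide +kernel
theorem p6u130 : ∀ k, 23754 ≤ k → k < 26505 → pointOk (k * 20) = true := between_extend pointOk 20 23754 26484 21 (p6u129) p6r130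

theorem p6r131 : allRange pointOk 20 26505 21 = true := by decide +kernel
theorem p6u131 : ∀ k, 23754 ≤ k → k < 26526 → pointOk (k * 20) = true := between_extend pointOk 20 23754 26505 21 (p6u130) p6r131

theorem p6r132 : allRange pointOk 20 26526 21 = true := by decide +kernel
theorem p6u132 : ∀ k, 23754 ≤ k → k < 26547 → pointOk (k * 20) = true := between_extend pointOk 20 23754 26526 21 (p6u131) p6r132

theorem p6r133 : allRange pointOk 20 26547 21 = true := by decide +kernel
theorem p6u133 : ∀ k, 23754 ≤ k → k < 26568 → pointOk (k * 20) = true := between_extend pointOk 20 23754 26547 21 (p6u132) p6r133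

theorem p6r134 : allRange pointOk 20 26568 21 = true := by decide +kernel
theorem p6u134 : ∀ k, 23754 ≤ k → k < 26589 → pointOk (k * 20) = true := between_extend pointOk 20 23754 26568 21 (p6u133) p6r134

theorem p6r135 : allRange pointOk 20 26589 21 = true := by decide +kernel
theorem p6u135 : ∀ k, 23754 ≤ k → k < 26610 → pointOk (k * 20) = true := between_extend pointOk 20 23754 26589 21 (p6u134) p6r135

theorem p6r136 : allRange pointOk 20 26610 21 = true := by decide +kernel
theorem p6u136 : ∀ k, 23754 ≤ k → k < 26631 → pointOk (k * 20) = true := between_extend pointOk 20 23754 26610 21 (p6u135) p6r136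

theorem p6r137 : allRange pointOk 20 26631 21 = true := by decide +kernel
theorem p6u137 : ∀ k, 23754 ≤ k → k < 26652 → pointOk (k * 20) = true := between_extend pointOk 20 23754 26631 21 (p6u136) p6r137

theorem p6r138 : allRange pointOk 20 26652 21 = true := by decide +kernel
theorem p6u138 : ∀ k, 23754 ≤ k → k < 26673 → pointOk (k * 20) = true := between_extend pointOk 20 23754 26652 21 (p6u137) p6r138

theorem p6r139 : allRange pointOk 20 26673 21 = true := by decide +kernel
theorem p6u139 : ∀ k, 23754 ≤ k → k < 26694 → pointOk (k * 20) = true := between_extend pointOk 20 23754 26673 21 (p6u138) p6r139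

theorem p6r140 : allRange pointOk 20 26694 21 = true := by decide +kernel
theorem p6u140 : ∀ k, 23754 ≤ k → k < 26715 → pointOk (k * 20) = true := between_extend pointOk 20 23754 26694 21 (p6u139) p6r140

theorem p6r141 : allRange pointOk 20 26715 21 = true := by decide +kernel
theorem p6u141 : ∀ k, 23754 ≤ k → k < 26736 → pointOk (k * 20) = true := between_extend pointOk 20 23754 26715 21 (p6u140) p6r141

theorem p6r142 : allRange pointOk 20 26736 21 = true := by decide +kernel
theorem p6u142 : ∀ k, 23754 ≤ k → k < 26757 → pointOk (k * 20) = true := between_extend pointOk 20 23754 26736 21 (p6u141) p6r142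

theorem p6r143 : allRange pointOk 20 26757 21 = true := by decide +kernel
theorem p6u143 : ∀ k, 23754 ≤ k → k < 26778 → pointOk (k * 20) = true := between_extend pointOk 20 23754 26757 21 (p6u142) p6r143

theorem p6r144 : allRange pointOk 20 26778 21 = true := by decide +kernel
theorem p6u144 : ∀ k, 23754 ≤ k → k < 26799 → pointOk (k * 20) = true := between_extend pointOk 20 23754 26778 21 (p6u143) p6r144

theorem p6r145 : allRange pointOk 20 26799 21 = true := by decide +kernel
theorem p6u145 : ∀ k, 23754 ≤ k → k < 26820 → pointOk (k * 20) = true := between_extend pointOk 20 23754 26799 21 (p6u144) p6r145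

theorem p6r146 : allRange pointOk 20 26820 21 = true := by decide +kernel
theorem p6u146 : ∀ k, 23754 ≤ k → k < 26841 → pointOk (k * 20) = true := between_extend pointOk 20 23754 26820 21 (p6u145) p6r146

theorem p6r147 : allRange pointOk 20 26841 21 = true := by decide +kernel
theorem p6u147 : ∀ k, 23754 ≤ k → k < 26862 → pointOk (k * 20) = true := between_extend pointOk 20 23754 26841 21 (p6u146) p6r147

theorem p6r148 : allRange pointOk 20 26862 21 = true := by decide +kernel
theorem p6u148 : ∀ k, 23754 ≤ k → k < 26883 → pointOk (k * 20) = true := between_extend pointOk 20 23754 26862 21 (p6u147) p6r148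

theorem p6r149 : allRange pointOk 20 26883 21 = true := by decide +kernel
theorem p6u149 : ∀ k, 23754 ≤ k → k < 26904 → pointOk (k * 20) = true := between_extend pointOk 20 23754 26883 21 (p6u148) p6r149

theorem p6r150 : allRange pointOk 20 26904 21 = true := by decide +kernel
theorem p6u150 : ∀ k, 23754 ≤ k → k < 26925 → pointOk (k * 20) = true := between_extend pointOk 20 23754 26904 21 (p6u149) p6r150

theorem p6r151 : allRange pointOk 20 26925 21 = true := by decide +kernel
theorem p6u151 : ∀ k, 23754 ≤ k → k < 26946 → pointOk (k * 20) = true := between_extend pointOk 20 23754 26925 21 (p6u150) p6r151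

theorem p6r152 : allRange pointOk 20 26946 21 = true := by decide +kernel
theorem p6u152 : ∀ k, 23754 ≤ k → k < 26967 → pointOk (k * 20) = true := between_extend pointOk 20 23754 26946 21 (p6u151) p6r152

theorem p6r153 : allRange pointOk 20 26967 21 = true := by decide +kernel
theorem p6u153 : ∀ k, 23754 ≤ k → k < 26988 → pointOk (k * 20) = true := between_extend pointOk 20 23754 26967 21 (p6u152) p6r153

theorem p6r154 : allRange pointOk 20 26988 21 = true := by decide +kernel
theorem p6u154 : ∀ k, 23754 ≤ k → k < 27009 → pointOk (k * 20) = true := between_extend pointOk 20 23754 26988 21 (p6u153) p6r154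

theorem p6r155 : allRange pointOk 20 27009 21 = true := by decide +kernel
theorem p6u155 : ∀ k, 23754 ≤ k → k < 27030 → pointOk (k * 20) = true := between_extend pointOk 20 23754 27009 21 (p6u154) p6r155

theorem p6r156 : allRange pointOk 20 27030 21 = true := by decide +kernel
theorem p6u156 : ∀ k, 23754 ≤ k → k < 27051 → pointOk (k * 20) = true := between_extend pointOk 20 23754 27030 21 (p6u155) p6r156

theorem p6r157 : allRange pointOk 20 27051 21 = true := by decide +kernel
theorem p6u157 : ∀ k, 23754 ≤ k → k < 27072 → pointOk (k * 20) = true := between_extend pointOk 20 23754 27051 21 (p6u156) p6r157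

theorem p6r158 : allRange pointOk 20 27072 21 = true := by decide +kernel
theorem p6u158 : ∀ k, 23754 ≤ k → k < 27093 → pointOk (k * 20) = true := between_extend pointOk 20 23754 27072 21 (p6u157) p6r158

theorem p6r159 : allRange pointOk 20 27093 21 = true := by decide +kernel
theorem p6u159 : ∀ k, 23754 ≤ k → k < 27114 → pointOk (k * 20) = true := between_extend pointOk 20 23754 27093 21 (p6u158) p6r159

theorem p6r160 : allRange pointOk 20 27114 21 = true := by decide +kernel
theorem p6u160 : ∀ k, 23754 ≤ k → k < 27135 → pointOk (k * 20) = true := between_extend pointOk 20 23754 27114 21 (p6u159) p6r160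

theorem p6r161 : allRange pointOk 20 27135 21 = true := by decide +kernel
theorem p6u161 : ∀ k, 23754 ≤ k → k < 27156 → pointOk (k * 20) = true := between_extend pointOk 20 23754 27135 21 (p6u160) p6r161

theorem p6r162 : allRange pointOk 20 27156 21 = true := by decide +kernel
theorem p6u162 : ∀ k, 23754 ≤ k → k < 27177 → pointOk (k * 20) = true := between_extend pointOk 20 23754 27156 21 (p6u161) p6r162

theorem p6r163 : allRange pointOk 20 27177 21 = true := by decide +kernel
theorem p6u163 : ∀ k, 23754 ≤ k → k < 27198 → pointOk (k * 20) = true := between_extend pointOk 20 23754 27177 21 (p6u162) p6r163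

theorem p6r164 : allRange pointOk 20 27198 21 = true := by decide +kernel
theorem p6u164 : ∀ k, 23754 ≤ k → k < 27219 → pointOk (k * 20) = true := between_extend pointOk 20 23754 27198 21 (p6u163) p6r164

theorem p6r165 : allRange pointOk 20 27219 21 = true := by decide +kernel
theorem p6u165 : ∀ k, 23754 ≤ k → k < 27240 → pointOk (k * 20) = true := between_extend pointOk 20 23754 27219 21 (p6u164) p6r165

theorem p6r166 : allRange pointOk 20 27240 21 = true := by decide +kernel
theorem p6u166 : ∀ k, 23754 ≤ k → k < 27261 → pointOk (k * 20) = true := between_extend pointOk 20 23754 27240 21 (p6u165) p6r166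

theorem p6r167 : allRange pointOk 20 27261 21 = true := by decide +kernel
theorem p6u167 : ∀ k, 23754 ≤ k → k < 27282 → pointOk (k * 20) = true := between_extend pointOk 20 23754 27261 21 (p6u166) p6r167

theorem p6r168 : allRange pointOk 20 27282 21 = true := by decide +kernel
theorem p6u168 : ∀ k, 23754 ≤ k → k < 27303 → pointOk (k * 20) = true := between_extend pointOk 20 23754 27282 21 (p6u167) p6r168

theorem p6r169 : allRange pointOk 20 27303 21 = true := by decide +kernel
theorem p6u169 : ∀ k, 23754 ≤ k → k < 27324 → pointOk (k * 20) = true := between_extend pointOk 20 23754 27303 21 (p6u168) p6r169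

theorem p6r170 : allRange pointOk 20 27324 21 = true := by decide +kernel
theorem p6u170 : ∀ k, 23754 ≤ k → k < 27345 → pointOk (k * 20) = true := between_extend pointOk 20 23754 27324 21 (p6u169) p6r170

theorem p6r171 : allRange pointOk 20 27345 21 = true := by decide +kernel
theorem p6u171 : ∀ k, 23754 ≤ k → k < 27366 → pointOk (k * 20) = true := between_extend pointOk 20 23754 27345 21 (p6u170) p6r171

theorem p6r172 : allRange pointOk 20 27366 21 = true := by decide +kernel
theorem p6u172 : ∀ k, 23754 ≤ k → k < 27387 → pointOk (k * 20) = true := between_extend pointOk 20 23754 27366 21 (p6u171) p6r172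

theorem p6r173 : allRange pointOk 20 27387 21 = true := by decide +kernel
theorem p6u173 : ∀ k, 23754 ≤ k → k < 27408 → pointOk (k * 20) = true := between_extend pointOk 20 23754 27387 21 (p6u172) p6r173

theorem p6r174 : allRange pointOk 20 27408 21 = true := by decide +kernel
theorem p6u174 : ∀ k, 23754 ≤ k → k < 27429 → pointOk (k * 20) = true := between_extend pointOk 20 23754 27408 21 (p6u173) p6r174

theorem p6r175 : allRange pointOk 20 27429 21 = true := by decide +kernel
theorem p6u175 : ∀ k, 23754 ≤ k → k < 27450 → pointOk (k * 20) = true := between_extend pointOk 20 23754 27429 21 (p6u174) p6r175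

theorem p6r176 : allRange pointOk 20 27450 21 = true := by decide +kernel
theorem p6u176 : ∀ k, 23754 ≤ k → k < 27471 → pointOk (k * 20) = true := between_extend pointOk 20 23754 27450 21 (p6u175) p6r176

theorem p6r177 : allRange pointOk 20 27471 21 = true := by decide +kernel
theorem p6u177 : ∀ k, 23754 ≤ k → k < 27492 → pointOk (k * 20) = true := between_extend pointOk 20 23754 27471 21 (p6u176) p6r177

theorem p6r178 : allRange pointOk 20 27492 21 = true := by decide +kernel
theorem p6u178 : ∀ k, 23754 ≤ k → k < 27513 → pointOk (k * 20) = true := between_extend pointOk 20 23754 27492 21 (p6u177) p6r178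

theorem p6r179 : allRange pointOk 20 27513 21 = true := by decide +kernel
theorem p6u179 : ∀ k, 23754 ≤ k → k < 27534 → pointOk (k * 20) = true := between_extend pointOk 20 23754 27513 21 (p6u178) p6r179

theorem p6r180 : allRange pointOk 20 27534 21 = true := by decide +kernel
theorem p6u180 : ∀ k, 23754 ≤ k → k < 27555 → pointOk (k * 20) = true := between_extend pointOk 20 23754 27534 21 (p6u179) p6r180

theorem p6r181 : allRange pointOk 20 27555 21 = true := by decide +kernel
theorem p6u181 : ∀ k, 23754 ≤ k → k < 27576 → pointOk (k * 20) = true := between_extend pointOk 20 23754 27555 21 (p6u180) p6r181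

theorem p6r182 : allRange pointOk 20 27576 21 = true := by decide +kernel
theorem p6u182 : ∀ k, 23754 ≤ k → k < 27597 → pointOk (k * 20) = true := between_extend pointOk 20 23754 27576 21 (p6u181) p6r182

theorem p6r183 : allRange pointOk 20 27597 21 = true := by decide +kernel
theorem p6u183 : ∀ k, 23754 ≤ k → k < 27618 → pointOk (k * 20) = true := between_extend pointOk 20 23754 27597 21 (p6u182) p6r183

theorem p6r184 : allRange pointOk 20 27618 21 = true := by decide +kernel
theorem p6u184 : ∀ k, 23754 ≤ k → k < 27639 → pointOk (k * 20) = true := between_extend pointOk 20 23754 27618 21 (p6u183) p6r184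

theorem p6r185 : allRange pointOk 20 27639 21 = true := by decide +kernel
theorem p6u185 : ∀ k, 23754 ≤ k → k < 27660 → pointOk (k * 20) = true := between_extend pointOk 20 23754 27639 21 (p6u184) p6r185

theorem p6r186 : allRange pointOk 20 27660 21 = true := by decide +kernel
theorem p6u186 : ∀ k, 23754 ≤ k → k < 27681 → pointOk (k * 20) = true := between_extend pointOk 20 23754 27660 21 (p6u185) p6r186

theorem p6r187 : allRange pointOk 20 27681 21 = true := by decide +kernel
theorem p6u187 : ∀ k, 23754 ≤ k → k < 27702 → pointOk (k * 20) = true := between_extend pointOk 20 23754 27681 21 (p6u186) p6r187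

theorem p6r188 : allRange pointOk 20 27702 11 = true := by decide +kernel
theorem p6u188 : ∀ k, 23754 ≤ k → k < 27713 → pointOk (k * 20) = true := between_extend pointOk 20 23754 27702 11 (p6u187) p6r188

theorem p6 : ∀ k, 23754 ≤ k → k < 27713 → pointOk (k * 20) = true := p6u188

end Cfsg.Agent.Lib.Helper28_S1689
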