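import Cfsg.Agent.Lib.Helper28_S1689Def

set_option autoImplicit false
set_option linter.constructorNameAsVariable false
set_option Elab.async false

namespace Cfsg.Agent.Lib.Helper28_S1689

open Cfsg.Agent.Lib.Helper28_CosetPerm

theorem p7r0 : allRange pointOk 20 27713 21 = true := by decide +kernel
theorem p7u0 : ∀ k, 27713 ≤ k → k < 27734 → pointOk (k * 20) = true := between_extend pointOk 20 27713 27713 21 (between_start pointOk 20 27713) p7r0

theorem p7r1 : allRange pointOk 20 27734 21 = true := by decide +kernel
theorem p7u1 : ∀ k, 27713 ≤ k → k < 27755 → pointOk (k * 20) = true := between_extend pointOk 20 27713 27734 21 (p7u0) p7r1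

theorem p7r2 : allRange pointOk 20 27755 21 = true := by decide +kernel
theorem p7u2 : ∀ k, 27713 ≤ k → k < 27776 → pointOk (k * 20) = true := between_extend pointOk 20 27713 27755 21 (p7u1) p7r2

theorem p7r3 : allRange pointOk 20 27776 21 = true := by decide +kernel
theorem p7u3 : ∀ k, 27713 ≤ k → k < 27797 → pointOk (k * 20) = true := between_extend pointOk 20 27713 27776 21 (p7u2) p7r3

theorem p7r4 : allRange pointOk 20 27797 21 = true := by decide +kernel
theorem p7u4 : ∀ k, 27713 ≤ k → k < 27818 → pointOk (k * 20) = true := between_extend pointOk 20 27713 27797 21 (p7u3) p7r4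

theorem p7r5 : allRange pointOk 20 27818 21 = true := by decide +kernel
theorem p7u5 : ∀ k, 27713 ≤ k → k < 27839 → pointOk (k * 20) = true := between_extend pointOk 20 27713 27818 21 (p7u4) p7r5

theorem p7r6 : allRange pointOk 20 27839 21 = true := by decide +kernel
theorem p7u6 : ∀ k, 27713 ≤ k → k < 27860 → pointOk (k * 20) = true := between_extend pointOk 20 27713 27839 21 (p7u5) p7r6

theorem p7r7 : allRange pointOk 20 27860 21 = true := by decide +kernel
theorem p7u7 : ∀ k, 27713 ≤ k → k < 27881 → pointOk (k * 20) = true := between_extend pointOk 20 27713 27860 21 (p7u6) p7r7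

theorem p7r8 : allRange pointOk 20 27881 21 = true := by decide +kernel
theorem p7u8 : ∀ k, 27713 ≤ k → k < 27902 → pointOk (k * 20) = true := between_extend pointOk 20 27713 27881 21 (p7u7) p7r8

theorem p7r9 : allRange pointOk 20 27902 21 = true := by decide +kernel
theorem p7u9 : ∀ k, 27713 ≤ k → k < 27923 → pointOk (k * 20) = true := between_extend pointOk 20 27713 27902 21 (p7u8) p7r9

theorem p7r10 : allRange pointOk 20 27923 21 = true := by decide +kernel
theorem p7u10 : ∀ k, 27713 ≤ k → k < 27944 → pointOk (k * 20) = true := between_extend pointOk 20 27713 27923 21 (p7u9) p7r10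

theorem p7r11 : allRange pointOk 20 27944 21 = true := by decide +kernel
theorem p7u11 : ∀ k, 27713 ≤ k → k < 27965 → pointOk (k * 20) = true := between_extend pointOk 20 27713 27944 21 (p7u10) p7r11

theorem p7r12 : allRange pointOk 20 27965 21 = true := by decide +kernel
theorem p7u12 : ∀ k, 27713 ≤ k → k < 27986 → pointOk (k * 20) = true := between_extend pointOk 20 27713 27965 21 (p7u11) p7r12

theorem p7r13 : allRange pointOk 20 27986 21 = true := by decide +kernel
theorem p7u13 : ∀ k, 27713 ≤ k → k < 28007 → pointOk (k * 20) = true := between_extend pointOk 20 27713 27986 21 (p7u12) p7r13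

theorem p7r14 : allRange pointOk 20 28007 21 = true := by decide +kernel
theorem p7u14 : ∀ k, 27713 ≤ k → k < 28028 → pointOk (k * 20) = true := between_extend pointOk 20 27713 28007 21 (p7u13) p7r14

theorem p7r15 : allRange pointOk 20 28028 21 = true := by decide +kernel
theorem p7u15 : ∀ k, 27713 ≤ k → k < 28049 → pointOk (k * 20) = true := between_extend pointOk 20 27713 28028 21 (p7u14) p7r15

theorem p7r16 : allRange pointOk 20 28049 21 = true := by decide +kernel
theorem p7u16 : ∀ k, 27713 ≤ k → k < 28070 → pointOk (k * 20) = true := between_extend pointOk 20 27713 28049 21 (p7u15) p7r16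

theorem p7r17 : allRange pointOk 20 28070 21 = true := by decide +kernel
theorem p7u17 : ∀ k, 27713 ≤ k → k < 28091 → pointOk (k * 20) = true := between_extend pointOk 20 27713 28070 21 (p7u16) p7r17

theorem p7r18 : allRange pointOk 20 28091 21 = true := by decide +kernel
theorem p7u18 : ∀ k, 27713 ≤ k → k < 28112 → pointOk (k * 20) = true := between_extend pointOk 20 27713 28091 21 (p7u17) p7r18

theorem p7r19 : allRange pointOk 20 28112 21 = true := by decide +kernel
theorem p7u19 : ∀ k, 27713 ≤ k → k < 28133 → pointOk (k * 20) = true := between_extend pointOk 20 27713 28112 21 (p7u18) p7r19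

theorem p7r20 : allRange pointOk 20 28133 21 = true := by decide +kernel
theorem p7u20 : ∀ k, 27713 ≤ k → k < 28154 → pointOk (k * 20) = true := between_extend pointOk 20 27713 28133 21 (p7u19) p7r20

theorem p7r21 : allRange pointOk 20 28154 21 = true := by decide +kernel
theorem p7u21 : ∀ k, 27713 ≤ k → k < 28175 → pointOk (k * 20) = true := between_extend pointOk 20 27713 28154 21 (p7u20) p7r21

theorem p7r22 : allRange pointOk 20 28175 21 = true := by decide +kernel
theorem p7u22 : ∀ k, 27713 ≤ k → k < 28196 → pointOk (k * 20) = true := between_extend pointOk 20 27713 28175 21 (p7u21) p7r22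

theorem p7r23 : allRange pointOk 20 28196 21 = true := by decide +kernel
theorem p7u23 : ∀ k, 27713 ≤ k → k < 28217 → pointOk (k * 20) = true := between_extend pointOk 20 27713 28196 21 (p7u22) p7r23

theorem p7r24 : allRange pointOk 20 28217 21 = true := by decide +kernel
theorem p7u24 : ∀ k, 27713 ≤ k → k < 28238 → pointOk (k * 20) = true := between_extend pointOk 20 27713 28217 21 (p7u23) p7r24

theorem p7r25 : allRange pointOk 20 28238 21 = true := by decide +kernel
theorem p7u25 : ∀ k, 27713 ≤ k → k < 28259 → pointOk (k * 20) = true := between_extend pointOk 20 27713 28238 21 (p7u24) p7r25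

theorem p7r26 : allRange pointOk 20 28259 21 = true := by decide +kernel
theorem p7u26 : ∀ k, 27713 ≤ k → k < 28280 → pointOk (k * 20) = true := between_extend pointOk 20 27713 28259 21 (p7u25) p7r26

theorem p7r27 : allRange pointOk 20 28280 21 = true := by decide +kernel
theorem p7u27 : ∀ k, 27713 ≤ k → k < 28301 → pointOk (k * 20) = true := between_extend pointOk 20 27713 28280 21 (p7u26) p7r27

theorem p7r28 : allRange pointOk 20 28301 21 = true := by decide +kernel
theorem p7u28 : ∀ k, 27713 ≤ k → k < 28322 → pointOk (k * 20) = true := between_extend pointOk 20 27713 28301 21 (p7u27) p7r28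

theorem p7r29 : allRange pointOk 20 28322 21 = true := by decide +kernel
theorem p7u29 : ∀ k, 27713 ≤ k → k < 28343 → pointOk (k * 20) = true := between_extend pointOk 20 27713 28322 21 (p7u28) p7r29

theorem p7r30 : allRange pointOk 20 28343 21 = true := by decide +kernel
theorem p7u30 : ∀ k, 27713 ≤ k → k < 28364 → pointOk (k * 20) = true := between_extend pointOk 20 27713 28343 21 (p7u29) p7r30

theorem p7r31 : allRange pointOk 20 28364 21 = true := by decide +kernel
theorem p7u31 : ∀ k, 27713 ≤ k → k < 28385 → pointOk (k * 20) = true := between_extend pointOk 20 27713 28364 21 (p7u30) p7r31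

theorem p7r32 : allRange pointOk 20 28385 21 = true := by decide +kernel
theorem p7u32 : ∀ k, 27713 ≤ k → k < 28406 → pointOk (k * 20) = true := between_extend pointOk 20 27713 28385 21 (p7u31) p7r32

theorem p7r33 : allRange pointOk 20 28406 21 = true := by decide +kernel
theorem p7u33 : ∀ k, 27713 ≤ k → k < 28427 → pointOk (k * 20) = true := between_extend pointOk 20 27713 28406 21 (p7u32) p7r33

theorem p7r34 : allRange pointOk 20 28427 21 = true := by decide +kernel
theorem p7u34 : ∀ k, 27713 ≤ k → k < 28448 → pointOk (k * 20) = true := between_extend pointOk 20 27713 28427 21 (p7u33) p7r34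

theorem p7r35 : allRange pointOk 20 28448 21 = true := by decide +kernel
theorem p7u35 : ∀ k, 27713 ≤ k → k < 28469 → pointOk (k * 20) = true := between_extend pointOk 20 27713 28448 21 (p7u34) p7r35

theorem p7r36 : allRange pointOk 20 28469 21 = true := by decide +kernel
theorem p7u36 : ∀ k, 27713 ≤ k → k < 28490 → pointOk (k * 20) = true := between_extend pointOk 20 27713 28469 21 (p7u35) p7r36

theorem p7r37 : allRange pointOk 20 28490 21 = true := by decide +kernel
theorem p7u37 : ∀ k, 27713 ≤ k → k < 28511 → pointOk (k * 20) = true := between_extend pointOk 20 27713 28490 21 (p7u36) p7r37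

theorem p7r38 : allRange pointOk 20 28511 21 = true := by decide +kernel
theorem p7u38 : ∀ k, 27713 ≤ k → k < 28532 → pointOk (k * 20) = true := between_extend pointOk 20 27713 28511 21 (p7u37) p7r38

theorem p7r39 : allRange pointOk 20 28532 21 = true := by decide +kernel
theorem p7u39 : ∀ k, 27713 ≤ k → k < 28553 → pointOk (k * 20) = true := between_extend pointOk 20 27713 28532 21 (p7u38) p7r39

theorem p7r40 : allRange pointOk 20 28553 21 = true := by decide +kernel
theorem p7u40 : ∀ k, 27713 ≤ k → k < 28574 → pointOk (k * 20) = true := between_extend pointOk 20 27713 28553 21 (p7u39) p7r40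

theorem p7r41 : allRange pointOk 20 28574 21 = true := by decide +kernel
theorem p7u41 : ∀ k, 27713 ≤ k → k < 28595 → pointOk (k * 20) = true := between_extend pointOk 20 27713 28574 21 (p7u40) p7r41

theorem p7r42 : allRange pointOk 20 28595 21 = true := by decide +kernel
theorem p7u42 : ∀ k, 27713 ≤ k → k < 28616 → pointOk (k * 20) = true := between_extend pointOk 20 27713 28595 21 (p7u41) p7r42

theorem p7r43 : allRange pointOk 20 28616 21 = true := by decide +kernel
theorem p7u43 : ∀ k, 27713 ≤ k → k < 28637 → pointOk (k * 20) = true := between_extend pointOk 20 27713 28616 21 (p7u42) p7r43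

theorem p7r44 : allRange pointOk 20 28637 21 = true := by decide +kernel
theorem p7u44 : ∀ k, 27713 ≤ k → k < 28658 → pointOk (k * 20) = true := between_extend pointOk 20 27713 28637 21 (p7u43) p7r44

theorem p7r45 : allRange pointOk 20 28658 21 = true := by decide +kernel
theorem p7u45 : ∀ k, 27713 ≤ k → k < 28679 → pointOk (k * 20) = true := between_extend pointOk 20 27713 28658 21 (p7u44) p7r45

theorem p7r46 : allRange pointOk 20 28679 21 = true := by decide +kernel
theorem p7u46 : ∀ k, 27713 ≤ k → k < 28700 → pointOk (k * 20) = true := between_extend pointOk 20 27713 28679 21 (p7u45) p7r46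

theorem p7r47 : allRange pointOk 20 28700 21 = true := by decide +kernel
theorem p7u47 : ∀ k, 27713 ≤ k → k < 28721 → pointOk (k * 20) = true := between_extend pointOk 20 27713 28700 21 (p7u46) p7r47

theorem p7r48 : allRange pointOk 20 28721 21 = true := by decide +kernel
theorem p7u48 : ∀ k, 27713 ≤ k → k < 28742 → pointOk (k * 20) = true := between_extend pointOk 20 27713 28721 21 (p7u47) p7r48

theorem p7r49 : allRange pointOk 20 28742 21 = true := by decide +kernel
theorem p7u49 : ∀ k, 27713 ≤ k → k < 28763 → pointOk (k * 20) = true := between_extend pointOk 20 27713 28742 21 (p7u48) p7r49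

theorem p7r50 : allRange pointOk 20 28763 21 = true := by decide +kernel
theorem p7u50 : ∀ k, 27713 ≤ k → k < 28784 → pointOk (k * 20) = true := between_extend pointOk 20 27713 28763 21 (p7u49) p7r50

theorem p7r51 : allRange pointOk 20 28784 21 = true := by decide +kernel
theorem p7u51 : ∀ k, 27713 ≤ k → k < 28805 → pointOk (k * 20) = true := between_extend pointOk 20 27713 28784 21 (p7u50) p7r51

theorem p7r52 : allRange pointOk 20 28805 21 = true := by decide +kernel
theorem p7u52 : ∀ k, 27713 ≤ k → k < 28826 → pointOk (k * 20) = true := between_extend pointOk 20 27713 28805 21 (p7u51) p7r52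

theorem p7r53 : allRange pointOk 20 28826 21 = true := by decide +kernel
theorem p7u53 : ∀ k, 27713 ≤ k → k < 28847 → pointOk (k * 20) = true := between_extend pointOk 20 27713 28826 21 (p7u52) p7r53

theorem p7r54 : allRange pointOk 20 28847 21 = true := by decide +kernel
theorem p7u54 : ∀ k, 27713 ≤ k → k < 28868 → pointOk (k * 20) = true := between_extend pointOk 20 27713 28847 21 (p7u53) p7r54

theorem p7r55 : allRange pointOk 20 28868 21 = true := by decide +kernel
theorem p7u55 : ∀ k, 27713 ≤ k → k < 28889 → pointOk (k * 20) = true := between_extend pointOk 20 27713 28868 21 (p7u54) p7r55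

theorem p7r56 : allRange pointOk 20 28889 21 = true := by decide +kernel
theorem p7u56 : ∀ k, 27713 ≤ k → k < 28910 → pointOk (k * 20) = true := between_extend pointOk 20 27713 28889 21 (p7u55) p7r56

theorem p7r57 : allRange pointOk 20 28910 21 = true := by decide +kernel
theorem p7u57 : ∀ k, 27713 ≤ k → k < 28931 → pointOk (k * 20) = true := between_extend pointOk 20 27713 28910 21 (p7u56) p7r57

theorem p7r58 : allRange pointOk 20 28931 21 = true := by decide +kernel
theorem p7u58 : ∀ k, 27713 ≤ k → k < 28952 → pointOk (k * 20) = true := between_extend pointOk 20 27713 28931 21 (p7u57) p7r58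

theorem p7r59 : allRange pointOk 20 28952 21 = true := by decide +kernel
theorem p7u59 : ∀ k, 27713 ≤ k → k < 28973 → pointOk (k * 20) = true := between_extend pointOk 20 27713 28952 21 (p7u58) p7r59

theorem p7r60 : allRange pointOk 20 28973 21 = true := by decide +kernel
theorem p7u60 : ∀ k, 27713 ≤ k → k < 28994 → pointOk (k * 20) = true := between_extend pointOk 20 27713 28973 21 (p7u59) p7r60

theorem p7r61 : allRange pointOk 20 28994 21 = true := by decide +kernel
theorem p7u61 : ∀ k, 27713 ≤ k → k < 29015 → pointOk (k * 20) = true := between_extend pointOk 20 27713 28994 21 (p7u60) p7r61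

theorem p7r62 : allRange pointOk 20 29015 21 = true := by decide +kernel
theorem p7u62 : ∀ k, 27713 ≤ k → k < 29036 → pointOk (k * 20) = true := between_extend pointOk 20 27713 29015 21 (p7u61) p7r62

theorem p7r63 : allRange pointOk 20 29036 21 = true := by decide +kernel
theorem p7u63 : ∀ k, 27713 ≤ k → k < 29057 → pointOk (k * 20) = true := between_extend pointOk 20 27713 29036 21 (p7u62) p7r63

theorem p7r64 : allRange pointOk 20 29057 21 = true := by decide +kernel
theorem p7u64 : ∀ k, 27713 ≤ k → k < 29078 → pointOk (k * 20) = true := between_extend pointOk 20 27713 29057 21 (p7u63) p7r64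

theorem p7r65 : allRange pointOk 20 29078 21 = true := by decide +kernel
theorem p7u65 : ∀ k, 27713 ≤ k → k < 29099 → pointOk (k * 20) = true := between_extend pointOk 20 27713 29078 21 (p7u64) p7r65

theorem p7r66 : allRange pointOk 20 29099 21 = true := by decide +kernel
theorem p7u66 : ∀ k, 27713 ≤ k → k < 29120 → pointOk (k * 20) = true := between_extend pointOk 20 27713 29099 21 (p7u65) p7r66

theorem p7r67 : allRange pointOk 20 29120 21 = true := by decide +kernel
theorem p7u67 : ∀ k, 27713 ≤ k → k < 29141 → pointOk (k * 20) = true := between_extend pointOk 20 27713 29120 21 (p7u66) p7r67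

theorem p7r68 : allRange pointOk 20 29141 21 = true := by decide +kernel
theorem p7u68 : ∀ k, 27713 ≤ k → k < 29162 → pointOk (k * 20) = true := between_extend pointOk 20 27713 29141 21 (p7u67) p7r68

theorem p7r69 : allRange pointOk 20 29162 21 = true := by decide +kernel
theorem p7u69 : ∀ k, 27713 ≤ k → k < 29183 → pointOk (k * 20) = true := between_extend pointOk 20 27713 29162 21 (p7u68) p7r69

theorem p7r70 : allRange pointOk 20 29183 21 = true := by decide +kernel
theorem p7u70 : ∀ k, 27713 ≤ k → k < 29204 → pointOk (k * 20) = true := between_extend pointOk 20 27713 29183 21 (p7u69) p7r70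

theorem p7r71 : allRange pointOk 20 29204 21 = true := by decide +kernel
theorem p7u71 : ∀ k, 27713 ≤ k → k < 29225 → pointOk (k * 20) = true := between_extend pointOk 20 27713 29204 21 (p7u70) p7r71

theorem p7r72 : allRange pointOk 20 29225 21 = true := by decide +kernel
theorem p7u72 : ∀ k, 27713 ≤ k → k < 29246 → pointOk (k * 20) = true := between_extend pointOk 20 27713 29225 21 (p7u71) p7r72

theorem p7r73 : allRange pointOk 20 29246 21 = true := by decide +kernel
theorem p7u73 : ∀ k, 27713 ≤ k → k < 29267 → pointOk (k * 20) = true := between_extend pointOk 20 27713 29246 21 (p7u72) p7r73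

theorem p7r74 : allRange pointOk 20 29267 21 = true := by decide +kernel
theorem p7u74 : ∀ k, 27713 ≤ k → k < 29288 → pointOk (k * 20) = true := between_extend pointOk 20 27713 29267 21 (p7u73) p7r74

theorem p7r75 : allRange pointOk 20 29288 21 = true := by decide +kernel
theorem p7u75 : ∀ k, 27713 ≤ k → k < 29309 → pointOk (k * 20) = true := between_extend pointOk 20 27713 29288 21 (p7u74) p7r75

theorem p7r76 : allRange pointOk 20 29309 21 = true := by decide +kernel
theorem p7u76 : ∀ k, 27713 ≤ k → k < 29330 → pointOk (k * 20) = true := between_extend pointOk 20 27713 29309 21 (p7u75) p7r76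

theorem p7r77 : allRange pointOk 20 29330 21 = true := by decide +kernel
theorem p7u77 : ∀ k, 27713 ≤ k → k < 29351 → pointOk (k * 20) = true := between_extend pointOk 20 27713 29330 21 (p7u76) p7r77

theorem p7r78 : allRange pointOk 20 29351 21 = true := by decide +kernel
theorem p7u78 : ∀ k, 27713 ≤ k → k < 29372 → pointOk (k * 20) = true := between_extend pointOk 20 27713 29351 21 (p7u77) p7r78

theorem p7r79 : allRange pointOk 20 29372 21 = true := by decide +kernel
theorem p7u79 : ∀ k, 27713 ≤ k → k < 29393 → pointOk (k * 20) = true := between_extend pointOk 20 27713 29372 21 (p7u78) p7r79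

theorem p7r80 : allRange pointOk 20 29393 21 = true := by decide +kernel
theorem p7u80 : ∀ k, 27713 ≤ k → k < 29414 → pointOk (k * 20) = true := between_extend pointOk 20 27713 29393 21 (p7u79) p7r80

theorem p7r81 : allRange pointOk 20 29414 21 = true := by decide +kernel
theorem p7u81 : ∀ k, 27713 ≤ k → k < 29435 → pointOk (k * 20) = true := between_extend pointOk 20 27713 29414 21 (p7u80) p7r81

theorem p7r82 : allRange pointOk 20 29435 21 = true := by decide +kernel
theorem p7u82 : ∀ k, 27713 ≤ k → k < 29456 → pointOk (k * 20) = true := between_extend pointOk 20 27713 29435 21 (p7u81) p7r82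

theorem p7r83 : allRange pointOk 20 29456 21 = true := by decide +kernel
theorem p7u83 : ∀ k, 27713 ≤ k → k < 29477 → pointOk (k * 20) = true := between_extend pointOk 20 27713 29456 21 (p7u82) p7r83

theorem p7r84 : allRange pointOk 20 29477 21 = true := by decide +kernel
theorem p7u84 : ∀ k, 27713 ≤ k → k < 29498 → pointOk (k * 20) = true := between_extend pointOk 20 27713 29477 21 (p7u83) p7r84

theorem p7r85 : allRange pointOk 20 29498 21 = true := by decide +kernel
theorem p7u85 : ∀ k, 27713 ≤ k → k < 29519 → pointOk (k * 20) = true := between_extend pointOk 20 27713 29498 21 (p7u84) p7r85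

theorem p7r86 : allRange pointOk 20 29519 21 = true := by decide +kernel
theorem p7u86 : ∀ k, 27713 ≤ k → k < 29540 → pointOk (k * 20) = true := between_extend pointOk 20 27713 29519 21 (p7u85) p7r86

theorem p7r87 : allRange pointOk 20 29540 21 = true := by decide +kernel
theorem p7u87 : ∀ k, 27713 ≤ k → k < 29561 → pointOk (k * 20) = true := between_extend pointOk 20 27713 29540 21 (p7u86) p7r87

theorem p7r88 : allRange pointOk 20 29561 21 = true := by decide +kernel
theorem p7u88 : ∀ k, 27713 ≤ k → k < 29582 → pointOk (k * 20) = true := between_extend pointOk 20 27713 29561 21 (p7u87) p7r88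

theorem p7r89 : allRange pointOk 20 29582 21 = true := by decide +kernel
theorem p7u89 : ∀ k, 27713 ≤ k → k < 29603 → pointOk (k * 20) = true := between_extend pointOk 20 27713 29582 21 (p7u88) p7r89

theorem p7r90 : allRange pointOk 20 29603 21 = true := by decide +kernel
theorem p7u90 : ∀ k, 27713 ≤ k → k < 29624 → pointOk (k * 20) = true := between_extend pointOk 20 27713 29603 21 (p7u89) p7r90

theorem p7r91 : allRange pointOk 20 29624 21 = true := by decide +kernel
theorem p7u91 : ∀ k, 27713 ≤ k → k < 29645 → pointOk (k * 20) = true := between_extend pointOk 20 27713 29624 21 (p7u90) p7r91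

theorem p7r92 : allRange pointOk 20 29645 21 = true := by decide +kernel
theorem p7u92 : ∀ k, 27713 ≤ k → k < 29666 → pointOk (k * 20) = true := between_extend pointOk 20 27713 29645 21 (p7u91) p7r92

theorem p7r93 : allRange pointOk 20 29666 21 = true := by decide +kernel
theorem p7u93 : ∀ k, 27713 ≤ k → k < 29687 → pointOk (k * 20) = true := between_extend pointOk 20 27713 29666 21 (p7u92) p7r93

theorem p7r94 : allRange pointOk 20 29687 21 = true := by decide +kernel
theorem p7u94 : ∀ k, 27713 ≤ k → k < 29708 → pointOk (k * 20) = true := between_extend pointOk 20 27713 29687 21 (p7u93) p7r94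

theorem p7r95 : allRange pointOk 20 29708 21 = true := by decide +kernel
theorem p7u95 : ∀ k, 27713 ≤ k → k < 29729 → pointOk (k * 20) = true := between_extend pointOk 20 27713 29708 21 (p7u94) p7r95

theorem p7r96 : allRange pointOk 20 29729 21 = true := by decide +kernel
theorem p7u96 : ∀ k, 27713 ≤ k → k < 29750 → pointOk (k * 20) = true := between_extend pointOk 20 27713 29729 21 (p7u95) p7r96

theorem p7r97 : allRange pointOk 20 29750 21 = true := by decide +kernel
theorem p7u97 : ∀ k, 27713 ≤ k → k < 29771 → pointOk (k * 20) = true := between_extend pointOk 20 27713 29750 21 (p7u96) p7r97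

theorem p7r98 : allRange pointOk 20 29771 21 = true := by decide +kernel
theorem p7u98 : ∀ k, 27713 ≤ k → k < 29792 → pointOk (k * 20) = true := between_extend pointOk 20 27713 29771 21 (p7u97) p7r98

theorem p7r99 : allRange pointOk 20 29792 21 = true := by decide +kernel
theorem p7u99 : ∀ k, 27713 ≤ k → k < 29813 → pointOk (k * 20) = true := between_extend pointOk 20 27713 29792 21 (p7u98) p7r99

theorem p7r100 : allRange pointOk 20 29813 21 = true := by decide +kernel
theorem p7u100 : ∀ k, 27713 ≤ k → k < 29834 → pointOk (k * 20) = true := between_extend pointOk 20 27713 29813 21 (p7u99) p7r100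

theorem p7r101 : allRange pointOk 20 29834 21 = true := by decide +kernel
theorem p7u101 : ∀ k, 27713 ≤ k → k < 29855 → pointOk (k * 20) = true := between_extend pointOk 20 27713 29834 21 (p7u100) p7r101

theorem p7r102 : allRange pointOk 20 29855 21 = true := by decide +kernel
theorem p7u102 : ∀ k, 27713 ≤ k → k < 29876 → pointOk (k * 20) = true := between_extend pointOk 20 27713 29855 21 (p7u101) p7r102

theorem p7r103 : allRange pointOk 20 29876 21 = true := by decide +kernel
theorem p7u103 : ∀ k, 27713 ≤ k → k < 29897 → pointOk (k * 20) = true := between_extend pointOk 20 27713 29876 21 (p7u102) p7r103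

theorem p7r104 : allRange pointOk 20 29897 21 = true := by decide +kernel
theorem p7u104 : ∀ k, 27713 ≤ k → k < 29918 → pointOk (k * 20) = true := between_extend pointOk 20 27713 29897 21 (p7u103) p7r104

theorem p7r105 : allRange pointOk 20 29918 21 = true := by decide +kernel
theorem p7u105 : ∀ k, 27713 ≤ k → k < 29939 → pointOk (k * 20) = true := between_extend pointOk 20 27713 29918 21 (p7u104) p7r105

theorem p7r106 : allRange pointOk 20 29939 21 = true := by decide +kernel
theorem p7u106 : ∀ k, 27713 ≤ k → k < 29960 → pointOk (k * 20) = true := between_extend pointOk 20 27713 29939 21 (p7u105) p7r106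

theorem p7r107 : allRange pointOk 20 29960 21 = true := by decide +kernel
theorem p7u107 : ∀ k, 27713 ≤ k → k < 29981 → pointOk (k * 20) = true := between_extend pointOk 20 27713 29960 21 (p7u106) p7r107

theorem p7r108 : allRange pointOk 20 29981 21 = true := by decide +kernel
theorem p7u108 : ∀ k, 27713 ≤ k → k < 30002 → pointOk (k * 20) = true := between_extend pointOk 20 27713 29981 21 (p7u107) p7r108

theorem p7r109 : allRange pointOk 20 30002 21 = true := by decide +kernel
theorem p7u109 : ∀ k, 27713 ≤ k → k < 30023 → pointOk (k * 20) = true := between_extend pointOk 20 27713 30002 21 (p7u108) p7r109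

theorem p7r110 : allRange pointOk 20 30023 21 = true := by decide +kernel
theorem p7u110 : ∀ k, 27713 ≤ k → k < 30044 → pointOk (k * 20) = true := between_extend pointOk 20 27713 30023 21 (p7u109) p7r110

theorem p7r111 : allRange pointOk 20 30044 21 = true := by decide +kernel
theorem p7u111 : ∀ k, 27713 ≤ k → k < 30065 → pointOk (k * 20) = true := between_extend pointOk 20 27713 30044 21 (p7u110) p7r111

theorem p7r112 : allRange pointOk 20 30065 21 = true := by decide +kernel
theorem p7u112 : ∀ k, 27713 ≤ k → k < 30086 → pointOk (k * 20) = true := between_extend pointOk 20 27713 30065 21 (p7u111) p7r112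

theorem p7r113 : allRange pointOk 20 30086 21 = true := by decide +kernel
theorem p7u113 : ∀ k, 27713 ≤ k → k < 30107 → pointOk (k * 20) = true := between_extend pointOk 20 27713 30086 21 (p7u112) p7r113

theorem p7r114 : allRange pointOk 20 30107 21 = true := by decide +kernel
theorem p7u114 : ∀ k, 27713 ≤ k → k < 30128 → pointOk (k * 20) = true := between_extend pointOk 20 27713 30107 21 (p7u113) p7r114

theorem p7r115 : allRange pointOk 20 30128 21 = true := by decide +kernel
theorem p7u115 : ∀ k, 27713 ≤ k → k < 30149 → pointOk (k * 20) = true := between_extend pointOk 20 27713 30128 21 (p7u114) p7r115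

theorem p7r116 : allRange pointOk 20 30149 21 = true := by decide +kernel
theorem p7u116 : ∀ k, 27713 ≤ k → k < 30170 → pointOk (k * 20) = true := between_extend pointOk 20 27713 30149 21 (p7u115) p7r116

theorem p7r117 : allRange pointOk 20 30170 21 = true := by decide +kernel
theorem p7u117 : ∀ k, 27713 ≤ k → k < 30191 → pointOk (k * 20) = true := between_extend pointOk 20 27713 30170 21 (p7u116) p7r117

theorem p7r118 : allRange pointOk 20 30191 21 = true := by decide +kernel
theorem p7u118 : ∀ k, 27713 ≤ k → k < 30212 → pointOk (k * 20) = true := between_extend pointOk 20 27713 30191 21 (p7u117) p7r118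

theorem p7r119 : allRange pointOk 20 30212 21 = true := by decide +kernel
theorem p7u119 : ∀ k, 27713 ≤ k → k < 30233 → pointOk (k * 20) = true := between_extend pointOk 20 27713 30212 21 (p7u118) p7r119

theorem p7r120 : allRange pointOk 20 30233 21 = true := by decide +kernel
theorem p7u120 : ∀ k, 27713 ≤ k → k < 30254 → pointOk (k * 20) = true := between_extend pointOk 20 27713 30233 21 (p7u119) p7r120

theorem p7r121 : allRange pointOk 20 30254 21 = true := by decide +kernel
theorem p7u121 : ∀ k, 27713 ≤ k → k < 30275 → pointOk (k * 20) = true := between_extend pointOk 20 27713 30254 21 (p7u120) p7r121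

theorem p7r122 : allRange pointOk 20 30275 21 = true := by decide +kernel
theorem p7u122 : ∀ k, 27713 ≤ k → k < 30296 → pointOk (k * 20) = true := between_extend pointOk 20 27713 30275 21 (p7u121) p7r122

theorem p7r123 : allRange pointOk 20 30296 21 = true := by decide +kernel
theorem p7u123 : ∀ k, 27713 ≤ k → k < 30317 → pointOk (k * 20) = true := between_extend pointOk 20 27713 30296 21 (p7u122) p7r123

theorem p7r124 : allRange pointOk 20 30317 21 = true := by decide +kernel
theorem p7u124 : ∀ k, 27713 ≤ k → k < 30338 → pointOk (k * 20) = true := between_extend pointOk 20 27713 30317 21 (p7u123) p7r124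

theorem p7r125 : allRange pointOk 20 30338 21 = true := by decide +kernel
theorem p7u125 : ∀ k, 27713 ≤ k → k < 30359 → pointOk (k * 20) = true := between_extend pointOk 20 27713 30338 21 (p7u124) p7r125

theorem p7r126 : allRange pointOk 20 30359 21 = true := by decide +kernel
theorem p7u126 : ∀ k, 27713 ≤ k → k < 30380 → pointOk (k * 20) = true := between_extend pointOk 20 27713 30359 21 (p7u125) p7r126

theorem p7r127 : allRange pointOk 20 30380 21 = true := by decide +kernel
theorem p7u127 : ∀ k, 27713 ≤ k → k < 30401 → pointOk (k * 20) = true := between_extend pointOk 20 27713 30380 21 (p7u126) p7r127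

theorem p7r128 : allRange pointOk 20 30401 21 = true := by decide +kernel
theorem p7u128 : ∀ k, 27713 ≤ k → k < 30422 → pointOk (k * 20) = true := between_extend pointOk 20 27713 30401 21 (p7u127) p7r128

theorem p7r129 : allRange pointOk 20 30422 21 = true := by decide +kernel
theorem p7u129 : ∀ k, 27713 ≤ k → k < 30443 → pointOk (k * 20) = true := between_extend pointOk 20 27713 30422 21 (p7u128) p7r129

theorem p7r130 : allRange pointOk 20 30443 21 = true := by decide +kernel
theorem p7u130 : ∀ k, 27713 ≤ k → k < 30464 → pointOk (k * 20) = true := between_extend pointOk 20 27713 30443 21 (p7u129) p7r130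

theorem p7r131 : allRange pointOk 20 30464 21 = true := by decide +kernel
theorem p7u131 : ∀ k, 27713 ≤ k → k < 30485 → pointOk (k * 20) = true := between_extend pointOk 20 27713 30464 21 (p7u130) p7r131

theorem p7r132 : allRange pointOk 20 30485 21 = true := by decide +kernel
theorem p7u132 : ∀ k, 27713 ≤ k → k < 30506 → pointOk (k * 20) = true := between_extend pointOk 20 27713 30485 21 (p7u131) p7r132

theorem p7r133 : allRange pointOk 20 30506 21 = true := by decide +kernel
theorem p7u133 : ∀ k, 27713 ≤ k → k < 30527 → pointOk (k * 20) = true := between_extend pointOk 20 27713 30506 21 (p7u132) p7r133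

theorem p7r134 : allRange pointOk 20 30527 21 = true := by decide +kernel
theorem p7u134 : ∀ k, 27713 ≤ k → k < 30548 → pointOk (k * 20) = true := between_extend pointOk 20 27713 30527 21 (p7u133) p7r134

theorem p7r135 : allRange pointOk 20 30548 21 = true := by decide +kernel
theorem p7u135 : ∀ k, 27713 ≤ k → k < 30569 → pointOk (k * 20) = true := between_extend pointOk 20 27713 30548 21 (p7u134) p7r135

theorem p7r136 : allRange pointOk 20 30569 21 = true := by decide +kernel
theorem p7u136 : ∀ k, 27713 ≤ k → k < 30590 → pointOk (k * 20) = true := between_extend pointOk 20 27713 30569 21 (p7u135) p7r136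

theorem p7r137 : allRange pointOk 20 30590 21 = true := by decide +kernel
theorem p7u137 : ∀ k, 27713 ≤ k → k < 30611 → pointOk (k * 20) = true := between_extend pointOk 20 27713 30590 21 (p7u136) p7r137

theorem p7r138 : allRange pointOk 20 30611 21 = true := by decide +kernel
theorem p7u138 : ∀ k, 27713 ≤ k → k < 30632 → pointOk (k * 20) = true := between_extend pointOk 20 27713 30611 21 (p7u137) p7r138

theorem p7r139 : allRange pointOk 20 30632 21 = true := by decide +kernel
theorem p7u139 : ∀ k, 27713 ≤ k → k < 30653 → pointOk (k * 20) = true := between_extend pointOk 20 27713 30632 21 (p7u138) p7r139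

theorem p7r140 : allRange pointOk 20 30653 21 = true := by decide +kernel
theorem p7u140 : ∀ k, 27713 ≤ k → k < 30674 → pointOk (k * 20) = true := between_extend pointOk 20 27713 30653 21 (p7u139) p7r140

theorem p7r141 : allRange pointOk 20 30674 21 = true := by decide +kernel
theorem p7u141 : ∀ k, 27713 ≤ k → k < 30695 → pointOk (k * 20) = true := between_extend pointOk 20 27713 30674 21 (p7u140) p7r141

theorem p7r142 : allRange pointOk 20 30695 21 = true := by decide +kernel
theorem p7u142 : ∀ k, 27713 ≤ k → k < 30716 → pointOk (k * 20) = true := between_extend pointOk 20 27713 30695 21 (p7u141) p7r142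

theorem p7r143 : allRange pointOk 20 30716 21 = true := by decide +kernel
theorem p7u143 : ∀ k, 27713 ≤ k → k < 30737 → pointOk (k * 20) = true := between_extend pointOk 20 27713 30716 21 (p7u142) p7r143

theorem p7r144 : allRange pointOk 20 30737 21 = true := by decide +kernel
theorem p7u144 : ∀ k, 27713 ≤ k → k < 30758 → pointOk (k * 20) = true := between_extend pointOk 20 27713 30737 21 (p7u143) p7r144

theorem p7r145 : allRange pointOk 20 30758 21 = true := by decide +kernel
theorem p7u145 : ∀ k, 27713 ≤ k → k < 30779 → pointOk (k * 20) = true := between_extend pointOk 20 27713 30758 21 (p7u144) p7r145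

theorem p7r146 : allRange pointOk 20 30779 21 = true := by decide +kernel
theorem p7u146 : ∀ k, 27713 ≤ k → k < 30800 → pointOk (k * 20) = true := between_extend pointOk 20 27713 30779 21 (p7u145) p7r146

theorem p7r147 : allRange pointOk 20 30800 21 = true := by decide +kernel
theorem p7u147 : ∀ k, 27713 ≤ k → k < 30821 → pointOk (k * 20) = true := between_extend pointOk 20 27713 30800 21 (p7u146) p7r147

theorem p7r148 : allRange pointOk 20 30821 21 = true := by decide +kernel
theorem p7u148 : ∀ k, 27713 ≤ k → k < 30842 → pointOk (k * 20) = true := between_extend pointOk 20 27713 30821 21 (p7u147) p7r148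

theorem p7r149 : allRange pointOk 20 30842 21 = true := by decide +kernel
theorem p7u149 : ∀ k, 27713 ≤ k → k < 30863 → pointOk (k * 20) = true := between_extend pointOk 20 27713 30842 21 (p7u148) p7r149

theorem p7r150 : allRange pointOk 20 30863 21 = true := by decide +kernel
theorem p7u150 : ∀ k, 27713 ≤ k → k < 30884 → pointOk (k * 20) = true := between_extend pointOk 20 27713 30863 21 (p7u149) p7r150

theorem p7r151 : allRange pointOk 20 30884 21 = true := by decide +kernel
theorem p7u151 : ∀ k, 27713 ≤ k → k < 30905 → pointOk (k * 20) = true := between_extend pointOk 20 27713 30884 21 (p7u150) p7r151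

theorem p7r152 : allRange pointOk 20 30905 21 = true := by decide +kernel
theorem p7u152 : ∀ k, 27713 ≤ k → k < 30926 → pointOk (k * 20) = true := between_extend pointOk 20 27713 30905 21 (p7u151) p7r152

theorem p7r153 : allRange pointOk 20 30926 21 = true := by decide +kernel
theorem p7u153 : ∀ k, 27713 ≤ k → k < 30947 → pointOk (k * 20) = true := between_extend pointOk 20 27713 30926 21 (p7u152) p7r153

theorem p7r154 : allRange pointOk 20 30947 21 = true := by decide +kernel
theorem p7u154 : ∀ k, 27713 ≤ k → k < 30968 → pointOk (k * 20) = true := between_extend pointOk 20 27713 30947 21 (p7u153) p7r154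

theorem p7r155 : allRange pointOk 20 30968 21 = true := by decide +kernel
theorem p7u155 : ∀ k, 27713 ≤ k → k < 30989 → pointOk (k * 20) = true := between_extend pointOk 20 27713 30968 21 (p7u154) p7r155

theorem p7r156 : allRange pointOk 20 30989 21 = true := by decide +kernel
theorem p7u156 : ∀ k, 27713 ≤ k → k < 31010 → pointOk (k * 20) = true := between_extend pointOk 20 27713 30989 21 (p7u155) p7r156

theorem p7r157 : allRange pointOk 20 31010 21 = true := by decide +kernel
theorem p7u157 : ∀ k, 27713 ≤ k → k < 31031 → pointOk (k * 20) = true := between_extend pointOk 20 27713 31010 21 (p7u156) p7r157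

theorem p7r158 : allRange pointOk 20 31031 21 = true := by decide +kernel
theorem p7u158 : ∀ k, 27713 ≤ k → k < 31052 → pointOk (k * 20) = true := between_extend pointOk 20 27713 31031 21 (p7u157) p7r158

theorem p7r159 : allRange pointOk 20 31052 21 = true := by decide +kernel
theorem p7u159 : ∀ k, 27713 ≤ k → k < 31073 → pointOk (k * 20) = true := between_extend pointOk 20 27713 31052 21 (p7u158) p7r159

theorem p7r160 : allRange pointOk 20 31073 21 = true := by decide +kernel
theorem p7u160 : ∀ k, 27713 ≤ k → k < 31094 → pointOk (k * 20) = true := between_extend pointOk 20 27713 31073 21 (p7u159) p7r160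

theorem p7r161 : allRange pointOk 20 31094 21 = true := by decide +kernel
theorem p7u161 : ∀ k, 27713 ≤ k → k < 31115 → pointOk (k * 20) = true := between_extend pointOk 20 27713 31094 21 (p7u160) p7r161

theorem p7r162 : allRange pointOk 20 31115 21 = true := by decide +kernel
theorem p7u162 : ∀ k, 27713 ≤ k → k < 31136 → pointOk (k * 20) = true := between_extend pointOk 20 27713 31115 21 (p7u161) p7r162

theorem p7r163 : allRange pointOk 20 31136 21 = true := by decide +kernel
theorem p7u163 : ∀ k, 27713 ≤ k → k < 31157 → pointOk (k * 20) = true := between_extend pointOk 20 27713 31136 21 (p7u162) p7r163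

theorem p7r164 : allRange pointOk 20 31157 21 = true := by decide +kernel
theorem p7u164 : ∀ k, 27713 ≤ k → k < 31178 → pointOk (k * 20) = true := between_extend pointOk 20 27713 31157 21 (p7u163) p7r164

theorem p7r165 : allRange pointOk 20 31178 21 = true := by decide +kernel
theorem p7u165 : ∀ k, 27713 ≤ k → k < 31199 → pointOk (k * 20) = true := between_extend pointOk 20 27713 31178 21 (p7u164) p7r165

theorem p7r166 : allRange pointOk 20 31199 21 = true := by decide +kernel
theorem p7u166 : ∀ k, 27713 ≤ k → k < 31220 → pointOk (k * 20) = true := between_extend pointOk 20 27713 31199 21 (p7u165) p7r166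

theorem p7r167 : allRange pointOk 20 31220 21 = true := by decide +kernel
theorem p7u167 : ∀ k, 27713 ≤ k → k < 31241 → pointOk (k * 20) = true := between_extend pointOk 20 27713 31220 21 (p7u166) p7r167

theorem p7r168 : allRange pointOk 20 31241 21 = true := by decide +kernel
theorem p7u168 : ∀ k, 27713 ≤ k → k < 31262 → pointOk (k * 20) = true := between_extend pointOk 20 27713 31241 21 (p7u167) p7r168

theorem p7r169 : allRange pointOk 20 31262 21 = true := by decide +kernel
theorem p7u169 : ∀ k, 27713 ≤ k → k < 31283 → pointOk (k * 20) = true := between_extend pointOk 20 27713 31262 21 (p7u168) p7r169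

theorem p7r170 : allRange pointOk 20 31283 21 = true := by decide +kernel
theorem p7u170 : ∀ k, 27713 ≤ k → k < 31304 → pointOk (k * 20) = true := between_extend pointOk 20 27713 31283 21 (p7u169) p7r170

theorem p7r171 : allRange pointOk 20 31304 21 = true := by decide +kernel
theorem p7u171 : ∀ k, 27713 ≤ k → k < 31325 → pointOk (k * 20) = true := between_extend pointOk 20 27713 31304 21 (p7u170) p7r171

theorem p7r172 : allRange pointOk 20 31325 21 = true := by decide +kernel
theorem p7u172 : ∀ k, 27713 ≤ k → k < 31346 → pointOk (k * 20) = true := between_extend pointOk 20 27713 31325 21 (p7u171) p7r172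

theorem p7r173 : allRange pointOk 20 31346 21 = true := by decide +kernel
theorem p7u173 : ∀ k, 27713 ≤ k → k < 31367 → pointOk (k * 20) = true := between_extend pointOk 20 27713 31346 21 (p7u172) p7r173

theorem p7r174 : allRange pointOk 20 31367 21 = true := by decide +kernel
theorem p7u174 : ∀ k, 27713 ≤ k → k < 31388 → pointOk (k * 20) = true := between_extend pointOk 20 27713 31367 21 (p7u173) p7r174

theorem p7r175 : allRange pointOk 20 31388 21 = true := by decide +kernel
theorem p7u175 : ∀ k, 27713 ≤ k → k < 31409 → pointOk (k * 20) = true := between_extend pointOk 20 27713 31388 21 (p7u174) p7r175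

theorem p7r176 : allRange pointOk 20 31409 21 = true := by decide +kernel
theorem p7u176 : ∀ k, 27713 ≤ k → k < 31430 → pointOk (k * 20) = true := between_extend pointOk 20 27713 31409 21 (p7u175) p7r176

theorem p7r177 : allRange pointOk 20 31430 21 = true := by decide +kernel
theorem p7u177 : ∀ k, 27713 ≤ k → k < 31451 → pointOk (k * 20) = true := between_extend pointOk 20 27713 31430 21 (p7u176) p7r177

theorem p7r178 : allRange pointOk 20 31451 21 = true := by decide +kernel
theorem p7u178 : ∀ k, 27713 ≤ k → k < 31472 → pointOk (k * 20) = true := between_extend pointOk 20 27713 31451 21 (p7u177) p7r178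

theorem p7r179 : allRange pointOk 20 31472 21 = true := by decide +kernel
theorem p7u179 : ∀ k, 27713 ≤ k → k < 31493 → pointOk (k * 20) = true := between_extend pointOk 20 27713 31472 21 (p7u178) p7r179

theorem p7r180 : allRange pointOk 20 31493 21 = true := by decide +kernel
theorem p7u180 : ∀ k, 27713 ≤ k → k < 31514 → pointOk (k * 20) = true := between_extend pointOk 20 27713 31493 21 (p7u179) p7r180

theorem p7r181 : allRange pointOk 20 31514 21 = true := by decide +kernel
theorem p7u181 : ∀ k, 27713 ≤ k → k < 31535 → pointOk (k * 20) = true := between_extend pointOk 20 27713 31514 21 (p7u180) p7r181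

theorem p7r182 : allRange pointOk 20 31535 21 = true := by decide +kernel
theorem p7u182 : ∀ k, 27713 ≤ k → k < 31556 → pointOk (k * 20) = true := between_extend pointOk 20 27713 31535 21 (p7u181) p7r182

theorem p7r183 : allRange pointOk 20 31556 21 = true := by decide +kernel
theorem p7u183 : ∀ k, 27713 ≤ k → k < 31577 → pointOk (k * 20) = true := between_extend pointOk 20 27713 31556 21 (p7u182) p7r183

theorem p7r184 : allRange pointOk 20 31577 21 = true := by decide +kernel
theorem p7u184 : ∀ k, 27713 ≤ k → k < 31598 → pointOk (k * 20) = true := between_extend pointOk 20 27713 31577 21 (p7u183) p7r184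

theorem p7r185 : allRange pointOk 20 31598 21 = true := by decide +kernel
theorem p7u185 : ∀ k, 27713 ≤ k → k < 31619 → pointOk (k * 20) = true := between_extend pointOk 20 27713 31598 21 (p7u184) p7r185

theorem p7r186 : allRange pointOk 20 31619 21 = true := by decide +kernel
theorem p7u186 : ∀ k, 27713 ≤ k → k < 31640 → pointOk (k * 20) = true := between_extend pointOk 20 27713 31619 21 (p7u185) p7r186

theorem p7r187 : allRange pointOk 20 31640 21 = true := by decide +kernel
theorem p7u187 : ∀ k, 27713 ≤ k → k < 31661 → pointOk (k * 20) = true := between_extend pointOk 20 27713 31640 21 (p7u186) p7r187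

theorem p7r188 : allRange pointOk 20 31661 10 = true := by decide +kernel
theorem p7u188 : ∀ k, 27713 ≤ k → k < 31671 → pointOk (k * 20) = true := between_extend pointOk 20 27713 31661 10 (p7u187) p7r188

theorem p7 : ∀ k, 27713 ≤ k → k < 31671 → pointOk (k * 20) = true := p7u188

end Cfsg.Agent.Lib.Helper28_S1689
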