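import Cfsg.Agent.Lib.Helper28_S1689P0
import Cfsg.Agent.Lib.Helper28_S1689P1
import Cfsg.Agent.Lib.Helper28_S1689P2
import Cfsg.Agent.Lib.Helper28_S1689P3
import Cfsg.Agent.Lib.Helper28_S1689P4
import Cfsg.Agent.Lib.Helper28_S1689P5
import Cfsg.Agent.Lib.Helper28_S1689P6
import Cfsg.Agent.Lib.Helper28_S1689P7
import Cfsg.Agent.Lib.Helper28_S1689O0
import Cfsg.Agent.Lib.Helper28_S1689O1

set_option autoImplicit false
set_option linter.constructorNameAsVariable false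
set_option Elab.async false

namespace Cfsg.Agent.Lib.Helper28_S1689

open Cfsg.Spor Cfsg.Agent.Lib.Helper28_CosetPerm Cfsg.Agent.Lib.Helper28_CosetCox Cfsg.Agent.Lib.Helper28_S1689Tab

theorem all_ok : ∀ k < 31671, pchk 633420 20 1048575 col letters words (k * 20) = true := by
  intro k hk
  rw [← pointOk_eq]
  exact between_all pointOk 20 31671 (between_trans pointOk 20 0 27713 31671 (between_trans pointOk 20 0 23754 27713 (between_trans pointOk 20 0 19795 23754 (between_trans pointOk 20 0 15836 19795 (between_trans pointOk 20 0 11877 15836 (between_trans pointOk 20 0 7918 11877 (between_trans pointOk 20 0 3959 7918 p0 p1) p2) p3) p4) p5) p6) p7) k hk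

theorem all_letters : ∀ (a : Cfsg.Spor.Fi23.Gen) (b : Bool), (a, b) ∈ letters := by
  intro a b; cases a <;> cases b <;> decide

theorem cox_covered : CoxCovered Fi23.edges words := by decide

theorem extra_covered : ExtraCovered Fi23.extra words := by
  unfold ExtraCovered; decide

theorem sub_fix : ∀ s ∈ ({Cfsg.Spor.Fi23.a, Cfsg.Spor.Fi23.b, Cfsg.Spor.Fi23.c, Cfsg.Spor.Fi23.d, Cfsg.Spor.Fi23.e, Cfsg.Spor.Fi23.f, Cfsg.Spor.Fi23.g, Cfsg.Spor.Fi23.h, Cfsg.Spor.Fi23.i} : Set (FreeGroup Cfsg.Spor.Fi23.Gen)), ∃ u : List (Cfsg.Spor.Fi23.Gen × Bool), FreeGroup.mk u = s ∧ walk 1048575 col u 0 = 0 := by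
  intro s hs
  simp only [Set.mem_insert_iff, Set.mem_singleton_iff] at hs
  rcases hs with rfl | rfl | rfl | rfl | rfl | rfl | rfl | rfl | rfl
  · exact ⟨[(.a, true)], by decide, by decide +kernel⟩
  · exact ⟨[(.b, true)], by decide, by decide +kernel⟩
  · exact ⟨[(.c, true)], by decide, by decide +kernel⟩
  · exact ⟨[(.d, true)], by decide, by decide +kernel⟩
  · exact ⟨[(.e, true)], by decide, by decide +kernel⟩
  · exact ⟨[(.f, true)], by decide, by decide +kernel⟩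
  · exact ⟨[(.g, true)], by decide, by decide +kernel⟩
  · exact ⟨[(.h, true)], by decide, by decide +kernel⟩
  · exact ⟨[(.i, true)], by decide, by decide +kernel⟩

instance : NeZero (31671 : ℕ) := ⟨by norm_num⟩

theorem verified : Verified 31671 20 1048575 col (Cfsg.Spor.coxRelators Cfsg.Spor.Fi23.edges ∪ {r | r ∈ Cfsg.Spor.Fi23.extra}) ({Cfsg.Spor.Fi23.a, Cfsg.Spor.Fi23.b, Cfsg.Spor.Fi23.c, Cfsg.Spor.Fi23.d, Cfsg.Spor.Fi23.e, Cfsg.Spor.Fi23.f, Cfsg.Spor.Fi23.g, Cfsg.Spor.Fi23.h, Cfsg.Spor.Fi23.i} : Set (FreeGroup Cfsg.Spor.Fi23.Gen)) :=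
  verified_of_table (n := 31671) (w := 20) (mask := 1048575) (col := col) 633420 (by norm_num) (by norm_num) letters all_letters Fi23.edges Fi23.extra words all_ok cox_covered extra_covered _ sub_fix

/-- the lower bound, index part -/
theorem lower_index (hfin : ((Subgroup.closure ({Cfsg.Spor.Fi23.a, Cfsg.Spor.Fi23.b, Cfsg.Spor.Fi23.c, Cfsg.Spor.Fi23.d, Cfsg.Spor.Fi23.e, Cfsg.Spor.Fi23.f, Cfsg.Spor.Fi23.g, Cfsg.Spor.Fi23.h, Cfsg.Spor.Fi23.i} : Set (FreeGroup Cfsg.Spor.Fi23.Gen))).map (PresentedGroup.mk (Cfsg.Spor.coxRelators Cfsg.Spor.Fi23.edges ∪ {r | r ∈ Cfsg.Spor.Fi23.extra}))).index ≠ 0) (hle : ((Subgroup.closure ({Cfsg.Spor.Fi23.a, Cfsg.Spor.Fi23.b, Cfsg.Spor.Fi23.c, Cfsg.Spor.Fi23.d, Cfsg.Spor.Fi23.e, Cfsg.Spor.Fi23.f, Cfsg.Spor.Fi23.g, Cfsg.Spor.Fi23.h, Cfsg.Spor.Fi23.i} : Set (FreeGroup Cfsg.Spor.Fi23.Gen))).map (PresentedGroup.mk (Cfsg.Spor.coxRelators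 Cfsg.Spor.Fi23.edges ∪ {r | r ∈ Cfsg.Spor.Fi23.extra}))).index ≤ 31671) : ((Subgroup.closure ({Cfsg.Spor.Fi23.a, Cfsg.Spor.Fi23.b, Cfsg.Spor.Fi23.c, Cfsg.Spor.Fi23.d, Cfsg.Spor.Fi23.e, Cfsg.Spor.Fi23.f, Cfsg.Spor.Fi23.g, Cfsg.Spor.Fi23.h, Cfsg.Spor.Fi23.i} : Set (FreeGroup Cfsg.Spor.Fi23.Gen))).map (PresentedGroup.mk (Cfsg.Spor.coxRelators Cfsg.Spor.Fi23.edges ∪ {r | r ∈ Cfsg.Spor.Fi23.extra}))).index = 31671 :=
  verified.index_eq hfin hle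

theorem orb_ok : ∀ k < 31671, ochk 1048575 col oidA rnkA bases cl (k * 20) = true := by
  intro k hk
  rw [← orbOk_eq]
  exact between_all orbOk 20 31671 (between_trans orbOk 20 0 15836 31671 o0 o1) k hk

theorem cl_mem : ∀ u ∈ cl, FreeGroup.mk u ∈ Subgroup.closure ({Cfsg.Spor.Fi23.a, Cfsg.Spor.Fi23.b, Cfsg.Spor.Fi23.c, Cfsg.Spor.Fi23.d, Cfsg.Spor.Fi23.e, Cfsg.Spor.Fi23.f, Cfsg.Spor.Fi23.g, Cfsg.Spor.Fi23.h, Cfsg.Spor.Fi23.i} : Set (FreeGroup Cfsg.Spor.Fi23.Gen)) := by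
  intro u hu
  simp only [cl, List.mem_cons, List.not_mem_nil, or_false] at hu
  rcases hu with rfl | rfl | rfl | rfl | rfl | rfl | rfl | rfl | rfl
  · exact Subgroup.subset_closure (by simp only [Set.mem_insert_iff, Set.mem_singleton_iff]; decide)
  · exact Subgroup.subset_closure (by simp only [Set.mem_insert_iff, Set.mem_singleton_iff]; decide)
  · exact Subgroup.subset_closure (by simp only [Set.mem_insert_iff, Set.mem_singleton_iff]; decide)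
  · exact Subgroup.subset_closure (by simp only [Set.mem_insert_iff, Set.mem_singleton_iff]; decide)
  · exact Subgroup.subset_closure (by simp only [Set.mem_insert_iff, Set.mem_singleton_iff]; decide)
  · exact Subgroup.subset_closure (by simp only [Set.mem_insert_iff, Set.mem_singleton_iff]; decide)
  · exact Subgroup.subset_closure (by simp only [Set.mem_insert_iff, Set.mem_singleton_iff]; decide)
  · exact Subgroup.subset_closure (by simp only [Set.mem_insert_iff, Set.mem_singleton_iff]; decide)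
  · exact Subgroup.subset_closure (by simp only [Set.mem_insert_iff, Set.mem_singleton_iff]; decide)

theorem S_cl : ∀ s ∈ ({Cfsg.Spor.Fi23.a, Cfsg.Spor.Fi23.b, Cfsg.Spor.Fi23.c, Cfsg.Spor.Fi23.d, Cfsg.Spor.Fi23.e, Cfsg.Spor.Fi23.f, Cfsg.Spor.Fi23.g, Cfsg.Spor.Fi23.h, Cfsg.Spor.Fi23.i} : Set (FreeGroup Cfsg.Spor.Fi23.Gen)), ∃ u ∈ cl, FreeGroup.mk u = s := by
  intro s hs
  simp only [Set.mem_insert_iff, Set.mem_singleton_iff] at hs
  rcases hs with rfl | rfl | rfl | rfl | rfl | rfl | rfl | rfl | rfl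
  · exact ⟨[(.a, true)], by decide, by decide⟩
  · exact ⟨[(.b, true)], by decide, by decide⟩
  · exact ⟨[(.c, true)], by decide, by decide⟩
  · exact ⟨[(.d, true)], by decide, by decide⟩
  · exact ⟨[(.e, true)], by decide, by decide⟩
  · exact ⟨[(.f, true)], by decide, by decide⟩
  · exact ⟨[(.g, true)], by decide, by decide⟩
  · exact ⟨[(.h, true)], by decide, by decide⟩
  · exact ⟨[(.i, true)], by decide, by decide⟩

theorem cnt0 : cntB (fun k => Nat.beq (nxt 1048575 oidA (Nat.mul k 20)) 2) 31671 = 3510 := by decide +kernel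

theorem cnt1 : cntB (fun k => Nat.beq (nxt 1048575 oidA (Nat.mul k 20)) 1) 31671 = 28160 := by decide +kernel

/-- the lower bound: the full statement from the upper bound -/
theorem lower (hfin : ((Subgroup.closure ({Cfsg.Spor.Fi23.a, Cfsg.Spor.Fi23.b, Cfsg.Spor.Fi23.c, Cfsg.Spor.Fi23.d, Cfsg.Spor.Fi23.e, Cfsg.Spor.Fi23.f, Cfsg.Spor.Fi23.g, Cfsg.Spor.Fi23.h, Cfsg.Spor.Fi23.i} : Set (FreeGroup Cfsg.Spor.Fi23.Gen))).map (PresentedGroup.mk (Cfsg.Spor.coxRelators Cfsg.Spor.Fi23.edges ∪ {r | r ∈ Cfsg.Spor.Fi23.extra}))).index ≠ 0) (hle : ((Subgroup.closure ({Cfsg.Spor.Fi23.a, Cfsg.Spor.Fi23.b, Cfsg.Spor.Fi23.c, Cfsg.Spor.Fi23.d, Cfsg.Spor.Fi23.e, Cfsg.Spor.Fi23.f, Cfsg.Spor.Fi23.g, Cfsg.Spor.Fi23.h, Cfsg.Spor.Fi23.i} : Set (FreeGroup Cfsg.Spor.Fi23.Gen))).map (PresentedGroup.mk (Cfsg.Spor.coxRelators Cfsg.Spor.Fi23.edges ∪ {r | r ∈ Cfsg.Spor.Fi23.extra}))).index ≤ 31671)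 :
    ((Subgroup.closure ({Cfsg.Spor.Fi23.a, Cfsg.Spor.Fi23.b, Cfsg.Spor.Fi23.c, Cfsg.Spor.Fi23.d, Cfsg.Spor.Fi23.e, Cfsg.Spor.Fi23.f, Cfsg.Spor.Fi23.g, Cfsg.Spor.Fi23.h, Cfsg.Spor.Fi23.i} : Set (FreeGroup Cfsg.Spor.Fi23.Gen))).map (PresentedGroup.mk (Cfsg.Spor.coxRelators Cfsg.Spor.Fi23.edges ∪ {r | r ∈ Cfsg.Spor.Fi23.extra}))).index = 31671 ∧ ∃ q1 q2 : Cfsg.Spor.Fi23 ⧸ ((Subgroup.closure ({Cfsg.Spor.Fi23.a, Cfsg.Spor.Fi23.b, Cfsg.Spor.Fi23.c, Cfsg.Spor.Fi23.d, Cfsg.Spor.Fi23.e, Cfsg.Spor.Fi23.f, Cfsg.Spor.Fi23.g, Cfsg.Spor.Fi23.h, Cfsg.Spor.Fi23.i} : Set (FreeGroup Cfsg.Spor.Fi23.Gen))).map (PresentedGroup.mk (Cfsg.Spor.coxRelators Cfsg.Spor.Fi23.edges ∪ {r | r ∈ Cfsg.Spor.Fi23.extra}))), (MulAction.orbit ((Subgroup.closure ({Cfsg.Spor.Fi23.a, Cfsg.Spor.Fi23.b, Cfsg.Spor.Fi23.c, Cfsg.Spor.Fi23.d, Cfsg.Spor.Fi23.e, Cfsg.Spor.Fi23.f, Cfsg.Spor.Fi23.g, Cfsg.Spor.Fi23.h,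 Cfsg.Spor.Fi23.i} : Set (FreeGroup Cfsg.Spor.Fi23.Gen))).map (PresentedGroup.mk (Cfsg.Spor.coxRelators Cfsg.Spor.Fi23.edges ∪ {r | r ∈ Cfsg.Spor.Fi23.extra}))) q1).ncard = 3510 ∧ (MulAction.orbit ((Subgroup.closure ({Cfsg.Spor.Fi23.a, Cfsg.Spor.Fi23.b, Cfsg.Spor.Fi23.c, Cfsg.Spor.Fi23.d, Cfsg.Spor.Fi23.e, Cfsg.Spor.Fi23.f, Cfsg.Spor.Fi23.g, Cfsg.Spor.Fi23.h, Cfsg.Spor.Fi23.i} : Set (FreeGroup Cfsg.Spor.Fi23.Gen))).map (PresentedGroup.mk (Cfsg.Spor.coxRelators Cfsg.Spor.Fi23.edges ∪ {r | r ∈ Cfsg.Spor.Fi23.extra}))) q2).ncard = 28160 := by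
  refine ⟨lower_index hfin hle, ?_⟩
  obtain ⟨q1, hb1, himg1, hcard1⟩ := verified.orbit hfin hle oidA rnkA bases cl cl_mem S_cl orb_ok 2 (⟨52, by norm_num⟩ : Fin 31671) (by decide) (by decide +kernel)
  obtain ⟨q2, hb2, himg2, hcard2⟩ := verified.orbit hfin hle oidA rnkA bases cl cl_mem S_cl orb_ok 1 (⟨1, by norm_num⟩ : Fin 31671) (by decide) (by decide +kernel)
  refine ⟨q1, q2, ?_⟩
  rw [card_orbSet] at hcard1 hcard2
  rw [cnt0] at hcard1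
  rw [cnt1] at hcard2
  exact ⟨hcard1, hcard2⟩

end Cfsg.Agent.Lib.Helper28_S1689
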