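import Cfsg.Agent.Lib.Helper28_CosetCox
import Cfsg.Agent.Lib.Helper28_S1689Tab
import Cfsg.Prelude.Def_Spor_Fi23

set_option autoImplicit false
set_option linter.constructorNameAsVariable false
set_option Elab.async false

namespace Cfsg.Agent.Lib.Helper28_S1689

open Cfsg.Spor Cfsg.Agent.Lib.Helper28_CosetPerm Cfsg.Agent.Lib.Helper28_CosetCox Cfsg.Agent.Lib.Helper28_S1689Tab

/-- the packed column of a letter -/
def col : Cfsg.Spor.Fi23.Gen → Bool → ℕ
  | .a, _ => cA
  | .b, _ => cB
  | .c, _ => cC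
  | .d, _ => cD
  | .e, _ => cE
  | .f, _ => cF
  | .g, _ => cG
  | .j, _ => cJ
  | .h, _ => cH
  | .i, _ => cI

/-- all letters -/
def letters : List (Cfsg.Spor.Fi23.Gen × Bool) := [(.a, true), (.b, true), (.c, true), (.d, true), (.e, true), (.f, true), (.g, true), (.j, true), (.h, true), (.i, true), (.a, false), (.b, false), (.c, false), (.d, false), (.e, false), (.f, false), (.g, false), (.j, false), (.h, false), (.i, false)]

/-- the checked words -/
def words : List (List (Cfsg.Spor.Fi23.Gen × Bool)) := [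
  [(.a, true), (.a, true)],
  [(.a, true), (.b, true), (.a, true), (.b, true), (.a, true), (.b, true)],
  [(.a, true), (.c, true), (.a, true), (.c, true)],
  [(.a, true), (.d, true), (.a, true), (.d, true)],
  [(.a, true), (.e, true), (.a, true), (.e, true)],
  [(.a, true), (.f, true), (.a, true), (.f, true)],
  [(.a, true), (.g, true), (.a, true), (.g, true)],
  [(.a, true), (.h, true), (.a, true), (.h, true)],
  [(.a, true), (.j, true), (.a, true), (.j, true)],
  [(.a, true), (.i, true), (.a, true), (.i, true)],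
  [(.b, true), (.b, true)],
  [(.b, true), (.c, true), (.b, true), (.c, true), (.b, true), (.c, true)],
  [(.b, true), (.d, true), (.b, true), (.d, true)],
  [(.b, true), (.e, true), (.b, true), (.e, true)],
  [(.b, true), (.f, true), (.b, true), (.f, true)],
  [(.b, true), (.g, true), (.b, true), (.g, true)],
  [(.b, true), (.h, true), (.b, true), (.h, true)],
  [(.b, true), (.j, true), (.b, true), (.j, true)],
  [(.b, true), (.i, true), (.b, true), (.i, true)],
  [(.c, true), (.c, true)],
  [(.c, true), (.d, true), (.c, true), (.d, true), (.c, true), (.d, true)],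
  [(.c, true), (.e, true), (.c, true), (.e, true)],
  [(.c, true), (.f, true), (.c, true), (.f, true)],
  [(.c, true), (.g, true), (.c, true), (.g, true)],
  [(.c, true), (.h, true), (.c, true), (.h, true)],
  [(.c, true), (.j, true), (.c, true), (.j, true)],
  [(.c, true), (.i, true), (.c, true), (.i, true)],
  [(.d, true), (.d, true)],
  [(.d, true), (.e, true), (.d, true), (.e, true), (.d, true), (.e, true)],
  [(.d, true), (.f, true), (.d, true), (.f, true)],
  [(.d, true), (.g, true), (.d, true), (.g, true)],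
  [(.d, true), (.h, true), (.d, true), (.h, true), (.d, true), (.h, true)],
  [(.d, true), (.j, true), (.d, true), (.j, true)],
  [(.d, true), (.i, true), (.d, true), (.i, true)],
  [(.e, true), (.e, true)],
  [(.e, true), (.f, true), (.e, true), (.f, true), (.e, true), (.f, true)],
  [(.e, true), (.g, true), (.e, true), (.g, true)],
  [(.e, true), (.h, true), (.e, true), (.h, true)],
  [(.e, true), (.j, true), (.e, true), (.j, true)],
  [(.e, true), (.i, true), (.e, true), (.i, true)],
  [(.f, true), (.f, true)],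
  [(.f, true), (.g, true), (.f, true), (.g, true), (.f, true), (.g, true)],
  [(.f, true), (.h, true), (.f, true), (.h, true)],
  [(.f, true), (.j, true), (.f, true), (.j, true)],
  [(.f, true), (.i, true), (.f, true), (.i, true)],
  [(.g, true), (.g, true)],
  [(.g, true), (.h, true), (.g, true), (.h, true)],
  [(.g, true), (.j, true), (.g, true), (.j, true), (.g, true), (.j, true)],
  [(.g, true), (.i, true), (.g, true), (.i, true)],
  [(.h, true), (.h, true)],
  [(.h, true), (.i, true), (.h, true), (.i, true), (.h, true), (.i, true)],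
  [(.j, true), (.h, true), (.j, true), (.h, true)],
  [(.j, true), (.j, true)],
  [(.j, true), (.i, true), (.j, true), (.i, true)],
  [(.i, true), (.i, true)],
  [(.d, true), (.c, true), (.b, true), (.d, true), (.e, true), (.f, true), (.d, true), (.h, true), (.i, true), (.d, true), (.c, true), (.b, true), (.d, true), (.e, true), (.f, true), (.d, true), (.h, true), (.i, true), (.d, true), (.c, true), (.b, true), (.d, true), (.e, true), (.f, true), (.d, true), (.h, true), (.i, true), (.d, true), (.c, true), (.b, true), (.d, true), (.e, true), (.f, true), (.d, true), (.h, true), (.i, true), (.d, true), (.c, true), (.b, true), (.d, true), (.e, true), (.f, true), (.d, true), (.h, true), (.i, true), (.d, true), (.c, true), (.b, true), (.d, true), (.e, true), (.f, true), (.d, true), (.h, true), (.i, true), (.d, true), (.c, true), (.b, true), (.d, true), (.e, true), (.f, true), (.d, true), (.h, true), (.i, true), (.d, true), (.c, true), (.b, true), (.d, true), (.e, true), (.f, true), (.d, true),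 (.h, true), (.i, true), (.d, true), (.c, true), (.b, true), (.d, true), (.e, true), (.f, true), (.d, true), (.h, true), (.i, true), (.d, true), (.c, true), (.b, true), (.d, true), (.e, true), (.f, true), (.d, true), (.h, true), (.i, true)],
  [(.a, true), (.b, true), (.c, true), (.d, true), (.e, true), (.f, true), (.h, true), (.a, true), (.b, true), (.c, true), (.d, true), (.e, true), (.f, true), (.h, true), (.a, true), (.b, true), (.c, true), (.d, true), (.e, true), (.f, true), (.h, true), (.a, true), (.b, true), (.c, true), (.d, true), (.e, true), (.f, true), (.h, true), (.a, true), (.b, true), (.c, true), (.d, true), (.e, true), (.f, true), (.h, true), (.a, true), (.b, true), (.c, true), (.d, true), (.e, true), (.f, true), (.h, true), (.a, true), (.b, true), (.c, true), (.d, true), (.e, true), (.f, true), (.h, true), (.a, true), (.b, true), (.c, true), (.d, true), (.e, true), (.f, true), (.h, true), (.a, true), (.b, true), (.c, true), (.d, true), (.e, true), (.f, true), (.h, true)]]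

/-- the unrolled pointwise check -/
def pointOk (x : ℕ) : Bool :=
  and (and (and (Nat.beq (Nat.mod (Nat.land (Nat.shiftRight cA x) 1048575) 20) 0) (and (Nat.blt (Nat.land (Nat.shiftRight cA x) 1048575) 633420) (Nat.beq (Nat.land (Nat.shiftRight cA (Nat.land (Nat.shiftRight cA x) 1048575)) 1048575) x))) (and (and (Nat.beq (Nat.mod (Nat.land (Nat.shiftRight cB x) 1048575) 20) 0) (and (Nat.blt (Nat.land (Nat.shiftRight cB x) 1048575) 633420) (Nat.beq (Nat.land (Nat.shiftRight cB (Nat.land (Nat.shiftRight cB x) 1048575)) 1048575) x))) (and (and (Nat.beq (Nat.mod (Nat.land (Nat.shiftRight cC x) 1048575) 20) 0) (and (Nat.blt (Nat.land (Nat.shiftRight cC x) 1048575) 633420) (Nat.beq (Nat.land (Nat.shiftRight cC (Nat.land (Nat.shiftRight cC x) 1048575)) 1048575) x))) (and (and (Nat.beq (Nat.mod (Nat.land (Nat.shiftRight cD x) 1048575) 20) 0) (and (Nat.blt (Nat.land (Nat.shiftRight cD x) 1048575) 633420) (Nat.beq (Nat.land (Nat.shiftRight cD (Nat.land (Nat.shiftRight cD x) 1048575)) 1048575)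 x))) (and (and (Nat.beq (Nat.mod (Nat.land (Nat.shiftRight cE x) 1048575) 20) 0) (and (Nat.blt (Nat.land (Nat.shiftRight cE x) 1048575) 633420) (Nat.beq (Nat.land (Nat.shiftRight cE (Nat.land (Nat.shiftRight cE x) 1048575)) 1048575) x))) (and (and (Nat.beq (Nat.mod (Nat.land (Nat.shiftRight cF x) 1048575) 20) 0) (and (Nat.blt (Nat.land (Nat.shiftRight cF x) 1048575) 633420) (Nat.beq (Nat.land (Nat.shiftRight cF (Nat.land (Nat.shiftRight cF x) 1048575)) 1048575) x))) (and (and (Nat.beq (Nat.mod (Nat.land (Nat.shiftRight cG x) 1048575) 20) 0) (and (Nat.blt (Nat.land (Nat.shiftRight cG x) 1048575) 633420) (Nat.beq (Nat.land (Nat.shiftRight cG (Nat.land (Nat.shiftRight cG x) 1048575)) 1048575) x))) (and (and (Nat.beq (Nat.mod (Nat.land (Nat.shiftRight cJ x) 1048575) 20) 0) (and (Nat.blt (Nat.land (Nat.shiftRight cJ x) 1048575) 633420) (Nat.beq (Nat.land (Nat.shiftRight cJ (Nat.land (Nat.shiftRight cJ x) 1048575)) 1048575) x))) (and (and (Nat.beq (Nat.mod (Nat.land (Nat.shiftRight cH x)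 1048575) 20) 0) (and (Nat.blt (Nat.land (Nat.shiftRight cH x) 1048575) 633420) (Nat.beq (Nat.land (Nat.shiftRight cH (Nat.land (Nat.shiftRight cH x) 1048575)) 1048575) x))) (and (and (Nat.beq (Nat.mod (Nat.land (Nat.shiftRight cI x) 1048575) 20) 0) (and (Nat.blt (Nat.land (Nat.shiftRight cI x) 1048575) 633420) (Nat.beq (Nat.land (Nat.shiftRight cI (Nat.land (Nat.shiftRight cI x) 1048575)) 1048575) x))) (and (and (Nat.beq (Nat.mod (Nat.land (Nat.shiftRight cA x) 1048575) 20) 0) (and (Nat.blt (Nat.land (Nat.shiftRight cA x) 1048575) 633420) (Nat.beq (Nat.land (Nat.shiftRight cA (Nat.land (Nat.shiftRight cA x) 1048575)) 1048575) x))) (and (and (Nat.beq (Nat.mod (Nat.land (Nat.shiftRight cB x) 1048575) 20) 0) (and (Nat.blt (Nat.land (Nat.shiftRight cB x) 1048575) 633420) (Nat.beq (Nat.land (Nat.shiftRight cB (Nat.land (Nat.shiftRight cB x) 1048575)) 1048575) x))) (and (and (Nat.beq (Nat.mod (Nat.land (Nat.shiftRight cC x) 1048575) 20) 0) (and (Nat.blt (Nat.land (Nat.shiftRight cC x) 1048575)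 633420) (Nat.beq (Nat.land (Nat.shiftRight cC (Nat.land (Nat.shiftRight cC x) 1048575)) 1048575) x))) (and (and (Nat.beq (Nat.mod (Nat.land (Nat.shiftRight cD x) 1048575) 20) 0) (and (Nat.blt (Nat.land (Nat.shiftRight cD x) 1048575) 633420) (Nat.beq (Nat.land (Nat.shiftRight cD (Nat.land (Nat.shiftRight cD x) 1048575)) 1048575) x))) (and (and (Nat.beq (Nat.mod (Nat.land (Nat.shiftRight cE x) 1048575) 20) 0) (and (Nat.blt (Nat.land (Nat.shiftRight cE x) 1048575) 633420) (Nat.beq (Nat.land (Nat.shiftRight cE (Nat.land (Nat.shiftRight cE x) 1048575)) 1048575) x))) (and (and (Nat.beq (Nat.mod (Nat.land (Nat.shiftRight cF x) 1048575) 20) 0) (and (Nat.blt (Nat.land (Nat.shiftRight cF x) 1048575) 633420) (Nat.beq (Nat.land (Nat.shiftRight cF (Nat.land (Nat.shiftRight cF x) 1048575)) 1048575) x))) (and (and (Nat.beq (Nat.mod (Nat.land (Nat.shiftRight cG x) 1048575) 20) 0) (and (Nat.blt (Nat.land (Nat.shiftRight cG x) 1048575) 633420) (Nat.beq (Nat.land (Nat.shiftRight cG (Nat.land (Nat.shiftRight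 cG x) 1048575)) 1048575) x))) (and (and (Nat.beq (Nat.mod (Nat.land (Nat.shiftRight cJ x) 1048575) 20) 0) (and (Nat.blt (Nat.land (Nat.shiftRight cJ x) 1048575) 633420) (Nat.beq (Nat.land (Nat.shiftRight cJ (Nat.land (Nat.shiftRight cJ x) 1048575)) 1048575) x))) (and (and (Nat.beq (Nat.mod (Nat.land (Nat.shiftRight cH x) 1048575) 20) 0) (and (Nat.blt (Nat.land (Nat.shiftRight cH x) 1048575) 633420) (Nat.beq (Nat.land (Nat.shiftRight cH (Nat.land (Nat.shiftRight cH x) 1048575)) 1048575) x))) (and (and (Nat.beq (Nat.mod (Nat.land (Nat.shiftRight cI x) 1048575) 20) 0) (and (Nat.blt (Nat.land (Nat.shiftRight cI x) 1048575) 633420) (Nat.beq (Nat.land (Nat.shiftRight cI (Nat.land (Nat.shiftRight cI x) 1048575)) 1048575) x))) true))))))))))))))))))))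
    (and (and (Nat.beq (Nat.land (Nat.shiftRight cA (Nat.land (Nat.shiftRight cA x) 1048575)) 1048575) x) (and (Nat.beq (Nat.land (Nat.shiftRight cB (Nat.land (Nat.shiftRight cA (Nat.land (Nat.shiftRight cB (Nat.land (Nat.shiftRight cA (Nat.land (Nat.shiftRight cB (Nat.land (Nat.shiftRight cA x) 1048575)) 1048575)) 1048575)) 1048575)) 1048575)) 1048575) x) (and (Nat.beq (Nat.land (Nat.shiftRight cC (Nat.land (Nat.shiftRight cA (Nat.land (Nat.shiftRight cC (Nat.land (Nat.shiftRight cA x) 1048575)) 1048575)) 1048575)) 1048575) x) (and (Nat.beq (Nat.land (Nat.shiftRight cD (Nat.land (Nat.shiftRight cA (Nat.land (Nat.shiftRight cD (Nat.land (Nat.shiftRight cA x) 1048575)) 1048575)) 1048575)) 1048575) x) (and (Nat.beq (Nat.land (Nat.shiftRight cE (Nat.land (Nat.shiftRight cA (Nat.land (Nat.shiftRight cE (Nat.land (Nat.shiftRight cA x) 1048575)) 1048575)) 1048575)) 1048575) x) (and (Nat.beq (Nat.land (Nat.shiftRight cF (Nat.land (Nat.shiftRight cA (Nat.land (Nat.shiftRight cF (Nat.land (Nat.shiftRight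 cA x) 1048575)) 1048575)) 1048575)) 1048575) x) (and (Nat.beq (Nat.land (Nat.shiftRight cG (Nat.land (Nat.shiftRight cA (Nat.land (Nat.shiftRight cG (Nat.land (Nat.shiftRight cA x) 1048575)) 1048575)) 1048575)) 1048575) x) (and (Nat.beq (Nat.land (Nat.shiftRight cH (Nat.land (Nat.shiftRight cA (Nat.land (Nat.shiftRight cH (Nat.land (Nat.shiftRight cA x) 1048575)) 1048575)) 1048575)) 1048575) x) (and (Nat.beq (Nat.land (Nat.shiftRight cJ (Nat.land (Nat.shiftRight cA (Nat.land (Nat.shiftRight cJ (Nat.land (Nat.shiftRight cA x) 1048575)) 1048575)) 1048575)) 1048575) x) (and (Nat.beq (Nat.land (Nat.shiftRight cI (Nat.land (Nat.shiftRight cA (Nat.land (Nat.shiftRight cI (Nat.land (Nat.shiftRight cA x) 1048575)) 1048575)) 1048575)) 1048575) x) (and (Nat.beq (Nat.land (Nat.shiftRight cB (Nat.land (Nat.shiftRight cB x) 1048575)) 1048575) x) (and (Nat.beq (Nat.land (Nat.shiftRight cC (Nat.land (Nat.shiftRight cB (Nat.land (Nat.shiftRight cC (Nat.land (Nat.shiftRight cB (Nat.land (Nat.shiftRight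 cC (Nat.land (Nat.shiftRight cB x) 1048575)) 1048575)) 1048575)) 1048575)) 1048575)) 1048575) x) (and (Nat.beq (Nat.land (Nat.shiftRight cD (Nat.land (Nat.shiftRight cB (Nat.land (Nat.shiftRight cD (Nat.land (Nat.shiftRight cB x) 1048575)) 1048575)) 1048575)) 1048575) x) (and (Nat.beq (Nat.land (Nat.shiftRight cE (Nat.land (Nat.shiftRight cB (Nat.land (Nat.shiftRight cE (Nat.land (Nat.shiftRight cB x) 1048575)) 1048575)) 1048575)) 1048575) x) (and (Nat.beq (Nat.land (Nat.shiftRight cF (Nat.land (Nat.shiftRight cB (Nat.land (Nat.shiftRight cF (Nat.land (Nat.shiftRight cB x) 1048575)) 1048575)) 1048575)) 1048575) x) (and (Nat.beq (Nat.land (Nat.shiftRight cG (Nat.land (Nat.shiftRight cB (Nat.land (Nat.shiftRight cG (Nat.land (Nat.shiftRight cB x) 1048575)) 1048575)) 1048575)) 1048575) x) (and (Nat.beq (Nat.land (Nat.shiftRight cH (Nat.land (Nat.shiftRight cB (Nat.land (Nat.shiftRight cH (Nat.land (Nat.shiftRight cB x) 1048575)) 1048575)) 1048575)) 1048575) x) (and (Nat.beq (Nat.land (Nat.shiftRight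 cJ (Nat.land (Nat.shiftRight cB (Nat.land (Nat.shiftRight cJ (Nat.land (Nat.shiftRight cB x) 1048575)) 1048575)) 1048575)) 1048575) x) (and (Nat.beq (Nat.land (Nat.shiftRight cI (Nat.land (Nat.shiftRight cB (Nat.land (Nat.shiftRight cI (Nat.land (Nat.shiftRight cB x) 1048575)) 1048575)) 1048575)) 1048575) x) (and (Nat.beq (Nat.land (Nat.shiftRight cC (Nat.land (Nat.shiftRight cC x) 1048575)) 1048575) x) (and (Nat.beq (Nat.land (Nat.shiftRight cD (Nat.land (Nat.shiftRight cC (Nat.land (Nat.shiftRight cD (Nat.land (Nat.shiftRight cC (Nat.land (Nat.shiftRight cD (Nat.land (Nat.shiftRight cC x) 1048575)) 1048575)) 1048575)) 1048575)) 1048575)) 1048575) x) (and (Nat.beq (Nat.land (Nat.shiftRight cE (Nat.land (Nat.shiftRight cC (Nat.land (Nat.shiftRight cE (Nat.land (Nat.shiftRight cC x) 1048575)) 1048575)) 1048575)) 1048575) x) (and (Nat.beq (Nat.land (Nat.shiftRight cF (Nat.land (Nat.shiftRight cC (Nat.land (Nat.shiftRight cF (Nat.land (Nat.shiftRight cC x) 1048575)) 1048575)) 1048575))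 1048575) x) (and (Nat.beq (Nat.land (Nat.shiftRight cG (Nat.land (Nat.shiftRight cC (Nat.land (Nat.shiftRight cG (Nat.land (Nat.shiftRight cC x) 1048575)) 1048575)) 1048575)) 1048575) x) (and (Nat.beq (Nat.land (Nat.shiftRight cH (Nat.land (Nat.shiftRight cC (Nat.land (Nat.shiftRight cH (Nat.land (Nat.shiftRight cC x) 1048575)) 1048575)) 1048575)) 1048575) x) (and (Nat.beq (Nat.land (Nat.shiftRight cJ (Nat.land (Nat.shiftRight cC (Nat.land (Nat.shiftRight cJ (Nat.land (Nat.shiftRight cC x) 1048575)) 1048575)) 1048575)) 1048575) x) (and (Nat.beq (Nat.land (Nat.shiftRight cI (Nat.land (Nat.shiftRight cC (Nat.land (Nat.shiftRight cI (Nat.land (Nat.shiftRight cC x) 1048575)) 1048575)) 1048575)) 1048575) x) (and (Nat.beq (Nat.land (Nat.shiftRight cD (Nat.land (Nat.shiftRight cD x) 1048575)) 1048575) x) (and (Nat.beq (Nat.land (Nat.shiftRight cE (Nat.land (Nat.shiftRight cD (Nat.land (Nat.shiftRight cE (Nat.land (Nat.shiftRight cD (Nat.land (Nat.shiftRight cE (Nat.land (Nat.shiftRight cD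 x) 1048575)) 1048575)) 1048575)) 1048575)) 1048575)) 1048575) x) (and (Nat.beq (Nat.land (Nat.shiftRight cF (Nat.land (Nat.shiftRight cD (Nat.land (Nat.shiftRight cF (Nat.land (Nat.shiftRight cD x) 1048575)) 1048575)) 1048575)) 1048575) x) (and (Nat.beq (Nat.land (Nat.shiftRight cG (Nat.land (Nat.shiftRight cD (Nat.land (Nat.shiftRight cG (Nat.land (Nat.shiftRight cD x) 1048575)) 1048575)) 1048575)) 1048575) x) (and (Nat.beq (Nat.land (Nat.shiftRight cH (Nat.land (Nat.shiftRight cD (Nat.land (Nat.shiftRight cH (Nat.land (Nat.shiftRight cD (Nat.land (Nat.shiftRight cH (Nat.land (Nat.shiftRight cD x) 1048575)) 1048575)) 1048575)) 1048575)) 1048575)) 1048575) x) (and (Nat.beq (Nat.land (Nat.shiftRight cJ (Nat.land (Nat.shiftRight cD (Nat.land (Nat.shiftRight cJ (Nat.land (Nat.shiftRight cD x) 1048575)) 1048575)) 1048575)) 1048575) x) (and (Nat.beq (Nat.land (Nat.shiftRight cI (Nat.land (Nat.shiftRight cD (Nat.land (Nat.shiftRight cI (Nat.land (Nat.shiftRight cD x) 1048575)) 1048575)) 1048575))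 1048575) x) (and (Nat.beq (Nat.land (Nat.shiftRight cE (Nat.land (Nat.shiftRight cE x) 1048575)) 1048575) x) (and (Nat.beq (Nat.land (Nat.shiftRight cF (Nat.land (Nat.shiftRight cE (Nat.land (Nat.shiftRight cF (Nat.land (Nat.shiftRight cE (Nat.land (Nat.shiftRight cF (Nat.land (Nat.shiftRight cE x) 1048575)) 1048575)) 1048575)) 1048575)) 1048575)) 1048575) x) (and (Nat.beq (Nat.land (Nat.shiftRight cG (Nat.land (Nat.shiftRight cE (Nat.land (Nat.shiftRight cG (Nat.land (Nat.shiftRight cE x) 1048575)) 1048575)) 1048575)) 1048575) x) (and (Nat.beq (Nat.land (Nat.shiftRight cH (Nat.land (Nat.shiftRight cE (Nat.land (Nat.shiftRight cH (Nat.land (Nat.shiftRight cE x) 1048575)) 1048575)) 1048575)) 1048575) x) (and (Nat.beq (Nat.land (Nat.shiftRight cJ (Nat.land (Nat.shiftRight cE (Nat.land (Nat.shiftRight cJ (Nat.land (Nat.shiftRight cE x) 1048575)) 1048575)) 1048575)) 1048575) x) (and (Nat.beq (Nat.land (Nat.shiftRight cI (Nat.land (Nat.shiftRight cE (Nat.land (Nat.shiftRight cI (Nat.land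 (Nat.shiftRight cE x) 1048575)) 1048575)) 1048575)) 1048575) x) (and (Nat.beq (Nat.land (Nat.shiftRight cF (Nat.land (Nat.shiftRight cF x) 1048575)) 1048575) x) (and (Nat.beq (Nat.land (Nat.shiftRight cG (Nat.land (Nat.shiftRight cF (Nat.land (Nat.shiftRight cG (Nat.land (Nat.shiftRight cF (Nat.land (Nat.shiftRight cG (Nat.land (Nat.shiftRight cF x) 1048575)) 1048575)) 1048575)) 1048575)) 1048575)) 1048575) x) (and (Nat.beq (Nat.land (Nat.shiftRight cH (Nat.land (Nat.shiftRight cF (Nat.land (Nat.shiftRight cH (Nat.land (Nat.shiftRight cF x) 1048575)) 1048575)) 1048575)) 1048575) x) (and (Nat.beq (Nat.land (Nat.shiftRight cJ (Nat.land (Nat.shiftRight cF (Nat.land (Nat.shiftRight cJ (Nat.land (Nat.shiftRight cF x) 1048575)) 1048575)) 1048575)) 1048575) x) (and (Nat.beq (Nat.land (Nat.shiftRight cI (Nat.land (Nat.shiftRight cF (Nat.land (Nat.shiftRight cI (Nat.land (Nat.shiftRight cF x) 1048575)) 1048575)) 1048575)) 1048575) x) (and (Nat.beq (Nat.land (Nat.shiftRight cG (Nat.land (Nat.shiftRight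 cG x) 1048575)) 1048575) x) (and (Nat.beq (Nat.land (Nat.shiftRight cH (Nat.land (Nat.shiftRight cG (Nat.land (Nat.shiftRight cH (Nat.land (Nat.shiftRight cG x) 1048575)) 1048575)) 1048575)) 1048575) x) (and (Nat.beq (Nat.land (Nat.shiftRight cJ (Nat.land (Nat.shiftRight cG (Nat.land (Nat.shiftRight cJ (Nat.land (Nat.shiftRight cG (Nat.land (Nat.shiftRight cJ (Nat.land (Nat.shiftRight cG x) 1048575)) 1048575)) 1048575)) 1048575)) 1048575)) 1048575) x) (and (Nat.beq (Nat.land (Nat.shiftRight cI (Nat.land (Nat.shiftRight cG (Nat.land (Nat.shiftRight cI (Nat.land (Nat.shiftRight cG x) 1048575)) 1048575)) 1048575)) 1048575) x) (and (Nat.beq (Nat.land (Nat.shiftRight cH (Nat.land (Nat.shiftRight cH x) 1048575)) 1048575) x) (and (Nat.beq (Nat.land (Nat.shiftRight cI (Nat.land (Nat.shiftRight cH (Nat.land (Nat.shiftRight cI (Nat.land (Nat.shiftRight cH (Nat.land (Nat.shiftRight cI (Nat.land (Nat.shiftRight cH x) 1048575)) 1048575)) 1048575)) 1048575)) 1048575)) 1048575) x) (and (Nat.beq (Nat.land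 (Nat.shiftRight cH (Nat.land (Nat.shiftRight cJ (Nat.land (Nat.shiftRight cH (Nat.land (Nat.shiftRight cJ x) 1048575)) 1048575)) 1048575)) 1048575) x) (and (Nat.beq (Nat.land (Nat.shiftRight cJ (Nat.land (Nat.shiftRight cJ x) 1048575)) 1048575) x) (and (Nat.beq (Nat.land (Nat.shiftRight cI (Nat.land (Nat.shiftRight cJ (Nat.land (Nat.shiftRight cI (Nat.land (Nat.shiftRight cJ x) 1048575)) 1048575)) 1048575)) 1048575) x) (and (Nat.beq (Nat.land (Nat.shiftRight cI (Nat.land (Nat.shiftRight cI x) 1048575)) 1048575) x) (and (Nat.beq (Nat.land (Nat.shiftRight cI (Nat.land (Nat.shiftRight cH (Nat.land (Nat.shiftRight cD (Nat.land (Nat.shiftRight cF (Nat.land (Nat.shiftRight cE (Nat.land (Nat.shiftRight cD (Nat.land (Nat.shiftRight cB (Nat.land (Nat.shiftRight cC (Nat.land (Nat.shiftRight cD (Nat.land (Nat.shiftRight cI (Nat.land (Nat.shiftRight cH (Nat.land (Nat.shiftRight cD (Nat.land (Nat.shiftRight cF (Nat.land (Nat.shiftRight cE (Nat.land (Nat.shiftRight cD (Nat.land (Nat.shiftRight cB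 (Nat.land (Nat.shiftRight cC (Nat.land (Nat.shiftRight cD (Nat.land (Nat.shiftRight cI (Nat.land (Nat.shiftRight cH (Nat.land (Nat.shiftRight cD (Nat.land (Nat.shiftRight cF (Nat.land (Nat.shiftRight cE (Nat.land (Nat.shiftRight cD (Nat.land (Nat.shiftRight cB (Nat.land (Nat.shiftRight cC (Nat.land (Nat.shiftRight cD (Nat.land (Nat.shiftRight cI (Nat.land (Nat.shiftRight cH (Nat.land (Nat.shiftRight cD (Nat.land (Nat.shiftRight cF (Nat.land (Nat.shiftRight cE (Nat.land (Nat.shiftRight cD (Nat.land (Nat.shiftRight cB (Nat.land (Nat.shiftRight cC (Nat.land (Nat.shiftRight cD (Nat.land (Nat.shiftRight cI (Nat.land (Nat.shiftRight cH (Nat.land (Nat.shiftRight cD (Nat.land (Nat.shiftRight cF (Nat.land (Nat.shiftRight cE (Nat.land (Nat.shiftRight cD (Nat.land (Nat.shiftRight cB (Nat.land (Nat.shiftRight cC (Nat.land (Nat.shiftRight cD (Nat.land (Nat.shiftRight cI (Nat.land (Nat.shiftRight cH (Nat.land (Nat.shiftRight cD (Nat.land (Nat.shiftRight cF (Nat.land (Nat.shiftRight cE (Nat.land (Nat.shiftRight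 cD (Nat.land (Nat.shiftRight cB (Nat.land (Nat.shiftRight cC (Nat.land (Nat.shiftRight cD (Nat.land (Nat.shiftRight cI (Nat.land (Nat.shiftRight cH (Nat.land (Nat.shiftRight cD (Nat.land (Nat.shiftRight cF (Nat.land (Nat.shiftRight cE (Nat.land (Nat.shiftRight cD (Nat.land (Nat.shiftRight cB (Nat.land (Nat.shiftRight cC (Nat.land (Nat.shiftRight cD (Nat.land (Nat.shiftRight cI (Nat.land (Nat.shiftRight cH (Nat.land (Nat.shiftRight cD (Nat.land (Nat.shiftRight cF (Nat.land (Nat.shiftRight cE (Nat.land (Nat.shiftRight cD (Nat.land (Nat.shiftRight cB (Nat.land (Nat.shiftRight cC (Nat.land (Nat.shiftRight cD (Nat.land (Nat.shiftRight cI (Nat.land (Nat.shiftRight cH (Nat.land (Nat.shiftRight cD (Nat.land (Nat.shiftRight cF (Nat.land (Nat.shiftRight cE (Nat.land (Nat.shiftRight cD (Nat.land (Nat.shiftRight cB (Nat.land (Nat.shiftRight cC (Nat.land (Nat.shiftRight cD (Nat.land (Nat.shiftRight cI (Nat.land (Nat.shiftRight cH (Nat.land (Nat.shiftRight cD (Nat.land (Nat.shiftRight cF (Nat.land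 (Nat.shiftRight cE (Nat.land (Nat.shiftRight cD (Nat.land (Nat.shiftRight cB (Nat.land (Nat.shiftRight cC (Nat.land (Nat.shiftRight cD x) 1048575)) 1048575)) 1048575)) 1048575)) 1048575)) 1048575)) 1048575)) 1048575)) 1048575)) 1048575)) 1048575)) 1048575)) 1048575)) 1048575)) 1048575)) 1048575)) 1048575)) 1048575)) 1048575)) 1048575)) 1048575)) 1048575)) 1048575)) 1048575)) 1048575)) 1048575)) 1048575)) 1048575)) 1048575)) 1048575)) 1048575)) 1048575)) 1048575)) 1048575)) 1048575)) 1048575)) 1048575)) 1048575)) 1048575)) 1048575)) 1048575)) 1048575)) 1048575)) 1048575)) 1048575)) 1048575)) 1048575)) 1048575)) 1048575)) 1048575)) 1048575)) 1048575)) 1048575)) 1048575)) 1048575)) 1048575)) 1048575)) 1048575)) 1048575)) 1048575)) 1048575)) 1048575)) 1048575)) 1048575)) 1048575)) 1048575)) 1048575)) 1048575)) 1048575)) 1048575)) 1048575)) 1048575)) 1048575)) 1048575)) 1048575)) 1048575)) 1048575)) 1048575)) 1048575)) 1048575)) 1048575)) 1048575)) 1048575)) 1048575)) 1048575)) 1048575))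 1048575)) 1048575)) 1048575)) 1048575) x) (and (Nat.beq (Nat.land (Nat.shiftRight cH (Nat.land (Nat.shiftRight cF (Nat.land (Nat.shiftRight cE (Nat.land (Nat.shiftRight cD (Nat.land (Nat.shiftRight cC (Nat.land (Nat.shiftRight cB (Nat.land (Nat.shiftRight cA (Nat.land (Nat.shiftRight cH (Nat.land (Nat.shiftRight cF (Nat.land (Nat.shiftRight cE (Nat.land (Nat.shiftRight cD (Nat.land (Nat.shiftRight cC (Nat.land (Nat.shiftRight cB (Nat.land (Nat.shiftRight cA (Nat.land (Nat.shiftRight cH (Nat.land (Nat.shiftRight cF (Nat.land (Nat.shiftRight cE (Nat.land (Nat.shiftRight cD (Nat.land (Nat.shiftRight cC (Nat.land (Nat.shiftRight cB (Nat.land (Nat.shiftRight cA (Nat.land (Nat.shiftRight cH (Nat.land (Nat.shiftRight cF (Nat.land (Nat.shiftRight cE (Nat.land (Nat.shiftRight cD (Nat.land (Nat.shiftRight cC (Nat.land (Nat.shiftRight cB (Nat.land (Nat.shiftRight cA (Nat.land (Nat.shiftRight cH (Nat.land (Nat.shiftRight cF (Nat.land (Nat.shiftRight cE (Nat.land (Nat.shiftRight cD (Nat.land (Nat.shiftRight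 cC (Nat.land (Nat.shiftRight cB (Nat.land (Nat.shiftRight cA (Nat.land (Nat.shiftRight cH (Nat.land (Nat.shiftRight cF (Nat.land (Nat.shiftRight cE (Nat.land (Nat.shiftRight cD (Nat.land (Nat.shiftRight cC (Nat.land (Nat.shiftRight cB (Nat.land (Nat.shiftRight cA (Nat.land (Nat.shiftRight cH (Nat.land (Nat.shiftRight cF (Nat.land (Nat.shiftRight cE (Nat.land (Nat.shiftRight cD (Nat.land (Nat.shiftRight cC (Nat.land (Nat.shiftRight cB (Nat.land (Nat.shiftRight cA (Nat.land (Nat.shiftRight cH (Nat.land (Nat.shiftRight cF (Nat.land (Nat.shiftRight cE (Nat.land (Nat.shiftRight cD (Nat.land (Nat.shiftRight cC (Nat.land (Nat.shiftRight cB (Nat.land (Nat.shiftRight cA (Nat.land (Nat.shiftRight cH (Nat.land (Nat.shiftRight cF (Nat.land (Nat.shiftRight cE (Nat.land (Nat.shiftRight cD (Nat.land (Nat.shiftRight cC (Nat.land (Nat.shiftRight cB (Nat.land (Nat.shiftRight cA x) 1048575)) 1048575)) 1048575)) 1048575)) 1048575)) 1048575)) 1048575)) 1048575)) 1048575)) 1048575)) 1048575)) 1048575)) 1048575))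 1048575)) 1048575)) 1048575)) 1048575)) 1048575)) 1048575)) 1048575)) 1048575)) 1048575)) 1048575)) 1048575)) 1048575)) 1048575)) 1048575)) 1048575)) 1048575)) 1048575)) 1048575)) 1048575)) 1048575)) 1048575)) 1048575)) 1048575)) 1048575)) 1048575)) 1048575)) 1048575)) 1048575)) 1048575)) 1048575)) 1048575)) 1048575)) 1048575)) 1048575)) 1048575)) 1048575)) 1048575)) 1048575)) 1048575)) 1048575)) 1048575)) 1048575)) 1048575)) 1048575)) 1048575)) 1048575)) 1048575)) 1048575)) 1048575)) 1048575) x) true)))))))))))))))))))))))))))))))))))))))))))))))))))))))))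
      (or (Nat.beq x 0) (or (Nat.blt (Nat.land (Nat.shiftRight cA x) 1048575) x) (or (Nat.blt (Nat.land (Nat.shiftRight cB x) 1048575) x) (or (Nat.blt (Nat.land (Nat.shiftRight cC x) 1048575) x) (or (Nat.blt (Nat.land (Nat.shiftRight cD x) 1048575) x) (or (Nat.blt (Nat.land (Nat.shiftRight cE x) 1048575) x) (or (Nat.blt (Nat.land (Nat.shiftRight cF x) 1048575) x) (or (Nat.blt (Nat.land (Nat.shiftRight cG x) 1048575) x) (or (Nat.blt (Nat.land (Nat.shiftRight cJ x) 1048575) x) (or (Nat.blt (Nat.land (Nat.shiftRight cH x) 1048575) x) (or (Nat.blt (Nat.land (Nat.shiftRight cI x) 1048575) x) (or (Nat.blt (Nat.land (Nat.shiftRight cA x) 1048575) x) (or (Nat.blt (Nat.land (Nat.shiftRight cB x) 1048575) x) (or (Nat.blt (Nat.land (Nat.shiftRight cC x) 1048575) x) (or (Nat.blt (Nat.land (Nat.shiftRight cD x) 1048575) x) (or (Nat.blt (Nat.land (Nat.shiftRight cE x) 1048575) x) (or (Nat.blt (Nat.land (Nat.shiftRight cF x) 1048575) x) (or (Nat.blt (Nat.land (Nat.shiftRight cG x) 1048575) x) (or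 (Nat.blt (Nat.land (Nat.shiftRight cJ x) 1048575) x) (or (Nat.blt (Nat.land (Nat.shiftRight cH x) 1048575) x) (or (Nat.blt (Nat.land (Nat.shiftRight cI x) 1048575) x) false))))))))))))))))))))))

set_option maxRecDepth 1000000 in
theorem pointOk_eq (x : ℕ) : pointOk x = pchk 633420 20 1048575 col letters words x := rfl

/-- words generating the subgroup (with inverses where needed) -/
def cl : List (List (Cfsg.Spor.Fi23.Gen × Bool)) := [
  [(.a, true)],
  [(.b, true)],
  [(.c, true)],
  [(.d, true)],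
  [(.e, true)],
  [(.f, true)],
  [(.g, true)],
  [(.h, true)],
  [(.i, true)]]

/-- base points (offsets) of the orbits -/
def bases : List ℕ := [0, 20, 1040]

/-- the unrolled orbit check -/
def orbOk (x : ℕ) : Bool :=
  and (and (Nat.beq (Nat.land (Nat.shiftRight oidA (Nat.land (Nat.shiftRight cA x) 1048575)) 1048575) (Nat.land (Nat.shiftRight oidA x) 1048575)) (and (Nat.beq (Nat.land (Nat.shiftRight oidA (Nat.land (Nat.shiftRight cB x) 1048575)) 1048575) (Nat.land (Nat.shiftRight oidA x) 1048575)) (and (Nat.beq (Nat.land (Nat.shiftRight oidA (Nat.land (Nat.shiftRight cC x) 1048575)) 1048575) (Nat.land (Nat.shiftRight oidA x) 1048575)) (and (Nat.beq (Nat.land (Nat.shiftRight oidA (Nat.land (Nat.shiftRight cD x) 1048575)) 1048575) (Nat.land (Nat.shiftRight oidA x) 1048575)) (and (Nat.beq (Nat.land (Nat.shiftRight oidA (Nat.land (Nat.shiftRight cE x) 1048575)) 1048575) (Nat.land (Nat.shiftRight oidA x) 1048575)) (and (Nat.beq (Nat.land (Nat.shiftRight oidA (Nat.land (Nat.shiftRight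 cF x) 1048575)) 1048575) (Nat.land (Nat.shiftRight oidA x) 1048575)) (and (Nat.beq (Nat.land (Nat.shiftRight oidA (Nat.land (Nat.shiftRight cG x) 1048575)) 1048575) (Nat.land (Nat.shiftRight oidA x) 1048575)) (and (Nat.beq (Nat.land (Nat.shiftRight oidA (Nat.land (Nat.shiftRight cH x) 1048575)) 1048575) (Nat.land (Nat.shiftRight oidA x) 1048575)) (and (Nat.beq (Nat.land (Nat.shiftRight oidA (Nat.land (Nat.shiftRight cI x) 1048575)) 1048575) (Nat.land (Nat.shiftRight oidA x) 1048575)) true)))))))))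
    (or (and (Nat.beq (Nat.land (Nat.shiftRight rnkA x) 1048575) 0) (Nat.beq x (bases.getD (Nat.land (Nat.shiftRight oidA x) 1048575) 0)))
      (or (Nat.blt (Nat.land (Nat.shiftRight rnkA (Nat.land (Nat.shiftRight cA x) 1048575)) 1048575) (Nat.land (Nat.shiftRight rnkA x) 1048575)) (or (Nat.blt (Nat.land (Nat.shiftRight rnkA (Nat.land (Nat.shiftRight cB x) 1048575)) 1048575) (Nat.land (Nat.shiftRight rnkA x) 1048575)) (or (Nat.blt (Nat.land (Nat.shiftRight rnkA (Nat.land (Nat.shiftRight cC x) 1048575)) 1048575) (Nat.land (Nat.shiftRight rnkA x) 1048575)) (or (Nat.blt (Nat.land (Nat.shiftRight rnkA (Nat.land (Nat.shiftRight cD x) 1048575)) 1048575) (Nat.land (Nat.shiftRight rnkA x) 1048575)) (or (Nat.blt (Nat.land (Nat.shiftRight rnkA (Nat.land (Nat.shiftRight cE x) 1048575)) 1048575) (Nat.land (Nat.shiftRight rnkA x) 1048575)) (or (Nat.blt (Nat.land (Nat.shiftRight rnkA (Nat.land (Nat.shiftRight cF x) 1048575)) 1048575) (Nat.land (Nat.shiftRight rnkA x) 1048575)) (or (Nat.blt (Nat.land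 (Nat.shiftRight rnkA (Nat.land (Nat.shiftRight cG x) 1048575)) 1048575) (Nat.land (Nat.shiftRight rnkA x) 1048575)) (or (Nat.blt (Nat.land (Nat.shiftRight rnkA (Nat.land (Nat.shiftRight cH x) 1048575)) 1048575) (Nat.land (Nat.shiftRight rnkA x) 1048575)) (or (Nat.blt (Nat.land (Nat.shiftRight rnkA (Nat.land (Nat.shiftRight cI x) 1048575)) 1048575) (Nat.land (Nat.shiftRight rnkA x) 1048575)) false))))))))))

set_option maxRecDepth 1000000 in
theorem orbOk_eq (x : ℕ) : orbOk x = ochk 1048575 col oidA rnkA bases cl x := rfl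

end Cfsg.Agent.Lib.Helper28_S1689
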