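import Cfsg.Agent.Lib.Helper28_S1689Def

set_option autoImplicit false
set_option linter.constructorNameAsVariable false
set_option Elab.async false

namespace Cfsg.Agent.Lib.Helper28_S1689

open Cfsg.Agent.Lib.Helper28_CosetPerm

theorem p0r0 : allRange pointOk 20 0 21 = true := by decide +kernel
theorem p0u0 : ∀ k, 0 ≤ k → k < 21 → pointOk (k * 20) = true := between_extend pointOk 20 0 0 21 (between_start pointOk 20 0) p0r0

theorem p0r1 : allRange pointOk 20 21 21 = true := by decide +kernel
theorem p0u1 : ∀ k, 0 ≤ k → k < 42 → pointOk (k * 20) = true := between_extend pointOk 20 0 21 21 (p0u0) p0r1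

theorem p0r2 : allRange pointOk 20 42 21 = true := by decide +kernel
theorem p0u2 : ∀ k, 0 ≤ k → k < 63 → pointOk (k * 20) = true := between_extend pointOk 20 0 42 21 (p0u1) p0r2

theorem p0r3 : allRange pointOk 20 63 21 = true := by decide +kernel
theorem p0u3 : ∀ k, 0 ≤ k → k < 84 → pointOk (k * 20) = true := between_extend pointOk 20 0 63 21 (p0u2) p0r3

theorem p0r4 : allRange pointOk 20 84 21 = true := by decide +kernel
theorem p0u4 : ∀ k, 0 ≤ k → k < 105 → pointOk (k * 20) = true := between_extend pointOk 20 0 84 21 (p0u3) p0r4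

theorem p0r5 : allRange pointOk 20 105 21 = true := by decide +kernel
theorem p0u5 : ∀ k, 0 ≤ k → k < 126 → pointOk (k * 20) = true := between_extend pointOk 20 0 105 21 (p0u4) p0r5

theorem p0r6 : allRange pointOk 20 126 21 = true := by decide +kernel
theorem p0u6 : ∀ k, 0 ≤ k → k < 147 → pointOk (k * 20) = true := between_extend pointOk 20 0 126 21 (p0u5) p0r6

theorem p0r7 : allRange pointOk 20 147 21 = true := by decide +kernel
theorem p0u7 : ∀ k, 0 ≤ k → k < 168 → pointOk (k * 20) = true := between_extend pointOk 20 0 147 21 (p0u6) p0r7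

theorem p0r8 : allRange pointOk 20 168 21 = true := by decide +kernel
theorem p0u8 : ∀ k, 0 ≤ k → k < 189 → pointOk (k * 20) = true := between_extend pointOk 20 0 168 21 (p0u7) p0r8

theorem p0r9 : allRange pointOk 20 189 21 = true := by decide +kernel
theorem p0u9 : ∀ k, 0 ≤ k → k < 210 → pointOk (k * 20) = true := between_extend pointOk 20 0 189 21 (p0u8) p0r9

theorem p0r10 : allRange pointOk 20 210 21 = true := by decide +kernel
theorem p0u10 : ∀ k, 0 ≤ k → k < 231 → pointOk (k * 20) = true := between_extend pointOk 20 0 210 21 (p0u9) p0r10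

theorem p0r11 : allRange pointOk 20 231 21 = true := by decide +kernel
theorem p0u11 : ∀ k, 0 ≤ k → k < 252 → pointOk (k * 20) = true := between_extend pointOk 20 0 231 21 (p0u10) p0r11

theorem p0r12 : allRange pointOk 20 252 21 = true := by decide +kernel
theorem p0u12 : ∀ k, 0 ≤ k → k < 273 → pointOk (k * 20) = true := between_extend pointOk 20 0 252 21 (p0u11) p0r12

theorem p0r13 : allRange pointOk 20 273 21 = true := by decide +kernel
theorem p0u13 : ∀ k, 0 ≤ k → k < 294 → pointOk (k * 20) = true := between_extend pointOk 20 0 273 21 (p0u12) p0r13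

theorem p0r14 : allRange pointOk 20 294 21 = true := by decide +kernel
theorem p0u14 : ∀ k, 0 ≤ k → k < 315 → pointOk (k * 20) = true := between_extend pointOk 20 0 294 21 (p0u13) p0r14

theorem p0r15 : allRange pointOk 20 315 21 = true := by decide +kernel
theorem p0u15 : ∀ k, 0 ≤ k → k < 336 → pointOk (k * 20) = true := between_extend pointOk 20 0 315 21 (p0u14) p0r15

theorem p0r16 : allRange pointOk 20 336 21 = true := by decide +kernel
theorem p0u16 : ∀ k, 0 ≤ k → k < 357 → pointOk (k * 20) = true := between_extend pointOk 20 0 336 21 (p0u15) p0r16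

theorem p0r17 : allRange pointOk 20 357 21 = true := by decide +kernel
theorem p0u17 : ∀ k, 0 ≤ k → k < 378 → pointOk (k * 20) = true := between_extend pointOk 20 0 357 21 (p0u16) p0r17

theorem p0r18 : allRange pointOk 20 378 21 = true := by decide +kernel
theorem p0u18 : ∀ k, 0 ≤ k → k < 399 → pointOk (k * 20) = true := between_extend pointOk 20 0 378 21 (p0u17) p0r18

theorem p0r19 : allRange pointOk 20 399 21 = true := by decide +kernel
theorem p0u19 : ∀ k, 0 ≤ k → k < 420 → pointOk (k * 20) = true := between_extend pointOk 20 0 399 21 (p0u18) p0r19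

theorem p0r20 : allRange pointOk 20 420 21 = true := by decide +kernel
theorem p0u20 : ∀ k, 0 ≤ k → k < 441 → pointOk (k * 20) = true := between_extend pointOk 20 0 420 21 (p0u19) p0r20

theorem p0r21 : allRange pointOk 20 441 21 = true := by decide +kernel
theorem p0u21 : ∀ k, 0 ≤ k → k < 462 → pointOk (k * 20) = true := between_extend pointOk 20 0 441 21 (p0u20) p0r21

theorem p0r22 : allRange pointOk 20 462 21 = true := by decide +kernel
theorem p0u22 : ∀ k, 0 ≤ k → k < 483 → pointOk (k * 20) = true := between_extend pointOk 20 0 462 21 (p0u21) p0r22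

theorem p0r23 : allRange pointOk 20 483 21 = true := by decide +kernel
theorem p0u23 : ∀ k, 0 ≤ k → k < 504 → pointOk (k * 20) = true := between_extend pointOk 20 0 483 21 (p0u22) p0r23

theorem p0r24 : allRange pointOk 20 504 21 = true := by decide +kernel
theorem p0u24 : ∀ k, 0 ≤ k → k < 525 → pointOk (k * 20) = true := between_extend pointOk 20 0 504 21 (p0u23) p0r24

theorem p0r25 : allRange pointOk 20 525 21 = true := by decide +kernel
theorem p0u25 : ∀ k, 0 ≤ k → k < 546 → pointOk (k * 20) = true := between_extend pointOk 20 0 525 21 (p0u24) p0r25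

theorem p0r26 : allRange pointOk 20 546 21 = true := by decide +kernel
theorem p0u26 : ∀ k, 0 ≤ k → k < 567 → pointOk (k * 20) = true := between_extend pointOk 20 0 546 21 (p0u25) p0r26

theorem p0r27 : allRange pointOk 20 567 21 = true := by decide +kernel
theorem p0u27 : ∀ k, 0 ≤ k → k < 588 → pointOk (k * 20) = true := between_extend pointOk 20 0 567 21 (p0u26) p0r27

theorem p0r28 : allRange pointOk 20 588 21 = true := by decide +kernel
theorem p0u28 : ∀ k, 0 ≤ k → k < 609 → pointOk (k * 20) = true := between_extend pointOk 20 0 588 21 (p0u27) p0r28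

theorem p0r29 : allRange pointOk 20 609 21 = true := by decide +kernel
theorem p0u29 : ∀ k, 0 ≤ k → k < 630 → pointOk (k * 20) = true := between_extend pointOk 20 0 609 21 (p0u28) p0r29

theorem p0r30 : allRange pointOk 20 630 21 = true := by decide +kernel
theorem p0u30 : ∀ k, 0 ≤ k → k < 651 → pointOk (k * 20) = true := between_extend pointOk 20 0 630 21 (p0u29) p0r30

theorem p0r31 : allRange pointOk 20 651 21 = true := by decide +kernel
theorem p0u31 : ∀ k, 0 ≤ k → k < 672 → pointOk (k * 20) = true := between_extend pointOk 20 0 651 21 (p0u30) p0r31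

theorem p0r32 : allRange pointOk 20 672 21 = true := by decide +kernel
theorem p0u32 : ∀ k, 0 ≤ k → k < 693 → pointOk (k * 20) = true := between_extend pointOk 20 0 672 21 (p0u31) p0r32

theorem p0r33 : allRange pointOk 20 693 21 = true := by decide +kernel
theorem p0u33 : ∀ k, 0 ≤ k → k < 714 → pointOk (k * 20) = true := between_extend pointOk 20 0 693 21 (p0u32) p0r33

theorem p0r34 : allRange pointOk 20 714 21 = true := by decide +kernel
theorem p0u34 : ∀ k, 0 ≤ k → k < 735 → pointOk (k * 20) = true := between_extend pointOk 20 0 714 21 (p0u33) p0r34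

theorem p0r35 : allRange pointOk 20 735 21 = true := by decide +kernel
theorem p0u35 : ∀ k, 0 ≤ k → k < 756 → pointOk (k * 20) = true := between_extend pointOk 20 0 735 21 (p0u34) p0r35

theorem p0r36 : allRange pointOk 20 756 21 = true := by decide +kernel
theorem p0u36 : ∀ k, 0 ≤ k → k < 777 → pointOk (k * 20) = true := between_extend pointOk 20 0 756 21 (p0u35) p0r36

theorem p0r37 : allRange pointOk 20 777 21 = true := by decide +kernel
theorem p0u37 : ∀ k, 0 ≤ k → k < 798 → pointOk (k * 20) = true := between_extend pointOk 20 0 777 21 (p0u36) p0r37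

theorem p0r38 : allRange pointOk 20 798 21 = true := by decide +kernel
theorem p0u38 : ∀ k, 0 ≤ k → k < 819 → pointOk (k * 20) = true := between_extend pointOk 20 0 798 21 (p0u37) p0r38

theorem p0r39 : allRange pointOk 20 819 21 = true := by decide +kernel
theorem p0u39 : ∀ k, 0 ≤ k → k < 840 → pointOk (k * 20) = true := between_extend pointOk 20 0 819 21 (p0u38) p0r39

theorem p0r40 : allRange pointOk 20 840 21 = true := by decide +kernel
theorem p0u40 : ∀ k, 0 ≤ k → k < 861 → pointOk (k * 20) = true := between_extend pointOk 20 0 840 21 (p0u39) p0r40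

theorem p0r41 : allRange pointOk 20 861 21 = true := by decide +kernel
theorem p0u41 : ∀ k, 0 ≤ k → k < 882 → pointOk (k * 20) = true := between_extend pointOk 20 0 861 21 (p0u40) p0r41

theorem p0r42 : allRange pointOk 20 882 21 = true := by decide +kernel
theorem p0u42 : ∀ k, 0 ≤ k → k < 903 → pointOk (k * 20) = true := between_extend pointOk 20 0 882 21 (p0u41) p0r42

theorem p0r43 : allRange pointOk 20 903 21 = true := by decide +kernel
theorem p0u43 : ∀ k, 0 ≤ k → k < 924 → pointOk (k * 20) = true := between_extend pointOk 20 0 903 21 (p0u42) p0r43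

theorem p0r44 : allRange pointOk 20 924 21 = true := by decide +kernel
theorem p0u44 : ∀ k, 0 ≤ k → k < 945 → pointOk (k * 20) = true := between_extend pointOk 20 0 924 21 (p0u43) p0r44

theorem p0r45 : allRange pointOk 20 945 21 = true := by decide +kernel
theorem p0u45 : ∀ k, 0 ≤ k → k < 966 → pointOk (k * 20) = true := between_extend pointOk 20 0 945 21 (p0u44) p0r45

theorem p0r46 : allRange pointOk 20 966 21 = true := by decide +kernel
theorem p0u46 : ∀ k, 0 ≤ k → k < 987 → pointOk (k * 20) = true := between_extend pointOk 20 0 966 21 (p0u45) p0r46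

theorem p0r47 : allRange pointOk 20 987 21 = true := by decide +kernel
theorem p0u47 : ∀ k, 0 ≤ k → k < 1008 → pointOk (k * 20) = true := between_extend pointOk 20 0 987 21 (p0u46) p0r47

theorem p0r48 : allRange pointOk 20 1008 21 = true := by decide +kernel
theorem p0u48 : ∀ k, 0 ≤ k → k < 1029 → pointOk (k * 20) = true := between_extend pointOk 20 0 1008 21 (p0u47) p0r48

theorem p0r49 : allRange pointOk 20 1029 21 = true := by decide +kernel
theorem p0u49 : ∀ k, 0 ≤ k → k < 1050 → pointOk (k * 20) = true := between_extend pointOk 20 0 1029 21 (p0u48) p0r49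

theorem p0r50 : allRange pointOk 20 1050 21 = true := by decide +kernel
theorem p0u50 : ∀ k, 0 ≤ k → k < 1071 → pointOk (k * 20) = true := between_extend pointOk 20 0 1050 21 (p0u49) p0r50

theorem p0r51 : allRange pointOk 20 1071 21 = true := by decide +kernel
theorem p0u51 : ∀ k, 0 ≤ k → k < 1092 → pointOk (k * 20) = true := between_extend pointOk 20 0 1071 21 (p0u50) p0r51

theorem p0r52 : allRange pointOk 20 1092 21 = true := by decide +kernel
theorem p0u52 : ∀ k, 0 ≤ k → k < 1113 → pointOk (k * 20) = true := between_extend pointOk 20 0 1092 21 (p0u51) p0r52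

theorem p0r53 : allRange pointOk 20 1113 21 = true := by decide +kernel
theorem p0u53 : ∀ k, 0 ≤ k → k < 1134 → pointOk (k * 20) = true := between_extend pointOk 20 0 1113 21 (p0u52) p0r53

theorem p0r54 : allRange pointOk 20 1134 21 = true := by decide +kernel
theorem p0u54 : ∀ k, 0 ≤ k → k < 1155 → pointOk (k * 20) = true := between_extend pointOk 20 0 1134 21 (p0u53) p0r54

theorem p0r55 : allRange pointOk 20 1155 21 = true := by decide +kernel
theorem p0u55 : ∀ k, 0 ≤ k → k < 1176 → pointOk (k * 20) = true := between_extend pointOk 20 0 1155 21 (p0u54) p0r55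

theorem p0r56 : allRange pointOk 20 1176 21 = true := by decide +kernel
theorem p0u56 : ∀ k, 0 ≤ k → k < 1197 → pointOk (k * 20) = true := between_extend pointOk 20 0 1176 21 (p0u55) p0r56

theorem p0r57 : allRange pointOk 20 1197 21 = true := by decide +kernel
theorem p0u57 : ∀ k, 0 ≤ k → k < 1218 → pointOk (k * 20) = true := between_extend pointOk 20 0 1197 21 (p0u56) p0r57

theorem p0r58 : allRange pointOk 20 1218 21 = true := by decide +kernel
theorem p0u58 : ∀ k, 0 ≤ k → k < 1239 → pointOk (k * 20) = true := between_extend pointOk 20 0 1218 21 (p0u57) p0r58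

theorem p0r59 : allRange pointOk 20 1239 21 = true := by decide +kernel
theorem p0u59 : ∀ k, 0 ≤ k → k < 1260 → pointOk (k * 20) = true := between_extend pointOk 20 0 1239 21 (p0u58) p0r59

theorem p0r60 : allRange pointOk 20 1260 21 = true := by decide +kernel
theorem p0u60 : ∀ k, 0 ≤ k → k < 1281 → pointOk (k * 20) = true := between_extend pointOk 20 0 1260 21 (p0u59) p0r60

theorem p0r61 : allRange pointOk 20 1281 21 = true := by decide +kernel
theorem p0u61 : ∀ k, 0 ≤ k → k < 1302 → pointOk (k * 20) = true := between_extend pointOk 20 0 1281 21 (p0u60) p0r61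

theorem p0r62 : allRange pointOk 20 1302 21 = true := by decide +kernel
theorem p0u62 : ∀ k, 0 ≤ k → k < 1323 → pointOk (k * 20) = true := between_extend pointOk 20 0 1302 21 (p0u61) p0r62

theorem p0r63 : allRange pointOk 20 1323 21 = true := by decide +kernel
theorem p0u63 : ∀ k, 0 ≤ k → k < 1344 → pointOk (k * 20) = true := between_extend pointOk 20 0 1323 21 (p0u62) p0r63

theorem p0r64 : allRange pointOk 20 1344 21 = true := by decide +kernel
theorem p0u64 : ∀ k, 0 ≤ k → k < 1365 → pointOk (k * 20) = true := between_extend pointOk 20 0 1344 21 (p0u63) p0r64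

theorem p0r65 : allRange pointOk 20 1365 21 = true := by decide +kernel
theorem p0u65 : ∀ k, 0 ≤ k → k < 1386 → pointOk (k * 20) = true := between_extend pointOk 20 0 1365 21 (p0u64) p0r65

theorem p0r66 : allRange pointOk 20 1386 21 = true := by decide +kernel
theorem p0u66 : ∀ k, 0 ≤ k → k < 1407 → pointOk (k * 20) = true := between_extend pointOk 20 0 1386 21 (p0u65) p0r66

theorem p0r67 : allRange pointOk 20 1407 21 = true := by decide +kernel
theorem p0u67 : ∀ k, 0 ≤ k → k < 1428 → pointOk (k * 20) = true := between_extend pointOk 20 0 1407 21 (p0u66) p0r67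

theorem p0r68 : allRange pointOk 20 1428 21 = true := by decide +kernel
theorem p0u68 : ∀ k, 0 ≤ k → k < 1449 → pointOk (k * 20) = true := between_extend pointOk 20 0 1428 21 (p0u67) p0r68

theorem p0r69 : allRange pointOk 20 1449 21 = true := by decide +kernel
theorem p0u69 : ∀ k, 0 ≤ k → k < 1470 → pointOk (k * 20) = true := between_extend pointOk 20 0 1449 21 (p0u68) p0r69

theorem p0r70 : allRange pointOk 20 1470 21 = true := by decide +kernel
theorem p0u70 : ∀ k, 0 ≤ k → k < 1491 → pointOk (k * 20) = true := between_extend pointOk 20 0 1470 21 (p0u69) p0r70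

theorem p0r71 : allRange pointOk 20 1491 21 = true := by decide +kernel
theorem p0u71 : ∀ k, 0 ≤ k → k < 1512 → pointOk (k * 20) = true := between_extend pointOk 20 0 1491 21 (p0u70) p0r71

theorem p0r72 : allRange pointOk 20 1512 21 = true := by decide +kernel
theorem p0u72 : ∀ k, 0 ≤ k → k < 1533 → pointOk (k * 20) = true := between_extend pointOk 20 0 1512 21 (p0u71) p0r72

theorem p0r73 : allRange pointOk 20 1533 21 = true := by decide +kernel
theorem p0u73 : ∀ k, 0 ≤ k → k < 1554 → pointOk (k * 20) = true := between_extend pointOk 20 0 1533 21 (p0u72) p0r73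

theorem p0r74 : allRange pointOk 20 1554 21 = true := by decide +kernel
theorem p0u74 : ∀ k, 0 ≤ k → k < 1575 → pointOk (k * 20) = true := between_extend pointOk 20 0 1554 21 (p0u73) p0r74

theorem p0r75 : allRange pointOk 20 1575 21 = true := by decide +kernel
theorem p0u75 : ∀ k, 0 ≤ k → k < 1596 → pointOk (k * 20) = true := between_extend pointOk 20 0 1575 21 (p0u74) p0r75

theorem p0r76 : allRange pointOk 20 1596 21 = true := by decide +kernel
theorem p0u76 : ∀ k, 0 ≤ k → k < 1617 → pointOk (k * 20) = true := between_extend pointOk 20 0 1596 21 (p0u75) p0r76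

theorem p0r77 : allRange pointOk 20 1617 21 = true := by decide +kernel
theorem p0u77 : ∀ k, 0 ≤ k → k < 1638 → pointOk (k * 20) = true := between_extend pointOk 20 0 1617 21 (p0u76) p0r77

theorem p0r78 : allRange pointOk 20 1638 21 = true := by decide +kernel
theorem p0u78 : ∀ k, 0 ≤ k → k < 1659 → pointOk (k * 20) = true := between_extend pointOk 20 0 1638 21 (p0u77) p0r78

theorem p0r79 : allRange pointOk 20 1659 21 = true := by decide +kernel
theorem p0u79 : ∀ k, 0 ≤ k → k < 1680 → pointOk (k * 20) = true := between_extend pointOk 20 0 1659 21 (p0u78) p0r79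

theorem p0r80 : allRange pointOk 20 1680 21 = true := by decide +kernel
theorem p0u80 : ∀ k, 0 ≤ k → k < 1701 → pointOk (k * 20) = true := between_extend pointOk 20 0 1680 21 (p0u79) p0r80

theorem p0r81 : allRange pointOk 20 1701 21 = true := by decide +kernel
theorem p0u81 : ∀ k, 0 ≤ k → k < 1722 → pointOk (k * 20) = true := between_extend pointOk 20 0 1701 21 (p0u80) p0r81

theorem p0r82 : allRange pointOk 20 1722 21 = true := by decide +kernel
theorem p0u82 : ∀ k, 0 ≤ k → k < 1743 → pointOk (k * 20) = true := between_extend pointOk 20 0 1722 21 (p0u81) p0r82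

theorem p0r83 : allRange pointOk 20 1743 21 = true := by decide +kernel
theorem p0u83 : ∀ k, 0 ≤ k → k < 1764 → pointOk (k * 20) = true := between_extend pointOk 20 0 1743 21 (p0u82) p0r83

theorem p0r84 : allRange pointOk 20 1764 21 = true := by decide +kernel
theorem p0u84 : ∀ k, 0 ≤ k → k < 1785 → pointOk (k * 20) = true := between_extend pointOk 20 0 1764 21 (p0u83) p0r84

theorem p0r85 : allRange pointOk 20 1785 21 = true := by decide +kernel
theorem p0u85 : ∀ k, 0 ≤ k → k < 1806 → pointOk (k * 20) = true := between_extend pointOk 20 0 1785 21 (p0u84) p0r85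

theorem p0r86 : allRange pointOk 20 1806 21 = true := by decide +kernel
theorem p0u86 : ∀ k, 0 ≤ k → k < 1827 → pointOk (k * 20) = true := between_extend pointOk 20 0 1806 21 (p0u85) p0r86

theorem p0r87 : allRange pointOk 20 1827 21 = true := by decide +kernel
theorem p0u87 : ∀ k, 0 ≤ k → k < 1848 → pointOk (k * 20) = true := between_extend pointOk 20 0 1827 21 (p0u86) p0r87

theorem p0r88 : allRange pointOk 20 1848 21 = true := by decide +kernel
theorem p0u88 : ∀ k, 0 ≤ k → k < 1869 → pointOk (k * 20) = true := between_extend pointOk 20 0 1848 21 (p0u87) p0r88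

theorem p0r89 : allRange pointOk 20 1869 21 = true := by decide +kernel
theorem p0u89 : ∀ k, 0 ≤ k → k < 1890 → pointOk (k * 20) = true := between_extend pointOk 20 0 1869 21 (p0u88) p0r89

theorem p0r90 : allRange pointOk 20 1890 21 = true := by decide +kernel
theorem p0u90 : ∀ k, 0 ≤ k → k < 1911 → pointOk (k * 20) = true := between_extend pointOk 20 0 1890 21 (p0u89) p0r90

theorem p0r91 : allRange pointOk 20 1911 21 = true := by decide +kernel
theorem p0u91 : ∀ k, 0 ≤ k → k < 1932 → pointOk (k * 20) = true := between_extend pointOk 20 0 1911 21 (p0u90) p0r91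

theorem p0r92 : allRange pointOk 20 1932 21 = true := by decide +kernel
theorem p0u92 : ∀ k, 0 ≤ k → k < 1953 → pointOk (k * 20) = true := between_extend pointOk 20 0 1932 21 (p0u91) p0r92

theorem p0r93 : allRange pointOk 20 1953 21 = true := by decide +kernel
theorem p0u93 : ∀ k, 0 ≤ k → k < 1974 → pointOk (k * 20) = true := between_extend pointOk 20 0 1953 21 (p0u92) p0r93

theorem p0r94 : allRange pointOk 20 1974 21 = true := by decide +kernel
theorem p0u94 : ∀ k, 0 ≤ k → k < 1995 → pointOk (k * 20) = true := between_extend pointOk 20 0 1974 21 (p0u93) p0r94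

theorem p0r95 : allRange pointOk 20 1995 21 = true := by decide +kernel
theorem p0u95 : ∀ k, 0 ≤ k → k < 2016 → pointOk (k * 20) = true := between_extend pointOk 20 0 1995 21 (p0u94) p0r95

theorem p0r96 : allRange pointOk 20 2016 21 = true := by decide +kernel
theorem p0u96 : ∀ k, 0 ≤ k → k < 2037 → pointOk (k * 20) = true := between_extend pointOk 20 0 2016 21 (p0u95) p0r96

theorem p0r97 : allRange pointOk 20 2037 21 = true := by decide +kernel
theorem p0u97 : ∀ k, 0 ≤ k → k < 2058 → pointOk (k * 20) = true := between_extend pointOk 20 0 2037 21 (p0u96) p0r97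

theorem p0r98 : allRange pointOk 20 2058 21 = true := by decide +kernel
theorem p0u98 : ∀ k, 0 ≤ k → k < 2079 → pointOk (k * 20) = true := between_extend pointOk 20 0 2058 21 (p0u97) p0r98

theorem p0r99 : allRange pointOk 20 2079 21 = true := by decide +kernel
theorem p0u99 : ∀ k, 0 ≤ k → k < 2100 → pointOk (k * 20) = true := between_extend pointOk 20 0 2079 21 (p0u98) p0r99

theorem p0r100 : allRange pointOk 20 2100 21 = true := by decide +kernel
theorem p0u100 : ∀ k, 0 ≤ k → k < 2121 → pointOk (k * 20) = true := between_extend pointOk 20 0 2100 21 (p0u99) p0r100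

theorem p0r101 : allRange pointOk 20 2121 21 = true := by decide +kernel
theorem p0u101 : ∀ k, 0 ≤ k → k < 2142 → pointOk (k * 20) = true := between_extend pointOk 20 0 2121 21 (p0u100) p0r101

theorem p0r102 : allRange pointOk 20 2142 21 = true := by decide +kernel
theorem p0u102 : ∀ k, 0 ≤ k → k < 2163 → pointOk (k * 20) = true := between_extend pointOk 20 0 2142 21 (p0u101) p0r102

theorem p0r103 : allRange pointOk 20 2163 21 = true := by decide +kernel
theorem p0u103 : ∀ k, 0 ≤ k → k < 2184 → pointOk (k * 20) = true := between_extend pointOk 20 0 2163 21 (p0u102) p0r103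

theorem p0r104 : allRange pointOk 20 2184 21 = true := by decide +kernel
theorem p0u104 : ∀ k, 0 ≤ k → k < 2205 → pointOk (k * 20) = true := between_extend pointOk 20 0 2184 21 (p0u103) p0r104

theorem p0r105 : allRange pointOk 20 2205 21 = true := by decide +kernel
theorem p0u105 : ∀ k, 0 ≤ k → k < 2226 → pointOk (k * 20) = true := between_extend pointOk 20 0 2205 21 (p0u104) p0r105

theorem p0r106 : allRange pointOk 20 2226 21 = true := by decide +kernel
theorem p0u106 : ∀ k, 0 ≤ k → k < 2247 → pointOk (k * 20) = true := between_extend pointOk 20 0 2226 21 (p0u105) p0r106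

theorem p0r107 : allRange pointOk 20 2247 21 = true := by decide +kernel
theorem p0u107 : ∀ k, 0 ≤ k → k < 2268 → pointOk (k * 20) = true := between_extend pointOk 20 0 2247 21 (p0u106) p0r107

theorem p0r108 : allRange pointOk 20 2268 21 = true := by decide +kernel
theorem p0u108 : ∀ k, 0 ≤ k → k < 2289 → pointOk (k * 20) = true := between_extend pointOk 20 0 2268 21 (p0u107) p0r108

theorem p0r109 : allRange pointOk 20 2289 21 = true := by decide +kernel
theorem p0u109 : ∀ k, 0 ≤ k → k < 2310 → pointOk (k * 20) = true := between_extend pointOk 20 0 2289 21 (p0u108) p0r109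

theorem p0r110 : allRange pointOk 20 2310 21 = true := by decide +kernel
theorem p0u110 : ∀ k, 0 ≤ k → k < 2331 → pointOk (k * 20) = true := between_extend pointOk 20 0 2310 21 (p0u109) p0r110

theorem p0r111 : allRange pointOk 20 2331 21 = true := by decide +kernel
theorem p0u111 : ∀ k, 0 ≤ k → k < 2352 → pointOk (k * 20) = true := between_extend pointOk 20 0 2331 21 (p0u110) p0r111

theorem p0r112 : allRange pointOk 20 2352 21 = true := by decide +kernel
theorem p0u112 : ∀ k, 0 ≤ k → k < 2373 → pointOk (k * 20) = true := between_extend pointOk 20 0 2352 21 (p0u111) p0r112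

theorem p0r113 : allRange pointOk 20 2373 21 = true := by decide +kernel
theorem p0u113 : ∀ k, 0 ≤ k → k < 2394 → pointOk (k * 20) = true := between_extend pointOk 20 0 2373 21 (p0u112) p0r113

theorem p0r114 : allRange pointOk 20 2394 21 = true := by decide +kernel
theorem p0u114 : ∀ k, 0 ≤ k → k < 2415 → pointOk (k * 20) = true := between_extend pointOk 20 0 2394 21 (p0u113) p0r114

theorem p0r115 : allRange pointOk 20 2415 21 = true := by decide +kernel
theorem p0u115 : ∀ k, 0 ≤ k → k < 2436 → pointOk (k * 20) = true := between_extend pointOk 20 0 2415 21 (p0u114) p0r115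

theorem p0r116 : allRange pointOk 20 2436 21 = true := by decide +kernel
theorem p0u116 : ∀ k, 0 ≤ k → k < 2457 → pointOk (k * 20) = true := between_extend pointOk 20 0 2436 21 (p0u115) p0r116

theorem p0r117 : allRange pointOk 20 2457 21 = true := by decide +kernel
theorem p0u117 : ∀ k, 0 ≤ k → k < 2478 → pointOk (k * 20) = true := between_extend pointOk 20 0 2457 21 (p0u116) p0r117

theorem p0r118 : allRange pointOk 20 2478 21 = true := by decide +kernel
theorem p0u118 : ∀ k, 0 ≤ k → k < 2499 → pointOk (k * 20) = true := between_extend pointOk 20 0 2478 21 (p0u117) p0r118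

theorem p0r119 : allRange pointOk 20 2499 21 = true := by decide +kernel
theorem p0u119 : ∀ k, 0 ≤ k → k < 2520 → pointOk (k * 20) = true := between_extend pointOk 20 0 2499 21 (p0u118) p0r119

theorem p0r120 : allRange pointOk 20 2520 21 = true := by decide +kernel
theorem p0u120 : ∀ k, 0 ≤ k → k < 2541 → pointOk (k * 20) = true := between_extend pointOk 20 0 2520 21 (p0u119) p0r120

theorem p0r121 : allRange pointOk 20 2541 21 = true := by decide +kernel
theorem p0u121 : ∀ k, 0 ≤ k → k < 2562 → pointOk (k * 20) = true := between_extend pointOk 20 0 2541 21 (p0u120) p0r121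

theorem p0r122 : allRange pointOk 20 2562 21 = true := by decide +kernel
theorem p0u122 : ∀ k, 0 ≤ k → k < 2583 → pointOk (k * 20) = true := between_extend pointOk 20 0 2562 21 (p0u121) p0r122

theorem p0r123 : allRange pointOk 20 2583 21 = true := by decide +kernel
theorem p0u123 : ∀ k, 0 ≤ k → k < 2604 → pointOk (k * 20) = true := between_extend pointOk 20 0 2583 21 (p0u122) p0r123

theorem p0r124 : allRange pointOk 20 2604 21 = true := by decide +kernel
theorem p0u124 : ∀ k, 0 ≤ k → k < 2625 → pointOk (k * 20) = true := between_extend pointOk 20 0 2604 21 (p0u123) p0r124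

theorem p0r125 : allRange pointOk 20 2625 21 = true := by decide +kernel
theorem p0u125 : ∀ k, 0 ≤ k → k < 2646 → pointOk (k * 20) = true := between_extend pointOk 20 0 2625 21 (p0u124) p0r125

theorem p0r126 : allRange pointOk 20 2646 21 = true := by decide +kernel
theorem p0u126 : ∀ k, 0 ≤ k → k < 2667 → pointOk (k * 20) = true := between_extend pointOk 20 0 2646 21 (p0u125) p0r126

theorem p0r127 : allRange pointOk 20 2667 21 = true := by decide +kernel
theorem p0u127 : ∀ k, 0 ≤ k → k < 2688 → pointOk (k * 20) = true := between_extend pointOk 20 0 2667 21 (p0u126) p0r127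

theorem p0r128 : allRange pointOk 20 2688 21 = true := by decide +kernel
theorem p0u128 : ∀ k, 0 ≤ k → k < 2709 → pointOk (k * 20) = true := between_extend pointOk 20 0 2688 21 (p0u127) p0r128

theorem p0r129 : allRange pointOk 20 2709 21 = true := by decide +kernel
theorem p0u129 : ∀ k, 0 ≤ k → k < 2730 → pointOk (k * 20) = true := between_extend pointOk 20 0 2709 21 (p0u128) p0r129

theorem p0r130 : allRange pointOk 20 2730 21 = true := by decide +kernel
theorem p0u130 : ∀ k, 0 ≤ k → k < 2751 → pointOk (k * 20) = true := between_extend pointOk 20 0 2730 21 (p0u129) p0r130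

theorem p0r131 : allRange pointOk 20 2751 21 = true := by decide +kernel
theorem p0u131 : ∀ k, 0 ≤ k → k < 2772 → pointOk (k * 20) = true := between_extend pointOk 20 0 2751 21 (p0u130) p0r131

theorem p0r132 : allRange pointOk 20 2772 21 = true := by decide +kernel
theorem p0u132 : ∀ k, 0 ≤ k → k < 2793 → pointOk (k * 20) = true := between_extend pointOk 20 0 2772 21 (p0u131) p0r132

theorem p0r133 : allRange pointOk 20 2793 21 = true := by decide +kernel
theorem p0u133 : ∀ k, 0 ≤ k → k < 2814 → pointOk (k * 20) = true := between_extend pointOk 20 0 2793 21 (p0u132) p0r133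

theorem p0r134 : allRange pointOk 20 2814 21 = true := by decide +kernel
theorem p0u134 : ∀ k, 0 ≤ k → k < 2835 → pointOk (k * 20) = true := between_extend pointOk 20 0 2814 21 (p0u133) p0r134

theorem p0r135 : allRange pointOk 20 2835 21 = true := by decide +kernel
theorem p0u135 : ∀ k, 0 ≤ k → k < 2856 → pointOk (k * 20) = true := between_extend pointOk 20 0 2835 21 (p0u134) p0r135

theorem p0r136 : allRange pointOk 20 2856 21 = true := by decide +kernel
theorem p0u136 : ∀ k, 0 ≤ k → k < 2877 → pointOk (k * 20) = true := between_extend pointOk 20 0 2856 21 (p0u135) p0r136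

theorem p0r137 : allRange pointOk 20 2877 21 = true := by decide +kernel
theorem p0u137 : ∀ k, 0 ≤ k → k < 2898 → pointOk (k * 20) = true := between_extend pointOk 20 0 2877 21 (p0u136) p0r137

theorem p0r138 : allRange pointOk 20 2898 21 = true := by decide +kernel
theorem p0u138 : ∀ k, 0 ≤ k → k < 2919 → pointOk (k * 20) = true := between_extend pointOk 20 0 2898 21 (p0u137) p0r138

theorem p0r139 : allRange pointOk 20 2919 21 = true := by decide +kernel
theorem p0u139 : ∀ k, 0 ≤ k → k < 2940 → pointOk (k * 20) = true := between_extend pointOk 20 0 2919 21 (p0u138) p0r139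

theorem p0r140 : allRange pointOk 20 2940 21 = true := by decide +kernel
theorem p0u140 : ∀ k, 0 ≤ k → k < 2961 → pointOk (k * 20) = true := between_extend pointOk 20 0 2940 21 (p0u139) p0r140

theorem p0r141 : allRange pointOk 20 2961 21 = true := by decide +kernel
theorem p0u141 : ∀ k, 0 ≤ k → k < 2982 → pointOk (k * 20) = true := between_extend pointOk 20 0 2961 21 (p0u140) p0r141

theorem p0r142 : allRange pointOk 20 2982 21 = true := by decide +kernel
theorem p0u142 : ∀ k, 0 ≤ k → k < 3003 → pointOk (k * 20) = true := between_extend pointOk 20 0 2982 21 (p0u141) p0r142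

theorem p0r143 : allRange pointOk 20 3003 21 = true := by decide +kernel
theorem p0u143 : ∀ k, 0 ≤ k → k < 3024 → pointOk (k * 20) = true := between_extend pointOk 20 0 3003 21 (p0u142) p0r143

theorem p0r144 : allRange pointOk 20 3024 21 = true := by decide +kernel
theorem p0u144 : ∀ k, 0 ≤ k → k < 3045 → pointOk (k * 20) = true := between_extend pointOk 20 0 3024 21 (p0u143) p0r144

theorem p0r145 : allRange pointOk 20 3045 21 = true := by decide +kernel
theorem p0u145 : ∀ k, 0 ≤ k → k < 3066 → pointOk (k * 20) = true := between_extend pointOk 20 0 3045 21 (p0u144) p0r145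

theorem p0r146 : allRange pointOk 20 3066 21 = true := by decide +kernel
theorem p0u146 : ∀ k, 0 ≤ k → k < 3087 → pointOk (k * 20) = true := between_extend pointOk 20 0 3066 21 (p0u145) p0r146

theorem p0r147 : allRange pointOk 20 3087 21 = true := by decide +kernel
theorem p0u147 : ∀ k, 0 ≤ k → k < 3108 → pointOk (k * 20) = true := between_extend pointOk 20 0 3087 21 (p0u146) p0r147

theorem p0r148 : allRange pointOk 20 3108 21 = true := by decide +kernel
theorem p0u148 : ∀ k, 0 ≤ k → k < 3129 → pointOk (k * 20) = true := between_extend pointOk 20 0 3108 21 (p0u147) p0r148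

theorem p0r149 : allRange pointOk 20 3129 21 = true := by decide +kernel
theorem p0u149 : ∀ k, 0 ≤ k → k < 3150 → pointOk (k * 20) = true := between_extend pointOk 20 0 3129 21 (p0u148) p0r149

theorem p0r150 : allRange pointOk 20 3150 21 = true := by decide +kernel
theorem p0u150 : ∀ k, 0 ≤ k → k < 3171 → pointOk (k * 20) = true := between_extend pointOk 20 0 3150 21 (p0u149) p0r150

theorem p0r151 : allRange pointOk 20 3171 21 = true := by decide +kernel
theorem p0u151 : ∀ k, 0 ≤ k → k < 3192 → pointOk (k * 20) = true := between_extend pointOk 20 0 3171 21 (p0u150) p0r151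

theorem p0r152 : allRange pointOk 20 3192 21 = true := by decide +kernel
theorem p0u152 : ∀ k, 0 ≤ k → k < 3213 → pointOk (k * 20) = true := between_extend pointOk 20 0 3192 21 (p0u151) p0r152

theorem p0r153 : allRange pointOk 20 3213 21 = true := by decide +kernel
theorem p0u153 : ∀ k, 0 ≤ k → k < 3234 → pointOk (k * 20) = true := between_extend pointOk 20 0 3213 21 (p0u152) p0r153

theorem p0r154 : allRange pointOk 20 3234 21 = true := by decide +kernel
theorem p0u154 : ∀ k, 0 ≤ k → k < 3255 → pointOk (k * 20) = true := between_extend pointOk 20 0 3234 21 (p0u153) p0r154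

theorem p0r155 : allRange pointOk 20 3255 21 = true := by decide +kernel
theorem p0u155 : ∀ k, 0 ≤ k → k < 3276 → pointOk (k * 20) = true := between_extend pointOk 20 0 3255 21 (p0u154) p0r155

theorem p0r156 : allRange pointOk 20 3276 21 = true := by decide +kernel
theorem p0u156 : ∀ k, 0 ≤ k → k < 3297 → pointOk (k * 20) = true := between_extend pointOk 20 0 3276 21 (p0u155) p0r156

theorem p0r157 : allRange pointOk 20 3297 21 = true := by decide +kernel
theorem p0u157 : ∀ k, 0 ≤ k → k < 3318 → pointOk (k * 20) = true := between_extend pointOk 20 0 3297 21 (p0u156) p0r157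

theorem p0r158 : allRange pointOk 20 3318 21 = true := by decide +kernel
theorem p0u158 : ∀ k, 0 ≤ k → k < 3339 → pointOk (k * 20) = true := between_extend pointOk 20 0 3318 21 (p0u157) p0r158

theorem p0r159 : allRange pointOk 20 3339 21 = true := by decide +kernel
theorem p0u159 : ∀ k, 0 ≤ k → k < 3360 → pointOk (k * 20) = true := between_extend pointOk 20 0 3339 21 (p0u158) p0r159

theorem p0r160 : allRange pointOk 20 3360 21 = true := by decide +kernel
theorem p0u160 : ∀ k, 0 ≤ k → k < 3381 → pointOk (k * 20) = true := between_extend pointOk 20 0 3360 21 (p0u159) p0r160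

theorem p0r161 : allRange pointOk 20 3381 21 = true := by decide +kernel
theorem p0u161 : ∀ k, 0 ≤ k → k < 3402 → pointOk (k * 20) = true := between_extend pointOk 20 0 3381 21 (p0u160) p0r161

theorem p0r162 : allRange pointOk 20 3402 21 = true := by decide +kernel
theorem p0u162 : ∀ k, 0 ≤ k → k < 3423 → pointOk (k * 20) = true := between_extend pointOk 20 0 3402 21 (p0u161) p0r162

theorem p0r163 : allRange pointOk 20 3423 21 = true := by decide +kernel
theorem p0u163 : ∀ k, 0 ≤ k → k < 3444 → pointOk (k * 20) = true := between_extend pointOk 20 0 3423 21 (p0u162) p0r163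

theorem p0r164 : allRange pointOk 20 3444 21 = true := by decide +kernel
theorem p0u164 : ∀ k, 0 ≤ k → k < 3465 → pointOk (k * 20) = true := between_extend pointOk 20 0 3444 21 (p0u163) p0r164

theorem p0r165 : allRange pointOk 20 3465 21 = true := by decide +kernel
theorem p0u165 : ∀ k, 0 ≤ k → k < 3486 → pointOk (k * 20) = true := between_extend pointOk 20 0 3465 21 (p0u164) p0r165

theorem p0r166 : allRange pointOk 20 3486 21 = true := by decide +kernel
theorem p0u166 : ∀ k, 0 ≤ k → k < 3507 → pointOk (k * 20) = true := between_extend pointOk 20 0 3486 21 (p0u165) p0r166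

theorem p0r167 : allRange pointOk 20 3507 21 = true := by decide +kernel
theorem p0u167 : ∀ k, 0 ≤ k → k < 3528 → pointOk (k * 20) = true := between_extend pointOk 20 0 3507 21 (p0u166) p0r167

theorem p0r168 : allRange pointOk 20 3528 21 = true := by decide +kernel
theorem p0u168 : ∀ k, 0 ≤ k → k < 3549 → pointOk (k * 20) = true := between_extend pointOk 20 0 3528 21 (p0u167) p0r168

theorem p0r169 : allRange pointOk 20 3549 21 = true := by decide +kernel
theorem p0u169 : ∀ k, 0 ≤ k → k < 3570 → pointOk (k * 20) = true := between_extend pointOk 20 0 3549 21 (p0u168) p0r169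

theorem p0r170 : allRange pointOk 20 3570 21 = true := by decide +kernel
theorem p0u170 : ∀ k, 0 ≤ k → k < 3591 → pointOk (k * 20) = true := between_extend pointOk 20 0 3570 21 (p0u169) p0r170

theorem p0r171 : allRange pointOk 20 3591 21 = true := by decide +kernel
theorem p0u171 : ∀ k, 0 ≤ k → k < 3612 → pointOk (k * 20) = true := between_extend pointOk 20 0 3591 21 (p0u170) p0r171

theorem p0r172 : allRange pointOk 20 3612 21 = true := by decide +kernel
theorem p0u172 : ∀ k, 0 ≤ k → k < 3633 → pointOk (k * 20) = true := between_extend pointOk 20 0 3612 21 (p0u171) p0r172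

theorem p0r173 : allRange pointOk 20 3633 21 = true := by decide +kernel
theorem p0u173 : ∀ k, 0 ≤ k → k < 3654 → pointOk (k * 20) = true := between_extend pointOk 20 0 3633 21 (p0u172) p0r173

theorem p0r174 : allRange pointOk 20 3654 21 = true := by decide +kernel
theorem p0u174 : ∀ k, 0 ≤ k → k < 3675 → pointOk (k * 20) = true := between_extend pointOk 20 0 3654 21 (p0u173) p0r174

theorem p0r175 : allRange pointOk 20 3675 21 = true := by decide +kernel
theorem p0u175 : ∀ k, 0 ≤ k → k < 3696 → pointOk (k * 20) = true := between_extend pointOk 20 0 3675 21 (p0u174) p0r175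

theorem p0r176 : allRange pointOk 20 3696 21 = true := by decide +kernel
theorem p0u176 : ∀ k, 0 ≤ k → k < 3717 → pointOk (k * 20) = true := between_extend pointOk 20 0 3696 21 (p0u175) p0r176

theorem p0r177 : allRange pointOk 20 3717 21 = true := by decide +kernel
theorem p0u177 : ∀ k, 0 ≤ k → k < 3738 → pointOk (k * 20) = true := between_extend pointOk 20 0 3717 21 (p0u176) p0r177

theorem p0r178 : allRange pointOk 20 3738 21 = true := by decide +kernel
theorem p0u178 : ∀ k, 0 ≤ k → k < 3759 → pointOk (k * 20) = true := between_extend pointOk 20 0 3738 21 (p0u177) p0r178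

theorem p0r179 : allRange pointOk 20 3759 21 = true := by decide +kernel
theorem p0u179 : ∀ k, 0 ≤ k → k < 3780 → pointOk (k * 20) = true := between_extend pointOk 20 0 3759 21 (p0u178) p0r179

theorem p0r180 : allRange pointOk 20 3780 21 = true := by decide +kernel
theorem p0u180 : ∀ k, 0 ≤ k → k < 3801 → pointOk (k * 20) = true := between_extend pointOk 20 0 3780 21 (p0u179) p0r180

theorem p0r181 : allRange pointOk 20 3801 21 = true := by decide +kernel
theorem p0u181 : ∀ k, 0 ≤ k → k < 3822 → pointOk (k * 20) = true := between_extend pointOk 20 0 3801 21 (p0u180) p0r181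

theorem p0r182 : allRange pointOk 20 3822 21 = true := by decide +kernel
theorem p0u182 : ∀ k, 0 ≤ k → k < 3843 → pointOk (k * 20) = true := between_extend pointOk 20 0 3822 21 (p0u181) p0r182

theorem p0r183 : allRange pointOk 20 3843 21 = true := by decide +kernel
theorem p0u183 : ∀ k, 0 ≤ k → k < 3864 → pointOk (k * 20) = true := between_extend pointOk 20 0 3843 21 (p0u182) p0r183

theorem p0r184 : allRange pointOk 20 3864 21 = true := by decide +kernel
theorem p0u184 : ∀ k, 0 ≤ k → k < 3885 → pointOk (k * 20) = true := between_extend pointOk 20 0 3864 21 (p0u183) p0r184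

theorem p0r185 : allRange pointOk 20 3885 21 = true := by decide +kernel
theorem p0u185 : ∀ k, 0 ≤ k → k < 3906 → pointOk (k * 20) = true := between_extend pointOk 20 0 3885 21 (p0u184) p0r185

theorem p0r186 : allRange pointOk 20 3906 21 = true := by decide +kernel
theorem p0u186 : ∀ k, 0 ≤ k → k < 3927 → pointOk (k * 20) = true := between_extend pointOk 20 0 3906 21 (p0u185) p0r186

theorem p0r187 : allRange pointOk 20 3927 21 = true := by decide +kernel
theorem p0u187 : ∀ k, 0 ≤ k → k < 3948 → pointOk (k * 20) = true := between_extend pointOk 20 0 3927 21 (p0u186) p0r187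

theorem p0r188 : allRange pointOk 20 3948 11 = true := by decide +kernel
theorem p0u188 : ∀ k, 0 ≤ k → k < 3959 → pointOk (k * 20) = true := between_extend pointOk 20 0 3948 11 (p0u187) p0r188

theorem p0 : ∀ k, 0 ≤ k → k < 3959 → pointOk (k * 20) = true := p0u188

end Cfsg.Agent.Lib.Helper28_S1689
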