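import Cfsg.Agent.Lib.Helper28_S1689UDef

set_option autoImplicit false
set_option linter.constructorNameAsVariable false
set_option Elab.async false

namespace Cfsg.Agent.Lib.Helper28_S1689.U

open Cfsg.Agent.Lib.Helper28_CosetPerm

theorem f1r0 : allRange blockOk 1 103 68 = true := by decide +kernel
theorem f1u0 : ∀ k, 103 ≤ k → k < 171 → blockOk (k * 1) = true := between_extend blockOk 1 103 103 68 (between_start blockOk 1 103) f1r0

theorem f1r1 : allRange blockOk 1 171 45 = true := by decide +kernel
theorem f1u1 : ∀ k, 103 ≤ k → k < 216 → blockOk (k * 1) = true := between_extend blockOk 1 103 171 45 (f1u0) f1r1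

theorem f1 : ∀ k, 103 ≤ k → k < 216 → blockOk (k * 1) = true := f1u1

end Cfsg.Agent.Lib.Helper28_S1689.U
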