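import Cfsg.Agent.Lib.Helper28_S1689UDef

set_option autoImplicit false
set_option linter.constructorNameAsVariable false
set_option Elab.async false

namespace Cfsg.Agent.Lib.Helper28_S1689.U

open Cfsg.Agent.Lib.Helper28_CosetPerm

theorem f2r0 : allRange blockOk 1 216 69 = true := by decide +kernel
theorem f2u0 : ∀ k, 216 ≤ k → k < 285 → blockOk (k * 1) = true := between_extend blockOk 1 216 216 69 (between_start blockOk 1 216) f2r0

theorem f2r1 : allRange blockOk 1 285 45 = true := by decide +kernel
theorem f2u1 : ∀ k, 216 ≤ k → k < 330 → blockOk (k * 1) = true := between_extend blockOk 1 216 285 45 (f2u0) f2r1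

theorem f2 : ∀ k, 216 ≤ k → k < 330 → blockOk (k * 1) = true := f2u1

end Cfsg.Agent.Lib.Helper28_S1689.U
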