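import Cfsg.Agent.Lib.Helper28_S1689UDef

set_option autoImplicit false
set_option linter.constructorNameAsVariable false
set_option Elab.async false

namespace Cfsg.Agent.Lib.Helper28_S1689.U

open Cfsg.Agent.Lib.Helper28_CosetPerm

theorem f4r0 : allRange blockOk 1 433 59 = true := by decide +kernel
theorem f4u0 : ∀ k, 433 ≤ k → k < 492 → blockOk (k * 1) = true := between_extend blockOk 1 433 433 59 (between_start blockOk 1 433) f4r0

theorem f4r1 : allRange blockOk 1 492 39 = true := by decide +kernel
theorem f4u1 : ∀ k, 433 ≤ k → k < 531 → blockOk (k * 1) = true := between_extend blockOk 1 433 492 39 (f4u0) f4r1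

theorem f4 : ∀ k, 433 ≤ k → k < 531 → blockOk (k * 1) = true := f4u1

end Cfsg.Agent.Lib.Helper28_S1689.U
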