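import Cfsg.Agent.Lib.Helper28_S1689UDef

set_option autoImplicit false
set_option linter.constructorNameAsVariable false
set_option Elab.async false

namespace Cfsg.Agent.Lib.Helper28_S1689.U

open Cfsg.Agent.Lib.Helper28_CosetPerm

theorem f6r0 : allRange blockOk 1 628 59 = true := by decide +kernel
theorem f6u0 : ∀ k, 628 ≤ k → k < 687 → blockOk (k * 1) = true := between_extend blockOk 1 628 628 59 (between_start blockOk 1 628) f6r0

theorem f6r1 : allRange blockOk 1 687 39 = true := by decide +kernel
theorem f6u1 : ∀ k, 628 ≤ k → k < 726 → blockOk (k * 1) = true := between_extend blockOk 1 628 687 39 (f6u0) f6r1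

theorem f6 : ∀ k, 628 ≤ k → k < 726 → blockOk (k * 1) = true := f6u1

end Cfsg.Agent.Lib.Helper28_S1689.U
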