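import Cfsg.Agent.Lib.Helper28_S1689UDef

set_option autoImplicit false
set_option linter.constructorNameAsVariable false
set_option Elab.async false

namespace Cfsg.Agent.Lib.Helper28_S1689.U

open Cfsg.Agent.Lib.Helper28_CosetPerm

theorem r2r0 : allRange rowOk 1 25838 3336 = true := by decide +kernel
theorem r2u0 : ∀ k, 25838 ≤ k → k < 29174 → rowOk (k * 1) = true := between_extend rowOk 1 25838 25838 3336 (between_start rowOk 1 25838) r2r0

theorem r2r1 : allRange rowOk 1 29174 3336 = true := by decide +kernel
theorem r2u1 : ∀ k, 25838 ≤ k → k < 32510 → rowOk (k * 1) = true := between_extend rowOk 1 25838 29174 3336 (r2u0) r2r1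

theorem r2r2 : allRange rowOk 1 32510 1331 = true := by decide +kernel
theorem r2u2 : ∀ k, 25838 ≤ k → k < 33841 → rowOk (k * 1) = true := between_extend rowOk 1 25838 32510 1331 (r2u1) r2r2

theorem r2 : ∀ k, 25838 ≤ k → k < 33841 → rowOk (k * 1) = true := r2u2

end Cfsg.Agent.Lib.Helper28_S1689.U
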