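import Cfsg.Agent.Lib.Helper28_CosetUpCox
import Cfsg.Agent.Lib.Helper28_CosetPerm
import Cfsg.Agent.Lib.Helper28_S1689UTab0
import Cfsg.Agent.Lib.Helper28_S1689UTab1
import Cfsg.Agent.Lib.Helper28_S1689UTab2
import Cfsg.Prelude.Def_Spor_Fi23

set_option autoImplicit false
set_option linter.constructorNameAsVariable false
set_option Elab.async false

namespace Cfsg.Agent.Lib.Helper28_S1689.U

open Cfsg.Spor Cfsg.Agent.Lib.Helper28_CosetUp Cfsg.Agent.Lib.Helper28_CosetUpCox Cfsg.Agent.Lib.Helper28_S1689UTab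

def factBlk_n0_0 (i : ℕ) : ℕ := (@Bool.rec (fun _ => ℕ) (@Bool.rec (fun _ => ℕ) (@Bool.rec (fun _ => ℕ) (@Bool.rec (fun _ => ℕ) (@Bool.rec (fun _ => ℕ) fb0 fb1 (Nat.ble (nat_lit 1) i)) (@Bool.rec (fun _ => ℕ) fb2 fb3 (Nat.ble (nat_lit 3) i)) (Nat.ble (nat_lit 2) i)) (@Bool.rec (fun _ => ℕ) (@Bool.rec (fun _ => ℕ) fb4 fb5 (Nat.ble (nat_lit 5) i)) (@Bool.rec (fun _ => ℕ) fb6 fb7 (Nat.ble (nat_lit 7) i)) (Nat.ble (nat_lit 6) i)) (Nat.ble (nat_lit 4) i)) (@Bool.rec (fun _ => ℕ) (@Bool.rec (fun _ => ℕ) (@Bool.rec (fun _ => ℕ) fb8 fb9 (Nat.ble (nat_lit 9) i)) (@Bool.rec (fun _ => ℕ) fb10 fb11 (Nat.ble (nat_lit 11) i)) (Nat.ble (nat_lit 10) i)) (@Bool.rec (fun _ => ℕ) (@Bool.rec (fun _ => ℕ) fb12 fb13 (Nat.ble (nat_lit 13) i)) (@Bool.rec (fun _ => ℕ) fb14 fb15 (Nat.ble (nat_lit 15) i)) (Nat.ble (nat_lit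 14) i)) (Nat.ble (nat_lit 12) i)) (Nat.ble (nat_lit 8) i)) (@Bool.rec (fun _ => ℕ) (@Bool.rec (fun _ => ℕ) (@Bool.rec (fun _ => ℕ) (@Bool.rec (fun _ => ℕ) fb16 fb17 (Nat.ble (nat_lit 17) i)) (@Bool.rec (fun _ => ℕ) fb18 fb19 (Nat.ble (nat_lit 19) i)) (Nat.ble (nat_lit 18) i)) (@Bool.rec (fun _ => ℕ) (@Bool.rec (fun _ => ℕ) fb20 fb21 (Nat.ble (nat_lit 21) i)) (@Bool.rec (fun _ => ℕ) fb22 fb23 (Nat.ble (nat_lit 23) i)) (Nat.ble (nat_lit 22) i)) (Nat.ble (nat_lit 20) i)) (@Bool.rec (fun _ => ℕ) (@Bool.rec (fun _ => ℕ) (@Bool.rec (fun _ => ℕ) fb24 fb25 (Nat.ble (nat_lit 25) i)) (@Bool.rec (fun _ => ℕ) fb26 fb27 (Nat.ble (nat_lit 27) i)) (Nat.ble (nat_lit 26) i)) (@Bool.rec (fun _ => ℕ) (@Bool.rec (fun _ => ℕ) fb28 fb29 (Nat.ble (nat_lit 29) i)) (@Bool.rec (fun _ => ℕ) fb30 fb31 (Nat.ble (nat_lit 31) i))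 (Nat.ble (nat_lit 30) i)) (Nat.ble (nat_lit 28) i)) (Nat.ble (nat_lit 24) i)) (Nat.ble (nat_lit 16) i))

def factBlk_n0_1 (i : ℕ) : ℕ := (@Bool.rec (fun _ => ℕ) (@Bool.rec (fun _ => ℕ) (@Bool.rec (fun _ => ℕ) (@Bool.rec (fun _ => ℕ) (@Bool.rec (fun _ => ℕ) fb32 fb33 (Nat.ble (nat_lit 33) i)) (@Bool.rec (fun _ => ℕ) fb34 fb35 (Nat.ble (nat_lit 35) i)) (Nat.ble (nat_lit 34) i)) (@Bool.rec (fun _ => ℕ) (@Bool.rec (fun _ => ℕ) fb36 fb37 (Nat.ble (nat_lit 37) i)) (@Bool.rec (fun _ => ℕ) fb38 fb39 (Nat.ble (nat_lit 39) i)) (Nat.ble (nat_lit 38) i)) (Nat.ble (nat_lit 36) i)) (@Bool.rec (fun _ => ℕ) (@Bool.rec (fun _ => ℕ) (@Bool.rec (fun _ => ℕ) fb40 fb41 (Nat.ble (nat_lit 41) i)) (@Bool.rec (fun _ => ℕ) fb42 fb43 (Nat.ble (nat_lit 43) i)) (Nat.ble (nat_lit 42) i)) (@Bool.rec (fun _ => ℕ) (@Bool.rec (fun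 _ => ℕ) fb44 fb45 (Nat.ble (nat_lit 45) i)) (@Bool.rec (fun _ => ℕ) fb46 fb47 (Nat.ble (nat_lit 47) i)) (Nat.ble (nat_lit 46) i)) (Nat.ble (nat_lit 44) i)) (Nat.ble (nat_lit 40) i)) (@Bool.rec (fun _ => ℕ) (@Bool.rec (fun _ => ℕ) (@Bool.rec (fun _ => ℕ) (@Bool.rec (fun _ => ℕ) fb48 fb49 (Nat.ble (nat_lit 49) i)) (@Bool.rec (fun _ => ℕ) fb50 fb51 (Nat.ble (nat_lit 51) i)) (Nat.ble (nat_lit 50) i)) (@Bool.rec (fun _ => ℕ) (@Bool.rec (fun _ => ℕ) fb52 fb53 (Nat.ble (nat_lit 53) i)) (@Bool.rec (fun _ => ℕ) fb54 fb55 (Nat.ble (nat_lit 55) i)) (Nat.ble (nat_lit 54) i)) (Nat.ble (nat_lit 52) i)) (@Bool.rec (fun _ => ℕ) (@Bool.rec (fun _ => ℕ) (@Bool.rec (fun _ => ℕ) fb56 fb57 (Nat.ble (nat_lit 57) i)) (@Bool.rec (fun _ => ℕ) fb58 fb59 (Nat.ble (nat_lit 59) i)) (Nat.ble (nat_lit 58) i)) (@Bool.rec (fun _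 => ℕ) (@Bool.rec (fun _ => ℕ) fb60 fb61 (Nat.ble (nat_lit 61) i)) (@Bool.rec (fun _ => ℕ) fb62 fb63 (Nat.ble (nat_lit 63) i)) (Nat.ble (nat_lit 62) i)) (Nat.ble (nat_lit 60) i)) (Nat.ble (nat_lit 56) i)) (Nat.ble (nat_lit 48) i))

def factBlk_n0_2 (i : ℕ) : ℕ := (@Bool.rec (fun _ => ℕ) (@Bool.rec (fun _ => ℕ) (@Bool.rec (fun _ => ℕ) (@Bool.rec (fun _ => ℕ) (@Bool.rec (fun _ => ℕ) fb64 fb65 (Nat.ble (nat_lit 65) i)) (@Bool.rec (fun _ => ℕ) fb66 fb67 (Nat.ble (nat_lit 67) i)) (Nat.ble (nat_lit 66) i)) (@Bool.rec (fun _ => ℕ) (@Bool.rec (fun _ => ℕ) fb68 fb69 (Nat.ble (nat_lit 69) i)) (@Bool.rec (fun _ => ℕ) fb70 fb71 (Nat.ble (nat_lit 71) i)) (Nat.ble (nat_lit 70) i)) (Nat.ble (nat_lit 68) i)) (@Bool.rec (fun _ => ℕ) (@Bool.rec (fun _ => ℕ) (@Bool.rec (fun _ => ℕ) fb72 fb73 (Nat.ble (nat_lit 73) i))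 (@Bool.rec (fun _ => ℕ) fb74 fb75 (Nat.ble (nat_lit 75) i)) (Nat.ble (nat_lit 74) i)) (@Bool.rec (fun _ => ℕ) (@Bool.rec (fun _ => ℕ) fb76 fb77 (Nat.ble (nat_lit 77) i)) (@Bool.rec (fun _ => ℕ) fb78 fb79 (Nat.ble (nat_lit 79) i)) (Nat.ble (nat_lit 78) i)) (Nat.ble (nat_lit 76) i)) (Nat.ble (nat_lit 72) i)) (@Bool.rec (fun _ => ℕ) (@Bool.rec (fun _ => ℕ) (@Bool.rec (fun _ => ℕ) (@Bool.rec (fun _ => ℕ) fb80 fb81 (Nat.ble (nat_lit 81) i)) (@Bool.rec (fun _ => ℕ) fb82 fb83 (Nat.ble (nat_lit 83) i)) (Nat.ble (nat_lit 82) i)) (@Bool.rec (fun _ => ℕ) (@Bool.rec (fun _ => ℕ) fb84 fb85 (Nat.ble (nat_lit 85) i)) (@Bool.rec (fun _ => ℕ) fb86 fb87 (Nat.ble (nat_lit 87) i)) (Nat.ble (nat_lit 86) i)) (Nat.ble (nat_lit 84) i)) (@Bool.rec (fun _ => ℕ) (@Bool.rec (fun _ => ℕ) (@Bool.rec (fun _ => ℕ) fb88 fb89 (Nat.ble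 (nat_lit 89) i)) (@Bool.rec (fun _ => ℕ) fb90 fb91 (Nat.ble (nat_lit 91) i)) (Nat.ble (nat_lit 90) i)) (@Bool.rec (fun _ => ℕ) (@Bool.rec (fun _ => ℕ) fb92 fb93 (Nat.ble (nat_lit 93) i)) (@Bool.rec (fun _ => ℕ) fb94 fb95 (Nat.ble (nat_lit 95) i)) (Nat.ble (nat_lit 94) i)) (Nat.ble (nat_lit 92) i)) (Nat.ble (nat_lit 88) i)) (Nat.ble (nat_lit 80) i))

def factBlk_n0_3 (i : ℕ) : ℕ := (@Bool.rec (fun _ => ℕ) (@Bool.rec (fun _ => ℕ) (@Bool.rec (fun _ => ℕ) (@Bool.rec (fun _ => ℕ) (@Bool.rec (fun _ => ℕ) fb96 fb97 (Nat.ble (nat_lit 97) i)) (@Bool.rec (fun _ => ℕ) fb98 fb99 (Nat.ble (nat_lit 99) i)) (Nat.ble (nat_lit 98) i)) (@Bool.rec (fun _ => ℕ) (@Bool.rec (fun _ => ℕ) fb100 fb101 (Nat.ble (nat_lit 101) i)) (@Bool.rec (fun _ => ℕ) fb102 fb103 (Nat.ble (nat_lit 103) i)) (Nat.ble (nat_lit 102) i)) (Nat.ble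 (nat_lit 100) i)) (@Bool.rec (fun _ => ℕ) (@Bool.rec (fun _ => ℕ) (@Bool.rec (fun _ => ℕ) fb104 fb105 (Nat.ble (nat_lit 105) i)) (@Bool.rec (fun _ => ℕ) fb106 fb107 (Nat.ble (nat_lit 107) i)) (Nat.ble (nat_lit 106) i)) (@Bool.rec (fun _ => ℕ) (@Bool.rec (fun _ => ℕ) fb108 fb109 (Nat.ble (nat_lit 109) i)) (@Bool.rec (fun _ => ℕ) fb110 fb111 (Nat.ble (nat_lit 111) i)) (Nat.ble (nat_lit 110) i)) (Nat.ble (nat_lit 108) i)) (Nat.ble (nat_lit 104) i)) (@Bool.rec (fun _ => ℕ) (@Bool.rec (fun _ => ℕ) (@Bool.rec (fun _ => ℕ) (@Bool.rec (fun _ => ℕ) fb112 fb113 (Nat.ble (nat_lit 113) i)) (@Bool.rec (fun _ => ℕ) fb114 fb115 (Nat.ble (nat_lit 115) i)) (Nat.ble (nat_lit 114) i)) (@Bool.rec (fun _ => ℕ) (@Bool.rec (fun _ => ℕ) fb116 fb117 (Nat.ble (nat_lit 117) i)) (@Bool.rec (fun _ => ℕ) fb118 fb119 (Nat.ble (nat_lit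 119) i)) (Nat.ble (nat_lit 118) i)) (Nat.ble (nat_lit 116) i)) (@Bool.rec (fun _ => ℕ) (@Bool.rec (fun _ => ℕ) (@Bool.rec (fun _ => ℕ) fb120 fb121 (Nat.ble (nat_lit 121) i)) (@Bool.rec (fun _ => ℕ) fb122 fb123 (Nat.ble (nat_lit 123) i)) (Nat.ble (nat_lit 122) i)) (@Bool.rec (fun _ => ℕ) (@Bool.rec (fun _ => ℕ) fb124 fb125 (Nat.ble (nat_lit 125) i)) (@Bool.rec (fun _ => ℕ) fb126 fb127 (Nat.ble (nat_lit 127) i)) (Nat.ble (nat_lit 126) i)) (Nat.ble (nat_lit 124) i)) (Nat.ble (nat_lit 120) i)) (Nat.ble (nat_lit 112) i))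

def factBlk_n0_4 (i : ℕ) : ℕ := (@Bool.rec (fun _ => ℕ) (@Bool.rec (fun _ => ℕ) (@Bool.rec (fun _ => ℕ) (@Bool.rec (fun _ => ℕ) (@Bool.rec (fun _ => ℕ) fb128 fb129 (Nat.ble (nat_lit 129) i)) (@Bool.rec (fun _ => ℕ) fb130 fb131 (Nat.ble (nat_lit 131) i)) (Nat.ble (nat_lit 130) i)) (@Bool.rec (fun _ => ℕ) (@Bool.rec (fun _ => ℕ) fb132 fb133 (Nat.ble (nat_lit 133) i)) (@Bool.rec (fun _ => ℕ) fb134 fb135 (Nat.ble (nat_lit 135) i)) (Nat.ble (nat_lit 134) i)) (Nat.ble (nat_lit 132) i)) (@Bool.rec (fun _ => ℕ) (@Bool.rec (fun _ => ℕ) (@Bool.rec (fun _ => ℕ) fb136 fb137 (Nat.ble (nat_lit 137) i)) (@Bool.rec (fun _ => ℕ) fb138 fb139 (Nat.ble (nat_lit 139) i)) (Nat.ble (nat_lit 138) i)) (@Bool.rec (fun _ => ℕ) (@Bool.rec (fun _ => ℕ) fb140 fb141 (Nat.ble (nat_lit 141) i)) (@Bool.rec (fun _ => ℕ) fb142 fb143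 (Nat.ble (nat_lit 143) i)) (Nat.ble (nat_lit 142) i)) (Nat.ble (nat_lit 140) i)) (Nat.ble (nat_lit 136) i)) (@Bool.rec (fun _ => ℕ) (@Bool.rec (fun _ => ℕ) (@Bool.rec (fun _ => ℕ) (@Bool.rec (fun _ => ℕ) fb144 fb145 (Nat.ble (nat_lit 145) i)) (@Bool.rec (fun _ => ℕ) fb146 fb147 (Nat.ble (nat_lit 147) i)) (Nat.ble (nat_lit 146) i)) (@Bool.rec (fun _ => ℕ) (@Bool.rec (fun _ => ℕ) fb148 fb149 (Nat.ble (nat_lit 149) i)) (@Bool.rec (fun _ => ℕ) fb150 fb151 (Nat.ble (nat_lit 151) i)) (Nat.ble (nat_lit 150) i)) (Nat.ble (nat_lit 148) i)) (@Bool.rec (fun _ => ℕ) (@Bool.rec (fun _ => ℕ) (@Bool.rec (fun _ => ℕ) fb152 fb153 (Nat.ble (nat_lit 153) i)) (@Bool.rec (fun _ => ℕ) fb154 fb155 (Nat.ble (nat_lit 155) i)) (Nat.ble (nat_lit 154) i)) (@Bool.rec (fun _ => ℕ) (@Bool.rec (fun _ => ℕ) fb156 fb157 (Nat.ble (nat_lit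 157) i)) (@Bool.rec (fun _ => ℕ) fb158 fb159 (Nat.ble (nat_lit 159) i)) (Nat.ble (nat_lit 158) i)) (Nat.ble (nat_lit 156) i)) (Nat.ble (nat_lit 152) i)) (Nat.ble (nat_lit 144) i))

def factBlk_n0_5 (i : ℕ) : ℕ := (@Bool.rec (fun _ => ℕ) (@Bool.rec (fun _ => ℕ) (@Bool.rec (fun _ => ℕ) (@Bool.rec (fun _ => ℕ) (@Bool.rec (fun _ => ℕ) fb160 fb161 (Nat.ble (nat_lit 161) i)) (@Bool.rec (fun _ => ℕ) fb162 fb163 (Nat.ble (nat_lit 163) i)) (Nat.ble (nat_lit 162) i)) (@Bool.rec (fun _ => ℕ) (@Bool.rec (fun _ => ℕ) fb164 fb165 (Nat.ble (nat_lit 165) i)) (@Bool.rec (fun _ => ℕ) fb166 fb167 (Nat.ble (nat_lit 167) i)) (Nat.ble (nat_lit 166) i)) (Nat.ble (nat_lit 164) i)) (@Bool.rec (fun _ => ℕ) (@Bool.rec (fun _ => ℕ) (@Bool.rec (fun _ => ℕ) fb168 fb169 (Nat.ble (nat_lit 169) i)) (@Bool.rec (fun _ => ℕ) fb170 fb171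 (Nat.ble (nat_lit 171) i)) (Nat.ble (nat_lit 170) i)) (@Bool.rec (fun _ => ℕ) (@Bool.rec (fun _ => ℕ) fb172 fb173 (Nat.ble (nat_lit 173) i)) (@Bool.rec (fun _ => ℕ) fb174 fb175 (Nat.ble (nat_lit 175) i)) (Nat.ble (nat_lit 174) i)) (Nat.ble (nat_lit 172) i)) (Nat.ble (nat_lit 168) i)) (@Bool.rec (fun _ => ℕ) (@Bool.rec (fun _ => ℕ) (@Bool.rec (fun _ => ℕ) (@Bool.rec (fun _ => ℕ) fb176 fb177 (Nat.ble (nat_lit 177) i)) (@Bool.rec (fun _ => ℕ) fb178 fb179 (Nat.ble (nat_lit 179) i)) (Nat.ble (nat_lit 178) i)) (@Bool.rec (fun _ => ℕ) (@Bool.rec (fun _ => ℕ) fb180 fb181 (Nat.ble (nat_lit 181) i)) (@Bool.rec (fun _ => ℕ) fb182 fb183 (Nat.ble (nat_lit 183) i)) (Nat.ble (nat_lit 182) i)) (Nat.ble (nat_lit 180) i)) (@Bool.rec (fun _ => ℕ) (@Bool.rec (fun _ => ℕ) (@Bool.rec (fun _ => ℕ) fb184 fb185 (Nat.ble (nat_lit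 185) i)) (@Bool.rec (fun _ => ℕ) fb186 fb187 (Nat.ble (nat_lit 187) i)) (Nat.ble (nat_lit 186) i)) (@Bool.rec (fun _ => ℕ) (@Bool.rec (fun _ => ℕ) fb188 fb189 (Nat.ble (nat_lit 189) i)) (@Bool.rec (fun _ => ℕ) fb190 fb191 (Nat.ble (nat_lit 191) i)) (Nat.ble (nat_lit 190) i)) (Nat.ble (nat_lit 188) i)) (Nat.ble (nat_lit 184) i)) (Nat.ble (nat_lit 176) i))

def factBlk_n0_6 (i : ℕ) : ℕ := (@Bool.rec (fun _ => ℕ) (@Bool.rec (fun _ => ℕ) (@Bool.rec (fun _ => ℕ) (@Bool.rec (fun _ => ℕ) (@Bool.rec (fun _ => ℕ) fb192 fb193 (Nat.ble (nat_lit 193) i)) (@Bool.rec (fun _ => ℕ) fb194 fb195 (Nat.ble (nat_lit 195) i)) (Nat.ble (nat_lit 194) i)) (@Bool.rec (fun _ => ℕ) (@Bool.rec (fun _ => ℕ) fb196 fb197 (Nat.ble (nat_lit 197) i)) (@Bool.rec (fun _ => ℕ) fb198 fb199 (Nat.ble (nat_lit 199) i)) (Nat.ble (nat_lit 198)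 i)) (Nat.ble (nat_lit 196) i)) (@Bool.rec (fun _ => ℕ) (@Bool.rec (fun _ => ℕ) (@Bool.rec (fun _ => ℕ) fb200 fb201 (Nat.ble (nat_lit 201) i)) (@Bool.rec (fun _ => ℕ) fb202 fb203 (Nat.ble (nat_lit 203) i)) (Nat.ble (nat_lit 202) i)) (@Bool.rec (fun _ => ℕ) (@Bool.rec (fun _ => ℕ) fb204 fb205 (Nat.ble (nat_lit 205) i)) (@Bool.rec (fun _ => ℕ) fb206 fb207 (Nat.ble (nat_lit 207) i)) (Nat.ble (nat_lit 206) i)) (Nat.ble (nat_lit 204) i)) (Nat.ble (nat_lit 200) i)) (@Bool.rec (fun _ => ℕ) (@Bool.rec (fun _ => ℕ) (@Bool.rec (fun _ => ℕ) (@Bool.rec (fun _ => ℕ) fb208 fb209 (Nat.ble (nat_lit 209) i)) (@Bool.rec (fun _ => ℕ) fb210 fb211 (Nat.ble (nat_lit 211) i)) (Nat.ble (nat_lit 210) i)) (@Bool.rec (fun _ => ℕ) (@Bool.rec (fun _ => ℕ) fb212 fb213 (Nat.ble (nat_lit 213) i)) (@Bool.rec (fun _ => ℕ) fb214 fb215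 (Nat.ble (nat_lit 215) i)) (Nat.ble (nat_lit 214) i)) (Nat.ble (nat_lit 212) i)) (@Bool.rec (fun _ => ℕ) (@Bool.rec (fun _ => ℕ) (@Bool.rec (fun _ => ℕ) fb216 fb217 (Nat.ble (nat_lit 217) i)) (@Bool.rec (fun _ => ℕ) fb218 fb219 (Nat.ble (nat_lit 219) i)) (Nat.ble (nat_lit 218) i)) (@Bool.rec (fun _ => ℕ) (@Bool.rec (fun _ => ℕ) fb220 fb221 (Nat.ble (nat_lit 221) i)) (@Bool.rec (fun _ => ℕ) fb222 fb223 (Nat.ble (nat_lit 223) i)) (Nat.ble (nat_lit 222) i)) (Nat.ble (nat_lit 220) i)) (Nat.ble (nat_lit 216) i)) (Nat.ble (nat_lit 208) i))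

def factBlk_n0_7 (i : ℕ) : ℕ := (@Bool.rec (fun _ => ℕ) (@Bool.rec (fun _ => ℕ) (@Bool.rec (fun _ => ℕ) (@Bool.rec (fun _ => ℕ) (@Bool.rec (fun _ => ℕ) fb224 fb225 (Nat.ble (nat_lit 225) i)) (@Bool.rec (fun _ => ℕ) fb226 fb227 (Nat.ble (nat_lit 227) i)) (Nat.ble (nat_lit 226) i)) (@Bool.rec (fun _ => ℕ) (@Bool.rec (fun _ => ℕ) fb228 fb229 (Nat.ble (nat_lit 229) i)) (@Bool.rec (fun _ => ℕ) fb230 fb231 (Nat.ble (nat_lit 231) i)) (Nat.ble (nat_lit 230) i)) (Nat.ble (nat_lit 228) i)) (@Bool.rec (fun _ => ℕ) (@Bool.rec (fun _ => ℕ) (@Bool.rec (fun _ => ℕ) fb232 fb233 (Nat.ble (nat_lit 233) i)) (@Bool.rec (fun _ => ℕ) fb234 fb235 (Nat.ble (nat_lit 235) i)) (Nat.ble (nat_lit 234) i)) (@Bool.rec (fun _ => ℕ) (@Bool.rec (fun _ => ℕ) fb236 fb237 (Nat.ble (nat_lit 237) i)) (@Bool.rec (fun _ => ℕ) fb238 fb239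 (Nat.ble (nat_lit 239) i)) (Nat.ble (nat_lit 238) i)) (Nat.ble (nat_lit 236) i)) (Nat.ble (nat_lit 232) i)) (@Bool.rec (fun _ => ℕ) (@Bool.rec (fun _ => ℕ) (@Bool.rec (fun _ => ℕ) (@Bool.rec (fun _ => ℕ) fb240 fb241 (Nat.ble (nat_lit 241) i)) (@Bool.rec (fun _ => ℕ) fb242 fb243 (Nat.ble (nat_lit 243) i)) (Nat.ble (nat_lit 242) i)) (@Bool.rec (fun _ => ℕ) (@Bool.rec (fun _ => ℕ) fb244 fb245 (Nat.ble (nat_lit 245) i)) (@Bool.rec (fun _ => ℕ) fb246 fb247 (Nat.ble (nat_lit 247) i)) (Nat.ble (nat_lit 246) i)) (Nat.ble (nat_lit 244) i)) (@Bool.rec (fun _ => ℕ) (@Bool.rec (fun _ => ℕ) (@Bool.rec (fun _ => ℕ) fb248 fb249 (Nat.ble (nat_lit 249) i)) (@Bool.rec (fun _ => ℕ) fb250 fb251 (Nat.ble (nat_lit 251) i)) (Nat.ble (nat_lit 250) i)) (@Bool.rec (fun _ => ℕ) (@Bool.rec (fun _ => ℕ) fb252 fb253 (Nat.ble (nat_lit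 253) i)) (@Bool.rec (fun _ => ℕ) fb254 fb255 (Nat.ble (nat_lit 255) i)) (Nat.ble (nat_lit 254) i)) (Nat.ble (nat_lit 252) i)) (Nat.ble (nat_lit 248) i)) (Nat.ble (nat_lit 240) i))

def factBlk_n0_8 (i : ℕ) : ℕ := (@Bool.rec (fun _ => ℕ) (@Bool.rec (fun _ => ℕ) (@Bool.rec (fun _ => ℕ) (@Bool.rec (fun _ => ℕ) (@Bool.rec (fun _ => ℕ) fb256 fb257 (Nat.ble (nat_lit 257) i)) (@Bool.rec (fun _ => ℕ) fb258 fb259 (Nat.ble (nat_lit 259) i)) (Nat.ble (nat_lit 258) i)) (@Bool.rec (fun _ => ℕ) (@Bool.rec (fun _ => ℕ) fb260 fb261 (Nat.ble (nat_lit 261) i)) (@Bool.rec (fun _ => ℕ) fb262 fb263 (Nat.ble (nat_lit 263) i)) (Nat.ble (nat_lit 262) i)) (Nat.ble (nat_lit 260) i)) (@Bool.rec (fun _ => ℕ) (@Bool.rec (fun _ => ℕ) (@Bool.rec (fun _ => ℕ) fb264 fb265 (Nat.ble (nat_lit 265) i)) (@Bool.rec (fun _ => ℕ) fb266 fb267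 (Nat.ble (nat_lit 267) i)) (Nat.ble (nat_lit 266) i)) (@Bool.rec (fun _ => ℕ) (@Bool.rec (fun _ => ℕ) fb268 fb269 (Nat.ble (nat_lit 269) i)) (@Bool.rec (fun _ => ℕ) fb270 fb271 (Nat.ble (nat_lit 271) i)) (Nat.ble (nat_lit 270) i)) (Nat.ble (nat_lit 268) i)) (Nat.ble (nat_lit 264) i)) (@Bool.rec (fun _ => ℕ) (@Bool.rec (fun _ => ℕ) (@Bool.rec (fun _ => ℕ) (@Bool.rec (fun _ => ℕ) fb272 fb273 (Nat.ble (nat_lit 273) i)) (@Bool.rec (fun _ => ℕ) fb274 fb275 (Nat.ble (nat_lit 275) i)) (Nat.ble (nat_lit 274) i)) (@Bool.rec (fun _ => ℕ) (@Bool.rec (fun _ => ℕ) fb276 fb277 (Nat.ble (nat_lit 277) i)) (@Bool.rec (fun _ => ℕ) fb278 fb279 (Nat.ble (nat_lit 279) i)) (Nat.ble (nat_lit 278) i)) (Nat.ble (nat_lit 276) i)) (@Bool.rec (fun _ => ℕ) (@Bool.rec (fun _ => ℕ) (@Bool.rec (fun _ => ℕ) fb280 fb281 (Nat.ble (nat_lit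 281) i)) (@Bool.rec (fun _ => ℕ) fb282 fb283 (Nat.ble (nat_lit 283) i)) (Nat.ble (nat_lit 282) i)) (@Bool.rec (fun _ => ℕ) (@Bool.rec (fun _ => ℕ) fb284 fb285 (Nat.ble (nat_lit 285) i)) (@Bool.rec (fun _ => ℕ) fb286 fb287 (Nat.ble (nat_lit 287) i)) (Nat.ble (nat_lit 286) i)) (Nat.ble (nat_lit 284) i)) (Nat.ble (nat_lit 280) i)) (Nat.ble (nat_lit 272) i))

def factBlk_n0_9 (i : ℕ) : ℕ := (@Bool.rec (fun _ => ℕ) (@Bool.rec (fun _ => ℕ) (@Bool.rec (fun _ => ℕ) (@Bool.rec (fun _ => ℕ) (@Bool.rec (fun _ => ℕ) fb288 fb289 (Nat.ble (nat_lit 289) i)) (@Bool.rec (fun _ => ℕ) fb290 fb291 (Nat.ble (nat_lit 291) i)) (Nat.ble (nat_lit 290) i)) (@Bool.rec (fun _ => ℕ) (@Bool.rec (fun _ => ℕ) fb292 fb293 (Nat.ble (nat_lit 293) i)) (@Bool.rec (fun _ => ℕ) fb294 fb295 (Nat.ble (nat_lit 295) i)) (Nat.ble (nat_lit 294)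 i)) (Nat.ble (nat_lit 292) i)) (@Bool.rec (fun _ => ℕ) (@Bool.rec (fun _ => ℕ) (@Bool.rec (fun _ => ℕ) fb296 fb297 (Nat.ble (nat_lit 297) i)) (@Bool.rec (fun _ => ℕ) fb298 fb299 (Nat.ble (nat_lit 299) i)) (Nat.ble (nat_lit 298) i)) (@Bool.rec (fun _ => ℕ) (@Bool.rec (fun _ => ℕ) fb300 fb301 (Nat.ble (nat_lit 301) i)) (@Bool.rec (fun _ => ℕ) fb302 fb303 (Nat.ble (nat_lit 303) i)) (Nat.ble (nat_lit 302) i)) (Nat.ble (nat_lit 300) i)) (Nat.ble (nat_lit 296) i)) (@Bool.rec (fun _ => ℕ) (@Bool.rec (fun _ => ℕ) (@Bool.rec (fun _ => ℕ) (@Bool.rec (fun _ => ℕ) fb304 fb305 (Nat.ble (nat_lit 305) i)) (@Bool.rec (fun _ => ℕ) fb306 fb307 (Nat.ble (nat_lit 307) i)) (Nat.ble (nat_lit 306) i)) (@Bool.rec (fun _ => ℕ) (@Bool.rec (fun _ => ℕ) fb308 fb309 (Nat.ble (nat_lit 309) i)) (@Bool.rec (fun _ => ℕ) fb310 fb311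 (Nat.ble (nat_lit 311) i)) (Nat.ble (nat_lit 310) i)) (Nat.ble (nat_lit 308) i)) (@Bool.rec (fun _ => ℕ) (@Bool.rec (fun _ => ℕ) (@Bool.rec (fun _ => ℕ) fb312 fb313 (Nat.ble (nat_lit 313) i)) (@Bool.rec (fun _ => ℕ) fb314 fb315 (Nat.ble (nat_lit 315) i)) (Nat.ble (nat_lit 314) i)) (@Bool.rec (fun _ => ℕ) (@Bool.rec (fun _ => ℕ) fb316 fb317 (Nat.ble (nat_lit 317) i)) (@Bool.rec (fun _ => ℕ) fb318 fb319 (Nat.ble (nat_lit 319) i)) (Nat.ble (nat_lit 318) i)) (Nat.ble (nat_lit 316) i)) (Nat.ble (nat_lit 312) i)) (Nat.ble (nat_lit 304) i))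

def factBlk_n0_10 (i : ℕ) : ℕ := (@Bool.rec (fun _ => ℕ) (@Bool.rec (fun _ => ℕ) (@Bool.rec (fun _ => ℕ) (@Bool.rec (fun _ => ℕ) (@Bool.rec (fun _ => ℕ) fb320 fb321 (Nat.ble (nat_lit 321) i)) (@Bool.rec (fun _ => ℕ) fb322 fb323 (Nat.ble (nat_lit 323) i)) (Nat.ble (nat_lit 322) i)) (@Bool.rec (fun _ => ℕ) (@Bool.rec (fun _ => ℕ) fb324 fb325 (Nat.ble (nat_lit 325) i)) (@Bool.rec (fun _ => ℕ) fb326 fb327 (Nat.ble (nat_lit 327) i)) (Nat.ble (nat_lit 326) i)) (Nat.ble (nat_lit 324) i)) (@Bool.rec (fun _ => ℕ) (@Bool.rec (fun _ => ℕ) (@Bool.rec (fun _ => ℕ) fb328 fb329 (Nat.ble (nat_lit 329) i)) (@Bool.rec (fun _ => ℕ) fb330 fb331 (Nat.ble (nat_lit 331) i)) (Nat.ble (nat_lit 330) i)) (@Bool.rec (fun _ => ℕ) (@Bool.rec (fun _ => ℕ) fb332 fb333 (Nat.ble (nat_lit 333) i)) (@Bool.rec (fun _ => ℕ) fb334 fb335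 (Nat.ble (nat_lit 335) i)) (Nat.ble (nat_lit 334) i)) (Nat.ble (nat_lit 332) i)) (Nat.ble (nat_lit 328) i)) (@Bool.rec (fun _ => ℕ) (@Bool.rec (fun _ => ℕ) (@Bool.rec (fun _ => ℕ) (@Bool.rec (fun _ => ℕ) fb336 fb337 (Nat.ble (nat_lit 337) i)) (@Bool.rec (fun _ => ℕ) fb338 fb339 (Nat.ble (nat_lit 339) i)) (Nat.ble (nat_lit 338) i)) (@Bool.rec (fun _ => ℕ) (@Bool.rec (fun _ => ℕ) fb340 fb341 (Nat.ble (nat_lit 341) i)) (@Bool.rec (fun _ => ℕ) fb342 fb343 (Nat.ble (nat_lit 343) i)) (Nat.ble (nat_lit 342) i)) (Nat.ble (nat_lit 340) i)) (@Bool.rec (fun _ => ℕ) (@Bool.rec (fun _ => ℕ) (@Bool.rec (fun _ => ℕ) fb344 fb345 (Nat.ble (nat_lit 345) i)) (@Bool.rec (fun _ => ℕ) fb346 fb347 (Nat.ble (nat_lit 347) i)) (Nat.ble (nat_lit 346) i)) (@Bool.rec (fun _ => ℕ) (@Bool.rec (fun _ => ℕ) fb348 fb349 (Nat.ble (nat_lit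 349) i)) (@Bool.rec (fun _ => ℕ) fb350 fb351 (Nat.ble (nat_lit 351) i)) (Nat.ble (nat_lit 350) i)) (Nat.ble (nat_lit 348) i)) (Nat.ble (nat_lit 344) i)) (Nat.ble (nat_lit 336) i))

def factBlk_n0_11 (i : ℕ) : ℕ := (@Bool.rec (fun _ => ℕ) (@Bool.rec (fun _ => ℕ) (@Bool.rec (fun _ => ℕ) (@Bool.rec (fun _ => ℕ) (@Bool.rec (fun _ => ℕ) fb352 fb353 (Nat.ble (nat_lit 353) i)) (@Bool.rec (fun _ => ℕ) fb354 fb355 (Nat.ble (nat_lit 355) i)) (Nat.ble (nat_lit 354) i)) (@Bool.rec (fun _ => ℕ) (@Bool.rec (fun _ => ℕ) fb356 fb357 (Nat.ble (nat_lit 357) i)) (@Bool.rec (fun _ => ℕ) fb358 fb359 (Nat.ble (nat_lit 359) i)) (Nat.ble (nat_lit 358) i)) (Nat.ble (nat_lit 356) i)) (@Bool.rec (fun _ => ℕ) (@Bool.rec (fun _ => ℕ) (@Bool.rec (fun _ => ℕ) fb360 fb361 (Nat.ble (nat_lit 361) i)) (@Bool.rec (fun _ => ℕ) fb362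 fb363 (Nat.ble (nat_lit 363) i)) (Nat.ble (nat_lit 362) i)) (@Bool.rec (fun _ => ℕ) (@Bool.rec (fun _ => ℕ) fb364 fb365 (Nat.ble (nat_lit 365) i)) (@Bool.rec (fun _ => ℕ) fb366 fb367 (Nat.ble (nat_lit 367) i)) (Nat.ble (nat_lit 366) i)) (Nat.ble (nat_lit 364) i)) (Nat.ble (nat_lit 360) i)) (@Bool.rec (fun _ => ℕ) (@Bool.rec (fun _ => ℕ) (@Bool.rec (fun _ => ℕ) (@Bool.rec (fun _ => ℕ) fb368 fb369 (Nat.ble (nat_lit 369) i)) (@Bool.rec (fun _ => ℕ) fb370 fb371 (Nat.ble (nat_lit 371) i)) (Nat.ble (nat_lit 370) i)) (@Bool.rec (fun _ => ℕ) (@Bool.rec (fun _ => ℕ) fb372 fb373 (Nat.ble (nat_lit 373) i)) (@Bool.rec (fun _ => ℕ) fb374 fb375 (Nat.ble (nat_lit 375) i)) (Nat.ble (nat_lit 374) i)) (Nat.ble (nat_lit 372) i)) (@Bool.rec (fun _ => ℕ) (@Bool.rec (fun _ => ℕ) (@Bool.rec (fun _ => ℕ) fb376 fb377 (Nat.ble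 (nat_lit 377) i)) (@Bool.rec (fun _ => ℕ) fb378 fb379 (Nat.ble (nat_lit 379) i)) (Nat.ble (nat_lit 378) i)) (@Bool.rec (fun _ => ℕ) (@Bool.rec (fun _ => ℕ) fb380 fb381 (Nat.ble (nat_lit 381) i)) (@Bool.rec (fun _ => ℕ) fb382 fb383 (Nat.ble (nat_lit 383) i)) (Nat.ble (nat_lit 382) i)) (Nat.ble (nat_lit 380) i)) (Nat.ble (nat_lit 376) i)) (Nat.ble (nat_lit 368) i))

def factBlk_n0_12 (i : ℕ) : ℕ := (@Bool.rec (fun _ => ℕ) (@Bool.rec (fun _ => ℕ) (@Bool.rec (fun _ => ℕ) (@Bool.rec (fun _ => ℕ) (@Bool.rec (fun _ => ℕ) fb384 fb385 (Nat.ble (nat_lit 385) i)) (@Bool.rec (fun _ => ℕ) fb386 fb387 (Nat.ble (nat_lit 387) i)) (Nat.ble (nat_lit 386) i)) (@Bool.rec (fun _ => ℕ) (@Bool.rec (fun _ => ℕ) fb388 fb389 (Nat.ble (nat_lit 389) i)) (@Bool.rec (fun _ => ℕ) fb390 fb391 (Nat.ble (nat_lit 391) i)) (Nat.ble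 (nat_lit 390) i)) (Nat.ble (nat_lit 388) i)) (@Bool.rec (fun _ => ℕ) (@Bool.rec (fun _ => ℕ) (@Bool.rec (fun _ => ℕ) fb392 fb393 (Nat.ble (nat_lit 393) i)) (@Bool.rec (fun _ => ℕ) fb394 fb395 (Nat.ble (nat_lit 395) i)) (Nat.ble (nat_lit 394) i)) (@Bool.rec (fun _ => ℕ) (@Bool.rec (fun _ => ℕ) fb396 fb397 (Nat.ble (nat_lit 397) i)) (@Bool.rec (fun _ => ℕ) fb398 fb399 (Nat.ble (nat_lit 399) i)) (Nat.ble (nat_lit 398) i)) (Nat.ble (nat_lit 396) i)) (Nat.ble (nat_lit 392) i)) (@Bool.rec (fun _ => ℕ) (@Bool.rec (fun _ => ℕ) (@Bool.rec (fun _ => ℕ) (@Bool.rec (fun _ => ℕ) fb400 fb401 (Nat.ble (nat_lit 401) i)) (@Bool.rec (fun _ => ℕ) fb402 fb403 (Nat.ble (nat_lit 403) i)) (Nat.ble (nat_lit 402) i)) (@Bool.rec (fun _ => ℕ) (@Bool.rec (fun _ => ℕ) fb404 fb405 (Nat.ble (nat_lit 405) i)) (@Bool.rec (fun _ =>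 ℕ) fb406 fb407 (Nat.ble (nat_lit 407) i)) (Nat.ble (nat_lit 406) i)) (Nat.ble (nat_lit 404) i)) (@Bool.rec (fun _ => ℕ) (@Bool.rec (fun _ => ℕ) (@Bool.rec (fun _ => ℕ) fb408 fb409 (Nat.ble (nat_lit 409) i)) (@Bool.rec (fun _ => ℕ) fb410 fb411 (Nat.ble (nat_lit 411) i)) (Nat.ble (nat_lit 410) i)) (@Bool.rec (fun _ => ℕ) (@Bool.rec (fun _ => ℕ) fb412 fb413 (Nat.ble (nat_lit 413) i)) (@Bool.rec (fun _ => ℕ) fb414 fb415 (Nat.ble (nat_lit 415) i)) (Nat.ble (nat_lit 414) i)) (Nat.ble (nat_lit 412) i)) (Nat.ble (nat_lit 408) i)) (Nat.ble (nat_lit 400) i))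

def factBlk_n0_13 (i : ℕ) : ℕ := (@Bool.rec (fun _ => ℕ) (@Bool.rec (fun _ => ℕ) (@Bool.rec (fun _ => ℕ) (@Bool.rec (fun _ => ℕ) (@Bool.rec (fun _ => ℕ) fb416 fb417 (Nat.ble (nat_lit 417) i)) (@Bool.rec (fun _ => ℕ) fb418 fb419 (Nat.ble (nat_lit 419) i)) (Nat.ble (nat_lit 418) i)) (@Bool.rec (fun _ => ℕ) (@Bool.rec (fun _ => ℕ) fb420 fb421 (Nat.ble (nat_lit 421) i)) (@Bool.rec (fun _ => ℕ) fb422 fb423 (Nat.ble (nat_lit 423) i)) (Nat.ble (nat_lit 422) i)) (Nat.ble (nat_lit 420) i)) (@Bool.rec (fun _ => ℕ) (@Bool.rec (fun _ => ℕ) (@Bool.rec (fun _ => ℕ) fb424 fb425 (Nat.ble (nat_lit 425) i)) (@Bool.rec (fun _ => ℕ) fb426 fb427 (Nat.ble (nat_lit 427) i)) (Nat.ble (nat_lit 426) i)) (@Bool.rec (fun _ => ℕ) (@Bool.rec (fun _ => ℕ) fb428 fb429 (Nat.ble (nat_lit 429) i)) (@Bool.rec (fun _ => ℕ) fb430 fb431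 (Nat.ble (nat_lit 431) i)) (Nat.ble (nat_lit 430) i)) (Nat.ble (nat_lit 428) i)) (Nat.ble (nat_lit 424) i)) (@Bool.rec (fun _ => ℕ) (@Bool.rec (fun _ => ℕ) (@Bool.rec (fun _ => ℕ) (@Bool.rec (fun _ => ℕ) fb432 fb433 (Nat.ble (nat_lit 433) i)) (@Bool.rec (fun _ => ℕ) fb434 fb435 (Nat.ble (nat_lit 435) i)) (Nat.ble (nat_lit 434) i)) (@Bool.rec (fun _ => ℕ) (@Bool.rec (fun _ => ℕ) fb436 fb437 (Nat.ble (nat_lit 437) i)) (@Bool.rec (fun _ => ℕ) fb438 fb439 (Nat.ble (nat_lit 439) i)) (Nat.ble (nat_lit 438) i)) (Nat.ble (nat_lit 436) i)) (@Bool.rec (fun _ => ℕ) (@Bool.rec (fun _ => ℕ) (@Bool.rec (fun _ => ℕ) fb440 fb441 (Nat.ble (nat_lit 441) i)) (@Bool.rec (fun _ => ℕ) fb442 fb443 (Nat.ble (nat_lit 443) i)) (Nat.ble (nat_lit 442) i)) (@Bool.rec (fun _ => ℕ) (@Bool.rec (fun _ => ℕ) fb444 fb445 (Nat.ble (nat_lit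 445) i)) (@Bool.rec (fun _ => ℕ) fb446 fb447 (Nat.ble (nat_lit 447) i)) (Nat.ble (nat_lit 446) i)) (Nat.ble (nat_lit 444) i)) (Nat.ble (nat_lit 440) i)) (Nat.ble (nat_lit 432) i))

def factBlk_n0_14 (i : ℕ) : ℕ := (@Bool.rec (fun _ => ℕ) (@Bool.rec (fun _ => ℕ) (@Bool.rec (fun _ => ℕ) (@Bool.rec (fun _ => ℕ) (@Bool.rec (fun _ => ℕ) fb448 fb449 (Nat.ble (nat_lit 449) i)) (@Bool.rec (fun _ => ℕ) fb450 fb451 (Nat.ble (nat_lit 451) i)) (Nat.ble (nat_lit 450) i)) (@Bool.rec (fun _ => ℕ) (@Bool.rec (fun _ => ℕ) fb452 fb453 (Nat.ble (nat_lit 453) i)) (@Bool.rec (fun _ => ℕ) fb454 fb455 (Nat.ble (nat_lit 455) i)) (Nat.ble (nat_lit 454) i)) (Nat.ble (nat_lit 452) i)) (@Bool.rec (fun _ => ℕ) (@Bool.rec (fun _ => ℕ) (@Bool.rec (fun _ => ℕ) fb456 fb457 (Nat.ble (nat_lit 457) i)) (@Bool.rec (fun _ => ℕ) fb458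 fb459 (Nat.ble (nat_lit 459) i)) (Nat.ble (nat_lit 458) i)) (@Bool.rec (fun _ => ℕ) (@Bool.rec (fun _ => ℕ) fb460 fb461 (Nat.ble (nat_lit 461) i)) (@Bool.rec (fun _ => ℕ) fb462 fb463 (Nat.ble (nat_lit 463) i)) (Nat.ble (nat_lit 462) i)) (Nat.ble (nat_lit 460) i)) (Nat.ble (nat_lit 456) i)) (@Bool.rec (fun _ => ℕ) (@Bool.rec (fun _ => ℕ) (@Bool.rec (fun _ => ℕ) (@Bool.rec (fun _ => ℕ) fb464 fb465 (Nat.ble (nat_lit 465) i)) (@Bool.rec (fun _ => ℕ) fb466 fb467 (Nat.ble (nat_lit 467) i)) (Nat.ble (nat_lit 466) i)) (@Bool.rec (fun _ => ℕ) (@Bool.rec (fun _ => ℕ) fb468 fb469 (Nat.ble (nat_lit 469) i)) (@Bool.rec (fun _ => ℕ) fb470 fb471 (Nat.ble (nat_lit 471) i)) (Nat.ble (nat_lit 470) i)) (Nat.ble (nat_lit 468) i)) (@Bool.rec (fun _ => ℕ) (@Bool.rec (fun _ => ℕ) (@Bool.rec (fun _ => ℕ) fb472 fb473 (Nat.ble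 (nat_lit 473) i)) (@Bool.rec (fun _ => ℕ) fb474 fb475 (Nat.ble (nat_lit 475) i)) (Nat.ble (nat_lit 474) i)) (@Bool.rec (fun _ => ℕ) (@Bool.rec (fun _ => ℕ) fb476 fb477 (Nat.ble (nat_lit 477) i)) (@Bool.rec (fun _ => ℕ) fb478 fb479 (Nat.ble (nat_lit 479) i)) (Nat.ble (nat_lit 478) i)) (Nat.ble (nat_lit 476) i)) (Nat.ble (nat_lit 472) i)) (Nat.ble (nat_lit 464) i))

def factBlk_n0_15 (i : ℕ) : ℕ := (@Bool.rec (fun _ => ℕ) (@Bool.rec (fun _ => ℕ) (@Bool.rec (fun _ => ℕ) (@Bool.rec (fun _ => ℕ) (@Bool.rec (fun _ => ℕ) fb480 fb481 (Nat.ble (nat_lit 481) i)) (@Bool.rec (fun _ => ℕ) fb482 fb483 (Nat.ble (nat_lit 483) i)) (Nat.ble (nat_lit 482) i)) (@Bool.rec (fun _ => ℕ) (@Bool.rec (fun _ => ℕ) fb484 fb485 (Nat.ble (nat_lit 485) i)) (@Bool.rec (fun _ => ℕ) fb486 fb487 (Nat.ble (nat_lit 487) i)) (Nat.ble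 (nat_lit 486) i)) (Nat.ble (nat_lit 484) i)) (@Bool.rec (fun _ => ℕ) (@Bool.rec (fun _ => ℕ) (@Bool.rec (fun _ => ℕ) fb488 fb489 (Nat.ble (nat_lit 489) i)) (@Bool.rec (fun _ => ℕ) fb490 fb491 (Nat.ble (nat_lit 491) i)) (Nat.ble (nat_lit 490) i)) (@Bool.rec (fun _ => ℕ) (@Bool.rec (fun _ => ℕ) fb492 fb493 (Nat.ble (nat_lit 493) i)) (@Bool.rec (fun _ => ℕ) fb494 fb495 (Nat.ble (nat_lit 495) i)) (Nat.ble (nat_lit 494) i)) (Nat.ble (nat_lit 492) i)) (Nat.ble (nat_lit 488) i)) (@Bool.rec (fun _ => ℕ) (@Bool.rec (fun _ => ℕ) (@Bool.rec (fun _ => ℕ) (@Bool.rec (fun _ => ℕ) fb496 fb497 (Nat.ble (nat_lit 497) i)) (@Bool.rec (fun _ => ℕ) fb498 fb499 (Nat.ble (nat_lit 499) i)) (Nat.ble (nat_lit 498) i)) (@Bool.rec (fun _ => ℕ) (@Bool.rec (fun _ => ℕ) fb500 fb501 (Nat.ble (nat_lit 501) i)) (@Bool.rec (fun _ =>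 ℕ) fb502 fb503 (Nat.ble (nat_lit 503) i)) (Nat.ble (nat_lit 502) i)) (Nat.ble (nat_lit 500) i)) (@Bool.rec (fun _ => ℕ) (@Bool.rec (fun _ => ℕ) (@Bool.rec (fun _ => ℕ) fb504 fb505 (Nat.ble (nat_lit 505) i)) (@Bool.rec (fun _ => ℕ) fb506 fb507 (Nat.ble (nat_lit 507) i)) (Nat.ble (nat_lit 506) i)) (@Bool.rec (fun _ => ℕ) (@Bool.rec (fun _ => ℕ) fb508 fb509 (Nat.ble (nat_lit 509) i)) (@Bool.rec (fun _ => ℕ) fb510 fb511 (Nat.ble (nat_lit 511) i)) (Nat.ble (nat_lit 510) i)) (Nat.ble (nat_lit 508) i)) (Nat.ble (nat_lit 504) i)) (Nat.ble (nat_lit 496) i))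

def factBlk_n0_16 (i : ℕ) : ℕ := (@Bool.rec (fun _ => ℕ) (@Bool.rec (fun _ => ℕ) (@Bool.rec (fun _ => ℕ) (@Bool.rec (fun _ => ℕ) (@Bool.rec (fun _ => ℕ) fb512 fb513 (Nat.ble (nat_lit 513) i)) (@Bool.rec (fun _ => ℕ) fb514 fb515 (Nat.ble (nat_lit 515) i)) (Nat.ble (nat_lit 514) i)) (@Bool.rec (fun _ => ℕ) (@Bool.rec (fun _ => ℕ) fb516 fb517 (Nat.ble (nat_lit 517) i)) (@Bool.rec (fun _ => ℕ) fb518 fb519 (Nat.ble (nat_lit 519) i)) (Nat.ble (nat_lit 518) i)) (Nat.ble (nat_lit 516) i)) (@Bool.rec (fun _ => ℕ) (@Bool.rec (fun _ => ℕ) (@Bool.rec (fun _ => ℕ) fb520 fb521 (Nat.ble (nat_lit 521) i)) (@Bool.rec (fun _ => ℕ) fb522 fb523 (Nat.ble (nat_lit 523) i)) (Nat.ble (nat_lit 522) i)) (@Bool.rec (fun _ => ℕ) (@Bool.rec (fun _ => ℕ) fb524 fb525 (Nat.ble (nat_lit 525) i)) (@Bool.rec (fun _ => ℕ) fb526 fb527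 (Nat.ble (nat_lit 527) i)) (Nat.ble (nat_lit 526) i)) (Nat.ble (nat_lit 524) i)) (Nat.ble (nat_lit 520) i)) (@Bool.rec (fun _ => ℕ) (@Bool.rec (fun _ => ℕ) (@Bool.rec (fun _ => ℕ) (@Bool.rec (fun _ => ℕ) fb528 fb529 (Nat.ble (nat_lit 529) i)) (@Bool.rec (fun _ => ℕ) fb530 fb531 (Nat.ble (nat_lit 531) i)) (Nat.ble (nat_lit 530) i)) (@Bool.rec (fun _ => ℕ) (@Bool.rec (fun _ => ℕ) fb532 fb533 (Nat.ble (nat_lit 533) i)) (@Bool.rec (fun _ => ℕ) fb534 fb535 (Nat.ble (nat_lit 535) i)) (Nat.ble (nat_lit 534) i)) (Nat.ble (nat_lit 532) i)) (@Bool.rec (fun _ => ℕ) (@Bool.rec (fun _ => ℕ) (@Bool.rec (fun _ => ℕ) fb536 fb537 (Nat.ble (nat_lit 537) i)) (@Bool.rec (fun _ => ℕ) fb538 fb539 (Nat.ble (nat_lit 539) i)) (Nat.ble (nat_lit 538) i)) (@Bool.rec (fun _ => ℕ) (@Bool.rec (fun _ => ℕ) fb540 fb541 (Nat.ble (nat_lit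 541) i)) (@Bool.rec (fun _ => ℕ) fb542 fb543 (Nat.ble (nat_lit 543) i)) (Nat.ble (nat_lit 542) i)) (Nat.ble (nat_lit 540) i)) (Nat.ble (nat_lit 536) i)) (Nat.ble (nat_lit 528) i))

def factBlk_n0_17 (i : ℕ) : ℕ := (@Bool.rec (fun _ => ℕ) (@Bool.rec (fun _ => ℕ) (@Bool.rec (fun _ => ℕ) (@Bool.rec (fun _ => ℕ) (@Bool.rec (fun _ => ℕ) fb544 fb545 (Nat.ble (nat_lit 545) i)) (@Bool.rec (fun _ => ℕ) fb546 fb547 (Nat.ble (nat_lit 547) i)) (Nat.ble (nat_lit 546) i)) (@Bool.rec (fun _ => ℕ) (@Bool.rec (fun _ => ℕ) fb548 fb549 (Nat.ble (nat_lit 549) i)) (@Bool.rec (fun _ => ℕ) fb550 fb551 (Nat.ble (nat_lit 551) i)) (Nat.ble (nat_lit 550) i)) (Nat.ble (nat_lit 548) i)) (@Bool.rec (fun _ => ℕ) (@Bool.rec (fun _ => ℕ) (@Bool.rec (fun _ => ℕ) fb552 fb553 (Nat.ble (nat_lit 553) i)) (@Bool.rec (fun _ => ℕ) fb554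 fb555 (Nat.ble (nat_lit 555) i)) (Nat.ble (nat_lit 554) i)) (@Bool.rec (fun _ => ℕ) (@Bool.rec (fun _ => ℕ) fb556 fb557 (Nat.ble (nat_lit 557) i)) (@Bool.rec (fun _ => ℕ) fb558 fb559 (Nat.ble (nat_lit 559) i)) (Nat.ble (nat_lit 558) i)) (Nat.ble (nat_lit 556) i)) (Nat.ble (nat_lit 552) i)) (@Bool.rec (fun _ => ℕ) (@Bool.rec (fun _ => ℕ) (@Bool.rec (fun _ => ℕ) (@Bool.rec (fun _ => ℕ) fb560 fb561 (Nat.ble (nat_lit 561) i)) (@Bool.rec (fun _ => ℕ) fb562 fb563 (Nat.ble (nat_lit 563) i)) (Nat.ble (nat_lit 562) i)) (@Bool.rec (fun _ => ℕ) (@Bool.rec (fun _ => ℕ) fb564 fb565 (Nat.ble (nat_lit 565) i)) (@Bool.rec (fun _ => ℕ) fb566 fb567 (Nat.ble (nat_lit 567) i)) (Nat.ble (nat_lit 566) i)) (Nat.ble (nat_lit 564) i)) (@Bool.rec (fun _ => ℕ) (@Bool.rec (fun _ => ℕ) (@Bool.rec (fun _ => ℕ) fb568 fb569 (Nat.ble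 (nat_lit 569) i)) (@Bool.rec (fun _ => ℕ) fb570 fb571 (Nat.ble (nat_lit 571) i)) (Nat.ble (nat_lit 570) i)) (@Bool.rec (fun _ => ℕ) (@Bool.rec (fun _ => ℕ) fb572 fb573 (Nat.ble (nat_lit 573) i)) (@Bool.rec (fun _ => ℕ) fb574 fb575 (Nat.ble (nat_lit 575) i)) (Nat.ble (nat_lit 574) i)) (Nat.ble (nat_lit 572) i)) (Nat.ble (nat_lit 568) i)) (Nat.ble (nat_lit 560) i))

def factBlk_n0_18 (i : ℕ) : ℕ := (@Bool.rec (fun _ => ℕ) (@Bool.rec (fun _ => ℕ) (@Bool.rec (fun _ => ℕ) (@Bool.rec (fun _ => ℕ) (@Bool.rec (fun _ => ℕ) fb576 fb577 (Nat.ble (nat_lit 577) i)) (@Bool.rec (fun _ => ℕ) fb578 fb579 (Nat.ble (nat_lit 579) i)) (Nat.ble (nat_lit 578) i)) (@Bool.rec (fun _ => ℕ) (@Bool.rec (fun _ => ℕ) fb580 fb581 (Nat.ble (nat_lit 581) i)) (@Bool.rec (fun _ => ℕ) fb582 fb583 (Nat.ble (nat_lit 583) i)) (Nat.ble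 (nat_lit 582) i)) (Nat.ble (nat_lit 580) i)) (@Bool.rec (fun _ => ℕ) (@Bool.rec (fun _ => ℕ) (@Bool.rec (fun _ => ℕ) fb584 fb585 (Nat.ble (nat_lit 585) i)) (@Bool.rec (fun _ => ℕ) fb586 fb587 (Nat.ble (nat_lit 587) i)) (Nat.ble (nat_lit 586) i)) (@Bool.rec (fun _ => ℕ) (@Bool.rec (fun _ => ℕ) fb588 fb589 (Nat.ble (nat_lit 589) i)) (@Bool.rec (fun _ => ℕ) fb590 fb591 (Nat.ble (nat_lit 591) i)) (Nat.ble (nat_lit 590) i)) (Nat.ble (nat_lit 588) i)) (Nat.ble (nat_lit 584) i)) (@Bool.rec (fun _ => ℕ) (@Bool.rec (fun _ => ℕ) (@Bool.rec (fun _ => ℕ) (@Bool.rec (fun _ => ℕ) fb592 fb593 (Nat.ble (nat_lit 593) i)) (@Bool.rec (fun _ => ℕ) fb594 fb595 (Nat.ble (nat_lit 595) i)) (Nat.ble (nat_lit 594) i)) (@Bool.rec (fun _ => ℕ) (@Bool.rec (fun _ => ℕ) fb596 fb597 (Nat.ble (nat_lit 597) i)) (@Bool.rec (fun _ =>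 ℕ) fb598 fb599 (Nat.ble (nat_lit 599) i)) (Nat.ble (nat_lit 598) i)) (Nat.ble (nat_lit 596) i)) (@Bool.rec (fun _ => ℕ) (@Bool.rec (fun _ => ℕ) (@Bool.rec (fun _ => ℕ) fb600 fb601 (Nat.ble (nat_lit 601) i)) (@Bool.rec (fun _ => ℕ) fb602 fb603 (Nat.ble (nat_lit 603) i)) (Nat.ble (nat_lit 602) i)) (@Bool.rec (fun _ => ℕ) (@Bool.rec (fun _ => ℕ) fb604 fb605 (Nat.ble (nat_lit 605) i)) (@Bool.rec (fun _ => ℕ) fb606 fb607 (Nat.ble (nat_lit 607) i)) (Nat.ble (nat_lit 606) i)) (Nat.ble (nat_lit 604) i)) (Nat.ble (nat_lit 600) i)) (Nat.ble (nat_lit 592) i))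

def factBlk_n0_19 (i : ℕ) : ℕ := (@Bool.rec (fun _ => ℕ) (@Bool.rec (fun _ => ℕ) (@Bool.rec (fun _ => ℕ) (@Bool.rec (fun _ => ℕ) (@Bool.rec (fun _ => ℕ) fb608 fb609 (Nat.ble (nat_lit 609) i)) (@Bool.rec (fun _ => ℕ) fb610 fb611 (Nat.ble (nat_lit 611) i)) (Nat.ble (nat_lit 610) i)) (@Bool.rec (fun _ => ℕ) (@Bool.rec (fun _ => ℕ) fb612 fb613 (Nat.ble (nat_lit 613) i)) (@Bool.rec (fun _ => ℕ) fb614 fb615 (Nat.ble (nat_lit 615) i)) (Nat.ble (nat_lit 614) i)) (Nat.ble (nat_lit 612) i)) (@Bool.rec (fun _ => ℕ) (@Bool.rec (fun _ => ℕ) (@Bool.rec (fun _ => ℕ) fb616 fb617 (Nat.ble (nat_lit 617) i)) (@Bool.rec (fun _ => ℕ) fb618 fb619 (Nat.ble (nat_lit 619) i)) (Nat.ble (nat_lit 618) i)) (@Bool.rec (fun _ => ℕ) (@Bool.rec (fun _ => ℕ) fb620 fb621 (Nat.ble (nat_lit 621) i)) (@Bool.rec (fun _ => ℕ) fb622 fb623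 (Nat.ble (nat_lit 623) i)) (Nat.ble (nat_lit 622) i)) (Nat.ble (nat_lit 620) i)) (Nat.ble (nat_lit 616) i)) (@Bool.rec (fun _ => ℕ) (@Bool.rec (fun _ => ℕ) (@Bool.rec (fun _ => ℕ) (@Bool.rec (fun _ => ℕ) fb624 fb625 (Nat.ble (nat_lit 625) i)) (@Bool.rec (fun _ => ℕ) fb626 fb627 (Nat.ble (nat_lit 627) i)) (Nat.ble (nat_lit 626) i)) (@Bool.rec (fun _ => ℕ) (@Bool.rec (fun _ => ℕ) fb628 fb629 (Nat.ble (nat_lit 629) i)) (@Bool.rec (fun _ => ℕ) fb630 fb631 (Nat.ble (nat_lit 631) i)) (Nat.ble (nat_lit 630) i)) (Nat.ble (nat_lit 628) i)) (@Bool.rec (fun _ => ℕ) (@Bool.rec (fun _ => ℕ) (@Bool.rec (fun _ => ℕ) fb632 fb633 (Nat.ble (nat_lit 633) i)) (@Bool.rec (fun _ => ℕ) fb634 fb635 (Nat.ble (nat_lit 635) i)) (Nat.ble (nat_lit 634) i)) (@Bool.rec (fun _ => ℕ) (@Bool.rec (fun _ => ℕ) fb636 fb637 (Nat.ble (nat_lit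 637) i)) (@Bool.rec (fun _ => ℕ) fb638 fb639 (Nat.ble (nat_lit 639) i)) (Nat.ble (nat_lit 638) i)) (Nat.ble (nat_lit 636) i)) (Nat.ble (nat_lit 632) i)) (Nat.ble (nat_lit 624) i))

def factBlk_n0_20 (i : ℕ) : ℕ := (@Bool.rec (fun _ => ℕ) (@Bool.rec (fun _ => ℕ) (@Bool.rec (fun _ => ℕ) (@Bool.rec (fun _ => ℕ) (@Bool.rec (fun _ => ℕ) fb640 fb641 (Nat.ble (nat_lit 641) i)) (@Bool.rec (fun _ => ℕ) fb642 fb643 (Nat.ble (nat_lit 643) i)) (Nat.ble (nat_lit 642) i)) (@Bool.rec (fun _ => ℕ) (@Bool.rec (fun _ => ℕ) fb644 fb645 (Nat.ble (nat_lit 645) i)) (@Bool.rec (fun _ => ℕ) fb646 fb647 (Nat.ble (nat_lit 647) i)) (Nat.ble (nat_lit 646) i)) (Nat.ble (nat_lit 644) i)) (@Bool.rec (fun _ => ℕ) (@Bool.rec (fun _ => ℕ) (@Bool.rec (fun _ => ℕ) fb648 fb649 (Nat.ble (nat_lit 649) i)) (@Bool.rec (fun _ => ℕ) fb650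 fb651 (Nat.ble (nat_lit 651) i)) (Nat.ble (nat_lit 650) i)) (@Bool.rec (fun _ => ℕ) (@Bool.rec (fun _ => ℕ) fb652 fb653 (Nat.ble (nat_lit 653) i)) (@Bool.rec (fun _ => ℕ) fb654 fb655 (Nat.ble (nat_lit 655) i)) (Nat.ble (nat_lit 654) i)) (Nat.ble (nat_lit 652) i)) (Nat.ble (nat_lit 648) i)) (@Bool.rec (fun _ => ℕ) (@Bool.rec (fun _ => ℕ) (@Bool.rec (fun _ => ℕ) (@Bool.rec (fun _ => ℕ) fb656 fb657 (Nat.ble (nat_lit 657) i)) (@Bool.rec (fun _ => ℕ) fb658 fb659 (Nat.ble (nat_lit 659) i)) (Nat.ble (nat_lit 658) i)) (@Bool.rec (fun _ => ℕ) (@Bool.rec (fun _ => ℕ) fb660 fb661 (Nat.ble (nat_lit 661) i)) (@Bool.rec (fun _ => ℕ) fb662 fb663 (Nat.ble (nat_lit 663) i)) (Nat.ble (nat_lit 662) i)) (Nat.ble (nat_lit 660) i)) (@Bool.rec (fun _ => ℕ) (@Bool.rec (fun _ => ℕ) (@Bool.rec (fun _ => ℕ) fb664 fb665 (Nat.ble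 (nat_lit 665) i)) (@Bool.rec (fun _ => ℕ) fb666 fb667 (Nat.ble (nat_lit 667) i)) (Nat.ble (nat_lit 666) i)) (@Bool.rec (fun _ => ℕ) (@Bool.rec (fun _ => ℕ) fb668 fb669 (Nat.ble (nat_lit 669) i)) (@Bool.rec (fun _ => ℕ) fb670 fb671 (Nat.ble (nat_lit 671) i)) (Nat.ble (nat_lit 670) i)) (Nat.ble (nat_lit 668) i)) (Nat.ble (nat_lit 664) i)) (Nat.ble (nat_lit 656) i))

def factBlk_n0_21 (i : ℕ) : ℕ := (@Bool.rec (fun _ => ℕ) (@Bool.rec (fun _ => ℕ) (@Bool.rec (fun _ => ℕ) (@Bool.rec (fun _ => ℕ) (@Bool.rec (fun _ => ℕ) fb672 fb673 (Nat.ble (nat_lit 673) i)) (@Bool.rec (fun _ => ℕ) fb674 fb675 (Nat.ble (nat_lit 675) i)) (Nat.ble (nat_lit 674) i)) (@Bool.rec (fun _ => ℕ) (@Bool.rec (fun _ => ℕ) fb676 fb677 (Nat.ble (nat_lit 677) i)) (@Bool.rec (fun _ => ℕ) fb678 fb679 (Nat.ble (nat_lit 679) i)) (Nat.ble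 (nat_lit 678) i)) (Nat.ble (nat_lit 676) i)) (@Bool.rec (fun _ => ℕ) (@Bool.rec (fun _ => ℕ) (@Bool.rec (fun _ => ℕ) fb680 fb681 (Nat.ble (nat_lit 681) i)) (@Bool.rec (fun _ => ℕ) fb682 fb683 (Nat.ble (nat_lit 683) i)) (Nat.ble (nat_lit 682) i)) (@Bool.rec (fun _ => ℕ) (@Bool.rec (fun _ => ℕ) fb684 fb685 (Nat.ble (nat_lit 685) i)) (@Bool.rec (fun _ => ℕ) fb686 fb687 (Nat.ble (nat_lit 687) i)) (Nat.ble (nat_lit 686) i)) (Nat.ble (nat_lit 684) i)) (Nat.ble (nat_lit 680) i)) (@Bool.rec (fun _ => ℕ) (@Bool.rec (fun _ => ℕ) (@Bool.rec (fun _ => ℕ) (@Bool.rec (fun _ => ℕ) fb688 fb689 (Nat.ble (nat_lit 689) i)) (@Bool.rec (fun _ => ℕ) fb690 fb691 (Nat.ble (nat_lit 691) i)) (Nat.ble (nat_lit 690) i)) (@Bool.rec (fun _ => ℕ) (@Bool.rec (fun _ => ℕ) fb692 fb693 (Nat.ble (nat_lit 693) i)) (@Bool.rec (fun _ =>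 ℕ) fb694 fb695 (Nat.ble (nat_lit 695) i)) (Nat.ble (nat_lit 694) i)) (Nat.ble (nat_lit 692) i)) (@Bool.rec (fun _ => ℕ) (@Bool.rec (fun _ => ℕ) (@Bool.rec (fun _ => ℕ) fb696 fb697 (Nat.ble (nat_lit 697) i)) (@Bool.rec (fun _ => ℕ) fb698 fb699 (Nat.ble (nat_lit 699) i)) (Nat.ble (nat_lit 698) i)) (@Bool.rec (fun _ => ℕ) (@Bool.rec (fun _ => ℕ) fb700 fb701 (Nat.ble (nat_lit 701) i)) (@Bool.rec (fun _ => ℕ) fb702 fb703 (Nat.ble (nat_lit 703) i)) (Nat.ble (nat_lit 702) i)) (Nat.ble (nat_lit 700) i)) (Nat.ble (nat_lit 696) i)) (Nat.ble (nat_lit 688) i))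

def factBlk_n0_22 (i : ℕ) : ℕ := (@Bool.rec (fun _ => ℕ) (@Bool.rec (fun _ => ℕ) (@Bool.rec (fun _ => ℕ) (@Bool.rec (fun _ => ℕ) (@Bool.rec (fun _ => ℕ) fb704 fb705 (Nat.ble (nat_lit 705) i)) (@Bool.rec (fun _ => ℕ) fb706 fb707 (Nat.ble (nat_lit 707) i)) (Nat.ble (nat_lit 706) i)) (@Bool.rec (fun _ => ℕ) (@Bool.rec (fun _ => ℕ) fb708 fb709 (Nat.ble (nat_lit 709) i)) (@Bool.rec (fun _ => ℕ) fb710 fb711 (Nat.ble (nat_lit 711) i)) (Nat.ble (nat_lit 710) i)) (Nat.ble (nat_lit 708) i)) (@Bool.rec (fun _ => ℕ) (@Bool.rec (fun _ => ℕ) (@Bool.rec (fun _ => ℕ) fb712 fb713 (Nat.ble (nat_lit 713) i)) (@Bool.rec (fun _ => ℕ) fb714 fb715 (Nat.ble (nat_lit 715) i)) (Nat.ble (nat_lit 714) i)) (@Bool.rec (fun _ => ℕ) (@Bool.rec (fun _ => ℕ) fb716 fb717 (Nat.ble (nat_lit 717) i)) (@Bool.rec (fun _ => ℕ) fb718 fb719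 (Nat.ble (nat_lit 719) i)) (Nat.ble (nat_lit 718) i)) (Nat.ble (nat_lit 716) i)) (Nat.ble (nat_lit 712) i)) (@Bool.rec (fun _ => ℕ) (@Bool.rec (fun _ => ℕ) (@Bool.rec (fun _ => ℕ) (@Bool.rec (fun _ => ℕ) fb720 fb721 (Nat.ble (nat_lit 721) i)) (@Bool.rec (fun _ => ℕ) fb722 fb723 (Nat.ble (nat_lit 723) i)) (Nat.ble (nat_lit 722) i)) (@Bool.rec (fun _ => ℕ) (@Bool.rec (fun _ => ℕ) fb724 fb725 (Nat.ble (nat_lit 725) i)) (@Bool.rec (fun _ => ℕ) fb726 fb727 (Nat.ble (nat_lit 727) i)) (Nat.ble (nat_lit 726) i)) (Nat.ble (nat_lit 724) i)) (@Bool.rec (fun _ => ℕ) (@Bool.rec (fun _ => ℕ) (@Bool.rec (fun _ => ℕ) fb728 fb729 (Nat.ble (nat_lit 729) i)) (@Bool.rec (fun _ => ℕ) fb730 fb731 (Nat.ble (nat_lit 731) i)) (Nat.ble (nat_lit 730) i)) (@Bool.rec (fun _ => ℕ) (@Bool.rec (fun _ => ℕ) fb732 fb733 (Nat.ble (nat_lit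 733) i)) (@Bool.rec (fun _ => ℕ) fb734 fb735 (Nat.ble (nat_lit 735) i)) (Nat.ble (nat_lit 734) i)) (Nat.ble (nat_lit 732) i)) (Nat.ble (nat_lit 728) i)) (Nat.ble (nat_lit 720) i))

def factBlk_n0_23 (i : ℕ) : ℕ := (@Bool.rec (fun _ => ℕ) (@Bool.rec (fun _ => ℕ) (@Bool.rec (fun _ => ℕ) (@Bool.rec (fun _ => ℕ) (@Bool.rec (fun _ => ℕ) fb736 fb737 (Nat.ble (nat_lit 737) i)) (@Bool.rec (fun _ => ℕ) fb738 fb739 (Nat.ble (nat_lit 739) i)) (Nat.ble (nat_lit 738) i)) (@Bool.rec (fun _ => ℕ) (@Bool.rec (fun _ => ℕ) fb740 fb741 (Nat.ble (nat_lit 741) i)) (@Bool.rec (fun _ => ℕ) fb742 fb743 (Nat.ble (nat_lit 743) i)) (Nat.ble (nat_lit 742) i)) (Nat.ble (nat_lit 740) i)) (@Bool.rec (fun _ => ℕ) (@Bool.rec (fun _ => ℕ) (@Bool.rec (fun _ => ℕ) fb744 fb745 (Nat.ble (nat_lit 745) i)) (@Bool.rec (fun _ => ℕ) fb746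 fb747 (Nat.ble (nat_lit 747) i)) (Nat.ble (nat_lit 746) i)) (@Bool.rec (fun _ => ℕ) (@Bool.rec (fun _ => ℕ) fb748 fb749 (Nat.ble (nat_lit 749) i)) (@Bool.rec (fun _ => ℕ) fb750 fb751 (Nat.ble (nat_lit 751) i)) (Nat.ble (nat_lit 750) i)) (Nat.ble (nat_lit 748) i)) (Nat.ble (nat_lit 744) i)) (@Bool.rec (fun _ => ℕ) (@Bool.rec (fun _ => ℕ) (@Bool.rec (fun _ => ℕ) (@Bool.rec (fun _ => ℕ) fb752 fb753 (Nat.ble (nat_lit 753) i)) (@Bool.rec (fun _ => ℕ) fb754 fb755 (Nat.ble (nat_lit 755) i)) (Nat.ble (nat_lit 754) i)) (@Bool.rec (fun _ => ℕ) (@Bool.rec (fun _ => ℕ) fb756 fb757 (Nat.ble (nat_lit 757) i)) (@Bool.rec (fun _ => ℕ) fb758 fb759 (Nat.ble (nat_lit 759) i)) (Nat.ble (nat_lit 758) i)) (Nat.ble (nat_lit 756) i)) (@Bool.rec (fun _ => ℕ) (@Bool.rec (fun _ => ℕ) (@Bool.rec (fun _ => ℕ) fb760 fb761 (Nat.ble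 (nat_lit 761) i)) (@Bool.rec (fun _ => ℕ) fb762 fb763 (Nat.ble (nat_lit 763) i)) (Nat.ble (nat_lit 762) i)) (@Bool.rec (fun _ => ℕ) (@Bool.rec (fun _ => ℕ) fb764 fb765 (Nat.ble (nat_lit 765) i)) (@Bool.rec (fun _ => ℕ) fb766 fb767 (Nat.ble (nat_lit 767) i)) (Nat.ble (nat_lit 766) i)) (Nat.ble (nat_lit 764) i)) (Nat.ble (nat_lit 760) i)) (Nat.ble (nat_lit 752) i))

def factBlk_n0_24 (i : ℕ) : ℕ := (@Bool.rec (fun _ => ℕ) (@Bool.rec (fun _ => ℕ) (@Bool.rec (fun _ => ℕ) (@Bool.rec (fun _ => ℕ) (@Bool.rec (fun _ => ℕ) fb768 fb769 (Nat.ble (nat_lit 769) i)) (@Bool.rec (fun _ => ℕ) fb770 fb771 (Nat.ble (nat_lit 771) i)) (Nat.ble (nat_lit 770) i)) (@Bool.rec (fun _ => ℕ) (@Bool.rec (fun _ => ℕ) fb772 fb773 (Nat.ble (nat_lit 773) i)) (@Bool.rec (fun _ => ℕ) fb774 fb775 (Nat.ble (nat_lit 775) i)) (Nat.ble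 (nat_lit 774) i)) (Nat.ble (nat_lit 772) i)) (@Bool.rec (fun _ => ℕ) (@Bool.rec (fun _ => ℕ) (@Bool.rec (fun _ => ℕ) fb776 fb777 (Nat.ble (nat_lit 777) i)) (@Bool.rec (fun _ => ℕ) fb778 fb779 (Nat.ble (nat_lit 779) i)) (Nat.ble (nat_lit 778) i)) (@Bool.rec (fun _ => ℕ) (@Bool.rec (fun _ => ℕ) fb780 fb781 (Nat.ble (nat_lit 781) i)) (@Bool.rec (fun _ => ℕ) fb782 fb783 (Nat.ble (nat_lit 783) i)) (Nat.ble (nat_lit 782) i)) (Nat.ble (nat_lit 780) i)) (Nat.ble (nat_lit 776) i)) (@Bool.rec (fun _ => ℕ) (@Bool.rec (fun _ => ℕ) (@Bool.rec (fun _ => ℕ) (@Bool.rec (fun _ => ℕ) fb784 fb785 (Nat.ble (nat_lit 785) i)) (@Bool.rec (fun _ => ℕ) fb786 fb787 (Nat.ble (nat_lit 787) i)) (Nat.ble (nat_lit 786) i)) (@Bool.rec (fun _ => ℕ) (@Bool.rec (fun _ => ℕ) fb788 fb789 (Nat.ble (nat_lit 789) i)) (@Bool.rec (fun _ =>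 ℕ) fb790 fb791 (Nat.ble (nat_lit 791) i)) (Nat.ble (nat_lit 790) i)) (Nat.ble (nat_lit 788) i)) (@Bool.rec (fun _ => ℕ) (@Bool.rec (fun _ => ℕ) (@Bool.rec (fun _ => ℕ) fb792 fb793 (Nat.ble (nat_lit 793) i)) (@Bool.rec (fun _ => ℕ) fb794 fb795 (Nat.ble (nat_lit 795) i)) (Nat.ble (nat_lit 794) i)) (@Bool.rec (fun _ => ℕ) (@Bool.rec (fun _ => ℕ) fb796 fb797 (Nat.ble (nat_lit 797) i)) (@Bool.rec (fun _ => ℕ) fb798 fb799 (Nat.ble (nat_lit 799) i)) (Nat.ble (nat_lit 798) i)) (Nat.ble (nat_lit 796) i)) (Nat.ble (nat_lit 792) i)) (Nat.ble (nat_lit 784) i))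

def factBlk_n0_25 (i : ℕ) : ℕ := (@Bool.rec (fun _ => ℕ) (@Bool.rec (fun _ => ℕ) (@Bool.rec (fun _ => ℕ) (@Bool.rec (fun _ => ℕ) fb800 fb801 (Nat.ble (nat_lit 801) i)) (@Bool.rec (fun _ => ℕ) fb802 fb803 (Nat.ble (nat_lit 803) i)) (Nat.ble (nat_lit 802) i)) (@Bool.rec (fun _ => ℕ) (@Bool.rec (fun _ => ℕ) fb804 fb805 (Nat.ble (nat_lit 805) i)) (@Bool.rec (fun _ => ℕ) fb806 (@Bool.rec (fun _ => ℕ) fb807 fb808 (Nat.ble (nat_lit 808) i)) (Nat.ble (nat_lit 807) i)) (Nat.ble (nat_lit 806) i)) (Nat.ble (nat_lit 804) i)) (@Bool.rec (fun _ => ℕ) (@Bool.rec (fun _ => ℕ) (@Bool.rec (fun _ => ℕ) fb809 fb810 (Nat.ble (nat_lit 810) i)) (@Bool.rec (fun _ => ℕ) fb811 fb812 (Nat.ble (nat_lit 812) i)) (Nat.ble (nat_lit 811) i)) (@Bool.rec (fun _ => ℕ) (@Bool.rec (fun _ => ℕ) fb813 fb814 (Nat.ble (nat_lit 814) i))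 (@Bool.rec (fun _ => ℕ) fb815 (@Bool.rec (fun _ => ℕ) fb816 fb817 (Nat.ble (nat_lit 817) i)) (Nat.ble (nat_lit 816) i)) (Nat.ble (nat_lit 815) i)) (Nat.ble (nat_lit 813) i)) (Nat.ble (nat_lit 809) i))

def factBlk (i : ℕ) : ℕ := (@Bool.rec (fun _ => ℕ) (@Bool.rec (fun _ => ℕ) (@Bool.rec (fun _ => ℕ) (@Bool.rec (fun _ => ℕ) (factBlk_n0_0 i) (@Bool.rec (fun _ => ℕ) (factBlk_n0_1 i) (factBlk_n0_2 i) (Nat.ble (nat_lit 64) i)) (Nat.ble (nat_lit 32) i)) (@Bool.rec (fun _ => ℕ) (factBlk_n0_3 i) (@Bool.rec (fun _ => ℕ) (factBlk_n0_4 i) (factBlk_n0_5 i) (Nat.ble (nat_lit 160) i)) (Nat.ble (nat_lit 128) i)) (Nat.ble (nat_lit 96) i)) (@Bool.rec (fun _ => ℕ) (@Bool.rec (fun _ => ℕ) (factBlk_n0_6 i) (@Bool.rec (fun _ => ℕ) (factBlk_n0_7 i) (factBlk_n0_8 i) (Nat.ble (nat_lit 256) i)) (Nat.ble (nat_lit 224) i))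 (@Bool.rec (fun _ => ℕ) (@Bool.rec (fun _ => ℕ) (factBlk_n0_9 i) (factBlk_n0_10 i) (Nat.ble (nat_lit 320) i)) (@Bool.rec (fun _ => ℕ) (factBlk_n0_11 i) (factBlk_n0_12 i) (Nat.ble (nat_lit 384) i)) (Nat.ble (nat_lit 352) i)) (Nat.ble (nat_lit 288) i)) (Nat.ble (nat_lit 192) i)) (@Bool.rec (fun _ => ℕ) (@Bool.rec (fun _ => ℕ) (@Bool.rec (fun _ => ℕ) (factBlk_n0_13 i) (@Bool.rec (fun _ => ℕ) (factBlk_n0_14 i) (factBlk_n0_15 i) (Nat.ble (nat_lit 480) i)) (Nat.ble (nat_lit 448) i)) (@Bool.rec (fun _ => ℕ) (factBlk_n0_16 i) (@Bool.rec (fun _ => ℕ) (factBlk_n0_17 i) (factBlk_n0_18 i) (Nat.ble (nat_lit 576) i)) (Nat.ble (nat_lit 544) i)) (Nat.ble (nat_lit 512) i)) (@Bool.rec (fun _ => ℕ) (@Bool.rec (fun _ => ℕ) (factBlk_n0_19 i) (@Bool.rec (fun _ => ℕ) (factBlk_n0_20 i) (factBlk_n0_21 i) (Nat.ble (nat_lit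 672) i)) (Nat.ble (nat_lit 640) i)) (@Bool.rec (fun _ => ℕ) (@Bool.rec (fun _ => ℕ) (factBlk_n0_22 i) (factBlk_n0_23 i) (Nat.ble (nat_lit 736) i)) (@Bool.rec (fun _ => ℕ) (factBlk_n0_24 i) (factBlk_n0_25 i) (Nat.ble (nat_lit 800) i)) (Nat.ble (nat_lit 768) i)) (Nat.ble (nat_lit 704) i)) (Nat.ble (nat_lit 608) i)) (Nat.ble (nat_lit 416) i))

def certBlk_n0_0 (i : ℕ) : ℕ := (@Bool.rec (fun _ => ℕ) (@Bool.rec (fun _ => ℕ) (@Bool.rec (fun _ => ℕ) (@Bool.rec (fun _ => ℕ) (@Bool.rec (fun _ => ℕ) cb0 cb1 (Nat.ble (nat_lit 1) i)) (@Bool.rec (fun _ => ℕ) cb2 cb3 (Nat.ble (nat_lit 3) i)) (Nat.ble (nat_lit 2) i)) (@Bool.rec (fun _ => ℕ) (@Bool.rec (fun _ => ℕ) cb4 cb5 (Nat.ble (nat_lit 5) i)) (@Bool.rec (fun _ => ℕ) cb6 cb7 (Nat.ble (nat_lit 7) i)) (Nat.ble (nat_lit 6) i)) (Nat.ble (nat_lit 4) i)) (@Bool.rec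 (fun _ => ℕ) (@Bool.rec (fun _ => ℕ) (@Bool.rec (fun _ => ℕ) cb8 cb9 (Nat.ble (nat_lit 9) i)) (@Bool.rec (fun _ => ℕ) cb10 cb11 (Nat.ble (nat_lit 11) i)) (Nat.ble (nat_lit 10) i)) (@Bool.rec (fun _ => ℕ) (@Bool.rec (fun _ => ℕ) cb12 cb13 (Nat.ble (nat_lit 13) i)) (@Bool.rec (fun _ => ℕ) cb14 cb15 (Nat.ble (nat_lit 15) i)) (Nat.ble (nat_lit 14) i)) (Nat.ble (nat_lit 12) i)) (Nat.ble (nat_lit 8) i)) (@Bool.rec (fun _ => ℕ) (@Bool.rec (fun _ => ℕ) (@Bool.rec (fun _ => ℕ) (@Bool.rec (fun _ => ℕ) cb16 cb17 (Nat.ble (nat_lit 17) i)) (@Bool.rec (fun _ => ℕ) cb18 cb19 (Nat.ble (nat_lit 19) i)) (Nat.ble (nat_lit 18) i)) (@Bool.rec (fun _ => ℕ) (@Bool.rec (fun _ => ℕ) cb20 cb21 (Nat.ble (nat_lit 21) i)) (@Bool.rec (fun _ => ℕ) cb22 cb23 (Nat.ble (nat_lit 23) i)) (Nat.ble (nat_lit 22) i)) (Nat.ble (nat_lit 20)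 i)) (@Bool.rec (fun _ => ℕ) (@Bool.rec (fun _ => ℕ) (@Bool.rec (fun _ => ℕ) cb24 cb25 (Nat.ble (nat_lit 25) i)) (@Bool.rec (fun _ => ℕ) cb26 cb27 (Nat.ble (nat_lit 27) i)) (Nat.ble (nat_lit 26) i)) (@Bool.rec (fun _ => ℕ) (@Bool.rec (fun _ => ℕ) cb28 cb29 (Nat.ble (nat_lit 29) i)) (@Bool.rec (fun _ => ℕ) cb30 cb31 (Nat.ble (nat_lit 31) i)) (Nat.ble (nat_lit 30) i)) (Nat.ble (nat_lit 28) i)) (Nat.ble (nat_lit 24) i)) (Nat.ble (nat_lit 16) i))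

def certBlk_n0_1 (i : ℕ) : ℕ := (@Bool.rec (fun _ => ℕ) (@Bool.rec (fun _ => ℕ) (@Bool.rec (fun _ => ℕ) (@Bool.rec (fun _ => ℕ) (@Bool.rec (fun _ => ℕ) cb32 cb33 (Nat.ble (nat_lit 33) i)) (@Bool.rec (fun _ => ℕ) cb34 cb35 (Nat.ble (nat_lit 35) i)) (Nat.ble (nat_lit 34) i)) (@Bool.rec (fun _ => ℕ) (@Bool.rec (fun _ => ℕ) cb36 cb37 (Nat.ble (nat_lit 37) i)) (@Bool.rec (fun _ => ℕ) cb38 cb39 (Nat.ble (nat_lit 39) i)) (Nat.ble (nat_lit 38) i)) (Nat.ble (nat_lit 36) i)) (@Bool.rec (fun _ => ℕ) (@Bool.rec (fun _ => ℕ) (@Bool.rec (fun _ => ℕ) cb40 cb41 (Nat.ble (nat_lit 41) i)) (@Bool.rec (fun _ => ℕ) cb42 cb43 (Nat.ble (nat_lit 43) i)) (Nat.ble (nat_lit 42) i)) (@Bool.rec (fun _ => ℕ) (@Bool.rec (fun _ => ℕ) cb44 cb45 (Nat.ble (nat_lit 45) i)) (@Bool.rec (fun _ => ℕ) cb46 cb47 (Nat.ble (nat_lit 47) i))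 (Nat.ble (nat_lit 46) i)) (Nat.ble (nat_lit 44) i)) (Nat.ble (nat_lit 40) i)) (@Bool.rec (fun _ => ℕ) (@Bool.rec (fun _ => ℕ) (@Bool.rec (fun _ => ℕ) (@Bool.rec (fun _ => ℕ) cb48 cb49 (Nat.ble (nat_lit 49) i)) (@Bool.rec (fun _ => ℕ) cb50 cb51 (Nat.ble (nat_lit 51) i)) (Nat.ble (nat_lit 50) i)) (@Bool.rec (fun _ => ℕ) (@Bool.rec (fun _ => ℕ) cb52 cb53 (Nat.ble (nat_lit 53) i)) (@Bool.rec (fun _ => ℕ) cb54 cb55 (Nat.ble (nat_lit 55) i)) (Nat.ble (nat_lit 54) i)) (Nat.ble (nat_lit 52) i)) (@Bool.rec (fun _ => ℕ) (@Bool.rec (fun _ => ℕ) (@Bool.rec (fun _ => ℕ) cb56 cb57 (Nat.ble (nat_lit 57) i)) (@Bool.rec (fun _ => ℕ) cb58 cb59 (Nat.ble (nat_lit 59) i)) (Nat.ble (nat_lit 58) i)) (@Bool.rec (fun _ => ℕ) (@Bool.rec (fun _ => ℕ) cb60 cb61 (Nat.ble (nat_lit 61) i)) (@Bool.rec (fun _ => ℕ) cb62 cb63 (Nat.ble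 (nat_lit 63) i)) (Nat.ble (nat_lit 62) i)) (Nat.ble (nat_lit 60) i)) (Nat.ble (nat_lit 56) i)) (Nat.ble (nat_lit 48) i))

def certBlk_n0_2 (i : ℕ) : ℕ := (@Bool.rec (fun _ => ℕ) (@Bool.rec (fun _ => ℕ) (@Bool.rec (fun _ => ℕ) (@Bool.rec (fun _ => ℕ) (@Bool.rec (fun _ => ℕ) cb64 cb65 (Nat.ble (nat_lit 65) i)) (@Bool.rec (fun _ => ℕ) cb66 cb67 (Nat.ble (nat_lit 67) i)) (Nat.ble (nat_lit 66) i)) (@Bool.rec (fun _ => ℕ) (@Bool.rec (fun _ => ℕ) cb68 cb69 (Nat.ble (nat_lit 69) i)) (@Bool.rec (fun _ => ℕ) cb70 cb71 (Nat.ble (nat_lit 71) i)) (Nat.ble (nat_lit 70) i)) (Nat.ble (nat_lit 68) i)) (@Bool.rec (fun _ => ℕ) (@Bool.rec (fun _ => ℕ) (@Bool.rec (fun _ => ℕ) cb72 cb73 (Nat.ble (nat_lit 73) i)) (@Bool.rec (fun _ => ℕ) cb74 cb75 (Nat.ble (nat_lit 75) i)) (Nat.ble (nat_lit 74) i)) (@Bool.rec (fun _ => ℕ)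 (@Bool.rec (fun _ => ℕ) cb76 cb77 (Nat.ble (nat_lit 77) i)) (@Bool.rec (fun _ => ℕ) cb78 cb79 (Nat.ble (nat_lit 79) i)) (Nat.ble (nat_lit 78) i)) (Nat.ble (nat_lit 76) i)) (Nat.ble (nat_lit 72) i)) (@Bool.rec (fun _ => ℕ) (@Bool.rec (fun _ => ℕ) (@Bool.rec (fun _ => ℕ) (@Bool.rec (fun _ => ℕ) cb80 cb81 (Nat.ble (nat_lit 81) i)) (@Bool.rec (fun _ => ℕ) cb82 cb83 (Nat.ble (nat_lit 83) i)) (Nat.ble (nat_lit 82) i)) (@Bool.rec (fun _ => ℕ) (@Bool.rec (fun _ => ℕ) cb84 cb85 (Nat.ble (nat_lit 85) i)) (@Bool.rec (fun _ => ℕ) cb86 cb87 (Nat.ble (nat_lit 87) i)) (Nat.ble (nat_lit 86) i)) (Nat.ble (nat_lit 84) i)) (@Bool.rec (fun _ => ℕ) (@Bool.rec (fun _ => ℕ) (@Bool.rec (fun _ => ℕ) cb88 cb89 (Nat.ble (nat_lit 89) i)) (@Bool.rec (fun _ => ℕ) cb90 cb91 (Nat.ble (nat_lit 91) i)) (Nat.ble (nat_lit 90) i)) (@Bool.rec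 (fun _ => ℕ) (@Bool.rec (fun _ => ℕ) cb92 cb93 (Nat.ble (nat_lit 93) i)) (@Bool.rec (fun _ => ℕ) cb94 cb95 (Nat.ble (nat_lit 95) i)) (Nat.ble (nat_lit 94) i)) (Nat.ble (nat_lit 92) i)) (Nat.ble (nat_lit 88) i)) (Nat.ble (nat_lit 80) i))

def certBlk_n0_3 (i : ℕ) : ℕ := (@Bool.rec (fun _ => ℕ) (@Bool.rec (fun _ => ℕ) (@Bool.rec (fun _ => ℕ) (@Bool.rec (fun _ => ℕ) (@Bool.rec (fun _ => ℕ) cb96 cb97 (Nat.ble (nat_lit 97) i)) (@Bool.rec (fun _ => ℕ) cb98 cb99 (Nat.ble (nat_lit 99) i)) (Nat.ble (nat_lit 98) i)) (@Bool.rec (fun _ => ℕ) (@Bool.rec (fun _ => ℕ) cb100 cb101 (Nat.ble (nat_lit 101) i)) (@Bool.rec (fun _ => ℕ) cb102 cb103 (Nat.ble (nat_lit 103) i)) (Nat.ble (nat_lit 102) i)) (Nat.ble (nat_lit 100) i)) (@Bool.rec (fun _ => ℕ) (@Bool.rec (fun _ => ℕ) (@Bool.rec (fun _ => ℕ) cb104 cb105 (Nat.ble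 (nat_lit 105) i)) (@Bool.rec (fun _ => ℕ) cb106 cb107 (Nat.ble (nat_lit 107) i)) (Nat.ble (nat_lit 106) i)) (@Bool.rec (fun _ => ℕ) (@Bool.rec (fun _ => ℕ) cb108 cb109 (Nat.ble (nat_lit 109) i)) (@Bool.rec (fun _ => ℕ) cb110 cb111 (Nat.ble (nat_lit 111) i)) (Nat.ble (nat_lit 110) i)) (Nat.ble (nat_lit 108) i)) (Nat.ble (nat_lit 104) i)) (@Bool.rec (fun _ => ℕ) (@Bool.rec (fun _ => ℕ) (@Bool.rec (fun _ => ℕ) (@Bool.rec (fun _ => ℕ) cb112 cb113 (Nat.ble (nat_lit 113) i)) (@Bool.rec (fun _ => ℕ) cb114 cb115 (Nat.ble (nat_lit 115) i)) (Nat.ble (nat_lit 114) i)) (@Bool.rec (fun _ => ℕ) (@Bool.rec (fun _ => ℕ) cb116 cb117 (Nat.ble (nat_lit 117) i)) (@Bool.rec (fun _ => ℕ) cb118 cb119 (Nat.ble (nat_lit 119) i)) (Nat.ble (nat_lit 118) i)) (Nat.ble (nat_lit 116) i)) (@Bool.rec (fun _ => ℕ) (@Bool.rec (fun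 _ => ℕ) (@Bool.rec (fun _ => ℕ) cb120 cb121 (Nat.ble (nat_lit 121) i)) (@Bool.rec (fun _ => ℕ) cb122 cb123 (Nat.ble (nat_lit 123) i)) (Nat.ble (nat_lit 122) i)) (@Bool.rec (fun _ => ℕ) (@Bool.rec (fun _ => ℕ) cb124 cb125 (Nat.ble (nat_lit 125) i)) (@Bool.rec (fun _ => ℕ) cb126 cb127 (Nat.ble (nat_lit 127) i)) (Nat.ble (nat_lit 126) i)) (Nat.ble (nat_lit 124) i)) (Nat.ble (nat_lit 120) i)) (Nat.ble (nat_lit 112) i))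

def certBlk_n0_4 (i : ℕ) : ℕ := (@Bool.rec (fun _ => ℕ) (@Bool.rec (fun _ => ℕ) (@Bool.rec (fun _ => ℕ) (@Bool.rec (fun _ => ℕ) (@Bool.rec (fun _ => ℕ) cb128 cb129 (Nat.ble (nat_lit 129) i)) (@Bool.rec (fun _ => ℕ) cb130 cb131 (Nat.ble (nat_lit 131) i)) (Nat.ble (nat_lit 130) i)) (@Bool.rec (fun _ => ℕ) (@Bool.rec (fun _ => ℕ) cb132 cb133 (Nat.ble (nat_lit 133) i)) (@Bool.rec (fun _ => ℕ) cb134 cb135 (Nat.ble (nat_lit 135) i)) (Nat.ble (nat_lit 134) i)) (Nat.ble (nat_lit 132) i)) (@Bool.rec (fun _ => ℕ) (@Bool.rec (fun _ => ℕ) (@Bool.rec (fun _ => ℕ) cb136 cb137 (Nat.ble (nat_lit 137) i)) (@Bool.rec (fun _ => ℕ) cb138 cb139 (Nat.ble (nat_lit 139) i)) (Nat.ble (nat_lit 138) i)) (@Bool.rec (fun _ => ℕ) (@Bool.rec (fun _ => ℕ) cb140 cb141 (Nat.ble (nat_lit 141) i)) (@Bool.rec (fun _ => ℕ) cb142 cb143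 (Nat.ble (nat_lit 143) i)) (Nat.ble (nat_lit 142) i)) (Nat.ble (nat_lit 140) i)) (Nat.ble (nat_lit 136) i)) (@Bool.rec (fun _ => ℕ) (@Bool.rec (fun _ => ℕ) (@Bool.rec (fun _ => ℕ) (@Bool.rec (fun _ => ℕ) cb144 cb145 (Nat.ble (nat_lit 145) i)) (@Bool.rec (fun _ => ℕ) cb146 cb147 (Nat.ble (nat_lit 147) i)) (Nat.ble (nat_lit 146) i)) (@Bool.rec (fun _ => ℕ) (@Bool.rec (fun _ => ℕ) cb148 cb149 (Nat.ble (nat_lit 149) i)) (@Bool.rec (fun _ => ℕ) cb150 cb151 (Nat.ble (nat_lit 151) i)) (Nat.ble (nat_lit 150) i)) (Nat.ble (nat_lit 148) i)) (@Bool.rec (fun _ => ℕ) (@Bool.rec (fun _ => ℕ) (@Bool.rec (fun _ => ℕ) cb152 cb153 (Nat.ble (nat_lit 153) i)) (@Bool.rec (fun _ => ℕ) cb154 cb155 (Nat.ble (nat_lit 155) i)) (Nat.ble (nat_lit 154) i)) (@Bool.rec (fun _ => ℕ) (@Bool.rec (fun _ => ℕ) cb156 cb157 (Nat.ble (nat_lit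 157) i)) (@Bool.rec (fun _ => ℕ) cb158 cb159 (Nat.ble (nat_lit 159) i)) (Nat.ble (nat_lit 158) i)) (Nat.ble (nat_lit 156) i)) (Nat.ble (nat_lit 152) i)) (Nat.ble (nat_lit 144) i))

def certBlk_n0_5 (i : ℕ) : ℕ := (@Bool.rec (fun _ => ℕ) (@Bool.rec (fun _ => ℕ) (@Bool.rec (fun _ => ℕ) (@Bool.rec (fun _ => ℕ) (@Bool.rec (fun _ => ℕ) cb160 cb161 (Nat.ble (nat_lit 161) i)) (@Bool.rec (fun _ => ℕ) cb162 cb163 (Nat.ble (nat_lit 163) i)) (Nat.ble (nat_lit 162) i)) (@Bool.rec (fun _ => ℕ) (@Bool.rec (fun _ => ℕ) cb164 cb165 (Nat.ble (nat_lit 165) i)) (@Bool.rec (fun _ => ℕ) cb166 cb167 (Nat.ble (nat_lit 167) i)) (Nat.ble (nat_lit 166) i)) (Nat.ble (nat_lit 164) i)) (@Bool.rec (fun _ => ℕ) (@Bool.rec (fun _ => ℕ) (@Bool.rec (fun _ => ℕ) cb168 cb169 (Nat.ble (nat_lit 169) i)) (@Bool.rec (fun _ => ℕ) cb170 cb171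 (Nat.ble (nat_lit 171) i)) (Nat.ble (nat_lit 170) i)) (@Bool.rec (fun _ => ℕ) (@Bool.rec (fun _ => ℕ) cb172 cb173 (Nat.ble (nat_lit 173) i)) (@Bool.rec (fun _ => ℕ) cb174 cb175 (Nat.ble (nat_lit 175) i)) (Nat.ble (nat_lit 174) i)) (Nat.ble (nat_lit 172) i)) (Nat.ble (nat_lit 168) i)) (@Bool.rec (fun _ => ℕ) (@Bool.rec (fun _ => ℕ) (@Bool.rec (fun _ => ℕ) (@Bool.rec (fun _ => ℕ) cb176 cb177 (Nat.ble (nat_lit 177) i)) (@Bool.rec (fun _ => ℕ) cb178 cb179 (Nat.ble (nat_lit 179) i)) (Nat.ble (nat_lit 178) i)) (@Bool.rec (fun _ => ℕ) (@Bool.rec (fun _ => ℕ) cb180 cb181 (Nat.ble (nat_lit 181) i)) (@Bool.rec (fun _ => ℕ) cb182 cb183 (Nat.ble (nat_lit 183) i)) (Nat.ble (nat_lit 182) i)) (Nat.ble (nat_lit 180) i)) (@Bool.rec (fun _ => ℕ) (@Bool.rec (fun _ => ℕ) (@Bool.rec (fun _ => ℕ) cb184 cb185 (Nat.ble (nat_lit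 185) i)) (@Bool.rec (fun _ => ℕ) cb186 cb187 (Nat.ble (nat_lit 187) i)) (Nat.ble (nat_lit 186) i)) (@Bool.rec (fun _ => ℕ) (@Bool.rec (fun _ => ℕ) cb188 cb189 (Nat.ble (nat_lit 189) i)) (@Bool.rec (fun _ => ℕ) cb190 cb191 (Nat.ble (nat_lit 191) i)) (Nat.ble (nat_lit 190) i)) (Nat.ble (nat_lit 188) i)) (Nat.ble (nat_lit 184) i)) (Nat.ble (nat_lit 176) i))

def certBlk_n0_6 (i : ℕ) : ℕ := (@Bool.rec (fun _ => ℕ) (@Bool.rec (fun _ => ℕ) (@Bool.rec (fun _ => ℕ) (@Bool.rec (fun _ => ℕ) (@Bool.rec (fun _ => ℕ) cb192 cb193 (Nat.ble (nat_lit 193) i)) (@Bool.rec (fun _ => ℕ) cb194 cb195 (Nat.ble (nat_lit 195) i)) (Nat.ble (nat_lit 194) i)) (@Bool.rec (fun _ => ℕ) (@Bool.rec (fun _ => ℕ) cb196 cb197 (Nat.ble (nat_lit 197) i)) (@Bool.rec (fun _ => ℕ) cb198 cb199 (Nat.ble (nat_lit 199) i)) (Nat.ble (nat_lit 198)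 i)) (Nat.ble (nat_lit 196) i)) (@Bool.rec (fun _ => ℕ) (@Bool.rec (fun _ => ℕ) (@Bool.rec (fun _ => ℕ) cb200 cb201 (Nat.ble (nat_lit 201) i)) (@Bool.rec (fun _ => ℕ) cb202 cb203 (Nat.ble (nat_lit 203) i)) (Nat.ble (nat_lit 202) i)) (@Bool.rec (fun _ => ℕ) (@Bool.rec (fun _ => ℕ) cb204 cb205 (Nat.ble (nat_lit 205) i)) (@Bool.rec (fun _ => ℕ) cb206 cb207 (Nat.ble (nat_lit 207) i)) (Nat.ble (nat_lit 206) i)) (Nat.ble (nat_lit 204) i)) (Nat.ble (nat_lit 200) i)) (@Bool.rec (fun _ => ℕ) (@Bool.rec (fun _ => ℕ) (@Bool.rec (fun _ => ℕ) (@Bool.rec (fun _ => ℕ) cb208 cb209 (Nat.ble (nat_lit 209) i)) (@Bool.rec (fun _ => ℕ) cb210 cb211 (Nat.ble (nat_lit 211) i)) (Nat.ble (nat_lit 210) i)) (@Bool.rec (fun _ => ℕ) (@Bool.rec (fun _ => ℕ) cb212 cb213 (Nat.ble (nat_lit 213) i)) (@Bool.rec (fun _ => ℕ) cb214 cb215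 (Nat.ble (nat_lit 215) i)) (Nat.ble (nat_lit 214) i)) (Nat.ble (nat_lit 212) i)) (@Bool.rec (fun _ => ℕ) (@Bool.rec (fun _ => ℕ) (@Bool.rec (fun _ => ℕ) cb216 cb217 (Nat.ble (nat_lit 217) i)) (@Bool.rec (fun _ => ℕ) cb218 cb219 (Nat.ble (nat_lit 219) i)) (Nat.ble (nat_lit 218) i)) (@Bool.rec (fun _ => ℕ) (@Bool.rec (fun _ => ℕ) cb220 cb221 (Nat.ble (nat_lit 221) i)) (@Bool.rec (fun _ => ℕ) cb222 cb223 (Nat.ble (nat_lit 223) i)) (Nat.ble (nat_lit 222) i)) (Nat.ble (nat_lit 220) i)) (Nat.ble (nat_lit 216) i)) (Nat.ble (nat_lit 208) i))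

def certBlk_n0_7 (i : ℕ) : ℕ := (@Bool.rec (fun _ => ℕ) (@Bool.rec (fun _ => ℕ) (@Bool.rec (fun _ => ℕ) (@Bool.rec (fun _ => ℕ) (@Bool.rec (fun _ => ℕ) cb224 cb225 (Nat.ble (nat_lit 225) i)) (@Bool.rec (fun _ => ℕ) cb226 cb227 (Nat.ble (nat_lit 227) i)) (Nat.ble (nat_lit 226) i)) (@Bool.rec (fun _ => ℕ) (@Bool.rec (fun _ => ℕ) cb228 cb229 (Nat.ble (nat_lit 229) i)) (@Bool.rec (fun _ => ℕ) cb230 cb231 (Nat.ble (nat_lit 231) i)) (Nat.ble (nat_lit 230) i)) (Nat.ble (nat_lit 228) i)) (@Bool.rec (fun _ => ℕ) (@Bool.rec (fun _ => ℕ) (@Bool.rec (fun _ => ℕ) cb232 cb233 (Nat.ble (nat_lit 233) i)) (@Bool.rec (fun _ => ℕ) cb234 cb235 (Nat.ble (nat_lit 235) i)) (Nat.ble (nat_lit 234) i)) (@Bool.rec (fun _ => ℕ) (@Bool.rec (fun _ => ℕ) cb236 cb237 (Nat.ble (nat_lit 237) i)) (@Bool.rec (fun _ => ℕ) cb238 cb239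 (Nat.ble (nat_lit 239) i)) (Nat.ble (nat_lit 238) i)) (Nat.ble (nat_lit 236) i)) (Nat.ble (nat_lit 232) i)) (@Bool.rec (fun _ => ℕ) (@Bool.rec (fun _ => ℕ) (@Bool.rec (fun _ => ℕ) (@Bool.rec (fun _ => ℕ) cb240 cb241 (Nat.ble (nat_lit 241) i)) (@Bool.rec (fun _ => ℕ) cb242 cb243 (Nat.ble (nat_lit 243) i)) (Nat.ble (nat_lit 242) i)) (@Bool.rec (fun _ => ℕ) (@Bool.rec (fun _ => ℕ) cb244 cb245 (Nat.ble (nat_lit 245) i)) (@Bool.rec (fun _ => ℕ) cb246 cb247 (Nat.ble (nat_lit 247) i)) (Nat.ble (nat_lit 246) i)) (Nat.ble (nat_lit 244) i)) (@Bool.rec (fun _ => ℕ) (@Bool.rec (fun _ => ℕ) (@Bool.rec (fun _ => ℕ) cb248 cb249 (Nat.ble (nat_lit 249) i)) (@Bool.rec (fun _ => ℕ) cb250 cb251 (Nat.ble (nat_lit 251) i)) (Nat.ble (nat_lit 250) i)) (@Bool.rec (fun _ => ℕ) (@Bool.rec (fun _ => ℕ) cb252 cb253 (Nat.ble (nat_lit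 253) i)) (@Bool.rec (fun _ => ℕ) cb254 cb255 (Nat.ble (nat_lit 255) i)) (Nat.ble (nat_lit 254) i)) (Nat.ble (nat_lit 252) i)) (Nat.ble (nat_lit 248) i)) (Nat.ble (nat_lit 240) i))

def certBlk_n0_8 (i : ℕ) : ℕ := (@Bool.rec (fun _ => ℕ) (@Bool.rec (fun _ => ℕ) (@Bool.rec (fun _ => ℕ) (@Bool.rec (fun _ => ℕ) (@Bool.rec (fun _ => ℕ) cb256 cb257 (Nat.ble (nat_lit 257) i)) (@Bool.rec (fun _ => ℕ) cb258 cb259 (Nat.ble (nat_lit 259) i)) (Nat.ble (nat_lit 258) i)) (@Bool.rec (fun _ => ℕ) (@Bool.rec (fun _ => ℕ) cb260 cb261 (Nat.ble (nat_lit 261) i)) (@Bool.rec (fun _ => ℕ) cb262 cb263 (Nat.ble (nat_lit 263) i)) (Nat.ble (nat_lit 262) i)) (Nat.ble (nat_lit 260) i)) (@Bool.rec (fun _ => ℕ) (@Bool.rec (fun _ => ℕ) (@Bool.rec (fun _ => ℕ) cb264 cb265 (Nat.ble (nat_lit 265) i)) (@Bool.rec (fun _ => ℕ) cb266 cb267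 (Nat.ble (nat_lit 267) i)) (Nat.ble (nat_lit 266) i)) (@Bool.rec (fun _ => ℕ) (@Bool.rec (fun _ => ℕ) cb268 cb269 (Nat.ble (nat_lit 269) i)) (@Bool.rec (fun _ => ℕ) cb270 cb271 (Nat.ble (nat_lit 271) i)) (Nat.ble (nat_lit 270) i)) (Nat.ble (nat_lit 268) i)) (Nat.ble (nat_lit 264) i)) (@Bool.rec (fun _ => ℕ) (@Bool.rec (fun _ => ℕ) (@Bool.rec (fun _ => ℕ) (@Bool.rec (fun _ => ℕ) cb272 cb273 (Nat.ble (nat_lit 273) i)) (@Bool.rec (fun _ => ℕ) cb274 cb275 (Nat.ble (nat_lit 275) i)) (Nat.ble (nat_lit 274) i)) (@Bool.rec (fun _ => ℕ) (@Bool.rec (fun _ => ℕ) cb276 cb277 (Nat.ble (nat_lit 277) i)) (@Bool.rec (fun _ => ℕ) cb278 cb279 (Nat.ble (nat_lit 279) i)) (Nat.ble (nat_lit 278) i)) (Nat.ble (nat_lit 276) i)) (@Bool.rec (fun _ => ℕ) (@Bool.rec (fun _ => ℕ) (@Bool.rec (fun _ => ℕ) cb280 cb281 (Nat.ble (nat_lit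 281) i)) (@Bool.rec (fun _ => ℕ) cb282 cb283 (Nat.ble (nat_lit 283) i)) (Nat.ble (nat_lit 282) i)) (@Bool.rec (fun _ => ℕ) (@Bool.rec (fun _ => ℕ) cb284 cb285 (Nat.ble (nat_lit 285) i)) (@Bool.rec (fun _ => ℕ) cb286 cb287 (Nat.ble (nat_lit 287) i)) (Nat.ble (nat_lit 286) i)) (Nat.ble (nat_lit 284) i)) (Nat.ble (nat_lit 280) i)) (Nat.ble (nat_lit 272) i))

def certBlk_n0_9 (i : ℕ) : ℕ := (@Bool.rec (fun _ => ℕ) (@Bool.rec (fun _ => ℕ) (@Bool.rec (fun _ => ℕ) (@Bool.rec (fun _ => ℕ) (@Bool.rec (fun _ => ℕ) cb288 cb289 (Nat.ble (nat_lit 289) i)) (@Bool.rec (fun _ => ℕ) cb290 cb291 (Nat.ble (nat_lit 291) i)) (Nat.ble (nat_lit 290) i)) (@Bool.rec (fun _ => ℕ) (@Bool.rec (fun _ => ℕ) cb292 cb293 (Nat.ble (nat_lit 293) i)) (@Bool.rec (fun _ => ℕ) cb294 cb295 (Nat.ble (nat_lit 295) i)) (Nat.ble (nat_lit 294)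 i)) (Nat.ble (nat_lit 292) i)) (@Bool.rec (fun _ => ℕ) (@Bool.rec (fun _ => ℕ) (@Bool.rec (fun _ => ℕ) cb296 cb297 (Nat.ble (nat_lit 297) i)) (@Bool.rec (fun _ => ℕ) cb298 cb299 (Nat.ble (nat_lit 299) i)) (Nat.ble (nat_lit 298) i)) (@Bool.rec (fun _ => ℕ) (@Bool.rec (fun _ => ℕ) cb300 cb301 (Nat.ble (nat_lit 301) i)) (@Bool.rec (fun _ => ℕ) cb302 cb303 (Nat.ble (nat_lit 303) i)) (Nat.ble (nat_lit 302) i)) (Nat.ble (nat_lit 300) i)) (Nat.ble (nat_lit 296) i)) (@Bool.rec (fun _ => ℕ) (@Bool.rec (fun _ => ℕ) (@Bool.rec (fun _ => ℕ) (@Bool.rec (fun _ => ℕ) cb304 cb305 (Nat.ble (nat_lit 305) i)) (@Bool.rec (fun _ => ℕ) cb306 cb307 (Nat.ble (nat_lit 307) i)) (Nat.ble (nat_lit 306) i)) (@Bool.rec (fun _ => ℕ) (@Bool.rec (fun _ => ℕ) cb308 cb309 (Nat.ble (nat_lit 309) i)) (@Bool.rec (fun _ => ℕ) cb310 cb311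 (Nat.ble (nat_lit 311) i)) (Nat.ble (nat_lit 310) i)) (Nat.ble (nat_lit 308) i)) (@Bool.rec (fun _ => ℕ) (@Bool.rec (fun _ => ℕ) (@Bool.rec (fun _ => ℕ) cb312 cb313 (Nat.ble (nat_lit 313) i)) (@Bool.rec (fun _ => ℕ) cb314 cb315 (Nat.ble (nat_lit 315) i)) (Nat.ble (nat_lit 314) i)) (@Bool.rec (fun _ => ℕ) (@Bool.rec (fun _ => ℕ) cb316 cb317 (Nat.ble (nat_lit 317) i)) (@Bool.rec (fun _ => ℕ) cb318 cb319 (Nat.ble (nat_lit 319) i)) (Nat.ble (nat_lit 318) i)) (Nat.ble (nat_lit 316) i)) (Nat.ble (nat_lit 312) i)) (Nat.ble (nat_lit 304) i))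

def certBlk_n0_10 (i : ℕ) : ℕ := (@Bool.rec (fun _ => ℕ) (@Bool.rec (fun _ => ℕ) (@Bool.rec (fun _ => ℕ) (@Bool.rec (fun _ => ℕ) (@Bool.rec (fun _ => ℕ) cb320 cb321 (Nat.ble (nat_lit 321) i)) (@Bool.rec (fun _ => ℕ) cb322 cb323 (Nat.ble (nat_lit 323) i)) (Nat.ble (nat_lit 322) i)) (@Bool.rec (fun _ => ℕ) (@Bool.rec (fun _ => ℕ) cb324 cb325 (Nat.ble (nat_lit 325) i)) (@Bool.rec (fun _ => ℕ) cb326 cb327 (Nat.ble (nat_lit 327) i)) (Nat.ble (nat_lit 326) i)) (Nat.ble (nat_lit 324) i)) (@Bool.rec (fun _ => ℕ) (@Bool.rec (fun _ => ℕ) (@Bool.rec (fun _ => ℕ) cb328 cb329 (Nat.ble (nat_lit 329) i)) (@Bool.rec (fun _ => ℕ) cb330 cb331 (Nat.ble (nat_lit 331) i)) (Nat.ble (nat_lit 330) i)) (@Bool.rec (fun _ => ℕ) (@Bool.rec (fun _ => ℕ) cb332 cb333 (Nat.ble (nat_lit 333) i)) (@Bool.rec (fun _ => ℕ) cb334 cb335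 (Nat.ble (nat_lit 335) i)) (Nat.ble (nat_lit 334) i)) (Nat.ble (nat_lit 332) i)) (Nat.ble (nat_lit 328) i)) (@Bool.rec (fun _ => ℕ) (@Bool.rec (fun _ => ℕ) (@Bool.rec (fun _ => ℕ) (@Bool.rec (fun _ => ℕ) cb336 cb337 (Nat.ble (nat_lit 337) i)) (@Bool.rec (fun _ => ℕ) cb338 cb339 (Nat.ble (nat_lit 339) i)) (Nat.ble (nat_lit 338) i)) (@Bool.rec (fun _ => ℕ) (@Bool.rec (fun _ => ℕ) cb340 cb341 (Nat.ble (nat_lit 341) i)) (@Bool.rec (fun _ => ℕ) cb342 cb343 (Nat.ble (nat_lit 343) i)) (Nat.ble (nat_lit 342) i)) (Nat.ble (nat_lit 340) i)) (@Bool.rec (fun _ => ℕ) (@Bool.rec (fun _ => ℕ) (@Bool.rec (fun _ => ℕ) cb344 cb345 (Nat.ble (nat_lit 345) i)) (@Bool.rec (fun _ => ℕ) cb346 cb347 (Nat.ble (nat_lit 347) i)) (Nat.ble (nat_lit 346) i)) (@Bool.rec (fun _ => ℕ) (@Bool.rec (fun _ => ℕ) cb348 cb349 (Nat.ble (nat_lit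 349) i)) (@Bool.rec (fun _ => ℕ) cb350 cb351 (Nat.ble (nat_lit 351) i)) (Nat.ble (nat_lit 350) i)) (Nat.ble (nat_lit 348) i)) (Nat.ble (nat_lit 344) i)) (Nat.ble (nat_lit 336) i))

def certBlk_n0_11 (i : ℕ) : ℕ := (@Bool.rec (fun _ => ℕ) (@Bool.rec (fun _ => ℕ) (@Bool.rec (fun _ => ℕ) (@Bool.rec (fun _ => ℕ) (@Bool.rec (fun _ => ℕ) cb352 cb353 (Nat.ble (nat_lit 353) i)) (@Bool.rec (fun _ => ℕ) cb354 cb355 (Nat.ble (nat_lit 355) i)) (Nat.ble (nat_lit 354) i)) (@Bool.rec (fun _ => ℕ) (@Bool.rec (fun _ => ℕ) cb356 cb357 (Nat.ble (nat_lit 357) i)) (@Bool.rec (fun _ => ℕ) cb358 cb359 (Nat.ble (nat_lit 359) i)) (Nat.ble (nat_lit 358) i)) (Nat.ble (nat_lit 356) i)) (@Bool.rec (fun _ => ℕ) (@Bool.rec (fun _ => ℕ) (@Bool.rec (fun _ => ℕ) cb360 cb361 (Nat.ble (nat_lit 361) i)) (@Bool.rec (fun _ => ℕ) cb362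 cb363 (Nat.ble (nat_lit 363) i)) (Nat.ble (nat_lit 362) i)) (@Bool.rec (fun _ => ℕ) (@Bool.rec (fun _ => ℕ) cb364 cb365 (Nat.ble (nat_lit 365) i)) (@Bool.rec (fun _ => ℕ) cb366 cb367 (Nat.ble (nat_lit 367) i)) (Nat.ble (nat_lit 366) i)) (Nat.ble (nat_lit 364) i)) (Nat.ble (nat_lit 360) i)) (@Bool.rec (fun _ => ℕ) (@Bool.rec (fun _ => ℕ) (@Bool.rec (fun _ => ℕ) (@Bool.rec (fun _ => ℕ) cb368 cb369 (Nat.ble (nat_lit 369) i)) (@Bool.rec (fun _ => ℕ) cb370 cb371 (Nat.ble (nat_lit 371) i)) (Nat.ble (nat_lit 370) i)) (@Bool.rec (fun _ => ℕ) (@Bool.rec (fun _ => ℕ) cb372 cb373 (Nat.ble (nat_lit 373) i)) (@Bool.rec (fun _ => ℕ) cb374 cb375 (Nat.ble (nat_lit 375) i)) (Nat.ble (nat_lit 374) i)) (Nat.ble (nat_lit 372) i)) (@Bool.rec (fun _ => ℕ) (@Bool.rec (fun _ => ℕ) (@Bool.rec (fun _ => ℕ) cb376 cb377 (Nat.ble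 (nat_lit 377) i)) (@Bool.rec (fun _ => ℕ) cb378 cb379 (Nat.ble (nat_lit 379) i)) (Nat.ble (nat_lit 378) i)) (@Bool.rec (fun _ => ℕ) (@Bool.rec (fun _ => ℕ) cb380 cb381 (Nat.ble (nat_lit 381) i)) (@Bool.rec (fun _ => ℕ) cb382 cb383 (Nat.ble (nat_lit 383) i)) (Nat.ble (nat_lit 382) i)) (Nat.ble (nat_lit 380) i)) (Nat.ble (nat_lit 376) i)) (Nat.ble (nat_lit 368) i))

def certBlk_n0_12 (i : ℕ) : ℕ := (@Bool.rec (fun _ => ℕ) (@Bool.rec (fun _ => ℕ) (@Bool.rec (fun _ => ℕ) (@Bool.rec (fun _ => ℕ) (@Bool.rec (fun _ => ℕ) cb384 cb385 (Nat.ble (nat_lit 385) i)) (@Bool.rec (fun _ => ℕ) cb386 cb387 (Nat.ble (nat_lit 387) i)) (Nat.ble (nat_lit 386) i)) (@Bool.rec (fun _ => ℕ) (@Bool.rec (fun _ => ℕ) cb388 cb389 (Nat.ble (nat_lit 389) i)) (@Bool.rec (fun _ => ℕ) cb390 cb391 (Nat.ble (nat_lit 391) i)) (Nat.ble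 (nat_lit 390) i)) (Nat.ble (nat_lit 388) i)) (@Bool.rec (fun _ => ℕ) (@Bool.rec (fun _ => ℕ) (@Bool.rec (fun _ => ℕ) cb392 cb393 (Nat.ble (nat_lit 393) i)) (@Bool.rec (fun _ => ℕ) cb394 cb395 (Nat.ble (nat_lit 395) i)) (Nat.ble (nat_lit 394) i)) (@Bool.rec (fun _ => ℕ) (@Bool.rec (fun _ => ℕ) cb396 cb397 (Nat.ble (nat_lit 397) i)) (@Bool.rec (fun _ => ℕ) cb398 cb399 (Nat.ble (nat_lit 399) i)) (Nat.ble (nat_lit 398) i)) (Nat.ble (nat_lit 396) i)) (Nat.ble (nat_lit 392) i)) (@Bool.rec (fun _ => ℕ) (@Bool.rec (fun _ => ℕ) (@Bool.rec (fun _ => ℕ) (@Bool.rec (fun _ => ℕ) cb400 cb401 (Nat.ble (nat_lit 401) i)) (@Bool.rec (fun _ => ℕ) cb402 cb403 (Nat.ble (nat_lit 403) i)) (Nat.ble (nat_lit 402) i)) (@Bool.rec (fun _ => ℕ) (@Bool.rec (fun _ => ℕ) cb404 cb405 (Nat.ble (nat_lit 405) i)) (@Bool.rec (fun _ =>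 ℕ) cb406 cb407 (Nat.ble (nat_lit 407) i)) (Nat.ble (nat_lit 406) i)) (Nat.ble (nat_lit 404) i)) (@Bool.rec (fun _ => ℕ) (@Bool.rec (fun _ => ℕ) (@Bool.rec (fun _ => ℕ) cb408 cb409 (Nat.ble (nat_lit 409) i)) (@Bool.rec (fun _ => ℕ) cb410 cb411 (Nat.ble (nat_lit 411) i)) (Nat.ble (nat_lit 410) i)) (@Bool.rec (fun _ => ℕ) (@Bool.rec (fun _ => ℕ) cb412 cb413 (Nat.ble (nat_lit 413) i)) (@Bool.rec (fun _ => ℕ) cb414 cb415 (Nat.ble (nat_lit 415) i)) (Nat.ble (nat_lit 414) i)) (Nat.ble (nat_lit 412) i)) (Nat.ble (nat_lit 408) i)) (Nat.ble (nat_lit 400) i))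

def certBlk_n0_13 (i : ℕ) : ℕ := (@Bool.rec (fun _ => ℕ) (@Bool.rec (fun _ => ℕ) (@Bool.rec (fun _ => ℕ) (@Bool.rec (fun _ => ℕ) (@Bool.rec (fun _ => ℕ) cb416 cb417 (Nat.ble (nat_lit 417) i)) (@Bool.rec (fun _ => ℕ) cb418 cb419 (Nat.ble (nat_lit 419) i)) (Nat.ble (nat_lit 418) i)) (@Bool.rec (fun _ => ℕ) (@Bool.rec (fun _ => ℕ) cb420 cb421 (Nat.ble (nat_lit 421) i)) (@Bool.rec (fun _ => ℕ) cb422 cb423 (Nat.ble (nat_lit 423) i)) (Nat.ble (nat_lit 422) i)) (Nat.ble (nat_lit 420) i)) (@Bool.rec (fun _ => ℕ) (@Bool.rec (fun _ => ℕ) (@Bool.rec (fun _ => ℕ) cb424 cb425 (Nat.ble (nat_lit 425) i)) (@Bool.rec (fun _ => ℕ) cb426 cb427 (Nat.ble (nat_lit 427) i)) (Nat.ble (nat_lit 426) i)) (@Bool.rec (fun _ => ℕ) (@Bool.rec (fun _ => ℕ) cb428 cb429 (Nat.ble (nat_lit 429) i)) (@Bool.rec (fun _ => ℕ) cb430 cb431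 (Nat.ble (nat_lit 431) i)) (Nat.ble (nat_lit 430) i)) (Nat.ble (nat_lit 428) i)) (Nat.ble (nat_lit 424) i)) (@Bool.rec (fun _ => ℕ) (@Bool.rec (fun _ => ℕ) (@Bool.rec (fun _ => ℕ) (@Bool.rec (fun _ => ℕ) cb432 cb433 (Nat.ble (nat_lit 433) i)) (@Bool.rec (fun _ => ℕ) cb434 cb435 (Nat.ble (nat_lit 435) i)) (Nat.ble (nat_lit 434) i)) (@Bool.rec (fun _ => ℕ) (@Bool.rec (fun _ => ℕ) cb436 cb437 (Nat.ble (nat_lit 437) i)) (@Bool.rec (fun _ => ℕ) cb438 cb439 (Nat.ble (nat_lit 439) i)) (Nat.ble (nat_lit 438) i)) (Nat.ble (nat_lit 436) i)) (@Bool.rec (fun _ => ℕ) (@Bool.rec (fun _ => ℕ) (@Bool.rec (fun _ => ℕ) cb440 cb441 (Nat.ble (nat_lit 441) i)) (@Bool.rec (fun _ => ℕ) cb442 cb443 (Nat.ble (nat_lit 443) i)) (Nat.ble (nat_lit 442) i)) (@Bool.rec (fun _ => ℕ) (@Bool.rec (fun _ => ℕ) cb444 cb445 (Nat.ble (nat_lit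 445) i)) (@Bool.rec (fun _ => ℕ) cb446 cb447 (Nat.ble (nat_lit 447) i)) (Nat.ble (nat_lit 446) i)) (Nat.ble (nat_lit 444) i)) (Nat.ble (nat_lit 440) i)) (Nat.ble (nat_lit 432) i))

def certBlk_n0_14 (i : ℕ) : ℕ := (@Bool.rec (fun _ => ℕ) (@Bool.rec (fun _ => ℕ) (@Bool.rec (fun _ => ℕ) (@Bool.rec (fun _ => ℕ) (@Bool.rec (fun _ => ℕ) cb448 cb449 (Nat.ble (nat_lit 449) i)) (@Bool.rec (fun _ => ℕ) cb450 cb451 (Nat.ble (nat_lit 451) i)) (Nat.ble (nat_lit 450) i)) (@Bool.rec (fun _ => ℕ) (@Bool.rec (fun _ => ℕ) cb452 cb453 (Nat.ble (nat_lit 453) i)) (@Bool.rec (fun _ => ℕ) cb454 cb455 (Nat.ble (nat_lit 455) i)) (Nat.ble (nat_lit 454) i)) (Nat.ble (nat_lit 452) i)) (@Bool.rec (fun _ => ℕ) (@Bool.rec (fun _ => ℕ) (@Bool.rec (fun _ => ℕ) cb456 cb457 (Nat.ble (nat_lit 457) i)) (@Bool.rec (fun _ => ℕ) cb458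 cb459 (Nat.ble (nat_lit 459) i)) (Nat.ble (nat_lit 458) i)) (@Bool.rec (fun _ => ℕ) (@Bool.rec (fun _ => ℕ) cb460 cb461 (Nat.ble (nat_lit 461) i)) (@Bool.rec (fun _ => ℕ) cb462 cb463 (Nat.ble (nat_lit 463) i)) (Nat.ble (nat_lit 462) i)) (Nat.ble (nat_lit 460) i)) (Nat.ble (nat_lit 456) i)) (@Bool.rec (fun _ => ℕ) (@Bool.rec (fun _ => ℕ) (@Bool.rec (fun _ => ℕ) (@Bool.rec (fun _ => ℕ) cb464 cb465 (Nat.ble (nat_lit 465) i)) (@Bool.rec (fun _ => ℕ) cb466 cb467 (Nat.ble (nat_lit 467) i)) (Nat.ble (nat_lit 466) i)) (@Bool.rec (fun _ => ℕ) (@Bool.rec (fun _ => ℕ) cb468 cb469 (Nat.ble (nat_lit 469) i)) (@Bool.rec (fun _ => ℕ) cb470 cb471 (Nat.ble (nat_lit 471) i)) (Nat.ble (nat_lit 470) i)) (Nat.ble (nat_lit 468) i)) (@Bool.rec (fun _ => ℕ) (@Bool.rec (fun _ => ℕ) (@Bool.rec (fun _ => ℕ) cb472 cb473 (Nat.ble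 (nat_lit 473) i)) (@Bool.rec (fun _ => ℕ) cb474 cb475 (Nat.ble (nat_lit 475) i)) (Nat.ble (nat_lit 474) i)) (@Bool.rec (fun _ => ℕ) (@Bool.rec (fun _ => ℕ) cb476 cb477 (Nat.ble (nat_lit 477) i)) (@Bool.rec (fun _ => ℕ) cb478 cb479 (Nat.ble (nat_lit 479) i)) (Nat.ble (nat_lit 478) i)) (Nat.ble (nat_lit 476) i)) (Nat.ble (nat_lit 472) i)) (Nat.ble (nat_lit 464) i))

def certBlk_n0_15 (i : ℕ) : ℕ := (@Bool.rec (fun _ => ℕ) (@Bool.rec (fun _ => ℕ) (@Bool.rec (fun _ => ℕ) (@Bool.rec (fun _ => ℕ) (@Bool.rec (fun _ => ℕ) cb480 cb481 (Nat.ble (nat_lit 481) i)) (@Bool.rec (fun _ => ℕ) cb482 cb483 (Nat.ble (nat_lit 483) i)) (Nat.ble (nat_lit 482) i)) (@Bool.rec (fun _ => ℕ) (@Bool.rec (fun _ => ℕ) cb484 cb485 (Nat.ble (nat_lit 485) i)) (@Bool.rec (fun _ => ℕ) cb486 cb487 (Nat.ble (nat_lit 487) i)) (Nat.ble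 (nat_lit 486) i)) (Nat.ble (nat_lit 484) i)) (@Bool.rec (fun _ => ℕ) (@Bool.rec (fun _ => ℕ) (@Bool.rec (fun _ => ℕ) cb488 cb489 (Nat.ble (nat_lit 489) i)) (@Bool.rec (fun _ => ℕ) cb490 cb491 (Nat.ble (nat_lit 491) i)) (Nat.ble (nat_lit 490) i)) (@Bool.rec (fun _ => ℕ) (@Bool.rec (fun _ => ℕ) cb492 cb493 (Nat.ble (nat_lit 493) i)) (@Bool.rec (fun _ => ℕ) cb494 cb495 (Nat.ble (nat_lit 495) i)) (Nat.ble (nat_lit 494) i)) (Nat.ble (nat_lit 492) i)) (Nat.ble (nat_lit 488) i)) (@Bool.rec (fun _ => ℕ) (@Bool.rec (fun _ => ℕ) (@Bool.rec (fun _ => ℕ) (@Bool.rec (fun _ => ℕ) cb496 cb497 (Nat.ble (nat_lit 497) i)) (@Bool.rec (fun _ => ℕ) cb498 cb499 (Nat.ble (nat_lit 499) i)) (Nat.ble (nat_lit 498) i)) (@Bool.rec (fun _ => ℕ) (@Bool.rec (fun _ => ℕ) cb500 cb501 (Nat.ble (nat_lit 501) i)) (@Bool.rec (fun _ =>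 ℕ) cb502 cb503 (Nat.ble (nat_lit 503) i)) (Nat.ble (nat_lit 502) i)) (Nat.ble (nat_lit 500) i)) (@Bool.rec (fun _ => ℕ) (@Bool.rec (fun _ => ℕ) (@Bool.rec (fun _ => ℕ) cb504 cb505 (Nat.ble (nat_lit 505) i)) (@Bool.rec (fun _ => ℕ) cb506 cb507 (Nat.ble (nat_lit 507) i)) (Nat.ble (nat_lit 506) i)) (@Bool.rec (fun _ => ℕ) (@Bool.rec (fun _ => ℕ) cb508 cb509 (Nat.ble (nat_lit 509) i)) (@Bool.rec (fun _ => ℕ) cb510 cb511 (Nat.ble (nat_lit 511) i)) (Nat.ble (nat_lit 510) i)) (Nat.ble (nat_lit 508) i)) (Nat.ble (nat_lit 504) i)) (Nat.ble (nat_lit 496) i))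

def certBlk_n0_16 (i : ℕ) : ℕ := (@Bool.rec (fun _ => ℕ) (@Bool.rec (fun _ => ℕ) (@Bool.rec (fun _ => ℕ) (@Bool.rec (fun _ => ℕ) (@Bool.rec (fun _ => ℕ) cb512 cb513 (Nat.ble (nat_lit 513) i)) (@Bool.rec (fun _ => ℕ) cb514 cb515 (Nat.ble (nat_lit 515) i)) (Nat.ble (nat_lit 514) i)) (@Bool.rec (fun _ => ℕ) (@Bool.rec (fun _ => ℕ) cb516 cb517 (Nat.ble (nat_lit 517) i)) (@Bool.rec (fun _ => ℕ) cb518 cb519 (Nat.ble (nat_lit 519) i)) (Nat.ble (nat_lit 518) i)) (Nat.ble (nat_lit 516) i)) (@Bool.rec (fun _ => ℕ) (@Bool.rec (fun _ => ℕ) (@Bool.rec (fun _ => ℕ) cb520 cb521 (Nat.ble (nat_lit 521) i)) (@Bool.rec (fun _ => ℕ) cb522 cb523 (Nat.ble (nat_lit 523) i)) (Nat.ble (nat_lit 522) i)) (@Bool.rec (fun _ => ℕ) (@Bool.rec (fun _ => ℕ) cb524 cb525 (Nat.ble (nat_lit 525) i)) (@Bool.rec (fun _ => ℕ) cb526 cb527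 (Nat.ble (nat_lit 527) i)) (Nat.ble (nat_lit 526) i)) (Nat.ble (nat_lit 524) i)) (Nat.ble (nat_lit 520) i)) (@Bool.rec (fun _ => ℕ) (@Bool.rec (fun _ => ℕ) (@Bool.rec (fun _ => ℕ) (@Bool.rec (fun _ => ℕ) cb528 cb529 (Nat.ble (nat_lit 529) i)) (@Bool.rec (fun _ => ℕ) cb530 cb531 (Nat.ble (nat_lit 531) i)) (Nat.ble (nat_lit 530) i)) (@Bool.rec (fun _ => ℕ) (@Bool.rec (fun _ => ℕ) cb532 cb533 (Nat.ble (nat_lit 533) i)) (@Bool.rec (fun _ => ℕ) cb534 cb535 (Nat.ble (nat_lit 535) i)) (Nat.ble (nat_lit 534) i)) (Nat.ble (nat_lit 532) i)) (@Bool.rec (fun _ => ℕ) (@Bool.rec (fun _ => ℕ) (@Bool.rec (fun _ => ℕ) cb536 cb537 (Nat.ble (nat_lit 537) i)) (@Bool.rec (fun _ => ℕ) cb538 cb539 (Nat.ble (nat_lit 539) i)) (Nat.ble (nat_lit 538) i)) (@Bool.rec (fun _ => ℕ) (@Bool.rec (fun _ => ℕ) cb540 cb541 (Nat.ble (nat_lit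 541) i)) (@Bool.rec (fun _ => ℕ) cb542 cb543 (Nat.ble (nat_lit 543) i)) (Nat.ble (nat_lit 542) i)) (Nat.ble (nat_lit 540) i)) (Nat.ble (nat_lit 536) i)) (Nat.ble (nat_lit 528) i))

def certBlk_n0_17 (i : ℕ) : ℕ := (@Bool.rec (fun _ => ℕ) (@Bool.rec (fun _ => ℕ) (@Bool.rec (fun _ => ℕ) (@Bool.rec (fun _ => ℕ) (@Bool.rec (fun _ => ℕ) cb544 cb545 (Nat.ble (nat_lit 545) i)) (@Bool.rec (fun _ => ℕ) cb546 cb547 (Nat.ble (nat_lit 547) i)) (Nat.ble (nat_lit 546) i)) (@Bool.rec (fun _ => ℕ) (@Bool.rec (fun _ => ℕ) cb548 cb549 (Nat.ble (nat_lit 549) i)) (@Bool.rec (fun _ => ℕ) cb550 cb551 (Nat.ble (nat_lit 551) i)) (Nat.ble (nat_lit 550) i)) (Nat.ble (nat_lit 548) i)) (@Bool.rec (fun _ => ℕ) (@Bool.rec (fun _ => ℕ) (@Bool.rec (fun _ => ℕ) cb552 cb553 (Nat.ble (nat_lit 553) i)) (@Bool.rec (fun _ => ℕ) cb554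 cb555 (Nat.ble (nat_lit 555) i)) (Nat.ble (nat_lit 554) i)) (@Bool.rec (fun _ => ℕ) (@Bool.rec (fun _ => ℕ) cb556 cb557 (Nat.ble (nat_lit 557) i)) (@Bool.rec (fun _ => ℕ) cb558 cb559 (Nat.ble (nat_lit 559) i)) (Nat.ble (nat_lit 558) i)) (Nat.ble (nat_lit 556) i)) (Nat.ble (nat_lit 552) i)) (@Bool.rec (fun _ => ℕ) (@Bool.rec (fun _ => ℕ) (@Bool.rec (fun _ => ℕ) (@Bool.rec (fun _ => ℕ) cb560 cb561 (Nat.ble (nat_lit 561) i)) (@Bool.rec (fun _ => ℕ) cb562 cb563 (Nat.ble (nat_lit 563) i)) (Nat.ble (nat_lit 562) i)) (@Bool.rec (fun _ => ℕ) (@Bool.rec (fun _ => ℕ) cb564 cb565 (Nat.ble (nat_lit 565) i)) (@Bool.rec (fun _ => ℕ) cb566 cb567 (Nat.ble (nat_lit 567) i)) (Nat.ble (nat_lit 566) i)) (Nat.ble (nat_lit 564) i)) (@Bool.rec (fun _ => ℕ) (@Bool.rec (fun _ => ℕ) (@Bool.rec (fun _ => ℕ) cb568 cb569 (Nat.ble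 (nat_lit 569) i)) (@Bool.rec (fun _ => ℕ) cb570 cb571 (Nat.ble (nat_lit 571) i)) (Nat.ble (nat_lit 570) i)) (@Bool.rec (fun _ => ℕ) (@Bool.rec (fun _ => ℕ) cb572 cb573 (Nat.ble (nat_lit 573) i)) (@Bool.rec (fun _ => ℕ) cb574 cb575 (Nat.ble (nat_lit 575) i)) (Nat.ble (nat_lit 574) i)) (Nat.ble (nat_lit 572) i)) (Nat.ble (nat_lit 568) i)) (Nat.ble (nat_lit 560) i))

def certBlk_n0_18 (i : ℕ) : ℕ := (@Bool.rec (fun _ => ℕ) (@Bool.rec (fun _ => ℕ) (@Bool.rec (fun _ => ℕ) (@Bool.rec (fun _ => ℕ) (@Bool.rec (fun _ => ℕ) cb576 cb577 (Nat.ble (nat_lit 577) i)) (@Bool.rec (fun _ => ℕ) cb578 cb579 (Nat.ble (nat_lit 579) i)) (Nat.ble (nat_lit 578) i)) (@Bool.rec (fun _ => ℕ) (@Bool.rec (fun _ => ℕ) cb580 cb581 (Nat.ble (nat_lit 581) i)) (@Bool.rec (fun _ => ℕ) cb582 cb583 (Nat.ble (nat_lit 583) i)) (Nat.ble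 (nat_lit 582) i)) (Nat.ble (nat_lit 580) i)) (@Bool.rec (fun _ => ℕ) (@Bool.rec (fun _ => ℕ) (@Bool.rec (fun _ => ℕ) cb584 cb585 (Nat.ble (nat_lit 585) i)) (@Bool.rec (fun _ => ℕ) cb586 cb587 (Nat.ble (nat_lit 587) i)) (Nat.ble (nat_lit 586) i)) (@Bool.rec (fun _ => ℕ) (@Bool.rec (fun _ => ℕ) cb588 cb589 (Nat.ble (nat_lit 589) i)) (@Bool.rec (fun _ => ℕ) cb590 cb591 (Nat.ble (nat_lit 591) i)) (Nat.ble (nat_lit 590) i)) (Nat.ble (nat_lit 588) i)) (Nat.ble (nat_lit 584) i)) (@Bool.rec (fun _ => ℕ) (@Bool.rec (fun _ => ℕ) (@Bool.rec (fun _ => ℕ) (@Bool.rec (fun _ => ℕ) cb592 cb593 (Nat.ble (nat_lit 593) i)) (@Bool.rec (fun _ => ℕ) cb594 cb595 (Nat.ble (nat_lit 595) i)) (Nat.ble (nat_lit 594) i)) (@Bool.rec (fun _ => ℕ) (@Bool.rec (fun _ => ℕ) cb596 cb597 (Nat.ble (nat_lit 597) i)) (@Bool.rec (fun _ =>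 ℕ) cb598 cb599 (Nat.ble (nat_lit 599) i)) (Nat.ble (nat_lit 598) i)) (Nat.ble (nat_lit 596) i)) (@Bool.rec (fun _ => ℕ) (@Bool.rec (fun _ => ℕ) (@Bool.rec (fun _ => ℕ) cb600 cb601 (Nat.ble (nat_lit 601) i)) (@Bool.rec (fun _ => ℕ) cb602 cb603 (Nat.ble (nat_lit 603) i)) (Nat.ble (nat_lit 602) i)) (@Bool.rec (fun _ => ℕ) (@Bool.rec (fun _ => ℕ) cb604 cb605 (Nat.ble (nat_lit 605) i)) (@Bool.rec (fun _ => ℕ) cb606 cb607 (Nat.ble (nat_lit 607) i)) (Nat.ble (nat_lit 606) i)) (Nat.ble (nat_lit 604) i)) (Nat.ble (nat_lit 600) i)) (Nat.ble (nat_lit 592) i))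

def certBlk_n0_19 (i : ℕ) : ℕ := (@Bool.rec (fun _ => ℕ) (@Bool.rec (fun _ => ℕ) (@Bool.rec (fun _ => ℕ) (@Bool.rec (fun _ => ℕ) (@Bool.rec (fun _ => ℕ) cb608 cb609 (Nat.ble (nat_lit 609) i)) (@Bool.rec (fun _ => ℕ) cb610 cb611 (Nat.ble (nat_lit 611) i)) (Nat.ble (nat_lit 610) i)) (@Bool.rec (fun _ => ℕ) (@Bool.rec (fun _ => ℕ) cb612 cb613 (Nat.ble (nat_lit 613) i)) (@Bool.rec (fun _ => ℕ) cb614 cb615 (Nat.ble (nat_lit 615) i)) (Nat.ble (nat_lit 614) i)) (Nat.ble (nat_lit 612) i)) (@Bool.rec (fun _ => ℕ) (@Bool.rec (fun _ => ℕ) (@Bool.rec (fun _ => ℕ) cb616 cb617 (Nat.ble (nat_lit 617) i)) (@Bool.rec (fun _ => ℕ) cb618 cb619 (Nat.ble (nat_lit 619) i)) (Nat.ble (nat_lit 618) i)) (@Bool.rec (fun _ => ℕ) (@Bool.rec (fun _ => ℕ) cb620 cb621 (Nat.ble (nat_lit 621) i)) (@Bool.rec (fun _ => ℕ) cb622 cb623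 (Nat.ble (nat_lit 623) i)) (Nat.ble (nat_lit 622) i)) (Nat.ble (nat_lit 620) i)) (Nat.ble (nat_lit 616) i)) (@Bool.rec (fun _ => ℕ) (@Bool.rec (fun _ => ℕ) (@Bool.rec (fun _ => ℕ) (@Bool.rec (fun _ => ℕ) cb624 cb625 (Nat.ble (nat_lit 625) i)) (@Bool.rec (fun _ => ℕ) cb626 cb627 (Nat.ble (nat_lit 627) i)) (Nat.ble (nat_lit 626) i)) (@Bool.rec (fun _ => ℕ) (@Bool.rec (fun _ => ℕ) cb628 cb629 (Nat.ble (nat_lit 629) i)) (@Bool.rec (fun _ => ℕ) cb630 cb631 (Nat.ble (nat_lit 631) i)) (Nat.ble (nat_lit 630) i)) (Nat.ble (nat_lit 628) i)) (@Bool.rec (fun _ => ℕ) (@Bool.rec (fun _ => ℕ) (@Bool.rec (fun _ => ℕ) cb632 cb633 (Nat.ble (nat_lit 633) i)) (@Bool.rec (fun _ => ℕ) cb634 cb635 (Nat.ble (nat_lit 635) i)) (Nat.ble (nat_lit 634) i)) (@Bool.rec (fun _ => ℕ) (@Bool.rec (fun _ => ℕ) cb636 cb637 (Nat.ble (nat_lit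 637) i)) (@Bool.rec (fun _ => ℕ) cb638 cb639 (Nat.ble (nat_lit 639) i)) (Nat.ble (nat_lit 638) i)) (Nat.ble (nat_lit 636) i)) (Nat.ble (nat_lit 632) i)) (Nat.ble (nat_lit 624) i))

def certBlk_n0_20 (i : ℕ) : ℕ := (@Bool.rec (fun _ => ℕ) (@Bool.rec (fun _ => ℕ) (@Bool.rec (fun _ => ℕ) (@Bool.rec (fun _ => ℕ) (@Bool.rec (fun _ => ℕ) cb640 cb641 (Nat.ble (nat_lit 641) i)) (@Bool.rec (fun _ => ℕ) cb642 cb643 (Nat.ble (nat_lit 643) i)) (Nat.ble (nat_lit 642) i)) (@Bool.rec (fun _ => ℕ) (@Bool.rec (fun _ => ℕ) cb644 cb645 (Nat.ble (nat_lit 645) i)) (@Bool.rec (fun _ => ℕ) cb646 cb647 (Nat.ble (nat_lit 647) i)) (Nat.ble (nat_lit 646) i)) (Nat.ble (nat_lit 644) i)) (@Bool.rec (fun _ => ℕ) (@Bool.rec (fun _ => ℕ) (@Bool.rec (fun _ => ℕ) cb648 cb649 (Nat.ble (nat_lit 649) i)) (@Bool.rec (fun _ => ℕ) cb650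 cb651 (Nat.ble (nat_lit 651) i)) (Nat.ble (nat_lit 650) i)) (@Bool.rec (fun _ => ℕ) (@Bool.rec (fun _ => ℕ) cb652 cb653 (Nat.ble (nat_lit 653) i)) (@Bool.rec (fun _ => ℕ) cb654 cb655 (Nat.ble (nat_lit 655) i)) (Nat.ble (nat_lit 654) i)) (Nat.ble (nat_lit 652) i)) (Nat.ble (nat_lit 648) i)) (@Bool.rec (fun _ => ℕ) (@Bool.rec (fun _ => ℕ) (@Bool.rec (fun _ => ℕ) (@Bool.rec (fun _ => ℕ) cb656 cb657 (Nat.ble (nat_lit 657) i)) (@Bool.rec (fun _ => ℕ) cb658 cb659 (Nat.ble (nat_lit 659) i)) (Nat.ble (nat_lit 658) i)) (@Bool.rec (fun _ => ℕ) (@Bool.rec (fun _ => ℕ) cb660 cb661 (Nat.ble (nat_lit 661) i)) (@Bool.rec (fun _ => ℕ) cb662 cb663 (Nat.ble (nat_lit 663) i)) (Nat.ble (nat_lit 662) i)) (Nat.ble (nat_lit 660) i)) (@Bool.rec (fun _ => ℕ) (@Bool.rec (fun _ => ℕ) (@Bool.rec (fun _ => ℕ) cb664 cb665 (Nat.ble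 (nat_lit 665) i)) (@Bool.rec (fun _ => ℕ) cb666 cb667 (Nat.ble (nat_lit 667) i)) (Nat.ble (nat_lit 666) i)) (@Bool.rec (fun _ => ℕ) (@Bool.rec (fun _ => ℕ) cb668 cb669 (Nat.ble (nat_lit 669) i)) (@Bool.rec (fun _ => ℕ) cb670 cb671 (Nat.ble (nat_lit 671) i)) (Nat.ble (nat_lit 670) i)) (Nat.ble (nat_lit 668) i)) (Nat.ble (nat_lit 664) i)) (Nat.ble (nat_lit 656) i))

def certBlk_n0_21 (i : ℕ) : ℕ := (@Bool.rec (fun _ => ℕ) (@Bool.rec (fun _ => ℕ) (@Bool.rec (fun _ => ℕ) (@Bool.rec (fun _ => ℕ) (@Bool.rec (fun _ => ℕ) cb672 cb673 (Nat.ble (nat_lit 673) i)) (@Bool.rec (fun _ => ℕ) cb674 cb675 (Nat.ble (nat_lit 675) i)) (Nat.ble (nat_lit 674) i)) (@Bool.rec (fun _ => ℕ) (@Bool.rec (fun _ => ℕ) cb676 cb677 (Nat.ble (nat_lit 677) i)) (@Bool.rec (fun _ => ℕ) cb678 cb679 (Nat.ble (nat_lit 679) i)) (Nat.ble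 (nat_lit 678) i)) (Nat.ble (nat_lit 676) i)) (@Bool.rec (fun _ => ℕ) (@Bool.rec (fun _ => ℕ) (@Bool.rec (fun _ => ℕ) cb680 cb681 (Nat.ble (nat_lit 681) i)) (@Bool.rec (fun _ => ℕ) cb682 cb683 (Nat.ble (nat_lit 683) i)) (Nat.ble (nat_lit 682) i)) (@Bool.rec (fun _ => ℕ) (@Bool.rec (fun _ => ℕ) cb684 cb685 (Nat.ble (nat_lit 685) i)) (@Bool.rec (fun _ => ℕ) cb686 cb687 (Nat.ble (nat_lit 687) i)) (Nat.ble (nat_lit 686) i)) (Nat.ble (nat_lit 684) i)) (Nat.ble (nat_lit 680) i)) (@Bool.rec (fun _ => ℕ) (@Bool.rec (fun _ => ℕ) (@Bool.rec (fun _ => ℕ) (@Bool.rec (fun _ => ℕ) cb688 cb689 (Nat.ble (nat_lit 689) i)) (@Bool.rec (fun _ => ℕ) cb690 cb691 (Nat.ble (nat_lit 691) i)) (Nat.ble (nat_lit 690) i)) (@Bool.rec (fun _ => ℕ) (@Bool.rec (fun _ => ℕ) cb692 cb693 (Nat.ble (nat_lit 693) i)) (@Bool.rec (fun _ =>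 ℕ) cb694 cb695 (Nat.ble (nat_lit 695) i)) (Nat.ble (nat_lit 694) i)) (Nat.ble (nat_lit 692) i)) (@Bool.rec (fun _ => ℕ) (@Bool.rec (fun _ => ℕ) (@Bool.rec (fun _ => ℕ) cb696 cb697 (Nat.ble (nat_lit 697) i)) (@Bool.rec (fun _ => ℕ) cb698 cb699 (Nat.ble (nat_lit 699) i)) (Nat.ble (nat_lit 698) i)) (@Bool.rec (fun _ => ℕ) (@Bool.rec (fun _ => ℕ) cb700 cb701 (Nat.ble (nat_lit 701) i)) (@Bool.rec (fun _ => ℕ) cb702 cb703 (Nat.ble (nat_lit 703) i)) (Nat.ble (nat_lit 702) i)) (Nat.ble (nat_lit 700) i)) (Nat.ble (nat_lit 696) i)) (Nat.ble (nat_lit 688) i))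

def certBlk_n0_22 (i : ℕ) : ℕ := (@Bool.rec (fun _ => ℕ) (@Bool.rec (fun _ => ℕ) (@Bool.rec (fun _ => ℕ) (@Bool.rec (fun _ => ℕ) (@Bool.rec (fun _ => ℕ) cb704 cb705 (Nat.ble (nat_lit 705) i)) (@Bool.rec (fun _ => ℕ) cb706 cb707 (Nat.ble (nat_lit 707) i)) (Nat.ble (nat_lit 706) i)) (@Bool.rec (fun _ => ℕ) (@Bool.rec (fun _ => ℕ) cb708 cb709 (Nat.ble (nat_lit 709) i)) (@Bool.rec (fun _ => ℕ) cb710 cb711 (Nat.ble (nat_lit 711) i)) (Nat.ble (nat_lit 710) i)) (Nat.ble (nat_lit 708) i)) (@Bool.rec (fun _ => ℕ) (@Bool.rec (fun _ => ℕ) (@Bool.rec (fun _ => ℕ) cb712 cb713 (Nat.ble (nat_lit 713) i)) (@Bool.rec (fun _ => ℕ) cb714 cb715 (Nat.ble (nat_lit 715) i)) (Nat.ble (nat_lit 714) i)) (@Bool.rec (fun _ => ℕ) (@Bool.rec (fun _ => ℕ) cb716 cb717 (Nat.ble (nat_lit 717) i)) (@Bool.rec (fun _ => ℕ) cb718 cb719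 (Nat.ble (nat_lit 719) i)) (Nat.ble (nat_lit 718) i)) (Nat.ble (nat_lit 716) i)) (Nat.ble (nat_lit 712) i)) (@Bool.rec (fun _ => ℕ) (@Bool.rec (fun _ => ℕ) (@Bool.rec (fun _ => ℕ) (@Bool.rec (fun _ => ℕ) cb720 cb721 (Nat.ble (nat_lit 721) i)) (@Bool.rec (fun _ => ℕ) cb722 cb723 (Nat.ble (nat_lit 723) i)) (Nat.ble (nat_lit 722) i)) (@Bool.rec (fun _ => ℕ) (@Bool.rec (fun _ => ℕ) cb724 cb725 (Nat.ble (nat_lit 725) i)) (@Bool.rec (fun _ => ℕ) cb726 cb727 (Nat.ble (nat_lit 727) i)) (Nat.ble (nat_lit 726) i)) (Nat.ble (nat_lit 724) i)) (@Bool.rec (fun _ => ℕ) (@Bool.rec (fun _ => ℕ) (@Bool.rec (fun _ => ℕ) cb728 cb729 (Nat.ble (nat_lit 729) i)) (@Bool.rec (fun _ => ℕ) cb730 cb731 (Nat.ble (nat_lit 731) i)) (Nat.ble (nat_lit 730) i)) (@Bool.rec (fun _ => ℕ) (@Bool.rec (fun _ => ℕ) cb732 cb733 (Nat.ble (nat_lit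 733) i)) (@Bool.rec (fun _ => ℕ) cb734 cb735 (Nat.ble (nat_lit 735) i)) (Nat.ble (nat_lit 734) i)) (Nat.ble (nat_lit 732) i)) (Nat.ble (nat_lit 728) i)) (Nat.ble (nat_lit 720) i))

def certBlk_n0_23 (i : ℕ) : ℕ := (@Bool.rec (fun _ => ℕ) (@Bool.rec (fun _ => ℕ) (@Bool.rec (fun _ => ℕ) (@Bool.rec (fun _ => ℕ) (@Bool.rec (fun _ => ℕ) cb736 cb737 (Nat.ble (nat_lit 737) i)) (@Bool.rec (fun _ => ℕ) cb738 cb739 (Nat.ble (nat_lit 739) i)) (Nat.ble (nat_lit 738) i)) (@Bool.rec (fun _ => ℕ) (@Bool.rec (fun _ => ℕ) cb740 cb741 (Nat.ble (nat_lit 741) i)) (@Bool.rec (fun _ => ℕ) cb742 cb743 (Nat.ble (nat_lit 743) i)) (Nat.ble (nat_lit 742) i)) (Nat.ble (nat_lit 740) i)) (@Bool.rec (fun _ => ℕ) (@Bool.rec (fun _ => ℕ) (@Bool.rec (fun _ => ℕ) cb744 cb745 (Nat.ble (nat_lit 745) i)) (@Bool.rec (fun _ => ℕ) cb746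 cb747 (Nat.ble (nat_lit 747) i)) (Nat.ble (nat_lit 746) i)) (@Bool.rec (fun _ => ℕ) (@Bool.rec (fun _ => ℕ) cb748 cb749 (Nat.ble (nat_lit 749) i)) (@Bool.rec (fun _ => ℕ) cb750 cb751 (Nat.ble (nat_lit 751) i)) (Nat.ble (nat_lit 750) i)) (Nat.ble (nat_lit 748) i)) (Nat.ble (nat_lit 744) i)) (@Bool.rec (fun _ => ℕ) (@Bool.rec (fun _ => ℕ) (@Bool.rec (fun _ => ℕ) (@Bool.rec (fun _ => ℕ) cb752 cb753 (Nat.ble (nat_lit 753) i)) (@Bool.rec (fun _ => ℕ) cb754 cb755 (Nat.ble (nat_lit 755) i)) (Nat.ble (nat_lit 754) i)) (@Bool.rec (fun _ => ℕ) (@Bool.rec (fun _ => ℕ) cb756 cb757 (Nat.ble (nat_lit 757) i)) (@Bool.rec (fun _ => ℕ) cb758 cb759 (Nat.ble (nat_lit 759) i)) (Nat.ble (nat_lit 758) i)) (Nat.ble (nat_lit 756) i)) (@Bool.rec (fun _ => ℕ) (@Bool.rec (fun _ => ℕ) (@Bool.rec (fun _ => ℕ) cb760 cb761 (Nat.ble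 (nat_lit 761) i)) (@Bool.rec (fun _ => ℕ) cb762 cb763 (Nat.ble (nat_lit 763) i)) (Nat.ble (nat_lit 762) i)) (@Bool.rec (fun _ => ℕ) (@Bool.rec (fun _ => ℕ) cb764 cb765 (Nat.ble (nat_lit 765) i)) (@Bool.rec (fun _ => ℕ) cb766 cb767 (Nat.ble (nat_lit 767) i)) (Nat.ble (nat_lit 766) i)) (Nat.ble (nat_lit 764) i)) (Nat.ble (nat_lit 760) i)) (Nat.ble (nat_lit 752) i))

def certBlk_n0_24 (i : ℕ) : ℕ := (@Bool.rec (fun _ => ℕ) (@Bool.rec (fun _ => ℕ) (@Bool.rec (fun _ => ℕ) (@Bool.rec (fun _ => ℕ) (@Bool.rec (fun _ => ℕ) cb768 cb769 (Nat.ble (nat_lit 769) i)) (@Bool.rec (fun _ => ℕ) cb770 cb771 (Nat.ble (nat_lit 771) i)) (Nat.ble (nat_lit 770) i)) (@Bool.rec (fun _ => ℕ) (@Bool.rec (fun _ => ℕ) cb772 cb773 (Nat.ble (nat_lit 773) i)) (@Bool.rec (fun _ => ℕ) cb774 cb775 (Nat.ble (nat_lit 775) i)) (Nat.ble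 (nat_lit 774) i)) (Nat.ble (nat_lit 772) i)) (@Bool.rec (fun _ => ℕ) (@Bool.rec (fun _ => ℕ) (@Bool.rec (fun _ => ℕ) cb776 cb777 (Nat.ble (nat_lit 777) i)) (@Bool.rec (fun _ => ℕ) cb778 cb779 (Nat.ble (nat_lit 779) i)) (Nat.ble (nat_lit 778) i)) (@Bool.rec (fun _ => ℕ) (@Bool.rec (fun _ => ℕ) cb780 cb781 (Nat.ble (nat_lit 781) i)) (@Bool.rec (fun _ => ℕ) cb782 cb783 (Nat.ble (nat_lit 783) i)) (Nat.ble (nat_lit 782) i)) (Nat.ble (nat_lit 780) i)) (Nat.ble (nat_lit 776) i)) (@Bool.rec (fun _ => ℕ) (@Bool.rec (fun _ => ℕ) (@Bool.rec (fun _ => ℕ) (@Bool.rec (fun _ => ℕ) cb784 cb785 (Nat.ble (nat_lit 785) i)) (@Bool.rec (fun _ => ℕ) cb786 cb787 (Nat.ble (nat_lit 787) i)) (Nat.ble (nat_lit 786) i)) (@Bool.rec (fun _ => ℕ) (@Bool.rec (fun _ => ℕ) cb788 cb789 (Nat.ble (nat_lit 789) i)) (@Bool.rec (fun _ =>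 ℕ) cb790 cb791 (Nat.ble (nat_lit 791) i)) (Nat.ble (nat_lit 790) i)) (Nat.ble (nat_lit 788) i)) (@Bool.rec (fun _ => ℕ) (@Bool.rec (fun _ => ℕ) (@Bool.rec (fun _ => ℕ) cb792 cb793 (Nat.ble (nat_lit 793) i)) (@Bool.rec (fun _ => ℕ) cb794 cb795 (Nat.ble (nat_lit 795) i)) (Nat.ble (nat_lit 794) i)) (@Bool.rec (fun _ => ℕ) (@Bool.rec (fun _ => ℕ) cb796 cb797 (Nat.ble (nat_lit 797) i)) (@Bool.rec (fun _ => ℕ) cb798 cb799 (Nat.ble (nat_lit 799) i)) (Nat.ble (nat_lit 798) i)) (Nat.ble (nat_lit 796) i)) (Nat.ble (nat_lit 792) i)) (Nat.ble (nat_lit 784) i))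

def certBlk_n0_25 (i : ℕ) : ℕ := (@Bool.rec (fun _ => ℕ) (@Bool.rec (fun _ => ℕ) (@Bool.rec (fun _ => ℕ) (@Bool.rec (fun _ => ℕ) cb800 cb801 (Nat.ble (nat_lit 801) i)) (@Bool.rec (fun _ => ℕ) cb802 cb803 (Nat.ble (nat_lit 803) i)) (Nat.ble (nat_lit 802) i)) (@Bool.rec (fun _ => ℕ) (@Bool.rec (fun _ => ℕ) cb804 cb805 (Nat.ble (nat_lit 805) i)) (@Bool.rec (fun _ => ℕ) cb806 (@Bool.rec (fun _ => ℕ) cb807 cb808 (Nat.ble (nat_lit 808) i)) (Nat.ble (nat_lit 807) i)) (Nat.ble (nat_lit 806) i)) (Nat.ble (nat_lit 804) i)) (@Bool.rec (fun _ => ℕ) (@Bool.rec (fun _ => ℕ) (@Bool.rec (fun _ => ℕ) cb809 cb810 (Nat.ble (nat_lit 810) i)) (@Bool.rec (fun _ => ℕ) cb811 cb812 (Nat.ble (nat_lit 812) i)) (Nat.ble (nat_lit 811) i)) (@Bool.rec (fun _ => ℕ) (@Bool.rec (fun _ => ℕ) cb813 cb814 (Nat.ble (nat_lit 814) i))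 (@Bool.rec (fun _ => ℕ) cb815 (@Bool.rec (fun _ => ℕ) cb816 cb817 (Nat.ble (nat_lit 817) i)) (Nat.ble (nat_lit 816) i)) (Nat.ble (nat_lit 815) i)) (Nat.ble (nat_lit 813) i)) (Nat.ble (nat_lit 809) i))

def certBlk (i : ℕ) : ℕ := (@Bool.rec (fun _ => ℕ) (@Bool.rec (fun _ => ℕ) (@Bool.rec (fun _ => ℕ) (@Bool.rec (fun _ => ℕ) (certBlk_n0_0 i) (@Bool.rec (fun _ => ℕ) (certBlk_n0_1 i) (certBlk_n0_2 i) (Nat.ble (nat_lit 64) i)) (Nat.ble (nat_lit 32) i)) (@Bool.rec (fun _ => ℕ) (certBlk_n0_3 i) (@Bool.rec (fun _ => ℕ) (certBlk_n0_4 i) (certBlk_n0_5 i) (Nat.ble (nat_lit 160) i)) (Nat.ble (nat_lit 128) i)) (Nat.ble (nat_lit 96) i)) (@Bool.rec (fun _ => ℕ) (@Bool.rec (fun _ => ℕ) (certBlk_n0_6 i) (@Bool.rec (fun _ => ℕ) (certBlk_n0_7 i) (certBlk_n0_8 i) (Nat.ble (nat_lit 256) i)) (Nat.ble (nat_lit 224) i))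 (@Bool.rec (fun _ => ℕ) (@Bool.rec (fun _ => ℕ) (certBlk_n0_9 i) (certBlk_n0_10 i) (Nat.ble (nat_lit 320) i)) (@Bool.rec (fun _ => ℕ) (certBlk_n0_11 i) (certBlk_n0_12 i) (Nat.ble (nat_lit 384) i)) (Nat.ble (nat_lit 352) i)) (Nat.ble (nat_lit 288) i)) (Nat.ble (nat_lit 192) i)) (@Bool.rec (fun _ => ℕ) (@Bool.rec (fun _ => ℕ) (@Bool.rec (fun _ => ℕ) (certBlk_n0_13 i) (@Bool.rec (fun _ => ℕ) (certBlk_n0_14 i) (certBlk_n0_15 i) (Nat.ble (nat_lit 480) i)) (Nat.ble (nat_lit 448) i)) (@Bool.rec (fun _ => ℕ) (certBlk_n0_16 i) (@Bool.rec (fun _ => ℕ) (certBlk_n0_17 i) (certBlk_n0_18 i) (Nat.ble (nat_lit 576) i)) (Nat.ble (nat_lit 544) i)) (Nat.ble (nat_lit 512) i)) (@Bool.rec (fun _ => ℕ) (@Bool.rec (fun _ => ℕ) (certBlk_n0_19 i) (@Bool.rec (fun _ => ℕ) (certBlk_n0_20 i) (certBlk_n0_21 i) (Nat.ble (nat_lit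 672) i)) (Nat.ble (nat_lit 640) i)) (@Bool.rec (fun _ => ℕ) (@Bool.rec (fun _ => ℕ) (certBlk_n0_22 i) (certBlk_n0_23 i) (Nat.ble (nat_lit 736) i)) (@Bool.rec (fun _ => ℕ) (certBlk_n0_24 i) (certBlk_n0_25 i) (Nat.ble (nat_lit 800) i)) (Nat.ble (nat_lit 768) i)) (Nat.ble (nat_lit 704) i)) (Nat.ble (nat_lit 608) i)) (Nat.ble (nat_lit 416) i))

def parBlk_n0_0 (i : ℕ) : ℕ := (@Bool.rec (fun _ => ℕ) (@Bool.rec (fun _ => ℕ) (@Bool.rec (fun _ => ℕ) (@Bool.rec (fun _ => ℕ) (@Bool.rec (fun _ => ℕ) pb0 pb1 (Nat.ble (nat_lit 1) i)) (@Bool.rec (fun _ => ℕ) pb2 pb3 (Nat.ble (nat_lit 3) i)) (Nat.ble (nat_lit 2) i)) (@Bool.rec (fun _ => ℕ) (@Bool.rec (fun _ => ℕ) pb4 pb5 (Nat.ble (nat_lit 5) i)) (@Bool.rec (fun _ => ℕ) pb6 pb7 (Nat.ble (nat_lit 7) i)) (Nat.ble (nat_lit 6) i)) (Nat.ble (nat_lit 4) i)) (@Bool.rec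 (fun _ => ℕ) (@Bool.rec (fun _ => ℕ) (@Bool.rec (fun _ => ℕ) pb8 pb9 (Nat.ble (nat_lit 9) i)) (@Bool.rec (fun _ => ℕ) pb10 pb11 (Nat.ble (nat_lit 11) i)) (Nat.ble (nat_lit 10) i)) (@Bool.rec (fun _ => ℕ) (@Bool.rec (fun _ => ℕ) pb12 pb13 (Nat.ble (nat_lit 13) i)) (@Bool.rec (fun _ => ℕ) pb14 pb15 (Nat.ble (nat_lit 15) i)) (Nat.ble (nat_lit 14) i)) (Nat.ble (nat_lit 12) i)) (Nat.ble (nat_lit 8) i)) (@Bool.rec (fun _ => ℕ) (@Bool.rec (fun _ => ℕ) (@Bool.rec (fun _ => ℕ) (@Bool.rec (fun _ => ℕ) pb16 pb17 (Nat.ble (nat_lit 17) i)) (@Bool.rec (fun _ => ℕ) pb18 pb19 (Nat.ble (nat_lit 19) i)) (Nat.ble (nat_lit 18) i)) (@Bool.rec (fun _ => ℕ) (@Bool.rec (fun _ => ℕ) pb20 pb21 (Nat.ble (nat_lit 21) i)) (@Bool.rec (fun _ => ℕ) pb22 pb23 (Nat.ble (nat_lit 23) i)) (Nat.ble (nat_lit 22) i)) (Nat.ble (nat_lit 20)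 i)) (@Bool.rec (fun _ => ℕ) (@Bool.rec (fun _ => ℕ) (@Bool.rec (fun _ => ℕ) pb24 pb25 (Nat.ble (nat_lit 25) i)) (@Bool.rec (fun _ => ℕ) pb26 pb27 (Nat.ble (nat_lit 27) i)) (Nat.ble (nat_lit 26) i)) (@Bool.rec (fun _ => ℕ) (@Bool.rec (fun _ => ℕ) pb28 pb29 (Nat.ble (nat_lit 29) i)) (@Bool.rec (fun _ => ℕ) pb30 pb31 (Nat.ble (nat_lit 31) i)) (Nat.ble (nat_lit 30) i)) (Nat.ble (nat_lit 28) i)) (Nat.ble (nat_lit 24) i)) (Nat.ble (nat_lit 16) i))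

def parBlk_n0_1 (i : ℕ) : ℕ := (@Bool.rec (fun _ => ℕ) (@Bool.rec (fun _ => ℕ) (@Bool.rec (fun _ => ℕ) (@Bool.rec (fun _ => ℕ) (@Bool.rec (fun _ => ℕ) pb32 pb33 (Nat.ble (nat_lit 33) i)) (@Bool.rec (fun _ => ℕ) pb34 pb35 (Nat.ble (nat_lit 35) i)) (Nat.ble (nat_lit 34) i)) (@Bool.rec (fun _ => ℕ) (@Bool.rec (fun _ => ℕ) pb36 pb37 (Nat.ble (nat_lit 37) i)) (@Bool.rec (fun _ => ℕ) pb38 pb39 (Nat.ble (nat_lit 39) i)) (Nat.ble (nat_lit 38) i)) (Nat.ble (nat_lit 36) i)) (@Bool.rec (fun _ => ℕ) (@Bool.rec (fun _ => ℕ) (@Bool.rec (fun _ => ℕ) pb40 pb41 (Nat.ble (nat_lit 41) i)) (@Bool.rec (fun _ => ℕ) pb42 pb43 (Nat.ble (nat_lit 43) i)) (Nat.ble (nat_lit 42) i)) (@Bool.rec (fun _ => ℕ) (@Bool.rec (fun _ => ℕ) pb44 pb45 (Nat.ble (nat_lit 45) i)) (@Bool.rec (fun _ => ℕ) pb46 pb47 (Nat.ble (nat_lit 47) i))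 (Nat.ble (nat_lit 46) i)) (Nat.ble (nat_lit 44) i)) (Nat.ble (nat_lit 40) i)) (@Bool.rec (fun _ => ℕ) (@Bool.rec (fun _ => ℕ) (@Bool.rec (fun _ => ℕ) (@Bool.rec (fun _ => ℕ) pb48 pb49 (Nat.ble (nat_lit 49) i)) (@Bool.rec (fun _ => ℕ) pb50 pb51 (Nat.ble (nat_lit 51) i)) (Nat.ble (nat_lit 50) i)) (@Bool.rec (fun _ => ℕ) (@Bool.rec (fun _ => ℕ) pb52 pb53 (Nat.ble (nat_lit 53) i)) (@Bool.rec (fun _ => ℕ) pb54 pb55 (Nat.ble (nat_lit 55) i)) (Nat.ble (nat_lit 54) i)) (Nat.ble (nat_lit 52) i)) (@Bool.rec (fun _ => ℕ) (@Bool.rec (fun _ => ℕ) (@Bool.rec (fun _ => ℕ) pb56 pb57 (Nat.ble (nat_lit 57) i)) (@Bool.rec (fun _ => ℕ) pb58 pb59 (Nat.ble (nat_lit 59) i)) (Nat.ble (nat_lit 58) i)) (@Bool.rec (fun _ => ℕ) (@Bool.rec (fun _ => ℕ) pb60 pb61 (Nat.ble (nat_lit 61) i)) (@Bool.rec (fun _ => ℕ) pb62 pb63 (Nat.ble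 (nat_lit 63) i)) (Nat.ble (nat_lit 62) i)) (Nat.ble (nat_lit 60) i)) (Nat.ble (nat_lit 56) i)) (Nat.ble (nat_lit 48) i))

def parBlk_n0_2 (i : ℕ) : ℕ := (@Bool.rec (fun _ => ℕ) (@Bool.rec (fun _ => ℕ) (@Bool.rec (fun _ => ℕ) (@Bool.rec (fun _ => ℕ) (@Bool.rec (fun _ => ℕ) pb64 pb65 (Nat.ble (nat_lit 65) i)) (@Bool.rec (fun _ => ℕ) pb66 pb67 (Nat.ble (nat_lit 67) i)) (Nat.ble (nat_lit 66) i)) (@Bool.rec (fun _ => ℕ) (@Bool.rec (fun _ => ℕ) pb68 pb69 (Nat.ble (nat_lit 69) i)) (@Bool.rec (fun _ => ℕ) pb70 pb71 (Nat.ble (nat_lit 71) i)) (Nat.ble (nat_lit 70) i)) (Nat.ble (nat_lit 68) i)) (@Bool.rec (fun _ => ℕ) (@Bool.rec (fun _ => ℕ) (@Bool.rec (fun _ => ℕ) pb72 pb73 (Nat.ble (nat_lit 73) i)) (@Bool.rec (fun _ => ℕ) pb74 pb75 (Nat.ble (nat_lit 75) i)) (Nat.ble (nat_lit 74) i)) (@Bool.rec (fun _ => ℕ)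 (@Bool.rec (fun _ => ℕ) pb76 pb77 (Nat.ble (nat_lit 77) i)) (@Bool.rec (fun _ => ℕ) pb78 pb79 (Nat.ble (nat_lit 79) i)) (Nat.ble (nat_lit 78) i)) (Nat.ble (nat_lit 76) i)) (Nat.ble (nat_lit 72) i)) (@Bool.rec (fun _ => ℕ) (@Bool.rec (fun _ => ℕ) (@Bool.rec (fun _ => ℕ) (@Bool.rec (fun _ => ℕ) pb80 pb81 (Nat.ble (nat_lit 81) i)) (@Bool.rec (fun _ => ℕ) pb82 pb83 (Nat.ble (nat_lit 83) i)) (Nat.ble (nat_lit 82) i)) (@Bool.rec (fun _ => ℕ) (@Bool.rec (fun _ => ℕ) pb84 pb85 (Nat.ble (nat_lit 85) i)) (@Bool.rec (fun _ => ℕ) pb86 pb87 (Nat.ble (nat_lit 87) i)) (Nat.ble (nat_lit 86) i)) (Nat.ble (nat_lit 84) i)) (@Bool.rec (fun _ => ℕ) (@Bool.rec (fun _ => ℕ) (@Bool.rec (fun _ => ℕ) pb88 pb89 (Nat.ble (nat_lit 89) i)) (@Bool.rec (fun _ => ℕ) pb90 pb91 (Nat.ble (nat_lit 91) i)) (Nat.ble (nat_lit 90) i)) (@Bool.rec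 (fun _ => ℕ) (@Bool.rec (fun _ => ℕ) pb92 pb93 (Nat.ble (nat_lit 93) i)) (@Bool.rec (fun _ => ℕ) pb94 pb95 (Nat.ble (nat_lit 95) i)) (Nat.ble (nat_lit 94) i)) (Nat.ble (nat_lit 92) i)) (Nat.ble (nat_lit 88) i)) (Nat.ble (nat_lit 80) i))

def parBlk_n0_3 (i : ℕ) : ℕ := (@Bool.rec (fun _ => ℕ) (@Bool.rec (fun _ => ℕ) (@Bool.rec (fun _ => ℕ) (@Bool.rec (fun _ => ℕ) (@Bool.rec (fun _ => ℕ) pb96 pb97 (Nat.ble (nat_lit 97) i)) (@Bool.rec (fun _ => ℕ) pb98 pb99 (Nat.ble (nat_lit 99) i)) (Nat.ble (nat_lit 98) i)) (@Bool.rec (fun _ => ℕ) (@Bool.rec (fun _ => ℕ) pb100 pb101 (Nat.ble (nat_lit 101) i)) (@Bool.rec (fun _ => ℕ) pb102 pb103 (Nat.ble (nat_lit 103) i)) (Nat.ble (nat_lit 102) i)) (Nat.ble (nat_lit 100) i)) (@Bool.rec (fun _ => ℕ) (@Bool.rec (fun _ => ℕ) (@Bool.rec (fun _ => ℕ) pb104 pb105 (Nat.ble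 (nat_lit 105) i)) (@Bool.rec (fun _ => ℕ) pb106 pb107 (Nat.ble (nat_lit 107) i)) (Nat.ble (nat_lit 106) i)) (@Bool.rec (fun _ => ℕ) (@Bool.rec (fun _ => ℕ) pb108 pb109 (Nat.ble (nat_lit 109) i)) (@Bool.rec (fun _ => ℕ) pb110 pb111 (Nat.ble (nat_lit 111) i)) (Nat.ble (nat_lit 110) i)) (Nat.ble (nat_lit 108) i)) (Nat.ble (nat_lit 104) i)) (@Bool.rec (fun _ => ℕ) (@Bool.rec (fun _ => ℕ) (@Bool.rec (fun _ => ℕ) (@Bool.rec (fun _ => ℕ) pb112 pb113 (Nat.ble (nat_lit 113) i)) (@Bool.rec (fun _ => ℕ) pb114 pb115 (Nat.ble (nat_lit 115) i)) (Nat.ble (nat_lit 114) i)) (@Bool.rec (fun _ => ℕ) (@Bool.rec (fun _ => ℕ) pb116 pb117 (Nat.ble (nat_lit 117) i)) (@Bool.rec (fun _ => ℕ) pb118 pb119 (Nat.ble (nat_lit 119) i)) (Nat.ble (nat_lit 118) i)) (Nat.ble (nat_lit 116) i)) (@Bool.rec (fun _ => ℕ) (@Bool.rec (fun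 _ => ℕ) (@Bool.rec (fun _ => ℕ) pb120 pb121 (Nat.ble (nat_lit 121) i)) (@Bool.rec (fun _ => ℕ) pb122 pb123 (Nat.ble (nat_lit 123) i)) (Nat.ble (nat_lit 122) i)) (@Bool.rec (fun _ => ℕ) (@Bool.rec (fun _ => ℕ) pb124 pb125 (Nat.ble (nat_lit 125) i)) (@Bool.rec (fun _ => ℕ) pb126 pb127 (Nat.ble (nat_lit 127) i)) (Nat.ble (nat_lit 126) i)) (Nat.ble (nat_lit 124) i)) (Nat.ble (nat_lit 120) i)) (Nat.ble (nat_lit 112) i))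

def parBlk_n0_4 (i : ℕ) : ℕ := (@Bool.rec (fun _ => ℕ) (@Bool.rec (fun _ => ℕ) (@Bool.rec (fun _ => ℕ) (@Bool.rec (fun _ => ℕ) (@Bool.rec (fun _ => ℕ) pb128 pb129 (Nat.ble (nat_lit 129) i)) (@Bool.rec (fun _ => ℕ) pb130 pb131 (Nat.ble (nat_lit 131) i)) (Nat.ble (nat_lit 130) i)) (@Bool.rec (fun _ => ℕ) (@Bool.rec (fun _ => ℕ) pb132 pb133 (Nat.ble (nat_lit 133) i)) (@Bool.rec (fun _ => ℕ) pb134 pb135 (Nat.ble (nat_lit 135) i)) (Nat.ble (nat_lit 134) i)) (Nat.ble (nat_lit 132) i)) (@Bool.rec (fun _ => ℕ) (@Bool.rec (fun _ => ℕ) (@Bool.rec (fun _ => ℕ) pb136 pb137 (Nat.ble (nat_lit 137) i)) (@Bool.rec (fun _ => ℕ) pb138 pb139 (Nat.ble (nat_lit 139) i)) (Nat.ble (nat_lit 138) i)) (@Bool.rec (fun _ => ℕ) (@Bool.rec (fun _ => ℕ) pb140 pb141 (Nat.ble (nat_lit 141) i)) (@Bool.rec (fun _ => ℕ) pb142 pb143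 (Nat.ble (nat_lit 143) i)) (Nat.ble (nat_lit 142) i)) (Nat.ble (nat_lit 140) i)) (Nat.ble (nat_lit 136) i)) (@Bool.rec (fun _ => ℕ) (@Bool.rec (fun _ => ℕ) (@Bool.rec (fun _ => ℕ) (@Bool.rec (fun _ => ℕ) pb144 pb145 (Nat.ble (nat_lit 145) i)) (@Bool.rec (fun _ => ℕ) pb146 pb147 (Nat.ble (nat_lit 147) i)) (Nat.ble (nat_lit 146) i)) (@Bool.rec (fun _ => ℕ) (@Bool.rec (fun _ => ℕ) pb148 pb149 (Nat.ble (nat_lit 149) i)) (@Bool.rec (fun _ => ℕ) pb150 pb151 (Nat.ble (nat_lit 151) i)) (Nat.ble (nat_lit 150) i)) (Nat.ble (nat_lit 148) i)) (@Bool.rec (fun _ => ℕ) (@Bool.rec (fun _ => ℕ) (@Bool.rec (fun _ => ℕ) pb152 pb153 (Nat.ble (nat_lit 153) i)) (@Bool.rec (fun _ => ℕ) pb154 pb155 (Nat.ble (nat_lit 155) i)) (Nat.ble (nat_lit 154) i)) (@Bool.rec (fun _ => ℕ) (@Bool.rec (fun _ => ℕ) pb156 pb157 (Nat.ble (nat_lit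 157) i)) (@Bool.rec (fun _ => ℕ) pb158 pb159 (Nat.ble (nat_lit 159) i)) (Nat.ble (nat_lit 158) i)) (Nat.ble (nat_lit 156) i)) (Nat.ble (nat_lit 152) i)) (Nat.ble (nat_lit 144) i))

def parBlk_n0_5 (i : ℕ) : ℕ := (@Bool.rec (fun _ => ℕ) (@Bool.rec (fun _ => ℕ) pb160 pb161 (Nat.ble (nat_lit 161) i)) (@Bool.rec (fun _ => ℕ) pb162 pb163 (Nat.ble (nat_lit 163) i)) (Nat.ble (nat_lit 162) i))

def parBlk (i : ℕ) : ℕ := (@Bool.rec (fun _ => ℕ) (@Bool.rec (fun _ => ℕ) (parBlk_n0_0 i) (@Bool.rec (fun _ => ℕ) (parBlk_n0_1 i) (parBlk_n0_2 i) (Nat.ble (nat_lit 64) i)) (Nat.ble (nat_lit 32) i)) (@Bool.rec (fun _ => ℕ) (parBlk_n0_3 i) (@Bool.rec (fun _ => ℕ) (parBlk_n0_4 i) (parBlk_n0_5 i) (Nat.ble (nat_lit 160) i)) (Nat.ble (nat_lit 128) i)) (Nat.ble (nat_lit 96) i))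

def finBlk (i : ℕ) : ℕ := (@Bool.rec (fun _ => ℕ) (@Bool.rec (fun _ => ℕ) (@Bool.rec (fun _ => ℕ) nb0 nb1 (Nat.ble (nat_lit 1) i)) (@Bool.rec (fun _ => ℕ) nb2 (@Bool.rec (fun _ => ℕ) nb3 nb4 (Nat.ble (nat_lit 4) i)) (Nat.ble (nat_lit 3) i)) (Nat.ble (nat_lit 2) i)) (@Bool.rec (fun _ => ℕ) (@Bool.rec (fun _ => ℕ) nb5 (@Bool.rec (fun _ => ℕ) nb6 nb7 (Nat.ble (nat_lit 7) i)) (Nat.ble (nat_lit 6) i)) (@Bool.rec (fun _ => ℕ) nb8 (@Bool.rec (fun _ => ℕ) nb9 nb10 (Nat.ble (nat_lit 10) i)) (Nat.ble (nat_lit 9) i)) (Nat.ble (nat_lit 8) i)) (Nat.ble (nat_lit 5) i))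

def rowBlk_n0_0 (i : ℕ) : ℕ := (@Bool.rec (fun _ => ℕ) (@Bool.rec (fun _ => ℕ) (@Bool.rec (fun _ => ℕ) (@Bool.rec (fun _ => ℕ) (@Bool.rec (fun _ => ℕ) rb0 rb1 (Nat.ble (nat_lit 1) i)) (@Bool.rec (fun _ => ℕ) rb2 rb3 (Nat.ble (nat_lit 3) i)) (Nat.ble (nat_lit 2) i)) (@Bool.rec (fun _ => ℕ) (@Bool.rec (fun _ => ℕ) rb4 rb5 (Nat.ble (nat_lit 5) i)) (@Bool.rec (fun _ => ℕ) rb6 rb7 (Nat.ble (nat_lit 7) i)) (Nat.ble (nat_lit 6) i)) (Nat.ble (nat_lit 4) i)) (@Bool.rec (fun _ => ℕ) (@Bool.rec (fun _ => ℕ) (@Bool.rec (fun _ => ℕ) rb8 rb9 (Nat.ble (nat_lit 9) i)) (@Bool.rec (fun _ => ℕ) rb10 rb11 (Nat.ble (nat_lit 11) i)) (Nat.ble (nat_lit 10) i)) (@Bool.rec (fun _ => ℕ) (@Bool.rec (fun _ => ℕ) rb12 rb13 (Nat.ble (nat_lit 13) i)) (@Bool.rec (fun _ => ℕ) rb14 rb15 (Nat.ble (nat_lit 15) i)) (Nat.ble (nat_lit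 14) i)) (Nat.ble (nat_lit 12) i)) (Nat.ble (nat_lit 8) i)) (@Bool.rec (fun _ => ℕ) (@Bool.rec (fun _ => ℕ) (@Bool.rec (fun _ => ℕ) (@Bool.rec (fun _ => ℕ) rb16 rb17 (Nat.ble (nat_lit 17) i)) (@Bool.rec (fun _ => ℕ) rb18 rb19 (Nat.ble (nat_lit 19) i)) (Nat.ble (nat_lit 18) i)) (@Bool.rec (fun _ => ℕ) (@Bool.rec (fun _ => ℕ) rb20 rb21 (Nat.ble (nat_lit 21) i)) (@Bool.rec (fun _ => ℕ) rb22 rb23 (Nat.ble (nat_lit 23) i)) (Nat.ble (nat_lit 22) i)) (Nat.ble (nat_lit 20) i)) (@Bool.rec (fun _ => ℕ) (@Bool.rec (fun _ => ℕ) (@Bool.rec (fun _ => ℕ) rb24 rb25 (Nat.ble (nat_lit 25) i)) (@Bool.rec (fun _ => ℕ) rb26 rb27 (Nat.ble (nat_lit 27) i)) (Nat.ble (nat_lit 26) i)) (@Bool.rec (fun _ => ℕ) (@Bool.rec (fun _ => ℕ) rb28 rb29 (Nat.ble (nat_lit 29) i)) (@Bool.rec (fun _ => ℕ) rb30 rb31 (Nat.ble (nat_lit 31) i))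 (Nat.ble (nat_lit 30) i)) (Nat.ble (nat_lit 28) i)) (Nat.ble (nat_lit 24) i)) (Nat.ble (nat_lit 16) i))

def rowBlk_n0_1 (i : ℕ) : ℕ := (@Bool.rec (fun _ => ℕ) (@Bool.rec (fun _ => ℕ) (@Bool.rec (fun _ => ℕ) (@Bool.rec (fun _ => ℕ) (@Bool.rec (fun _ => ℕ) rb32 rb33 (Nat.ble (nat_lit 33) i)) (@Bool.rec (fun _ => ℕ) rb34 rb35 (Nat.ble (nat_lit 35) i)) (Nat.ble (nat_lit 34) i)) (@Bool.rec (fun _ => ℕ) (@Bool.rec (fun _ => ℕ) rb36 rb37 (Nat.ble (nat_lit 37) i)) (@Bool.rec (fun _ => ℕ) rb38 rb39 (Nat.ble (nat_lit 39) i)) (Nat.ble (nat_lit 38) i)) (Nat.ble (nat_lit 36) i)) (@Bool.rec (fun _ => ℕ) (@Bool.rec (fun _ => ℕ) (@Bool.rec (fun _ => ℕ) rb40 rb41 (Nat.ble (nat_lit 41) i)) (@Bool.rec (fun _ => ℕ) rb42 rb43 (Nat.ble (nat_lit 43) i)) (Nat.ble (nat_lit 42) i)) (@Bool.rec (fun _ => ℕ) (@Bool.rec (fun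 _ => ℕ) rb44 rb45 (Nat.ble (nat_lit 45) i)) (@Bool.rec (fun _ => ℕ) rb46 rb47 (Nat.ble (nat_lit 47) i)) (Nat.ble (nat_lit 46) i)) (Nat.ble (nat_lit 44) i)) (Nat.ble (nat_lit 40) i)) (@Bool.rec (fun _ => ℕ) (@Bool.rec (fun _ => ℕ) (@Bool.rec (fun _ => ℕ) (@Bool.rec (fun _ => ℕ) rb48 rb49 (Nat.ble (nat_lit 49) i)) (@Bool.rec (fun _ => ℕ) rb50 rb51 (Nat.ble (nat_lit 51) i)) (Nat.ble (nat_lit 50) i)) (@Bool.rec (fun _ => ℕ) (@Bool.rec (fun _ => ℕ) rb52 rb53 (Nat.ble (nat_lit 53) i)) (@Bool.rec (fun _ => ℕ) rb54 rb55 (Nat.ble (nat_lit 55) i)) (Nat.ble (nat_lit 54) i)) (Nat.ble (nat_lit 52) i)) (@Bool.rec (fun _ => ℕ) (@Bool.rec (fun _ => ℕ) (@Bool.rec (fun _ => ℕ) rb56 rb57 (Nat.ble (nat_lit 57) i)) (@Bool.rec (fun _ => ℕ) rb58 rb59 (Nat.ble (nat_lit 59) i)) (Nat.ble (nat_lit 58) i)) (@Bool.rec (fun _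 => ℕ) (@Bool.rec (fun _ => ℕ) rb60 rb61 (Nat.ble (nat_lit 61) i)) (@Bool.rec (fun _ => ℕ) rb62 rb63 (Nat.ble (nat_lit 63) i)) (Nat.ble (nat_lit 62) i)) (Nat.ble (nat_lit 60) i)) (Nat.ble (nat_lit 56) i)) (Nat.ble (nat_lit 48) i))

def rowBlk_n0_2 (i : ℕ) : ℕ := (@Bool.rec (fun _ => ℕ) (@Bool.rec (fun _ => ℕ) (@Bool.rec (fun _ => ℕ) (@Bool.rec (fun _ => ℕ) (@Bool.rec (fun _ => ℕ) rb64 rb65 (Nat.ble (nat_lit 65) i)) (@Bool.rec (fun _ => ℕ) rb66 rb67 (Nat.ble (nat_lit 67) i)) (Nat.ble (nat_lit 66) i)) (@Bool.rec (fun _ => ℕ) (@Bool.rec (fun _ => ℕ) rb68 rb69 (Nat.ble (nat_lit 69) i)) (@Bool.rec (fun _ => ℕ) rb70 rb71 (Nat.ble (nat_lit 71) i)) (Nat.ble (nat_lit 70) i)) (Nat.ble (nat_lit 68) i)) (@Bool.rec (fun _ => ℕ) (@Bool.rec (fun _ => ℕ) (@Bool.rec (fun _ => ℕ) rb72 rb73 (Nat.ble (nat_lit 73) i))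 (@Bool.rec (fun _ => ℕ) rb74 rb75 (Nat.ble (nat_lit 75) i)) (Nat.ble (nat_lit 74) i)) (@Bool.rec (fun _ => ℕ) (@Bool.rec (fun _ => ℕ) rb76 rb77 (Nat.ble (nat_lit 77) i)) (@Bool.rec (fun _ => ℕ) rb78 rb79 (Nat.ble (nat_lit 79) i)) (Nat.ble (nat_lit 78) i)) (Nat.ble (nat_lit 76) i)) (Nat.ble (nat_lit 72) i)) (@Bool.rec (fun _ => ℕ) (@Bool.rec (fun _ => ℕ) (@Bool.rec (fun _ => ℕ) (@Bool.rec (fun _ => ℕ) rb80 rb81 (Nat.ble (nat_lit 81) i)) (@Bool.rec (fun _ => ℕ) rb82 rb83 (Nat.ble (nat_lit 83) i)) (Nat.ble (nat_lit 82) i)) (@Bool.rec (fun _ => ℕ) (@Bool.rec (fun _ => ℕ) rb84 rb85 (Nat.ble (nat_lit 85) i)) (@Bool.rec (fun _ => ℕ) rb86 rb87 (Nat.ble (nat_lit 87) i)) (Nat.ble (nat_lit 86) i)) (Nat.ble (nat_lit 84) i)) (@Bool.rec (fun _ => ℕ) (@Bool.rec (fun _ => ℕ) (@Bool.rec (fun _ => ℕ) rb88 rb89 (Nat.ble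 (nat_lit 89) i)) (@Bool.rec (fun _ => ℕ) rb90 rb91 (Nat.ble (nat_lit 91) i)) (Nat.ble (nat_lit 90) i)) (@Bool.rec (fun _ => ℕ) (@Bool.rec (fun _ => ℕ) rb92 rb93 (Nat.ble (nat_lit 93) i)) (@Bool.rec (fun _ => ℕ) rb94 rb95 (Nat.ble (nat_lit 95) i)) (Nat.ble (nat_lit 94) i)) (Nat.ble (nat_lit 92) i)) (Nat.ble (nat_lit 88) i)) (Nat.ble (nat_lit 80) i))

def rowBlk_n0_3 (i : ℕ) : ℕ := (@Bool.rec (fun _ => ℕ) (@Bool.rec (fun _ => ℕ) (@Bool.rec (fun _ => ℕ) (@Bool.rec (fun _ => ℕ) (@Bool.rec (fun _ => ℕ) rb96 rb97 (Nat.ble (nat_lit 97) i)) (@Bool.rec (fun _ => ℕ) rb98 rb99 (Nat.ble (nat_lit 99) i)) (Nat.ble (nat_lit 98) i)) (@Bool.rec (fun _ => ℕ) (@Bool.rec (fun _ => ℕ) rb100 rb101 (Nat.ble (nat_lit 101) i)) (@Bool.rec (fun _ => ℕ) rb102 rb103 (Nat.ble (nat_lit 103) i)) (Nat.ble (nat_lit 102) i)) (Nat.ble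 (nat_lit 100) i)) (@Bool.rec (fun _ => ℕ) (@Bool.rec (fun _ => ℕ) (@Bool.rec (fun _ => ℕ) rb104 rb105 (Nat.ble (nat_lit 105) i)) (@Bool.rec (fun _ => ℕ) rb106 rb107 (Nat.ble (nat_lit 107) i)) (Nat.ble (nat_lit 106) i)) (@Bool.rec (fun _ => ℕ) (@Bool.rec (fun _ => ℕ) rb108 rb109 (Nat.ble (nat_lit 109) i)) (@Bool.rec (fun _ => ℕ) rb110 rb111 (Nat.ble (nat_lit 111) i)) (Nat.ble (nat_lit 110) i)) (Nat.ble (nat_lit 108) i)) (Nat.ble (nat_lit 104) i)) (@Bool.rec (fun _ => ℕ) (@Bool.rec (fun _ => ℕ) (@Bool.rec (fun _ => ℕ) (@Bool.rec (fun _ => ℕ) rb112 rb113 (Nat.ble (nat_lit 113) i)) (@Bool.rec (fun _ => ℕ) rb114 rb115 (Nat.ble (nat_lit 115) i)) (Nat.ble (nat_lit 114) i)) (@Bool.rec (fun _ => ℕ) (@Bool.rec (fun _ => ℕ) rb116 rb117 (Nat.ble (nat_lit 117) i)) (@Bool.rec (fun _ => ℕ) rb118 rb119 (Nat.ble (nat_lit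 119) i)) (Nat.ble (nat_lit 118) i)) (Nat.ble (nat_lit 116) i)) (@Bool.rec (fun _ => ℕ) (@Bool.rec (fun _ => ℕ) (@Bool.rec (fun _ => ℕ) rb120 rb121 (Nat.ble (nat_lit 121) i)) (@Bool.rec (fun _ => ℕ) rb122 rb123 (Nat.ble (nat_lit 123) i)) (Nat.ble (nat_lit 122) i)) (@Bool.rec (fun _ => ℕ) (@Bool.rec (fun _ => ℕ) rb124 rb125 (Nat.ble (nat_lit 125) i)) (@Bool.rec (fun _ => ℕ) rb126 rb127 (Nat.ble (nat_lit 127) i)) (Nat.ble (nat_lit 126) i)) (Nat.ble (nat_lit 124) i)) (Nat.ble (nat_lit 120) i)) (Nat.ble (nat_lit 112) i))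

def rowBlk_n0_4 (i : ℕ) : ℕ := (@Bool.rec (fun _ => ℕ) (@Bool.rec (fun _ => ℕ) (@Bool.rec (fun _ => ℕ) (@Bool.rec (fun _ => ℕ) (@Bool.rec (fun _ => ℕ) rb128 rb129 (Nat.ble (nat_lit 129) i)) (@Bool.rec (fun _ => ℕ) rb130 rb131 (Nat.ble (nat_lit 131) i)) (Nat.ble (nat_lit 130) i)) (@Bool.rec (fun _ => ℕ) (@Bool.rec (fun _ => ℕ) rb132 rb133 (Nat.ble (nat_lit 133) i)) (@Bool.rec (fun _ => ℕ) rb134 rb135 (Nat.ble (nat_lit 135) i)) (Nat.ble (nat_lit 134) i)) (Nat.ble (nat_lit 132) i)) (@Bool.rec (fun _ => ℕ) (@Bool.rec (fun _ => ℕ) (@Bool.rec (fun _ => ℕ) rb136 rb137 (Nat.ble (nat_lit 137) i)) (@Bool.rec (fun _ => ℕ) rb138 rb139 (Nat.ble (nat_lit 139) i)) (Nat.ble (nat_lit 138) i)) (@Bool.rec (fun _ => ℕ) (@Bool.rec (fun _ => ℕ) rb140 rb141 (Nat.ble (nat_lit 141) i)) (@Bool.rec (fun _ => ℕ) rb142 rb143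 (Nat.ble (nat_lit 143) i)) (Nat.ble (nat_lit 142) i)) (Nat.ble (nat_lit 140) i)) (Nat.ble (nat_lit 136) i)) (@Bool.rec (fun _ => ℕ) (@Bool.rec (fun _ => ℕ) (@Bool.rec (fun _ => ℕ) (@Bool.rec (fun _ => ℕ) rb144 rb145 (Nat.ble (nat_lit 145) i)) (@Bool.rec (fun _ => ℕ) rb146 rb147 (Nat.ble (nat_lit 147) i)) (Nat.ble (nat_lit 146) i)) (@Bool.rec (fun _ => ℕ) (@Bool.rec (fun _ => ℕ) rb148 rb149 (Nat.ble (nat_lit 149) i)) (@Bool.rec (fun _ => ℕ) rb150 rb151 (Nat.ble (nat_lit 151) i)) (Nat.ble (nat_lit 150) i)) (Nat.ble (nat_lit 148) i)) (@Bool.rec (fun _ => ℕ) (@Bool.rec (fun _ => ℕ) (@Bool.rec (fun _ => ℕ) rb152 rb153 (Nat.ble (nat_lit 153) i)) (@Bool.rec (fun _ => ℕ) rb154 rb155 (Nat.ble (nat_lit 155) i)) (Nat.ble (nat_lit 154) i)) (@Bool.rec (fun _ => ℕ) (@Bool.rec (fun _ => ℕ) rb156 rb157 (Nat.ble (nat_lit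 157) i)) (@Bool.rec (fun _ => ℕ) rb158 rb159 (Nat.ble (nat_lit 159) i)) (Nat.ble (nat_lit 158) i)) (Nat.ble (nat_lit 156) i)) (Nat.ble (nat_lit 152) i)) (Nat.ble (nat_lit 144) i))

def rowBlk_n0_5 (i : ℕ) : ℕ := (@Bool.rec (fun _ => ℕ) (@Bool.rec (fun _ => ℕ) (@Bool.rec (fun _ => ℕ) (@Bool.rec (fun _ => ℕ) (@Bool.rec (fun _ => ℕ) rb160 rb161 (Nat.ble (nat_lit 161) i)) (@Bool.rec (fun _ => ℕ) rb162 rb163 (Nat.ble (nat_lit 163) i)) (Nat.ble (nat_lit 162) i)) (@Bool.rec (fun _ => ℕ) (@Bool.rec (fun _ => ℕ) rb164 rb165 (Nat.ble (nat_lit 165) i)) (@Bool.rec (fun _ => ℕ) rb166 rb167 (Nat.ble (nat_lit 167) i)) (Nat.ble (nat_lit 166) i)) (Nat.ble (nat_lit 164) i)) (@Bool.rec (fun _ => ℕ) (@Bool.rec (fun _ => ℕ) (@Bool.rec (fun _ => ℕ) rb168 rb169 (Nat.ble (nat_lit 169) i)) (@Bool.rec (fun _ => ℕ) rb170 rb171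 (Nat.ble (nat_lit 171) i)) (Nat.ble (nat_lit 170) i)) (@Bool.rec (fun _ => ℕ) (@Bool.rec (fun _ => ℕ) rb172 rb173 (Nat.ble (nat_lit 173) i)) (@Bool.rec (fun _ => ℕ) rb174 rb175 (Nat.ble (nat_lit 175) i)) (Nat.ble (nat_lit 174) i)) (Nat.ble (nat_lit 172) i)) (Nat.ble (nat_lit 168) i)) (@Bool.rec (fun _ => ℕ) (@Bool.rec (fun _ => ℕ) (@Bool.rec (fun _ => ℕ) (@Bool.rec (fun _ => ℕ) rb176 rb177 (Nat.ble (nat_lit 177) i)) (@Bool.rec (fun _ => ℕ) rb178 rb179 (Nat.ble (nat_lit 179) i)) (Nat.ble (nat_lit 178) i)) (@Bool.rec (fun _ => ℕ) (@Bool.rec (fun _ => ℕ) rb180 rb181 (Nat.ble (nat_lit 181) i)) (@Bool.rec (fun _ => ℕ) rb182 rb183 (Nat.ble (nat_lit 183) i)) (Nat.ble (nat_lit 182) i)) (Nat.ble (nat_lit 180) i)) (@Bool.rec (fun _ => ℕ) (@Bool.rec (fun _ => ℕ) (@Bool.rec (fun _ => ℕ) rb184 rb185 (Nat.ble (nat_lit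 185) i)) (@Bool.rec (fun _ => ℕ) rb186 rb187 (Nat.ble (nat_lit 187) i)) (Nat.ble (nat_lit 186) i)) (@Bool.rec (fun _ => ℕ) (@Bool.rec (fun _ => ℕ) rb188 rb189 (Nat.ble (nat_lit 189) i)) (@Bool.rec (fun _ => ℕ) rb190 rb191 (Nat.ble (nat_lit 191) i)) (Nat.ble (nat_lit 190) i)) (Nat.ble (nat_lit 188) i)) (Nat.ble (nat_lit 184) i)) (Nat.ble (nat_lit 176) i))

def rowBlk_n0_6 (i : ℕ) : ℕ := (@Bool.rec (fun _ => ℕ) (@Bool.rec (fun _ => ℕ) (@Bool.rec (fun _ => ℕ) (@Bool.rec (fun _ => ℕ) (@Bool.rec (fun _ => ℕ) rb192 rb193 (Nat.ble (nat_lit 193) i)) (@Bool.rec (fun _ => ℕ) rb194 rb195 (Nat.ble (nat_lit 195) i)) (Nat.ble (nat_lit 194) i)) (@Bool.rec (fun _ => ℕ) (@Bool.rec (fun _ => ℕ) rb196 rb197 (Nat.ble (nat_lit 197) i)) (@Bool.rec (fun _ => ℕ) rb198 rb199 (Nat.ble (nat_lit 199) i)) (Nat.ble (nat_lit 198)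 i)) (Nat.ble (nat_lit 196) i)) (@Bool.rec (fun _ => ℕ) (@Bool.rec (fun _ => ℕ) (@Bool.rec (fun _ => ℕ) rb200 rb201 (Nat.ble (nat_lit 201) i)) (@Bool.rec (fun _ => ℕ) rb202 rb203 (Nat.ble (nat_lit 203) i)) (Nat.ble (nat_lit 202) i)) (@Bool.rec (fun _ => ℕ) (@Bool.rec (fun _ => ℕ) rb204 rb205 (Nat.ble (nat_lit 205) i)) (@Bool.rec (fun _ => ℕ) rb206 rb207 (Nat.ble (nat_lit 207) i)) (Nat.ble (nat_lit 206) i)) (Nat.ble (nat_lit 204) i)) (Nat.ble (nat_lit 200) i)) (@Bool.rec (fun _ => ℕ) (@Bool.rec (fun _ => ℕ) (@Bool.rec (fun _ => ℕ) (@Bool.rec (fun _ => ℕ) rb208 rb209 (Nat.ble (nat_lit 209) i)) (@Bool.rec (fun _ => ℕ) rb210 rb211 (Nat.ble (nat_lit 211) i)) (Nat.ble (nat_lit 210) i)) (@Bool.rec (fun _ => ℕ) (@Bool.rec (fun _ => ℕ) rb212 rb213 (Nat.ble (nat_lit 213) i)) (@Bool.rec (fun _ => ℕ) rb214 rb215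 (Nat.ble (nat_lit 215) i)) (Nat.ble (nat_lit 214) i)) (Nat.ble (nat_lit 212) i)) (@Bool.rec (fun _ => ℕ) (@Bool.rec (fun _ => ℕ) (@Bool.rec (fun _ => ℕ) rb216 rb217 (Nat.ble (nat_lit 217) i)) (@Bool.rec (fun _ => ℕ) rb218 rb219 (Nat.ble (nat_lit 219) i)) (Nat.ble (nat_lit 218) i)) (@Bool.rec (fun _ => ℕ) (@Bool.rec (fun _ => ℕ) rb220 rb221 (Nat.ble (nat_lit 221) i)) (@Bool.rec (fun _ => ℕ) rb222 rb223 (Nat.ble (nat_lit 223) i)) (Nat.ble (nat_lit 222) i)) (Nat.ble (nat_lit 220) i)) (Nat.ble (nat_lit 216) i)) (Nat.ble (nat_lit 208) i))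

def rowBlk_n0_7 (i : ℕ) : ℕ := (@Bool.rec (fun _ => ℕ) (@Bool.rec (fun _ => ℕ) (@Bool.rec (fun _ => ℕ) (@Bool.rec (fun _ => ℕ) (@Bool.rec (fun _ => ℕ) rb224 rb225 (Nat.ble (nat_lit 225) i)) (@Bool.rec (fun _ => ℕ) rb226 rb227 (Nat.ble (nat_lit 227) i)) (Nat.ble (nat_lit 226) i)) (@Bool.rec (fun _ => ℕ) (@Bool.rec (fun _ => ℕ) rb228 rb229 (Nat.ble (nat_lit 229) i)) (@Bool.rec (fun _ => ℕ) rb230 rb231 (Nat.ble (nat_lit 231) i)) (Nat.ble (nat_lit 230) i)) (Nat.ble (nat_lit 228) i)) (@Bool.rec (fun _ => ℕ) (@Bool.rec (fun _ => ℕ) (@Bool.rec (fun _ => ℕ) rb232 rb233 (Nat.ble (nat_lit 233) i)) (@Bool.rec (fun _ => ℕ) rb234 rb235 (Nat.ble (nat_lit 235) i)) (Nat.ble (nat_lit 234) i)) (@Bool.rec (fun _ => ℕ) (@Bool.rec (fun _ => ℕ) rb236 rb237 (Nat.ble (nat_lit 237) i)) (@Bool.rec (fun _ => ℕ) rb238 rb239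 (Nat.ble (nat_lit 239) i)) (Nat.ble (nat_lit 238) i)) (Nat.ble (nat_lit 236) i)) (Nat.ble (nat_lit 232) i)) (@Bool.rec (fun _ => ℕ) (@Bool.rec (fun _ => ℕ) (@Bool.rec (fun _ => ℕ) (@Bool.rec (fun _ => ℕ) rb240 rb241 (Nat.ble (nat_lit 241) i)) (@Bool.rec (fun _ => ℕ) rb242 rb243 (Nat.ble (nat_lit 243) i)) (Nat.ble (nat_lit 242) i)) (@Bool.rec (fun _ => ℕ) (@Bool.rec (fun _ => ℕ) rb244 rb245 (Nat.ble (nat_lit 245) i)) (@Bool.rec (fun _ => ℕ) rb246 rb247 (Nat.ble (nat_lit 247) i)) (Nat.ble (nat_lit 246) i)) (Nat.ble (nat_lit 244) i)) (@Bool.rec (fun _ => ℕ) (@Bool.rec (fun _ => ℕ) (@Bool.rec (fun _ => ℕ) rb248 rb249 (Nat.ble (nat_lit 249) i)) (@Bool.rec (fun _ => ℕ) rb250 rb251 (Nat.ble (nat_lit 251) i)) (Nat.ble (nat_lit 250) i)) (@Bool.rec (fun _ => ℕ) (@Bool.rec (fun _ => ℕ) rb252 rb253 (Nat.ble (nat_lit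 253) i)) (@Bool.rec (fun _ => ℕ) rb254 rb255 (Nat.ble (nat_lit 255) i)) (Nat.ble (nat_lit 254) i)) (Nat.ble (nat_lit 252) i)) (Nat.ble (nat_lit 248) i)) (Nat.ble (nat_lit 240) i))

def rowBlk_n0_8 (i : ℕ) : ℕ := (@Bool.rec (fun _ => ℕ) (@Bool.rec (fun _ => ℕ) (@Bool.rec (fun _ => ℕ) (@Bool.rec (fun _ => ℕ) (@Bool.rec (fun _ => ℕ) rb256 rb257 (Nat.ble (nat_lit 257) i)) (@Bool.rec (fun _ => ℕ) rb258 rb259 (Nat.ble (nat_lit 259) i)) (Nat.ble (nat_lit 258) i)) (@Bool.rec (fun _ => ℕ) (@Bool.rec (fun _ => ℕ) rb260 rb261 (Nat.ble (nat_lit 261) i)) (@Bool.rec (fun _ => ℕ) rb262 rb263 (Nat.ble (nat_lit 263) i)) (Nat.ble (nat_lit 262) i)) (Nat.ble (nat_lit 260) i)) (@Bool.rec (fun _ => ℕ) (@Bool.rec (fun _ => ℕ) (@Bool.rec (fun _ => ℕ) rb264 rb265 (Nat.ble (nat_lit 265) i)) (@Bool.rec (fun _ => ℕ) rb266 rb267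 (Nat.ble (nat_lit 267) i)) (Nat.ble (nat_lit 266) i)) (@Bool.rec (fun _ => ℕ) (@Bool.rec (fun _ => ℕ) rb268 rb269 (Nat.ble (nat_lit 269) i)) (@Bool.rec (fun _ => ℕ) rb270 rb271 (Nat.ble (nat_lit 271) i)) (Nat.ble (nat_lit 270) i)) (Nat.ble (nat_lit 268) i)) (Nat.ble (nat_lit 264) i)) (@Bool.rec (fun _ => ℕ) (@Bool.rec (fun _ => ℕ) (@Bool.rec (fun _ => ℕ) (@Bool.rec (fun _ => ℕ) rb272 rb273 (Nat.ble (nat_lit 273) i)) (@Bool.rec (fun _ => ℕ) rb274 rb275 (Nat.ble (nat_lit 275) i)) (Nat.ble (nat_lit 274) i)) (@Bool.rec (fun _ => ℕ) (@Bool.rec (fun _ => ℕ) rb276 rb277 (Nat.ble (nat_lit 277) i)) (@Bool.rec (fun _ => ℕ) rb278 rb279 (Nat.ble (nat_lit 279) i)) (Nat.ble (nat_lit 278) i)) (Nat.ble (nat_lit 276) i)) (@Bool.rec (fun _ => ℕ) (@Bool.rec (fun _ => ℕ) (@Bool.rec (fun _ => ℕ) rb280 rb281 (Nat.ble (nat_lit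 281) i)) (@Bool.rec (fun _ => ℕ) rb282 rb283 (Nat.ble (nat_lit 283) i)) (Nat.ble (nat_lit 282) i)) (@Bool.rec (fun _ => ℕ) (@Bool.rec (fun _ => ℕ) rb284 rb285 (Nat.ble (nat_lit 285) i)) (@Bool.rec (fun _ => ℕ) rb286 rb287 (Nat.ble (nat_lit 287) i)) (Nat.ble (nat_lit 286) i)) (Nat.ble (nat_lit 284) i)) (Nat.ble (nat_lit 280) i)) (Nat.ble (nat_lit 272) i))

def rowBlk_n0_9 (i : ℕ) : ℕ := (@Bool.rec (fun _ => ℕ) (@Bool.rec (fun _ => ℕ) (@Bool.rec (fun _ => ℕ) (@Bool.rec (fun _ => ℕ) (@Bool.rec (fun _ => ℕ) rb288 rb289 (Nat.ble (nat_lit 289) i)) (@Bool.rec (fun _ => ℕ) rb290 rb291 (Nat.ble (nat_lit 291) i)) (Nat.ble (nat_lit 290) i)) (@Bool.rec (fun _ => ℕ) (@Bool.rec (fun _ => ℕ) rb292 rb293 (Nat.ble (nat_lit 293) i)) (@Bool.rec (fun _ => ℕ) rb294 rb295 (Nat.ble (nat_lit 295) i)) (Nat.ble (nat_lit 294)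 i)) (Nat.ble (nat_lit 292) i)) (@Bool.rec (fun _ => ℕ) (@Bool.rec (fun _ => ℕ) (@Bool.rec (fun _ => ℕ) rb296 rb297 (Nat.ble (nat_lit 297) i)) (@Bool.rec (fun _ => ℕ) rb298 rb299 (Nat.ble (nat_lit 299) i)) (Nat.ble (nat_lit 298) i)) (@Bool.rec (fun _ => ℕ) (@Bool.rec (fun _ => ℕ) rb300 rb301 (Nat.ble (nat_lit 301) i)) (@Bool.rec (fun _ => ℕ) rb302 rb303 (Nat.ble (nat_lit 303) i)) (Nat.ble (nat_lit 302) i)) (Nat.ble (nat_lit 300) i)) (Nat.ble (nat_lit 296) i)) (@Bool.rec (fun _ => ℕ) (@Bool.rec (fun _ => ℕ) (@Bool.rec (fun _ => ℕ) (@Bool.rec (fun _ => ℕ) rb304 rb305 (Nat.ble (nat_lit 305) i)) (@Bool.rec (fun _ => ℕ) rb306 rb307 (Nat.ble (nat_lit 307) i)) (Nat.ble (nat_lit 306) i)) (@Bool.rec (fun _ => ℕ) (@Bool.rec (fun _ => ℕ) rb308 rb309 (Nat.ble (nat_lit 309) i)) (@Bool.rec (fun _ => ℕ) rb310 rb311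 (Nat.ble (nat_lit 311) i)) (Nat.ble (nat_lit 310) i)) (Nat.ble (nat_lit 308) i)) (@Bool.rec (fun _ => ℕ) (@Bool.rec (fun _ => ℕ) (@Bool.rec (fun _ => ℕ) rb312 rb313 (Nat.ble (nat_lit 313) i)) (@Bool.rec (fun _ => ℕ) rb314 rb315 (Nat.ble (nat_lit 315) i)) (Nat.ble (nat_lit 314) i)) (@Bool.rec (fun _ => ℕ) (@Bool.rec (fun _ => ℕ) rb316 rb317 (Nat.ble (nat_lit 317) i)) (@Bool.rec (fun _ => ℕ) rb318 rb319 (Nat.ble (nat_lit 319) i)) (Nat.ble (nat_lit 318) i)) (Nat.ble (nat_lit 316) i)) (Nat.ble (nat_lit 312) i)) (Nat.ble (nat_lit 304) i))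

def rowBlk_n0_10 (i : ℕ) : ℕ := (@Bool.rec (fun _ => ℕ) (@Bool.rec (fun _ => ℕ) (@Bool.rec (fun _ => ℕ) (@Bool.rec (fun _ => ℕ) (@Bool.rec (fun _ => ℕ) rb320 rb321 (Nat.ble (nat_lit 321) i)) (@Bool.rec (fun _ => ℕ) rb322 rb323 (Nat.ble (nat_lit 323) i)) (Nat.ble (nat_lit 322) i)) (@Bool.rec (fun _ => ℕ) (@Bool.rec (fun _ => ℕ) rb324 rb325 (Nat.ble (nat_lit 325) i)) (@Bool.rec (fun _ => ℕ) rb326 rb327 (Nat.ble (nat_lit 327) i)) (Nat.ble (nat_lit 326) i)) (Nat.ble (nat_lit 324) i)) (@Bool.rec (fun _ => ℕ) (@Bool.rec (fun _ => ℕ) (@Bool.rec (fun _ => ℕ) rb328 rb329 (Nat.ble (nat_lit 329) i)) (@Bool.rec (fun _ => ℕ) rb330 rb331 (Nat.ble (nat_lit 331) i)) (Nat.ble (nat_lit 330) i)) (@Bool.rec (fun _ => ℕ) (@Bool.rec (fun _ => ℕ) rb332 rb333 (Nat.ble (nat_lit 333) i)) (@Bool.rec (fun _ => ℕ) rb334 rb335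 (Nat.ble (nat_lit 335) i)) (Nat.ble (nat_lit 334) i)) (Nat.ble (nat_lit 332) i)) (Nat.ble (nat_lit 328) i)) (@Bool.rec (fun _ => ℕ) (@Bool.rec (fun _ => ℕ) (@Bool.rec (fun _ => ℕ) (@Bool.rec (fun _ => ℕ) rb336 rb337 (Nat.ble (nat_lit 337) i)) (@Bool.rec (fun _ => ℕ) rb338 rb339 (Nat.ble (nat_lit 339) i)) (Nat.ble (nat_lit 338) i)) (@Bool.rec (fun _ => ℕ) (@Bool.rec (fun _ => ℕ) rb340 rb341 (Nat.ble (nat_lit 341) i)) (@Bool.rec (fun _ => ℕ) rb342 rb343 (Nat.ble (nat_lit 343) i)) (Nat.ble (nat_lit 342) i)) (Nat.ble (nat_lit 340) i)) (@Bool.rec (fun _ => ℕ) (@Bool.rec (fun _ => ℕ) (@Bool.rec (fun _ => ℕ) rb344 rb345 (Nat.ble (nat_lit 345) i)) (@Bool.rec (fun _ => ℕ) rb346 rb347 (Nat.ble (nat_lit 347) i)) (Nat.ble (nat_lit 346) i)) (@Bool.rec (fun _ => ℕ) (@Bool.rec (fun _ => ℕ) rb348 rb349 (Nat.ble (nat_lit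 349) i)) (@Bool.rec (fun _ => ℕ) rb350 rb351 (Nat.ble (nat_lit 351) i)) (Nat.ble (nat_lit 350) i)) (Nat.ble (nat_lit 348) i)) (Nat.ble (nat_lit 344) i)) (Nat.ble (nat_lit 336) i))

def rowBlk_n0_11 (i : ℕ) : ℕ := (@Bool.rec (fun _ => ℕ) (@Bool.rec (fun _ => ℕ) (@Bool.rec (fun _ => ℕ) (@Bool.rec (fun _ => ℕ) (@Bool.rec (fun _ => ℕ) rb352 rb353 (Nat.ble (nat_lit 353) i)) (@Bool.rec (fun _ => ℕ) rb354 rb355 (Nat.ble (nat_lit 355) i)) (Nat.ble (nat_lit 354) i)) (@Bool.rec (fun _ => ℕ) (@Bool.rec (fun _ => ℕ) rb356 rb357 (Nat.ble (nat_lit 357) i)) (@Bool.rec (fun _ => ℕ) rb358 rb359 (Nat.ble (nat_lit 359) i)) (Nat.ble (nat_lit 358) i)) (Nat.ble (nat_lit 356) i)) (@Bool.rec (fun _ => ℕ) (@Bool.rec (fun _ => ℕ) (@Bool.rec (fun _ => ℕ) rb360 rb361 (Nat.ble (nat_lit 361) i)) (@Bool.rec (fun _ => ℕ) rb362 rb363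 (Nat.ble (nat_lit 363) i)) (Nat.ble (nat_lit 362) i)) (@Bool.rec (fun _ => ℕ) (@Bool.rec (fun _ => ℕ) rb364 rb365 (Nat.ble (nat_lit 365) i)) (@Bool.rec (fun _ => ℕ) rb366 rb367 (Nat.ble (nat_lit 367) i)) (Nat.ble (nat_lit 366) i)) (Nat.ble (nat_lit 364) i)) (Nat.ble (nat_lit 360) i)) (@Bool.rec (fun _ => ℕ) (@Bool.rec (fun _ => ℕ) (@Bool.rec (fun _ => ℕ) (@Bool.rec (fun _ => ℕ) rb368 rb369 (Nat.ble (nat_lit 369) i)) (@Bool.rec (fun _ => ℕ) rb370 rb371 (Nat.ble (nat_lit 371) i)) (Nat.ble (nat_lit 370) i)) (@Bool.rec (fun _ => ℕ) (@Bool.rec (fun _ => ℕ) rb372 rb373 (Nat.ble (nat_lit 373) i)) (@Bool.rec (fun _ => ℕ) rb374 rb375 (Nat.ble (nat_lit 375) i)) (Nat.ble (nat_lit 374) i)) (Nat.ble (nat_lit 372) i)) (@Bool.rec (fun _ => ℕ) (@Bool.rec (fun _ => ℕ) (@Bool.rec (fun _ => ℕ) rb376 rb377 (Nat.ble (nat_lit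 377) i)) (@Bool.rec (fun _ => ℕ) rb378 rb379 (Nat.ble (nat_lit 379) i)) (Nat.ble (nat_lit 378) i)) (@Bool.rec (fun _ => ℕ) (@Bool.rec (fun _ => ℕ) rb380 rb381 (Nat.ble (nat_lit 381) i)) (@Bool.rec (fun _ => ℕ) rb382 rb383 (Nat.ble (nat_lit 383) i)) (Nat.ble (nat_lit 382) i)) (Nat.ble (nat_lit 380) i)) (Nat.ble (nat_lit 376) i)) (Nat.ble (nat_lit 368) i))

def rowBlk_n0_12 (i : ℕ) : ℕ := (@Bool.rec (fun _ => ℕ) (@Bool.rec (fun _ => ℕ) (@Bool.rec (fun _ => ℕ) (@Bool.rec (fun _ => ℕ) (@Bool.rec (fun _ => ℕ) rb384 rb385 (Nat.ble (nat_lit 385) i)) (@Bool.rec (fun _ => ℕ) rb386 rb387 (Nat.ble (nat_lit 387) i)) (Nat.ble (nat_lit 386) i)) (@Bool.rec (fun _ => ℕ) (@Bool.rec (fun _ => ℕ) rb388 rb389 (Nat.ble (nat_lit 389) i)) (@Bool.rec (fun _ => ℕ) rb390 rb391 (Nat.ble (nat_lit 391) i)) (Nat.ble (nat_lit 390)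 i)) (Nat.ble (nat_lit 388) i)) (@Bool.rec (fun _ => ℕ) (@Bool.rec (fun _ => ℕ) (@Bool.rec (fun _ => ℕ) rb392 rb393 (Nat.ble (nat_lit 393) i)) (@Bool.rec (fun _ => ℕ) rb394 rb395 (Nat.ble (nat_lit 395) i)) (Nat.ble (nat_lit 394) i)) (@Bool.rec (fun _ => ℕ) (@Bool.rec (fun _ => ℕ) rb396 rb397 (Nat.ble (nat_lit 397) i)) (@Bool.rec (fun _ => ℕ) rb398 rb399 (Nat.ble (nat_lit 399) i)) (Nat.ble (nat_lit 398) i)) (Nat.ble (nat_lit 396) i)) (Nat.ble (nat_lit 392) i)) (@Bool.rec (fun _ => ℕ) (@Bool.rec (fun _ => ℕ) (@Bool.rec (fun _ => ℕ) (@Bool.rec (fun _ => ℕ) rb400 rb401 (Nat.ble (nat_lit 401) i)) (@Bool.rec (fun _ => ℕ) rb402 rb403 (Nat.ble (nat_lit 403) i)) (Nat.ble (nat_lit 402) i)) (@Bool.rec (fun _ => ℕ) (@Bool.rec (fun _ => ℕ) rb404 rb405 (Nat.ble (nat_lit 405) i)) (@Bool.rec (fun _ => ℕ) rb406 rb407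 (Nat.ble (nat_lit 407) i)) (Nat.ble (nat_lit 406) i)) (Nat.ble (nat_lit 404) i)) (@Bool.rec (fun _ => ℕ) (@Bool.rec (fun _ => ℕ) (@Bool.rec (fun _ => ℕ) rb408 rb409 (Nat.ble (nat_lit 409) i)) (@Bool.rec (fun _ => ℕ) rb410 rb411 (Nat.ble (nat_lit 411) i)) (Nat.ble (nat_lit 410) i)) (@Bool.rec (fun _ => ℕ) (@Bool.rec (fun _ => ℕ) rb412 rb413 (Nat.ble (nat_lit 413) i)) (@Bool.rec (fun _ => ℕ) rb414 rb415 (Nat.ble (nat_lit 415) i)) (Nat.ble (nat_lit 414) i)) (Nat.ble (nat_lit 412) i)) (Nat.ble (nat_lit 408) i)) (Nat.ble (nat_lit 400) i))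

def rowBlk_n0_13 (i : ℕ) : ℕ := (@Bool.rec (fun _ => ℕ) (@Bool.rec (fun _ => ℕ) (@Bool.rec (fun _ => ℕ) (@Bool.rec (fun _ => ℕ) (@Bool.rec (fun _ => ℕ) rb416 rb417 (Nat.ble (nat_lit 417) i)) (@Bool.rec (fun _ => ℕ) rb418 rb419 (Nat.ble (nat_lit 419) i)) (Nat.ble (nat_lit 418) i)) (@Bool.rec (fun _ => ℕ) (@Bool.rec (fun _ => ℕ) rb420 rb421 (Nat.ble (nat_lit 421) i)) (@Bool.rec (fun _ => ℕ) rb422 rb423 (Nat.ble (nat_lit 423) i)) (Nat.ble (nat_lit 422) i)) (Nat.ble (nat_lit 420) i)) (@Bool.rec (fun _ => ℕ) (@Bool.rec (fun _ => ℕ) (@Bool.rec (fun _ => ℕ) rb424 rb425 (Nat.ble (nat_lit 425) i)) (@Bool.rec (fun _ => ℕ) rb426 rb427 (Nat.ble (nat_lit 427) i)) (Nat.ble (nat_lit 426) i)) (@Bool.rec (fun _ => ℕ) (@Bool.rec (fun _ => ℕ) rb428 rb429 (Nat.ble (nat_lit 429) i)) (@Bool.rec (fun _ => ℕ) rb430 rb431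 (Nat.ble (nat_lit 431) i)) (Nat.ble (nat_lit 430) i)) (Nat.ble (nat_lit 428) i)) (Nat.ble (nat_lit 424) i)) (@Bool.rec (fun _ => ℕ) (@Bool.rec (fun _ => ℕ) (@Bool.rec (fun _ => ℕ) (@Bool.rec (fun _ => ℕ) rb432 rb433 (Nat.ble (nat_lit 433) i)) (@Bool.rec (fun _ => ℕ) rb434 rb435 (Nat.ble (nat_lit 435) i)) (Nat.ble (nat_lit 434) i)) (@Bool.rec (fun _ => ℕ) (@Bool.rec (fun _ => ℕ) rb436 rb437 (Nat.ble (nat_lit 437) i)) (@Bool.rec (fun _ => ℕ) rb438 rb439 (Nat.ble (nat_lit 439) i)) (Nat.ble (nat_lit 438) i)) (Nat.ble (nat_lit 436) i)) (@Bool.rec (fun _ => ℕ) (@Bool.rec (fun _ => ℕ) (@Bool.rec (fun _ => ℕ) rb440 rb441 (Nat.ble (nat_lit 441) i)) (@Bool.rec (fun _ => ℕ) rb442 rb443 (Nat.ble (nat_lit 443) i)) (Nat.ble (nat_lit 442) i)) (@Bool.rec (fun _ => ℕ) (@Bool.rec (fun _ => ℕ) rb444 rb445 (Nat.ble (nat_lit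 445) i)) (@Bool.rec (fun _ => ℕ) rb446 rb447 (Nat.ble (nat_lit 447) i)) (Nat.ble (nat_lit 446) i)) (Nat.ble (nat_lit 444) i)) (Nat.ble (nat_lit 440) i)) (Nat.ble (nat_lit 432) i))

def rowBlk_n0_14 (i : ℕ) : ℕ := (@Bool.rec (fun _ => ℕ) (@Bool.rec (fun _ => ℕ) (@Bool.rec (fun _ => ℕ) (@Bool.rec (fun _ => ℕ) (@Bool.rec (fun _ => ℕ) rb448 rb449 (Nat.ble (nat_lit 449) i)) (@Bool.rec (fun _ => ℕ) rb450 rb451 (Nat.ble (nat_lit 451) i)) (Nat.ble (nat_lit 450) i)) (@Bool.rec (fun _ => ℕ) (@Bool.rec (fun _ => ℕ) rb452 rb453 (Nat.ble (nat_lit 453) i)) (@Bool.rec (fun _ => ℕ) rb454 rb455 (Nat.ble (nat_lit 455) i)) (Nat.ble (nat_lit 454) i)) (Nat.ble (nat_lit 452) i)) (@Bool.rec (fun _ => ℕ) (@Bool.rec (fun _ => ℕ) (@Bool.rec (fun _ => ℕ) rb456 rb457 (Nat.ble (nat_lit 457) i)) (@Bool.rec (fun _ => ℕ) rb458 rb459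 (Nat.ble (nat_lit 459) i)) (Nat.ble (nat_lit 458) i)) (@Bool.rec (fun _ => ℕ) (@Bool.rec (fun _ => ℕ) rb460 rb461 (Nat.ble (nat_lit 461) i)) (@Bool.rec (fun _ => ℕ) rb462 rb463 (Nat.ble (nat_lit 463) i)) (Nat.ble (nat_lit 462) i)) (Nat.ble (nat_lit 460) i)) (Nat.ble (nat_lit 456) i)) (@Bool.rec (fun _ => ℕ) (@Bool.rec (fun _ => ℕ) (@Bool.rec (fun _ => ℕ) (@Bool.rec (fun _ => ℕ) rb464 rb465 (Nat.ble (nat_lit 465) i)) (@Bool.rec (fun _ => ℕ) rb466 rb467 (Nat.ble (nat_lit 467) i)) (Nat.ble (nat_lit 466) i)) (@Bool.rec (fun _ => ℕ) (@Bool.rec (fun _ => ℕ) rb468 rb469 (Nat.ble (nat_lit 469) i)) (@Bool.rec (fun _ => ℕ) rb470 rb471 (Nat.ble (nat_lit 471) i)) (Nat.ble (nat_lit 470) i)) (Nat.ble (nat_lit 468) i)) (@Bool.rec (fun _ => ℕ) (@Bool.rec (fun _ => ℕ) (@Bool.rec (fun _ => ℕ) rb472 rb473 (Nat.ble (nat_lit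 473) i)) (@Bool.rec (fun _ => ℕ) rb474 rb475 (Nat.ble (nat_lit 475) i)) (Nat.ble (nat_lit 474) i)) (@Bool.rec (fun _ => ℕ) (@Bool.rec (fun _ => ℕ) rb476 rb477 (Nat.ble (nat_lit 477) i)) (@Bool.rec (fun _ => ℕ) rb478 rb479 (Nat.ble (nat_lit 479) i)) (Nat.ble (nat_lit 478) i)) (Nat.ble (nat_lit 476) i)) (Nat.ble (nat_lit 472) i)) (Nat.ble (nat_lit 464) i))

def rowBlk_n0_15 (i : ℕ) : ℕ := (@Bool.rec (fun _ => ℕ) (@Bool.rec (fun _ => ℕ) (@Bool.rec (fun _ => ℕ) (@Bool.rec (fun _ => ℕ) (@Bool.rec (fun _ => ℕ) rb480 rb481 (Nat.ble (nat_lit 481) i)) (@Bool.rec (fun _ => ℕ) rb482 rb483 (Nat.ble (nat_lit 483) i)) (Nat.ble (nat_lit 482) i)) (@Bool.rec (fun _ => ℕ) (@Bool.rec (fun _ => ℕ) rb484 rb485 (Nat.ble (nat_lit 485) i)) (@Bool.rec (fun _ => ℕ) rb486 rb487 (Nat.ble (nat_lit 487) i)) (Nat.ble (nat_lit 486)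 i)) (Nat.ble (nat_lit 484) i)) (@Bool.rec (fun _ => ℕ) (@Bool.rec (fun _ => ℕ) (@Bool.rec (fun _ => ℕ) rb488 rb489 (Nat.ble (nat_lit 489) i)) (@Bool.rec (fun _ => ℕ) rb490 rb491 (Nat.ble (nat_lit 491) i)) (Nat.ble (nat_lit 490) i)) (@Bool.rec (fun _ => ℕ) (@Bool.rec (fun _ => ℕ) rb492 rb493 (Nat.ble (nat_lit 493) i)) (@Bool.rec (fun _ => ℕ) rb494 rb495 (Nat.ble (nat_lit 495) i)) (Nat.ble (nat_lit 494) i)) (Nat.ble (nat_lit 492) i)) (Nat.ble (nat_lit 488) i)) (@Bool.rec (fun _ => ℕ) (@Bool.rec (fun _ => ℕ) (@Bool.rec (fun _ => ℕ) (@Bool.rec (fun _ => ℕ) rb496 rb497 (Nat.ble (nat_lit 497) i)) (@Bool.rec (fun _ => ℕ) rb498 rb499 (Nat.ble (nat_lit 499) i)) (Nat.ble (nat_lit 498) i)) (@Bool.rec (fun _ => ℕ) (@Bool.rec (fun _ => ℕ) rb500 rb501 (Nat.ble (nat_lit 501) i)) (@Bool.rec (fun _ => ℕ) rb502 rb503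 (Nat.ble (nat_lit 503) i)) (Nat.ble (nat_lit 502) i)) (Nat.ble (nat_lit 500) i)) (@Bool.rec (fun _ => ℕ) (@Bool.rec (fun _ => ℕ) (@Bool.rec (fun _ => ℕ) rb504 rb505 (Nat.ble (nat_lit 505) i)) (@Bool.rec (fun _ => ℕ) rb506 rb507 (Nat.ble (nat_lit 507) i)) (Nat.ble (nat_lit 506) i)) (@Bool.rec (fun _ => ℕ) (@Bool.rec (fun _ => ℕ) rb508 rb509 (Nat.ble (nat_lit 509) i)) (@Bool.rec (fun _ => ℕ) rb510 rb511 (Nat.ble (nat_lit 511) i)) (Nat.ble (nat_lit 510) i)) (Nat.ble (nat_lit 508) i)) (Nat.ble (nat_lit 504) i)) (Nat.ble (nat_lit 496) i))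

def rowBlk_n0_16 (i : ℕ) : ℕ := (@Bool.rec (fun _ => ℕ) (@Bool.rec (fun _ => ℕ) (@Bool.rec (fun _ => ℕ) (@Bool.rec (fun _ => ℕ) (@Bool.rec (fun _ => ℕ) rb512 rb513 (Nat.ble (nat_lit 513) i)) (@Bool.rec (fun _ => ℕ) rb514 rb515 (Nat.ble (nat_lit 515) i)) (Nat.ble (nat_lit 514) i)) (@Bool.rec (fun _ => ℕ) (@Bool.rec (fun _ => ℕ) rb516 rb517 (Nat.ble (nat_lit 517) i)) (@Bool.rec (fun _ => ℕ) rb518 rb519 (Nat.ble (nat_lit 519) i)) (Nat.ble (nat_lit 518) i)) (Nat.ble (nat_lit 516) i)) (@Bool.rec (fun _ => ℕ) (@Bool.rec (fun _ => ℕ) (@Bool.rec (fun _ => ℕ) rb520 rb521 (Nat.ble (nat_lit 521) i)) (@Bool.rec (fun _ => ℕ) rb522 rb523 (Nat.ble (nat_lit 523) i)) (Nat.ble (nat_lit 522) i)) (@Bool.rec (fun _ => ℕ) (@Bool.rec (fun _ => ℕ) rb524 rb525 (Nat.ble (nat_lit 525) i)) (@Bool.rec (fun _ => ℕ) rb526 rb527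 (Nat.ble (nat_lit 527) i)) (Nat.ble (nat_lit 526) i)) (Nat.ble (nat_lit 524) i)) (Nat.ble (nat_lit 520) i)) (@Bool.rec (fun _ => ℕ) (@Bool.rec (fun _ => ℕ) (@Bool.rec (fun _ => ℕ) (@Bool.rec (fun _ => ℕ) rb528 rb529 (Nat.ble (nat_lit 529) i)) (@Bool.rec (fun _ => ℕ) rb530 rb531 (Nat.ble (nat_lit 531) i)) (Nat.ble (nat_lit 530) i)) (@Bool.rec (fun _ => ℕ) (@Bool.rec (fun _ => ℕ) rb532 rb533 (Nat.ble (nat_lit 533) i)) (@Bool.rec (fun _ => ℕ) rb534 rb535 (Nat.ble (nat_lit 535) i)) (Nat.ble (nat_lit 534) i)) (Nat.ble (nat_lit 532) i)) (@Bool.rec (fun _ => ℕ) (@Bool.rec (fun _ => ℕ) (@Bool.rec (fun _ => ℕ) rb536 rb537 (Nat.ble (nat_lit 537) i)) (@Bool.rec (fun _ => ℕ) rb538 rb539 (Nat.ble (nat_lit 539) i)) (Nat.ble (nat_lit 538) i)) (@Bool.rec (fun _ => ℕ) (@Bool.rec (fun _ => ℕ) rb540 rb541 (Nat.ble (nat_lit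 541) i)) (@Bool.rec (fun _ => ℕ) rb542 rb543 (Nat.ble (nat_lit 543) i)) (Nat.ble (nat_lit 542) i)) (Nat.ble (nat_lit 540) i)) (Nat.ble (nat_lit 536) i)) (Nat.ble (nat_lit 528) i))

def rowBlk_n0_17 (i : ℕ) : ℕ := (@Bool.rec (fun _ => ℕ) (@Bool.rec (fun _ => ℕ) (@Bool.rec (fun _ => ℕ) (@Bool.rec (fun _ => ℕ) (@Bool.rec (fun _ => ℕ) rb544 rb545 (Nat.ble (nat_lit 545) i)) (@Bool.rec (fun _ => ℕ) rb546 rb547 (Nat.ble (nat_lit 547) i)) (Nat.ble (nat_lit 546) i)) (@Bool.rec (fun _ => ℕ) (@Bool.rec (fun _ => ℕ) rb548 rb549 (Nat.ble (nat_lit 549) i)) (@Bool.rec (fun _ => ℕ) rb550 rb551 (Nat.ble (nat_lit 551) i)) (Nat.ble (nat_lit 550) i)) (Nat.ble (nat_lit 548) i)) (@Bool.rec (fun _ => ℕ) (@Bool.rec (fun _ => ℕ) (@Bool.rec (fun _ => ℕ) rb552 rb553 (Nat.ble (nat_lit 553) i)) (@Bool.rec (fun _ => ℕ) rb554 rb555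 (Nat.ble (nat_lit 555) i)) (Nat.ble (nat_lit 554) i)) (@Bool.rec (fun _ => ℕ) (@Bool.rec (fun _ => ℕ) rb556 rb557 (Nat.ble (nat_lit 557) i)) (@Bool.rec (fun _ => ℕ) rb558 rb559 (Nat.ble (nat_lit 559) i)) (Nat.ble (nat_lit 558) i)) (Nat.ble (nat_lit 556) i)) (Nat.ble (nat_lit 552) i)) (@Bool.rec (fun _ => ℕ) (@Bool.rec (fun _ => ℕ) (@Bool.rec (fun _ => ℕ) (@Bool.rec (fun _ => ℕ) rb560 rb561 (Nat.ble (nat_lit 561) i)) (@Bool.rec (fun _ => ℕ) rb562 rb563 (Nat.ble (nat_lit 563) i)) (Nat.ble (nat_lit 562) i)) (@Bool.rec (fun _ => ℕ) (@Bool.rec (fun _ => ℕ) rb564 rb565 (Nat.ble (nat_lit 565) i)) (@Bool.rec (fun _ => ℕ) rb566 rb567 (Nat.ble (nat_lit 567) i)) (Nat.ble (nat_lit 566) i)) (Nat.ble (nat_lit 564) i)) (@Bool.rec (fun _ => ℕ) (@Bool.rec (fun _ => ℕ) (@Bool.rec (fun _ => ℕ) rb568 rb569 (Nat.ble (nat_lit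 569) i)) (@Bool.rec (fun _ => ℕ) rb570 rb571 (Nat.ble (nat_lit 571) i)) (Nat.ble (nat_lit 570) i)) (@Bool.rec (fun _ => ℕ) (@Bool.rec (fun _ => ℕ) rb572 rb573 (Nat.ble (nat_lit 573) i)) (@Bool.rec (fun _ => ℕ) rb574 rb575 (Nat.ble (nat_lit 575) i)) (Nat.ble (nat_lit 574) i)) (Nat.ble (nat_lit 572) i)) (Nat.ble (nat_lit 568) i)) (Nat.ble (nat_lit 560) i))

def rowBlk_n0_18 (i : ℕ) : ℕ := (@Bool.rec (fun _ => ℕ) (@Bool.rec (fun _ => ℕ) (@Bool.rec (fun _ => ℕ) (@Bool.rec (fun _ => ℕ) (@Bool.rec (fun _ => ℕ) rb576 rb577 (Nat.ble (nat_lit 577) i)) (@Bool.rec (fun _ => ℕ) rb578 rb579 (Nat.ble (nat_lit 579) i)) (Nat.ble (nat_lit 578) i)) (@Bool.rec (fun _ => ℕ) (@Bool.rec (fun _ => ℕ) rb580 rb581 (Nat.ble (nat_lit 581) i)) (@Bool.rec (fun _ => ℕ) rb582 rb583 (Nat.ble (nat_lit 583) i)) (Nat.ble (nat_lit 582)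 i)) (Nat.ble (nat_lit 580) i)) (@Bool.rec (fun _ => ℕ) (@Bool.rec (fun _ => ℕ) (@Bool.rec (fun _ => ℕ) rb584 rb585 (Nat.ble (nat_lit 585) i)) (@Bool.rec (fun _ => ℕ) rb586 rb587 (Nat.ble (nat_lit 587) i)) (Nat.ble (nat_lit 586) i)) (@Bool.rec (fun _ => ℕ) (@Bool.rec (fun _ => ℕ) rb588 rb589 (Nat.ble (nat_lit 589) i)) (@Bool.rec (fun _ => ℕ) rb590 rb591 (Nat.ble (nat_lit 591) i)) (Nat.ble (nat_lit 590) i)) (Nat.ble (nat_lit 588) i)) (Nat.ble (nat_lit 584) i)) (@Bool.rec (fun _ => ℕ) (@Bool.rec (fun _ => ℕ) (@Bool.rec (fun _ => ℕ) (@Bool.rec (fun _ => ℕ) rb592 rb593 (Nat.ble (nat_lit 593) i)) (@Bool.rec (fun _ => ℕ) rb594 rb595 (Nat.ble (nat_lit 595) i)) (Nat.ble (nat_lit 594) i)) (@Bool.rec (fun _ => ℕ) (@Bool.rec (fun _ => ℕ) rb596 rb597 (Nat.ble (nat_lit 597) i)) (@Bool.rec (fun _ => ℕ) rb598 rb599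 (Nat.ble (nat_lit 599) i)) (Nat.ble (nat_lit 598) i)) (Nat.ble (nat_lit 596) i)) (@Bool.rec (fun _ => ℕ) (@Bool.rec (fun _ => ℕ) (@Bool.rec (fun _ => ℕ) rb600 rb601 (Nat.ble (nat_lit 601) i)) (@Bool.rec (fun _ => ℕ) rb602 rb603 (Nat.ble (nat_lit 603) i)) (Nat.ble (nat_lit 602) i)) (@Bool.rec (fun _ => ℕ) (@Bool.rec (fun _ => ℕ) rb604 rb605 (Nat.ble (nat_lit 605) i)) (@Bool.rec (fun _ => ℕ) rb606 rb607 (Nat.ble (nat_lit 607) i)) (Nat.ble (nat_lit 606) i)) (Nat.ble (nat_lit 604) i)) (Nat.ble (nat_lit 600) i)) (Nat.ble (nat_lit 592) i))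

def rowBlk_n0_19 (i : ℕ) : ℕ := (@Bool.rec (fun _ => ℕ) (@Bool.rec (fun _ => ℕ) (@Bool.rec (fun _ => ℕ) (@Bool.rec (fun _ => ℕ) (@Bool.rec (fun _ => ℕ) rb608 rb609 (Nat.ble (nat_lit 609) i)) (@Bool.rec (fun _ => ℕ) rb610 rb611 (Nat.ble (nat_lit 611) i)) (Nat.ble (nat_lit 610) i)) (@Bool.rec (fun _ => ℕ) (@Bool.rec (fun _ => ℕ) rb612 rb613 (Nat.ble (nat_lit 613) i)) (@Bool.rec (fun _ => ℕ) rb614 rb615 (Nat.ble (nat_lit 615) i)) (Nat.ble (nat_lit 614) i)) (Nat.ble (nat_lit 612) i)) (@Bool.rec (fun _ => ℕ) (@Bool.rec (fun _ => ℕ) (@Bool.rec (fun _ => ℕ) rb616 rb617 (Nat.ble (nat_lit 617) i)) (@Bool.rec (fun _ => ℕ) rb618 rb619 (Nat.ble (nat_lit 619) i)) (Nat.ble (nat_lit 618) i)) (@Bool.rec (fun _ => ℕ) (@Bool.rec (fun _ => ℕ) rb620 rb621 (Nat.ble (nat_lit 621) i)) (@Bool.rec (fun _ => ℕ) rb622 rb623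 (Nat.ble (nat_lit 623) i)) (Nat.ble (nat_lit 622) i)) (Nat.ble (nat_lit 620) i)) (Nat.ble (nat_lit 616) i)) (@Bool.rec (fun _ => ℕ) (@Bool.rec (fun _ => ℕ) (@Bool.rec (fun _ => ℕ) (@Bool.rec (fun _ => ℕ) rb624 rb625 (Nat.ble (nat_lit 625) i)) (@Bool.rec (fun _ => ℕ) rb626 rb627 (Nat.ble (nat_lit 627) i)) (Nat.ble (nat_lit 626) i)) (@Bool.rec (fun _ => ℕ) (@Bool.rec (fun _ => ℕ) rb628 rb629 (Nat.ble (nat_lit 629) i)) (@Bool.rec (fun _ => ℕ) rb630 rb631 (Nat.ble (nat_lit 631) i)) (Nat.ble (nat_lit 630) i)) (Nat.ble (nat_lit 628) i)) (@Bool.rec (fun _ => ℕ) (@Bool.rec (fun _ => ℕ) (@Bool.rec (fun _ => ℕ) rb632 rb633 (Nat.ble (nat_lit 633) i)) (@Bool.rec (fun _ => ℕ) rb634 rb635 (Nat.ble (nat_lit 635) i)) (Nat.ble (nat_lit 634) i)) (@Bool.rec (fun _ => ℕ) (@Bool.rec (fun _ => ℕ) rb636 rb637 (Nat.ble (nat_lit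 637) i)) (@Bool.rec (fun _ => ℕ) rb638 rb639 (Nat.ble (nat_lit 639) i)) (Nat.ble (nat_lit 638) i)) (Nat.ble (nat_lit 636) i)) (Nat.ble (nat_lit 632) i)) (Nat.ble (nat_lit 624) i))

def rowBlk_n0_20 (i : ℕ) : ℕ := (@Bool.rec (fun _ => ℕ) (@Bool.rec (fun _ => ℕ) (@Bool.rec (fun _ => ℕ) (@Bool.rec (fun _ => ℕ) (@Bool.rec (fun _ => ℕ) rb640 rb641 (Nat.ble (nat_lit 641) i)) (@Bool.rec (fun _ => ℕ) rb642 rb643 (Nat.ble (nat_lit 643) i)) (Nat.ble (nat_lit 642) i)) (@Bool.rec (fun _ => ℕ) (@Bool.rec (fun _ => ℕ) rb644 rb645 (Nat.ble (nat_lit 645) i)) (@Bool.rec (fun _ => ℕ) rb646 rb647 (Nat.ble (nat_lit 647) i)) (Nat.ble (nat_lit 646) i)) (Nat.ble (nat_lit 644) i)) (@Bool.rec (fun _ => ℕ) (@Bool.rec (fun _ => ℕ) (@Bool.rec (fun _ => ℕ) rb648 rb649 (Nat.ble (nat_lit 649) i)) (@Bool.rec (fun _ => ℕ) rb650 rb651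 (Nat.ble (nat_lit 651) i)) (Nat.ble (nat_lit 650) i)) (@Bool.rec (fun _ => ℕ) (@Bool.rec (fun _ => ℕ) rb652 rb653 (Nat.ble (nat_lit 653) i)) (@Bool.rec (fun _ => ℕ) rb654 rb655 (Nat.ble (nat_lit 655) i)) (Nat.ble (nat_lit 654) i)) (Nat.ble (nat_lit 652) i)) (Nat.ble (nat_lit 648) i)) (@Bool.rec (fun _ => ℕ) (@Bool.rec (fun _ => ℕ) (@Bool.rec (fun _ => ℕ) (@Bool.rec (fun _ => ℕ) rb656 rb657 (Nat.ble (nat_lit 657) i)) (@Bool.rec (fun _ => ℕ) rb658 rb659 (Nat.ble (nat_lit 659) i)) (Nat.ble (nat_lit 658) i)) (@Bool.rec (fun _ => ℕ) (@Bool.rec (fun _ => ℕ) rb660 rb661 (Nat.ble (nat_lit 661) i)) (@Bool.rec (fun _ => ℕ) rb662 rb663 (Nat.ble (nat_lit 663) i)) (Nat.ble (nat_lit 662) i)) (Nat.ble (nat_lit 660) i)) (@Bool.rec (fun _ => ℕ) (@Bool.rec (fun _ => ℕ) (@Bool.rec (fun _ => ℕ) rb664 rb665 (Nat.ble (nat_lit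 665) i)) (@Bool.rec (fun _ => ℕ) rb666 rb667 (Nat.ble (nat_lit 667) i)) (Nat.ble (nat_lit 666) i)) (@Bool.rec (fun _ => ℕ) (@Bool.rec (fun _ => ℕ) rb668 rb669 (Nat.ble (nat_lit 669) i)) (@Bool.rec (fun _ => ℕ) rb670 rb671 (Nat.ble (nat_lit 671) i)) (Nat.ble (nat_lit 670) i)) (Nat.ble (nat_lit 668) i)) (Nat.ble (nat_lit 664) i)) (Nat.ble (nat_lit 656) i))

def rowBlk_n0_21 (i : ℕ) : ℕ := (@Bool.rec (fun _ => ℕ) (@Bool.rec (fun _ => ℕ) (@Bool.rec (fun _ => ℕ) (@Bool.rec (fun _ => ℕ) (@Bool.rec (fun _ => ℕ) rb672 rb673 (Nat.ble (nat_lit 673) i)) (@Bool.rec (fun _ => ℕ) rb674 rb675 (Nat.ble (nat_lit 675) i)) (Nat.ble (nat_lit 674) i)) (@Bool.rec (fun _ => ℕ) (@Bool.rec (fun _ => ℕ) rb676 rb677 (Nat.ble (nat_lit 677) i)) (@Bool.rec (fun _ => ℕ) rb678 rb679 (Nat.ble (nat_lit 679) i)) (Nat.ble (nat_lit 678)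 i)) (Nat.ble (nat_lit 676) i)) (@Bool.rec (fun _ => ℕ) (@Bool.rec (fun _ => ℕ) (@Bool.rec (fun _ => ℕ) rb680 rb681 (Nat.ble (nat_lit 681) i)) (@Bool.rec (fun _ => ℕ) rb682 rb683 (Nat.ble (nat_lit 683) i)) (Nat.ble (nat_lit 682) i)) (@Bool.rec (fun _ => ℕ) (@Bool.rec (fun _ => ℕ) rb684 rb685 (Nat.ble (nat_lit 685) i)) (@Bool.rec (fun _ => ℕ) rb686 rb687 (Nat.ble (nat_lit 687) i)) (Nat.ble (nat_lit 686) i)) (Nat.ble (nat_lit 684) i)) (Nat.ble (nat_lit 680) i)) (@Bool.rec (fun _ => ℕ) (@Bool.rec (fun _ => ℕ) (@Bool.rec (fun _ => ℕ) (@Bool.rec (fun _ => ℕ) rb688 rb689 (Nat.ble (nat_lit 689) i)) (@Bool.rec (fun _ => ℕ) rb690 rb691 (Nat.ble (nat_lit 691) i)) (Nat.ble (nat_lit 690) i)) (@Bool.rec (fun _ => ℕ) (@Bool.rec (fun _ => ℕ) rb692 rb693 (Nat.ble (nat_lit 693) i)) (@Bool.rec (fun _ => ℕ) rb694 rb695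 (Nat.ble (nat_lit 695) i)) (Nat.ble (nat_lit 694) i)) (Nat.ble (nat_lit 692) i)) (@Bool.rec (fun _ => ℕ) (@Bool.rec (fun _ => ℕ) (@Bool.rec (fun _ => ℕ) rb696 rb697 (Nat.ble (nat_lit 697) i)) (@Bool.rec (fun _ => ℕ) rb698 rb699 (Nat.ble (nat_lit 699) i)) (Nat.ble (nat_lit 698) i)) (@Bool.rec (fun _ => ℕ) (@Bool.rec (fun _ => ℕ) rb700 rb701 (Nat.ble (nat_lit 701) i)) (@Bool.rec (fun _ => ℕ) rb702 rb703 (Nat.ble (nat_lit 703) i)) (Nat.ble (nat_lit 702) i)) (Nat.ble (nat_lit 700) i)) (Nat.ble (nat_lit 696) i)) (Nat.ble (nat_lit 688) i))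

def rowBlk_n0_22 (i : ℕ) : ℕ := (@Bool.rec (fun _ => ℕ) (@Bool.rec (fun _ => ℕ) (@Bool.rec (fun _ => ℕ) (@Bool.rec (fun _ => ℕ) (@Bool.rec (fun _ => ℕ) rb704 rb705 (Nat.ble (nat_lit 705) i)) (@Bool.rec (fun _ => ℕ) rb706 rb707 (Nat.ble (nat_lit 707) i)) (Nat.ble (nat_lit 706) i)) (@Bool.rec (fun _ => ℕ) (@Bool.rec (fun _ => ℕ) rb708 rb709 (Nat.ble (nat_lit 709) i)) (@Bool.rec (fun _ => ℕ) rb710 rb711 (Nat.ble (nat_lit 711) i)) (Nat.ble (nat_lit 710) i)) (Nat.ble (nat_lit 708) i)) (@Bool.rec (fun _ => ℕ) (@Bool.rec (fun _ => ℕ) (@Bool.rec (fun _ => ℕ) rb712 rb713 (Nat.ble (nat_lit 713) i)) (@Bool.rec (fun _ => ℕ) rb714 rb715 (Nat.ble (nat_lit 715) i)) (Nat.ble (nat_lit 714) i)) (@Bool.rec (fun _ => ℕ) (@Bool.rec (fun _ => ℕ) rb716 rb717 (Nat.ble (nat_lit 717) i)) (@Bool.rec (fun _ => ℕ) rb718 rb719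 (Nat.ble (nat_lit 719) i)) (Nat.ble (nat_lit 718) i)) (Nat.ble (nat_lit 716) i)) (Nat.ble (nat_lit 712) i)) (@Bool.rec (fun _ => ℕ) (@Bool.rec (fun _ => ℕ) (@Bool.rec (fun _ => ℕ) (@Bool.rec (fun _ => ℕ) rb720 rb721 (Nat.ble (nat_lit 721) i)) (@Bool.rec (fun _ => ℕ) rb722 rb723 (Nat.ble (nat_lit 723) i)) (Nat.ble (nat_lit 722) i)) (@Bool.rec (fun _ => ℕ) (@Bool.rec (fun _ => ℕ) rb724 rb725 (Nat.ble (nat_lit 725) i)) (@Bool.rec (fun _ => ℕ) rb726 rb727 (Nat.ble (nat_lit 727) i)) (Nat.ble (nat_lit 726) i)) (Nat.ble (nat_lit 724) i)) (@Bool.rec (fun _ => ℕ) (@Bool.rec (fun _ => ℕ) (@Bool.rec (fun _ => ℕ) rb728 rb729 (Nat.ble (nat_lit 729) i)) (@Bool.rec (fun _ => ℕ) rb730 rb731 (Nat.ble (nat_lit 731) i)) (Nat.ble (nat_lit 730) i)) (@Bool.rec (fun _ => ℕ) (@Bool.rec (fun _ => ℕ) rb732 rb733 (Nat.ble (nat_lit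 733) i)) (@Bool.rec (fun _ => ℕ) rb734 rb735 (Nat.ble (nat_lit 735) i)) (Nat.ble (nat_lit 734) i)) (Nat.ble (nat_lit 732) i)) (Nat.ble (nat_lit 728) i)) (Nat.ble (nat_lit 720) i))

def rowBlk_n0_23 (i : ℕ) : ℕ := (@Bool.rec (fun _ => ℕ) (@Bool.rec (fun _ => ℕ) (@Bool.rec (fun _ => ℕ) (@Bool.rec (fun _ => ℕ) (@Bool.rec (fun _ => ℕ) rb736 rb737 (Nat.ble (nat_lit 737) i)) (@Bool.rec (fun _ => ℕ) rb738 rb739 (Nat.ble (nat_lit 739) i)) (Nat.ble (nat_lit 738) i)) (@Bool.rec (fun _ => ℕ) (@Bool.rec (fun _ => ℕ) rb740 rb741 (Nat.ble (nat_lit 741) i)) (@Bool.rec (fun _ => ℕ) rb742 rb743 (Nat.ble (nat_lit 743) i)) (Nat.ble (nat_lit 742) i)) (Nat.ble (nat_lit 740) i)) (@Bool.rec (fun _ => ℕ) (@Bool.rec (fun _ => ℕ) (@Bool.rec (fun _ => ℕ) rb744 rb745 (Nat.ble (nat_lit 745) i)) (@Bool.rec (fun _ => ℕ) rb746 rb747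 (Nat.ble (nat_lit 747) i)) (Nat.ble (nat_lit 746) i)) (@Bool.rec (fun _ => ℕ) (@Bool.rec (fun _ => ℕ) rb748 rb749 (Nat.ble (nat_lit 749) i)) (@Bool.rec (fun _ => ℕ) rb750 rb751 (Nat.ble (nat_lit 751) i)) (Nat.ble (nat_lit 750) i)) (Nat.ble (nat_lit 748) i)) (Nat.ble (nat_lit 744) i)) (@Bool.rec (fun _ => ℕ) (@Bool.rec (fun _ => ℕ) (@Bool.rec (fun _ => ℕ) (@Bool.rec (fun _ => ℕ) rb752 rb753 (Nat.ble (nat_lit 753) i)) (@Bool.rec (fun _ => ℕ) rb754 rb755 (Nat.ble (nat_lit 755) i)) (Nat.ble (nat_lit 754) i)) (@Bool.rec (fun _ => ℕ) (@Bool.rec (fun _ => ℕ) rb756 rb757 (Nat.ble (nat_lit 757) i)) (@Bool.rec (fun _ => ℕ) rb758 rb759 (Nat.ble (nat_lit 759) i)) (Nat.ble (nat_lit 758) i)) (Nat.ble (nat_lit 756) i)) (@Bool.rec (fun _ => ℕ) (@Bool.rec (fun _ => ℕ) (@Bool.rec (fun _ => ℕ) rb760 rb761 (Nat.ble (nat_lit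 761) i)) (@Bool.rec (fun _ => ℕ) rb762 rb763 (Nat.ble (nat_lit 763) i)) (Nat.ble (nat_lit 762) i)) (@Bool.rec (fun _ => ℕ) (@Bool.rec (fun _ => ℕ) rb764 rb765 (Nat.ble (nat_lit 765) i)) (@Bool.rec (fun _ => ℕ) rb766 rb767 (Nat.ble (nat_lit 767) i)) (Nat.ble (nat_lit 766) i)) (Nat.ble (nat_lit 764) i)) (Nat.ble (nat_lit 760) i)) (Nat.ble (nat_lit 752) i))

def rowBlk_n0_24 (i : ℕ) : ℕ := (@Bool.rec (fun _ => ℕ) (@Bool.rec (fun _ => ℕ) (@Bool.rec (fun _ => ℕ) (@Bool.rec (fun _ => ℕ) (@Bool.rec (fun _ => ℕ) rb768 rb769 (Nat.ble (nat_lit 769) i)) (@Bool.rec (fun _ => ℕ) rb770 rb771 (Nat.ble (nat_lit 771) i)) (Nat.ble (nat_lit 770) i)) (@Bool.rec (fun _ => ℕ) (@Bool.rec (fun _ => ℕ) rb772 rb773 (Nat.ble (nat_lit 773) i)) (@Bool.rec (fun _ => ℕ) rb774 rb775 (Nat.ble (nat_lit 775) i)) (Nat.ble (nat_lit 774)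 i)) (Nat.ble (nat_lit 772) i)) (@Bool.rec (fun _ => ℕ) (@Bool.rec (fun _ => ℕ) (@Bool.rec (fun _ => ℕ) rb776 rb777 (Nat.ble (nat_lit 777) i)) (@Bool.rec (fun _ => ℕ) rb778 rb779 (Nat.ble (nat_lit 779) i)) (Nat.ble (nat_lit 778) i)) (@Bool.rec (fun _ => ℕ) (@Bool.rec (fun _ => ℕ) rb780 rb781 (Nat.ble (nat_lit 781) i)) (@Bool.rec (fun _ => ℕ) rb782 rb783 (Nat.ble (nat_lit 783) i)) (Nat.ble (nat_lit 782) i)) (Nat.ble (nat_lit 780) i)) (Nat.ble (nat_lit 776) i)) (@Bool.rec (fun _ => ℕ) (@Bool.rec (fun _ => ℕ) (@Bool.rec (fun _ => ℕ) (@Bool.rec (fun _ => ℕ) rb784 rb785 (Nat.ble (nat_lit 785) i)) (@Bool.rec (fun _ => ℕ) rb786 rb787 (Nat.ble (nat_lit 787) i)) (Nat.ble (nat_lit 786) i)) (@Bool.rec (fun _ => ℕ) (@Bool.rec (fun _ => ℕ) rb788 rb789 (Nat.ble (nat_lit 789) i)) (@Bool.rec (fun _ => ℕ) rb790 rb791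 (Nat.ble (nat_lit 791) i)) (Nat.ble (nat_lit 790) i)) (Nat.ble (nat_lit 788) i)) (@Bool.rec (fun _ => ℕ) (@Bool.rec (fun _ => ℕ) (@Bool.rec (fun _ => ℕ) rb792 rb793 (Nat.ble (nat_lit 793) i)) (@Bool.rec (fun _ => ℕ) rb794 rb795 (Nat.ble (nat_lit 795) i)) (Nat.ble (nat_lit 794) i)) (@Bool.rec (fun _ => ℕ) (@Bool.rec (fun _ => ℕ) rb796 rb797 (Nat.ble (nat_lit 797) i)) (@Bool.rec (fun _ => ℕ) rb798 rb799 (Nat.ble (nat_lit 799) i)) (Nat.ble (nat_lit 798) i)) (Nat.ble (nat_lit 796) i)) (Nat.ble (nat_lit 792) i)) (Nat.ble (nat_lit 784) i))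

def rowBlk_n0_25 (i : ℕ) : ℕ := (@Bool.rec (fun _ => ℕ) (@Bool.rec (fun _ => ℕ) (@Bool.rec (fun _ => ℕ) (@Bool.rec (fun _ => ℕ) (@Bool.rec (fun _ => ℕ) rb800 rb801 (Nat.ble (nat_lit 801) i)) (@Bool.rec (fun _ => ℕ) rb802 rb803 (Nat.ble (nat_lit 803) i)) (Nat.ble (nat_lit 802) i)) (@Bool.rec (fun _ => ℕ) (@Bool.rec (fun _ => ℕ) rb804 rb805 (Nat.ble (nat_lit 805) i)) (@Bool.rec (fun _ => ℕ) rb806 rb807 (Nat.ble (nat_lit 807) i)) (Nat.ble (nat_lit 806) i)) (Nat.ble (nat_lit 804) i)) (@Bool.rec (fun _ => ℕ) (@Bool.rec (fun _ => ℕ) (@Bool.rec (fun _ => ℕ) rb808 rb809 (Nat.ble (nat_lit 809) i)) (@Bool.rec (fun _ => ℕ) rb810 rb811 (Nat.ble (nat_lit 811) i)) (Nat.ble (nat_lit 810) i)) (@Bool.rec (fun _ => ℕ) (@Bool.rec (fun _ => ℕ) rb812 rb813 (Nat.ble (nat_lit 813) i)) (@Bool.rec (fun _ => ℕ) rb814 rb815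 (Nat.ble (nat_lit 815) i)) (Nat.ble (nat_lit 814) i)) (Nat.ble (nat_lit 812) i)) (Nat.ble (nat_lit 808) i)) (@Bool.rec (fun _ => ℕ) (@Bool.rec (fun _ => ℕ) (@Bool.rec (fun _ => ℕ) (@Bool.rec (fun _ => ℕ) rb816 rb817 (Nat.ble (nat_lit 817) i)) (@Bool.rec (fun _ => ℕ) rb818 rb819 (Nat.ble (nat_lit 819) i)) (Nat.ble (nat_lit 818) i)) (@Bool.rec (fun _ => ℕ) (@Bool.rec (fun _ => ℕ) rb820 rb821 (Nat.ble (nat_lit 821) i)) (@Bool.rec (fun _ => ℕ) rb822 rb823 (Nat.ble (nat_lit 823) i)) (Nat.ble (nat_lit 822) i)) (Nat.ble (nat_lit 820) i)) (@Bool.rec (fun _ => ℕ) (@Bool.rec (fun _ => ℕ) (@Bool.rec (fun _ => ℕ) rb824 rb825 (Nat.ble (nat_lit 825) i)) (@Bool.rec (fun _ => ℕ) rb826 rb827 (Nat.ble (nat_lit 827) i)) (Nat.ble (nat_lit 826) i)) (@Bool.rec (fun _ => ℕ) (@Bool.rec (fun _ => ℕ) rb828 rb829 (Nat.ble (nat_lit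 829) i)) (@Bool.rec (fun _ => ℕ) rb830 rb831 (Nat.ble (nat_lit 831) i)) (Nat.ble (nat_lit 830) i)) (Nat.ble (nat_lit 828) i)) (Nat.ble (nat_lit 824) i)) (Nat.ble (nat_lit 816) i))

def rowBlk_n0_26 (i : ℕ) : ℕ := (@Bool.rec (fun _ => ℕ) (@Bool.rec (fun _ => ℕ) (@Bool.rec (fun _ => ℕ) (@Bool.rec (fun _ => ℕ) (@Bool.rec (fun _ => ℕ) rb832 rb833 (Nat.ble (nat_lit 833) i)) (@Bool.rec (fun _ => ℕ) rb834 rb835 (Nat.ble (nat_lit 835) i)) (Nat.ble (nat_lit 834) i)) (@Bool.rec (fun _ => ℕ) (@Bool.rec (fun _ => ℕ) rb836 rb837 (Nat.ble (nat_lit 837) i)) (@Bool.rec (fun _ => ℕ) rb838 rb839 (Nat.ble (nat_lit 839) i)) (Nat.ble (nat_lit 838) i)) (Nat.ble (nat_lit 836) i)) (@Bool.rec (fun _ => ℕ) (@Bool.rec (fun _ => ℕ) (@Bool.rec (fun _ => ℕ) rb840 rb841 (Nat.ble (nat_lit 841) i)) (@Bool.rec (fun _ => ℕ) rb842 rb843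 (Nat.ble (nat_lit 843) i)) (Nat.ble (nat_lit 842) i)) (@Bool.rec (fun _ => ℕ) (@Bool.rec (fun _ => ℕ) rb844 rb845 (Nat.ble (nat_lit 845) i)) (@Bool.rec (fun _ => ℕ) rb846 rb847 (Nat.ble (nat_lit 847) i)) (Nat.ble (nat_lit 846) i)) (Nat.ble (nat_lit 844) i)) (Nat.ble (nat_lit 840) i)) (@Bool.rec (fun _ => ℕ) (@Bool.rec (fun _ => ℕ) (@Bool.rec (fun _ => ℕ) (@Bool.rec (fun _ => ℕ) rb848 rb849 (Nat.ble (nat_lit 849) i)) (@Bool.rec (fun _ => ℕ) rb850 rb851 (Nat.ble (nat_lit 851) i)) (Nat.ble (nat_lit 850) i)) (@Bool.rec (fun _ => ℕ) (@Bool.rec (fun _ => ℕ) rb852 rb853 (Nat.ble (nat_lit 853) i)) (@Bool.rec (fun _ => ℕ) rb854 rb855 (Nat.ble (nat_lit 855) i)) (Nat.ble (nat_lit 854) i)) (Nat.ble (nat_lit 852) i)) (@Bool.rec (fun _ => ℕ) (@Bool.rec (fun _ => ℕ) (@Bool.rec (fun _ => ℕ) rb856 rb857 (Nat.ble (nat_lit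 857) i)) (@Bool.rec (fun _ => ℕ) rb858 rb859 (Nat.ble (nat_lit 859) i)) (Nat.ble (nat_lit 858) i)) (@Bool.rec (fun _ => ℕ) (@Bool.rec (fun _ => ℕ) rb860 rb861 (Nat.ble (nat_lit 861) i)) (@Bool.rec (fun _ => ℕ) rb862 rb863 (Nat.ble (nat_lit 863) i)) (Nat.ble (nat_lit 862) i)) (Nat.ble (nat_lit 860) i)) (Nat.ble (nat_lit 856) i)) (Nat.ble (nat_lit 848) i))

def rowBlk_n0_27 (i : ℕ) : ℕ := (@Bool.rec (fun _ => ℕ) (@Bool.rec (fun _ => ℕ) (@Bool.rec (fun _ => ℕ) (@Bool.rec (fun _ => ℕ) (@Bool.rec (fun _ => ℕ) rb864 rb865 (Nat.ble (nat_lit 865) i)) (@Bool.rec (fun _ => ℕ) rb866 rb867 (Nat.ble (nat_lit 867) i)) (Nat.ble (nat_lit 866) i)) (@Bool.rec (fun _ => ℕ) (@Bool.rec (fun _ => ℕ) rb868 rb869 (Nat.ble (nat_lit 869) i)) (@Bool.rec (fun _ => ℕ) rb870 rb871 (Nat.ble (nat_lit 871) i)) (Nat.ble (nat_lit 870)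 i)) (Nat.ble (nat_lit 868) i)) (@Bool.rec (fun _ => ℕ) (@Bool.rec (fun _ => ℕ) (@Bool.rec (fun _ => ℕ) rb872 rb873 (Nat.ble (nat_lit 873) i)) (@Bool.rec (fun _ => ℕ) rb874 rb875 (Nat.ble (nat_lit 875) i)) (Nat.ble (nat_lit 874) i)) (@Bool.rec (fun _ => ℕ) (@Bool.rec (fun _ => ℕ) rb876 rb877 (Nat.ble (nat_lit 877) i)) (@Bool.rec (fun _ => ℕ) rb878 rb879 (Nat.ble (nat_lit 879) i)) (Nat.ble (nat_lit 878) i)) (Nat.ble (nat_lit 876) i)) (Nat.ble (nat_lit 872) i)) (@Bool.rec (fun _ => ℕ) (@Bool.rec (fun _ => ℕ) (@Bool.rec (fun _ => ℕ) (@Bool.rec (fun _ => ℕ) rb880 rb881 (Nat.ble (nat_lit 881) i)) (@Bool.rec (fun _ => ℕ) rb882 rb883 (Nat.ble (nat_lit 883) i)) (Nat.ble (nat_lit 882) i)) (@Bool.rec (fun _ => ℕ) (@Bool.rec (fun _ => ℕ) rb884 rb885 (Nat.ble (nat_lit 885) i)) (@Bool.rec (fun _ => ℕ) rb886 rb887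 (Nat.ble (nat_lit 887) i)) (Nat.ble (nat_lit 886) i)) (Nat.ble (nat_lit 884) i)) (@Bool.rec (fun _ => ℕ) (@Bool.rec (fun _ => ℕ) (@Bool.rec (fun _ => ℕ) rb888 rb889 (Nat.ble (nat_lit 889) i)) (@Bool.rec (fun _ => ℕ) rb890 rb891 (Nat.ble (nat_lit 891) i)) (Nat.ble (nat_lit 890) i)) (@Bool.rec (fun _ => ℕ) (@Bool.rec (fun _ => ℕ) rb892 rb893 (Nat.ble (nat_lit 893) i)) (@Bool.rec (fun _ => ℕ) rb894 rb895 (Nat.ble (nat_lit 895) i)) (Nat.ble (nat_lit 894) i)) (Nat.ble (nat_lit 892) i)) (Nat.ble (nat_lit 888) i)) (Nat.ble (nat_lit 880) i))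

def rowBlk_n0_28 (i : ℕ) : ℕ := (@Bool.rec (fun _ => ℕ) (@Bool.rec (fun _ => ℕ) (@Bool.rec (fun _ => ℕ) (@Bool.rec (fun _ => ℕ) (@Bool.rec (fun _ => ℕ) rb896 rb897 (Nat.ble (nat_lit 897) i)) (@Bool.rec (fun _ => ℕ) rb898 rb899 (Nat.ble (nat_lit 899) i)) (Nat.ble (nat_lit 898) i)) (@Bool.rec (fun _ => ℕ) (@Bool.rec (fun _ => ℕ) rb900 rb901 (Nat.ble (nat_lit 901) i)) (@Bool.rec (fun _ => ℕ) rb902 rb903 (Nat.ble (nat_lit 903) i)) (Nat.ble (nat_lit 902) i)) (Nat.ble (nat_lit 900) i)) (@Bool.rec (fun _ => ℕ) (@Bool.rec (fun _ => ℕ) (@Bool.rec (fun _ => ℕ) rb904 rb905 (Nat.ble (nat_lit 905) i)) (@Bool.rec (fun _ => ℕ) rb906 rb907 (Nat.ble (nat_lit 907) i)) (Nat.ble (nat_lit 906) i)) (@Bool.rec (fun _ => ℕ) (@Bool.rec (fun _ => ℕ) rb908 rb909 (Nat.ble (nat_lit 909) i)) (@Bool.rec (fun _ => ℕ) rb910 rb911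 (Nat.ble (nat_lit 911) i)) (Nat.ble (nat_lit 910) i)) (Nat.ble (nat_lit 908) i)) (Nat.ble (nat_lit 904) i)) (@Bool.rec (fun _ => ℕ) (@Bool.rec (fun _ => ℕ) (@Bool.rec (fun _ => ℕ) (@Bool.rec (fun _ => ℕ) rb912 rb913 (Nat.ble (nat_lit 913) i)) (@Bool.rec (fun _ => ℕ) rb914 rb915 (Nat.ble (nat_lit 915) i)) (Nat.ble (nat_lit 914) i)) (@Bool.rec (fun _ => ℕ) (@Bool.rec (fun _ => ℕ) rb916 rb917 (Nat.ble (nat_lit 917) i)) (@Bool.rec (fun _ => ℕ) rb918 rb919 (Nat.ble (nat_lit 919) i)) (Nat.ble (nat_lit 918) i)) (Nat.ble (nat_lit 916) i)) (@Bool.rec (fun _ => ℕ) (@Bool.rec (fun _ => ℕ) (@Bool.rec (fun _ => ℕ) rb920 rb921 (Nat.ble (nat_lit 921) i)) (@Bool.rec (fun _ => ℕ) rb922 rb923 (Nat.ble (nat_lit 923) i)) (Nat.ble (nat_lit 922) i)) (@Bool.rec (fun _ => ℕ) (@Bool.rec (fun _ => ℕ) rb924 rb925 (Nat.ble (nat_lit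 925) i)) (@Bool.rec (fun _ => ℕ) rb926 rb927 (Nat.ble (nat_lit 927) i)) (Nat.ble (nat_lit 926) i)) (Nat.ble (nat_lit 924) i)) (Nat.ble (nat_lit 920) i)) (Nat.ble (nat_lit 912) i))

def rowBlk_n0_29 (i : ℕ) : ℕ := (@Bool.rec (fun _ => ℕ) (@Bool.rec (fun _ => ℕ) (@Bool.rec (fun _ => ℕ) (@Bool.rec (fun _ => ℕ) (@Bool.rec (fun _ => ℕ) rb928 rb929 (Nat.ble (nat_lit 929) i)) (@Bool.rec (fun _ => ℕ) rb930 rb931 (Nat.ble (nat_lit 931) i)) (Nat.ble (nat_lit 930) i)) (@Bool.rec (fun _ => ℕ) (@Bool.rec (fun _ => ℕ) rb932 rb933 (Nat.ble (nat_lit 933) i)) (@Bool.rec (fun _ => ℕ) rb934 rb935 (Nat.ble (nat_lit 935) i)) (Nat.ble (nat_lit 934) i)) (Nat.ble (nat_lit 932) i)) (@Bool.rec (fun _ => ℕ) (@Bool.rec (fun _ => ℕ) (@Bool.rec (fun _ => ℕ) rb936 rb937 (Nat.ble (nat_lit 937) i)) (@Bool.rec (fun _ => ℕ) rb938 rb939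 (Nat.ble (nat_lit 939) i)) (Nat.ble (nat_lit 938) i)) (@Bool.rec (fun _ => ℕ) (@Bool.rec (fun _ => ℕ) rb940 rb941 (Nat.ble (nat_lit 941) i)) (@Bool.rec (fun _ => ℕ) rb942 rb943 (Nat.ble (nat_lit 943) i)) (Nat.ble (nat_lit 942) i)) (Nat.ble (nat_lit 940) i)) (Nat.ble (nat_lit 936) i)) (@Bool.rec (fun _ => ℕ) (@Bool.rec (fun _ => ℕ) (@Bool.rec (fun _ => ℕ) (@Bool.rec (fun _ => ℕ) rb944 rb945 (Nat.ble (nat_lit 945) i)) (@Bool.rec (fun _ => ℕ) rb946 rb947 (Nat.ble (nat_lit 947) i)) (Nat.ble (nat_lit 946) i)) (@Bool.rec (fun _ => ℕ) (@Bool.rec (fun _ => ℕ) rb948 rb949 (Nat.ble (nat_lit 949) i)) (@Bool.rec (fun _ => ℕ) rb950 rb951 (Nat.ble (nat_lit 951) i)) (Nat.ble (nat_lit 950) i)) (Nat.ble (nat_lit 948) i)) (@Bool.rec (fun _ => ℕ) (@Bool.rec (fun _ => ℕ) (@Bool.rec (fun _ => ℕ) rb952 rb953 (Nat.ble (nat_lit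 953) i)) (@Bool.rec (fun _ => ℕ) rb954 rb955 (Nat.ble (nat_lit 955) i)) (Nat.ble (nat_lit 954) i)) (@Bool.rec (fun _ => ℕ) (@Bool.rec (fun _ => ℕ) rb956 rb957 (Nat.ble (nat_lit 957) i)) (@Bool.rec (fun _ => ℕ) rb958 rb959 (Nat.ble (nat_lit 959) i)) (Nat.ble (nat_lit 958) i)) (Nat.ble (nat_lit 956) i)) (Nat.ble (nat_lit 952) i)) (Nat.ble (nat_lit 944) i))

def rowBlk_n0_30 (i : ℕ) : ℕ := (@Bool.rec (fun _ => ℕ) (@Bool.rec (fun _ => ℕ) (@Bool.rec (fun _ => ℕ) (@Bool.rec (fun _ => ℕ) (@Bool.rec (fun _ => ℕ) rb960 rb961 (Nat.ble (nat_lit 961) i)) (@Bool.rec (fun _ => ℕ) rb962 rb963 (Nat.ble (nat_lit 963) i)) (Nat.ble (nat_lit 962) i)) (@Bool.rec (fun _ => ℕ) (@Bool.rec (fun _ => ℕ) rb964 rb965 (Nat.ble (nat_lit 965) i)) (@Bool.rec (fun _ => ℕ) rb966 rb967 (Nat.ble (nat_lit 967) i)) (Nat.ble (nat_lit 966)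 i)) (Nat.ble (nat_lit 964) i)) (@Bool.rec (fun _ => ℕ) (@Bool.rec (fun _ => ℕ) (@Bool.rec (fun _ => ℕ) rb968 rb969 (Nat.ble (nat_lit 969) i)) (@Bool.rec (fun _ => ℕ) rb970 rb971 (Nat.ble (nat_lit 971) i)) (Nat.ble (nat_lit 970) i)) (@Bool.rec (fun _ => ℕ) (@Bool.rec (fun _ => ℕ) rb972 rb973 (Nat.ble (nat_lit 973) i)) (@Bool.rec (fun _ => ℕ) rb974 rb975 (Nat.ble (nat_lit 975) i)) (Nat.ble (nat_lit 974) i)) (Nat.ble (nat_lit 972) i)) (Nat.ble (nat_lit 968) i)) (@Bool.rec (fun _ => ℕ) (@Bool.rec (fun _ => ℕ) (@Bool.rec (fun _ => ℕ) (@Bool.rec (fun _ => ℕ) rb976 rb977 (Nat.ble (nat_lit 977) i)) (@Bool.rec (fun _ => ℕ) rb978 rb979 (Nat.ble (nat_lit 979) i)) (Nat.ble (nat_lit 978) i)) (@Bool.rec (fun _ => ℕ) (@Bool.rec (fun _ => ℕ) rb980 rb981 (Nat.ble (nat_lit 981) i)) (@Bool.rec (fun _ => ℕ) rb982 rb983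 (Nat.ble (nat_lit 983) i)) (Nat.ble (nat_lit 982) i)) (Nat.ble (nat_lit 980) i)) (@Bool.rec (fun _ => ℕ) (@Bool.rec (fun _ => ℕ) (@Bool.rec (fun _ => ℕ) rb984 rb985 (Nat.ble (nat_lit 985) i)) (@Bool.rec (fun _ => ℕ) rb986 rb987 (Nat.ble (nat_lit 987) i)) (Nat.ble (nat_lit 986) i)) (@Bool.rec (fun _ => ℕ) (@Bool.rec (fun _ => ℕ) rb988 rb989 (Nat.ble (nat_lit 989) i)) (@Bool.rec (fun _ => ℕ) rb990 rb991 (Nat.ble (nat_lit 991) i)) (Nat.ble (nat_lit 990) i)) (Nat.ble (nat_lit 988) i)) (Nat.ble (nat_lit 984) i)) (Nat.ble (nat_lit 976) i))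

def rowBlk_n0_31 (i : ℕ) : ℕ := (@Bool.rec (fun _ => ℕ) (@Bool.rec (fun _ => ℕ) (@Bool.rec (fun _ => ℕ) (@Bool.rec (fun _ => ℕ) (@Bool.rec (fun _ => ℕ) rb992 rb993 (Nat.ble (nat_lit 993) i)) (@Bool.rec (fun _ => ℕ) rb994 rb995 (Nat.ble (nat_lit 995) i)) (Nat.ble (nat_lit 994) i)) (@Bool.rec (fun _ => ℕ) (@Bool.rec (fun _ => ℕ) rb996 rb997 (Nat.ble (nat_lit 997) i)) (@Bool.rec (fun _ => ℕ) rb998 rb999 (Nat.ble (nat_lit 999) i)) (Nat.ble (nat_lit 998) i)) (Nat.ble (nat_lit 996) i)) (@Bool.rec (fun _ => ℕ) (@Bool.rec (fun _ => ℕ) (@Bool.rec (fun _ => ℕ) rb1000 rb1001 (Nat.ble (nat_lit 1001) i)) (@Bool.rec (fun _ => ℕ) rb1002 rb1003 (Nat.ble (nat_lit 1003) i)) (Nat.ble (nat_lit 1002) i)) (@Bool.rec (fun _ => ℕ) (@Bool.rec (fun _ => ℕ) rb1004 rb1005 (Nat.ble (nat_lit 1005) i)) (@Bool.rec (fun _ => ℕ)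 rb1006 rb1007 (Nat.ble (nat_lit 1007) i)) (Nat.ble (nat_lit 1006) i)) (Nat.ble (nat_lit 1004) i)) (Nat.ble (nat_lit 1000) i)) (@Bool.rec (fun _ => ℕ) (@Bool.rec (fun _ => ℕ) (@Bool.rec (fun _ => ℕ) (@Bool.rec (fun _ => ℕ) rb1008 rb1009 (Nat.ble (nat_lit 1009) i)) (@Bool.rec (fun _ => ℕ) rb1010 rb1011 (Nat.ble (nat_lit 1011) i)) (Nat.ble (nat_lit 1010) i)) (@Bool.rec (fun _ => ℕ) (@Bool.rec (fun _ => ℕ) rb1012 rb1013 (Nat.ble (nat_lit 1013) i)) (@Bool.rec (fun _ => ℕ) rb1014 rb1015 (Nat.ble (nat_lit 1015) i)) (Nat.ble (nat_lit 1014) i)) (Nat.ble (nat_lit 1012) i)) (@Bool.rec (fun _ => ℕ) (@Bool.rec (fun _ => ℕ) (@Bool.rec (fun _ => ℕ) rb1016 rb1017 (Nat.ble (nat_lit 1017) i)) (@Bool.rec (fun _ => ℕ) rb1018 rb1019 (Nat.ble (nat_lit 1019) i)) (Nat.ble (nat_lit 1018) i)) (@Bool.rec (fun _ => ℕ) (@Bool.rec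 (fun _ => ℕ) rb1020 rb1021 (Nat.ble (nat_lit 1021) i)) (@Bool.rec (fun _ => ℕ) rb1022 rb1023 (Nat.ble (nat_lit 1023) i)) (Nat.ble (nat_lit 1022) i)) (Nat.ble (nat_lit 1020) i)) (Nat.ble (nat_lit 1016) i)) (Nat.ble (nat_lit 1008) i))

def rowBlk_n0_32 (i : ℕ) : ℕ := (@Bool.rec (fun _ => ℕ) (@Bool.rec (fun _ => ℕ) (@Bool.rec (fun _ => ℕ) (@Bool.rec (fun _ => ℕ) (@Bool.rec (fun _ => ℕ) rb1024 rb1025 (Nat.ble (nat_lit 1025) i)) (@Bool.rec (fun _ => ℕ) rb1026 rb1027 (Nat.ble (nat_lit 1027) i)) (Nat.ble (nat_lit 1026) i)) (@Bool.rec (fun _ => ℕ) (@Bool.rec (fun _ => ℕ) rb1028 rb1029 (Nat.ble (nat_lit 1029) i)) (@Bool.rec (fun _ => ℕ) rb1030 rb1031 (Nat.ble (nat_lit 1031) i)) (Nat.ble (nat_lit 1030) i)) (Nat.ble (nat_lit 1028) i)) (@Bool.rec (fun _ => ℕ) (@Bool.rec (fun _ => ℕ) (@Bool.rec (fun _ => ℕ) rb1032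 rb1033 (Nat.ble (nat_lit 1033) i)) (@Bool.rec (fun _ => ℕ) rb1034 rb1035 (Nat.ble (nat_lit 1035) i)) (Nat.ble (nat_lit 1034) i)) (@Bool.rec (fun _ => ℕ) (@Bool.rec (fun _ => ℕ) rb1036 rb1037 (Nat.ble (nat_lit 1037) i)) (@Bool.rec (fun _ => ℕ) rb1038 rb1039 (Nat.ble (nat_lit 1039) i)) (Nat.ble (nat_lit 1038) i)) (Nat.ble (nat_lit 1036) i)) (Nat.ble (nat_lit 1032) i)) (@Bool.rec (fun _ => ℕ) (@Bool.rec (fun _ => ℕ) (@Bool.rec (fun _ => ℕ) (@Bool.rec (fun _ => ℕ) rb1040 rb1041 (Nat.ble (nat_lit 1041) i)) (@Bool.rec (fun _ => ℕ) rb1042 rb1043 (Nat.ble (nat_lit 1043) i)) (Nat.ble (nat_lit 1042) i)) (@Bool.rec (fun _ => ℕ) (@Bool.rec (fun _ => ℕ) rb1044 rb1045 (Nat.ble (nat_lit 1045) i)) (@Bool.rec (fun _ => ℕ) rb1046 rb1047 (Nat.ble (nat_lit 1047) i)) (Nat.ble (nat_lit 1046) i)) (Nat.ble (nat_lit 1044)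 i)) (@Bool.rec (fun _ => ℕ) (@Bool.rec (fun _ => ℕ) (@Bool.rec (fun _ => ℕ) rb1048 rb1049 (Nat.ble (nat_lit 1049) i)) (@Bool.rec (fun _ => ℕ) rb1050 rb1051 (Nat.ble (nat_lit 1051) i)) (Nat.ble (nat_lit 1050) i)) (@Bool.rec (fun _ => ℕ) (@Bool.rec (fun _ => ℕ) rb1052 rb1053 (Nat.ble (nat_lit 1053) i)) (@Bool.rec (fun _ => ℕ) rb1054 rb1055 (Nat.ble (nat_lit 1055) i)) (Nat.ble (nat_lit 1054) i)) (Nat.ble (nat_lit 1052) i)) (Nat.ble (nat_lit 1048) i)) (Nat.ble (nat_lit 1040) i))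

def rowBlk_n0_33 (i : ℕ) : ℕ := (@Bool.rec (fun _ => ℕ) (@Bool.rec (fun _ => ℕ) (@Bool.rec (fun _ => ℕ) (@Bool.rec (fun _ => ℕ) (@Bool.rec (fun _ => ℕ) rb1056 rb1057 (Nat.ble (nat_lit 1057) i)) (@Bool.rec (fun _ => ℕ) rb1058 rb1059 (Nat.ble (nat_lit 1059) i)) (Nat.ble (nat_lit 1058) i)) (@Bool.rec (fun _ => ℕ) (@Bool.rec (fun _ => ℕ) rb1060 rb1061 (Nat.ble (nat_lit 1061) i)) (@Bool.rec (fun _ => ℕ) rb1062 rb1063 (Nat.ble (nat_lit 1063) i)) (Nat.ble (nat_lit 1062) i)) (Nat.ble (nat_lit 1060) i)) (@Bool.rec (fun _ => ℕ) (@Bool.rec (fun _ => ℕ) (@Bool.rec (fun _ => ℕ) rb1064 rb1065 (Nat.ble (nat_lit 1065) i)) (@Bool.rec (fun _ => ℕ) rb1066 rb1067 (Nat.ble (nat_lit 1067) i)) (Nat.ble (nat_lit 1066) i)) (@Bool.rec (fun _ => ℕ) (@Bool.rec (fun _ => ℕ) rb1068 rb1069 (Nat.ble (nat_lit 1069) i)) (@Bool.rec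 (fun _ => ℕ) rb1070 rb1071 (Nat.ble (nat_lit 1071) i)) (Nat.ble (nat_lit 1070) i)) (Nat.ble (nat_lit 1068) i)) (Nat.ble (nat_lit 1064) i)) (@Bool.rec (fun _ => ℕ) (@Bool.rec (fun _ => ℕ) (@Bool.rec (fun _ => ℕ) (@Bool.rec (fun _ => ℕ) rb1072 rb1073 (Nat.ble (nat_lit 1073) i)) (@Bool.rec (fun _ => ℕ) rb1074 rb1075 (Nat.ble (nat_lit 1075) i)) (Nat.ble (nat_lit 1074) i)) (@Bool.rec (fun _ => ℕ) (@Bool.rec (fun _ => ℕ) rb1076 rb1077 (Nat.ble (nat_lit 1077) i)) (@Bool.rec (fun _ => ℕ) rb1078 rb1079 (Nat.ble (nat_lit 1079) i)) (Nat.ble (nat_lit 1078) i)) (Nat.ble (nat_lit 1076) i)) (@Bool.rec (fun _ => ℕ) (@Bool.rec (fun _ => ℕ) (@Bool.rec (fun _ => ℕ) rb1080 rb1081 (Nat.ble (nat_lit 1081) i)) (@Bool.rec (fun _ => ℕ) rb1082 rb1083 (Nat.ble (nat_lit 1083) i)) (Nat.ble (nat_lit 1082) i)) (@Bool.rec (fun _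 => ℕ) (@Bool.rec (fun _ => ℕ) rb1084 rb1085 (Nat.ble (nat_lit 1085) i)) (@Bool.rec (fun _ => ℕ) rb1086 rb1087 (Nat.ble (nat_lit 1087) i)) (Nat.ble (nat_lit 1086) i)) (Nat.ble (nat_lit 1084) i)) (Nat.ble (nat_lit 1080) i)) (Nat.ble (nat_lit 1072) i))

def rowBlk_n0_34 (i : ℕ) : ℕ := (@Bool.rec (fun _ => ℕ) (@Bool.rec (fun _ => ℕ) (@Bool.rec (fun _ => ℕ) (@Bool.rec (fun _ => ℕ) (@Bool.rec (fun _ => ℕ) rb1088 rb1089 (Nat.ble (nat_lit 1089) i)) (@Bool.rec (fun _ => ℕ) rb1090 rb1091 (Nat.ble (nat_lit 1091) i)) (Nat.ble (nat_lit 1090) i)) (@Bool.rec (fun _ => ℕ) (@Bool.rec (fun _ => ℕ) rb1092 rb1093 (Nat.ble (nat_lit 1093) i)) (@Bool.rec (fun _ => ℕ) rb1094 rb1095 (Nat.ble (nat_lit 1095) i)) (Nat.ble (nat_lit 1094) i)) (Nat.ble (nat_lit 1092) i)) (@Bool.rec (fun _ => ℕ) (@Bool.rec (fun _ => ℕ) (@Bool.rec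 (fun _ => ℕ) rb1096 rb1097 (Nat.ble (nat_lit 1097) i)) (@Bool.rec (fun _ => ℕ) rb1098 rb1099 (Nat.ble (nat_lit 1099) i)) (Nat.ble (nat_lit 1098) i)) (@Bool.rec (fun _ => ℕ) (@Bool.rec (fun _ => ℕ) rb1100 rb1101 (Nat.ble (nat_lit 1101) i)) (@Bool.rec (fun _ => ℕ) rb1102 rb1103 (Nat.ble (nat_lit 1103) i)) (Nat.ble (nat_lit 1102) i)) (Nat.ble (nat_lit 1100) i)) (Nat.ble (nat_lit 1096) i)) (@Bool.rec (fun _ => ℕ) (@Bool.rec (fun _ => ℕ) (@Bool.rec (fun _ => ℕ) (@Bool.rec (fun _ => ℕ) rb1104 rb1105 (Nat.ble (nat_lit 1105) i)) (@Bool.rec (fun _ => ℕ) rb1106 rb1107 (Nat.ble (nat_lit 1107) i)) (Nat.ble (nat_lit 1106) i)) (@Bool.rec (fun _ => ℕ) (@Bool.rec (fun _ => ℕ) rb1108 rb1109 (Nat.ble (nat_lit 1109) i)) (@Bool.rec (fun _ => ℕ) rb1110 rb1111 (Nat.ble (nat_lit 1111) i)) (Nat.ble (nat_lit 1110) i)) (Nat.ble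 (nat_lit 1108) i)) (@Bool.rec (fun _ => ℕ) (@Bool.rec (fun _ => ℕ) (@Bool.rec (fun _ => ℕ) rb1112 rb1113 (Nat.ble (nat_lit 1113) i)) (@Bool.rec (fun _ => ℕ) rb1114 rb1115 (Nat.ble (nat_lit 1115) i)) (Nat.ble (nat_lit 1114) i)) (@Bool.rec (fun _ => ℕ) (@Bool.rec (fun _ => ℕ) rb1116 rb1117 (Nat.ble (nat_lit 1117) i)) (@Bool.rec (fun _ => ℕ) rb1118 rb1119 (Nat.ble (nat_lit 1119) i)) (Nat.ble (nat_lit 1118) i)) (Nat.ble (nat_lit 1116) i)) (Nat.ble (nat_lit 1112) i)) (Nat.ble (nat_lit 1104) i))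

def rowBlk_n0_35 (i : ℕ) : ℕ := (@Bool.rec (fun _ => ℕ) (@Bool.rec (fun _ => ℕ) (@Bool.rec (fun _ => ℕ) (@Bool.rec (fun _ => ℕ) (@Bool.rec (fun _ => ℕ) rb1120 rb1121 (Nat.ble (nat_lit 1121) i)) (@Bool.rec (fun _ => ℕ) rb1122 rb1123 (Nat.ble (nat_lit 1123) i)) (Nat.ble (nat_lit 1122) i)) (@Bool.rec (fun _ => ℕ) (@Bool.rec (fun _ => ℕ) rb1124 rb1125 (Nat.ble (nat_lit 1125) i)) (@Bool.rec (fun _ => ℕ) rb1126 rb1127 (Nat.ble (nat_lit 1127) i)) (Nat.ble (nat_lit 1126) i)) (Nat.ble (nat_lit 1124) i)) (@Bool.rec (fun _ => ℕ) (@Bool.rec (fun _ => ℕ) (@Bool.rec (fun _ => ℕ) rb1128 rb1129 (Nat.ble (nat_lit 1129) i)) (@Bool.rec (fun _ => ℕ) rb1130 rb1131 (Nat.ble (nat_lit 1131) i)) (Nat.ble (nat_lit 1130) i)) (@Bool.rec (fun _ => ℕ) (@Bool.rec (fun _ => ℕ) rb1132 rb1133 (Nat.ble (nat_lit 1133) i)) (@Bool.rec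 (fun _ => ℕ) rb1134 rb1135 (Nat.ble (nat_lit 1135) i)) (Nat.ble (nat_lit 1134) i)) (Nat.ble (nat_lit 1132) i)) (Nat.ble (nat_lit 1128) i)) (@Bool.rec (fun _ => ℕ) (@Bool.rec (fun _ => ℕ) (@Bool.rec (fun _ => ℕ) (@Bool.rec (fun _ => ℕ) rb1136 rb1137 (Nat.ble (nat_lit 1137) i)) (@Bool.rec (fun _ => ℕ) rb1138 rb1139 (Nat.ble (nat_lit 1139) i)) (Nat.ble (nat_lit 1138) i)) (@Bool.rec (fun _ => ℕ) (@Bool.rec (fun _ => ℕ) rb1140 rb1141 (Nat.ble (nat_lit 1141) i)) (@Bool.rec (fun _ => ℕ) rb1142 rb1143 (Nat.ble (nat_lit 1143) i)) (Nat.ble (nat_lit 1142) i)) (Nat.ble (nat_lit 1140) i)) (@Bool.rec (fun _ => ℕ) (@Bool.rec (fun _ => ℕ) (@Bool.rec (fun _ => ℕ) rb1144 rb1145 (Nat.ble (nat_lit 1145) i)) (@Bool.rec (fun _ => ℕ) rb1146 rb1147 (Nat.ble (nat_lit 1147) i)) (Nat.ble (nat_lit 1146) i)) (@Bool.rec (fun _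 => ℕ) (@Bool.rec (fun _ => ℕ) rb1148 rb1149 (Nat.ble (nat_lit 1149) i)) (@Bool.rec (fun _ => ℕ) rb1150 rb1151 (Nat.ble (nat_lit 1151) i)) (Nat.ble (nat_lit 1150) i)) (Nat.ble (nat_lit 1148) i)) (Nat.ble (nat_lit 1144) i)) (Nat.ble (nat_lit 1136) i))

def rowBlk_n0_36 (i : ℕ) : ℕ := (@Bool.rec (fun _ => ℕ) (@Bool.rec (fun _ => ℕ) (@Bool.rec (fun _ => ℕ) (@Bool.rec (fun _ => ℕ) (@Bool.rec (fun _ => ℕ) rb1152 rb1153 (Nat.ble (nat_lit 1153) i)) (@Bool.rec (fun _ => ℕ) rb1154 rb1155 (Nat.ble (nat_lit 1155) i)) (Nat.ble (nat_lit 1154) i)) (@Bool.rec (fun _ => ℕ) (@Bool.rec (fun _ => ℕ) rb1156 rb1157 (Nat.ble (nat_lit 1157) i)) (@Bool.rec (fun _ => ℕ) rb1158 rb1159 (Nat.ble (nat_lit 1159) i)) (Nat.ble (nat_lit 1158) i)) (Nat.ble (nat_lit 1156) i)) (@Bool.rec (fun _ => ℕ) (@Bool.rec (fun _ => ℕ) (@Bool.rec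 (fun _ => ℕ) rb1160 rb1161 (Nat.ble (nat_lit 1161) i)) (@Bool.rec (fun _ => ℕ) rb1162 rb1163 (Nat.ble (nat_lit 1163) i)) (Nat.ble (nat_lit 1162) i)) (@Bool.rec (fun _ => ℕ) (@Bool.rec (fun _ => ℕ) rb1164 rb1165 (Nat.ble (nat_lit 1165) i)) (@Bool.rec (fun _ => ℕ) rb1166 rb1167 (Nat.ble (nat_lit 1167) i)) (Nat.ble (nat_lit 1166) i)) (Nat.ble (nat_lit 1164) i)) (Nat.ble (nat_lit 1160) i)) (@Bool.rec (fun _ => ℕ) (@Bool.rec (fun _ => ℕ) (@Bool.rec (fun _ => ℕ) (@Bool.rec (fun _ => ℕ) rb1168 rb1169 (Nat.ble (nat_lit 1169) i)) (@Bool.rec (fun _ => ℕ) rb1170 rb1171 (Nat.ble (nat_lit 1171) i)) (Nat.ble (nat_lit 1170) i)) (@Bool.rec (fun _ => ℕ) (@Bool.rec (fun _ => ℕ) rb1172 rb1173 (Nat.ble (nat_lit 1173) i)) (@Bool.rec (fun _ => ℕ) rb1174 rb1175 (Nat.ble (nat_lit 1175) i)) (Nat.ble (nat_lit 1174) i)) (Nat.ble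 (nat_lit 1172) i)) (@Bool.rec (fun _ => ℕ) (@Bool.rec (fun _ => ℕ) (@Bool.rec (fun _ => ℕ) rb1176 rb1177 (Nat.ble (nat_lit 1177) i)) (@Bool.rec (fun _ => ℕ) rb1178 rb1179 (Nat.ble (nat_lit 1179) i)) (Nat.ble (nat_lit 1178) i)) (@Bool.rec (fun _ => ℕ) (@Bool.rec (fun _ => ℕ) rb1180 rb1181 (Nat.ble (nat_lit 1181) i)) (@Bool.rec (fun _ => ℕ) rb1182 rb1183 (Nat.ble (nat_lit 1183) i)) (Nat.ble (nat_lit 1182) i)) (Nat.ble (nat_lit 1180) i)) (Nat.ble (nat_lit 1176) i)) (Nat.ble (nat_lit 1168) i))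

def rowBlk_n0_37 (i : ℕ) : ℕ := (@Bool.rec (fun _ => ℕ) (@Bool.rec (fun _ => ℕ) (@Bool.rec (fun _ => ℕ) (@Bool.rec (fun _ => ℕ) (@Bool.rec (fun _ => ℕ) rb1184 rb1185 (Nat.ble (nat_lit 1185) i)) (@Bool.rec (fun _ => ℕ) rb1186 rb1187 (Nat.ble (nat_lit 1187) i)) (Nat.ble (nat_lit 1186) i)) (@Bool.rec (fun _ => ℕ) (@Bool.rec (fun _ => ℕ) rb1188 rb1189 (Nat.ble (nat_lit 1189) i)) (@Bool.rec (fun _ => ℕ) rb1190 rb1191 (Nat.ble (nat_lit 1191) i)) (Nat.ble (nat_lit 1190) i)) (Nat.ble (nat_lit 1188) i)) (@Bool.rec (fun _ => ℕ) (@Bool.rec (fun _ => ℕ) (@Bool.rec (fun _ => ℕ) rb1192 rb1193 (Nat.ble (nat_lit 1193) i)) (@Bool.rec (fun _ => ℕ) rb1194 rb1195 (Nat.ble (nat_lit 1195) i)) (Nat.ble (nat_lit 1194) i)) (@Bool.rec (fun _ => ℕ) (@Bool.rec (fun _ => ℕ) rb1196 rb1197 (Nat.ble (nat_lit 1197) i)) (@Bool.rec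 (fun _ => ℕ) rb1198 rb1199 (Nat.ble (nat_lit 1199) i)) (Nat.ble (nat_lit 1198) i)) (Nat.ble (nat_lit 1196) i)) (Nat.ble (nat_lit 1192) i)) (@Bool.rec (fun _ => ℕ) (@Bool.rec (fun _ => ℕ) (@Bool.rec (fun _ => ℕ) (@Bool.rec (fun _ => ℕ) rb1200 rb1201 (Nat.ble (nat_lit 1201) i)) (@Bool.rec (fun _ => ℕ) rb1202 rb1203 (Nat.ble (nat_lit 1203) i)) (Nat.ble (nat_lit 1202) i)) (@Bool.rec (fun _ => ℕ) (@Bool.rec (fun _ => ℕ) rb1204 rb1205 (Nat.ble (nat_lit 1205) i)) (@Bool.rec (fun _ => ℕ) rb1206 rb1207 (Nat.ble (nat_lit 1207) i)) (Nat.ble (nat_lit 1206) i)) (Nat.ble (nat_lit 1204) i)) (@Bool.rec (fun _ => ℕ) (@Bool.rec (fun _ => ℕ) (@Bool.rec (fun _ => ℕ) rb1208 rb1209 (Nat.ble (nat_lit 1209) i)) (@Bool.rec (fun _ => ℕ) rb1210 rb1211 (Nat.ble (nat_lit 1211) i)) (Nat.ble (nat_lit 1210) i)) (@Bool.rec (fun _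 => ℕ) (@Bool.rec (fun _ => ℕ) rb1212 rb1213 (Nat.ble (nat_lit 1213) i)) (@Bool.rec (fun _ => ℕ) rb1214 rb1215 (Nat.ble (nat_lit 1215) i)) (Nat.ble (nat_lit 1214) i)) (Nat.ble (nat_lit 1212) i)) (Nat.ble (nat_lit 1208) i)) (Nat.ble (nat_lit 1200) i))

def rowBlk_n0_38 (i : ℕ) : ℕ := (@Bool.rec (fun _ => ℕ) (@Bool.rec (fun _ => ℕ) (@Bool.rec (fun _ => ℕ) (@Bool.rec (fun _ => ℕ) (@Bool.rec (fun _ => ℕ) rb1216 rb1217 (Nat.ble (nat_lit 1217) i)) (@Bool.rec (fun _ => ℕ) rb1218 rb1219 (Nat.ble (nat_lit 1219) i)) (Nat.ble (nat_lit 1218) i)) (@Bool.rec (fun _ => ℕ) (@Bool.rec (fun _ => ℕ) rb1220 rb1221 (Nat.ble (nat_lit 1221) i)) (@Bool.rec (fun _ => ℕ) rb1222 rb1223 (Nat.ble (nat_lit 1223) i)) (Nat.ble (nat_lit 1222) i)) (Nat.ble (nat_lit 1220) i)) (@Bool.rec (fun _ => ℕ) (@Bool.rec (fun _ => ℕ) (@Bool.rec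 (fun _ => ℕ) rb1224 rb1225 (Nat.ble (nat_lit 1225) i)) (@Bool.rec (fun _ => ℕ) rb1226 rb1227 (Nat.ble (nat_lit 1227) i)) (Nat.ble (nat_lit 1226) i)) (@Bool.rec (fun _ => ℕ) (@Bool.rec (fun _ => ℕ) rb1228 rb1229 (Nat.ble (nat_lit 1229) i)) (@Bool.rec (fun _ => ℕ) rb1230 rb1231 (Nat.ble (nat_lit 1231) i)) (Nat.ble (nat_lit 1230) i)) (Nat.ble (nat_lit 1228) i)) (Nat.ble (nat_lit 1224) i)) (@Bool.rec (fun _ => ℕ) (@Bool.rec (fun _ => ℕ) (@Bool.rec (fun _ => ℕ) (@Bool.rec (fun _ => ℕ) rb1232 rb1233 (Nat.ble (nat_lit 1233) i)) (@Bool.rec (fun _ => ℕ) rb1234 rb1235 (Nat.ble (nat_lit 1235) i)) (Nat.ble (nat_lit 1234) i)) (@Bool.rec (fun _ => ℕ) (@Bool.rec (fun _ => ℕ) rb1236 rb1237 (Nat.ble (nat_lit 1237) i)) (@Bool.rec (fun _ => ℕ) rb1238 rb1239 (Nat.ble (nat_lit 1239) i)) (Nat.ble (nat_lit 1238) i)) (Nat.ble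 (nat_lit 1236) i)) (@Bool.rec (fun _ => ℕ) (@Bool.rec (fun _ => ℕ) (@Bool.rec (fun _ => ℕ) rb1240 rb1241 (Nat.ble (nat_lit 1241) i)) (@Bool.rec (fun _ => ℕ) rb1242 rb1243 (Nat.ble (nat_lit 1243) i)) (Nat.ble (nat_lit 1242) i)) (@Bool.rec (fun _ => ℕ) (@Bool.rec (fun _ => ℕ) rb1244 rb1245 (Nat.ble (nat_lit 1245) i)) (@Bool.rec (fun _ => ℕ) rb1246 rb1247 (Nat.ble (nat_lit 1247) i)) (Nat.ble (nat_lit 1246) i)) (Nat.ble (nat_lit 1244) i)) (Nat.ble (nat_lit 1240) i)) (Nat.ble (nat_lit 1232) i))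

def rowBlk_n0_39 (i : ℕ) : ℕ := (@Bool.rec (fun _ => ℕ) (@Bool.rec (fun _ => ℕ) (@Bool.rec (fun _ => ℕ) (@Bool.rec (fun _ => ℕ) (@Bool.rec (fun _ => ℕ) rb1248 rb1249 (Nat.ble (nat_lit 1249) i)) (@Bool.rec (fun _ => ℕ) rb1250 rb1251 (Nat.ble (nat_lit 1251) i)) (Nat.ble (nat_lit 1250) i)) (@Bool.rec (fun _ => ℕ) (@Bool.rec (fun _ => ℕ) rb1252 rb1253 (Nat.ble (nat_lit 1253) i)) (@Bool.rec (fun _ => ℕ) rb1254 rb1255 (Nat.ble (nat_lit 1255) i)) (Nat.ble (nat_lit 1254) i)) (Nat.ble (nat_lit 1252) i)) (@Bool.rec (fun _ => ℕ) (@Bool.rec (fun _ => ℕ) (@Bool.rec (fun _ => ℕ) rb1256 rb1257 (Nat.ble (nat_lit 1257) i)) (@Bool.rec (fun _ => ℕ) rb1258 rb1259 (Nat.ble (nat_lit 1259) i)) (Nat.ble (nat_lit 1258) i)) (@Bool.rec (fun _ => ℕ) (@Bool.rec (fun _ => ℕ) rb1260 rb1261 (Nat.ble (nat_lit 1261) i)) (@Bool.rec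 (fun _ => ℕ) rb1262 rb1263 (Nat.ble (nat_lit 1263) i)) (Nat.ble (nat_lit 1262) i)) (Nat.ble (nat_lit 1260) i)) (Nat.ble (nat_lit 1256) i)) (@Bool.rec (fun _ => ℕ) (@Bool.rec (fun _ => ℕ) (@Bool.rec (fun _ => ℕ) (@Bool.rec (fun _ => ℕ) rb1264 rb1265 (Nat.ble (nat_lit 1265) i)) (@Bool.rec (fun _ => ℕ) rb1266 rb1267 (Nat.ble (nat_lit 1267) i)) (Nat.ble (nat_lit 1266) i)) (@Bool.rec (fun _ => ℕ) (@Bool.rec (fun _ => ℕ) rb1268 rb1269 (Nat.ble (nat_lit 1269) i)) (@Bool.rec (fun _ => ℕ) rb1270 rb1271 (Nat.ble (nat_lit 1271) i)) (Nat.ble (nat_lit 1270) i)) (Nat.ble (nat_lit 1268) i)) (@Bool.rec (fun _ => ℕ) (@Bool.rec (fun _ => ℕ) (@Bool.rec (fun _ => ℕ) rb1272 rb1273 (Nat.ble (nat_lit 1273) i)) (@Bool.rec (fun _ => ℕ) rb1274 rb1275 (Nat.ble (nat_lit 1275) i)) (Nat.ble (nat_lit 1274) i)) (@Bool.rec (fun _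 => ℕ) (@Bool.rec (fun _ => ℕ) rb1276 rb1277 (Nat.ble (nat_lit 1277) i)) (@Bool.rec (fun _ => ℕ) rb1278 rb1279 (Nat.ble (nat_lit 1279) i)) (Nat.ble (nat_lit 1278) i)) (Nat.ble (nat_lit 1276) i)) (Nat.ble (nat_lit 1272) i)) (Nat.ble (nat_lit 1264) i))

def rowBlk_n0_40 (i : ℕ) : ℕ := (@Bool.rec (fun _ => ℕ) (@Bool.rec (fun _ => ℕ) (@Bool.rec (fun _ => ℕ) (@Bool.rec (fun _ => ℕ) (@Bool.rec (fun _ => ℕ) rb1280 rb1281 (Nat.ble (nat_lit 1281) i)) (@Bool.rec (fun _ => ℕ) rb1282 rb1283 (Nat.ble (nat_lit 1283) i)) (Nat.ble (nat_lit 1282) i)) (@Bool.rec (fun _ => ℕ) (@Bool.rec (fun _ => ℕ) rb1284 rb1285 (Nat.ble (nat_lit 1285) i)) (@Bool.rec (fun _ => ℕ) rb1286 rb1287 (Nat.ble (nat_lit 1287) i)) (Nat.ble (nat_lit 1286) i)) (Nat.ble (nat_lit 1284) i)) (@Bool.rec (fun _ => ℕ) (@Bool.rec (fun _ => ℕ) (@Bool.rec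 (fun _ => ℕ) rb1288 rb1289 (Nat.ble (nat_lit 1289) i)) (@Bool.rec (fun _ => ℕ) rb1290 rb1291 (Nat.ble (nat_lit 1291) i)) (Nat.ble (nat_lit 1290) i)) (@Bool.rec (fun _ => ℕ) (@Bool.rec (fun _ => ℕ) rb1292 rb1293 (Nat.ble (nat_lit 1293) i)) (@Bool.rec (fun _ => ℕ) rb1294 rb1295 (Nat.ble (nat_lit 1295) i)) (Nat.ble (nat_lit 1294) i)) (Nat.ble (nat_lit 1292) i)) (Nat.ble (nat_lit 1288) i)) (@Bool.rec (fun _ => ℕ) (@Bool.rec (fun _ => ℕ) (@Bool.rec (fun _ => ℕ) (@Bool.rec (fun _ => ℕ) rb1296 rb1297 (Nat.ble (nat_lit 1297) i)) (@Bool.rec (fun _ => ℕ) rb1298 rb1299 (Nat.ble (nat_lit 1299) i)) (Nat.ble (nat_lit 1298) i)) (@Bool.rec (fun _ => ℕ) (@Bool.rec (fun _ => ℕ) rb1300 rb1301 (Nat.ble (nat_lit 1301) i)) (@Bool.rec (fun _ => ℕ) rb1302 rb1303 (Nat.ble (nat_lit 1303) i)) (Nat.ble (nat_lit 1302) i)) (Nat.ble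 (nat_lit 1300) i)) (@Bool.rec (fun _ => ℕ) (@Bool.rec (fun _ => ℕ) (@Bool.rec (fun _ => ℕ) rb1304 rb1305 (Nat.ble (nat_lit 1305) i)) (@Bool.rec (fun _ => ℕ) rb1306 rb1307 (Nat.ble (nat_lit 1307) i)) (Nat.ble (nat_lit 1306) i)) (@Bool.rec (fun _ => ℕ) (@Bool.rec (fun _ => ℕ) rb1308 rb1309 (Nat.ble (nat_lit 1309) i)) (@Bool.rec (fun _ => ℕ) rb1310 rb1311 (Nat.ble (nat_lit 1311) i)) (Nat.ble (nat_lit 1310) i)) (Nat.ble (nat_lit 1308) i)) (Nat.ble (nat_lit 1304) i)) (Nat.ble (nat_lit 1296) i))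

def rowBlk_n0_41 (i : ℕ) : ℕ := (@Bool.rec (fun _ => ℕ) (@Bool.rec (fun _ => ℕ) (@Bool.rec (fun _ => ℕ) (@Bool.rec (fun _ => ℕ) (@Bool.rec (fun _ => ℕ) rb1312 rb1313 (Nat.ble (nat_lit 1313) i)) (@Bool.rec (fun _ => ℕ) rb1314 rb1315 (Nat.ble (nat_lit 1315) i)) (Nat.ble (nat_lit 1314) i)) (@Bool.rec (fun _ => ℕ) (@Bool.rec (fun _ => ℕ) rb1316 rb1317 (Nat.ble (nat_lit 1317) i)) (@Bool.rec (fun _ => ℕ) rb1318 rb1319 (Nat.ble (nat_lit 1319) i)) (Nat.ble (nat_lit 1318) i)) (Nat.ble (nat_lit 1316) i)) (@Bool.rec (fun _ => ℕ) (@Bool.rec (fun _ => ℕ) (@Bool.rec (fun _ => ℕ) rb1320 rb1321 (Nat.ble (nat_lit 1321) i)) (@Bool.rec (fun _ => ℕ) rb1322 rb1323 (Nat.ble (nat_lit 1323) i)) (Nat.ble (nat_lit 1322) i)) (@Bool.rec (fun _ => ℕ) (@Bool.rec (fun _ => ℕ) rb1324 rb1325 (Nat.ble (nat_lit 1325) i)) (@Bool.rec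 (fun _ => ℕ) rb1326 rb1327 (Nat.ble (nat_lit 1327) i)) (Nat.ble (nat_lit 1326) i)) (Nat.ble (nat_lit 1324) i)) (Nat.ble (nat_lit 1320) i)) (@Bool.rec (fun _ => ℕ) (@Bool.rec (fun _ => ℕ) (@Bool.rec (fun _ => ℕ) (@Bool.rec (fun _ => ℕ) rb1328 rb1329 (Nat.ble (nat_lit 1329) i)) (@Bool.rec (fun _ => ℕ) rb1330 rb1331 (Nat.ble (nat_lit 1331) i)) (Nat.ble (nat_lit 1330) i)) (@Bool.rec (fun _ => ℕ) (@Bool.rec (fun _ => ℕ) rb1332 rb1333 (Nat.ble (nat_lit 1333) i)) (@Bool.rec (fun _ => ℕ) rb1334 rb1335 (Nat.ble (nat_lit 1335) i)) (Nat.ble (nat_lit 1334) i)) (Nat.ble (nat_lit 1332) i)) (@Bool.rec (fun _ => ℕ) (@Bool.rec (fun _ => ℕ) (@Bool.rec (fun _ => ℕ) rb1336 rb1337 (Nat.ble (nat_lit 1337) i)) (@Bool.rec (fun _ => ℕ) rb1338 rb1339 (Nat.ble (nat_lit 1339) i)) (Nat.ble (nat_lit 1338) i)) (@Bool.rec (fun _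 => ℕ) (@Bool.rec (fun _ => ℕ) rb1340 rb1341 (Nat.ble (nat_lit 1341) i)) (@Bool.rec (fun _ => ℕ) rb1342 rb1343 (Nat.ble (nat_lit 1343) i)) (Nat.ble (nat_lit 1342) i)) (Nat.ble (nat_lit 1340) i)) (Nat.ble (nat_lit 1336) i)) (Nat.ble (nat_lit 1328) i))

def rowBlk_n0_42 (i : ℕ) : ℕ := (@Bool.rec (fun _ => ℕ) (@Bool.rec (fun _ => ℕ) (@Bool.rec (fun _ => ℕ) (@Bool.rec (fun _ => ℕ) (@Bool.rec (fun _ => ℕ) rb1344 rb1345 (Nat.ble (nat_lit 1345) i)) (@Bool.rec (fun _ => ℕ) rb1346 rb1347 (Nat.ble (nat_lit 1347) i)) (Nat.ble (nat_lit 1346) i)) (@Bool.rec (fun _ => ℕ) (@Bool.rec (fun _ => ℕ) rb1348 rb1349 (Nat.ble (nat_lit 1349) i)) (@Bool.rec (fun _ => ℕ) rb1350 rb1351 (Nat.ble (nat_lit 1351) i)) (Nat.ble (nat_lit 1350) i)) (Nat.ble (nat_lit 1348) i)) (@Bool.rec (fun _ => ℕ) (@Bool.rec (fun _ => ℕ) (@Bool.rec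 (fun _ => ℕ) rb1352 rb1353 (Nat.ble (nat_lit 1353) i)) (@Bool.rec (fun _ => ℕ) rb1354 rb1355 (Nat.ble (nat_lit 1355) i)) (Nat.ble (nat_lit 1354) i)) (@Bool.rec (fun _ => ℕ) (@Bool.rec (fun _ => ℕ) rb1356 rb1357 (Nat.ble (nat_lit 1357) i)) (@Bool.rec (fun _ => ℕ) rb1358 rb1359 (Nat.ble (nat_lit 1359) i)) (Nat.ble (nat_lit 1358) i)) (Nat.ble (nat_lit 1356) i)) (Nat.ble (nat_lit 1352) i)) (@Bool.rec (fun _ => ℕ) (@Bool.rec (fun _ => ℕ) (@Bool.rec (fun _ => ℕ) (@Bool.rec (fun _ => ℕ) rb1360 rb1361 (Nat.ble (nat_lit 1361) i)) (@Bool.rec (fun _ => ℕ) rb1362 rb1363 (Nat.ble (nat_lit 1363) i)) (Nat.ble (nat_lit 1362) i)) (@Bool.rec (fun _ => ℕ) (@Bool.rec (fun _ => ℕ) rb1364 rb1365 (Nat.ble (nat_lit 1365) i)) (@Bool.rec (fun _ => ℕ) rb1366 rb1367 (Nat.ble (nat_lit 1367) i)) (Nat.ble (nat_lit 1366) i)) (Nat.ble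 (nat_lit 1364) i)) (@Bool.rec (fun _ => ℕ) (@Bool.rec (fun _ => ℕ) (@Bool.rec (fun _ => ℕ) rb1368 rb1369 (Nat.ble (nat_lit 1369) i)) (@Bool.rec (fun _ => ℕ) rb1370 rb1371 (Nat.ble (nat_lit 1371) i)) (Nat.ble (nat_lit 1370) i)) (@Bool.rec (fun _ => ℕ) (@Bool.rec (fun _ => ℕ) rb1372 rb1373 (Nat.ble (nat_lit 1373) i)) (@Bool.rec (fun _ => ℕ) rb1374 rb1375 (Nat.ble (nat_lit 1375) i)) (Nat.ble (nat_lit 1374) i)) (Nat.ble (nat_lit 1372) i)) (Nat.ble (nat_lit 1368) i)) (Nat.ble (nat_lit 1360) i))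

def rowBlk_n0_43 (i : ℕ) : ℕ := (@Bool.rec (fun _ => ℕ) (@Bool.rec (fun _ => ℕ) (@Bool.rec (fun _ => ℕ) (@Bool.rec (fun _ => ℕ) (@Bool.rec (fun _ => ℕ) rb1376 rb1377 (Nat.ble (nat_lit 1377) i)) (@Bool.rec (fun _ => ℕ) rb1378 rb1379 (Nat.ble (nat_lit 1379) i)) (Nat.ble (nat_lit 1378) i)) (@Bool.rec (fun _ => ℕ) (@Bool.rec (fun _ => ℕ) rb1380 rb1381 (Nat.ble (nat_lit 1381) i)) (@Bool.rec (fun _ => ℕ) rb1382 rb1383 (Nat.ble (nat_lit 1383) i)) (Nat.ble (nat_lit 1382) i)) (Nat.ble (nat_lit 1380) i)) (@Bool.rec (fun _ => ℕ) (@Bool.rec (fun _ => ℕ) (@Bool.rec (fun _ => ℕ) rb1384 rb1385 (Nat.ble (nat_lit 1385) i)) (@Bool.rec (fun _ => ℕ) rb1386 rb1387 (Nat.ble (nat_lit 1387) i)) (Nat.ble (nat_lit 1386) i)) (@Bool.rec (fun _ => ℕ) (@Bool.rec (fun _ => ℕ) rb1388 rb1389 (Nat.ble (nat_lit 1389) i)) (@Bool.rec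 (fun _ => ℕ) rb1390 rb1391 (Nat.ble (nat_lit 1391) i)) (Nat.ble (nat_lit 1390) i)) (Nat.ble (nat_lit 1388) i)) (Nat.ble (nat_lit 1384) i)) (@Bool.rec (fun _ => ℕ) (@Bool.rec (fun _ => ℕ) (@Bool.rec (fun _ => ℕ) (@Bool.rec (fun _ => ℕ) rb1392 rb1393 (Nat.ble (nat_lit 1393) i)) (@Bool.rec (fun _ => ℕ) rb1394 rb1395 (Nat.ble (nat_lit 1395) i)) (Nat.ble (nat_lit 1394) i)) (@Bool.rec (fun _ => ℕ) (@Bool.rec (fun _ => ℕ) rb1396 rb1397 (Nat.ble (nat_lit 1397) i)) (@Bool.rec (fun _ => ℕ) rb1398 rb1399 (Nat.ble (nat_lit 1399) i)) (Nat.ble (nat_lit 1398) i)) (Nat.ble (nat_lit 1396) i)) (@Bool.rec (fun _ => ℕ) (@Bool.rec (fun _ => ℕ) (@Bool.rec (fun _ => ℕ) rb1400 rb1401 (Nat.ble (nat_lit 1401) i)) (@Bool.rec (fun _ => ℕ) rb1402 rb1403 (Nat.ble (nat_lit 1403) i)) (Nat.ble (nat_lit 1402) i)) (@Bool.rec (fun _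 => ℕ) (@Bool.rec (fun _ => ℕ) rb1404 rb1405 (Nat.ble (nat_lit 1405) i)) (@Bool.rec (fun _ => ℕ) rb1406 rb1407 (Nat.ble (nat_lit 1407) i)) (Nat.ble (nat_lit 1406) i)) (Nat.ble (nat_lit 1404) i)) (Nat.ble (nat_lit 1400) i)) (Nat.ble (nat_lit 1392) i))

def rowBlk_n0_44 (i : ℕ) : ℕ := (@Bool.rec (fun _ => ℕ) (@Bool.rec (fun _ => ℕ) (@Bool.rec (fun _ => ℕ) (@Bool.rec (fun _ => ℕ) (@Bool.rec (fun _ => ℕ) rb1408 rb1409 (Nat.ble (nat_lit 1409) i)) (@Bool.rec (fun _ => ℕ) rb1410 rb1411 (Nat.ble (nat_lit 1411) i)) (Nat.ble (nat_lit 1410) i)) (@Bool.rec (fun _ => ℕ) (@Bool.rec (fun _ => ℕ) rb1412 rb1413 (Nat.ble (nat_lit 1413) i)) (@Bool.rec (fun _ => ℕ) rb1414 rb1415 (Nat.ble (nat_lit 1415) i)) (Nat.ble (nat_lit 1414) i)) (Nat.ble (nat_lit 1412) i)) (@Bool.rec (fun _ => ℕ) (@Bool.rec (fun _ => ℕ) (@Bool.rec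 (fun _ => ℕ) rb1416 rb1417 (Nat.ble (nat_lit 1417) i)) (@Bool.rec (fun _ => ℕ) rb1418 rb1419 (Nat.ble (nat_lit 1419) i)) (Nat.ble (nat_lit 1418) i)) (@Bool.rec (fun _ => ℕ) (@Bool.rec (fun _ => ℕ) rb1420 rb1421 (Nat.ble (nat_lit 1421) i)) (@Bool.rec (fun _ => ℕ) rb1422 rb1423 (Nat.ble (nat_lit 1423) i)) (Nat.ble (nat_lit 1422) i)) (Nat.ble (nat_lit 1420) i)) (Nat.ble (nat_lit 1416) i)) (@Bool.rec (fun _ => ℕ) (@Bool.rec (fun _ => ℕ) (@Bool.rec (fun _ => ℕ) (@Bool.rec (fun _ => ℕ) rb1424 rb1425 (Nat.ble (nat_lit 1425) i)) (@Bool.rec (fun _ => ℕ) rb1426 rb1427 (Nat.ble (nat_lit 1427) i)) (Nat.ble (nat_lit 1426) i)) (@Bool.rec (fun _ => ℕ) (@Bool.rec (fun _ => ℕ) rb1428 rb1429 (Nat.ble (nat_lit 1429) i)) (@Bool.rec (fun _ => ℕ) rb1430 rb1431 (Nat.ble (nat_lit 1431) i)) (Nat.ble (nat_lit 1430) i)) (Nat.ble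 (nat_lit 1428) i)) (@Bool.rec (fun _ => ℕ) (@Bool.rec (fun _ => ℕ) (@Bool.rec (fun _ => ℕ) rb1432 rb1433 (Nat.ble (nat_lit 1433) i)) (@Bool.rec (fun _ => ℕ) rb1434 rb1435 (Nat.ble (nat_lit 1435) i)) (Nat.ble (nat_lit 1434) i)) (@Bool.rec (fun _ => ℕ) (@Bool.rec (fun _ => ℕ) rb1436 rb1437 (Nat.ble (nat_lit 1437) i)) (@Bool.rec (fun _ => ℕ) rb1438 rb1439 (Nat.ble (nat_lit 1439) i)) (Nat.ble (nat_lit 1438) i)) (Nat.ble (nat_lit 1436) i)) (Nat.ble (nat_lit 1432) i)) (Nat.ble (nat_lit 1424) i))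

def rowBlk_n0_45 (i : ℕ) : ℕ := (@Bool.rec (fun _ => ℕ) (@Bool.rec (fun _ => ℕ) (@Bool.rec (fun _ => ℕ) (@Bool.rec (fun _ => ℕ) (@Bool.rec (fun _ => ℕ) rb1440 rb1441 (Nat.ble (nat_lit 1441) i)) (@Bool.rec (fun _ => ℕ) rb1442 rb1443 (Nat.ble (nat_lit 1443) i)) (Nat.ble (nat_lit 1442) i)) (@Bool.rec (fun _ => ℕ) (@Bool.rec (fun _ => ℕ) rb1444 rb1445 (Nat.ble (nat_lit 1445) i)) (@Bool.rec (fun _ => ℕ) rb1446 rb1447 (Nat.ble (nat_lit 1447) i)) (Nat.ble (nat_lit 1446) i)) (Nat.ble (nat_lit 1444) i)) (@Bool.rec (fun _ => ℕ) (@Bool.rec (fun _ => ℕ) (@Bool.rec (fun _ => ℕ) rb1448 rb1449 (Nat.ble (nat_lit 1449) i)) (@Bool.rec (fun _ => ℕ) rb1450 rb1451 (Nat.ble (nat_lit 1451) i)) (Nat.ble (nat_lit 1450) i)) (@Bool.rec (fun _ => ℕ) (@Bool.rec (fun _ => ℕ) rb1452 rb1453 (Nat.ble (nat_lit 1453) i)) (@Bool.rec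 (fun _ => ℕ) rb1454 rb1455 (Nat.ble (nat_lit 1455) i)) (Nat.ble (nat_lit 1454) i)) (Nat.ble (nat_lit 1452) i)) (Nat.ble (nat_lit 1448) i)) (@Bool.rec (fun _ => ℕ) (@Bool.rec (fun _ => ℕ) (@Bool.rec (fun _ => ℕ) (@Bool.rec (fun _ => ℕ) rb1456 rb1457 (Nat.ble (nat_lit 1457) i)) (@Bool.rec (fun _ => ℕ) rb1458 rb1459 (Nat.ble (nat_lit 1459) i)) (Nat.ble (nat_lit 1458) i)) (@Bool.rec (fun _ => ℕ) (@Bool.rec (fun _ => ℕ) rb1460 rb1461 (Nat.ble (nat_lit 1461) i)) (@Bool.rec (fun _ => ℕ) rb1462 rb1463 (Nat.ble (nat_lit 1463) i)) (Nat.ble (nat_lit 1462) i)) (Nat.ble (nat_lit 1460) i)) (@Bool.rec (fun _ => ℕ) (@Bool.rec (fun _ => ℕ) (@Bool.rec (fun _ => ℕ) rb1464 rb1465 (Nat.ble (nat_lit 1465) i)) (@Bool.rec (fun _ => ℕ) rb1466 rb1467 (Nat.ble (nat_lit 1467) i)) (Nat.ble (nat_lit 1466) i)) (@Bool.rec (fun _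 => ℕ) (@Bool.rec (fun _ => ℕ) rb1468 rb1469 (Nat.ble (nat_lit 1469) i)) (@Bool.rec (fun _ => ℕ) rb1470 rb1471 (Nat.ble (nat_lit 1471) i)) (Nat.ble (nat_lit 1470) i)) (Nat.ble (nat_lit 1468) i)) (Nat.ble (nat_lit 1464) i)) (Nat.ble (nat_lit 1456) i))

def rowBlk_n0_46 (i : ℕ) : ℕ := (@Bool.rec (fun _ => ℕ) (@Bool.rec (fun _ => ℕ) (@Bool.rec (fun _ => ℕ) (@Bool.rec (fun _ => ℕ) (@Bool.rec (fun _ => ℕ) rb1472 rb1473 (Nat.ble (nat_lit 1473) i)) (@Bool.rec (fun _ => ℕ) rb1474 rb1475 (Nat.ble (nat_lit 1475) i)) (Nat.ble (nat_lit 1474) i)) (@Bool.rec (fun _ => ℕ) (@Bool.rec (fun _ => ℕ) rb1476 rb1477 (Nat.ble (nat_lit 1477) i)) (@Bool.rec (fun _ => ℕ) rb1478 rb1479 (Nat.ble (nat_lit 1479) i)) (Nat.ble (nat_lit 1478) i)) (Nat.ble (nat_lit 1476) i)) (@Bool.rec (fun _ => ℕ) (@Bool.rec (fun _ => ℕ) (@Bool.rec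 (fun _ => ℕ) rb1480 rb1481 (Nat.ble (nat_lit 1481) i)) (@Bool.rec (fun _ => ℕ) rb1482 rb1483 (Nat.ble (nat_lit 1483) i)) (Nat.ble (nat_lit 1482) i)) (@Bool.rec (fun _ => ℕ) (@Bool.rec (fun _ => ℕ) rb1484 rb1485 (Nat.ble (nat_lit 1485) i)) (@Bool.rec (fun _ => ℕ) rb1486 rb1487 (Nat.ble (nat_lit 1487) i)) (Nat.ble (nat_lit 1486) i)) (Nat.ble (nat_lit 1484) i)) (Nat.ble (nat_lit 1480) i)) (@Bool.rec (fun _ => ℕ) (@Bool.rec (fun _ => ℕ) (@Bool.rec (fun _ => ℕ) (@Bool.rec (fun _ => ℕ) rb1488 rb1489 (Nat.ble (nat_lit 1489) i)) (@Bool.rec (fun _ => ℕ) rb1490 rb1491 (Nat.ble (nat_lit 1491) i)) (Nat.ble (nat_lit 1490) i)) (@Bool.rec (fun _ => ℕ) (@Bool.rec (fun _ => ℕ) rb1492 rb1493 (Nat.ble (nat_lit 1493) i)) (@Bool.rec (fun _ => ℕ) rb1494 rb1495 (Nat.ble (nat_lit 1495) i)) (Nat.ble (nat_lit 1494) i)) (Nat.ble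 (nat_lit 1492) i)) (@Bool.rec (fun _ => ℕ) (@Bool.rec (fun _ => ℕ) (@Bool.rec (fun _ => ℕ) rb1496 rb1497 (Nat.ble (nat_lit 1497) i)) (@Bool.rec (fun _ => ℕ) rb1498 rb1499 (Nat.ble (nat_lit 1499) i)) (Nat.ble (nat_lit 1498) i)) (@Bool.rec (fun _ => ℕ) (@Bool.rec (fun _ => ℕ) rb1500 rb1501 (Nat.ble (nat_lit 1501) i)) (@Bool.rec (fun _ => ℕ) rb1502 rb1503 (Nat.ble (nat_lit 1503) i)) (Nat.ble (nat_lit 1502) i)) (Nat.ble (nat_lit 1500) i)) (Nat.ble (nat_lit 1496) i)) (Nat.ble (nat_lit 1488) i))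

def rowBlk_n0_47 (i : ℕ) : ℕ := (@Bool.rec (fun _ => ℕ) (@Bool.rec (fun _ => ℕ) (@Bool.rec (fun _ => ℕ) (@Bool.rec (fun _ => ℕ) (@Bool.rec (fun _ => ℕ) rb1504 rb1505 (Nat.ble (nat_lit 1505) i)) (@Bool.rec (fun _ => ℕ) rb1506 rb1507 (Nat.ble (nat_lit 1507) i)) (Nat.ble (nat_lit 1506) i)) (@Bool.rec (fun _ => ℕ) (@Bool.rec (fun _ => ℕ) rb1508 rb1509 (Nat.ble (nat_lit 1509) i)) (@Bool.rec (fun _ => ℕ) rb1510 rb1511 (Nat.ble (nat_lit 1511) i)) (Nat.ble (nat_lit 1510) i)) (Nat.ble (nat_lit 1508) i)) (@Bool.rec (fun _ => ℕ) (@Bool.rec (fun _ => ℕ) (@Bool.rec (fun _ => ℕ) rb1512 rb1513 (Nat.ble (nat_lit 1513) i)) (@Bool.rec (fun _ => ℕ) rb1514 rb1515 (Nat.ble (nat_lit 1515) i)) (Nat.ble (nat_lit 1514) i)) (@Bool.rec (fun _ => ℕ) (@Bool.rec (fun _ => ℕ) rb1516 rb1517 (Nat.ble (nat_lit 1517) i)) (@Bool.rec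 (fun _ => ℕ) rb1518 rb1519 (Nat.ble (nat_lit 1519) i)) (Nat.ble (nat_lit 1518) i)) (Nat.ble (nat_lit 1516) i)) (Nat.ble (nat_lit 1512) i)) (@Bool.rec (fun _ => ℕ) (@Bool.rec (fun _ => ℕ) (@Bool.rec (fun _ => ℕ) (@Bool.rec (fun _ => ℕ) rb1520 rb1521 (Nat.ble (nat_lit 1521) i)) (@Bool.rec (fun _ => ℕ) rb1522 rb1523 (Nat.ble (nat_lit 1523) i)) (Nat.ble (nat_lit 1522) i)) (@Bool.rec (fun _ => ℕ) (@Bool.rec (fun _ => ℕ) rb1524 rb1525 (Nat.ble (nat_lit 1525) i)) (@Bool.rec (fun _ => ℕ) rb1526 rb1527 (Nat.ble (nat_lit 1527) i)) (Nat.ble (nat_lit 1526) i)) (Nat.ble (nat_lit 1524) i)) (@Bool.rec (fun _ => ℕ) (@Bool.rec (fun _ => ℕ) (@Bool.rec (fun _ => ℕ) rb1528 rb1529 (Nat.ble (nat_lit 1529) i)) (@Bool.rec (fun _ => ℕ) rb1530 rb1531 (Nat.ble (nat_lit 1531) i)) (Nat.ble (nat_lit 1530) i)) (@Bool.rec (fun _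 => ℕ) (@Bool.rec (fun _ => ℕ) rb1532 rb1533 (Nat.ble (nat_lit 1533) i)) (@Bool.rec (fun _ => ℕ) rb1534 rb1535 (Nat.ble (nat_lit 1535) i)) (Nat.ble (nat_lit 1534) i)) (Nat.ble (nat_lit 1532) i)) (Nat.ble (nat_lit 1528) i)) (Nat.ble (nat_lit 1520) i))

def rowBlk_n0_48 (i : ℕ) : ℕ := (@Bool.rec (fun _ => ℕ) (@Bool.rec (fun _ => ℕ) (@Bool.rec (fun _ => ℕ) (@Bool.rec (fun _ => ℕ) (@Bool.rec (fun _ => ℕ) rb1536 rb1537 (Nat.ble (nat_lit 1537) i)) (@Bool.rec (fun _ => ℕ) rb1538 rb1539 (Nat.ble (nat_lit 1539) i)) (Nat.ble (nat_lit 1538) i)) (@Bool.rec (fun _ => ℕ) (@Bool.rec (fun _ => ℕ) rb1540 rb1541 (Nat.ble (nat_lit 1541) i)) (@Bool.rec (fun _ => ℕ) rb1542 rb1543 (Nat.ble (nat_lit 1543) i)) (Nat.ble (nat_lit 1542) i)) (Nat.ble (nat_lit 1540) i)) (@Bool.rec (fun _ => ℕ) (@Bool.rec (fun _ => ℕ) (@Bool.rec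 (fun _ => ℕ) rb1544 rb1545 (Nat.ble (nat_lit 1545) i)) (@Bool.rec (fun _ => ℕ) rb1546 rb1547 (Nat.ble (nat_lit 1547) i)) (Nat.ble (nat_lit 1546) i)) (@Bool.rec (fun _ => ℕ) (@Bool.rec (fun _ => ℕ) rb1548 rb1549 (Nat.ble (nat_lit 1549) i)) (@Bool.rec (fun _ => ℕ) rb1550 rb1551 (Nat.ble (nat_lit 1551) i)) (Nat.ble (nat_lit 1550) i)) (Nat.ble (nat_lit 1548) i)) (Nat.ble (nat_lit 1544) i)) (@Bool.rec (fun _ => ℕ) (@Bool.rec (fun _ => ℕ) (@Bool.rec (fun _ => ℕ) (@Bool.rec (fun _ => ℕ) rb1552 rb1553 (Nat.ble (nat_lit 1553) i)) (@Bool.rec (fun _ => ℕ) rb1554 rb1555 (Nat.ble (nat_lit 1555) i)) (Nat.ble (nat_lit 1554) i)) (@Bool.rec (fun _ => ℕ) (@Bool.rec (fun _ => ℕ) rb1556 rb1557 (Nat.ble (nat_lit 1557) i)) (@Bool.rec (fun _ => ℕ) rb1558 rb1559 (Nat.ble (nat_lit 1559) i)) (Nat.ble (nat_lit 1558) i)) (Nat.ble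 (nat_lit 1556) i)) (@Bool.rec (fun _ => ℕ) (@Bool.rec (fun _ => ℕ) (@Bool.rec (fun _ => ℕ) rb1560 rb1561 (Nat.ble (nat_lit 1561) i)) (@Bool.rec (fun _ => ℕ) rb1562 rb1563 (Nat.ble (nat_lit 1563) i)) (Nat.ble (nat_lit 1562) i)) (@Bool.rec (fun _ => ℕ) (@Bool.rec (fun _ => ℕ) rb1564 rb1565 (Nat.ble (nat_lit 1565) i)) (@Bool.rec (fun _ => ℕ) rb1566 rb1567 (Nat.ble (nat_lit 1567) i)) (Nat.ble (nat_lit 1566) i)) (Nat.ble (nat_lit 1564) i)) (Nat.ble (nat_lit 1560) i)) (Nat.ble (nat_lit 1552) i))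

def rowBlk_n0_49 (i : ℕ) : ℕ := (@Bool.rec (fun _ => ℕ) (@Bool.rec (fun _ => ℕ) (@Bool.rec (fun _ => ℕ) (@Bool.rec (fun _ => ℕ) (@Bool.rec (fun _ => ℕ) rb1568 rb1569 (Nat.ble (nat_lit 1569) i)) (@Bool.rec (fun _ => ℕ) rb1570 rb1571 (Nat.ble (nat_lit 1571) i)) (Nat.ble (nat_lit 1570) i)) (@Bool.rec (fun _ => ℕ) (@Bool.rec (fun _ => ℕ) rb1572 rb1573 (Nat.ble (nat_lit 1573) i)) (@Bool.rec (fun _ => ℕ) rb1574 rb1575 (Nat.ble (nat_lit 1575) i)) (Nat.ble (nat_lit 1574) i)) (Nat.ble (nat_lit 1572) i)) (@Bool.rec (fun _ => ℕ) (@Bool.rec (fun _ => ℕ) (@Bool.rec (fun _ => ℕ) rb1576 rb1577 (Nat.ble (nat_lit 1577) i)) (@Bool.rec (fun _ => ℕ) rb1578 rb1579 (Nat.ble (nat_lit 1579) i)) (Nat.ble (nat_lit 1578) i)) (@Bool.rec (fun _ => ℕ) (@Bool.rec (fun _ => ℕ) rb1580 rb1581 (Nat.ble (nat_lit 1581) i)) (@Bool.rec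 (fun _ => ℕ) rb1582 rb1583 (Nat.ble (nat_lit 1583) i)) (Nat.ble (nat_lit 1582) i)) (Nat.ble (nat_lit 1580) i)) (Nat.ble (nat_lit 1576) i)) (@Bool.rec (fun _ => ℕ) (@Bool.rec (fun _ => ℕ) (@Bool.rec (fun _ => ℕ) (@Bool.rec (fun _ => ℕ) rb1584 rb1585 (Nat.ble (nat_lit 1585) i)) (@Bool.rec (fun _ => ℕ) rb1586 rb1587 (Nat.ble (nat_lit 1587) i)) (Nat.ble (nat_lit 1586) i)) (@Bool.rec (fun _ => ℕ) (@Bool.rec (fun _ => ℕ) rb1588 rb1589 (Nat.ble (nat_lit 1589) i)) (@Bool.rec (fun _ => ℕ) rb1590 rb1591 (Nat.ble (nat_lit 1591) i)) (Nat.ble (nat_lit 1590) i)) (Nat.ble (nat_lit 1588) i)) (@Bool.rec (fun _ => ℕ) (@Bool.rec (fun _ => ℕ) (@Bool.rec (fun _ => ℕ) rb1592 rb1593 (Nat.ble (nat_lit 1593) i)) (@Bool.rec (fun _ => ℕ) rb1594 rb1595 (Nat.ble (nat_lit 1595) i)) (Nat.ble (nat_lit 1594) i)) (@Bool.rec (fun _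 => ℕ) (@Bool.rec (fun _ => ℕ) rb1596 rb1597 (Nat.ble (nat_lit 1597) i)) (@Bool.rec (fun _ => ℕ) rb1598 rb1599 (Nat.ble (nat_lit 1599) i)) (Nat.ble (nat_lit 1598) i)) (Nat.ble (nat_lit 1596) i)) (Nat.ble (nat_lit 1592) i)) (Nat.ble (nat_lit 1584) i))

def rowBlk_n0_50 (i : ℕ) : ℕ := (@Bool.rec (fun _ => ℕ) (@Bool.rec (fun _ => ℕ) (@Bool.rec (fun _ => ℕ) (@Bool.rec (fun _ => ℕ) (@Bool.rec (fun _ => ℕ) rb1600 rb1601 (Nat.ble (nat_lit 1601) i)) (@Bool.rec (fun _ => ℕ) rb1602 rb1603 (Nat.ble (nat_lit 1603) i)) (Nat.ble (nat_lit 1602) i)) (@Bool.rec (fun _ => ℕ) (@Bool.rec (fun _ => ℕ) rb1604 rb1605 (Nat.ble (nat_lit 1605) i)) (@Bool.rec (fun _ => ℕ) rb1606 rb1607 (Nat.ble (nat_lit 1607) i)) (Nat.ble (nat_lit 1606) i)) (Nat.ble (nat_lit 1604) i)) (@Bool.rec (fun _ => ℕ) (@Bool.rec (fun _ => ℕ) (@Bool.rec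 (fun _ => ℕ) rb1608 rb1609 (Nat.ble (nat_lit 1609) i)) (@Bool.rec (fun _ => ℕ) rb1610 rb1611 (Nat.ble (nat_lit 1611) i)) (Nat.ble (nat_lit 1610) i)) (@Bool.rec (fun _ => ℕ) (@Bool.rec (fun _ => ℕ) rb1612 rb1613 (Nat.ble (nat_lit 1613) i)) (@Bool.rec (fun _ => ℕ) rb1614 rb1615 (Nat.ble (nat_lit 1615) i)) (Nat.ble (nat_lit 1614) i)) (Nat.ble (nat_lit 1612) i)) (Nat.ble (nat_lit 1608) i)) (@Bool.rec (fun _ => ℕ) (@Bool.rec (fun _ => ℕ) (@Bool.rec (fun _ => ℕ) (@Bool.rec (fun _ => ℕ) rb1616 rb1617 (Nat.ble (nat_lit 1617) i)) (@Bool.rec (fun _ => ℕ) rb1618 rb1619 (Nat.ble (nat_lit 1619) i)) (Nat.ble (nat_lit 1618) i)) (@Bool.rec (fun _ => ℕ) (@Bool.rec (fun _ => ℕ) rb1620 rb1621 (Nat.ble (nat_lit 1621) i)) (@Bool.rec (fun _ => ℕ) rb1622 rb1623 (Nat.ble (nat_lit 1623) i)) (Nat.ble (nat_lit 1622) i)) (Nat.ble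 (nat_lit 1620) i)) (@Bool.rec (fun _ => ℕ) (@Bool.rec (fun _ => ℕ) (@Bool.rec (fun _ => ℕ) rb1624 rb1625 (Nat.ble (nat_lit 1625) i)) (@Bool.rec (fun _ => ℕ) rb1626 rb1627 (Nat.ble (nat_lit 1627) i)) (Nat.ble (nat_lit 1626) i)) (@Bool.rec (fun _ => ℕ) (@Bool.rec (fun _ => ℕ) rb1628 rb1629 (Nat.ble (nat_lit 1629) i)) (@Bool.rec (fun _ => ℕ) rb1630 rb1631 (Nat.ble (nat_lit 1631) i)) (Nat.ble (nat_lit 1630) i)) (Nat.ble (nat_lit 1628) i)) (Nat.ble (nat_lit 1624) i)) (Nat.ble (nat_lit 1616) i))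

def rowBlk_n0_51 (i : ℕ) : ℕ := (@Bool.rec (fun _ => ℕ) (@Bool.rec (fun _ => ℕ) (@Bool.rec (fun _ => ℕ) (@Bool.rec (fun _ => ℕ) (@Bool.rec (fun _ => ℕ) rb1632 rb1633 (Nat.ble (nat_lit 1633) i)) (@Bool.rec (fun _ => ℕ) rb1634 rb1635 (Nat.ble (nat_lit 1635) i)) (Nat.ble (nat_lit 1634) i)) (@Bool.rec (fun _ => ℕ) (@Bool.rec (fun _ => ℕ) rb1636 rb1637 (Nat.ble (nat_lit 1637) i)) (@Bool.rec (fun _ => ℕ) rb1638 rb1639 (Nat.ble (nat_lit 1639) i)) (Nat.ble (nat_lit 1638) i)) (Nat.ble (nat_lit 1636) i)) (@Bool.rec (fun _ => ℕ) (@Bool.rec (fun _ => ℕ) (@Bool.rec (fun _ => ℕ) rb1640 rb1641 (Nat.ble (nat_lit 1641) i)) (@Bool.rec (fun _ => ℕ) rb1642 rb1643 (Nat.ble (nat_lit 1643) i)) (Nat.ble (nat_lit 1642) i)) (@Bool.rec (fun _ => ℕ) (@Bool.rec (fun _ => ℕ) rb1644 rb1645 (Nat.ble (nat_lit 1645) i)) (@Bool.rec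 (fun _ => ℕ) rb1646 rb1647 (Nat.ble (nat_lit 1647) i)) (Nat.ble (nat_lit 1646) i)) (Nat.ble (nat_lit 1644) i)) (Nat.ble (nat_lit 1640) i)) (@Bool.rec (fun _ => ℕ) (@Bool.rec (fun _ => ℕ) (@Bool.rec (fun _ => ℕ) (@Bool.rec (fun _ => ℕ) rb1648 rb1649 (Nat.ble (nat_lit 1649) i)) (@Bool.rec (fun _ => ℕ) rb1650 rb1651 (Nat.ble (nat_lit 1651) i)) (Nat.ble (nat_lit 1650) i)) (@Bool.rec (fun _ => ℕ) (@Bool.rec (fun _ => ℕ) rb1652 rb1653 (Nat.ble (nat_lit 1653) i)) (@Bool.rec (fun _ => ℕ) rb1654 rb1655 (Nat.ble (nat_lit 1655) i)) (Nat.ble (nat_lit 1654) i)) (Nat.ble (nat_lit 1652) i)) (@Bool.rec (fun _ => ℕ) (@Bool.rec (fun _ => ℕ) (@Bool.rec (fun _ => ℕ) rb1656 rb1657 (Nat.ble (nat_lit 1657) i)) (@Bool.rec (fun _ => ℕ) rb1658 rb1659 (Nat.ble (nat_lit 1659) i)) (Nat.ble (nat_lit 1658) i)) (@Bool.rec (fun _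 => ℕ) (@Bool.rec (fun _ => ℕ) rb1660 rb1661 (Nat.ble (nat_lit 1661) i)) (@Bool.rec (fun _ => ℕ) rb1662 rb1663 (Nat.ble (nat_lit 1663) i)) (Nat.ble (nat_lit 1662) i)) (Nat.ble (nat_lit 1660) i)) (Nat.ble (nat_lit 1656) i)) (Nat.ble (nat_lit 1648) i))

def rowBlk_n0_52 (i : ℕ) : ℕ := (@Bool.rec (fun _ => ℕ) (@Bool.rec (fun _ => ℕ) (@Bool.rec (fun _ => ℕ) (@Bool.rec (fun _ => ℕ) (@Bool.rec (fun _ => ℕ) rb1664 rb1665 (Nat.ble (nat_lit 1665) i)) (@Bool.rec (fun _ => ℕ) rb1666 rb1667 (Nat.ble (nat_lit 1667) i)) (Nat.ble (nat_lit 1666) i)) (@Bool.rec (fun _ => ℕ) (@Bool.rec (fun _ => ℕ) rb1668 rb1669 (Nat.ble (nat_lit 1669) i)) (@Bool.rec (fun _ => ℕ) rb1670 rb1671 (Nat.ble (nat_lit 1671) i)) (Nat.ble (nat_lit 1670) i)) (Nat.ble (nat_lit 1668) i)) (@Bool.rec (fun _ => ℕ) (@Bool.rec (fun _ => ℕ) (@Bool.rec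 (fun _ => ℕ) rb1672 rb1673 (Nat.ble (nat_lit 1673) i)) (@Bool.rec (fun _ => ℕ) rb1674 rb1675 (Nat.ble (nat_lit 1675) i)) (Nat.ble (nat_lit 1674) i)) (@Bool.rec (fun _ => ℕ) (@Bool.rec (fun _ => ℕ) rb1676 rb1677 (Nat.ble (nat_lit 1677) i)) (@Bool.rec (fun _ => ℕ) rb1678 rb1679 (Nat.ble (nat_lit 1679) i)) (Nat.ble (nat_lit 1678) i)) (Nat.ble (nat_lit 1676) i)) (Nat.ble (nat_lit 1672) i)) (@Bool.rec (fun _ => ℕ) (@Bool.rec (fun _ => ℕ) (@Bool.rec (fun _ => ℕ) (@Bool.rec (fun _ => ℕ) rb1680 rb1681 (Nat.ble (nat_lit 1681) i)) (@Bool.rec (fun _ => ℕ) rb1682 rb1683 (Nat.ble (nat_lit 1683) i)) (Nat.ble (nat_lit 1682) i)) (@Bool.rec (fun _ => ℕ) (@Bool.rec (fun _ => ℕ) rb1684 rb1685 (Nat.ble (nat_lit 1685) i)) (@Bool.rec (fun _ => ℕ) rb1686 rb1687 (Nat.ble (nat_lit 1687) i)) (Nat.ble (nat_lit 1686) i)) (Nat.ble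 (nat_lit 1684) i)) (@Bool.rec (fun _ => ℕ) (@Bool.rec (fun _ => ℕ) (@Bool.rec (fun _ => ℕ) rb1688 rb1689 (Nat.ble (nat_lit 1689) i)) (@Bool.rec (fun _ => ℕ) rb1690 rb1691 (Nat.ble (nat_lit 1691) i)) (Nat.ble (nat_lit 1690) i)) (@Bool.rec (fun _ => ℕ) (@Bool.rec (fun _ => ℕ) rb1692 rb1693 (Nat.ble (nat_lit 1693) i)) (@Bool.rec (fun _ => ℕ) rb1694 rb1695 (Nat.ble (nat_lit 1695) i)) (Nat.ble (nat_lit 1694) i)) (Nat.ble (nat_lit 1692) i)) (Nat.ble (nat_lit 1688) i)) (Nat.ble (nat_lit 1680) i))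

def rowBlk_n0_53 (i : ℕ) : ℕ := (@Bool.rec (fun _ => ℕ) (@Bool.rec (fun _ => ℕ) (@Bool.rec (fun _ => ℕ) (@Bool.rec (fun _ => ℕ) (@Bool.rec (fun _ => ℕ) rb1696 rb1697 (Nat.ble (nat_lit 1697) i)) (@Bool.rec (fun _ => ℕ) rb1698 rb1699 (Nat.ble (nat_lit 1699) i)) (Nat.ble (nat_lit 1698) i)) (@Bool.rec (fun _ => ℕ) (@Bool.rec (fun _ => ℕ) rb1700 rb1701 (Nat.ble (nat_lit 1701) i)) (@Bool.rec (fun _ => ℕ) rb1702 rb1703 (Nat.ble (nat_lit 1703) i)) (Nat.ble (nat_lit 1702) i)) (Nat.ble (nat_lit 1700) i)) (@Bool.rec (fun _ => ℕ) (@Bool.rec (fun _ => ℕ) (@Bool.rec (fun _ => ℕ) rb1704 rb1705 (Nat.ble (nat_lit 1705) i)) (@Bool.rec (fun _ => ℕ) rb1706 rb1707 (Nat.ble (nat_lit 1707) i)) (Nat.ble (nat_lit 1706) i)) (@Bool.rec (fun _ => ℕ) (@Bool.rec (fun _ => ℕ) rb1708 rb1709 (Nat.ble (nat_lit 1709) i)) (@Bool.rec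 (fun _ => ℕ) rb1710 rb1711 (Nat.ble (nat_lit 1711) i)) (Nat.ble (nat_lit 1710) i)) (Nat.ble (nat_lit 1708) i)) (Nat.ble (nat_lit 1704) i)) (@Bool.rec (fun _ => ℕ) (@Bool.rec (fun _ => ℕ) (@Bool.rec (fun _ => ℕ) (@Bool.rec (fun _ => ℕ) rb1712 rb1713 (Nat.ble (nat_lit 1713) i)) (@Bool.rec (fun _ => ℕ) rb1714 rb1715 (Nat.ble (nat_lit 1715) i)) (Nat.ble (nat_lit 1714) i)) (@Bool.rec (fun _ => ℕ) (@Bool.rec (fun _ => ℕ) rb1716 rb1717 (Nat.ble (nat_lit 1717) i)) (@Bool.rec (fun _ => ℕ) rb1718 rb1719 (Nat.ble (nat_lit 1719) i)) (Nat.ble (nat_lit 1718) i)) (Nat.ble (nat_lit 1716) i)) (@Bool.rec (fun _ => ℕ) (@Bool.rec (fun _ => ℕ) (@Bool.rec (fun _ => ℕ) rb1720 rb1721 (Nat.ble (nat_lit 1721) i)) (@Bool.rec (fun _ => ℕ) rb1722 rb1723 (Nat.ble (nat_lit 1723) i)) (Nat.ble (nat_lit 1722) i)) (@Bool.rec (fun _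 => ℕ) (@Bool.rec (fun _ => ℕ) rb1724 rb1725 (Nat.ble (nat_lit 1725) i)) (@Bool.rec (fun _ => ℕ) rb1726 rb1727 (Nat.ble (nat_lit 1727) i)) (Nat.ble (nat_lit 1726) i)) (Nat.ble (nat_lit 1724) i)) (Nat.ble (nat_lit 1720) i)) (Nat.ble (nat_lit 1712) i))

def rowBlk_n0_54 (i : ℕ) : ℕ := (@Bool.rec (fun _ => ℕ) (@Bool.rec (fun _ => ℕ) (@Bool.rec (fun _ => ℕ) (@Bool.rec (fun _ => ℕ) (@Bool.rec (fun _ => ℕ) rb1728 rb1729 (Nat.ble (nat_lit 1729) i)) (@Bool.rec (fun _ => ℕ) rb1730 rb1731 (Nat.ble (nat_lit 1731) i)) (Nat.ble (nat_lit 1730) i)) (@Bool.rec (fun _ => ℕ) (@Bool.rec (fun _ => ℕ) rb1732 rb1733 (Nat.ble (nat_lit 1733) i)) (@Bool.rec (fun _ => ℕ) rb1734 rb1735 (Nat.ble (nat_lit 1735) i)) (Nat.ble (nat_lit 1734) i)) (Nat.ble (nat_lit 1732) i)) (@Bool.rec (fun _ => ℕ) (@Bool.rec (fun _ => ℕ) (@Bool.rec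 (fun _ => ℕ) rb1736 rb1737 (Nat.ble (nat_lit 1737) i)) (@Bool.rec (fun _ => ℕ) rb1738 rb1739 (Nat.ble (nat_lit 1739) i)) (Nat.ble (nat_lit 1738) i)) (@Bool.rec (fun _ => ℕ) (@Bool.rec (fun _ => ℕ) rb1740 rb1741 (Nat.ble (nat_lit 1741) i)) (@Bool.rec (fun _ => ℕ) rb1742 rb1743 (Nat.ble (nat_lit 1743) i)) (Nat.ble (nat_lit 1742) i)) (Nat.ble (nat_lit 1740) i)) (Nat.ble (nat_lit 1736) i)) (@Bool.rec (fun _ => ℕ) (@Bool.rec (fun _ => ℕ) (@Bool.rec (fun _ => ℕ) (@Bool.rec (fun _ => ℕ) rb1744 rb1745 (Nat.ble (nat_lit 1745) i)) (@Bool.rec (fun _ => ℕ) rb1746 rb1747 (Nat.ble (nat_lit 1747) i)) (Nat.ble (nat_lit 1746) i)) (@Bool.rec (fun _ => ℕ) (@Bool.rec (fun _ => ℕ) rb1748 rb1749 (Nat.ble (nat_lit 1749) i)) (@Bool.rec (fun _ => ℕ) rb1750 rb1751 (Nat.ble (nat_lit 1751) i)) (Nat.ble (nat_lit 1750) i)) (Nat.ble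 (nat_lit 1748) i)) (@Bool.rec (fun _ => ℕ) (@Bool.rec (fun _ => ℕ) (@Bool.rec (fun _ => ℕ) rb1752 rb1753 (Nat.ble (nat_lit 1753) i)) (@Bool.rec (fun _ => ℕ) rb1754 rb1755 (Nat.ble (nat_lit 1755) i)) (Nat.ble (nat_lit 1754) i)) (@Bool.rec (fun _ => ℕ) (@Bool.rec (fun _ => ℕ) rb1756 rb1757 (Nat.ble (nat_lit 1757) i)) (@Bool.rec (fun _ => ℕ) rb1758 rb1759 (Nat.ble (nat_lit 1759) i)) (Nat.ble (nat_lit 1758) i)) (Nat.ble (nat_lit 1756) i)) (Nat.ble (nat_lit 1752) i)) (Nat.ble (nat_lit 1744) i))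

def rowBlk_n0_55 (i : ℕ) : ℕ := (@Bool.rec (fun _ => ℕ) (@Bool.rec (fun _ => ℕ) (@Bool.rec (fun _ => ℕ) (@Bool.rec (fun _ => ℕ) (@Bool.rec (fun _ => ℕ) rb1760 rb1761 (Nat.ble (nat_lit 1761) i)) (@Bool.rec (fun _ => ℕ) rb1762 rb1763 (Nat.ble (nat_lit 1763) i)) (Nat.ble (nat_lit 1762) i)) (@Bool.rec (fun _ => ℕ) (@Bool.rec (fun _ => ℕ) rb1764 rb1765 (Nat.ble (nat_lit 1765) i)) (@Bool.rec (fun _ => ℕ) rb1766 rb1767 (Nat.ble (nat_lit 1767) i)) (Nat.ble (nat_lit 1766) i)) (Nat.ble (nat_lit 1764) i)) (@Bool.rec (fun _ => ℕ) (@Bool.rec (fun _ => ℕ) (@Bool.rec (fun _ => ℕ) rb1768 rb1769 (Nat.ble (nat_lit 1769) i)) (@Bool.rec (fun _ => ℕ) rb1770 rb1771 (Nat.ble (nat_lit 1771) i)) (Nat.ble (nat_lit 1770) i)) (@Bool.rec (fun _ => ℕ) (@Bool.rec (fun _ => ℕ) rb1772 rb1773 (Nat.ble (nat_lit 1773) i)) (@Bool.rec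 (fun _ => ℕ) rb1774 rb1775 (Nat.ble (nat_lit 1775) i)) (Nat.ble (nat_lit 1774) i)) (Nat.ble (nat_lit 1772) i)) (Nat.ble (nat_lit 1768) i)) (@Bool.rec (fun _ => ℕ) (@Bool.rec (fun _ => ℕ) (@Bool.rec (fun _ => ℕ) (@Bool.rec (fun _ => ℕ) rb1776 rb1777 (Nat.ble (nat_lit 1777) i)) (@Bool.rec (fun _ => ℕ) rb1778 rb1779 (Nat.ble (nat_lit 1779) i)) (Nat.ble (nat_lit 1778) i)) (@Bool.rec (fun _ => ℕ) (@Bool.rec (fun _ => ℕ) rb1780 rb1781 (Nat.ble (nat_lit 1781) i)) (@Bool.rec (fun _ => ℕ) rb1782 rb1783 (Nat.ble (nat_lit 1783) i)) (Nat.ble (nat_lit 1782) i)) (Nat.ble (nat_lit 1780) i)) (@Bool.rec (fun _ => ℕ) (@Bool.rec (fun _ => ℕ) (@Bool.rec (fun _ => ℕ) rb1784 rb1785 (Nat.ble (nat_lit 1785) i)) (@Bool.rec (fun _ => ℕ) rb1786 rb1787 (Nat.ble (nat_lit 1787) i)) (Nat.ble (nat_lit 1786) i)) (@Bool.rec (fun _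 => ℕ) (@Bool.rec (fun _ => ℕ) rb1788 rb1789 (Nat.ble (nat_lit 1789) i)) (@Bool.rec (fun _ => ℕ) rb1790 rb1791 (Nat.ble (nat_lit 1791) i)) (Nat.ble (nat_lit 1790) i)) (Nat.ble (nat_lit 1788) i)) (Nat.ble (nat_lit 1784) i)) (Nat.ble (nat_lit 1776) i))

def rowBlk_n0_56 (i : ℕ) : ℕ := (@Bool.rec (fun _ => ℕ) (@Bool.rec (fun _ => ℕ) (@Bool.rec (fun _ => ℕ) (@Bool.rec (fun _ => ℕ) (@Bool.rec (fun _ => ℕ) rb1792 rb1793 (Nat.ble (nat_lit 1793) i)) (@Bool.rec (fun _ => ℕ) rb1794 rb1795 (Nat.ble (nat_lit 1795) i)) (Nat.ble (nat_lit 1794) i)) (@Bool.rec (fun _ => ℕ) (@Bool.rec (fun _ => ℕ) rb1796 rb1797 (Nat.ble (nat_lit 1797) i)) (@Bool.rec (fun _ => ℕ) rb1798 rb1799 (Nat.ble (nat_lit 1799) i)) (Nat.ble (nat_lit 1798) i)) (Nat.ble (nat_lit 1796) i)) (@Bool.rec (fun _ => ℕ) (@Bool.rec (fun _ => ℕ) (@Bool.rec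 (fun _ => ℕ) rb1800 rb1801 (Nat.ble (nat_lit 1801) i)) (@Bool.rec (fun _ => ℕ) rb1802 rb1803 (Nat.ble (nat_lit 1803) i)) (Nat.ble (nat_lit 1802) i)) (@Bool.rec (fun _ => ℕ) (@Bool.rec (fun _ => ℕ) rb1804 rb1805 (Nat.ble (nat_lit 1805) i)) (@Bool.rec (fun _ => ℕ) rb1806 rb1807 (Nat.ble (nat_lit 1807) i)) (Nat.ble (nat_lit 1806) i)) (Nat.ble (nat_lit 1804) i)) (Nat.ble (nat_lit 1800) i)) (@Bool.rec (fun _ => ℕ) (@Bool.rec (fun _ => ℕ) (@Bool.rec (fun _ => ℕ) (@Bool.rec (fun _ => ℕ) rb1808 rb1809 (Nat.ble (nat_lit 1809) i)) (@Bool.rec (fun _ => ℕ) rb1810 rb1811 (Nat.ble (nat_lit 1811) i)) (Nat.ble (nat_lit 1810) i)) (@Bool.rec (fun _ => ℕ) (@Bool.rec (fun _ => ℕ) rb1812 rb1813 (Nat.ble (nat_lit 1813) i)) (@Bool.rec (fun _ => ℕ) rb1814 rb1815 (Nat.ble (nat_lit 1815) i)) (Nat.ble (nat_lit 1814) i)) (Nat.ble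 (nat_lit 1812) i)) (@Bool.rec (fun _ => ℕ) (@Bool.rec (fun _ => ℕ) (@Bool.rec (fun _ => ℕ) rb1816 rb1817 (Nat.ble (nat_lit 1817) i)) (@Bool.rec (fun _ => ℕ) rb1818 rb1819 (Nat.ble (nat_lit 1819) i)) (Nat.ble (nat_lit 1818) i)) (@Bool.rec (fun _ => ℕ) (@Bool.rec (fun _ => ℕ) rb1820 rb1821 (Nat.ble (nat_lit 1821) i)) (@Bool.rec (fun _ => ℕ) rb1822 rb1823 (Nat.ble (nat_lit 1823) i)) (Nat.ble (nat_lit 1822) i)) (Nat.ble (nat_lit 1820) i)) (Nat.ble (nat_lit 1816) i)) (Nat.ble (nat_lit 1808) i))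

def rowBlk_n0_57 (i : ℕ) : ℕ := (@Bool.rec (fun _ => ℕ) (@Bool.rec (fun _ => ℕ) (@Bool.rec (fun _ => ℕ) (@Bool.rec (fun _ => ℕ) (@Bool.rec (fun _ => ℕ) rb1824 rb1825 (Nat.ble (nat_lit 1825) i)) (@Bool.rec (fun _ => ℕ) rb1826 rb1827 (Nat.ble (nat_lit 1827) i)) (Nat.ble (nat_lit 1826) i)) (@Bool.rec (fun _ => ℕ) (@Bool.rec (fun _ => ℕ) rb1828 rb1829 (Nat.ble (nat_lit 1829) i)) (@Bool.rec (fun _ => ℕ) rb1830 rb1831 (Nat.ble (nat_lit 1831) i)) (Nat.ble (nat_lit 1830) i)) (Nat.ble (nat_lit 1828) i)) (@Bool.rec (fun _ => ℕ) (@Bool.rec (fun _ => ℕ) (@Bool.rec (fun _ => ℕ) rb1832 rb1833 (Nat.ble (nat_lit 1833) i)) (@Bool.rec (fun _ => ℕ) rb1834 rb1835 (Nat.ble (nat_lit 1835) i)) (Nat.ble (nat_lit 1834) i)) (@Bool.rec (fun _ => ℕ) (@Bool.rec (fun _ => ℕ) rb1836 rb1837 (Nat.ble (nat_lit 1837) i)) (@Bool.rec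 (fun _ => ℕ) rb1838 rb1839 (Nat.ble (nat_lit 1839) i)) (Nat.ble (nat_lit 1838) i)) (Nat.ble (nat_lit 1836) i)) (Nat.ble (nat_lit 1832) i)) (@Bool.rec (fun _ => ℕ) (@Bool.rec (fun _ => ℕ) (@Bool.rec (fun _ => ℕ) (@Bool.rec (fun _ => ℕ) rb1840 rb1841 (Nat.ble (nat_lit 1841) i)) (@Bool.rec (fun _ => ℕ) rb1842 rb1843 (Nat.ble (nat_lit 1843) i)) (Nat.ble (nat_lit 1842) i)) (@Bool.rec (fun _ => ℕ) (@Bool.rec (fun _ => ℕ) rb1844 rb1845 (Nat.ble (nat_lit 1845) i)) (@Bool.rec (fun _ => ℕ) rb1846 rb1847 (Nat.ble (nat_lit 1847) i)) (Nat.ble (nat_lit 1846) i)) (Nat.ble (nat_lit 1844) i)) (@Bool.rec (fun _ => ℕ) (@Bool.rec (fun _ => ℕ) (@Bool.rec (fun _ => ℕ) rb1848 rb1849 (Nat.ble (nat_lit 1849) i)) (@Bool.rec (fun _ => ℕ) rb1850 rb1851 (Nat.ble (nat_lit 1851) i)) (Nat.ble (nat_lit 1850) i)) (@Bool.rec (fun _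 => ℕ) (@Bool.rec (fun _ => ℕ) rb1852 rb1853 (Nat.ble (nat_lit 1853) i)) (@Bool.rec (fun _ => ℕ) rb1854 rb1855 (Nat.ble (nat_lit 1855) i)) (Nat.ble (nat_lit 1854) i)) (Nat.ble (nat_lit 1852) i)) (Nat.ble (nat_lit 1848) i)) (Nat.ble (nat_lit 1840) i))

def rowBlk_n0_58 (i : ℕ) : ℕ := (@Bool.rec (fun _ => ℕ) (@Bool.rec (fun _ => ℕ) (@Bool.rec (fun _ => ℕ) (@Bool.rec (fun _ => ℕ) (@Bool.rec (fun _ => ℕ) rb1856 rb1857 (Nat.ble (nat_lit 1857) i)) (@Bool.rec (fun _ => ℕ) rb1858 rb1859 (Nat.ble (nat_lit 1859) i)) (Nat.ble (nat_lit 1858) i)) (@Bool.rec (fun _ => ℕ) (@Bool.rec (fun _ => ℕ) rb1860 rb1861 (Nat.ble (nat_lit 1861) i)) (@Bool.rec (fun _ => ℕ) rb1862 rb1863 (Nat.ble (nat_lit 1863) i)) (Nat.ble (nat_lit 1862) i)) (Nat.ble (nat_lit 1860) i)) (@Bool.rec (fun _ => ℕ) (@Bool.rec (fun _ => ℕ) (@Bool.rec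 (fun _ => ℕ) rb1864 rb1865 (Nat.ble (nat_lit 1865) i)) (@Bool.rec (fun _ => ℕ) rb1866 rb1867 (Nat.ble (nat_lit 1867) i)) (Nat.ble (nat_lit 1866) i)) (@Bool.rec (fun _ => ℕ) (@Bool.rec (fun _ => ℕ) rb1868 rb1869 (Nat.ble (nat_lit 1869) i)) (@Bool.rec (fun _ => ℕ) rb1870 rb1871 (Nat.ble (nat_lit 1871) i)) (Nat.ble (nat_lit 1870) i)) (Nat.ble (nat_lit 1868) i)) (Nat.ble (nat_lit 1864) i)) (@Bool.rec (fun _ => ℕ) (@Bool.rec (fun _ => ℕ) (@Bool.rec (fun _ => ℕ) (@Bool.rec (fun _ => ℕ) rb1872 rb1873 (Nat.ble (nat_lit 1873) i)) (@Bool.rec (fun _ => ℕ) rb1874 rb1875 (Nat.ble (nat_lit 1875) i)) (Nat.ble (nat_lit 1874) i)) (@Bool.rec (fun _ => ℕ) (@Bool.rec (fun _ => ℕ) rb1876 rb1877 (Nat.ble (nat_lit 1877) i)) (@Bool.rec (fun _ => ℕ) rb1878 rb1879 (Nat.ble (nat_lit 1879) i)) (Nat.ble (nat_lit 1878) i)) (Nat.ble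 (nat_lit 1876) i)) (@Bool.rec (fun _ => ℕ) (@Bool.rec (fun _ => ℕ) (@Bool.rec (fun _ => ℕ) rb1880 rb1881 (Nat.ble (nat_lit 1881) i)) (@Bool.rec (fun _ => ℕ) rb1882 rb1883 (Nat.ble (nat_lit 1883) i)) (Nat.ble (nat_lit 1882) i)) (@Bool.rec (fun _ => ℕ) (@Bool.rec (fun _ => ℕ) rb1884 rb1885 (Nat.ble (nat_lit 1885) i)) (@Bool.rec (fun _ => ℕ) rb1886 rb1887 (Nat.ble (nat_lit 1887) i)) (Nat.ble (nat_lit 1886) i)) (Nat.ble (nat_lit 1884) i)) (Nat.ble (nat_lit 1880) i)) (Nat.ble (nat_lit 1872) i))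

def rowBlk_n0_59 (i : ℕ) : ℕ := (@Bool.rec (fun _ => ℕ) (@Bool.rec (fun _ => ℕ) (@Bool.rec (fun _ => ℕ) (@Bool.rec (fun _ => ℕ) (@Bool.rec (fun _ => ℕ) rb1888 rb1889 (Nat.ble (nat_lit 1889) i)) (@Bool.rec (fun _ => ℕ) rb1890 rb1891 (Nat.ble (nat_lit 1891) i)) (Nat.ble (nat_lit 1890) i)) (@Bool.rec (fun _ => ℕ) (@Bool.rec (fun _ => ℕ) rb1892 rb1893 (Nat.ble (nat_lit 1893) i)) (@Bool.rec (fun _ => ℕ) rb1894 rb1895 (Nat.ble (nat_lit 1895) i)) (Nat.ble (nat_lit 1894) i)) (Nat.ble (nat_lit 1892) i)) (@Bool.rec (fun _ => ℕ) (@Bool.rec (fun _ => ℕ) (@Bool.rec (fun _ => ℕ) rb1896 rb1897 (Nat.ble (nat_lit 1897) i)) (@Bool.rec (fun _ => ℕ) rb1898 rb1899 (Nat.ble (nat_lit 1899) i)) (Nat.ble (nat_lit 1898) i)) (@Bool.rec (fun _ => ℕ) (@Bool.rec (fun _ => ℕ) rb1900 rb1901 (Nat.ble (nat_lit 1901) i)) (@Bool.rec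 (fun _ => ℕ) rb1902 rb1903 (Nat.ble (nat_lit 1903) i)) (Nat.ble (nat_lit 1902) i)) (Nat.ble (nat_lit 1900) i)) (Nat.ble (nat_lit 1896) i)) (@Bool.rec (fun _ => ℕ) (@Bool.rec (fun _ => ℕ) (@Bool.rec (fun _ => ℕ) (@Bool.rec (fun _ => ℕ) rb1904 rb1905 (Nat.ble (nat_lit 1905) i)) (@Bool.rec (fun _ => ℕ) rb1906 rb1907 (Nat.ble (nat_lit 1907) i)) (Nat.ble (nat_lit 1906) i)) (@Bool.rec (fun _ => ℕ) (@Bool.rec (fun _ => ℕ) rb1908 rb1909 (Nat.ble (nat_lit 1909) i)) (@Bool.rec (fun _ => ℕ) rb1910 rb1911 (Nat.ble (nat_lit 1911) i)) (Nat.ble (nat_lit 1910) i)) (Nat.ble (nat_lit 1908) i)) (@Bool.rec (fun _ => ℕ) (@Bool.rec (fun _ => ℕ) (@Bool.rec (fun _ => ℕ) rb1912 rb1913 (Nat.ble (nat_lit 1913) i)) (@Bool.rec (fun _ => ℕ) rb1914 rb1915 (Nat.ble (nat_lit 1915) i)) (Nat.ble (nat_lit 1914) i)) (@Bool.rec (fun _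 => ℕ) (@Bool.rec (fun _ => ℕ) rb1916 rb1917 (Nat.ble (nat_lit 1917) i)) (@Bool.rec (fun _ => ℕ) rb1918 rb1919 (Nat.ble (nat_lit 1919) i)) (Nat.ble (nat_lit 1918) i)) (Nat.ble (nat_lit 1916) i)) (Nat.ble (nat_lit 1912) i)) (Nat.ble (nat_lit 1904) i))

def rowBlk_n0_60 (i : ℕ) : ℕ := (@Bool.rec (fun _ => ℕ) (@Bool.rec (fun _ => ℕ) (@Bool.rec (fun _ => ℕ) (@Bool.rec (fun _ => ℕ) (@Bool.rec (fun _ => ℕ) rb1920 rb1921 (Nat.ble (nat_lit 1921) i)) (@Bool.rec (fun _ => ℕ) rb1922 rb1923 (Nat.ble (nat_lit 1923) i)) (Nat.ble (nat_lit 1922) i)) (@Bool.rec (fun _ => ℕ) (@Bool.rec (fun _ => ℕ) rb1924 rb1925 (Nat.ble (nat_lit 1925) i)) (@Bool.rec (fun _ => ℕ) rb1926 rb1927 (Nat.ble (nat_lit 1927) i)) (Nat.ble (nat_lit 1926) i)) (Nat.ble (nat_lit 1924) i)) (@Bool.rec (fun _ => ℕ) (@Bool.rec (fun _ => ℕ) (@Bool.rec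 (fun _ => ℕ) rb1928 rb1929 (Nat.ble (nat_lit 1929) i)) (@Bool.rec (fun _ => ℕ) rb1930 rb1931 (Nat.ble (nat_lit 1931) i)) (Nat.ble (nat_lit 1930) i)) (@Bool.rec (fun _ => ℕ) (@Bool.rec (fun _ => ℕ) rb1932 rb1933 (Nat.ble (nat_lit 1933) i)) (@Bool.rec (fun _ => ℕ) rb1934 rb1935 (Nat.ble (nat_lit 1935) i)) (Nat.ble (nat_lit 1934) i)) (Nat.ble (nat_lit 1932) i)) (Nat.ble (nat_lit 1928) i)) (@Bool.rec (fun _ => ℕ) (@Bool.rec (fun _ => ℕ) (@Bool.rec (fun _ => ℕ) (@Bool.rec (fun _ => ℕ) rb1936 rb1937 (Nat.ble (nat_lit 1937) i)) (@Bool.rec (fun _ => ℕ) rb1938 rb1939 (Nat.ble (nat_lit 1939) i)) (Nat.ble (nat_lit 1938) i)) (@Bool.rec (fun _ => ℕ) (@Bool.rec (fun _ => ℕ) rb1940 rb1941 (Nat.ble (nat_lit 1941) i)) (@Bool.rec (fun _ => ℕ) rb1942 rb1943 (Nat.ble (nat_lit 1943) i)) (Nat.ble (nat_lit 1942) i)) (Nat.ble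 (nat_lit 1940) i)) (@Bool.rec (fun _ => ℕ) (@Bool.rec (fun _ => ℕ) (@Bool.rec (fun _ => ℕ) rb1944 rb1945 (Nat.ble (nat_lit 1945) i)) (@Bool.rec (fun _ => ℕ) rb1946 rb1947 (Nat.ble (nat_lit 1947) i)) (Nat.ble (nat_lit 1946) i)) (@Bool.rec (fun _ => ℕ) (@Bool.rec (fun _ => ℕ) rb1948 rb1949 (Nat.ble (nat_lit 1949) i)) (@Bool.rec (fun _ => ℕ) rb1950 rb1951 (Nat.ble (nat_lit 1951) i)) (Nat.ble (nat_lit 1950) i)) (Nat.ble (nat_lit 1948) i)) (Nat.ble (nat_lit 1944) i)) (Nat.ble (nat_lit 1936) i))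

def rowBlk_n0_61 (i : ℕ) : ℕ := (@Bool.rec (fun _ => ℕ) (@Bool.rec (fun _ => ℕ) (@Bool.rec (fun _ => ℕ) (@Bool.rec (fun _ => ℕ) (@Bool.rec (fun _ => ℕ) rb1952 rb1953 (Nat.ble (nat_lit 1953) i)) (@Bool.rec (fun _ => ℕ) rb1954 rb1955 (Nat.ble (nat_lit 1955) i)) (Nat.ble (nat_lit 1954) i)) (@Bool.rec (fun _ => ℕ) (@Bool.rec (fun _ => ℕ) rb1956 rb1957 (Nat.ble (nat_lit 1957) i)) (@Bool.rec (fun _ => ℕ) rb1958 rb1959 (Nat.ble (nat_lit 1959) i)) (Nat.ble (nat_lit 1958) i)) (Nat.ble (nat_lit 1956) i)) (@Bool.rec (fun _ => ℕ) (@Bool.rec (fun _ => ℕ) (@Bool.rec (fun _ => ℕ) rb1960 rb1961 (Nat.ble (nat_lit 1961) i)) (@Bool.rec (fun _ => ℕ) rb1962 rb1963 (Nat.ble (nat_lit 1963) i)) (Nat.ble (nat_lit 1962) i)) (@Bool.rec (fun _ => ℕ) (@Bool.rec (fun _ => ℕ) rb1964 rb1965 (Nat.ble (nat_lit 1965) i)) (@Bool.rec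 (fun _ => ℕ) rb1966 rb1967 (Nat.ble (nat_lit 1967) i)) (Nat.ble (nat_lit 1966) i)) (Nat.ble (nat_lit 1964) i)) (Nat.ble (nat_lit 1960) i)) (@Bool.rec (fun _ => ℕ) (@Bool.rec (fun _ => ℕ) (@Bool.rec (fun _ => ℕ) (@Bool.rec (fun _ => ℕ) rb1968 rb1969 (Nat.ble (nat_lit 1969) i)) (@Bool.rec (fun _ => ℕ) rb1970 rb1971 (Nat.ble (nat_lit 1971) i)) (Nat.ble (nat_lit 1970) i)) (@Bool.rec (fun _ => ℕ) (@Bool.rec (fun _ => ℕ) rb1972 rb1973 (Nat.ble (nat_lit 1973) i)) (@Bool.rec (fun _ => ℕ) rb1974 rb1975 (Nat.ble (nat_lit 1975) i)) (Nat.ble (nat_lit 1974) i)) (Nat.ble (nat_lit 1972) i)) (@Bool.rec (fun _ => ℕ) (@Bool.rec (fun _ => ℕ) (@Bool.rec (fun _ => ℕ) rb1976 rb1977 (Nat.ble (nat_lit 1977) i)) (@Bool.rec (fun _ => ℕ) rb1978 rb1979 (Nat.ble (nat_lit 1979) i)) (Nat.ble (nat_lit 1978) i)) (@Bool.rec (fun _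 => ℕ) (@Bool.rec (fun _ => ℕ) rb1980 rb1981 (Nat.ble (nat_lit 1981) i)) (@Bool.rec (fun _ => ℕ) rb1982 rb1983 (Nat.ble (nat_lit 1983) i)) (Nat.ble (nat_lit 1982) i)) (Nat.ble (nat_lit 1980) i)) (Nat.ble (nat_lit 1976) i)) (Nat.ble (nat_lit 1968) i))

def rowBlk_n0_62 (i : ℕ) : ℕ := (@Bool.rec (fun _ => ℕ) (@Bool.rec (fun _ => ℕ) (@Bool.rec (fun _ => ℕ) (@Bool.rec (fun _ => ℕ) (@Bool.rec (fun _ => ℕ) rb1984 rb1985 (Nat.ble (nat_lit 1985) i)) (@Bool.rec (fun _ => ℕ) rb1986 rb1987 (Nat.ble (nat_lit 1987) i)) (Nat.ble (nat_lit 1986) i)) (@Bool.rec (fun _ => ℕ) (@Bool.rec (fun _ => ℕ) rb1988 rb1989 (Nat.ble (nat_lit 1989) i)) (@Bool.rec (fun _ => ℕ) rb1990 rb1991 (Nat.ble (nat_lit 1991) i)) (Nat.ble (nat_lit 1990) i)) (Nat.ble (nat_lit 1988) i)) (@Bool.rec (fun _ => ℕ) (@Bool.rec (fun _ => ℕ) (@Bool.rec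 (fun _ => ℕ) rb1992 rb1993 (Nat.ble (nat_lit 1993) i)) (@Bool.rec (fun _ => ℕ) rb1994 rb1995 (Nat.ble (nat_lit 1995) i)) (Nat.ble (nat_lit 1994) i)) (@Bool.rec (fun _ => ℕ) (@Bool.rec (fun _ => ℕ) rb1996 rb1997 (Nat.ble (nat_lit 1997) i)) (@Bool.rec (fun _ => ℕ) rb1998 rb1999 (Nat.ble (nat_lit 1999) i)) (Nat.ble (nat_lit 1998) i)) (Nat.ble (nat_lit 1996) i)) (Nat.ble (nat_lit 1992) i)) (@Bool.rec (fun _ => ℕ) (@Bool.rec (fun _ => ℕ) (@Bool.rec (fun _ => ℕ) (@Bool.rec (fun _ => ℕ) rb2000 rb2001 (Nat.ble (nat_lit 2001) i)) (@Bool.rec (fun _ => ℕ) rb2002 rb2003 (Nat.ble (nat_lit 2003) i)) (Nat.ble (nat_lit 2002) i)) (@Bool.rec (fun _ => ℕ) (@Bool.rec (fun _ => ℕ) rb2004 rb2005 (Nat.ble (nat_lit 2005) i)) (@Bool.rec (fun _ => ℕ) rb2006 rb2007 (Nat.ble (nat_lit 2007) i)) (Nat.ble (nat_lit 2006) i)) (Nat.ble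 (nat_lit 2004) i)) (@Bool.rec (fun _ => ℕ) (@Bool.rec (fun _ => ℕ) (@Bool.rec (fun _ => ℕ) rb2008 rb2009 (Nat.ble (nat_lit 2009) i)) (@Bool.rec (fun _ => ℕ) rb2010 rb2011 (Nat.ble (nat_lit 2011) i)) (Nat.ble (nat_lit 2010) i)) (@Bool.rec (fun _ => ℕ) (@Bool.rec (fun _ => ℕ) rb2012 rb2013 (Nat.ble (nat_lit 2013) i)) (@Bool.rec (fun _ => ℕ) rb2014 rb2015 (Nat.ble (nat_lit 2015) i)) (Nat.ble (nat_lit 2014) i)) (Nat.ble (nat_lit 2012) i)) (Nat.ble (nat_lit 2008) i)) (Nat.ble (nat_lit 2000) i))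

def rowBlk_n0_63 (i : ℕ) : ℕ := (@Bool.rec (fun _ => ℕ) (@Bool.rec (fun _ => ℕ) (@Bool.rec (fun _ => ℕ) (@Bool.rec (fun _ => ℕ) (@Bool.rec (fun _ => ℕ) rb2016 rb2017 (Nat.ble (nat_lit 2017) i)) (@Bool.rec (fun _ => ℕ) rb2018 rb2019 (Nat.ble (nat_lit 2019) i)) (Nat.ble (nat_lit 2018) i)) (@Bool.rec (fun _ => ℕ) (@Bool.rec (fun _ => ℕ) rb2020 rb2021 (Nat.ble (nat_lit 2021) i)) (@Bool.rec (fun _ => ℕ) rb2022 rb2023 (Nat.ble (nat_lit 2023) i)) (Nat.ble (nat_lit 2022) i)) (Nat.ble (nat_lit 2020) i)) (@Bool.rec (fun _ => ℕ) (@Bool.rec (fun _ => ℕ) (@Bool.rec (fun _ => ℕ) rb2024 rb2025 (Nat.ble (nat_lit 2025) i)) (@Bool.rec (fun _ => ℕ) rb2026 rb2027 (Nat.ble (nat_lit 2027) i)) (Nat.ble (nat_lit 2026) i)) (@Bool.rec (fun _ => ℕ) (@Bool.rec (fun _ => ℕ) rb2028 rb2029 (Nat.ble (nat_lit 2029) i)) (@Bool.rec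 (fun _ => ℕ) rb2030 rb2031 (Nat.ble (nat_lit 2031) i)) (Nat.ble (nat_lit 2030) i)) (Nat.ble (nat_lit 2028) i)) (Nat.ble (nat_lit 2024) i)) (@Bool.rec (fun _ => ℕ) (@Bool.rec (fun _ => ℕ) (@Bool.rec (fun _ => ℕ) (@Bool.rec (fun _ => ℕ) rb2032 rb2033 (Nat.ble (nat_lit 2033) i)) (@Bool.rec (fun _ => ℕ) rb2034 rb2035 (Nat.ble (nat_lit 2035) i)) (Nat.ble (nat_lit 2034) i)) (@Bool.rec (fun _ => ℕ) (@Bool.rec (fun _ => ℕ) rb2036 rb2037 (Nat.ble (nat_lit 2037) i)) (@Bool.rec (fun _ => ℕ) rb2038 rb2039 (Nat.ble (nat_lit 2039) i)) (Nat.ble (nat_lit 2038) i)) (Nat.ble (nat_lit 2036) i)) (@Bool.rec (fun _ => ℕ) (@Bool.rec (fun _ => ℕ) (@Bool.rec (fun _ => ℕ) rb2040 rb2041 (Nat.ble (nat_lit 2041) i)) (@Bool.rec (fun _ => ℕ) rb2042 rb2043 (Nat.ble (nat_lit 2043) i)) (Nat.ble (nat_lit 2042) i)) (@Bool.rec (fun _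 => ℕ) (@Bool.rec (fun _ => ℕ) rb2044 rb2045 (Nat.ble (nat_lit 2045) i)) (@Bool.rec (fun _ => ℕ) rb2046 rb2047 (Nat.ble (nat_lit 2047) i)) (Nat.ble (nat_lit 2046) i)) (Nat.ble (nat_lit 2044) i)) (Nat.ble (nat_lit 2040) i)) (Nat.ble (nat_lit 2032) i))

def rowBlk_n0_64 (i : ℕ) : ℕ := (@Bool.rec (fun _ => ℕ) (@Bool.rec (fun _ => ℕ) (@Bool.rec (fun _ => ℕ) (@Bool.rec (fun _ => ℕ) (@Bool.rec (fun _ => ℕ) rb2048 rb2049 (Nat.ble (nat_lit 2049) i)) (@Bool.rec (fun _ => ℕ) rb2050 rb2051 (Nat.ble (nat_lit 2051) i)) (Nat.ble (nat_lit 2050) i)) (@Bool.rec (fun _ => ℕ) (@Bool.rec (fun _ => ℕ) rb2052 rb2053 (Nat.ble (nat_lit 2053) i)) (@Bool.rec (fun _ => ℕ) rb2054 rb2055 (Nat.ble (nat_lit 2055) i)) (Nat.ble (nat_lit 2054) i)) (Nat.ble (nat_lit 2052) i)) (@Bool.rec (fun _ => ℕ) (@Bool.rec (fun _ => ℕ) (@Bool.rec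 (fun _ => ℕ) rb2056 rb2057 (Nat.ble (nat_lit 2057) i)) (@Bool.rec (fun _ => ℕ) rb2058 rb2059 (Nat.ble (nat_lit 2059) i)) (Nat.ble (nat_lit 2058) i)) (@Bool.rec (fun _ => ℕ) (@Bool.rec (fun _ => ℕ) rb2060 rb2061 (Nat.ble (nat_lit 2061) i)) (@Bool.rec (fun _ => ℕ) rb2062 rb2063 (Nat.ble (nat_lit 2063) i)) (Nat.ble (nat_lit 2062) i)) (Nat.ble (nat_lit 2060) i)) (Nat.ble (nat_lit 2056) i)) (@Bool.rec (fun _ => ℕ) (@Bool.rec (fun _ => ℕ) (@Bool.rec (fun _ => ℕ) (@Bool.rec (fun _ => ℕ) rb2064 rb2065 (Nat.ble (nat_lit 2065) i)) (@Bool.rec (fun _ => ℕ) rb2066 rb2067 (Nat.ble (nat_lit 2067) i)) (Nat.ble (nat_lit 2066) i)) (@Bool.rec (fun _ => ℕ) (@Bool.rec (fun _ => ℕ) rb2068 rb2069 (Nat.ble (nat_lit 2069) i)) (@Bool.rec (fun _ => ℕ) rb2070 rb2071 (Nat.ble (nat_lit 2071) i)) (Nat.ble (nat_lit 2070) i)) (Nat.ble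 (nat_lit 2068) i)) (@Bool.rec (fun _ => ℕ) (@Bool.rec (fun _ => ℕ) (@Bool.rec (fun _ => ℕ) rb2072 rb2073 (Nat.ble (nat_lit 2073) i)) (@Bool.rec (fun _ => ℕ) rb2074 rb2075 (Nat.ble (nat_lit 2075) i)) (Nat.ble (nat_lit 2074) i)) (@Bool.rec (fun _ => ℕ) (@Bool.rec (fun _ => ℕ) rb2076 rb2077 (Nat.ble (nat_lit 2077) i)) (@Bool.rec (fun _ => ℕ) rb2078 rb2079 (Nat.ble (nat_lit 2079) i)) (Nat.ble (nat_lit 2078) i)) (Nat.ble (nat_lit 2076) i)) (Nat.ble (nat_lit 2072) i)) (Nat.ble (nat_lit 2064) i))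

def rowBlk_n0_65 (i : ℕ) : ℕ := (@Bool.rec (fun _ => ℕ) (@Bool.rec (fun _ => ℕ) (@Bool.rec (fun _ => ℕ) (@Bool.rec (fun _ => ℕ) (@Bool.rec (fun _ => ℕ) rb2080 rb2081 (Nat.ble (nat_lit 2081) i)) (@Bool.rec (fun _ => ℕ) rb2082 rb2083 (Nat.ble (nat_lit 2083) i)) (Nat.ble (nat_lit 2082) i)) (@Bool.rec (fun _ => ℕ) (@Bool.rec (fun _ => ℕ) rb2084 rb2085 (Nat.ble (nat_lit 2085) i)) (@Bool.rec (fun _ => ℕ) rb2086 rb2087 (Nat.ble (nat_lit 2087) i)) (Nat.ble (nat_lit 2086) i)) (Nat.ble (nat_lit 2084) i)) (@Bool.rec (fun _ => ℕ) (@Bool.rec (fun _ => ℕ) (@Bool.rec (fun _ => ℕ) rb2088 rb2089 (Nat.ble (nat_lit 2089) i)) (@Bool.rec (fun _ => ℕ) rb2090 rb2091 (Nat.ble (nat_lit 2091) i)) (Nat.ble (nat_lit 2090) i)) (@Bool.rec (fun _ => ℕ) (@Bool.rec (fun _ => ℕ) rb2092 rb2093 (Nat.ble (nat_lit 2093) i)) (@Bool.rec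 (fun _ => ℕ) rb2094 rb2095 (Nat.ble (nat_lit 2095) i)) (Nat.ble (nat_lit 2094) i)) (Nat.ble (nat_lit 2092) i)) (Nat.ble (nat_lit 2088) i)) (@Bool.rec (fun _ => ℕ) (@Bool.rec (fun _ => ℕ) (@Bool.rec (fun _ => ℕ) (@Bool.rec (fun _ => ℕ) rb2096 rb2097 (Nat.ble (nat_lit 2097) i)) (@Bool.rec (fun _ => ℕ) rb2098 rb2099 (Nat.ble (nat_lit 2099) i)) (Nat.ble (nat_lit 2098) i)) (@Bool.rec (fun _ => ℕ) (@Bool.rec (fun _ => ℕ) rb2100 rb2101 (Nat.ble (nat_lit 2101) i)) (@Bool.rec (fun _ => ℕ) rb2102 rb2103 (Nat.ble (nat_lit 2103) i)) (Nat.ble (nat_lit 2102) i)) (Nat.ble (nat_lit 2100) i)) (@Bool.rec (fun _ => ℕ) (@Bool.rec (fun _ => ℕ) (@Bool.rec (fun _ => ℕ) rb2104 rb2105 (Nat.ble (nat_lit 2105) i)) (@Bool.rec (fun _ => ℕ) rb2106 rb2107 (Nat.ble (nat_lit 2107) i)) (Nat.ble (nat_lit 2106) i)) (@Bool.rec (fun _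 => ℕ) (@Bool.rec (fun _ => ℕ) rb2108 rb2109 (Nat.ble (nat_lit 2109) i)) (@Bool.rec (fun _ => ℕ) rb2110 rb2111 (Nat.ble (nat_lit 2111) i)) (Nat.ble (nat_lit 2110) i)) (Nat.ble (nat_lit 2108) i)) (Nat.ble (nat_lit 2104) i)) (Nat.ble (nat_lit 2096) i))

def rowBlk_n0_66 (i : ℕ) : ℕ := (@Bool.rec (fun _ => ℕ) (@Bool.rec (fun _ => ℕ) (@Bool.rec (fun _ => ℕ) (@Bool.rec (fun _ => ℕ) (@Bool.rec (fun _ => ℕ) rb2112 rb2113 (Nat.ble (nat_lit 2113) i)) (@Bool.rec (fun _ => ℕ) rb2114 rb2115 (Nat.ble (nat_lit 2115) i)) (Nat.ble (nat_lit 2114) i)) (@Bool.rec (fun _ => ℕ) (@Bool.rec (fun _ => ℕ) rb2116 rb2117 (Nat.ble (nat_lit 2117) i)) (@Bool.rec (fun _ => ℕ) rb2118 rb2119 (Nat.ble (nat_lit 2119) i)) (Nat.ble (nat_lit 2118) i)) (Nat.ble (nat_lit 2116) i)) (@Bool.rec (fun _ => ℕ) (@Bool.rec (fun _ => ℕ) (@Bool.rec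 (fun _ => ℕ) rb2120 rb2121 (Nat.ble (nat_lit 2121) i)) (@Bool.rec (fun _ => ℕ) rb2122 rb2123 (Nat.ble (nat_lit 2123) i)) (Nat.ble (nat_lit 2122) i)) (@Bool.rec (fun _ => ℕ) (@Bool.rec (fun _ => ℕ) rb2124 rb2125 (Nat.ble (nat_lit 2125) i)) (@Bool.rec (fun _ => ℕ) rb2126 rb2127 (Nat.ble (nat_lit 2127) i)) (Nat.ble (nat_lit 2126) i)) (Nat.ble (nat_lit 2124) i)) (Nat.ble (nat_lit 2120) i)) (@Bool.rec (fun _ => ℕ) (@Bool.rec (fun _ => ℕ) (@Bool.rec (fun _ => ℕ) (@Bool.rec (fun _ => ℕ) rb2128 rb2129 (Nat.ble (nat_lit 2129) i)) (@Bool.rec (fun _ => ℕ) rb2130 rb2131 (Nat.ble (nat_lit 2131) i)) (Nat.ble (nat_lit 2130) i)) (@Bool.rec (fun _ => ℕ) (@Bool.rec (fun _ => ℕ) rb2132 rb2133 (Nat.ble (nat_lit 2133) i)) (@Bool.rec (fun _ => ℕ) rb2134 rb2135 (Nat.ble (nat_lit 2135) i)) (Nat.ble (nat_lit 2134) i)) (Nat.ble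 (nat_lit 2132) i)) (@Bool.rec (fun _ => ℕ) (@Bool.rec (fun _ => ℕ) (@Bool.rec (fun _ => ℕ) rb2136 rb2137 (Nat.ble (nat_lit 2137) i)) (@Bool.rec (fun _ => ℕ) rb2138 rb2139 (Nat.ble (nat_lit 2139) i)) (Nat.ble (nat_lit 2138) i)) (@Bool.rec (fun _ => ℕ) (@Bool.rec (fun _ => ℕ) rb2140 rb2141 (Nat.ble (nat_lit 2141) i)) (@Bool.rec (fun _ => ℕ) rb2142 rb2143 (Nat.ble (nat_lit 2143) i)) (Nat.ble (nat_lit 2142) i)) (Nat.ble (nat_lit 2140) i)) (Nat.ble (nat_lit 2136) i)) (Nat.ble (nat_lit 2128) i))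

def rowBlk_n0_67 (i : ℕ) : ℕ := (@Bool.rec (fun _ => ℕ) (@Bool.rec (fun _ => ℕ) (@Bool.rec (fun _ => ℕ) (@Bool.rec (fun _ => ℕ) (@Bool.rec (fun _ => ℕ) rb2144 rb2145 (Nat.ble (nat_lit 2145) i)) (@Bool.rec (fun _ => ℕ) rb2146 rb2147 (Nat.ble (nat_lit 2147) i)) (Nat.ble (nat_lit 2146) i)) (@Bool.rec (fun _ => ℕ) (@Bool.rec (fun _ => ℕ) rb2148 rb2149 (Nat.ble (nat_lit 2149) i)) (@Bool.rec (fun _ => ℕ) rb2150 rb2151 (Nat.ble (nat_lit 2151) i)) (Nat.ble (nat_lit 2150) i)) (Nat.ble (nat_lit 2148) i)) (@Bool.rec (fun _ => ℕ) (@Bool.rec (fun _ => ℕ) (@Bool.rec (fun _ => ℕ) rb2152 rb2153 (Nat.ble (nat_lit 2153) i)) (@Bool.rec (fun _ => ℕ) rb2154 rb2155 (Nat.ble (nat_lit 2155) i)) (Nat.ble (nat_lit 2154) i)) (@Bool.rec (fun _ => ℕ) (@Bool.rec (fun _ => ℕ) rb2156 rb2157 (Nat.ble (nat_lit 2157) i)) (@Bool.rec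 (fun _ => ℕ) rb2158 rb2159 (Nat.ble (nat_lit 2159) i)) (Nat.ble (nat_lit 2158) i)) (Nat.ble (nat_lit 2156) i)) (Nat.ble (nat_lit 2152) i)) (@Bool.rec (fun _ => ℕ) (@Bool.rec (fun _ => ℕ) (@Bool.rec (fun _ => ℕ) (@Bool.rec (fun _ => ℕ) rb2160 rb2161 (Nat.ble (nat_lit 2161) i)) (@Bool.rec (fun _ => ℕ) rb2162 rb2163 (Nat.ble (nat_lit 2163) i)) (Nat.ble (nat_lit 2162) i)) (@Bool.rec (fun _ => ℕ) (@Bool.rec (fun _ => ℕ) rb2164 rb2165 (Nat.ble (nat_lit 2165) i)) (@Bool.rec (fun _ => ℕ) rb2166 rb2167 (Nat.ble (nat_lit 2167) i)) (Nat.ble (nat_lit 2166) i)) (Nat.ble (nat_lit 2164) i)) (@Bool.rec (fun _ => ℕ) (@Bool.rec (fun _ => ℕ) (@Bool.rec (fun _ => ℕ) rb2168 rb2169 (Nat.ble (nat_lit 2169) i)) (@Bool.rec (fun _ => ℕ) rb2170 rb2171 (Nat.ble (nat_lit 2171) i)) (Nat.ble (nat_lit 2170) i)) (@Bool.rec (fun _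 => ℕ) (@Bool.rec (fun _ => ℕ) rb2172 rb2173 (Nat.ble (nat_lit 2173) i)) (@Bool.rec (fun _ => ℕ) rb2174 rb2175 (Nat.ble (nat_lit 2175) i)) (Nat.ble (nat_lit 2174) i)) (Nat.ble (nat_lit 2172) i)) (Nat.ble (nat_lit 2168) i)) (Nat.ble (nat_lit 2160) i))

def rowBlk_n0_68 (i : ℕ) : ℕ := (@Bool.rec (fun _ => ℕ) (@Bool.rec (fun _ => ℕ) (@Bool.rec (fun _ => ℕ) (@Bool.rec (fun _ => ℕ) (@Bool.rec (fun _ => ℕ) rb2176 rb2177 (Nat.ble (nat_lit 2177) i)) (@Bool.rec (fun _ => ℕ) rb2178 rb2179 (Nat.ble (nat_lit 2179) i)) (Nat.ble (nat_lit 2178) i)) (@Bool.rec (fun _ => ℕ) (@Bool.rec (fun _ => ℕ) rb2180 rb2181 (Nat.ble (nat_lit 2181) i)) (@Bool.rec (fun _ => ℕ) rb2182 rb2183 (Nat.ble (nat_lit 2183) i)) (Nat.ble (nat_lit 2182) i)) (Nat.ble (nat_lit 2180) i)) (@Bool.rec (fun _ => ℕ) (@Bool.rec (fun _ => ℕ) (@Bool.rec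 (fun _ => ℕ) rb2184 rb2185 (Nat.ble (nat_lit 2185) i)) (@Bool.rec (fun _ => ℕ) rb2186 rb2187 (Nat.ble (nat_lit 2187) i)) (Nat.ble (nat_lit 2186) i)) (@Bool.rec (fun _ => ℕ) (@Bool.rec (fun _ => ℕ) rb2188 rb2189 (Nat.ble (nat_lit 2189) i)) (@Bool.rec (fun _ => ℕ) rb2190 rb2191 (Nat.ble (nat_lit 2191) i)) (Nat.ble (nat_lit 2190) i)) (Nat.ble (nat_lit 2188) i)) (Nat.ble (nat_lit 2184) i)) (@Bool.rec (fun _ => ℕ) (@Bool.rec (fun _ => ℕ) (@Bool.rec (fun _ => ℕ) (@Bool.rec (fun _ => ℕ) rb2192 rb2193 (Nat.ble (nat_lit 2193) i)) (@Bool.rec (fun _ => ℕ) rb2194 rb2195 (Nat.ble (nat_lit 2195) i)) (Nat.ble (nat_lit 2194) i)) (@Bool.rec (fun _ => ℕ) (@Bool.rec (fun _ => ℕ) rb2196 rb2197 (Nat.ble (nat_lit 2197) i)) (@Bool.rec (fun _ => ℕ) rb2198 rb2199 (Nat.ble (nat_lit 2199) i)) (Nat.ble (nat_lit 2198) i)) (Nat.ble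 (nat_lit 2196) i)) (@Bool.rec (fun _ => ℕ) (@Bool.rec (fun _ => ℕ) (@Bool.rec (fun _ => ℕ) rb2200 rb2201 (Nat.ble (nat_lit 2201) i)) (@Bool.rec (fun _ => ℕ) rb2202 rb2203 (Nat.ble (nat_lit 2203) i)) (Nat.ble (nat_lit 2202) i)) (@Bool.rec (fun _ => ℕ) (@Bool.rec (fun _ => ℕ) rb2204 rb2205 (Nat.ble (nat_lit 2205) i)) (@Bool.rec (fun _ => ℕ) rb2206 rb2207 (Nat.ble (nat_lit 2207) i)) (Nat.ble (nat_lit 2206) i)) (Nat.ble (nat_lit 2204) i)) (Nat.ble (nat_lit 2200) i)) (Nat.ble (nat_lit 2192) i))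

def rowBlk_n0_69 (i : ℕ) : ℕ := (@Bool.rec (fun _ => ℕ) (@Bool.rec (fun _ => ℕ) (@Bool.rec (fun _ => ℕ) (@Bool.rec (fun _ => ℕ) (@Bool.rec (fun _ => ℕ) rb2208 rb2209 (Nat.ble (nat_lit 2209) i)) (@Bool.rec (fun _ => ℕ) rb2210 rb2211 (Nat.ble (nat_lit 2211) i)) (Nat.ble (nat_lit 2210) i)) (@Bool.rec (fun _ => ℕ) (@Bool.rec (fun _ => ℕ) rb2212 rb2213 (Nat.ble (nat_lit 2213) i)) (@Bool.rec (fun _ => ℕ) rb2214 rb2215 (Nat.ble (nat_lit 2215) i)) (Nat.ble (nat_lit 2214) i)) (Nat.ble (nat_lit 2212) i)) (@Bool.rec (fun _ => ℕ) (@Bool.rec (fun _ => ℕ) (@Bool.rec (fun _ => ℕ) rb2216 rb2217 (Nat.ble (nat_lit 2217) i)) (@Bool.rec (fun _ => ℕ) rb2218 rb2219 (Nat.ble (nat_lit 2219) i)) (Nat.ble (nat_lit 2218) i)) (@Bool.rec (fun _ => ℕ) (@Bool.rec (fun _ => ℕ) rb2220 rb2221 (Nat.ble (nat_lit 2221) i)) (@Bool.rec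 (fun _ => ℕ) rb2222 rb2223 (Nat.ble (nat_lit 2223) i)) (Nat.ble (nat_lit 2222) i)) (Nat.ble (nat_lit 2220) i)) (Nat.ble (nat_lit 2216) i)) (@Bool.rec (fun _ => ℕ) (@Bool.rec (fun _ => ℕ) (@Bool.rec (fun _ => ℕ) (@Bool.rec (fun _ => ℕ) rb2224 rb2225 (Nat.ble (nat_lit 2225) i)) (@Bool.rec (fun _ => ℕ) rb2226 rb2227 (Nat.ble (nat_lit 2227) i)) (Nat.ble (nat_lit 2226) i)) (@Bool.rec (fun _ => ℕ) (@Bool.rec (fun _ => ℕ) rb2228 rb2229 (Nat.ble (nat_lit 2229) i)) (@Bool.rec (fun _ => ℕ) rb2230 rb2231 (Nat.ble (nat_lit 2231) i)) (Nat.ble (nat_lit 2230) i)) (Nat.ble (nat_lit 2228) i)) (@Bool.rec (fun _ => ℕ) (@Bool.rec (fun _ => ℕ) (@Bool.rec (fun _ => ℕ) rb2232 rb2233 (Nat.ble (nat_lit 2233) i)) (@Bool.rec (fun _ => ℕ) rb2234 rb2235 (Nat.ble (nat_lit 2235) i)) (Nat.ble (nat_lit 2234) i)) (@Bool.rec (fun _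 => ℕ) (@Bool.rec (fun _ => ℕ) rb2236 rb2237 (Nat.ble (nat_lit 2237) i)) (@Bool.rec (fun _ => ℕ) rb2238 rb2239 (Nat.ble (nat_lit 2239) i)) (Nat.ble (nat_lit 2238) i)) (Nat.ble (nat_lit 2236) i)) (Nat.ble (nat_lit 2232) i)) (Nat.ble (nat_lit 2224) i))

def rowBlk_n0_70 (i : ℕ) : ℕ := (@Bool.rec (fun _ => ℕ) (@Bool.rec (fun _ => ℕ) (@Bool.rec (fun _ => ℕ) (@Bool.rec (fun _ => ℕ) (@Bool.rec (fun _ => ℕ) rb2240 rb2241 (Nat.ble (nat_lit 2241) i)) (@Bool.rec (fun _ => ℕ) rb2242 rb2243 (Nat.ble (nat_lit 2243) i)) (Nat.ble (nat_lit 2242) i)) (@Bool.rec (fun _ => ℕ) (@Bool.rec (fun _ => ℕ) rb2244 rb2245 (Nat.ble (nat_lit 2245) i)) (@Bool.rec (fun _ => ℕ) rb2246 rb2247 (Nat.ble (nat_lit 2247) i)) (Nat.ble (nat_lit 2246) i)) (Nat.ble (nat_lit 2244) i)) (@Bool.rec (fun _ => ℕ) (@Bool.rec (fun _ => ℕ) (@Bool.rec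 (fun _ => ℕ) rb2248 rb2249 (Nat.ble (nat_lit 2249) i)) (@Bool.rec (fun _ => ℕ) rb2250 rb2251 (Nat.ble (nat_lit 2251) i)) (Nat.ble (nat_lit 2250) i)) (@Bool.rec (fun _ => ℕ) (@Bool.rec (fun _ => ℕ) rb2252 rb2253 (Nat.ble (nat_lit 2253) i)) (@Bool.rec (fun _ => ℕ) rb2254 rb2255 (Nat.ble (nat_lit 2255) i)) (Nat.ble (nat_lit 2254) i)) (Nat.ble (nat_lit 2252) i)) (Nat.ble (nat_lit 2248) i)) (@Bool.rec (fun _ => ℕ) (@Bool.rec (fun _ => ℕ) (@Bool.rec (fun _ => ℕ) (@Bool.rec (fun _ => ℕ) rb2256 rb2257 (Nat.ble (nat_lit 2257) i)) (@Bool.rec (fun _ => ℕ) rb2258 rb2259 (Nat.ble (nat_lit 2259) i)) (Nat.ble (nat_lit 2258) i)) (@Bool.rec (fun _ => ℕ) (@Bool.rec (fun _ => ℕ) rb2260 rb2261 (Nat.ble (nat_lit 2261) i)) (@Bool.rec (fun _ => ℕ) rb2262 rb2263 (Nat.ble (nat_lit 2263) i)) (Nat.ble (nat_lit 2262) i)) (Nat.ble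 (nat_lit 2260) i)) (@Bool.rec (fun _ => ℕ) (@Bool.rec (fun _ => ℕ) (@Bool.rec (fun _ => ℕ) rb2264 rb2265 (Nat.ble (nat_lit 2265) i)) (@Bool.rec (fun _ => ℕ) rb2266 rb2267 (Nat.ble (nat_lit 2267) i)) (Nat.ble (nat_lit 2266) i)) (@Bool.rec (fun _ => ℕ) (@Bool.rec (fun _ => ℕ) rb2268 rb2269 (Nat.ble (nat_lit 2269) i)) (@Bool.rec (fun _ => ℕ) rb2270 rb2271 (Nat.ble (nat_lit 2271) i)) (Nat.ble (nat_lit 2270) i)) (Nat.ble (nat_lit 2268) i)) (Nat.ble (nat_lit 2264) i)) (Nat.ble (nat_lit 2256) i))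

def rowBlk_n0_71 (i : ℕ) : ℕ := (@Bool.rec (fun _ => ℕ) (@Bool.rec (fun _ => ℕ) (@Bool.rec (fun _ => ℕ) (@Bool.rec (fun _ => ℕ) (@Bool.rec (fun _ => ℕ) rb2272 rb2273 (Nat.ble (nat_lit 2273) i)) (@Bool.rec (fun _ => ℕ) rb2274 rb2275 (Nat.ble (nat_lit 2275) i)) (Nat.ble (nat_lit 2274) i)) (@Bool.rec (fun _ => ℕ) (@Bool.rec (fun _ => ℕ) rb2276 rb2277 (Nat.ble (nat_lit 2277) i)) (@Bool.rec (fun _ => ℕ) rb2278 rb2279 (Nat.ble (nat_lit 2279) i)) (Nat.ble (nat_lit 2278) i)) (Nat.ble (nat_lit 2276) i)) (@Bool.rec (fun _ => ℕ) (@Bool.rec (fun _ => ℕ) (@Bool.rec (fun _ => ℕ) rb2280 rb2281 (Nat.ble (nat_lit 2281) i)) (@Bool.rec (fun _ => ℕ) rb2282 rb2283 (Nat.ble (nat_lit 2283) i)) (Nat.ble (nat_lit 2282) i)) (@Bool.rec (fun _ => ℕ) (@Bool.rec (fun _ => ℕ) rb2284 rb2285 (Nat.ble (nat_lit 2285) i)) (@Bool.rec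 (fun _ => ℕ) rb2286 rb2287 (Nat.ble (nat_lit 2287) i)) (Nat.ble (nat_lit 2286) i)) (Nat.ble (nat_lit 2284) i)) (Nat.ble (nat_lit 2280) i)) (@Bool.rec (fun _ => ℕ) (@Bool.rec (fun _ => ℕ) (@Bool.rec (fun _ => ℕ) (@Bool.rec (fun _ => ℕ) rb2288 rb2289 (Nat.ble (nat_lit 2289) i)) (@Bool.rec (fun _ => ℕ) rb2290 rb2291 (Nat.ble (nat_lit 2291) i)) (Nat.ble (nat_lit 2290) i)) (@Bool.rec (fun _ => ℕ) (@Bool.rec (fun _ => ℕ) rb2292 rb2293 (Nat.ble (nat_lit 2293) i)) (@Bool.rec (fun _ => ℕ) rb2294 rb2295 (Nat.ble (nat_lit 2295) i)) (Nat.ble (nat_lit 2294) i)) (Nat.ble (nat_lit 2292) i)) (@Bool.rec (fun _ => ℕ) (@Bool.rec (fun _ => ℕ) (@Bool.rec (fun _ => ℕ) rb2296 rb2297 (Nat.ble (nat_lit 2297) i)) (@Bool.rec (fun _ => ℕ) rb2298 rb2299 (Nat.ble (nat_lit 2299) i)) (Nat.ble (nat_lit 2298) i)) (@Bool.rec (fun _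 => ℕ) (@Bool.rec (fun _ => ℕ) rb2300 rb2301 (Nat.ble (nat_lit 2301) i)) (@Bool.rec (fun _ => ℕ) rb2302 rb2303 (Nat.ble (nat_lit 2303) i)) (Nat.ble (nat_lit 2302) i)) (Nat.ble (nat_lit 2300) i)) (Nat.ble (nat_lit 2296) i)) (Nat.ble (nat_lit 2288) i))

def rowBlk_n0_72 (i : ℕ) : ℕ := (@Bool.rec (fun _ => ℕ) (@Bool.rec (fun _ => ℕ) (@Bool.rec (fun _ => ℕ) (@Bool.rec (fun _ => ℕ) (@Bool.rec (fun _ => ℕ) rb2304 rb2305 (Nat.ble (nat_lit 2305) i)) (@Bool.rec (fun _ => ℕ) rb2306 rb2307 (Nat.ble (nat_lit 2307) i)) (Nat.ble (nat_lit 2306) i)) (@Bool.rec (fun _ => ℕ) (@Bool.rec (fun _ => ℕ) rb2308 rb2309 (Nat.ble (nat_lit 2309) i)) (@Bool.rec (fun _ => ℕ) rb2310 rb2311 (Nat.ble (nat_lit 2311) i)) (Nat.ble (nat_lit 2310) i)) (Nat.ble (nat_lit 2308) i)) (@Bool.rec (fun _ => ℕ) (@Bool.rec (fun _ => ℕ) (@Bool.rec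 (fun _ => ℕ) rb2312 rb2313 (Nat.ble (nat_lit 2313) i)) (@Bool.rec (fun _ => ℕ) rb2314 rb2315 (Nat.ble (nat_lit 2315) i)) (Nat.ble (nat_lit 2314) i)) (@Bool.rec (fun _ => ℕ) (@Bool.rec (fun _ => ℕ) rb2316 rb2317 (Nat.ble (nat_lit 2317) i)) (@Bool.rec (fun _ => ℕ) rb2318 rb2319 (Nat.ble (nat_lit 2319) i)) (Nat.ble (nat_lit 2318) i)) (Nat.ble (nat_lit 2316) i)) (Nat.ble (nat_lit 2312) i)) (@Bool.rec (fun _ => ℕ) (@Bool.rec (fun _ => ℕ) (@Bool.rec (fun _ => ℕ) (@Bool.rec (fun _ => ℕ) rb2320 rb2321 (Nat.ble (nat_lit 2321) i)) (@Bool.rec (fun _ => ℕ) rb2322 rb2323 (Nat.ble (nat_lit 2323) i)) (Nat.ble (nat_lit 2322) i)) (@Bool.rec (fun _ => ℕ) (@Bool.rec (fun _ => ℕ) rb2324 rb2325 (Nat.ble (nat_lit 2325) i)) (@Bool.rec (fun _ => ℕ) rb2326 rb2327 (Nat.ble (nat_lit 2327) i)) (Nat.ble (nat_lit 2326) i)) (Nat.ble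 (nat_lit 2324) i)) (@Bool.rec (fun _ => ℕ) (@Bool.rec (fun _ => ℕ) (@Bool.rec (fun _ => ℕ) rb2328 rb2329 (Nat.ble (nat_lit 2329) i)) (@Bool.rec (fun _ => ℕ) rb2330 rb2331 (Nat.ble (nat_lit 2331) i)) (Nat.ble (nat_lit 2330) i)) (@Bool.rec (fun _ => ℕ) (@Bool.rec (fun _ => ℕ) rb2332 rb2333 (Nat.ble (nat_lit 2333) i)) (@Bool.rec (fun _ => ℕ) rb2334 rb2335 (Nat.ble (nat_lit 2335) i)) (Nat.ble (nat_lit 2334) i)) (Nat.ble (nat_lit 2332) i)) (Nat.ble (nat_lit 2328) i)) (Nat.ble (nat_lit 2320) i))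

def rowBlk_n0_73 (i : ℕ) : ℕ := (@Bool.rec (fun _ => ℕ) (@Bool.rec (fun _ => ℕ) (@Bool.rec (fun _ => ℕ) (@Bool.rec (fun _ => ℕ) (@Bool.rec (fun _ => ℕ) rb2336 rb2337 (Nat.ble (nat_lit 2337) i)) (@Bool.rec (fun _ => ℕ) rb2338 rb2339 (Nat.ble (nat_lit 2339) i)) (Nat.ble (nat_lit 2338) i)) (@Bool.rec (fun _ => ℕ) (@Bool.rec (fun _ => ℕ) rb2340 rb2341 (Nat.ble (nat_lit 2341) i)) (@Bool.rec (fun _ => ℕ) rb2342 rb2343 (Nat.ble (nat_lit 2343) i)) (Nat.ble (nat_lit 2342) i)) (Nat.ble (nat_lit 2340) i)) (@Bool.rec (fun _ => ℕ) (@Bool.rec (fun _ => ℕ) (@Bool.rec (fun _ => ℕ) rb2344 rb2345 (Nat.ble (nat_lit 2345) i)) (@Bool.rec (fun _ => ℕ) rb2346 rb2347 (Nat.ble (nat_lit 2347) i)) (Nat.ble (nat_lit 2346) i)) (@Bool.rec (fun _ => ℕ) (@Bool.rec (fun _ => ℕ) rb2348 rb2349 (Nat.ble (nat_lit 2349) i)) (@Bool.rec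 (fun _ => ℕ) rb2350 rb2351 (Nat.ble (nat_lit 2351) i)) (Nat.ble (nat_lit 2350) i)) (Nat.ble (nat_lit 2348) i)) (Nat.ble (nat_lit 2344) i)) (@Bool.rec (fun _ => ℕ) (@Bool.rec (fun _ => ℕ) (@Bool.rec (fun _ => ℕ) (@Bool.rec (fun _ => ℕ) rb2352 rb2353 (Nat.ble (nat_lit 2353) i)) (@Bool.rec (fun _ => ℕ) rb2354 rb2355 (Nat.ble (nat_lit 2355) i)) (Nat.ble (nat_lit 2354) i)) (@Bool.rec (fun _ => ℕ) (@Bool.rec (fun _ => ℕ) rb2356 rb2357 (Nat.ble (nat_lit 2357) i)) (@Bool.rec (fun _ => ℕ) rb2358 rb2359 (Nat.ble (nat_lit 2359) i)) (Nat.ble (nat_lit 2358) i)) (Nat.ble (nat_lit 2356) i)) (@Bool.rec (fun _ => ℕ) (@Bool.rec (fun _ => ℕ) (@Bool.rec (fun _ => ℕ) rb2360 rb2361 (Nat.ble (nat_lit 2361) i)) (@Bool.rec (fun _ => ℕ) rb2362 rb2363 (Nat.ble (nat_lit 2363) i)) (Nat.ble (nat_lit 2362) i)) (@Bool.rec (fun _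 => ℕ) (@Bool.rec (fun _ => ℕ) rb2364 rb2365 (Nat.ble (nat_lit 2365) i)) (@Bool.rec (fun _ => ℕ) rb2366 rb2367 (Nat.ble (nat_lit 2367) i)) (Nat.ble (nat_lit 2366) i)) (Nat.ble (nat_lit 2364) i)) (Nat.ble (nat_lit 2360) i)) (Nat.ble (nat_lit 2352) i))

def rowBlk_n0_74 (i : ℕ) : ℕ := (@Bool.rec (fun _ => ℕ) (@Bool.rec (fun _ => ℕ) (@Bool.rec (fun _ => ℕ) (@Bool.rec (fun _ => ℕ) (@Bool.rec (fun _ => ℕ) rb2368 rb2369 (Nat.ble (nat_lit 2369) i)) (@Bool.rec (fun _ => ℕ) rb2370 rb2371 (Nat.ble (nat_lit 2371) i)) (Nat.ble (nat_lit 2370) i)) (@Bool.rec (fun _ => ℕ) (@Bool.rec (fun _ => ℕ) rb2372 rb2373 (Nat.ble (nat_lit 2373) i)) (@Bool.rec (fun _ => ℕ) rb2374 rb2375 (Nat.ble (nat_lit 2375) i)) (Nat.ble (nat_lit 2374) i)) (Nat.ble (nat_lit 2372) i)) (@Bool.rec (fun _ => ℕ) (@Bool.rec (fun _ => ℕ) (@Bool.rec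 (fun _ => ℕ) rb2376 rb2377 (Nat.ble (nat_lit 2377) i)) (@Bool.rec (fun _ => ℕ) rb2378 rb2379 (Nat.ble (nat_lit 2379) i)) (Nat.ble (nat_lit 2378) i)) (@Bool.rec (fun _ => ℕ) (@Bool.rec (fun _ => ℕ) rb2380 rb2381 (Nat.ble (nat_lit 2381) i)) (@Bool.rec (fun _ => ℕ) rb2382 rb2383 (Nat.ble (nat_lit 2383) i)) (Nat.ble (nat_lit 2382) i)) (Nat.ble (nat_lit 2380) i)) (Nat.ble (nat_lit 2376) i)) (@Bool.rec (fun _ => ℕ) (@Bool.rec (fun _ => ℕ) (@Bool.rec (fun _ => ℕ) (@Bool.rec (fun _ => ℕ) rb2384 rb2385 (Nat.ble (nat_lit 2385) i)) (@Bool.rec (fun _ => ℕ) rb2386 rb2387 (Nat.ble (nat_lit 2387) i)) (Nat.ble (nat_lit 2386) i)) (@Bool.rec (fun _ => ℕ) (@Bool.rec (fun _ => ℕ) rb2388 rb2389 (Nat.ble (nat_lit 2389) i)) (@Bool.rec (fun _ => ℕ) rb2390 rb2391 (Nat.ble (nat_lit 2391) i)) (Nat.ble (nat_lit 2390) i)) (Nat.ble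 (nat_lit 2388) i)) (@Bool.rec (fun _ => ℕ) (@Bool.rec (fun _ => ℕ) (@Bool.rec (fun _ => ℕ) rb2392 rb2393 (Nat.ble (nat_lit 2393) i)) (@Bool.rec (fun _ => ℕ) rb2394 rb2395 (Nat.ble (nat_lit 2395) i)) (Nat.ble (nat_lit 2394) i)) (@Bool.rec (fun _ => ℕ) (@Bool.rec (fun _ => ℕ) rb2396 rb2397 (Nat.ble (nat_lit 2397) i)) (@Bool.rec (fun _ => ℕ) rb2398 rb2399 (Nat.ble (nat_lit 2399) i)) (Nat.ble (nat_lit 2398) i)) (Nat.ble (nat_lit 2396) i)) (Nat.ble (nat_lit 2392) i)) (Nat.ble (nat_lit 2384) i))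

def rowBlk_n0_75 (i : ℕ) : ℕ := (@Bool.rec (fun _ => ℕ) (@Bool.rec (fun _ => ℕ) (@Bool.rec (fun _ => ℕ) (@Bool.rec (fun _ => ℕ) (@Bool.rec (fun _ => ℕ) rb2400 rb2401 (Nat.ble (nat_lit 2401) i)) (@Bool.rec (fun _ => ℕ) rb2402 rb2403 (Nat.ble (nat_lit 2403) i)) (Nat.ble (nat_lit 2402) i)) (@Bool.rec (fun _ => ℕ) (@Bool.rec (fun _ => ℕ) rb2404 rb2405 (Nat.ble (nat_lit 2405) i)) (@Bool.rec (fun _ => ℕ) rb2406 rb2407 (Nat.ble (nat_lit 2407) i)) (Nat.ble (nat_lit 2406) i)) (Nat.ble (nat_lit 2404) i)) (@Bool.rec (fun _ => ℕ) (@Bool.rec (fun _ => ℕ) (@Bool.rec (fun _ => ℕ) rb2408 rb2409 (Nat.ble (nat_lit 2409) i)) (@Bool.rec (fun _ => ℕ) rb2410 rb2411 (Nat.ble (nat_lit 2411) i)) (Nat.ble (nat_lit 2410) i)) (@Bool.rec (fun _ => ℕ) (@Bool.rec (fun _ => ℕ) rb2412 rb2413 (Nat.ble (nat_lit 2413) i)) (@Bool.rec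 (fun _ => ℕ) rb2414 rb2415 (Nat.ble (nat_lit 2415) i)) (Nat.ble (nat_lit 2414) i)) (Nat.ble (nat_lit 2412) i)) (Nat.ble (nat_lit 2408) i)) (@Bool.rec (fun _ => ℕ) (@Bool.rec (fun _ => ℕ) (@Bool.rec (fun _ => ℕ) (@Bool.rec (fun _ => ℕ) rb2416 rb2417 (Nat.ble (nat_lit 2417) i)) (@Bool.rec (fun _ => ℕ) rb2418 rb2419 (Nat.ble (nat_lit 2419) i)) (Nat.ble (nat_lit 2418) i)) (@Bool.rec (fun _ => ℕ) (@Bool.rec (fun _ => ℕ) rb2420 rb2421 (Nat.ble (nat_lit 2421) i)) (@Bool.rec (fun _ => ℕ) rb2422 rb2423 (Nat.ble (nat_lit 2423) i)) (Nat.ble (nat_lit 2422) i)) (Nat.ble (nat_lit 2420) i)) (@Bool.rec (fun _ => ℕ) (@Bool.rec (fun _ => ℕ) (@Bool.rec (fun _ => ℕ) rb2424 rb2425 (Nat.ble (nat_lit 2425) i)) (@Bool.rec (fun _ => ℕ) rb2426 rb2427 (Nat.ble (nat_lit 2427) i)) (Nat.ble (nat_lit 2426) i)) (@Bool.rec (fun _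 => ℕ) (@Bool.rec (fun _ => ℕ) rb2428 rb2429 (Nat.ble (nat_lit 2429) i)) (@Bool.rec (fun _ => ℕ) rb2430 rb2431 (Nat.ble (nat_lit 2431) i)) (Nat.ble (nat_lit 2430) i)) (Nat.ble (nat_lit 2428) i)) (Nat.ble (nat_lit 2424) i)) (Nat.ble (nat_lit 2416) i))

def rowBlk_n0_76 (i : ℕ) : ℕ := (@Bool.rec (fun _ => ℕ) (@Bool.rec (fun _ => ℕ) (@Bool.rec (fun _ => ℕ) (@Bool.rec (fun _ => ℕ) (@Bool.rec (fun _ => ℕ) rb2432 rb2433 (Nat.ble (nat_lit 2433) i)) (@Bool.rec (fun _ => ℕ) rb2434 rb2435 (Nat.ble (nat_lit 2435) i)) (Nat.ble (nat_lit 2434) i)) (@Bool.rec (fun _ => ℕ) (@Bool.rec (fun _ => ℕ) rb2436 rb2437 (Nat.ble (nat_lit 2437) i)) (@Bool.rec (fun _ => ℕ) rb2438 rb2439 (Nat.ble (nat_lit 2439) i)) (Nat.ble (nat_lit 2438) i)) (Nat.ble (nat_lit 2436) i)) (@Bool.rec (fun _ => ℕ) (@Bool.rec (fun _ => ℕ) (@Bool.rec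 (fun _ => ℕ) rb2440 rb2441 (Nat.ble (nat_lit 2441) i)) (@Bool.rec (fun _ => ℕ) rb2442 rb2443 (Nat.ble (nat_lit 2443) i)) (Nat.ble (nat_lit 2442) i)) (@Bool.rec (fun _ => ℕ) (@Bool.rec (fun _ => ℕ) rb2444 rb2445 (Nat.ble (nat_lit 2445) i)) (@Bool.rec (fun _ => ℕ) rb2446 rb2447 (Nat.ble (nat_lit 2447) i)) (Nat.ble (nat_lit 2446) i)) (Nat.ble (nat_lit 2444) i)) (Nat.ble (nat_lit 2440) i)) (@Bool.rec (fun _ => ℕ) (@Bool.rec (fun _ => ℕ) (@Bool.rec (fun _ => ℕ) (@Bool.rec (fun _ => ℕ) rb2448 rb2449 (Nat.ble (nat_lit 2449) i)) (@Bool.rec (fun _ => ℕ) rb2450 rb2451 (Nat.ble (nat_lit 2451) i)) (Nat.ble (nat_lit 2450) i)) (@Bool.rec (fun _ => ℕ) (@Bool.rec (fun _ => ℕ) rb2452 rb2453 (Nat.ble (nat_lit 2453) i)) (@Bool.rec (fun _ => ℕ) rb2454 rb2455 (Nat.ble (nat_lit 2455) i)) (Nat.ble (nat_lit 2454) i)) (Nat.ble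 (nat_lit 2452) i)) (@Bool.rec (fun _ => ℕ) (@Bool.rec (fun _ => ℕ) (@Bool.rec (fun _ => ℕ) rb2456 rb2457 (Nat.ble (nat_lit 2457) i)) (@Bool.rec (fun _ => ℕ) rb2458 rb2459 (Nat.ble (nat_lit 2459) i)) (Nat.ble (nat_lit 2458) i)) (@Bool.rec (fun _ => ℕ) (@Bool.rec (fun _ => ℕ) rb2460 rb2461 (Nat.ble (nat_lit 2461) i)) (@Bool.rec (fun _ => ℕ) rb2462 rb2463 (Nat.ble (nat_lit 2463) i)) (Nat.ble (nat_lit 2462) i)) (Nat.ble (nat_lit 2460) i)) (Nat.ble (nat_lit 2456) i)) (Nat.ble (nat_lit 2448) i))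

def rowBlk_n0_77 (i : ℕ) : ℕ := (@Bool.rec (fun _ => ℕ) (@Bool.rec (fun _ => ℕ) (@Bool.rec (fun _ => ℕ) (@Bool.rec (fun _ => ℕ) (@Bool.rec (fun _ => ℕ) rb2464 rb2465 (Nat.ble (nat_lit 2465) i)) (@Bool.rec (fun _ => ℕ) rb2466 rb2467 (Nat.ble (nat_lit 2467) i)) (Nat.ble (nat_lit 2466) i)) (@Bool.rec (fun _ => ℕ) (@Bool.rec (fun _ => ℕ) rb2468 rb2469 (Nat.ble (nat_lit 2469) i)) (@Bool.rec (fun _ => ℕ) rb2470 rb2471 (Nat.ble (nat_lit 2471) i)) (Nat.ble (nat_lit 2470) i)) (Nat.ble (nat_lit 2468) i)) (@Bool.rec (fun _ => ℕ) (@Bool.rec (fun _ => ℕ) (@Bool.rec (fun _ => ℕ) rb2472 rb2473 (Nat.ble (nat_lit 2473) i)) (@Bool.rec (fun _ => ℕ) rb2474 rb2475 (Nat.ble (nat_lit 2475) i)) (Nat.ble (nat_lit 2474) i)) (@Bool.rec (fun _ => ℕ) (@Bool.rec (fun _ => ℕ) rb2476 rb2477 (Nat.ble (nat_lit 2477) i)) (@Bool.rec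 (fun _ => ℕ) rb2478 rb2479 (Nat.ble (nat_lit 2479) i)) (Nat.ble (nat_lit 2478) i)) (Nat.ble (nat_lit 2476) i)) (Nat.ble (nat_lit 2472) i)) (@Bool.rec (fun _ => ℕ) (@Bool.rec (fun _ => ℕ) (@Bool.rec (fun _ => ℕ) (@Bool.rec (fun _ => ℕ) rb2480 rb2481 (Nat.ble (nat_lit 2481) i)) (@Bool.rec (fun _ => ℕ) rb2482 rb2483 (Nat.ble (nat_lit 2483) i)) (Nat.ble (nat_lit 2482) i)) (@Bool.rec (fun _ => ℕ) (@Bool.rec (fun _ => ℕ) rb2484 rb2485 (Nat.ble (nat_lit 2485) i)) (@Bool.rec (fun _ => ℕ) rb2486 rb2487 (Nat.ble (nat_lit 2487) i)) (Nat.ble (nat_lit 2486) i)) (Nat.ble (nat_lit 2484) i)) (@Bool.rec (fun _ => ℕ) (@Bool.rec (fun _ => ℕ) (@Bool.rec (fun _ => ℕ) rb2488 rb2489 (Nat.ble (nat_lit 2489) i)) (@Bool.rec (fun _ => ℕ) rb2490 rb2491 (Nat.ble (nat_lit 2491) i)) (Nat.ble (nat_lit 2490) i)) (@Bool.rec (fun _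 => ℕ) (@Bool.rec (fun _ => ℕ) rb2492 rb2493 (Nat.ble (nat_lit 2493) i)) (@Bool.rec (fun _ => ℕ) rb2494 rb2495 (Nat.ble (nat_lit 2495) i)) (Nat.ble (nat_lit 2494) i)) (Nat.ble (nat_lit 2492) i)) (Nat.ble (nat_lit 2488) i)) (Nat.ble (nat_lit 2480) i))

def rowBlk_n0_78 (i : ℕ) : ℕ := (@Bool.rec (fun _ => ℕ) (@Bool.rec (fun _ => ℕ) (@Bool.rec (fun _ => ℕ) (@Bool.rec (fun _ => ℕ) (@Bool.rec (fun _ => ℕ) rb2496 rb2497 (Nat.ble (nat_lit 2497) i)) (@Bool.rec (fun _ => ℕ) rb2498 rb2499 (Nat.ble (nat_lit 2499) i)) (Nat.ble (nat_lit 2498) i)) (@Bool.rec (fun _ => ℕ) (@Bool.rec (fun _ => ℕ) rb2500 rb2501 (Nat.ble (nat_lit 2501) i)) (@Bool.rec (fun _ => ℕ) rb2502 rb2503 (Nat.ble (nat_lit 2503) i)) (Nat.ble (nat_lit 2502) i)) (Nat.ble (nat_lit 2500) i)) (@Bool.rec (fun _ => ℕ) (@Bool.rec (fun _ => ℕ) (@Bool.rec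 (fun _ => ℕ) rb2504 rb2505 (Nat.ble (nat_lit 2505) i)) (@Bool.rec (fun _ => ℕ) rb2506 rb2507 (Nat.ble (nat_lit 2507) i)) (Nat.ble (nat_lit 2506) i)) (@Bool.rec (fun _ => ℕ) (@Bool.rec (fun _ => ℕ) rb2508 rb2509 (Nat.ble (nat_lit 2509) i)) (@Bool.rec (fun _ => ℕ) rb2510 rb2511 (Nat.ble (nat_lit 2511) i)) (Nat.ble (nat_lit 2510) i)) (Nat.ble (nat_lit 2508) i)) (Nat.ble (nat_lit 2504) i)) (@Bool.rec (fun _ => ℕ) (@Bool.rec (fun _ => ℕ) (@Bool.rec (fun _ => ℕ) (@Bool.rec (fun _ => ℕ) rb2512 rb2513 (Nat.ble (nat_lit 2513) i)) (@Bool.rec (fun _ => ℕ) rb2514 rb2515 (Nat.ble (nat_lit 2515) i)) (Nat.ble (nat_lit 2514) i)) (@Bool.rec (fun _ => ℕ) (@Bool.rec (fun _ => ℕ) rb2516 rb2517 (Nat.ble (nat_lit 2517) i)) (@Bool.rec (fun _ => ℕ) rb2518 rb2519 (Nat.ble (nat_lit 2519) i)) (Nat.ble (nat_lit 2518) i)) (Nat.ble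 (nat_lit 2516) i)) (@Bool.rec (fun _ => ℕ) (@Bool.rec (fun _ => ℕ) (@Bool.rec (fun _ => ℕ) rb2520 rb2521 (Nat.ble (nat_lit 2521) i)) (@Bool.rec (fun _ => ℕ) rb2522 rb2523 (Nat.ble (nat_lit 2523) i)) (Nat.ble (nat_lit 2522) i)) (@Bool.rec (fun _ => ℕ) (@Bool.rec (fun _ => ℕ) rb2524 rb2525 (Nat.ble (nat_lit 2525) i)) (@Bool.rec (fun _ => ℕ) rb2526 rb2527 (Nat.ble (nat_lit 2527) i)) (Nat.ble (nat_lit 2526) i)) (Nat.ble (nat_lit 2524) i)) (Nat.ble (nat_lit 2520) i)) (Nat.ble (nat_lit 2512) i))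

def rowBlk_n0_79 (i : ℕ) : ℕ := (@Bool.rec (fun _ => ℕ) (@Bool.rec (fun _ => ℕ) (@Bool.rec (fun _ => ℕ) (@Bool.rec (fun _ => ℕ) (@Bool.rec (fun _ => ℕ) rb2528 rb2529 (Nat.ble (nat_lit 2529) i)) (@Bool.rec (fun _ => ℕ) rb2530 rb2531 (Nat.ble (nat_lit 2531) i)) (Nat.ble (nat_lit 2530) i)) (@Bool.rec (fun _ => ℕ) (@Bool.rec (fun _ => ℕ) rb2532 rb2533 (Nat.ble (nat_lit 2533) i)) (@Bool.rec (fun _ => ℕ) rb2534 rb2535 (Nat.ble (nat_lit 2535) i)) (Nat.ble (nat_lit 2534) i)) (Nat.ble (nat_lit 2532) i)) (@Bool.rec (fun _ => ℕ) (@Bool.rec (fun _ => ℕ) (@Bool.rec (fun _ => ℕ) rb2536 rb2537 (Nat.ble (nat_lit 2537) i)) (@Bool.rec (fun _ => ℕ) rb2538 rb2539 (Nat.ble (nat_lit 2539) i)) (Nat.ble (nat_lit 2538) i)) (@Bool.rec (fun _ => ℕ) (@Bool.rec (fun _ => ℕ) rb2540 rb2541 (Nat.ble (nat_lit 2541) i)) (@Bool.rec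 (fun _ => ℕ) rb2542 rb2543 (Nat.ble (nat_lit 2543) i)) (Nat.ble (nat_lit 2542) i)) (Nat.ble (nat_lit 2540) i)) (Nat.ble (nat_lit 2536) i)) (@Bool.rec (fun _ => ℕ) (@Bool.rec (fun _ => ℕ) (@Bool.rec (fun _ => ℕ) (@Bool.rec (fun _ => ℕ) rb2544 rb2545 (Nat.ble (nat_lit 2545) i)) (@Bool.rec (fun _ => ℕ) rb2546 rb2547 (Nat.ble (nat_lit 2547) i)) (Nat.ble (nat_lit 2546) i)) (@Bool.rec (fun _ => ℕ) (@Bool.rec (fun _ => ℕ) rb2548 rb2549 (Nat.ble (nat_lit 2549) i)) (@Bool.rec (fun _ => ℕ) rb2550 rb2551 (Nat.ble (nat_lit 2551) i)) (Nat.ble (nat_lit 2550) i)) (Nat.ble (nat_lit 2548) i)) (@Bool.rec (fun _ => ℕ) (@Bool.rec (fun _ => ℕ) (@Bool.rec (fun _ => ℕ) rb2552 rb2553 (Nat.ble (nat_lit 2553) i)) (@Bool.rec (fun _ => ℕ) rb2554 rb2555 (Nat.ble (nat_lit 2555) i)) (Nat.ble (nat_lit 2554) i)) (@Bool.rec (fun _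 => ℕ) (@Bool.rec (fun _ => ℕ) rb2556 rb2557 (Nat.ble (nat_lit 2557) i)) (@Bool.rec (fun _ => ℕ) rb2558 rb2559 (Nat.ble (nat_lit 2559) i)) (Nat.ble (nat_lit 2558) i)) (Nat.ble (nat_lit 2556) i)) (Nat.ble (nat_lit 2552) i)) (Nat.ble (nat_lit 2544) i))

def rowBlk_n0_80 (i : ℕ) : ℕ := (@Bool.rec (fun _ => ℕ) (@Bool.rec (fun _ => ℕ) (@Bool.rec (fun _ => ℕ) (@Bool.rec (fun _ => ℕ) (@Bool.rec (fun _ => ℕ) rb2560 rb2561 (Nat.ble (nat_lit 2561) i)) (@Bool.rec (fun _ => ℕ) rb2562 rb2563 (Nat.ble (nat_lit 2563) i)) (Nat.ble (nat_lit 2562) i)) (@Bool.rec (fun _ => ℕ) (@Bool.rec (fun _ => ℕ) rb2564 rb2565 (Nat.ble (nat_lit 2565) i)) (@Bool.rec (fun _ => ℕ) rb2566 rb2567 (Nat.ble (nat_lit 2567) i)) (Nat.ble (nat_lit 2566) i)) (Nat.ble (nat_lit 2564) i)) (@Bool.rec (fun _ => ℕ) (@Bool.rec (fun _ => ℕ) (@Bool.rec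 (fun _ => ℕ) rb2568 rb2569 (Nat.ble (nat_lit 2569) i)) (@Bool.rec (fun _ => ℕ) rb2570 rb2571 (Nat.ble (nat_lit 2571) i)) (Nat.ble (nat_lit 2570) i)) (@Bool.rec (fun _ => ℕ) (@Bool.rec (fun _ => ℕ) rb2572 rb2573 (Nat.ble (nat_lit 2573) i)) (@Bool.rec (fun _ => ℕ) rb2574 rb2575 (Nat.ble (nat_lit 2575) i)) (Nat.ble (nat_lit 2574) i)) (Nat.ble (nat_lit 2572) i)) (Nat.ble (nat_lit 2568) i)) (@Bool.rec (fun _ => ℕ) (@Bool.rec (fun _ => ℕ) (@Bool.rec (fun _ => ℕ) (@Bool.rec (fun _ => ℕ) rb2576 rb2577 (Nat.ble (nat_lit 2577) i)) (@Bool.rec (fun _ => ℕ) rb2578 rb2579 (Nat.ble (nat_lit 2579) i)) (Nat.ble (nat_lit 2578) i)) (@Bool.rec (fun _ => ℕ) (@Bool.rec (fun _ => ℕ) rb2580 rb2581 (Nat.ble (nat_lit 2581) i)) (@Bool.rec (fun _ => ℕ) rb2582 rb2583 (Nat.ble (nat_lit 2583) i)) (Nat.ble (nat_lit 2582) i)) (Nat.ble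 (nat_lit 2580) i)) (@Bool.rec (fun _ => ℕ) (@Bool.rec (fun _ => ℕ) (@Bool.rec (fun _ => ℕ) rb2584 rb2585 (Nat.ble (nat_lit 2585) i)) (@Bool.rec (fun _ => ℕ) rb2586 rb2587 (Nat.ble (nat_lit 2587) i)) (Nat.ble (nat_lit 2586) i)) (@Bool.rec (fun _ => ℕ) (@Bool.rec (fun _ => ℕ) rb2588 rb2589 (Nat.ble (nat_lit 2589) i)) (@Bool.rec (fun _ => ℕ) rb2590 rb2591 (Nat.ble (nat_lit 2591) i)) (Nat.ble (nat_lit 2590) i)) (Nat.ble (nat_lit 2588) i)) (Nat.ble (nat_lit 2584) i)) (Nat.ble (nat_lit 2576) i))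

def rowBlk_n0_81 (i : ℕ) : ℕ := (@Bool.rec (fun _ => ℕ) (@Bool.rec (fun _ => ℕ) (@Bool.rec (fun _ => ℕ) (@Bool.rec (fun _ => ℕ) rb2592 (@Bool.rec (fun _ => ℕ) rb2593 rb2594 (Nat.ble (nat_lit 2594) i)) (Nat.ble (nat_lit 2593) i)) (@Bool.rec (fun _ => ℕ) rb2595 (@Bool.rec (fun _ => ℕ) rb2596 rb2597 (Nat.ble (nat_lit 2597) i)) (Nat.ble (nat_lit 2596) i)) (Nat.ble (nat_lit 2595) i)) (@Bool.rec (fun _ => ℕ) (@Bool.rec (fun _ => ℕ) rb2598 (@Bool.rec (fun _ => ℕ) rb2599 rb2600 (Nat.ble (nat_lit 2600) i)) (Nat.ble (nat_lit 2599) i)) (@Bool.rec (fun _ => ℕ) rb2601 (@Bool.rec (fun _ => ℕ) rb2602 rb2603 (Nat.ble (nat_lit 2603) i)) (Nat.ble (nat_lit 2602) i)) (Nat.ble (nat_lit 2601) i)) (Nat.ble (nat_lit 2598) i)) (@Bool.rec (fun _ => ℕ) (@Bool.rec (fun _ => ℕ) (@Bool.rec (fun _ => ℕ) rb2604 (@Bool.rec (fun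 _ => ℕ) rb2605 rb2606 (Nat.ble (nat_lit 2606) i)) (Nat.ble (nat_lit 2605) i)) (@Bool.rec (fun _ => ℕ) rb2607 (@Bool.rec (fun _ => ℕ) rb2608 rb2609 (Nat.ble (nat_lit 2609) i)) (Nat.ble (nat_lit 2608) i)) (Nat.ble (nat_lit 2607) i)) (@Bool.rec (fun _ => ℕ) (@Bool.rec (fun _ => ℕ) rb2610 (@Bool.rec (fun _ => ℕ) rb2611 rb2612 (Nat.ble (nat_lit 2612) i)) (Nat.ble (nat_lit 2611) i)) (@Bool.rec (fun _ => ℕ) rb2613 (@Bool.rec (fun _ => ℕ) rb2614 rb2615 (Nat.ble (nat_lit 2615) i)) (Nat.ble (nat_lit 2614) i)) (Nat.ble (nat_lit 2613) i)) (Nat.ble (nat_lit 2610) i)) (Nat.ble (nat_lit 2604) i))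

def rowBlk_n1_0 (i : ℕ) : ℕ := (@Bool.rec (fun _ => ℕ) (@Bool.rec (fun _ => ℕ) (@Bool.rec (fun _ => ℕ) (@Bool.rec (fun _ => ℕ) (@Bool.rec (fun _ => ℕ) (rowBlk_n0_0 i) (rowBlk_n0_1 i) (Nat.ble (nat_lit 32) i)) (@Bool.rec (fun _ => ℕ) (rowBlk_n0_2 i) (rowBlk_n0_3 i) (Nat.ble (nat_lit 96) i)) (Nat.ble (nat_lit 64) i)) (@Bool.rec (fun _ => ℕ) (@Bool.rec (fun _ => ℕ) (rowBlk_n0_4 i) (rowBlk_n0_5 i) (Nat.ble (nat_lit 160) i)) (@Bool.rec (fun _ => ℕ) (rowBlk_n0_6 i) (rowBlk_n0_7 i) (Nat.ble (nat_lit 224) i)) (Nat.ble (nat_lit 192) i)) (Nat.ble (nat_lit 128) i)) (@Bool.rec (fun _ => ℕ) (@Bool.rec (fun _ => ℕ) (@Bool.rec (fun _ => ℕ) (rowBlk_n0_8 i) (rowBlk_n0_9 i) (Nat.ble (nat_lit 288) i)) (@Bool.rec (fun _ => ℕ) (rowBlk_n0_10 i) (rowBlk_n0_11 i) (Nat.ble (nat_lit 352) i)) (Nat.ble (nat_lit 320) i)) (@Bool.rec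 (fun _ => ℕ) (@Bool.rec (fun _ => ℕ) (rowBlk_n0_12 i) (rowBlk_n0_13 i) (Nat.ble (nat_lit 416) i)) (@Bool.rec (fun _ => ℕ) (rowBlk_n0_14 i) (rowBlk_n0_15 i) (Nat.ble (nat_lit 480) i)) (Nat.ble (nat_lit 448) i)) (Nat.ble (nat_lit 384) i)) (Nat.ble (nat_lit 256) i)) (@Bool.rec (fun _ => ℕ) (@Bool.rec (fun _ => ℕ) (@Bool.rec (fun _ => ℕ) (@Bool.rec (fun _ => ℕ) (rowBlk_n0_16 i) (rowBlk_n0_17 i) (Nat.ble (nat_lit 544) i)) (@Bool.rec (fun _ => ℕ) (rowBlk_n0_18 i) (rowBlk_n0_19 i) (Nat.ble (nat_lit 608) i)) (Nat.ble (nat_lit 576) i)) (@Bool.rec (fun _ => ℕ) (@Bool.rec (fun _ => ℕ) (rowBlk_n0_20 i) (rowBlk_n0_21 i) (Nat.ble (nat_lit 672) i)) (@Bool.rec (fun _ => ℕ) (rowBlk_n0_22 i) (rowBlk_n0_23 i) (Nat.ble (nat_lit 736) i)) (Nat.ble (nat_lit 704) i)) (Nat.ble (nat_lit 640) i)) (@Bool.rec (fun _ => ℕ) (@Bool.rec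 (fun _ => ℕ) (@Bool.rec (fun _ => ℕ) (rowBlk_n0_24 i) (rowBlk_n0_25 i) (Nat.ble (nat_lit 800) i)) (@Bool.rec (fun _ => ℕ) (rowBlk_n0_26 i) (rowBlk_n0_27 i) (Nat.ble (nat_lit 864) i)) (Nat.ble (nat_lit 832) i)) (@Bool.rec (fun _ => ℕ) (@Bool.rec (fun _ => ℕ) (rowBlk_n0_28 i) (rowBlk_n0_29 i) (Nat.ble (nat_lit 928) i)) (@Bool.rec (fun _ => ℕ) (rowBlk_n0_30 i) (rowBlk_n0_31 i) (Nat.ble (nat_lit 992) i)) (Nat.ble (nat_lit 960) i)) (Nat.ble (nat_lit 896) i)) (Nat.ble (nat_lit 768) i)) (Nat.ble (nat_lit 512) i))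

def rowBlk_n1_1 (i : ℕ) : ℕ := (@Bool.rec (fun _ => ℕ) (@Bool.rec (fun _ => ℕ) (@Bool.rec (fun _ => ℕ) (@Bool.rec (fun _ => ℕ) (@Bool.rec (fun _ => ℕ) (rowBlk_n0_32 i) (rowBlk_n0_33 i) (Nat.ble (nat_lit 1056) i)) (@Bool.rec (fun _ => ℕ) (rowBlk_n0_34 i) (rowBlk_n0_35 i) (Nat.ble (nat_lit 1120) i)) (Nat.ble (nat_lit 1088) i)) (@Bool.rec (fun _ => ℕ) (@Bool.rec (fun _ => ℕ) (rowBlk_n0_36 i) (rowBlk_n0_37 i) (Nat.ble (nat_lit 1184) i)) (@Bool.rec (fun _ => ℕ) (rowBlk_n0_38 i) (rowBlk_n0_39 i) (Nat.ble (nat_lit 1248) i)) (Nat.ble (nat_lit 1216) i)) (Nat.ble (nat_lit 1152) i)) (@Bool.rec (fun _ => ℕ) (@Bool.rec (fun _ => ℕ) (@Bool.rec (fun _ => ℕ) (rowBlk_n0_40 i) (rowBlk_n0_41 i) (Nat.ble (nat_lit 1312) i)) (@Bool.rec (fun _ => ℕ) (rowBlk_n0_42 i) (rowBlk_n0_43 i) (Nat.ble (nat_lit 1376) i)) (Nat.ble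 (nat_lit 1344) i)) (@Bool.rec (fun _ => ℕ) (@Bool.rec (fun _ => ℕ) (rowBlk_n0_44 i) (rowBlk_n0_45 i) (Nat.ble (nat_lit 1440) i)) (@Bool.rec (fun _ => ℕ) (rowBlk_n0_46 i) (rowBlk_n0_47 i) (Nat.ble (nat_lit 1504) i)) (Nat.ble (nat_lit 1472) i)) (Nat.ble (nat_lit 1408) i)) (Nat.ble (nat_lit 1280) i)) (@Bool.rec (fun _ => ℕ) (@Bool.rec (fun _ => ℕ) (@Bool.rec (fun _ => ℕ) (@Bool.rec (fun _ => ℕ) (rowBlk_n0_48 i) (rowBlk_n0_49 i) (Nat.ble (nat_lit 1568) i)) (@Bool.rec (fun _ => ℕ) (rowBlk_n0_50 i) (rowBlk_n0_51 i) (Nat.ble (nat_lit 1632) i)) (Nat.ble (nat_lit 1600) i)) (@Bool.rec (fun _ => ℕ) (@Bool.rec (fun _ => ℕ) (rowBlk_n0_52 i) (rowBlk_n0_53 i) (Nat.ble (nat_lit 1696) i)) (@Bool.rec (fun _ => ℕ) (rowBlk_n0_54 i) (rowBlk_n0_55 i) (Nat.ble (nat_lit 1760) i)) (Nat.ble (nat_lit 1728) i)) (Nat.ble (nat_lit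 1664) i)) (@Bool.rec (fun _ => ℕ) (@Bool.rec (fun _ => ℕ) (@Bool.rec (fun _ => ℕ) (rowBlk_n0_56 i) (rowBlk_n0_57 i) (Nat.ble (nat_lit 1824) i)) (@Bool.rec (fun _ => ℕ) (rowBlk_n0_58 i) (rowBlk_n0_59 i) (Nat.ble (nat_lit 1888) i)) (Nat.ble (nat_lit 1856) i)) (@Bool.rec (fun _ => ℕ) (@Bool.rec (fun _ => ℕ) (rowBlk_n0_60 i) (rowBlk_n0_61 i) (Nat.ble (nat_lit 1952) i)) (@Bool.rec (fun _ => ℕ) (rowBlk_n0_62 i) (rowBlk_n0_63 i) (Nat.ble (nat_lit 2016) i)) (Nat.ble (nat_lit 1984) i)) (Nat.ble (nat_lit 1920) i)) (Nat.ble (nat_lit 1792) i)) (Nat.ble (nat_lit 1536) i))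

def rowBlk_n1_2 (i : ℕ) : ℕ := (@Bool.rec (fun _ => ℕ) (@Bool.rec (fun _ => ℕ) (@Bool.rec (fun _ => ℕ) (@Bool.rec (fun _ => ℕ) (rowBlk_n0_64 i) (rowBlk_n0_65 i) (Nat.ble (nat_lit 2080) i)) (@Bool.rec (fun _ => ℕ) (rowBlk_n0_66 i) (rowBlk_n0_67 i) (Nat.ble (nat_lit 2144) i)) (Nat.ble (nat_lit 2112) i)) (@Bool.rec (fun _ => ℕ) (@Bool.rec (fun _ => ℕ) (rowBlk_n0_68 i) (rowBlk_n0_69 i) (Nat.ble (nat_lit 2208) i)) (@Bool.rec (fun _ => ℕ) (rowBlk_n0_70 i) (@Bool.rec (fun _ => ℕ) (rowBlk_n0_71 i) (rowBlk_n0_72 i) (Nat.ble (nat_lit 2304) i)) (Nat.ble (nat_lit 2272) i)) (Nat.ble (nat_lit 2240) i)) (Nat.ble (nat_lit 2176) i)) (@Bool.rec (fun _ => ℕ) (@Bool.rec (fun _ => ℕ) (@Bool.rec (fun _ => ℕ) (rowBlk_n0_73 i) (rowBlk_n0_74 i) (Nat.ble (nat_lit 2368) i)) (@Bool.rec (fun _ => ℕ) (rowBlk_n0_75 i) (rowBlk_n0_76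 i) (Nat.ble (nat_lit 2432) i)) (Nat.ble (nat_lit 2400) i)) (@Bool.rec (fun _ => ℕ) (@Bool.rec (fun _ => ℕ) (rowBlk_n0_77 i) (rowBlk_n0_78 i) (Nat.ble (nat_lit 2496) i)) (@Bool.rec (fun _ => ℕ) (rowBlk_n0_79 i) (@Bool.rec (fun _ => ℕ) (rowBlk_n0_80 i) (rowBlk_n0_81 i) (Nat.ble (nat_lit 2592) i)) (Nat.ble (nat_lit 2560) i)) (Nat.ble (nat_lit 2528) i)) (Nat.ble (nat_lit 2464) i)) (Nat.ble (nat_lit 2336) i))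

def rowBlk (i : ℕ) : ℕ := (@Bool.rec (fun _ => ℕ) (rowBlk_n1_0 i) (@Bool.rec (fun _ => ℕ) (rowBlk_n1_1 i) (rowBlk_n1_2 i) (Nat.ble (nat_lit 2048) i)) (Nat.ble (nat_lit 1024) i))

def word_n0_0 (i : ℕ) : List ℕ := (@Bool.rec (fun _ => List ℕ) (@Bool.rec (fun _ => List ℕ) (@Bool.rec (fun _ => List ℕ) (@Bool.rec (fun _ => List ℕ) (@Bool.rec (fun _ => List ℕ) [0, 0] [0, 2, 0, 2, 0, 2] (Nat.ble (nat_lit 1) i)) (@Bool.rec (fun _ => List ℕ) [0, 4, 0, 4] [0, 6, 0, 6] (Nat.ble (nat_lit 3) i)) (Nat.ble (nat_lit 2) i)) (@Bool.rec (fun _ => List ℕ) (@Bool.rec (fun _ => List ℕ) [0, 8, 0, 8] [0, 10, 0, 10] (Nat.ble (nat_lit 5) i)) (@Bool.rec (fun _ => List ℕ) [0, 12, 0, 12] [0, 16, 0, 16] (Nat.ble (nat_lit 7) i)) (Nat.ble (nat_lit 6) i)) (Nat.ble (nat_lit 4) i)) (@Bool.rec (fun _ => List ℕ) (@Bool.rec (fun _ =>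 List ℕ) (@Bool.rec (fun _ => List ℕ) [0, 14, 0, 14] [0, 18, 0, 18] (Nat.ble (nat_lit 9) i)) (@Bool.rec (fun _ => List ℕ) [2, 2] [2, 4, 2, 4, 2, 4] (Nat.ble (nat_lit 11) i)) (Nat.ble (nat_lit 10) i)) (@Bool.rec (fun _ => List ℕ) (@Bool.rec (fun _ => List ℕ) [2, 6, 2, 6] [2, 8, 2, 8] (Nat.ble (nat_lit 13) i)) (@Bool.rec (fun _ => List ℕ) [2, 10, 2, 10] [2, 12, 2, 12] (Nat.ble (nat_lit 15) i)) (Nat.ble (nat_lit 14) i)) (Nat.ble (nat_lit 12) i)) (Nat.ble (nat_lit 8) i)) (@Bool.rec (fun _ => List ℕ) (@Bool.rec (fun _ => List ℕ) (@Bool.rec (fun _ => List ℕ) (@Bool.rec (fun _ => List ℕ) [2, 16, 2, 16] [2, 14, 2, 14] (Nat.ble (nat_lit 17) i)) (@Bool.rec (fun _ => List ℕ) [2, 18, 2, 18] [4, 4] (Nat.ble (nat_lit 19) i)) (Nat.ble (nat_lit 18) i)) (@Bool.rec (fun _ => List ℕ) (@Bool.rec (fun _ => List ℕ) [4,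 6, 4, 6, 4, 6] [4, 8, 4, 8] (Nat.ble (nat_lit 21) i)) (@Bool.rec (fun _ => List ℕ) [4, 10, 4, 10] [4, 12, 4, 12] (Nat.ble (nat_lit 23) i)) (Nat.ble (nat_lit 22) i)) (Nat.ble (nat_lit 20) i)) (@Bool.rec (fun _ => List ℕ) (@Bool.rec (fun _ => List ℕ) (@Bool.rec (fun _ => List ℕ) [4, 16, 4, 16] [4, 14, 4, 14] (Nat.ble (nat_lit 25) i)) (@Bool.rec (fun _ => List ℕ) [4, 18, 4, 18] [6, 6] (Nat.ble (nat_lit 27) i)) (Nat.ble (nat_lit 26) i)) (@Bool.rec (fun _ => List ℕ) (@Bool.rec (fun _ => List ℕ) [6, 8, 6, 8, 6, 8] [6, 10, 6, 10] (Nat.ble (nat_lit 29) i)) (@Bool.rec (fun _ => List ℕ) [6, 12, 6, 12] [6, 16, 6, 16, 6, 16] (Nat.ble (nat_lit 31) i)) (Nat.ble (nat_lit 30) i)) (Nat.ble (nat_lit 28) i)) (Nat.ble (nat_lit 24) i)) (Nat.ble (nat_lit 16) i))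

def word_n0_1 (i : ℕ) : List ℕ := (@Bool.rec (fun _ => List ℕ) (@Bool.rec (fun _ => List ℕ) (@Bool.rec (fun _ => List ℕ) (@Bool.rec (fun _ => List ℕ) (@Bool.rec (fun _ => List ℕ) [6, 14, 6, 14] [6, 18, 6, 18] (Nat.ble (nat_lit 33) i)) (@Bool.rec (fun _ => List ℕ) [8, 8] [8, 10, 8, 10, 8, 10] (Nat.ble (nat_lit 35) i)) (Nat.ble (nat_lit 34) i)) (@Bool.rec (fun _ => List ℕ) (@Bool.rec (fun _ => List ℕ) [8, 12, 8, 12] [8, 16, 8, 16] (Nat.ble (nat_lit 37) i)) (@Bool.rec (fun _ => List ℕ) [8, 14, 8, 14] [8, 18, 8, 18] (Nat.ble (nat_lit 39) i)) (Nat.ble (nat_lit 38) i)) (Nat.ble (nat_lit 36) i)) (@Bool.rec (fun _ => List ℕ) (@Bool.rec (fun _ => List ℕ) (@Bool.rec (fun _ => List ℕ) [10, 10] [10, 12, 10, 12, 10, 12] (Nat.ble (nat_lit 41) i)) (@Bool.rec (fun _ => List ℕ) [10, 16, 10, 16] [10, 14, 10, 14] (Nat.ble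 (nat_lit 43) i)) (Nat.ble (nat_lit 42) i)) (@Bool.rec (fun _ => List ℕ) (@Bool.rec (fun _ => List ℕ) [10, 18, 10, 18] [12, 12] (Nat.ble (nat_lit 45) i)) (@Bool.rec (fun _ => List ℕ) [12, 16, 12, 16] [12, 14, 12, 14, 12, 14] (Nat.ble (nat_lit 47) i)) (Nat.ble (nat_lit 46) i)) (Nat.ble (nat_lit 44) i)) (Nat.ble (nat_lit 40) i)) (@Bool.rec (fun _ => List ℕ) (@Bool.rec (fun _ => List ℕ) (@Bool.rec (fun _ => List ℕ) (@Bool.rec (fun _ => List ℕ) [12, 18, 12, 18] [16, 16] (Nat.ble (nat_lit 49) i)) (@Bool.rec (fun _ => List ℕ) [16, 18, 16, 18, 16, 18] [14, 16, 14, 16] (Nat.ble (nat_lit 51) i)) (Nat.ble (nat_lit 50) i)) (@Bool.rec (fun _ => List ℕ) (@Bool.rec (fun _ => List ℕ) [14, 14] [14, 18, 14, 18] (Nat.ble (nat_lit 53) i)) (@Bool.rec (fun _ => List ℕ) [18, 18] [6, 4, 2, 6, 8, 10, 6, 16, 18, 6, 4, 2, 6,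 8, 10, 6, 16, 18, 6, 4, 2, 6, 8, 10, 6, 16, 18, 6, 4, 2, 6, 8, 10, 6, 16, 18, 6, 4, 2, 6, 8, 10, 6, 16, 18, 6, 4, 2, 6, 8, 10, 6, 16, 18, 6, 4, 2, 6, 8, 10, 6, 16, 18, 6, 4, 2, 6, 8, 10, 6, 16, 18, 6, 4, 2, 6, 8, 10, 6, 16, 18, 6, 4, 2, 6, 8, 10, 6, 16, 18] (Nat.ble (nat_lit 55) i)) (Nat.ble (nat_lit 54) i)) (Nat.ble (nat_lit 52) i)) (@Bool.rec (fun _ => List ℕ) (@Bool.rec (fun _ => List ℕ) (@Bool.rec (fun _ => List ℕ) [0, 2, 4, 6, 8, 10, 16, 0, 2, 4, 6, 8, 10, 16, 0, 2, 4, 6, 8, 10, 16, 0, 2, 4, 6, 8, 10, 16, 0, 2, 4, 6, 8, 10, 16, 0, 2, 4, 6, 8, 10, 16, 0, 2, 4, 6, 8, 10, 16, 0, 2, 4, 6, 8, 10, 16, 0, 2, 4, 6, 8, 10, 16] ([] : List ℕ) (Nat.ble (nat_lit 57) i)) (@Bool.rec (fun _ => List ℕ) [0, 1] [1, 0] (Nat.ble (nat_lit 59) i)) (Nat.ble (nat_lit 58) i)) (@Bool.rec (fun _ => List ℕ) (@Bool.rec (fun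 _ => List ℕ) [2, 3] [3, 2] (Nat.ble (nat_lit 61) i)) (@Bool.rec (fun _ => List ℕ) [4, 5] [5, 4] (Nat.ble (nat_lit 63) i)) (Nat.ble (nat_lit 62) i)) (Nat.ble (nat_lit 60) i)) (Nat.ble (nat_lit 56) i)) (Nat.ble (nat_lit 48) i))

def word_n0_2 (i : ℕ) : List ℕ := (@Bool.rec (fun _ => List ℕ) (@Bool.rec (fun _ => List ℕ) (@Bool.rec (fun _ => List ℕ) (@Bool.rec (fun _ => List ℕ) [6, 7] [7, 6] (Nat.ble (nat_lit 65) i)) (@Bool.rec (fun _ => List ℕ) [8, 9] (@Bool.rec (fun _ => List ℕ) [9, 8] [10, 11] (Nat.ble (nat_lit 68) i)) (Nat.ble (nat_lit 67) i)) (Nat.ble (nat_lit 66) i)) (@Bool.rec (fun _ => List ℕ) (@Bool.rec (fun _ => List ℕ) [11, 10] (@Bool.rec (fun _ => List ℕ) [12, 13] [13, 12] (Nat.ble (nat_lit 71) i)) (Nat.ble (nat_lit 70) i)) (@Bool.rec (fun _ => List ℕ) [14, 15] (@Bool.rec (fun _ => List ℕ)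 [15, 14] [16, 17] (Nat.ble (nat_lit 74) i)) (Nat.ble (nat_lit 73) i)) (Nat.ble (nat_lit 72) i)) (Nat.ble (nat_lit 69) i)) (@Bool.rec (fun _ => List ℕ) (@Bool.rec (fun _ => List ℕ) (@Bool.rec (fun _ => List ℕ) [17, 16] (@Bool.rec (fun _ => List ℕ) [18, 19] [19, 18] (Nat.ble (nat_lit 77) i)) (Nat.ble (nat_lit 76) i)) (@Bool.rec (fun _ => List ℕ) [0] (@Bool.rec (fun _ => List ℕ) [2] [4] (Nat.ble (nat_lit 80) i)) (Nat.ble (nat_lit 79) i)) (Nat.ble (nat_lit 78) i)) (@Bool.rec (fun _ => List ℕ) (@Bool.rec (fun _ => List ℕ) [6] (@Bool.rec (fun _ => List ℕ) [8] [10] (Nat.ble (nat_lit 83) i)) (Nat.ble (nat_lit 82) i)) (@Bool.rec (fun _ => List ℕ) [12] (@Bool.rec (fun _ => List ℕ) [16] [18] (Nat.ble (nat_lit 86) i)) (Nat.ble (nat_lit 85) i)) (Nat.ble (nat_lit 84) i)) (Nat.ble (nat_lit 81) i)) (Nat.ble (nat_lit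 75) i))

def word (i : ℕ) : List ℕ := (@Bool.rec (fun _ => List ℕ) (word_n0_0 i) (@Bool.rec (fun _ => List ℕ) (word_n0_1 i) (word_n0_2 i) (Nat.ble (nat_lit 64) i)) (Nat.ble (nat_lit 32) i))

def fact (k : ℕ) : ℕ := Nat.land (Nat.shiftRight (factBlk (Nat.shiftRight k (nat_lit 8))) (Nat.mul (Nat.land k (nat_lit 255)) (nat_lit 48))) (nat_lit 281474976710655)

def slot (v : ℕ) : ℕ := Nat.land (Nat.shiftRight (parBlk (Nat.shiftRight v (nat_lit 8))) (Nat.mul (Nat.land v (nat_lit 255)) (nat_lit 32))) (nat_lit 4294967295)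

def par (v : ℕ) : ℕ := Nat.land (slot v) (nat_lit 1048575)

def plet (v : ℕ) : ℕ := Nat.shiftRight (slot v) (nat_lit 20)

def isFin (v : ℕ) : Bool := Nat.beq (Nat.land (Nat.shiftRight (finBlk (Nat.shiftRight v (nat_lit 12))) (Nat.land v (nat_lit 4095))) (nat_lit 1)) (nat_lit 1)

def row (v : ℕ) : ℕ := Nat.land (Nat.shiftRight (rowBlk (Nat.shiftRight v (nat_lit 4))) (Nat.mul (Nat.land v (nat_lit 15)) (nat_lit 480))) (nat_lit 3121748550315992231381597229793166305748598142664971150859156959625371738819765620120306103063491971159826931121406622895447975679288285306290175)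

def inv (g : ℕ) : Bool := and (Nat.blt g 10) (Nat.beq (Nat.land (Nat.shiftRight (nat_lit 1023) g) (nat_lit 1)) (nat_lit 1))

def blockOk (j : ℕ) : Bool := blockF par plet fact inv word (nat_lit 78) (nat_lit 87) (nat_lit 41842) (Nat.mul j (nat_lit 256)) (nat_lit 256) (nat_lit 0) (certBlk j)

def rowOk (v : ℕ) : Bool := rowF fact inv (nat_lit 41842) isFin row (nat_lit 209408) (nat_lit 20) v

def parOk (v : ℕ) : Bool := or (Nat.beq v 0) (Nat.blt (par v) v)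

def gname : ℕ → Cfsg.Spor.Fi23.Gen
  | 0 => .a
  | 1 => .b
  | 2 => .c
  | 3 => .d
  | 4 => .e
  | 5 => .f
  | 6 => .g
  | 7 => .j
  | 8 => .h
  | 9 => .i
  | _ => .a

end Cfsg.Agent.Lib.Helper28_S1689.U
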