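import Cfsg.Agent.Lib.Helper28_S1689UDef

set_option autoImplicit false
set_option linter.constructorNameAsVariable false
set_option Elab.async false

namespace Cfsg.Agent.Lib.Helper28_S1689.U

open Cfsg.Agent.Lib.Helper28_CosetPerm

theorem r3r0 : allRange rowOk 1 33841 3336 = true := by decide +kernel
theorem r3u0 : ∀ k, 33841 ≤ k → k < 37177 → rowOk (k * 1) = true := between_extend rowOk 1 33841 33841 3336 (between_start rowOk 1 33841) r3r0

theorem r3r1 : allRange rowOk 1 37177 3336 = true := by decide +kernel
theorem r3u1 : ∀ k, 33841 ≤ k → k < 40513 → rowOk (k * 1) = true := between_extend rowOk 1 33841 37177 3336 (r3u0) r3r1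

theorem r3r2 : allRange rowOk 1 40513 1329 = true := by decide +kernel
theorem r3u2 : ∀ k, 33841 ≤ k → k < 41842 → rowOk (k * 1) = true := between_extend rowOk 1 33841 40513 1329 (r3u1) r3r2

theorem r3 : ∀ k, 33841 ≤ k → k < 41842 → rowOk (k * 1) = true := r3u2

end Cfsg.Agent.Lib.Helper28_S1689.U
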