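import Cfsg.Agent.Lib.Helper28_S1692Def

set_option autoImplicit false
set_option linter.constructorNameAsVariable false
set_option Elab.async false

namespace Cfsg.Agent.Lib.Helper28_S1692

open Cfsg.Agent.Lib.Helper28_CosetPerm

theorem p0r0 : allRange pointOk 22 0 9 = true := by decide +kernel
theorem p0u0 : ∀ k, 0 ≤ k → k < 9 → pointOk (k * 22) = true := between_extend pointOk 22 0 0 9 (between_start pointOk 22 0) p0r0

theorem p0r1 : allRange pointOk 22 9 9 = true := by decide +kernel
theorem p0u1 : ∀ k, 0 ≤ k → k < 18 → pointOk (k * 22) = true := between_extend pointOk 22 0 9 9 (p0u0) p0r1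

theorem p0r2 : allRange pointOk 22 18 9 = true := by decide +kernel
theorem p0u2 : ∀ k, 0 ≤ k → k < 27 → pointOk (k * 22) = true := between_extend pointOk 22 0 18 9 (p0u1) p0r2

theorem p0r3 : allRange pointOk 22 27 9 = true := by decide +kernel
theorem p0u3 : ∀ k, 0 ≤ k → k < 36 → pointOk (k * 22) = true := between_extend pointOk 22 0 27 9 (p0u2) p0r3

theorem p0r4 : allRange pointOk 22 36 9 = true := by decide +kernel
theorem p0u4 : ∀ k, 0 ≤ k → k < 45 → pointOk (k * 22) = true := between_extend pointOk 22 0 36 9 (p0u3) p0r4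

theorem p0r5 : allRange pointOk 22 45 9 = true := by decide +kernel
theorem p0u5 : ∀ k, 0 ≤ k → k < 54 → pointOk (k * 22) = true := between_extend pointOk 22 0 45 9 (p0u4) p0r5

theorem p0r6 : allRange pointOk 22 54 9 = true := by decide +kernel
theorem p0u6 : ∀ k, 0 ≤ k → k < 63 → pointOk (k * 22) = true := between_extend pointOk 22 0 54 9 (p0u5) p0r6

theorem p0r7 : allRange pointOk 22 63 9 = true := by decide +kernel
theorem p0u7 : ∀ k, 0 ≤ k → k < 72 → pointOk (k * 22) = true := between_extend pointOk 22 0 63 9 (p0u6) p0r7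

theorem p0r8 : allRange pointOk 22 72 9 = true := by decide +kernel
theorem p0u8 : ∀ k, 0 ≤ k → k < 81 → pointOk (k * 22) = true := between_extend pointOk 22 0 72 9 (p0u7) p0r8

theorem p0r9 : allRange pointOk 22 81 9 = true := by decide +kernel
theorem p0u9 : ∀ k, 0 ≤ k → k < 90 → pointOk (k * 22) = true := between_extend pointOk 22 0 81 9 (p0u8) p0r9

theorem p0r10 : allRange pointOk 22 90 9 = true := by decide +kernel
theorem p0u10 : ∀ k, 0 ≤ k → k < 99 → pointOk (k * 22) = true := between_extend pointOk 22 0 90 9 (p0u9) p0r10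

theorem p0r11 : allRange pointOk 22 99 9 = true := by decide +kernel
theorem p0u11 : ∀ k, 0 ≤ k → k < 108 → pointOk (k * 22) = true := between_extend pointOk 22 0 99 9 (p0u10) p0r11

theorem p0r12 : allRange pointOk 22 108 9 = true := by decide +kernel
theorem p0u12 : ∀ k, 0 ≤ k → k < 117 → pointOk (k * 22) = true := between_extend pointOk 22 0 108 9 (p0u11) p0r12

theorem p0r13 : allRange pointOk 22 117 9 = true := by decide +kernel
theorem p0u13 : ∀ k, 0 ≤ k → k < 126 → pointOk (k * 22) = true := between_extend pointOk 22 0 117 9 (p0u12) p0r13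

theorem p0r14 : allRange pointOk 22 126 9 = true := by decide +kernel
theorem p0u14 : ∀ k, 0 ≤ k → k < 135 → pointOk (k * 22) = true := between_extend pointOk 22 0 126 9 (p0u13) p0r14

theorem p0r15 : allRange pointOk 22 135 9 = true := by decide +kernel
theorem p0u15 : ∀ k, 0 ≤ k → k < 144 → pointOk (k * 22) = true := between_extend pointOk 22 0 135 9 (p0u14) p0r15

theorem p0r16 : allRange pointOk 22 144 9 = true := by decide +kernel
theorem p0u16 : ∀ k, 0 ≤ k → k < 153 → pointOk (k * 22) = true := between_extend pointOk 22 0 144 9 (p0u15) p0r16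

theorem p0r17 : allRange pointOk 22 153 9 = true := by decide +kernel
theorem p0u17 : ∀ k, 0 ≤ k → k < 162 → pointOk (k * 22) = true := between_extend pointOk 22 0 153 9 (p0u16) p0r17

theorem p0r18 : allRange pointOk 22 162 9 = true := by decide +kernel
theorem p0u18 : ∀ k, 0 ≤ k → k < 171 → pointOk (k * 22) = true := between_extend pointOk 22 0 162 9 (p0u17) p0r18

theorem p0r19 : allRange pointOk 22 171 9 = true := by decide +kernel
theorem p0u19 : ∀ k, 0 ≤ k → k < 180 → pointOk (k * 22) = true := between_extend pointOk 22 0 171 9 (p0u18) p0r19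

theorem p0r20 : allRange pointOk 22 180 9 = true := by decide +kernel
theorem p0u20 : ∀ k, 0 ≤ k → k < 189 → pointOk (k * 22) = true := between_extend pointOk 22 0 180 9 (p0u19) p0r20

theorem p0r21 : allRange pointOk 22 189 9 = true := by decide +kernel
theorem p0u21 : ∀ k, 0 ≤ k → k < 198 → pointOk (k * 22) = true := between_extend pointOk 22 0 189 9 (p0u20) p0r21

theorem p0r22 : allRange pointOk 22 198 9 = true := by decide +kernel
theorem p0u22 : ∀ k, 0 ≤ k → k < 207 → pointOk (k * 22) = true := between_extend pointOk 22 0 198 9 (p0u21) p0r22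

theorem p0r23 : allRange pointOk 22 207 9 = true := by decide +kernel
theorem p0u23 : ∀ k, 0 ≤ k → k < 216 → pointOk (k * 22) = true := between_extend pointOk 22 0 207 9 (p0u22) p0r23

theorem p0r24 : allRange pointOk 22 216 9 = true := by decide +kernel
theorem p0u24 : ∀ k, 0 ≤ k → k < 225 → pointOk (k * 22) = true := between_extend pointOk 22 0 216 9 (p0u23) p0r24

theorem p0r25 : allRange pointOk 22 225 9 = true := by decide +kernel
theorem p0u25 : ∀ k, 0 ≤ k → k < 234 → pointOk (k * 22) = true := between_extend pointOk 22 0 225 9 (p0u24) p0r25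

theorem p0r26 : allRange pointOk 22 234 9 = true := by decide +kernel
theorem p0u26 : ∀ k, 0 ≤ k → k < 243 → pointOk (k * 22) = true := between_extend pointOk 22 0 234 9 (p0u25) p0r26

theorem p0r27 : allRange pointOk 22 243 9 = true := by decide +kernel
theorem p0u27 : ∀ k, 0 ≤ k → k < 252 → pointOk (k * 22) = true := between_extend pointOk 22 0 243 9 (p0u26) p0r27

theorem p0r28 : allRange pointOk 22 252 9 = true := by decide +kernel
theorem p0u28 : ∀ k, 0 ≤ k → k < 261 → pointOk (k * 22) = true := between_extend pointOk 22 0 252 9 (p0u27) p0r28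

theorem p0r29 : allRange pointOk 22 261 9 = true := by decide +kernel
theorem p0u29 : ∀ k, 0 ≤ k → k < 270 → pointOk (k * 22) = true := between_extend pointOk 22 0 261 9 (p0u28) p0r29

theorem p0r30 : allRange pointOk 22 270 9 = true := by decide +kernel
theorem p0u30 : ∀ k, 0 ≤ k → k < 279 → pointOk (k * 22) = true := between_extend pointOk 22 0 270 9 (p0u29) p0r30

theorem p0r31 : allRange pointOk 22 279 9 = true := by decide +kernel
theorem p0u31 : ∀ k, 0 ≤ k → k < 288 → pointOk (k * 22) = true := between_extend pointOk 22 0 279 9 (p0u30) p0r31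

theorem p0r32 : allRange pointOk 22 288 9 = true := by decide +kernel
theorem p0u32 : ∀ k, 0 ≤ k → k < 297 → pointOk (k * 22) = true := between_extend pointOk 22 0 288 9 (p0u31) p0r32

theorem p0r33 : allRange pointOk 22 297 9 = true := by decide +kernel
theorem p0u33 : ∀ k, 0 ≤ k → k < 306 → pointOk (k * 22) = true := between_extend pointOk 22 0 297 9 (p0u32) p0r33

theorem p0r34 : allRange pointOk 22 306 9 = true := by decide +kernel
theorem p0u34 : ∀ k, 0 ≤ k → k < 315 → pointOk (k * 22) = true := between_extend pointOk 22 0 306 9 (p0u33) p0r34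

theorem p0r35 : allRange pointOk 22 315 9 = true := by decide +kernel
theorem p0u35 : ∀ k, 0 ≤ k → k < 324 → pointOk (k * 22) = true := between_extend pointOk 22 0 315 9 (p0u34) p0r35

theorem p0r36 : allRange pointOk 22 324 9 = true := by decide +kernel
theorem p0u36 : ∀ k, 0 ≤ k → k < 333 → pointOk (k * 22) = true := between_extend pointOk 22 0 324 9 (p0u35) p0r36

theorem p0r37 : allRange pointOk 22 333 9 = true := by decide +kernel
theorem p0u37 : ∀ k, 0 ≤ k → k < 342 → pointOk (k * 22) = true := between_extend pointOk 22 0 333 9 (p0u36) p0r37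

theorem p0r38 : allRange pointOk 22 342 9 = true := by decide +kernel
theorem p0u38 : ∀ k, 0 ≤ k → k < 351 → pointOk (k * 22) = true := between_extend pointOk 22 0 342 9 (p0u37) p0r38

theorem p0r39 : allRange pointOk 22 351 9 = true := by decide +kernel
theorem p0u39 : ∀ k, 0 ≤ k → k < 360 → pointOk (k * 22) = true := between_extend pointOk 22 0 351 9 (p0u38) p0r39

theorem p0r40 : allRange pointOk 22 360 9 = true := by decide +kernel
theorem p0u40 : ∀ k, 0 ≤ k → k < 369 → pointOk (k * 22) = true := between_extend pointOk 22 0 360 9 (p0u39) p0r40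

theorem p0r41 : allRange pointOk 22 369 9 = true := by decide +kernel
theorem p0u41 : ∀ k, 0 ≤ k → k < 378 → pointOk (k * 22) = true := between_extend pointOk 22 0 369 9 (p0u40) p0r41

theorem p0r42 : allRange pointOk 22 378 9 = true := by decide +kernel
theorem p0u42 : ∀ k, 0 ≤ k → k < 387 → pointOk (k * 22) = true := between_extend pointOk 22 0 378 9 (p0u41) p0r42

theorem p0r43 : allRange pointOk 22 387 9 = true := by decide +kernel
theorem p0u43 : ∀ k, 0 ≤ k → k < 396 → pointOk (k * 22) = true := between_extend pointOk 22 0 387 9 (p0u42) p0r43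

theorem p0r44 : allRange pointOk 22 396 9 = true := by decide +kernel
theorem p0u44 : ∀ k, 0 ≤ k → k < 405 → pointOk (k * 22) = true := between_extend pointOk 22 0 396 9 (p0u43) p0r44

theorem p0r45 : allRange pointOk 22 405 9 = true := by decide +kernel
theorem p0u45 : ∀ k, 0 ≤ k → k < 414 → pointOk (k * 22) = true := between_extend pointOk 22 0 405 9 (p0u44) p0r45

theorem p0r46 : allRange pointOk 22 414 9 = true := by decide +kernel
theorem p0u46 : ∀ k, 0 ≤ k → k < 423 → pointOk (k * 22) = true := between_extend pointOk 22 0 414 9 (p0u45) p0r46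

theorem p0r47 : allRange pointOk 22 423 9 = true := by decide +kernel
theorem p0u47 : ∀ k, 0 ≤ k → k < 432 → pointOk (k * 22) = true := between_extend pointOk 22 0 423 9 (p0u46) p0r47

theorem p0r48 : allRange pointOk 22 432 9 = true := by decide +kernel
theorem p0u48 : ∀ k, 0 ≤ k → k < 441 → pointOk (k * 22) = true := between_extend pointOk 22 0 432 9 (p0u47) p0r48

theorem p0r49 : allRange pointOk 22 441 9 = true := by decide +kernel
theorem p0u49 : ∀ k, 0 ≤ k → k < 450 → pointOk (k * 22) = true := between_extend pointOk 22 0 441 9 (p0u48) p0r49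

theorem p0r50 : allRange pointOk 22 450 9 = true := by decide +kernel
theorem p0u50 : ∀ k, 0 ≤ k → k < 459 → pointOk (k * 22) = true := between_extend pointOk 22 0 450 9 (p0u49) p0r50

theorem p0r51 : allRange pointOk 22 459 9 = true := by decide +kernel
theorem p0u51 : ∀ k, 0 ≤ k → k < 468 → pointOk (k * 22) = true := between_extend pointOk 22 0 459 9 (p0u50) p0r51

theorem p0r52 : allRange pointOk 22 468 9 = true := by decide +kernel
theorem p0u52 : ∀ k, 0 ≤ k → k < 477 → pointOk (k * 22) = true := between_extend pointOk 22 0 468 9 (p0u51) p0r52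

theorem p0r53 : allRange pointOk 22 477 9 = true := by decide +kernel
theorem p0u53 : ∀ k, 0 ≤ k → k < 486 → pointOk (k * 22) = true := between_extend pointOk 22 0 477 9 (p0u52) p0r53

theorem p0r54 : allRange pointOk 22 486 9 = true := by decide +kernel
theorem p0u54 : ∀ k, 0 ≤ k → k < 495 → pointOk (k * 22) = true := between_extend pointOk 22 0 486 9 (p0u53) p0r54

theorem p0r55 : allRange pointOk 22 495 9 = true := by decide +kernel
theorem p0u55 : ∀ k, 0 ≤ k → k < 504 → pointOk (k * 22) = true := between_extend pointOk 22 0 495 9 (p0u54) p0r55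

theorem p0r56 : allRange pointOk 22 504 9 = true := by decide +kernel
theorem p0u56 : ∀ k, 0 ≤ k → k < 513 → pointOk (k * 22) = true := between_extend pointOk 22 0 504 9 (p0u55) p0r56

theorem p0r57 : allRange pointOk 22 513 9 = true := by decide +kernel
theorem p0u57 : ∀ k, 0 ≤ k → k < 522 → pointOk (k * 22) = true := between_extend pointOk 22 0 513 9 (p0u56) p0r57

theorem p0r58 : allRange pointOk 22 522 9 = true := by decide +kernel
theorem p0u58 : ∀ k, 0 ≤ k → k < 531 → pointOk (k * 22) = true := between_extend pointOk 22 0 522 9 (p0u57) p0r58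

theorem p0r59 : allRange pointOk 22 531 9 = true := by decide +kernel
theorem p0u59 : ∀ k, 0 ≤ k → k < 540 → pointOk (k * 22) = true := between_extend pointOk 22 0 531 9 (p0u58) p0r59

theorem p0r60 : allRange pointOk 22 540 9 = true := by decide +kernel
theorem p0u60 : ∀ k, 0 ≤ k → k < 549 → pointOk (k * 22) = true := between_extend pointOk 22 0 540 9 (p0u59) p0r60

theorem p0r61 : allRange pointOk 22 549 9 = true := by decide +kernel
theorem p0u61 : ∀ k, 0 ≤ k → k < 558 → pointOk (k * 22) = true := between_extend pointOk 22 0 549 9 (p0u60) p0r61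

theorem p0r62 : allRange pointOk 22 558 9 = true := by decide +kernel
theorem p0u62 : ∀ k, 0 ≤ k → k < 567 → pointOk (k * 22) = true := between_extend pointOk 22 0 558 9 (p0u61) p0r62

theorem p0r63 : allRange pointOk 22 567 9 = true := by decide +kernel
theorem p0u63 : ∀ k, 0 ≤ k → k < 576 → pointOk (k * 22) = true := between_extend pointOk 22 0 567 9 (p0u62) p0r63

theorem p0r64 : allRange pointOk 22 576 9 = true := by decide +kernel
theorem p0u64 : ∀ k, 0 ≤ k → k < 585 → pointOk (k * 22) = true := between_extend pointOk 22 0 576 9 (p0u63) p0r64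

theorem p0r65 : allRange pointOk 22 585 9 = true := by decide +kernel
theorem p0u65 : ∀ k, 0 ≤ k → k < 594 → pointOk (k * 22) = true := between_extend pointOk 22 0 585 9 (p0u64) p0r65

theorem p0r66 : allRange pointOk 22 594 9 = true := by decide +kernel
theorem p0u66 : ∀ k, 0 ≤ k → k < 603 → pointOk (k * 22) = true := between_extend pointOk 22 0 594 9 (p0u65) p0r66

theorem p0r67 : allRange pointOk 22 603 9 = true := by decide +kernel
theorem p0u67 : ∀ k, 0 ≤ k → k < 612 → pointOk (k * 22) = true := between_extend pointOk 22 0 603 9 (p0u66) p0r67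

theorem p0r68 : allRange pointOk 22 612 9 = true := by decide +kernel
theorem p0u68 : ∀ k, 0 ≤ k → k < 621 → pointOk (k * 22) = true := between_extend pointOk 22 0 612 9 (p0u67) p0r68

theorem p0r69 : allRange pointOk 22 621 9 = true := by decide +kernel
theorem p0u69 : ∀ k, 0 ≤ k → k < 630 → pointOk (k * 22) = true := between_extend pointOk 22 0 621 9 (p0u68) p0r69

theorem p0r70 : allRange pointOk 22 630 9 = true := by decide +kernel
theorem p0u70 : ∀ k, 0 ≤ k → k < 639 → pointOk (k * 22) = true := between_extend pointOk 22 0 630 9 (p0u69) p0r70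

theorem p0r71 : allRange pointOk 22 639 9 = true := by decide +kernel
theorem p0u71 : ∀ k, 0 ≤ k → k < 648 → pointOk (k * 22) = true := between_extend pointOk 22 0 639 9 (p0u70) p0r71

theorem p0r72 : allRange pointOk 22 648 9 = true := by decide +kernel
theorem p0u72 : ∀ k, 0 ≤ k → k < 657 → pointOk (k * 22) = true := between_extend pointOk 22 0 648 9 (p0u71) p0r72

theorem p0r73 : allRange pointOk 22 657 9 = true := by decide +kernel
theorem p0u73 : ∀ k, 0 ≤ k → k < 666 → pointOk (k * 22) = true := between_extend pointOk 22 0 657 9 (p0u72) p0r73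

theorem p0r74 : allRange pointOk 22 666 9 = true := by decide +kernel
theorem p0u74 : ∀ k, 0 ≤ k → k < 675 → pointOk (k * 22) = true := between_extend pointOk 22 0 666 9 (p0u73) p0r74

theorem p0r75 : allRange pointOk 22 675 9 = true := by decide +kernel
theorem p0u75 : ∀ k, 0 ≤ k → k < 684 → pointOk (k * 22) = true := between_extend pointOk 22 0 675 9 (p0u74) p0r75

theorem p0r76 : allRange pointOk 22 684 9 = true := by decide +kernel
theorem p0u76 : ∀ k, 0 ≤ k → k < 693 → pointOk (k * 22) = true := between_extend pointOk 22 0 684 9 (p0u75) p0r76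

theorem p0r77 : allRange pointOk 22 693 9 = true := by decide +kernel
theorem p0u77 : ∀ k, 0 ≤ k → k < 702 → pointOk (k * 22) = true := between_extend pointOk 22 0 693 9 (p0u76) p0r77

theorem p0r78 : allRange pointOk 22 702 9 = true := by decide +kernel
theorem p0u78 : ∀ k, 0 ≤ k → k < 711 → pointOk (k * 22) = true := between_extend pointOk 22 0 702 9 (p0u77) p0r78

theorem p0r79 : allRange pointOk 22 711 9 = true := by decide +kernel
theorem p0u79 : ∀ k, 0 ≤ k → k < 720 → pointOk (k * 22) = true := between_extend pointOk 22 0 711 9 (p0u78) p0r79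

theorem p0r80 : allRange pointOk 22 720 9 = true := by decide +kernel
theorem p0u80 : ∀ k, 0 ≤ k → k < 729 → pointOk (k * 22) = true := between_extend pointOk 22 0 720 9 (p0u79) p0r80

theorem p0r81 : allRange pointOk 22 729 9 = true := by decide +kernel
theorem p0u81 : ∀ k, 0 ≤ k → k < 738 → pointOk (k * 22) = true := between_extend pointOk 22 0 729 9 (p0u80) p0r81

theorem p0r82 : allRange pointOk 22 738 9 = true := by decide +kernel
theorem p0u82 : ∀ k, 0 ≤ k → k < 747 → pointOk (k * 22) = true := between_extend pointOk 22 0 738 9 (p0u81) p0r82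

theorem p0r83 : allRange pointOk 22 747 9 = true := by decide +kernel
theorem p0u83 : ∀ k, 0 ≤ k → k < 756 → pointOk (k * 22) = true := between_extend pointOk 22 0 747 9 (p0u82) p0r83

theorem p0r84 : allRange pointOk 22 756 9 = true := by decide +kernel
theorem p0u84 : ∀ k, 0 ≤ k → k < 765 → pointOk (k * 22) = true := between_extend pointOk 22 0 756 9 (p0u83) p0r84

theorem p0r85 : allRange pointOk 22 765 9 = true := by decide +kernel
theorem p0u85 : ∀ k, 0 ≤ k → k < 774 → pointOk (k * 22) = true := between_extend pointOk 22 0 765 9 (p0u84) p0r85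

theorem p0r86 : allRange pointOk 22 774 9 = true := by decide +kernel
theorem p0u86 : ∀ k, 0 ≤ k → k < 783 → pointOk (k * 22) = true := between_extend pointOk 22 0 774 9 (p0u85) p0r86

theorem p0r87 : allRange pointOk 22 783 9 = true := by decide +kernel
theorem p0u87 : ∀ k, 0 ≤ k → k < 792 → pointOk (k * 22) = true := between_extend pointOk 22 0 783 9 (p0u86) p0r87

theorem p0r88 : allRange pointOk 22 792 9 = true := by decide +kernel
theorem p0u88 : ∀ k, 0 ≤ k → k < 801 → pointOk (k * 22) = true := between_extend pointOk 22 0 792 9 (p0u87) p0r88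

theorem p0r89 : allRange pointOk 22 801 9 = true := by decide +kernel
theorem p0u89 : ∀ k, 0 ≤ k → k < 810 → pointOk (k * 22) = true := between_extend pointOk 22 0 801 9 (p0u88) p0r89

theorem p0r90 : allRange pointOk 22 810 9 = true := by decide +kernel
theorem p0u90 : ∀ k, 0 ≤ k → k < 819 → pointOk (k * 22) = true := between_extend pointOk 22 0 810 9 (p0u89) p0r90

theorem p0r91 : allRange pointOk 22 819 9 = true := by decide +kernel
theorem p0u91 : ∀ k, 0 ≤ k → k < 828 → pointOk (k * 22) = true := between_extend pointOk 22 0 819 9 (p0u90) p0r91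

theorem p0r92 : allRange pointOk 22 828 9 = true := by decide +kernel
theorem p0u92 : ∀ k, 0 ≤ k → k < 837 → pointOk (k * 22) = true := between_extend pointOk 22 0 828 9 (p0u91) p0r92

theorem p0r93 : allRange pointOk 22 837 9 = true := by decide +kernel
theorem p0u93 : ∀ k, 0 ≤ k → k < 846 → pointOk (k * 22) = true := between_extend pointOk 22 0 837 9 (p0u92) p0r93

theorem p0r94 : allRange pointOk 22 846 9 = true := by decide +kernel
theorem p0u94 : ∀ k, 0 ≤ k → k < 855 → pointOk (k * 22) = true := between_extend pointOk 22 0 846 9 (p0u93) p0r94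

theorem p0r95 : allRange pointOk 22 855 9 = true := by decide +kernel
theorem p0u95 : ∀ k, 0 ≤ k → k < 864 → pointOk (k * 22) = true := between_extend pointOk 22 0 855 9 (p0u94) p0r95

theorem p0r96 : allRange pointOk 22 864 9 = true := by decide +kernel
theorem p0u96 : ∀ k, 0 ≤ k → k < 873 → pointOk (k * 22) = true := between_extend pointOk 22 0 864 9 (p0u95) p0r96

theorem p0r97 : allRange pointOk 22 873 9 = true := by decide +kernel
theorem p0u97 : ∀ k, 0 ≤ k → k < 882 → pointOk (k * 22) = true := between_extend pointOk 22 0 873 9 (p0u96) p0r97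

theorem p0r98 : allRange pointOk 22 882 9 = true := by decide +kernel
theorem p0u98 : ∀ k, 0 ≤ k → k < 891 → pointOk (k * 22) = true := between_extend pointOk 22 0 882 9 (p0u97) p0r98

theorem p0r99 : allRange pointOk 22 891 9 = true := by decide +kernel
theorem p0u99 : ∀ k, 0 ≤ k → k < 900 → pointOk (k * 22) = true := between_extend pointOk 22 0 891 9 (p0u98) p0r99

theorem p0r100 : allRange pointOk 22 900 9 = true := by decide +kernel
theorem p0u100 : ∀ k, 0 ≤ k → k < 909 → pointOk (k * 22) = true := between_extend pointOk 22 0 900 9 (p0u99) p0r100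

theorem p0r101 : allRange pointOk 22 909 9 = true := by decide +kernel
theorem p0u101 : ∀ k, 0 ≤ k → k < 918 → pointOk (k * 22) = true := between_extend pointOk 22 0 909 9 (p0u100) p0r101

theorem p0r102 : allRange pointOk 22 918 9 = true := by decide +kernel
theorem p0u102 : ∀ k, 0 ≤ k → k < 927 → pointOk (k * 22) = true := between_extend pointOk 22 0 918 9 (p0u101) p0r102

theorem p0r103 : allRange pointOk 22 927 9 = true := by decide +kernel
theorem p0u103 : ∀ k, 0 ≤ k → k < 936 → pointOk (k * 22) = true := between_extend pointOk 22 0 927 9 (p0u102) p0r103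

theorem p0r104 : allRange pointOk 22 936 9 = true := by decide +kernel
theorem p0u104 : ∀ k, 0 ≤ k → k < 945 → pointOk (k * 22) = true := between_extend pointOk 22 0 936 9 (p0u103) p0r104

theorem p0r105 : allRange pointOk 22 945 9 = true := by decide +kernel
theorem p0u105 : ∀ k, 0 ≤ k → k < 954 → pointOk (k * 22) = true := between_extend pointOk 22 0 945 9 (p0u104) p0r105

theorem p0r106 : allRange pointOk 22 954 9 = true := by decide +kernel
theorem p0u106 : ∀ k, 0 ≤ k → k < 963 → pointOk (k * 22) = true := between_extend pointOk 22 0 954 9 (p0u105) p0r106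

theorem p0r107 : allRange pointOk 22 963 9 = true := by decide +kernel
theorem p0u107 : ∀ k, 0 ≤ k → k < 972 → pointOk (k * 22) = true := between_extend pointOk 22 0 963 9 (p0u106) p0r107

theorem p0r108 : allRange pointOk 22 972 9 = true := by decide +kernel
theorem p0u108 : ∀ k, 0 ≤ k → k < 981 → pointOk (k * 22) = true := between_extend pointOk 22 0 972 9 (p0u107) p0r108

theorem p0r109 : allRange pointOk 22 981 9 = true := by decide +kernel
theorem p0u109 : ∀ k, 0 ≤ k → k < 990 → pointOk (k * 22) = true := between_extend pointOk 22 0 981 9 (p0u108) p0r109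

theorem p0r110 : allRange pointOk 22 990 9 = true := by decide +kernel
theorem p0u110 : ∀ k, 0 ≤ k → k < 999 → pointOk (k * 22) = true := between_extend pointOk 22 0 990 9 (p0u109) p0r110

theorem p0r111 : allRange pointOk 22 999 9 = true := by decide +kernel
theorem p0u111 : ∀ k, 0 ≤ k → k < 1008 → pointOk (k * 22) = true := between_extend pointOk 22 0 999 9 (p0u110) p0r111

theorem p0r112 : allRange pointOk 22 1008 9 = true := by decide +kernel
theorem p0u112 : ∀ k, 0 ≤ k → k < 1017 → pointOk (k * 22) = true := between_extend pointOk 22 0 1008 9 (p0u111) p0r112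

theorem p0r113 : allRange pointOk 22 1017 9 = true := by decide +kernel
theorem p0u113 : ∀ k, 0 ≤ k → k < 1026 → pointOk (k * 22) = true := between_extend pointOk 22 0 1017 9 (p0u112) p0r113

theorem p0r114 : allRange pointOk 22 1026 9 = true := by decide +kernel
theorem p0u114 : ∀ k, 0 ≤ k → k < 1035 → pointOk (k * 22) = true := between_extend pointOk 22 0 1026 9 (p0u113) p0r114

theorem p0r115 : allRange pointOk 22 1035 9 = true := by decide +kernel
theorem p0u115 : ∀ k, 0 ≤ k → k < 1044 → pointOk (k * 22) = true := between_extend pointOk 22 0 1035 9 (p0u114) p0r115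

theorem p0r116 : allRange pointOk 22 1044 9 = true := by decide +kernel
theorem p0u116 : ∀ k, 0 ≤ k → k < 1053 → pointOk (k * 22) = true := between_extend pointOk 22 0 1044 9 (p0u115) p0r116

theorem p0r117 : allRange pointOk 22 1053 9 = true := by decide +kernel
theorem p0u117 : ∀ k, 0 ≤ k → k < 1062 → pointOk (k * 22) = true := between_extend pointOk 22 0 1053 9 (p0u116) p0r117

theorem p0r118 : allRange pointOk 22 1062 9 = true := by decide +kernel
theorem p0u118 : ∀ k, 0 ≤ k → k < 1071 → pointOk (k * 22) = true := between_extend pointOk 22 0 1062 9 (p0u117) p0r118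

theorem p0r119 : allRange pointOk 22 1071 9 = true := by decide +kernel
theorem p0u119 : ∀ k, 0 ≤ k → k < 1080 → pointOk (k * 22) = true := between_extend pointOk 22 0 1071 9 (p0u118) p0r119

theorem p0r120 : allRange pointOk 22 1080 9 = true := by decide +kernel
theorem p0u120 : ∀ k, 0 ≤ k → k < 1089 → pointOk (k * 22) = true := between_extend pointOk 22 0 1080 9 (p0u119) p0r120

theorem p0r121 : allRange pointOk 22 1089 9 = true := by decide +kernel
theorem p0u121 : ∀ k, 0 ≤ k → k < 1098 → pointOk (k * 22) = true := between_extend pointOk 22 0 1089 9 (p0u120) p0r121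

theorem p0r122 : allRange pointOk 22 1098 9 = true := by decide +kernel
theorem p0u122 : ∀ k, 0 ≤ k → k < 1107 → pointOk (k * 22) = true := between_extend pointOk 22 0 1098 9 (p0u121) p0r122

theorem p0r123 : allRange pointOk 22 1107 9 = true := by decide +kernel
theorem p0u123 : ∀ k, 0 ≤ k → k < 1116 → pointOk (k * 22) = true := between_extend pointOk 22 0 1107 9 (p0u122) p0r123

theorem p0r124 : allRange pointOk 22 1116 9 = true := by decide +kernel
theorem p0u124 : ∀ k, 0 ≤ k → k < 1125 → pointOk (k * 22) = true := between_extend pointOk 22 0 1116 9 (p0u123) p0r124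

theorem p0r125 : allRange pointOk 22 1125 9 = true := by decide +kernel
theorem p0u125 : ∀ k, 0 ≤ k → k < 1134 → pointOk (k * 22) = true := between_extend pointOk 22 0 1125 9 (p0u124) p0r125

theorem p0r126 : allRange pointOk 22 1134 9 = true := by decide +kernel
theorem p0u126 : ∀ k, 0 ≤ k → k < 1143 → pointOk (k * 22) = true := between_extend pointOk 22 0 1134 9 (p0u125) p0r126

theorem p0r127 : allRange pointOk 22 1143 9 = true := by decide +kernel
theorem p0u127 : ∀ k, 0 ≤ k → k < 1152 → pointOk (k * 22) = true := between_extend pointOk 22 0 1143 9 (p0u126) p0r127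

theorem p0r128 : allRange pointOk 22 1152 9 = true := by decide +kernel
theorem p0u128 : ∀ k, 0 ≤ k → k < 1161 → pointOk (k * 22) = true := between_extend pointOk 22 0 1152 9 (p0u127) p0r128

theorem p0r129 : allRange pointOk 22 1161 9 = true := by decide +kernel
theorem p0u129 : ∀ k, 0 ≤ k → k < 1170 → pointOk (k * 22) = true := between_extend pointOk 22 0 1161 9 (p0u128) p0r129

theorem p0r130 : allRange pointOk 22 1170 9 = true := by decide +kernel
theorem p0u130 : ∀ k, 0 ≤ k → k < 1179 → pointOk (k * 22) = true := between_extend pointOk 22 0 1170 9 (p0u129) p0r130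

theorem p0r131 : allRange pointOk 22 1179 9 = true := by decide +kernel
theorem p0u131 : ∀ k, 0 ≤ k → k < 1188 → pointOk (k * 22) = true := between_extend pointOk 22 0 1179 9 (p0u130) p0r131

theorem p0r132 : allRange pointOk 22 1188 9 = true := by decide +kernel
theorem p0u132 : ∀ k, 0 ≤ k → k < 1197 → pointOk (k * 22) = true := between_extend pointOk 22 0 1188 9 (p0u131) p0r132

theorem p0r133 : allRange pointOk 22 1197 9 = true := by decide +kernel
theorem p0u133 : ∀ k, 0 ≤ k → k < 1206 → pointOk (k * 22) = true := between_extend pointOk 22 0 1197 9 (p0u132) p0r133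

theorem p0r134 : allRange pointOk 22 1206 9 = true := by decide +kernel
theorem p0u134 : ∀ k, 0 ≤ k → k < 1215 → pointOk (k * 22) = true := between_extend pointOk 22 0 1206 9 (p0u133) p0r134

theorem p0r135 : allRange pointOk 22 1215 9 = true := by decide +kernel
theorem p0u135 : ∀ k, 0 ≤ k → k < 1224 → pointOk (k * 22) = true := between_extend pointOk 22 0 1215 9 (p0u134) p0r135

theorem p0r136 : allRange pointOk 22 1224 9 = true := by decide +kernel
theorem p0u136 : ∀ k, 0 ≤ k → k < 1233 → pointOk (k * 22) = true := between_extend pointOk 22 0 1224 9 (p0u135) p0r136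

theorem p0r137 : allRange pointOk 22 1233 9 = true := by decide +kernel
theorem p0u137 : ∀ k, 0 ≤ k → k < 1242 → pointOk (k * 22) = true := between_extend pointOk 22 0 1233 9 (p0u136) p0r137

theorem p0r138 : allRange pointOk 22 1242 9 = true := by decide +kernel
theorem p0u138 : ∀ k, 0 ≤ k → k < 1251 → pointOk (k * 22) = true := between_extend pointOk 22 0 1242 9 (p0u137) p0r138

theorem p0r139 : allRange pointOk 22 1251 9 = true := by decide +kernel
theorem p0u139 : ∀ k, 0 ≤ k → k < 1260 → pointOk (k * 22) = true := between_extend pointOk 22 0 1251 9 (p0u138) p0r139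

theorem p0r140 : allRange pointOk 22 1260 9 = true := by decide +kernel
theorem p0u140 : ∀ k, 0 ≤ k → k < 1269 → pointOk (k * 22) = true := between_extend pointOk 22 0 1260 9 (p0u139) p0r140

theorem p0r141 : allRange pointOk 22 1269 9 = true := by decide +kernel
theorem p0u141 : ∀ k, 0 ≤ k → k < 1278 → pointOk (k * 22) = true := between_extend pointOk 22 0 1269 9 (p0u140) p0r141

theorem p0r142 : allRange pointOk 22 1278 9 = true := by decide +kernel
theorem p0u142 : ∀ k, 0 ≤ k → k < 1287 → pointOk (k * 22) = true := between_extend pointOk 22 0 1278 9 (p0u141) p0r142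

theorem p0r143 : allRange pointOk 22 1287 9 = true := by decide +kernel
theorem p0u143 : ∀ k, 0 ≤ k → k < 1296 → pointOk (k * 22) = true := between_extend pointOk 22 0 1287 9 (p0u142) p0r143

theorem p0r144 : allRange pointOk 22 1296 9 = true := by decide +kernel
theorem p0u144 : ∀ k, 0 ≤ k → k < 1305 → pointOk (k * 22) = true := between_extend pointOk 22 0 1296 9 (p0u143) p0r144

theorem p0r145 : allRange pointOk 22 1305 9 = true := by decide +kernel
theorem p0u145 : ∀ k, 0 ≤ k → k < 1314 → pointOk (k * 22) = true := between_extend pointOk 22 0 1305 9 (p0u144) p0r145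

theorem p0r146 : allRange pointOk 22 1314 9 = true := by decide +kernel
theorem p0u146 : ∀ k, 0 ≤ k → k < 1323 → pointOk (k * 22) = true := between_extend pointOk 22 0 1314 9 (p0u145) p0r146

theorem p0r147 : allRange pointOk 22 1323 9 = true := by decide +kernel
theorem p0u147 : ∀ k, 0 ≤ k → k < 1332 → pointOk (k * 22) = true := between_extend pointOk 22 0 1323 9 (p0u146) p0r147

theorem p0r148 : allRange pointOk 22 1332 9 = true := by decide +kernel
theorem p0u148 : ∀ k, 0 ≤ k → k < 1341 → pointOk (k * 22) = true := between_extend pointOk 22 0 1332 9 (p0u147) p0r148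

theorem p0r149 : allRange pointOk 22 1341 9 = true := by decide +kernel
theorem p0u149 : ∀ k, 0 ≤ k → k < 1350 → pointOk (k * 22) = true := between_extend pointOk 22 0 1341 9 (p0u148) p0r149

theorem p0r150 : allRange pointOk 22 1350 9 = true := by decide +kernel
theorem p0u150 : ∀ k, 0 ≤ k → k < 1359 → pointOk (k * 22) = true := between_extend pointOk 22 0 1350 9 (p0u149) p0r150

theorem p0r151 : allRange pointOk 22 1359 9 = true := by decide +kernel
theorem p0u151 : ∀ k, 0 ≤ k → k < 1368 → pointOk (k * 22) = true := between_extend pointOk 22 0 1359 9 (p0u150) p0r151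

theorem p0r152 : allRange pointOk 22 1368 9 = true := by decide +kernel
theorem p0u152 : ∀ k, 0 ≤ k → k < 1377 → pointOk (k * 22) = true := between_extend pointOk 22 0 1368 9 (p0u151) p0r152

theorem p0r153 : allRange pointOk 22 1377 9 = true := by decide +kernel
theorem p0u153 : ∀ k, 0 ≤ k → k < 1386 → pointOk (k * 22) = true := between_extend pointOk 22 0 1377 9 (p0u152) p0r153

theorem p0r154 : allRange pointOk 22 1386 9 = true := by decide +kernel
theorem p0u154 : ∀ k, 0 ≤ k → k < 1395 → pointOk (k * 22) = true := between_extend pointOk 22 0 1386 9 (p0u153) p0r154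

theorem p0r155 : allRange pointOk 22 1395 9 = true := by decide +kernel
theorem p0u155 : ∀ k, 0 ≤ k → k < 1404 → pointOk (k * 22) = true := between_extend pointOk 22 0 1395 9 (p0u154) p0r155

theorem p0r156 : allRange pointOk 22 1404 9 = true := by decide +kernel
theorem p0u156 : ∀ k, 0 ≤ k → k < 1413 → pointOk (k * 22) = true := between_extend pointOk 22 0 1404 9 (p0u155) p0r156

theorem p0r157 : allRange pointOk 22 1413 9 = true := by decide +kernel
theorem p0u157 : ∀ k, 0 ≤ k → k < 1422 → pointOk (k * 22) = true := between_extend pointOk 22 0 1413 9 (p0u156) p0r157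

theorem p0r158 : allRange pointOk 22 1422 9 = true := by decide +kernel
theorem p0u158 : ∀ k, 0 ≤ k → k < 1431 → pointOk (k * 22) = true := between_extend pointOk 22 0 1422 9 (p0u157) p0r158

theorem p0r159 : allRange pointOk 22 1431 9 = true := by decide +kernel
theorem p0u159 : ∀ k, 0 ≤ k → k < 1440 → pointOk (k * 22) = true := between_extend pointOk 22 0 1431 9 (p0u158) p0r159

theorem p0r160 : allRange pointOk 22 1440 9 = true := by decide +kernel
theorem p0u160 : ∀ k, 0 ≤ k → k < 1449 → pointOk (k * 22) = true := between_extend pointOk 22 0 1440 9 (p0u159) p0r160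

theorem p0r161 : allRange pointOk 22 1449 9 = true := by decide +kernel
theorem p0u161 : ∀ k, 0 ≤ k → k < 1458 → pointOk (k * 22) = true := between_extend pointOk 22 0 1449 9 (p0u160) p0r161

theorem p0r162 : allRange pointOk 22 1458 9 = true := by decide +kernel
theorem p0u162 : ∀ k, 0 ≤ k → k < 1467 → pointOk (k * 22) = true := between_extend pointOk 22 0 1458 9 (p0u161) p0r162

theorem p0r163 : allRange pointOk 22 1467 9 = true := by decide +kernel
theorem p0u163 : ∀ k, 0 ≤ k → k < 1476 → pointOk (k * 22) = true := between_extend pointOk 22 0 1467 9 (p0u162) p0r163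

theorem p0r164 : allRange pointOk 22 1476 9 = true := by decide +kernel
theorem p0u164 : ∀ k, 0 ≤ k → k < 1485 → pointOk (k * 22) = true := between_extend pointOk 22 0 1476 9 (p0u163) p0r164

theorem p0r165 : allRange pointOk 22 1485 9 = true := by decide +kernel
theorem p0u165 : ∀ k, 0 ≤ k → k < 1494 → pointOk (k * 22) = true := between_extend pointOk 22 0 1485 9 (p0u164) p0r165

theorem p0r166 : allRange pointOk 22 1494 9 = true := by decide +kernel
theorem p0u166 : ∀ k, 0 ≤ k → k < 1503 → pointOk (k * 22) = true := between_extend pointOk 22 0 1494 9 (p0u165) p0r166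

theorem p0r167 : allRange pointOk 22 1503 9 = true := by decide +kernel
theorem p0u167 : ∀ k, 0 ≤ k → k < 1512 → pointOk (k * 22) = true := between_extend pointOk 22 0 1503 9 (p0u166) p0r167

theorem p0r168 : allRange pointOk 22 1512 9 = true := by decide +kernel
theorem p0u168 : ∀ k, 0 ≤ k → k < 1521 → pointOk (k * 22) = true := between_extend pointOk 22 0 1512 9 (p0u167) p0r168

theorem p0r169 : allRange pointOk 22 1521 9 = true := by decide +kernel
theorem p0u169 : ∀ k, 0 ≤ k → k < 1530 → pointOk (k * 22) = true := between_extend pointOk 22 0 1521 9 (p0u168) p0r169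

theorem p0r170 : allRange pointOk 22 1530 9 = true := by decide +kernel
theorem p0u170 : ∀ k, 0 ≤ k → k < 1539 → pointOk (k * 22) = true := between_extend pointOk 22 0 1530 9 (p0u169) p0r170

theorem p0r171 : allRange pointOk 22 1539 9 = true := by decide +kernel
theorem p0u171 : ∀ k, 0 ≤ k → k < 1548 → pointOk (k * 22) = true := between_extend pointOk 22 0 1539 9 (p0u170) p0r171

theorem p0r172 : allRange pointOk 22 1548 9 = true := by decide +kernel
theorem p0u172 : ∀ k, 0 ≤ k → k < 1557 → pointOk (k * 22) = true := between_extend pointOk 22 0 1548 9 (p0u171) p0r172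

theorem p0r173 : allRange pointOk 22 1557 9 = true := by decide +kernel
theorem p0u173 : ∀ k, 0 ≤ k → k < 1566 → pointOk (k * 22) = true := between_extend pointOk 22 0 1557 9 (p0u172) p0r173

theorem p0r174 : allRange pointOk 22 1566 9 = true := by decide +kernel
theorem p0u174 : ∀ k, 0 ≤ k → k < 1575 → pointOk (k * 22) = true := between_extend pointOk 22 0 1566 9 (p0u173) p0r174

theorem p0r175 : allRange pointOk 22 1575 9 = true := by decide +kernel
theorem p0u175 : ∀ k, 0 ≤ k → k < 1584 → pointOk (k * 22) = true := between_extend pointOk 22 0 1575 9 (p0u174) p0r175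

theorem p0r176 : allRange pointOk 22 1584 9 = true := by decide +kernel
theorem p0u176 : ∀ k, 0 ≤ k → k < 1593 → pointOk (k * 22) = true := between_extend pointOk 22 0 1584 9 (p0u175) p0r176

theorem p0r177 : allRange pointOk 22 1593 9 = true := by decide +kernel
theorem p0u177 : ∀ k, 0 ≤ k → k < 1602 → pointOk (k * 22) = true := between_extend pointOk 22 0 1593 9 (p0u176) p0r177

theorem p0r178 : allRange pointOk 22 1602 9 = true := by decide +kernel
theorem p0u178 : ∀ k, 0 ≤ k → k < 1611 → pointOk (k * 22) = true := between_extend pointOk 22 0 1602 9 (p0u177) p0r178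

theorem p0r179 : allRange pointOk 22 1611 9 = true := by decide +kernel
theorem p0u179 : ∀ k, 0 ≤ k → k < 1620 → pointOk (k * 22) = true := between_extend pointOk 22 0 1611 9 (p0u178) p0r179

theorem p0r180 : allRange pointOk 22 1620 9 = true := by decide +kernel
theorem p0u180 : ∀ k, 0 ≤ k → k < 1629 → pointOk (k * 22) = true := between_extend pointOk 22 0 1620 9 (p0u179) p0r180

theorem p0r181 : allRange pointOk 22 1629 9 = true := by decide +kernel
theorem p0u181 : ∀ k, 0 ≤ k → k < 1638 → pointOk (k * 22) = true := between_extend pointOk 22 0 1629 9 (p0u180) p0r181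

theorem p0r182 : allRange pointOk 22 1638 9 = true := by decide +kernel
theorem p0u182 : ∀ k, 0 ≤ k → k < 1647 → pointOk (k * 22) = true := between_extend pointOk 22 0 1638 9 (p0u181) p0r182

theorem p0r183 : allRange pointOk 22 1647 9 = true := by decide +kernel
theorem p0u183 : ∀ k, 0 ≤ k → k < 1656 → pointOk (k * 22) = true := between_extend pointOk 22 0 1647 9 (p0u182) p0r183

theorem p0r184 : allRange pointOk 22 1656 9 = true := by decide +kernel
theorem p0u184 : ∀ k, 0 ≤ k → k < 1665 → pointOk (k * 22) = true := between_extend pointOk 22 0 1656 9 (p0u183) p0r184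

theorem p0r185 : allRange pointOk 22 1665 9 = true := by decide +kernel
theorem p0u185 : ∀ k, 0 ≤ k → k < 1674 → pointOk (k * 22) = true := between_extend pointOk 22 0 1665 9 (p0u184) p0r185

theorem p0r186 : allRange pointOk 22 1674 9 = true := by decide +kernel
theorem p0u186 : ∀ k, 0 ≤ k → k < 1683 → pointOk (k * 22) = true := between_extend pointOk 22 0 1674 9 (p0u185) p0r186

theorem p0r187 : allRange pointOk 22 1683 9 = true := by decide +kernel
theorem p0u187 : ∀ k, 0 ≤ k → k < 1692 → pointOk (k * 22) = true := between_extend pointOk 22 0 1683 9 (p0u186) p0r187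

theorem p0r188 : allRange pointOk 22 1692 9 = true := by decide +kernel
theorem p0u188 : ∀ k, 0 ≤ k → k < 1701 → pointOk (k * 22) = true := between_extend pointOk 22 0 1692 9 (p0u187) p0r188

theorem p0r189 : allRange pointOk 22 1701 9 = true := by decide +kernel
theorem p0u189 : ∀ k, 0 ≤ k → k < 1710 → pointOk (k * 22) = true := between_extend pointOk 22 0 1701 9 (p0u188) p0r189

theorem p0r190 : allRange pointOk 22 1710 9 = true := by decide +kernel
theorem p0u190 : ∀ k, 0 ≤ k → k < 1719 → pointOk (k * 22) = true := between_extend pointOk 22 0 1710 9 (p0u189) p0r190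

theorem p0r191 : allRange pointOk 22 1719 9 = true := by decide +kernel
theorem p0u191 : ∀ k, 0 ≤ k → k < 1728 → pointOk (k * 22) = true := between_extend pointOk 22 0 1719 9 (p0u190) p0r191

theorem p0r192 : allRange pointOk 22 1728 9 = true := by decide +kernel
theorem p0u192 : ∀ k, 0 ≤ k → k < 1737 → pointOk (k * 22) = true := between_extend pointOk 22 0 1728 9 (p0u191) p0r192

theorem p0r193 : allRange pointOk 22 1737 9 = true := by decide +kernel
theorem p0u193 : ∀ k, 0 ≤ k → k < 1746 → pointOk (k * 22) = true := between_extend pointOk 22 0 1737 9 (p0u192) p0r193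

theorem p0r194 : allRange pointOk 22 1746 9 = true := by decide +kernel
theorem p0u194 : ∀ k, 0 ≤ k → k < 1755 → pointOk (k * 22) = true := between_extend pointOk 22 0 1746 9 (p0u193) p0r194

theorem p0r195 : allRange pointOk 22 1755 9 = true := by decide +kernel
theorem p0u195 : ∀ k, 0 ≤ k → k < 1764 → pointOk (k * 22) = true := between_extend pointOk 22 0 1755 9 (p0u194) p0r195

theorem p0r196 : allRange pointOk 22 1764 9 = true := by decide +kernel
theorem p0u196 : ∀ k, 0 ≤ k → k < 1773 → pointOk (k * 22) = true := between_extend pointOk 22 0 1764 9 (p0u195) p0r196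

theorem p0r197 : allRange pointOk 22 1773 9 = true := by decide +kernel
theorem p0u197 : ∀ k, 0 ≤ k → k < 1782 → pointOk (k * 22) = true := between_extend pointOk 22 0 1773 9 (p0u196) p0r197

theorem p0r198 : allRange pointOk 22 1782 9 = true := by decide +kernel
theorem p0u198 : ∀ k, 0 ≤ k → k < 1791 → pointOk (k * 22) = true := between_extend pointOk 22 0 1782 9 (p0u197) p0r198

theorem p0r199 : allRange pointOk 22 1791 9 = true := by decide +kernel
theorem p0u199 : ∀ k, 0 ≤ k → k < 1800 → pointOk (k * 22) = true := between_extend pointOk 22 0 1791 9 (p0u198) p0r199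

theorem p0r200 : allRange pointOk 22 1800 9 = true := by decide +kernel
theorem p0u200 : ∀ k, 0 ≤ k → k < 1809 → pointOk (k * 22) = true := between_extend pointOk 22 0 1800 9 (p0u199) p0r200

theorem p0r201 : allRange pointOk 22 1809 9 = true := by decide +kernel
theorem p0u201 : ∀ k, 0 ≤ k → k < 1818 → pointOk (k * 22) = true := between_extend pointOk 22 0 1809 9 (p0u200) p0r201

theorem p0r202 : allRange pointOk 22 1818 9 = true := by decide +kernel
theorem p0u202 : ∀ k, 0 ≤ k → k < 1827 → pointOk (k * 22) = true := between_extend pointOk 22 0 1818 9 (p0u201) p0r202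

theorem p0r203 : allRange pointOk 22 1827 9 = true := by decide +kernel
theorem p0u203 : ∀ k, 0 ≤ k → k < 1836 → pointOk (k * 22) = true := between_extend pointOk 22 0 1827 9 (p0u202) p0r203

theorem p0r204 : allRange pointOk 22 1836 9 = true := by decide +kernel
theorem p0u204 : ∀ k, 0 ≤ k → k < 1845 → pointOk (k * 22) = true := between_extend pointOk 22 0 1836 9 (p0u203) p0r204

theorem p0r205 : allRange pointOk 22 1845 9 = true := by decide +kernel
theorem p0u205 : ∀ k, 0 ≤ k → k < 1854 → pointOk (k * 22) = true := between_extend pointOk 22 0 1845 9 (p0u204) p0r205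

theorem p0r206 : allRange pointOk 22 1854 9 = true := by decide +kernel
theorem p0u206 : ∀ k, 0 ≤ k → k < 1863 → pointOk (k * 22) = true := between_extend pointOk 22 0 1854 9 (p0u205) p0r206

theorem p0r207 : allRange pointOk 22 1863 9 = true := by decide +kernel
theorem p0u207 : ∀ k, 0 ≤ k → k < 1872 → pointOk (k * 22) = true := between_extend pointOk 22 0 1863 9 (p0u206) p0r207

theorem p0r208 : allRange pointOk 22 1872 9 = true := by decide +kernel
theorem p0u208 : ∀ k, 0 ≤ k → k < 1881 → pointOk (k * 22) = true := between_extend pointOk 22 0 1872 9 (p0u207) p0r208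

theorem p0r209 : allRange pointOk 22 1881 9 = true := by decide +kernel
theorem p0u209 : ∀ k, 0 ≤ k → k < 1890 → pointOk (k * 22) = true := between_extend pointOk 22 0 1881 9 (p0u208) p0r209

theorem p0r210 : allRange pointOk 22 1890 9 = true := by decide +kernel
theorem p0u210 : ∀ k, 0 ≤ k → k < 1899 → pointOk (k * 22) = true := between_extend pointOk 22 0 1890 9 (p0u209) p0r210

theorem p0r211 : allRange pointOk 22 1899 9 = true := by decide +kernel
theorem p0u211 : ∀ k, 0 ≤ k → k < 1908 → pointOk (k * 22) = true := between_extend pointOk 22 0 1899 9 (p0u210) p0r211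

theorem p0r212 : allRange pointOk 22 1908 9 = true := by decide +kernel
theorem p0u212 : ∀ k, 0 ≤ k → k < 1917 → pointOk (k * 22) = true := between_extend pointOk 22 0 1908 9 (p0u211) p0r212

theorem p0r213 : allRange pointOk 22 1917 9 = true := by decide +kernel
theorem p0u213 : ∀ k, 0 ≤ k → k < 1926 → pointOk (k * 22) = true := between_extend pointOk 22 0 1917 9 (p0u212) p0r213

theorem p0r214 : allRange pointOk 22 1926 9 = true := by decide +kernel
theorem p0u214 : ∀ k, 0 ≤ k → k < 1935 → pointOk (k * 22) = true := between_extend pointOk 22 0 1926 9 (p0u213) p0r214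

theorem p0r215 : allRange pointOk 22 1935 9 = true := by decide +kernel
theorem p0u215 : ∀ k, 0 ≤ k → k < 1944 → pointOk (k * 22) = true := between_extend pointOk 22 0 1935 9 (p0u214) p0r215

theorem p0r216 : allRange pointOk 22 1944 9 = true := by decide +kernel
theorem p0u216 : ∀ k, 0 ≤ k → k < 1953 → pointOk (k * 22) = true := between_extend pointOk 22 0 1944 9 (p0u215) p0r216

theorem p0r217 : allRange pointOk 22 1953 9 = true := by decide +kernel
theorem p0u217 : ∀ k, 0 ≤ k → k < 1962 → pointOk (k * 22) = true := between_extend pointOk 22 0 1953 9 (p0u216) p0r217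

theorem p0r218 : allRange pointOk 22 1962 9 = true := by decide +kernel
theorem p0u218 : ∀ k, 0 ≤ k → k < 1971 → pointOk (k * 22) = true := between_extend pointOk 22 0 1962 9 (p0u217) p0r218

theorem p0r219 : allRange pointOk 22 1971 9 = true := by decide +kernel
theorem p0u219 : ∀ k, 0 ≤ k → k < 1980 → pointOk (k * 22) = true := between_extend pointOk 22 0 1971 9 (p0u218) p0r219

theorem p0r220 : allRange pointOk 22 1980 9 = true := by decide +kernel
theorem p0u220 : ∀ k, 0 ≤ k → k < 1989 → pointOk (k * 22) = true := between_extend pointOk 22 0 1980 9 (p0u219) p0r220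

theorem p0r221 : allRange pointOk 22 1989 9 = true := by decide +kernel
theorem p0u221 : ∀ k, 0 ≤ k → k < 1998 → pointOk (k * 22) = true := between_extend pointOk 22 0 1989 9 (p0u220) p0r221

theorem p0r222 : allRange pointOk 22 1998 9 = true := by decide +kernel
theorem p0u222 : ∀ k, 0 ≤ k → k < 2007 → pointOk (k * 22) = true := between_extend pointOk 22 0 1998 9 (p0u221) p0r222

theorem p0r223 : allRange pointOk 22 2007 9 = true := by decide +kernel
theorem p0u223 : ∀ k, 0 ≤ k → k < 2016 → pointOk (k * 22) = true := between_extend pointOk 22 0 2007 9 (p0u222) p0r223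

theorem p0r224 : allRange pointOk 22 2016 9 = true := by decide +kernel
theorem p0u224 : ∀ k, 0 ≤ k → k < 2025 → pointOk (k * 22) = true := between_extend pointOk 22 0 2016 9 (p0u223) p0r224

theorem p0r225 : allRange pointOk 22 2025 9 = true := by decide +kernel
theorem p0u225 : ∀ k, 0 ≤ k → k < 2034 → pointOk (k * 22) = true := between_extend pointOk 22 0 2025 9 (p0u224) p0r225

theorem p0r226 : allRange pointOk 22 2034 9 = true := by decide +kernel
theorem p0u226 : ∀ k, 0 ≤ k → k < 2043 → pointOk (k * 22) = true := between_extend pointOk 22 0 2034 9 (p0u225) p0r226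

theorem p0r227 : allRange pointOk 22 2043 9 = true := by decide +kernel
theorem p0u227 : ∀ k, 0 ≤ k → k < 2052 → pointOk (k * 22) = true := between_extend pointOk 22 0 2043 9 (p0u226) p0r227

theorem p0r228 : allRange pointOk 22 2052 9 = true := by decide +kernel
theorem p0u228 : ∀ k, 0 ≤ k → k < 2061 → pointOk (k * 22) = true := between_extend pointOk 22 0 2052 9 (p0u227) p0r228

theorem p0r229 : allRange pointOk 22 2061 9 = true := by decide +kernel
theorem p0u229 : ∀ k, 0 ≤ k → k < 2070 → pointOk (k * 22) = true := between_extend pointOk 22 0 2061 9 (p0u228) p0r229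

theorem p0r230 : allRange pointOk 22 2070 9 = true := by decide +kernel
theorem p0u230 : ∀ k, 0 ≤ k → k < 2079 → pointOk (k * 22) = true := between_extend pointOk 22 0 2070 9 (p0u229) p0r230

theorem p0r231 : allRange pointOk 22 2079 9 = true := by decide +kernel
theorem p0u231 : ∀ k, 0 ≤ k → k < 2088 → pointOk (k * 22) = true := between_extend pointOk 22 0 2079 9 (p0u230) p0r231

theorem p0r232 : allRange pointOk 22 2088 9 = true := by decide +kernel
theorem p0u232 : ∀ k, 0 ≤ k → k < 2097 → pointOk (k * 22) = true := between_extend pointOk 22 0 2088 9 (p0u231) p0r232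

theorem p0r233 : allRange pointOk 22 2097 9 = true := by decide +kernel
theorem p0u233 : ∀ k, 0 ≤ k → k < 2106 → pointOk (k * 22) = true := between_extend pointOk 22 0 2097 9 (p0u232) p0r233

theorem p0r234 : allRange pointOk 22 2106 9 = true := by decide +kernel
theorem p0u234 : ∀ k, 0 ≤ k → k < 2115 → pointOk (k * 22) = true := between_extend pointOk 22 0 2106 9 (p0u233) p0r234

theorem p0r235 : allRange pointOk 22 2115 9 = true := by decide +kernel
theorem p0u235 : ∀ k, 0 ≤ k → k < 2124 → pointOk (k * 22) = true := between_extend pointOk 22 0 2115 9 (p0u234) p0r235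

theorem p0r236 : allRange pointOk 22 2124 9 = true := by decide +kernel
theorem p0u236 : ∀ k, 0 ≤ k → k < 2133 → pointOk (k * 22) = true := between_extend pointOk 22 0 2124 9 (p0u235) p0r236

theorem p0r237 : allRange pointOk 22 2133 9 = true := by decide +kernel
theorem p0u237 : ∀ k, 0 ≤ k → k < 2142 → pointOk (k * 22) = true := between_extend pointOk 22 0 2133 9 (p0u236) p0r237

theorem p0r238 : allRange pointOk 22 2142 9 = true := by decide +kernel
theorem p0u238 : ∀ k, 0 ≤ k → k < 2151 → pointOk (k * 22) = true := between_extend pointOk 22 0 2142 9 (p0u237) p0r238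

theorem p0r239 : allRange pointOk 22 2151 9 = true := by decide +kernel
theorem p0u239 : ∀ k, 0 ≤ k → k < 2160 → pointOk (k * 22) = true := between_extend pointOk 22 0 2151 9 (p0u238) p0r239

theorem p0r240 : allRange pointOk 22 2160 9 = true := by decide +kernel
theorem p0u240 : ∀ k, 0 ≤ k → k < 2169 → pointOk (k * 22) = true := between_extend pointOk 22 0 2160 9 (p0u239) p0r240

theorem p0r241 : allRange pointOk 22 2169 9 = true := by decide +kernel
theorem p0u241 : ∀ k, 0 ≤ k → k < 2178 → pointOk (k * 22) = true := between_extend pointOk 22 0 2169 9 (p0u240) p0r241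

theorem p0r242 : allRange pointOk 22 2178 9 = true := by decide +kernel
theorem p0u242 : ∀ k, 0 ≤ k → k < 2187 → pointOk (k * 22) = true := between_extend pointOk 22 0 2178 9 (p0u241) p0r242

theorem p0r243 : allRange pointOk 22 2187 9 = true := by decide +kernel
theorem p0u243 : ∀ k, 0 ≤ k → k < 2196 → pointOk (k * 22) = true := between_extend pointOk 22 0 2187 9 (p0u242) p0r243

theorem p0r244 : allRange pointOk 22 2196 9 = true := by decide +kernel
theorem p0u244 : ∀ k, 0 ≤ k → k < 2205 → pointOk (k * 22) = true := between_extend pointOk 22 0 2196 9 (p0u243) p0r244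

theorem p0r245 : allRange pointOk 22 2205 9 = true := by decide +kernel
theorem p0u245 : ∀ k, 0 ≤ k → k < 2214 → pointOk (k * 22) = true := between_extend pointOk 22 0 2205 9 (p0u244) p0r245

theorem p0r246 : allRange pointOk 22 2214 9 = true := by decide +kernel
theorem p0u246 : ∀ k, 0 ≤ k → k < 2223 → pointOk (k * 22) = true := between_extend pointOk 22 0 2214 9 (p0u245) p0r246

theorem p0r247 : allRange pointOk 22 2223 9 = true := by decide +kernel
theorem p0u247 : ∀ k, 0 ≤ k → k < 2232 → pointOk (k * 22) = true := between_extend pointOk 22 0 2223 9 (p0u246) p0r247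

theorem p0r248 : allRange pointOk 22 2232 9 = true := by decide +kernel
theorem p0u248 : ∀ k, 0 ≤ k → k < 2241 → pointOk (k * 22) = true := between_extend pointOk 22 0 2232 9 (p0u247) p0r248

theorem p0r249 : allRange pointOk 22 2241 9 = true := by decide +kernel
theorem p0u249 : ∀ k, 0 ≤ k → k < 2250 → pointOk (k * 22) = true := between_extend pointOk 22 0 2241 9 (p0u248) p0r249

theorem p0r250 : allRange pointOk 22 2250 9 = true := by decide +kernel
theorem p0u250 : ∀ k, 0 ≤ k → k < 2259 → pointOk (k * 22) = true := between_extend pointOk 22 0 2250 9 (p0u249) p0r250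

theorem p0r251 : allRange pointOk 22 2259 9 = true := by decide +kernel
theorem p0u251 : ∀ k, 0 ≤ k → k < 2268 → pointOk (k * 22) = true := between_extend pointOk 22 0 2259 9 (p0u250) p0r251

theorem p0r252 : allRange pointOk 22 2268 9 = true := by decide +kernel
theorem p0u252 : ∀ k, 0 ≤ k → k < 2277 → pointOk (k * 22) = true := between_extend pointOk 22 0 2268 9 (p0u251) p0r252

theorem p0r253 : allRange pointOk 22 2277 9 = true := by decide +kernel
theorem p0u253 : ∀ k, 0 ≤ k → k < 2286 → pointOk (k * 22) = true := between_extend pointOk 22 0 2277 9 (p0u252) p0r253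

theorem p0r254 : allRange pointOk 22 2286 9 = true := by decide +kernel
theorem p0u254 : ∀ k, 0 ≤ k → k < 2295 → pointOk (k * 22) = true := between_extend pointOk 22 0 2286 9 (p0u253) p0r254

theorem p0r255 : allRange pointOk 22 2295 9 = true := by decide +kernel
theorem p0u255 : ∀ k, 0 ≤ k → k < 2304 → pointOk (k * 22) = true := between_extend pointOk 22 0 2295 9 (p0u254) p0r255

theorem p0r256 : allRange pointOk 22 2304 9 = true := by decide +kernel
theorem p0u256 : ∀ k, 0 ≤ k → k < 2313 → pointOk (k * 22) = true := between_extend pointOk 22 0 2304 9 (p0u255) p0r256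

theorem p0r257 : allRange pointOk 22 2313 9 = true := by decide +kernel
theorem p0u257 : ∀ k, 0 ≤ k → k < 2322 → pointOk (k * 22) = true := between_extend pointOk 22 0 2313 9 (p0u256) p0r257

theorem p0r258 : allRange pointOk 22 2322 9 = true := by decide +kernel
theorem p0u258 : ∀ k, 0 ≤ k → k < 2331 → pointOk (k * 22) = true := between_extend pointOk 22 0 2322 9 (p0u257) p0r258

theorem p0r259 : allRange pointOk 22 2331 9 = true := by decide +kernel
theorem p0u259 : ∀ k, 0 ≤ k → k < 2340 → pointOk (k * 22) = true := between_extend pointOk 22 0 2331 9 (p0u258) p0r259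

theorem p0r260 : allRange pointOk 22 2340 9 = true := by decide +kernel
theorem p0u260 : ∀ k, 0 ≤ k → k < 2349 → pointOk (k * 22) = true := between_extend pointOk 22 0 2340 9 (p0u259) p0r260

theorem p0r261 : allRange pointOk 22 2349 9 = true := by decide +kernel
theorem p0u261 : ∀ k, 0 ≤ k → k < 2358 → pointOk (k * 22) = true := between_extend pointOk 22 0 2349 9 (p0u260) p0r261

theorem p0r262 : allRange pointOk 22 2358 9 = true := by decide +kernel
theorem p0u262 : ∀ k, 0 ≤ k → k < 2367 → pointOk (k * 22) = true := between_extend pointOk 22 0 2358 9 (p0u261) p0r262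

theorem p0r263 : allRange pointOk 22 2367 9 = true := by decide +kernel
theorem p0u263 : ∀ k, 0 ≤ k → k < 2376 → pointOk (k * 22) = true := between_extend pointOk 22 0 2367 9 (p0u262) p0r263

theorem p0r264 : allRange pointOk 22 2376 9 = true := by decide +kernel
theorem p0u264 : ∀ k, 0 ≤ k → k < 2385 → pointOk (k * 22) = true := between_extend pointOk 22 0 2376 9 (p0u263) p0r264

theorem p0r265 : allRange pointOk 22 2385 9 = true := by decide +kernel
theorem p0u265 : ∀ k, 0 ≤ k → k < 2394 → pointOk (k * 22) = true := between_extend pointOk 22 0 2385 9 (p0u264) p0r265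

theorem p0r266 : allRange pointOk 22 2394 9 = true := by decide +kernel
theorem p0u266 : ∀ k, 0 ≤ k → k < 2403 → pointOk (k * 22) = true := between_extend pointOk 22 0 2394 9 (p0u265) p0r266

theorem p0r267 : allRange pointOk 22 2403 9 = true := by decide +kernel
theorem p0u267 : ∀ k, 0 ≤ k → k < 2412 → pointOk (k * 22) = true := between_extend pointOk 22 0 2403 9 (p0u266) p0r267

theorem p0r268 : allRange pointOk 22 2412 9 = true := by decide +kernel
theorem p0u268 : ∀ k, 0 ≤ k → k < 2421 → pointOk (k * 22) = true := between_extend pointOk 22 0 2412 9 (p0u267) p0r268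

theorem p0r269 : allRange pointOk 22 2421 9 = true := by decide +kernel
theorem p0u269 : ∀ k, 0 ≤ k → k < 2430 → pointOk (k * 22) = true := between_extend pointOk 22 0 2421 9 (p0u268) p0r269

theorem p0r270 : allRange pointOk 22 2430 9 = true := by decide +kernel
theorem p0u270 : ∀ k, 0 ≤ k → k < 2439 → pointOk (k * 22) = true := between_extend pointOk 22 0 2430 9 (p0u269) p0r270

theorem p0r271 : allRange pointOk 22 2439 9 = true := by decide +kernel
theorem p0u271 : ∀ k, 0 ≤ k → k < 2448 → pointOk (k * 22) = true := between_extend pointOk 22 0 2439 9 (p0u270) p0r271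

theorem p0r272 : allRange pointOk 22 2448 9 = true := by decide +kernel
theorem p0u272 : ∀ k, 0 ≤ k → k < 2457 → pointOk (k * 22) = true := between_extend pointOk 22 0 2448 9 (p0u271) p0r272

theorem p0r273 : allRange pointOk 22 2457 9 = true := by decide +kernel
theorem p0u273 : ∀ k, 0 ≤ k → k < 2466 → pointOk (k * 22) = true := between_extend pointOk 22 0 2457 9 (p0u272) p0r273

theorem p0r274 : allRange pointOk 22 2466 9 = true := by decide +kernel
theorem p0u274 : ∀ k, 0 ≤ k → k < 2475 → pointOk (k * 22) = true := between_extend pointOk 22 0 2466 9 (p0u273) p0r274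

theorem p0r275 : allRange pointOk 22 2475 9 = true := by decide +kernel
theorem p0u275 : ∀ k, 0 ≤ k → k < 2484 → pointOk (k * 22) = true := between_extend pointOk 22 0 2475 9 (p0u274) p0r275

theorem p0r276 : allRange pointOk 22 2484 9 = true := by decide +kernel
theorem p0u276 : ∀ k, 0 ≤ k → k < 2493 → pointOk (k * 22) = true := between_extend pointOk 22 0 2484 9 (p0u275) p0r276

theorem p0r277 : allRange pointOk 22 2493 9 = true := by decide +kernel
theorem p0u277 : ∀ k, 0 ≤ k → k < 2502 → pointOk (k * 22) = true := between_extend pointOk 22 0 2493 9 (p0u276) p0r277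

theorem p0r278 : allRange pointOk 22 2502 9 = true := by decide +kernel
theorem p0u278 : ∀ k, 0 ≤ k → k < 2511 → pointOk (k * 22) = true := between_extend pointOk 22 0 2502 9 (p0u277) p0r278

theorem p0r279 : allRange pointOk 22 2511 9 = true := by decide +kernel
theorem p0u279 : ∀ k, 0 ≤ k → k < 2520 → pointOk (k * 22) = true := between_extend pointOk 22 0 2511 9 (p0u278) p0r279

theorem p0r280 : allRange pointOk 22 2520 9 = true := by decide +kernel
theorem p0u280 : ∀ k, 0 ≤ k → k < 2529 → pointOk (k * 22) = true := between_extend pointOk 22 0 2520 9 (p0u279) p0r280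

theorem p0r281 : allRange pointOk 22 2529 9 = true := by decide +kernel
theorem p0u281 : ∀ k, 0 ≤ k → k < 2538 → pointOk (k * 22) = true := between_extend pointOk 22 0 2529 9 (p0u280) p0r281

theorem p0r282 : allRange pointOk 22 2538 9 = true := by decide +kernel
theorem p0u282 : ∀ k, 0 ≤ k → k < 2547 → pointOk (k * 22) = true := between_extend pointOk 22 0 2538 9 (p0u281) p0r282

theorem p0r283 : allRange pointOk 22 2547 9 = true := by decide +kernel
theorem p0u283 : ∀ k, 0 ≤ k → k < 2556 → pointOk (k * 22) = true := between_extend pointOk 22 0 2547 9 (p0u282) p0r283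

theorem p0r284 : allRange pointOk 22 2556 9 = true := by decide +kernel
theorem p0u284 : ∀ k, 0 ≤ k → k < 2565 → pointOk (k * 22) = true := between_extend pointOk 22 0 2556 9 (p0u283) p0r284

theorem p0r285 : allRange pointOk 22 2565 9 = true := by decide +kernel
theorem p0u285 : ∀ k, 0 ≤ k → k < 2574 → pointOk (k * 22) = true := between_extend pointOk 22 0 2565 9 (p0u284) p0r285

theorem p0r286 : allRange pointOk 22 2574 9 = true := by decide +kernel
theorem p0u286 : ∀ k, 0 ≤ k → k < 2583 → pointOk (k * 22) = true := between_extend pointOk 22 0 2574 9 (p0u285) p0r286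

theorem p0r287 : allRange pointOk 22 2583 9 = true := by decide +kernel
theorem p0u287 : ∀ k, 0 ≤ k → k < 2592 → pointOk (k * 22) = true := between_extend pointOk 22 0 2583 9 (p0u286) p0r287

theorem p0r288 : allRange pointOk 22 2592 9 = true := by decide +kernel
theorem p0u288 : ∀ k, 0 ≤ k → k < 2601 → pointOk (k * 22) = true := between_extend pointOk 22 0 2592 9 (p0u287) p0r288

theorem p0r289 : allRange pointOk 22 2601 9 = true := by decide +kernel
theorem p0u289 : ∀ k, 0 ≤ k → k < 2610 → pointOk (k * 22) = true := between_extend pointOk 22 0 2601 9 (p0u288) p0r289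

theorem p0r290 : allRange pointOk 22 2610 9 = true := by decide +kernel
theorem p0u290 : ∀ k, 0 ≤ k → k < 2619 → pointOk (k * 22) = true := between_extend pointOk 22 0 2610 9 (p0u289) p0r290

theorem p0r291 : allRange pointOk 22 2619 9 = true := by decide +kernel
theorem p0u291 : ∀ k, 0 ≤ k → k < 2628 → pointOk (k * 22) = true := between_extend pointOk 22 0 2619 9 (p0u290) p0r291

theorem p0r292 : allRange pointOk 22 2628 9 = true := by decide +kernel
theorem p0u292 : ∀ k, 0 ≤ k → k < 2637 → pointOk (k * 22) = true := between_extend pointOk 22 0 2628 9 (p0u291) p0r292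

theorem p0r293 : allRange pointOk 22 2637 9 = true := by decide +kernel
theorem p0u293 : ∀ k, 0 ≤ k → k < 2646 → pointOk (k * 22) = true := between_extend pointOk 22 0 2637 9 (p0u292) p0r293

theorem p0r294 : allRange pointOk 22 2646 9 = true := by decide +kernel
theorem p0u294 : ∀ k, 0 ≤ k → k < 2655 → pointOk (k * 22) = true := between_extend pointOk 22 0 2646 9 (p0u293) p0r294

theorem p0r295 : allRange pointOk 22 2655 9 = true := by decide +kernel
theorem p0u295 : ∀ k, 0 ≤ k → k < 2664 → pointOk (k * 22) = true := between_extend pointOk 22 0 2655 9 (p0u294) p0r295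

theorem p0r296 : allRange pointOk 22 2664 9 = true := by decide +kernel
theorem p0u296 : ∀ k, 0 ≤ k → k < 2673 → pointOk (k * 22) = true := between_extend pointOk 22 0 2664 9 (p0u295) p0r296

theorem p0r297 : allRange pointOk 22 2673 9 = true := by decide +kernel
theorem p0u297 : ∀ k, 0 ≤ k → k < 2682 → pointOk (k * 22) = true := between_extend pointOk 22 0 2673 9 (p0u296) p0r297

theorem p0r298 : allRange pointOk 22 2682 9 = true := by decide +kernel
theorem p0u298 : ∀ k, 0 ≤ k → k < 2691 → pointOk (k * 22) = true := between_extend pointOk 22 0 2682 9 (p0u297) p0r298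

theorem p0r299 : allRange pointOk 22 2691 9 = true := by decide +kernel
theorem p0u299 : ∀ k, 0 ≤ k → k < 2700 → pointOk (k * 22) = true := between_extend pointOk 22 0 2691 9 (p0u298) p0r299

theorem p0r300 : allRange pointOk 22 2700 9 = true := by decide +kernel
theorem p0u300 : ∀ k, 0 ≤ k → k < 2709 → pointOk (k * 22) = true := between_extend pointOk 22 0 2700 9 (p0u299) p0r300

theorem p0r301 : allRange pointOk 22 2709 9 = true := by decide +kernel
theorem p0u301 : ∀ k, 0 ≤ k → k < 2718 → pointOk (k * 22) = true := between_extend pointOk 22 0 2709 9 (p0u300) p0r301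

theorem p0r302 : allRange pointOk 22 2718 9 = true := by decide +kernel
theorem p0u302 : ∀ k, 0 ≤ k → k < 2727 → pointOk (k * 22) = true := between_extend pointOk 22 0 2718 9 (p0u301) p0r302

theorem p0r303 : allRange pointOk 22 2727 9 = true := by decide +kernel
theorem p0u303 : ∀ k, 0 ≤ k → k < 2736 → pointOk (k * 22) = true := between_extend pointOk 22 0 2727 9 (p0u302) p0r303

theorem p0r304 : allRange pointOk 22 2736 9 = true := by decide +kernel
theorem p0u304 : ∀ k, 0 ≤ k → k < 2745 → pointOk (k * 22) = true := between_extend pointOk 22 0 2736 9 (p0u303) p0r304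

theorem p0r305 : allRange pointOk 22 2745 9 = true := by decide +kernel
theorem p0u305 : ∀ k, 0 ≤ k → k < 2754 → pointOk (k * 22) = true := between_extend pointOk 22 0 2745 9 (p0u304) p0r305

theorem p0r306 : allRange pointOk 22 2754 9 = true := by decide +kernel
theorem p0u306 : ∀ k, 0 ≤ k → k < 2763 → pointOk (k * 22) = true := between_extend pointOk 22 0 2754 9 (p0u305) p0r306

theorem p0r307 : allRange pointOk 22 2763 9 = true := by decide +kernel
theorem p0u307 : ∀ k, 0 ≤ k → k < 2772 → pointOk (k * 22) = true := between_extend pointOk 22 0 2763 9 (p0u306) p0r307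

theorem p0r308 : allRange pointOk 22 2772 9 = true := by decide +kernel
theorem p0u308 : ∀ k, 0 ≤ k → k < 2781 → pointOk (k * 22) = true := between_extend pointOk 22 0 2772 9 (p0u307) p0r308

theorem p0r309 : allRange pointOk 22 2781 9 = true := by decide +kernel
theorem p0u309 : ∀ k, 0 ≤ k → k < 2790 → pointOk (k * 22) = true := between_extend pointOk 22 0 2781 9 (p0u308) p0r309

theorem p0r310 : allRange pointOk 22 2790 9 = true := by decide +kernel
theorem p0u310 : ∀ k, 0 ≤ k → k < 2799 → pointOk (k * 22) = true := between_extend pointOk 22 0 2790 9 (p0u309) p0r310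

theorem p0r311 : allRange pointOk 22 2799 9 = true := by decide +kernel
theorem p0u311 : ∀ k, 0 ≤ k → k < 2808 → pointOk (k * 22) = true := between_extend pointOk 22 0 2799 9 (p0u310) p0r311

theorem p0r312 : allRange pointOk 22 2808 9 = true := by decide +kernel
theorem p0u312 : ∀ k, 0 ≤ k → k < 2817 → pointOk (k * 22) = true := between_extend pointOk 22 0 2808 9 (p0u311) p0r312

theorem p0r313 : allRange pointOk 22 2817 9 = true := by decide +kernel
theorem p0u313 : ∀ k, 0 ≤ k → k < 2826 → pointOk (k * 22) = true := between_extend pointOk 22 0 2817 9 (p0u312) p0r313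

theorem p0r314 : allRange pointOk 22 2826 9 = true := by decide +kernel
theorem p0u314 : ∀ k, 0 ≤ k → k < 2835 → pointOk (k * 22) = true := between_extend pointOk 22 0 2826 9 (p0u313) p0r314

theorem p0r315 : allRange pointOk 22 2835 9 = true := by decide +kernel
theorem p0u315 : ∀ k, 0 ≤ k → k < 2844 → pointOk (k * 22) = true := between_extend pointOk 22 0 2835 9 (p0u314) p0r315

theorem p0r316 : allRange pointOk 22 2844 9 = true := by decide +kernel
theorem p0u316 : ∀ k, 0 ≤ k → k < 2853 → pointOk (k * 22) = true := between_extend pointOk 22 0 2844 9 (p0u315) p0r316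

theorem p0r317 : allRange pointOk 22 2853 9 = true := by decide +kernel
theorem p0u317 : ∀ k, 0 ≤ k → k < 2862 → pointOk (k * 22) = true := between_extend pointOk 22 0 2853 9 (p0u316) p0r317

theorem p0r318 : allRange pointOk 22 2862 9 = true := by decide +kernel
theorem p0u318 : ∀ k, 0 ≤ k → k < 2871 → pointOk (k * 22) = true := between_extend pointOk 22 0 2862 9 (p0u317) p0r318

theorem p0r319 : allRange pointOk 22 2871 9 = true := by decide +kernel
theorem p0u319 : ∀ k, 0 ≤ k → k < 2880 → pointOk (k * 22) = true := between_extend pointOk 22 0 2871 9 (p0u318) p0r319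

theorem p0r320 : allRange pointOk 22 2880 9 = true := by decide +kernel
theorem p0u320 : ∀ k, 0 ≤ k → k < 2889 → pointOk (k * 22) = true := between_extend pointOk 22 0 2880 9 (p0u319) p0r320

theorem p0r321 : allRange pointOk 22 2889 9 = true := by decide +kernel
theorem p0u321 : ∀ k, 0 ≤ k → k < 2898 → pointOk (k * 22) = true := between_extend pointOk 22 0 2889 9 (p0u320) p0r321

theorem p0r322 : allRange pointOk 22 2898 9 = true := by decide +kernel
theorem p0u322 : ∀ k, 0 ≤ k → k < 2907 → pointOk (k * 22) = true := between_extend pointOk 22 0 2898 9 (p0u321) p0r322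

theorem p0r323 : allRange pointOk 22 2907 9 = true := by decide +kernel
theorem p0u323 : ∀ k, 0 ≤ k → k < 2916 → pointOk (k * 22) = true := between_extend pointOk 22 0 2907 9 (p0u322) p0r323

theorem p0r324 : allRange pointOk 22 2916 9 = true := by decide +kernel
theorem p0u324 : ∀ k, 0 ≤ k → k < 2925 → pointOk (k * 22) = true := between_extend pointOk 22 0 2916 9 (p0u323) p0r324

theorem p0r325 : allRange pointOk 22 2925 9 = true := by decide +kernel
theorem p0u325 : ∀ k, 0 ≤ k → k < 2934 → pointOk (k * 22) = true := between_extend pointOk 22 0 2925 9 (p0u324) p0r325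

theorem p0r326 : allRange pointOk 22 2934 9 = true := by decide +kernel
theorem p0u326 : ∀ k, 0 ≤ k → k < 2943 → pointOk (k * 22) = true := between_extend pointOk 22 0 2934 9 (p0u325) p0r326

theorem p0r327 : allRange pointOk 22 2943 9 = true := by decide +kernel
theorem p0u327 : ∀ k, 0 ≤ k → k < 2952 → pointOk (k * 22) = true := between_extend pointOk 22 0 2943 9 (p0u326) p0r327

theorem p0r328 : allRange pointOk 22 2952 9 = true := by decide +kernel
theorem p0u328 : ∀ k, 0 ≤ k → k < 2961 → pointOk (k * 22) = true := between_extend pointOk 22 0 2952 9 (p0u327) p0r328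

theorem p0r329 : allRange pointOk 22 2961 9 = true := by decide +kernel
theorem p0u329 : ∀ k, 0 ≤ k → k < 2970 → pointOk (k * 22) = true := between_extend pointOk 22 0 2961 9 (p0u328) p0r329

theorem p0r330 : allRange pointOk 22 2970 9 = true := by decide +kernel
theorem p0u330 : ∀ k, 0 ≤ k → k < 2979 → pointOk (k * 22) = true := between_extend pointOk 22 0 2970 9 (p0u329) p0r330

theorem p0r331 : allRange pointOk 22 2979 9 = true := by decide +kernel
theorem p0u331 : ∀ k, 0 ≤ k → k < 2988 → pointOk (k * 22) = true := between_extend pointOk 22 0 2979 9 (p0u330) p0r331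

theorem p0r332 : allRange pointOk 22 2988 9 = true := by decide +kernel
theorem p0u332 : ∀ k, 0 ≤ k → k < 2997 → pointOk (k * 22) = true := between_extend pointOk 22 0 2988 9 (p0u331) p0r332

theorem p0r333 : allRange pointOk 22 2997 9 = true := by decide +kernel
theorem p0u333 : ∀ k, 0 ≤ k → k < 3006 → pointOk (k * 22) = true := between_extend pointOk 22 0 2997 9 (p0u332) p0r333

theorem p0r334 : allRange pointOk 22 3006 9 = true := by decide +kernel
theorem p0u334 : ∀ k, 0 ≤ k → k < 3015 → pointOk (k * 22) = true := between_extend pointOk 22 0 3006 9 (p0u333) p0r334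

theorem p0r335 : allRange pointOk 22 3015 9 = true := by decide +kernel
theorem p0u335 : ∀ k, 0 ≤ k → k < 3024 → pointOk (k * 22) = true := between_extend pointOk 22 0 3015 9 (p0u334) p0r335

theorem p0r336 : allRange pointOk 22 3024 9 = true := by decide +kernel
theorem p0u336 : ∀ k, 0 ≤ k → k < 3033 → pointOk (k * 22) = true := between_extend pointOk 22 0 3024 9 (p0u335) p0r336

theorem p0r337 : allRange pointOk 22 3033 9 = true := by decide +kernel
theorem p0u337 : ∀ k, 0 ≤ k → k < 3042 → pointOk (k * 22) = true := between_extend pointOk 22 0 3033 9 (p0u336) p0r337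

theorem p0r338 : allRange pointOk 22 3042 9 = true := by decide +kernel
theorem p0u338 : ∀ k, 0 ≤ k → k < 3051 → pointOk (k * 22) = true := between_extend pointOk 22 0 3042 9 (p0u337) p0r338

theorem p0r339 : allRange pointOk 22 3051 9 = true := by decide +kernel
theorem p0u339 : ∀ k, 0 ≤ k → k < 3060 → pointOk (k * 22) = true := between_extend pointOk 22 0 3051 9 (p0u338) p0r339

theorem p0r340 : allRange pointOk 22 3060 9 = true := by decide +kernel
theorem p0u340 : ∀ k, 0 ≤ k → k < 3069 → pointOk (k * 22) = true := between_extend pointOk 22 0 3060 9 (p0u339) p0r340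

theorem p0r341 : allRange pointOk 22 3069 9 = true := by decide +kernel
theorem p0u341 : ∀ k, 0 ≤ k → k < 3078 → pointOk (k * 22) = true := between_extend pointOk 22 0 3069 9 (p0u340) p0r341

theorem p0r342 : allRange pointOk 22 3078 9 = true := by decide +kernel
theorem p0u342 : ∀ k, 0 ≤ k → k < 3087 → pointOk (k * 22) = true := between_extend pointOk 22 0 3078 9 (p0u341) p0r342

theorem p0r343 : allRange pointOk 22 3087 9 = true := by decide +kernel
theorem p0u343 : ∀ k, 0 ≤ k → k < 3096 → pointOk (k * 22) = true := between_extend pointOk 22 0 3087 9 (p0u342) p0r343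

theorem p0r344 : allRange pointOk 22 3096 9 = true := by decide +kernel
theorem p0u344 : ∀ k, 0 ≤ k → k < 3105 → pointOk (k * 22) = true := between_extend pointOk 22 0 3096 9 (p0u343) p0r344

theorem p0r345 : allRange pointOk 22 3105 9 = true := by decide +kernel
theorem p0u345 : ∀ k, 0 ≤ k → k < 3114 → pointOk (k * 22) = true := between_extend pointOk 22 0 3105 9 (p0u344) p0r345

theorem p0r346 : allRange pointOk 22 3114 9 = true := by decide +kernel
theorem p0u346 : ∀ k, 0 ≤ k → k < 3123 → pointOk (k * 22) = true := between_extend pointOk 22 0 3114 9 (p0u345) p0r346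

theorem p0r347 : allRange pointOk 22 3123 9 = true := by decide +kernel
theorem p0u347 : ∀ k, 0 ≤ k → k < 3132 → pointOk (k * 22) = true := between_extend pointOk 22 0 3123 9 (p0u346) p0r347

theorem p0r348 : allRange pointOk 22 3132 9 = true := by decide +kernel
theorem p0u348 : ∀ k, 0 ≤ k → k < 3141 → pointOk (k * 22) = true := between_extend pointOk 22 0 3132 9 (p0u347) p0r348

theorem p0r349 : allRange pointOk 22 3141 9 = true := by decide +kernel
theorem p0u349 : ∀ k, 0 ≤ k → k < 3150 → pointOk (k * 22) = true := between_extend pointOk 22 0 3141 9 (p0u348) p0r349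

theorem p0r350 : allRange pointOk 22 3150 9 = true := by decide +kernel
theorem p0u350 : ∀ k, 0 ≤ k → k < 3159 → pointOk (k * 22) = true := between_extend pointOk 22 0 3150 9 (p0u349) p0r350

theorem p0r351 : allRange pointOk 22 3159 9 = true := by decide +kernel
theorem p0u351 : ∀ k, 0 ≤ k → k < 3168 → pointOk (k * 22) = true := between_extend pointOk 22 0 3159 9 (p0u350) p0r351

theorem p0r352 : allRange pointOk 22 3168 9 = true := by decide +kernel
theorem p0u352 : ∀ k, 0 ≤ k → k < 3177 → pointOk (k * 22) = true := between_extend pointOk 22 0 3168 9 (p0u351) p0r352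

theorem p0r353 : allRange pointOk 22 3177 9 = true := by decide +kernel
theorem p0u353 : ∀ k, 0 ≤ k → k < 3186 → pointOk (k * 22) = true := between_extend pointOk 22 0 3177 9 (p0u352) p0r353

theorem p0r354 : allRange pointOk 22 3186 9 = true := by decide +kernel
theorem p0u354 : ∀ k, 0 ≤ k → k < 3195 → pointOk (k * 22) = true := between_extend pointOk 22 0 3186 9 (p0u353) p0r354

theorem p0r355 : allRange pointOk 22 3195 9 = true := by decide +kernel
theorem p0u355 : ∀ k, 0 ≤ k → k < 3204 → pointOk (k * 22) = true := between_extend pointOk 22 0 3195 9 (p0u354) p0r355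

theorem p0r356 : allRange pointOk 22 3204 9 = true := by decide +kernel
theorem p0u356 : ∀ k, 0 ≤ k → k < 3213 → pointOk (k * 22) = true := between_extend pointOk 22 0 3204 9 (p0u355) p0r356

theorem p0r357 : allRange pointOk 22 3213 9 = true := by decide +kernel
theorem p0u357 : ∀ k, 0 ≤ k → k < 3222 → pointOk (k * 22) = true := between_extend pointOk 22 0 3213 9 (p0u356) p0r357

theorem p0r358 : allRange pointOk 22 3222 9 = true := by decide +kernel
theorem p0u358 : ∀ k, 0 ≤ k → k < 3231 → pointOk (k * 22) = true := between_extend pointOk 22 0 3222 9 (p0u357) p0r358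

theorem p0r359 : allRange pointOk 22 3231 9 = true := by decide +kernel
theorem p0u359 : ∀ k, 0 ≤ k → k < 3240 → pointOk (k * 22) = true := between_extend pointOk 22 0 3231 9 (p0u358) p0r359

theorem p0r360 : allRange pointOk 22 3240 9 = true := by decide +kernel
theorem p0u360 : ∀ k, 0 ≤ k → k < 3249 → pointOk (k * 22) = true := between_extend pointOk 22 0 3240 9 (p0u359) p0r360

theorem p0r361 : allRange pointOk 22 3249 9 = true := by decide +kernel
theorem p0u361 : ∀ k, 0 ≤ k → k < 3258 → pointOk (k * 22) = true := between_extend pointOk 22 0 3249 9 (p0u360) p0r361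

theorem p0r362 : allRange pointOk 22 3258 9 = true := by decide +kernel
theorem p0u362 : ∀ k, 0 ≤ k → k < 3267 → pointOk (k * 22) = true := between_extend pointOk 22 0 3258 9 (p0u361) p0r362

theorem p0r363 : allRange pointOk 22 3267 9 = true := by decide +kernel
theorem p0u363 : ∀ k, 0 ≤ k → k < 3276 → pointOk (k * 22) = true := between_extend pointOk 22 0 3267 9 (p0u362) p0r363

theorem p0r364 : allRange pointOk 22 3276 9 = true := by decide +kernel
theorem p0u364 : ∀ k, 0 ≤ k → k < 3285 → pointOk (k * 22) = true := between_extend pointOk 22 0 3276 9 (p0u363) p0r364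

theorem p0r365 : allRange pointOk 22 3285 9 = true := by decide +kernel
theorem p0u365 : ∀ k, 0 ≤ k → k < 3294 → pointOk (k * 22) = true := between_extend pointOk 22 0 3285 9 (p0u364) p0r365

theorem p0r366 : allRange pointOk 22 3294 9 = true := by decide +kernel
theorem p0u366 : ∀ k, 0 ≤ k → k < 3303 → pointOk (k * 22) = true := between_extend pointOk 22 0 3294 9 (p0u365) p0r366

theorem p0r367 : allRange pointOk 22 3303 9 = true := by decide +kernel
theorem p0u367 : ∀ k, 0 ≤ k → k < 3312 → pointOk (k * 22) = true := between_extend pointOk 22 0 3303 9 (p0u366) p0r367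

theorem p0r368 : allRange pointOk 22 3312 9 = true := by decide +kernel
theorem p0u368 : ∀ k, 0 ≤ k → k < 3321 → pointOk (k * 22) = true := between_extend pointOk 22 0 3312 9 (p0u367) p0r368

theorem p0r369 : allRange pointOk 22 3321 9 = true := by decide +kernel
theorem p0u369 : ∀ k, 0 ≤ k → k < 3330 → pointOk (k * 22) = true := between_extend pointOk 22 0 3321 9 (p0u368) p0r369

theorem p0r370 : allRange pointOk 22 3330 9 = true := by decide +kernel
theorem p0u370 : ∀ k, 0 ≤ k → k < 3339 → pointOk (k * 22) = true := between_extend pointOk 22 0 3330 9 (p0u369) p0r370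

theorem p0r371 : allRange pointOk 22 3339 9 = true := by decide +kernel
theorem p0u371 : ∀ k, 0 ≤ k → k < 3348 → pointOk (k * 22) = true := between_extend pointOk 22 0 3339 9 (p0u370) p0r371

theorem p0r372 : allRange pointOk 22 3348 9 = true := by decide +kernel
theorem p0u372 : ∀ k, 0 ≤ k → k < 3357 → pointOk (k * 22) = true := between_extend pointOk 22 0 3348 9 (p0u371) p0r372

theorem p0r373 : allRange pointOk 22 3357 9 = true := by decide +kernel
theorem p0u373 : ∀ k, 0 ≤ k → k < 3366 → pointOk (k * 22) = true := between_extend pointOk 22 0 3357 9 (p0u372) p0r373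

theorem p0r374 : allRange pointOk 22 3366 9 = true := by decide +kernel
theorem p0u374 : ∀ k, 0 ≤ k → k < 3375 → pointOk (k * 22) = true := between_extend pointOk 22 0 3366 9 (p0u373) p0r374

theorem p0r375 : allRange pointOk 22 3375 9 = true := by decide +kernel
theorem p0u375 : ∀ k, 0 ≤ k → k < 3384 → pointOk (k * 22) = true := between_extend pointOk 22 0 3375 9 (p0u374) p0r375

theorem p0r376 : allRange pointOk 22 3384 9 = true := by decide +kernel
theorem p0u376 : ∀ k, 0 ≤ k → k < 3393 → pointOk (k * 22) = true := between_extend pointOk 22 0 3384 9 (p0u375) p0r376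

theorem p0r377 : allRange pointOk 22 3393 9 = true := by decide +kernel
theorem p0u377 : ∀ k, 0 ≤ k → k < 3402 → pointOk (k * 22) = true := between_extend pointOk 22 0 3393 9 (p0u376) p0r377

theorem p0r378 : allRange pointOk 22 3402 9 = true := by decide +kernel
theorem p0u378 : ∀ k, 0 ≤ k → k < 3411 → pointOk (k * 22) = true := between_extend pointOk 22 0 3402 9 (p0u377) p0r378

theorem p0r379 : allRange pointOk 22 3411 9 = true := by decide +kernel
theorem p0u379 : ∀ k, 0 ≤ k → k < 3420 → pointOk (k * 22) = true := between_extend pointOk 22 0 3411 9 (p0u378) p0r379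

theorem p0r380 : allRange pointOk 22 3420 9 = true := by decide +kernel
theorem p0u380 : ∀ k, 0 ≤ k → k < 3429 → pointOk (k * 22) = true := between_extend pointOk 22 0 3420 9 (p0u379) p0r380

theorem p0r381 : allRange pointOk 22 3429 9 = true := by decide +kernel
theorem p0u381 : ∀ k, 0 ≤ k → k < 3438 → pointOk (k * 22) = true := between_extend pointOk 22 0 3429 9 (p0u380) p0r381

theorem p0r382 : allRange pointOk 22 3438 9 = true := by decide +kernel
theorem p0u382 : ∀ k, 0 ≤ k → k < 3447 → pointOk (k * 22) = true := between_extend pointOk 22 0 3438 9 (p0u381) p0r382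

theorem p0r383 : allRange pointOk 22 3447 9 = true := by decide +kernel
theorem p0u383 : ∀ k, 0 ≤ k → k < 3456 → pointOk (k * 22) = true := between_extend pointOk 22 0 3447 9 (p0u382) p0r383

theorem p0r384 : allRange pointOk 22 3456 9 = true := by decide +kernel
theorem p0u384 : ∀ k, 0 ≤ k → k < 3465 → pointOk (k * 22) = true := between_extend pointOk 22 0 3456 9 (p0u383) p0r384

theorem p0r385 : allRange pointOk 22 3465 9 = true := by decide +kernel
theorem p0u385 : ∀ k, 0 ≤ k → k < 3474 → pointOk (k * 22) = true := between_extend pointOk 22 0 3465 9 (p0u384) p0r385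

theorem p0r386 : allRange pointOk 22 3474 9 = true := by decide +kernel
theorem p0u386 : ∀ k, 0 ≤ k → k < 3483 → pointOk (k * 22) = true := between_extend pointOk 22 0 3474 9 (p0u385) p0r386

theorem p0r387 : allRange pointOk 22 3483 9 = true := by decide +kernel
theorem p0u387 : ∀ k, 0 ≤ k → k < 3492 → pointOk (k * 22) = true := between_extend pointOk 22 0 3483 9 (p0u386) p0r387

theorem p0r388 : allRange pointOk 22 3492 9 = true := by decide +kernel
theorem p0u388 : ∀ k, 0 ≤ k → k < 3501 → pointOk (k * 22) = true := between_extend pointOk 22 0 3492 9 (p0u387) p0r388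

theorem p0r389 : allRange pointOk 22 3501 9 = true := by decide +kernel
theorem p0u389 : ∀ k, 0 ≤ k → k < 3510 → pointOk (k * 22) = true := between_extend pointOk 22 0 3501 9 (p0u388) p0r389

theorem p0r390 : allRange pointOk 22 3510 9 = true := by decide +kernel
theorem p0u390 : ∀ k, 0 ≤ k → k < 3519 → pointOk (k * 22) = true := between_extend pointOk 22 0 3510 9 (p0u389) p0r390

theorem p0r391 : allRange pointOk 22 3519 9 = true := by decide +kernel
theorem p0u391 : ∀ k, 0 ≤ k → k < 3528 → pointOk (k * 22) = true := between_extend pointOk 22 0 3519 9 (p0u390) p0r391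

theorem p0r392 : allRange pointOk 22 3528 9 = true := by decide +kernel
theorem p0u392 : ∀ k, 0 ≤ k → k < 3537 → pointOk (k * 22) = true := between_extend pointOk 22 0 3528 9 (p0u391) p0r392

theorem p0r393 : allRange pointOk 22 3537 9 = true := by decide +kernel
theorem p0u393 : ∀ k, 0 ≤ k → k < 3546 → pointOk (k * 22) = true := between_extend pointOk 22 0 3537 9 (p0u392) p0r393

theorem p0r394 : allRange pointOk 22 3546 9 = true := by decide +kernel
theorem p0u394 : ∀ k, 0 ≤ k → k < 3555 → pointOk (k * 22) = true := between_extend pointOk 22 0 3546 9 (p0u393) p0r394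

theorem p0r395 : allRange pointOk 22 3555 9 = true := by decide +kernel
theorem p0u395 : ∀ k, 0 ≤ k → k < 3564 → pointOk (k * 22) = true := between_extend pointOk 22 0 3555 9 (p0u394) p0r395

theorem p0r396 : allRange pointOk 22 3564 9 = true := by decide +kernel
theorem p0u396 : ∀ k, 0 ≤ k → k < 3573 → pointOk (k * 22) = true := between_extend pointOk 22 0 3564 9 (p0u395) p0r396

theorem p0r397 : allRange pointOk 22 3573 9 = true := by decide +kernel
theorem p0u397 : ∀ k, 0 ≤ k → k < 3582 → pointOk (k * 22) = true := between_extend pointOk 22 0 3573 9 (p0u396) p0r397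

theorem p0r398 : allRange pointOk 22 3582 9 = true := by decide +kernel
theorem p0u398 : ∀ k, 0 ≤ k → k < 3591 → pointOk (k * 22) = true := between_extend pointOk 22 0 3582 9 (p0u397) p0r398

theorem p0r399 : allRange pointOk 22 3591 9 = true := by decide +kernel
theorem p0u399 : ∀ k, 0 ≤ k → k < 3600 → pointOk (k * 22) = true := between_extend pointOk 22 0 3591 9 (p0u398) p0r399

theorem p0r400 : allRange pointOk 22 3600 9 = true := by decide +kernel
theorem p0u400 : ∀ k, 0 ≤ k → k < 3609 → pointOk (k * 22) = true := between_extend pointOk 22 0 3600 9 (p0u399) p0r400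

theorem p0r401 : allRange pointOk 22 3609 9 = true := by decide +kernel
theorem p0u401 : ∀ k, 0 ≤ k → k < 3618 → pointOk (k * 22) = true := between_extend pointOk 22 0 3609 9 (p0u400) p0r401

theorem p0r402 : allRange pointOk 22 3618 9 = true := by decide +kernel
theorem p0u402 : ∀ k, 0 ≤ k → k < 3627 → pointOk (k * 22) = true := between_extend pointOk 22 0 3618 9 (p0u401) p0r402

theorem p0r403 : allRange pointOk 22 3627 9 = true := by decide +kernel
theorem p0u403 : ∀ k, 0 ≤ k → k < 3636 → pointOk (k * 22) = true := between_extend pointOk 22 0 3627 9 (p0u402) p0r403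

theorem p0r404 : allRange pointOk 22 3636 9 = true := by decide +kernel
theorem p0u404 : ∀ k, 0 ≤ k → k < 3645 → pointOk (k * 22) = true := between_extend pointOk 22 0 3636 9 (p0u403) p0r404

theorem p0r405 : allRange pointOk 22 3645 9 = true := by decide +kernel
theorem p0u405 : ∀ k, 0 ≤ k → k < 3654 → pointOk (k * 22) = true := between_extend pointOk 22 0 3645 9 (p0u404) p0r405

theorem p0r406 : allRange pointOk 22 3654 9 = true := by decide +kernel
theorem p0u406 : ∀ k, 0 ≤ k → k < 3663 → pointOk (k * 22) = true := between_extend pointOk 22 0 3654 9 (p0u405) p0r406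

theorem p0r407 : allRange pointOk 22 3663 9 = true := by decide +kernel
theorem p0u407 : ∀ k, 0 ≤ k → k < 3672 → pointOk (k * 22) = true := between_extend pointOk 22 0 3663 9 (p0u406) p0r407

theorem p0r408 : allRange pointOk 22 3672 9 = true := by decide +kernel
theorem p0u408 : ∀ k, 0 ≤ k → k < 3681 → pointOk (k * 22) = true := between_extend pointOk 22 0 3672 9 (p0u407) p0r408

theorem p0r409 : allRange pointOk 22 3681 9 = true := by decide +kernel
theorem p0u409 : ∀ k, 0 ≤ k → k < 3690 → pointOk (k * 22) = true := between_extend pointOk 22 0 3681 9 (p0u408) p0r409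

theorem p0r410 : allRange pointOk 22 3690 9 = true := by decide +kernel
theorem p0u410 : ∀ k, 0 ≤ k → k < 3699 → pointOk (k * 22) = true := between_extend pointOk 22 0 3690 9 (p0u409) p0r410

theorem p0r411 : allRange pointOk 22 3699 9 = true := by decide +kernel
theorem p0u411 : ∀ k, 0 ≤ k → k < 3708 → pointOk (k * 22) = true := between_extend pointOk 22 0 3699 9 (p0u410) p0r411

theorem p0r412 : allRange pointOk 22 3708 9 = true := by decide +kernel
theorem p0u412 : ∀ k, 0 ≤ k → k < 3717 → pointOk (k * 22) = true := between_extend pointOk 22 0 3708 9 (p0u411) p0r412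

theorem p0r413 : allRange pointOk 22 3717 9 = true := by decide +kernel
theorem p0u413 : ∀ k, 0 ≤ k → k < 3726 → pointOk (k * 22) = true := between_extend pointOk 22 0 3717 9 (p0u412) p0r413

theorem p0r414 : allRange pointOk 22 3726 9 = true := by decide +kernel
theorem p0u414 : ∀ k, 0 ≤ k → k < 3735 → pointOk (k * 22) = true := between_extend pointOk 22 0 3726 9 (p0u413) p0r414

theorem p0r415 : allRange pointOk 22 3735 9 = true := by decide +kernel
theorem p0u415 : ∀ k, 0 ≤ k → k < 3744 → pointOk (k * 22) = true := between_extend pointOk 22 0 3735 9 (p0u414) p0r415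

theorem p0r416 : allRange pointOk 22 3744 9 = true := by decide +kernel
theorem p0u416 : ∀ k, 0 ≤ k → k < 3753 → pointOk (k * 22) = true := between_extend pointOk 22 0 3744 9 (p0u415) p0r416

theorem p0r417 : allRange pointOk 22 3753 9 = true := by decide +kernel
theorem p0u417 : ∀ k, 0 ≤ k → k < 3762 → pointOk (k * 22) = true := between_extend pointOk 22 0 3753 9 (p0u416) p0r417

theorem p0r418 : allRange pointOk 22 3762 9 = true := by decide +kernel
theorem p0u418 : ∀ k, 0 ≤ k → k < 3771 → pointOk (k * 22) = true := between_extend pointOk 22 0 3762 9 (p0u417) p0r418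

theorem p0r419 : allRange pointOk 22 3771 9 = true := by decide +kernel
theorem p0u419 : ∀ k, 0 ≤ k → k < 3780 → pointOk (k * 22) = true := between_extend pointOk 22 0 3771 9 (p0u418) p0r419

theorem p0r420 : allRange pointOk 22 3780 9 = true := by decide +kernel
theorem p0u420 : ∀ k, 0 ≤ k → k < 3789 → pointOk (k * 22) = true := between_extend pointOk 22 0 3780 9 (p0u419) p0r420

theorem p0r421 : allRange pointOk 22 3789 9 = true := by decide +kernel
theorem p0u421 : ∀ k, 0 ≤ k → k < 3798 → pointOk (k * 22) = true := between_extend pointOk 22 0 3789 9 (p0u420) p0r421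

theorem p0r422 : allRange pointOk 22 3798 9 = true := by decide +kernel
theorem p0u422 : ∀ k, 0 ≤ k → k < 3807 → pointOk (k * 22) = true := between_extend pointOk 22 0 3798 9 (p0u421) p0r422

theorem p0r423 : allRange pointOk 22 3807 9 = true := by decide +kernel
theorem p0u423 : ∀ k, 0 ≤ k → k < 3816 → pointOk (k * 22) = true := between_extend pointOk 22 0 3807 9 (p0u422) p0r423

theorem p0r424 : allRange pointOk 22 3816 9 = true := by decide +kernel
theorem p0u424 : ∀ k, 0 ≤ k → k < 3825 → pointOk (k * 22) = true := between_extend pointOk 22 0 3816 9 (p0u423) p0r424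

theorem p0r425 : allRange pointOk 22 3825 9 = true := by decide +kernel
theorem p0u425 : ∀ k, 0 ≤ k → k < 3834 → pointOk (k * 22) = true := between_extend pointOk 22 0 3825 9 (p0u424) p0r425

theorem p0r426 : allRange pointOk 22 3834 9 = true := by decide +kernel
theorem p0u426 : ∀ k, 0 ≤ k → k < 3843 → pointOk (k * 22) = true := between_extend pointOk 22 0 3834 9 (p0u425) p0r426

theorem p0r427 : allRange pointOk 22 3843 9 = true := by decide +kernel
theorem p0u427 : ∀ k, 0 ≤ k → k < 3852 → pointOk (k * 22) = true := between_extend pointOk 22 0 3843 9 (p0u426) p0r427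

theorem p0r428 : allRange pointOk 22 3852 9 = true := by decide +kernel
theorem p0u428 : ∀ k, 0 ≤ k → k < 3861 → pointOk (k * 22) = true := between_extend pointOk 22 0 3852 9 (p0u427) p0r428

theorem p0r429 : allRange pointOk 22 3861 9 = true := by decide +kernel
theorem p0u429 : ∀ k, 0 ≤ k → k < 3870 → pointOk (k * 22) = true := between_extend pointOk 22 0 3861 9 (p0u428) p0r429

theorem p0r430 : allRange pointOk 22 3870 9 = true := by decide +kernel
theorem p0u430 : ∀ k, 0 ≤ k → k < 3879 → pointOk (k * 22) = true := between_extend pointOk 22 0 3870 9 (p0u429) p0r430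

theorem p0r431 : allRange pointOk 22 3879 9 = true := by decide +kernel
theorem p0u431 : ∀ k, 0 ≤ k → k < 3888 → pointOk (k * 22) = true := between_extend pointOk 22 0 3879 9 (p0u430) p0r431

theorem p0r432 : allRange pointOk 22 3888 9 = true := by decide +kernel
theorem p0u432 : ∀ k, 0 ≤ k → k < 3897 → pointOk (k * 22) = true := between_extend pointOk 22 0 3888 9 (p0u431) p0r432

theorem p0r433 : allRange pointOk 22 3897 9 = true := by decide +kernel
theorem p0u433 : ∀ k, 0 ≤ k → k < 3906 → pointOk (k * 22) = true := between_extend pointOk 22 0 3897 9 (p0u432) p0r433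

theorem p0r434 : allRange pointOk 22 3906 9 = true := by decide +kernel
theorem p0u434 : ∀ k, 0 ≤ k → k < 3915 → pointOk (k * 22) = true := between_extend pointOk 22 0 3906 9 (p0u433) p0r434

theorem p0r435 : allRange pointOk 22 3915 9 = true := by decide +kernel
theorem p0u435 : ∀ k, 0 ≤ k → k < 3924 → pointOk (k * 22) = true := between_extend pointOk 22 0 3915 9 (p0u434) p0r435

theorem p0r436 : allRange pointOk 22 3924 9 = true := by decide +kernel
theorem p0u436 : ∀ k, 0 ≤ k → k < 3933 → pointOk (k * 22) = true := between_extend pointOk 22 0 3924 9 (p0u435) p0r436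

theorem p0r437 : allRange pointOk 22 3933 9 = true := by decide +kernel
theorem p0u437 : ∀ k, 0 ≤ k → k < 3942 → pointOk (k * 22) = true := between_extend pointOk 22 0 3933 9 (p0u436) p0r437

theorem p0r438 : allRange pointOk 22 3942 9 = true := by decide +kernel
theorem p0u438 : ∀ k, 0 ≤ k → k < 3951 → pointOk (k * 22) = true := between_extend pointOk 22 0 3942 9 (p0u437) p0r438

theorem p0r439 : allRange pointOk 22 3951 9 = true := by decide +kernel
theorem p0u439 : ∀ k, 0 ≤ k → k < 3960 → pointOk (k * 22) = true := between_extend pointOk 22 0 3951 9 (p0u438) p0r439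

theorem p0r440 : allRange pointOk 22 3960 9 = true := by decide +kernel
theorem p0u440 : ∀ k, 0 ≤ k → k < 3969 → pointOk (k * 22) = true := between_extend pointOk 22 0 3960 9 (p0u439) p0r440

theorem p0r441 : allRange pointOk 22 3969 9 = true := by decide +kernel
theorem p0u441 : ∀ k, 0 ≤ k → k < 3978 → pointOk (k * 22) = true := between_extend pointOk 22 0 3969 9 (p0u440) p0r441

theorem p0r442 : allRange pointOk 22 3978 9 = true := by decide +kernel
theorem p0u442 : ∀ k, 0 ≤ k → k < 3987 → pointOk (k * 22) = true := between_extend pointOk 22 0 3978 9 (p0u441) p0r442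

theorem p0r443 : allRange pointOk 22 3987 9 = true := by decide +kernel
theorem p0u443 : ∀ k, 0 ≤ k → k < 3996 → pointOk (k * 22) = true := between_extend pointOk 22 0 3987 9 (p0u442) p0r443

theorem p0r444 : allRange pointOk 22 3996 9 = true := by decide +kernel
theorem p0u444 : ∀ k, 0 ≤ k → k < 4005 → pointOk (k * 22) = true := between_extend pointOk 22 0 3996 9 (p0u443) p0r444

theorem p0r445 : allRange pointOk 22 4005 9 = true := by decide +kernel
theorem p0u445 : ∀ k, 0 ≤ k → k < 4014 → pointOk (k * 22) = true := between_extend pointOk 22 0 4005 9 (p0u444) p0r445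

theorem p0r446 : allRange pointOk 22 4014 9 = true := by decide +kernel
theorem p0u446 : ∀ k, 0 ≤ k → k < 4023 → pointOk (k * 22) = true := between_extend pointOk 22 0 4014 9 (p0u445) p0r446

theorem p0r447 : allRange pointOk 22 4023 9 = true := by decide +kernel
theorem p0u447 : ∀ k, 0 ≤ k → k < 4032 → pointOk (k * 22) = true := between_extend pointOk 22 0 4023 9 (p0u446) p0r447

theorem p0r448 : allRange pointOk 22 4032 9 = true := by decide +kernel
theorem p0u448 : ∀ k, 0 ≤ k → k < 4041 → pointOk (k * 22) = true := between_extend pointOk 22 0 4032 9 (p0u447) p0r448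

theorem p0r449 : allRange pointOk 22 4041 9 = true := by decide +kernel
theorem p0u449 : ∀ k, 0 ≤ k → k < 4050 → pointOk (k * 22) = true := between_extend pointOk 22 0 4041 9 (p0u448) p0r449

theorem p0r450 : allRange pointOk 22 4050 9 = true := by decide +kernel
theorem p0u450 : ∀ k, 0 ≤ k → k < 4059 → pointOk (k * 22) = true := between_extend pointOk 22 0 4050 9 (p0u449) p0r450

theorem p0r451 : allRange pointOk 22 4059 9 = true := by decide +kernel
theorem p0u451 : ∀ k, 0 ≤ k → k < 4068 → pointOk (k * 22) = true := between_extend pointOk 22 0 4059 9 (p0u450) p0r451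

theorem p0r452 : allRange pointOk 22 4068 9 = true := by decide +kernel
theorem p0u452 : ∀ k, 0 ≤ k → k < 4077 → pointOk (k * 22) = true := between_extend pointOk 22 0 4068 9 (p0u451) p0r452

theorem p0r453 : allRange pointOk 22 4077 9 = true := by decide +kernel
theorem p0u453 : ∀ k, 0 ≤ k → k < 4086 → pointOk (k * 22) = true := between_extend pointOk 22 0 4077 9 (p0u452) p0r453

theorem p0r454 : allRange pointOk 22 4086 9 = true := by decide +kernel
theorem p0u454 : ∀ k, 0 ≤ k → k < 4095 → pointOk (k * 22) = true := between_extend pointOk 22 0 4086 9 (p0u453) p0r454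

theorem p0r455 : allRange pointOk 22 4095 9 = true := by decide +kernel
theorem p0u455 : ∀ k, 0 ≤ k → k < 4104 → pointOk (k * 22) = true := between_extend pointOk 22 0 4095 9 (p0u454) p0r455

theorem p0r456 : allRange pointOk 22 4104 9 = true := by decide +kernel
theorem p0u456 : ∀ k, 0 ≤ k → k < 4113 → pointOk (k * 22) = true := between_extend pointOk 22 0 4104 9 (p0u455) p0r456

theorem p0r457 : allRange pointOk 22 4113 9 = true := by decide +kernel
theorem p0u457 : ∀ k, 0 ≤ k → k < 4122 → pointOk (k * 22) = true := between_extend pointOk 22 0 4113 9 (p0u456) p0r457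

theorem p0r458 : allRange pointOk 22 4122 9 = true := by decide +kernel
theorem p0u458 : ∀ k, 0 ≤ k → k < 4131 → pointOk (k * 22) = true := between_extend pointOk 22 0 4122 9 (p0u457) p0r458

theorem p0r459 : allRange pointOk 22 4131 9 = true := by decide +kernel
theorem p0u459 : ∀ k, 0 ≤ k → k < 4140 → pointOk (k * 22) = true := between_extend pointOk 22 0 4131 9 (p0u458) p0r459

theorem p0r460 : allRange pointOk 22 4140 9 = true := by decide +kernel
theorem p0u460 : ∀ k, 0 ≤ k → k < 4149 → pointOk (k * 22) = true := between_extend pointOk 22 0 4140 9 (p0u459) p0r460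

theorem p0r461 : allRange pointOk 22 4149 9 = true := by decide +kernel
theorem p0u461 : ∀ k, 0 ≤ k → k < 4158 → pointOk (k * 22) = true := between_extend pointOk 22 0 4149 9 (p0u460) p0r461

theorem p0r462 : allRange pointOk 22 4158 9 = true := by decide +kernel
theorem p0u462 : ∀ k, 0 ≤ k → k < 4167 → pointOk (k * 22) = true := between_extend pointOk 22 0 4158 9 (p0u461) p0r462

theorem p0r463 : allRange pointOk 22 4167 9 = true := by decide +kernel
theorem p0u463 : ∀ k, 0 ≤ k → k < 4176 → pointOk (k * 22) = true := between_extend pointOk 22 0 4167 9 (p0u462) p0r463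

theorem p0r464 : allRange pointOk 22 4176 9 = true := by decide +kernel
theorem p0u464 : ∀ k, 0 ≤ k → k < 4185 → pointOk (k * 22) = true := between_extend pointOk 22 0 4176 9 (p0u463) p0r464

theorem p0r465 : allRange pointOk 22 4185 9 = true := by decide +kernel
theorem p0u465 : ∀ k, 0 ≤ k → k < 4194 → pointOk (k * 22) = true := between_extend pointOk 22 0 4185 9 (p0u464) p0r465

theorem p0r466 : allRange pointOk 22 4194 9 = true := by decide +kernel
theorem p0u466 : ∀ k, 0 ≤ k → k < 4203 → pointOk (k * 22) = true := between_extend pointOk 22 0 4194 9 (p0u465) p0r466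

theorem p0r467 : allRange pointOk 22 4203 9 = true := by decide +kernel
theorem p0u467 : ∀ k, 0 ≤ k → k < 4212 → pointOk (k * 22) = true := between_extend pointOk 22 0 4203 9 (p0u466) p0r467

theorem p0r468 : allRange pointOk 22 4212 9 = true := by decide +kernel
theorem p0u468 : ∀ k, 0 ≤ k → k < 4221 → pointOk (k * 22) = true := between_extend pointOk 22 0 4212 9 (p0u467) p0r468

theorem p0r469 : allRange pointOk 22 4221 9 = true := by decide +kernel
theorem p0u469 : ∀ k, 0 ≤ k → k < 4230 → pointOk (k * 22) = true := between_extend pointOk 22 0 4221 9 (p0u468) p0r469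

theorem p0r470 : allRange pointOk 22 4230 9 = true := by decide +kernel
theorem p0u470 : ∀ k, 0 ≤ k → k < 4239 → pointOk (k * 22) = true := between_extend pointOk 22 0 4230 9 (p0u469) p0r470

theorem p0r471 : allRange pointOk 22 4239 9 = true := by decide +kernel
theorem p0u471 : ∀ k, 0 ≤ k → k < 4248 → pointOk (k * 22) = true := between_extend pointOk 22 0 4239 9 (p0u470) p0r471

theorem p0r472 : allRange pointOk 22 4248 9 = true := by decide +kernel
theorem p0u472 : ∀ k, 0 ≤ k → k < 4257 → pointOk (k * 22) = true := between_extend pointOk 22 0 4248 9 (p0u471) p0r472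

theorem p0r473 : allRange pointOk 22 4257 9 = true := by decide +kernel
theorem p0u473 : ∀ k, 0 ≤ k → k < 4266 → pointOk (k * 22) = true := between_extend pointOk 22 0 4257 9 (p0u472) p0r473

theorem p0r474 : allRange pointOk 22 4266 9 = true := by decide +kernel
theorem p0u474 : ∀ k, 0 ≤ k → k < 4275 → pointOk (k * 22) = true := between_extend pointOk 22 0 4266 9 (p0u473) p0r474

theorem p0r475 : allRange pointOk 22 4275 9 = true := by decide +kernel
theorem p0u475 : ∀ k, 0 ≤ k → k < 4284 → pointOk (k * 22) = true := between_extend pointOk 22 0 4275 9 (p0u474) p0r475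

theorem p0r476 : allRange pointOk 22 4284 9 = true := by decide +kernel
theorem p0u476 : ∀ k, 0 ≤ k → k < 4293 → pointOk (k * 22) = true := between_extend pointOk 22 0 4284 9 (p0u475) p0r476

theorem p0r477 : allRange pointOk 22 4293 9 = true := by decide +kernel
theorem p0u477 : ∀ k, 0 ≤ k → k < 4302 → pointOk (k * 22) = true := between_extend pointOk 22 0 4293 9 (p0u476) p0r477

theorem p0r478 : allRange pointOk 22 4302 9 = true := by decide +kernel
theorem p0u478 : ∀ k, 0 ≤ k → k < 4311 → pointOk (k * 22) = true := between_extend pointOk 22 0 4302 9 (p0u477) p0r478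

theorem p0r479 : allRange pointOk 22 4311 9 = true := by decide +kernel
theorem p0u479 : ∀ k, 0 ≤ k → k < 4320 → pointOk (k * 22) = true := between_extend pointOk 22 0 4311 9 (p0u478) p0r479

theorem p0r480 : allRange pointOk 22 4320 9 = true := by decide +kernel
theorem p0u480 : ∀ k, 0 ≤ k → k < 4329 → pointOk (k * 22) = true := between_extend pointOk 22 0 4320 9 (p0u479) p0r480

theorem p0r481 : allRange pointOk 22 4329 9 = true := by decide +kernel
theorem p0u481 : ∀ k, 0 ≤ k → k < 4338 → pointOk (k * 22) = true := between_extend pointOk 22 0 4329 9 (p0u480) p0r481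

theorem p0r482 : allRange pointOk 22 4338 9 = true := by decide +kernel
theorem p0u482 : ∀ k, 0 ≤ k → k < 4347 → pointOk (k * 22) = true := between_extend pointOk 22 0 4338 9 (p0u481) p0r482

theorem p0r483 : allRange pointOk 22 4347 9 = true := by decide +kernel
theorem p0u483 : ∀ k, 0 ≤ k → k < 4356 → pointOk (k * 22) = true := between_extend pointOk 22 0 4347 9 (p0u482) p0r483

theorem p0r484 : allRange pointOk 22 4356 9 = true := by decide +kernel
theorem p0u484 : ∀ k, 0 ≤ k → k < 4365 → pointOk (k * 22) = true := between_extend pointOk 22 0 4356 9 (p0u483) p0r484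

theorem p0r485 : allRange pointOk 22 4365 9 = true := by decide +kernel
theorem p0u485 : ∀ k, 0 ≤ k → k < 4374 → pointOk (k * 22) = true := between_extend pointOk 22 0 4365 9 (p0u484) p0r485

theorem p0r486 : allRange pointOk 22 4374 9 = true := by decide +kernel
theorem p0u486 : ∀ k, 0 ≤ k → k < 4383 → pointOk (k * 22) = true := between_extend pointOk 22 0 4374 9 (p0u485) p0r486

theorem p0r487 : allRange pointOk 22 4383 9 = true := by decide +kernel
theorem p0u487 : ∀ k, 0 ≤ k → k < 4392 → pointOk (k * 22) = true := between_extend pointOk 22 0 4383 9 (p0u486) p0r487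

theorem p0r488 : allRange pointOk 22 4392 9 = true := by decide +kernel
theorem p0u488 : ∀ k, 0 ≤ k → k < 4401 → pointOk (k * 22) = true := between_extend pointOk 22 0 4392 9 (p0u487) p0r488

theorem p0r489 : allRange pointOk 22 4401 9 = true := by decide +kernel
theorem p0u489 : ∀ k, 0 ≤ k → k < 4410 → pointOk (k * 22) = true := between_extend pointOk 22 0 4401 9 (p0u488) p0r489

theorem p0r490 : allRange pointOk 22 4410 9 = true := by decide +kernel
theorem p0u490 : ∀ k, 0 ≤ k → k < 4419 → pointOk (k * 22) = true := between_extend pointOk 22 0 4410 9 (p0u489) p0r490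

theorem p0r491 : allRange pointOk 22 4419 9 = true := by decide +kernel
theorem p0u491 : ∀ k, 0 ≤ k → k < 4428 → pointOk (k * 22) = true := between_extend pointOk 22 0 4419 9 (p0u490) p0r491

theorem p0r492 : allRange pointOk 22 4428 9 = true := by decide +kernel
theorem p0u492 : ∀ k, 0 ≤ k → k < 4437 → pointOk (k * 22) = true := between_extend pointOk 22 0 4428 9 (p0u491) p0r492

theorem p0r493 : allRange pointOk 22 4437 9 = true := by decide +kernel
theorem p0u493 : ∀ k, 0 ≤ k → k < 4446 → pointOk (k * 22) = true := between_extend pointOk 22 0 4437 9 (p0u492) p0r493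

theorem p0r494 : allRange pointOk 22 4446 9 = true := by decide +kernel
theorem p0u494 : ∀ k, 0 ≤ k → k < 4455 → pointOk (k * 22) = true := between_extend pointOk 22 0 4446 9 (p0u493) p0r494

theorem p0r495 : allRange pointOk 22 4455 9 = true := by decide +kernel
theorem p0u495 : ∀ k, 0 ≤ k → k < 4464 → pointOk (k * 22) = true := between_extend pointOk 22 0 4455 9 (p0u494) p0r495

theorem p0r496 : allRange pointOk 22 4464 9 = true := by decide +kernel
theorem p0u496 : ∀ k, 0 ≤ k → k < 4473 → pointOk (k * 22) = true := between_extend pointOk 22 0 4464 9 (p0u495) p0r496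

theorem p0r497 : allRange pointOk 22 4473 9 = true := by decide +kernel
theorem p0u497 : ∀ k, 0 ≤ k → k < 4482 → pointOk (k * 22) = true := between_extend pointOk 22 0 4473 9 (p0u496) p0r497

theorem p0r498 : allRange pointOk 22 4482 9 = true := by decide +kernel
theorem p0u498 : ∀ k, 0 ≤ k → k < 4491 → pointOk (k * 22) = true := between_extend pointOk 22 0 4482 9 (p0u497) p0r498

theorem p0r499 : allRange pointOk 22 4491 9 = true := by decide +kernel
theorem p0u499 : ∀ k, 0 ≤ k → k < 4500 → pointOk (k * 22) = true := between_extend pointOk 22 0 4491 9 (p0u498) p0r499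

theorem p0r500 : allRange pointOk 22 4500 9 = true := by decide +kernel
theorem p0u500 : ∀ k, 0 ≤ k → k < 4509 → pointOk (k * 22) = true := between_extend pointOk 22 0 4500 9 (p0u499) p0r500

theorem p0r501 : allRange pointOk 22 4509 9 = true := by decide +kernel
theorem p0u501 : ∀ k, 0 ≤ k → k < 4518 → pointOk (k * 22) = true := between_extend pointOk 22 0 4509 9 (p0u500) p0r501

theorem p0r502 : allRange pointOk 22 4518 9 = true := by decide +kernel
theorem p0u502 : ∀ k, 0 ≤ k → k < 4527 → pointOk (k * 22) = true := between_extend pointOk 22 0 4518 9 (p0u501) p0r502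

theorem p0r503 : allRange pointOk 22 4527 9 = true := by decide +kernel
theorem p0u503 : ∀ k, 0 ≤ k → k < 4536 → pointOk (k * 22) = true := between_extend pointOk 22 0 4527 9 (p0u502) p0r503

theorem p0r504 : allRange pointOk 22 4536 9 = true := by decide +kernel
theorem p0u504 : ∀ k, 0 ≤ k → k < 4545 → pointOk (k * 22) = true := between_extend pointOk 22 0 4536 9 (p0u503) p0r504

theorem p0r505 : allRange pointOk 22 4545 9 = true := by decide +kernel
theorem p0u505 : ∀ k, 0 ≤ k → k < 4554 → pointOk (k * 22) = true := between_extend pointOk 22 0 4545 9 (p0u504) p0r505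

theorem p0r506 : allRange pointOk 22 4554 9 = true := by decide +kernel
theorem p0u506 : ∀ k, 0 ≤ k → k < 4563 → pointOk (k * 22) = true := between_extend pointOk 22 0 4554 9 (p0u505) p0r506

theorem p0r507 : allRange pointOk 22 4563 9 = true := by decide +kernel
theorem p0u507 : ∀ k, 0 ≤ k → k < 4572 → pointOk (k * 22) = true := between_extend pointOk 22 0 4563 9 (p0u506) p0r507

theorem p0r508 : allRange pointOk 22 4572 9 = true := by decide +kernel
theorem p0u508 : ∀ k, 0 ≤ k → k < 4581 → pointOk (k * 22) = true := between_extend pointOk 22 0 4572 9 (p0u507) p0r508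

theorem p0r509 : allRange pointOk 22 4581 9 = true := by decide +kernel
theorem p0u509 : ∀ k, 0 ≤ k → k < 4590 → pointOk (k * 22) = true := between_extend pointOk 22 0 4581 9 (p0u508) p0r509

theorem p0r510 : allRange pointOk 22 4590 9 = true := by decide +kernel
theorem p0u510 : ∀ k, 0 ≤ k → k < 4599 → pointOk (k * 22) = true := between_extend pointOk 22 0 4590 9 (p0u509) p0r510

theorem p0r511 : allRange pointOk 22 4599 9 = true := by decide +kernel
theorem p0u511 : ∀ k, 0 ≤ k → k < 4608 → pointOk (k * 22) = true := between_extend pointOk 22 0 4599 9 (p0u510) p0r511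

theorem p0r512 : allRange pointOk 22 4608 9 = true := by decide +kernel
theorem p0u512 : ∀ k, 0 ≤ k → k < 4617 → pointOk (k * 22) = true := between_extend pointOk 22 0 4608 9 (p0u511) p0r512

theorem p0r513 : allRange pointOk 22 4617 9 = true := by decide +kernel
theorem p0u513 : ∀ k, 0 ≤ k → k < 4626 → pointOk (k * 22) = true := between_extend pointOk 22 0 4617 9 (p0u512) p0r513

theorem p0r514 : allRange pointOk 22 4626 9 = true := by decide +kernel
theorem p0u514 : ∀ k, 0 ≤ k → k < 4635 → pointOk (k * 22) = true := between_extend pointOk 22 0 4626 9 (p0u513) p0r514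

theorem p0r515 : allRange pointOk 22 4635 9 = true := by decide +kernel
theorem p0u515 : ∀ k, 0 ≤ k → k < 4644 → pointOk (k * 22) = true := between_extend pointOk 22 0 4635 9 (p0u514) p0r515

theorem p0r516 : allRange pointOk 22 4644 9 = true := by decide +kernel
theorem p0u516 : ∀ k, 0 ≤ k → k < 4653 → pointOk (k * 22) = true := between_extend pointOk 22 0 4644 9 (p0u515) p0r516

theorem p0r517 : allRange pointOk 22 4653 9 = true := by decide +kernel
theorem p0u517 : ∀ k, 0 ≤ k → k < 4662 → pointOk (k * 22) = true := between_extend pointOk 22 0 4653 9 (p0u516) p0r517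

theorem p0r518 : allRange pointOk 22 4662 9 = true := by decide +kernel
theorem p0u518 : ∀ k, 0 ≤ k → k < 4671 → pointOk (k * 22) = true := between_extend pointOk 22 0 4662 9 (p0u517) p0r518

theorem p0r519 : allRange pointOk 22 4671 9 = true := by decide +kernel
theorem p0u519 : ∀ k, 0 ≤ k → k < 4680 → pointOk (k * 22) = true := between_extend pointOk 22 0 4671 9 (p0u518) p0r519

theorem p0r520 : allRange pointOk 22 4680 9 = true := by decide +kernel
theorem p0u520 : ∀ k, 0 ≤ k → k < 4689 → pointOk (k * 22) = true := between_extend pointOk 22 0 4680 9 (p0u519) p0r520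

theorem p0r521 : allRange pointOk 22 4689 9 = true := by decide +kernel
theorem p0u521 : ∀ k, 0 ≤ k → k < 4698 → pointOk (k * 22) = true := between_extend pointOk 22 0 4689 9 (p0u520) p0r521

theorem p0r522 : allRange pointOk 22 4698 9 = true := by decide +kernel
theorem p0u522 : ∀ k, 0 ≤ k → k < 4707 → pointOk (k * 22) = true := between_extend pointOk 22 0 4698 9 (p0u521) p0r522

theorem p0r523 : allRange pointOk 22 4707 9 = true := by decide +kernel
theorem p0u523 : ∀ k, 0 ≤ k → k < 4716 → pointOk (k * 22) = true := between_extend pointOk 22 0 4707 9 (p0u522) p0r523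

theorem p0r524 : allRange pointOk 22 4716 9 = true := by decide +kernel
theorem p0u524 : ∀ k, 0 ≤ k → k < 4725 → pointOk (k * 22) = true := between_extend pointOk 22 0 4716 9 (p0u523) p0r524

theorem p0r525 : allRange pointOk 22 4725 9 = true := by decide +kernel
theorem p0u525 : ∀ k, 0 ≤ k → k < 4734 → pointOk (k * 22) = true := between_extend pointOk 22 0 4725 9 (p0u524) p0r525

theorem p0r526 : allRange pointOk 22 4734 9 = true := by decide +kernel
theorem p0u526 : ∀ k, 0 ≤ k → k < 4743 → pointOk (k * 22) = true := between_extend pointOk 22 0 4734 9 (p0u525) p0r526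

theorem p0r527 : allRange pointOk 22 4743 9 = true := by decide +kernel
theorem p0u527 : ∀ k, 0 ≤ k → k < 4752 → pointOk (k * 22) = true := between_extend pointOk 22 0 4743 9 (p0u526) p0r527

theorem p0r528 : allRange pointOk 22 4752 9 = true := by decide +kernel
theorem p0u528 : ∀ k, 0 ≤ k → k < 4761 → pointOk (k * 22) = true := between_extend pointOk 22 0 4752 9 (p0u527) p0r528

theorem p0r529 : allRange pointOk 22 4761 9 = true := by decide +kernel
theorem p0u529 : ∀ k, 0 ≤ k → k < 4770 → pointOk (k * 22) = true := between_extend pointOk 22 0 4761 9 (p0u528) p0r529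

theorem p0r530 : allRange pointOk 22 4770 9 = true := by decide +kernel
theorem p0u530 : ∀ k, 0 ≤ k → k < 4779 → pointOk (k * 22) = true := between_extend pointOk 22 0 4770 9 (p0u529) p0r530

theorem p0r531 : allRange pointOk 22 4779 9 = true := by decide +kernel
theorem p0u531 : ∀ k, 0 ≤ k → k < 4788 → pointOk (k * 22) = true := between_extend pointOk 22 0 4779 9 (p0u530) p0r531

theorem p0r532 : allRange pointOk 22 4788 9 = true := by decide +kernel
theorem p0u532 : ∀ k, 0 ≤ k → k < 4797 → pointOk (k * 22) = true := between_extend pointOk 22 0 4788 9 (p0u531) p0r532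

theorem p0r533 : allRange pointOk 22 4797 9 = true := by decide +kernel
theorem p0u533 : ∀ k, 0 ≤ k → k < 4806 → pointOk (k * 22) = true := between_extend pointOk 22 0 4797 9 (p0u532) p0r533

theorem p0r534 : allRange pointOk 22 4806 9 = true := by decide +kernel
theorem p0u534 : ∀ k, 0 ≤ k → k < 4815 → pointOk (k * 22) = true := between_extend pointOk 22 0 4806 9 (p0u533) p0r534

theorem p0r535 : allRange pointOk 22 4815 9 = true := by decide +kernel
theorem p0u535 : ∀ k, 0 ≤ k → k < 4824 → pointOk (k * 22) = true := between_extend pointOk 22 0 4815 9 (p0u534) p0r535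

theorem p0r536 : allRange pointOk 22 4824 9 = true := by decide +kernel
theorem p0u536 : ∀ k, 0 ≤ k → k < 4833 → pointOk (k * 22) = true := between_extend pointOk 22 0 4824 9 (p0u535) p0r536

theorem p0r537 : allRange pointOk 22 4833 9 = true := by decide +kernel
theorem p0u537 : ∀ k, 0 ≤ k → k < 4842 → pointOk (k * 22) = true := between_extend pointOk 22 0 4833 9 (p0u536) p0r537

theorem p0r538 : allRange pointOk 22 4842 9 = true := by decide +kernel
theorem p0u538 : ∀ k, 0 ≤ k → k < 4851 → pointOk (k * 22) = true := between_extend pointOk 22 0 4842 9 (p0u537) p0r538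

theorem p0r539 : allRange pointOk 22 4851 9 = true := by decide +kernel
theorem p0u539 : ∀ k, 0 ≤ k → k < 4860 → pointOk (k * 22) = true := between_extend pointOk 22 0 4851 9 (p0u538) p0r539

theorem p0r540 : allRange pointOk 22 4860 9 = true := by decide +kernel
theorem p0u540 : ∀ k, 0 ≤ k → k < 4869 → pointOk (k * 22) = true := between_extend pointOk 22 0 4860 9 (p0u539) p0r540

theorem p0r541 : allRange pointOk 22 4869 9 = true := by decide +kernel
theorem p0u541 : ∀ k, 0 ≤ k → k < 4878 → pointOk (k * 22) = true := between_extend pointOk 22 0 4869 9 (p0u540) p0r541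

theorem p0r542 : allRange pointOk 22 4878 9 = true := by decide +kernel
theorem p0u542 : ∀ k, 0 ≤ k → k < 4887 → pointOk (k * 22) = true := between_extend pointOk 22 0 4878 9 (p0u541) p0r542

theorem p0r543 : allRange pointOk 22 4887 9 = true := by decide +kernel
theorem p0u543 : ∀ k, 0 ≤ k → k < 4896 → pointOk (k * 22) = true := between_extend pointOk 22 0 4887 9 (p0u542) p0r543

theorem p0r544 : allRange pointOk 22 4896 9 = true := by decide +kernel
theorem p0u544 : ∀ k, 0 ≤ k → k < 4905 → pointOk (k * 22) = true := between_extend pointOk 22 0 4896 9 (p0u543) p0r544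

theorem p0r545 : allRange pointOk 22 4905 9 = true := by decide +kernel
theorem p0u545 : ∀ k, 0 ≤ k → k < 4914 → pointOk (k * 22) = true := between_extend pointOk 22 0 4905 9 (p0u544) p0r545

theorem p0r546 : allRange pointOk 22 4914 9 = true := by decide +kernel
theorem p0u546 : ∀ k, 0 ≤ k → k < 4923 → pointOk (k * 22) = true := between_extend pointOk 22 0 4914 9 (p0u545) p0r546

theorem p0r547 : allRange pointOk 22 4923 9 = true := by decide +kernel
theorem p0u547 : ∀ k, 0 ≤ k → k < 4932 → pointOk (k * 22) = true := between_extend pointOk 22 0 4923 9 (p0u546) p0r547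

theorem p0r548 : allRange pointOk 22 4932 9 = true := by decide +kernel
theorem p0u548 : ∀ k, 0 ≤ k → k < 4941 → pointOk (k * 22) = true := between_extend pointOk 22 0 4932 9 (p0u547) p0r548

theorem p0r549 : allRange pointOk 22 4941 9 = true := by decide +kernel
theorem p0u549 : ∀ k, 0 ≤ k → k < 4950 → pointOk (k * 22) = true := between_extend pointOk 22 0 4941 9 (p0u548) p0r549

theorem p0r550 : allRange pointOk 22 4950 9 = true := by decide +kernel
theorem p0u550 : ∀ k, 0 ≤ k → k < 4959 → pointOk (k * 22) = true := between_extend pointOk 22 0 4950 9 (p0u549) p0r550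

theorem p0r551 : allRange pointOk 22 4959 9 = true := by decide +kernel
theorem p0u551 : ∀ k, 0 ≤ k → k < 4968 → pointOk (k * 22) = true := between_extend pointOk 22 0 4959 9 (p0u550) p0r551

theorem p0r552 : allRange pointOk 22 4968 9 = true := by decide +kernel
theorem p0u552 : ∀ k, 0 ≤ k → k < 4977 → pointOk (k * 22) = true := between_extend pointOk 22 0 4968 9 (p0u551) p0r552

theorem p0r553 : allRange pointOk 22 4977 9 = true := by decide +kernel
theorem p0u553 : ∀ k, 0 ≤ k → k < 4986 → pointOk (k * 22) = true := between_extend pointOk 22 0 4977 9 (p0u552) p0r553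

theorem p0r554 : allRange pointOk 22 4986 9 = true := by decide +kernel
theorem p0u554 : ∀ k, 0 ≤ k → k < 4995 → pointOk (k * 22) = true := between_extend pointOk 22 0 4986 9 (p0u553) p0r554

theorem p0r555 : allRange pointOk 22 4995 9 = true := by decide +kernel
theorem p0u555 : ∀ k, 0 ≤ k → k < 5004 → pointOk (k * 22) = true := between_extend pointOk 22 0 4995 9 (p0u554) p0r555

theorem p0r556 : allRange pointOk 22 5004 9 = true := by decide +kernel
theorem p0u556 : ∀ k, 0 ≤ k → k < 5013 → pointOk (k * 22) = true := between_extend pointOk 22 0 5004 9 (p0u555) p0r556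

theorem p0r557 : allRange pointOk 22 5013 9 = true := by decide +kernel
theorem p0u557 : ∀ k, 0 ≤ k → k < 5022 → pointOk (k * 22) = true := between_extend pointOk 22 0 5013 9 (p0u556) p0r557

theorem p0r558 : allRange pointOk 22 5022 9 = true := by decide +kernel
theorem p0u558 : ∀ k, 0 ≤ k → k < 5031 → pointOk (k * 22) = true := between_extend pointOk 22 0 5022 9 (p0u557) p0r558

theorem p0r559 : allRange pointOk 22 5031 9 = true := by decide +kernel
theorem p0u559 : ∀ k, 0 ≤ k → k < 5040 → pointOk (k * 22) = true := between_extend pointOk 22 0 5031 9 (p0u558) p0r559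

theorem p0r560 : allRange pointOk 22 5040 9 = true := by decide +kernel
theorem p0u560 : ∀ k, 0 ≤ k → k < 5049 → pointOk (k * 22) = true := between_extend pointOk 22 0 5040 9 (p0u559) p0r560

theorem p0r561 : allRange pointOk 22 5049 9 = true := by decide +kernel
theorem p0u561 : ∀ k, 0 ≤ k → k < 5058 → pointOk (k * 22) = true := between_extend pointOk 22 0 5049 9 (p0u560) p0r561

theorem p0r562 : allRange pointOk 22 5058 9 = true := by decide +kernel
theorem p0u562 : ∀ k, 0 ≤ k → k < 5067 → pointOk (k * 22) = true := between_extend pointOk 22 0 5058 9 (p0u561) p0r562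

theorem p0r563 : allRange pointOk 22 5067 9 = true := by decide +kernel
theorem p0u563 : ∀ k, 0 ≤ k → k < 5076 → pointOk (k * 22) = true := between_extend pointOk 22 0 5067 9 (p0u562) p0r563

theorem p0r564 : allRange pointOk 22 5076 9 = true := by decide +kernel
theorem p0u564 : ∀ k, 0 ≤ k → k < 5085 → pointOk (k * 22) = true := between_extend pointOk 22 0 5076 9 (p0u563) p0r564

theorem p0r565 : allRange pointOk 22 5085 9 = true := by decide +kernel
theorem p0u565 : ∀ k, 0 ≤ k → k < 5094 → pointOk (k * 22) = true := between_extend pointOk 22 0 5085 9 (p0u564) p0r565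

theorem p0r566 : allRange pointOk 22 5094 9 = true := by decide +kernel
theorem p0u566 : ∀ k, 0 ≤ k → k < 5103 → pointOk (k * 22) = true := between_extend pointOk 22 0 5094 9 (p0u565) p0r566

theorem p0r567 : allRange pointOk 22 5103 9 = true := by decide +kernel
theorem p0u567 : ∀ k, 0 ≤ k → k < 5112 → pointOk (k * 22) = true := between_extend pointOk 22 0 5103 9 (p0u566) p0r567

theorem p0r568 : allRange pointOk 22 5112 9 = true := by decide +kernel
theorem p0u568 : ∀ k, 0 ≤ k → k < 5121 → pointOk (k * 22) = true := between_extend pointOk 22 0 5112 9 (p0u567) p0r568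

theorem p0r569 : allRange pointOk 22 5121 9 = true := by decide +kernel
theorem p0u569 : ∀ k, 0 ≤ k → k < 5130 → pointOk (k * 22) = true := between_extend pointOk 22 0 5121 9 (p0u568) p0r569

theorem p0r570 : allRange pointOk 22 5130 9 = true := by decide +kernel
theorem p0u570 : ∀ k, 0 ≤ k → k < 5139 → pointOk (k * 22) = true := between_extend pointOk 22 0 5130 9 (p0u569) p0r570

theorem p0r571 : allRange pointOk 22 5139 9 = true := by decide +kernel
theorem p0u571 : ∀ k, 0 ≤ k → k < 5148 → pointOk (k * 22) = true := between_extend pointOk 22 0 5139 9 (p0u570) p0r571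

theorem p0r572 : allRange pointOk 22 5148 9 = true := by decide +kernel
theorem p0u572 : ∀ k, 0 ≤ k → k < 5157 → pointOk (k * 22) = true := between_extend pointOk 22 0 5148 9 (p0u571) p0r572

theorem p0r573 : allRange pointOk 22 5157 9 = true := by decide +kernel
theorem p0u573 : ∀ k, 0 ≤ k → k < 5166 → pointOk (k * 22) = true := between_extend pointOk 22 0 5157 9 (p0u572) p0r573

theorem p0r574 : allRange pointOk 22 5166 9 = true := by decide +kernel
theorem p0u574 : ∀ k, 0 ≤ k → k < 5175 → pointOk (k * 22) = true := between_extend pointOk 22 0 5166 9 (p0u573) p0r574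

theorem p0r575 : allRange pointOk 22 5175 9 = true := by decide +kernel
theorem p0u575 : ∀ k, 0 ≤ k → k < 5184 → pointOk (k * 22) = true := between_extend pointOk 22 0 5175 9 (p0u574) p0r575

theorem p0r576 : allRange pointOk 22 5184 9 = true := by decide +kernel
theorem p0u576 : ∀ k, 0 ≤ k → k < 5193 → pointOk (k * 22) = true := between_extend pointOk 22 0 5184 9 (p0u575) p0r576

theorem p0r577 : allRange pointOk 22 5193 9 = true := by decide +kernel
theorem p0u577 : ∀ k, 0 ≤ k → k < 5202 → pointOk (k * 22) = true := between_extend pointOk 22 0 5193 9 (p0u576) p0r577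

theorem p0r578 : allRange pointOk 22 5202 9 = true := by decide +kernel
theorem p0u578 : ∀ k, 0 ≤ k → k < 5211 → pointOk (k * 22) = true := between_extend pointOk 22 0 5202 9 (p0u577) p0r578

theorem p0r579 : allRange pointOk 22 5211 9 = true := by decide +kernel
theorem p0u579 : ∀ k, 0 ≤ k → k < 5220 → pointOk (k * 22) = true := between_extend pointOk 22 0 5211 9 (p0u578) p0r579

theorem p0r580 : allRange pointOk 22 5220 9 = true := by decide +kernel
theorem p0u580 : ∀ k, 0 ≤ k → k < 5229 → pointOk (k * 22) = true := between_extend pointOk 22 0 5220 9 (p0u579) p0r580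

theorem p0r581 : allRange pointOk 22 5229 9 = true := by decide +kernel
theorem p0u581 : ∀ k, 0 ≤ k → k < 5238 → pointOk (k * 22) = true := between_extend pointOk 22 0 5229 9 (p0u580) p0r581

theorem p0r582 : allRange pointOk 22 5238 9 = true := by decide +kernel
theorem p0u582 : ∀ k, 0 ≤ k → k < 5247 → pointOk (k * 22) = true := between_extend pointOk 22 0 5238 9 (p0u581) p0r582

theorem p0r583 : allRange pointOk 22 5247 9 = true := by decide +kernel
theorem p0u583 : ∀ k, 0 ≤ k → k < 5256 → pointOk (k * 22) = true := between_extend pointOk 22 0 5247 9 (p0u582) p0r583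

theorem p0r584 : allRange pointOk 22 5256 9 = true := by decide +kernel
theorem p0u584 : ∀ k, 0 ≤ k → k < 5265 → pointOk (k * 22) = true := between_extend pointOk 22 0 5256 9 (p0u583) p0r584

theorem p0r585 : allRange pointOk 22 5265 9 = true := by decide +kernel
theorem p0u585 : ∀ k, 0 ≤ k → k < 5274 → pointOk (k * 22) = true := between_extend pointOk 22 0 5265 9 (p0u584) p0r585

theorem p0r586 : allRange pointOk 22 5274 9 = true := by decide +kernel
theorem p0u586 : ∀ k, 0 ≤ k → k < 5283 → pointOk (k * 22) = true := between_extend pointOk 22 0 5274 9 (p0u585) p0r586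

theorem p0r587 : allRange pointOk 22 5283 9 = true := by decide +kernel
theorem p0u587 : ∀ k, 0 ≤ k → k < 5292 → pointOk (k * 22) = true := between_extend pointOk 22 0 5283 9 (p0u586) p0r587

theorem p0r588 : allRange pointOk 22 5292 9 = true := by decide +kernel
theorem p0u588 : ∀ k, 0 ≤ k → k < 5301 → pointOk (k * 22) = true := between_extend pointOk 22 0 5292 9 (p0u587) p0r588

theorem p0r589 : allRange pointOk 22 5301 9 = true := by decide +kernel
theorem p0u589 : ∀ k, 0 ≤ k → k < 5310 → pointOk (k * 22) = true := between_extend pointOk 22 0 5301 9 (p0u588) p0r589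

theorem p0r590 : allRange pointOk 22 5310 9 = true := by decide +kernel
theorem p0u590 : ∀ k, 0 ≤ k → k < 5319 → pointOk (k * 22) = true := between_extend pointOk 22 0 5310 9 (p0u589) p0r590

theorem p0r591 : allRange pointOk 22 5319 9 = true := by decide +kernel
theorem p0u591 : ∀ k, 0 ≤ k → k < 5328 → pointOk (k * 22) = true := between_extend pointOk 22 0 5319 9 (p0u590) p0r591

theorem p0r592 : allRange pointOk 22 5328 9 = true := by decide +kernel
theorem p0u592 : ∀ k, 0 ≤ k → k < 5337 → pointOk (k * 22) = true := between_extend pointOk 22 0 5328 9 (p0u591) p0r592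

theorem p0r593 : allRange pointOk 22 5337 9 = true := by decide +kernel
theorem p0u593 : ∀ k, 0 ≤ k → k < 5346 → pointOk (k * 22) = true := between_extend pointOk 22 0 5337 9 (p0u592) p0r593

theorem p0r594 : allRange pointOk 22 5346 9 = true := by decide +kernel
theorem p0u594 : ∀ k, 0 ≤ k → k < 5355 → pointOk (k * 22) = true := between_extend pointOk 22 0 5346 9 (p0u593) p0r594

theorem p0r595 : allRange pointOk 22 5355 9 = true := by decide +kernel
theorem p0u595 : ∀ k, 0 ≤ k → k < 5364 → pointOk (k * 22) = true := between_extend pointOk 22 0 5355 9 (p0u594) p0r595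

theorem p0r596 : allRange pointOk 22 5364 9 = true := by decide +kernel
theorem p0u596 : ∀ k, 0 ≤ k → k < 5373 → pointOk (k * 22) = true := between_extend pointOk 22 0 5364 9 (p0u595) p0r596

theorem p0r597 : allRange pointOk 22 5373 9 = true := by decide +kernel
theorem p0u597 : ∀ k, 0 ≤ k → k < 5382 → pointOk (k * 22) = true := between_extend pointOk 22 0 5373 9 (p0u596) p0r597

theorem p0r598 : allRange pointOk 22 5382 9 = true := by decide +kernel
theorem p0u598 : ∀ k, 0 ≤ k → k < 5391 → pointOk (k * 22) = true := between_extend pointOk 22 0 5382 9 (p0u597) p0r598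

theorem p0r599 : allRange pointOk 22 5391 9 = true := by decide +kernel
theorem p0u599 : ∀ k, 0 ≤ k → k < 5400 → pointOk (k * 22) = true := between_extend pointOk 22 0 5391 9 (p0u598) p0r599

theorem p0r600 : allRange pointOk 22 5400 9 = true := by decide +kernel
theorem p0u600 : ∀ k, 0 ≤ k → k < 5409 → pointOk (k * 22) = true := between_extend pointOk 22 0 5400 9 (p0u599) p0r600

theorem p0r601 : allRange pointOk 22 5409 9 = true := by decide +kernel
theorem p0u601 : ∀ k, 0 ≤ k → k < 5418 → pointOk (k * 22) = true := between_extend pointOk 22 0 5409 9 (p0u600) p0r601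

theorem p0r602 : allRange pointOk 22 5418 9 = true := by decide +kernel
theorem p0u602 : ∀ k, 0 ≤ k → k < 5427 → pointOk (k * 22) = true := between_extend pointOk 22 0 5418 9 (p0u601) p0r602

theorem p0r603 : allRange pointOk 22 5427 9 = true := by decide +kernel
theorem p0u603 : ∀ k, 0 ≤ k → k < 5436 → pointOk (k * 22) = true := between_extend pointOk 22 0 5427 9 (p0u602) p0r603

theorem p0r604 : allRange pointOk 22 5436 9 = true := by decide +kernel
theorem p0u604 : ∀ k, 0 ≤ k → k < 5445 → pointOk (k * 22) = true := between_extend pointOk 22 0 5436 9 (p0u603) p0r604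

theorem p0r605 : allRange pointOk 22 5445 9 = true := by decide +kernel
theorem p0u605 : ∀ k, 0 ≤ k → k < 5454 → pointOk (k * 22) = true := between_extend pointOk 22 0 5445 9 (p0u604) p0r605

theorem p0r606 : allRange pointOk 22 5454 9 = true := by decide +kernel
theorem p0u606 : ∀ k, 0 ≤ k → k < 5463 → pointOk (k * 22) = true := between_extend pointOk 22 0 5454 9 (p0u605) p0r606

theorem p0r607 : allRange pointOk 22 5463 9 = true := by decide +kernel
theorem p0u607 : ∀ k, 0 ≤ k → k < 5472 → pointOk (k * 22) = true := between_extend pointOk 22 0 5463 9 (p0u606) p0r607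

theorem p0r608 : allRange pointOk 22 5472 9 = true := by decide +kernel
theorem p0u608 : ∀ k, 0 ≤ k → k < 5481 → pointOk (k * 22) = true := between_extend pointOk 22 0 5472 9 (p0u607) p0r608

theorem p0r609 : allRange pointOk 22 5481 9 = true := by decide +kernel
theorem p0u609 : ∀ k, 0 ≤ k → k < 5490 → pointOk (k * 22) = true := between_extend pointOk 22 0 5481 9 (p0u608) p0r609

theorem p0r610 : allRange pointOk 22 5490 9 = true := by decide +kernel
theorem p0u610 : ∀ k, 0 ≤ k → k < 5499 → pointOk (k * 22) = true := between_extend pointOk 22 0 5490 9 (p0u609) p0r610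

theorem p0r611 : allRange pointOk 22 5499 9 = true := by decide +kernel
theorem p0u611 : ∀ k, 0 ≤ k → k < 5508 → pointOk (k * 22) = true := between_extend pointOk 22 0 5499 9 (p0u610) p0r611

theorem p0r612 : allRange pointOk 22 5508 9 = true := by decide +kernel
theorem p0u612 : ∀ k, 0 ≤ k → k < 5517 → pointOk (k * 22) = true := between_extend pointOk 22 0 5508 9 (p0u611) p0r612

theorem p0r613 : allRange pointOk 22 5517 9 = true := by decide +kernel
theorem p0u613 : ∀ k, 0 ≤ k → k < 5526 → pointOk (k * 22) = true := between_extend pointOk 22 0 5517 9 (p0u612) p0r613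

theorem p0r614 : allRange pointOk 22 5526 9 = true := by decide +kernel
theorem p0u614 : ∀ k, 0 ≤ k → k < 5535 → pointOk (k * 22) = true := between_extend pointOk 22 0 5526 9 (p0u613) p0r614

theorem p0r615 : allRange pointOk 22 5535 9 = true := by decide +kernel
theorem p0u615 : ∀ k, 0 ≤ k → k < 5544 → pointOk (k * 22) = true := between_extend pointOk 22 0 5535 9 (p0u614) p0r615

theorem p0r616 : allRange pointOk 22 5544 9 = true := by decide +kernel
theorem p0u616 : ∀ k, 0 ≤ k → k < 5553 → pointOk (k * 22) = true := between_extend pointOk 22 0 5544 9 (p0u615) p0r616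

theorem p0r617 : allRange pointOk 22 5553 9 = true := by decide +kernel
theorem p0u617 : ∀ k, 0 ≤ k → k < 5562 → pointOk (k * 22) = true := between_extend pointOk 22 0 5553 9 (p0u616) p0r617

theorem p0r618 : allRange pointOk 22 5562 9 = true := by decide +kernel
theorem p0u618 : ∀ k, 0 ≤ k → k < 5571 → pointOk (k * 22) = true := between_extend pointOk 22 0 5562 9 (p0u617) p0r618

theorem p0r619 : allRange pointOk 22 5571 9 = true := by decide +kernel
theorem p0u619 : ∀ k, 0 ≤ k → k < 5580 → pointOk (k * 22) = true := between_extend pointOk 22 0 5571 9 (p0u618) p0r619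

theorem p0r620 : allRange pointOk 22 5580 9 = true := by decide +kernel
theorem p0u620 : ∀ k, 0 ≤ k → k < 5589 → pointOk (k * 22) = true := between_extend pointOk 22 0 5580 9 (p0u619) p0r620

theorem p0r621 : allRange pointOk 22 5589 9 = true := by decide +kernel
theorem p0u621 : ∀ k, 0 ≤ k → k < 5598 → pointOk (k * 22) = true := between_extend pointOk 22 0 5589 9 (p0u620) p0r621

theorem p0r622 : allRange pointOk 22 5598 9 = true := by decide +kernel
theorem p0u622 : ∀ k, 0 ≤ k → k < 5607 → pointOk (k * 22) = true := between_extend pointOk 22 0 5598 9 (p0u621) p0r622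

theorem p0r623 : allRange pointOk 22 5607 9 = true := by decide +kernel
theorem p0u623 : ∀ k, 0 ≤ k → k < 5616 → pointOk (k * 22) = true := between_extend pointOk 22 0 5607 9 (p0u622) p0r623

theorem p0r624 : allRange pointOk 22 5616 9 = true := by decide +kernel
theorem p0u624 : ∀ k, 0 ≤ k → k < 5625 → pointOk (k * 22) = true := between_extend pointOk 22 0 5616 9 (p0u623) p0r624

theorem p0r625 : allRange pointOk 22 5625 9 = true := by decide +kernel
theorem p0u625 : ∀ k, 0 ≤ k → k < 5634 → pointOk (k * 22) = true := between_extend pointOk 22 0 5625 9 (p0u624) p0r625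

theorem p0r626 : allRange pointOk 22 5634 9 = true := by decide +kernel
theorem p0u626 : ∀ k, 0 ≤ k → k < 5643 → pointOk (k * 22) = true := between_extend pointOk 22 0 5634 9 (p0u625) p0r626

theorem p0r627 : allRange pointOk 22 5643 9 = true := by decide +kernel
theorem p0u627 : ∀ k, 0 ≤ k → k < 5652 → pointOk (k * 22) = true := between_extend pointOk 22 0 5643 9 (p0u626) p0r627

theorem p0r628 : allRange pointOk 22 5652 9 = true := by decide +kernel
theorem p0u628 : ∀ k, 0 ≤ k → k < 5661 → pointOk (k * 22) = true := between_extend pointOk 22 0 5652 9 (p0u627) p0r628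

theorem p0r629 : allRange pointOk 22 5661 9 = true := by decide +kernel
theorem p0u629 : ∀ k, 0 ≤ k → k < 5670 → pointOk (k * 22) = true := between_extend pointOk 22 0 5661 9 (p0u628) p0r629

theorem p0r630 : allRange pointOk 22 5670 9 = true := by decide +kernel
theorem p0u630 : ∀ k, 0 ≤ k → k < 5679 → pointOk (k * 22) = true := between_extend pointOk 22 0 5670 9 (p0u629) p0r630

theorem p0r631 : allRange pointOk 22 5679 9 = true := by decide +kernel
theorem p0u631 : ∀ k, 0 ≤ k → k < 5688 → pointOk (k * 22) = true := between_extend pointOk 22 0 5679 9 (p0u630) p0r631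

theorem p0r632 : allRange pointOk 22 5688 9 = true := by decide +kernel
theorem p0u632 : ∀ k, 0 ≤ k → k < 5697 → pointOk (k * 22) = true := between_extend pointOk 22 0 5688 9 (p0u631) p0r632

theorem p0r633 : allRange pointOk 22 5697 9 = true := by decide +kernel
theorem p0u633 : ∀ k, 0 ≤ k → k < 5706 → pointOk (k * 22) = true := between_extend pointOk 22 0 5697 9 (p0u632) p0r633

theorem p0r634 : allRange pointOk 22 5706 9 = true := by decide +kernel
theorem p0u634 : ∀ k, 0 ≤ k → k < 5715 → pointOk (k * 22) = true := between_extend pointOk 22 0 5706 9 (p0u633) p0r634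

theorem p0r635 : allRange pointOk 22 5715 9 = true := by decide +kernel
theorem p0u635 : ∀ k, 0 ≤ k → k < 5724 → pointOk (k * 22) = true := between_extend pointOk 22 0 5715 9 (p0u634) p0r635

theorem p0r636 : allRange pointOk 22 5724 9 = true := by decide +kernel
theorem p0u636 : ∀ k, 0 ≤ k → k < 5733 → pointOk (k * 22) = true := between_extend pointOk 22 0 5724 9 (p0u635) p0r636

theorem p0r637 : allRange pointOk 22 5733 9 = true := by decide +kernel
theorem p0u637 : ∀ k, 0 ≤ k → k < 5742 → pointOk (k * 22) = true := between_extend pointOk 22 0 5733 9 (p0u636) p0r637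

theorem p0r638 : allRange pointOk 22 5742 9 = true := by decide +kernel
theorem p0u638 : ∀ k, 0 ≤ k → k < 5751 → pointOk (k * 22) = true := between_extend pointOk 22 0 5742 9 (p0u637) p0r638

theorem p0r639 : allRange pointOk 22 5751 9 = true := by decide +kernel
theorem p0u639 : ∀ k, 0 ≤ k → k < 5760 → pointOk (k * 22) = true := between_extend pointOk 22 0 5751 9 (p0u638) p0r639

theorem p0r640 : allRange pointOk 22 5760 9 = true := by decide +kernel
theorem p0u640 : ∀ k, 0 ≤ k → k < 5769 → pointOk (k * 22) = true := between_extend pointOk 22 0 5760 9 (p0u639) p0r640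

theorem p0r641 : allRange pointOk 22 5769 9 = true := by decide +kernel
theorem p0u641 : ∀ k, 0 ≤ k → k < 5778 → pointOk (k * 22) = true := between_extend pointOk 22 0 5769 9 (p0u640) p0r641

theorem p0r642 : allRange pointOk 22 5778 9 = true := by decide +kernel
theorem p0u642 : ∀ k, 0 ≤ k → k < 5787 → pointOk (k * 22) = true := between_extend pointOk 22 0 5778 9 (p0u641) p0r642

theorem p0r643 : allRange pointOk 22 5787 9 = true := by decide +kernel
theorem p0u643 : ∀ k, 0 ≤ k → k < 5796 → pointOk (k * 22) = true := between_extend pointOk 22 0 5787 9 (p0u642) p0r643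

theorem p0r644 : allRange pointOk 22 5796 9 = true := by decide +kernel
theorem p0u644 : ∀ k, 0 ≤ k → k < 5805 → pointOk (k * 22) = true := between_extend pointOk 22 0 5796 9 (p0u643) p0r644

theorem p0r645 : allRange pointOk 22 5805 9 = true := by decide +kernel
theorem p0u645 : ∀ k, 0 ≤ k → k < 5814 → pointOk (k * 22) = true := between_extend pointOk 22 0 5805 9 (p0u644) p0r645

theorem p0r646 : allRange pointOk 22 5814 9 = true := by decide +kernel
theorem p0u646 : ∀ k, 0 ≤ k → k < 5823 → pointOk (k * 22) = true := between_extend pointOk 22 0 5814 9 (p0u645) p0r646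

theorem p0r647 : allRange pointOk 22 5823 9 = true := by decide +kernel
theorem p0u647 : ∀ k, 0 ≤ k → k < 5832 → pointOk (k * 22) = true := between_extend pointOk 22 0 5823 9 (p0u646) p0r647

theorem p0r648 : allRange pointOk 22 5832 9 = true := by decide +kernel
theorem p0u648 : ∀ k, 0 ≤ k → k < 5841 → pointOk (k * 22) = true := between_extend pointOk 22 0 5832 9 (p0u647) p0r648

theorem p0r649 : allRange pointOk 22 5841 9 = true := by decide +kernel
theorem p0u649 : ∀ k, 0 ≤ k → k < 5850 → pointOk (k * 22) = true := between_extend pointOk 22 0 5841 9 (p0u648) p0r649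

theorem p0r650 : allRange pointOk 22 5850 9 = true := by decide +kernel
theorem p0u650 : ∀ k, 0 ≤ k → k < 5859 → pointOk (k * 22) = true := between_extend pointOk 22 0 5850 9 (p0u649) p0r650

theorem p0r651 : allRange pointOk 22 5859 9 = true := by decide +kernel
theorem p0u651 : ∀ k, 0 ≤ k → k < 5868 → pointOk (k * 22) = true := between_extend pointOk 22 0 5859 9 (p0u650) p0r651

theorem p0r652 : allRange pointOk 22 5868 9 = true := by decide +kernel
theorem p0u652 : ∀ k, 0 ≤ k → k < 5877 → pointOk (k * 22) = true := between_extend pointOk 22 0 5868 9 (p0u651) p0r652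

theorem p0r653 : allRange pointOk 22 5877 9 = true := by decide +kernel
theorem p0u653 : ∀ k, 0 ≤ k → k < 5886 → pointOk (k * 22) = true := between_extend pointOk 22 0 5877 9 (p0u652) p0r653

theorem p0r654 : allRange pointOk 22 5886 9 = true := by decide +kernel
theorem p0u654 : ∀ k, 0 ≤ k → k < 5895 → pointOk (k * 22) = true := between_extend pointOk 22 0 5886 9 (p0u653) p0r654

theorem p0r655 : allRange pointOk 22 5895 9 = true := by decide +kernel
theorem p0u655 : ∀ k, 0 ≤ k → k < 5904 → pointOk (k * 22) = true := between_extend pointOk 22 0 5895 9 (p0u654) p0r655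

theorem p0r656 : allRange pointOk 22 5904 9 = true := by decide +kernel
theorem p0u656 : ∀ k, 0 ≤ k → k < 5913 → pointOk (k * 22) = true := between_extend pointOk 22 0 5904 9 (p0u655) p0r656

theorem p0r657 : allRange pointOk 22 5913 9 = true := by decide +kernel
theorem p0u657 : ∀ k, 0 ≤ k → k < 5922 → pointOk (k * 22) = true := between_extend pointOk 22 0 5913 9 (p0u656) p0r657

theorem p0r658 : allRange pointOk 22 5922 9 = true := by decide +kernel
theorem p0u658 : ∀ k, 0 ≤ k → k < 5931 → pointOk (k * 22) = true := between_extend pointOk 22 0 5922 9 (p0u657) p0r658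

theorem p0r659 : allRange pointOk 22 5931 9 = true := by decide +kernel
theorem p0u659 : ∀ k, 0 ≤ k → k < 5940 → pointOk (k * 22) = true := between_extend pointOk 22 0 5931 9 (p0u658) p0r659

theorem p0r660 : allRange pointOk 22 5940 9 = true := by decide +kernel
theorem p0u660 : ∀ k, 0 ≤ k → k < 5949 → pointOk (k * 22) = true := between_extend pointOk 22 0 5940 9 (p0u659) p0r660

theorem p0r661 : allRange pointOk 22 5949 9 = true := by decide +kernel
theorem p0u661 : ∀ k, 0 ≤ k → k < 5958 → pointOk (k * 22) = true := between_extend pointOk 22 0 5949 9 (p0u660) p0r661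

theorem p0r662 : allRange pointOk 22 5958 9 = true := by decide +kernel
theorem p0u662 : ∀ k, 0 ≤ k → k < 5967 → pointOk (k * 22) = true := between_extend pointOk 22 0 5958 9 (p0u661) p0r662

theorem p0r663 : allRange pointOk 22 5967 9 = true := by decide +kernel
theorem p0u663 : ∀ k, 0 ≤ k → k < 5976 → pointOk (k * 22) = true := between_extend pointOk 22 0 5967 9 (p0u662) p0r663

theorem p0r664 : allRange pointOk 22 5976 9 = true := by decide +kernel
theorem p0u664 : ∀ k, 0 ≤ k → k < 5985 → pointOk (k * 22) = true := between_extend pointOk 22 0 5976 9 (p0u663) p0r664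

theorem p0r665 : allRange pointOk 22 5985 9 = true := by decide +kernel
theorem p0u665 : ∀ k, 0 ≤ k → k < 5994 → pointOk (k * 22) = true := between_extend pointOk 22 0 5985 9 (p0u664) p0r665

theorem p0r666 : allRange pointOk 22 5994 9 = true := by decide +kernel
theorem p0u666 : ∀ k, 0 ≤ k → k < 6003 → pointOk (k * 22) = true := between_extend pointOk 22 0 5994 9 (p0u665) p0r666

theorem p0r667 : allRange pointOk 22 6003 9 = true := by decide +kernel
theorem p0u667 : ∀ k, 0 ≤ k → k < 6012 → pointOk (k * 22) = true := between_extend pointOk 22 0 6003 9 (p0u666) p0r667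

theorem p0r668 : allRange pointOk 22 6012 9 = true := by decide +kernel
theorem p0u668 : ∀ k, 0 ≤ k → k < 6021 → pointOk (k * 22) = true := between_extend pointOk 22 0 6012 9 (p0u667) p0r668

theorem p0r669 : allRange pointOk 22 6021 9 = true := by decide +kernel
theorem p0u669 : ∀ k, 0 ≤ k → k < 6030 → pointOk (k * 22) = true := between_extend pointOk 22 0 6021 9 (p0u668) p0r669

theorem p0r670 : allRange pointOk 22 6030 9 = true := by decide +kernel
theorem p0u670 : ∀ k, 0 ≤ k → k < 6039 → pointOk (k * 22) = true := between_extend pointOk 22 0 6030 9 (p0u669) p0r670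

theorem p0r671 : allRange pointOk 22 6039 9 = true := by decide +kernel
theorem p0u671 : ∀ k, 0 ≤ k → k < 6048 → pointOk (k * 22) = true := between_extend pointOk 22 0 6039 9 (p0u670) p0r671

theorem p0r672 : allRange pointOk 22 6048 9 = true := by decide +kernel
theorem p0u672 : ∀ k, 0 ≤ k → k < 6057 → pointOk (k * 22) = true := between_extend pointOk 22 0 6048 9 (p0u671) p0r672

theorem p0r673 : allRange pointOk 22 6057 9 = true := by decide +kernel
theorem p0u673 : ∀ k, 0 ≤ k → k < 6066 → pointOk (k * 22) = true := between_extend pointOk 22 0 6057 9 (p0u672) p0r673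

theorem p0r674 : allRange pointOk 22 6066 9 = true := by decide +kernel
theorem p0u674 : ∀ k, 0 ≤ k → k < 6075 → pointOk (k * 22) = true := between_extend pointOk 22 0 6066 9 (p0u673) p0r674

theorem p0r675 : allRange pointOk 22 6075 9 = true := by decide +kernel
theorem p0u675 : ∀ k, 0 ≤ k → k < 6084 → pointOk (k * 22) = true := between_extend pointOk 22 0 6075 9 (p0u674) p0r675

theorem p0r676 : allRange pointOk 22 6084 9 = true := by decide +kernel
theorem p0u676 : ∀ k, 0 ≤ k → k < 6093 → pointOk (k * 22) = true := between_extend pointOk 22 0 6084 9 (p0u675) p0r676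

theorem p0r677 : allRange pointOk 22 6093 9 = true := by decide +kernel
theorem p0u677 : ∀ k, 0 ≤ k → k < 6102 → pointOk (k * 22) = true := between_extend pointOk 22 0 6093 9 (p0u676) p0r677

theorem p0r678 : allRange pointOk 22 6102 9 = true := by decide +kernel
theorem p0u678 : ∀ k, 0 ≤ k → k < 6111 → pointOk (k * 22) = true := between_extend pointOk 22 0 6102 9 (p0u677) p0r678

theorem p0r679 : allRange pointOk 22 6111 9 = true := by decide +kernel
theorem p0u679 : ∀ k, 0 ≤ k → k < 6120 → pointOk (k * 22) = true := between_extend pointOk 22 0 6111 9 (p0u678) p0r679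

theorem p0r680 : allRange pointOk 22 6120 9 = true := by decide +kernel
theorem p0u680 : ∀ k, 0 ≤ k → k < 6129 → pointOk (k * 22) = true := between_extend pointOk 22 0 6120 9 (p0u679) p0r680

theorem p0r681 : allRange pointOk 22 6129 9 = true := by decide +kernel
theorem p0u681 : ∀ k, 0 ≤ k → k < 6138 → pointOk (k * 22) = true := between_extend pointOk 22 0 6129 9 (p0u680) p0r681

theorem p0r682 : allRange pointOk 22 6138 9 = true := by decide +kernel
theorem p0u682 : ∀ k, 0 ≤ k → k < 6147 → pointOk (k * 22) = true := between_extend pointOk 22 0 6138 9 (p0u681) p0r682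

theorem p0r683 : allRange pointOk 22 6147 9 = true := by decide +kernel
theorem p0u683 : ∀ k, 0 ≤ k → k < 6156 → pointOk (k * 22) = true := between_extend pointOk 22 0 6147 9 (p0u682) p0r683

theorem p0r684 : allRange pointOk 22 6156 9 = true := by decide +kernel
theorem p0u684 : ∀ k, 0 ≤ k → k < 6165 → pointOk (k * 22) = true := between_extend pointOk 22 0 6156 9 (p0u683) p0r684

theorem p0r685 : allRange pointOk 22 6165 9 = true := by decide +kernel
theorem p0u685 : ∀ k, 0 ≤ k → k < 6174 → pointOk (k * 22) = true := between_extend pointOk 22 0 6165 9 (p0u684) p0r685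

theorem p0r686 : allRange pointOk 22 6174 9 = true := by decide +kernel
theorem p0u686 : ∀ k, 0 ≤ k → k < 6183 → pointOk (k * 22) = true := between_extend pointOk 22 0 6174 9 (p0u685) p0r686

theorem p0r687 : allRange pointOk 22 6183 9 = true := by decide +kernel
theorem p0u687 : ∀ k, 0 ≤ k → k < 6192 → pointOk (k * 22) = true := between_extend pointOk 22 0 6183 9 (p0u686) p0r687

theorem p0r688 : allRange pointOk 22 6192 9 = true := by decide +kernel
theorem p0u688 : ∀ k, 0 ≤ k → k < 6201 → pointOk (k * 22) = true := between_extend pointOk 22 0 6192 9 (p0u687) p0r688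

theorem p0r689 : allRange pointOk 22 6201 9 = true := by decide +kernel
theorem p0u689 : ∀ k, 0 ≤ k → k < 6210 → pointOk (k * 22) = true := between_extend pointOk 22 0 6201 9 (p0u688) p0r689

theorem p0r690 : allRange pointOk 22 6210 9 = true := by decide +kernel
theorem p0u690 : ∀ k, 0 ≤ k → k < 6219 → pointOk (k * 22) = true := between_extend pointOk 22 0 6210 9 (p0u689) p0r690

theorem p0r691 : allRange pointOk 22 6219 9 = true := by decide +kernel
theorem p0u691 : ∀ k, 0 ≤ k → k < 6228 → pointOk (k * 22) = true := between_extend pointOk 22 0 6219 9 (p0u690) p0r691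

theorem p0r692 : allRange pointOk 22 6228 9 = true := by decide +kernel
theorem p0u692 : ∀ k, 0 ≤ k → k < 6237 → pointOk (k * 22) = true := between_extend pointOk 22 0 6228 9 (p0u691) p0r692

theorem p0r693 : allRange pointOk 22 6237 9 = true := by decide +kernel
theorem p0u693 : ∀ k, 0 ≤ k → k < 6246 → pointOk (k * 22) = true := between_extend pointOk 22 0 6237 9 (p0u692) p0r693

theorem p0r694 : allRange pointOk 22 6246 9 = true := by decide +kernel
theorem p0u694 : ∀ k, 0 ≤ k → k < 6255 → pointOk (k * 22) = true := between_extend pointOk 22 0 6246 9 (p0u693) p0r694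

theorem p0r695 : allRange pointOk 22 6255 9 = true := by decide +kernel
theorem p0u695 : ∀ k, 0 ≤ k → k < 6264 → pointOk (k * 22) = true := between_extend pointOk 22 0 6255 9 (p0u694) p0r695

theorem p0r696 : allRange pointOk 22 6264 9 = true := by decide +kernel
theorem p0u696 : ∀ k, 0 ≤ k → k < 6273 → pointOk (k * 22) = true := between_extend pointOk 22 0 6264 9 (p0u695) p0r696

theorem p0r697 : allRange pointOk 22 6273 9 = true := by decide +kernel
theorem p0u697 : ∀ k, 0 ≤ k → k < 6282 → pointOk (k * 22) = true := between_extend pointOk 22 0 6273 9 (p0u696) p0r697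

theorem p0r698 : allRange pointOk 22 6282 9 = true := by decide +kernel
theorem p0u698 : ∀ k, 0 ≤ k → k < 6291 → pointOk (k * 22) = true := between_extend pointOk 22 0 6282 9 (p0u697) p0r698

theorem p0r699 : allRange pointOk 22 6291 9 = true := by decide +kernel
theorem p0u699 : ∀ k, 0 ≤ k → k < 6300 → pointOk (k * 22) = true := between_extend pointOk 22 0 6291 9 (p0u698) p0r699

theorem p0r700 : allRange pointOk 22 6300 9 = true := by decide +kernel
theorem p0u700 : ∀ k, 0 ≤ k → k < 6309 → pointOk (k * 22) = true := between_extend pointOk 22 0 6300 9 (p0u699) p0r700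

theorem p0r701 : allRange pointOk 22 6309 9 = true := by decide +kernel
theorem p0u701 : ∀ k, 0 ≤ k → k < 6318 → pointOk (k * 22) = true := between_extend pointOk 22 0 6309 9 (p0u700) p0r701

theorem p0r702 : allRange pointOk 22 6318 9 = true := by decide +kernel
theorem p0u702 : ∀ k, 0 ≤ k → k < 6327 → pointOk (k * 22) = true := between_extend pointOk 22 0 6318 9 (p0u701) p0r702

theorem p0r703 : allRange pointOk 22 6327 9 = true := by decide +kernel
theorem p0u703 : ∀ k, 0 ≤ k → k < 6336 → pointOk (k * 22) = true := between_extend pointOk 22 0 6327 9 (p0u702) p0r703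

theorem p0r704 : allRange pointOk 22 6336 9 = true := by decide +kernel
theorem p0u704 : ∀ k, 0 ≤ k → k < 6345 → pointOk (k * 22) = true := between_extend pointOk 22 0 6336 9 (p0u703) p0r704

theorem p0r705 : allRange pointOk 22 6345 9 = true := by decide +kernel
theorem p0u705 : ∀ k, 0 ≤ k → k < 6354 → pointOk (k * 22) = true := between_extend pointOk 22 0 6345 9 (p0u704) p0r705

theorem p0r706 : allRange pointOk 22 6354 9 = true := by decide +kernel
theorem p0u706 : ∀ k, 0 ≤ k → k < 6363 → pointOk (k * 22) = true := between_extend pointOk 22 0 6354 9 (p0u705) p0r706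

theorem p0r707 : allRange pointOk 22 6363 9 = true := by decide +kernel
theorem p0u707 : ∀ k, 0 ≤ k → k < 6372 → pointOk (k * 22) = true := between_extend pointOk 22 0 6363 9 (p0u706) p0r707

theorem p0r708 : allRange pointOk 22 6372 9 = true := by decide +kernel
theorem p0u708 : ∀ k, 0 ≤ k → k < 6381 → pointOk (k * 22) = true := between_extend pointOk 22 0 6372 9 (p0u707) p0r708

theorem p0r709 : allRange pointOk 22 6381 9 = true := by decide +kernel
theorem p0u709 : ∀ k, 0 ≤ k → k < 6390 → pointOk (k * 22) = true := between_extend pointOk 22 0 6381 9 (p0u708) p0r709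

theorem p0r710 : allRange pointOk 22 6390 9 = true := by decide +kernel
theorem p0u710 : ∀ k, 0 ≤ k → k < 6399 → pointOk (k * 22) = true := between_extend pointOk 22 0 6390 9 (p0u709) p0r710

theorem p0r711 : allRange pointOk 22 6399 9 = true := by decide +kernel
theorem p0u711 : ∀ k, 0 ≤ k → k < 6408 → pointOk (k * 22) = true := between_extend pointOk 22 0 6399 9 (p0u710) p0r711

theorem p0r712 : allRange pointOk 22 6408 9 = true := by decide +kernel
theorem p0u712 : ∀ k, 0 ≤ k → k < 6417 → pointOk (k * 22) = true := between_extend pointOk 22 0 6408 9 (p0u711) p0r712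

theorem p0r713 : allRange pointOk 22 6417 9 = true := by decide +kernel
theorem p0u713 : ∀ k, 0 ≤ k → k < 6426 → pointOk (k * 22) = true := between_extend pointOk 22 0 6417 9 (p0u712) p0r713

theorem p0r714 : allRange pointOk 22 6426 9 = true := by decide +kernel
theorem p0u714 : ∀ k, 0 ≤ k → k < 6435 → pointOk (k * 22) = true := between_extend pointOk 22 0 6426 9 (p0u713) p0r714

theorem p0r715 : allRange pointOk 22 6435 9 = true := by decide +kernel
theorem p0u715 : ∀ k, 0 ≤ k → k < 6444 → pointOk (k * 22) = true := between_extend pointOk 22 0 6435 9 (p0u714) p0r715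

theorem p0r716 : allRange pointOk 22 6444 9 = true := by decide +kernel
theorem p0u716 : ∀ k, 0 ≤ k → k < 6453 → pointOk (k * 22) = true := between_extend pointOk 22 0 6444 9 (p0u715) p0r716

theorem p0r717 : allRange pointOk 22 6453 9 = true := by decide +kernel
theorem p0u717 : ∀ k, 0 ≤ k → k < 6462 → pointOk (k * 22) = true := between_extend pointOk 22 0 6453 9 (p0u716) p0r717

theorem p0r718 : allRange pointOk 22 6462 9 = true := by decide +kernel
theorem p0u718 : ∀ k, 0 ≤ k → k < 6471 → pointOk (k * 22) = true := between_extend pointOk 22 0 6462 9 (p0u717) p0r718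

theorem p0r719 : allRange pointOk 22 6471 9 = true := by decide +kernel
theorem p0u719 : ∀ k, 0 ≤ k → k < 6480 → pointOk (k * 22) = true := between_extend pointOk 22 0 6471 9 (p0u718) p0r719

theorem p0r720 : allRange pointOk 22 6480 9 = true := by decide +kernel
theorem p0u720 : ∀ k, 0 ≤ k → k < 6489 → pointOk (k * 22) = true := between_extend pointOk 22 0 6480 9 (p0u719) p0r720

theorem p0r721 : allRange pointOk 22 6489 9 = true := by decide +kernel
theorem p0u721 : ∀ k, 0 ≤ k → k < 6498 → pointOk (k * 22) = true := between_extend pointOk 22 0 6489 9 (p0u720) p0r721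

theorem p0r722 : allRange pointOk 22 6498 9 = true := by decide +kernel
theorem p0u722 : ∀ k, 0 ≤ k → k < 6507 → pointOk (k * 22) = true := between_extend pointOk 22 0 6498 9 (p0u721) p0r722

theorem p0r723 : allRange pointOk 22 6507 9 = true := by decide +kernel
theorem p0u723 : ∀ k, 0 ≤ k → k < 6516 → pointOk (k * 22) = true := between_extend pointOk 22 0 6507 9 (p0u722) p0r723

theorem p0r724 : allRange pointOk 22 6516 9 = true := by decide +kernel
theorem p0u724 : ∀ k, 0 ≤ k → k < 6525 → pointOk (k * 22) = true := between_extend pointOk 22 0 6516 9 (p0u723) p0r724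

theorem p0r725 : allRange pointOk 22 6525 9 = true := by decide +kernel
theorem p0u725 : ∀ k, 0 ≤ k → k < 6534 → pointOk (k * 22) = true := between_extend pointOk 22 0 6525 9 (p0u724) p0r725

theorem p0r726 : allRange pointOk 22 6534 9 = true := by decide +kernel
theorem p0u726 : ∀ k, 0 ≤ k → k < 6543 → pointOk (k * 22) = true := between_extend pointOk 22 0 6534 9 (p0u725) p0r726

theorem p0r727 : allRange pointOk 22 6543 9 = true := by decide +kernel
theorem p0u727 : ∀ k, 0 ≤ k → k < 6552 → pointOk (k * 22) = true := between_extend pointOk 22 0 6543 9 (p0u726) p0r727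

theorem p0r728 : allRange pointOk 22 6552 9 = true := by decide +kernel
theorem p0u728 : ∀ k, 0 ≤ k → k < 6561 → pointOk (k * 22) = true := between_extend pointOk 22 0 6552 9 (p0u727) p0r728

theorem p0r729 : allRange pointOk 22 6561 9 = true := by decide +kernel
theorem p0u729 : ∀ k, 0 ≤ k → k < 6570 → pointOk (k * 22) = true := between_extend pointOk 22 0 6561 9 (p0u728) p0r729

theorem p0r730 : allRange pointOk 22 6570 9 = true := by decide +kernel
theorem p0u730 : ∀ k, 0 ≤ k → k < 6579 → pointOk (k * 22) = true := between_extend pointOk 22 0 6570 9 (p0u729) p0r730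

theorem p0r731 : allRange pointOk 22 6579 9 = true := by decide +kernel
theorem p0u731 : ∀ k, 0 ≤ k → k < 6588 → pointOk (k * 22) = true := between_extend pointOk 22 0 6579 9 (p0u730) p0r731

theorem p0r732 : allRange pointOk 22 6588 9 = true := by decide +kernel
theorem p0u732 : ∀ k, 0 ≤ k → k < 6597 → pointOk (k * 22) = true := between_extend pointOk 22 0 6588 9 (p0u731) p0r732

theorem p0r733 : allRange pointOk 22 6597 9 = true := by decide +kernel
theorem p0u733 : ∀ k, 0 ≤ k → k < 6606 → pointOk (k * 22) = true := between_extend pointOk 22 0 6597 9 (p0u732) p0r733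

theorem p0r734 : allRange pointOk 22 6606 9 = true := by decide +kernel
theorem p0u734 : ∀ k, 0 ≤ k → k < 6615 → pointOk (k * 22) = true := between_extend pointOk 22 0 6606 9 (p0u733) p0r734

theorem p0r735 : allRange pointOk 22 6615 9 = true := by decide +kernel
theorem p0u735 : ∀ k, 0 ≤ k → k < 6624 → pointOk (k * 22) = true := between_extend pointOk 22 0 6615 9 (p0u734) p0r735

theorem p0r736 : allRange pointOk 22 6624 9 = true := by decide +kernel
theorem p0u736 : ∀ k, 0 ≤ k → k < 6633 → pointOk (k * 22) = true := between_extend pointOk 22 0 6624 9 (p0u735) p0r736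

theorem p0r737 : allRange pointOk 22 6633 9 = true := by decide +kernel
theorem p0u737 : ∀ k, 0 ≤ k → k < 6642 → pointOk (k * 22) = true := between_extend pointOk 22 0 6633 9 (p0u736) p0r737

theorem p0r738 : allRange pointOk 22 6642 9 = true := by decide +kernel
theorem p0u738 : ∀ k, 0 ≤ k → k < 6651 → pointOk (k * 22) = true := between_extend pointOk 22 0 6642 9 (p0u737) p0r738

theorem p0r739 : allRange pointOk 22 6651 9 = true := by decide +kernel
theorem p0u739 : ∀ k, 0 ≤ k → k < 6660 → pointOk (k * 22) = true := between_extend pointOk 22 0 6651 9 (p0u738) p0r739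

theorem p0r740 : allRange pointOk 22 6660 9 = true := by decide +kernel
theorem p0u740 : ∀ k, 0 ≤ k → k < 6669 → pointOk (k * 22) = true := between_extend pointOk 22 0 6660 9 (p0u739) p0r740

theorem p0r741 : allRange pointOk 22 6669 9 = true := by decide +kernel
theorem p0u741 : ∀ k, 0 ≤ k → k < 6678 → pointOk (k * 22) = true := between_extend pointOk 22 0 6669 9 (p0u740) p0r741

theorem p0r742 : allRange pointOk 22 6678 9 = true := by decide +kernel
theorem p0u742 : ∀ k, 0 ≤ k → k < 6687 → pointOk (k * 22) = true := between_extend pointOk 22 0 6678 9 (p0u741) p0r742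

theorem p0r743 : allRange pointOk 22 6687 9 = true := by decide +kernel
theorem p0u743 : ∀ k, 0 ≤ k → k < 6696 → pointOk (k * 22) = true := between_extend pointOk 22 0 6687 9 (p0u742) p0r743

theorem p0r744 : allRange pointOk 22 6696 9 = true := by decide +kernel
theorem p0u744 : ∀ k, 0 ≤ k → k < 6705 → pointOk (k * 22) = true := between_extend pointOk 22 0 6696 9 (p0u743) p0r744

theorem p0r745 : allRange pointOk 22 6705 9 = true := by decide +kernel
theorem p0u745 : ∀ k, 0 ≤ k → k < 6714 → pointOk (k * 22) = true := between_extend pointOk 22 0 6705 9 (p0u744) p0r745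

theorem p0r746 : allRange pointOk 22 6714 9 = true := by decide +kernel
theorem p0u746 : ∀ k, 0 ≤ k → k < 6723 → pointOk (k * 22) = true := between_extend pointOk 22 0 6714 9 (p0u745) p0r746

theorem p0r747 : allRange pointOk 22 6723 9 = true := by decide +kernel
theorem p0u747 : ∀ k, 0 ≤ k → k < 6732 → pointOk (k * 22) = true := between_extend pointOk 22 0 6723 9 (p0u746) p0r747

theorem p0r748 : allRange pointOk 22 6732 9 = true := by decide +kernel
theorem p0u748 : ∀ k, 0 ≤ k → k < 6741 → pointOk (k * 22) = true := between_extend pointOk 22 0 6732 9 (p0u747) p0r748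

theorem p0r749 : allRange pointOk 22 6741 9 = true := by decide +kernel
theorem p0u749 : ∀ k, 0 ≤ k → k < 6750 → pointOk (k * 22) = true := between_extend pointOk 22 0 6741 9 (p0u748) p0r749

theorem p0r750 : allRange pointOk 22 6750 9 = true := by decide +kernel
theorem p0u750 : ∀ k, 0 ≤ k → k < 6759 → pointOk (k * 22) = true := between_extend pointOk 22 0 6750 9 (p0u749) p0r750

theorem p0r751 : allRange pointOk 22 6759 9 = true := by decide +kernel
theorem p0u751 : ∀ k, 0 ≤ k → k < 6768 → pointOk (k * 22) = true := between_extend pointOk 22 0 6759 9 (p0u750) p0r751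

theorem p0r752 : allRange pointOk 22 6768 9 = true := by decide +kernel
theorem p0u752 : ∀ k, 0 ≤ k → k < 6777 → pointOk (k * 22) = true := between_extend pointOk 22 0 6768 9 (p0u751) p0r752

theorem p0r753 : allRange pointOk 22 6777 9 = true := by decide +kernel
theorem p0u753 : ∀ k, 0 ≤ k → k < 6786 → pointOk (k * 22) = true := between_extend pointOk 22 0 6777 9 (p0u752) p0r753

theorem p0r754 : allRange pointOk 22 6786 9 = true := by decide +kernel
theorem p0u754 : ∀ k, 0 ≤ k → k < 6795 → pointOk (k * 22) = true := between_extend pointOk 22 0 6786 9 (p0u753) p0r754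

theorem p0r755 : allRange pointOk 22 6795 9 = true := by decide +kernel
theorem p0u755 : ∀ k, 0 ≤ k → k < 6804 → pointOk (k * 22) = true := between_extend pointOk 22 0 6795 9 (p0u754) p0r755

theorem p0r756 : allRange pointOk 22 6804 9 = true := by decide +kernel
theorem p0u756 : ∀ k, 0 ≤ k → k < 6813 → pointOk (k * 22) = true := between_extend pointOk 22 0 6804 9 (p0u755) p0r756

theorem p0r757 : allRange pointOk 22 6813 9 = true := by decide +kernel
theorem p0u757 : ∀ k, 0 ≤ k → k < 6822 → pointOk (k * 22) = true := between_extend pointOk 22 0 6813 9 (p0u756) p0r757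

theorem p0r758 : allRange pointOk 22 6822 9 = true := by decide +kernel
theorem p0u758 : ∀ k, 0 ≤ k → k < 6831 → pointOk (k * 22) = true := between_extend pointOk 22 0 6822 9 (p0u757) p0r758

theorem p0r759 : allRange pointOk 22 6831 9 = true := by decide +kernel
theorem p0u759 : ∀ k, 0 ≤ k → k < 6840 → pointOk (k * 22) = true := between_extend pointOk 22 0 6831 9 (p0u758) p0r759

theorem p0r760 : allRange pointOk 22 6840 9 = true := by decide +kernel
theorem p0u760 : ∀ k, 0 ≤ k → k < 6849 → pointOk (k * 22) = true := between_extend pointOk 22 0 6840 9 (p0u759) p0r760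

theorem p0r761 : allRange pointOk 22 6849 9 = true := by decide +kernel
theorem p0u761 : ∀ k, 0 ≤ k → k < 6858 → pointOk (k * 22) = true := between_extend pointOk 22 0 6849 9 (p0u760) p0r761

theorem p0r762 : allRange pointOk 22 6858 9 = true := by decide +kernel
theorem p0u762 : ∀ k, 0 ≤ k → k < 6867 → pointOk (k * 22) = true := between_extend pointOk 22 0 6858 9 (p0u761) p0r762

theorem p0r763 : allRange pointOk 22 6867 9 = true := by decide +kernel
theorem p0u763 : ∀ k, 0 ≤ k → k < 6876 → pointOk (k * 22) = true := between_extend pointOk 22 0 6867 9 (p0u762) p0r763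

theorem p0r764 : allRange pointOk 22 6876 9 = true := by decide +kernel
theorem p0u764 : ∀ k, 0 ≤ k → k < 6885 → pointOk (k * 22) = true := between_extend pointOk 22 0 6876 9 (p0u763) p0r764

theorem p0r765 : allRange pointOk 22 6885 9 = true := by decide +kernel
theorem p0u765 : ∀ k, 0 ≤ k → k < 6894 → pointOk (k * 22) = true := between_extend pointOk 22 0 6885 9 (p0u764) p0r765

theorem p0r766 : allRange pointOk 22 6894 9 = true := by decide +kernel
theorem p0u766 : ∀ k, 0 ≤ k → k < 6903 → pointOk (k * 22) = true := between_extend pointOk 22 0 6894 9 (p0u765) p0r766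

theorem p0r767 : allRange pointOk 22 6903 9 = true := by decide +kernel
theorem p0u767 : ∀ k, 0 ≤ k → k < 6912 → pointOk (k * 22) = true := between_extend pointOk 22 0 6903 9 (p0u766) p0r767

theorem p0r768 : allRange pointOk 22 6912 9 = true := by decide +kernel
theorem p0u768 : ∀ k, 0 ≤ k → k < 6921 → pointOk (k * 22) = true := between_extend pointOk 22 0 6912 9 (p0u767) p0r768

theorem p0r769 : allRange pointOk 22 6921 9 = true := by decide +kernel
theorem p0u769 : ∀ k, 0 ≤ k → k < 6930 → pointOk (k * 22) = true := between_extend pointOk 22 0 6921 9 (p0u768) p0r769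

theorem p0r770 : allRange pointOk 22 6930 9 = true := by decide +kernel
theorem p0u770 : ∀ k, 0 ≤ k → k < 6939 → pointOk (k * 22) = true := between_extend pointOk 22 0 6930 9 (p0u769) p0r770

theorem p0r771 : allRange pointOk 22 6939 9 = true := by decide +kernel
theorem p0u771 : ∀ k, 0 ≤ k → k < 6948 → pointOk (k * 22) = true := between_extend pointOk 22 0 6939 9 (p0u770) p0r771

theorem p0r772 : allRange pointOk 22 6948 9 = true := by decide +kernel
theorem p0u772 : ∀ k, 0 ≤ k → k < 6957 → pointOk (k * 22) = true := between_extend pointOk 22 0 6948 9 (p0u771) p0r772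

theorem p0r773 : allRange pointOk 22 6957 9 = true := by decide +kernel
theorem p0u773 : ∀ k, 0 ≤ k → k < 6966 → pointOk (k * 22) = true := between_extend pointOk 22 0 6957 9 (p0u772) p0r773

theorem p0r774 : allRange pointOk 22 6966 9 = true := by decide +kernel
theorem p0u774 : ∀ k, 0 ≤ k → k < 6975 → pointOk (k * 22) = true := between_extend pointOk 22 0 6966 9 (p0u773) p0r774

theorem p0r775 : allRange pointOk 22 6975 9 = true := by decide +kernel
theorem p0u775 : ∀ k, 0 ≤ k → k < 6984 → pointOk (k * 22) = true := between_extend pointOk 22 0 6975 9 (p0u774) p0r775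

theorem p0r776 : allRange pointOk 22 6984 9 = true := by decide +kernel
theorem p0u776 : ∀ k, 0 ≤ k → k < 6993 → pointOk (k * 22) = true := between_extend pointOk 22 0 6984 9 (p0u775) p0r776

theorem p0r777 : allRange pointOk 22 6993 9 = true := by decide +kernel
theorem p0u777 : ∀ k, 0 ≤ k → k < 7002 → pointOk (k * 22) = true := between_extend pointOk 22 0 6993 9 (p0u776) p0r777

theorem p0r778 : allRange pointOk 22 7002 9 = true := by decide +kernel
theorem p0u778 : ∀ k, 0 ≤ k → k < 7011 → pointOk (k * 22) = true := between_extend pointOk 22 0 7002 9 (p0u777) p0r778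

theorem p0r779 : allRange pointOk 22 7011 9 = true := by decide +kernel
theorem p0u779 : ∀ k, 0 ≤ k → k < 7020 → pointOk (k * 22) = true := between_extend pointOk 22 0 7011 9 (p0u778) p0r779

theorem p0r780 : allRange pointOk 22 7020 9 = true := by decide +kernel
theorem p0u780 : ∀ k, 0 ≤ k → k < 7029 → pointOk (k * 22) = true := between_extend pointOk 22 0 7020 9 (p0u779) p0r780

theorem p0r781 : allRange pointOk 22 7029 9 = true := by decide +kernel
theorem p0u781 : ∀ k, 0 ≤ k → k < 7038 → pointOk (k * 22) = true := between_extend pointOk 22 0 7029 9 (p0u780) p0r781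

theorem p0r782 : allRange pointOk 22 7038 9 = true := by decide +kernel
theorem p0u782 : ∀ k, 0 ≤ k → k < 7047 → pointOk (k * 22) = true := between_extend pointOk 22 0 7038 9 (p0u781) p0r782

theorem p0r783 : allRange pointOk 22 7047 9 = true := by decide +kernel
theorem p0u783 : ∀ k, 0 ≤ k → k < 7056 → pointOk (k * 22) = true := between_extend pointOk 22 0 7047 9 (p0u782) p0r783

theorem p0r784 : allRange pointOk 22 7056 9 = true := by decide +kernel
theorem p0u784 : ∀ k, 0 ≤ k → k < 7065 → pointOk (k * 22) = true := between_extend pointOk 22 0 7056 9 (p0u783) p0r784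

theorem p0r785 : allRange pointOk 22 7065 9 = true := by decide +kernel
theorem p0u785 : ∀ k, 0 ≤ k → k < 7074 → pointOk (k * 22) = true := between_extend pointOk 22 0 7065 9 (p0u784) p0r785

theorem p0r786 : allRange pointOk 22 7074 9 = true := by decide +kernel
theorem p0u786 : ∀ k, 0 ≤ k → k < 7083 → pointOk (k * 22) = true := between_extend pointOk 22 0 7074 9 (p0u785) p0r786

theorem p0r787 : allRange pointOk 22 7083 9 = true := by decide +kernel
theorem p0u787 : ∀ k, 0 ≤ k → k < 7092 → pointOk (k * 22) = true := between_extend pointOk 22 0 7083 9 (p0u786) p0r787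

theorem p0r788 : allRange pointOk 22 7092 9 = true := by decide +kernel
theorem p0u788 : ∀ k, 0 ≤ k → k < 7101 → pointOk (k * 22) = true := between_extend pointOk 22 0 7092 9 (p0u787) p0r788

theorem p0r789 : allRange pointOk 22 7101 9 = true := by decide +kernel
theorem p0u789 : ∀ k, 0 ≤ k → k < 7110 → pointOk (k * 22) = true := between_extend pointOk 22 0 7101 9 (p0u788) p0r789

theorem p0r790 : allRange pointOk 22 7110 9 = true := by decide +kernel
theorem p0u790 : ∀ k, 0 ≤ k → k < 7119 → pointOk (k * 22) = true := between_extend pointOk 22 0 7110 9 (p0u789) p0r790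

theorem p0r791 : allRange pointOk 22 7119 9 = true := by decide +kernel
theorem p0u791 : ∀ k, 0 ≤ k → k < 7128 → pointOk (k * 22) = true := between_extend pointOk 22 0 7119 9 (p0u790) p0r791

theorem p0r792 : allRange pointOk 22 7128 9 = true := by decide +kernel
theorem p0u792 : ∀ k, 0 ≤ k → k < 7137 → pointOk (k * 22) = true := between_extend pointOk 22 0 7128 9 (p0u791) p0r792

theorem p0r793 : allRange pointOk 22 7137 9 = true := by decide +kernel
theorem p0u793 : ∀ k, 0 ≤ k → k < 7146 → pointOk (k * 22) = true := between_extend pointOk 22 0 7137 9 (p0u792) p0r793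

theorem p0r794 : allRange pointOk 22 7146 9 = true := by decide +kernel
theorem p0u794 : ∀ k, 0 ≤ k → k < 7155 → pointOk (k * 22) = true := between_extend pointOk 22 0 7146 9 (p0u793) p0r794

theorem p0r795 : allRange pointOk 22 7155 9 = true := by decide +kernel
theorem p0u795 : ∀ k, 0 ≤ k → k < 7164 → pointOk (k * 22) = true := between_extend pointOk 22 0 7155 9 (p0u794) p0r795

theorem p0r796 : allRange pointOk 22 7164 9 = true := by decide +kernel
theorem p0u796 : ∀ k, 0 ≤ k → k < 7173 → pointOk (k * 22) = true := between_extend pointOk 22 0 7164 9 (p0u795) p0r796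

theorem p0r797 : allRange pointOk 22 7173 9 = true := by decide +kernel
theorem p0u797 : ∀ k, 0 ≤ k → k < 7182 → pointOk (k * 22) = true := between_extend pointOk 22 0 7173 9 (p0u796) p0r797

theorem p0r798 : allRange pointOk 22 7182 9 = true := by decide +kernel
theorem p0u798 : ∀ k, 0 ≤ k → k < 7191 → pointOk (k * 22) = true := between_extend pointOk 22 0 7182 9 (p0u797) p0r798

theorem p0r799 : allRange pointOk 22 7191 9 = true := by decide +kernel
theorem p0u799 : ∀ k, 0 ≤ k → k < 7200 → pointOk (k * 22) = true := between_extend pointOk 22 0 7191 9 (p0u798) p0r799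

theorem p0r800 : allRange pointOk 22 7200 9 = true := by decide +kernel
theorem p0u800 : ∀ k, 0 ≤ k → k < 7209 → pointOk (k * 22) = true := between_extend pointOk 22 0 7200 9 (p0u799) p0r800

theorem p0r801 : allRange pointOk 22 7209 9 = true := by decide +kernel
theorem p0u801 : ∀ k, 0 ≤ k → k < 7218 → pointOk (k * 22) = true := between_extend pointOk 22 0 7209 9 (p0u800) p0r801

theorem p0r802 : allRange pointOk 22 7218 9 = true := by decide +kernel
theorem p0u802 : ∀ k, 0 ≤ k → k < 7227 → pointOk (k * 22) = true := between_extend pointOk 22 0 7218 9 (p0u801) p0r802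

theorem p0r803 : allRange pointOk 22 7227 9 = true := by decide +kernel
theorem p0u803 : ∀ k, 0 ≤ k → k < 7236 → pointOk (k * 22) = true := between_extend pointOk 22 0 7227 9 (p0u802) p0r803

theorem p0r804 : allRange pointOk 22 7236 9 = true := by decide +kernel
theorem p0u804 : ∀ k, 0 ≤ k → k < 7245 → pointOk (k * 22) = true := between_extend pointOk 22 0 7236 9 (p0u803) p0r804

theorem p0r805 : allRange pointOk 22 7245 9 = true := by decide +kernel
theorem p0u805 : ∀ k, 0 ≤ k → k < 7254 → pointOk (k * 22) = true := between_extend pointOk 22 0 7245 9 (p0u804) p0r805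

theorem p0r806 : allRange pointOk 22 7254 9 = true := by decide +kernel
theorem p0u806 : ∀ k, 0 ≤ k → k < 7263 → pointOk (k * 22) = true := between_extend pointOk 22 0 7254 9 (p0u805) p0r806

theorem p0r807 : allRange pointOk 22 7263 9 = true := by decide +kernel
theorem p0u807 : ∀ k, 0 ≤ k → k < 7272 → pointOk (k * 22) = true := between_extend pointOk 22 0 7263 9 (p0u806) p0r807

theorem p0r808 : allRange pointOk 22 7272 9 = true := by decide +kernel
theorem p0u808 : ∀ k, 0 ≤ k → k < 7281 → pointOk (k * 22) = true := between_extend pointOk 22 0 7272 9 (p0u807) p0r808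

theorem p0r809 : allRange pointOk 22 7281 9 = true := by decide +kernel
theorem p0u809 : ∀ k, 0 ≤ k → k < 7290 → pointOk (k * 22) = true := between_extend pointOk 22 0 7281 9 (p0u808) p0r809

theorem p0r810 : allRange pointOk 22 7290 9 = true := by decide +kernel
theorem p0u810 : ∀ k, 0 ≤ k → k < 7299 → pointOk (k * 22) = true := between_extend pointOk 22 0 7290 9 (p0u809) p0r810

theorem p0r811 : allRange pointOk 22 7299 9 = true := by decide +kernel
theorem p0u811 : ∀ k, 0 ≤ k → k < 7308 → pointOk (k * 22) = true := between_extend pointOk 22 0 7299 9 (p0u810) p0r811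

theorem p0r812 : allRange pointOk 22 7308 9 = true := by decide +kernel
theorem p0u812 : ∀ k, 0 ≤ k → k < 7317 → pointOk (k * 22) = true := between_extend pointOk 22 0 7308 9 (p0u811) p0r812

theorem p0r813 : allRange pointOk 22 7317 9 = true := by decide +kernel
theorem p0u813 : ∀ k, 0 ≤ k → k < 7326 → pointOk (k * 22) = true := between_extend pointOk 22 0 7317 9 (p0u812) p0r813

theorem p0r814 : allRange pointOk 22 7326 9 = true := by decide +kernel
theorem p0u814 : ∀ k, 0 ≤ k → k < 7335 → pointOk (k * 22) = true := between_extend pointOk 22 0 7326 9 (p0u813) p0r814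

theorem p0r815 : allRange pointOk 22 7335 9 = true := by decide +kernel
theorem p0u815 : ∀ k, 0 ≤ k → k < 7344 → pointOk (k * 22) = true := between_extend pointOk 22 0 7335 9 (p0u814) p0r815

theorem p0r816 : allRange pointOk 22 7344 9 = true := by decide +kernel
theorem p0u816 : ∀ k, 0 ≤ k → k < 7353 → pointOk (k * 22) = true := between_extend pointOk 22 0 7344 9 (p0u815) p0r816

theorem p0r817 : allRange pointOk 22 7353 9 = true := by decide +kernel
theorem p0u817 : ∀ k, 0 ≤ k → k < 7362 → pointOk (k * 22) = true := between_extend pointOk 22 0 7353 9 (p0u816) p0r817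

theorem p0r818 : allRange pointOk 22 7362 9 = true := by decide +kernel
theorem p0u818 : ∀ k, 0 ≤ k → k < 7371 → pointOk (k * 22) = true := between_extend pointOk 22 0 7362 9 (p0u817) p0r818

theorem p0r819 : allRange pointOk 22 7371 9 = true := by decide +kernel
theorem p0u819 : ∀ k, 0 ≤ k → k < 7380 → pointOk (k * 22) = true := between_extend pointOk 22 0 7371 9 (p0u818) p0r819

theorem p0r820 : allRange pointOk 22 7380 9 = true := by decide +kernel
theorem p0u820 : ∀ k, 0 ≤ k → k < 7389 → pointOk (k * 22) = true := between_extend pointOk 22 0 7380 9 (p0u819) p0r820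

theorem p0r821 : allRange pointOk 22 7389 9 = true := by decide +kernel
theorem p0u821 : ∀ k, 0 ≤ k → k < 7398 → pointOk (k * 22) = true := between_extend pointOk 22 0 7389 9 (p0u820) p0r821

theorem p0r822 : allRange pointOk 22 7398 9 = true := by decide +kernel
theorem p0u822 : ∀ k, 0 ≤ k → k < 7407 → pointOk (k * 22) = true := between_extend pointOk 22 0 7398 9 (p0u821) p0r822

theorem p0r823 : allRange pointOk 22 7407 9 = true := by decide +kernel
theorem p0u823 : ∀ k, 0 ≤ k → k < 7416 → pointOk (k * 22) = true := between_extend pointOk 22 0 7407 9 (p0u822) p0r823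

theorem p0r824 : allRange pointOk 22 7416 9 = true := by decide +kernel
theorem p0u824 : ∀ k, 0 ≤ k → k < 7425 → pointOk (k * 22) = true := between_extend pointOk 22 0 7416 9 (p0u823) p0r824

theorem p0r825 : allRange pointOk 22 7425 9 = true := by decide +kernel
theorem p0u825 : ∀ k, 0 ≤ k → k < 7434 → pointOk (k * 22) = true := between_extend pointOk 22 0 7425 9 (p0u824) p0r825

theorem p0r826 : allRange pointOk 22 7434 9 = true := by decide +kernel
theorem p0u826 : ∀ k, 0 ≤ k → k < 7443 → pointOk (k * 22) = true := between_extend pointOk 22 0 7434 9 (p0u825) p0r826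

theorem p0r827 : allRange pointOk 22 7443 9 = true := by decide +kernel
theorem p0u827 : ∀ k, 0 ≤ k → k < 7452 → pointOk (k * 22) = true := between_extend pointOk 22 0 7443 9 (p0u826) p0r827

theorem p0r828 : allRange pointOk 22 7452 9 = true := by decide +kernel
theorem p0u828 : ∀ k, 0 ≤ k → k < 7461 → pointOk (k * 22) = true := between_extend pointOk 22 0 7452 9 (p0u827) p0r828

theorem p0r829 : allRange pointOk 22 7461 9 = true := by decide +kernel
theorem p0u829 : ∀ k, 0 ≤ k → k < 7470 → pointOk (k * 22) = true := between_extend pointOk 22 0 7461 9 (p0u828) p0r829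

theorem p0r830 : allRange pointOk 22 7470 9 = true := by decide +kernel
theorem p0u830 : ∀ k, 0 ≤ k → k < 7479 → pointOk (k * 22) = true := between_extend pointOk 22 0 7470 9 (p0u829) p0r830

theorem p0r831 : allRange pointOk 22 7479 9 = true := by decide +kernel
theorem p0u831 : ∀ k, 0 ≤ k → k < 7488 → pointOk (k * 22) = true := between_extend pointOk 22 0 7479 9 (p0u830) p0r831

theorem p0r832 : allRange pointOk 22 7488 9 = true := by decide +kernel
theorem p0u832 : ∀ k, 0 ≤ k → k < 7497 → pointOk (k * 22) = true := between_extend pointOk 22 0 7488 9 (p0u831) p0r832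

theorem p0r833 : allRange pointOk 22 7497 9 = true := by decide +kernel
theorem p0u833 : ∀ k, 0 ≤ k → k < 7506 → pointOk (k * 22) = true := between_extend pointOk 22 0 7497 9 (p0u832) p0r833

theorem p0r834 : allRange pointOk 22 7506 9 = true := by decide +kernel
theorem p0u834 : ∀ k, 0 ≤ k → k < 7515 → pointOk (k * 22) = true := between_extend pointOk 22 0 7506 9 (p0u833) p0r834

theorem p0r835 : allRange pointOk 22 7515 9 = true := by decide +kernel
theorem p0u835 : ∀ k, 0 ≤ k → k < 7524 → pointOk (k * 22) = true := between_extend pointOk 22 0 7515 9 (p0u834) p0r835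

theorem p0r836 : allRange pointOk 22 7524 9 = true := by decide +kernel
theorem p0u836 : ∀ k, 0 ≤ k → k < 7533 → pointOk (k * 22) = true := between_extend pointOk 22 0 7524 9 (p0u835) p0r836

theorem p0r837 : allRange pointOk 22 7533 9 = true := by decide +kernel
theorem p0u837 : ∀ k, 0 ≤ k → k < 7542 → pointOk (k * 22) = true := between_extend pointOk 22 0 7533 9 (p0u836) p0r837

theorem p0r838 : allRange pointOk 22 7542 9 = true := by decide +kernel
theorem p0u838 : ∀ k, 0 ≤ k → k < 7551 → pointOk (k * 22) = true := between_extend pointOk 22 0 7542 9 (p0u837) p0r838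

theorem p0r839 : allRange pointOk 22 7551 9 = true := by decide +kernel
theorem p0u839 : ∀ k, 0 ≤ k → k < 7560 → pointOk (k * 22) = true := between_extend pointOk 22 0 7551 9 (p0u838) p0r839

theorem p0r840 : allRange pointOk 22 7560 9 = true := by decide +kernel
theorem p0u840 : ∀ k, 0 ≤ k → k < 7569 → pointOk (k * 22) = true := between_extend pointOk 22 0 7560 9 (p0u839) p0r840

theorem p0r841 : allRange pointOk 22 7569 9 = true := by decide +kernel
theorem p0u841 : ∀ k, 0 ≤ k → k < 7578 → pointOk (k * 22) = true := between_extend pointOk 22 0 7569 9 (p0u840) p0r841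

theorem p0r842 : allRange pointOk 22 7578 9 = true := by decide +kernel
theorem p0u842 : ∀ k, 0 ≤ k → k < 7587 → pointOk (k * 22) = true := between_extend pointOk 22 0 7578 9 (p0u841) p0r842

theorem p0r843 : allRange pointOk 22 7587 9 = true := by decide +kernel
theorem p0u843 : ∀ k, 0 ≤ k → k < 7596 → pointOk (k * 22) = true := between_extend pointOk 22 0 7587 9 (p0u842) p0r843

theorem p0r844 : allRange pointOk 22 7596 9 = true := by decide +kernel
theorem p0u844 : ∀ k, 0 ≤ k → k < 7605 → pointOk (k * 22) = true := between_extend pointOk 22 0 7596 9 (p0u843) p0r844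

theorem p0r845 : allRange pointOk 22 7605 9 = true := by decide +kernel
theorem p0u845 : ∀ k, 0 ≤ k → k < 7614 → pointOk (k * 22) = true := between_extend pointOk 22 0 7605 9 (p0u844) p0r845

theorem p0r846 : allRange pointOk 22 7614 9 = true := by decide +kernel
theorem p0u846 : ∀ k, 0 ≤ k → k < 7623 → pointOk (k * 22) = true := between_extend pointOk 22 0 7614 9 (p0u845) p0r846

theorem p0r847 : allRange pointOk 22 7623 9 = true := by decide +kernel
theorem p0u847 : ∀ k, 0 ≤ k → k < 7632 → pointOk (k * 22) = true := between_extend pointOk 22 0 7623 9 (p0u846) p0r847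

theorem p0r848 : allRange pointOk 22 7632 9 = true := by decide +kernel
theorem p0u848 : ∀ k, 0 ≤ k → k < 7641 → pointOk (k * 22) = true := between_extend pointOk 22 0 7632 9 (p0u847) p0r848

theorem p0r849 : allRange pointOk 22 7641 9 = true := by decide +kernel
theorem p0u849 : ∀ k, 0 ≤ k → k < 7650 → pointOk (k * 22) = true := between_extend pointOk 22 0 7641 9 (p0u848) p0r849

theorem p0r850 : allRange pointOk 22 7650 9 = true := by decide +kernel
theorem p0u850 : ∀ k, 0 ≤ k → k < 7659 → pointOk (k * 22) = true := between_extend pointOk 22 0 7650 9 (p0u849) p0r850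

theorem p0r851 : allRange pointOk 22 7659 9 = true := by decide +kernel
theorem p0u851 : ∀ k, 0 ≤ k → k < 7668 → pointOk (k * 22) = true := between_extend pointOk 22 0 7659 9 (p0u850) p0r851

theorem p0r852 : allRange pointOk 22 7668 9 = true := by decide +kernel
theorem p0u852 : ∀ k, 0 ≤ k → k < 7677 → pointOk (k * 22) = true := between_extend pointOk 22 0 7668 9 (p0u851) p0r852

theorem p0r853 : allRange pointOk 22 7677 9 = true := by decide +kernel
theorem p0u853 : ∀ k, 0 ≤ k → k < 7686 → pointOk (k * 22) = true := between_extend pointOk 22 0 7677 9 (p0u852) p0r853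

theorem p0r854 : allRange pointOk 22 7686 9 = true := by decide +kernel
theorem p0u854 : ∀ k, 0 ≤ k → k < 7695 → pointOk (k * 22) = true := between_extend pointOk 22 0 7686 9 (p0u853) p0r854

theorem p0r855 : allRange pointOk 22 7695 9 = true := by decide +kernel
theorem p0u855 : ∀ k, 0 ≤ k → k < 7704 → pointOk (k * 22) = true := between_extend pointOk 22 0 7695 9 (p0u854) p0r855

theorem p0r856 : allRange pointOk 22 7704 9 = true := by decide +kernel
theorem p0u856 : ∀ k, 0 ≤ k → k < 7713 → pointOk (k * 22) = true := between_extend pointOk 22 0 7704 9 (p0u855) p0r856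

theorem p0r857 : allRange pointOk 22 7713 9 = true := by decide +kernel
theorem p0u857 : ∀ k, 0 ≤ k → k < 7722 → pointOk (k * 22) = true := between_extend pointOk 22 0 7713 9 (p0u856) p0r857

theorem p0r858 : allRange pointOk 22 7722 9 = true := by decide +kernel
theorem p0u858 : ∀ k, 0 ≤ k → k < 7731 → pointOk (k * 22) = true := between_extend pointOk 22 0 7722 9 (p0u857) p0r858

theorem p0r859 : allRange pointOk 22 7731 9 = true := by decide +kernel
theorem p0u859 : ∀ k, 0 ≤ k → k < 7740 → pointOk (k * 22) = true := between_extend pointOk 22 0 7731 9 (p0u858) p0r859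

theorem p0r860 : allRange pointOk 22 7740 9 = true := by decide +kernel
theorem p0u860 : ∀ k, 0 ≤ k → k < 7749 → pointOk (k * 22) = true := between_extend pointOk 22 0 7740 9 (p0u859) p0r860

theorem p0r861 : allRange pointOk 22 7749 9 = true := by decide +kernel
theorem p0u861 : ∀ k, 0 ≤ k → k < 7758 → pointOk (k * 22) = true := between_extend pointOk 22 0 7749 9 (p0u860) p0r861

theorem p0r862 : allRange pointOk 22 7758 9 = true := by decide +kernel
theorem p0u862 : ∀ k, 0 ≤ k → k < 7767 → pointOk (k * 22) = true := between_extend pointOk 22 0 7758 9 (p0u861) p0r862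

theorem p0r863 : allRange pointOk 22 7767 9 = true := by decide +kernel
theorem p0u863 : ∀ k, 0 ≤ k → k < 7776 → pointOk (k * 22) = true := between_extend pointOk 22 0 7767 9 (p0u862) p0r863

theorem p0r864 : allRange pointOk 22 7776 9 = true := by decide +kernel
theorem p0u864 : ∀ k, 0 ≤ k → k < 7785 → pointOk (k * 22) = true := between_extend pointOk 22 0 7776 9 (p0u863) p0r864

theorem p0r865 : allRange pointOk 22 7785 9 = true := by decide +kernel
theorem p0u865 : ∀ k, 0 ≤ k → k < 7794 → pointOk (k * 22) = true := between_extend pointOk 22 0 7785 9 (p0u864) p0r865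

theorem p0r866 : allRange pointOk 22 7794 9 = true := by decide +kernel
theorem p0u866 : ∀ k, 0 ≤ k → k < 7803 → pointOk (k * 22) = true := between_extend pointOk 22 0 7794 9 (p0u865) p0r866

theorem p0r867 : allRange pointOk 22 7803 9 = true := by decide +kernel
theorem p0u867 : ∀ k, 0 ≤ k → k < 7812 → pointOk (k * 22) = true := between_extend pointOk 22 0 7803 9 (p0u866) p0r867

theorem p0r868 : allRange pointOk 22 7812 9 = true := by decide +kernel
theorem p0u868 : ∀ k, 0 ≤ k → k < 7821 → pointOk (k * 22) = true := between_extend pointOk 22 0 7812 9 (p0u867) p0r868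

theorem p0r869 : allRange pointOk 22 7821 9 = true := by decide +kernel
theorem p0u869 : ∀ k, 0 ≤ k → k < 7830 → pointOk (k * 22) = true := between_extend pointOk 22 0 7821 9 (p0u868) p0r869

theorem p0r870 : allRange pointOk 22 7830 9 = true := by decide +kernel
theorem p0u870 : ∀ k, 0 ≤ k → k < 7839 → pointOk (k * 22) = true := between_extend pointOk 22 0 7830 9 (p0u869) p0r870

theorem p0r871 : allRange pointOk 22 7839 9 = true := by decide +kernel
theorem p0u871 : ∀ k, 0 ≤ k → k < 7848 → pointOk (k * 22) = true := between_extend pointOk 22 0 7839 9 (p0u870) p0r871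

theorem p0r872 : allRange pointOk 22 7848 9 = true := by decide +kernel
theorem p0u872 : ∀ k, 0 ≤ k → k < 7857 → pointOk (k * 22) = true := between_extend pointOk 22 0 7848 9 (p0u871) p0r872

theorem p0r873 : allRange pointOk 22 7857 9 = true := by decide +kernel
theorem p0u873 : ∀ k, 0 ≤ k → k < 7866 → pointOk (k * 22) = true := between_extend pointOk 22 0 7857 9 (p0u872) p0r873

theorem p0r874 : allRange pointOk 22 7866 9 = true := by decide +kernel
theorem p0u874 : ∀ k, 0 ≤ k → k < 7875 → pointOk (k * 22) = true := between_extend pointOk 22 0 7866 9 (p0u873) p0r874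

theorem p0r875 : allRange pointOk 22 7875 9 = true := by decide +kernel
theorem p0u875 : ∀ k, 0 ≤ k → k < 7884 → pointOk (k * 22) = true := between_extend pointOk 22 0 7875 9 (p0u874) p0r875

theorem p0r876 : allRange pointOk 22 7884 9 = true := by decide +kernel
theorem p0u876 : ∀ k, 0 ≤ k → k < 7893 → pointOk (k * 22) = true := between_extend pointOk 22 0 7884 9 (p0u875) p0r876

theorem p0r877 : allRange pointOk 22 7893 9 = true := by decide +kernel
theorem p0u877 : ∀ k, 0 ≤ k → k < 7902 → pointOk (k * 22) = true := between_extend pointOk 22 0 7893 9 (p0u876) p0r877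

theorem p0r878 : allRange pointOk 22 7902 9 = true := by decide +kernel
theorem p0u878 : ∀ k, 0 ≤ k → k < 7911 → pointOk (k * 22) = true := between_extend pointOk 22 0 7902 9 (p0u877) p0r878

theorem p0r879 : allRange pointOk 22 7911 9 = true := by decide +kernel
theorem p0u879 : ∀ k, 0 ≤ k → k < 7920 → pointOk (k * 22) = true := between_extend pointOk 22 0 7911 9 (p0u878) p0r879

theorem p0r880 : allRange pointOk 22 7920 9 = true := by decide +kernel
theorem p0u880 : ∀ k, 0 ≤ k → k < 7929 → pointOk (k * 22) = true := between_extend pointOk 22 0 7920 9 (p0u879) p0r880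

theorem p0r881 : allRange pointOk 22 7929 9 = true := by decide +kernel
theorem p0u881 : ∀ k, 0 ≤ k → k < 7938 → pointOk (k * 22) = true := between_extend pointOk 22 0 7929 9 (p0u880) p0r881

theorem p0r882 : allRange pointOk 22 7938 9 = true := by decide +kernel
theorem p0u882 : ∀ k, 0 ≤ k → k < 7947 → pointOk (k * 22) = true := between_extend pointOk 22 0 7938 9 (p0u881) p0r882

theorem p0r883 : allRange pointOk 22 7947 9 = true := by decide +kernel
theorem p0u883 : ∀ k, 0 ≤ k → k < 7956 → pointOk (k * 22) = true := between_extend pointOk 22 0 7947 9 (p0u882) p0r883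

theorem p0r884 : allRange pointOk 22 7956 9 = true := by decide +kernel
theorem p0u884 : ∀ k, 0 ≤ k → k < 7965 → pointOk (k * 22) = true := between_extend pointOk 22 0 7956 9 (p0u883) p0r884

theorem p0r885 : allRange pointOk 22 7965 9 = true := by decide +kernel
theorem p0u885 : ∀ k, 0 ≤ k → k < 7974 → pointOk (k * 22) = true := between_extend pointOk 22 0 7965 9 (p0u884) p0r885

theorem p0r886 : allRange pointOk 22 7974 9 = true := by decide +kernel
theorem p0u886 : ∀ k, 0 ≤ k → k < 7983 → pointOk (k * 22) = true := between_extend pointOk 22 0 7974 9 (p0u885) p0r886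

theorem p0r887 : allRange pointOk 22 7983 9 = true := by decide +kernel
theorem p0u887 : ∀ k, 0 ≤ k → k < 7992 → pointOk (k * 22) = true := between_extend pointOk 22 0 7983 9 (p0u886) p0r887

theorem p0r888 : allRange pointOk 22 7992 9 = true := by decide +kernel
theorem p0u888 : ∀ k, 0 ≤ k → k < 8001 → pointOk (k * 22) = true := between_extend pointOk 22 0 7992 9 (p0u887) p0r888

theorem p0r889 : allRange pointOk 22 8001 9 = true := by decide +kernel
theorem p0u889 : ∀ k, 0 ≤ k → k < 8010 → pointOk (k * 22) = true := between_extend pointOk 22 0 8001 9 (p0u888) p0r889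

theorem p0r890 : allRange pointOk 22 8010 9 = true := by decide +kernel
theorem p0u890 : ∀ k, 0 ≤ k → k < 8019 → pointOk (k * 22) = true := between_extend pointOk 22 0 8010 9 (p0u889) p0r890

theorem p0r891 : allRange pointOk 22 8019 9 = true := by decide +kernel
theorem p0u891 : ∀ k, 0 ≤ k → k < 8028 → pointOk (k * 22) = true := between_extend pointOk 22 0 8019 9 (p0u890) p0r891

theorem p0r892 : allRange pointOk 22 8028 9 = true := by decide +kernel
theorem p0u892 : ∀ k, 0 ≤ k → k < 8037 → pointOk (k * 22) = true := between_extend pointOk 22 0 8028 9 (p0u891) p0r892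

theorem p0r893 : allRange pointOk 22 8037 9 = true := by decide +kernel
theorem p0u893 : ∀ k, 0 ≤ k → k < 8046 → pointOk (k * 22) = true := between_extend pointOk 22 0 8037 9 (p0u892) p0r893

theorem p0r894 : allRange pointOk 22 8046 9 = true := by decide +kernel
theorem p0u894 : ∀ k, 0 ≤ k → k < 8055 → pointOk (k * 22) = true := between_extend pointOk 22 0 8046 9 (p0u893) p0r894

theorem p0r895 : allRange pointOk 22 8055 9 = true := by decide +kernel
theorem p0u895 : ∀ k, 0 ≤ k → k < 8064 → pointOk (k * 22) = true := between_extend pointOk 22 0 8055 9 (p0u894) p0r895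

theorem p0r896 : allRange pointOk 22 8064 9 = true := by decide +kernel
theorem p0u896 : ∀ k, 0 ≤ k → k < 8073 → pointOk (k * 22) = true := between_extend pointOk 22 0 8064 9 (p0u895) p0r896

theorem p0r897 : allRange pointOk 22 8073 9 = true := by decide +kernel
theorem p0u897 : ∀ k, 0 ≤ k → k < 8082 → pointOk (k * 22) = true := between_extend pointOk 22 0 8073 9 (p0u896) p0r897

theorem p0r898 : allRange pointOk 22 8082 9 = true := by decide +kernel
theorem p0u898 : ∀ k, 0 ≤ k → k < 8091 → pointOk (k * 22) = true := between_extend pointOk 22 0 8082 9 (p0u897) p0r898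

theorem p0r899 : allRange pointOk 22 8091 9 = true := by decide +kernel
theorem p0u899 : ∀ k, 0 ≤ k → k < 8100 → pointOk (k * 22) = true := between_extend pointOk 22 0 8091 9 (p0u898) p0r899

theorem p0r900 : allRange pointOk 22 8100 9 = true := by decide +kernel
theorem p0u900 : ∀ k, 0 ≤ k → k < 8109 → pointOk (k * 22) = true := between_extend pointOk 22 0 8100 9 (p0u899) p0r900

theorem p0r901 : allRange pointOk 22 8109 9 = true := by decide +kernel
theorem p0u901 : ∀ k, 0 ≤ k → k < 8118 → pointOk (k * 22) = true := between_extend pointOk 22 0 8109 9 (p0u900) p0r901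

theorem p0r902 : allRange pointOk 22 8118 9 = true := by decide +kernel
theorem p0u902 : ∀ k, 0 ≤ k → k < 8127 → pointOk (k * 22) = true := between_extend pointOk 22 0 8118 9 (p0u901) p0r902

theorem p0r903 : allRange pointOk 22 8127 9 = true := by decide +kernel
theorem p0u903 : ∀ k, 0 ≤ k → k < 8136 → pointOk (k * 22) = true := between_extend pointOk 22 0 8127 9 (p0u902) p0r903

theorem p0r904 : allRange pointOk 22 8136 9 = true := by decide +kernel
theorem p0u904 : ∀ k, 0 ≤ k → k < 8145 → pointOk (k * 22) = true := between_extend pointOk 22 0 8136 9 (p0u903) p0r904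

theorem p0r905 : allRange pointOk 22 8145 9 = true := by decide +kernel
theorem p0u905 : ∀ k, 0 ≤ k → k < 8154 → pointOk (k * 22) = true := between_extend pointOk 22 0 8145 9 (p0u904) p0r905

theorem p0r906 : allRange pointOk 22 8154 9 = true := by decide +kernel
theorem p0u906 : ∀ k, 0 ≤ k → k < 8163 → pointOk (k * 22) = true := between_extend pointOk 22 0 8154 9 (p0u905) p0r906

theorem p0r907 : allRange pointOk 22 8163 9 = true := by decide +kernel
theorem p0u907 : ∀ k, 0 ≤ k → k < 8172 → pointOk (k * 22) = true := between_extend pointOk 22 0 8163 9 (p0u906) p0r907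

theorem p0r908 : allRange pointOk 22 8172 9 = true := by decide +kernel
theorem p0u908 : ∀ k, 0 ≤ k → k < 8181 → pointOk (k * 22) = true := between_extend pointOk 22 0 8172 9 (p0u907) p0r908

theorem p0r909 : allRange pointOk 22 8181 9 = true := by decide +kernel
theorem p0u909 : ∀ k, 0 ≤ k → k < 8190 → pointOk (k * 22) = true := between_extend pointOk 22 0 8181 9 (p0u908) p0r909

theorem p0r910 : allRange pointOk 22 8190 9 = true := by decide +kernel
theorem p0u910 : ∀ k, 0 ≤ k → k < 8199 → pointOk (k * 22) = true := between_extend pointOk 22 0 8190 9 (p0u909) p0r910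

theorem p0r911 : allRange pointOk 22 8199 9 = true := by decide +kernel
theorem p0u911 : ∀ k, 0 ≤ k → k < 8208 → pointOk (k * 22) = true := between_extend pointOk 22 0 8199 9 (p0u910) p0r911

theorem p0r912 : allRange pointOk 22 8208 9 = true := by decide +kernel
theorem p0u912 : ∀ k, 0 ≤ k → k < 8217 → pointOk (k * 22) = true := between_extend pointOk 22 0 8208 9 (p0u911) p0r912

theorem p0r913 : allRange pointOk 22 8217 9 = true := by decide +kernel
theorem p0u913 : ∀ k, 0 ≤ k → k < 8226 → pointOk (k * 22) = true := between_extend pointOk 22 0 8217 9 (p0u912) p0r913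

theorem p0r914 : allRange pointOk 22 8226 9 = true := by decide +kernel
theorem p0u914 : ∀ k, 0 ≤ k → k < 8235 → pointOk (k * 22) = true := between_extend pointOk 22 0 8226 9 (p0u913) p0r914

theorem p0r915 : allRange pointOk 22 8235 9 = true := by decide +kernel
theorem p0u915 : ∀ k, 0 ≤ k → k < 8244 → pointOk (k * 22) = true := between_extend pointOk 22 0 8235 9 (p0u914) p0r915

theorem p0r916 : allRange pointOk 22 8244 9 = true := by decide +kernel
theorem p0u916 : ∀ k, 0 ≤ k → k < 8253 → pointOk (k * 22) = true := between_extend pointOk 22 0 8244 9 (p0u915) p0r916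

theorem p0r917 : allRange pointOk 22 8253 9 = true := by decide +kernel
theorem p0u917 : ∀ k, 0 ≤ k → k < 8262 → pointOk (k * 22) = true := between_extend pointOk 22 0 8253 9 (p0u916) p0r917

theorem p0r918 : allRange pointOk 22 8262 9 = true := by decide +kernel
theorem p0u918 : ∀ k, 0 ≤ k → k < 8271 → pointOk (k * 22) = true := between_extend pointOk 22 0 8262 9 (p0u917) p0r918

theorem p0r919 : allRange pointOk 22 8271 9 = true := by decide +kernel
theorem p0u919 : ∀ k, 0 ≤ k → k < 8280 → pointOk (k * 22) = true := between_extend pointOk 22 0 8271 9 (p0u918) p0r919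

theorem p0r920 : allRange pointOk 22 8280 9 = true := by decide +kernel
theorem p0u920 : ∀ k, 0 ≤ k → k < 8289 → pointOk (k * 22) = true := between_extend pointOk 22 0 8280 9 (p0u919) p0r920

theorem p0r921 : allRange pointOk 22 8289 9 = true := by decide +kernel
theorem p0u921 : ∀ k, 0 ≤ k → k < 8298 → pointOk (k * 22) = true := between_extend pointOk 22 0 8289 9 (p0u920) p0r921

theorem p0r922 : allRange pointOk 22 8298 9 = true := by decide +kernel
theorem p0u922 : ∀ k, 0 ≤ k → k < 8307 → pointOk (k * 22) = true := between_extend pointOk 22 0 8298 9 (p0u921) p0r922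

theorem p0r923 : allRange pointOk 22 8307 9 = true := by decide +kernel
theorem p0u923 : ∀ k, 0 ≤ k → k < 8316 → pointOk (k * 22) = true := between_extend pointOk 22 0 8307 9 (p0u922) p0r923

theorem p0r924 : allRange pointOk 22 8316 9 = true := by decide +kernel
theorem p0u924 : ∀ k, 0 ≤ k → k < 8325 → pointOk (k * 22) = true := between_extend pointOk 22 0 8316 9 (p0u923) p0r924

theorem p0r925 : allRange pointOk 22 8325 9 = true := by decide +kernel
theorem p0u925 : ∀ k, 0 ≤ k → k < 8334 → pointOk (k * 22) = true := between_extend pointOk 22 0 8325 9 (p0u924) p0r925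

theorem p0r926 : allRange pointOk 22 8334 9 = true := by decide +kernel
theorem p0u926 : ∀ k, 0 ≤ k → k < 8343 → pointOk (k * 22) = true := between_extend pointOk 22 0 8334 9 (p0u925) p0r926

theorem p0r927 : allRange pointOk 22 8343 9 = true := by decide +kernel
theorem p0u927 : ∀ k, 0 ≤ k → k < 8352 → pointOk (k * 22) = true := between_extend pointOk 22 0 8343 9 (p0u926) p0r927

theorem p0r928 : allRange pointOk 22 8352 9 = true := by decide +kernel
theorem p0u928 : ∀ k, 0 ≤ k → k < 8361 → pointOk (k * 22) = true := between_extend pointOk 22 0 8352 9 (p0u927) p0r928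

theorem p0r929 : allRange pointOk 22 8361 9 = true := by decide +kernel
theorem p0u929 : ∀ k, 0 ≤ k → k < 8370 → pointOk (k * 22) = true := between_extend pointOk 22 0 8361 9 (p0u928) p0r929

theorem p0r930 : allRange pointOk 22 8370 9 = true := by decide +kernel
theorem p0u930 : ∀ k, 0 ≤ k → k < 8379 → pointOk (k * 22) = true := between_extend pointOk 22 0 8370 9 (p0u929) p0r930

theorem p0r931 : allRange pointOk 22 8379 9 = true := by decide +kernel
theorem p0u931 : ∀ k, 0 ≤ k → k < 8388 → pointOk (k * 22) = true := between_extend pointOk 22 0 8379 9 (p0u930) p0r931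

theorem p0r932 : allRange pointOk 22 8388 9 = true := by decide +kernel
theorem p0u932 : ∀ k, 0 ≤ k → k < 8397 → pointOk (k * 22) = true := between_extend pointOk 22 0 8388 9 (p0u931) p0r932

theorem p0r933 : allRange pointOk 22 8397 9 = true := by decide +kernel
theorem p0u933 : ∀ k, 0 ≤ k → k < 8406 → pointOk (k * 22) = true := between_extend pointOk 22 0 8397 9 (p0u932) p0r933

theorem p0r934 : allRange pointOk 22 8406 9 = true := by decide +kernel
theorem p0u934 : ∀ k, 0 ≤ k → k < 8415 → pointOk (k * 22) = true := between_extend pointOk 22 0 8406 9 (p0u933) p0r934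

theorem p0r935 : allRange pointOk 22 8415 9 = true := by decide +kernel
theorem p0u935 : ∀ k, 0 ≤ k → k < 8424 → pointOk (k * 22) = true := between_extend pointOk 22 0 8415 9 (p0u934) p0r935

theorem p0r936 : allRange pointOk 22 8424 9 = true := by decide +kernel
theorem p0u936 : ∀ k, 0 ≤ k → k < 8433 → pointOk (k * 22) = true := between_extend pointOk 22 0 8424 9 (p0u935) p0r936

theorem p0r937 : allRange pointOk 22 8433 9 = true := by decide +kernel
theorem p0u937 : ∀ k, 0 ≤ k → k < 8442 → pointOk (k * 22) = true := between_extend pointOk 22 0 8433 9 (p0u936) p0r937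

theorem p0r938 : allRange pointOk 22 8442 9 = true := by decide +kernel
theorem p0u938 : ∀ k, 0 ≤ k → k < 8451 → pointOk (k * 22) = true := between_extend pointOk 22 0 8442 9 (p0u937) p0r938

theorem p0r939 : allRange pointOk 22 8451 9 = true := by decide +kernel
theorem p0u939 : ∀ k, 0 ≤ k → k < 8460 → pointOk (k * 22) = true := between_extend pointOk 22 0 8451 9 (p0u938) p0r939

theorem p0r940 : allRange pointOk 22 8460 9 = true := by decide +kernel
theorem p0u940 : ∀ k, 0 ≤ k → k < 8469 → pointOk (k * 22) = true := between_extend pointOk 22 0 8460 9 (p0u939) p0r940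

theorem p0r941 : allRange pointOk 22 8469 9 = true := by decide +kernel
theorem p0u941 : ∀ k, 0 ≤ k → k < 8478 → pointOk (k * 22) = true := between_extend pointOk 22 0 8469 9 (p0u940) p0r941

theorem p0r942 : allRange pointOk 22 8478 9 = true := by decide +kernel
theorem p0u942 : ∀ k, 0 ≤ k → k < 8487 → pointOk (k * 22) = true := between_extend pointOk 22 0 8478 9 (p0u941) p0r942

theorem p0r943 : allRange pointOk 22 8487 9 = true := by decide +kernel
theorem p0u943 : ∀ k, 0 ≤ k → k < 8496 → pointOk (k * 22) = true := between_extend pointOk 22 0 8487 9 (p0u942) p0r943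

theorem p0r944 : allRange pointOk 22 8496 9 = true := by decide +kernel
theorem p0u944 : ∀ k, 0 ≤ k → k < 8505 → pointOk (k * 22) = true := between_extend pointOk 22 0 8496 9 (p0u943) p0r944

theorem p0r945 : allRange pointOk 22 8505 9 = true := by decide +kernel
theorem p0u945 : ∀ k, 0 ≤ k → k < 8514 → pointOk (k * 22) = true := between_extend pointOk 22 0 8505 9 (p0u944) p0r945

theorem p0r946 : allRange pointOk 22 8514 9 = true := by decide +kernel
theorem p0u946 : ∀ k, 0 ≤ k → k < 8523 → pointOk (k * 22) = true := between_extend pointOk 22 0 8514 9 (p0u945) p0r946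

theorem p0r947 : allRange pointOk 22 8523 9 = true := by decide +kernel
theorem p0u947 : ∀ k, 0 ≤ k → k < 8532 → pointOk (k * 22) = true := between_extend pointOk 22 0 8523 9 (p0u946) p0r947

theorem p0r948 : allRange pointOk 22 8532 9 = true := by decide +kernel
theorem p0u948 : ∀ k, 0 ≤ k → k < 8541 → pointOk (k * 22) = true := between_extend pointOk 22 0 8532 9 (p0u947) p0r948

theorem p0r949 : allRange pointOk 22 8541 9 = true := by decide +kernel
theorem p0u949 : ∀ k, 0 ≤ k → k < 8550 → pointOk (k * 22) = true := between_extend pointOk 22 0 8541 9 (p0u948) p0r949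

theorem p0r950 : allRange pointOk 22 8550 9 = true := by decide +kernel
theorem p0u950 : ∀ k, 0 ≤ k → k < 8559 → pointOk (k * 22) = true := between_extend pointOk 22 0 8550 9 (p0u949) p0r950

theorem p0r951 : allRange pointOk 22 8559 9 = true := by decide +kernel
theorem p0u951 : ∀ k, 0 ≤ k → k < 8568 → pointOk (k * 22) = true := between_extend pointOk 22 0 8559 9 (p0u950) p0r951

theorem p0r952 : allRange pointOk 22 8568 9 = true := by decide +kernel
theorem p0u952 : ∀ k, 0 ≤ k → k < 8577 → pointOk (k * 22) = true := between_extend pointOk 22 0 8568 9 (p0u951) p0r952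

theorem p0r953 : allRange pointOk 22 8577 9 = true := by decide +kernel
theorem p0u953 : ∀ k, 0 ≤ k → k < 8586 → pointOk (k * 22) = true := between_extend pointOk 22 0 8577 9 (p0u952) p0r953

theorem p0r954 : allRange pointOk 22 8586 9 = true := by decide +kernel
theorem p0u954 : ∀ k, 0 ≤ k → k < 8595 → pointOk (k * 22) = true := between_extend pointOk 22 0 8586 9 (p0u953) p0r954

theorem p0r955 : allRange pointOk 22 8595 9 = true := by decide +kernel
theorem p0u955 : ∀ k, 0 ≤ k → k < 8604 → pointOk (k * 22) = true := between_extend pointOk 22 0 8595 9 (p0u954) p0r955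

theorem p0r956 : allRange pointOk 22 8604 9 = true := by decide +kernel
theorem p0u956 : ∀ k, 0 ≤ k → k < 8613 → pointOk (k * 22) = true := between_extend pointOk 22 0 8604 9 (p0u955) p0r956

theorem p0r957 : allRange pointOk 22 8613 9 = true := by decide +kernel
theorem p0u957 : ∀ k, 0 ≤ k → k < 8622 → pointOk (k * 22) = true := between_extend pointOk 22 0 8613 9 (p0u956) p0r957

theorem p0r958 : allRange pointOk 22 8622 9 = true := by decide +kernel
theorem p0u958 : ∀ k, 0 ≤ k → k < 8631 → pointOk (k * 22) = true := between_extend pointOk 22 0 8622 9 (p0u957) p0r958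

theorem p0r959 : allRange pointOk 22 8631 9 = true := by decide +kernel
theorem p0u959 : ∀ k, 0 ≤ k → k < 8640 → pointOk (k * 22) = true := between_extend pointOk 22 0 8631 9 (p0u958) p0r959

theorem p0r960 : allRange pointOk 22 8640 9 = true := by decide +kernel
theorem p0u960 : ∀ k, 0 ≤ k → k < 8649 → pointOk (k * 22) = true := between_extend pointOk 22 0 8640 9 (p0u959) p0r960

theorem p0r961 : allRange pointOk 22 8649 9 = true := by decide +kernel
theorem p0u961 : ∀ k, 0 ≤ k → k < 8658 → pointOk (k * 22) = true := between_extend pointOk 22 0 8649 9 (p0u960) p0r961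

theorem p0r962 : allRange pointOk 22 8658 9 = true := by decide +kernel
theorem p0u962 : ∀ k, 0 ≤ k → k < 8667 → pointOk (k * 22) = true := between_extend pointOk 22 0 8658 9 (p0u961) p0r962

theorem p0r963 : allRange pointOk 22 8667 9 = true := by decide +kernel
theorem p0u963 : ∀ k, 0 ≤ k → k < 8676 → pointOk (k * 22) = true := between_extend pointOk 22 0 8667 9 (p0u962) p0r963

theorem p0r964 : allRange pointOk 22 8676 9 = true := by decide +kernel
theorem p0u964 : ∀ k, 0 ≤ k → k < 8685 → pointOk (k * 22) = true := between_extend pointOk 22 0 8676 9 (p0u963) p0r964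

theorem p0r965 : allRange pointOk 22 8685 9 = true := by decide +kernel
theorem p0u965 : ∀ k, 0 ≤ k → k < 8694 → pointOk (k * 22) = true := between_extend pointOk 22 0 8685 9 (p0u964) p0r965

theorem p0r966 : allRange pointOk 22 8694 9 = true := by decide +kernel
theorem p0u966 : ∀ k, 0 ≤ k → k < 8703 → pointOk (k * 22) = true := between_extend pointOk 22 0 8694 9 (p0u965) p0r966

theorem p0r967 : allRange pointOk 22 8703 9 = true := by decide +kernel
theorem p0u967 : ∀ k, 0 ≤ k → k < 8712 → pointOk (k * 22) = true := between_extend pointOk 22 0 8703 9 (p0u966) p0r967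

theorem p0r968 : allRange pointOk 22 8712 9 = true := by decide +kernel
theorem p0u968 : ∀ k, 0 ≤ k → k < 8721 → pointOk (k * 22) = true := between_extend pointOk 22 0 8712 9 (p0u967) p0r968

theorem p0r969 : allRange pointOk 22 8721 9 = true := by decide +kernel
theorem p0u969 : ∀ k, 0 ≤ k → k < 8730 → pointOk (k * 22) = true := between_extend pointOk 22 0 8721 9 (p0u968) p0r969

theorem p0r970 : allRange pointOk 22 8730 9 = true := by decide +kernel
theorem p0u970 : ∀ k, 0 ≤ k → k < 8739 → pointOk (k * 22) = true := between_extend pointOk 22 0 8730 9 (p0u969) p0r970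

theorem p0r971 : allRange pointOk 22 8739 9 = true := by decide +kernel
theorem p0u971 : ∀ k, 0 ≤ k → k < 8748 → pointOk (k * 22) = true := between_extend pointOk 22 0 8739 9 (p0u970) p0r971

theorem p0r972 : allRange pointOk 22 8748 9 = true := by decide +kernel
theorem p0u972 : ∀ k, 0 ≤ k → k < 8757 → pointOk (k * 22) = true := between_extend pointOk 22 0 8748 9 (p0u971) p0r972

theorem p0r973 : allRange pointOk 22 8757 9 = true := by decide +kernel
theorem p0u973 : ∀ k, 0 ≤ k → k < 8766 → pointOk (k * 22) = true := between_extend pointOk 22 0 8757 9 (p0u972) p0r973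

theorem p0r974 : allRange pointOk 22 8766 9 = true := by decide +kernel
theorem p0u974 : ∀ k, 0 ≤ k → k < 8775 → pointOk (k * 22) = true := between_extend pointOk 22 0 8766 9 (p0u973) p0r974

theorem p0r975 : allRange pointOk 22 8775 9 = true := by decide +kernel
theorem p0u975 : ∀ k, 0 ≤ k → k < 8784 → pointOk (k * 22) = true := between_extend pointOk 22 0 8775 9 (p0u974) p0r975

theorem p0r976 : allRange pointOk 22 8784 9 = true := by decide +kernel
theorem p0u976 : ∀ k, 0 ≤ k → k < 8793 → pointOk (k * 22) = true := between_extend pointOk 22 0 8784 9 (p0u975) p0r976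

theorem p0r977 : allRange pointOk 22 8793 9 = true := by decide +kernel
theorem p0u977 : ∀ k, 0 ≤ k → k < 8802 → pointOk (k * 22) = true := between_extend pointOk 22 0 8793 9 (p0u976) p0r977

theorem p0r978 : allRange pointOk 22 8802 9 = true := by decide +kernel
theorem p0u978 : ∀ k, 0 ≤ k → k < 8811 → pointOk (k * 22) = true := between_extend pointOk 22 0 8802 9 (p0u977) p0r978

theorem p0r979 : allRange pointOk 22 8811 9 = true := by decide +kernel
theorem p0u979 : ∀ k, 0 ≤ k → k < 8820 → pointOk (k * 22) = true := between_extend pointOk 22 0 8811 9 (p0u978) p0r979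

theorem p0r980 : allRange pointOk 22 8820 9 = true := by decide +kernel
theorem p0u980 : ∀ k, 0 ≤ k → k < 8829 → pointOk (k * 22) = true := between_extend pointOk 22 0 8820 9 (p0u979) p0r980

theorem p0r981 : allRange pointOk 22 8829 9 = true := by decide +kernel
theorem p0u981 : ∀ k, 0 ≤ k → k < 8838 → pointOk (k * 22) = true := between_extend pointOk 22 0 8829 9 (p0u980) p0r981

theorem p0r982 : allRange pointOk 22 8838 9 = true := by decide +kernel
theorem p0u982 : ∀ k, 0 ≤ k → k < 8847 → pointOk (k * 22) = true := between_extend pointOk 22 0 8838 9 (p0u981) p0r982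

theorem p0r983 : allRange pointOk 22 8847 9 = true := by decide +kernel
theorem p0u983 : ∀ k, 0 ≤ k → k < 8856 → pointOk (k * 22) = true := between_extend pointOk 22 0 8847 9 (p0u982) p0r983

theorem p0r984 : allRange pointOk 22 8856 9 = true := by decide +kernel
theorem p0u984 : ∀ k, 0 ≤ k → k < 8865 → pointOk (k * 22) = true := between_extend pointOk 22 0 8856 9 (p0u983) p0r984

theorem p0r985 : allRange pointOk 22 8865 9 = true := by decide +kernel
theorem p0u985 : ∀ k, 0 ≤ k → k < 8874 → pointOk (k * 22) = true := between_extend pointOk 22 0 8865 9 (p0u984) p0r985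

theorem p0r986 : allRange pointOk 22 8874 9 = true := by decide +kernel
theorem p0u986 : ∀ k, 0 ≤ k → k < 8883 → pointOk (k * 22) = true := between_extend pointOk 22 0 8874 9 (p0u985) p0r986

theorem p0r987 : allRange pointOk 22 8883 9 = true := by decide +kernel
theorem p0u987 : ∀ k, 0 ≤ k → k < 8892 → pointOk (k * 22) = true := between_extend pointOk 22 0 8883 9 (p0u986) p0r987

theorem p0r988 : allRange pointOk 22 8892 9 = true := by decide +kernel
theorem p0u988 : ∀ k, 0 ≤ k → k < 8901 → pointOk (k * 22) = true := between_extend pointOk 22 0 8892 9 (p0u987) p0r988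

theorem p0r989 : allRange pointOk 22 8901 9 = true := by decide +kernel
theorem p0u989 : ∀ k, 0 ≤ k → k < 8910 → pointOk (k * 22) = true := between_extend pointOk 22 0 8901 9 (p0u988) p0r989

theorem p0r990 : allRange pointOk 22 8910 9 = true := by decide +kernel
theorem p0u990 : ∀ k, 0 ≤ k → k < 8919 → pointOk (k * 22) = true := between_extend pointOk 22 0 8910 9 (p0u989) p0r990

theorem p0r991 : allRange pointOk 22 8919 9 = true := by decide +kernel
theorem p0u991 : ∀ k, 0 ≤ k → k < 8928 → pointOk (k * 22) = true := between_extend pointOk 22 0 8919 9 (p0u990) p0r991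

theorem p0r992 : allRange pointOk 22 8928 9 = true := by decide +kernel
theorem p0u992 : ∀ k, 0 ≤ k → k < 8937 → pointOk (k * 22) = true := between_extend pointOk 22 0 8928 9 (p0u991) p0r992

theorem p0r993 : allRange pointOk 22 8937 9 = true := by decide +kernel
theorem p0u993 : ∀ k, 0 ≤ k → k < 8946 → pointOk (k * 22) = true := between_extend pointOk 22 0 8937 9 (p0u992) p0r993

theorem p0r994 : allRange pointOk 22 8946 9 = true := by decide +kernel
theorem p0u994 : ∀ k, 0 ≤ k → k < 8955 → pointOk (k * 22) = true := between_extend pointOk 22 0 8946 9 (p0u993) p0r994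

theorem p0r995 : allRange pointOk 22 8955 9 = true := by decide +kernel
theorem p0u995 : ∀ k, 0 ≤ k → k < 8964 → pointOk (k * 22) = true := between_extend pointOk 22 0 8955 9 (p0u994) p0r995

theorem p0r996 : allRange pointOk 22 8964 9 = true := by decide +kernel
theorem p0u996 : ∀ k, 0 ≤ k → k < 8973 → pointOk (k * 22) = true := between_extend pointOk 22 0 8964 9 (p0u995) p0r996

theorem p0r997 : allRange pointOk 22 8973 9 = true := by decide +kernel
theorem p0u997 : ∀ k, 0 ≤ k → k < 8982 → pointOk (k * 22) = true := between_extend pointOk 22 0 8973 9 (p0u996) p0r997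

theorem p0r998 : allRange pointOk 22 8982 9 = true := by decide +kernel
theorem p0u998 : ∀ k, 0 ≤ k → k < 8991 → pointOk (k * 22) = true := between_extend pointOk 22 0 8982 9 (p0u997) p0r998

theorem p0r999 : allRange pointOk 22 8991 9 = true := by decide +kernel
theorem p0u999 : ∀ k, 0 ≤ k → k < 9000 → pointOk (k * 22) = true := between_extend pointOk 22 0 8991 9 (p0u998) p0r999

theorem p0r1000 : allRange pointOk 22 9000 9 = true := by decide +kernel
theorem p0u1000 : ∀ k, 0 ≤ k → k < 9009 → pointOk (k * 22) = true := between_extend pointOk 22 0 9000 9 (p0u999) p0r1000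

theorem p0r1001 : allRange pointOk 22 9009 9 = true := by decide +kernel
theorem p0u1001 : ∀ k, 0 ≤ k → k < 9018 → pointOk (k * 22) = true := between_extend pointOk 22 0 9009 9 (p0u1000) p0r1001

theorem p0r1002 : allRange pointOk 22 9018 9 = true := by decide +kernel
theorem p0u1002 : ∀ k, 0 ≤ k → k < 9027 → pointOk (k * 22) = true := between_extend pointOk 22 0 9018 9 (p0u1001) p0r1002

theorem p0r1003 : allRange pointOk 22 9027 9 = true := by decide +kernel
theorem p0u1003 : ∀ k, 0 ≤ k → k < 9036 → pointOk (k * 22) = true := between_extend pointOk 22 0 9027 9 (p0u1002) p0r1003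

theorem p0r1004 : allRange pointOk 22 9036 9 = true := by decide +kernel
theorem p0u1004 : ∀ k, 0 ≤ k → k < 9045 → pointOk (k * 22) = true := between_extend pointOk 22 0 9036 9 (p0u1003) p0r1004

theorem p0r1005 : allRange pointOk 22 9045 9 = true := by decide +kernel
theorem p0u1005 : ∀ k, 0 ≤ k → k < 9054 → pointOk (k * 22) = true := between_extend pointOk 22 0 9045 9 (p0u1004) p0r1005

theorem p0r1006 : allRange pointOk 22 9054 9 = true := by decide +kernel
theorem p0u1006 : ∀ k, 0 ≤ k → k < 9063 → pointOk (k * 22) = true := between_extend pointOk 22 0 9054 9 (p0u1005) p0r1006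

theorem p0r1007 : allRange pointOk 22 9063 9 = true := by decide +kernel
theorem p0u1007 : ∀ k, 0 ≤ k → k < 9072 → pointOk (k * 22) = true := between_extend pointOk 22 0 9063 9 (p0u1006) p0r1007

theorem p0r1008 : allRange pointOk 22 9072 9 = true := by decide +kernel
theorem p0u1008 : ∀ k, 0 ≤ k → k < 9081 → pointOk (k * 22) = true := between_extend pointOk 22 0 9072 9 (p0u1007) p0r1008

theorem p0r1009 : allRange pointOk 22 9081 9 = true := by decide +kernel
theorem p0u1009 : ∀ k, 0 ≤ k → k < 9090 → pointOk (k * 22) = true := between_extend pointOk 22 0 9081 9 (p0u1008) p0r1009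

theorem p0r1010 : allRange pointOk 22 9090 9 = true := by decide +kernel
theorem p0u1010 : ∀ k, 0 ≤ k → k < 9099 → pointOk (k * 22) = true := between_extend pointOk 22 0 9090 9 (p0u1009) p0r1010

theorem p0r1011 : allRange pointOk 22 9099 9 = true := by decide +kernel
theorem p0u1011 : ∀ k, 0 ≤ k → k < 9108 → pointOk (k * 22) = true := between_extend pointOk 22 0 9099 9 (p0u1010) p0r1011

theorem p0r1012 : allRange pointOk 22 9108 9 = true := by decide +kernel
theorem p0u1012 : ∀ k, 0 ≤ k → k < 9117 → pointOk (k * 22) = true := between_extend pointOk 22 0 9108 9 (p0u1011) p0r1012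

theorem p0r1013 : allRange pointOk 22 9117 9 = true := by decide +kernel
theorem p0u1013 : ∀ k, 0 ≤ k → k < 9126 → pointOk (k * 22) = true := between_extend pointOk 22 0 9117 9 (p0u1012) p0r1013

theorem p0r1014 : allRange pointOk 22 9126 9 = true := by decide +kernel
theorem p0u1014 : ∀ k, 0 ≤ k → k < 9135 → pointOk (k * 22) = true := between_extend pointOk 22 0 9126 9 (p0u1013) p0r1014

theorem p0r1015 : allRange pointOk 22 9135 9 = true := by decide +kernel
theorem p0u1015 : ∀ k, 0 ≤ k → k < 9144 → pointOk (k * 22) = true := between_extend pointOk 22 0 9135 9 (p0u1014) p0r1015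

theorem p0r1016 : allRange pointOk 22 9144 9 = true := by decide +kernel
theorem p0u1016 : ∀ k, 0 ≤ k → k < 9153 → pointOk (k * 22) = true := between_extend pointOk 22 0 9144 9 (p0u1015) p0r1016

theorem p0r1017 : allRange pointOk 22 9153 9 = true := by decide +kernel
theorem p0u1017 : ∀ k, 0 ≤ k → k < 9162 → pointOk (k * 22) = true := between_extend pointOk 22 0 9153 9 (p0u1016) p0r1017

theorem p0r1018 : allRange pointOk 22 9162 9 = true := by decide +kernel
theorem p0u1018 : ∀ k, 0 ≤ k → k < 9171 → pointOk (k * 22) = true := between_extend pointOk 22 0 9162 9 (p0u1017) p0r1018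

theorem p0r1019 : allRange pointOk 22 9171 9 = true := by decide +kernel
theorem p0u1019 : ∀ k, 0 ≤ k → k < 9180 → pointOk (k * 22) = true := between_extend pointOk 22 0 9171 9 (p0u1018) p0r1019

theorem p0r1020 : allRange pointOk 22 9180 9 = true := by decide +kernel
theorem p0u1020 : ∀ k, 0 ≤ k → k < 9189 → pointOk (k * 22) = true := between_extend pointOk 22 0 9180 9 (p0u1019) p0r1020

theorem p0r1021 : allRange pointOk 22 9189 9 = true := by decide +kernel
theorem p0u1021 : ∀ k, 0 ≤ k → k < 9198 → pointOk (k * 22) = true := between_extend pointOk 22 0 9189 9 (p0u1020) p0r1021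

theorem p0r1022 : allRange pointOk 22 9198 9 = true := by decide +kernel
theorem p0u1022 : ∀ k, 0 ≤ k → k < 9207 → pointOk (k * 22) = true := between_extend pointOk 22 0 9198 9 (p0u1021) p0r1022

theorem p0r1023 : allRange pointOk 22 9207 9 = true := by decide +kernel
theorem p0u1023 : ∀ k, 0 ≤ k → k < 9216 → pointOk (k * 22) = true := between_extend pointOk 22 0 9207 9 (p0u1022) p0r1023

theorem p0r1024 : allRange pointOk 22 9216 9 = true := by decide +kernel
theorem p0u1024 : ∀ k, 0 ≤ k → k < 9225 → pointOk (k * 22) = true := between_extend pointOk 22 0 9216 9 (p0u1023) p0r1024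

theorem p0r1025 : allRange pointOk 22 9225 9 = true := by decide +kernel
theorem p0u1025 : ∀ k, 0 ≤ k → k < 9234 → pointOk (k * 22) = true := between_extend pointOk 22 0 9225 9 (p0u1024) p0r1025

theorem p0r1026 : allRange pointOk 22 9234 9 = true := by decide +kernel
theorem p0u1026 : ∀ k, 0 ≤ k → k < 9243 → pointOk (k * 22) = true := between_extend pointOk 22 0 9234 9 (p0u1025) p0r1026

theorem p0r1027 : allRange pointOk 22 9243 9 = true := by decide +kernel
theorem p0u1027 : ∀ k, 0 ≤ k → k < 9252 → pointOk (k * 22) = true := between_extend pointOk 22 0 9243 9 (p0u1026) p0r1027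

theorem p0r1028 : allRange pointOk 22 9252 9 = true := by decide +kernel
theorem p0u1028 : ∀ k, 0 ≤ k → k < 9261 → pointOk (k * 22) = true := between_extend pointOk 22 0 9252 9 (p0u1027) p0r1028

theorem p0r1029 : allRange pointOk 22 9261 9 = true := by decide +kernel
theorem p0u1029 : ∀ k, 0 ≤ k → k < 9270 → pointOk (k * 22) = true := between_extend pointOk 22 0 9261 9 (p0u1028) p0r1029

theorem p0r1030 : allRange pointOk 22 9270 9 = true := by decide +kernel
theorem p0u1030 : ∀ k, 0 ≤ k → k < 9279 → pointOk (k * 22) = true := between_extend pointOk 22 0 9270 9 (p0u1029) p0r1030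

theorem p0r1031 : allRange pointOk 22 9279 9 = true := by decide +kernel
theorem p0u1031 : ∀ k, 0 ≤ k → k < 9288 → pointOk (k * 22) = true := between_extend pointOk 22 0 9279 9 (p0u1030) p0r1031

theorem p0r1032 : allRange pointOk 22 9288 9 = true := by decide +kernel
theorem p0u1032 : ∀ k, 0 ≤ k → k < 9297 → pointOk (k * 22) = true := between_extend pointOk 22 0 9288 9 (p0u1031) p0r1032

theorem p0r1033 : allRange pointOk 22 9297 9 = true := by decide +kernel
theorem p0u1033 : ∀ k, 0 ≤ k → k < 9306 → pointOk (k * 22) = true := between_extend pointOk 22 0 9297 9 (p0u1032) p0r1033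

theorem p0r1034 : allRange pointOk 22 9306 9 = true := by decide +kernel
theorem p0u1034 : ∀ k, 0 ≤ k → k < 9315 → pointOk (k * 22) = true := between_extend pointOk 22 0 9306 9 (p0u1033) p0r1034

theorem p0r1035 : allRange pointOk 22 9315 9 = true := by decide +kernel
theorem p0u1035 : ∀ k, 0 ≤ k → k < 9324 → pointOk (k * 22) = true := between_extend pointOk 22 0 9315 9 (p0u1034) p0r1035

theorem p0r1036 : allRange pointOk 22 9324 9 = true := by decide +kernel
theorem p0u1036 : ∀ k, 0 ≤ k → k < 9333 → pointOk (k * 22) = true := between_extend pointOk 22 0 9324 9 (p0u1035) p0r1036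

theorem p0r1037 : allRange pointOk 22 9333 9 = true := by decide +kernel
theorem p0u1037 : ∀ k, 0 ≤ k → k < 9342 → pointOk (k * 22) = true := between_extend pointOk 22 0 9333 9 (p0u1036) p0r1037

theorem p0r1038 : allRange pointOk 22 9342 9 = true := by decide +kernel
theorem p0u1038 : ∀ k, 0 ≤ k → k < 9351 → pointOk (k * 22) = true := between_extend pointOk 22 0 9342 9 (p0u1037) p0r1038

theorem p0r1039 : allRange pointOk 22 9351 9 = true := by decide +kernel
theorem p0u1039 : ∀ k, 0 ≤ k → k < 9360 → pointOk (k * 22) = true := between_extend pointOk 22 0 9351 9 (p0u1038) p0r1039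

theorem p0r1040 : allRange pointOk 22 9360 9 = true := by decide +kernel
theorem p0u1040 : ∀ k, 0 ≤ k → k < 9369 → pointOk (k * 22) = true := between_extend pointOk 22 0 9360 9 (p0u1039) p0r1040

theorem p0r1041 : allRange pointOk 22 9369 9 = true := by decide +kernel
theorem p0u1041 : ∀ k, 0 ≤ k → k < 9378 → pointOk (k * 22) = true := between_extend pointOk 22 0 9369 9 (p0u1040) p0r1041

theorem p0r1042 : allRange pointOk 22 9378 9 = true := by decide +kernel
theorem p0u1042 : ∀ k, 0 ≤ k → k < 9387 → pointOk (k * 22) = true := between_extend pointOk 22 0 9378 9 (p0u1041) p0r1042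

theorem p0r1043 : allRange pointOk 22 9387 9 = true := by decide +kernel
theorem p0u1043 : ∀ k, 0 ≤ k → k < 9396 → pointOk (k * 22) = true := between_extend pointOk 22 0 9387 9 (p0u1042) p0r1043

theorem p0r1044 : allRange pointOk 22 9396 9 = true := by decide +kernel
theorem p0u1044 : ∀ k, 0 ≤ k → k < 9405 → pointOk (k * 22) = true := between_extend pointOk 22 0 9396 9 (p0u1043) p0r1044

theorem p0r1045 : allRange pointOk 22 9405 9 = true := by decide +kernel
theorem p0u1045 : ∀ k, 0 ≤ k → k < 9414 → pointOk (k * 22) = true := between_extend pointOk 22 0 9405 9 (p0u1044) p0r1045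

theorem p0r1046 : allRange pointOk 22 9414 9 = true := by decide +kernel
theorem p0u1046 : ∀ k, 0 ≤ k → k < 9423 → pointOk (k * 22) = true := between_extend pointOk 22 0 9414 9 (p0u1045) p0r1046

theorem p0r1047 : allRange pointOk 22 9423 9 = true := by decide +kernel
theorem p0u1047 : ∀ k, 0 ≤ k → k < 9432 → pointOk (k * 22) = true := between_extend pointOk 22 0 9423 9 (p0u1046) p0r1047

theorem p0r1048 : allRange pointOk 22 9432 9 = true := by decide +kernel
theorem p0u1048 : ∀ k, 0 ≤ k → k < 9441 → pointOk (k * 22) = true := between_extend pointOk 22 0 9432 9 (p0u1047) p0r1048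

theorem p0r1049 : allRange pointOk 22 9441 9 = true := by decide +kernel
theorem p0u1049 : ∀ k, 0 ≤ k → k < 9450 → pointOk (k * 22) = true := between_extend pointOk 22 0 9441 9 (p0u1048) p0r1049

theorem p0r1050 : allRange pointOk 22 9450 9 = true := by decide +kernel
theorem p0u1050 : ∀ k, 0 ≤ k → k < 9459 → pointOk (k * 22) = true := between_extend pointOk 22 0 9450 9 (p0u1049) p0r1050

theorem p0r1051 : allRange pointOk 22 9459 9 = true := by decide +kernel
theorem p0u1051 : ∀ k, 0 ≤ k → k < 9468 → pointOk (k * 22) = true := between_extend pointOk 22 0 9459 9 (p0u1050) p0r1051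

theorem p0r1052 : allRange pointOk 22 9468 9 = true := by decide +kernel
theorem p0u1052 : ∀ k, 0 ≤ k → k < 9477 → pointOk (k * 22) = true := between_extend pointOk 22 0 9468 9 (p0u1051) p0r1052

theorem p0r1053 : allRange pointOk 22 9477 9 = true := by decide +kernel
theorem p0u1053 : ∀ k, 0 ≤ k → k < 9486 → pointOk (k * 22) = true := between_extend pointOk 22 0 9477 9 (p0u1052) p0r1053

theorem p0r1054 : allRange pointOk 22 9486 9 = true := by decide +kernel
theorem p0u1054 : ∀ k, 0 ≤ k → k < 9495 → pointOk (k * 22) = true := between_extend pointOk 22 0 9486 9 (p0u1053) p0r1054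

theorem p0r1055 : allRange pointOk 22 9495 9 = true := by decide +kernel
theorem p0u1055 : ∀ k, 0 ≤ k → k < 9504 → pointOk (k * 22) = true := between_extend pointOk 22 0 9495 9 (p0u1054) p0r1055

theorem p0r1056 : allRange pointOk 22 9504 9 = true := by decide +kernel
theorem p0u1056 : ∀ k, 0 ≤ k → k < 9513 → pointOk (k * 22) = true := between_extend pointOk 22 0 9504 9 (p0u1055) p0r1056

theorem p0r1057 : allRange pointOk 22 9513 9 = true := by decide +kernel
theorem p0u1057 : ∀ k, 0 ≤ k → k < 9522 → pointOk (k * 22) = true := between_extend pointOk 22 0 9513 9 (p0u1056) p0r1057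

theorem p0r1058 : allRange pointOk 22 9522 9 = true := by decide +kernel
theorem p0u1058 : ∀ k, 0 ≤ k → k < 9531 → pointOk (k * 22) = true := between_extend pointOk 22 0 9522 9 (p0u1057) p0r1058

theorem p0r1059 : allRange pointOk 22 9531 9 = true := by decide +kernel
theorem p0u1059 : ∀ k, 0 ≤ k → k < 9540 → pointOk (k * 22) = true := between_extend pointOk 22 0 9531 9 (p0u1058) p0r1059

theorem p0r1060 : allRange pointOk 22 9540 9 = true := by decide +kernel
theorem p0u1060 : ∀ k, 0 ≤ k → k < 9549 → pointOk (k * 22) = true := between_extend pointOk 22 0 9540 9 (p0u1059) p0r1060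

theorem p0r1061 : allRange pointOk 22 9549 9 = true := by decide +kernel
theorem p0u1061 : ∀ k, 0 ≤ k → k < 9558 → pointOk (k * 22) = true := between_extend pointOk 22 0 9549 9 (p0u1060) p0r1061

theorem p0r1062 : allRange pointOk 22 9558 9 = true := by decide +kernel
theorem p0u1062 : ∀ k, 0 ≤ k → k < 9567 → pointOk (k * 22) = true := between_extend pointOk 22 0 9558 9 (p0u1061) p0r1062

theorem p0r1063 : allRange pointOk 22 9567 9 = true := by decide +kernel
theorem p0u1063 : ∀ k, 0 ≤ k → k < 9576 → pointOk (k * 22) = true := between_extend pointOk 22 0 9567 9 (p0u1062) p0r1063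

theorem p0r1064 : allRange pointOk 22 9576 9 = true := by decide +kernel
theorem p0u1064 : ∀ k, 0 ≤ k → k < 9585 → pointOk (k * 22) = true := between_extend pointOk 22 0 9576 9 (p0u1063) p0r1064

theorem p0r1065 : allRange pointOk 22 9585 9 = true := by decide +kernel
theorem p0u1065 : ∀ k, 0 ≤ k → k < 9594 → pointOk (k * 22) = true := between_extend pointOk 22 0 9585 9 (p0u1064) p0r1065

theorem p0r1066 : allRange pointOk 22 9594 9 = true := by decide +kernel
theorem p0u1066 : ∀ k, 0 ≤ k → k < 9603 → pointOk (k * 22) = true := between_extend pointOk 22 0 9594 9 (p0u1065) p0r1066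

theorem p0r1067 : allRange pointOk 22 9603 9 = true := by decide +kernel
theorem p0u1067 : ∀ k, 0 ≤ k → k < 9612 → pointOk (k * 22) = true := between_extend pointOk 22 0 9603 9 (p0u1066) p0r1067

theorem p0r1068 : allRange pointOk 22 9612 9 = true := by decide +kernel
theorem p0u1068 : ∀ k, 0 ≤ k → k < 9621 → pointOk (k * 22) = true := between_extend pointOk 22 0 9612 9 (p0u1067) p0r1068

theorem p0r1069 : allRange pointOk 22 9621 9 = true := by decide +kernel
theorem p0u1069 : ∀ k, 0 ≤ k → k < 9630 → pointOk (k * 22) = true := between_extend pointOk 22 0 9621 9 (p0u1068) p0r1069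

theorem p0r1070 : allRange pointOk 22 9630 9 = true := by decide +kernel
theorem p0u1070 : ∀ k, 0 ≤ k → k < 9639 → pointOk (k * 22) = true := between_extend pointOk 22 0 9630 9 (p0u1069) p0r1070

theorem p0r1071 : allRange pointOk 22 9639 9 = true := by decide +kernel
theorem p0u1071 : ∀ k, 0 ≤ k → k < 9648 → pointOk (k * 22) = true := between_extend pointOk 22 0 9639 9 (p0u1070) p0r1071

theorem p0r1072 : allRange pointOk 22 9648 9 = true := by decide +kernel
theorem p0u1072 : ∀ k, 0 ≤ k → k < 9657 → pointOk (k * 22) = true := between_extend pointOk 22 0 9648 9 (p0u1071) p0r1072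

theorem p0r1073 : allRange pointOk 22 9657 9 = true := by decide +kernel
theorem p0u1073 : ∀ k, 0 ≤ k → k < 9666 → pointOk (k * 22) = true := between_extend pointOk 22 0 9657 9 (p0u1072) p0r1073

theorem p0r1074 : allRange pointOk 22 9666 9 = true := by decide +kernel
theorem p0u1074 : ∀ k, 0 ≤ k → k < 9675 → pointOk (k * 22) = true := between_extend pointOk 22 0 9666 9 (p0u1073) p0r1074

theorem p0r1075 : allRange pointOk 22 9675 9 = true := by decide +kernel
theorem p0u1075 : ∀ k, 0 ≤ k → k < 9684 → pointOk (k * 22) = true := between_extend pointOk 22 0 9675 9 (p0u1074) p0r1075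

theorem p0r1076 : allRange pointOk 22 9684 9 = true := by decide +kernel
theorem p0u1076 : ∀ k, 0 ≤ k → k < 9693 → pointOk (k * 22) = true := between_extend pointOk 22 0 9684 9 (p0u1075) p0r1076

theorem p0r1077 : allRange pointOk 22 9693 9 = true := by decide +kernel
theorem p0u1077 : ∀ k, 0 ≤ k → k < 9702 → pointOk (k * 22) = true := between_extend pointOk 22 0 9693 9 (p0u1076) p0r1077

theorem p0r1078 : allRange pointOk 22 9702 9 = true := by decide +kernel
theorem p0u1078 : ∀ k, 0 ≤ k → k < 9711 → pointOk (k * 22) = true := between_extend pointOk 22 0 9702 9 (p0u1077) p0r1078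

theorem p0r1079 : allRange pointOk 22 9711 9 = true := by decide +kernel
theorem p0u1079 : ∀ k, 0 ≤ k → k < 9720 → pointOk (k * 22) = true := between_extend pointOk 22 0 9711 9 (p0u1078) p0r1079

theorem p0r1080 : allRange pointOk 22 9720 9 = true := by decide +kernel
theorem p0u1080 : ∀ k, 0 ≤ k → k < 9729 → pointOk (k * 22) = true := between_extend pointOk 22 0 9720 9 (p0u1079) p0r1080

theorem p0r1081 : allRange pointOk 22 9729 9 = true := by decide +kernel
theorem p0u1081 : ∀ k, 0 ≤ k → k < 9738 → pointOk (k * 22) = true := between_extend pointOk 22 0 9729 9 (p0u1080) p0r1081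

theorem p0r1082 : allRange pointOk 22 9738 9 = true := by decide +kernel
theorem p0u1082 : ∀ k, 0 ≤ k → k < 9747 → pointOk (k * 22) = true := between_extend pointOk 22 0 9738 9 (p0u1081) p0r1082

theorem p0r1083 : allRange pointOk 22 9747 9 = true := by decide +kernel
theorem p0u1083 : ∀ k, 0 ≤ k → k < 9756 → pointOk (k * 22) = true := between_extend pointOk 22 0 9747 9 (p0u1082) p0r1083

theorem p0r1084 : allRange pointOk 22 9756 9 = true := by decide +kernel
theorem p0u1084 : ∀ k, 0 ≤ k → k < 9765 → pointOk (k * 22) = true := between_extend pointOk 22 0 9756 9 (p0u1083) p0r1084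

theorem p0r1085 : allRange pointOk 22 9765 9 = true := by decide +kernel
theorem p0u1085 : ∀ k, 0 ≤ k → k < 9774 → pointOk (k * 22) = true := between_extend pointOk 22 0 9765 9 (p0u1084) p0r1085

theorem p0r1086 : allRange pointOk 22 9774 9 = true := by decide +kernel
theorem p0u1086 : ∀ k, 0 ≤ k → k < 9783 → pointOk (k * 22) = true := between_extend pointOk 22 0 9774 9 (p0u1085) p0r1086

theorem p0r1087 : allRange pointOk 22 9783 9 = true := by decide +kernel
theorem p0u1087 : ∀ k, 0 ≤ k → k < 9792 → pointOk (k * 22) = true := between_extend pointOk 22 0 9783 9 (p0u1086) p0r1087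

theorem p0r1088 : allRange pointOk 22 9792 9 = true := by decide +kernel
theorem p0u1088 : ∀ k, 0 ≤ k → k < 9801 → pointOk (k * 22) = true := between_extend pointOk 22 0 9792 9 (p0u1087) p0r1088

theorem p0r1089 : allRange pointOk 22 9801 9 = true := by decide +kernel
theorem p0u1089 : ∀ k, 0 ≤ k → k < 9810 → pointOk (k * 22) = true := between_extend pointOk 22 0 9801 9 (p0u1088) p0r1089

theorem p0r1090 : allRange pointOk 22 9810 9 = true := by decide +kernel
theorem p0u1090 : ∀ k, 0 ≤ k → k < 9819 → pointOk (k * 22) = true := between_extend pointOk 22 0 9810 9 (p0u1089) p0r1090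

theorem p0r1091 : allRange pointOk 22 9819 9 = true := by decide +kernel
theorem p0u1091 : ∀ k, 0 ≤ k → k < 9828 → pointOk (k * 22) = true := between_extend pointOk 22 0 9819 9 (p0u1090) p0r1091

theorem p0r1092 : allRange pointOk 22 9828 9 = true := by decide +kernel
theorem p0u1092 : ∀ k, 0 ≤ k → k < 9837 → pointOk (k * 22) = true := between_extend pointOk 22 0 9828 9 (p0u1091) p0r1092

theorem p0r1093 : allRange pointOk 22 9837 9 = true := by decide +kernel
theorem p0u1093 : ∀ k, 0 ≤ k → k < 9846 → pointOk (k * 22) = true := between_extend pointOk 22 0 9837 9 (p0u1092) p0r1093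

theorem p0r1094 : allRange pointOk 22 9846 9 = true := by decide +kernel
theorem p0u1094 : ∀ k, 0 ≤ k → k < 9855 → pointOk (k * 22) = true := between_extend pointOk 22 0 9846 9 (p0u1093) p0r1094

theorem p0r1095 : allRange pointOk 22 9855 9 = true := by decide +kernel
theorem p0u1095 : ∀ k, 0 ≤ k → k < 9864 → pointOk (k * 22) = true := between_extend pointOk 22 0 9855 9 (p0u1094) p0r1095

theorem p0r1096 : allRange pointOk 22 9864 9 = true := by decide +kernel
theorem p0u1096 : ∀ k, 0 ≤ k → k < 9873 → pointOk (k * 22) = true := between_extend pointOk 22 0 9864 9 (p0u1095) p0r1096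

theorem p0r1097 : allRange pointOk 22 9873 9 = true := by decide +kernel
theorem p0u1097 : ∀ k, 0 ≤ k → k < 9882 → pointOk (k * 22) = true := between_extend pointOk 22 0 9873 9 (p0u1096) p0r1097

theorem p0r1098 : allRange pointOk 22 9882 9 = true := by decide +kernel
theorem p0u1098 : ∀ k, 0 ≤ k → k < 9891 → pointOk (k * 22) = true := between_extend pointOk 22 0 9882 9 (p0u1097) p0r1098

theorem p0r1099 : allRange pointOk 22 9891 9 = true := by decide +kernel
theorem p0u1099 : ∀ k, 0 ≤ k → k < 9900 → pointOk (k * 22) = true := between_extend pointOk 22 0 9891 9 (p0u1098) p0r1099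

theorem p0r1100 : allRange pointOk 22 9900 9 = true := by decide +kernel
theorem p0u1100 : ∀ k, 0 ≤ k → k < 9909 → pointOk (k * 22) = true := between_extend pointOk 22 0 9900 9 (p0u1099) p0r1100

theorem p0r1101 : allRange pointOk 22 9909 9 = true := by decide +kernel
theorem p0u1101 : ∀ k, 0 ≤ k → k < 9918 → pointOk (k * 22) = true := between_extend pointOk 22 0 9909 9 (p0u1100) p0r1101

theorem p0r1102 : allRange pointOk 22 9918 9 = true := by decide +kernel
theorem p0u1102 : ∀ k, 0 ≤ k → k < 9927 → pointOk (k * 22) = true := between_extend pointOk 22 0 9918 9 (p0u1101) p0r1102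

theorem p0r1103 : allRange pointOk 22 9927 9 = true := by decide +kernel
theorem p0u1103 : ∀ k, 0 ≤ k → k < 9936 → pointOk (k * 22) = true := between_extend pointOk 22 0 9927 9 (p0u1102) p0r1103

theorem p0r1104 : allRange pointOk 22 9936 9 = true := by decide +kernel
theorem p0u1104 : ∀ k, 0 ≤ k → k < 9945 → pointOk (k * 22) = true := between_extend pointOk 22 0 9936 9 (p0u1103) p0r1104

theorem p0r1105 : allRange pointOk 22 9945 9 = true := by decide +kernel
theorem p0u1105 : ∀ k, 0 ≤ k → k < 9954 → pointOk (k * 22) = true := between_extend pointOk 22 0 9945 9 (p0u1104) p0r1105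

theorem p0r1106 : allRange pointOk 22 9954 9 = true := by decide +kernel
theorem p0u1106 : ∀ k, 0 ≤ k → k < 9963 → pointOk (k * 22) = true := between_extend pointOk 22 0 9954 9 (p0u1105) p0r1106

theorem p0r1107 : allRange pointOk 22 9963 9 = true := by decide +kernel
theorem p0u1107 : ∀ k, 0 ≤ k → k < 9972 → pointOk (k * 22) = true := between_extend pointOk 22 0 9963 9 (p0u1106) p0r1107

theorem p0r1108 : allRange pointOk 22 9972 9 = true := by decide +kernel
theorem p0u1108 : ∀ k, 0 ≤ k → k < 9981 → pointOk (k * 22) = true := between_extend pointOk 22 0 9972 9 (p0u1107) p0r1108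

theorem p0r1109 : allRange pointOk 22 9981 9 = true := by decide +kernel
theorem p0u1109 : ∀ k, 0 ≤ k → k < 9990 → pointOk (k * 22) = true := between_extend pointOk 22 0 9981 9 (p0u1108) p0r1109

theorem p0r1110 : allRange pointOk 22 9990 9 = true := by decide +kernel
theorem p0u1110 : ∀ k, 0 ≤ k → k < 9999 → pointOk (k * 22) = true := between_extend pointOk 22 0 9990 9 (p0u1109) p0r1110

theorem p0r1111 : allRange pointOk 22 9999 9 = true := by decide +kernel
theorem p0u1111 : ∀ k, 0 ≤ k → k < 10008 → pointOk (k * 22) = true := between_extend pointOk 22 0 9999 9 (p0u1110) p0r1111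

theorem p0r1112 : allRange pointOk 22 10008 9 = true := by decide +kernel
theorem p0u1112 : ∀ k, 0 ≤ k → k < 10017 → pointOk (k * 22) = true := between_extend pointOk 22 0 10008 9 (p0u1111) p0r1112

theorem p0r1113 : allRange pointOk 22 10017 9 = true := by decide +kernel
theorem p0u1113 : ∀ k, 0 ≤ k → k < 10026 → pointOk (k * 22) = true := between_extend pointOk 22 0 10017 9 (p0u1112) p0r1113

theorem p0r1114 : allRange pointOk 22 10026 9 = true := by decide +kernel
theorem p0u1114 : ∀ k, 0 ≤ k → k < 10035 → pointOk (k * 22) = true := between_extend pointOk 22 0 10026 9 (p0u1113) p0r1114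

theorem p0r1115 : allRange pointOk 22 10035 9 = true := by decide +kernel
theorem p0u1115 : ∀ k, 0 ≤ k → k < 10044 → pointOk (k * 22) = true := between_extend pointOk 22 0 10035 9 (p0u1114) p0r1115

theorem p0r1116 : allRange pointOk 22 10044 9 = true := by decide +kernel
theorem p0u1116 : ∀ k, 0 ≤ k → k < 10053 → pointOk (k * 22) = true := between_extend pointOk 22 0 10044 9 (p0u1115) p0r1116

theorem p0r1117 : allRange pointOk 22 10053 9 = true := by decide +kernel
theorem p0u1117 : ∀ k, 0 ≤ k → k < 10062 → pointOk (k * 22) = true := between_extend pointOk 22 0 10053 9 (p0u1116) p0r1117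

theorem p0r1118 : allRange pointOk 22 10062 9 = true := by decide +kernel
theorem p0u1118 : ∀ k, 0 ≤ k → k < 10071 → pointOk (k * 22) = true := between_extend pointOk 22 0 10062 9 (p0u1117) p0r1118

theorem p0r1119 : allRange pointOk 22 10071 9 = true := by decide +kernel
theorem p0u1119 : ∀ k, 0 ≤ k → k < 10080 → pointOk (k * 22) = true := between_extend pointOk 22 0 10071 9 (p0u1118) p0r1119

theorem p0r1120 : allRange pointOk 22 10080 9 = true := by decide +kernel
theorem p0u1120 : ∀ k, 0 ≤ k → k < 10089 → pointOk (k * 22) = true := between_extend pointOk 22 0 10080 9 (p0u1119) p0r1120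

theorem p0r1121 : allRange pointOk 22 10089 9 = true := by decide +kernel
theorem p0u1121 : ∀ k, 0 ≤ k → k < 10098 → pointOk (k * 22) = true := between_extend pointOk 22 0 10089 9 (p0u1120) p0r1121

theorem p0r1122 : allRange pointOk 22 10098 9 = true := by decide +kernel
theorem p0u1122 : ∀ k, 0 ≤ k → k < 10107 → pointOk (k * 22) = true := between_extend pointOk 22 0 10098 9 (p0u1121) p0r1122

theorem p0r1123 : allRange pointOk 22 10107 9 = true := by decide +kernel
theorem p0u1123 : ∀ k, 0 ≤ k → k < 10116 → pointOk (k * 22) = true := between_extend pointOk 22 0 10107 9 (p0u1122) p0r1123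

theorem p0r1124 : allRange pointOk 22 10116 9 = true := by decide +kernel
theorem p0u1124 : ∀ k, 0 ≤ k → k < 10125 → pointOk (k * 22) = true := between_extend pointOk 22 0 10116 9 (p0u1123) p0r1124

theorem p0r1125 : allRange pointOk 22 10125 9 = true := by decide +kernel
theorem p0u1125 : ∀ k, 0 ≤ k → k < 10134 → pointOk (k * 22) = true := between_extend pointOk 22 0 10125 9 (p0u1124) p0r1125

theorem p0r1126 : allRange pointOk 22 10134 9 = true := by decide +kernel
theorem p0u1126 : ∀ k, 0 ≤ k → k < 10143 → pointOk (k * 22) = true := between_extend pointOk 22 0 10134 9 (p0u1125) p0r1126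

theorem p0r1127 : allRange pointOk 22 10143 9 = true := by decide +kernel
theorem p0u1127 : ∀ k, 0 ≤ k → k < 10152 → pointOk (k * 22) = true := between_extend pointOk 22 0 10143 9 (p0u1126) p0r1127

theorem p0r1128 : allRange pointOk 22 10152 9 = true := by decide +kernel
theorem p0u1128 : ∀ k, 0 ≤ k → k < 10161 → pointOk (k * 22) = true := between_extend pointOk 22 0 10152 9 (p0u1127) p0r1128

theorem p0r1129 : allRange pointOk 22 10161 9 = true := by decide +kernel
theorem p0u1129 : ∀ k, 0 ≤ k → k < 10170 → pointOk (k * 22) = true := between_extend pointOk 22 0 10161 9 (p0u1128) p0r1129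

theorem p0r1130 : allRange pointOk 22 10170 9 = true := by decide +kernel
theorem p0u1130 : ∀ k, 0 ≤ k → k < 10179 → pointOk (k * 22) = true := between_extend pointOk 22 0 10170 9 (p0u1129) p0r1130

theorem p0r1131 : allRange pointOk 22 10179 9 = true := by decide +kernel
theorem p0u1131 : ∀ k, 0 ≤ k → k < 10188 → pointOk (k * 22) = true := between_extend pointOk 22 0 10179 9 (p0u1130) p0r1131

theorem p0r1132 : allRange pointOk 22 10188 9 = true := by decide +kernel
theorem p0u1132 : ∀ k, 0 ≤ k → k < 10197 → pointOk (k * 22) = true := between_extend pointOk 22 0 10188 9 (p0u1131) p0r1132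

theorem p0r1133 : allRange pointOk 22 10197 9 = true := by decide +kernel
theorem p0u1133 : ∀ k, 0 ≤ k → k < 10206 → pointOk (k * 22) = true := between_extend pointOk 22 0 10197 9 (p0u1132) p0r1133

theorem p0r1134 : allRange pointOk 22 10206 9 = true := by decide +kernel
theorem p0u1134 : ∀ k, 0 ≤ k → k < 10215 → pointOk (k * 22) = true := between_extend pointOk 22 0 10206 9 (p0u1133) p0r1134

theorem p0r1135 : allRange pointOk 22 10215 9 = true := by decide +kernel
theorem p0u1135 : ∀ k, 0 ≤ k → k < 10224 → pointOk (k * 22) = true := between_extend pointOk 22 0 10215 9 (p0u1134) p0r1135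

theorem p0r1136 : allRange pointOk 22 10224 9 = true := by decide +kernel
theorem p0u1136 : ∀ k, 0 ≤ k → k < 10233 → pointOk (k * 22) = true := between_extend pointOk 22 0 10224 9 (p0u1135) p0r1136

theorem p0r1137 : allRange pointOk 22 10233 9 = true := by decide +kernel
theorem p0u1137 : ∀ k, 0 ≤ k → k < 10242 → pointOk (k * 22) = true := between_extend pointOk 22 0 10233 9 (p0u1136) p0r1137

theorem p0r1138 : allRange pointOk 22 10242 9 = true := by decide +kernel
theorem p0u1138 : ∀ k, 0 ≤ k → k < 10251 → pointOk (k * 22) = true := between_extend pointOk 22 0 10242 9 (p0u1137) p0r1138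

theorem p0r1139 : allRange pointOk 22 10251 9 = true := by decide +kernel
theorem p0u1139 : ∀ k, 0 ≤ k → k < 10260 → pointOk (k * 22) = true := between_extend pointOk 22 0 10251 9 (p0u1138) p0r1139

theorem p0r1140 : allRange pointOk 22 10260 9 = true := by decide +kernel
theorem p0u1140 : ∀ k, 0 ≤ k → k < 10269 → pointOk (k * 22) = true := between_extend pointOk 22 0 10260 9 (p0u1139) p0r1140

theorem p0r1141 : allRange pointOk 22 10269 9 = true := by decide +kernel
theorem p0u1141 : ∀ k, 0 ≤ k → k < 10278 → pointOk (k * 22) = true := between_extend pointOk 22 0 10269 9 (p0u1140) p0r1141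

theorem p0r1142 : allRange pointOk 22 10278 9 = true := by decide +kernel
theorem p0u1142 : ∀ k, 0 ≤ k → k < 10287 → pointOk (k * 22) = true := between_extend pointOk 22 0 10278 9 (p0u1141) p0r1142

theorem p0r1143 : allRange pointOk 22 10287 9 = true := by decide +kernel
theorem p0u1143 : ∀ k, 0 ≤ k → k < 10296 → pointOk (k * 22) = true := between_extend pointOk 22 0 10287 9 (p0u1142) p0r1143

theorem p0r1144 : allRange pointOk 22 10296 9 = true := by decide +kernel
theorem p0u1144 : ∀ k, 0 ≤ k → k < 10305 → pointOk (k * 22) = true := between_extend pointOk 22 0 10296 9 (p0u1143) p0r1144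

theorem p0r1145 : allRange pointOk 22 10305 9 = true := by decide +kernel
theorem p0u1145 : ∀ k, 0 ≤ k → k < 10314 → pointOk (k * 22) = true := between_extend pointOk 22 0 10305 9 (p0u1144) p0r1145

theorem p0r1146 : allRange pointOk 22 10314 9 = true := by decide +kernel
theorem p0u1146 : ∀ k, 0 ≤ k → k < 10323 → pointOk (k * 22) = true := between_extend pointOk 22 0 10314 9 (p0u1145) p0r1146

theorem p0r1147 : allRange pointOk 22 10323 9 = true := by decide +kernel
theorem p0u1147 : ∀ k, 0 ≤ k → k < 10332 → pointOk (k * 22) = true := between_extend pointOk 22 0 10323 9 (p0u1146) p0r1147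

theorem p0r1148 : allRange pointOk 22 10332 9 = true := by decide +kernel
theorem p0u1148 : ∀ k, 0 ≤ k → k < 10341 → pointOk (k * 22) = true := between_extend pointOk 22 0 10332 9 (p0u1147) p0r1148

theorem p0r1149 : allRange pointOk 22 10341 9 = true := by decide +kernel
theorem p0u1149 : ∀ k, 0 ≤ k → k < 10350 → pointOk (k * 22) = true := between_extend pointOk 22 0 10341 9 (p0u1148) p0r1149

theorem p0r1150 : allRange pointOk 22 10350 9 = true := by decide +kernel
theorem p0u1150 : ∀ k, 0 ≤ k → k < 10359 → pointOk (k * 22) = true := between_extend pointOk 22 0 10350 9 (p0u1149) p0r1150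

theorem p0r1151 : allRange pointOk 22 10359 9 = true := by decide +kernel
theorem p0u1151 : ∀ k, 0 ≤ k → k < 10368 → pointOk (k * 22) = true := between_extend pointOk 22 0 10359 9 (p0u1150) p0r1151

theorem p0r1152 : allRange pointOk 22 10368 9 = true := by decide +kernel
theorem p0u1152 : ∀ k, 0 ≤ k → k < 10377 → pointOk (k * 22) = true := between_extend pointOk 22 0 10368 9 (p0u1151) p0r1152

theorem p0r1153 : allRange pointOk 22 10377 9 = true := by decide +kernel
theorem p0u1153 : ∀ k, 0 ≤ k → k < 10386 → pointOk (k * 22) = true := between_extend pointOk 22 0 10377 9 (p0u1152) p0r1153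

theorem p0r1154 : allRange pointOk 22 10386 9 = true := by decide +kernel
theorem p0u1154 : ∀ k, 0 ≤ k → k < 10395 → pointOk (k * 22) = true := between_extend pointOk 22 0 10386 9 (p0u1153) p0r1154

theorem p0r1155 : allRange pointOk 22 10395 9 = true := by decide +kernel
theorem p0u1155 : ∀ k, 0 ≤ k → k < 10404 → pointOk (k * 22) = true := between_extend pointOk 22 0 10395 9 (p0u1154) p0r1155

theorem p0r1156 : allRange pointOk 22 10404 9 = true := by decide +kernel
theorem p0u1156 : ∀ k, 0 ≤ k → k < 10413 → pointOk (k * 22) = true := between_extend pointOk 22 0 10404 9 (p0u1155) p0r1156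

theorem p0r1157 : allRange pointOk 22 10413 9 = true := by decide +kernel
theorem p0u1157 : ∀ k, 0 ≤ k → k < 10422 → pointOk (k * 22) = true := between_extend pointOk 22 0 10413 9 (p0u1156) p0r1157

theorem p0r1158 : allRange pointOk 22 10422 9 = true := by decide +kernel
theorem p0u1158 : ∀ k, 0 ≤ k → k < 10431 → pointOk (k * 22) = true := between_extend pointOk 22 0 10422 9 (p0u1157) p0r1158

theorem p0r1159 : allRange pointOk 22 10431 9 = true := by decide +kernel
theorem p0u1159 : ∀ k, 0 ≤ k → k < 10440 → pointOk (k * 22) = true := between_extend pointOk 22 0 10431 9 (p0u1158) p0r1159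

theorem p0r1160 : allRange pointOk 22 10440 9 = true := by decide +kernel
theorem p0u1160 : ∀ k, 0 ≤ k → k < 10449 → pointOk (k * 22) = true := between_extend pointOk 22 0 10440 9 (p0u1159) p0r1160

theorem p0r1161 : allRange pointOk 22 10449 9 = true := by decide +kernel
theorem p0u1161 : ∀ k, 0 ≤ k → k < 10458 → pointOk (k * 22) = true := between_extend pointOk 22 0 10449 9 (p0u1160) p0r1161

theorem p0r1162 : allRange pointOk 22 10458 9 = true := by decide +kernel
theorem p0u1162 : ∀ k, 0 ≤ k → k < 10467 → pointOk (k * 22) = true := between_extend pointOk 22 0 10458 9 (p0u1161) p0r1162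

theorem p0r1163 : allRange pointOk 22 10467 9 = true := by decide +kernel
theorem p0u1163 : ∀ k, 0 ≤ k → k < 10476 → pointOk (k * 22) = true := between_extend pointOk 22 0 10467 9 (p0u1162) p0r1163

theorem p0r1164 : allRange pointOk 22 10476 9 = true := by decide +kernel
theorem p0u1164 : ∀ k, 0 ≤ k → k < 10485 → pointOk (k * 22) = true := between_extend pointOk 22 0 10476 9 (p0u1163) p0r1164

theorem p0r1165 : allRange pointOk 22 10485 9 = true := by decide +kernel
theorem p0u1165 : ∀ k, 0 ≤ k → k < 10494 → pointOk (k * 22) = true := between_extend pointOk 22 0 10485 9 (p0u1164) p0r1165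

theorem p0r1166 : allRange pointOk 22 10494 9 = true := by decide +kernel
theorem p0u1166 : ∀ k, 0 ≤ k → k < 10503 → pointOk (k * 22) = true := between_extend pointOk 22 0 10494 9 (p0u1165) p0r1166

theorem p0r1167 : allRange pointOk 22 10503 9 = true := by decide +kernel
theorem p0u1167 : ∀ k, 0 ≤ k → k < 10512 → pointOk (k * 22) = true := between_extend pointOk 22 0 10503 9 (p0u1166) p0r1167

theorem p0r1168 : allRange pointOk 22 10512 9 = true := by decide +kernel
theorem p0u1168 : ∀ k, 0 ≤ k → k < 10521 → pointOk (k * 22) = true := between_extend pointOk 22 0 10512 9 (p0u1167) p0r1168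

theorem p0r1169 : allRange pointOk 22 10521 9 = true := by decide +kernel
theorem p0u1169 : ∀ k, 0 ≤ k → k < 10530 → pointOk (k * 22) = true := between_extend pointOk 22 0 10521 9 (p0u1168) p0r1169

theorem p0r1170 : allRange pointOk 22 10530 9 = true := by decide +kernel
theorem p0u1170 : ∀ k, 0 ≤ k → k < 10539 → pointOk (k * 22) = true := between_extend pointOk 22 0 10530 9 (p0u1169) p0r1170

theorem p0r1171 : allRange pointOk 22 10539 9 = true := by decide +kernel
theorem p0u1171 : ∀ k, 0 ≤ k → k < 10548 → pointOk (k * 22) = true := between_extend pointOk 22 0 10539 9 (p0u1170) p0r1171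

theorem p0r1172 : allRange pointOk 22 10548 9 = true := by decide +kernel
theorem p0u1172 : ∀ k, 0 ≤ k → k < 10557 → pointOk (k * 22) = true := between_extend pointOk 22 0 10548 9 (p0u1171) p0r1172

theorem p0r1173 : allRange pointOk 22 10557 9 = true := by decide +kernel
theorem p0u1173 : ∀ k, 0 ≤ k → k < 10566 → pointOk (k * 22) = true := between_extend pointOk 22 0 10557 9 (p0u1172) p0r1173

theorem p0r1174 : allRange pointOk 22 10566 9 = true := by decide +kernel
theorem p0u1174 : ∀ k, 0 ≤ k → k < 10575 → pointOk (k * 22) = true := between_extend pointOk 22 0 10566 9 (p0u1173) p0r1174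

theorem p0r1175 : allRange pointOk 22 10575 9 = true := by decide +kernel
theorem p0u1175 : ∀ k, 0 ≤ k → k < 10584 → pointOk (k * 22) = true := between_extend pointOk 22 0 10575 9 (p0u1174) p0r1175

theorem p0r1176 : allRange pointOk 22 10584 9 = true := by decide +kernel
theorem p0u1176 : ∀ k, 0 ≤ k → k < 10593 → pointOk (k * 22) = true := between_extend pointOk 22 0 10584 9 (p0u1175) p0r1176

theorem p0r1177 : allRange pointOk 22 10593 9 = true := by decide +kernel
theorem p0u1177 : ∀ k, 0 ≤ k → k < 10602 → pointOk (k * 22) = true := between_extend pointOk 22 0 10593 9 (p0u1176) p0r1177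

theorem p0r1178 : allRange pointOk 22 10602 9 = true := by decide +kernel
theorem p0u1178 : ∀ k, 0 ≤ k → k < 10611 → pointOk (k * 22) = true := between_extend pointOk 22 0 10602 9 (p0u1177) p0r1178

theorem p0r1179 : allRange pointOk 22 10611 9 = true := by decide +kernel
theorem p0u1179 : ∀ k, 0 ≤ k → k < 10620 → pointOk (k * 22) = true := between_extend pointOk 22 0 10611 9 (p0u1178) p0r1179

theorem p0r1180 : allRange pointOk 22 10620 9 = true := by decide +kernel
theorem p0u1180 : ∀ k, 0 ≤ k → k < 10629 → pointOk (k * 22) = true := between_extend pointOk 22 0 10620 9 (p0u1179) p0r1180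

theorem p0r1181 : allRange pointOk 22 10629 9 = true := by decide +kernel
theorem p0u1181 : ∀ k, 0 ≤ k → k < 10638 → pointOk (k * 22) = true := between_extend pointOk 22 0 10629 9 (p0u1180) p0r1181

theorem p0r1182 : allRange pointOk 22 10638 9 = true := by decide +kernel
theorem p0u1182 : ∀ k, 0 ≤ k → k < 10647 → pointOk (k * 22) = true := between_extend pointOk 22 0 10638 9 (p0u1181) p0r1182

theorem p0r1183 : allRange pointOk 22 10647 9 = true := by decide +kernel
theorem p0u1183 : ∀ k, 0 ≤ k → k < 10656 → pointOk (k * 22) = true := between_extend pointOk 22 0 10647 9 (p0u1182) p0r1183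

theorem p0r1184 : allRange pointOk 22 10656 9 = true := by decide +kernel
theorem p0u1184 : ∀ k, 0 ≤ k → k < 10665 → pointOk (k * 22) = true := between_extend pointOk 22 0 10656 9 (p0u1183) p0r1184

theorem p0r1185 : allRange pointOk 22 10665 9 = true := by decide +kernel
theorem p0u1185 : ∀ k, 0 ≤ k → k < 10674 → pointOk (k * 22) = true := between_extend pointOk 22 0 10665 9 (p0u1184) p0r1185

theorem p0r1186 : allRange pointOk 22 10674 9 = true := by decide +kernel
theorem p0u1186 : ∀ k, 0 ≤ k → k < 10683 → pointOk (k * 22) = true := between_extend pointOk 22 0 10674 9 (p0u1185) p0r1186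

theorem p0r1187 : allRange pointOk 22 10683 9 = true := by decide +kernel
theorem p0u1187 : ∀ k, 0 ≤ k → k < 10692 → pointOk (k * 22) = true := between_extend pointOk 22 0 10683 9 (p0u1186) p0r1187

theorem p0r1188 : allRange pointOk 22 10692 9 = true := by decide +kernel
theorem p0u1188 : ∀ k, 0 ≤ k → k < 10701 → pointOk (k * 22) = true := between_extend pointOk 22 0 10692 9 (p0u1187) p0r1188

theorem p0r1189 : allRange pointOk 22 10701 9 = true := by decide +kernel
theorem p0u1189 : ∀ k, 0 ≤ k → k < 10710 → pointOk (k * 22) = true := between_extend pointOk 22 0 10701 9 (p0u1188) p0r1189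

theorem p0r1190 : allRange pointOk 22 10710 9 = true := by decide +kernel
theorem p0u1190 : ∀ k, 0 ≤ k → k < 10719 → pointOk (k * 22) = true := between_extend pointOk 22 0 10710 9 (p0u1189) p0r1190

theorem p0r1191 : allRange pointOk 22 10719 9 = true := by decide +kernel
theorem p0u1191 : ∀ k, 0 ≤ k → k < 10728 → pointOk (k * 22) = true := between_extend pointOk 22 0 10719 9 (p0u1190) p0r1191

theorem p0r1192 : allRange pointOk 22 10728 9 = true := by decide +kernel
theorem p0u1192 : ∀ k, 0 ≤ k → k < 10737 → pointOk (k * 22) = true := between_extend pointOk 22 0 10728 9 (p0u1191) p0r1192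

theorem p0r1193 : allRange pointOk 22 10737 9 = true := by decide +kernel
theorem p0u1193 : ∀ k, 0 ≤ k → k < 10746 → pointOk (k * 22) = true := between_extend pointOk 22 0 10737 9 (p0u1192) p0r1193

theorem p0r1194 : allRange pointOk 22 10746 9 = true := by decide +kernel
theorem p0u1194 : ∀ k, 0 ≤ k → k < 10755 → pointOk (k * 22) = true := between_extend pointOk 22 0 10746 9 (p0u1193) p0r1194

theorem p0r1195 : allRange pointOk 22 10755 9 = true := by decide +kernel
theorem p0u1195 : ∀ k, 0 ≤ k → k < 10764 → pointOk (k * 22) = true := between_extend pointOk 22 0 10755 9 (p0u1194) p0r1195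

theorem p0r1196 : allRange pointOk 22 10764 9 = true := by decide +kernel
theorem p0u1196 : ∀ k, 0 ≤ k → k < 10773 → pointOk (k * 22) = true := between_extend pointOk 22 0 10764 9 (p0u1195) p0r1196

theorem p0r1197 : allRange pointOk 22 10773 9 = true := by decide +kernel
theorem p0u1197 : ∀ k, 0 ≤ k → k < 10782 → pointOk (k * 22) = true := between_extend pointOk 22 0 10773 9 (p0u1196) p0r1197

theorem p0r1198 : allRange pointOk 22 10782 9 = true := by decide +kernel
theorem p0u1198 : ∀ k, 0 ≤ k → k < 10791 → pointOk (k * 22) = true := between_extend pointOk 22 0 10782 9 (p0u1197) p0r1198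

theorem p0r1199 : allRange pointOk 22 10791 9 = true := by decide +kernel
theorem p0u1199 : ∀ k, 0 ≤ k → k < 10800 → pointOk (k * 22) = true := between_extend pointOk 22 0 10791 9 (p0u1198) p0r1199

theorem p0r1200 : allRange pointOk 22 10800 9 = true := by decide +kernel
theorem p0u1200 : ∀ k, 0 ≤ k → k < 10809 → pointOk (k * 22) = true := between_extend pointOk 22 0 10800 9 (p0u1199) p0r1200

theorem p0r1201 : allRange pointOk 22 10809 9 = true := by decide +kernel
theorem p0u1201 : ∀ k, 0 ≤ k → k < 10818 → pointOk (k * 22) = true := between_extend pointOk 22 0 10809 9 (p0u1200) p0r1201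

theorem p0r1202 : allRange pointOk 22 10818 9 = true := by decide +kernel
theorem p0u1202 : ∀ k, 0 ≤ k → k < 10827 → pointOk (k * 22) = true := between_extend pointOk 22 0 10818 9 (p0u1201) p0r1202

theorem p0r1203 : allRange pointOk 22 10827 9 = true := by decide +kernel
theorem p0u1203 : ∀ k, 0 ≤ k → k < 10836 → pointOk (k * 22) = true := between_extend pointOk 22 0 10827 9 (p0u1202) p0r1203

theorem p0r1204 : allRange pointOk 22 10836 9 = true := by decide +kernel
theorem p0u1204 : ∀ k, 0 ≤ k → k < 10845 → pointOk (k * 22) = true := between_extend pointOk 22 0 10836 9 (p0u1203) p0r1204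

theorem p0r1205 : allRange pointOk 22 10845 9 = true := by decide +kernel
theorem p0u1205 : ∀ k, 0 ≤ k → k < 10854 → pointOk (k * 22) = true := between_extend pointOk 22 0 10845 9 (p0u1204) p0r1205

theorem p0r1206 : allRange pointOk 22 10854 9 = true := by decide +kernel
theorem p0u1206 : ∀ k, 0 ≤ k → k < 10863 → pointOk (k * 22) = true := between_extend pointOk 22 0 10854 9 (p0u1205) p0r1206

theorem p0r1207 : allRange pointOk 22 10863 9 = true := by decide +kernel
theorem p0u1207 : ∀ k, 0 ≤ k → k < 10872 → pointOk (k * 22) = true := between_extend pointOk 22 0 10863 9 (p0u1206) p0r1207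

theorem p0r1208 : allRange pointOk 22 10872 9 = true := by decide +kernel
theorem p0u1208 : ∀ k, 0 ≤ k → k < 10881 → pointOk (k * 22) = true := between_extend pointOk 22 0 10872 9 (p0u1207) p0r1208

theorem p0r1209 : allRange pointOk 22 10881 9 = true := by decide +kernel
theorem p0u1209 : ∀ k, 0 ≤ k → k < 10890 → pointOk (k * 22) = true := between_extend pointOk 22 0 10881 9 (p0u1208) p0r1209

theorem p0r1210 : allRange pointOk 22 10890 9 = true := by decide +kernel
theorem p0u1210 : ∀ k, 0 ≤ k → k < 10899 → pointOk (k * 22) = true := between_extend pointOk 22 0 10890 9 (p0u1209) p0r1210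

theorem p0r1211 : allRange pointOk 22 10899 9 = true := by decide +kernel
theorem p0u1211 : ∀ k, 0 ≤ k → k < 10908 → pointOk (k * 22) = true := between_extend pointOk 22 0 10899 9 (p0u1210) p0r1211

theorem p0r1212 : allRange pointOk 22 10908 9 = true := by decide +kernel
theorem p0u1212 : ∀ k, 0 ≤ k → k < 10917 → pointOk (k * 22) = true := between_extend pointOk 22 0 10908 9 (p0u1211) p0r1212

theorem p0r1213 : allRange pointOk 22 10917 9 = true := by decide +kernel
theorem p0u1213 : ∀ k, 0 ≤ k → k < 10926 → pointOk (k * 22) = true := between_extend pointOk 22 0 10917 9 (p0u1212) p0r1213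

theorem p0r1214 : allRange pointOk 22 10926 9 = true := by decide +kernel
theorem p0u1214 : ∀ k, 0 ≤ k → k < 10935 → pointOk (k * 22) = true := between_extend pointOk 22 0 10926 9 (p0u1213) p0r1214

theorem p0r1215 : allRange pointOk 22 10935 9 = true := by decide +kernel
theorem p0u1215 : ∀ k, 0 ≤ k → k < 10944 → pointOk (k * 22) = true := between_extend pointOk 22 0 10935 9 (p0u1214) p0r1215

theorem p0r1216 : allRange pointOk 22 10944 9 = true := by decide +kernel
theorem p0u1216 : ∀ k, 0 ≤ k → k < 10953 → pointOk (k * 22) = true := between_extend pointOk 22 0 10944 9 (p0u1215) p0r1216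

theorem p0r1217 : allRange pointOk 22 10953 9 = true := by decide +kernel
theorem p0u1217 : ∀ k, 0 ≤ k → k < 10962 → pointOk (k * 22) = true := between_extend pointOk 22 0 10953 9 (p0u1216) p0r1217

theorem p0r1218 : allRange pointOk 22 10962 9 = true := by decide +kernel
theorem p0u1218 : ∀ k, 0 ≤ k → k < 10971 → pointOk (k * 22) = true := between_extend pointOk 22 0 10962 9 (p0u1217) p0r1218

theorem p0r1219 : allRange pointOk 22 10971 9 = true := by decide +kernel
theorem p0u1219 : ∀ k, 0 ≤ k → k < 10980 → pointOk (k * 22) = true := between_extend pointOk 22 0 10971 9 (p0u1218) p0r1219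

theorem p0r1220 : allRange pointOk 22 10980 9 = true := by decide +kernel
theorem p0u1220 : ∀ k, 0 ≤ k → k < 10989 → pointOk (k * 22) = true := between_extend pointOk 22 0 10980 9 (p0u1219) p0r1220

theorem p0r1221 : allRange pointOk 22 10989 9 = true := by decide +kernel
theorem p0u1221 : ∀ k, 0 ≤ k → k < 10998 → pointOk (k * 22) = true := between_extend pointOk 22 0 10989 9 (p0u1220) p0r1221

theorem p0r1222 : allRange pointOk 22 10998 9 = true := by decide +kernel
theorem p0u1222 : ∀ k, 0 ≤ k → k < 11007 → pointOk (k * 22) = true := between_extend pointOk 22 0 10998 9 (p0u1221) p0r1222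

theorem p0r1223 : allRange pointOk 22 11007 9 = true := by decide +kernel
theorem p0u1223 : ∀ k, 0 ≤ k → k < 11016 → pointOk (k * 22) = true := between_extend pointOk 22 0 11007 9 (p0u1222) p0r1223

theorem p0r1224 : allRange pointOk 22 11016 9 = true := by decide +kernel
theorem p0u1224 : ∀ k, 0 ≤ k → k < 11025 → pointOk (k * 22) = true := between_extend pointOk 22 0 11016 9 (p0u1223) p0r1224

theorem p0r1225 : allRange pointOk 22 11025 9 = true := by decide +kernel
theorem p0u1225 : ∀ k, 0 ≤ k → k < 11034 → pointOk (k * 22) = true := between_extend pointOk 22 0 11025 9 (p0u1224) p0r1225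

theorem p0r1226 : allRange pointOk 22 11034 9 = true := by decide +kernel
theorem p0u1226 : ∀ k, 0 ≤ k → k < 11043 → pointOk (k * 22) = true := between_extend pointOk 22 0 11034 9 (p0u1225) p0r1226

theorem p0r1227 : allRange pointOk 22 11043 9 = true := by decide +kernel
theorem p0u1227 : ∀ k, 0 ≤ k → k < 11052 → pointOk (k * 22) = true := between_extend pointOk 22 0 11043 9 (p0u1226) p0r1227

theorem p0r1228 : allRange pointOk 22 11052 9 = true := by decide +kernel
theorem p0u1228 : ∀ k, 0 ≤ k → k < 11061 → pointOk (k * 22) = true := between_extend pointOk 22 0 11052 9 (p0u1227) p0r1228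

theorem p0r1229 : allRange pointOk 22 11061 9 = true := by decide +kernel
theorem p0u1229 : ∀ k, 0 ≤ k → k < 11070 → pointOk (k * 22) = true := between_extend pointOk 22 0 11061 9 (p0u1228) p0r1229

theorem p0r1230 : allRange pointOk 22 11070 9 = true := by decide +kernel
theorem p0u1230 : ∀ k, 0 ≤ k → k < 11079 → pointOk (k * 22) = true := between_extend pointOk 22 0 11070 9 (p0u1229) p0r1230

theorem p0r1231 : allRange pointOk 22 11079 9 = true := by decide +kernel
theorem p0u1231 : ∀ k, 0 ≤ k → k < 11088 → pointOk (k * 22) = true := between_extend pointOk 22 0 11079 9 (p0u1230) p0r1231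

theorem p0r1232 : allRange pointOk 22 11088 9 = true := by decide +kernel
theorem p0u1232 : ∀ k, 0 ≤ k → k < 11097 → pointOk (k * 22) = true := between_extend pointOk 22 0 11088 9 (p0u1231) p0r1232

theorem p0r1233 : allRange pointOk 22 11097 9 = true := by decide +kernel
theorem p0u1233 : ∀ k, 0 ≤ k → k < 11106 → pointOk (k * 22) = true := between_extend pointOk 22 0 11097 9 (p0u1232) p0r1233

theorem p0r1234 : allRange pointOk 22 11106 9 = true := by decide +kernel
theorem p0u1234 : ∀ k, 0 ≤ k → k < 11115 → pointOk (k * 22) = true := between_extend pointOk 22 0 11106 9 (p0u1233) p0r1234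

theorem p0r1235 : allRange pointOk 22 11115 9 = true := by decide +kernel
theorem p0u1235 : ∀ k, 0 ≤ k → k < 11124 → pointOk (k * 22) = true := between_extend pointOk 22 0 11115 9 (p0u1234) p0r1235

theorem p0r1236 : allRange pointOk 22 11124 9 = true := by decide +kernel
theorem p0u1236 : ∀ k, 0 ≤ k → k < 11133 → pointOk (k * 22) = true := between_extend pointOk 22 0 11124 9 (p0u1235) p0r1236

theorem p0r1237 : allRange pointOk 22 11133 9 = true := by decide +kernel
theorem p0u1237 : ∀ k, 0 ≤ k → k < 11142 → pointOk (k * 22) = true := between_extend pointOk 22 0 11133 9 (p0u1236) p0r1237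

theorem p0r1238 : allRange pointOk 22 11142 9 = true := by decide +kernel
theorem p0u1238 : ∀ k, 0 ≤ k → k < 11151 → pointOk (k * 22) = true := between_extend pointOk 22 0 11142 9 (p0u1237) p0r1238

theorem p0r1239 : allRange pointOk 22 11151 9 = true := by decide +kernel
theorem p0u1239 : ∀ k, 0 ≤ k → k < 11160 → pointOk (k * 22) = true := between_extend pointOk 22 0 11151 9 (p0u1238) p0r1239

theorem p0r1240 : allRange pointOk 22 11160 9 = true := by decide +kernel
theorem p0u1240 : ∀ k, 0 ≤ k → k < 11169 → pointOk (k * 22) = true := between_extend pointOk 22 0 11160 9 (p0u1239) p0r1240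

theorem p0r1241 : allRange pointOk 22 11169 9 = true := by decide +kernel
theorem p0u1241 : ∀ k, 0 ≤ k → k < 11178 → pointOk (k * 22) = true := between_extend pointOk 22 0 11169 9 (p0u1240) p0r1241

theorem p0r1242 : allRange pointOk 22 11178 9 = true := by decide +kernel
theorem p0u1242 : ∀ k, 0 ≤ k → k < 11187 → pointOk (k * 22) = true := between_extend pointOk 22 0 11178 9 (p0u1241) p0r1242

theorem p0r1243 : allRange pointOk 22 11187 9 = true := by decide +kernel
theorem p0u1243 : ∀ k, 0 ≤ k → k < 11196 → pointOk (k * 22) = true := between_extend pointOk 22 0 11187 9 (p0u1242) p0r1243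

theorem p0r1244 : allRange pointOk 22 11196 9 = true := by decide +kernel
theorem p0u1244 : ∀ k, 0 ≤ k → k < 11205 → pointOk (k * 22) = true := between_extend pointOk 22 0 11196 9 (p0u1243) p0r1244

theorem p0r1245 : allRange pointOk 22 11205 9 = true := by decide +kernel
theorem p0u1245 : ∀ k, 0 ≤ k → k < 11214 → pointOk (k * 22) = true := between_extend pointOk 22 0 11205 9 (p0u1244) p0r1245

theorem p0r1246 : allRange pointOk 22 11214 9 = true := by decide +kernel
theorem p0u1246 : ∀ k, 0 ≤ k → k < 11223 → pointOk (k * 22) = true := between_extend pointOk 22 0 11214 9 (p0u1245) p0r1246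

theorem p0r1247 : allRange pointOk 22 11223 9 = true := by decide +kernel
theorem p0u1247 : ∀ k, 0 ≤ k → k < 11232 → pointOk (k * 22) = true := between_extend pointOk 22 0 11223 9 (p0u1246) p0r1247

theorem p0r1248 : allRange pointOk 22 11232 9 = true := by decide +kernel
theorem p0u1248 : ∀ k, 0 ≤ k → k < 11241 → pointOk (k * 22) = true := between_extend pointOk 22 0 11232 9 (p0u1247) p0r1248

theorem p0r1249 : allRange pointOk 22 11241 9 = true := by decide +kernel
theorem p0u1249 : ∀ k, 0 ≤ k → k < 11250 → pointOk (k * 22) = true := between_extend pointOk 22 0 11241 9 (p0u1248) p0r1249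

theorem p0r1250 : allRange pointOk 22 11250 9 = true := by decide +kernel
theorem p0u1250 : ∀ k, 0 ≤ k → k < 11259 → pointOk (k * 22) = true := between_extend pointOk 22 0 11250 9 (p0u1249) p0r1250

theorem p0r1251 : allRange pointOk 22 11259 9 = true := by decide +kernel
theorem p0u1251 : ∀ k, 0 ≤ k → k < 11268 → pointOk (k * 22) = true := between_extend pointOk 22 0 11259 9 (p0u1250) p0r1251

theorem p0r1252 : allRange pointOk 22 11268 9 = true := by decide +kernel
theorem p0u1252 : ∀ k, 0 ≤ k → k < 11277 → pointOk (k * 22) = true := between_extend pointOk 22 0 11268 9 (p0u1251) p0r1252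

theorem p0r1253 : allRange pointOk 22 11277 9 = true := by decide +kernel
theorem p0u1253 : ∀ k, 0 ≤ k → k < 11286 → pointOk (k * 22) = true := between_extend pointOk 22 0 11277 9 (p0u1252) p0r1253

theorem p0r1254 : allRange pointOk 22 11286 9 = true := by decide +kernel
theorem p0u1254 : ∀ k, 0 ≤ k → k < 11295 → pointOk (k * 22) = true := between_extend pointOk 22 0 11286 9 (p0u1253) p0r1254

theorem p0r1255 : allRange pointOk 22 11295 9 = true := by decide +kernel
theorem p0u1255 : ∀ k, 0 ≤ k → k < 11304 → pointOk (k * 22) = true := between_extend pointOk 22 0 11295 9 (p0u1254) p0r1255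

theorem p0r1256 : allRange pointOk 22 11304 9 = true := by decide +kernel
theorem p0u1256 : ∀ k, 0 ≤ k → k < 11313 → pointOk (k * 22) = true := between_extend pointOk 22 0 11304 9 (p0u1255) p0r1256

theorem p0r1257 : allRange pointOk 22 11313 9 = true := by decide +kernel
theorem p0u1257 : ∀ k, 0 ≤ k → k < 11322 → pointOk (k * 22) = true := between_extend pointOk 22 0 11313 9 (p0u1256) p0r1257

theorem p0r1258 : allRange pointOk 22 11322 9 = true := by decide +kernel
theorem p0u1258 : ∀ k, 0 ≤ k → k < 11331 → pointOk (k * 22) = true := between_extend pointOk 22 0 11322 9 (p0u1257) p0r1258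

theorem p0r1259 : allRange pointOk 22 11331 9 = true := by decide +kernel
theorem p0u1259 : ∀ k, 0 ≤ k → k < 11340 → pointOk (k * 22) = true := between_extend pointOk 22 0 11331 9 (p0u1258) p0r1259

theorem p0r1260 : allRange pointOk 22 11340 9 = true := by decide +kernel
theorem p0u1260 : ∀ k, 0 ≤ k → k < 11349 → pointOk (k * 22) = true := between_extend pointOk 22 0 11340 9 (p0u1259) p0r1260

theorem p0r1261 : allRange pointOk 22 11349 9 = true := by decide +kernel
theorem p0u1261 : ∀ k, 0 ≤ k → k < 11358 → pointOk (k * 22) = true := between_extend pointOk 22 0 11349 9 (p0u1260) p0r1261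

theorem p0r1262 : allRange pointOk 22 11358 9 = true := by decide +kernel
theorem p0u1262 : ∀ k, 0 ≤ k → k < 11367 → pointOk (k * 22) = true := between_extend pointOk 22 0 11358 9 (p0u1261) p0r1262

theorem p0r1263 : allRange pointOk 22 11367 9 = true := by decide +kernel
theorem p0u1263 : ∀ k, 0 ≤ k → k < 11376 → pointOk (k * 22) = true := between_extend pointOk 22 0 11367 9 (p0u1262) p0r1263

theorem p0r1264 : allRange pointOk 22 11376 9 = true := by decide +kernel
theorem p0u1264 : ∀ k, 0 ≤ k → k < 11385 → pointOk (k * 22) = true := between_extend pointOk 22 0 11376 9 (p0u1263) p0r1264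

theorem p0r1265 : allRange pointOk 22 11385 9 = true := by decide +kernel
theorem p0u1265 : ∀ k, 0 ≤ k → k < 11394 → pointOk (k * 22) = true := between_extend pointOk 22 0 11385 9 (p0u1264) p0r1265

theorem p0r1266 : allRange pointOk 22 11394 9 = true := by decide +kernel
theorem p0u1266 : ∀ k, 0 ≤ k → k < 11403 → pointOk (k * 22) = true := between_extend pointOk 22 0 11394 9 (p0u1265) p0r1266

theorem p0r1267 : allRange pointOk 22 11403 9 = true := by decide +kernel
theorem p0u1267 : ∀ k, 0 ≤ k → k < 11412 → pointOk (k * 22) = true := between_extend pointOk 22 0 11403 9 (p0u1266) p0r1267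

theorem p0r1268 : allRange pointOk 22 11412 9 = true := by decide +kernel
theorem p0u1268 : ∀ k, 0 ≤ k → k < 11421 → pointOk (k * 22) = true := between_extend pointOk 22 0 11412 9 (p0u1267) p0r1268

theorem p0r1269 : allRange pointOk 22 11421 9 = true := by decide +kernel
theorem p0u1269 : ∀ k, 0 ≤ k → k < 11430 → pointOk (k * 22) = true := between_extend pointOk 22 0 11421 9 (p0u1268) p0r1269

theorem p0r1270 : allRange pointOk 22 11430 9 = true := by decide +kernel
theorem p0u1270 : ∀ k, 0 ≤ k → k < 11439 → pointOk (k * 22) = true := between_extend pointOk 22 0 11430 9 (p0u1269) p0r1270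

theorem p0r1271 : allRange pointOk 22 11439 9 = true := by decide +kernel
theorem p0u1271 : ∀ k, 0 ≤ k → k < 11448 → pointOk (k * 22) = true := between_extend pointOk 22 0 11439 9 (p0u1270) p0r1271

theorem p0r1272 : allRange pointOk 22 11448 9 = true := by decide +kernel
theorem p0u1272 : ∀ k, 0 ≤ k → k < 11457 → pointOk (k * 22) = true := between_extend pointOk 22 0 11448 9 (p0u1271) p0r1272

theorem p0r1273 : allRange pointOk 22 11457 9 = true := by decide +kernel
theorem p0u1273 : ∀ k, 0 ≤ k → k < 11466 → pointOk (k * 22) = true := between_extend pointOk 22 0 11457 9 (p0u1272) p0r1273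

theorem p0r1274 : allRange pointOk 22 11466 9 = true := by decide +kernel
theorem p0u1274 : ∀ k, 0 ≤ k → k < 11475 → pointOk (k * 22) = true := between_extend pointOk 22 0 11466 9 (p0u1273) p0r1274

theorem p0r1275 : allRange pointOk 22 11475 9 = true := by decide +kernel
theorem p0u1275 : ∀ k, 0 ≤ k → k < 11484 → pointOk (k * 22) = true := between_extend pointOk 22 0 11475 9 (p0u1274) p0r1275

theorem p0r1276 : allRange pointOk 22 11484 9 = true := by decide +kernel
theorem p0u1276 : ∀ k, 0 ≤ k → k < 11493 → pointOk (k * 22) = true := between_extend pointOk 22 0 11484 9 (p0u1275) p0r1276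

theorem p0r1277 : allRange pointOk 22 11493 9 = true := by decide +kernel
theorem p0u1277 : ∀ k, 0 ≤ k → k < 11502 → pointOk (k * 22) = true := between_extend pointOk 22 0 11493 9 (p0u1276) p0r1277

theorem p0r1278 : allRange pointOk 22 11502 9 = true := by decide +kernel
theorem p0u1278 : ∀ k, 0 ≤ k → k < 11511 → pointOk (k * 22) = true := between_extend pointOk 22 0 11502 9 (p0u1277) p0r1278

theorem p0r1279 : allRange pointOk 22 11511 9 = true := by decide +kernel
theorem p0u1279 : ∀ k, 0 ≤ k → k < 11520 → pointOk (k * 22) = true := between_extend pointOk 22 0 11511 9 (p0u1278) p0r1279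

theorem p0r1280 : allRange pointOk 22 11520 9 = true := by decide +kernel
theorem p0u1280 : ∀ k, 0 ≤ k → k < 11529 → pointOk (k * 22) = true := between_extend pointOk 22 0 11520 9 (p0u1279) p0r1280

theorem p0r1281 : allRange pointOk 22 11529 9 = true := by decide +kernel
theorem p0u1281 : ∀ k, 0 ≤ k → k < 11538 → pointOk (k * 22) = true := between_extend pointOk 22 0 11529 9 (p0u1280) p0r1281

theorem p0r1282 : allRange pointOk 22 11538 9 = true := by decide +kernel
theorem p0u1282 : ∀ k, 0 ≤ k → k < 11547 → pointOk (k * 22) = true := between_extend pointOk 22 0 11538 9 (p0u1281) p0r1282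

theorem p0r1283 : allRange pointOk 22 11547 9 = true := by decide +kernel
theorem p0u1283 : ∀ k, 0 ≤ k → k < 11556 → pointOk (k * 22) = true := between_extend pointOk 22 0 11547 9 (p0u1282) p0r1283

theorem p0r1284 : allRange pointOk 22 11556 9 = true := by decide +kernel
theorem p0u1284 : ∀ k, 0 ≤ k → k < 11565 → pointOk (k * 22) = true := between_extend pointOk 22 0 11556 9 (p0u1283) p0r1284

theorem p0r1285 : allRange pointOk 22 11565 9 = true := by decide +kernel
theorem p0u1285 : ∀ k, 0 ≤ k → k < 11574 → pointOk (k * 22) = true := between_extend pointOk 22 0 11565 9 (p0u1284) p0r1285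

theorem p0r1286 : allRange pointOk 22 11574 9 = true := by decide +kernel
theorem p0u1286 : ∀ k, 0 ≤ k → k < 11583 → pointOk (k * 22) = true := between_extend pointOk 22 0 11574 9 (p0u1285) p0r1286

theorem p0r1287 : allRange pointOk 22 11583 9 = true := by decide +kernel
theorem p0u1287 : ∀ k, 0 ≤ k → k < 11592 → pointOk (k * 22) = true := between_extend pointOk 22 0 11583 9 (p0u1286) p0r1287

theorem p0r1288 : allRange pointOk 22 11592 9 = true := by decide +kernel
theorem p0u1288 : ∀ k, 0 ≤ k → k < 11601 → pointOk (k * 22) = true := between_extend pointOk 22 0 11592 9 (p0u1287) p0r1288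

theorem p0r1289 : allRange pointOk 22 11601 9 = true := by decide +kernel
theorem p0u1289 : ∀ k, 0 ≤ k → k < 11610 → pointOk (k * 22) = true := between_extend pointOk 22 0 11601 9 (p0u1288) p0r1289

theorem p0r1290 : allRange pointOk 22 11610 9 = true := by decide +kernel
theorem p0u1290 : ∀ k, 0 ≤ k → k < 11619 → pointOk (k * 22) = true := between_extend pointOk 22 0 11610 9 (p0u1289) p0r1290

theorem p0r1291 : allRange pointOk 22 11619 9 = true := by decide +kernel
theorem p0u1291 : ∀ k, 0 ≤ k → k < 11628 → pointOk (k * 22) = true := between_extend pointOk 22 0 11619 9 (p0u1290) p0r1291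

theorem p0r1292 : allRange pointOk 22 11628 9 = true := by decide +kernel
theorem p0u1292 : ∀ k, 0 ≤ k → k < 11637 → pointOk (k * 22) = true := between_extend pointOk 22 0 11628 9 (p0u1291) p0r1292

theorem p0r1293 : allRange pointOk 22 11637 9 = true := by decide +kernel
theorem p0u1293 : ∀ k, 0 ≤ k → k < 11646 → pointOk (k * 22) = true := between_extend pointOk 22 0 11637 9 (p0u1292) p0r1293

theorem p0r1294 : allRange pointOk 22 11646 9 = true := by decide +kernel
theorem p0u1294 : ∀ k, 0 ≤ k → k < 11655 → pointOk (k * 22) = true := between_extend pointOk 22 0 11646 9 (p0u1293) p0r1294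

theorem p0r1295 : allRange pointOk 22 11655 9 = true := by decide +kernel
theorem p0u1295 : ∀ k, 0 ≤ k → k < 11664 → pointOk (k * 22) = true := between_extend pointOk 22 0 11655 9 (p0u1294) p0r1295

theorem p0r1296 : allRange pointOk 22 11664 9 = true := by decide +kernel
theorem p0u1296 : ∀ k, 0 ≤ k → k < 11673 → pointOk (k * 22) = true := between_extend pointOk 22 0 11664 9 (p0u1295) p0r1296

theorem p0r1297 : allRange pointOk 22 11673 9 = true := by decide +kernel
theorem p0u1297 : ∀ k, 0 ≤ k → k < 11682 → pointOk (k * 22) = true := between_extend pointOk 22 0 11673 9 (p0u1296) p0r1297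

theorem p0r1298 : allRange pointOk 22 11682 9 = true := by decide +kernel
theorem p0u1298 : ∀ k, 0 ≤ k → k < 11691 → pointOk (k * 22) = true := between_extend pointOk 22 0 11682 9 (p0u1297) p0r1298

theorem p0r1299 : allRange pointOk 22 11691 9 = true := by decide +kernel
theorem p0u1299 : ∀ k, 0 ≤ k → k < 11700 → pointOk (k * 22) = true := between_extend pointOk 22 0 11691 9 (p0u1298) p0r1299

theorem p0r1300 : allRange pointOk 22 11700 9 = true := by decide +kernel
theorem p0u1300 : ∀ k, 0 ≤ k → k < 11709 → pointOk (k * 22) = true := between_extend pointOk 22 0 11700 9 (p0u1299) p0r1300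

theorem p0r1301 : allRange pointOk 22 11709 9 = true := by decide +kernel
theorem p0u1301 : ∀ k, 0 ≤ k → k < 11718 → pointOk (k * 22) = true := between_extend pointOk 22 0 11709 9 (p0u1300) p0r1301

theorem p0r1302 : allRange pointOk 22 11718 9 = true := by decide +kernel
theorem p0u1302 : ∀ k, 0 ≤ k → k < 11727 → pointOk (k * 22) = true := between_extend pointOk 22 0 11718 9 (p0u1301) p0r1302

theorem p0r1303 : allRange pointOk 22 11727 9 = true := by decide +kernel
theorem p0u1303 : ∀ k, 0 ≤ k → k < 11736 → pointOk (k * 22) = true := between_extend pointOk 22 0 11727 9 (p0u1302) p0r1303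

theorem p0r1304 : allRange pointOk 22 11736 9 = true := by decide +kernel
theorem p0u1304 : ∀ k, 0 ≤ k → k < 11745 → pointOk (k * 22) = true := between_extend pointOk 22 0 11736 9 (p0u1303) p0r1304

theorem p0r1305 : allRange pointOk 22 11745 9 = true := by decide +kernel
theorem p0u1305 : ∀ k, 0 ≤ k → k < 11754 → pointOk (k * 22) = true := between_extend pointOk 22 0 11745 9 (p0u1304) p0r1305

theorem p0r1306 : allRange pointOk 22 11754 9 = true := by decide +kernel
theorem p0u1306 : ∀ k, 0 ≤ k → k < 11763 → pointOk (k * 22) = true := between_extend pointOk 22 0 11754 9 (p0u1305) p0r1306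

theorem p0r1307 : allRange pointOk 22 11763 9 = true := by decide +kernel
theorem p0u1307 : ∀ k, 0 ≤ k → k < 11772 → pointOk (k * 22) = true := between_extend pointOk 22 0 11763 9 (p0u1306) p0r1307

theorem p0r1308 : allRange pointOk 22 11772 9 = true := by decide +kernel
theorem p0u1308 : ∀ k, 0 ≤ k → k < 11781 → pointOk (k * 22) = true := between_extend pointOk 22 0 11772 9 (p0u1307) p0r1308

theorem p0r1309 : allRange pointOk 22 11781 9 = true := by decide +kernel
theorem p0u1309 : ∀ k, 0 ≤ k → k < 11790 → pointOk (k * 22) = true := between_extend pointOk 22 0 11781 9 (p0u1308) p0r1309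

theorem p0r1310 : allRange pointOk 22 11790 9 = true := by decide +kernel
theorem p0u1310 : ∀ k, 0 ≤ k → k < 11799 → pointOk (k * 22) = true := between_extend pointOk 22 0 11790 9 (p0u1309) p0r1310

theorem p0r1311 : allRange pointOk 22 11799 9 = true := by decide +kernel
theorem p0u1311 : ∀ k, 0 ≤ k → k < 11808 → pointOk (k * 22) = true := between_extend pointOk 22 0 11799 9 (p0u1310) p0r1311

theorem p0r1312 : allRange pointOk 22 11808 9 = true := by decide +kernel
theorem p0u1312 : ∀ k, 0 ≤ k → k < 11817 → pointOk (k * 22) = true := between_extend pointOk 22 0 11808 9 (p0u1311) p0r1312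

theorem p0r1313 : allRange pointOk 22 11817 9 = true := by decide +kernel
theorem p0u1313 : ∀ k, 0 ≤ k → k < 11826 → pointOk (k * 22) = true := between_extend pointOk 22 0 11817 9 (p0u1312) p0r1313

theorem p0r1314 : allRange pointOk 22 11826 9 = true := by decide +kernel
theorem p0u1314 : ∀ k, 0 ≤ k → k < 11835 → pointOk (k * 22) = true := between_extend pointOk 22 0 11826 9 (p0u1313) p0r1314

theorem p0r1315 : allRange pointOk 22 11835 9 = true := by decide +kernel
theorem p0u1315 : ∀ k, 0 ≤ k → k < 11844 → pointOk (k * 22) = true := between_extend pointOk 22 0 11835 9 (p0u1314) p0r1315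

theorem p0r1316 : allRange pointOk 22 11844 9 = true := by decide +kernel
theorem p0u1316 : ∀ k, 0 ≤ k → k < 11853 → pointOk (k * 22) = true := between_extend pointOk 22 0 11844 9 (p0u1315) p0r1316

theorem p0r1317 : allRange pointOk 22 11853 9 = true := by decide +kernel
theorem p0u1317 : ∀ k, 0 ≤ k → k < 11862 → pointOk (k * 22) = true := between_extend pointOk 22 0 11853 9 (p0u1316) p0r1317

theorem p0r1318 : allRange pointOk 22 11862 9 = true := by decide +kernel
theorem p0u1318 : ∀ k, 0 ≤ k → k < 11871 → pointOk (k * 22) = true := between_extend pointOk 22 0 11862 9 (p0u1317) p0r1318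

theorem p0r1319 : allRange pointOk 22 11871 9 = true := by decide +kernel
theorem p0u1319 : ∀ k, 0 ≤ k → k < 11880 → pointOk (k * 22) = true := between_extend pointOk 22 0 11871 9 (p0u1318) p0r1319

theorem p0r1320 : allRange pointOk 22 11880 9 = true := by decide +kernel
theorem p0u1320 : ∀ k, 0 ≤ k → k < 11889 → pointOk (k * 22) = true := between_extend pointOk 22 0 11880 9 (p0u1319) p0r1320

theorem p0r1321 : allRange pointOk 22 11889 9 = true := by decide +kernel
theorem p0u1321 : ∀ k, 0 ≤ k → k < 11898 → pointOk (k * 22) = true := between_extend pointOk 22 0 11889 9 (p0u1320) p0r1321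

theorem p0r1322 : allRange pointOk 22 11898 9 = true := by decide +kernel
theorem p0u1322 : ∀ k, 0 ≤ k → k < 11907 → pointOk (k * 22) = true := between_extend pointOk 22 0 11898 9 (p0u1321) p0r1322

theorem p0r1323 : allRange pointOk 22 11907 9 = true := by decide +kernel
theorem p0u1323 : ∀ k, 0 ≤ k → k < 11916 → pointOk (k * 22) = true := between_extend pointOk 22 0 11907 9 (p0u1322) p0r1323

theorem p0r1324 : allRange pointOk 22 11916 9 = true := by decide +kernel
theorem p0u1324 : ∀ k, 0 ≤ k → k < 11925 → pointOk (k * 22) = true := between_extend pointOk 22 0 11916 9 (p0u1323) p0r1324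

theorem p0r1325 : allRange pointOk 22 11925 9 = true := by decide +kernel
theorem p0u1325 : ∀ k, 0 ≤ k → k < 11934 → pointOk (k * 22) = true := between_extend pointOk 22 0 11925 9 (p0u1324) p0r1325

theorem p0r1326 : allRange pointOk 22 11934 9 = true := by decide +kernel
theorem p0u1326 : ∀ k, 0 ≤ k → k < 11943 → pointOk (k * 22) = true := between_extend pointOk 22 0 11934 9 (p0u1325) p0r1326

theorem p0r1327 : allRange pointOk 22 11943 9 = true := by decide +kernel
theorem p0u1327 : ∀ k, 0 ≤ k → k < 11952 → pointOk (k * 22) = true := between_extend pointOk 22 0 11943 9 (p0u1326) p0r1327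

theorem p0r1328 : allRange pointOk 22 11952 9 = true := by decide +kernel
theorem p0u1328 : ∀ k, 0 ≤ k → k < 11961 → pointOk (k * 22) = true := between_extend pointOk 22 0 11952 9 (p0u1327) p0r1328

theorem p0r1329 : allRange pointOk 22 11961 9 = true := by decide +kernel
theorem p0u1329 : ∀ k, 0 ≤ k → k < 11970 → pointOk (k * 22) = true := between_extend pointOk 22 0 11961 9 (p0u1328) p0r1329

theorem p0r1330 : allRange pointOk 22 11970 9 = true := by decide +kernel
theorem p0u1330 : ∀ k, 0 ≤ k → k < 11979 → pointOk (k * 22) = true := between_extend pointOk 22 0 11970 9 (p0u1329) p0r1330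

theorem p0r1331 : allRange pointOk 22 11979 9 = true := by decide +kernel
theorem p0u1331 : ∀ k, 0 ≤ k → k < 11988 → pointOk (k * 22) = true := between_extend pointOk 22 0 11979 9 (p0u1330) p0r1331

theorem p0r1332 : allRange pointOk 22 11988 9 = true := by decide +kernel
theorem p0u1332 : ∀ k, 0 ≤ k → k < 11997 → pointOk (k * 22) = true := between_extend pointOk 22 0 11988 9 (p0u1331) p0r1332

theorem p0r1333 : allRange pointOk 22 11997 9 = true := by decide +kernel
theorem p0u1333 : ∀ k, 0 ≤ k → k < 12006 → pointOk (k * 22) = true := between_extend pointOk 22 0 11997 9 (p0u1332) p0r1333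

theorem p0r1334 : allRange pointOk 22 12006 9 = true := by decide +kernel
theorem p0u1334 : ∀ k, 0 ≤ k → k < 12015 → pointOk (k * 22) = true := between_extend pointOk 22 0 12006 9 (p0u1333) p0r1334

theorem p0r1335 : allRange pointOk 22 12015 9 = true := by decide +kernel
theorem p0u1335 : ∀ k, 0 ≤ k → k < 12024 → pointOk (k * 22) = true := between_extend pointOk 22 0 12015 9 (p0u1334) p0r1335

theorem p0r1336 : allRange pointOk 22 12024 9 = true := by decide +kernel
theorem p0u1336 : ∀ k, 0 ≤ k → k < 12033 → pointOk (k * 22) = true := between_extend pointOk 22 0 12024 9 (p0u1335) p0r1336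

theorem p0r1337 : allRange pointOk 22 12033 9 = true := by decide +kernel
theorem p0u1337 : ∀ k, 0 ≤ k → k < 12042 → pointOk (k * 22) = true := between_extend pointOk 22 0 12033 9 (p0u1336) p0r1337

theorem p0r1338 : allRange pointOk 22 12042 9 = true := by decide +kernel
theorem p0u1338 : ∀ k, 0 ≤ k → k < 12051 → pointOk (k * 22) = true := between_extend pointOk 22 0 12042 9 (p0u1337) p0r1338

theorem p0r1339 : allRange pointOk 22 12051 9 = true := by decide +kernel
theorem p0u1339 : ∀ k, 0 ≤ k → k < 12060 → pointOk (k * 22) = true := between_extend pointOk 22 0 12051 9 (p0u1338) p0r1339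

theorem p0r1340 : allRange pointOk 22 12060 9 = true := by decide +kernel
theorem p0u1340 : ∀ k, 0 ≤ k → k < 12069 → pointOk (k * 22) = true := between_extend pointOk 22 0 12060 9 (p0u1339) p0r1340

theorem p0r1341 : allRange pointOk 22 12069 9 = true := by decide +kernel
theorem p0u1341 : ∀ k, 0 ≤ k → k < 12078 → pointOk (k * 22) = true := between_extend pointOk 22 0 12069 9 (p0u1340) p0r1341

theorem p0r1342 : allRange pointOk 22 12078 9 = true := by decide +kernel
theorem p0u1342 : ∀ k, 0 ≤ k → k < 12087 → pointOk (k * 22) = true := between_extend pointOk 22 0 12078 9 (p0u1341) p0r1342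

theorem p0r1343 : allRange pointOk 22 12087 9 = true := by decide +kernel
theorem p0u1343 : ∀ k, 0 ≤ k → k < 12096 → pointOk (k * 22) = true := between_extend pointOk 22 0 12087 9 (p0u1342) p0r1343

theorem p0r1344 : allRange pointOk 22 12096 9 = true := by decide +kernel
theorem p0u1344 : ∀ k, 0 ≤ k → k < 12105 → pointOk (k * 22) = true := between_extend pointOk 22 0 12096 9 (p0u1343) p0r1344

theorem p0r1345 : allRange pointOk 22 12105 9 = true := by decide +kernel
theorem p0u1345 : ∀ k, 0 ≤ k → k < 12114 → pointOk (k * 22) = true := between_extend pointOk 22 0 12105 9 (p0u1344) p0r1345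

theorem p0r1346 : allRange pointOk 22 12114 9 = true := by decide +kernel
theorem p0u1346 : ∀ k, 0 ≤ k → k < 12123 → pointOk (k * 22) = true := between_extend pointOk 22 0 12114 9 (p0u1345) p0r1346

theorem p0r1347 : allRange pointOk 22 12123 9 = true := by decide +kernel
theorem p0u1347 : ∀ k, 0 ≤ k → k < 12132 → pointOk (k * 22) = true := between_extend pointOk 22 0 12123 9 (p0u1346) p0r1347

theorem p0r1348 : allRange pointOk 22 12132 9 = true := by decide +kernel
theorem p0u1348 : ∀ k, 0 ≤ k → k < 12141 → pointOk (k * 22) = true := between_extend pointOk 22 0 12132 9 (p0u1347) p0r1348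

theorem p0r1349 : allRange pointOk 22 12141 9 = true := by decide +kernel
theorem p0u1349 : ∀ k, 0 ≤ k → k < 12150 → pointOk (k * 22) = true := between_extend pointOk 22 0 12141 9 (p0u1348) p0r1349

theorem p0r1350 : allRange pointOk 22 12150 9 = true := by decide +kernel
theorem p0u1350 : ∀ k, 0 ≤ k → k < 12159 → pointOk (k * 22) = true := between_extend pointOk 22 0 12150 9 (p0u1349) p0r1350

theorem p0r1351 : allRange pointOk 22 12159 9 = true := by decide +kernel
theorem p0u1351 : ∀ k, 0 ≤ k → k < 12168 → pointOk (k * 22) = true := between_extend pointOk 22 0 12159 9 (p0u1350) p0r1351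

theorem p0r1352 : allRange pointOk 22 12168 9 = true := by decide +kernel
theorem p0u1352 : ∀ k, 0 ≤ k → k < 12177 → pointOk (k * 22) = true := between_extend pointOk 22 0 12168 9 (p0u1351) p0r1352

theorem p0r1353 : allRange pointOk 22 12177 9 = true := by decide +kernel
theorem p0u1353 : ∀ k, 0 ≤ k → k < 12186 → pointOk (k * 22) = true := between_extend pointOk 22 0 12177 9 (p0u1352) p0r1353

theorem p0r1354 : allRange pointOk 22 12186 9 = true := by decide +kernel
theorem p0u1354 : ∀ k, 0 ≤ k → k < 12195 → pointOk (k * 22) = true := between_extend pointOk 22 0 12186 9 (p0u1353) p0r1354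

theorem p0r1355 : allRange pointOk 22 12195 9 = true := by decide +kernel
theorem p0u1355 : ∀ k, 0 ≤ k → k < 12204 → pointOk (k * 22) = true := between_extend pointOk 22 0 12195 9 (p0u1354) p0r1355

theorem p0r1356 : allRange pointOk 22 12204 9 = true := by decide +kernel
theorem p0u1356 : ∀ k, 0 ≤ k → k < 12213 → pointOk (k * 22) = true := between_extend pointOk 22 0 12204 9 (p0u1355) p0r1356

theorem p0r1357 : allRange pointOk 22 12213 9 = true := by decide +kernel
theorem p0u1357 : ∀ k, 0 ≤ k → k < 12222 → pointOk (k * 22) = true := between_extend pointOk 22 0 12213 9 (p0u1356) p0r1357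

theorem p0r1358 : allRange pointOk 22 12222 9 = true := by decide +kernel
theorem p0u1358 : ∀ k, 0 ≤ k → k < 12231 → pointOk (k * 22) = true := between_extend pointOk 22 0 12222 9 (p0u1357) p0r1358

theorem p0r1359 : allRange pointOk 22 12231 9 = true := by decide +kernel
theorem p0u1359 : ∀ k, 0 ≤ k → k < 12240 → pointOk (k * 22) = true := between_extend pointOk 22 0 12231 9 (p0u1358) p0r1359

theorem p0r1360 : allRange pointOk 22 12240 9 = true := by decide +kernel
theorem p0u1360 : ∀ k, 0 ≤ k → k < 12249 → pointOk (k * 22) = true := between_extend pointOk 22 0 12240 9 (p0u1359) p0r1360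

theorem p0r1361 : allRange pointOk 22 12249 9 = true := by decide +kernel
theorem p0u1361 : ∀ k, 0 ≤ k → k < 12258 → pointOk (k * 22) = true := between_extend pointOk 22 0 12249 9 (p0u1360) p0r1361

theorem p0r1362 : allRange pointOk 22 12258 9 = true := by decide +kernel
theorem p0u1362 : ∀ k, 0 ≤ k → k < 12267 → pointOk (k * 22) = true := between_extend pointOk 22 0 12258 9 (p0u1361) p0r1362

theorem p0r1363 : allRange pointOk 22 12267 9 = true := by decide +kernel
theorem p0u1363 : ∀ k, 0 ≤ k → k < 12276 → pointOk (k * 22) = true := between_extend pointOk 22 0 12267 9 (p0u1362) p0r1363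

theorem p0r1364 : allRange pointOk 22 12276 9 = true := by decide +kernel
theorem p0u1364 : ∀ k, 0 ≤ k → k < 12285 → pointOk (k * 22) = true := between_extend pointOk 22 0 12276 9 (p0u1363) p0r1364

theorem p0r1365 : allRange pointOk 22 12285 9 = true := by decide +kernel
theorem p0u1365 : ∀ k, 0 ≤ k → k < 12294 → pointOk (k * 22) = true := between_extend pointOk 22 0 12285 9 (p0u1364) p0r1365

theorem p0r1366 : allRange pointOk 22 12294 9 = true := by decide +kernel
theorem p0u1366 : ∀ k, 0 ≤ k → k < 12303 → pointOk (k * 22) = true := between_extend pointOk 22 0 12294 9 (p0u1365) p0r1366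

theorem p0r1367 : allRange pointOk 22 12303 9 = true := by decide +kernel
theorem p0u1367 : ∀ k, 0 ≤ k → k < 12312 → pointOk (k * 22) = true := between_extend pointOk 22 0 12303 9 (p0u1366) p0r1367

theorem p0r1368 : allRange pointOk 22 12312 9 = true := by decide +kernel
theorem p0u1368 : ∀ k, 0 ≤ k → k < 12321 → pointOk (k * 22) = true := between_extend pointOk 22 0 12312 9 (p0u1367) p0r1368

theorem p0r1369 : allRange pointOk 22 12321 9 = true := by decide +kernel
theorem p0u1369 : ∀ k, 0 ≤ k → k < 12330 → pointOk (k * 22) = true := between_extend pointOk 22 0 12321 9 (p0u1368) p0r1369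

theorem p0r1370 : allRange pointOk 22 12330 9 = true := by decide +kernel
theorem p0u1370 : ∀ k, 0 ≤ k → k < 12339 → pointOk (k * 22) = true := between_extend pointOk 22 0 12330 9 (p0u1369) p0r1370

theorem p0r1371 : allRange pointOk 22 12339 9 = true := by decide +kernel
theorem p0u1371 : ∀ k, 0 ≤ k → k < 12348 → pointOk (k * 22) = true := between_extend pointOk 22 0 12339 9 (p0u1370) p0r1371

theorem p0r1372 : allRange pointOk 22 12348 9 = true := by decide +kernel
theorem p0u1372 : ∀ k, 0 ≤ k → k < 12357 → pointOk (k * 22) = true := between_extend pointOk 22 0 12348 9 (p0u1371) p0r1372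

theorem p0r1373 : allRange pointOk 22 12357 9 = true := by decide +kernel
theorem p0u1373 : ∀ k, 0 ≤ k → k < 12366 → pointOk (k * 22) = true := between_extend pointOk 22 0 12357 9 (p0u1372) p0r1373

theorem p0r1374 : allRange pointOk 22 12366 9 = true := by decide +kernel
theorem p0u1374 : ∀ k, 0 ≤ k → k < 12375 → pointOk (k * 22) = true := between_extend pointOk 22 0 12366 9 (p0u1373) p0r1374

theorem p0r1375 : allRange pointOk 22 12375 9 = true := by decide +kernel
theorem p0u1375 : ∀ k, 0 ≤ k → k < 12384 → pointOk (k * 22) = true := between_extend pointOk 22 0 12375 9 (p0u1374) p0r1375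

theorem p0r1376 : allRange pointOk 22 12384 9 = true := by decide +kernel
theorem p0u1376 : ∀ k, 0 ≤ k → k < 12393 → pointOk (k * 22) = true := between_extend pointOk 22 0 12384 9 (p0u1375) p0r1376

theorem p0r1377 : allRange pointOk 22 12393 9 = true := by decide +kernel
theorem p0u1377 : ∀ k, 0 ≤ k → k < 12402 → pointOk (k * 22) = true := between_extend pointOk 22 0 12393 9 (p0u1376) p0r1377

theorem p0r1378 : allRange pointOk 22 12402 9 = true := by decide +kernel
theorem p0u1378 : ∀ k, 0 ≤ k → k < 12411 → pointOk (k * 22) = true := between_extend pointOk 22 0 12402 9 (p0u1377) p0r1378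

theorem p0r1379 : allRange pointOk 22 12411 9 = true := by decide +kernel
theorem p0u1379 : ∀ k, 0 ≤ k → k < 12420 → pointOk (k * 22) = true := between_extend pointOk 22 0 12411 9 (p0u1378) p0r1379

theorem p0r1380 : allRange pointOk 22 12420 9 = true := by decide +kernel
theorem p0u1380 : ∀ k, 0 ≤ k → k < 12429 → pointOk (k * 22) = true := between_extend pointOk 22 0 12420 9 (p0u1379) p0r1380

theorem p0r1381 : allRange pointOk 22 12429 9 = true := by decide +kernel
theorem p0u1381 : ∀ k, 0 ≤ k → k < 12438 → pointOk (k * 22) = true := between_extend pointOk 22 0 12429 9 (p0u1380) p0r1381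

theorem p0r1382 : allRange pointOk 22 12438 9 = true := by decide +kernel
theorem p0u1382 : ∀ k, 0 ≤ k → k < 12447 → pointOk (k * 22) = true := between_extend pointOk 22 0 12438 9 (p0u1381) p0r1382

theorem p0r1383 : allRange pointOk 22 12447 9 = true := by decide +kernel
theorem p0u1383 : ∀ k, 0 ≤ k → k < 12456 → pointOk (k * 22) = true := between_extend pointOk 22 0 12447 9 (p0u1382) p0r1383

theorem p0r1384 : allRange pointOk 22 12456 9 = true := by decide +kernel
theorem p0u1384 : ∀ k, 0 ≤ k → k < 12465 → pointOk (k * 22) = true := between_extend pointOk 22 0 12456 9 (p0u1383) p0r1384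

theorem p0r1385 : allRange pointOk 22 12465 9 = true := by decide +kernel
theorem p0u1385 : ∀ k, 0 ≤ k → k < 12474 → pointOk (k * 22) = true := between_extend pointOk 22 0 12465 9 (p0u1384) p0r1385

theorem p0r1386 : allRange pointOk 22 12474 9 = true := by decide +kernel
theorem p0u1386 : ∀ k, 0 ≤ k → k < 12483 → pointOk (k * 22) = true := between_extend pointOk 22 0 12474 9 (p0u1385) p0r1386

theorem p0r1387 : allRange pointOk 22 12483 9 = true := by decide +kernel
theorem p0u1387 : ∀ k, 0 ≤ k → k < 12492 → pointOk (k * 22) = true := between_extend pointOk 22 0 12483 9 (p0u1386) p0r1387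

theorem p0r1388 : allRange pointOk 22 12492 9 = true := by decide +kernel
theorem p0u1388 : ∀ k, 0 ≤ k → k < 12501 → pointOk (k * 22) = true := between_extend pointOk 22 0 12492 9 (p0u1387) p0r1388

theorem p0r1389 : allRange pointOk 22 12501 9 = true := by decide +kernel
theorem p0u1389 : ∀ k, 0 ≤ k → k < 12510 → pointOk (k * 22) = true := between_extend pointOk 22 0 12501 9 (p0u1388) p0r1389

theorem p0r1390 : allRange pointOk 22 12510 9 = true := by decide +kernel
theorem p0u1390 : ∀ k, 0 ≤ k → k < 12519 → pointOk (k * 22) = true := between_extend pointOk 22 0 12510 9 (p0u1389) p0r1390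

theorem p0r1391 : allRange pointOk 22 12519 9 = true := by decide +kernel
theorem p0u1391 : ∀ k, 0 ≤ k → k < 12528 → pointOk (k * 22) = true := between_extend pointOk 22 0 12519 9 (p0u1390) p0r1391

theorem p0r1392 : allRange pointOk 22 12528 9 = true := by decide +kernel
theorem p0u1392 : ∀ k, 0 ≤ k → k < 12537 → pointOk (k * 22) = true := between_extend pointOk 22 0 12528 9 (p0u1391) p0r1392

theorem p0r1393 : allRange pointOk 22 12537 9 = true := by decide +kernel
theorem p0u1393 : ∀ k, 0 ≤ k → k < 12546 → pointOk (k * 22) = true := between_extend pointOk 22 0 12537 9 (p0u1392) p0r1393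

theorem p0r1394 : allRange pointOk 22 12546 9 = true := by decide +kernel
theorem p0u1394 : ∀ k, 0 ≤ k → k < 12555 → pointOk (k * 22) = true := between_extend pointOk 22 0 12546 9 (p0u1393) p0r1394

theorem p0r1395 : allRange pointOk 22 12555 9 = true := by decide +kernel
theorem p0u1395 : ∀ k, 0 ≤ k → k < 12564 → pointOk (k * 22) = true := between_extend pointOk 22 0 12555 9 (p0u1394) p0r1395

theorem p0r1396 : allRange pointOk 22 12564 9 = true := by decide +kernel
theorem p0u1396 : ∀ k, 0 ≤ k → k < 12573 → pointOk (k * 22) = true := between_extend pointOk 22 0 12564 9 (p0u1395) p0r1396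

theorem p0r1397 : allRange pointOk 22 12573 9 = true := by decide +kernel
theorem p0u1397 : ∀ k, 0 ≤ k → k < 12582 → pointOk (k * 22) = true := between_extend pointOk 22 0 12573 9 (p0u1396) p0r1397

theorem p0r1398 : allRange pointOk 22 12582 9 = true := by decide +kernel
theorem p0u1398 : ∀ k, 0 ≤ k → k < 12591 → pointOk (k * 22) = true := between_extend pointOk 22 0 12582 9 (p0u1397) p0r1398

theorem p0r1399 : allRange pointOk 22 12591 9 = true := by decide +kernel
theorem p0u1399 : ∀ k, 0 ≤ k → k < 12600 → pointOk (k * 22) = true := between_extend pointOk 22 0 12591 9 (p0u1398) p0r1399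

theorem p0r1400 : allRange pointOk 22 12600 9 = true := by decide +kernel
theorem p0u1400 : ∀ k, 0 ≤ k → k < 12609 → pointOk (k * 22) = true := between_extend pointOk 22 0 12600 9 (p0u1399) p0r1400

theorem p0r1401 : allRange pointOk 22 12609 9 = true := by decide +kernel
theorem p0u1401 : ∀ k, 0 ≤ k → k < 12618 → pointOk (k * 22) = true := between_extend pointOk 22 0 12609 9 (p0u1400) p0r1401

theorem p0r1402 : allRange pointOk 22 12618 9 = true := by decide +kernel
theorem p0u1402 : ∀ k, 0 ≤ k → k < 12627 → pointOk (k * 22) = true := between_extend pointOk 22 0 12618 9 (p0u1401) p0r1402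

theorem p0r1403 : allRange pointOk 22 12627 9 = true := by decide +kernel
theorem p0u1403 : ∀ k, 0 ≤ k → k < 12636 → pointOk (k * 22) = true := between_extend pointOk 22 0 12627 9 (p0u1402) p0r1403

theorem p0r1404 : allRange pointOk 22 12636 9 = true := by decide +kernel
theorem p0u1404 : ∀ k, 0 ≤ k → k < 12645 → pointOk (k * 22) = true := between_extend pointOk 22 0 12636 9 (p0u1403) p0r1404

theorem p0r1405 : allRange pointOk 22 12645 9 = true := by decide +kernel
theorem p0u1405 : ∀ k, 0 ≤ k → k < 12654 → pointOk (k * 22) = true := between_extend pointOk 22 0 12645 9 (p0u1404) p0r1405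

theorem p0r1406 : allRange pointOk 22 12654 9 = true := by decide +kernel
theorem p0u1406 : ∀ k, 0 ≤ k → k < 12663 → pointOk (k * 22) = true := between_extend pointOk 22 0 12654 9 (p0u1405) p0r1406

theorem p0r1407 : allRange pointOk 22 12663 9 = true := by decide +kernel
theorem p0u1407 : ∀ k, 0 ≤ k → k < 12672 → pointOk (k * 22) = true := between_extend pointOk 22 0 12663 9 (p0u1406) p0r1407

theorem p0r1408 : allRange pointOk 22 12672 9 = true := by decide +kernel
theorem p0u1408 : ∀ k, 0 ≤ k → k < 12681 → pointOk (k * 22) = true := between_extend pointOk 22 0 12672 9 (p0u1407) p0r1408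

theorem p0r1409 : allRange pointOk 22 12681 9 = true := by decide +kernel
theorem p0u1409 : ∀ k, 0 ≤ k → k < 12690 → pointOk (k * 22) = true := between_extend pointOk 22 0 12681 9 (p0u1408) p0r1409

theorem p0r1410 : allRange pointOk 22 12690 9 = true := by decide +kernel
theorem p0u1410 : ∀ k, 0 ≤ k → k < 12699 → pointOk (k * 22) = true := between_extend pointOk 22 0 12690 9 (p0u1409) p0r1410

theorem p0r1411 : allRange pointOk 22 12699 9 = true := by decide +kernel
theorem p0u1411 : ∀ k, 0 ≤ k → k < 12708 → pointOk (k * 22) = true := between_extend pointOk 22 0 12699 9 (p0u1410) p0r1411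

theorem p0r1412 : allRange pointOk 22 12708 9 = true := by decide +kernel
theorem p0u1412 : ∀ k, 0 ≤ k → k < 12717 → pointOk (k * 22) = true := between_extend pointOk 22 0 12708 9 (p0u1411) p0r1412

theorem p0r1413 : allRange pointOk 22 12717 9 = true := by decide +kernel
theorem p0u1413 : ∀ k, 0 ≤ k → k < 12726 → pointOk (k * 22) = true := between_extend pointOk 22 0 12717 9 (p0u1412) p0r1413

theorem p0r1414 : allRange pointOk 22 12726 9 = true := by decide +kernel
theorem p0u1414 : ∀ k, 0 ≤ k → k < 12735 → pointOk (k * 22) = true := between_extend pointOk 22 0 12726 9 (p0u1413) p0r1414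

theorem p0r1415 : allRange pointOk 22 12735 9 = true := by decide +kernel
theorem p0u1415 : ∀ k, 0 ≤ k → k < 12744 → pointOk (k * 22) = true := between_extend pointOk 22 0 12735 9 (p0u1414) p0r1415

theorem p0r1416 : allRange pointOk 22 12744 9 = true := by decide +kernel
theorem p0u1416 : ∀ k, 0 ≤ k → k < 12753 → pointOk (k * 22) = true := between_extend pointOk 22 0 12744 9 (p0u1415) p0r1416

theorem p0r1417 : allRange pointOk 22 12753 9 = true := by decide +kernel
theorem p0u1417 : ∀ k, 0 ≤ k → k < 12762 → pointOk (k * 22) = true := between_extend pointOk 22 0 12753 9 (p0u1416) p0r1417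

theorem p0r1418 : allRange pointOk 22 12762 9 = true := by decide +kernel
theorem p0u1418 : ∀ k, 0 ≤ k → k < 12771 → pointOk (k * 22) = true := between_extend pointOk 22 0 12762 9 (p0u1417) p0r1418

theorem p0r1419 : allRange pointOk 22 12771 9 = true := by decide +kernel
theorem p0u1419 : ∀ k, 0 ≤ k → k < 12780 → pointOk (k * 22) = true := between_extend pointOk 22 0 12771 9 (p0u1418) p0r1419

theorem p0r1420 : allRange pointOk 22 12780 9 = true := by decide +kernel
theorem p0u1420 : ∀ k, 0 ≤ k → k < 12789 → pointOk (k * 22) = true := between_extend pointOk 22 0 12780 9 (p0u1419) p0r1420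

theorem p0r1421 : allRange pointOk 22 12789 9 = true := by decide +kernel
theorem p0u1421 : ∀ k, 0 ≤ k → k < 12798 → pointOk (k * 22) = true := between_extend pointOk 22 0 12789 9 (p0u1420) p0r1421

theorem p0r1422 : allRange pointOk 22 12798 9 = true := by decide +kernel
theorem p0u1422 : ∀ k, 0 ≤ k → k < 12807 → pointOk (k * 22) = true := between_extend pointOk 22 0 12798 9 (p0u1421) p0r1422

theorem p0r1423 : allRange pointOk 22 12807 9 = true := by decide +kernel
theorem p0u1423 : ∀ k, 0 ≤ k → k < 12816 → pointOk (k * 22) = true := between_extend pointOk 22 0 12807 9 (p0u1422) p0r1423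

theorem p0r1424 : allRange pointOk 22 12816 9 = true := by decide +kernel
theorem p0u1424 : ∀ k, 0 ≤ k → k < 12825 → pointOk (k * 22) = true := between_extend pointOk 22 0 12816 9 (p0u1423) p0r1424

theorem p0r1425 : allRange pointOk 22 12825 9 = true := by decide +kernel
theorem p0u1425 : ∀ k, 0 ≤ k → k < 12834 → pointOk (k * 22) = true := between_extend pointOk 22 0 12825 9 (p0u1424) p0r1425

theorem p0r1426 : allRange pointOk 22 12834 9 = true := by decide +kernel
theorem p0u1426 : ∀ k, 0 ≤ k → k < 12843 → pointOk (k * 22) = true := between_extend pointOk 22 0 12834 9 (p0u1425) p0r1426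

theorem p0r1427 : allRange pointOk 22 12843 9 = true := by decide +kernel
theorem p0u1427 : ∀ k, 0 ≤ k → k < 12852 → pointOk (k * 22) = true := between_extend pointOk 22 0 12843 9 (p0u1426) p0r1427

theorem p0r1428 : allRange pointOk 22 12852 9 = true := by decide +kernel
theorem p0u1428 : ∀ k, 0 ≤ k → k < 12861 → pointOk (k * 22) = true := between_extend pointOk 22 0 12852 9 (p0u1427) p0r1428

theorem p0r1429 : allRange pointOk 22 12861 9 = true := by decide +kernel
theorem p0u1429 : ∀ k, 0 ≤ k → k < 12870 → pointOk (k * 22) = true := between_extend pointOk 22 0 12861 9 (p0u1428) p0r1429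

theorem p0r1430 : allRange pointOk 22 12870 9 = true := by decide +kernel
theorem p0u1430 : ∀ k, 0 ≤ k → k < 12879 → pointOk (k * 22) = true := between_extend pointOk 22 0 12870 9 (p0u1429) p0r1430

theorem p0r1431 : allRange pointOk 22 12879 9 = true := by decide +kernel
theorem p0u1431 : ∀ k, 0 ≤ k → k < 12888 → pointOk (k * 22) = true := between_extend pointOk 22 0 12879 9 (p0u1430) p0r1431

theorem p0r1432 : allRange pointOk 22 12888 9 = true := by decide +kernel
theorem p0u1432 : ∀ k, 0 ≤ k → k < 12897 → pointOk (k * 22) = true := between_extend pointOk 22 0 12888 9 (p0u1431) p0r1432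

theorem p0r1433 : allRange pointOk 22 12897 9 = true := by decide +kernel
theorem p0u1433 : ∀ k, 0 ≤ k → k < 12906 → pointOk (k * 22) = true := between_extend pointOk 22 0 12897 9 (p0u1432) p0r1433

theorem p0r1434 : allRange pointOk 22 12906 9 = true := by decide +kernel
theorem p0u1434 : ∀ k, 0 ≤ k → k < 12915 → pointOk (k * 22) = true := between_extend pointOk 22 0 12906 9 (p0u1433) p0r1434

theorem p0r1435 : allRange pointOk 22 12915 9 = true := by decide +kernel
theorem p0u1435 : ∀ k, 0 ≤ k → k < 12924 → pointOk (k * 22) = true := between_extend pointOk 22 0 12915 9 (p0u1434) p0r1435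

theorem p0r1436 : allRange pointOk 22 12924 9 = true := by decide +kernel
theorem p0u1436 : ∀ k, 0 ≤ k → k < 12933 → pointOk (k * 22) = true := between_extend pointOk 22 0 12924 9 (p0u1435) p0r1436

theorem p0r1437 : allRange pointOk 22 12933 9 = true := by decide +kernel
theorem p0u1437 : ∀ k, 0 ≤ k → k < 12942 → pointOk (k * 22) = true := between_extend pointOk 22 0 12933 9 (p0u1436) p0r1437

theorem p0r1438 : allRange pointOk 22 12942 9 = true := by decide +kernel
theorem p0u1438 : ∀ k, 0 ≤ k → k < 12951 → pointOk (k * 22) = true := between_extend pointOk 22 0 12942 9 (p0u1437) p0r1438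

theorem p0r1439 : allRange pointOk 22 12951 9 = true := by decide +kernel
theorem p0u1439 : ∀ k, 0 ≤ k → k < 12960 → pointOk (k * 22) = true := between_extend pointOk 22 0 12951 9 (p0u1438) p0r1439

theorem p0r1440 : allRange pointOk 22 12960 9 = true := by decide +kernel
theorem p0u1440 : ∀ k, 0 ≤ k → k < 12969 → pointOk (k * 22) = true := between_extend pointOk 22 0 12960 9 (p0u1439) p0r1440

theorem p0r1441 : allRange pointOk 22 12969 9 = true := by decide +kernel
theorem p0u1441 : ∀ k, 0 ≤ k → k < 12978 → pointOk (k * 22) = true := between_extend pointOk 22 0 12969 9 (p0u1440) p0r1441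

theorem p0r1442 : allRange pointOk 22 12978 9 = true := by decide +kernel
theorem p0u1442 : ∀ k, 0 ≤ k → k < 12987 → pointOk (k * 22) = true := between_extend pointOk 22 0 12978 9 (p0u1441) p0r1442

theorem p0r1443 : allRange pointOk 22 12987 9 = true := by decide +kernel
theorem p0u1443 : ∀ k, 0 ≤ k → k < 12996 → pointOk (k * 22) = true := between_extend pointOk 22 0 12987 9 (p0u1442) p0r1443

theorem p0r1444 : allRange pointOk 22 12996 9 = true := by decide +kernel
theorem p0u1444 : ∀ k, 0 ≤ k → k < 13005 → pointOk (k * 22) = true := between_extend pointOk 22 0 12996 9 (p0u1443) p0r1444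

theorem p0r1445 : allRange pointOk 22 13005 9 = true := by decide +kernel
theorem p0u1445 : ∀ k, 0 ≤ k → k < 13014 → pointOk (k * 22) = true := between_extend pointOk 22 0 13005 9 (p0u1444) p0r1445

theorem p0r1446 : allRange pointOk 22 13014 9 = true := by decide +kernel
theorem p0u1446 : ∀ k, 0 ≤ k → k < 13023 → pointOk (k * 22) = true := between_extend pointOk 22 0 13014 9 (p0u1445) p0r1446

theorem p0r1447 : allRange pointOk 22 13023 9 = true := by decide +kernel
theorem p0u1447 : ∀ k, 0 ≤ k → k < 13032 → pointOk (k * 22) = true := between_extend pointOk 22 0 13023 9 (p0u1446) p0r1447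

theorem p0r1448 : allRange pointOk 22 13032 9 = true := by decide +kernel
theorem p0u1448 : ∀ k, 0 ≤ k → k < 13041 → pointOk (k * 22) = true := between_extend pointOk 22 0 13032 9 (p0u1447) p0r1448

theorem p0r1449 : allRange pointOk 22 13041 9 = true := by decide +kernel
theorem p0u1449 : ∀ k, 0 ≤ k → k < 13050 → pointOk (k * 22) = true := between_extend pointOk 22 0 13041 9 (p0u1448) p0r1449

theorem p0r1450 : allRange pointOk 22 13050 9 = true := by decide +kernel
theorem p0u1450 : ∀ k, 0 ≤ k → k < 13059 → pointOk (k * 22) = true := between_extend pointOk 22 0 13050 9 (p0u1449) p0r1450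

theorem p0r1451 : allRange pointOk 22 13059 9 = true := by decide +kernel
theorem p0u1451 : ∀ k, 0 ≤ k → k < 13068 → pointOk (k * 22) = true := between_extend pointOk 22 0 13059 9 (p0u1450) p0r1451

theorem p0r1452 : allRange pointOk 22 13068 9 = true := by decide +kernel
theorem p0u1452 : ∀ k, 0 ≤ k → k < 13077 → pointOk (k * 22) = true := between_extend pointOk 22 0 13068 9 (p0u1451) p0r1452

theorem p0r1453 : allRange pointOk 22 13077 9 = true := by decide +kernel
theorem p0u1453 : ∀ k, 0 ≤ k → k < 13086 → pointOk (k * 22) = true := between_extend pointOk 22 0 13077 9 (p0u1452) p0r1453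

theorem p0r1454 : allRange pointOk 22 13086 9 = true := by decide +kernel
theorem p0u1454 : ∀ k, 0 ≤ k → k < 13095 → pointOk (k * 22) = true := between_extend pointOk 22 0 13086 9 (p0u1453) p0r1454

theorem p0r1455 : allRange pointOk 22 13095 9 = true := by decide +kernel
theorem p0u1455 : ∀ k, 0 ≤ k → k < 13104 → pointOk (k * 22) = true := between_extend pointOk 22 0 13095 9 (p0u1454) p0r1455

theorem p0r1456 : allRange pointOk 22 13104 9 = true := by decide +kernel
theorem p0u1456 : ∀ k, 0 ≤ k → k < 13113 → pointOk (k * 22) = true := between_extend pointOk 22 0 13104 9 (p0u1455) p0r1456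

theorem p0r1457 : allRange pointOk 22 13113 9 = true := by decide +kernel
theorem p0u1457 : ∀ k, 0 ≤ k → k < 13122 → pointOk (k * 22) = true := between_extend pointOk 22 0 13113 9 (p0u1456) p0r1457

theorem p0r1458 : allRange pointOk 22 13122 9 = true := by decide +kernel
theorem p0u1458 : ∀ k, 0 ≤ k → k < 13131 → pointOk (k * 22) = true := between_extend pointOk 22 0 13122 9 (p0u1457) p0r1458

theorem p0r1459 : allRange pointOk 22 13131 9 = true := by decide +kernel
theorem p0u1459 : ∀ k, 0 ≤ k → k < 13140 → pointOk (k * 22) = true := between_extend pointOk 22 0 13131 9 (p0u1458) p0r1459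

theorem p0r1460 : allRange pointOk 22 13140 9 = true := by decide +kernel
theorem p0u1460 : ∀ k, 0 ≤ k → k < 13149 → pointOk (k * 22) = true := between_extend pointOk 22 0 13140 9 (p0u1459) p0r1460

theorem p0r1461 : allRange pointOk 22 13149 9 = true := by decide +kernel
theorem p0u1461 : ∀ k, 0 ≤ k → k < 13158 → pointOk (k * 22) = true := between_extend pointOk 22 0 13149 9 (p0u1460) p0r1461

theorem p0r1462 : allRange pointOk 22 13158 9 = true := by decide +kernel
theorem p0u1462 : ∀ k, 0 ≤ k → k < 13167 → pointOk (k * 22) = true := between_extend pointOk 22 0 13158 9 (p0u1461) p0r1462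

theorem p0r1463 : allRange pointOk 22 13167 9 = true := by decide +kernel
theorem p0u1463 : ∀ k, 0 ≤ k → k < 13176 → pointOk (k * 22) = true := between_extend pointOk 22 0 13167 9 (p0u1462) p0r1463

theorem p0r1464 : allRange pointOk 22 13176 9 = true := by decide +kernel
theorem p0u1464 : ∀ k, 0 ≤ k → k < 13185 → pointOk (k * 22) = true := between_extend pointOk 22 0 13176 9 (p0u1463) p0r1464

theorem p0r1465 : allRange pointOk 22 13185 9 = true := by decide +kernel
theorem p0u1465 : ∀ k, 0 ≤ k → k < 13194 → pointOk (k * 22) = true := between_extend pointOk 22 0 13185 9 (p0u1464) p0r1465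

theorem p0r1466 : allRange pointOk 22 13194 9 = true := by decide +kernel
theorem p0u1466 : ∀ k, 0 ≤ k → k < 13203 → pointOk (k * 22) = true := between_extend pointOk 22 0 13194 9 (p0u1465) p0r1466

theorem p0r1467 : allRange pointOk 22 13203 9 = true := by decide +kernel
theorem p0u1467 : ∀ k, 0 ≤ k → k < 13212 → pointOk (k * 22) = true := between_extend pointOk 22 0 13203 9 (p0u1466) p0r1467

theorem p0r1468 : allRange pointOk 22 13212 9 = true := by decide +kernel
theorem p0u1468 : ∀ k, 0 ≤ k → k < 13221 → pointOk (k * 22) = true := between_extend pointOk 22 0 13212 9 (p0u1467) p0r1468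

theorem p0r1469 : allRange pointOk 22 13221 9 = true := by decide +kernel
theorem p0u1469 : ∀ k, 0 ≤ k → k < 13230 → pointOk (k * 22) = true := between_extend pointOk 22 0 13221 9 (p0u1468) p0r1469

theorem p0r1470 : allRange pointOk 22 13230 9 = true := by decide +kernel
theorem p0u1470 : ∀ k, 0 ≤ k → k < 13239 → pointOk (k * 22) = true := between_extend pointOk 22 0 13230 9 (p0u1469) p0r1470

theorem p0r1471 : allRange pointOk 22 13239 9 = true := by decide +kernel
theorem p0u1471 : ∀ k, 0 ≤ k → k < 13248 → pointOk (k * 22) = true := between_extend pointOk 22 0 13239 9 (p0u1470) p0r1471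

theorem p0r1472 : allRange pointOk 22 13248 9 = true := by decide +kernel
theorem p0u1472 : ∀ k, 0 ≤ k → k < 13257 → pointOk (k * 22) = true := between_extend pointOk 22 0 13248 9 (p0u1471) p0r1472

theorem p0r1473 : allRange pointOk 22 13257 9 = true := by decide +kernel
theorem p0u1473 : ∀ k, 0 ≤ k → k < 13266 → pointOk (k * 22) = true := between_extend pointOk 22 0 13257 9 (p0u1472) p0r1473

theorem p0r1474 : allRange pointOk 22 13266 9 = true := by decide +kernel
theorem p0u1474 : ∀ k, 0 ≤ k → k < 13275 → pointOk (k * 22) = true := between_extend pointOk 22 0 13266 9 (p0u1473) p0r1474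

theorem p0r1475 : allRange pointOk 22 13275 9 = true := by decide +kernel
theorem p0u1475 : ∀ k, 0 ≤ k → k < 13284 → pointOk (k * 22) = true := between_extend pointOk 22 0 13275 9 (p0u1474) p0r1475

theorem p0r1476 : allRange pointOk 22 13284 9 = true := by decide +kernel
theorem p0u1476 : ∀ k, 0 ≤ k → k < 13293 → pointOk (k * 22) = true := between_extend pointOk 22 0 13284 9 (p0u1475) p0r1476

theorem p0r1477 : allRange pointOk 22 13293 9 = true := by decide +kernel
theorem p0u1477 : ∀ k, 0 ≤ k → k < 13302 → pointOk (k * 22) = true := between_extend pointOk 22 0 13293 9 (p0u1476) p0r1477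

theorem p0r1478 : allRange pointOk 22 13302 9 = true := by decide +kernel
theorem p0u1478 : ∀ k, 0 ≤ k → k < 13311 → pointOk (k * 22) = true := between_extend pointOk 22 0 13302 9 (p0u1477) p0r1478

theorem p0r1479 : allRange pointOk 22 13311 9 = true := by decide +kernel
theorem p0u1479 : ∀ k, 0 ≤ k → k < 13320 → pointOk (k * 22) = true := between_extend pointOk 22 0 13311 9 (p0u1478) p0r1479

theorem p0r1480 : allRange pointOk 22 13320 9 = true := by decide +kernel
theorem p0u1480 : ∀ k, 0 ≤ k → k < 13329 → pointOk (k * 22) = true := between_extend pointOk 22 0 13320 9 (p0u1479) p0r1480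

theorem p0r1481 : allRange pointOk 22 13329 9 = true := by decide +kernel
theorem p0u1481 : ∀ k, 0 ≤ k → k < 13338 → pointOk (k * 22) = true := between_extend pointOk 22 0 13329 9 (p0u1480) p0r1481

theorem p0r1482 : allRange pointOk 22 13338 9 = true := by decide +kernel
theorem p0u1482 : ∀ k, 0 ≤ k → k < 13347 → pointOk (k * 22) = true := between_extend pointOk 22 0 13338 9 (p0u1481) p0r1482

theorem p0r1483 : allRange pointOk 22 13347 9 = true := by decide +kernel
theorem p0u1483 : ∀ k, 0 ≤ k → k < 13356 → pointOk (k * 22) = true := between_extend pointOk 22 0 13347 9 (p0u1482) p0r1483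

theorem p0r1484 : allRange pointOk 22 13356 9 = true := by decide +kernel
theorem p0u1484 : ∀ k, 0 ≤ k → k < 13365 → pointOk (k * 22) = true := between_extend pointOk 22 0 13356 9 (p0u1483) p0r1484

theorem p0r1485 : allRange pointOk 22 13365 9 = true := by decide +kernel
theorem p0u1485 : ∀ k, 0 ≤ k → k < 13374 → pointOk (k * 22) = true := between_extend pointOk 22 0 13365 9 (p0u1484) p0r1485

theorem p0r1486 : allRange pointOk 22 13374 9 = true := by decide +kernel
theorem p0u1486 : ∀ k, 0 ≤ k → k < 13383 → pointOk (k * 22) = true := between_extend pointOk 22 0 13374 9 (p0u1485) p0r1486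

theorem p0r1487 : allRange pointOk 22 13383 9 = true := by decide +kernel
theorem p0u1487 : ∀ k, 0 ≤ k → k < 13392 → pointOk (k * 22) = true := between_extend pointOk 22 0 13383 9 (p0u1486) p0r1487

theorem p0r1488 : allRange pointOk 22 13392 9 = true := by decide +kernel
theorem p0u1488 : ∀ k, 0 ≤ k → k < 13401 → pointOk (k * 22) = true := between_extend pointOk 22 0 13392 9 (p0u1487) p0r1488

theorem p0r1489 : allRange pointOk 22 13401 9 = true := by decide +kernel
theorem p0u1489 : ∀ k, 0 ≤ k → k < 13410 → pointOk (k * 22) = true := between_extend pointOk 22 0 13401 9 (p0u1488) p0r1489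

theorem p0r1490 : allRange pointOk 22 13410 9 = true := by decide +kernel
theorem p0u1490 : ∀ k, 0 ≤ k → k < 13419 → pointOk (k * 22) = true := between_extend pointOk 22 0 13410 9 (p0u1489) p0r1490

theorem p0r1491 : allRange pointOk 22 13419 9 = true := by decide +kernel
theorem p0u1491 : ∀ k, 0 ≤ k → k < 13428 → pointOk (k * 22) = true := between_extend pointOk 22 0 13419 9 (p0u1490) p0r1491

theorem p0r1492 : allRange pointOk 22 13428 9 = true := by decide +kernel
theorem p0u1492 : ∀ k, 0 ≤ k → k < 13437 → pointOk (k * 22) = true := between_extend pointOk 22 0 13428 9 (p0u1491) p0r1492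

theorem p0r1493 : allRange pointOk 22 13437 9 = true := by decide +kernel
theorem p0u1493 : ∀ k, 0 ≤ k → k < 13446 → pointOk (k * 22) = true := between_extend pointOk 22 0 13437 9 (p0u1492) p0r1493

theorem p0r1494 : allRange pointOk 22 13446 9 = true := by decide +kernel
theorem p0u1494 : ∀ k, 0 ≤ k → k < 13455 → pointOk (k * 22) = true := between_extend pointOk 22 0 13446 9 (p0u1493) p0r1494

theorem p0r1495 : allRange pointOk 22 13455 9 = true := by decide +kernel
theorem p0u1495 : ∀ k, 0 ≤ k → k < 13464 → pointOk (k * 22) = true := between_extend pointOk 22 0 13455 9 (p0u1494) p0r1495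

theorem p0r1496 : allRange pointOk 22 13464 9 = true := by decide +kernel
theorem p0u1496 : ∀ k, 0 ≤ k → k < 13473 → pointOk (k * 22) = true := between_extend pointOk 22 0 13464 9 (p0u1495) p0r1496

theorem p0r1497 : allRange pointOk 22 13473 9 = true := by decide +kernel
theorem p0u1497 : ∀ k, 0 ≤ k → k < 13482 → pointOk (k * 22) = true := between_extend pointOk 22 0 13473 9 (p0u1496) p0r1497

theorem p0r1498 : allRange pointOk 22 13482 9 = true := by decide +kernel
theorem p0u1498 : ∀ k, 0 ≤ k → k < 13491 → pointOk (k * 22) = true := between_extend pointOk 22 0 13482 9 (p0u1497) p0r1498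

theorem p0r1499 : allRange pointOk 22 13491 9 = true := by decide +kernel
theorem p0u1499 : ∀ k, 0 ≤ k → k < 13500 → pointOk (k * 22) = true := between_extend pointOk 22 0 13491 9 (p0u1498) p0r1499

theorem p0r1500 : allRange pointOk 22 13500 9 = true := by decide +kernel
theorem p0u1500 : ∀ k, 0 ≤ k → k < 13509 → pointOk (k * 22) = true := between_extend pointOk 22 0 13500 9 (p0u1499) p0r1500

theorem p0r1501 : allRange pointOk 22 13509 9 = true := by decide +kernel
theorem p0u1501 : ∀ k, 0 ≤ k → k < 13518 → pointOk (k * 22) = true := between_extend pointOk 22 0 13509 9 (p0u1500) p0r1501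

theorem p0r1502 : allRange pointOk 22 13518 9 = true := by decide +kernel
theorem p0u1502 : ∀ k, 0 ≤ k → k < 13527 → pointOk (k * 22) = true := between_extend pointOk 22 0 13518 9 (p0u1501) p0r1502

theorem p0r1503 : allRange pointOk 22 13527 9 = true := by decide +kernel
theorem p0u1503 : ∀ k, 0 ≤ k → k < 13536 → pointOk (k * 22) = true := between_extend pointOk 22 0 13527 9 (p0u1502) p0r1503

theorem p0r1504 : allRange pointOk 22 13536 9 = true := by decide +kernel
theorem p0u1504 : ∀ k, 0 ≤ k → k < 13545 → pointOk (k * 22) = true := between_extend pointOk 22 0 13536 9 (p0u1503) p0r1504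

theorem p0r1505 : allRange pointOk 22 13545 9 = true := by decide +kernel
theorem p0u1505 : ∀ k, 0 ≤ k → k < 13554 → pointOk (k * 22) = true := between_extend pointOk 22 0 13545 9 (p0u1504) p0r1505

theorem p0r1506 : allRange pointOk 22 13554 9 = true := by decide +kernel
theorem p0u1506 : ∀ k, 0 ≤ k → k < 13563 → pointOk (k * 22) = true := between_extend pointOk 22 0 13554 9 (p0u1505) p0r1506

theorem p0r1507 : allRange pointOk 22 13563 9 = true := by decide +kernel
theorem p0u1507 : ∀ k, 0 ≤ k → k < 13572 → pointOk (k * 22) = true := between_extend pointOk 22 0 13563 9 (p0u1506) p0r1507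

theorem p0r1508 : allRange pointOk 22 13572 9 = true := by decide +kernel
theorem p0u1508 : ∀ k, 0 ≤ k → k < 13581 → pointOk (k * 22) = true := between_extend pointOk 22 0 13572 9 (p0u1507) p0r1508

theorem p0r1509 : allRange pointOk 22 13581 9 = true := by decide +kernel
theorem p0u1509 : ∀ k, 0 ≤ k → k < 13590 → pointOk (k * 22) = true := between_extend pointOk 22 0 13581 9 (p0u1508) p0r1509

theorem p0r1510 : allRange pointOk 22 13590 9 = true := by decide +kernel
theorem p0u1510 : ∀ k, 0 ≤ k → k < 13599 → pointOk (k * 22) = true := between_extend pointOk 22 0 13590 9 (p0u1509) p0r1510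

theorem p0r1511 : allRange pointOk 22 13599 9 = true := by decide +kernel
theorem p0u1511 : ∀ k, 0 ≤ k → k < 13608 → pointOk (k * 22) = true := between_extend pointOk 22 0 13599 9 (p0u1510) p0r1511

theorem p0r1512 : allRange pointOk 22 13608 9 = true := by decide +kernel
theorem p0u1512 : ∀ k, 0 ≤ k → k < 13617 → pointOk (k * 22) = true := between_extend pointOk 22 0 13608 9 (p0u1511) p0r1512

theorem p0r1513 : allRange pointOk 22 13617 9 = true := by decide +kernel
theorem p0u1513 : ∀ k, 0 ≤ k → k < 13626 → pointOk (k * 22) = true := between_extend pointOk 22 0 13617 9 (p0u1512) p0r1513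

theorem p0r1514 : allRange pointOk 22 13626 9 = true := by decide +kernel
theorem p0u1514 : ∀ k, 0 ≤ k → k < 13635 → pointOk (k * 22) = true := between_extend pointOk 22 0 13626 9 (p0u1513) p0r1514

theorem p0r1515 : allRange pointOk 22 13635 9 = true := by decide +kernel
theorem p0u1515 : ∀ k, 0 ≤ k → k < 13644 → pointOk (k * 22) = true := between_extend pointOk 22 0 13635 9 (p0u1514) p0r1515

theorem p0r1516 : allRange pointOk 22 13644 9 = true := by decide +kernel
theorem p0u1516 : ∀ k, 0 ≤ k → k < 13653 → pointOk (k * 22) = true := between_extend pointOk 22 0 13644 9 (p0u1515) p0r1516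

theorem p0r1517 : allRange pointOk 22 13653 9 = true := by decide +kernel
theorem p0u1517 : ∀ k, 0 ≤ k → k < 13662 → pointOk (k * 22) = true := between_extend pointOk 22 0 13653 9 (p0u1516) p0r1517

theorem p0r1518 : allRange pointOk 22 13662 9 = true := by decide +kernel
theorem p0u1518 : ∀ k, 0 ≤ k → k < 13671 → pointOk (k * 22) = true := between_extend pointOk 22 0 13662 9 (p0u1517) p0r1518

theorem p0r1519 : allRange pointOk 22 13671 9 = true := by decide +kernel
theorem p0u1519 : ∀ k, 0 ≤ k → k < 13680 → pointOk (k * 22) = true := between_extend pointOk 22 0 13671 9 (p0u1518) p0r1519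

theorem p0r1520 : allRange pointOk 22 13680 9 = true := by decide +kernel
theorem p0u1520 : ∀ k, 0 ≤ k → k < 13689 → pointOk (k * 22) = true := between_extend pointOk 22 0 13680 9 (p0u1519) p0r1520

theorem p0r1521 : allRange pointOk 22 13689 9 = true := by decide +kernel
theorem p0u1521 : ∀ k, 0 ≤ k → k < 13698 → pointOk (k * 22) = true := between_extend pointOk 22 0 13689 9 (p0u1520) p0r1521

theorem p0r1522 : allRange pointOk 22 13698 9 = true := by decide +kernel
theorem p0u1522 : ∀ k, 0 ≤ k → k < 13707 → pointOk (k * 22) = true := between_extend pointOk 22 0 13698 9 (p0u1521) p0r1522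

theorem p0r1523 : allRange pointOk 22 13707 9 = true := by decide +kernel
theorem p0u1523 : ∀ k, 0 ≤ k → k < 13716 → pointOk (k * 22) = true := between_extend pointOk 22 0 13707 9 (p0u1522) p0r1523

theorem p0r1524 : allRange pointOk 22 13716 9 = true := by decide +kernel
theorem p0u1524 : ∀ k, 0 ≤ k → k < 13725 → pointOk (k * 22) = true := between_extend pointOk 22 0 13716 9 (p0u1523) p0r1524

theorem p0r1525 : allRange pointOk 22 13725 9 = true := by decide +kernel
theorem p0u1525 : ∀ k, 0 ≤ k → k < 13734 → pointOk (k * 22) = true := between_extend pointOk 22 0 13725 9 (p0u1524) p0r1525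

theorem p0r1526 : allRange pointOk 22 13734 9 = true := by decide +kernel
theorem p0u1526 : ∀ k, 0 ≤ k → k < 13743 → pointOk (k * 22) = true := between_extend pointOk 22 0 13734 9 (p0u1525) p0r1526

theorem p0r1527 : allRange pointOk 22 13743 9 = true := by decide +kernel
theorem p0u1527 : ∀ k, 0 ≤ k → k < 13752 → pointOk (k * 22) = true := between_extend pointOk 22 0 13743 9 (p0u1526) p0r1527

theorem p0r1528 : allRange pointOk 22 13752 9 = true := by decide +kernel
theorem p0u1528 : ∀ k, 0 ≤ k → k < 13761 → pointOk (k * 22) = true := between_extend pointOk 22 0 13752 9 (p0u1527) p0r1528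

theorem p0r1529 : allRange pointOk 22 13761 9 = true := by decide +kernel
theorem p0u1529 : ∀ k, 0 ≤ k → k < 13770 → pointOk (k * 22) = true := between_extend pointOk 22 0 13761 9 (p0u1528) p0r1529

theorem p0r1530 : allRange pointOk 22 13770 9 = true := by decide +kernel
theorem p0u1530 : ∀ k, 0 ≤ k → k < 13779 → pointOk (k * 22) = true := between_extend pointOk 22 0 13770 9 (p0u1529) p0r1530

theorem p0r1531 : allRange pointOk 22 13779 9 = true := by decide +kernel
theorem p0u1531 : ∀ k, 0 ≤ k → k < 13788 → pointOk (k * 22) = true := between_extend pointOk 22 0 13779 9 (p0u1530) p0r1531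

theorem p0r1532 : allRange pointOk 22 13788 9 = true := by decide +kernel
theorem p0u1532 : ∀ k, 0 ≤ k → k < 13797 → pointOk (k * 22) = true := between_extend pointOk 22 0 13788 9 (p0u1531) p0r1532

theorem p0r1533 : allRange pointOk 22 13797 9 = true := by decide +kernel
theorem p0u1533 : ∀ k, 0 ≤ k → k < 13806 → pointOk (k * 22) = true := between_extend pointOk 22 0 13797 9 (p0u1532) p0r1533

theorem p0r1534 : allRange pointOk 22 13806 9 = true := by decide +kernel
theorem p0u1534 : ∀ k, 0 ≤ k → k < 13815 → pointOk (k * 22) = true := between_extend pointOk 22 0 13806 9 (p0u1533) p0r1534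

theorem p0r1535 : allRange pointOk 22 13815 9 = true := by decide +kernel
theorem p0u1535 : ∀ k, 0 ≤ k → k < 13824 → pointOk (k * 22) = true := between_extend pointOk 22 0 13815 9 (p0u1534) p0r1535

theorem p0r1536 : allRange pointOk 22 13824 9 = true := by decide +kernel
theorem p0u1536 : ∀ k, 0 ≤ k → k < 13833 → pointOk (k * 22) = true := between_extend pointOk 22 0 13824 9 (p0u1535) p0r1536

theorem p0r1537 : allRange pointOk 22 13833 9 = true := by decide +kernel
theorem p0u1537 : ∀ k, 0 ≤ k → k < 13842 → pointOk (k * 22) = true := between_extend pointOk 22 0 13833 9 (p0u1536) p0r1537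

theorem p0r1538 : allRange pointOk 22 13842 9 = true := by decide +kernel
theorem p0u1538 : ∀ k, 0 ≤ k → k < 13851 → pointOk (k * 22) = true := between_extend pointOk 22 0 13842 9 (p0u1537) p0r1538

theorem p0r1539 : allRange pointOk 22 13851 9 = true := by decide +kernel
theorem p0u1539 : ∀ k, 0 ≤ k → k < 13860 → pointOk (k * 22) = true := between_extend pointOk 22 0 13851 9 (p0u1538) p0r1539

theorem p0r1540 : allRange pointOk 22 13860 9 = true := by decide +kernel
theorem p0u1540 : ∀ k, 0 ≤ k → k < 13869 → pointOk (k * 22) = true := between_extend pointOk 22 0 13860 9 (p0u1539) p0r1540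

theorem p0r1541 : allRange pointOk 22 13869 9 = true := by decide +kernel
theorem p0u1541 : ∀ k, 0 ≤ k → k < 13878 → pointOk (k * 22) = true := between_extend pointOk 22 0 13869 9 (p0u1540) p0r1541

theorem p0r1542 : allRange pointOk 22 13878 9 = true := by decide +kernel
theorem p0u1542 : ∀ k, 0 ≤ k → k < 13887 → pointOk (k * 22) = true := between_extend pointOk 22 0 13878 9 (p0u1541) p0r1542

theorem p0r1543 : allRange pointOk 22 13887 9 = true := by decide +kernel
theorem p0u1543 : ∀ k, 0 ≤ k → k < 13896 → pointOk (k * 22) = true := between_extend pointOk 22 0 13887 9 (p0u1542) p0r1543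

theorem p0r1544 : allRange pointOk 22 13896 9 = true := by decide +kernel
theorem p0u1544 : ∀ k, 0 ≤ k → k < 13905 → pointOk (k * 22) = true := between_extend pointOk 22 0 13896 9 (p0u1543) p0r1544

theorem p0r1545 : allRange pointOk 22 13905 9 = true := by decide +kernel
theorem p0u1545 : ∀ k, 0 ≤ k → k < 13914 → pointOk (k * 22) = true := between_extend pointOk 22 0 13905 9 (p0u1544) p0r1545

theorem p0r1546 : allRange pointOk 22 13914 9 = true := by decide +kernel
theorem p0u1546 : ∀ k, 0 ≤ k → k < 13923 → pointOk (k * 22) = true := between_extend pointOk 22 0 13914 9 (p0u1545) p0r1546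

theorem p0r1547 : allRange pointOk 22 13923 9 = true := by decide +kernel
theorem p0u1547 : ∀ k, 0 ≤ k → k < 13932 → pointOk (k * 22) = true := between_extend pointOk 22 0 13923 9 (p0u1546) p0r1547

theorem p0r1548 : allRange pointOk 22 13932 9 = true := by decide +kernel
theorem p0u1548 : ∀ k, 0 ≤ k → k < 13941 → pointOk (k * 22) = true := between_extend pointOk 22 0 13932 9 (p0u1547) p0r1548

theorem p0r1549 : allRange pointOk 22 13941 9 = true := by decide +kernel
theorem p0u1549 : ∀ k, 0 ≤ k → k < 13950 → pointOk (k * 22) = true := between_extend pointOk 22 0 13941 9 (p0u1548) p0r1549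

theorem p0r1550 : allRange pointOk 22 13950 9 = true := by decide +kernel
theorem p0u1550 : ∀ k, 0 ≤ k → k < 13959 → pointOk (k * 22) = true := between_extend pointOk 22 0 13950 9 (p0u1549) p0r1550

theorem p0r1551 : allRange pointOk 22 13959 9 = true := by decide +kernel
theorem p0u1551 : ∀ k, 0 ≤ k → k < 13968 → pointOk (k * 22) = true := between_extend pointOk 22 0 13959 9 (p0u1550) p0r1551

theorem p0r1552 : allRange pointOk 22 13968 9 = true := by decide +kernel
theorem p0u1552 : ∀ k, 0 ≤ k → k < 13977 → pointOk (k * 22) = true := between_extend pointOk 22 0 13968 9 (p0u1551) p0r1552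

theorem p0r1553 : allRange pointOk 22 13977 9 = true := by decide +kernel
theorem p0u1553 : ∀ k, 0 ≤ k → k < 13986 → pointOk (k * 22) = true := between_extend pointOk 22 0 13977 9 (p0u1552) p0r1553

theorem p0r1554 : allRange pointOk 22 13986 9 = true := by decide +kernel
theorem p0u1554 : ∀ k, 0 ≤ k → k < 13995 → pointOk (k * 22) = true := between_extend pointOk 22 0 13986 9 (p0u1553) p0r1554

theorem p0r1555 : allRange pointOk 22 13995 9 = true := by decide +kernel
theorem p0u1555 : ∀ k, 0 ≤ k → k < 14004 → pointOk (k * 22) = true := between_extend pointOk 22 0 13995 9 (p0u1554) p0r1555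

theorem p0r1556 : allRange pointOk 22 14004 9 = true := by decide +kernel
theorem p0u1556 : ∀ k, 0 ≤ k → k < 14013 → pointOk (k * 22) = true := between_extend pointOk 22 0 14004 9 (p0u1555) p0r1556

theorem p0r1557 : allRange pointOk 22 14013 9 = true := by decide +kernel
theorem p0u1557 : ∀ k, 0 ≤ k → k < 14022 → pointOk (k * 22) = true := between_extend pointOk 22 0 14013 9 (p0u1556) p0r1557

theorem p0r1558 : allRange pointOk 22 14022 9 = true := by decide +kernel
theorem p0u1558 : ∀ k, 0 ≤ k → k < 14031 → pointOk (k * 22) = true := between_extend pointOk 22 0 14022 9 (p0u1557) p0r1558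

theorem p0r1559 : allRange pointOk 22 14031 9 = true := by decide +kernel
theorem p0u1559 : ∀ k, 0 ≤ k → k < 14040 → pointOk (k * 22) = true := between_extend pointOk 22 0 14031 9 (p0u1558) p0r1559

theorem p0r1560 : allRange pointOk 22 14040 9 = true := by decide +kernel
theorem p0u1560 : ∀ k, 0 ≤ k → k < 14049 → pointOk (k * 22) = true := between_extend pointOk 22 0 14040 9 (p0u1559) p0r1560

theorem p0r1561 : allRange pointOk 22 14049 9 = true := by decide +kernel
theorem p0u1561 : ∀ k, 0 ≤ k → k < 14058 → pointOk (k * 22) = true := between_extend pointOk 22 0 14049 9 (p0u1560) p0r1561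

theorem p0r1562 : allRange pointOk 22 14058 9 = true := by decide +kernel
theorem p0u1562 : ∀ k, 0 ≤ k → k < 14067 → pointOk (k * 22) = true := between_extend pointOk 22 0 14058 9 (p0u1561) p0r1562

theorem p0r1563 : allRange pointOk 22 14067 9 = true := by decide +kernel
theorem p0u1563 : ∀ k, 0 ≤ k → k < 14076 → pointOk (k * 22) = true := between_extend pointOk 22 0 14067 9 (p0u1562) p0r1563

theorem p0r1564 : allRange pointOk 22 14076 9 = true := by decide +kernel
theorem p0u1564 : ∀ k, 0 ≤ k → k < 14085 → pointOk (k * 22) = true := between_extend pointOk 22 0 14076 9 (p0u1563) p0r1564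

theorem p0r1565 : allRange pointOk 22 14085 9 = true := by decide +kernel
theorem p0u1565 : ∀ k, 0 ≤ k → k < 14094 → pointOk (k * 22) = true := between_extend pointOk 22 0 14085 9 (p0u1564) p0r1565

theorem p0r1566 : allRange pointOk 22 14094 9 = true := by decide +kernel
theorem p0u1566 : ∀ k, 0 ≤ k → k < 14103 → pointOk (k * 22) = true := between_extend pointOk 22 0 14094 9 (p0u1565) p0r1566

theorem p0r1567 : allRange pointOk 22 14103 9 = true := by decide +kernel
theorem p0u1567 : ∀ k, 0 ≤ k → k < 14112 → pointOk (k * 22) = true := between_extend pointOk 22 0 14103 9 (p0u1566) p0r1567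

theorem p0r1568 : allRange pointOk 22 14112 9 = true := by decide +kernel
theorem p0u1568 : ∀ k, 0 ≤ k → k < 14121 → pointOk (k * 22) = true := between_extend pointOk 22 0 14112 9 (p0u1567) p0r1568

theorem p0r1569 : allRange pointOk 22 14121 9 = true := by decide +kernel
theorem p0u1569 : ∀ k, 0 ≤ k → k < 14130 → pointOk (k * 22) = true := between_extend pointOk 22 0 14121 9 (p0u1568) p0r1569

theorem p0r1570 : allRange pointOk 22 14130 9 = true := by decide +kernel
theorem p0u1570 : ∀ k, 0 ≤ k → k < 14139 → pointOk (k * 22) = true := between_extend pointOk 22 0 14130 9 (p0u1569) p0r1570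

theorem p0r1571 : allRange pointOk 22 14139 9 = true := by decide +kernel
theorem p0u1571 : ∀ k, 0 ≤ k → k < 14148 → pointOk (k * 22) = true := between_extend pointOk 22 0 14139 9 (p0u1570) p0r1571

theorem p0r1572 : allRange pointOk 22 14148 9 = true := by decide +kernel
theorem p0u1572 : ∀ k, 0 ≤ k → k < 14157 → pointOk (k * 22) = true := between_extend pointOk 22 0 14148 9 (p0u1571) p0r1572

theorem p0r1573 : allRange pointOk 22 14157 9 = true := by decide +kernel
theorem p0u1573 : ∀ k, 0 ≤ k → k < 14166 → pointOk (k * 22) = true := between_extend pointOk 22 0 14157 9 (p0u1572) p0r1573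

theorem p0r1574 : allRange pointOk 22 14166 9 = true := by decide +kernel
theorem p0u1574 : ∀ k, 0 ≤ k → k < 14175 → pointOk (k * 22) = true := between_extend pointOk 22 0 14166 9 (p0u1573) p0r1574

theorem p0r1575 : allRange pointOk 22 14175 9 = true := by decide +kernel
theorem p0u1575 : ∀ k, 0 ≤ k → k < 14184 → pointOk (k * 22) = true := between_extend pointOk 22 0 14175 9 (p0u1574) p0r1575

theorem p0r1576 : allRange pointOk 22 14184 9 = true := by decide +kernel
theorem p0u1576 : ∀ k, 0 ≤ k → k < 14193 → pointOk (k * 22) = true := between_extend pointOk 22 0 14184 9 (p0u1575) p0r1576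

theorem p0r1577 : allRange pointOk 22 14193 9 = true := by decide +kernel
theorem p0u1577 : ∀ k, 0 ≤ k → k < 14202 → pointOk (k * 22) = true := between_extend pointOk 22 0 14193 9 (p0u1576) p0r1577

theorem p0r1578 : allRange pointOk 22 14202 9 = true := by decide +kernel
theorem p0u1578 : ∀ k, 0 ≤ k → k < 14211 → pointOk (k * 22) = true := between_extend pointOk 22 0 14202 9 (p0u1577) p0r1578

theorem p0r1579 : allRange pointOk 22 14211 9 = true := by decide +kernel
theorem p0u1579 : ∀ k, 0 ≤ k → k < 14220 → pointOk (k * 22) = true := between_extend pointOk 22 0 14211 9 (p0u1578) p0r1579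

theorem p0r1580 : allRange pointOk 22 14220 9 = true := by decide +kernel
theorem p0u1580 : ∀ k, 0 ≤ k → k < 14229 → pointOk (k * 22) = true := between_extend pointOk 22 0 14220 9 (p0u1579) p0r1580

theorem p0r1581 : allRange pointOk 22 14229 9 = true := by decide +kernel
theorem p0u1581 : ∀ k, 0 ≤ k → k < 14238 → pointOk (k * 22) = true := between_extend pointOk 22 0 14229 9 (p0u1580) p0r1581

theorem p0r1582 : allRange pointOk 22 14238 9 = true := by decide +kernel
theorem p0u1582 : ∀ k, 0 ≤ k → k < 14247 → pointOk (k * 22) = true := between_extend pointOk 22 0 14238 9 (p0u1581) p0r1582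

theorem p0r1583 : allRange pointOk 22 14247 9 = true := by decide +kernel
theorem p0u1583 : ∀ k, 0 ≤ k → k < 14256 → pointOk (k * 22) = true := between_extend pointOk 22 0 14247 9 (p0u1582) p0r1583

theorem p0r1584 : allRange pointOk 22 14256 9 = true := by decide +kernel
theorem p0u1584 : ∀ k, 0 ≤ k → k < 14265 → pointOk (k * 22) = true := between_extend pointOk 22 0 14256 9 (p0u1583) p0r1584

theorem p0r1585 : allRange pointOk 22 14265 9 = true := by decide +kernel
theorem p0u1585 : ∀ k, 0 ≤ k → k < 14274 → pointOk (k * 22) = true := between_extend pointOk 22 0 14265 9 (p0u1584) p0r1585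

theorem p0r1586 : allRange pointOk 22 14274 9 = true := by decide +kernel
theorem p0u1586 : ∀ k, 0 ≤ k → k < 14283 → pointOk (k * 22) = true := between_extend pointOk 22 0 14274 9 (p0u1585) p0r1586

theorem p0r1587 : allRange pointOk 22 14283 9 = true := by decide +kernel
theorem p0u1587 : ∀ k, 0 ≤ k → k < 14292 → pointOk (k * 22) = true := between_extend pointOk 22 0 14283 9 (p0u1586) p0r1587

theorem p0r1588 : allRange pointOk 22 14292 9 = true := by decide +kernel
theorem p0u1588 : ∀ k, 0 ≤ k → k < 14301 → pointOk (k * 22) = true := between_extend pointOk 22 0 14292 9 (p0u1587) p0r1588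

theorem p0r1589 : allRange pointOk 22 14301 9 = true := by decide +kernel
theorem p0u1589 : ∀ k, 0 ≤ k → k < 14310 → pointOk (k * 22) = true := between_extend pointOk 22 0 14301 9 (p0u1588) p0r1589

theorem p0r1590 : allRange pointOk 22 14310 9 = true := by decide +kernel
theorem p0u1590 : ∀ k, 0 ≤ k → k < 14319 → pointOk (k * 22) = true := between_extend pointOk 22 0 14310 9 (p0u1589) p0r1590

theorem p0r1591 : allRange pointOk 22 14319 9 = true := by decide +kernel
theorem p0u1591 : ∀ k, 0 ≤ k → k < 14328 → pointOk (k * 22) = true := between_extend pointOk 22 0 14319 9 (p0u1590) p0r1591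

theorem p0r1592 : allRange pointOk 22 14328 9 = true := by decide +kernel
theorem p0u1592 : ∀ k, 0 ≤ k → k < 14337 → pointOk (k * 22) = true := between_extend pointOk 22 0 14328 9 (p0u1591) p0r1592

theorem p0r1593 : allRange pointOk 22 14337 9 = true := by decide +kernel
theorem p0u1593 : ∀ k, 0 ≤ k → k < 14346 → pointOk (k * 22) = true := between_extend pointOk 22 0 14337 9 (p0u1592) p0r1593

theorem p0r1594 : allRange pointOk 22 14346 9 = true := by decide +kernel
theorem p0u1594 : ∀ k, 0 ≤ k → k < 14355 → pointOk (k * 22) = true := between_extend pointOk 22 0 14346 9 (p0u1593) p0r1594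

theorem p0r1595 : allRange pointOk 22 14355 9 = true := by decide +kernel
theorem p0u1595 : ∀ k, 0 ≤ k → k < 14364 → pointOk (k * 22) = true := between_extend pointOk 22 0 14355 9 (p0u1594) p0r1595

theorem p0r1596 : allRange pointOk 22 14364 9 = true := by decide +kernel
theorem p0u1596 : ∀ k, 0 ≤ k → k < 14373 → pointOk (k * 22) = true := between_extend pointOk 22 0 14364 9 (p0u1595) p0r1596

theorem p0r1597 : allRange pointOk 22 14373 9 = true := by decide +kernel
theorem p0u1597 : ∀ k, 0 ≤ k → k < 14382 → pointOk (k * 22) = true := between_extend pointOk 22 0 14373 9 (p0u1596) p0r1597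

theorem p0r1598 : allRange pointOk 22 14382 9 = true := by decide +kernel
theorem p0u1598 : ∀ k, 0 ≤ k → k < 14391 → pointOk (k * 22) = true := between_extend pointOk 22 0 14382 9 (p0u1597) p0r1598

theorem p0r1599 : allRange pointOk 22 14391 9 = true := by decide +kernel
theorem p0u1599 : ∀ k, 0 ≤ k → k < 14400 → pointOk (k * 22) = true := between_extend pointOk 22 0 14391 9 (p0u1598) p0r1599

theorem p0r1600 : allRange pointOk 22 14400 9 = true := by decide +kernel
theorem p0u1600 : ∀ k, 0 ≤ k → k < 14409 → pointOk (k * 22) = true := between_extend pointOk 22 0 14400 9 (p0u1599) p0r1600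

theorem p0r1601 : allRange pointOk 22 14409 9 = true := by decide +kernel
theorem p0u1601 : ∀ k, 0 ≤ k → k < 14418 → pointOk (k * 22) = true := between_extend pointOk 22 0 14409 9 (p0u1600) p0r1601

theorem p0r1602 : allRange pointOk 22 14418 9 = true := by decide +kernel
theorem p0u1602 : ∀ k, 0 ≤ k → k < 14427 → pointOk (k * 22) = true := between_extend pointOk 22 0 14418 9 (p0u1601) p0r1602

theorem p0r1603 : allRange pointOk 22 14427 9 = true := by decide +kernel
theorem p0u1603 : ∀ k, 0 ≤ k → k < 14436 → pointOk (k * 22) = true := between_extend pointOk 22 0 14427 9 (p0u1602) p0r1603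

theorem p0r1604 : allRange pointOk 22 14436 9 = true := by decide +kernel
theorem p0u1604 : ∀ k, 0 ≤ k → k < 14445 → pointOk (k * 22) = true := between_extend pointOk 22 0 14436 9 (p0u1603) p0r1604

theorem p0r1605 : allRange pointOk 22 14445 9 = true := by decide +kernel
theorem p0u1605 : ∀ k, 0 ≤ k → k < 14454 → pointOk (k * 22) = true := between_extend pointOk 22 0 14445 9 (p0u1604) p0r1605

theorem p0r1606 : allRange pointOk 22 14454 9 = true := by decide +kernel
theorem p0u1606 : ∀ k, 0 ≤ k → k < 14463 → pointOk (k * 22) = true := between_extend pointOk 22 0 14454 9 (p0u1605) p0r1606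

theorem p0r1607 : allRange pointOk 22 14463 9 = true := by decide +kernel
theorem p0u1607 : ∀ k, 0 ≤ k → k < 14472 → pointOk (k * 22) = true := between_extend pointOk 22 0 14463 9 (p0u1606) p0r1607

theorem p0r1608 : allRange pointOk 22 14472 9 = true := by decide +kernel
theorem p0u1608 : ∀ k, 0 ≤ k → k < 14481 → pointOk (k * 22) = true := between_extend pointOk 22 0 14472 9 (p0u1607) p0r1608

theorem p0r1609 : allRange pointOk 22 14481 9 = true := by decide +kernel
theorem p0u1609 : ∀ k, 0 ≤ k → k < 14490 → pointOk (k * 22) = true := between_extend pointOk 22 0 14481 9 (p0u1608) p0r1609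

theorem p0r1610 : allRange pointOk 22 14490 9 = true := by decide +kernel
theorem p0u1610 : ∀ k, 0 ≤ k → k < 14499 → pointOk (k * 22) = true := between_extend pointOk 22 0 14490 9 (p0u1609) p0r1610

theorem p0r1611 : allRange pointOk 22 14499 9 = true := by decide +kernel
theorem p0u1611 : ∀ k, 0 ≤ k → k < 14508 → pointOk (k * 22) = true := between_extend pointOk 22 0 14499 9 (p0u1610) p0r1611

theorem p0r1612 : allRange pointOk 22 14508 9 = true := by decide +kernel
theorem p0u1612 : ∀ k, 0 ≤ k → k < 14517 → pointOk (k * 22) = true := between_extend pointOk 22 0 14508 9 (p0u1611) p0r1612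

theorem p0r1613 : allRange pointOk 22 14517 9 = true := by decide +kernel
theorem p0u1613 : ∀ k, 0 ≤ k → k < 14526 → pointOk (k * 22) = true := between_extend pointOk 22 0 14517 9 (p0u1612) p0r1613

theorem p0r1614 : allRange pointOk 22 14526 9 = true := by decide +kernel
theorem p0u1614 : ∀ k, 0 ≤ k → k < 14535 → pointOk (k * 22) = true := between_extend pointOk 22 0 14526 9 (p0u1613) p0r1614

theorem p0r1615 : allRange pointOk 22 14535 9 = true := by decide +kernel
theorem p0u1615 : ∀ k, 0 ≤ k → k < 14544 → pointOk (k * 22) = true := between_extend pointOk 22 0 14535 9 (p0u1614) p0r1615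

theorem p0r1616 : allRange pointOk 22 14544 9 = true := by decide +kernel
theorem p0u1616 : ∀ k, 0 ≤ k → k < 14553 → pointOk (k * 22) = true := between_extend pointOk 22 0 14544 9 (p0u1615) p0r1616

theorem p0r1617 : allRange pointOk 22 14553 9 = true := by decide +kernel
theorem p0u1617 : ∀ k, 0 ≤ k → k < 14562 → pointOk (k * 22) = true := between_extend pointOk 22 0 14553 9 (p0u1616) p0r1617

theorem p0r1618 : allRange pointOk 22 14562 9 = true := by decide +kernel
theorem p0u1618 : ∀ k, 0 ≤ k → k < 14571 → pointOk (k * 22) = true := between_extend pointOk 22 0 14562 9 (p0u1617) p0r1618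

theorem p0r1619 : allRange pointOk 22 14571 9 = true := by decide +kernel
theorem p0u1619 : ∀ k, 0 ≤ k → k < 14580 → pointOk (k * 22) = true := between_extend pointOk 22 0 14571 9 (p0u1618) p0r1619

theorem p0r1620 : allRange pointOk 22 14580 9 = true := by decide +kernel
theorem p0u1620 : ∀ k, 0 ≤ k → k < 14589 → pointOk (k * 22) = true := between_extend pointOk 22 0 14580 9 (p0u1619) p0r1620

theorem p0r1621 : allRange pointOk 22 14589 9 = true := by decide +kernel
theorem p0u1621 : ∀ k, 0 ≤ k → k < 14598 → pointOk (k * 22) = true := between_extend pointOk 22 0 14589 9 (p0u1620) p0r1621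

theorem p0r1622 : allRange pointOk 22 14598 9 = true := by decide +kernel
theorem p0u1622 : ∀ k, 0 ≤ k → k < 14607 → pointOk (k * 22) = true := between_extend pointOk 22 0 14598 9 (p0u1621) p0r1622

theorem p0r1623 : allRange pointOk 22 14607 9 = true := by decide +kernel
theorem p0u1623 : ∀ k, 0 ≤ k → k < 14616 → pointOk (k * 22) = true := between_extend pointOk 22 0 14607 9 (p0u1622) p0r1623

theorem p0r1624 : allRange pointOk 22 14616 9 = true := by decide +kernel
theorem p0u1624 : ∀ k, 0 ≤ k → k < 14625 → pointOk (k * 22) = true := between_extend pointOk 22 0 14616 9 (p0u1623) p0r1624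

theorem p0r1625 : allRange pointOk 22 14625 9 = true := by decide +kernel
theorem p0u1625 : ∀ k, 0 ≤ k → k < 14634 → pointOk (k * 22) = true := between_extend pointOk 22 0 14625 9 (p0u1624) p0r1625

theorem p0r1626 : allRange pointOk 22 14634 9 = true := by decide +kernel
theorem p0u1626 : ∀ k, 0 ≤ k → k < 14643 → pointOk (k * 22) = true := between_extend pointOk 22 0 14634 9 (p0u1625) p0r1626

theorem p0r1627 : allRange pointOk 22 14643 9 = true := by decide +kernel
theorem p0u1627 : ∀ k, 0 ≤ k → k < 14652 → pointOk (k * 22) = true := between_extend pointOk 22 0 14643 9 (p0u1626) p0r1627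

theorem p0r1628 : allRange pointOk 22 14652 9 = true := by decide +kernel
theorem p0u1628 : ∀ k, 0 ≤ k → k < 14661 → pointOk (k * 22) = true := between_extend pointOk 22 0 14652 9 (p0u1627) p0r1628

theorem p0r1629 : allRange pointOk 22 14661 9 = true := by decide +kernel
theorem p0u1629 : ∀ k, 0 ≤ k → k < 14670 → pointOk (k * 22) = true := between_extend pointOk 22 0 14661 9 (p0u1628) p0r1629

theorem p0r1630 : allRange pointOk 22 14670 9 = true := by decide +kernel
theorem p0u1630 : ∀ k, 0 ≤ k → k < 14679 → pointOk (k * 22) = true := between_extend pointOk 22 0 14670 9 (p0u1629) p0r1630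

theorem p0r1631 : allRange pointOk 22 14679 9 = true := by decide +kernel
theorem p0u1631 : ∀ k, 0 ≤ k → k < 14688 → pointOk (k * 22) = true := between_extend pointOk 22 0 14679 9 (p0u1630) p0r1631

theorem p0r1632 : allRange pointOk 22 14688 9 = true := by decide +kernel
theorem p0u1632 : ∀ k, 0 ≤ k → k < 14697 → pointOk (k * 22) = true := between_extend pointOk 22 0 14688 9 (p0u1631) p0r1632

theorem p0r1633 : allRange pointOk 22 14697 9 = true := by decide +kernel
theorem p0u1633 : ∀ k, 0 ≤ k → k < 14706 → pointOk (k * 22) = true := between_extend pointOk 22 0 14697 9 (p0u1632) p0r1633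

theorem p0r1634 : allRange pointOk 22 14706 9 = true := by decide +kernel
theorem p0u1634 : ∀ k, 0 ≤ k → k < 14715 → pointOk (k * 22) = true := between_extend pointOk 22 0 14706 9 (p0u1633) p0r1634

theorem p0r1635 : allRange pointOk 22 14715 9 = true := by decide +kernel
theorem p0u1635 : ∀ k, 0 ≤ k → k < 14724 → pointOk (k * 22) = true := between_extend pointOk 22 0 14715 9 (p0u1634) p0r1635

theorem p0r1636 : allRange pointOk 22 14724 9 = true := by decide +kernel
theorem p0u1636 : ∀ k, 0 ≤ k → k < 14733 → pointOk (k * 22) = true := between_extend pointOk 22 0 14724 9 (p0u1635) p0r1636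

theorem p0r1637 : allRange pointOk 22 14733 9 = true := by decide +kernel
theorem p0u1637 : ∀ k, 0 ≤ k → k < 14742 → pointOk (k * 22) = true := between_extend pointOk 22 0 14733 9 (p0u1636) p0r1637

theorem p0r1638 : allRange pointOk 22 14742 9 = true := by decide +kernel
theorem p0u1638 : ∀ k, 0 ≤ k → k < 14751 → pointOk (k * 22) = true := between_extend pointOk 22 0 14742 9 (p0u1637) p0r1638

theorem p0r1639 : allRange pointOk 22 14751 9 = true := by decide +kernel
theorem p0u1639 : ∀ k, 0 ≤ k → k < 14760 → pointOk (k * 22) = true := between_extend pointOk 22 0 14751 9 (p0u1638) p0r1639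

theorem p0r1640 : allRange pointOk 22 14760 9 = true := by decide +kernel
theorem p0u1640 : ∀ k, 0 ≤ k → k < 14769 → pointOk (k * 22) = true := between_extend pointOk 22 0 14760 9 (p0u1639) p0r1640

theorem p0r1641 : allRange pointOk 22 14769 9 = true := by decide +kernel
theorem p0u1641 : ∀ k, 0 ≤ k → k < 14778 → pointOk (k * 22) = true := between_extend pointOk 22 0 14769 9 (p0u1640) p0r1641

theorem p0r1642 : allRange pointOk 22 14778 9 = true := by decide +kernel
theorem p0u1642 : ∀ k, 0 ≤ k → k < 14787 → pointOk (k * 22) = true := between_extend pointOk 22 0 14778 9 (p0u1641) p0r1642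

theorem p0r1643 : allRange pointOk 22 14787 9 = true := by decide +kernel
theorem p0u1643 : ∀ k, 0 ≤ k → k < 14796 → pointOk (k * 22) = true := between_extend pointOk 22 0 14787 9 (p0u1642) p0r1643

theorem p0r1644 : allRange pointOk 22 14796 9 = true := by decide +kernel
theorem p0u1644 : ∀ k, 0 ≤ k → k < 14805 → pointOk (k * 22) = true := between_extend pointOk 22 0 14796 9 (p0u1643) p0r1644

theorem p0r1645 : allRange pointOk 22 14805 9 = true := by decide +kernel
theorem p0u1645 : ∀ k, 0 ≤ k → k < 14814 → pointOk (k * 22) = true := between_extend pointOk 22 0 14805 9 (p0u1644) p0r1645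

theorem p0r1646 : allRange pointOk 22 14814 9 = true := by decide +kernel
theorem p0u1646 : ∀ k, 0 ≤ k → k < 14823 → pointOk (k * 22) = true := between_extend pointOk 22 0 14814 9 (p0u1645) p0r1646

theorem p0r1647 : allRange pointOk 22 14823 9 = true := by decide +kernel
theorem p0u1647 : ∀ k, 0 ≤ k → k < 14832 → pointOk (k * 22) = true := between_extend pointOk 22 0 14823 9 (p0u1646) p0r1647

theorem p0r1648 : allRange pointOk 22 14832 9 = true := by decide +kernel
theorem p0u1648 : ∀ k, 0 ≤ k → k < 14841 → pointOk (k * 22) = true := between_extend pointOk 22 0 14832 9 (p0u1647) p0r1648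

theorem p0r1649 : allRange pointOk 22 14841 9 = true := by decide +kernel
theorem p0u1649 : ∀ k, 0 ≤ k → k < 14850 → pointOk (k * 22) = true := between_extend pointOk 22 0 14841 9 (p0u1648) p0r1649

theorem p0r1650 : allRange pointOk 22 14850 9 = true := by decide +kernel
theorem p0u1650 : ∀ k, 0 ≤ k → k < 14859 → pointOk (k * 22) = true := between_extend pointOk 22 0 14850 9 (p0u1649) p0r1650

theorem p0r1651 : allRange pointOk 22 14859 9 = true := by decide +kernel
theorem p0u1651 : ∀ k, 0 ≤ k → k < 14868 → pointOk (k * 22) = true := between_extend pointOk 22 0 14859 9 (p0u1650) p0r1651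

theorem p0r1652 : allRange pointOk 22 14868 9 = true := by decide +kernel
theorem p0u1652 : ∀ k, 0 ≤ k → k < 14877 → pointOk (k * 22) = true := between_extend pointOk 22 0 14868 9 (p0u1651) p0r1652

theorem p0r1653 : allRange pointOk 22 14877 9 = true := by decide +kernel
theorem p0u1653 : ∀ k, 0 ≤ k → k < 14886 → pointOk (k * 22) = true := between_extend pointOk 22 0 14877 9 (p0u1652) p0r1653

theorem p0r1654 : allRange pointOk 22 14886 9 = true := by decide +kernel
theorem p0u1654 : ∀ k, 0 ≤ k → k < 14895 → pointOk (k * 22) = true := between_extend pointOk 22 0 14886 9 (p0u1653) p0r1654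

theorem p0r1655 : allRange pointOk 22 14895 9 = true := by decide +kernel
theorem p0u1655 : ∀ k, 0 ≤ k → k < 14904 → pointOk (k * 22) = true := between_extend pointOk 22 0 14895 9 (p0u1654) p0r1655

theorem p0r1656 : allRange pointOk 22 14904 9 = true := by decide +kernel
theorem p0u1656 : ∀ k, 0 ≤ k → k < 14913 → pointOk (k * 22) = true := between_extend pointOk 22 0 14904 9 (p0u1655) p0r1656

theorem p0r1657 : allRange pointOk 22 14913 9 = true := by decide +kernel
theorem p0u1657 : ∀ k, 0 ≤ k → k < 14922 → pointOk (k * 22) = true := between_extend pointOk 22 0 14913 9 (p0u1656) p0r1657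

theorem p0r1658 : allRange pointOk 22 14922 9 = true := by decide +kernel
theorem p0u1658 : ∀ k, 0 ≤ k → k < 14931 → pointOk (k * 22) = true := between_extend pointOk 22 0 14922 9 (p0u1657) p0r1658

theorem p0r1659 : allRange pointOk 22 14931 9 = true := by decide +kernel
theorem p0u1659 : ∀ k, 0 ≤ k → k < 14940 → pointOk (k * 22) = true := between_extend pointOk 22 0 14931 9 (p0u1658) p0r1659

theorem p0r1660 : allRange pointOk 22 14940 9 = true := by decide +kernel
theorem p0u1660 : ∀ k, 0 ≤ k → k < 14949 → pointOk (k * 22) = true := between_extend pointOk 22 0 14940 9 (p0u1659) p0r1660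

theorem p0r1661 : allRange pointOk 22 14949 9 = true := by decide +kernel
theorem p0u1661 : ∀ k, 0 ≤ k → k < 14958 → pointOk (k * 22) = true := between_extend pointOk 22 0 14949 9 (p0u1660) p0r1661

theorem p0r1662 : allRange pointOk 22 14958 9 = true := by decide +kernel
theorem p0u1662 : ∀ k, 0 ≤ k → k < 14967 → pointOk (k * 22) = true := between_extend pointOk 22 0 14958 9 (p0u1661) p0r1662

theorem p0r1663 : allRange pointOk 22 14967 9 = true := by decide +kernel
theorem p0u1663 : ∀ k, 0 ≤ k → k < 14976 → pointOk (k * 22) = true := between_extend pointOk 22 0 14967 9 (p0u1662) p0r1663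

theorem p0r1664 : allRange pointOk 22 14976 9 = true := by decide +kernel
theorem p0u1664 : ∀ k, 0 ≤ k → k < 14985 → pointOk (k * 22) = true := between_extend pointOk 22 0 14976 9 (p0u1663) p0r1664

theorem p0r1665 : allRange pointOk 22 14985 9 = true := by decide +kernel
theorem p0u1665 : ∀ k, 0 ≤ k → k < 14994 → pointOk (k * 22) = true := between_extend pointOk 22 0 14985 9 (p0u1664) p0r1665

theorem p0r1666 : allRange pointOk 22 14994 9 = true := by decide +kernel
theorem p0u1666 : ∀ k, 0 ≤ k → k < 15003 → pointOk (k * 22) = true := between_extend pointOk 22 0 14994 9 (p0u1665) p0r1666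

theorem p0r1667 : allRange pointOk 22 15003 9 = true := by decide +kernel
theorem p0u1667 : ∀ k, 0 ≤ k → k < 15012 → pointOk (k * 22) = true := between_extend pointOk 22 0 15003 9 (p0u1666) p0r1667

theorem p0r1668 : allRange pointOk 22 15012 9 = true := by decide +kernel
theorem p0u1668 : ∀ k, 0 ≤ k → k < 15021 → pointOk (k * 22) = true := between_extend pointOk 22 0 15012 9 (p0u1667) p0r1668

theorem p0r1669 : allRange pointOk 22 15021 9 = true := by decide +kernel
theorem p0u1669 : ∀ k, 0 ≤ k → k < 15030 → pointOk (k * 22) = true := between_extend pointOk 22 0 15021 9 (p0u1668) p0r1669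

theorem p0r1670 : allRange pointOk 22 15030 9 = true := by decide +kernel
theorem p0u1670 : ∀ k, 0 ≤ k → k < 15039 → pointOk (k * 22) = true := between_extend pointOk 22 0 15030 9 (p0u1669) p0r1670

theorem p0r1671 : allRange pointOk 22 15039 9 = true := by decide +kernel
theorem p0u1671 : ∀ k, 0 ≤ k → k < 15048 → pointOk (k * 22) = true := between_extend pointOk 22 0 15039 9 (p0u1670) p0r1671

theorem p0r1672 : allRange pointOk 22 15048 9 = true := by decide +kernel
theorem p0u1672 : ∀ k, 0 ≤ k → k < 15057 → pointOk (k * 22) = true := between_extend pointOk 22 0 15048 9 (p0u1671) p0r1672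

theorem p0r1673 : allRange pointOk 22 15057 9 = true := by decide +kernel
theorem p0u1673 : ∀ k, 0 ≤ k → k < 15066 → pointOk (k * 22) = true := between_extend pointOk 22 0 15057 9 (p0u1672) p0r1673

theorem p0r1674 : allRange pointOk 22 15066 9 = true := by decide +kernel
theorem p0u1674 : ∀ k, 0 ≤ k → k < 15075 → pointOk (k * 22) = true := between_extend pointOk 22 0 15066 9 (p0u1673) p0r1674

theorem p0r1675 : allRange pointOk 22 15075 9 = true := by decide +kernel
theorem p0u1675 : ∀ k, 0 ≤ k → k < 15084 → pointOk (k * 22) = true := between_extend pointOk 22 0 15075 9 (p0u1674) p0r1675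

theorem p0r1676 : allRange pointOk 22 15084 9 = true := by decide +kernel
theorem p0u1676 : ∀ k, 0 ≤ k → k < 15093 → pointOk (k * 22) = true := between_extend pointOk 22 0 15084 9 (p0u1675) p0r1676

theorem p0r1677 : allRange pointOk 22 15093 9 = true := by decide +kernel
theorem p0u1677 : ∀ k, 0 ≤ k → k < 15102 → pointOk (k * 22) = true := between_extend pointOk 22 0 15093 9 (p0u1676) p0r1677

theorem p0r1678 : allRange pointOk 22 15102 9 = true := by decide +kernel
theorem p0u1678 : ∀ k, 0 ≤ k → k < 15111 → pointOk (k * 22) = true := between_extend pointOk 22 0 15102 9 (p0u1677) p0r1678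

theorem p0r1679 : allRange pointOk 22 15111 9 = true := by decide +kernel
theorem p0u1679 : ∀ k, 0 ≤ k → k < 15120 → pointOk (k * 22) = true := between_extend pointOk 22 0 15111 9 (p0u1678) p0r1679

theorem p0r1680 : allRange pointOk 22 15120 9 = true := by decide +kernel
theorem p0u1680 : ∀ k, 0 ≤ k → k < 15129 → pointOk (k * 22) = true := between_extend pointOk 22 0 15120 9 (p0u1679) p0r1680

theorem p0r1681 : allRange pointOk 22 15129 9 = true := by decide +kernel
theorem p0u1681 : ∀ k, 0 ≤ k → k < 15138 → pointOk (k * 22) = true := between_extend pointOk 22 0 15129 9 (p0u1680) p0r1681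

theorem p0r1682 : allRange pointOk 22 15138 9 = true := by decide +kernel
theorem p0u1682 : ∀ k, 0 ≤ k → k < 15147 → pointOk (k * 22) = true := between_extend pointOk 22 0 15138 9 (p0u1681) p0r1682

theorem p0r1683 : allRange pointOk 22 15147 9 = true := by decide +kernel
theorem p0u1683 : ∀ k, 0 ≤ k → k < 15156 → pointOk (k * 22) = true := between_extend pointOk 22 0 15147 9 (p0u1682) p0r1683

theorem p0r1684 : allRange pointOk 22 15156 9 = true := by decide +kernel
theorem p0u1684 : ∀ k, 0 ≤ k → k < 15165 → pointOk (k * 22) = true := between_extend pointOk 22 0 15156 9 (p0u1683) p0r1684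

theorem p0r1685 : allRange pointOk 22 15165 9 = true := by decide +kernel
theorem p0u1685 : ∀ k, 0 ≤ k → k < 15174 → pointOk (k * 22) = true := between_extend pointOk 22 0 15165 9 (p0u1684) p0r1685

theorem p0r1686 : allRange pointOk 22 15174 9 = true := by decide +kernel
theorem p0u1686 : ∀ k, 0 ≤ k → k < 15183 → pointOk (k * 22) = true := between_extend pointOk 22 0 15174 9 (p0u1685) p0r1686

theorem p0r1687 : allRange pointOk 22 15183 9 = true := by decide +kernel
theorem p0u1687 : ∀ k, 0 ≤ k → k < 15192 → pointOk (k * 22) = true := between_extend pointOk 22 0 15183 9 (p0u1686) p0r1687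

theorem p0r1688 : allRange pointOk 22 15192 9 = true := by decide +kernel
theorem p0u1688 : ∀ k, 0 ≤ k → k < 15201 → pointOk (k * 22) = true := between_extend pointOk 22 0 15192 9 (p0u1687) p0r1688

theorem p0r1689 : allRange pointOk 22 15201 9 = true := by decide +kernel
theorem p0u1689 : ∀ k, 0 ≤ k → k < 15210 → pointOk (k * 22) = true := between_extend pointOk 22 0 15201 9 (p0u1688) p0r1689

theorem p0r1690 : allRange pointOk 22 15210 9 = true := by decide +kernel
theorem p0u1690 : ∀ k, 0 ≤ k → k < 15219 → pointOk (k * 22) = true := between_extend pointOk 22 0 15210 9 (p0u1689) p0r1690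

theorem p0r1691 : allRange pointOk 22 15219 9 = true := by decide +kernel
theorem p0u1691 : ∀ k, 0 ≤ k → k < 15228 → pointOk (k * 22) = true := between_extend pointOk 22 0 15219 9 (p0u1690) p0r1691

theorem p0r1692 : allRange pointOk 22 15228 9 = true := by decide +kernel
theorem p0u1692 : ∀ k, 0 ≤ k → k < 15237 → pointOk (k * 22) = true := between_extend pointOk 22 0 15228 9 (p0u1691) p0r1692

theorem p0r1693 : allRange pointOk 22 15237 9 = true := by decide +kernel
theorem p0u1693 : ∀ k, 0 ≤ k → k < 15246 → pointOk (k * 22) = true := between_extend pointOk 22 0 15237 9 (p0u1692) p0r1693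

theorem p0r1694 : allRange pointOk 22 15246 9 = true := by decide +kernel
theorem p0u1694 : ∀ k, 0 ≤ k → k < 15255 → pointOk (k * 22) = true := between_extend pointOk 22 0 15246 9 (p0u1693) p0r1694

theorem p0r1695 : allRange pointOk 22 15255 9 = true := by decide +kernel
theorem p0u1695 : ∀ k, 0 ≤ k → k < 15264 → pointOk (k * 22) = true := between_extend pointOk 22 0 15255 9 (p0u1694) p0r1695

theorem p0r1696 : allRange pointOk 22 15264 9 = true := by decide +kernel
theorem p0u1696 : ∀ k, 0 ≤ k → k < 15273 → pointOk (k * 22) = true := between_extend pointOk 22 0 15264 9 (p0u1695) p0r1696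

theorem p0r1697 : allRange pointOk 22 15273 9 = true := by decide +kernel
theorem p0u1697 : ∀ k, 0 ≤ k → k < 15282 → pointOk (k * 22) = true := between_extend pointOk 22 0 15273 9 (p0u1696) p0r1697

theorem p0r1698 : allRange pointOk 22 15282 9 = true := by decide +kernel
theorem p0u1698 : ∀ k, 0 ≤ k → k < 15291 → pointOk (k * 22) = true := between_extend pointOk 22 0 15282 9 (p0u1697) p0r1698

theorem p0r1699 : allRange pointOk 22 15291 9 = true := by decide +kernel
theorem p0u1699 : ∀ k, 0 ≤ k → k < 15300 → pointOk (k * 22) = true := between_extend pointOk 22 0 15291 9 (p0u1698) p0r1699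

theorem p0r1700 : allRange pointOk 22 15300 9 = true := by decide +kernel
theorem p0u1700 : ∀ k, 0 ≤ k → k < 15309 → pointOk (k * 22) = true := between_extend pointOk 22 0 15300 9 (p0u1699) p0r1700

theorem p0r1701 : allRange pointOk 22 15309 9 = true := by decide +kernel
theorem p0u1701 : ∀ k, 0 ≤ k → k < 15318 → pointOk (k * 22) = true := between_extend pointOk 22 0 15309 9 (p0u1700) p0r1701

theorem p0r1702 : allRange pointOk 22 15318 9 = true := by decide +kernel
theorem p0u1702 : ∀ k, 0 ≤ k → k < 15327 → pointOk (k * 22) = true := between_extend pointOk 22 0 15318 9 (p0u1701) p0r1702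

theorem p0r1703 : allRange pointOk 22 15327 9 = true := by decide +kernel
theorem p0u1703 : ∀ k, 0 ≤ k → k < 15336 → pointOk (k * 22) = true := between_extend pointOk 22 0 15327 9 (p0u1702) p0r1703

theorem p0r1704 : allRange pointOk 22 15336 9 = true := by decide +kernel
theorem p0u1704 : ∀ k, 0 ≤ k → k < 15345 → pointOk (k * 22) = true := between_extend pointOk 22 0 15336 9 (p0u1703) p0r1704

theorem p0 : ∀ k, 0 ≤ k → k < 15345 → pointOk (k * 22) = true := p0u1704

end Cfsg.Agent.Lib.Helper28_S1692
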