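import Cfsg.Agent.Lib.Helper28_S1692P7  -- build-order chain (limits parallel memory use)
import Cfsg.Agent.Lib.Helper28_S1692UDef

set_option autoImplicit false
set_option linter.constructorNameAsVariable false
set_option Elab.async false

namespace Cfsg.Agent.Lib.Helper28_S1692.U

open Cfsg.Agent.Lib.Helper28_CosetPerm

theorem f1r0 : allRange blockOk 1 456 59 = true := by decide +kernel
theorem f1u0 : ∀ k, 456 ≤ k → k < 515 → blockOk (k * 1) = true := between_extend blockOk 1 456 456 59 (between_start blockOk 1 456) f1r0

theorem f1r1 : allRange blockOk 1 515 64 = true := by decide +kernel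
theorem f1u1 : ∀ k, 456 ≤ k → k < 579 → blockOk (k * 1) = true := between_extend blockOk 1 456 515 64 (f1u0) f1r1

theorem f1r2 : allRange blockOk 1 579 69 = true := by decide +kernel
theorem f1u2 : ∀ k, 456 ≤ k → k < 648 → blockOk (k * 1) = true := between_extend blockOk 1 456 579 69 (f1u1) f1r2

theorem f1r3 : allRange blockOk 1 648 67 = true := by decide +kernel
theorem f1u3 : ∀ k, 456 ≤ k → k < 715 → blockOk (k * 1) = true := between_extend blockOk 1 456 648 67 (f1u2) f1r3

theorem f1r4 : allRange blockOk 1 715 58 = true := by decide +kernel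
theorem f1u4 : ∀ k, 456 ≤ k → k < 773 → blockOk (k * 1) = true := between_extend blockOk 1 456 715 58 (f1u3) f1r4

theorem f1r5 : allRange blockOk 1 773 63 = true := by decide +kernel
theorem f1u5 : ∀ k, 456 ≤ k → k < 836 → blockOk (k * 1) = true := between_extend blockOk 1 456 773 63 (f1u4) f1r5

theorem f1r6 : allRange blockOk 1 836 60 = true := by decide +kernel
theorem f1u6 : ∀ k, 456 ≤ k → k < 896 → blockOk (k * 1) = true := between_extend blockOk 1 456 836 60 (f1u5) f1r6

theorem f1r7 : allRange blockOk 1 896 18 = true := by decide +kernel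
theorem f1u7 : ∀ k, 456 ≤ k → k < 914 → blockOk (k * 1) = true := between_extend blockOk 1 456 896 18 (f1u6) f1r7

theorem f1 : ∀ k, 456 ≤ k → k < 914 → blockOk (k * 1) = true := f1u7

end Cfsg.Agent.Lib.Helper28_S1692.U
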