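import Cfsg.Agent.Lib.Helper28_S1692O0  -- build-order chain (limits parallel memory use)
import Cfsg.Agent.Lib.Helper28_S1692UDef

set_option autoImplicit false
set_option linter.constructorNameAsVariable false
set_option Elab.async false

namespace Cfsg.Agent.Lib.Helper28_S1692.U

open Cfsg.Agent.Lib.Helper28_CosetPerm

theorem f2r0 : allRange blockOk 1 914 61 = true := by decide +kernel
theorem f2u0 : ∀ k, 914 ≤ k → k < 975 → blockOk (k * 1) = true := between_extend blockOk 1 914 914 61 (between_start blockOk 1 914) f2r0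

theorem f2r1 : allRange blockOk 1 975 58 = true := by decide +kernel
theorem f2u1 : ∀ k, 914 ≤ k → k < 1033 → blockOk (k * 1) = true := between_extend blockOk 1 914 975 58 (f2u0) f2r1

theorem f2r2 : allRange blockOk 1 1033 61 = true := by decide +kernel
theorem f2u2 : ∀ k, 914 ≤ k → k < 1094 → blockOk (k * 1) = true := between_extend blockOk 1 914 1033 61 (f2u1) f2r2

theorem f2r3 : allRange blockOk 1 1094 56 = true := by decide +kernel
theorem f2u3 : ∀ k, 914 ≤ k → k < 1150 → blockOk (k * 1) = true := between_extend blockOk 1 914 1094 56 (f2u2) f2r3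

theorem f2r4 : allRange blockOk 1 1150 62 = true := by decide +kernel
theorem f2u4 : ∀ k, 914 ≤ k → k < 1212 → blockOk (k * 1) = true := between_extend blockOk 1 914 1150 62 (f2u3) f2r4

theorem f2r5 : allRange blockOk 1 1212 63 = true := by decide +kernel
theorem f2u5 : ∀ k, 914 ≤ k → k < 1275 → blockOk (k * 1) = true := between_extend blockOk 1 914 1212 63 (f2u4) f2r5

theorem f2r6 : allRange blockOk 1 1275 69 = true := by decide +kernel
theorem f2u6 : ∀ k, 914 ≤ k → k < 1344 → blockOk (k * 1) = true := between_extend blockOk 1 914 1275 69 (f2u5) f2r6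

theorem f2r7 : allRange blockOk 1 1344 14 = true := by decide +kernel
theorem f2u7 : ∀ k, 914 ≤ k → k < 1358 → blockOk (k * 1) = true := between_extend blockOk 1 914 1344 14 (f2u6) f2r7

theorem f2 : ∀ k, 914 ≤ k → k < 1358 → blockOk (k * 1) = true := f2u7

end Cfsg.Agent.Lib.Helper28_S1692.U
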