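import Cfsg.Agent.Lib.Helper28_S1692O1  -- build-order chain (limits parallel memory use)
import Cfsg.Agent.Lib.Helper28_S1692UDef

set_option autoImplicit false
set_option linter.constructorNameAsVariable false
set_option Elab.async false

namespace Cfsg.Agent.Lib.Helper28_S1692.U

open Cfsg.Agent.Lib.Helper28_CosetPerm

theorem f3r0 : allRange blockOk 1 1358 58 = true := by decide +kernel
theorem f3u0 : ∀ k, 1358 ≤ k → k < 1416 → blockOk (k * 1) = true := between_extend blockOk 1 1358 1358 58 (between_start blockOk 1 1358) f3r0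

theorem f3r1 : allRange blockOk 1 1416 59 = true := by decide +kernel
theorem f3u1 : ∀ k, 1358 ≤ k → k < 1475 → blockOk (k * 1) = true := between_extend blockOk 1 1358 1416 59 (f3u0) f3r1

theorem f3r2 : allRange blockOk 1 1475 65 = true := by decide +kernel
theorem f3u2 : ∀ k, 1358 ≤ k → k < 1540 → blockOk (k * 1) = true := between_extend blockOk 1 1358 1475 65 (f3u1) f3r2

theorem f3r3 : allRange blockOk 1 1540 62 = true := by decide +kernel
theorem f3u3 : ∀ k, 1358 ≤ k → k < 1602 → blockOk (k * 1) = true := between_extend blockOk 1 1358 1540 62 (f3u2) f3r3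

theorem f3r4 : allRange blockOk 1 1602 62 = true := by decide +kernel
theorem f3u4 : ∀ k, 1358 ≤ k → k < 1664 → blockOk (k * 1) = true := between_extend blockOk 1 1358 1602 62 (f3u3) f3r4

theorem f3r5 : allRange blockOk 1 1664 64 = true := by decide +kernel
theorem f3u5 : ∀ k, 1358 ≤ k → k < 1728 → blockOk (k * 1) = true := between_extend blockOk 1 1358 1664 64 (f3u4) f3r5

theorem f3r6 : allRange blockOk 1 1728 64 = true := by decide +kernel
theorem f3u6 : ∀ k, 1358 ≤ k → k < 1792 → blockOk (k * 1) = true := between_extend blockOk 1 1358 1728 64 (f3u5) f3r6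

theorem f3r7 : allRange blockOk 1 1792 18 = true := by decide +kernel
theorem f3u7 : ∀ k, 1358 ≤ k → k < 1810 → blockOk (k * 1) = true := between_extend blockOk 1 1358 1792 18 (f3u6) f3r7

theorem f3 : ∀ k, 1358 ≤ k → k < 1810 → blockOk (k * 1) = true := f3u7

end Cfsg.Agent.Lib.Helper28_S1692.U
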