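import Cfsg.Agent.Lib.Helper28_S1692UF0  -- build-order chain (limits parallel memory use)
import Cfsg.Agent.Lib.Helper28_S1692UDef

set_option autoImplicit false
set_option linter.constructorNameAsVariable false
set_option Elab.async false

namespace Cfsg.Agent.Lib.Helper28_S1692.U

open Cfsg.Agent.Lib.Helper28_CosetPerm

theorem f4r0 : allRange blockOk 1 1810 65 = true := by decide +kernel
theorem f4u0 : ∀ k, 1810 ≤ k → k < 1875 → blockOk (k * 1) = true := between_extend blockOk 1 1810 1810 65 (between_start blockOk 1 1810) f4r0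

theorem f4r1 : allRange blockOk 1 1875 40 = true := by decide +kernel
theorem f4u1 : ∀ k, 1810 ≤ k → k < 1915 → blockOk (k * 1) = true := between_extend blockOk 1 1810 1875 40 (f4u0) f4r1

theorem f4r2 : allRange blockOk 1 1915 35 = true := by decide +kernel
theorem f4u2 : ∀ k, 1810 ≤ k → k < 1950 → blockOk (k * 1) = true := between_extend blockOk 1 1810 1915 35 (f4u1) f4r2

theorem f4r3 : allRange blockOk 1 1950 34 = true := by decide +kernel
theorem f4u3 : ∀ k, 1810 ≤ k → k < 1984 → blockOk (k * 1) = true := between_extend blockOk 1 1810 1950 34 (f4u2) f4r3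

theorem f4r4 : allRange blockOk 1 1984 32 = true := by decide +kernel
theorem f4u4 : ∀ k, 1810 ≤ k → k < 2016 → blockOk (k * 1) = true := between_extend blockOk 1 1810 1984 32 (f4u3) f4r4

theorem f4r5 : allRange blockOk 1 2016 32 = true := by decide +kernel
theorem f4u5 : ∀ k, 1810 ≤ k → k < 2048 → blockOk (k * 1) = true := between_extend blockOk 1 1810 2016 32 (f4u4) f4r5

theorem f4r6 : allRange blockOk 1 2048 40 = true := by decide +kernel
theorem f4u6 : ∀ k, 1810 ≤ k → k < 2088 → blockOk (k * 1) = true := between_extend blockOk 1 1810 2048 40 (f4u5) f4r6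

theorem f4r7 : allRange blockOk 1 2088 12 = true := by decide +kernel
theorem f4u7 : ∀ k, 1810 ≤ k → k < 2100 → blockOk (k * 1) = true := between_extend blockOk 1 1810 2088 12 (f4u6) f4r7

theorem f4 : ∀ k, 1810 ≤ k → k < 2100 → blockOk (k * 1) = true := f4u7

end Cfsg.Agent.Lib.Helper28_S1692.U
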