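import Cfsg.Agent.Lib.Helper28_S1692UF1  -- build-order chain (limits parallel memory use)
import Cfsg.Agent.Lib.Helper28_S1692UDef

set_option autoImplicit false
set_option linter.constructorNameAsVariable false
set_option Elab.async false

namespace Cfsg.Agent.Lib.Helper28_S1692.U

open Cfsg.Agent.Lib.Helper28_CosetPerm

theorem f5r0 : allRange blockOk 1 2100 41 = true := by decide +kernel
theorem f5u0 : ∀ k, 2100 ≤ k → k < 2141 → blockOk (k * 1) = true := between_extend blockOk 1 2100 2100 41 (between_start blockOk 1 2100) f5r0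

theorem f5r1 : allRange blockOk 1 2141 41 = true := by decide +kernel
theorem f5u1 : ∀ k, 2100 ≤ k → k < 2182 → blockOk (k * 1) = true := between_extend blockOk 1 2100 2141 41 (f5u0) f5r1

theorem f5r2 : allRange blockOk 1 2182 39 = true := by decide +kernel
theorem f5u2 : ∀ k, 2100 ≤ k → k < 2221 → blockOk (k * 1) = true := between_extend blockOk 1 2100 2182 39 (f5u1) f5r2

theorem f5r3 : allRange blockOk 1 2221 39 = true := by decide +kernel
theorem f5u3 : ∀ k, 2100 ≤ k → k < 2260 → blockOk (k * 1) = true := between_extend blockOk 1 2100 2221 39 (f5u2) f5r3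

theorem f5r4 : allRange blockOk 1 2260 38 = true := by decide +kernel
theorem f5u4 : ∀ k, 2100 ≤ k → k < 2298 → blockOk (k * 1) = true := between_extend blockOk 1 2100 2260 38 (f5u3) f5r4

theorem f5r5 : allRange blockOk 1 2298 36 = true := by decide +kernel
theorem f5u5 : ∀ k, 2100 ≤ k → k < 2334 → blockOk (k * 1) = true := between_extend blockOk 1 2100 2298 36 (f5u4) f5r5

theorem f5r6 : allRange blockOk 1 2334 37 = true := by decide +kernel
theorem f5u6 : ∀ k, 2100 ≤ k → k < 2371 → blockOk (k * 1) = true := between_extend blockOk 1 2100 2334 37 (f5u5) f5r6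

theorem f5r7 : allRange blockOk 1 2371 10 = true := by decide +kernel
theorem f5u7 : ∀ k, 2100 ≤ k → k < 2381 → blockOk (k * 1) = true := between_extend blockOk 1 2100 2371 10 (f5u6) f5r7

theorem f5 : ∀ k, 2100 ≤ k → k < 2381 → blockOk (k * 1) = true := f5u7

end Cfsg.Agent.Lib.Helper28_S1692.U
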