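import Cfsg.Agent.Lib.Helper28_S1692UF2  -- build-order chain (limits parallel memory use)
import Cfsg.Agent.Lib.Helper28_S1692UDef

set_option autoImplicit false
set_option linter.constructorNameAsVariable false
set_option Elab.async false

namespace Cfsg.Agent.Lib.Helper28_S1692.U

open Cfsg.Agent.Lib.Helper28_CosetPerm

theorem f6r0 : allRange blockOk 1 2381 36 = true := by decide +kernel
theorem f6u0 : ∀ k, 2381 ≤ k → k < 2417 → blockOk (k * 1) = true := between_extend blockOk 1 2381 2381 36 (between_start blockOk 1 2381) f6r0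

theorem f6r1 : allRange blockOk 1 2417 35 = true := by decide +kernel
theorem f6u1 : ∀ k, 2381 ≤ k → k < 2452 → blockOk (k * 1) = true := between_extend blockOk 1 2381 2417 35 (f6u0) f6r1

theorem f6r2 : allRange blockOk 1 2452 35 = true := by decide +kernel
theorem f6u2 : ∀ k, 2381 ≤ k → k < 2487 → blockOk (k * 1) = true := between_extend blockOk 1 2381 2452 35 (f6u1) f6r2

theorem f6r3 : allRange blockOk 1 2487 35 = true := by decide +kernel
theorem f6u3 : ∀ k, 2381 ≤ k → k < 2522 → blockOk (k * 1) = true := between_extend blockOk 1 2381 2487 35 (f6u2) f6r3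

theorem f6r4 : allRange blockOk 1 2522 34 = true := by decide +kernel
theorem f6u4 : ∀ k, 2381 ≤ k → k < 2556 → blockOk (k * 1) = true := between_extend blockOk 1 2381 2522 34 (f6u3) f6r4

theorem f6r5 : allRange blockOk 1 2556 35 = true := by decide +kernel
theorem f6u5 : ∀ k, 2381 ≤ k → k < 2591 → blockOk (k * 1) = true := between_extend blockOk 1 2381 2556 35 (f6u4) f6r5

theorem f6r6 : allRange blockOk 1 2591 33 = true := by decide +kernel
theorem f6u6 : ∀ k, 2381 ≤ k → k < 2624 → blockOk (k * 1) = true := between_extend blockOk 1 2381 2591 33 (f6u5) f6r6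

theorem f6r7 : allRange blockOk 1 2624 10 = true := by decide +kernel
theorem f6u7 : ∀ k, 2381 ≤ k → k < 2634 → blockOk (k * 1) = true := between_extend blockOk 1 2381 2624 10 (f6u6) f6r7

theorem f6 : ∀ k, 2381 ≤ k → k < 2634 → blockOk (k * 1) = true := f6u7

end Cfsg.Agent.Lib.Helper28_S1692.U
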