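import Cfsg.Agent.Lib.Helper28_S1692UF3  -- build-order chain (limits parallel memory use)
import Cfsg.Agent.Lib.Helper28_S1692UDef

set_option autoImplicit false
set_option linter.constructorNameAsVariable false
set_option Elab.async false

namespace Cfsg.Agent.Lib.Helper28_S1692.U

open Cfsg.Agent.Lib.Helper28_CosetPerm

theorem f7r0 : allRange blockOk 1 2634 34 = true := by decide +kernel
theorem f7u0 : ∀ k, 2634 ≤ k → k < 2668 → blockOk (k * 1) = true := between_extend blockOk 1 2634 2634 34 (between_start blockOk 1 2634) f7r0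

theorem f7r1 : allRange blockOk 1 2668 33 = true := by decide +kernel
theorem f7u1 : ∀ k, 2634 ≤ k → k < 2701 → blockOk (k * 1) = true := between_extend blockOk 1 2634 2668 33 (f7u0) f7r1

theorem f7r2 : allRange blockOk 1 2701 32 = true := by decide +kernel
theorem f7u2 : ∀ k, 2634 ≤ k → k < 2733 → blockOk (k * 1) = true := between_extend blockOk 1 2634 2701 32 (f7u1) f7r2

theorem f7r3 : allRange blockOk 1 2733 31 = true := by decide +kernel
theorem f7u3 : ∀ k, 2634 ≤ k → k < 2764 → blockOk (k * 1) = true := between_extend blockOk 1 2634 2733 31 (f7u2) f7r3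

theorem f7r4 : allRange blockOk 1 2764 31 = true := by decide +kernel
theorem f7u4 : ∀ k, 2634 ≤ k → k < 2795 → blockOk (k * 1) = true := between_extend blockOk 1 2634 2764 31 (f7u3) f7r4

theorem f7r5 : allRange blockOk 1 2795 30 = true := by decide +kernel
theorem f7u5 : ∀ k, 2634 ≤ k → k < 2825 → blockOk (k * 1) = true := between_extend blockOk 1 2634 2795 30 (f7u4) f7r5

theorem f7r6 : allRange blockOk 1 2825 30 = true := by decide +kernel
theorem f7u6 : ∀ k, 2634 ≤ k → k < 2855 → blockOk (k * 1) = true := between_extend blockOk 1 2634 2825 30 (f7u5) f7r6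

theorem f7r7 : allRange blockOk 1 2855 9 = true := by decide +kernel
theorem f7u7 : ∀ k, 2634 ≤ k → k < 2864 → blockOk (k * 1) = true := between_extend blockOk 1 2634 2855 9 (f7u6) f7r7

theorem f7 : ∀ k, 2634 ≤ k → k < 2864 → blockOk (k * 1) = true := f7u7

end Cfsg.Agent.Lib.Helper28_S1692.U
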