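import Cfsg.Agent.Lib.Helper28_S1692UF4  -- build-order chain (limits parallel memory use)
import Cfsg.Agent.Lib.Helper28_S1692UDef

set_option autoImplicit false
set_option linter.constructorNameAsVariable false
set_option Elab.async false

namespace Cfsg.Agent.Lib.Helper28_S1692.U

open Cfsg.Agent.Lib.Helper28_CosetPerm

theorem r0r0 : allRange rowOk 1 0 6781 = true := by decide +kernel
theorem r0u0 : ∀ k, 0 ≤ k → k < 6781 → rowOk (k * 1) = true := between_extend rowOk 1 0 0 6781 (between_start rowOk 1 0) r0r0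

theorem r0r1 : allRange rowOk 1 6781 6988 = true := by decide +kernel
theorem r0u1 : ∀ k, 0 ≤ k → k < 13769 → rowOk (k * 1) = true := between_extend rowOk 1 0 6781 6988 (r0u0) r0r1

theorem r0r2 : allRange rowOk 1 13769 8465 = true := by decide +kernel
theorem r0u2 : ∀ k, 0 ≤ k → k < 22234 → rowOk (k * 1) = true := between_extend rowOk 1 0 13769 8465 (r0u1) r0r2

theorem r0r3 : allRange rowOk 1 22234 6210 = true := by decide +kernel
theorem r0u3 : ∀ k, 0 ≤ k → k < 28444 → rowOk (k * 1) = true := between_extend rowOk 1 0 22234 6210 (r0u2) r0r3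

theorem r0r4 : allRange rowOk 1 28444 8078 = true := by decide +kernel
theorem r0u4 : ∀ k, 0 ≤ k → k < 36522 → rowOk (k * 1) = true := between_extend rowOk 1 0 28444 8078 (r0u3) r0r4

theorem r0r5 : allRange rowOk 1 36522 8582 = true := by decide +kernel
theorem r0u5 : ∀ k, 0 ≤ k → k < 45104 → rowOk (k * 1) = true := between_extend rowOk 1 0 36522 8582 (r0u4) r0r5

theorem r0r6 : allRange rowOk 1 45104 1190 = true := by decide +kernel
theorem r0u6 : ∀ k, 0 ≤ k → k < 46294 → rowOk (k * 1) = true := between_extend rowOk 1 0 45104 1190 (r0u5) r0r6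

theorem r0 : ∀ k, 0 ≤ k → k < 46294 → rowOk (k * 1) = true := r0u6

end Cfsg.Agent.Lib.Helper28_S1692.U
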