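import Cfsg.Agent.Lib.Helper28_S1692UF5  -- build-order chain (limits parallel memory use)
import Cfsg.Agent.Lib.Helper28_S1692UDef

set_option autoImplicit false
set_option linter.constructorNameAsVariable false
set_option Elab.async false

namespace Cfsg.Agent.Lib.Helper28_S1692.U

open Cfsg.Agent.Lib.Helper28_CosetPerm

theorem r1r0 : allRange rowOk 1 46294 8259 = true := by decide +kernel
theorem r1u0 : ∀ k, 46294 ≤ k → k < 54553 → rowOk (k * 1) = true := between_extend rowOk 1 46294 46294 8259 (between_start rowOk 1 46294) r1r0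

theorem r1r1 : allRange rowOk 1 54553 7146 = true := by decide +kernel
theorem r1u1 : ∀ k, 46294 ≤ k → k < 61699 → rowOk (k * 1) = true := between_extend rowOk 1 46294 54553 7146 (r1u0) r1r1

theorem r1r2 : allRange rowOk 1 61699 10094 = true := by decide +kernel
theorem r1u2 : ∀ k, 46294 ≤ k → k < 71793 → rowOk (k * 1) = true := between_extend rowOk 1 46294 61699 10094 (r1u1) r1r2

theorem r1r3 : allRange rowOk 1 71793 10615 = true := by decide +kernel
theorem r1u3 : ∀ k, 46294 ≤ k → k < 82408 → rowOk (k * 1) = true := between_extend rowOk 1 46294 71793 10615 (r1u2) r1r3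

theorem r1r4 : allRange rowOk 1 82408 8769 = true := by decide +kernel
theorem r1u4 : ∀ k, 46294 ≤ k → k < 91177 → rowOk (k * 1) = true := between_extend rowOk 1 46294 82408 8769 (r1u3) r1r4

theorem r1r5 : allRange rowOk 1 91177 7395 = true := by decide +kernel
theorem r1u5 : ∀ k, 46294 ≤ k → k < 98572 → rowOk (k * 1) = true := between_extend rowOk 1 46294 91177 7395 (r1u4) r1r5

theorem r1r6 : allRange rowOk 1 98572 1375 = true := by decide +kernel
theorem r1u6 : ∀ k, 46294 ≤ k → k < 99947 → rowOk (k * 1) = true := between_extend rowOk 1 46294 98572 1375 (r1u5) r1r6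

theorem r1 : ∀ k, 46294 ≤ k → k < 99947 → rowOk (k * 1) = true := r1u6

end Cfsg.Agent.Lib.Helper28_S1692.U
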