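import Cfsg.Agent.Lib.Helper28_S1692UF6  -- build-order chain (limits parallel memory use)
import Cfsg.Agent.Lib.Helper28_S1692UDef

set_option autoImplicit false
set_option linter.constructorNameAsVariable false
set_option Elab.async false

namespace Cfsg.Agent.Lib.Helper28_S1692.U

open Cfsg.Agent.Lib.Helper28_CosetPerm

theorem r2r0 : allRange rowOk 1 99947 9962 = true := by decide +kernel
theorem r2u0 : ∀ k, 99947 ≤ k → k < 109909 → rowOk (k * 1) = true := between_extend rowOk 1 99947 99947 9962 (between_start rowOk 1 99947) r2r0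

theorem r2r1 : allRange rowOk 1 109909 8769 = true := by decide +kernel
theorem r2u1 : ∀ k, 99947 ≤ k → k < 118678 → rowOk (k * 1) = true := between_extend rowOk 1 99947 109909 8769 (r2u0) r2r1

theorem r2r2 : allRange rowOk 1 118678 9992 = true := by decide +kernel
theorem r2u2 : ∀ k, 99947 ≤ k → k < 128670 → rowOk (k * 1) = true := between_extend rowOk 1 99947 118678 9992 (r2u1) r2r2

theorem r2r3 : allRange rowOk 1 128670 13108 = true := by decide +kernel
theorem r2u3 : ∀ k, 99947 ≤ k → k < 141778 → rowOk (k * 1) = true := between_extend rowOk 1 99947 128670 13108 (r2u2) r2r3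

theorem r2r4 : allRange rowOk 1 141778 11759 = true := by decide +kernel
theorem r2u4 : ∀ k, 99947 ≤ k → k < 153537 → rowOk (k * 1) = true := between_extend rowOk 1 99947 141778 11759 (r2u3) r2r4

theorem r2r5 : allRange rowOk 1 153537 5275 = true := by decide +kernel
theorem r2u5 : ∀ k, 99947 ≤ k → k < 158812 → rowOk (k * 1) = true := between_extend rowOk 1 99947 153537 5275 (r2u4) r2r5

theorem r2r6 : allRange rowOk 1 158812 1049 = true := by decide +kernel
theorem r2u6 : ∀ k, 99947 ≤ k → k < 159861 → rowOk (k * 1) = true := between_extend rowOk 1 99947 158812 1049 (r2u5) r2r6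

theorem r2 : ∀ k, 99947 ≤ k → k < 159861 → rowOk (k * 1) = true := r2u6

end Cfsg.Agent.Lib.Helper28_S1692.U
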