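import Cfsg.Agent.Lib.Helper28_S1692P6  -- build-order chain (limits parallel memory use)
import Cfsg.Agent.Lib.Helper28_S1692UDef

set_option autoImplicit false
set_option linter.constructorNameAsVariable false
set_option Elab.async false

namespace Cfsg.Agent.Lib.Helper28_S1692.U

open Cfsg.Agent.Lib.Helper28_CosetPerm

theorem f0r0 : allRange blockOk 1 0 65 = true := by decide +kernel
theorem f0u0 : ∀ k, 0 ≤ k → k < 65 → blockOk (k * 1) = true := between_extend blockOk 1 0 0 65 (between_start blockOk 1 0) f0r0

theorem f0r1 : allRange blockOk 1 65 62 = true := by decide +kernel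
theorem f0u1 : ∀ k, 0 ≤ k → k < 127 → blockOk (k * 1) = true := between_extend blockOk 1 0 65 62 (f0u0) f0r1

theorem f0r2 : allRange blockOk 1 127 63 = true := by decide +kernel
theorem f0u2 : ∀ k, 0 ≤ k → k < 190 → blockOk (k * 1) = true := between_extend blockOk 1 0 127 63 (f0u1) f0r2

theorem f0r3 : allRange blockOk 1 190 64 = true := by decide +kernel
theorem f0u3 : ∀ k, 0 ≤ k → k < 254 → blockOk (k * 1) = true := between_extend blockOk 1 0 190 64 (f0u2) f0r3

theorem f0r4 : allRange blockOk 1 254 62 = true := by decide +kernel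
theorem f0u4 : ∀ k, 0 ≤ k → k < 316 → blockOk (k * 1) = true := between_extend blockOk 1 0 254 62 (f0u3) f0r4

theorem f0r5 : allRange blockOk 1 316 64 = true := by decide +kernel
theorem f0u5 : ∀ k, 0 ≤ k → k < 380 → blockOk (k * 1) = true := between_extend blockOk 1 0 316 64 (f0u4) f0r5

theorem f0r6 : allRange blockOk 1 380 61 = true := by decide +kernel
theorem f0u6 : ∀ k, 0 ≤ k → k < 441 → blockOk (k * 1) = true := between_extend blockOk 1 0 380 61 (f0u5) f0r6

theorem f0r7 : allRange blockOk 1 441 15 = true := by decide +kernel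
theorem f0u7 : ∀ k, 0 ≤ k → k < 456 → blockOk (k * 1) = true := between_extend blockOk 1 0 441 15 (f0u6) f0r7

theorem f0 : ∀ k, 0 ≤ k → k < 456 → blockOk (k * 1) = true := f0u7

end Cfsg.Agent.Lib.Helper28_S1692.U
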