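import Cfsg.Agent.Lib.Helper28_S1692UF7  -- build-order chain (limits parallel memory use)
import Cfsg.Agent.Lib.Helper28_S1692UDef

set_option autoImplicit false
set_option linter.constructorNameAsVariable false
set_option Elab.async false

namespace Cfsg.Agent.Lib.Helper28_S1692.U

open Cfsg.Agent.Lib.Helper28_CosetPerm

theorem r3r0 : allRange rowOk 1 159861 5192 = true := by decide +kernel
theorem r3u0 : ∀ k, 159861 ≤ k → k < 165053 → rowOk (k * 1) = true := between_extend rowOk 1 159861 159861 5192 (between_start rowOk 1 159861) r3r0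

theorem r3r1 : allRange rowOk 1 165053 5166 = true := by decide +kernel
theorem r3u1 : ∀ k, 159861 ≤ k → k < 170219 → rowOk (k * 1) = true := between_extend rowOk 1 159861 165053 5166 (r3u0) r3r1

theorem r3r2 : allRange rowOk 1 170219 5134 = true := by decide +kernel
theorem r3u2 : ∀ k, 159861 ≤ k → k < 175353 → rowOk (k * 1) = true := between_extend rowOk 1 159861 170219 5134 (r3u1) r3r2

theorem r3r3 : allRange rowOk 1 175353 5134 = true := by decide +kernel
theorem r3u3 : ∀ k, 159861 ≤ k → k < 180487 → rowOk (k * 1) = true := between_extend rowOk 1 159861 175353 5134 (r3u2) r3r3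

theorem r3r4 : allRange rowOk 1 180487 5107 = true := by decide +kernel
theorem r3u4 : ∀ k, 159861 ≤ k → k < 185594 → rowOk (k * 1) = true := between_extend rowOk 1 159861 180487 5107 (r3u3) r3r4

theorem r3r5 : allRange rowOk 1 185594 5092 = true := by decide +kernel
theorem r3u5 : ∀ k, 159861 ≤ k → k < 190686 → rowOk (k * 1) = true := between_extend rowOk 1 159861 185594 5092 (r3u4) r3r5

theorem r3r6 : allRange rowOk 1 190686 1015 = true := by decide +kernel
theorem r3u6 : ∀ k, 159861 ≤ k → k < 191701 → rowOk (k * 1) = true := between_extend rowOk 1 159861 190686 1015 (r3u5) r3r6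

theorem r3 : ∀ k, 159861 ≤ k → k < 191701 → rowOk (k * 1) = true := r3u6

end Cfsg.Agent.Lib.Helper28_S1692.U
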