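import Mathlib
import Cfsg.Agent.Lib.Helper40_GLClassDefs

/-!
# S2478 package LOW (architect helper40): `q^n - q^(n-1) ≤ k(GL_n(q))`
-/

set_option autoImplicit false

namespace Cfsg.Agent.Lib.Helper55_S2478_LOW

open Polynomial DirectSum Cfsg.Agent.Lib.Helper40_GLClassDefs

universe u

/-- every monic polynomial is a characteristic polynomial -/
theorem exists_matrix {F : Type u} [Field F] (n : ℕ) (f : F[X]) (hf : f.Monic)
    (hn : f.natDegree = n) : ∃ A : Matrix (Fin n) (Fin n) F, A.charpoly = f := by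
  have hdim : (AdjoinRoot.powerBasis hf.ne_zero).dim = n := by
    rw [← hn]; exact AdjoinRoot.powerBasis_dim hf.ne_zero
  have hA : (Algebra.leftMulMatrix (AdjoinRoot.powerBasis hf.ne_zero).basis
      (AdjoinRoot.powerBasis hf.ne_zero).gen).charpoly = f := by
    rw [charpoly_leftMulMatrix]
    exact AdjoinRoot.minpoly_powerBasis_gen_of_monic hf
  refine ⟨Matrix.reindex (finCongr hdim) (finCongr hdim)
    (Algebra.leftMulMatrix (AdjoinRoot.powerBasis hf.ne_zero).basis
      (AdjoinRoot.powerBasis hf.ne_zero).gen), ?_⟩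
  rw [Matrix.charpoly_reindex, hA]

/-- ... of an invertible matrix if the constant term is nonzero -/
theorem exists_gl {F : Type u} [Field F] (n : ℕ) (f : F[X]) (hf : f ∈ MonicNZ F n) :
    ∃ g : Matrix.GeneralLinearGroup (Fin n) F, (g : Matrix (Fin n) (Fin n) F).charpoly = f := by
  obtain ⟨hm, hn, h0⟩ := hf
  obtain ⟨A, hA⟩ := exists_matrix n f hm hn
  have hdet : A.det ≠ 0 := by
    rw [Matrix.det_eq_sign_charpoly_coeff, hA]
    exact mul_ne_zero (pow_ne_zero _ (neg_ne_zero.mpr one_ne_zero)) h0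
  exact ⟨Matrix.GeneralLinearGroup.mkOfDetNeZero A hdet, hA⟩

theorem charpoly_eq_of_isConj {F : Type u} [Field F] (n : ℕ)
    {g h : Matrix.GeneralLinearGroup (Fin n) F} (hc : IsConj g h) :
    (g : Matrix (Fin n) (Fin n) F).charpoly = (h : Matrix (Fin n) (Fin n) F).charpoly := by
  obtain ⟨c, hc⟩ := isConj_iff.mp hc
  rw [← hc]
  have : ((c * g * c⁻¹ : Matrix.GeneralLinearGroup (Fin n) F) : Matrix (Fin n) (Fin n) F) =
      (c : Matrix (Fin n) (Fin n) F) * (g : Matrix (Fin n) (Fin n) F) *
        (c : Matrix (Fin n) (Fin n) F)⁻¹ := by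
    rw [Units.val_mul, Units.val_mul, Matrix.coe_units_inv]
  rw [this, Matrix.charpoly_units_conj]

theorem low {F : Type u} [Field F] [Fintype F] (n : ℕ) (hn : 1 ≤ n)
    (hcard : (MonicNZ F n).Finite ∧ Nat.card (MonicNZ F n) = Nq (Fintype.card F) n) :
    Fintype.card F ^ n - Fintype.card F ^ (n - 1) ≤
      Nat.card (ConjClasses (Matrix.GeneralLinearGroup (Fin n) F)) := by
  classical
  have hNq : Nq (Fintype.card F) n = Fintype.card F ^ n - Fintype.card F ^ (n - 1) := by
    unfold Nq
    rw [if_neg (by omega), Nat.sub_mul, one_mul]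
    congr 1
    rw [← pow_succ']
    congr 1
    omega
  rw [← hNq, ← hcard.2]
  choose φ hφ using fun f : MonicNZ F n => exists_gl n f.1 f.2
  have hinj : Function.Injective (fun f : MonicNZ F n => ConjClasses.mk (φ f)) := by
    intro f f' h
    have h1 : IsConj (φ f) (φ f') := ConjClasses.mk_eq_mk_iff_isConj.mp h
    have h2 := charpoly_eq_of_isConj n h1
    rw [hφ, hφ] at h2
    exact Subtype.ext h2
  exact Nat.card_le_card_of_injective _ hinj

end Cfsg.Agent.Lib.Helper55_S2478_LOW
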