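import Mathlib
import Cfsg.Agent.Lib.Helper40_GLClassDefs
import Cfsg.Agent.Lib.Helper40_SLClassDefs
import Cfsg.Agent.Lib.Helper55_S2478_LOW

set_option autoImplicit false

/-!
# S2479 market (architect helper40), package S2479-LOWSL (helper28): `q^(n-1) < k(SL_n(q))`.

The `q^(n-1)` monic polynomials of degree `n` with constant term `(-1)^n` are characteristic polynomials of
non-identity matrices of determinant `1` (for `(X-1)^n` take a transvection); together with the class of `1`
this gives `q^(n-1) + 1` classes.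
-/

namespace Cfsg.Agent.Lib.Helper28_S2479_LOWSL

open Polynomial DirectSum Cfsg.Agent.Lib.Helper40_GLClassDefs Cfsg.Agent.Lib.Helper40_SLClassDefs

universe u v

section transvection

variable {F : Type u} [Field F] (m : ℕ)

/-- The transvection `1 + E_{01}`. -/
def tv : Matrix (Fin (m + 2)) (Fin (m + 2)) F := 1 + Matrix.single 0 1 1

theorem tv_upper : (tv m : Matrix (Fin (m + 2)) (Fin (m + 2)) F).IsUpperTriangular := by
  intro i j hij
  have hne : i ≠ j := ne_of_gt hij
  simp only [tv, Matrix.add_apply, Matrix.one_apply_ne hne, Matrix.single_apply, zero_add]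
  rw [if_neg]
  rintro ⟨rfl, rfl⟩
  exact absurd hij (Fin.not_lt_zero _)

theorem tv_diag (i : Fin (m + 2)) : (tv m : Matrix (Fin (m + 2)) (Fin (m + 2)) F) i i = 1 := by
  simp only [tv, Matrix.add_apply, Matrix.one_apply_eq, Matrix.single_apply]
  rw [if_neg, add_zero]
  rintro ⟨h0, h1⟩
  rw [← h0] at h1
  exact absurd h1 Fin.zero_ne_one.symm

theorem tv_det : (tv m : Matrix (Fin (m + 2)) (Fin (m + 2)) F).det = 1 := by
  rw [Matrix.det_of_isUpperTriangular (tv_upper m)]
  simp [tv_diag]

theorem tv_charpoly : (tv m : Matrix (Fin (m + 2)) (Fin (m + 2)) F).charpoly =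
    (1 : Matrix (Fin (m + 2)) (Fin (m + 2)) F).charpoly := by
  rw [Matrix.charpoly_of_isUpperTriangular _ (tv_upper m), Matrix.charpoly_one]
  simp [tv_diag]

theorem tv_ne_one : (tv m : Matrix (Fin (m + 2)) (Fin (m + 2)) F) ≠ 1 := by
  intro h
  have h01 := congrFun (congrFun h 0) 1
  simp [tv] at h01

end transvection

theorem charpoly_eq_of_isConj_sl {F : Type u} [Field F] (n : ℕ)
    {g h : Matrix.SpecialLinearGroup (Fin n) F} (hc : IsConj g h) :
    (g : Matrix (Fin n) (Fin n) F).charpoly = (h : Matrix (Fin n) (Fin n) F).charpoly := by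
  have h1 : IsConj (Matrix.SpecialLinearGroup.toGL g) (Matrix.SpecialLinearGroup.toGL h) :=
    (Matrix.SpecialLinearGroup.toGL (n := Fin n) (R := F)).map_isConj hc
  have h2 := Cfsg.Agent.Lib.Helper55_S2478_LOW.charpoly_eq_of_isConj n h1
  simpa using h2

theorem lowsl {F : Type u} [Field F] [Fintype F] (n : ℕ) (hn : 2 ≤ n)
    (hconst : ∀ c : F,
      {f : F[X] | f.Monic ∧ f.natDegree = n ∧ f.coeff 0 = c}.Finite ∧
      Nat.card {f : F[X] // f.Monic ∧ f.natDegree = n ∧ f.coeff 0 = c} =
        Fintype.card F ^ (n - 1)) :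
    Fintype.card F ^ (n - 1) <
      Nat.card (ConjClasses (Matrix.SpecialLinearGroup (Fin n) F)) := by
  classical
  obtain ⟨m, rfl⟩ : ∃ m, n = m + 2 := ⟨n - 2, by omega⟩
  obtain ⟨hfin, hcard⟩ := hconst ((-1) ^ (m + 2))
  have : Finite {f : F[X] // f.Monic ∧ f.natDegree = m + 2 ∧ f.coeff 0 = (-1) ^ (m + 2)} :=
    hfin.to_subtype
  have : Finite (Matrix.SpecialLinearGroup (Fin (m + 2)) F) := by
    unfold Matrix.SpecialLinearGroup
    infer_instance
  -- a non-identity element of `SL` with prescribed characteristic polynomial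
  have hex : ∀ f : {f : F[X] // f.Monic ∧ f.natDegree = m + 2 ∧ f.coeff 0 = (-1) ^ (m + 2)},
      ∃ A : Matrix.SpecialLinearGroup (Fin (m + 2)) F,
        (A : Matrix (Fin (m + 2)) (Fin (m + 2)) F).charpoly = f.1 ∧ A ≠ 1 := by
    rintro ⟨f, hmon, hdeg, hcoeff⟩
    obtain ⟨A, hA⟩ := Cfsg.Agent.Lib.Helper55_S2478_LOW.exists_matrix (m + 2) f hmon hdeg
    have hdet : A.det = 1 := by
      rw [Matrix.det_eq_sign_charpoly_coeff, hA, hcoeff, Fintype.card_fin, ← mul_pow]
      simp
    by_cases h1 : A = 1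
    · refine ⟨⟨tv m, tv_det m⟩, ?_, ?_⟩
      · show (tv m : Matrix (Fin (m + 2)) (Fin (m + 2)) F).charpoly = f
        rw [tv_charpoly, ← h1, hA]
      · intro h
        exact tv_ne_one m (congrArg Subtype.val h)
    · refine ⟨⟨A, hdet⟩, hA, ?_⟩
      intro h
      exact h1 (congrArg Subtype.val h)
  choose φ hφ using hex
  let Φ : Option {f : F[X] // f.Monic ∧ f.natDegree = m + 2 ∧ f.coeff 0 = (-1) ^ (m + 2)} →
      ConjClasses (Matrix.SpecialLinearGroup (Fin (m + 2)) F) := fun o =>
    match o with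
    | none => ConjClasses.mk 1
    | some f => ConjClasses.mk (φ f)
  have hinj : Function.Injective Φ := by
    intro o o' h
    rcases o with _ | f <;> rcases o' with _ | f'
    · rfl
    · exfalso
      have h1 : IsConj (1 : Matrix.SpecialLinearGroup (Fin (m + 2)) F) (φ f') :=
        ConjClasses.mk_eq_mk_iff_isConj.mp h
      exact (hφ f').2 (isConj_one_right.mp h1)
    · exfalso
      have h1 : IsConj (φ f) (1 : Matrix.SpecialLinearGroup (Fin (m + 2)) F) :=
        ConjClasses.mk_eq_mk_iff_isConj.mp h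
      exact (hφ f).2 (isConj_one_left.mp h1)
    · have h1 : IsConj (φ f) (φ f') := ConjClasses.mk_eq_mk_iff_isConj.mp h
      have h2 := charpoly_eq_of_isConj_sl (m + 2) h1
      rw [(hφ f).1, (hφ f').1] at h2
      exact congrArg some (Subtype.ext h2)
  have hle := Nat.card_le_card_of_injective Φ hinj
  rw [Finite.card_option, hcard] at hle
  omega

end Cfsg.Agent.Lib.Helper28_S2479_LOWSL
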