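import Mathlib
import Cfsg.Agent.Lib.Helper76_S2647Defs
import Cfsg.Agent.Lib.Helper44_Spinor
import Cfsg.Agent.Lib.Helper44_OmegaOdd

set_option autoImplicit false
set_option linter.unusedVariables false

/-!
# S2647 market (architect helper76), package FUSE (helper28): the sign change `diag(-1,-1,1,1,1,1,1)` is
`Ω₇`-conjugate to the permutation matrix of `(0 1)(2 3)`.

With `2x² + 2y² = 1` the matrix `M x y` is orthogonal and `M * diag(-1,-1,1,…) = P_{(01)(23)} * M`; it is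
corrected into `Ω₇ = ker det ∩ ker θ` by one of `1, c₁ = flip 4, c₂ = swap 4 5, c₁ c₂`, which commute with the
sign change.
-/

open Matrix Cfsg.Agent.Lib.Helper76_S2647Defs

namespace Cfsg.Agent.Lib.Helper28_S2647_FUSE

variable {F : Type*} [Field F]

/-- the matrix `g₀` -/
def M (x y : F) : Matrix (Fin 7) (Fin 7) F :=
  !![x, -y, x, -y, 0, 0, 0;
     -x, y, x, -y, 0, 0, 0;
     y, x, y, x, 0, 0, 0;
     -y, -x, y, x, 0, 0, 0;
     0, 0, 0, 0, 1, 0, 0;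
     0, 0, 0, 0, 0, 1, 0;
     0, 0, 0, 0, 0, 0, 1]

theorem Mt_mul_M (x y : F) (hxy : 2 * x * x + 2 * y * y = 1) : (M x y)ᵀ * M x y = 1 := by
  ext i j
  fin_cases i <;> fin_cases j <;>
    simp [M, Matrix.mul_apply, Fin.sum_univ_succ] <;>
    first | done | ring1 | linear_combination hxy

theorem M_mul_Mt (x y : F) (hxy : 2 * x * x + 2 * y * y = 1) : M x y * (M x y)ᵀ = 1 :=
  mul_eq_one_comm.mp (Mt_mul_M x y hxy)

/-- `g₀` in `GL₇` -/
def g0GL (x y : F) (hxy : 2 * x * x + 2 * y * y = 1) : Matrix.GeneralLinearGroup (Fin 7) F :=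
  ⟨M x y, (M x y)ᵀ, M_mul_Mt x y hxy, Mt_mul_M x y hxy⟩

theorem g0_mem (x y : F) (hxy : 2 * x * x + 2 * y * y = 1) : g0GL x y hxy ∈ O7 F := by
  rw [Cfsg.Agent.Lib.Helper44_Orth.mem_isometryGroup_iff]
  intro u
  rw [Q7_apply, Q7_apply]
  show ((M x y) *ᵥ u) ⬝ᵥ ((M x y) *ᵥ u) = u ⬝ᵥ u
  rw [Matrix.dotProduct_mulVec, ← Matrix.mulVec_transpose, Matrix.mulVec_mulVec,
    Mt_mul_M x y hxy, Matrix.one_mulVec]

/-- `g₀` in `O₇` -/
def g0 (x y : F) (hxy : 2 * x * x + 2 * y * y = 1) : ↥(O7 F) := ⟨g0GL x y hxy, g0_mem x y hxy⟩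

/-- the sign vector `(-1,-1,1,1,1,1,1)` -/
def dd : Fin 7 → ℤˣ := ![-1, -1, 1, 1, 1, 1, 1]

/-- the sign vector `(1,1,1,1,-1,1,1)` -/
def f4 : Fin 7 → ℤˣ := ![1, 1, 1, 1, -1, 1, 1]

/-- `(0 1)(2 3)` as an explicit permutation -/
def σ : Equiv.Perm (Fin 7) where
  toFun := ![1, 0, 3, 2, 4, 5, 6]
  invFun := ![1, 0, 3, 2, 4, 5, 6]
  left_inv := by decide
  right_inv := by decide

theorem σ_eq : Equiv.swap (0 : Fin 7) 1 * Equiv.swap 2 3 = σ := by
  apply Equiv.ext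
  decide

theorem M_conj (x y : F) : M x y * monM F dd 1 = monM F 1 σ * M x y := by
  ext i j
  fin_cases i <;> fin_cases j <;>
    simp [M, Matrix.mul_apply, Fin.sum_univ_succ, monM_apply, sgnF, dd, σ]

theorem g0_conj (x y : F) (hxy : 2 * x * x + 2 * y * y = 1) :
    g0 x y hxy * monO F dd 1 = monO F 1 σ * g0 x y hxy := by
  apply Subtype.ext
  apply Units.ext
  exact M_conj x y

theorem conj_of_comm {G : Type*} [Group G] {g c D P : G} (hc : c * D = D * c)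
    (h0 : g * D = P * g) : (g * c) * D * (g * c)⁻¹ = P := by
  have h1 : c * D * c⁻¹ = D := by rw [hc]; group
  calc (g * c) * D * (g * c)⁻¹ = g * (c * D * c⁻¹) * g⁻¹ := by group
    _ = g * D * g⁻¹ := by rw [h1]
    _ = P := by rw [h0]; group

theorem det_sq (x y : F) (hxy : 2 * x * x + 2 * y * y = 1) :
    (M x y).det = 1 ∨ (M x y).det = -1 := by
  have h := congrArg Matrix.det (Mt_mul_M x y hxy)
  rw [Matrix.det_mul, Matrix.det_transpose, Matrix.det_one] at h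
  exact mul_self_eq_one_iff.mp h

theorem comm1 : monO F f4 1 * monO F dd 1 = monO F dd 1 * monO F f4 1 := by
  rw [monO_mul, monO_mul]
  congr 1
  funext j
  simp only [Equiv.Perm.coe_one, id]
  exact mul_comm _ _

theorem comm2 : monO F 1 (Equiv.swap (4 : Fin 7) 5) * monO F dd 1 =
    monO F dd 1 * monO F 1 (Equiv.swap (4 : Fin 7) 5) := by
  rw [monO_mul, monO_mul, mul_one, one_mul]
  congr 1
  funext j
  revert j
  decide

theorem prod_f4 : ∏ j, f4 j = -1 := by decide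

theorem sign_swap45 : Equiv.Perm.sign (Equiv.swap (4 : Fin 7) 5) = -1 :=
  Equiv.Perm.sign_swap (by decide)

section main

variable [Fintype F]

theorem fuse (h2 : (2 : F) ≠ 0) (hns : ¬ IsSquare (2 : F))
    (hnd : (QuadraticMap.polarBilin (Q7 F)).Nondegenerate)
    (hdet : ∀ (ε : Fin 7 → ℤˣ) (π : Equiv.Perm (Fin 7)),
      (monM F ε π).det = (((Equiv.Perm.sign π : ℤˣ) : ℤ) : F) * ((((∏ j, ε j : ℤˣ)) : ℤ) : F))
    (hthp : ∀ π : Equiv.Perm (Fin 7), Cfsg.Agent.Lib.Helper44_Spinor.theta (Q7 F) (monO F 1 π) = 1)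
    (hthd : ∀ ε : Fin 7 → ℤˣ, Cfsg.Agent.Lib.Helper44_Spinor.theta (Q7 F) (monO F ε 1) = ∏ j, ε j) :
    ∃ g : ↥(O7 F), g ∈ Om7 F ∧
      g * monO F ![-1, -1, 1, 1, 1, 1, 1] 1 * g⁻¹ =
        monO F 1 (Equiv.swap (0 : Fin 7) 1 * Equiv.swap 2 3) := by
  classical
  -- `x² + y² = 1/2`
  obtain ⟨x, y, hxy⟩ : ∃ x y : F, 2 * x * x + 2 * y * y = 1 := by
    have hchar : ringChar F ≠ 2 := by
      intro h
      apply h2
      have := CharP.cast_eq_zero F (ringChar F)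
      rw [h] at this
      exact_mod_cast this
    have hodd := FiniteField.odd_card_of_char_ne_two hchar
    obtain ⟨a, b, hab⟩ := FiniteField.exists_root_sum_quadratic
      (f := (Polynomial.X : Polynomial F) ^ 2)
      (g := (Polynomial.X : Polynomial F) ^ 2 - Polynomial.C ((2 : F)⁻¹))
      (Polynomial.degree_X_pow 2) (Polynomial.degree_X_pow_sub_C (by norm_num) _) hodd
    refine ⟨a, b, ?_⟩
    simp only [Polynomial.eval_pow, Polynomial.eval_X, Polynomial.eval_sub, Polynomial.eval_C] at hab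
    have h3 : a ^ 2 + b ^ 2 = (2 : F)⁻¹ := by linear_combination hab
    have h4 : (2 : F) * (2 : F)⁻¹ = 1 := mul_inv_cancel₀ h2
    linear_combination 2 * h3 + h4
  rw [σ_eq]
  show ∃ g : ↥(O7 F), g ∈ Om7 F ∧ g * monO F dd 1 * g⁻¹ = monO F 1 σ
  have hconj := g0_conj x y hxy
  have hdetg0 : (((g0 x y hxy : ↥(O7 F)) : Matrix.GeneralLinearGroup (Fin 7) F) :
      Matrix (Fin 7) (Fin 7) F).det = (M x y).det := rfl
  have hd1 : (((monO F f4 1 : ↥(O7 F)) : Matrix.GeneralLinearGroup (Fin 7) F) :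
      Matrix (Fin 7) (Fin 7) F).det = -1 := by
    rw [monO_coe, hdet, prod_f4]
    simp
  have hd2 : (((monO F 1 (Equiv.swap (4 : Fin 7) 5) : ↥(O7 F)) :
      Matrix.GeneralLinearGroup (Fin 7) F) : Matrix (Fin 7) (Fin 7) F).det = -1 := by
    rw [monO_coe, hdet, sign_swap45]
    simp
  have ht1 : Cfsg.Agent.Lib.Helper44_Spinor.theta (Q7 F) (monO F f4 1) = -1 := by
    rw [hthd, prod_f4]
  have ht2 : Cfsg.Agent.Lib.Helper44_Spinor.theta (Q7 F) (monO F 1 (Equiv.swap (4 : Fin 7) 5)) = 1 :=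
    hthp _
  have hmem : ∀ g : ↥(O7 F),
      ((g : Matrix.GeneralLinearGroup (Fin 7) F) : Matrix (Fin 7) (Fin 7) F).det = 1 →
      Cfsg.Agent.Lib.Helper44_Spinor.theta (Q7 F) g = 1 → g ∈ Om7 F := fun g h1 h2' =>
    (Cfsg.Agent.Lib.Helper44_OmegaOdd.mem_omega_iff_det_theta h2 (Q7 F) hnd g).mpr ⟨h1, h2'⟩
  have hcoe_mul : ∀ a b : ↥(O7 F),
      (((a * b : ↥(O7 F)) : Matrix.GeneralLinearGroup (Fin 7) F) : Matrix (Fin 7) (Fin 7) F).det =
      ((a : Matrix.GeneralLinearGroup (Fin 7) F) : Matrix (Fin 7) (Fin 7) F).det *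
        ((b : Matrix.GeneralLinearGroup (Fin 7) F) : Matrix (Fin 7) (Fin 7) F).det := by
    intro a b
    rw [Subgroup.coe_mul, Units.val_mul, Matrix.det_mul]
  rcases det_sq x y hxy with ha | ha <;>
    rcases Int.units_eq_one_or (Cfsg.Agent.Lib.Helper44_Spinor.theta (Q7 F) (g0 x y hxy)) with ht | ht
  · -- (1, 1): `c = 1`
    refine ⟨g0 x y hxy, hmem _ (by rw [hdetg0, ha]) ht, ?_⟩
    have := conj_of_comm (c := (1 : ↥(O7 F))) (by rw [one_mul, mul_one]) hconj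
    simpa using this
  · -- (1, -1): `c = c₁ c₂`
    refine ⟨g0 x y hxy * (monO F f4 1 * monO F 1 (Equiv.swap (4 : Fin 7) 5)), hmem _ ?_ ?_, ?_⟩
    · rw [hcoe_mul, hcoe_mul, hdetg0, ha, hd1, hd2]; ring
    · rw [map_mul, map_mul, ht, ht1, ht2]; decide
    · refine conj_of_comm ?_ hconj
      rw [mul_assoc, comm2, ← mul_assoc, comm1, mul_assoc]
  · -- (-1, 1): `c = c₂`
    refine ⟨g0 x y hxy * monO F 1 (Equiv.swap (4 : Fin 7) 5), hmem _ ?_ ?_, ?_⟩
    · rw [hcoe_mul, hdetg0, ha, hd2]; ring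
    · rw [map_mul, ht, ht2]; decide
    · exact conj_of_comm comm2 hconj
  · -- (-1, -1): `c = c₁`
    refine ⟨g0 x y hxy * monO F f4 1, hmem _ ?_ ?_, ?_⟩
    · rw [hcoe_mul, hdetg0, ha, hd1]; ring
    · rw [map_mul, ht, ht1]; decide
    · exact conj_of_comm comm1 hconj

end main

end Cfsg.Agent.Lib.Helper28_S2647_FUSE
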