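import Mathlib
import Cfsg.Agent.Lib.Helper76_S2647Defs

set_option autoImplicit false

/-!
# S2647 market (architect helper76), package ZSY (helper28): the centre of `Sy`.
-/

open Matrix Cfsg.Agent.Lib.Helper76_S2647Defs

namespace Cfsg.Agent.Lib.Helper28_S2647_ZSY

/-- a third index -/
theorem exists_third : ∀ a b : Fin 7, ∃ c, c ≠ a ∧ c ≠ b := by decide

/-- the sign change at two places has product one -/
theorem prod_flip2 : ∀ j k : Fin 7, j ≠ k →
    ∏ i, (if i = j ∨ i = k then (-1 : ℤˣ) else 1) = 1 := by decide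

/-- the sign vectors constant on the orbits of `D8`, of product one -/
theorem four_cases (ε : Fin 7 → ℤˣ) (hr : ∀ j, ε (r4 j) = ε j) (_hs : ∀ j, ε (s2 j) = ε j)
    (hp : ∏ j, ε j = 1) :
    (ε = 1 ∨ ε = ![-1, -1, -1, -1, 1, 1, 1] ∨ ε = ![1, 1, 1, 1, -1, -1, 1] ∨
        ε = ![-1, -1, -1, -1, -1, -1, 1]) := by
  have h1 : ε 1 = ε 0 := hr 0
  have h2 : ε 2 = ε 1 := hr 1
  have h3 : ε 3 = ε 2 := hr 2
  have h5 : ε 5 = ε 4 := hr 4
  rw [Fin.prod_univ_seven, h5, h3, h2, h1] at hp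
  rcases Int.units_eq_one_or (ε 0) with a | a <;> rcases Int.units_eq_one_or (ε 4) with b | b
  · left
    rw [a, b] at hp
    funext i
    fin_cases i <;> simp_all
  · right; right; left
    rw [a, b] at hp
    funext i
    fin_cases i <;> simp_all
  · right; left
    rw [a, b] at hp
    funext i
    fin_cases i <;> simp_all
  · right; right; right
    rw [a, b] at hp
    funext i
    fin_cases i <;> simp_all

variable {F : Type*} [Field F]

theorem zsy
    (heq : ∀ (ε ε' : Fin 7 → ℤˣ) (π π' : Equiv.Perm (Fin 7)),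
      monO F ε π = monO F ε' π' ↔ ε = ε' ∧ π = π')
    (k : ↥(O7 F)) (hk : k ∈ Sy F) (hc : ∀ s ∈ Sy F, k * s = s * k) :
    ∃ ζ : Fin 7 → ℤˣ, k = monO F ζ 1 ∧
      (ζ = 1 ∨ ζ = ![-1, -1, -1, -1, 1, 1, 1] ∨ ζ = ![1, 1, 1, 1, -1, -1, 1] ∨
        ζ = ![-1, -1, -1, -1, -1, -1, 1]) := by
  obtain ⟨ε, π, hε, hπ, rfl⟩ := (mem_Sy_iff F k).mp hk
  -- step 1: `π = 1`
  have hπ1 : π = 1 := by
    by_contra hne
    obtain ⟨j, hj⟩ : ∃ j, π j ≠ j := by
      by_contra hall
      push Not at hall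
      exact hne (Equiv.ext hall)
    obtain ⟨c, hcj, hcπ⟩ := exists_third j (π j)
    have hmem : monO F (fun i => if i = j ∨ i = c then (-1 : ℤˣ) else 1) 1 ∈ Sy F :=
      (mem_Sy_iff F _).mpr ⟨_, 1, prod_flip2 j c (Ne.symm hcj), D8.one_mem, rfl⟩
    have h1 := hc _ hmem
    rw [monO_mul, monO_mul] at h1
    have h2 := ((heq _ _ _ _).mp h1).1
    have h3 := congrFun h2 j
    have e1 : (if j = j ∨ j = c then (-1 : ℤˣ) else 1) = -1 := if_pos (Or.inl rfl)
    have e2 : (if π j = j ∨ π j = c then (-1 : ℤˣ) else 1) = 1 := if_neg (by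
      rintro (h | h)
      · exact hj h
      · exact hcπ h.symm)
    simp only [Equiv.Perm.coe_one, id] at h3
    rw [e2] at h3
    simp only [true_or, if_true, mul_one] at h3
    have h4 : (-1 : ℤˣ) = 1 := by
      calc (-1 : ℤˣ) = (-1 * ε j) * (ε j)⁻¹ := by rw [mul_assoc, mul_inv_cancel, mul_one]
        _ = ε j * (ε j)⁻¹ := by rw [h3]
        _ = 1 := mul_inv_cancel _
    exact absurd h4 (by decide)
  subst hπ1
  refine ⟨ε, rfl, ?_⟩
  have hr : ∀ j, ε (r4 j) = ε j := by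
    have hmem : monO F 1 r4 ∈ Sy F :=
      (mem_Sy_iff F _).mpr ⟨1, r4, by simp, Subgroup.subset_closure (by simp), rfl⟩
    have h1 := hc _ hmem
    rw [monO_mul, monO_mul] at h1
    have h2 := ((heq _ _ _ _).mp h1).1
    intro j
    have h3 := congrFun h2 j
    simpa using h3
  have hs : ∀ j, ε (s2 j) = ε j := by
    have hmem : monO F 1 s2 ∈ Sy F :=
      (mem_Sy_iff F _).mpr ⟨1, s2, by simp, Subgroup.subset_closure (by simp), rfl⟩
    have h1 := hc _ hmem
    rw [monO_mul, monO_mul] at h1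
    have h2 := ((heq _ _ _ _).mp h1).1
    intro j
    have h3 := congrFun h2 j
    simpa using h3
  exact four_cases ε hr hs hε

end Cfsg.Agent.Lib.Helper28_S2647_ZSY
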