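import Mathlib
import Cfsg.Agent.Lib.Helper28_U6Closure
import Cfsg.Agent.Lib.Helper28_U6Fi22Data
import Cfsg.Agent.S1696

/-!
# `2.U6(2)` in the presented `Fi22`: the common action on 693 points

helper28.  The subgroup `H = ⟨a, c, …, i, (abcdeh)^5⟩` of the presented Fischer group `Fi22`
preserves the set of 693 table points matched with the isotropic points of `K4^6`; the
resulting representation `rhoXr : H →* Perm (Fin 693)` has the same image as
`thetaX : SU 6 K4 2 →* Perm (Fin 693)`.
-/

set_option autoImplicit false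
set_option linter.constructorNameAsVariable false

namespace Cfsg.Agent.Lib.Helper28_U6Fi22

open Cfsg.Spor Cfsg.Agent.Lib.Helper91_K4 Cfsg.Agent.Lib.Helper28_U6Pts
  Cfsg.Agent.Lib.Helper28_U6Theta Cfsg.Agent.Lib.Helper28_U6Closure
  Cfsg.Agent.Lib.Helper28_U6Fi22Data Cfsg.Agent.Lib.Helper28_CosetPerm
  Cfsg.Agent.Lib.Helper28_CommonAct Cfsg.Agent.Lib.Helper28_Fi22Order
  Cfsg.Agent.Lib.Helper28_S1687 Cfsg.Agent.S1696 Equiv

theorem betOk_spec (i : ℕ) (hi : i < 693) :
    betOff i % 16 = 0 ∧ betOff i < 56160 ∧ binv (betOff i) = i := by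
  have h := of_allRange betOk 1 0 693 betOk_all i (Nat.zero_le _) (by omega)
  rw [Nat.mul_one] at h
  simp only [betOk, Bool.and_eq_true, Nat.blt_eq] at h
  exact ⟨Nat.eq_of_beq_eq_true h.1, h.2.1, Nat.eq_of_beq_eq_true h.2.2⟩

/-- the table point matched with the `i`-th isotropic point -/
def bet (i : Fin 693) : Fin 3510 :=
  ⟨betOff i / 16, by have := (betOk_spec i i.2).2.1; omega⟩

theorem bet_spec (i : Fin 693) : (bet i : ℕ) * 16 = betOff i := by
  have := (betOk_spec i i.2).1
  simp only [bet]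
  omega

theorem bet_injective : Function.Injective bet := by
  intro i j h
  have h1 : betOff i = betOff j := by rw [← bet_spec, ← bet_spec, h]
  have hi := (betOk_spec i i.2).2.2
  have hj := (betOk_spec j j.2).2.2
  apply Fin.ext
  rw [← hi, h1, hj]

theorem ofNat_eq_iota (i : Fin 693) : Fin.ofNat 1366 i.val = iota i := by
  apply Fin.ext
  have := i.2
  simp only [Fin.ofNat, iota, Fin.val_castLE]
  omega

/-- the table permutation of a word -/
noncomputable abbrev wp (u : List (Fi22.Gen × Bool)) : Perm (Fin 3510) :=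
  FreeGroup.lift (perm verified.hv) (FreeGroup.mk u)

/-- the consequence of a generator check -/
theorem gen_act (u : List (Fi22.Gen × Bool)) (v : V) (hv : hf v v = 0)
    (h : allRange (gchk u v) 1 0 693 = true) (i : Fin 693) :
    (wp u)⁻¹ (bet i) = bet (thetaX (T v hv) i) := by
  have h1 := of_allRange _ 1 0 693 h i.val (Nat.zero_le _) (by have := i.2; omega)
  rw [Nat.mul_one] at h1
  simp only [gchk, Bool.and_eq_true, Nat.blt_eq] at h1
  obtain ⟨-, hw⟩ := h1
  have hw' := Nat.eq_of_beq_eq_true hw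
  rw [ofNat_eq_iota, ← theta_T v hv, ← thetaX_spec] at hw'
  have e : (iota (thetaX (T v hv) i)).val = (thetaX (T v hv) i).val := rfl
  rw [e, ← bet_spec, ← bet_spec, walk_fin verified.hv] at hw'
  exact Fin.ext (Nat.eq_of_mul_eq_mul_right (by norm_num) hw')

theorem fix_act (u : List (Fi22.Gen × Bool)) (h : allRange (achk u) 1 0 693 = true)
    (i : Fin 693) : (wp u)⁻¹ (bet i) = bet i := by
  have h1 := of_allRange _ 1 0 693 h i.val (Nat.zero_le _) (by have := i.2; omega)
  rw [Nat.mul_one] at h1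
  have hw' := Nat.eq_of_beq_eq_true h1
  rw [← bet_spec, walk_fin verified.hv] at hw'
  exact Fin.ext (Nat.eq_of_mul_eq_mul_right (by norm_num) hw')

/-- the set of matched points -/
def O : Finset (Fin 3510) := Finset.univ.image bet

theorem mem_O (y : Fin 3510) : y ∈ O ↔ ∃ i, bet i = y := by
  simp [O]

theorem stab_of_inv (p : Perm (Fin 3510)) (h : ∀ i, ∃ j, p⁻¹ (bet i) = bet j) :
    p ∈ setStab O := by
  have h1 : p⁻¹ ∈ setStab O := by
    show ∀ y, p⁻¹ y ∈ O ↔ y ∈ O
    apply perm_mem_iff_of_maps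
    intro y hy
    obtain ⟨i, rfl⟩ := (mem_O y).mp hy
    obtain ⟨j, hj⟩ := h i
    rw [hj]
    exact (mem_O _).mpr ⟨_, rfl⟩
  simpa using (setStab O).inv_mem h1

/-! ### the generators as words -/

theorem eA : (Fi22.a : FreeGroup Fi22.Gen) = FreeGroup.mk uA := by decide
theorem eC : (Fi22.c : FreeGroup Fi22.Gen) = FreeGroup.mk uC := by decide
theorem eD : (Fi22.d : FreeGroup Fi22.Gen) = FreeGroup.mk uD := by decide
theorem eE : (Fi22.e : FreeGroup Fi22.Gen) = FreeGroup.mk uE := by decide
theorem eF : (Fi22.f : FreeGroup Fi22.Gen) = FreeGroup.mk uF := by decide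
theorem eG : (Fi22.g : FreeGroup Fi22.Gen) = FreeGroup.mk uG := by decide
theorem eH : (Fi22.h : FreeGroup Fi22.Gen) = FreeGroup.mk uH := by decide
theorem eI : (Fi22.i : FreeGroup Fi22.Gen) = FreeGroup.mk uI := by decide
theorem eW : ((Fi22.a * Fi22.b * Fi22.c * Fi22.d * Fi22.e * Fi22.h) ^ 5 : FreeGroup Fi22.Gen) =
    FreeGroup.mk uW := by decide

theorem isoC : hf (dec 2031) (dec 2031) = 0 := by decide
theorem isoD : hf (dec 3005) (dec 3005) = 0 := by decide
theorem isoE : hf (dec 3298) (dec 3298) = 0 := by decide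
theorem isoF : hf (dec 596) (dec 596) = 0 := by decide
theorem isoG : hf (dec 2829) (dec 2829) = 0 := by decide
theorem isoH : hf (dec 3053) (dec 3053) = 0 := by decide
theorem isoI : hf (dec 3252) (dec 3252) = 0 := by decide
theorem isoW : hf (dec 3854) (dec 3854) = 0 := by decide

theorem stab_of_eq (s : FreeGroup Fi22.Gen) (u : List (Fi22.Gen × Bool)) (hs : s = FreeGroup.mk u)
    (h : wp u ∈ setStab O) : ∀ y, FreeGroup.lift (perm verified.hv) s y ∈ O ↔ y ∈ O := by
  subst hs
  exact h

theorem SH_stab : ∀ s ∈ SH, ∀ y, FreeGroup.lift (perm verified.hv) s y ∈ O ↔ y ∈ O := by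
  intro s hs
  simp only [SH, Set.mem_insert_iff, Set.mem_singleton_iff] at hs
  have key : ∀ (u : List (Fi22.Gen × Bool)) (v : V) (hv : hf v v = 0),
      allRange (gchk u v) 1 0 693 = true → wp u ∈ setStab O :=
    fun u v hv h => stab_of_inv _ (fun i => ⟨_, gen_act u v hv h i⟩)
  rcases hs with rfl | rfl | rfl | rfl | rfl | rfl | rfl | rfl | rfl
  · exact stab_of_eq _ uA eA (stab_of_inv _ (fun i => ⟨i, fix_act uA chkA i⟩))
  · exact stab_of_eq _ uC eC (key uC _ isoC chkC)
  · exact stab_of_eq _ uD eD (key uD _ isoD chkD)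
  · exact stab_of_eq _ uE eE (key uE _ isoE chkE)
  · exact stab_of_eq _ uF eF (key uF _ isoF chkF)
  · exact stab_of_eq _ uG eG (key uG _ isoG chkG)
  · exact stab_of_eq _ uH eH (key uH _ isoH chkH)
  · exact stab_of_eq _ uI eI (key uI _ isoI chkI)
  · exact stab_of_eq _ uW eW (key uW _ isoW chkW)

/-- the action of `H` on the 3510 points -/
noncomputable def rhoH : H →* Perm (Fin 3510) := rhoX.comp H.subtype

theorem rhoH_mk (w : FreeGroup Fi22.Gen) (hw : PresentedGroup.mk RELS w ∈ H) :
    rhoH ⟨PresentedGroup.mk RELS w, hw⟩ = FreeGroup.lift (perm verified.hv) w :=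
  psi_mk (rels := RELS) (perm verified.hv) verified.hrel w

theorem H_stab (h : H) (i : Fin 693) : ∃ j, rhoH h (bet i) = bet j := by
  obtain ⟨g, hg⟩ := h
  obtain ⟨w, hw, rfl⟩ := Subgroup.mem_map.mp hg
  have h1 := lift_mem_setStab (perm verified.hv) SH O SH_stab w hw (bet i)
  have h2 := h1.mpr ((mem_O _).mpr ⟨i, rfl⟩)
  obtain ⟨j, hj⟩ := (mem_O _).mp h2
  exact ⟨j, by rw [hj]; exact (rhoH_mk w _).symm ▸ rfl⟩

/-- the action of `H` on the 693 matched points -/
noncomputable def rhoXr : H →* Perm (Fin 693) := restr rhoH bet bet_injective H_stab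

theorem rhoXr_spec (h : H) (i : Fin 693) : bet (rhoXr h i) = rhoH h (bet i) :=
  restr_spec rhoH bet bet_injective H_stab h i

theorem rhoXr_gen (s : FreeGroup Fi22.Gen) (u : List (Fi22.Gen × Bool)) (hs : s = FreeGroup.mk u)
    (hm : PresentedGroup.mk RELS s ∈ H) (v : V) (hv : hf v v = 0)
    (h : allRange (gchk u v) 1 0 693 = true) :
    rhoXr ⟨PresentedGroup.mk RELS s, hm⟩ = (thetaX (T v hv))⁻¹ := by
  rw [eq_inv_iff_mul_eq_one]
  ext i
  apply congrArg Fin.val
  apply bet_injective
  rw [Perm.mul_apply, rhoXr_spec, rhoH_mk, Perm.one_apply]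
  subst hs
  rw [← gen_act u v hv h i]
  simp

theorem rhoXr_fix (s : FreeGroup Fi22.Gen) (u : List (Fi22.Gen × Bool)) (hs : s = FreeGroup.mk u)
    (hm : PresentedGroup.mk RELS s ∈ H) (h : allRange (achk u) 1 0 693 = true) :
    rhoXr ⟨PresentedGroup.mk RELS s, hm⟩ = 1 := by
  ext i
  apply congrArg Fin.val
  apply bet_injective
  rw [rhoXr_spec, rhoH_mk, Perm.one_apply]
  subst hs
  have := fix_act u h i
  rw [Perm.inv_eq_iff_eq] at this
  exact this.symm

theorem mem_H_of_mem (s : FreeGroup Fi22.Gen) (hs : s ∈ SH) : PresentedGroup.mk RELS s ∈ H :=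
  Subgroup.mem_map_of_mem _ (Subgroup.subset_closure hs)

/-- the images coincide -/
theorem range_eq : rhoXr.range = thetaX.range := by
  apply le_antisymm
  · rintro _ ⟨⟨g, hg⟩, rfl⟩
    obtain ⟨w, hw, rfl⟩ := Subgroup.mem_map.mp hg
    have key : ∀ (w : FreeGroup Fi22.Gen) (hw : w ∈ Subgroup.closure SH),
        rhoXr ⟨PresentedGroup.mk RELS w, Subgroup.mem_map_of_mem _ hw⟩ ∈ thetaX.range := by
      intro w hw
      induction hw using Subgroup.closure_induction with
      | mem s hs =>
        have hs' := hs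
        simp only [SH, Set.mem_insert_iff, Set.mem_singleton_iff] at hs'
        have k2 : ∀ (u : List (Fi22.Gen × Bool)) (v : V) (hv : hf v v = 0), s = FreeGroup.mk u →
            allRange (gchk u v) 1 0 693 = true →
            rhoXr ⟨PresentedGroup.mk RELS s, Subgroup.mem_map_of_mem _ (Subgroup.subset_closure hs)⟩ ∈
              thetaX.range := by
          intro u v hv hsu h
          rw [rhoXr_gen s u hsu _ v hv h]
          exact thetaX.range.inv_mem ⟨_, rfl⟩
        rcases hs' with rfl | rfl | rfl | rfl | rfl | rfl | rfl | rfl | rfl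
        · rw [rhoXr_fix _ uA eA _ chkA]; exact thetaX.range.one_mem
        · exact k2 uC _ isoC eC chkC
        · exact k2 uD _ isoD eD chkD
        · exact k2 uE _ isoE eE chkE
        · exact k2 uF _ isoF eF chkF
        · exact k2 uG _ isoG eG chkG
        · exact k2 uH _ isoH eH chkH
        · exact k2 uI _ isoI eI chkI
        · exact k2 uW _ isoW eW chkW
      | one =>
        have : (⟨PresentedGroup.mk RELS 1, Subgroup.mem_map_of_mem _ (Subgroup.one_mem _)⟩ : H) = 1 :=
          Subtype.ext (map_one _)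
        rw [this, map_one]
        exact thetaX.range.one_mem
      | mul x y hx hy ihx ihy =>
        have : (⟨PresentedGroup.mk RELS (x * y), Subgroup.mem_map_of_mem _ (Subgroup.mul_mem _ hx hy)⟩ : H) =
            ⟨PresentedGroup.mk RELS x, Subgroup.mem_map_of_mem _ hx⟩ *
              ⟨PresentedGroup.mk RELS y, Subgroup.mem_map_of_mem _ hy⟩ :=
          Subtype.ext (map_mul _ x y)
        rw [this, map_mul]
        exact thetaX.range.mul_mem ihx ihy
      | inv x hx ihx =>
        have : (⟨PresentedGroup.mk RELS x⁻¹, Subgroup.mem_map_of_mem _ (Subgroup.inv_mem _ hx)⟩ : H) =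
            (⟨PresentedGroup.mk RELS x, Subgroup.mem_map_of_mem _ hx⟩ : H)⁻¹ :=
          Subtype.ext (map_inv _ x)
        rw [this, map_inv]
        exact thetaX.range.inv_mem ihx
    exact key w hw
  · apply thetaX_range_le
    intro n hn
    have k3 : ∀ (s : FreeGroup Fi22.Gen) (u : List (Fi22.Gen × Bool)) (v : V) (hv : hf v v = 0),
        s ∈ SH → s = FreeGroup.mk u → allRange (gchk u v) 1 0 693 = true →
        ∃ h : hf v v = 0, thetaX (T v h) ∈ rhoXr.range := by
      intro s u v hv hs hsu h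
      refine ⟨hv, ?_⟩
      have := rhoXr_gen s u hsu (mem_H_of_mem s hs) v hv h
      have e : thetaX (T v hv) = (rhoXr ⟨PresentedGroup.mk RELS s, mem_H_of_mem s hs⟩)⁻¹ := by
        rw [this, inv_inv]
      rw [e]
      exact rhoXr.range.inv_mem ⟨_, rfl⟩
    simp only [baseCodes, List.mem_cons, List.not_mem_nil, or_false] at hn
    rcases hn with rfl | rfl | rfl | rfl | rfl | rfl | rfl | rfl
    · exact k3 _ uC _ isoC (by simp [SH]) eC chkC
    · exact k3 _ uD _ isoD (by simp [SH]) eD chkD
    · exact k3 _ uE _ isoE (by simp [SH]) eE chkE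
    · exact k3 _ uF _ isoF (by simp [SH]) eF chkF
    · exact k3 _ uG _ isoG (by simp [SH]) eG chkG
    · exact k3 _ uH _ isoH (by simp [SH]) eH chkH
    · exact k3 _ uI _ isoI (by simp [SH]) eI chkI
    · exact k3 _ uW _ isoW (by simp [SH]) eW chkW

end Cfsg.Agent.Lib.Helper28_U6Fi22
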