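import Mathlib
import Cfsg.Agent.Lib.Helper28_U6Pts
import Cfsg.Agent.Lib.Helper28_CommonAct
import Cfsg.Agent.Lib.Helper14_PSUKer

/-!
# The permutation representation of `SU(6,2)` on the points of `PG(5,4)`

helper28.  `theta : SU 6 K4 2 →* Perm (Fin 1366)`, its restriction `thetaX` to the 693
isotropic points, the transvections `T v`, the conjugation formula, and the kernel of `thetaX`
(the centre).
-/

set_option autoImplicit false

namespace Cfsg.Agent.Lib.Helper28_U6Theta

open Cfsg.Agent.Lib.Helper91_K4 Cfsg.Agent.Lib.Helper28_U6Pts Cfsg.Agent.Lib.Helper28_CommonAct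
  Matrix Cfsg.Agent.Lib.Helper13_Herm Cfsg.Agent.Lib.Helper5_GUOrder
  Cfsg.Agent.Lib.Helper5_SUCenter Cfsg.Agent.Lib.Helper14_PSUKer

/-- the matrices -/
abbrev M6 : Type := Matrix (Fin 6) (Fin 6) K4

/-- the special unitary group -/
abbrev SU6 : Type := ↥(Cfsg.SU 6 K4 2)

theorem cardK4 : Fintype.card K4 = 2 ^ 2 := by rw [K4.card]; norm_num

/-- the action of a matrix on the 1366 "points" -/
def actM (A : M6) (i : Fin 1366) : Fin 1366 := nrm (A *ᵥ pt i)

theorem actM_one : actM 1 = id := by
  funext i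
  simp only [actM, Matrix.one_mulVec, nrm_pt, id]

theorem actM_mul (A B : M6) : actM (A * B) = actM A ∘ actM B := by
  funext i
  simp only [actM, Function.comp]
  obtain ⟨s, hs, h⟩ := pt_nrm (B *ᵥ pt i)
  rw [h, Matrix.mulVec_smul, nrm_smul _ _ hs, Matrix.mulVec_mulVec]

/-- the action as a monoid homomorphism into the endomorphisms of `Fin 1366` -/
def thetaEnd : M6 →* Function.End (Fin 1366) where
  toFun := actM
  map_one' := actM_one
  map_mul' := actM_mul

/-- the underlying matrix -/
def toM : SU6 →* M6 := (Cfsg.slToMat 6 K4).comp (Cfsg.SU 6 K4 2).subtype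

/-- the permutation representation of the special unitary group -/
def theta : SU6 →* Equiv.Perm (Fin 1366) := MonoidHom.toHomPerm (thetaEnd.comp toM)

theorem theta_apply (A : SU6) (i : Fin 1366) : theta A i = nrm (toM A *ᵥ pt i) := rfl

/-- the hermitian form, written out -/
def hf (x v : V) : K4 :=
  x 0 * (v 0 * v 0) + x 1 * (v 1 * v 1) + x 2 * (v 2 * v 2) + x 3 * (v 3 * v 3)
    + x 4 * (v 4 * v 4) + x 5 * (v 5 * v 5)

theorem hermForm_eq_hf (x v : V) : Cfsg.hermForm 6 K4 2 x v = hf x v := by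
  unfold Cfsg.hermForm hf
  simp only [Fin.sum_univ_six, pow_two]

/-- the transvection map -/
def tv (u x : V) : V := x + hf x u • u

theorem toM_preserves (A : SU6) (x y : V) : hf (toM A *ᵥ x) (toM A *ᵥ y) = hf x y := by
  rw [← hermForm_eq_hf, ← hermForm_eq_hf]
  exact A.2 x y

theorem toM_injective (A : SU6) (x : V) (h : toM A *ᵥ x = 0) : x = 0 := by
  have : toM A⁻¹ *ᵥ (toM A *ᵥ x) = x := by
    rw [Matrix.mulVec_mulVec, ← map_mul, inv_mul_cancel, map_one, Matrix.one_mulVec]
  rw [← this, h, Matrix.mulVec_zero]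

/-- the transvection with centre `v` -/
def T (v : V) (hv : hf v v = 0) : SU6 :=
  tvSU cardK4 v 1 (by rw [hermForm_eq_hf]; exact hv) (by decide)

theorem toM_T (v : V) (hv : hf v v = 0) : toM (T v hv) = Cfsg.unitaryTransvection 6 2 v 1 := rfl

theorem T_mulVec (v : V) (hv : hf v v = 0) (x : V) : toM (T v hv) *ᵥ x = tv v x := by
  rw [toM_T, unitaryTransvection_mulVec, one_mul, hermForm_eq_hf]
  rfl

theorem theta_T (v : V) (hv : hf v v = 0) (i : Fin 1366) :
    theta (T v hv) i = nrm (tv v (pt i)) := by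
  rw [theta_apply, T_mulVec]

theorem hf_tv (u x : V) (hu : hf u u = 0) (hx : hf x x = 0) : hf (tv u x) (tv u x) = 0 := by
  rw [← T_mulVec u hu, toM_preserves]
  exact hx

theorem ext_toM (A B : SU6) (h : toM A = toM B) : A = B := by
  apply Subtype.ext
  apply Subtype.ext
  exact h

/-- conjugating a transvection by a transvection -/
theorem T_conj (u x : V) (hu : hf u u = 0) (hx : hf x x = 0) :
    T u hu * T x hx * (T u hu)⁻¹ = T (tv u x) (hf_tv u x hu hx) := by
  rw [mul_inv_eq_iff_eq_mul]
  apply ext_toM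
  apply Matrix.mulVec_injective
  funext y
  show toM (T u hu * T x hx) *ᵥ y = toM (T (tv u x) (hf_tv u x hu hx) * T u hu) *ᵥ y
  rw [map_mul, map_mul, ← Matrix.mulVec_mulVec, ← Matrix.mulVec_mulVec, T_mulVec, T_mulVec,
    T_mulVec, T_mulVec]
  have h1 : tv u (tv x y) = tv u y + hf y x • tv u x := by
    rw [← T_mulVec u hu, ← T_mulVec u hu, ← T_mulVec u hu]
    show toM (T u hu) *ᵥ (y + hf y x • x) = _
    rw [Matrix.mulVec_add, Matrix.mulVec_smul]
  rw [h1]
  show _ = tv u y + hf (tv u y) (tv u x) • tv u x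
  rw [← T_mulVec u hu y, ← T_mulVec u hu x, toM_preserves]

/-! ### the restriction to the isotropic points -/

/-- inclusion of the isotropic indices -/
def iota (i : Fin 693) : Fin 1366 := Fin.castLE (by norm_num) i

theorem iota_injective : Function.Injective iota := Fin.castLE_injective (by norm_num)

set_option maxRecDepth 100000 in
theorem pt_iso : ∀ i : Fin 1366, i.val < 693 → hf (pt i) (pt i) = 0 ∧ pt i ≠ 0 := by
  decide +kernel

set_option maxRecDepth 100000 in
theorem iso_nrm_mkV : ∀ a b c d e f : K4,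
    hf (mkV a b c d e f) (mkV a b c d e f) = 0 → mkV a b c d e f ≠ 0 →
      (nrm (mkV a b c d e f)).val < 693 := by
  decide +kernel

theorem iso_nrm (v : V) (h0 : hf v v = 0) (hne : v ≠ 0) : (nrm v).val < 693 := by
  rw [← mkV_eta v] at h0 hne ⊢
  exact iso_nrm_mkV _ _ _ _ _ _ h0 hne

theorem theta_inv (A : SU6) (i : Fin 693) : ∃ j : Fin 693, theta A (iota i) = iota j := by
  obtain ⟨h1, h2⟩ := pt_iso (iota i) i.2
  have h3 : hf (toM A *ᵥ pt (iota i)) (toM A *ᵥ pt (iota i)) = 0 := by
    rw [toM_preserves]; exact h1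
  have h4 : toM A *ᵥ pt (iota i) ≠ 0 := fun h => h2 (toM_injective A _ h)
  exact ⟨⟨_, iso_nrm _ h3 h4⟩, Fin.ext rfl⟩

/-- the action on the 693 isotropic points -/
noncomputable def thetaX : SU6 →* Equiv.Perm (Fin 693) :=
  restr theta iota iota_injective theta_inv

theorem thetaX_spec (A : SU6) (i : Fin 693) : iota (thetaX A i) = theta A (iota i) :=
  restr_spec theta iota iota_injective theta_inv A i

/-- the kernel of the action on the isotropic points is the centre -/
theorem thetaX_ker : thetaX.ker = Subgroup.center SU6 := by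
  ext A
  constructor
  · intro hA
    have hfix : ∀ i : Fin 693, nrm (toM A *ᵥ pt (iota i)) = iota i := by
      intro i
      rw [← theta_apply, ← thetaX_spec, MonoidHom.mem_ker.mp hA]
      rfl
    have hiso : ∀ v : V, Cfsg.hermForm 6 K4 2 v v = 0 → ∃ l : K4, toM A *ᵥ v = l • v := by
      intro v hv
      rw [hermForm_eq_hf] at hv
      by_cases h0 : v = 0
      · exact ⟨0, by rw [h0, Matrix.mulVec_zero, smul_zero]⟩
      · have hlt := iso_nrm v hv h0
        obtain ⟨s, hs, hpt⟩ := pt_nrm v
        have hi : iota ⟨(nrm v).val, hlt⟩ = nrm v := Fin.ext rfl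
        obtain ⟨s', hs', hpt'⟩ := pt_nrm (toM A *ᵥ pt (iota ⟨(nrm v).val, hlt⟩))
        rw [hfix, hi, hpt, Matrix.mulVec_smul] at hpt'
        -- hpt' : s • v = s' • s • (A v)
        refine ⟨s'⁻¹, ?_⟩
        have h1 : s • v = s • (s' • (toM A *ᵥ v)) := by rw [hpt', smul_comm]
        have h2 : v = s' • (toM A *ᵥ v) := smul_right_injective V hs h1
        rw [eq_comm, inv_smul_eq_iff₀ hs']
        exact h2
    obtain ⟨r, hr⟩ := scalar_of_iso cardK4 (by norm_num) (toM A) hiso
    rw [Subgroup.mem_center_iff]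
    intro B
    apply ext_toM
    rw [map_mul, map_mul, hr]
    simp
  · intro hA
    have hsc : toM A = (toM A) 0 0 • (1 : M6) := center_eq_smul cardK4 A hA 0
    rw [MonoidHom.mem_ker]
    ext i
    have hne : (toM A) 0 0 ≠ 0 := by
      intro h0
      obtain ⟨-, h2⟩ := pt_iso (iota i) i.2
      apply h2
      apply toM_injective A
      rw [hsc, h0, zero_smul, Matrix.zero_mulVec]
    have : iota (thetaX A i) = iota i := by
      rw [thetaX_spec, theta_apply, hsc, Matrix.smul_mulVec, Matrix.one_mulVec,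
        nrm_smul _ _ hne, nrm_pt]
    rw [iota_injective this]
    rfl

end Cfsg.Agent.Lib.Helper28_U6Theta
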