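import Cfsg.Agent.Lib.Helper28_Y5FiWDef

set_option autoImplicit false
set_option linter.constructorNameAsVariable false
set_option Elab.async false

namespace Cfsg.Agent.Lib.Helper28_Y5FiW

open Cfsg.Agent.Lib.Helper28_CosetPerm

theorem r_spider_1_0 : allRange chk_spider 20 15836 70 = true := by decide +kernel
theorem v_spider_1_0 : ∀ k, 15836 ≤ k → k < 15906 → chk_spider (k * 20) = true := between_extend chk_spider 20 15836 15836 70 (between_start chk_spider 20 15836) r_spider_1_0

theorem r_spider_1_1 : allRange chk_spider 20 15906 70 = true := by decide +kernel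
theorem v_spider_1_1 : ∀ k, 15836 ≤ k → k < 15976 → chk_spider (k * 20) = true := between_extend chk_spider 20 15836 15906 70 (v_spider_1_0) r_spider_1_1

theorem r_spider_1_2 : allRange chk_spider 20 15976 70 = true := by decide +kernel
theorem v_spider_1_2 : ∀ k, 15836 ≤ k → k < 16046 → chk_spider (k * 20) = true := between_extend chk_spider 20 15836 15976 70 (v_spider_1_1) r_spider_1_2

theorem r_spider_1_3 : allRange chk_spider 20 16046 70 = true := by decide +kernel
theorem v_spider_1_3 : ∀ k, 15836 ≤ k → k < 16116 → chk_spider (k * 20) = true := between_extend chk_spider 20 15836 16046 70 (v_spider_1_2) r_spider_1_3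

theorem r_spider_1_4 : allRange chk_spider 20 16116 70 = true := by decide +kernel
theorem v_spider_1_4 : ∀ k, 15836 ≤ k → k < 16186 → chk_spider (k * 20) = true := between_extend chk_spider 20 15836 16116 70 (v_spider_1_3) r_spider_1_4

theorem r_spider_1_5 : allRange chk_spider 20 16186 70 = true := by decide +kernel
theorem v_spider_1_5 : ∀ k, 15836 ≤ k → k < 16256 → chk_spider (k * 20) = true := between_extend chk_spider 20 15836 16186 70 (v_spider_1_4) r_spider_1_5

theorem r_spider_1_6 : allRange chk_spider 20 16256 70 = true := by decide +kernel
theorem v_spider_1_6 : ∀ k, 15836 ≤ k → k < 16326 → chk_spider (k * 20) = true := between_extend chk_spider 20 15836 16256 70 (v_spider_1_5) r_spider_1_6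

theorem r_spider_1_7 : allRange chk_spider 20 16326 70 = true := by decide +kernel
theorem v_spider_1_7 : ∀ k, 15836 ≤ k → k < 16396 → chk_spider (k * 20) = true := between_extend chk_spider 20 15836 16326 70 (v_spider_1_6) r_spider_1_7

theorem r_spider_1_8 : allRange chk_spider 20 16396 70 = true := by decide +kernel
theorem v_spider_1_8 : ∀ k, 15836 ≤ k → k < 16466 → chk_spider (k * 20) = true := between_extend chk_spider 20 15836 16396 70 (v_spider_1_7) r_spider_1_8

theorem r_spider_1_9 : allRange chk_spider 20 16466 70 = true := by decide +kernel
theorem v_spider_1_9 : ∀ k, 15836 ≤ k → k < 16536 → chk_spider (k * 20) = true := between_extend chk_spider 20 15836 16466 70 (v_spider_1_8) r_spider_1_9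

theorem r_spider_1_10 : allRange chk_spider 20 16536 70 = true := by decide +kernel
theorem v_spider_1_10 : ∀ k, 15836 ≤ k → k < 16606 → chk_spider (k * 20) = true := between_extend chk_spider 20 15836 16536 70 (v_spider_1_9) r_spider_1_10

theorem r_spider_1_11 : allRange chk_spider 20 16606 70 = true := by decide +kernel
theorem v_spider_1_11 : ∀ k, 15836 ≤ k → k < 16676 → chk_spider (k * 20) = true := between_extend chk_spider 20 15836 16606 70 (v_spider_1_10) r_spider_1_11

theorem r_spider_1_12 : allRange chk_spider 20 16676 70 = true := by decide +kernel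
theorem v_spider_1_12 : ∀ k, 15836 ≤ k → k < 16746 → chk_spider (k * 20) = true := between_extend chk_spider 20 15836 16676 70 (v_spider_1_11) r_spider_1_12

theorem r_spider_1_13 : allRange chk_spider 20 16746 70 = true := by decide +kernel
theorem v_spider_1_13 : ∀ k, 15836 ≤ k → k < 16816 → chk_spider (k * 20) = true := between_extend chk_spider 20 15836 16746 70 (v_spider_1_12) r_spider_1_13

theorem r_spider_1_14 : allRange chk_spider 20 16816 70 = true := by decide +kernel
theorem v_spider_1_14 : ∀ k, 15836 ≤ k → k < 16886 → chk_spider (k * 20) = true := between_extend chk_spider 20 15836 16816 70 (v_spider_1_13) r_spider_1_14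

theorem r_spider_1_15 : allRange chk_spider 20 16886 70 = true := by decide +kernel
theorem v_spider_1_15 : ∀ k, 15836 ≤ k → k < 16956 → chk_spider (k * 20) = true := between_extend chk_spider 20 15836 16886 70 (v_spider_1_14) r_spider_1_15

theorem r_spider_1_16 : allRange chk_spider 20 16956 70 = true := by decide +kernel
theorem v_spider_1_16 : ∀ k, 15836 ≤ k → k < 17026 → chk_spider (k * 20) = true := between_extend chk_spider 20 15836 16956 70 (v_spider_1_15) r_spider_1_16

theorem r_spider_1_17 : allRange chk_spider 20 17026 70 = true := by decide +kernel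
theorem v_spider_1_17 : ∀ k, 15836 ≤ k → k < 17096 → chk_spider (k * 20) = true := between_extend chk_spider 20 15836 17026 70 (v_spider_1_16) r_spider_1_17

theorem r_spider_1_18 : allRange chk_spider 20 17096 70 = true := by decide +kernel
theorem v_spider_1_18 : ∀ k, 15836 ≤ k → k < 17166 → chk_spider (k * 20) = true := between_extend chk_spider 20 15836 17096 70 (v_spider_1_17) r_spider_1_18

theorem r_spider_1_19 : allRange chk_spider 20 17166 70 = true := by decide +kernel
theorem v_spider_1_19 : ∀ k, 15836 ≤ k → k < 17236 → chk_spider (k * 20) = true := between_extend chk_spider 20 15836 17166 70 (v_spider_1_18) r_spider_1_19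

theorem r_spider_1_20 : allRange chk_spider 20 17236 70 = true := by decide +kernel
theorem v_spider_1_20 : ∀ k, 15836 ≤ k → k < 17306 → chk_spider (k * 20) = true := between_extend chk_spider 20 15836 17236 70 (v_spider_1_19) r_spider_1_20

theorem r_spider_1_21 : allRange chk_spider 20 17306 70 = true := by decide +kernel
theorem v_spider_1_21 : ∀ k, 15836 ≤ k → k < 17376 → chk_spider (k * 20) = true := between_extend chk_spider 20 15836 17306 70 (v_spider_1_20) r_spider_1_21

theorem r_spider_1_22 : allRange chk_spider 20 17376 70 = true := by decide +kernel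
theorem v_spider_1_22 : ∀ k, 15836 ≤ k → k < 17446 → chk_spider (k * 20) = true := between_extend chk_spider 20 15836 17376 70 (v_spider_1_21) r_spider_1_22

theorem r_spider_1_23 : allRange chk_spider 20 17446 70 = true := by decide +kernel
theorem v_spider_1_23 : ∀ k, 15836 ≤ k → k < 17516 → chk_spider (k * 20) = true := between_extend chk_spider 20 15836 17446 70 (v_spider_1_22) r_spider_1_23

theorem r_spider_1_24 : allRange chk_spider 20 17516 70 = true := by decide +kernel
theorem v_spider_1_24 : ∀ k, 15836 ≤ k → k < 17586 → chk_spider (k * 20) = true := between_extend chk_spider 20 15836 17516 70 (v_spider_1_23) r_spider_1_24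

theorem r_spider_1_25 : allRange chk_spider 20 17586 70 = true := by decide +kernel
theorem v_spider_1_25 : ∀ k, 15836 ≤ k → k < 17656 → chk_spider (k * 20) = true := between_extend chk_spider 20 15836 17586 70 (v_spider_1_24) r_spider_1_25

theorem r_spider_1_26 : allRange chk_spider 20 17656 70 = true := by decide +kernel
theorem v_spider_1_26 : ∀ k, 15836 ≤ k → k < 17726 → chk_spider (k * 20) = true := between_extend chk_spider 20 15836 17656 70 (v_spider_1_25) r_spider_1_26

theorem r_spider_1_27 : allRange chk_spider 20 17726 70 = true := by decide +kernel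
theorem v_spider_1_27 : ∀ k, 15836 ≤ k → k < 17796 → chk_spider (k * 20) = true := between_extend chk_spider 20 15836 17726 70 (v_spider_1_26) r_spider_1_27

theorem r_spider_1_28 : allRange chk_spider 20 17796 70 = true := by decide +kernel
theorem v_spider_1_28 : ∀ k, 15836 ≤ k → k < 17866 → chk_spider (k * 20) = true := between_extend chk_spider 20 15836 17796 70 (v_spider_1_27) r_spider_1_28

theorem r_spider_1_29 : allRange chk_spider 20 17866 70 = true := by decide +kernel
theorem v_spider_1_29 : ∀ k, 15836 ≤ k → k < 17936 → chk_spider (k * 20) = true := between_extend chk_spider 20 15836 17866 70 (v_spider_1_28) r_spider_1_29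

theorem r_spider_1_30 : allRange chk_spider 20 17936 70 = true := by decide +kernel
theorem v_spider_1_30 : ∀ k, 15836 ≤ k → k < 18006 → chk_spider (k * 20) = true := between_extend chk_spider 20 15836 17936 70 (v_spider_1_29) r_spider_1_30

theorem r_spider_1_31 : allRange chk_spider 20 18006 70 = true := by decide +kernel
theorem v_spider_1_31 : ∀ k, 15836 ≤ k → k < 18076 → chk_spider (k * 20) = true := between_extend chk_spider 20 15836 18006 70 (v_spider_1_30) r_spider_1_31

theorem r_spider_1_32 : allRange chk_spider 20 18076 70 = true := by decide +kernel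
theorem v_spider_1_32 : ∀ k, 15836 ≤ k → k < 18146 → chk_spider (k * 20) = true := between_extend chk_spider 20 15836 18076 70 (v_spider_1_31) r_spider_1_32

theorem r_spider_1_33 : allRange chk_spider 20 18146 70 = true := by decide +kernel
theorem v_spider_1_33 : ∀ k, 15836 ≤ k → k < 18216 → chk_spider (k * 20) = true := between_extend chk_spider 20 15836 18146 70 (v_spider_1_32) r_spider_1_33

theorem r_spider_1_34 : allRange chk_spider 20 18216 70 = true := by decide +kernel
theorem v_spider_1_34 : ∀ k, 15836 ≤ k → k < 18286 → chk_spider (k * 20) = true := between_extend chk_spider 20 15836 18216 70 (v_spider_1_33) r_spider_1_34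

theorem r_spider_1_35 : allRange chk_spider 20 18286 70 = true := by decide +kernel
theorem v_spider_1_35 : ∀ k, 15836 ≤ k → k < 18356 → chk_spider (k * 20) = true := between_extend chk_spider 20 15836 18286 70 (v_spider_1_34) r_spider_1_35

theorem r_spider_1_36 : allRange chk_spider 20 18356 70 = true := by decide +kernel
theorem v_spider_1_36 : ∀ k, 15836 ≤ k → k < 18426 → chk_spider (k * 20) = true := between_extend chk_spider 20 15836 18356 70 (v_spider_1_35) r_spider_1_36

theorem r_spider_1_37 : allRange chk_spider 20 18426 70 = true := by decide +kernel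
theorem v_spider_1_37 : ∀ k, 15836 ≤ k → k < 18496 → chk_spider (k * 20) = true := between_extend chk_spider 20 15836 18426 70 (v_spider_1_36) r_spider_1_37

theorem r_spider_1_38 : allRange chk_spider 20 18496 70 = true := by decide +kernel
theorem v_spider_1_38 : ∀ k, 15836 ≤ k → k < 18566 → chk_spider (k * 20) = true := between_extend chk_spider 20 15836 18496 70 (v_spider_1_37) r_spider_1_38

theorem r_spider_1_39 : allRange chk_spider 20 18566 70 = true := by decide +kernel
theorem v_spider_1_39 : ∀ k, 15836 ≤ k → k < 18636 → chk_spider (k * 20) = true := between_extend chk_spider 20 15836 18566 70 (v_spider_1_38) r_spider_1_39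

theorem r_spider_1_40 : allRange chk_spider 20 18636 70 = true := by decide +kernel
theorem v_spider_1_40 : ∀ k, 15836 ≤ k → k < 18706 → chk_spider (k * 20) = true := between_extend chk_spider 20 15836 18636 70 (v_spider_1_39) r_spider_1_40

theorem r_spider_1_41 : allRange chk_spider 20 18706 70 = true := by decide +kernel
theorem v_spider_1_41 : ∀ k, 15836 ≤ k → k < 18776 → chk_spider (k * 20) = true := between_extend chk_spider 20 15836 18706 70 (v_spider_1_40) r_spider_1_41

theorem r_spider_1_42 : allRange chk_spider 20 18776 70 = true := by decide +kernel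
theorem v_spider_1_42 : ∀ k, 15836 ≤ k → k < 18846 → chk_spider (k * 20) = true := between_extend chk_spider 20 15836 18776 70 (v_spider_1_41) r_spider_1_42

theorem r_spider_1_43 : allRange chk_spider 20 18846 70 = true := by decide +kernel
theorem v_spider_1_43 : ∀ k, 15836 ≤ k → k < 18916 → chk_spider (k * 20) = true := between_extend chk_spider 20 15836 18846 70 (v_spider_1_42) r_spider_1_43

theorem r_spider_1_44 : allRange chk_spider 20 18916 70 = true := by decide +kernel
theorem v_spider_1_44 : ∀ k, 15836 ≤ k → k < 18986 → chk_spider (k * 20) = true := between_extend chk_spider 20 15836 18916 70 (v_spider_1_43) r_spider_1_44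

theorem r_spider_1_45 : allRange chk_spider 20 18986 70 = true := by decide +kernel
theorem v_spider_1_45 : ∀ k, 15836 ≤ k → k < 19056 → chk_spider (k * 20) = true := between_extend chk_spider 20 15836 18986 70 (v_spider_1_44) r_spider_1_45

theorem r_spider_1_46 : allRange chk_spider 20 19056 70 = true := by decide +kernel
theorem v_spider_1_46 : ∀ k, 15836 ≤ k → k < 19126 → chk_spider (k * 20) = true := between_extend chk_spider 20 15836 19056 70 (v_spider_1_45) r_spider_1_46

theorem r_spider_1_47 : allRange chk_spider 20 19126 70 = true := by decide +kernel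
theorem v_spider_1_47 : ∀ k, 15836 ≤ k → k < 19196 → chk_spider (k * 20) = true := between_extend chk_spider 20 15836 19126 70 (v_spider_1_46) r_spider_1_47

theorem r_spider_1_48 : allRange chk_spider 20 19196 70 = true := by decide +kernel
theorem v_spider_1_48 : ∀ k, 15836 ≤ k → k < 19266 → chk_spider (k * 20) = true := between_extend chk_spider 20 15836 19196 70 (v_spider_1_47) r_spider_1_48

theorem r_spider_1_49 : allRange chk_spider 20 19266 70 = true := by decide +kernel
theorem v_spider_1_49 : ∀ k, 15836 ≤ k → k < 19336 → chk_spider (k * 20) = true := between_extend chk_spider 20 15836 19266 70 (v_spider_1_48) r_spider_1_49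

theorem r_spider_1_50 : allRange chk_spider 20 19336 70 = true := by decide +kernel
theorem v_spider_1_50 : ∀ k, 15836 ≤ k → k < 19406 → chk_spider (k * 20) = true := between_extend chk_spider 20 15836 19336 70 (v_spider_1_49) r_spider_1_50

theorem r_spider_1_51 : allRange chk_spider 20 19406 70 = true := by decide +kernel
theorem v_spider_1_51 : ∀ k, 15836 ≤ k → k < 19476 → chk_spider (k * 20) = true := between_extend chk_spider 20 15836 19406 70 (v_spider_1_50) r_spider_1_51

theorem r_spider_1_52 : allRange chk_spider 20 19476 70 = true := by decide +kernel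
theorem v_spider_1_52 : ∀ k, 15836 ≤ k → k < 19546 → chk_spider (k * 20) = true := between_extend chk_spider 20 15836 19476 70 (v_spider_1_51) r_spider_1_52

theorem r_spider_1_53 : allRange chk_spider 20 19546 70 = true := by decide +kernel
theorem v_spider_1_53 : ∀ k, 15836 ≤ k → k < 19616 → chk_spider (k * 20) = true := between_extend chk_spider 20 15836 19546 70 (v_spider_1_52) r_spider_1_53

theorem r_spider_1_54 : allRange chk_spider 20 19616 70 = true := by decide +kernel
theorem v_spider_1_54 : ∀ k, 15836 ≤ k → k < 19686 → chk_spider (k * 20) = true := between_extend chk_spider 20 15836 19616 70 (v_spider_1_53) r_spider_1_54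

theorem r_spider_1_55 : allRange chk_spider 20 19686 70 = true := by decide +kernel
theorem v_spider_1_55 : ∀ k, 15836 ≤ k → k < 19756 → chk_spider (k * 20) = true := between_extend chk_spider 20 15836 19686 70 (v_spider_1_54) r_spider_1_55

theorem r_spider_1_56 : allRange chk_spider 20 19756 70 = true := by decide +kernel
theorem v_spider_1_56 : ∀ k, 15836 ≤ k → k < 19826 → chk_spider (k * 20) = true := between_extend chk_spider 20 15836 19756 70 (v_spider_1_55) r_spider_1_56

theorem r_spider_1_57 : allRange chk_spider 20 19826 70 = true := by decide +kernel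
theorem v_spider_1_57 : ∀ k, 15836 ≤ k → k < 19896 → chk_spider (k * 20) = true := between_extend chk_spider 20 15836 19826 70 (v_spider_1_56) r_spider_1_57

theorem r_spider_1_58 : allRange chk_spider 20 19896 70 = true := by decide +kernel
theorem v_spider_1_58 : ∀ k, 15836 ≤ k → k < 19966 → chk_spider (k * 20) = true := between_extend chk_spider 20 15836 19896 70 (v_spider_1_57) r_spider_1_58

theorem r_spider_1_59 : allRange chk_spider 20 19966 70 = true := by decide +kernel
theorem v_spider_1_59 : ∀ k, 15836 ≤ k → k < 20036 → chk_spider (k * 20) = true := between_extend chk_spider 20 15836 19966 70 (v_spider_1_58) r_spider_1_59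

theorem r_spider_1_60 : allRange chk_spider 20 20036 70 = true := by decide +kernel
theorem v_spider_1_60 : ∀ k, 15836 ≤ k → k < 20106 → chk_spider (k * 20) = true := between_extend chk_spider 20 15836 20036 70 (v_spider_1_59) r_spider_1_60

theorem r_spider_1_61 : allRange chk_spider 20 20106 70 = true := by decide +kernel
theorem v_spider_1_61 : ∀ k, 15836 ≤ k → k < 20176 → chk_spider (k * 20) = true := between_extend chk_spider 20 15836 20106 70 (v_spider_1_60) r_spider_1_61

theorem r_spider_1_62 : allRange chk_spider 20 20176 70 = true := by decide +kernel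
theorem v_spider_1_62 : ∀ k, 15836 ≤ k → k < 20246 → chk_spider (k * 20) = true := between_extend chk_spider 20 15836 20176 70 (v_spider_1_61) r_spider_1_62

theorem r_spider_1_63 : allRange chk_spider 20 20246 70 = true := by decide +kernel
theorem v_spider_1_63 : ∀ k, 15836 ≤ k → k < 20316 → chk_spider (k * 20) = true := between_extend chk_spider 20 15836 20246 70 (v_spider_1_62) r_spider_1_63

theorem r_spider_1_64 : allRange chk_spider 20 20316 70 = true := by decide +kernel
theorem v_spider_1_64 : ∀ k, 15836 ≤ k → k < 20386 → chk_spider (k * 20) = true := between_extend chk_spider 20 15836 20316 70 (v_spider_1_63) r_spider_1_64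

theorem r_spider_1_65 : allRange chk_spider 20 20386 70 = true := by decide +kernel
theorem v_spider_1_65 : ∀ k, 15836 ≤ k → k < 20456 → chk_spider (k * 20) = true := between_extend chk_spider 20 15836 20386 70 (v_spider_1_64) r_spider_1_65

theorem r_spider_1_66 : allRange chk_spider 20 20456 70 = true := by decide +kernel
theorem v_spider_1_66 : ∀ k, 15836 ≤ k → k < 20526 → chk_spider (k * 20) = true := between_extend chk_spider 20 15836 20456 70 (v_spider_1_65) r_spider_1_66

theorem r_spider_1_67 : allRange chk_spider 20 20526 70 = true := by decide +kernel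
theorem v_spider_1_67 : ∀ k, 15836 ≤ k → k < 20596 → chk_spider (k * 20) = true := between_extend chk_spider 20 15836 20526 70 (v_spider_1_66) r_spider_1_67

theorem r_spider_1_68 : allRange chk_spider 20 20596 70 = true := by decide +kernel
theorem v_spider_1_68 : ∀ k, 15836 ≤ k → k < 20666 → chk_spider (k * 20) = true := between_extend chk_spider 20 15836 20596 70 (v_spider_1_67) r_spider_1_68

theorem r_spider_1_69 : allRange chk_spider 20 20666 70 = true := by decide +kernel
theorem v_spider_1_69 : ∀ k, 15836 ≤ k → k < 20736 → chk_spider (k * 20) = true := between_extend chk_spider 20 15836 20666 70 (v_spider_1_68) r_spider_1_69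

theorem r_spider_1_70 : allRange chk_spider 20 20736 70 = true := by decide +kernel
theorem v_spider_1_70 : ∀ k, 15836 ≤ k → k < 20806 → chk_spider (k * 20) = true := between_extend chk_spider 20 15836 20736 70 (v_spider_1_69) r_spider_1_70

theorem r_spider_1_71 : allRange chk_spider 20 20806 70 = true := by decide +kernel
theorem v_spider_1_71 : ∀ k, 15836 ≤ k → k < 20876 → chk_spider (k * 20) = true := between_extend chk_spider 20 15836 20806 70 (v_spider_1_70) r_spider_1_71

theorem r_spider_1_72 : allRange chk_spider 20 20876 70 = true := by decide +kernel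
theorem v_spider_1_72 : ∀ k, 15836 ≤ k → k < 20946 → chk_spider (k * 20) = true := between_extend chk_spider 20 15836 20876 70 (v_spider_1_71) r_spider_1_72

theorem r_spider_1_73 : allRange chk_spider 20 20946 70 = true := by decide +kernel
theorem v_spider_1_73 : ∀ k, 15836 ≤ k → k < 21016 → chk_spider (k * 20) = true := between_extend chk_spider 20 15836 20946 70 (v_spider_1_72) r_spider_1_73

theorem r_spider_1_74 : allRange chk_spider 20 21016 70 = true := by decide +kernel
theorem v_spider_1_74 : ∀ k, 15836 ≤ k → k < 21086 → chk_spider (k * 20) = true := between_extend chk_spider 20 15836 21016 70 (v_spider_1_73) r_spider_1_74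

theorem r_spider_1_75 : allRange chk_spider 20 21086 70 = true := by decide +kernel
theorem v_spider_1_75 : ∀ k, 15836 ≤ k → k < 21156 → chk_spider (k * 20) = true := between_extend chk_spider 20 15836 21086 70 (v_spider_1_74) r_spider_1_75

theorem r_spider_1_76 : allRange chk_spider 20 21156 70 = true := by decide +kernel
theorem v_spider_1_76 : ∀ k, 15836 ≤ k → k < 21226 → chk_spider (k * 20) = true := between_extend chk_spider 20 15836 21156 70 (v_spider_1_75) r_spider_1_76

theorem r_spider_1_77 : allRange chk_spider 20 21226 70 = true := by decide +kernel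
theorem v_spider_1_77 : ∀ k, 15836 ≤ k → k < 21296 → chk_spider (k * 20) = true := between_extend chk_spider 20 15836 21226 70 (v_spider_1_76) r_spider_1_77

theorem r_spider_1_78 : allRange chk_spider 20 21296 70 = true := by decide +kernel
theorem v_spider_1_78 : ∀ k, 15836 ≤ k → k < 21366 → chk_spider (k * 20) = true := between_extend chk_spider 20 15836 21296 70 (v_spider_1_77) r_spider_1_78

theorem r_spider_1_79 : allRange chk_spider 20 21366 70 = true := by decide +kernel
theorem v_spider_1_79 : ∀ k, 15836 ≤ k → k < 21436 → chk_spider (k * 20) = true := between_extend chk_spider 20 15836 21366 70 (v_spider_1_78) r_spider_1_79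

theorem r_spider_1_80 : allRange chk_spider 20 21436 70 = true := by decide +kernel
theorem v_spider_1_80 : ∀ k, 15836 ≤ k → k < 21506 → chk_spider (k * 20) = true := between_extend chk_spider 20 15836 21436 70 (v_spider_1_79) r_spider_1_80

theorem r_spider_1_81 : allRange chk_spider 20 21506 70 = true := by decide +kernel
theorem v_spider_1_81 : ∀ k, 15836 ≤ k → k < 21576 → chk_spider (k * 20) = true := between_extend chk_spider 20 15836 21506 70 (v_spider_1_80) r_spider_1_81

theorem r_spider_1_82 : allRange chk_spider 20 21576 70 = true := by decide +kernel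
theorem v_spider_1_82 : ∀ k, 15836 ≤ k → k < 21646 → chk_spider (k * 20) = true := between_extend chk_spider 20 15836 21576 70 (v_spider_1_81) r_spider_1_82

theorem r_spider_1_83 : allRange chk_spider 20 21646 70 = true := by decide +kernel
theorem v_spider_1_83 : ∀ k, 15836 ≤ k → k < 21716 → chk_spider (k * 20) = true := between_extend chk_spider 20 15836 21646 70 (v_spider_1_82) r_spider_1_83

theorem r_spider_1_84 : allRange chk_spider 20 21716 70 = true := by decide +kernel
theorem v_spider_1_84 : ∀ k, 15836 ≤ k → k < 21786 → chk_spider (k * 20) = true := between_extend chk_spider 20 15836 21716 70 (v_spider_1_83) r_spider_1_84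

theorem r_spider_1_85 : allRange chk_spider 20 21786 70 = true := by decide +kernel
theorem v_spider_1_85 : ∀ k, 15836 ≤ k → k < 21856 → chk_spider (k * 20) = true := between_extend chk_spider 20 15836 21786 70 (v_spider_1_84) r_spider_1_85

theorem r_spider_1_86 : allRange chk_spider 20 21856 70 = true := by decide +kernel
theorem v_spider_1_86 : ∀ k, 15836 ≤ k → k < 21926 → chk_spider (k * 20) = true := between_extend chk_spider 20 15836 21856 70 (v_spider_1_85) r_spider_1_86

theorem r_spider_1_87 : allRange chk_spider 20 21926 70 = true := by decide +kernel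
theorem v_spider_1_87 : ∀ k, 15836 ≤ k → k < 21996 → chk_spider (k * 20) = true := between_extend chk_spider 20 15836 21926 70 (v_spider_1_86) r_spider_1_87

theorem r_spider_1_88 : allRange chk_spider 20 21996 70 = true := by decide +kernel
theorem v_spider_1_88 : ∀ k, 15836 ≤ k → k < 22066 → chk_spider (k * 20) = true := between_extend chk_spider 20 15836 21996 70 (v_spider_1_87) r_spider_1_88

theorem r_spider_1_89 : allRange chk_spider 20 22066 70 = true := by decide +kernel
theorem v_spider_1_89 : ∀ k, 15836 ≤ k → k < 22136 → chk_spider (k * 20) = true := between_extend chk_spider 20 15836 22066 70 (v_spider_1_88) r_spider_1_89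

theorem r_spider_1_90 : allRange chk_spider 20 22136 70 = true := by decide +kernel
theorem v_spider_1_90 : ∀ k, 15836 ≤ k → k < 22206 → chk_spider (k * 20) = true := between_extend chk_spider 20 15836 22136 70 (v_spider_1_89) r_spider_1_90

theorem r_spider_1_91 : allRange chk_spider 20 22206 70 = true := by decide +kernel
theorem v_spider_1_91 : ∀ k, 15836 ≤ k → k < 22276 → chk_spider (k * 20) = true := between_extend chk_spider 20 15836 22206 70 (v_spider_1_90) r_spider_1_91

theorem r_spider_1_92 : allRange chk_spider 20 22276 70 = true := by decide +kernel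
theorem v_spider_1_92 : ∀ k, 15836 ≤ k → k < 22346 → chk_spider (k * 20) = true := between_extend chk_spider 20 15836 22276 70 (v_spider_1_91) r_spider_1_92

theorem r_spider_1_93 : allRange chk_spider 20 22346 70 = true := by decide +kernel
theorem v_spider_1_93 : ∀ k, 15836 ≤ k → k < 22416 → chk_spider (k * 20) = true := between_extend chk_spider 20 15836 22346 70 (v_spider_1_92) r_spider_1_93

theorem r_spider_1_94 : allRange chk_spider 20 22416 70 = true := by decide +kernel
theorem v_spider_1_94 : ∀ k, 15836 ≤ k → k < 22486 → chk_spider (k * 20) = true := between_extend chk_spider 20 15836 22416 70 (v_spider_1_93) r_spider_1_94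

theorem r_spider_1_95 : allRange chk_spider 20 22486 70 = true := by decide +kernel
theorem v_spider_1_95 : ∀ k, 15836 ≤ k → k < 22556 → chk_spider (k * 20) = true := between_extend chk_spider 20 15836 22486 70 (v_spider_1_94) r_spider_1_95

theorem r_spider_1_96 : allRange chk_spider 20 22556 70 = true := by decide +kernel
theorem v_spider_1_96 : ∀ k, 15836 ≤ k → k < 22626 → chk_spider (k * 20) = true := between_extend chk_spider 20 15836 22556 70 (v_spider_1_95) r_spider_1_96

theorem r_spider_1_97 : allRange chk_spider 20 22626 70 = true := by decide +kernel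
theorem v_spider_1_97 : ∀ k, 15836 ≤ k → k < 22696 → chk_spider (k * 20) = true := between_extend chk_spider 20 15836 22626 70 (v_spider_1_96) r_spider_1_97

theorem r_spider_1_98 : allRange chk_spider 20 22696 70 = true := by decide +kernel
theorem v_spider_1_98 : ∀ k, 15836 ≤ k → k < 22766 → chk_spider (k * 20) = true := between_extend chk_spider 20 15836 22696 70 (v_spider_1_97) r_spider_1_98

theorem r_spider_1_99 : allRange chk_spider 20 22766 70 = true := by decide +kernel
theorem v_spider_1_99 : ∀ k, 15836 ≤ k → k < 22836 → chk_spider (k * 20) = true := between_extend chk_spider 20 15836 22766 70 (v_spider_1_98) r_spider_1_99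

theorem r_spider_1_100 : allRange chk_spider 20 22836 70 = true := by decide +kernel
theorem v_spider_1_100 : ∀ k, 15836 ≤ k → k < 22906 → chk_spider (k * 20) = true := between_extend chk_spider 20 15836 22836 70 (v_spider_1_99) r_spider_1_100

theorem r_spider_1_101 : allRange chk_spider 20 22906 70 = true := by decide +kernel
theorem v_spider_1_101 : ∀ k, 15836 ≤ k → k < 22976 → chk_spider (k * 20) = true := between_extend chk_spider 20 15836 22906 70 (v_spider_1_100) r_spider_1_101

theorem r_spider_1_102 : allRange chk_spider 20 22976 70 = true := by decide +kernel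
theorem v_spider_1_102 : ∀ k, 15836 ≤ k → k < 23046 → chk_spider (k * 20) = true := between_extend chk_spider 20 15836 22976 70 (v_spider_1_101) r_spider_1_102

theorem r_spider_1_103 : allRange chk_spider 20 23046 70 = true := by decide +kernel
theorem v_spider_1_103 : ∀ k, 15836 ≤ k → k < 23116 → chk_spider (k * 20) = true := between_extend chk_spider 20 15836 23046 70 (v_spider_1_102) r_spider_1_103

theorem r_spider_1_104 : allRange chk_spider 20 23116 70 = true := by decide +kernel
theorem v_spider_1_104 : ∀ k, 15836 ≤ k → k < 23186 → chk_spider (k * 20) = true := between_extend chk_spider 20 15836 23116 70 (v_spider_1_103) r_spider_1_104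

theorem r_spider_1_105 : allRange chk_spider 20 23186 70 = true := by decide +kernel
theorem v_spider_1_105 : ∀ k, 15836 ≤ k → k < 23256 → chk_spider (k * 20) = true := between_extend chk_spider 20 15836 23186 70 (v_spider_1_104) r_spider_1_105

theorem r_spider_1_106 : allRange chk_spider 20 23256 70 = true := by decide +kernel
theorem v_spider_1_106 : ∀ k, 15836 ≤ k → k < 23326 → chk_spider (k * 20) = true := between_extend chk_spider 20 15836 23256 70 (v_spider_1_105) r_spider_1_106

theorem r_spider_1_107 : allRange chk_spider 20 23326 70 = true := by decide +kernel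
theorem v_spider_1_107 : ∀ k, 15836 ≤ k → k < 23396 → chk_spider (k * 20) = true := between_extend chk_spider 20 15836 23326 70 (v_spider_1_106) r_spider_1_107

theorem r_spider_1_108 : allRange chk_spider 20 23396 70 = true := by decide +kernel
theorem v_spider_1_108 : ∀ k, 15836 ≤ k → k < 23466 → chk_spider (k * 20) = true := between_extend chk_spider 20 15836 23396 70 (v_spider_1_107) r_spider_1_108

theorem r_spider_1_109 : allRange chk_spider 20 23466 70 = true := by decide +kernel
theorem v_spider_1_109 : ∀ k, 15836 ≤ k → k < 23536 → chk_spider (k * 20) = true := between_extend chk_spider 20 15836 23466 70 (v_spider_1_108) r_spider_1_109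

theorem r_spider_1_110 : allRange chk_spider 20 23536 70 = true := by decide +kernel
theorem v_spider_1_110 : ∀ k, 15836 ≤ k → k < 23606 → chk_spider (k * 20) = true := between_extend chk_spider 20 15836 23536 70 (v_spider_1_109) r_spider_1_110

theorem r_spider_1_111 : allRange chk_spider 20 23606 70 = true := by decide +kernel
theorem v_spider_1_111 : ∀ k, 15836 ≤ k → k < 23676 → chk_spider (k * 20) = true := between_extend chk_spider 20 15836 23606 70 (v_spider_1_110) r_spider_1_111

theorem r_spider_1_112 : allRange chk_spider 20 23676 70 = true := by decide +kernel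
theorem v_spider_1_112 : ∀ k, 15836 ≤ k → k < 23746 → chk_spider (k * 20) = true := between_extend chk_spider 20 15836 23676 70 (v_spider_1_111) r_spider_1_112

theorem r_spider_1_113 : allRange chk_spider 20 23746 70 = true := by decide +kernel
theorem v_spider_1_113 : ∀ k, 15836 ≤ k → k < 23816 → chk_spider (k * 20) = true := between_extend chk_spider 20 15836 23746 70 (v_spider_1_112) r_spider_1_113

theorem r_spider_1_114 : allRange chk_spider 20 23816 70 = true := by decide +kernel
theorem v_spider_1_114 : ∀ k, 15836 ≤ k → k < 23886 → chk_spider (k * 20) = true := between_extend chk_spider 20 15836 23816 70 (v_spider_1_113) r_spider_1_114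

theorem r_spider_1_115 : allRange chk_spider 20 23886 70 = true := by decide +kernel
theorem v_spider_1_115 : ∀ k, 15836 ≤ k → k < 23956 → chk_spider (k * 20) = true := between_extend chk_spider 20 15836 23886 70 (v_spider_1_114) r_spider_1_115

theorem r_spider_1_116 : allRange chk_spider 20 23956 70 = true := by decide +kernel
theorem v_spider_1_116 : ∀ k, 15836 ≤ k → k < 24026 → chk_spider (k * 20) = true := between_extend chk_spider 20 15836 23956 70 (v_spider_1_115) r_spider_1_116

theorem r_spider_1_117 : allRange chk_spider 20 24026 70 = true := by decide +kernel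
theorem v_spider_1_117 : ∀ k, 15836 ≤ k → k < 24096 → chk_spider (k * 20) = true := between_extend chk_spider 20 15836 24026 70 (v_spider_1_116) r_spider_1_117

theorem r_spider_1_118 : allRange chk_spider 20 24096 70 = true := by decide +kernel
theorem v_spider_1_118 : ∀ k, 15836 ≤ k → k < 24166 → chk_spider (k * 20) = true := between_extend chk_spider 20 15836 24096 70 (v_spider_1_117) r_spider_1_118

theorem r_spider_1_119 : allRange chk_spider 20 24166 70 = true := by decide +kernel
theorem v_spider_1_119 : ∀ k, 15836 ≤ k → k < 24236 → chk_spider (k * 20) = true := between_extend chk_spider 20 15836 24166 70 (v_spider_1_118) r_spider_1_119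

theorem r_spider_1_120 : allRange chk_spider 20 24236 70 = true := by decide +kernel
theorem v_spider_1_120 : ∀ k, 15836 ≤ k → k < 24306 → chk_spider (k * 20) = true := between_extend chk_spider 20 15836 24236 70 (v_spider_1_119) r_spider_1_120

theorem r_spider_1_121 : allRange chk_spider 20 24306 70 = true := by decide +kernel
theorem v_spider_1_121 : ∀ k, 15836 ≤ k → k < 24376 → chk_spider (k * 20) = true := between_extend chk_spider 20 15836 24306 70 (v_spider_1_120) r_spider_1_121

theorem r_spider_1_122 : allRange chk_spider 20 24376 70 = true := by decide +kernel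
theorem v_spider_1_122 : ∀ k, 15836 ≤ k → k < 24446 → chk_spider (k * 20) = true := between_extend chk_spider 20 15836 24376 70 (v_spider_1_121) r_spider_1_122

theorem r_spider_1_123 : allRange chk_spider 20 24446 70 = true := by decide +kernel
theorem v_spider_1_123 : ∀ k, 15836 ≤ k → k < 24516 → chk_spider (k * 20) = true := between_extend chk_spider 20 15836 24446 70 (v_spider_1_122) r_spider_1_123

theorem r_spider_1_124 : allRange chk_spider 20 24516 70 = true := by decide +kernel
theorem v_spider_1_124 : ∀ k, 15836 ≤ k → k < 24586 → chk_spider (k * 20) = true := between_extend chk_spider 20 15836 24516 70 (v_spider_1_123) r_spider_1_124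

theorem r_spider_1_125 : allRange chk_spider 20 24586 70 = true := by decide +kernel
theorem v_spider_1_125 : ∀ k, 15836 ≤ k → k < 24656 → chk_spider (k * 20) = true := between_extend chk_spider 20 15836 24586 70 (v_spider_1_124) r_spider_1_125

theorem r_spider_1_126 : allRange chk_spider 20 24656 70 = true := by decide +kernel
theorem v_spider_1_126 : ∀ k, 15836 ≤ k → k < 24726 → chk_spider (k * 20) = true := between_extend chk_spider 20 15836 24656 70 (v_spider_1_125) r_spider_1_126

theorem r_spider_1_127 : allRange chk_spider 20 24726 70 = true := by decide +kernel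
theorem v_spider_1_127 : ∀ k, 15836 ≤ k → k < 24796 → chk_spider (k * 20) = true := between_extend chk_spider 20 15836 24726 70 (v_spider_1_126) r_spider_1_127

theorem r_spider_1_128 : allRange chk_spider 20 24796 70 = true := by decide +kernel
theorem v_spider_1_128 : ∀ k, 15836 ≤ k → k < 24866 → chk_spider (k * 20) = true := between_extend chk_spider 20 15836 24796 70 (v_spider_1_127) r_spider_1_128

theorem r_spider_1_129 : allRange chk_spider 20 24866 70 = true := by decide +kernel
theorem v_spider_1_129 : ∀ k, 15836 ≤ k → k < 24936 → chk_spider (k * 20) = true := between_extend chk_spider 20 15836 24866 70 (v_spider_1_128) r_spider_1_129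

theorem r_spider_1_130 : allRange chk_spider 20 24936 70 = true := by decide +kernel
theorem v_spider_1_130 : ∀ k, 15836 ≤ k → k < 25006 → chk_spider (k * 20) = true := between_extend chk_spider 20 15836 24936 70 (v_spider_1_129) r_spider_1_130

theorem r_spider_1_131 : allRange chk_spider 20 25006 70 = true := by decide +kernel
theorem v_spider_1_131 : ∀ k, 15836 ≤ k → k < 25076 → chk_spider (k * 20) = true := between_extend chk_spider 20 15836 25006 70 (v_spider_1_130) r_spider_1_131

theorem r_spider_1_132 : allRange chk_spider 20 25076 70 = true := by decide +kernel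
theorem v_spider_1_132 : ∀ k, 15836 ≤ k → k < 25146 → chk_spider (k * 20) = true := between_extend chk_spider 20 15836 25076 70 (v_spider_1_131) r_spider_1_132

theorem r_spider_1_133 : allRange chk_spider 20 25146 70 = true := by decide +kernel
theorem v_spider_1_133 : ∀ k, 15836 ≤ k → k < 25216 → chk_spider (k * 20) = true := between_extend chk_spider 20 15836 25146 70 (v_spider_1_132) r_spider_1_133

theorem r_spider_1_134 : allRange chk_spider 20 25216 70 = true := by decide +kernel
theorem v_spider_1_134 : ∀ k, 15836 ≤ k → k < 25286 → chk_spider (k * 20) = true := between_extend chk_spider 20 15836 25216 70 (v_spider_1_133) r_spider_1_134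

theorem r_spider_1_135 : allRange chk_spider 20 25286 70 = true := by decide +kernel
theorem v_spider_1_135 : ∀ k, 15836 ≤ k → k < 25356 → chk_spider (k * 20) = true := between_extend chk_spider 20 15836 25286 70 (v_spider_1_134) r_spider_1_135

theorem r_spider_1_136 : allRange chk_spider 20 25356 70 = true := by decide +kernel
theorem v_spider_1_136 : ∀ k, 15836 ≤ k → k < 25426 → chk_spider (k * 20) = true := between_extend chk_spider 20 15836 25356 70 (v_spider_1_135) r_spider_1_136

theorem r_spider_1_137 : allRange chk_spider 20 25426 70 = true := by decide +kernel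
theorem v_spider_1_137 : ∀ k, 15836 ≤ k → k < 25496 → chk_spider (k * 20) = true := between_extend chk_spider 20 15836 25426 70 (v_spider_1_136) r_spider_1_137

theorem r_spider_1_138 : allRange chk_spider 20 25496 70 = true := by decide +kernel
theorem v_spider_1_138 : ∀ k, 15836 ≤ k → k < 25566 → chk_spider (k * 20) = true := between_extend chk_spider 20 15836 25496 70 (v_spider_1_137) r_spider_1_138

theorem r_spider_1_139 : allRange chk_spider 20 25566 70 = true := by decide +kernel
theorem v_spider_1_139 : ∀ k, 15836 ≤ k → k < 25636 → chk_spider (k * 20) = true := between_extend chk_spider 20 15836 25566 70 (v_spider_1_138) r_spider_1_139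

theorem r_spider_1_140 : allRange chk_spider 20 25636 70 = true := by decide +kernel
theorem v_spider_1_140 : ∀ k, 15836 ≤ k → k < 25706 → chk_spider (k * 20) = true := between_extend chk_spider 20 15836 25636 70 (v_spider_1_139) r_spider_1_140

theorem r_spider_1_141 : allRange chk_spider 20 25706 70 = true := by decide +kernel
theorem v_spider_1_141 : ∀ k, 15836 ≤ k → k < 25776 → chk_spider (k * 20) = true := between_extend chk_spider 20 15836 25706 70 (v_spider_1_140) r_spider_1_141

theorem r_spider_1_142 : allRange chk_spider 20 25776 70 = true := by decide +kernel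
theorem v_spider_1_142 : ∀ k, 15836 ≤ k → k < 25846 → chk_spider (k * 20) = true := between_extend chk_spider 20 15836 25776 70 (v_spider_1_141) r_spider_1_142

theorem r_spider_1_143 : allRange chk_spider 20 25846 70 = true := by decide +kernel
theorem v_spider_1_143 : ∀ k, 15836 ≤ k → k < 25916 → chk_spider (k * 20) = true := between_extend chk_spider 20 15836 25846 70 (v_spider_1_142) r_spider_1_143

theorem r_spider_1_144 : allRange chk_spider 20 25916 70 = true := by decide +kernel
theorem v_spider_1_144 : ∀ k, 15836 ≤ k → k < 25986 → chk_spider (k * 20) = true := between_extend chk_spider 20 15836 25916 70 (v_spider_1_143) r_spider_1_144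

theorem r_spider_1_145 : allRange chk_spider 20 25986 70 = true := by decide +kernel
theorem v_spider_1_145 : ∀ k, 15836 ≤ k → k < 26056 → chk_spider (k * 20) = true := between_extend chk_spider 20 15836 25986 70 (v_spider_1_144) r_spider_1_145

theorem r_spider_1_146 : allRange chk_spider 20 26056 70 = true := by decide +kernel
theorem v_spider_1_146 : ∀ k, 15836 ≤ k → k < 26126 → chk_spider (k * 20) = true := between_extend chk_spider 20 15836 26056 70 (v_spider_1_145) r_spider_1_146

theorem r_spider_1_147 : allRange chk_spider 20 26126 70 = true := by decide +kernel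
theorem v_spider_1_147 : ∀ k, 15836 ≤ k → k < 26196 → chk_spider (k * 20) = true := between_extend chk_spider 20 15836 26126 70 (v_spider_1_146) r_spider_1_147

theorem r_spider_1_148 : allRange chk_spider 20 26196 70 = true := by decide +kernel
theorem v_spider_1_148 : ∀ k, 15836 ≤ k → k < 26266 → chk_spider (k * 20) = true := between_extend chk_spider 20 15836 26196 70 (v_spider_1_147) r_spider_1_148

theorem r_spider_1_149 : allRange chk_spider 20 26266 70 = true := by decide +kernel
theorem v_spider_1_149 : ∀ k, 15836 ≤ k → k < 26336 → chk_spider (k * 20) = true := between_extend chk_spider 20 15836 26266 70 (v_spider_1_148) r_spider_1_149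

theorem r_spider_1_150 : allRange chk_spider 20 26336 70 = true := by decide +kernel
theorem v_spider_1_150 : ∀ k, 15836 ≤ k → k < 26406 → chk_spider (k * 20) = true := between_extend chk_spider 20 15836 26336 70 (v_spider_1_149) r_spider_1_150

theorem r_spider_1_151 : allRange chk_spider 20 26406 70 = true := by decide +kernel
theorem v_spider_1_151 : ∀ k, 15836 ≤ k → k < 26476 → chk_spider (k * 20) = true := between_extend chk_spider 20 15836 26406 70 (v_spider_1_150) r_spider_1_151

theorem r_spider_1_152 : allRange chk_spider 20 26476 70 = true := by decide +kernel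
theorem v_spider_1_152 : ∀ k, 15836 ≤ k → k < 26546 → chk_spider (k * 20) = true := between_extend chk_spider 20 15836 26476 70 (v_spider_1_151) r_spider_1_152

theorem r_spider_1_153 : allRange chk_spider 20 26546 70 = true := by decide +kernel
theorem v_spider_1_153 : ∀ k, 15836 ≤ k → k < 26616 → chk_spider (k * 20) = true := between_extend chk_spider 20 15836 26546 70 (v_spider_1_152) r_spider_1_153

theorem r_spider_1_154 : allRange chk_spider 20 26616 70 = true := by decide +kernel
theorem v_spider_1_154 : ∀ k, 15836 ≤ k → k < 26686 → chk_spider (k * 20) = true := between_extend chk_spider 20 15836 26616 70 (v_spider_1_153) r_spider_1_154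

theorem r_spider_1_155 : allRange chk_spider 20 26686 70 = true := by decide +kernel
theorem v_spider_1_155 : ∀ k, 15836 ≤ k → k < 26756 → chk_spider (k * 20) = true := between_extend chk_spider 20 15836 26686 70 (v_spider_1_154) r_spider_1_155

theorem r_spider_1_156 : allRange chk_spider 20 26756 70 = true := by decide +kernel
theorem v_spider_1_156 : ∀ k, 15836 ≤ k → k < 26826 → chk_spider (k * 20) = true := between_extend chk_spider 20 15836 26756 70 (v_spider_1_155) r_spider_1_156

theorem r_spider_1_157 : allRange chk_spider 20 26826 70 = true := by decide +kernel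
theorem v_spider_1_157 : ∀ k, 15836 ≤ k → k < 26896 → chk_spider (k * 20) = true := between_extend chk_spider 20 15836 26826 70 (v_spider_1_156) r_spider_1_157

theorem r_spider_1_158 : allRange chk_spider 20 26896 70 = true := by decide +kernel
theorem v_spider_1_158 : ∀ k, 15836 ≤ k → k < 26966 → chk_spider (k * 20) = true := between_extend chk_spider 20 15836 26896 70 (v_spider_1_157) r_spider_1_158

theorem r_spider_1_159 : allRange chk_spider 20 26966 70 = true := by decide +kernel
theorem v_spider_1_159 : ∀ k, 15836 ≤ k → k < 27036 → chk_spider (k * 20) = true := between_extend chk_spider 20 15836 26966 70 (v_spider_1_158) r_spider_1_159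

theorem r_spider_1_160 : allRange chk_spider 20 27036 70 = true := by decide +kernel
theorem v_spider_1_160 : ∀ k, 15836 ≤ k → k < 27106 → chk_spider (k * 20) = true := between_extend chk_spider 20 15836 27036 70 (v_spider_1_159) r_spider_1_160

theorem r_spider_1_161 : allRange chk_spider 20 27106 70 = true := by decide +kernel
theorem v_spider_1_161 : ∀ k, 15836 ≤ k → k < 27176 → chk_spider (k * 20) = true := between_extend chk_spider 20 15836 27106 70 (v_spider_1_160) r_spider_1_161

theorem r_spider_1_162 : allRange chk_spider 20 27176 70 = true := by decide +kernel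
theorem v_spider_1_162 : ∀ k, 15836 ≤ k → k < 27246 → chk_spider (k * 20) = true := between_extend chk_spider 20 15836 27176 70 (v_spider_1_161) r_spider_1_162

theorem r_spider_1_163 : allRange chk_spider 20 27246 70 = true := by decide +kernel
theorem v_spider_1_163 : ∀ k, 15836 ≤ k → k < 27316 → chk_spider (k * 20) = true := between_extend chk_spider 20 15836 27246 70 (v_spider_1_162) r_spider_1_163

theorem r_spider_1_164 : allRange chk_spider 20 27316 70 = true := by decide +kernel
theorem v_spider_1_164 : ∀ k, 15836 ≤ k → k < 27386 → chk_spider (k * 20) = true := between_extend chk_spider 20 15836 27316 70 (v_spider_1_163) r_spider_1_164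

theorem r_spider_1_165 : allRange chk_spider 20 27386 70 = true := by decide +kernel
theorem v_spider_1_165 : ∀ k, 15836 ≤ k → k < 27456 → chk_spider (k * 20) = true := between_extend chk_spider 20 15836 27386 70 (v_spider_1_164) r_spider_1_165

theorem r_spider_1_166 : allRange chk_spider 20 27456 70 = true := by decide +kernel
theorem v_spider_1_166 : ∀ k, 15836 ≤ k → k < 27526 → chk_spider (k * 20) = true := between_extend chk_spider 20 15836 27456 70 (v_spider_1_165) r_spider_1_166

theorem r_spider_1_167 : allRange chk_spider 20 27526 70 = true := by decide +kernel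
theorem v_spider_1_167 : ∀ k, 15836 ≤ k → k < 27596 → chk_spider (k * 20) = true := between_extend chk_spider 20 15836 27526 70 (v_spider_1_166) r_spider_1_167

theorem r_spider_1_168 : allRange chk_spider 20 27596 70 = true := by decide +kernel
theorem v_spider_1_168 : ∀ k, 15836 ≤ k → k < 27666 → chk_spider (k * 20) = true := between_extend chk_spider 20 15836 27596 70 (v_spider_1_167) r_spider_1_168

theorem r_spider_1_169 : allRange chk_spider 20 27666 70 = true := by decide +kernel
theorem v_spider_1_169 : ∀ k, 15836 ≤ k → k < 27736 → chk_spider (k * 20) = true := between_extend chk_spider 20 15836 27666 70 (v_spider_1_168) r_spider_1_169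

theorem r_spider_1_170 : allRange chk_spider 20 27736 70 = true := by decide +kernel
theorem v_spider_1_170 : ∀ k, 15836 ≤ k → k < 27806 → chk_spider (k * 20) = true := between_extend chk_spider 20 15836 27736 70 (v_spider_1_169) r_spider_1_170

theorem r_spider_1_171 : allRange chk_spider 20 27806 70 = true := by decide +kernel
theorem v_spider_1_171 : ∀ k, 15836 ≤ k → k < 27876 → chk_spider (k * 20) = true := between_extend chk_spider 20 15836 27806 70 (v_spider_1_170) r_spider_1_171

theorem r_spider_1_172 : allRange chk_spider 20 27876 70 = true := by decide +kernel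
theorem v_spider_1_172 : ∀ k, 15836 ≤ k → k < 27946 → chk_spider (k * 20) = true := between_extend chk_spider 20 15836 27876 70 (v_spider_1_171) r_spider_1_172

theorem r_spider_1_173 : allRange chk_spider 20 27946 70 = true := by decide +kernel
theorem v_spider_1_173 : ∀ k, 15836 ≤ k → k < 28016 → chk_spider (k * 20) = true := between_extend chk_spider 20 15836 27946 70 (v_spider_1_172) r_spider_1_173

theorem r_spider_1_174 : allRange chk_spider 20 28016 70 = true := by decide +kernel
theorem v_spider_1_174 : ∀ k, 15836 ≤ k → k < 28086 → chk_spider (k * 20) = true := between_extend chk_spider 20 15836 28016 70 (v_spider_1_173) r_spider_1_174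

theorem r_spider_1_175 : allRange chk_spider 20 28086 70 = true := by decide +kernel
theorem v_spider_1_175 : ∀ k, 15836 ≤ k → k < 28156 → chk_spider (k * 20) = true := between_extend chk_spider 20 15836 28086 70 (v_spider_1_174) r_spider_1_175

theorem r_spider_1_176 : allRange chk_spider 20 28156 70 = true := by decide +kernel
theorem v_spider_1_176 : ∀ k, 15836 ≤ k → k < 28226 → chk_spider (k * 20) = true := between_extend chk_spider 20 15836 28156 70 (v_spider_1_175) r_spider_1_176

theorem r_spider_1_177 : allRange chk_spider 20 28226 70 = true := by decide +kernel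
theorem v_spider_1_177 : ∀ k, 15836 ≤ k → k < 28296 → chk_spider (k * 20) = true := between_extend chk_spider 20 15836 28226 70 (v_spider_1_176) r_spider_1_177

theorem r_spider_1_178 : allRange chk_spider 20 28296 70 = true := by decide +kernel
theorem v_spider_1_178 : ∀ k, 15836 ≤ k → k < 28366 → chk_spider (k * 20) = true := between_extend chk_spider 20 15836 28296 70 (v_spider_1_177) r_spider_1_178

theorem r_spider_1_179 : allRange chk_spider 20 28366 70 = true := by decide +kernel
theorem v_spider_1_179 : ∀ k, 15836 ≤ k → k < 28436 → chk_spider (k * 20) = true := between_extend chk_spider 20 15836 28366 70 (v_spider_1_178) r_spider_1_179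

theorem r_spider_1_180 : allRange chk_spider 20 28436 70 = true := by decide +kernel
theorem v_spider_1_180 : ∀ k, 15836 ≤ k → k < 28506 → chk_spider (k * 20) = true := between_extend chk_spider 20 15836 28436 70 (v_spider_1_179) r_spider_1_180

theorem r_spider_1_181 : allRange chk_spider 20 28506 70 = true := by decide +kernel
theorem v_spider_1_181 : ∀ k, 15836 ≤ k → k < 28576 → chk_spider (k * 20) = true := between_extend chk_spider 20 15836 28506 70 (v_spider_1_180) r_spider_1_181

theorem r_spider_1_182 : allRange chk_spider 20 28576 70 = true := by decide +kernel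
theorem v_spider_1_182 : ∀ k, 15836 ≤ k → k < 28646 → chk_spider (k * 20) = true := between_extend chk_spider 20 15836 28576 70 (v_spider_1_181) r_spider_1_182

theorem r_spider_1_183 : allRange chk_spider 20 28646 70 = true := by decide +kernel
theorem v_spider_1_183 : ∀ k, 15836 ≤ k → k < 28716 → chk_spider (k * 20) = true := between_extend chk_spider 20 15836 28646 70 (v_spider_1_182) r_spider_1_183

theorem r_spider_1_184 : allRange chk_spider 20 28716 70 = true := by decide +kernel
theorem v_spider_1_184 : ∀ k, 15836 ≤ k → k < 28786 → chk_spider (k * 20) = true := between_extend chk_spider 20 15836 28716 70 (v_spider_1_183) r_spider_1_184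

theorem r_spider_1_185 : allRange chk_spider 20 28786 70 = true := by decide +kernel
theorem v_spider_1_185 : ∀ k, 15836 ≤ k → k < 28856 → chk_spider (k * 20) = true := between_extend chk_spider 20 15836 28786 70 (v_spider_1_184) r_spider_1_185

theorem r_spider_1_186 : allRange chk_spider 20 28856 70 = true := by decide +kernel
theorem v_spider_1_186 : ∀ k, 15836 ≤ k → k < 28926 → chk_spider (k * 20) = true := between_extend chk_spider 20 15836 28856 70 (v_spider_1_185) r_spider_1_186

theorem r_spider_1_187 : allRange chk_spider 20 28926 70 = true := by decide +kernel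
theorem v_spider_1_187 : ∀ k, 15836 ≤ k → k < 28996 → chk_spider (k * 20) = true := between_extend chk_spider 20 15836 28926 70 (v_spider_1_186) r_spider_1_187

theorem r_spider_1_188 : allRange chk_spider 20 28996 70 = true := by decide +kernel
theorem v_spider_1_188 : ∀ k, 15836 ≤ k → k < 29066 → chk_spider (k * 20) = true := between_extend chk_spider 20 15836 28996 70 (v_spider_1_187) r_spider_1_188

theorem r_spider_1_189 : allRange chk_spider 20 29066 70 = true := by decide +kernel
theorem v_spider_1_189 : ∀ k, 15836 ≤ k → k < 29136 → chk_spider (k * 20) = true := between_extend chk_spider 20 15836 29066 70 (v_spider_1_188) r_spider_1_189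

theorem r_spider_1_190 : allRange chk_spider 20 29136 70 = true := by decide +kernel
theorem v_spider_1_190 : ∀ k, 15836 ≤ k → k < 29206 → chk_spider (k * 20) = true := between_extend chk_spider 20 15836 29136 70 (v_spider_1_189) r_spider_1_190

theorem r_spider_1_191 : allRange chk_spider 20 29206 70 = true := by decide +kernel
theorem v_spider_1_191 : ∀ k, 15836 ≤ k → k < 29276 → chk_spider (k * 20) = true := between_extend chk_spider 20 15836 29206 70 (v_spider_1_190) r_spider_1_191

theorem r_spider_1_192 : allRange chk_spider 20 29276 70 = true := by decide +kernel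
theorem v_spider_1_192 : ∀ k, 15836 ≤ k → k < 29346 → chk_spider (k * 20) = true := between_extend chk_spider 20 15836 29276 70 (v_spider_1_191) r_spider_1_192

theorem r_spider_1_193 : allRange chk_spider 20 29346 70 = true := by decide +kernel
theorem v_spider_1_193 : ∀ k, 15836 ≤ k → k < 29416 → chk_spider (k * 20) = true := between_extend chk_spider 20 15836 29346 70 (v_spider_1_192) r_spider_1_193

theorem r_spider_1_194 : allRange chk_spider 20 29416 70 = true := by decide +kernel
theorem v_spider_1_194 : ∀ k, 15836 ≤ k → k < 29486 → chk_spider (k * 20) = true := between_extend chk_spider 20 15836 29416 70 (v_spider_1_193) r_spider_1_194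

theorem r_spider_1_195 : allRange chk_spider 20 29486 70 = true := by decide +kernel
theorem v_spider_1_195 : ∀ k, 15836 ≤ k → k < 29556 → chk_spider (k * 20) = true := between_extend chk_spider 20 15836 29486 70 (v_spider_1_194) r_spider_1_195

theorem r_spider_1_196 : allRange chk_spider 20 29556 70 = true := by decide +kernel
theorem v_spider_1_196 : ∀ k, 15836 ≤ k → k < 29626 → chk_spider (k * 20) = true := between_extend chk_spider 20 15836 29556 70 (v_spider_1_195) r_spider_1_196

theorem r_spider_1_197 : allRange chk_spider 20 29626 70 = true := by decide +kernel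
theorem v_spider_1_197 : ∀ k, 15836 ≤ k → k < 29696 → chk_spider (k * 20) = true := between_extend chk_spider 20 15836 29626 70 (v_spider_1_196) r_spider_1_197

theorem r_spider_1_198 : allRange chk_spider 20 29696 70 = true := by decide +kernel
theorem v_spider_1_198 : ∀ k, 15836 ≤ k → k < 29766 → chk_spider (k * 20) = true := between_extend chk_spider 20 15836 29696 70 (v_spider_1_197) r_spider_1_198

theorem r_spider_1_199 : allRange chk_spider 20 29766 70 = true := by decide +kernel
theorem v_spider_1_199 : ∀ k, 15836 ≤ k → k < 29836 → chk_spider (k * 20) = true := between_extend chk_spider 20 15836 29766 70 (v_spider_1_198) r_spider_1_199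

theorem r_spider_1_200 : allRange chk_spider 20 29836 70 = true := by decide +kernel
theorem v_spider_1_200 : ∀ k, 15836 ≤ k → k < 29906 → chk_spider (k * 20) = true := between_extend chk_spider 20 15836 29836 70 (v_spider_1_199) r_spider_1_200

theorem r_spider_1_201 : allRange chk_spider 20 29906 70 = true := by decide +kernel
theorem v_spider_1_201 : ∀ k, 15836 ≤ k → k < 29976 → chk_spider (k * 20) = true := between_extend chk_spider 20 15836 29906 70 (v_spider_1_200) r_spider_1_201

theorem r_spider_1_202 : allRange chk_spider 20 29976 70 = true := by decide +kernel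
theorem v_spider_1_202 : ∀ k, 15836 ≤ k → k < 30046 → chk_spider (k * 20) = true := between_extend chk_spider 20 15836 29976 70 (v_spider_1_201) r_spider_1_202

theorem r_spider_1_203 : allRange chk_spider 20 30046 70 = true := by decide +kernel
theorem v_spider_1_203 : ∀ k, 15836 ≤ k → k < 30116 → chk_spider (k * 20) = true := between_extend chk_spider 20 15836 30046 70 (v_spider_1_202) r_spider_1_203

theorem r_spider_1_204 : allRange chk_spider 20 30116 70 = true := by decide +kernel
theorem v_spider_1_204 : ∀ k, 15836 ≤ k → k < 30186 → chk_spider (k * 20) = true := between_extend chk_spider 20 15836 30116 70 (v_spider_1_203) r_spider_1_204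

theorem r_spider_1_205 : allRange chk_spider 20 30186 70 = true := by decide +kernel
theorem v_spider_1_205 : ∀ k, 15836 ≤ k → k < 30256 → chk_spider (k * 20) = true := between_extend chk_spider 20 15836 30186 70 (v_spider_1_204) r_spider_1_205

theorem r_spider_1_206 : allRange chk_spider 20 30256 70 = true := by decide +kernel
theorem v_spider_1_206 : ∀ k, 15836 ≤ k → k < 30326 → chk_spider (k * 20) = true := between_extend chk_spider 20 15836 30256 70 (v_spider_1_205) r_spider_1_206

theorem r_spider_1_207 : allRange chk_spider 20 30326 70 = true := by decide +kernel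
theorem v_spider_1_207 : ∀ k, 15836 ≤ k → k < 30396 → chk_spider (k * 20) = true := between_extend chk_spider 20 15836 30326 70 (v_spider_1_206) r_spider_1_207

theorem r_spider_1_208 : allRange chk_spider 20 30396 70 = true := by decide +kernel
theorem v_spider_1_208 : ∀ k, 15836 ≤ k → k < 30466 → chk_spider (k * 20) = true := between_extend chk_spider 20 15836 30396 70 (v_spider_1_207) r_spider_1_208

theorem r_spider_1_209 : allRange chk_spider 20 30466 70 = true := by decide +kernel
theorem v_spider_1_209 : ∀ k, 15836 ≤ k → k < 30536 → chk_spider (k * 20) = true := between_extend chk_spider 20 15836 30466 70 (v_spider_1_208) r_spider_1_209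

theorem r_spider_1_210 : allRange chk_spider 20 30536 70 = true := by decide +kernel
theorem v_spider_1_210 : ∀ k, 15836 ≤ k → k < 30606 → chk_spider (k * 20) = true := between_extend chk_spider 20 15836 30536 70 (v_spider_1_209) r_spider_1_210

theorem r_spider_1_211 : allRange chk_spider 20 30606 70 = true := by decide +kernel
theorem v_spider_1_211 : ∀ k, 15836 ≤ k → k < 30676 → chk_spider (k * 20) = true := between_extend chk_spider 20 15836 30606 70 (v_spider_1_210) r_spider_1_211

theorem r_spider_1_212 : allRange chk_spider 20 30676 70 = true := by decide +kernel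
theorem v_spider_1_212 : ∀ k, 15836 ≤ k → k < 30746 → chk_spider (k * 20) = true := between_extend chk_spider 20 15836 30676 70 (v_spider_1_211) r_spider_1_212

theorem r_spider_1_213 : allRange chk_spider 20 30746 70 = true := by decide +kernel
theorem v_spider_1_213 : ∀ k, 15836 ≤ k → k < 30816 → chk_spider (k * 20) = true := between_extend chk_spider 20 15836 30746 70 (v_spider_1_212) r_spider_1_213

theorem r_spider_1_214 : allRange chk_spider 20 30816 70 = true := by decide +kernel
theorem v_spider_1_214 : ∀ k, 15836 ≤ k → k < 30886 → chk_spider (k * 20) = true := between_extend chk_spider 20 15836 30816 70 (v_spider_1_213) r_spider_1_214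

theorem r_spider_1_215 : allRange chk_spider 20 30886 70 = true := by decide +kernel
theorem v_spider_1_215 : ∀ k, 15836 ≤ k → k < 30956 → chk_spider (k * 20) = true := between_extend chk_spider 20 15836 30886 70 (v_spider_1_214) r_spider_1_215

theorem r_spider_1_216 : allRange chk_spider 20 30956 70 = true := by decide +kernel
theorem v_spider_1_216 : ∀ k, 15836 ≤ k → k < 31026 → chk_spider (k * 20) = true := between_extend chk_spider 20 15836 30956 70 (v_spider_1_215) r_spider_1_216

theorem r_spider_1_217 : allRange chk_spider 20 31026 70 = true := by decide +kernel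
theorem v_spider_1_217 : ∀ k, 15836 ≤ k → k < 31096 → chk_spider (k * 20) = true := between_extend chk_spider 20 15836 31026 70 (v_spider_1_216) r_spider_1_217

theorem r_spider_1_218 : allRange chk_spider 20 31096 70 = true := by decide +kernel
theorem v_spider_1_218 : ∀ k, 15836 ≤ k → k < 31166 → chk_spider (k * 20) = true := between_extend chk_spider 20 15836 31096 70 (v_spider_1_217) r_spider_1_218

theorem r_spider_1_219 : allRange chk_spider 20 31166 70 = true := by decide +kernel
theorem v_spider_1_219 : ∀ k, 15836 ≤ k → k < 31236 → chk_spider (k * 20) = true := between_extend chk_spider 20 15836 31166 70 (v_spider_1_218) r_spider_1_219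

theorem r_spider_1_220 : allRange chk_spider 20 31236 70 = true := by decide +kernel
theorem v_spider_1_220 : ∀ k, 15836 ≤ k → k < 31306 → chk_spider (k * 20) = true := between_extend chk_spider 20 15836 31236 70 (v_spider_1_219) r_spider_1_220

theorem r_spider_1_221 : allRange chk_spider 20 31306 70 = true := by decide +kernel
theorem v_spider_1_221 : ∀ k, 15836 ≤ k → k < 31376 → chk_spider (k * 20) = true := between_extend chk_spider 20 15836 31306 70 (v_spider_1_220) r_spider_1_221

theorem r_spider_1_222 : allRange chk_spider 20 31376 70 = true := by decide +kernel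
theorem v_spider_1_222 : ∀ k, 15836 ≤ k → k < 31446 → chk_spider (k * 20) = true := between_extend chk_spider 20 15836 31376 70 (v_spider_1_221) r_spider_1_222

theorem r_spider_1_223 : allRange chk_spider 20 31446 70 = true := by decide +kernel
theorem v_spider_1_223 : ∀ k, 15836 ≤ k → k < 31516 → chk_spider (k * 20) = true := between_extend chk_spider 20 15836 31446 70 (v_spider_1_222) r_spider_1_223

theorem r_spider_1_224 : allRange chk_spider 20 31516 70 = true := by decide +kernel
theorem v_spider_1_224 : ∀ k, 15836 ≤ k → k < 31586 → chk_spider (k * 20) = true := between_extend chk_spider 20 15836 31516 70 (v_spider_1_223) r_spider_1_224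

theorem r_spider_1_225 : allRange chk_spider 20 31586 70 = true := by decide +kernel
theorem v_spider_1_225 : ∀ k, 15836 ≤ k → k < 31656 → chk_spider (k * 20) = true := between_extend chk_spider 20 15836 31586 70 (v_spider_1_224) r_spider_1_225

theorem r_spider_1_226 : allRange chk_spider 20 31656 15 = true := by decide +kernel
theorem v_spider_1_226 : ∀ k, 15836 ≤ k → k < 31671 → chk_spider (k * 20) = true := between_extend chk_spider 20 15836 31656 15 (v_spider_1_225) r_spider_1_226

theorem p_spider_1 : ∀ k, 15836 ≤ k → k < 31671 → chk_spider (k * 20) = true := v_spider_1_226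

end Cfsg.Agent.Lib.Helper28_Y5FiW
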