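import Cfsg.Agent.Lib.Helper28_Y5FiWDef

set_option autoImplicit false
set_option linter.constructorNameAsVariable false
set_option Elab.async false

namespace Cfsg.Agent.Lib.Helper28_Y5FiW

open Cfsg.Agent.Lib.Helper28_CosetPerm

theorem r_c_c2_1_0 : allRange chk_c_c2 20 15836 49 = true := by decide +kernel
theorem v_c_c2_1_0 : ∀ k, 15836 ≤ k → k < 15885 → chk_c_c2 (k * 20) = true := between_extend chk_c_c2 20 15836 15836 49 (between_start chk_c_c2 20 15836) r_c_c2_1_0

theorem r_c_c2_1_1 : allRange chk_c_c2 20 15885 49 = true := by decide +kernel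
theorem v_c_c2_1_1 : ∀ k, 15836 ≤ k → k < 15934 → chk_c_c2 (k * 20) = true := between_extend chk_c_c2 20 15836 15885 49 (v_c_c2_1_0) r_c_c2_1_1

theorem r_c_c2_1_2 : allRange chk_c_c2 20 15934 49 = true := by decide +kernel
theorem v_c_c2_1_2 : ∀ k, 15836 ≤ k → k < 15983 → chk_c_c2 (k * 20) = true := between_extend chk_c_c2 20 15836 15934 49 (v_c_c2_1_1) r_c_c2_1_2

theorem r_c_c2_1_3 : allRange chk_c_c2 20 15983 49 = true := by decide +kernel
theorem v_c_c2_1_3 : ∀ k, 15836 ≤ k → k < 16032 → chk_c_c2 (k * 20) = true := between_extend chk_c_c2 20 15836 15983 49 (v_c_c2_1_2) r_c_c2_1_3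

theorem r_c_c2_1_4 : allRange chk_c_c2 20 16032 49 = true := by decide +kernel
theorem v_c_c2_1_4 : ∀ k, 15836 ≤ k → k < 16081 → chk_c_c2 (k * 20) = true := between_extend chk_c_c2 20 15836 16032 49 (v_c_c2_1_3) r_c_c2_1_4

theorem r_c_c2_1_5 : allRange chk_c_c2 20 16081 49 = true := by decide +kernel
theorem v_c_c2_1_5 : ∀ k, 15836 ≤ k → k < 16130 → chk_c_c2 (k * 20) = true := between_extend chk_c_c2 20 15836 16081 49 (v_c_c2_1_4) r_c_c2_1_5

theorem r_c_c2_1_6 : allRange chk_c_c2 20 16130 49 = true := by decide +kernel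
theorem v_c_c2_1_6 : ∀ k, 15836 ≤ k → k < 16179 → chk_c_c2 (k * 20) = true := between_extend chk_c_c2 20 15836 16130 49 (v_c_c2_1_5) r_c_c2_1_6

theorem r_c_c2_1_7 : allRange chk_c_c2 20 16179 49 = true := by decide +kernel
theorem v_c_c2_1_7 : ∀ k, 15836 ≤ k → k < 16228 → chk_c_c2 (k * 20) = true := between_extend chk_c_c2 20 15836 16179 49 (v_c_c2_1_6) r_c_c2_1_7

theorem r_c_c2_1_8 : allRange chk_c_c2 20 16228 49 = true := by decide +kernel
theorem v_c_c2_1_8 : ∀ k, 15836 ≤ k → k < 16277 → chk_c_c2 (k * 20) = true := between_extend chk_c_c2 20 15836 16228 49 (v_c_c2_1_7) r_c_c2_1_8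

theorem r_c_c2_1_9 : allRange chk_c_c2 20 16277 49 = true := by decide +kernel
theorem v_c_c2_1_9 : ∀ k, 15836 ≤ k → k < 16326 → chk_c_c2 (k * 20) = true := between_extend chk_c_c2 20 15836 16277 49 (v_c_c2_1_8) r_c_c2_1_9

theorem r_c_c2_1_10 : allRange chk_c_c2 20 16326 49 = true := by decide +kernel
theorem v_c_c2_1_10 : ∀ k, 15836 ≤ k → k < 16375 → chk_c_c2 (k * 20) = true := between_extend chk_c_c2 20 15836 16326 49 (v_c_c2_1_9) r_c_c2_1_10

theorem r_c_c2_1_11 : allRange chk_c_c2 20 16375 49 = true := by decide +kernel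
theorem v_c_c2_1_11 : ∀ k, 15836 ≤ k → k < 16424 → chk_c_c2 (k * 20) = true := between_extend chk_c_c2 20 15836 16375 49 (v_c_c2_1_10) r_c_c2_1_11

theorem r_c_c2_1_12 : allRange chk_c_c2 20 16424 49 = true := by decide +kernel
theorem v_c_c2_1_12 : ∀ k, 15836 ≤ k → k < 16473 → chk_c_c2 (k * 20) = true := between_extend chk_c_c2 20 15836 16424 49 (v_c_c2_1_11) r_c_c2_1_12

theorem r_c_c2_1_13 : allRange chk_c_c2 20 16473 49 = true := by decide +kernel
theorem v_c_c2_1_13 : ∀ k, 15836 ≤ k → k < 16522 → chk_c_c2 (k * 20) = true := between_extend chk_c_c2 20 15836 16473 49 (v_c_c2_1_12) r_c_c2_1_13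

theorem r_c_c2_1_14 : allRange chk_c_c2 20 16522 49 = true := by decide +kernel
theorem v_c_c2_1_14 : ∀ k, 15836 ≤ k → k < 16571 → chk_c_c2 (k * 20) = true := between_extend chk_c_c2 20 15836 16522 49 (v_c_c2_1_13) r_c_c2_1_14

theorem r_c_c2_1_15 : allRange chk_c_c2 20 16571 49 = true := by decide +kernel
theorem v_c_c2_1_15 : ∀ k, 15836 ≤ k → k < 16620 → chk_c_c2 (k * 20) = true := between_extend chk_c_c2 20 15836 16571 49 (v_c_c2_1_14) r_c_c2_1_15

theorem r_c_c2_1_16 : allRange chk_c_c2 20 16620 49 = true := by decide +kernel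
theorem v_c_c2_1_16 : ∀ k, 15836 ≤ k → k < 16669 → chk_c_c2 (k * 20) = true := between_extend chk_c_c2 20 15836 16620 49 (v_c_c2_1_15) r_c_c2_1_16

theorem r_c_c2_1_17 : allRange chk_c_c2 20 16669 49 = true := by decide +kernel
theorem v_c_c2_1_17 : ∀ k, 15836 ≤ k → k < 16718 → chk_c_c2 (k * 20) = true := between_extend chk_c_c2 20 15836 16669 49 (v_c_c2_1_16) r_c_c2_1_17

theorem r_c_c2_1_18 : allRange chk_c_c2 20 16718 49 = true := by decide +kernel
theorem v_c_c2_1_18 : ∀ k, 15836 ≤ k → k < 16767 → chk_c_c2 (k * 20) = true := between_extend chk_c_c2 20 15836 16718 49 (v_c_c2_1_17) r_c_c2_1_18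

theorem r_c_c2_1_19 : allRange chk_c_c2 20 16767 49 = true := by decide +kernel
theorem v_c_c2_1_19 : ∀ k, 15836 ≤ k → k < 16816 → chk_c_c2 (k * 20) = true := between_extend chk_c_c2 20 15836 16767 49 (v_c_c2_1_18) r_c_c2_1_19

theorem r_c_c2_1_20 : allRange chk_c_c2 20 16816 49 = true := by decide +kernel
theorem v_c_c2_1_20 : ∀ k, 15836 ≤ k → k < 16865 → chk_c_c2 (k * 20) = true := between_extend chk_c_c2 20 15836 16816 49 (v_c_c2_1_19) r_c_c2_1_20

theorem r_c_c2_1_21 : allRange chk_c_c2 20 16865 49 = true := by decide +kernel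
theorem v_c_c2_1_21 : ∀ k, 15836 ≤ k → k < 16914 → chk_c_c2 (k * 20) = true := between_extend chk_c_c2 20 15836 16865 49 (v_c_c2_1_20) r_c_c2_1_21

theorem r_c_c2_1_22 : allRange chk_c_c2 20 16914 49 = true := by decide +kernel
theorem v_c_c2_1_22 : ∀ k, 15836 ≤ k → k < 16963 → chk_c_c2 (k * 20) = true := between_extend chk_c_c2 20 15836 16914 49 (v_c_c2_1_21) r_c_c2_1_22

theorem r_c_c2_1_23 : allRange chk_c_c2 20 16963 49 = true := by decide +kernel
theorem v_c_c2_1_23 : ∀ k, 15836 ≤ k → k < 17012 → chk_c_c2 (k * 20) = true := between_extend chk_c_c2 20 15836 16963 49 (v_c_c2_1_22) r_c_c2_1_23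

theorem r_c_c2_1_24 : allRange chk_c_c2 20 17012 49 = true := by decide +kernel
theorem v_c_c2_1_24 : ∀ k, 15836 ≤ k → k < 17061 → chk_c_c2 (k * 20) = true := between_extend chk_c_c2 20 15836 17012 49 (v_c_c2_1_23) r_c_c2_1_24

theorem r_c_c2_1_25 : allRange chk_c_c2 20 17061 49 = true := by decide +kernel
theorem v_c_c2_1_25 : ∀ k, 15836 ≤ k → k < 17110 → chk_c_c2 (k * 20) = true := between_extend chk_c_c2 20 15836 17061 49 (v_c_c2_1_24) r_c_c2_1_25

theorem r_c_c2_1_26 : allRange chk_c_c2 20 17110 49 = true := by decide +kernel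
theorem v_c_c2_1_26 : ∀ k, 15836 ≤ k → k < 17159 → chk_c_c2 (k * 20) = true := between_extend chk_c_c2 20 15836 17110 49 (v_c_c2_1_25) r_c_c2_1_26

theorem r_c_c2_1_27 : allRange chk_c_c2 20 17159 49 = true := by decide +kernel
theorem v_c_c2_1_27 : ∀ k, 15836 ≤ k → k < 17208 → chk_c_c2 (k * 20) = true := between_extend chk_c_c2 20 15836 17159 49 (v_c_c2_1_26) r_c_c2_1_27

theorem r_c_c2_1_28 : allRange chk_c_c2 20 17208 49 = true := by decide +kernel
theorem v_c_c2_1_28 : ∀ k, 15836 ≤ k → k < 17257 → chk_c_c2 (k * 20) = true := between_extend chk_c_c2 20 15836 17208 49 (v_c_c2_1_27) r_c_c2_1_28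

theorem r_c_c2_1_29 : allRange chk_c_c2 20 17257 49 = true := by decide +kernel
theorem v_c_c2_1_29 : ∀ k, 15836 ≤ k → k < 17306 → chk_c_c2 (k * 20) = true := between_extend chk_c_c2 20 15836 17257 49 (v_c_c2_1_28) r_c_c2_1_29

theorem r_c_c2_1_30 : allRange chk_c_c2 20 17306 49 = true := by decide +kernel
theorem v_c_c2_1_30 : ∀ k, 15836 ≤ k → k < 17355 → chk_c_c2 (k * 20) = true := between_extend chk_c_c2 20 15836 17306 49 (v_c_c2_1_29) r_c_c2_1_30

theorem r_c_c2_1_31 : allRange chk_c_c2 20 17355 49 = true := by decide +kernel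
theorem v_c_c2_1_31 : ∀ k, 15836 ≤ k → k < 17404 → chk_c_c2 (k * 20) = true := between_extend chk_c_c2 20 15836 17355 49 (v_c_c2_1_30) r_c_c2_1_31

theorem r_c_c2_1_32 : allRange chk_c_c2 20 17404 49 = true := by decide +kernel
theorem v_c_c2_1_32 : ∀ k, 15836 ≤ k → k < 17453 → chk_c_c2 (k * 20) = true := between_extend chk_c_c2 20 15836 17404 49 (v_c_c2_1_31) r_c_c2_1_32

theorem r_c_c2_1_33 : allRange chk_c_c2 20 17453 49 = true := by decide +kernel
theorem v_c_c2_1_33 : ∀ k, 15836 ≤ k → k < 17502 → chk_c_c2 (k * 20) = true := between_extend chk_c_c2 20 15836 17453 49 (v_c_c2_1_32) r_c_c2_1_33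

theorem r_c_c2_1_34 : allRange chk_c_c2 20 17502 49 = true := by decide +kernel
theorem v_c_c2_1_34 : ∀ k, 15836 ≤ k → k < 17551 → chk_c_c2 (k * 20) = true := between_extend chk_c_c2 20 15836 17502 49 (v_c_c2_1_33) r_c_c2_1_34

theorem r_c_c2_1_35 : allRange chk_c_c2 20 17551 49 = true := by decide +kernel
theorem v_c_c2_1_35 : ∀ k, 15836 ≤ k → k < 17600 → chk_c_c2 (k * 20) = true := between_extend chk_c_c2 20 15836 17551 49 (v_c_c2_1_34) r_c_c2_1_35

theorem r_c_c2_1_36 : allRange chk_c_c2 20 17600 49 = true := by decide +kernel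
theorem v_c_c2_1_36 : ∀ k, 15836 ≤ k → k < 17649 → chk_c_c2 (k * 20) = true := between_extend chk_c_c2 20 15836 17600 49 (v_c_c2_1_35) r_c_c2_1_36

theorem r_c_c2_1_37 : allRange chk_c_c2 20 17649 49 = true := by decide +kernel
theorem v_c_c2_1_37 : ∀ k, 15836 ≤ k → k < 17698 → chk_c_c2 (k * 20) = true := between_extend chk_c_c2 20 15836 17649 49 (v_c_c2_1_36) r_c_c2_1_37

theorem r_c_c2_1_38 : allRange chk_c_c2 20 17698 49 = true := by decide +kernel
theorem v_c_c2_1_38 : ∀ k, 15836 ≤ k → k < 17747 → chk_c_c2 (k * 20) = true := between_extend chk_c_c2 20 15836 17698 49 (v_c_c2_1_37) r_c_c2_1_38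

theorem r_c_c2_1_39 : allRange chk_c_c2 20 17747 49 = true := by decide +kernel
theorem v_c_c2_1_39 : ∀ k, 15836 ≤ k → k < 17796 → chk_c_c2 (k * 20) = true := between_extend chk_c_c2 20 15836 17747 49 (v_c_c2_1_38) r_c_c2_1_39

theorem r_c_c2_1_40 : allRange chk_c_c2 20 17796 49 = true := by decide +kernel
theorem v_c_c2_1_40 : ∀ k, 15836 ≤ k → k < 17845 → chk_c_c2 (k * 20) = true := between_extend chk_c_c2 20 15836 17796 49 (v_c_c2_1_39) r_c_c2_1_40

theorem r_c_c2_1_41 : allRange chk_c_c2 20 17845 49 = true := by decide +kernel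
theorem v_c_c2_1_41 : ∀ k, 15836 ≤ k → k < 17894 → chk_c_c2 (k * 20) = true := between_extend chk_c_c2 20 15836 17845 49 (v_c_c2_1_40) r_c_c2_1_41

theorem r_c_c2_1_42 : allRange chk_c_c2 20 17894 49 = true := by decide +kernel
theorem v_c_c2_1_42 : ∀ k, 15836 ≤ k → k < 17943 → chk_c_c2 (k * 20) = true := between_extend chk_c_c2 20 15836 17894 49 (v_c_c2_1_41) r_c_c2_1_42

theorem r_c_c2_1_43 : allRange chk_c_c2 20 17943 49 = true := by decide +kernel
theorem v_c_c2_1_43 : ∀ k, 15836 ≤ k → k < 17992 → chk_c_c2 (k * 20) = true := between_extend chk_c_c2 20 15836 17943 49 (v_c_c2_1_42) r_c_c2_1_43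

theorem r_c_c2_1_44 : allRange chk_c_c2 20 17992 49 = true := by decide +kernel
theorem v_c_c2_1_44 : ∀ k, 15836 ≤ k → k < 18041 → chk_c_c2 (k * 20) = true := between_extend chk_c_c2 20 15836 17992 49 (v_c_c2_1_43) r_c_c2_1_44

theorem r_c_c2_1_45 : allRange chk_c_c2 20 18041 49 = true := by decide +kernel
theorem v_c_c2_1_45 : ∀ k, 15836 ≤ k → k < 18090 → chk_c_c2 (k * 20) = true := between_extend chk_c_c2 20 15836 18041 49 (v_c_c2_1_44) r_c_c2_1_45

theorem r_c_c2_1_46 : allRange chk_c_c2 20 18090 49 = true := by decide +kernel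
theorem v_c_c2_1_46 : ∀ k, 15836 ≤ k → k < 18139 → chk_c_c2 (k * 20) = true := between_extend chk_c_c2 20 15836 18090 49 (v_c_c2_1_45) r_c_c2_1_46

theorem r_c_c2_1_47 : allRange chk_c_c2 20 18139 49 = true := by decide +kernel
theorem v_c_c2_1_47 : ∀ k, 15836 ≤ k → k < 18188 → chk_c_c2 (k * 20) = true := between_extend chk_c_c2 20 15836 18139 49 (v_c_c2_1_46) r_c_c2_1_47

theorem r_c_c2_1_48 : allRange chk_c_c2 20 18188 49 = true := by decide +kernel
theorem v_c_c2_1_48 : ∀ k, 15836 ≤ k → k < 18237 → chk_c_c2 (k * 20) = true := between_extend chk_c_c2 20 15836 18188 49 (v_c_c2_1_47) r_c_c2_1_48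

theorem r_c_c2_1_49 : allRange chk_c_c2 20 18237 49 = true := by decide +kernel
theorem v_c_c2_1_49 : ∀ k, 15836 ≤ k → k < 18286 → chk_c_c2 (k * 20) = true := between_extend chk_c_c2 20 15836 18237 49 (v_c_c2_1_48) r_c_c2_1_49

theorem r_c_c2_1_50 : allRange chk_c_c2 20 18286 49 = true := by decide +kernel
theorem v_c_c2_1_50 : ∀ k, 15836 ≤ k → k < 18335 → chk_c_c2 (k * 20) = true := between_extend chk_c_c2 20 15836 18286 49 (v_c_c2_1_49) r_c_c2_1_50

theorem r_c_c2_1_51 : allRange chk_c_c2 20 18335 49 = true := by decide +kernel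
theorem v_c_c2_1_51 : ∀ k, 15836 ≤ k → k < 18384 → chk_c_c2 (k * 20) = true := between_extend chk_c_c2 20 15836 18335 49 (v_c_c2_1_50) r_c_c2_1_51

theorem r_c_c2_1_52 : allRange chk_c_c2 20 18384 49 = true := by decide +kernel
theorem v_c_c2_1_52 : ∀ k, 15836 ≤ k → k < 18433 → chk_c_c2 (k * 20) = true := between_extend chk_c_c2 20 15836 18384 49 (v_c_c2_1_51) r_c_c2_1_52

theorem r_c_c2_1_53 : allRange chk_c_c2 20 18433 49 = true := by decide +kernel
theorem v_c_c2_1_53 : ∀ k, 15836 ≤ k → k < 18482 → chk_c_c2 (k * 20) = true := between_extend chk_c_c2 20 15836 18433 49 (v_c_c2_1_52) r_c_c2_1_53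

theorem r_c_c2_1_54 : allRange chk_c_c2 20 18482 49 = true := by decide +kernel
theorem v_c_c2_1_54 : ∀ k, 15836 ≤ k → k < 18531 → chk_c_c2 (k * 20) = true := between_extend chk_c_c2 20 15836 18482 49 (v_c_c2_1_53) r_c_c2_1_54

theorem r_c_c2_1_55 : allRange chk_c_c2 20 18531 49 = true := by decide +kernel
theorem v_c_c2_1_55 : ∀ k, 15836 ≤ k → k < 18580 → chk_c_c2 (k * 20) = true := between_extend chk_c_c2 20 15836 18531 49 (v_c_c2_1_54) r_c_c2_1_55

theorem r_c_c2_1_56 : allRange chk_c_c2 20 18580 49 = true := by decide +kernel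
theorem v_c_c2_1_56 : ∀ k, 15836 ≤ k → k < 18629 → chk_c_c2 (k * 20) = true := between_extend chk_c_c2 20 15836 18580 49 (v_c_c2_1_55) r_c_c2_1_56

theorem r_c_c2_1_57 : allRange chk_c_c2 20 18629 49 = true := by decide +kernel
theorem v_c_c2_1_57 : ∀ k, 15836 ≤ k → k < 18678 → chk_c_c2 (k * 20) = true := between_extend chk_c_c2 20 15836 18629 49 (v_c_c2_1_56) r_c_c2_1_57

theorem r_c_c2_1_58 : allRange chk_c_c2 20 18678 49 = true := by decide +kernel
theorem v_c_c2_1_58 : ∀ k, 15836 ≤ k → k < 18727 → chk_c_c2 (k * 20) = true := between_extend chk_c_c2 20 15836 18678 49 (v_c_c2_1_57) r_c_c2_1_58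

theorem r_c_c2_1_59 : allRange chk_c_c2 20 18727 49 = true := by decide +kernel
theorem v_c_c2_1_59 : ∀ k, 15836 ≤ k → k < 18776 → chk_c_c2 (k * 20) = true := between_extend chk_c_c2 20 15836 18727 49 (v_c_c2_1_58) r_c_c2_1_59

theorem r_c_c2_1_60 : allRange chk_c_c2 20 18776 49 = true := by decide +kernel
theorem v_c_c2_1_60 : ∀ k, 15836 ≤ k → k < 18825 → chk_c_c2 (k * 20) = true := between_extend chk_c_c2 20 15836 18776 49 (v_c_c2_1_59) r_c_c2_1_60

theorem r_c_c2_1_61 : allRange chk_c_c2 20 18825 49 = true := by decide +kernel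
theorem v_c_c2_1_61 : ∀ k, 15836 ≤ k → k < 18874 → chk_c_c2 (k * 20) = true := between_extend chk_c_c2 20 15836 18825 49 (v_c_c2_1_60) r_c_c2_1_61

theorem r_c_c2_1_62 : allRange chk_c_c2 20 18874 49 = true := by decide +kernel
theorem v_c_c2_1_62 : ∀ k, 15836 ≤ k → k < 18923 → chk_c_c2 (k * 20) = true := between_extend chk_c_c2 20 15836 18874 49 (v_c_c2_1_61) r_c_c2_1_62

theorem r_c_c2_1_63 : allRange chk_c_c2 20 18923 49 = true := by decide +kernel
theorem v_c_c2_1_63 : ∀ k, 15836 ≤ k → k < 18972 → chk_c_c2 (k * 20) = true := between_extend chk_c_c2 20 15836 18923 49 (v_c_c2_1_62) r_c_c2_1_63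

theorem r_c_c2_1_64 : allRange chk_c_c2 20 18972 49 = true := by decide +kernel
theorem v_c_c2_1_64 : ∀ k, 15836 ≤ k → k < 19021 → chk_c_c2 (k * 20) = true := between_extend chk_c_c2 20 15836 18972 49 (v_c_c2_1_63) r_c_c2_1_64

theorem r_c_c2_1_65 : allRange chk_c_c2 20 19021 49 = true := by decide +kernel
theorem v_c_c2_1_65 : ∀ k, 15836 ≤ k → k < 19070 → chk_c_c2 (k * 20) = true := between_extend chk_c_c2 20 15836 19021 49 (v_c_c2_1_64) r_c_c2_1_65

theorem r_c_c2_1_66 : allRange chk_c_c2 20 19070 49 = true := by decide +kernel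
theorem v_c_c2_1_66 : ∀ k, 15836 ≤ k → k < 19119 → chk_c_c2 (k * 20) = true := between_extend chk_c_c2 20 15836 19070 49 (v_c_c2_1_65) r_c_c2_1_66

theorem r_c_c2_1_67 : allRange chk_c_c2 20 19119 49 = true := by decide +kernel
theorem v_c_c2_1_67 : ∀ k, 15836 ≤ k → k < 19168 → chk_c_c2 (k * 20) = true := between_extend chk_c_c2 20 15836 19119 49 (v_c_c2_1_66) r_c_c2_1_67

theorem r_c_c2_1_68 : allRange chk_c_c2 20 19168 49 = true := by decide +kernel
theorem v_c_c2_1_68 : ∀ k, 15836 ≤ k → k < 19217 → chk_c_c2 (k * 20) = true := between_extend chk_c_c2 20 15836 19168 49 (v_c_c2_1_67) r_c_c2_1_68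

theorem r_c_c2_1_69 : allRange chk_c_c2 20 19217 49 = true := by decide +kernel
theorem v_c_c2_1_69 : ∀ k, 15836 ≤ k → k < 19266 → chk_c_c2 (k * 20) = true := between_extend chk_c_c2 20 15836 19217 49 (v_c_c2_1_68) r_c_c2_1_69

theorem r_c_c2_1_70 : allRange chk_c_c2 20 19266 49 = true := by decide +kernel
theorem v_c_c2_1_70 : ∀ k, 15836 ≤ k → k < 19315 → chk_c_c2 (k * 20) = true := between_extend chk_c_c2 20 15836 19266 49 (v_c_c2_1_69) r_c_c2_1_70

theorem r_c_c2_1_71 : allRange chk_c_c2 20 19315 49 = true := by decide +kernel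
theorem v_c_c2_1_71 : ∀ k, 15836 ≤ k → k < 19364 → chk_c_c2 (k * 20) = true := between_extend chk_c_c2 20 15836 19315 49 (v_c_c2_1_70) r_c_c2_1_71

theorem r_c_c2_1_72 : allRange chk_c_c2 20 19364 49 = true := by decide +kernel
theorem v_c_c2_1_72 : ∀ k, 15836 ≤ k → k < 19413 → chk_c_c2 (k * 20) = true := between_extend chk_c_c2 20 15836 19364 49 (v_c_c2_1_71) r_c_c2_1_72

theorem r_c_c2_1_73 : allRange chk_c_c2 20 19413 49 = true := by decide +kernel
theorem v_c_c2_1_73 : ∀ k, 15836 ≤ k → k < 19462 → chk_c_c2 (k * 20) = true := between_extend chk_c_c2 20 15836 19413 49 (v_c_c2_1_72) r_c_c2_1_73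

theorem r_c_c2_1_74 : allRange chk_c_c2 20 19462 49 = true := by decide +kernel
theorem v_c_c2_1_74 : ∀ k, 15836 ≤ k → k < 19511 → chk_c_c2 (k * 20) = true := between_extend chk_c_c2 20 15836 19462 49 (v_c_c2_1_73) r_c_c2_1_74

theorem r_c_c2_1_75 : allRange chk_c_c2 20 19511 49 = true := by decide +kernel
theorem v_c_c2_1_75 : ∀ k, 15836 ≤ k → k < 19560 → chk_c_c2 (k * 20) = true := between_extend chk_c_c2 20 15836 19511 49 (v_c_c2_1_74) r_c_c2_1_75

theorem r_c_c2_1_76 : allRange chk_c_c2 20 19560 49 = true := by decide +kernel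
theorem v_c_c2_1_76 : ∀ k, 15836 ≤ k → k < 19609 → chk_c_c2 (k * 20) = true := between_extend chk_c_c2 20 15836 19560 49 (v_c_c2_1_75) r_c_c2_1_76

theorem r_c_c2_1_77 : allRange chk_c_c2 20 19609 49 = true := by decide +kernel
theorem v_c_c2_1_77 : ∀ k, 15836 ≤ k → k < 19658 → chk_c_c2 (k * 20) = true := between_extend chk_c_c2 20 15836 19609 49 (v_c_c2_1_76) r_c_c2_1_77

theorem r_c_c2_1_78 : allRange chk_c_c2 20 19658 49 = true := by decide +kernel
theorem v_c_c2_1_78 : ∀ k, 15836 ≤ k → k < 19707 → chk_c_c2 (k * 20) = true := between_extend chk_c_c2 20 15836 19658 49 (v_c_c2_1_77) r_c_c2_1_78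

theorem r_c_c2_1_79 : allRange chk_c_c2 20 19707 49 = true := by decide +kernel
theorem v_c_c2_1_79 : ∀ k, 15836 ≤ k → k < 19756 → chk_c_c2 (k * 20) = true := between_extend chk_c_c2 20 15836 19707 49 (v_c_c2_1_78) r_c_c2_1_79

theorem r_c_c2_1_80 : allRange chk_c_c2 20 19756 49 = true := by decide +kernel
theorem v_c_c2_1_80 : ∀ k, 15836 ≤ k → k < 19805 → chk_c_c2 (k * 20) = true := between_extend chk_c_c2 20 15836 19756 49 (v_c_c2_1_79) r_c_c2_1_80

theorem r_c_c2_1_81 : allRange chk_c_c2 20 19805 49 = true := by decide +kernel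
theorem v_c_c2_1_81 : ∀ k, 15836 ≤ k → k < 19854 → chk_c_c2 (k * 20) = true := between_extend chk_c_c2 20 15836 19805 49 (v_c_c2_1_80) r_c_c2_1_81

theorem r_c_c2_1_82 : allRange chk_c_c2 20 19854 49 = true := by decide +kernel
theorem v_c_c2_1_82 : ∀ k, 15836 ≤ k → k < 19903 → chk_c_c2 (k * 20) = true := between_extend chk_c_c2 20 15836 19854 49 (v_c_c2_1_81) r_c_c2_1_82

theorem r_c_c2_1_83 : allRange chk_c_c2 20 19903 49 = true := by decide +kernel
theorem v_c_c2_1_83 : ∀ k, 15836 ≤ k → k < 19952 → chk_c_c2 (k * 20) = true := between_extend chk_c_c2 20 15836 19903 49 (v_c_c2_1_82) r_c_c2_1_83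

theorem r_c_c2_1_84 : allRange chk_c_c2 20 19952 49 = true := by decide +kernel
theorem v_c_c2_1_84 : ∀ k, 15836 ≤ k → k < 20001 → chk_c_c2 (k * 20) = true := between_extend chk_c_c2 20 15836 19952 49 (v_c_c2_1_83) r_c_c2_1_84

theorem r_c_c2_1_85 : allRange chk_c_c2 20 20001 49 = true := by decide +kernel
theorem v_c_c2_1_85 : ∀ k, 15836 ≤ k → k < 20050 → chk_c_c2 (k * 20) = true := between_extend chk_c_c2 20 15836 20001 49 (v_c_c2_1_84) r_c_c2_1_85

theorem r_c_c2_1_86 : allRange chk_c_c2 20 20050 49 = true := by decide +kernel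
theorem v_c_c2_1_86 : ∀ k, 15836 ≤ k → k < 20099 → chk_c_c2 (k * 20) = true := between_extend chk_c_c2 20 15836 20050 49 (v_c_c2_1_85) r_c_c2_1_86

theorem r_c_c2_1_87 : allRange chk_c_c2 20 20099 49 = true := by decide +kernel
theorem v_c_c2_1_87 : ∀ k, 15836 ≤ k → k < 20148 → chk_c_c2 (k * 20) = true := between_extend chk_c_c2 20 15836 20099 49 (v_c_c2_1_86) r_c_c2_1_87

theorem r_c_c2_1_88 : allRange chk_c_c2 20 20148 49 = true := by decide +kernel
theorem v_c_c2_1_88 : ∀ k, 15836 ≤ k → k < 20197 → chk_c_c2 (k * 20) = true := between_extend chk_c_c2 20 15836 20148 49 (v_c_c2_1_87) r_c_c2_1_88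

theorem r_c_c2_1_89 : allRange chk_c_c2 20 20197 49 = true := by decide +kernel
theorem v_c_c2_1_89 : ∀ k, 15836 ≤ k → k < 20246 → chk_c_c2 (k * 20) = true := between_extend chk_c_c2 20 15836 20197 49 (v_c_c2_1_88) r_c_c2_1_89

theorem r_c_c2_1_90 : allRange chk_c_c2 20 20246 49 = true := by decide +kernel
theorem v_c_c2_1_90 : ∀ k, 15836 ≤ k → k < 20295 → chk_c_c2 (k * 20) = true := between_extend chk_c_c2 20 15836 20246 49 (v_c_c2_1_89) r_c_c2_1_90

theorem r_c_c2_1_91 : allRange chk_c_c2 20 20295 49 = true := by decide +kernel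
theorem v_c_c2_1_91 : ∀ k, 15836 ≤ k → k < 20344 → chk_c_c2 (k * 20) = true := between_extend chk_c_c2 20 15836 20295 49 (v_c_c2_1_90) r_c_c2_1_91

theorem r_c_c2_1_92 : allRange chk_c_c2 20 20344 49 = true := by decide +kernel
theorem v_c_c2_1_92 : ∀ k, 15836 ≤ k → k < 20393 → chk_c_c2 (k * 20) = true := between_extend chk_c_c2 20 15836 20344 49 (v_c_c2_1_91) r_c_c2_1_92

theorem r_c_c2_1_93 : allRange chk_c_c2 20 20393 49 = true := by decide +kernel
theorem v_c_c2_1_93 : ∀ k, 15836 ≤ k → k < 20442 → chk_c_c2 (k * 20) = true := between_extend chk_c_c2 20 15836 20393 49 (v_c_c2_1_92) r_c_c2_1_93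

theorem r_c_c2_1_94 : allRange chk_c_c2 20 20442 49 = true := by decide +kernel
theorem v_c_c2_1_94 : ∀ k, 15836 ≤ k → k < 20491 → chk_c_c2 (k * 20) = true := between_extend chk_c_c2 20 15836 20442 49 (v_c_c2_1_93) r_c_c2_1_94

theorem r_c_c2_1_95 : allRange chk_c_c2 20 20491 49 = true := by decide +kernel
theorem v_c_c2_1_95 : ∀ k, 15836 ≤ k → k < 20540 → chk_c_c2 (k * 20) = true := between_extend chk_c_c2 20 15836 20491 49 (v_c_c2_1_94) r_c_c2_1_95

theorem r_c_c2_1_96 : allRange chk_c_c2 20 20540 49 = true := by decide +kernel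
theorem v_c_c2_1_96 : ∀ k, 15836 ≤ k → k < 20589 → chk_c_c2 (k * 20) = true := between_extend chk_c_c2 20 15836 20540 49 (v_c_c2_1_95) r_c_c2_1_96

theorem r_c_c2_1_97 : allRange chk_c_c2 20 20589 49 = true := by decide +kernel
theorem v_c_c2_1_97 : ∀ k, 15836 ≤ k → k < 20638 → chk_c_c2 (k * 20) = true := between_extend chk_c_c2 20 15836 20589 49 (v_c_c2_1_96) r_c_c2_1_97

theorem r_c_c2_1_98 : allRange chk_c_c2 20 20638 49 = true := by decide +kernel
theorem v_c_c2_1_98 : ∀ k, 15836 ≤ k → k < 20687 → chk_c_c2 (k * 20) = true := between_extend chk_c_c2 20 15836 20638 49 (v_c_c2_1_97) r_c_c2_1_98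

theorem r_c_c2_1_99 : allRange chk_c_c2 20 20687 49 = true := by decide +kernel
theorem v_c_c2_1_99 : ∀ k, 15836 ≤ k → k < 20736 → chk_c_c2 (k * 20) = true := between_extend chk_c_c2 20 15836 20687 49 (v_c_c2_1_98) r_c_c2_1_99

theorem r_c_c2_1_100 : allRange chk_c_c2 20 20736 49 = true := by decide +kernel
theorem v_c_c2_1_100 : ∀ k, 15836 ≤ k → k < 20785 → chk_c_c2 (k * 20) = true := between_extend chk_c_c2 20 15836 20736 49 (v_c_c2_1_99) r_c_c2_1_100

theorem r_c_c2_1_101 : allRange chk_c_c2 20 20785 49 = true := by decide +kernel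
theorem v_c_c2_1_101 : ∀ k, 15836 ≤ k → k < 20834 → chk_c_c2 (k * 20) = true := between_extend chk_c_c2 20 15836 20785 49 (v_c_c2_1_100) r_c_c2_1_101

theorem r_c_c2_1_102 : allRange chk_c_c2 20 20834 49 = true := by decide +kernel
theorem v_c_c2_1_102 : ∀ k, 15836 ≤ k → k < 20883 → chk_c_c2 (k * 20) = true := between_extend chk_c_c2 20 15836 20834 49 (v_c_c2_1_101) r_c_c2_1_102

theorem r_c_c2_1_103 : allRange chk_c_c2 20 20883 49 = true := by decide +kernel
theorem v_c_c2_1_103 : ∀ k, 15836 ≤ k → k < 20932 → chk_c_c2 (k * 20) = true := between_extend chk_c_c2 20 15836 20883 49 (v_c_c2_1_102) r_c_c2_1_103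

theorem r_c_c2_1_104 : allRange chk_c_c2 20 20932 49 = true := by decide +kernel
theorem v_c_c2_1_104 : ∀ k, 15836 ≤ k → k < 20981 → chk_c_c2 (k * 20) = true := between_extend chk_c_c2 20 15836 20932 49 (v_c_c2_1_103) r_c_c2_1_104

theorem r_c_c2_1_105 : allRange chk_c_c2 20 20981 49 = true := by decide +kernel
theorem v_c_c2_1_105 : ∀ k, 15836 ≤ k → k < 21030 → chk_c_c2 (k * 20) = true := between_extend chk_c_c2 20 15836 20981 49 (v_c_c2_1_104) r_c_c2_1_105

theorem r_c_c2_1_106 : allRange chk_c_c2 20 21030 49 = true := by decide +kernel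
theorem v_c_c2_1_106 : ∀ k, 15836 ≤ k → k < 21079 → chk_c_c2 (k * 20) = true := between_extend chk_c_c2 20 15836 21030 49 (v_c_c2_1_105) r_c_c2_1_106

theorem r_c_c2_1_107 : allRange chk_c_c2 20 21079 49 = true := by decide +kernel
theorem v_c_c2_1_107 : ∀ k, 15836 ≤ k → k < 21128 → chk_c_c2 (k * 20) = true := between_extend chk_c_c2 20 15836 21079 49 (v_c_c2_1_106) r_c_c2_1_107

theorem r_c_c2_1_108 : allRange chk_c_c2 20 21128 49 = true := by decide +kernel
theorem v_c_c2_1_108 : ∀ k, 15836 ≤ k → k < 21177 → chk_c_c2 (k * 20) = true := between_extend chk_c_c2 20 15836 21128 49 (v_c_c2_1_107) r_c_c2_1_108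

theorem r_c_c2_1_109 : allRange chk_c_c2 20 21177 49 = true := by decide +kernel
theorem v_c_c2_1_109 : ∀ k, 15836 ≤ k → k < 21226 → chk_c_c2 (k * 20) = true := between_extend chk_c_c2 20 15836 21177 49 (v_c_c2_1_108) r_c_c2_1_109

theorem r_c_c2_1_110 : allRange chk_c_c2 20 21226 49 = true := by decide +kernel
theorem v_c_c2_1_110 : ∀ k, 15836 ≤ k → k < 21275 → chk_c_c2 (k * 20) = true := between_extend chk_c_c2 20 15836 21226 49 (v_c_c2_1_109) r_c_c2_1_110

theorem r_c_c2_1_111 : allRange chk_c_c2 20 21275 49 = true := by decide +kernel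
theorem v_c_c2_1_111 : ∀ k, 15836 ≤ k → k < 21324 → chk_c_c2 (k * 20) = true := between_extend chk_c_c2 20 15836 21275 49 (v_c_c2_1_110) r_c_c2_1_111

theorem r_c_c2_1_112 : allRange chk_c_c2 20 21324 49 = true := by decide +kernel
theorem v_c_c2_1_112 : ∀ k, 15836 ≤ k → k < 21373 → chk_c_c2 (k * 20) = true := between_extend chk_c_c2 20 15836 21324 49 (v_c_c2_1_111) r_c_c2_1_112

theorem r_c_c2_1_113 : allRange chk_c_c2 20 21373 49 = true := by decide +kernel
theorem v_c_c2_1_113 : ∀ k, 15836 ≤ k → k < 21422 → chk_c_c2 (k * 20) = true := between_extend chk_c_c2 20 15836 21373 49 (v_c_c2_1_112) r_c_c2_1_113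

theorem r_c_c2_1_114 : allRange chk_c_c2 20 21422 49 = true := by decide +kernel
theorem v_c_c2_1_114 : ∀ k, 15836 ≤ k → k < 21471 → chk_c_c2 (k * 20) = true := between_extend chk_c_c2 20 15836 21422 49 (v_c_c2_1_113) r_c_c2_1_114

theorem r_c_c2_1_115 : allRange chk_c_c2 20 21471 49 = true := by decide +kernel
theorem v_c_c2_1_115 : ∀ k, 15836 ≤ k → k < 21520 → chk_c_c2 (k * 20) = true := between_extend chk_c_c2 20 15836 21471 49 (v_c_c2_1_114) r_c_c2_1_115

theorem r_c_c2_1_116 : allRange chk_c_c2 20 21520 49 = true := by decide +kernel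
theorem v_c_c2_1_116 : ∀ k, 15836 ≤ k → k < 21569 → chk_c_c2 (k * 20) = true := between_extend chk_c_c2 20 15836 21520 49 (v_c_c2_1_115) r_c_c2_1_116

theorem r_c_c2_1_117 : allRange chk_c_c2 20 21569 49 = true := by decide +kernel
theorem v_c_c2_1_117 : ∀ k, 15836 ≤ k → k < 21618 → chk_c_c2 (k * 20) = true := between_extend chk_c_c2 20 15836 21569 49 (v_c_c2_1_116) r_c_c2_1_117

theorem r_c_c2_1_118 : allRange chk_c_c2 20 21618 49 = true := by decide +kernel
theorem v_c_c2_1_118 : ∀ k, 15836 ≤ k → k < 21667 → chk_c_c2 (k * 20) = true := between_extend chk_c_c2 20 15836 21618 49 (v_c_c2_1_117) r_c_c2_1_118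

theorem r_c_c2_1_119 : allRange chk_c_c2 20 21667 49 = true := by decide +kernel
theorem v_c_c2_1_119 : ∀ k, 15836 ≤ k → k < 21716 → chk_c_c2 (k * 20) = true := between_extend chk_c_c2 20 15836 21667 49 (v_c_c2_1_118) r_c_c2_1_119

theorem r_c_c2_1_120 : allRange chk_c_c2 20 21716 49 = true := by decide +kernel
theorem v_c_c2_1_120 : ∀ k, 15836 ≤ k → k < 21765 → chk_c_c2 (k * 20) = true := between_extend chk_c_c2 20 15836 21716 49 (v_c_c2_1_119) r_c_c2_1_120

theorem r_c_c2_1_121 : allRange chk_c_c2 20 21765 49 = true := by decide +kernel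
theorem v_c_c2_1_121 : ∀ k, 15836 ≤ k → k < 21814 → chk_c_c2 (k * 20) = true := between_extend chk_c_c2 20 15836 21765 49 (v_c_c2_1_120) r_c_c2_1_121

theorem r_c_c2_1_122 : allRange chk_c_c2 20 21814 49 = true := by decide +kernel
theorem v_c_c2_1_122 : ∀ k, 15836 ≤ k → k < 21863 → chk_c_c2 (k * 20) = true := between_extend chk_c_c2 20 15836 21814 49 (v_c_c2_1_121) r_c_c2_1_122

theorem r_c_c2_1_123 : allRange chk_c_c2 20 21863 49 = true := by decide +kernel
theorem v_c_c2_1_123 : ∀ k, 15836 ≤ k → k < 21912 → chk_c_c2 (k * 20) = true := between_extend chk_c_c2 20 15836 21863 49 (v_c_c2_1_122) r_c_c2_1_123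

theorem r_c_c2_1_124 : allRange chk_c_c2 20 21912 49 = true := by decide +kernel
theorem v_c_c2_1_124 : ∀ k, 15836 ≤ k → k < 21961 → chk_c_c2 (k * 20) = true := between_extend chk_c_c2 20 15836 21912 49 (v_c_c2_1_123) r_c_c2_1_124

theorem r_c_c2_1_125 : allRange chk_c_c2 20 21961 49 = true := by decide +kernel
theorem v_c_c2_1_125 : ∀ k, 15836 ≤ k → k < 22010 → chk_c_c2 (k * 20) = true := between_extend chk_c_c2 20 15836 21961 49 (v_c_c2_1_124) r_c_c2_1_125

theorem r_c_c2_1_126 : allRange chk_c_c2 20 22010 49 = true := by decide +kernel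
theorem v_c_c2_1_126 : ∀ k, 15836 ≤ k → k < 22059 → chk_c_c2 (k * 20) = true := between_extend chk_c_c2 20 15836 22010 49 (v_c_c2_1_125) r_c_c2_1_126

theorem r_c_c2_1_127 : allRange chk_c_c2 20 22059 49 = true := by decide +kernel
theorem v_c_c2_1_127 : ∀ k, 15836 ≤ k → k < 22108 → chk_c_c2 (k * 20) = true := between_extend chk_c_c2 20 15836 22059 49 (v_c_c2_1_126) r_c_c2_1_127

theorem r_c_c2_1_128 : allRange chk_c_c2 20 22108 49 = true := by decide +kernel
theorem v_c_c2_1_128 : ∀ k, 15836 ≤ k → k < 22157 → chk_c_c2 (k * 20) = true := between_extend chk_c_c2 20 15836 22108 49 (v_c_c2_1_127) r_c_c2_1_128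

theorem r_c_c2_1_129 : allRange chk_c_c2 20 22157 49 = true := by decide +kernel
theorem v_c_c2_1_129 : ∀ k, 15836 ≤ k → k < 22206 → chk_c_c2 (k * 20) = true := between_extend chk_c_c2 20 15836 22157 49 (v_c_c2_1_128) r_c_c2_1_129

theorem r_c_c2_1_130 : allRange chk_c_c2 20 22206 49 = true := by decide +kernel
theorem v_c_c2_1_130 : ∀ k, 15836 ≤ k → k < 22255 → chk_c_c2 (k * 20) = true := between_extend chk_c_c2 20 15836 22206 49 (v_c_c2_1_129) r_c_c2_1_130

theorem r_c_c2_1_131 : allRange chk_c_c2 20 22255 49 = true := by decide +kernel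
theorem v_c_c2_1_131 : ∀ k, 15836 ≤ k → k < 22304 → chk_c_c2 (k * 20) = true := between_extend chk_c_c2 20 15836 22255 49 (v_c_c2_1_130) r_c_c2_1_131

theorem r_c_c2_1_132 : allRange chk_c_c2 20 22304 49 = true := by decide +kernel
theorem v_c_c2_1_132 : ∀ k, 15836 ≤ k → k < 22353 → chk_c_c2 (k * 20) = true := between_extend chk_c_c2 20 15836 22304 49 (v_c_c2_1_131) r_c_c2_1_132

theorem r_c_c2_1_133 : allRange chk_c_c2 20 22353 49 = true := by decide +kernel
theorem v_c_c2_1_133 : ∀ k, 15836 ≤ k → k < 22402 → chk_c_c2 (k * 20) = true := between_extend chk_c_c2 20 15836 22353 49 (v_c_c2_1_132) r_c_c2_1_133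

theorem r_c_c2_1_134 : allRange chk_c_c2 20 22402 49 = true := by decide +kernel
theorem v_c_c2_1_134 : ∀ k, 15836 ≤ k → k < 22451 → chk_c_c2 (k * 20) = true := between_extend chk_c_c2 20 15836 22402 49 (v_c_c2_1_133) r_c_c2_1_134

theorem r_c_c2_1_135 : allRange chk_c_c2 20 22451 49 = true := by decide +kernel
theorem v_c_c2_1_135 : ∀ k, 15836 ≤ k → k < 22500 → chk_c_c2 (k * 20) = true := between_extend chk_c_c2 20 15836 22451 49 (v_c_c2_1_134) r_c_c2_1_135

theorem r_c_c2_1_136 : allRange chk_c_c2 20 22500 49 = true := by decide +kernel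
theorem v_c_c2_1_136 : ∀ k, 15836 ≤ k → k < 22549 → chk_c_c2 (k * 20) = true := between_extend chk_c_c2 20 15836 22500 49 (v_c_c2_1_135) r_c_c2_1_136

theorem r_c_c2_1_137 : allRange chk_c_c2 20 22549 49 = true := by decide +kernel
theorem v_c_c2_1_137 : ∀ k, 15836 ≤ k → k < 22598 → chk_c_c2 (k * 20) = true := between_extend chk_c_c2 20 15836 22549 49 (v_c_c2_1_136) r_c_c2_1_137

theorem r_c_c2_1_138 : allRange chk_c_c2 20 22598 49 = true := by decide +kernel
theorem v_c_c2_1_138 : ∀ k, 15836 ≤ k → k < 22647 → chk_c_c2 (k * 20) = true := between_extend chk_c_c2 20 15836 22598 49 (v_c_c2_1_137) r_c_c2_1_138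

theorem r_c_c2_1_139 : allRange chk_c_c2 20 22647 49 = true := by decide +kernel
theorem v_c_c2_1_139 : ∀ k, 15836 ≤ k → k < 22696 → chk_c_c2 (k * 20) = true := between_extend chk_c_c2 20 15836 22647 49 (v_c_c2_1_138) r_c_c2_1_139

theorem r_c_c2_1_140 : allRange chk_c_c2 20 22696 49 = true := by decide +kernel
theorem v_c_c2_1_140 : ∀ k, 15836 ≤ k → k < 22745 → chk_c_c2 (k * 20) = true := between_extend chk_c_c2 20 15836 22696 49 (v_c_c2_1_139) r_c_c2_1_140

theorem r_c_c2_1_141 : allRange chk_c_c2 20 22745 49 = true := by decide +kernel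
theorem v_c_c2_1_141 : ∀ k, 15836 ≤ k → k < 22794 → chk_c_c2 (k * 20) = true := between_extend chk_c_c2 20 15836 22745 49 (v_c_c2_1_140) r_c_c2_1_141

theorem r_c_c2_1_142 : allRange chk_c_c2 20 22794 49 = true := by decide +kernel
theorem v_c_c2_1_142 : ∀ k, 15836 ≤ k → k < 22843 → chk_c_c2 (k * 20) = true := between_extend chk_c_c2 20 15836 22794 49 (v_c_c2_1_141) r_c_c2_1_142

theorem r_c_c2_1_143 : allRange chk_c_c2 20 22843 49 = true := by decide +kernel
theorem v_c_c2_1_143 : ∀ k, 15836 ≤ k → k < 22892 → chk_c_c2 (k * 20) = true := between_extend chk_c_c2 20 15836 22843 49 (v_c_c2_1_142) r_c_c2_1_143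

theorem r_c_c2_1_144 : allRange chk_c_c2 20 22892 49 = true := by decide +kernel
theorem v_c_c2_1_144 : ∀ k, 15836 ≤ k → k < 22941 → chk_c_c2 (k * 20) = true := between_extend chk_c_c2 20 15836 22892 49 (v_c_c2_1_143) r_c_c2_1_144

theorem r_c_c2_1_145 : allRange chk_c_c2 20 22941 49 = true := by decide +kernel
theorem v_c_c2_1_145 : ∀ k, 15836 ≤ k → k < 22990 → chk_c_c2 (k * 20) = true := between_extend chk_c_c2 20 15836 22941 49 (v_c_c2_1_144) r_c_c2_1_145

theorem r_c_c2_1_146 : allRange chk_c_c2 20 22990 49 = true := by decide +kernel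
theorem v_c_c2_1_146 : ∀ k, 15836 ≤ k → k < 23039 → chk_c_c2 (k * 20) = true := between_extend chk_c_c2 20 15836 22990 49 (v_c_c2_1_145) r_c_c2_1_146

theorem r_c_c2_1_147 : allRange chk_c_c2 20 23039 49 = true := by decide +kernel
theorem v_c_c2_1_147 : ∀ k, 15836 ≤ k → k < 23088 → chk_c_c2 (k * 20) = true := between_extend chk_c_c2 20 15836 23039 49 (v_c_c2_1_146) r_c_c2_1_147

theorem r_c_c2_1_148 : allRange chk_c_c2 20 23088 49 = true := by decide +kernel
theorem v_c_c2_1_148 : ∀ k, 15836 ≤ k → k < 23137 → chk_c_c2 (k * 20) = true := between_extend chk_c_c2 20 15836 23088 49 (v_c_c2_1_147) r_c_c2_1_148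

theorem r_c_c2_1_149 : allRange chk_c_c2 20 23137 49 = true := by decide +kernel
theorem v_c_c2_1_149 : ∀ k, 15836 ≤ k → k < 23186 → chk_c_c2 (k * 20) = true := between_extend chk_c_c2 20 15836 23137 49 (v_c_c2_1_148) r_c_c2_1_149

theorem r_c_c2_1_150 : allRange chk_c_c2 20 23186 49 = true := by decide +kernel
theorem v_c_c2_1_150 : ∀ k, 15836 ≤ k → k < 23235 → chk_c_c2 (k * 20) = true := between_extend chk_c_c2 20 15836 23186 49 (v_c_c2_1_149) r_c_c2_1_150

theorem r_c_c2_1_151 : allRange chk_c_c2 20 23235 49 = true := by decide +kernel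
theorem v_c_c2_1_151 : ∀ k, 15836 ≤ k → k < 23284 → chk_c_c2 (k * 20) = true := between_extend chk_c_c2 20 15836 23235 49 (v_c_c2_1_150) r_c_c2_1_151

theorem r_c_c2_1_152 : allRange chk_c_c2 20 23284 49 = true := by decide +kernel
theorem v_c_c2_1_152 : ∀ k, 15836 ≤ k → k < 23333 → chk_c_c2 (k * 20) = true := between_extend chk_c_c2 20 15836 23284 49 (v_c_c2_1_151) r_c_c2_1_152

theorem r_c_c2_1_153 : allRange chk_c_c2 20 23333 49 = true := by decide +kernel
theorem v_c_c2_1_153 : ∀ k, 15836 ≤ k → k < 23382 → chk_c_c2 (k * 20) = true := between_extend chk_c_c2 20 15836 23333 49 (v_c_c2_1_152) r_c_c2_1_153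

theorem r_c_c2_1_154 : allRange chk_c_c2 20 23382 49 = true := by decide +kernel
theorem v_c_c2_1_154 : ∀ k, 15836 ≤ k → k < 23431 → chk_c_c2 (k * 20) = true := between_extend chk_c_c2 20 15836 23382 49 (v_c_c2_1_153) r_c_c2_1_154

theorem r_c_c2_1_155 : allRange chk_c_c2 20 23431 49 = true := by decide +kernel
theorem v_c_c2_1_155 : ∀ k, 15836 ≤ k → k < 23480 → chk_c_c2 (k * 20) = true := between_extend chk_c_c2 20 15836 23431 49 (v_c_c2_1_154) r_c_c2_1_155

theorem r_c_c2_1_156 : allRange chk_c_c2 20 23480 49 = true := by decide +kernel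
theorem v_c_c2_1_156 : ∀ k, 15836 ≤ k → k < 23529 → chk_c_c2 (k * 20) = true := between_extend chk_c_c2 20 15836 23480 49 (v_c_c2_1_155) r_c_c2_1_156

theorem r_c_c2_1_157 : allRange chk_c_c2 20 23529 49 = true := by decide +kernel
theorem v_c_c2_1_157 : ∀ k, 15836 ≤ k → k < 23578 → chk_c_c2 (k * 20) = true := between_extend chk_c_c2 20 15836 23529 49 (v_c_c2_1_156) r_c_c2_1_157

theorem r_c_c2_1_158 : allRange chk_c_c2 20 23578 49 = true := by decide +kernel
theorem v_c_c2_1_158 : ∀ k, 15836 ≤ k → k < 23627 → chk_c_c2 (k * 20) = true := between_extend chk_c_c2 20 15836 23578 49 (v_c_c2_1_157) r_c_c2_1_158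

theorem r_c_c2_1_159 : allRange chk_c_c2 20 23627 49 = true := by decide +kernel
theorem v_c_c2_1_159 : ∀ k, 15836 ≤ k → k < 23676 → chk_c_c2 (k * 20) = true := between_extend chk_c_c2 20 15836 23627 49 (v_c_c2_1_158) r_c_c2_1_159

theorem r_c_c2_1_160 : allRange chk_c_c2 20 23676 49 = true := by decide +kernel
theorem v_c_c2_1_160 : ∀ k, 15836 ≤ k → k < 23725 → chk_c_c2 (k * 20) = true := between_extend chk_c_c2 20 15836 23676 49 (v_c_c2_1_159) r_c_c2_1_160

theorem r_c_c2_1_161 : allRange chk_c_c2 20 23725 49 = true := by decide +kernel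
theorem v_c_c2_1_161 : ∀ k, 15836 ≤ k → k < 23774 → chk_c_c2 (k * 20) = true := between_extend chk_c_c2 20 15836 23725 49 (v_c_c2_1_160) r_c_c2_1_161

theorem r_c_c2_1_162 : allRange chk_c_c2 20 23774 49 = true := by decide +kernel
theorem v_c_c2_1_162 : ∀ k, 15836 ≤ k → k < 23823 → chk_c_c2 (k * 20) = true := between_extend chk_c_c2 20 15836 23774 49 (v_c_c2_1_161) r_c_c2_1_162

theorem r_c_c2_1_163 : allRange chk_c_c2 20 23823 49 = true := by decide +kernel
theorem v_c_c2_1_163 : ∀ k, 15836 ≤ k → k < 23872 → chk_c_c2 (k * 20) = true := between_extend chk_c_c2 20 15836 23823 49 (v_c_c2_1_162) r_c_c2_1_163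

theorem r_c_c2_1_164 : allRange chk_c_c2 20 23872 49 = true := by decide +kernel
theorem v_c_c2_1_164 : ∀ k, 15836 ≤ k → k < 23921 → chk_c_c2 (k * 20) = true := between_extend chk_c_c2 20 15836 23872 49 (v_c_c2_1_163) r_c_c2_1_164

theorem r_c_c2_1_165 : allRange chk_c_c2 20 23921 49 = true := by decide +kernel
theorem v_c_c2_1_165 : ∀ k, 15836 ≤ k → k < 23970 → chk_c_c2 (k * 20) = true := between_extend chk_c_c2 20 15836 23921 49 (v_c_c2_1_164) r_c_c2_1_165

theorem r_c_c2_1_166 : allRange chk_c_c2 20 23970 49 = true := by decide +kernel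
theorem v_c_c2_1_166 : ∀ k, 15836 ≤ k → k < 24019 → chk_c_c2 (k * 20) = true := between_extend chk_c_c2 20 15836 23970 49 (v_c_c2_1_165) r_c_c2_1_166

theorem r_c_c2_1_167 : allRange chk_c_c2 20 24019 49 = true := by decide +kernel
theorem v_c_c2_1_167 : ∀ k, 15836 ≤ k → k < 24068 → chk_c_c2 (k * 20) = true := between_extend chk_c_c2 20 15836 24019 49 (v_c_c2_1_166) r_c_c2_1_167

theorem r_c_c2_1_168 : allRange chk_c_c2 20 24068 49 = true := by decide +kernel
theorem v_c_c2_1_168 : ∀ k, 15836 ≤ k → k < 24117 → chk_c_c2 (k * 20) = true := between_extend chk_c_c2 20 15836 24068 49 (v_c_c2_1_167) r_c_c2_1_168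

theorem r_c_c2_1_169 : allRange chk_c_c2 20 24117 49 = true := by decide +kernel
theorem v_c_c2_1_169 : ∀ k, 15836 ≤ k → k < 24166 → chk_c_c2 (k * 20) = true := between_extend chk_c_c2 20 15836 24117 49 (v_c_c2_1_168) r_c_c2_1_169

theorem r_c_c2_1_170 : allRange chk_c_c2 20 24166 49 = true := by decide +kernel
theorem v_c_c2_1_170 : ∀ k, 15836 ≤ k → k < 24215 → chk_c_c2 (k * 20) = true := between_extend chk_c_c2 20 15836 24166 49 (v_c_c2_1_169) r_c_c2_1_170

theorem r_c_c2_1_171 : allRange chk_c_c2 20 24215 49 = true := by decide +kernel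
theorem v_c_c2_1_171 : ∀ k, 15836 ≤ k → k < 24264 → chk_c_c2 (k * 20) = true := between_extend chk_c_c2 20 15836 24215 49 (v_c_c2_1_170) r_c_c2_1_171

theorem r_c_c2_1_172 : allRange chk_c_c2 20 24264 49 = true := by decide +kernel
theorem v_c_c2_1_172 : ∀ k, 15836 ≤ k → k < 24313 → chk_c_c2 (k * 20) = true := between_extend chk_c_c2 20 15836 24264 49 (v_c_c2_1_171) r_c_c2_1_172

theorem r_c_c2_1_173 : allRange chk_c_c2 20 24313 49 = true := by decide +kernel
theorem v_c_c2_1_173 : ∀ k, 15836 ≤ k → k < 24362 → chk_c_c2 (k * 20) = true := between_extend chk_c_c2 20 15836 24313 49 (v_c_c2_1_172) r_c_c2_1_173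

theorem r_c_c2_1_174 : allRange chk_c_c2 20 24362 49 = true := by decide +kernel
theorem v_c_c2_1_174 : ∀ k, 15836 ≤ k → k < 24411 → chk_c_c2 (k * 20) = true := between_extend chk_c_c2 20 15836 24362 49 (v_c_c2_1_173) r_c_c2_1_174

theorem r_c_c2_1_175 : allRange chk_c_c2 20 24411 49 = true := by decide +kernel
theorem v_c_c2_1_175 : ∀ k, 15836 ≤ k → k < 24460 → chk_c_c2 (k * 20) = true := between_extend chk_c_c2 20 15836 24411 49 (v_c_c2_1_174) r_c_c2_1_175

theorem r_c_c2_1_176 : allRange chk_c_c2 20 24460 49 = true := by decide +kernel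
theorem v_c_c2_1_176 : ∀ k, 15836 ≤ k → k < 24509 → chk_c_c2 (k * 20) = true := between_extend chk_c_c2 20 15836 24460 49 (v_c_c2_1_175) r_c_c2_1_176

theorem r_c_c2_1_177 : allRange chk_c_c2 20 24509 49 = true := by decide +kernel
theorem v_c_c2_1_177 : ∀ k, 15836 ≤ k → k < 24558 → chk_c_c2 (k * 20) = true := between_extend chk_c_c2 20 15836 24509 49 (v_c_c2_1_176) r_c_c2_1_177

theorem r_c_c2_1_178 : allRange chk_c_c2 20 24558 49 = true := by decide +kernel
theorem v_c_c2_1_178 : ∀ k, 15836 ≤ k → k < 24607 → chk_c_c2 (k * 20) = true := between_extend chk_c_c2 20 15836 24558 49 (v_c_c2_1_177) r_c_c2_1_178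

theorem r_c_c2_1_179 : allRange chk_c_c2 20 24607 49 = true := by decide +kernel
theorem v_c_c2_1_179 : ∀ k, 15836 ≤ k → k < 24656 → chk_c_c2 (k * 20) = true := between_extend chk_c_c2 20 15836 24607 49 (v_c_c2_1_178) r_c_c2_1_179

theorem r_c_c2_1_180 : allRange chk_c_c2 20 24656 49 = true := by decide +kernel
theorem v_c_c2_1_180 : ∀ k, 15836 ≤ k → k < 24705 → chk_c_c2 (k * 20) = true := between_extend chk_c_c2 20 15836 24656 49 (v_c_c2_1_179) r_c_c2_1_180

theorem r_c_c2_1_181 : allRange chk_c_c2 20 24705 49 = true := by decide +kernel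
theorem v_c_c2_1_181 : ∀ k, 15836 ≤ k → k < 24754 → chk_c_c2 (k * 20) = true := between_extend chk_c_c2 20 15836 24705 49 (v_c_c2_1_180) r_c_c2_1_181

theorem r_c_c2_1_182 : allRange chk_c_c2 20 24754 49 = true := by decide +kernel
theorem v_c_c2_1_182 : ∀ k, 15836 ≤ k → k < 24803 → chk_c_c2 (k * 20) = true := between_extend chk_c_c2 20 15836 24754 49 (v_c_c2_1_181) r_c_c2_1_182

theorem r_c_c2_1_183 : allRange chk_c_c2 20 24803 49 = true := by decide +kernel
theorem v_c_c2_1_183 : ∀ k, 15836 ≤ k → k < 24852 → chk_c_c2 (k * 20) = true := between_extend chk_c_c2 20 15836 24803 49 (v_c_c2_1_182) r_c_c2_1_183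

theorem r_c_c2_1_184 : allRange chk_c_c2 20 24852 49 = true := by decide +kernel
theorem v_c_c2_1_184 : ∀ k, 15836 ≤ k → k < 24901 → chk_c_c2 (k * 20) = true := between_extend chk_c_c2 20 15836 24852 49 (v_c_c2_1_183) r_c_c2_1_184

theorem r_c_c2_1_185 : allRange chk_c_c2 20 24901 49 = true := by decide +kernel
theorem v_c_c2_1_185 : ∀ k, 15836 ≤ k → k < 24950 → chk_c_c2 (k * 20) = true := between_extend chk_c_c2 20 15836 24901 49 (v_c_c2_1_184) r_c_c2_1_185

theorem r_c_c2_1_186 : allRange chk_c_c2 20 24950 49 = true := by decide +kernel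
theorem v_c_c2_1_186 : ∀ k, 15836 ≤ k → k < 24999 → chk_c_c2 (k * 20) = true := between_extend chk_c_c2 20 15836 24950 49 (v_c_c2_1_185) r_c_c2_1_186

theorem r_c_c2_1_187 : allRange chk_c_c2 20 24999 49 = true := by decide +kernel
theorem v_c_c2_1_187 : ∀ k, 15836 ≤ k → k < 25048 → chk_c_c2 (k * 20) = true := between_extend chk_c_c2 20 15836 24999 49 (v_c_c2_1_186) r_c_c2_1_187

theorem r_c_c2_1_188 : allRange chk_c_c2 20 25048 49 = true := by decide +kernel
theorem v_c_c2_1_188 : ∀ k, 15836 ≤ k → k < 25097 → chk_c_c2 (k * 20) = true := between_extend chk_c_c2 20 15836 25048 49 (v_c_c2_1_187) r_c_c2_1_188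

theorem r_c_c2_1_189 : allRange chk_c_c2 20 25097 49 = true := by decide +kernel
theorem v_c_c2_1_189 : ∀ k, 15836 ≤ k → k < 25146 → chk_c_c2 (k * 20) = true := between_extend chk_c_c2 20 15836 25097 49 (v_c_c2_1_188) r_c_c2_1_189

theorem r_c_c2_1_190 : allRange chk_c_c2 20 25146 49 = true := by decide +kernel
theorem v_c_c2_1_190 : ∀ k, 15836 ≤ k → k < 25195 → chk_c_c2 (k * 20) = true := between_extend chk_c_c2 20 15836 25146 49 (v_c_c2_1_189) r_c_c2_1_190

theorem r_c_c2_1_191 : allRange chk_c_c2 20 25195 49 = true := by decide +kernel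
theorem v_c_c2_1_191 : ∀ k, 15836 ≤ k → k < 25244 → chk_c_c2 (k * 20) = true := between_extend chk_c_c2 20 15836 25195 49 (v_c_c2_1_190) r_c_c2_1_191

theorem r_c_c2_1_192 : allRange chk_c_c2 20 25244 49 = true := by decide +kernel
theorem v_c_c2_1_192 : ∀ k, 15836 ≤ k → k < 25293 → chk_c_c2 (k * 20) = true := between_extend chk_c_c2 20 15836 25244 49 (v_c_c2_1_191) r_c_c2_1_192

theorem r_c_c2_1_193 : allRange chk_c_c2 20 25293 49 = true := by decide +kernel
theorem v_c_c2_1_193 : ∀ k, 15836 ≤ k → k < 25342 → chk_c_c2 (k * 20) = true := between_extend chk_c_c2 20 15836 25293 49 (v_c_c2_1_192) r_c_c2_1_193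

theorem r_c_c2_1_194 : allRange chk_c_c2 20 25342 49 = true := by decide +kernel
theorem v_c_c2_1_194 : ∀ k, 15836 ≤ k → k < 25391 → chk_c_c2 (k * 20) = true := between_extend chk_c_c2 20 15836 25342 49 (v_c_c2_1_193) r_c_c2_1_194

theorem r_c_c2_1_195 : allRange chk_c_c2 20 25391 49 = true := by decide +kernel
theorem v_c_c2_1_195 : ∀ k, 15836 ≤ k → k < 25440 → chk_c_c2 (k * 20) = true := between_extend chk_c_c2 20 15836 25391 49 (v_c_c2_1_194) r_c_c2_1_195

theorem r_c_c2_1_196 : allRange chk_c_c2 20 25440 49 = true := by decide +kernel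
theorem v_c_c2_1_196 : ∀ k, 15836 ≤ k → k < 25489 → chk_c_c2 (k * 20) = true := between_extend chk_c_c2 20 15836 25440 49 (v_c_c2_1_195) r_c_c2_1_196

theorem r_c_c2_1_197 : allRange chk_c_c2 20 25489 49 = true := by decide +kernel
theorem v_c_c2_1_197 : ∀ k, 15836 ≤ k → k < 25538 → chk_c_c2 (k * 20) = true := between_extend chk_c_c2 20 15836 25489 49 (v_c_c2_1_196) r_c_c2_1_197

theorem r_c_c2_1_198 : allRange chk_c_c2 20 25538 49 = true := by decide +kernel
theorem v_c_c2_1_198 : ∀ k, 15836 ≤ k → k < 25587 → chk_c_c2 (k * 20) = true := between_extend chk_c_c2 20 15836 25538 49 (v_c_c2_1_197) r_c_c2_1_198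

theorem r_c_c2_1_199 : allRange chk_c_c2 20 25587 49 = true := by decide +kernel
theorem v_c_c2_1_199 : ∀ k, 15836 ≤ k → k < 25636 → chk_c_c2 (k * 20) = true := between_extend chk_c_c2 20 15836 25587 49 (v_c_c2_1_198) r_c_c2_1_199

theorem r_c_c2_1_200 : allRange chk_c_c2 20 25636 49 = true := by decide +kernel
theorem v_c_c2_1_200 : ∀ k, 15836 ≤ k → k < 25685 → chk_c_c2 (k * 20) = true := between_extend chk_c_c2 20 15836 25636 49 (v_c_c2_1_199) r_c_c2_1_200

theorem r_c_c2_1_201 : allRange chk_c_c2 20 25685 49 = true := by decide +kernel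
theorem v_c_c2_1_201 : ∀ k, 15836 ≤ k → k < 25734 → chk_c_c2 (k * 20) = true := between_extend chk_c_c2 20 15836 25685 49 (v_c_c2_1_200) r_c_c2_1_201

theorem r_c_c2_1_202 : allRange chk_c_c2 20 25734 49 = true := by decide +kernel
theorem v_c_c2_1_202 : ∀ k, 15836 ≤ k → k < 25783 → chk_c_c2 (k * 20) = true := between_extend chk_c_c2 20 15836 25734 49 (v_c_c2_1_201) r_c_c2_1_202

theorem r_c_c2_1_203 : allRange chk_c_c2 20 25783 49 = true := by decide +kernel
theorem v_c_c2_1_203 : ∀ k, 15836 ≤ k → k < 25832 → chk_c_c2 (k * 20) = true := between_extend chk_c_c2 20 15836 25783 49 (v_c_c2_1_202) r_c_c2_1_203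

theorem r_c_c2_1_204 : allRange chk_c_c2 20 25832 49 = true := by decide +kernel
theorem v_c_c2_1_204 : ∀ k, 15836 ≤ k → k < 25881 → chk_c_c2 (k * 20) = true := between_extend chk_c_c2 20 15836 25832 49 (v_c_c2_1_203) r_c_c2_1_204

theorem r_c_c2_1_205 : allRange chk_c_c2 20 25881 49 = true := by decide +kernel
theorem v_c_c2_1_205 : ∀ k, 15836 ≤ k → k < 25930 → chk_c_c2 (k * 20) = true := between_extend chk_c_c2 20 15836 25881 49 (v_c_c2_1_204) r_c_c2_1_205

theorem r_c_c2_1_206 : allRange chk_c_c2 20 25930 49 = true := by decide +kernel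
theorem v_c_c2_1_206 : ∀ k, 15836 ≤ k → k < 25979 → chk_c_c2 (k * 20) = true := between_extend chk_c_c2 20 15836 25930 49 (v_c_c2_1_205) r_c_c2_1_206

theorem r_c_c2_1_207 : allRange chk_c_c2 20 25979 49 = true := by decide +kernel
theorem v_c_c2_1_207 : ∀ k, 15836 ≤ k → k < 26028 → chk_c_c2 (k * 20) = true := between_extend chk_c_c2 20 15836 25979 49 (v_c_c2_1_206) r_c_c2_1_207

theorem r_c_c2_1_208 : allRange chk_c_c2 20 26028 49 = true := by decide +kernel
theorem v_c_c2_1_208 : ∀ k, 15836 ≤ k → k < 26077 → chk_c_c2 (k * 20) = true := between_extend chk_c_c2 20 15836 26028 49 (v_c_c2_1_207) r_c_c2_1_208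

theorem r_c_c2_1_209 : allRange chk_c_c2 20 26077 49 = true := by decide +kernel
theorem v_c_c2_1_209 : ∀ k, 15836 ≤ k → k < 26126 → chk_c_c2 (k * 20) = true := between_extend chk_c_c2 20 15836 26077 49 (v_c_c2_1_208) r_c_c2_1_209

theorem r_c_c2_1_210 : allRange chk_c_c2 20 26126 49 = true := by decide +kernel
theorem v_c_c2_1_210 : ∀ k, 15836 ≤ k → k < 26175 → chk_c_c2 (k * 20) = true := between_extend chk_c_c2 20 15836 26126 49 (v_c_c2_1_209) r_c_c2_1_210

theorem r_c_c2_1_211 : allRange chk_c_c2 20 26175 49 = true := by decide +kernel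
theorem v_c_c2_1_211 : ∀ k, 15836 ≤ k → k < 26224 → chk_c_c2 (k * 20) = true := between_extend chk_c_c2 20 15836 26175 49 (v_c_c2_1_210) r_c_c2_1_211

theorem r_c_c2_1_212 : allRange chk_c_c2 20 26224 49 = true := by decide +kernel
theorem v_c_c2_1_212 : ∀ k, 15836 ≤ k → k < 26273 → chk_c_c2 (k * 20) = true := between_extend chk_c_c2 20 15836 26224 49 (v_c_c2_1_211) r_c_c2_1_212

theorem r_c_c2_1_213 : allRange chk_c_c2 20 26273 49 = true := by decide +kernel
theorem v_c_c2_1_213 : ∀ k, 15836 ≤ k → k < 26322 → chk_c_c2 (k * 20) = true := between_extend chk_c_c2 20 15836 26273 49 (v_c_c2_1_212) r_c_c2_1_213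

theorem r_c_c2_1_214 : allRange chk_c_c2 20 26322 49 = true := by decide +kernel
theorem v_c_c2_1_214 : ∀ k, 15836 ≤ k → k < 26371 → chk_c_c2 (k * 20) = true := between_extend chk_c_c2 20 15836 26322 49 (v_c_c2_1_213) r_c_c2_1_214

theorem r_c_c2_1_215 : allRange chk_c_c2 20 26371 49 = true := by decide +kernel
theorem v_c_c2_1_215 : ∀ k, 15836 ≤ k → k < 26420 → chk_c_c2 (k * 20) = true := between_extend chk_c_c2 20 15836 26371 49 (v_c_c2_1_214) r_c_c2_1_215

theorem r_c_c2_1_216 : allRange chk_c_c2 20 26420 49 = true := by decide +kernel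
theorem v_c_c2_1_216 : ∀ k, 15836 ≤ k → k < 26469 → chk_c_c2 (k * 20) = true := between_extend chk_c_c2 20 15836 26420 49 (v_c_c2_1_215) r_c_c2_1_216

theorem r_c_c2_1_217 : allRange chk_c_c2 20 26469 49 = true := by decide +kernel
theorem v_c_c2_1_217 : ∀ k, 15836 ≤ k → k < 26518 → chk_c_c2 (k * 20) = true := between_extend chk_c_c2 20 15836 26469 49 (v_c_c2_1_216) r_c_c2_1_217

theorem r_c_c2_1_218 : allRange chk_c_c2 20 26518 49 = true := by decide +kernel
theorem v_c_c2_1_218 : ∀ k, 15836 ≤ k → k < 26567 → chk_c_c2 (k * 20) = true := between_extend chk_c_c2 20 15836 26518 49 (v_c_c2_1_217) r_c_c2_1_218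

theorem r_c_c2_1_219 : allRange chk_c_c2 20 26567 49 = true := by decide +kernel
theorem v_c_c2_1_219 : ∀ k, 15836 ≤ k → k < 26616 → chk_c_c2 (k * 20) = true := between_extend chk_c_c2 20 15836 26567 49 (v_c_c2_1_218) r_c_c2_1_219

theorem r_c_c2_1_220 : allRange chk_c_c2 20 26616 49 = true := by decide +kernel
theorem v_c_c2_1_220 : ∀ k, 15836 ≤ k → k < 26665 → chk_c_c2 (k * 20) = true := between_extend chk_c_c2 20 15836 26616 49 (v_c_c2_1_219) r_c_c2_1_220

theorem r_c_c2_1_221 : allRange chk_c_c2 20 26665 49 = true := by decide +kernel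
theorem v_c_c2_1_221 : ∀ k, 15836 ≤ k → k < 26714 → chk_c_c2 (k * 20) = true := between_extend chk_c_c2 20 15836 26665 49 (v_c_c2_1_220) r_c_c2_1_221

theorem r_c_c2_1_222 : allRange chk_c_c2 20 26714 49 = true := by decide +kernel
theorem v_c_c2_1_222 : ∀ k, 15836 ≤ k → k < 26763 → chk_c_c2 (k * 20) = true := between_extend chk_c_c2 20 15836 26714 49 (v_c_c2_1_221) r_c_c2_1_222

theorem r_c_c2_1_223 : allRange chk_c_c2 20 26763 49 = true := by decide +kernel
theorem v_c_c2_1_223 : ∀ k, 15836 ≤ k → k < 26812 → chk_c_c2 (k * 20) = true := between_extend chk_c_c2 20 15836 26763 49 (v_c_c2_1_222) r_c_c2_1_223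

theorem r_c_c2_1_224 : allRange chk_c_c2 20 26812 49 = true := by decide +kernel
theorem v_c_c2_1_224 : ∀ k, 15836 ≤ k → k < 26861 → chk_c_c2 (k * 20) = true := between_extend chk_c_c2 20 15836 26812 49 (v_c_c2_1_223) r_c_c2_1_224

theorem r_c_c2_1_225 : allRange chk_c_c2 20 26861 49 = true := by decide +kernel
theorem v_c_c2_1_225 : ∀ k, 15836 ≤ k → k < 26910 → chk_c_c2 (k * 20) = true := between_extend chk_c_c2 20 15836 26861 49 (v_c_c2_1_224) r_c_c2_1_225

theorem r_c_c2_1_226 : allRange chk_c_c2 20 26910 49 = true := by decide +kernel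
theorem v_c_c2_1_226 : ∀ k, 15836 ≤ k → k < 26959 → chk_c_c2 (k * 20) = true := between_extend chk_c_c2 20 15836 26910 49 (v_c_c2_1_225) r_c_c2_1_226

theorem r_c_c2_1_227 : allRange chk_c_c2 20 26959 49 = true := by decide +kernel
theorem v_c_c2_1_227 : ∀ k, 15836 ≤ k → k < 27008 → chk_c_c2 (k * 20) = true := between_extend chk_c_c2 20 15836 26959 49 (v_c_c2_1_226) r_c_c2_1_227

theorem r_c_c2_1_228 : allRange chk_c_c2 20 27008 49 = true := by decide +kernel
theorem v_c_c2_1_228 : ∀ k, 15836 ≤ k → k < 27057 → chk_c_c2 (k * 20) = true := between_extend chk_c_c2 20 15836 27008 49 (v_c_c2_1_227) r_c_c2_1_228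

theorem r_c_c2_1_229 : allRange chk_c_c2 20 27057 49 = true := by decide +kernel
theorem v_c_c2_1_229 : ∀ k, 15836 ≤ k → k < 27106 → chk_c_c2 (k * 20) = true := between_extend chk_c_c2 20 15836 27057 49 (v_c_c2_1_228) r_c_c2_1_229

theorem r_c_c2_1_230 : allRange chk_c_c2 20 27106 49 = true := by decide +kernel
theorem v_c_c2_1_230 : ∀ k, 15836 ≤ k → k < 27155 → chk_c_c2 (k * 20) = true := between_extend chk_c_c2 20 15836 27106 49 (v_c_c2_1_229) r_c_c2_1_230

theorem r_c_c2_1_231 : allRange chk_c_c2 20 27155 49 = true := by decide +kernel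
theorem v_c_c2_1_231 : ∀ k, 15836 ≤ k → k < 27204 → chk_c_c2 (k * 20) = true := between_extend chk_c_c2 20 15836 27155 49 (v_c_c2_1_230) r_c_c2_1_231

theorem r_c_c2_1_232 : allRange chk_c_c2 20 27204 49 = true := by decide +kernel
theorem v_c_c2_1_232 : ∀ k, 15836 ≤ k → k < 27253 → chk_c_c2 (k * 20) = true := between_extend chk_c_c2 20 15836 27204 49 (v_c_c2_1_231) r_c_c2_1_232

theorem r_c_c2_1_233 : allRange chk_c_c2 20 27253 49 = true := by decide +kernel
theorem v_c_c2_1_233 : ∀ k, 15836 ≤ k → k < 27302 → chk_c_c2 (k * 20) = true := between_extend chk_c_c2 20 15836 27253 49 (v_c_c2_1_232) r_c_c2_1_233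

theorem r_c_c2_1_234 : allRange chk_c_c2 20 27302 49 = true := by decide +kernel
theorem v_c_c2_1_234 : ∀ k, 15836 ≤ k → k < 27351 → chk_c_c2 (k * 20) = true := between_extend chk_c_c2 20 15836 27302 49 (v_c_c2_1_233) r_c_c2_1_234

theorem r_c_c2_1_235 : allRange chk_c_c2 20 27351 49 = true := by decide +kernel
theorem v_c_c2_1_235 : ∀ k, 15836 ≤ k → k < 27400 → chk_c_c2 (k * 20) = true := between_extend chk_c_c2 20 15836 27351 49 (v_c_c2_1_234) r_c_c2_1_235

theorem r_c_c2_1_236 : allRange chk_c_c2 20 27400 49 = true := by decide +kernel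
theorem v_c_c2_1_236 : ∀ k, 15836 ≤ k → k < 27449 → chk_c_c2 (k * 20) = true := between_extend chk_c_c2 20 15836 27400 49 (v_c_c2_1_235) r_c_c2_1_236

theorem r_c_c2_1_237 : allRange chk_c_c2 20 27449 49 = true := by decide +kernel
theorem v_c_c2_1_237 : ∀ k, 15836 ≤ k → k < 27498 → chk_c_c2 (k * 20) = true := between_extend chk_c_c2 20 15836 27449 49 (v_c_c2_1_236) r_c_c2_1_237

theorem r_c_c2_1_238 : allRange chk_c_c2 20 27498 49 = true := by decide +kernel
theorem v_c_c2_1_238 : ∀ k, 15836 ≤ k → k < 27547 → chk_c_c2 (k * 20) = true := between_extend chk_c_c2 20 15836 27498 49 (v_c_c2_1_237) r_c_c2_1_238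

theorem r_c_c2_1_239 : allRange chk_c_c2 20 27547 49 = true := by decide +kernel
theorem v_c_c2_1_239 : ∀ k, 15836 ≤ k → k < 27596 → chk_c_c2 (k * 20) = true := between_extend chk_c_c2 20 15836 27547 49 (v_c_c2_1_238) r_c_c2_1_239

theorem r_c_c2_1_240 : allRange chk_c_c2 20 27596 49 = true := by decide +kernel
theorem v_c_c2_1_240 : ∀ k, 15836 ≤ k → k < 27645 → chk_c_c2 (k * 20) = true := between_extend chk_c_c2 20 15836 27596 49 (v_c_c2_1_239) r_c_c2_1_240

theorem r_c_c2_1_241 : allRange chk_c_c2 20 27645 49 = true := by decide +kernel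
theorem v_c_c2_1_241 : ∀ k, 15836 ≤ k → k < 27694 → chk_c_c2 (k * 20) = true := between_extend chk_c_c2 20 15836 27645 49 (v_c_c2_1_240) r_c_c2_1_241

theorem r_c_c2_1_242 : allRange chk_c_c2 20 27694 49 = true := by decide +kernel
theorem v_c_c2_1_242 : ∀ k, 15836 ≤ k → k < 27743 → chk_c_c2 (k * 20) = true := between_extend chk_c_c2 20 15836 27694 49 (v_c_c2_1_241) r_c_c2_1_242

theorem r_c_c2_1_243 : allRange chk_c_c2 20 27743 49 = true := by decide +kernel
theorem v_c_c2_1_243 : ∀ k, 15836 ≤ k → k < 27792 → chk_c_c2 (k * 20) = true := between_extend chk_c_c2 20 15836 27743 49 (v_c_c2_1_242) r_c_c2_1_243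

theorem r_c_c2_1_244 : allRange chk_c_c2 20 27792 49 = true := by decide +kernel
theorem v_c_c2_1_244 : ∀ k, 15836 ≤ k → k < 27841 → chk_c_c2 (k * 20) = true := between_extend chk_c_c2 20 15836 27792 49 (v_c_c2_1_243) r_c_c2_1_244

theorem r_c_c2_1_245 : allRange chk_c_c2 20 27841 49 = true := by decide +kernel
theorem v_c_c2_1_245 : ∀ k, 15836 ≤ k → k < 27890 → chk_c_c2 (k * 20) = true := between_extend chk_c_c2 20 15836 27841 49 (v_c_c2_1_244) r_c_c2_1_245

theorem r_c_c2_1_246 : allRange chk_c_c2 20 27890 49 = true := by decide +kernel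
theorem v_c_c2_1_246 : ∀ k, 15836 ≤ k → k < 27939 → chk_c_c2 (k * 20) = true := between_extend chk_c_c2 20 15836 27890 49 (v_c_c2_1_245) r_c_c2_1_246

theorem r_c_c2_1_247 : allRange chk_c_c2 20 27939 49 = true := by decide +kernel
theorem v_c_c2_1_247 : ∀ k, 15836 ≤ k → k < 27988 → chk_c_c2 (k * 20) = true := between_extend chk_c_c2 20 15836 27939 49 (v_c_c2_1_246) r_c_c2_1_247

theorem r_c_c2_1_248 : allRange chk_c_c2 20 27988 49 = true := by decide +kernel
theorem v_c_c2_1_248 : ∀ k, 15836 ≤ k → k < 28037 → chk_c_c2 (k * 20) = true := between_extend chk_c_c2 20 15836 27988 49 (v_c_c2_1_247) r_c_c2_1_248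

theorem r_c_c2_1_249 : allRange chk_c_c2 20 28037 49 = true := by decide +kernel
theorem v_c_c2_1_249 : ∀ k, 15836 ≤ k → k < 28086 → chk_c_c2 (k * 20) = true := between_extend chk_c_c2 20 15836 28037 49 (v_c_c2_1_248) r_c_c2_1_249

theorem r_c_c2_1_250 : allRange chk_c_c2 20 28086 49 = true := by decide +kernel
theorem v_c_c2_1_250 : ∀ k, 15836 ≤ k → k < 28135 → chk_c_c2 (k * 20) = true := between_extend chk_c_c2 20 15836 28086 49 (v_c_c2_1_249) r_c_c2_1_250

theorem r_c_c2_1_251 : allRange chk_c_c2 20 28135 49 = true := by decide +kernel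
theorem v_c_c2_1_251 : ∀ k, 15836 ≤ k → k < 28184 → chk_c_c2 (k * 20) = true := between_extend chk_c_c2 20 15836 28135 49 (v_c_c2_1_250) r_c_c2_1_251

theorem r_c_c2_1_252 : allRange chk_c_c2 20 28184 49 = true := by decide +kernel
theorem v_c_c2_1_252 : ∀ k, 15836 ≤ k → k < 28233 → chk_c_c2 (k * 20) = true := between_extend chk_c_c2 20 15836 28184 49 (v_c_c2_1_251) r_c_c2_1_252

theorem r_c_c2_1_253 : allRange chk_c_c2 20 28233 49 = true := by decide +kernel
theorem v_c_c2_1_253 : ∀ k, 15836 ≤ k → k < 28282 → chk_c_c2 (k * 20) = true := between_extend chk_c_c2 20 15836 28233 49 (v_c_c2_1_252) r_c_c2_1_253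

theorem r_c_c2_1_254 : allRange chk_c_c2 20 28282 49 = true := by decide +kernel
theorem v_c_c2_1_254 : ∀ k, 15836 ≤ k → k < 28331 → chk_c_c2 (k * 20) = true := between_extend chk_c_c2 20 15836 28282 49 (v_c_c2_1_253) r_c_c2_1_254

theorem r_c_c2_1_255 : allRange chk_c_c2 20 28331 49 = true := by decide +kernel
theorem v_c_c2_1_255 : ∀ k, 15836 ≤ k → k < 28380 → chk_c_c2 (k * 20) = true := between_extend chk_c_c2 20 15836 28331 49 (v_c_c2_1_254) r_c_c2_1_255

theorem r_c_c2_1_256 : allRange chk_c_c2 20 28380 49 = true := by decide +kernel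
theorem v_c_c2_1_256 : ∀ k, 15836 ≤ k → k < 28429 → chk_c_c2 (k * 20) = true := between_extend chk_c_c2 20 15836 28380 49 (v_c_c2_1_255) r_c_c2_1_256

theorem r_c_c2_1_257 : allRange chk_c_c2 20 28429 49 = true := by decide +kernel
theorem v_c_c2_1_257 : ∀ k, 15836 ≤ k → k < 28478 → chk_c_c2 (k * 20) = true := between_extend chk_c_c2 20 15836 28429 49 (v_c_c2_1_256) r_c_c2_1_257

theorem r_c_c2_1_258 : allRange chk_c_c2 20 28478 49 = true := by decide +kernel
theorem v_c_c2_1_258 : ∀ k, 15836 ≤ k → k < 28527 → chk_c_c2 (k * 20) = true := between_extend chk_c_c2 20 15836 28478 49 (v_c_c2_1_257) r_c_c2_1_258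

theorem r_c_c2_1_259 : allRange chk_c_c2 20 28527 49 = true := by decide +kernel
theorem v_c_c2_1_259 : ∀ k, 15836 ≤ k → k < 28576 → chk_c_c2 (k * 20) = true := between_extend chk_c_c2 20 15836 28527 49 (v_c_c2_1_258) r_c_c2_1_259

theorem r_c_c2_1_260 : allRange chk_c_c2 20 28576 49 = true := by decide +kernel
theorem v_c_c2_1_260 : ∀ k, 15836 ≤ k → k < 28625 → chk_c_c2 (k * 20) = true := between_extend chk_c_c2 20 15836 28576 49 (v_c_c2_1_259) r_c_c2_1_260

theorem r_c_c2_1_261 : allRange chk_c_c2 20 28625 49 = true := by decide +kernel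
theorem v_c_c2_1_261 : ∀ k, 15836 ≤ k → k < 28674 → chk_c_c2 (k * 20) = true := between_extend chk_c_c2 20 15836 28625 49 (v_c_c2_1_260) r_c_c2_1_261

theorem r_c_c2_1_262 : allRange chk_c_c2 20 28674 49 = true := by decide +kernel
theorem v_c_c2_1_262 : ∀ k, 15836 ≤ k → k < 28723 → chk_c_c2 (k * 20) = true := between_extend chk_c_c2 20 15836 28674 49 (v_c_c2_1_261) r_c_c2_1_262

theorem r_c_c2_1_263 : allRange chk_c_c2 20 28723 49 = true := by decide +kernel
theorem v_c_c2_1_263 : ∀ k, 15836 ≤ k → k < 28772 → chk_c_c2 (k * 20) = true := between_extend chk_c_c2 20 15836 28723 49 (v_c_c2_1_262) r_c_c2_1_263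

theorem r_c_c2_1_264 : allRange chk_c_c2 20 28772 49 = true := by decide +kernel
theorem v_c_c2_1_264 : ∀ k, 15836 ≤ k → k < 28821 → chk_c_c2 (k * 20) = true := between_extend chk_c_c2 20 15836 28772 49 (v_c_c2_1_263) r_c_c2_1_264

theorem r_c_c2_1_265 : allRange chk_c_c2 20 28821 49 = true := by decide +kernel
theorem v_c_c2_1_265 : ∀ k, 15836 ≤ k → k < 28870 → chk_c_c2 (k * 20) = true := between_extend chk_c_c2 20 15836 28821 49 (v_c_c2_1_264) r_c_c2_1_265

theorem r_c_c2_1_266 : allRange chk_c_c2 20 28870 49 = true := by decide +kernel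
theorem v_c_c2_1_266 : ∀ k, 15836 ≤ k → k < 28919 → chk_c_c2 (k * 20) = true := between_extend chk_c_c2 20 15836 28870 49 (v_c_c2_1_265) r_c_c2_1_266

theorem r_c_c2_1_267 : allRange chk_c_c2 20 28919 49 = true := by decide +kernel
theorem v_c_c2_1_267 : ∀ k, 15836 ≤ k → k < 28968 → chk_c_c2 (k * 20) = true := between_extend chk_c_c2 20 15836 28919 49 (v_c_c2_1_266) r_c_c2_1_267

theorem r_c_c2_1_268 : allRange chk_c_c2 20 28968 49 = true := by decide +kernel
theorem v_c_c2_1_268 : ∀ k, 15836 ≤ k → k < 29017 → chk_c_c2 (k * 20) = true := between_extend chk_c_c2 20 15836 28968 49 (v_c_c2_1_267) r_c_c2_1_268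

theorem r_c_c2_1_269 : allRange chk_c_c2 20 29017 49 = true := by decide +kernel
theorem v_c_c2_1_269 : ∀ k, 15836 ≤ k → k < 29066 → chk_c_c2 (k * 20) = true := between_extend chk_c_c2 20 15836 29017 49 (v_c_c2_1_268) r_c_c2_1_269

theorem r_c_c2_1_270 : allRange chk_c_c2 20 29066 49 = true := by decide +kernel
theorem v_c_c2_1_270 : ∀ k, 15836 ≤ k → k < 29115 → chk_c_c2 (k * 20) = true := between_extend chk_c_c2 20 15836 29066 49 (v_c_c2_1_269) r_c_c2_1_270

theorem r_c_c2_1_271 : allRange chk_c_c2 20 29115 49 = true := by decide +kernel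
theorem v_c_c2_1_271 : ∀ k, 15836 ≤ k → k < 29164 → chk_c_c2 (k * 20) = true := between_extend chk_c_c2 20 15836 29115 49 (v_c_c2_1_270) r_c_c2_1_271

theorem r_c_c2_1_272 : allRange chk_c_c2 20 29164 49 = true := by decide +kernel
theorem v_c_c2_1_272 : ∀ k, 15836 ≤ k → k < 29213 → chk_c_c2 (k * 20) = true := between_extend chk_c_c2 20 15836 29164 49 (v_c_c2_1_271) r_c_c2_1_272

theorem r_c_c2_1_273 : allRange chk_c_c2 20 29213 49 = true := by decide +kernel
theorem v_c_c2_1_273 : ∀ k, 15836 ≤ k → k < 29262 → chk_c_c2 (k * 20) = true := between_extend chk_c_c2 20 15836 29213 49 (v_c_c2_1_272) r_c_c2_1_273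

theorem r_c_c2_1_274 : allRange chk_c_c2 20 29262 49 = true := by decide +kernel
theorem v_c_c2_1_274 : ∀ k, 15836 ≤ k → k < 29311 → chk_c_c2 (k * 20) = true := between_extend chk_c_c2 20 15836 29262 49 (v_c_c2_1_273) r_c_c2_1_274

theorem r_c_c2_1_275 : allRange chk_c_c2 20 29311 49 = true := by decide +kernel
theorem v_c_c2_1_275 : ∀ k, 15836 ≤ k → k < 29360 → chk_c_c2 (k * 20) = true := between_extend chk_c_c2 20 15836 29311 49 (v_c_c2_1_274) r_c_c2_1_275

theorem r_c_c2_1_276 : allRange chk_c_c2 20 29360 49 = true := by decide +kernel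
theorem v_c_c2_1_276 : ∀ k, 15836 ≤ k → k < 29409 → chk_c_c2 (k * 20) = true := between_extend chk_c_c2 20 15836 29360 49 (v_c_c2_1_275) r_c_c2_1_276

theorem r_c_c2_1_277 : allRange chk_c_c2 20 29409 49 = true := by decide +kernel
theorem v_c_c2_1_277 : ∀ k, 15836 ≤ k → k < 29458 → chk_c_c2 (k * 20) = true := between_extend chk_c_c2 20 15836 29409 49 (v_c_c2_1_276) r_c_c2_1_277

theorem r_c_c2_1_278 : allRange chk_c_c2 20 29458 49 = true := by decide +kernel
theorem v_c_c2_1_278 : ∀ k, 15836 ≤ k → k < 29507 → chk_c_c2 (k * 20) = true := between_extend chk_c_c2 20 15836 29458 49 (v_c_c2_1_277) r_c_c2_1_278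

theorem r_c_c2_1_279 : allRange chk_c_c2 20 29507 49 = true := by decide +kernel
theorem v_c_c2_1_279 : ∀ k, 15836 ≤ k → k < 29556 → chk_c_c2 (k * 20) = true := between_extend chk_c_c2 20 15836 29507 49 (v_c_c2_1_278) r_c_c2_1_279

theorem r_c_c2_1_280 : allRange chk_c_c2 20 29556 49 = true := by decide +kernel
theorem v_c_c2_1_280 : ∀ k, 15836 ≤ k → k < 29605 → chk_c_c2 (k * 20) = true := between_extend chk_c_c2 20 15836 29556 49 (v_c_c2_1_279) r_c_c2_1_280

theorem r_c_c2_1_281 : allRange chk_c_c2 20 29605 49 = true := by decide +kernel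
theorem v_c_c2_1_281 : ∀ k, 15836 ≤ k → k < 29654 → chk_c_c2 (k * 20) = true := between_extend chk_c_c2 20 15836 29605 49 (v_c_c2_1_280) r_c_c2_1_281

theorem r_c_c2_1_282 : allRange chk_c_c2 20 29654 49 = true := by decide +kernel
theorem v_c_c2_1_282 : ∀ k, 15836 ≤ k → k < 29703 → chk_c_c2 (k * 20) = true := between_extend chk_c_c2 20 15836 29654 49 (v_c_c2_1_281) r_c_c2_1_282

theorem r_c_c2_1_283 : allRange chk_c_c2 20 29703 49 = true := by decide +kernel
theorem v_c_c2_1_283 : ∀ k, 15836 ≤ k → k < 29752 → chk_c_c2 (k * 20) = true := between_extend chk_c_c2 20 15836 29703 49 (v_c_c2_1_282) r_c_c2_1_283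

theorem r_c_c2_1_284 : allRange chk_c_c2 20 29752 49 = true := by decide +kernel
theorem v_c_c2_1_284 : ∀ k, 15836 ≤ k → k < 29801 → chk_c_c2 (k * 20) = true := between_extend chk_c_c2 20 15836 29752 49 (v_c_c2_1_283) r_c_c2_1_284

theorem r_c_c2_1_285 : allRange chk_c_c2 20 29801 49 = true := by decide +kernel
theorem v_c_c2_1_285 : ∀ k, 15836 ≤ k → k < 29850 → chk_c_c2 (k * 20) = true := between_extend chk_c_c2 20 15836 29801 49 (v_c_c2_1_284) r_c_c2_1_285

theorem r_c_c2_1_286 : allRange chk_c_c2 20 29850 49 = true := by decide +kernel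
theorem v_c_c2_1_286 : ∀ k, 15836 ≤ k → k < 29899 → chk_c_c2 (k * 20) = true := between_extend chk_c_c2 20 15836 29850 49 (v_c_c2_1_285) r_c_c2_1_286

theorem r_c_c2_1_287 : allRange chk_c_c2 20 29899 49 = true := by decide +kernel
theorem v_c_c2_1_287 : ∀ k, 15836 ≤ k → k < 29948 → chk_c_c2 (k * 20) = true := between_extend chk_c_c2 20 15836 29899 49 (v_c_c2_1_286) r_c_c2_1_287

theorem r_c_c2_1_288 : allRange chk_c_c2 20 29948 49 = true := by decide +kernel
theorem v_c_c2_1_288 : ∀ k, 15836 ≤ k → k < 29997 → chk_c_c2 (k * 20) = true := between_extend chk_c_c2 20 15836 29948 49 (v_c_c2_1_287) r_c_c2_1_288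

theorem r_c_c2_1_289 : allRange chk_c_c2 20 29997 49 = true := by decide +kernel
theorem v_c_c2_1_289 : ∀ k, 15836 ≤ k → k < 30046 → chk_c_c2 (k * 20) = true := between_extend chk_c_c2 20 15836 29997 49 (v_c_c2_1_288) r_c_c2_1_289

theorem r_c_c2_1_290 : allRange chk_c_c2 20 30046 49 = true := by decide +kernel
theorem v_c_c2_1_290 : ∀ k, 15836 ≤ k → k < 30095 → chk_c_c2 (k * 20) = true := between_extend chk_c_c2 20 15836 30046 49 (v_c_c2_1_289) r_c_c2_1_290

theorem r_c_c2_1_291 : allRange chk_c_c2 20 30095 49 = true := by decide +kernel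
theorem v_c_c2_1_291 : ∀ k, 15836 ≤ k → k < 30144 → chk_c_c2 (k * 20) = true := between_extend chk_c_c2 20 15836 30095 49 (v_c_c2_1_290) r_c_c2_1_291

theorem r_c_c2_1_292 : allRange chk_c_c2 20 30144 49 = true := by decide +kernel
theorem v_c_c2_1_292 : ∀ k, 15836 ≤ k → k < 30193 → chk_c_c2 (k * 20) = true := between_extend chk_c_c2 20 15836 30144 49 (v_c_c2_1_291) r_c_c2_1_292

theorem r_c_c2_1_293 : allRange chk_c_c2 20 30193 49 = true := by decide +kernel
theorem v_c_c2_1_293 : ∀ k, 15836 ≤ k → k < 30242 → chk_c_c2 (k * 20) = true := between_extend chk_c_c2 20 15836 30193 49 (v_c_c2_1_292) r_c_c2_1_293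

theorem r_c_c2_1_294 : allRange chk_c_c2 20 30242 49 = true := by decide +kernel
theorem v_c_c2_1_294 : ∀ k, 15836 ≤ k → k < 30291 → chk_c_c2 (k * 20) = true := between_extend chk_c_c2 20 15836 30242 49 (v_c_c2_1_293) r_c_c2_1_294

theorem r_c_c2_1_295 : allRange chk_c_c2 20 30291 49 = true := by decide +kernel
theorem v_c_c2_1_295 : ∀ k, 15836 ≤ k → k < 30340 → chk_c_c2 (k * 20) = true := between_extend chk_c_c2 20 15836 30291 49 (v_c_c2_1_294) r_c_c2_1_295

theorem r_c_c2_1_296 : allRange chk_c_c2 20 30340 49 = true := by decide +kernel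
theorem v_c_c2_1_296 : ∀ k, 15836 ≤ k → k < 30389 → chk_c_c2 (k * 20) = true := between_extend chk_c_c2 20 15836 30340 49 (v_c_c2_1_295) r_c_c2_1_296

theorem r_c_c2_1_297 : allRange chk_c_c2 20 30389 49 = true := by decide +kernel
theorem v_c_c2_1_297 : ∀ k, 15836 ≤ k → k < 30438 → chk_c_c2 (k * 20) = true := between_extend chk_c_c2 20 15836 30389 49 (v_c_c2_1_296) r_c_c2_1_297

theorem r_c_c2_1_298 : allRange chk_c_c2 20 30438 49 = true := by decide +kernel
theorem v_c_c2_1_298 : ∀ k, 15836 ≤ k → k < 30487 → chk_c_c2 (k * 20) = true := between_extend chk_c_c2 20 15836 30438 49 (v_c_c2_1_297) r_c_c2_1_298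

theorem r_c_c2_1_299 : allRange chk_c_c2 20 30487 49 = true := by decide +kernel
theorem v_c_c2_1_299 : ∀ k, 15836 ≤ k → k < 30536 → chk_c_c2 (k * 20) = true := between_extend chk_c_c2 20 15836 30487 49 (v_c_c2_1_298) r_c_c2_1_299

theorem r_c_c2_1_300 : allRange chk_c_c2 20 30536 49 = true := by decide +kernel
theorem v_c_c2_1_300 : ∀ k, 15836 ≤ k → k < 30585 → chk_c_c2 (k * 20) = true := between_extend chk_c_c2 20 15836 30536 49 (v_c_c2_1_299) r_c_c2_1_300

theorem r_c_c2_1_301 : allRange chk_c_c2 20 30585 49 = true := by decide +kernel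
theorem v_c_c2_1_301 : ∀ k, 15836 ≤ k → k < 30634 → chk_c_c2 (k * 20) = true := between_extend chk_c_c2 20 15836 30585 49 (v_c_c2_1_300) r_c_c2_1_301

theorem r_c_c2_1_302 : allRange chk_c_c2 20 30634 49 = true := by decide +kernel
theorem v_c_c2_1_302 : ∀ k, 15836 ≤ k → k < 30683 → chk_c_c2 (k * 20) = true := between_extend chk_c_c2 20 15836 30634 49 (v_c_c2_1_301) r_c_c2_1_302

theorem r_c_c2_1_303 : allRange chk_c_c2 20 30683 49 = true := by decide +kernel
theorem v_c_c2_1_303 : ∀ k, 15836 ≤ k → k < 30732 → chk_c_c2 (k * 20) = true := between_extend chk_c_c2 20 15836 30683 49 (v_c_c2_1_302) r_c_c2_1_303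

theorem r_c_c2_1_304 : allRange chk_c_c2 20 30732 49 = true := by decide +kernel
theorem v_c_c2_1_304 : ∀ k, 15836 ≤ k → k < 30781 → chk_c_c2 (k * 20) = true := between_extend chk_c_c2 20 15836 30732 49 (v_c_c2_1_303) r_c_c2_1_304

theorem r_c_c2_1_305 : allRange chk_c_c2 20 30781 49 = true := by decide +kernel
theorem v_c_c2_1_305 : ∀ k, 15836 ≤ k → k < 30830 → chk_c_c2 (k * 20) = true := between_extend chk_c_c2 20 15836 30781 49 (v_c_c2_1_304) r_c_c2_1_305

theorem r_c_c2_1_306 : allRange chk_c_c2 20 30830 49 = true := by decide +kernel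
theorem v_c_c2_1_306 : ∀ k, 15836 ≤ k → k < 30879 → chk_c_c2 (k * 20) = true := between_extend chk_c_c2 20 15836 30830 49 (v_c_c2_1_305) r_c_c2_1_306

theorem r_c_c2_1_307 : allRange chk_c_c2 20 30879 49 = true := by decide +kernel
theorem v_c_c2_1_307 : ∀ k, 15836 ≤ k → k < 30928 → chk_c_c2 (k * 20) = true := between_extend chk_c_c2 20 15836 30879 49 (v_c_c2_1_306) r_c_c2_1_307

theorem r_c_c2_1_308 : allRange chk_c_c2 20 30928 49 = true := by decide +kernel
theorem v_c_c2_1_308 : ∀ k, 15836 ≤ k → k < 30977 → chk_c_c2 (k * 20) = true := between_extend chk_c_c2 20 15836 30928 49 (v_c_c2_1_307) r_c_c2_1_308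

theorem r_c_c2_1_309 : allRange chk_c_c2 20 30977 49 = true := by decide +kernel
theorem v_c_c2_1_309 : ∀ k, 15836 ≤ k → k < 31026 → chk_c_c2 (k * 20) = true := between_extend chk_c_c2 20 15836 30977 49 (v_c_c2_1_308) r_c_c2_1_309

theorem r_c_c2_1_310 : allRange chk_c_c2 20 31026 49 = true := by decide +kernel
theorem v_c_c2_1_310 : ∀ k, 15836 ≤ k → k < 31075 → chk_c_c2 (k * 20) = true := between_extend chk_c_c2 20 15836 31026 49 (v_c_c2_1_309) r_c_c2_1_310

theorem r_c_c2_1_311 : allRange chk_c_c2 20 31075 49 = true := by decide +kernel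
theorem v_c_c2_1_311 : ∀ k, 15836 ≤ k → k < 31124 → chk_c_c2 (k * 20) = true := between_extend chk_c_c2 20 15836 31075 49 (v_c_c2_1_310) r_c_c2_1_311

theorem r_c_c2_1_312 : allRange chk_c_c2 20 31124 49 = true := by decide +kernel
theorem v_c_c2_1_312 : ∀ k, 15836 ≤ k → k < 31173 → chk_c_c2 (k * 20) = true := between_extend chk_c_c2 20 15836 31124 49 (v_c_c2_1_311) r_c_c2_1_312

theorem r_c_c2_1_313 : allRange chk_c_c2 20 31173 49 = true := by decide +kernel
theorem v_c_c2_1_313 : ∀ k, 15836 ≤ k → k < 31222 → chk_c_c2 (k * 20) = true := between_extend chk_c_c2 20 15836 31173 49 (v_c_c2_1_312) r_c_c2_1_313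

theorem r_c_c2_1_314 : allRange chk_c_c2 20 31222 49 = true := by decide +kernel
theorem v_c_c2_1_314 : ∀ k, 15836 ≤ k → k < 31271 → chk_c_c2 (k * 20) = true := between_extend chk_c_c2 20 15836 31222 49 (v_c_c2_1_313) r_c_c2_1_314

theorem r_c_c2_1_315 : allRange chk_c_c2 20 31271 49 = true := by decide +kernel
theorem v_c_c2_1_315 : ∀ k, 15836 ≤ k → k < 31320 → chk_c_c2 (k * 20) = true := between_extend chk_c_c2 20 15836 31271 49 (v_c_c2_1_314) r_c_c2_1_315

theorem r_c_c2_1_316 : allRange chk_c_c2 20 31320 49 = true := by decide +kernel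
theorem v_c_c2_1_316 : ∀ k, 15836 ≤ k → k < 31369 → chk_c_c2 (k * 20) = true := between_extend chk_c_c2 20 15836 31320 49 (v_c_c2_1_315) r_c_c2_1_316

theorem r_c_c2_1_317 : allRange chk_c_c2 20 31369 49 = true := by decide +kernel
theorem v_c_c2_1_317 : ∀ k, 15836 ≤ k → k < 31418 → chk_c_c2 (k * 20) = true := between_extend chk_c_c2 20 15836 31369 49 (v_c_c2_1_316) r_c_c2_1_317

theorem r_c_c2_1_318 : allRange chk_c_c2 20 31418 49 = true := by decide +kernel
theorem v_c_c2_1_318 : ∀ k, 15836 ≤ k → k < 31467 → chk_c_c2 (k * 20) = true := between_extend chk_c_c2 20 15836 31418 49 (v_c_c2_1_317) r_c_c2_1_318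

theorem r_c_c2_1_319 : allRange chk_c_c2 20 31467 49 = true := by decide +kernel
theorem v_c_c2_1_319 : ∀ k, 15836 ≤ k → k < 31516 → chk_c_c2 (k * 20) = true := between_extend chk_c_c2 20 15836 31467 49 (v_c_c2_1_318) r_c_c2_1_319

theorem r_c_c2_1_320 : allRange chk_c_c2 20 31516 49 = true := by decide +kernel
theorem v_c_c2_1_320 : ∀ k, 15836 ≤ k → k < 31565 → chk_c_c2 (k * 20) = true := between_extend chk_c_c2 20 15836 31516 49 (v_c_c2_1_319) r_c_c2_1_320

theorem r_c_c2_1_321 : allRange chk_c_c2 20 31565 49 = true := by decide +kernel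
theorem v_c_c2_1_321 : ∀ k, 15836 ≤ k → k < 31614 → chk_c_c2 (k * 20) = true := between_extend chk_c_c2 20 15836 31565 49 (v_c_c2_1_320) r_c_c2_1_321

theorem r_c_c2_1_322 : allRange chk_c_c2 20 31614 49 = true := by decide +kernel
theorem v_c_c2_1_322 : ∀ k, 15836 ≤ k → k < 31663 → chk_c_c2 (k * 20) = true := between_extend chk_c_c2 20 15836 31614 49 (v_c_c2_1_321) r_c_c2_1_322

theorem r_c_c2_1_323 : allRange chk_c_c2 20 31663 8 = true := by decide +kernel
theorem v_c_c2_1_323 : ∀ k, 15836 ≤ k → k < 31671 → chk_c_c2 (k * 20) = true := between_extend chk_c_c2 20 15836 31663 8 (v_c_c2_1_322) r_c_c2_1_323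

theorem p_c_c2_1 : ∀ k, 15836 ≤ k → k < 31671 → chk_c_c2 (k * 20) = true := v_c_c2_1_323

end Cfsg.Agent.Lib.Helper28_Y5FiW
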