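import Cfsg.Agent.Lib.Helper28_Y5FiWDef

set_option autoImplicit false
set_option linter.constructorNameAsVariable false
set_option Elab.async false

namespace Cfsg.Agent.Lib.Helper28_Y5FiW

open Cfsg.Agent.Lib.Helper28_CosetPerm

theorem r_c_c3_0_0 : allRange chk_c_c3 20 0 49 = true := by decide +kernel
theorem v_c_c3_0_0 : ∀ k, 0 ≤ k → k < 49 → chk_c_c3 (k * 20) = true := between_extend chk_c_c3 20 0 0 49 (between_start chk_c_c3 20 0) r_c_c3_0_0

theorem r_c_c3_0_1 : allRange chk_c_c3 20 49 49 = true := by decide +kernel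
theorem v_c_c3_0_1 : ∀ k, 0 ≤ k → k < 98 → chk_c_c3 (k * 20) = true := between_extend chk_c_c3 20 0 49 49 (v_c_c3_0_0) r_c_c3_0_1

theorem r_c_c3_0_2 : allRange chk_c_c3 20 98 49 = true := by decide +kernel
theorem v_c_c3_0_2 : ∀ k, 0 ≤ k → k < 147 → chk_c_c3 (k * 20) = true := between_extend chk_c_c3 20 0 98 49 (v_c_c3_0_1) r_c_c3_0_2

theorem r_c_c3_0_3 : allRange chk_c_c3 20 147 49 = true := by decide +kernel
theorem v_c_c3_0_3 : ∀ k, 0 ≤ k → k < 196 → chk_c_c3 (k * 20) = true := between_extend chk_c_c3 20 0 147 49 (v_c_c3_0_2) r_c_c3_0_3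

theorem r_c_c3_0_4 : allRange chk_c_c3 20 196 49 = true := by decide +kernel
theorem v_c_c3_0_4 : ∀ k, 0 ≤ k → k < 245 → chk_c_c3 (k * 20) = true := between_extend chk_c_c3 20 0 196 49 (v_c_c3_0_3) r_c_c3_0_4

theorem r_c_c3_0_5 : allRange chk_c_c3 20 245 49 = true := by decide +kernel
theorem v_c_c3_0_5 : ∀ k, 0 ≤ k → k < 294 → chk_c_c3 (k * 20) = true := between_extend chk_c_c3 20 0 245 49 (v_c_c3_0_4) r_c_c3_0_5

theorem r_c_c3_0_6 : allRange chk_c_c3 20 294 49 = true := by decide +kernel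
theorem v_c_c3_0_6 : ∀ k, 0 ≤ k → k < 343 → chk_c_c3 (k * 20) = true := between_extend chk_c_c3 20 0 294 49 (v_c_c3_0_5) r_c_c3_0_6

theorem r_c_c3_0_7 : allRange chk_c_c3 20 343 49 = true := by decide +kernel
theorem v_c_c3_0_7 : ∀ k, 0 ≤ k → k < 392 → chk_c_c3 (k * 20) = true := between_extend chk_c_c3 20 0 343 49 (v_c_c3_0_6) r_c_c3_0_7

theorem r_c_c3_0_8 : allRange chk_c_c3 20 392 49 = true := by decide +kernel
theorem v_c_c3_0_8 : ∀ k, 0 ≤ k → k < 441 → chk_c_c3 (k * 20) = true := between_extend chk_c_c3 20 0 392 49 (v_c_c3_0_7) r_c_c3_0_8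

theorem r_c_c3_0_9 : allRange chk_c_c3 20 441 49 = true := by decide +kernel
theorem v_c_c3_0_9 : ∀ k, 0 ≤ k → k < 490 → chk_c_c3 (k * 20) = true := between_extend chk_c_c3 20 0 441 49 (v_c_c3_0_8) r_c_c3_0_9

theorem r_c_c3_0_10 : allRange chk_c_c3 20 490 49 = true := by decide +kernel
theorem v_c_c3_0_10 : ∀ k, 0 ≤ k → k < 539 → chk_c_c3 (k * 20) = true := between_extend chk_c_c3 20 0 490 49 (v_c_c3_0_9) r_c_c3_0_10

theorem r_c_c3_0_11 : allRange chk_c_c3 20 539 49 = true := by decide +kernel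
theorem v_c_c3_0_11 : ∀ k, 0 ≤ k → k < 588 → chk_c_c3 (k * 20) = true := between_extend chk_c_c3 20 0 539 49 (v_c_c3_0_10) r_c_c3_0_11

theorem r_c_c3_0_12 : allRange chk_c_c3 20 588 49 = true := by decide +kernel
theorem v_c_c3_0_12 : ∀ k, 0 ≤ k → k < 637 → chk_c_c3 (k * 20) = true := between_extend chk_c_c3 20 0 588 49 (v_c_c3_0_11) r_c_c3_0_12

theorem r_c_c3_0_13 : allRange chk_c_c3 20 637 49 = true := by decide +kernel
theorem v_c_c3_0_13 : ∀ k, 0 ≤ k → k < 686 → chk_c_c3 (k * 20) = true := between_extend chk_c_c3 20 0 637 49 (v_c_c3_0_12) r_c_c3_0_13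

theorem r_c_c3_0_14 : allRange chk_c_c3 20 686 49 = true := by decide +kernel
theorem v_c_c3_0_14 : ∀ k, 0 ≤ k → k < 735 → chk_c_c3 (k * 20) = true := between_extend chk_c_c3 20 0 686 49 (v_c_c3_0_13) r_c_c3_0_14

theorem r_c_c3_0_15 : allRange chk_c_c3 20 735 49 = true := by decide +kernel
theorem v_c_c3_0_15 : ∀ k, 0 ≤ k → k < 784 → chk_c_c3 (k * 20) = true := between_extend chk_c_c3 20 0 735 49 (v_c_c3_0_14) r_c_c3_0_15

theorem r_c_c3_0_16 : allRange chk_c_c3 20 784 49 = true := by decide +kernel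
theorem v_c_c3_0_16 : ∀ k, 0 ≤ k → k < 833 → chk_c_c3 (k * 20) = true := between_extend chk_c_c3 20 0 784 49 (v_c_c3_0_15) r_c_c3_0_16

theorem r_c_c3_0_17 : allRange chk_c_c3 20 833 49 = true := by decide +kernel
theorem v_c_c3_0_17 : ∀ k, 0 ≤ k → k < 882 → chk_c_c3 (k * 20) = true := between_extend chk_c_c3 20 0 833 49 (v_c_c3_0_16) r_c_c3_0_17

theorem r_c_c3_0_18 : allRange chk_c_c3 20 882 49 = true := by decide +kernel
theorem v_c_c3_0_18 : ∀ k, 0 ≤ k → k < 931 → chk_c_c3 (k * 20) = true := between_extend chk_c_c3 20 0 882 49 (v_c_c3_0_17) r_c_c3_0_18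

theorem r_c_c3_0_19 : allRange chk_c_c3 20 931 49 = true := by decide +kernel
theorem v_c_c3_0_19 : ∀ k, 0 ≤ k → k < 980 → chk_c_c3 (k * 20) = true := between_extend chk_c_c3 20 0 931 49 (v_c_c3_0_18) r_c_c3_0_19

theorem r_c_c3_0_20 : allRange chk_c_c3 20 980 49 = true := by decide +kernel
theorem v_c_c3_0_20 : ∀ k, 0 ≤ k → k < 1029 → chk_c_c3 (k * 20) = true := between_extend chk_c_c3 20 0 980 49 (v_c_c3_0_19) r_c_c3_0_20

theorem r_c_c3_0_21 : allRange chk_c_c3 20 1029 49 = true := by decide +kernel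
theorem v_c_c3_0_21 : ∀ k, 0 ≤ k → k < 1078 → chk_c_c3 (k * 20) = true := between_extend chk_c_c3 20 0 1029 49 (v_c_c3_0_20) r_c_c3_0_21

theorem r_c_c3_0_22 : allRange chk_c_c3 20 1078 49 = true := by decide +kernel
theorem v_c_c3_0_22 : ∀ k, 0 ≤ k → k < 1127 → chk_c_c3 (k * 20) = true := between_extend chk_c_c3 20 0 1078 49 (v_c_c3_0_21) r_c_c3_0_22

theorem r_c_c3_0_23 : allRange chk_c_c3 20 1127 49 = true := by decide +kernel
theorem v_c_c3_0_23 : ∀ k, 0 ≤ k → k < 1176 → chk_c_c3 (k * 20) = true := between_extend chk_c_c3 20 0 1127 49 (v_c_c3_0_22) r_c_c3_0_23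

theorem r_c_c3_0_24 : allRange chk_c_c3 20 1176 49 = true := by decide +kernel
theorem v_c_c3_0_24 : ∀ k, 0 ≤ k → k < 1225 → chk_c_c3 (k * 20) = true := between_extend chk_c_c3 20 0 1176 49 (v_c_c3_0_23) r_c_c3_0_24

theorem r_c_c3_0_25 : allRange chk_c_c3 20 1225 49 = true := by decide +kernel
theorem v_c_c3_0_25 : ∀ k, 0 ≤ k → k < 1274 → chk_c_c3 (k * 20) = true := between_extend chk_c_c3 20 0 1225 49 (v_c_c3_0_24) r_c_c3_0_25

theorem r_c_c3_0_26 : allRange chk_c_c3 20 1274 49 = true := by decide +kernel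
theorem v_c_c3_0_26 : ∀ k, 0 ≤ k → k < 1323 → chk_c_c3 (k * 20) = true := between_extend chk_c_c3 20 0 1274 49 (v_c_c3_0_25) r_c_c3_0_26

theorem r_c_c3_0_27 : allRange chk_c_c3 20 1323 49 = true := by decide +kernel
theorem v_c_c3_0_27 : ∀ k, 0 ≤ k → k < 1372 → chk_c_c3 (k * 20) = true := between_extend chk_c_c3 20 0 1323 49 (v_c_c3_0_26) r_c_c3_0_27

theorem r_c_c3_0_28 : allRange chk_c_c3 20 1372 49 = true := by decide +kernel
theorem v_c_c3_0_28 : ∀ k, 0 ≤ k → k < 1421 → chk_c_c3 (k * 20) = true := between_extend chk_c_c3 20 0 1372 49 (v_c_c3_0_27) r_c_c3_0_28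

theorem r_c_c3_0_29 : allRange chk_c_c3 20 1421 49 = true := by decide +kernel
theorem v_c_c3_0_29 : ∀ k, 0 ≤ k → k < 1470 → chk_c_c3 (k * 20) = true := between_extend chk_c_c3 20 0 1421 49 (v_c_c3_0_28) r_c_c3_0_29

theorem r_c_c3_0_30 : allRange chk_c_c3 20 1470 49 = true := by decide +kernel
theorem v_c_c3_0_30 : ∀ k, 0 ≤ k → k < 1519 → chk_c_c3 (k * 20) = true := between_extend chk_c_c3 20 0 1470 49 (v_c_c3_0_29) r_c_c3_0_30

theorem r_c_c3_0_31 : allRange chk_c_c3 20 1519 49 = true := by decide +kernel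
theorem v_c_c3_0_31 : ∀ k, 0 ≤ k → k < 1568 → chk_c_c3 (k * 20) = true := between_extend chk_c_c3 20 0 1519 49 (v_c_c3_0_30) r_c_c3_0_31

theorem r_c_c3_0_32 : allRange chk_c_c3 20 1568 49 = true := by decide +kernel
theorem v_c_c3_0_32 : ∀ k, 0 ≤ k → k < 1617 → chk_c_c3 (k * 20) = true := between_extend chk_c_c3 20 0 1568 49 (v_c_c3_0_31) r_c_c3_0_32

theorem r_c_c3_0_33 : allRange chk_c_c3 20 1617 49 = true := by decide +kernel
theorem v_c_c3_0_33 : ∀ k, 0 ≤ k → k < 1666 → chk_c_c3 (k * 20) = true := between_extend chk_c_c3 20 0 1617 49 (v_c_c3_0_32) r_c_c3_0_33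

theorem r_c_c3_0_34 : allRange chk_c_c3 20 1666 49 = true := by decide +kernel
theorem v_c_c3_0_34 : ∀ k, 0 ≤ k → k < 1715 → chk_c_c3 (k * 20) = true := between_extend chk_c_c3 20 0 1666 49 (v_c_c3_0_33) r_c_c3_0_34

theorem r_c_c3_0_35 : allRange chk_c_c3 20 1715 49 = true := by decide +kernel
theorem v_c_c3_0_35 : ∀ k, 0 ≤ k → k < 1764 → chk_c_c3 (k * 20) = true := between_extend chk_c_c3 20 0 1715 49 (v_c_c3_0_34) r_c_c3_0_35

theorem r_c_c3_0_36 : allRange chk_c_c3 20 1764 49 = true := by decide +kernel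
theorem v_c_c3_0_36 : ∀ k, 0 ≤ k → k < 1813 → chk_c_c3 (k * 20) = true := between_extend chk_c_c3 20 0 1764 49 (v_c_c3_0_35) r_c_c3_0_36

theorem r_c_c3_0_37 : allRange chk_c_c3 20 1813 49 = true := by decide +kernel
theorem v_c_c3_0_37 : ∀ k, 0 ≤ k → k < 1862 → chk_c_c3 (k * 20) = true := between_extend chk_c_c3 20 0 1813 49 (v_c_c3_0_36) r_c_c3_0_37

theorem r_c_c3_0_38 : allRange chk_c_c3 20 1862 49 = true := by decide +kernel
theorem v_c_c3_0_38 : ∀ k, 0 ≤ k → k < 1911 → chk_c_c3 (k * 20) = true := between_extend chk_c_c3 20 0 1862 49 (v_c_c3_0_37) r_c_c3_0_38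

theorem r_c_c3_0_39 : allRange chk_c_c3 20 1911 49 = true := by decide +kernel
theorem v_c_c3_0_39 : ∀ k, 0 ≤ k → k < 1960 → chk_c_c3 (k * 20) = true := between_extend chk_c_c3 20 0 1911 49 (v_c_c3_0_38) r_c_c3_0_39

theorem r_c_c3_0_40 : allRange chk_c_c3 20 1960 49 = true := by decide +kernel
theorem v_c_c3_0_40 : ∀ k, 0 ≤ k → k < 2009 → chk_c_c3 (k * 20) = true := between_extend chk_c_c3 20 0 1960 49 (v_c_c3_0_39) r_c_c3_0_40

theorem r_c_c3_0_41 : allRange chk_c_c3 20 2009 49 = true := by decide +kernel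
theorem v_c_c3_0_41 : ∀ k, 0 ≤ k → k < 2058 → chk_c_c3 (k * 20) = true := between_extend chk_c_c3 20 0 2009 49 (v_c_c3_0_40) r_c_c3_0_41

theorem r_c_c3_0_42 : allRange chk_c_c3 20 2058 49 = true := by decide +kernel
theorem v_c_c3_0_42 : ∀ k, 0 ≤ k → k < 2107 → chk_c_c3 (k * 20) = true := between_extend chk_c_c3 20 0 2058 49 (v_c_c3_0_41) r_c_c3_0_42

theorem r_c_c3_0_43 : allRange chk_c_c3 20 2107 49 = true := by decide +kernel
theorem v_c_c3_0_43 : ∀ k, 0 ≤ k → k < 2156 → chk_c_c3 (k * 20) = true := between_extend chk_c_c3 20 0 2107 49 (v_c_c3_0_42) r_c_c3_0_43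

theorem r_c_c3_0_44 : allRange chk_c_c3 20 2156 49 = true := by decide +kernel
theorem v_c_c3_0_44 : ∀ k, 0 ≤ k → k < 2205 → chk_c_c3 (k * 20) = true := between_extend chk_c_c3 20 0 2156 49 (v_c_c3_0_43) r_c_c3_0_44

theorem r_c_c3_0_45 : allRange chk_c_c3 20 2205 49 = true := by decide +kernel
theorem v_c_c3_0_45 : ∀ k, 0 ≤ k → k < 2254 → chk_c_c3 (k * 20) = true := between_extend chk_c_c3 20 0 2205 49 (v_c_c3_0_44) r_c_c3_0_45

theorem r_c_c3_0_46 : allRange chk_c_c3 20 2254 49 = true := by decide +kernel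
theorem v_c_c3_0_46 : ∀ k, 0 ≤ k → k < 2303 → chk_c_c3 (k * 20) = true := between_extend chk_c_c3 20 0 2254 49 (v_c_c3_0_45) r_c_c3_0_46

theorem r_c_c3_0_47 : allRange chk_c_c3 20 2303 49 = true := by decide +kernel
theorem v_c_c3_0_47 : ∀ k, 0 ≤ k → k < 2352 → chk_c_c3 (k * 20) = true := between_extend chk_c_c3 20 0 2303 49 (v_c_c3_0_46) r_c_c3_0_47

theorem r_c_c3_0_48 : allRange chk_c_c3 20 2352 49 = true := by decide +kernel
theorem v_c_c3_0_48 : ∀ k, 0 ≤ k → k < 2401 → chk_c_c3 (k * 20) = true := between_extend chk_c_c3 20 0 2352 49 (v_c_c3_0_47) r_c_c3_0_48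

theorem r_c_c3_0_49 : allRange chk_c_c3 20 2401 49 = true := by decide +kernel
theorem v_c_c3_0_49 : ∀ k, 0 ≤ k → k < 2450 → chk_c_c3 (k * 20) = true := between_extend chk_c_c3 20 0 2401 49 (v_c_c3_0_48) r_c_c3_0_49

theorem r_c_c3_0_50 : allRange chk_c_c3 20 2450 49 = true := by decide +kernel
theorem v_c_c3_0_50 : ∀ k, 0 ≤ k → k < 2499 → chk_c_c3 (k * 20) = true := between_extend chk_c_c3 20 0 2450 49 (v_c_c3_0_49) r_c_c3_0_50

theorem r_c_c3_0_51 : allRange chk_c_c3 20 2499 49 = true := by decide +kernel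
theorem v_c_c3_0_51 : ∀ k, 0 ≤ k → k < 2548 → chk_c_c3 (k * 20) = true := between_extend chk_c_c3 20 0 2499 49 (v_c_c3_0_50) r_c_c3_0_51

theorem r_c_c3_0_52 : allRange chk_c_c3 20 2548 49 = true := by decide +kernel
theorem v_c_c3_0_52 : ∀ k, 0 ≤ k → k < 2597 → chk_c_c3 (k * 20) = true := between_extend chk_c_c3 20 0 2548 49 (v_c_c3_0_51) r_c_c3_0_52

theorem r_c_c3_0_53 : allRange chk_c_c3 20 2597 49 = true := by decide +kernel
theorem v_c_c3_0_53 : ∀ k, 0 ≤ k → k < 2646 → chk_c_c3 (k * 20) = true := between_extend chk_c_c3 20 0 2597 49 (v_c_c3_0_52) r_c_c3_0_53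

theorem r_c_c3_0_54 : allRange chk_c_c3 20 2646 49 = true := by decide +kernel
theorem v_c_c3_0_54 : ∀ k, 0 ≤ k → k < 2695 → chk_c_c3 (k * 20) = true := between_extend chk_c_c3 20 0 2646 49 (v_c_c3_0_53) r_c_c3_0_54

theorem r_c_c3_0_55 : allRange chk_c_c3 20 2695 49 = true := by decide +kernel
theorem v_c_c3_0_55 : ∀ k, 0 ≤ k → k < 2744 → chk_c_c3 (k * 20) = true := between_extend chk_c_c3 20 0 2695 49 (v_c_c3_0_54) r_c_c3_0_55

theorem r_c_c3_0_56 : allRange chk_c_c3 20 2744 49 = true := by decide +kernel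
theorem v_c_c3_0_56 : ∀ k, 0 ≤ k → k < 2793 → chk_c_c3 (k * 20) = true := between_extend chk_c_c3 20 0 2744 49 (v_c_c3_0_55) r_c_c3_0_56

theorem r_c_c3_0_57 : allRange chk_c_c3 20 2793 49 = true := by decide +kernel
theorem v_c_c3_0_57 : ∀ k, 0 ≤ k → k < 2842 → chk_c_c3 (k * 20) = true := between_extend chk_c_c3 20 0 2793 49 (v_c_c3_0_56) r_c_c3_0_57

theorem r_c_c3_0_58 : allRange chk_c_c3 20 2842 49 = true := by decide +kernel
theorem v_c_c3_0_58 : ∀ k, 0 ≤ k → k < 2891 → chk_c_c3 (k * 20) = true := between_extend chk_c_c3 20 0 2842 49 (v_c_c3_0_57) r_c_c3_0_58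

theorem r_c_c3_0_59 : allRange chk_c_c3 20 2891 49 = true := by decide +kernel
theorem v_c_c3_0_59 : ∀ k, 0 ≤ k → k < 2940 → chk_c_c3 (k * 20) = true := between_extend chk_c_c3 20 0 2891 49 (v_c_c3_0_58) r_c_c3_0_59

theorem r_c_c3_0_60 : allRange chk_c_c3 20 2940 49 = true := by decide +kernel
theorem v_c_c3_0_60 : ∀ k, 0 ≤ k → k < 2989 → chk_c_c3 (k * 20) = true := between_extend chk_c_c3 20 0 2940 49 (v_c_c3_0_59) r_c_c3_0_60

theorem r_c_c3_0_61 : allRange chk_c_c3 20 2989 49 = true := by decide +kernel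
theorem v_c_c3_0_61 : ∀ k, 0 ≤ k → k < 3038 → chk_c_c3 (k * 20) = true := between_extend chk_c_c3 20 0 2989 49 (v_c_c3_0_60) r_c_c3_0_61

theorem r_c_c3_0_62 : allRange chk_c_c3 20 3038 49 = true := by decide +kernel
theorem v_c_c3_0_62 : ∀ k, 0 ≤ k → k < 3087 → chk_c_c3 (k * 20) = true := between_extend chk_c_c3 20 0 3038 49 (v_c_c3_0_61) r_c_c3_0_62

theorem r_c_c3_0_63 : allRange chk_c_c3 20 3087 49 = true := by decide +kernel
theorem v_c_c3_0_63 : ∀ k, 0 ≤ k → k < 3136 → chk_c_c3 (k * 20) = true := between_extend chk_c_c3 20 0 3087 49 (v_c_c3_0_62) r_c_c3_0_63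

theorem r_c_c3_0_64 : allRange chk_c_c3 20 3136 49 = true := by decide +kernel
theorem v_c_c3_0_64 : ∀ k, 0 ≤ k → k < 3185 → chk_c_c3 (k * 20) = true := between_extend chk_c_c3 20 0 3136 49 (v_c_c3_0_63) r_c_c3_0_64

theorem r_c_c3_0_65 : allRange chk_c_c3 20 3185 49 = true := by decide +kernel
theorem v_c_c3_0_65 : ∀ k, 0 ≤ k → k < 3234 → chk_c_c3 (k * 20) = true := between_extend chk_c_c3 20 0 3185 49 (v_c_c3_0_64) r_c_c3_0_65

theorem r_c_c3_0_66 : allRange chk_c_c3 20 3234 49 = true := by decide +kernel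
theorem v_c_c3_0_66 : ∀ k, 0 ≤ k → k < 3283 → chk_c_c3 (k * 20) = true := between_extend chk_c_c3 20 0 3234 49 (v_c_c3_0_65) r_c_c3_0_66

theorem r_c_c3_0_67 : allRange chk_c_c3 20 3283 49 = true := by decide +kernel
theorem v_c_c3_0_67 : ∀ k, 0 ≤ k → k < 3332 → chk_c_c3 (k * 20) = true := between_extend chk_c_c3 20 0 3283 49 (v_c_c3_0_66) r_c_c3_0_67

theorem r_c_c3_0_68 : allRange chk_c_c3 20 3332 49 = true := by decide +kernel
theorem v_c_c3_0_68 : ∀ k, 0 ≤ k → k < 3381 → chk_c_c3 (k * 20) = true := between_extend chk_c_c3 20 0 3332 49 (v_c_c3_0_67) r_c_c3_0_68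

theorem r_c_c3_0_69 : allRange chk_c_c3 20 3381 49 = true := by decide +kernel
theorem v_c_c3_0_69 : ∀ k, 0 ≤ k → k < 3430 → chk_c_c3 (k * 20) = true := between_extend chk_c_c3 20 0 3381 49 (v_c_c3_0_68) r_c_c3_0_69

theorem r_c_c3_0_70 : allRange chk_c_c3 20 3430 49 = true := by decide +kernel
theorem v_c_c3_0_70 : ∀ k, 0 ≤ k → k < 3479 → chk_c_c3 (k * 20) = true := between_extend chk_c_c3 20 0 3430 49 (v_c_c3_0_69) r_c_c3_0_70

theorem r_c_c3_0_71 : allRange chk_c_c3 20 3479 49 = true := by decide +kernel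
theorem v_c_c3_0_71 : ∀ k, 0 ≤ k → k < 3528 → chk_c_c3 (k * 20) = true := between_extend chk_c_c3 20 0 3479 49 (v_c_c3_0_70) r_c_c3_0_71

theorem r_c_c3_0_72 : allRange chk_c_c3 20 3528 49 = true := by decide +kernel
theorem v_c_c3_0_72 : ∀ k, 0 ≤ k → k < 3577 → chk_c_c3 (k * 20) = true := between_extend chk_c_c3 20 0 3528 49 (v_c_c3_0_71) r_c_c3_0_72

theorem r_c_c3_0_73 : allRange chk_c_c3 20 3577 49 = true := by decide +kernel
theorem v_c_c3_0_73 : ∀ k, 0 ≤ k → k < 3626 → chk_c_c3 (k * 20) = true := between_extend chk_c_c3 20 0 3577 49 (v_c_c3_0_72) r_c_c3_0_73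

theorem r_c_c3_0_74 : allRange chk_c_c3 20 3626 49 = true := by decide +kernel
theorem v_c_c3_0_74 : ∀ k, 0 ≤ k → k < 3675 → chk_c_c3 (k * 20) = true := between_extend chk_c_c3 20 0 3626 49 (v_c_c3_0_73) r_c_c3_0_74

theorem r_c_c3_0_75 : allRange chk_c_c3 20 3675 49 = true := by decide +kernel
theorem v_c_c3_0_75 : ∀ k, 0 ≤ k → k < 3724 → chk_c_c3 (k * 20) = true := between_extend chk_c_c3 20 0 3675 49 (v_c_c3_0_74) r_c_c3_0_75

theorem r_c_c3_0_76 : allRange chk_c_c3 20 3724 49 = true := by decide +kernel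
theorem v_c_c3_0_76 : ∀ k, 0 ≤ k → k < 3773 → chk_c_c3 (k * 20) = true := between_extend chk_c_c3 20 0 3724 49 (v_c_c3_0_75) r_c_c3_0_76

theorem r_c_c3_0_77 : allRange chk_c_c3 20 3773 49 = true := by decide +kernel
theorem v_c_c3_0_77 : ∀ k, 0 ≤ k → k < 3822 → chk_c_c3 (k * 20) = true := between_extend chk_c_c3 20 0 3773 49 (v_c_c3_0_76) r_c_c3_0_77

theorem r_c_c3_0_78 : allRange chk_c_c3 20 3822 49 = true := by decide +kernel
theorem v_c_c3_0_78 : ∀ k, 0 ≤ k → k < 3871 → chk_c_c3 (k * 20) = true := between_extend chk_c_c3 20 0 3822 49 (v_c_c3_0_77) r_c_c3_0_78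

theorem r_c_c3_0_79 : allRange chk_c_c3 20 3871 49 = true := by decide +kernel
theorem v_c_c3_0_79 : ∀ k, 0 ≤ k → k < 3920 → chk_c_c3 (k * 20) = true := between_extend chk_c_c3 20 0 3871 49 (v_c_c3_0_78) r_c_c3_0_79

theorem r_c_c3_0_80 : allRange chk_c_c3 20 3920 49 = true := by decide +kernel
theorem v_c_c3_0_80 : ∀ k, 0 ≤ k → k < 3969 → chk_c_c3 (k * 20) = true := between_extend chk_c_c3 20 0 3920 49 (v_c_c3_0_79) r_c_c3_0_80

theorem r_c_c3_0_81 : allRange chk_c_c3 20 3969 49 = true := by decide +kernel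
theorem v_c_c3_0_81 : ∀ k, 0 ≤ k → k < 4018 → chk_c_c3 (k * 20) = true := between_extend chk_c_c3 20 0 3969 49 (v_c_c3_0_80) r_c_c3_0_81

theorem r_c_c3_0_82 : allRange chk_c_c3 20 4018 49 = true := by decide +kernel
theorem v_c_c3_0_82 : ∀ k, 0 ≤ k → k < 4067 → chk_c_c3 (k * 20) = true := between_extend chk_c_c3 20 0 4018 49 (v_c_c3_0_81) r_c_c3_0_82

theorem r_c_c3_0_83 : allRange chk_c_c3 20 4067 49 = true := by decide +kernel
theorem v_c_c3_0_83 : ∀ k, 0 ≤ k → k < 4116 → chk_c_c3 (k * 20) = true := between_extend chk_c_c3 20 0 4067 49 (v_c_c3_0_82) r_c_c3_0_83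

theorem r_c_c3_0_84 : allRange chk_c_c3 20 4116 49 = true := by decide +kernel
theorem v_c_c3_0_84 : ∀ k, 0 ≤ k → k < 4165 → chk_c_c3 (k * 20) = true := between_extend chk_c_c3 20 0 4116 49 (v_c_c3_0_83) r_c_c3_0_84

theorem r_c_c3_0_85 : allRange chk_c_c3 20 4165 49 = true := by decide +kernel
theorem v_c_c3_0_85 : ∀ k, 0 ≤ k → k < 4214 → chk_c_c3 (k * 20) = true := between_extend chk_c_c3 20 0 4165 49 (v_c_c3_0_84) r_c_c3_0_85

theorem r_c_c3_0_86 : allRange chk_c_c3 20 4214 49 = true := by decide +kernel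
theorem v_c_c3_0_86 : ∀ k, 0 ≤ k → k < 4263 → chk_c_c3 (k * 20) = true := between_extend chk_c_c3 20 0 4214 49 (v_c_c3_0_85) r_c_c3_0_86

theorem r_c_c3_0_87 : allRange chk_c_c3 20 4263 49 = true := by decide +kernel
theorem v_c_c3_0_87 : ∀ k, 0 ≤ k → k < 4312 → chk_c_c3 (k * 20) = true := between_extend chk_c_c3 20 0 4263 49 (v_c_c3_0_86) r_c_c3_0_87

theorem r_c_c3_0_88 : allRange chk_c_c3 20 4312 49 = true := by decide +kernel
theorem v_c_c3_0_88 : ∀ k, 0 ≤ k → k < 4361 → chk_c_c3 (k * 20) = true := between_extend chk_c_c3 20 0 4312 49 (v_c_c3_0_87) r_c_c3_0_88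

theorem r_c_c3_0_89 : allRange chk_c_c3 20 4361 49 = true := by decide +kernel
theorem v_c_c3_0_89 : ∀ k, 0 ≤ k → k < 4410 → chk_c_c3 (k * 20) = true := between_extend chk_c_c3 20 0 4361 49 (v_c_c3_0_88) r_c_c3_0_89

theorem r_c_c3_0_90 : allRange chk_c_c3 20 4410 49 = true := by decide +kernel
theorem v_c_c3_0_90 : ∀ k, 0 ≤ k → k < 4459 → chk_c_c3 (k * 20) = true := between_extend chk_c_c3 20 0 4410 49 (v_c_c3_0_89) r_c_c3_0_90

theorem r_c_c3_0_91 : allRange chk_c_c3 20 4459 49 = true := by decide +kernel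
theorem v_c_c3_0_91 : ∀ k, 0 ≤ k → k < 4508 → chk_c_c3 (k * 20) = true := between_extend chk_c_c3 20 0 4459 49 (v_c_c3_0_90) r_c_c3_0_91

theorem r_c_c3_0_92 : allRange chk_c_c3 20 4508 49 = true := by decide +kernel
theorem v_c_c3_0_92 : ∀ k, 0 ≤ k → k < 4557 → chk_c_c3 (k * 20) = true := between_extend chk_c_c3 20 0 4508 49 (v_c_c3_0_91) r_c_c3_0_92

theorem r_c_c3_0_93 : allRange chk_c_c3 20 4557 49 = true := by decide +kernel
theorem v_c_c3_0_93 : ∀ k, 0 ≤ k → k < 4606 → chk_c_c3 (k * 20) = true := between_extend chk_c_c3 20 0 4557 49 (v_c_c3_0_92) r_c_c3_0_93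

theorem r_c_c3_0_94 : allRange chk_c_c3 20 4606 49 = true := by decide +kernel
theorem v_c_c3_0_94 : ∀ k, 0 ≤ k → k < 4655 → chk_c_c3 (k * 20) = true := between_extend chk_c_c3 20 0 4606 49 (v_c_c3_0_93) r_c_c3_0_94

theorem r_c_c3_0_95 : allRange chk_c_c3 20 4655 49 = true := by decide +kernel
theorem v_c_c3_0_95 : ∀ k, 0 ≤ k → k < 4704 → chk_c_c3 (k * 20) = true := between_extend chk_c_c3 20 0 4655 49 (v_c_c3_0_94) r_c_c3_0_95

theorem r_c_c3_0_96 : allRange chk_c_c3 20 4704 49 = true := by decide +kernel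
theorem v_c_c3_0_96 : ∀ k, 0 ≤ k → k < 4753 → chk_c_c3 (k * 20) = true := between_extend chk_c_c3 20 0 4704 49 (v_c_c3_0_95) r_c_c3_0_96

theorem r_c_c3_0_97 : allRange chk_c_c3 20 4753 49 = true := by decide +kernel
theorem v_c_c3_0_97 : ∀ k, 0 ≤ k → k < 4802 → chk_c_c3 (k * 20) = true := between_extend chk_c_c3 20 0 4753 49 (v_c_c3_0_96) r_c_c3_0_97

theorem r_c_c3_0_98 : allRange chk_c_c3 20 4802 49 = true := by decide +kernel
theorem v_c_c3_0_98 : ∀ k, 0 ≤ k → k < 4851 → chk_c_c3 (k * 20) = true := between_extend chk_c_c3 20 0 4802 49 (v_c_c3_0_97) r_c_c3_0_98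

theorem r_c_c3_0_99 : allRange chk_c_c3 20 4851 49 = true := by decide +kernel
theorem v_c_c3_0_99 : ∀ k, 0 ≤ k → k < 4900 → chk_c_c3 (k * 20) = true := between_extend chk_c_c3 20 0 4851 49 (v_c_c3_0_98) r_c_c3_0_99

theorem r_c_c3_0_100 : allRange chk_c_c3 20 4900 49 = true := by decide +kernel
theorem v_c_c3_0_100 : ∀ k, 0 ≤ k → k < 4949 → chk_c_c3 (k * 20) = true := between_extend chk_c_c3 20 0 4900 49 (v_c_c3_0_99) r_c_c3_0_100

theorem r_c_c3_0_101 : allRange chk_c_c3 20 4949 49 = true := by decide +kernel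
theorem v_c_c3_0_101 : ∀ k, 0 ≤ k → k < 4998 → chk_c_c3 (k * 20) = true := between_extend chk_c_c3 20 0 4949 49 (v_c_c3_0_100) r_c_c3_0_101

theorem r_c_c3_0_102 : allRange chk_c_c3 20 4998 49 = true := by decide +kernel
theorem v_c_c3_0_102 : ∀ k, 0 ≤ k → k < 5047 → chk_c_c3 (k * 20) = true := between_extend chk_c_c3 20 0 4998 49 (v_c_c3_0_101) r_c_c3_0_102

theorem r_c_c3_0_103 : allRange chk_c_c3 20 5047 49 = true := by decide +kernel
theorem v_c_c3_0_103 : ∀ k, 0 ≤ k → k < 5096 → chk_c_c3 (k * 20) = true := between_extend chk_c_c3 20 0 5047 49 (v_c_c3_0_102) r_c_c3_0_103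

theorem r_c_c3_0_104 : allRange chk_c_c3 20 5096 49 = true := by decide +kernel
theorem v_c_c3_0_104 : ∀ k, 0 ≤ k → k < 5145 → chk_c_c3 (k * 20) = true := between_extend chk_c_c3 20 0 5096 49 (v_c_c3_0_103) r_c_c3_0_104

theorem r_c_c3_0_105 : allRange chk_c_c3 20 5145 49 = true := by decide +kernel
theorem v_c_c3_0_105 : ∀ k, 0 ≤ k → k < 5194 → chk_c_c3 (k * 20) = true := between_extend chk_c_c3 20 0 5145 49 (v_c_c3_0_104) r_c_c3_0_105

theorem r_c_c3_0_106 : allRange chk_c_c3 20 5194 49 = true := by decide +kernel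
theorem v_c_c3_0_106 : ∀ k, 0 ≤ k → k < 5243 → chk_c_c3 (k * 20) = true := between_extend chk_c_c3 20 0 5194 49 (v_c_c3_0_105) r_c_c3_0_106

theorem r_c_c3_0_107 : allRange chk_c_c3 20 5243 49 = true := by decide +kernel
theorem v_c_c3_0_107 : ∀ k, 0 ≤ k → k < 5292 → chk_c_c3 (k * 20) = true := between_extend chk_c_c3 20 0 5243 49 (v_c_c3_0_106) r_c_c3_0_107

theorem r_c_c3_0_108 : allRange chk_c_c3 20 5292 49 = true := by decide +kernel
theorem v_c_c3_0_108 : ∀ k, 0 ≤ k → k < 5341 → chk_c_c3 (k * 20) = true := between_extend chk_c_c3 20 0 5292 49 (v_c_c3_0_107) r_c_c3_0_108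

theorem r_c_c3_0_109 : allRange chk_c_c3 20 5341 49 = true := by decide +kernel
theorem v_c_c3_0_109 : ∀ k, 0 ≤ k → k < 5390 → chk_c_c3 (k * 20) = true := between_extend chk_c_c3 20 0 5341 49 (v_c_c3_0_108) r_c_c3_0_109

theorem r_c_c3_0_110 : allRange chk_c_c3 20 5390 49 = true := by decide +kernel
theorem v_c_c3_0_110 : ∀ k, 0 ≤ k → k < 5439 → chk_c_c3 (k * 20) = true := between_extend chk_c_c3 20 0 5390 49 (v_c_c3_0_109) r_c_c3_0_110

theorem r_c_c3_0_111 : allRange chk_c_c3 20 5439 49 = true := by decide +kernel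
theorem v_c_c3_0_111 : ∀ k, 0 ≤ k → k < 5488 → chk_c_c3 (k * 20) = true := between_extend chk_c_c3 20 0 5439 49 (v_c_c3_0_110) r_c_c3_0_111

theorem r_c_c3_0_112 : allRange chk_c_c3 20 5488 49 = true := by decide +kernel
theorem v_c_c3_0_112 : ∀ k, 0 ≤ k → k < 5537 → chk_c_c3 (k * 20) = true := between_extend chk_c_c3 20 0 5488 49 (v_c_c3_0_111) r_c_c3_0_112

theorem r_c_c3_0_113 : allRange chk_c_c3 20 5537 49 = true := by decide +kernel
theorem v_c_c3_0_113 : ∀ k, 0 ≤ k → k < 5586 → chk_c_c3 (k * 20) = true := between_extend chk_c_c3 20 0 5537 49 (v_c_c3_0_112) r_c_c3_0_113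

theorem r_c_c3_0_114 : allRange chk_c_c3 20 5586 49 = true := by decide +kernel
theorem v_c_c3_0_114 : ∀ k, 0 ≤ k → k < 5635 → chk_c_c3 (k * 20) = true := between_extend chk_c_c3 20 0 5586 49 (v_c_c3_0_113) r_c_c3_0_114

theorem r_c_c3_0_115 : allRange chk_c_c3 20 5635 49 = true := by decide +kernel
theorem v_c_c3_0_115 : ∀ k, 0 ≤ k → k < 5684 → chk_c_c3 (k * 20) = true := between_extend chk_c_c3 20 0 5635 49 (v_c_c3_0_114) r_c_c3_0_115

theorem r_c_c3_0_116 : allRange chk_c_c3 20 5684 49 = true := by decide +kernel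
theorem v_c_c3_0_116 : ∀ k, 0 ≤ k → k < 5733 → chk_c_c3 (k * 20) = true := between_extend chk_c_c3 20 0 5684 49 (v_c_c3_0_115) r_c_c3_0_116

theorem r_c_c3_0_117 : allRange chk_c_c3 20 5733 49 = true := by decide +kernel
theorem v_c_c3_0_117 : ∀ k, 0 ≤ k → k < 5782 → chk_c_c3 (k * 20) = true := between_extend chk_c_c3 20 0 5733 49 (v_c_c3_0_116) r_c_c3_0_117

theorem r_c_c3_0_118 : allRange chk_c_c3 20 5782 49 = true := by decide +kernel
theorem v_c_c3_0_118 : ∀ k, 0 ≤ k → k < 5831 → chk_c_c3 (k * 20) = true := between_extend chk_c_c3 20 0 5782 49 (v_c_c3_0_117) r_c_c3_0_118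

theorem r_c_c3_0_119 : allRange chk_c_c3 20 5831 49 = true := by decide +kernel
theorem v_c_c3_0_119 : ∀ k, 0 ≤ k → k < 5880 → chk_c_c3 (k * 20) = true := between_extend chk_c_c3 20 0 5831 49 (v_c_c3_0_118) r_c_c3_0_119

theorem r_c_c3_0_120 : allRange chk_c_c3 20 5880 49 = true := by decide +kernel
theorem v_c_c3_0_120 : ∀ k, 0 ≤ k → k < 5929 → chk_c_c3 (k * 20) = true := between_extend chk_c_c3 20 0 5880 49 (v_c_c3_0_119) r_c_c3_0_120

theorem r_c_c3_0_121 : allRange chk_c_c3 20 5929 49 = true := by decide +kernel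
theorem v_c_c3_0_121 : ∀ k, 0 ≤ k → k < 5978 → chk_c_c3 (k * 20) = true := between_extend chk_c_c3 20 0 5929 49 (v_c_c3_0_120) r_c_c3_0_121

theorem r_c_c3_0_122 : allRange chk_c_c3 20 5978 49 = true := by decide +kernel
theorem v_c_c3_0_122 : ∀ k, 0 ≤ k → k < 6027 → chk_c_c3 (k * 20) = true := between_extend chk_c_c3 20 0 5978 49 (v_c_c3_0_121) r_c_c3_0_122

theorem r_c_c3_0_123 : allRange chk_c_c3 20 6027 49 = true := by decide +kernel
theorem v_c_c3_0_123 : ∀ k, 0 ≤ k → k < 6076 → chk_c_c3 (k * 20) = true := between_extend chk_c_c3 20 0 6027 49 (v_c_c3_0_122) r_c_c3_0_123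

theorem r_c_c3_0_124 : allRange chk_c_c3 20 6076 49 = true := by decide +kernel
theorem v_c_c3_0_124 : ∀ k, 0 ≤ k → k < 6125 → chk_c_c3 (k * 20) = true := between_extend chk_c_c3 20 0 6076 49 (v_c_c3_0_123) r_c_c3_0_124

theorem r_c_c3_0_125 : allRange chk_c_c3 20 6125 49 = true := by decide +kernel
theorem v_c_c3_0_125 : ∀ k, 0 ≤ k → k < 6174 → chk_c_c3 (k * 20) = true := between_extend chk_c_c3 20 0 6125 49 (v_c_c3_0_124) r_c_c3_0_125

theorem r_c_c3_0_126 : allRange chk_c_c3 20 6174 49 = true := by decide +kernel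
theorem v_c_c3_0_126 : ∀ k, 0 ≤ k → k < 6223 → chk_c_c3 (k * 20) = true := between_extend chk_c_c3 20 0 6174 49 (v_c_c3_0_125) r_c_c3_0_126

theorem r_c_c3_0_127 : allRange chk_c_c3 20 6223 49 = true := by decide +kernel
theorem v_c_c3_0_127 : ∀ k, 0 ≤ k → k < 6272 → chk_c_c3 (k * 20) = true := between_extend chk_c_c3 20 0 6223 49 (v_c_c3_0_126) r_c_c3_0_127

theorem r_c_c3_0_128 : allRange chk_c_c3 20 6272 49 = true := by decide +kernel
theorem v_c_c3_0_128 : ∀ k, 0 ≤ k → k < 6321 → chk_c_c3 (k * 20) = true := between_extend chk_c_c3 20 0 6272 49 (v_c_c3_0_127) r_c_c3_0_128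

theorem r_c_c3_0_129 : allRange chk_c_c3 20 6321 49 = true := by decide +kernel
theorem v_c_c3_0_129 : ∀ k, 0 ≤ k → k < 6370 → chk_c_c3 (k * 20) = true := between_extend chk_c_c3 20 0 6321 49 (v_c_c3_0_128) r_c_c3_0_129

theorem r_c_c3_0_130 : allRange chk_c_c3 20 6370 49 = true := by decide +kernel
theorem v_c_c3_0_130 : ∀ k, 0 ≤ k → k < 6419 → chk_c_c3 (k * 20) = true := between_extend chk_c_c3 20 0 6370 49 (v_c_c3_0_129) r_c_c3_0_130

theorem r_c_c3_0_131 : allRange chk_c_c3 20 6419 49 = true := by decide +kernel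
theorem v_c_c3_0_131 : ∀ k, 0 ≤ k → k < 6468 → chk_c_c3 (k * 20) = true := between_extend chk_c_c3 20 0 6419 49 (v_c_c3_0_130) r_c_c3_0_131

theorem r_c_c3_0_132 : allRange chk_c_c3 20 6468 49 = true := by decide +kernel
theorem v_c_c3_0_132 : ∀ k, 0 ≤ k → k < 6517 → chk_c_c3 (k * 20) = true := between_extend chk_c_c3 20 0 6468 49 (v_c_c3_0_131) r_c_c3_0_132

theorem r_c_c3_0_133 : allRange chk_c_c3 20 6517 49 = true := by decide +kernel
theorem v_c_c3_0_133 : ∀ k, 0 ≤ k → k < 6566 → chk_c_c3 (k * 20) = true := between_extend chk_c_c3 20 0 6517 49 (v_c_c3_0_132) r_c_c3_0_133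

theorem r_c_c3_0_134 : allRange chk_c_c3 20 6566 49 = true := by decide +kernel
theorem v_c_c3_0_134 : ∀ k, 0 ≤ k → k < 6615 → chk_c_c3 (k * 20) = true := between_extend chk_c_c3 20 0 6566 49 (v_c_c3_0_133) r_c_c3_0_134

theorem r_c_c3_0_135 : allRange chk_c_c3 20 6615 49 = true := by decide +kernel
theorem v_c_c3_0_135 : ∀ k, 0 ≤ k → k < 6664 → chk_c_c3 (k * 20) = true := between_extend chk_c_c3 20 0 6615 49 (v_c_c3_0_134) r_c_c3_0_135

theorem r_c_c3_0_136 : allRange chk_c_c3 20 6664 49 = true := by decide +kernel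
theorem v_c_c3_0_136 : ∀ k, 0 ≤ k → k < 6713 → chk_c_c3 (k * 20) = true := between_extend chk_c_c3 20 0 6664 49 (v_c_c3_0_135) r_c_c3_0_136

theorem r_c_c3_0_137 : allRange chk_c_c3 20 6713 49 = true := by decide +kernel
theorem v_c_c3_0_137 : ∀ k, 0 ≤ k → k < 6762 → chk_c_c3 (k * 20) = true := between_extend chk_c_c3 20 0 6713 49 (v_c_c3_0_136) r_c_c3_0_137

theorem r_c_c3_0_138 : allRange chk_c_c3 20 6762 49 = true := by decide +kernel
theorem v_c_c3_0_138 : ∀ k, 0 ≤ k → k < 6811 → chk_c_c3 (k * 20) = true := between_extend chk_c_c3 20 0 6762 49 (v_c_c3_0_137) r_c_c3_0_138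

theorem r_c_c3_0_139 : allRange chk_c_c3 20 6811 49 = true := by decide +kernel
theorem v_c_c3_0_139 : ∀ k, 0 ≤ k → k < 6860 → chk_c_c3 (k * 20) = true := between_extend chk_c_c3 20 0 6811 49 (v_c_c3_0_138) r_c_c3_0_139

theorem r_c_c3_0_140 : allRange chk_c_c3 20 6860 49 = true := by decide +kernel
theorem v_c_c3_0_140 : ∀ k, 0 ≤ k → k < 6909 → chk_c_c3 (k * 20) = true := between_extend chk_c_c3 20 0 6860 49 (v_c_c3_0_139) r_c_c3_0_140

theorem r_c_c3_0_141 : allRange chk_c_c3 20 6909 49 = true := by decide +kernel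
theorem v_c_c3_0_141 : ∀ k, 0 ≤ k → k < 6958 → chk_c_c3 (k * 20) = true := between_extend chk_c_c3 20 0 6909 49 (v_c_c3_0_140) r_c_c3_0_141

theorem r_c_c3_0_142 : allRange chk_c_c3 20 6958 49 = true := by decide +kernel
theorem v_c_c3_0_142 : ∀ k, 0 ≤ k → k < 7007 → chk_c_c3 (k * 20) = true := between_extend chk_c_c3 20 0 6958 49 (v_c_c3_0_141) r_c_c3_0_142

theorem r_c_c3_0_143 : allRange chk_c_c3 20 7007 49 = true := by decide +kernel
theorem v_c_c3_0_143 : ∀ k, 0 ≤ k → k < 7056 → chk_c_c3 (k * 20) = true := between_extend chk_c_c3 20 0 7007 49 (v_c_c3_0_142) r_c_c3_0_143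

theorem r_c_c3_0_144 : allRange chk_c_c3 20 7056 49 = true := by decide +kernel
theorem v_c_c3_0_144 : ∀ k, 0 ≤ k → k < 7105 → chk_c_c3 (k * 20) = true := between_extend chk_c_c3 20 0 7056 49 (v_c_c3_0_143) r_c_c3_0_144

theorem r_c_c3_0_145 : allRange chk_c_c3 20 7105 49 = true := by decide +kernel
theorem v_c_c3_0_145 : ∀ k, 0 ≤ k → k < 7154 → chk_c_c3 (k * 20) = true := between_extend chk_c_c3 20 0 7105 49 (v_c_c3_0_144) r_c_c3_0_145

theorem r_c_c3_0_146 : allRange chk_c_c3 20 7154 49 = true := by decide +kernel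
theorem v_c_c3_0_146 : ∀ k, 0 ≤ k → k < 7203 → chk_c_c3 (k * 20) = true := between_extend chk_c_c3 20 0 7154 49 (v_c_c3_0_145) r_c_c3_0_146

theorem r_c_c3_0_147 : allRange chk_c_c3 20 7203 49 = true := by decide +kernel
theorem v_c_c3_0_147 : ∀ k, 0 ≤ k → k < 7252 → chk_c_c3 (k * 20) = true := between_extend chk_c_c3 20 0 7203 49 (v_c_c3_0_146) r_c_c3_0_147

theorem r_c_c3_0_148 : allRange chk_c_c3 20 7252 49 = true := by decide +kernel
theorem v_c_c3_0_148 : ∀ k, 0 ≤ k → k < 7301 → chk_c_c3 (k * 20) = true := between_extend chk_c_c3 20 0 7252 49 (v_c_c3_0_147) r_c_c3_0_148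

theorem r_c_c3_0_149 : allRange chk_c_c3 20 7301 49 = true := by decide +kernel
theorem v_c_c3_0_149 : ∀ k, 0 ≤ k → k < 7350 → chk_c_c3 (k * 20) = true := between_extend chk_c_c3 20 0 7301 49 (v_c_c3_0_148) r_c_c3_0_149

theorem r_c_c3_0_150 : allRange chk_c_c3 20 7350 49 = true := by decide +kernel
theorem v_c_c3_0_150 : ∀ k, 0 ≤ k → k < 7399 → chk_c_c3 (k * 20) = true := between_extend chk_c_c3 20 0 7350 49 (v_c_c3_0_149) r_c_c3_0_150

theorem r_c_c3_0_151 : allRange chk_c_c3 20 7399 49 = true := by decide +kernel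
theorem v_c_c3_0_151 : ∀ k, 0 ≤ k → k < 7448 → chk_c_c3 (k * 20) = true := between_extend chk_c_c3 20 0 7399 49 (v_c_c3_0_150) r_c_c3_0_151

theorem r_c_c3_0_152 : allRange chk_c_c3 20 7448 49 = true := by decide +kernel
theorem v_c_c3_0_152 : ∀ k, 0 ≤ k → k < 7497 → chk_c_c3 (k * 20) = true := between_extend chk_c_c3 20 0 7448 49 (v_c_c3_0_151) r_c_c3_0_152

theorem r_c_c3_0_153 : allRange chk_c_c3 20 7497 49 = true := by decide +kernel
theorem v_c_c3_0_153 : ∀ k, 0 ≤ k → k < 7546 → chk_c_c3 (k * 20) = true := between_extend chk_c_c3 20 0 7497 49 (v_c_c3_0_152) r_c_c3_0_153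

theorem r_c_c3_0_154 : allRange chk_c_c3 20 7546 49 = true := by decide +kernel
theorem v_c_c3_0_154 : ∀ k, 0 ≤ k → k < 7595 → chk_c_c3 (k * 20) = true := between_extend chk_c_c3 20 0 7546 49 (v_c_c3_0_153) r_c_c3_0_154

theorem r_c_c3_0_155 : allRange chk_c_c3 20 7595 49 = true := by decide +kernel
theorem v_c_c3_0_155 : ∀ k, 0 ≤ k → k < 7644 → chk_c_c3 (k * 20) = true := between_extend chk_c_c3 20 0 7595 49 (v_c_c3_0_154) r_c_c3_0_155

theorem r_c_c3_0_156 : allRange chk_c_c3 20 7644 49 = true := by decide +kernel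
theorem v_c_c3_0_156 : ∀ k, 0 ≤ k → k < 7693 → chk_c_c3 (k * 20) = true := between_extend chk_c_c3 20 0 7644 49 (v_c_c3_0_155) r_c_c3_0_156

theorem r_c_c3_0_157 : allRange chk_c_c3 20 7693 49 = true := by decide +kernel
theorem v_c_c3_0_157 : ∀ k, 0 ≤ k → k < 7742 → chk_c_c3 (k * 20) = true := between_extend chk_c_c3 20 0 7693 49 (v_c_c3_0_156) r_c_c3_0_157

theorem r_c_c3_0_158 : allRange chk_c_c3 20 7742 49 = true := by decide +kernel
theorem v_c_c3_0_158 : ∀ k, 0 ≤ k → k < 7791 → chk_c_c3 (k * 20) = true := between_extend chk_c_c3 20 0 7742 49 (v_c_c3_0_157) r_c_c3_0_158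

theorem r_c_c3_0_159 : allRange chk_c_c3 20 7791 49 = true := by decide +kernel
theorem v_c_c3_0_159 : ∀ k, 0 ≤ k → k < 7840 → chk_c_c3 (k * 20) = true := between_extend chk_c_c3 20 0 7791 49 (v_c_c3_0_158) r_c_c3_0_159

theorem r_c_c3_0_160 : allRange chk_c_c3 20 7840 49 = true := by decide +kernel
theorem v_c_c3_0_160 : ∀ k, 0 ≤ k → k < 7889 → chk_c_c3 (k * 20) = true := between_extend chk_c_c3 20 0 7840 49 (v_c_c3_0_159) r_c_c3_0_160

theorem r_c_c3_0_161 : allRange chk_c_c3 20 7889 49 = true := by decide +kernel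
theorem v_c_c3_0_161 : ∀ k, 0 ≤ k → k < 7938 → chk_c_c3 (k * 20) = true := between_extend chk_c_c3 20 0 7889 49 (v_c_c3_0_160) r_c_c3_0_161

theorem r_c_c3_0_162 : allRange chk_c_c3 20 7938 49 = true := by decide +kernel
theorem v_c_c3_0_162 : ∀ k, 0 ≤ k → k < 7987 → chk_c_c3 (k * 20) = true := between_extend chk_c_c3 20 0 7938 49 (v_c_c3_0_161) r_c_c3_0_162

theorem r_c_c3_0_163 : allRange chk_c_c3 20 7987 49 = true := by decide +kernel
theorem v_c_c3_0_163 : ∀ k, 0 ≤ k → k < 8036 → chk_c_c3 (k * 20) = true := between_extend chk_c_c3 20 0 7987 49 (v_c_c3_0_162) r_c_c3_0_163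

theorem r_c_c3_0_164 : allRange chk_c_c3 20 8036 49 = true := by decide +kernel
theorem v_c_c3_0_164 : ∀ k, 0 ≤ k → k < 8085 → chk_c_c3 (k * 20) = true := between_extend chk_c_c3 20 0 8036 49 (v_c_c3_0_163) r_c_c3_0_164

theorem r_c_c3_0_165 : allRange chk_c_c3 20 8085 49 = true := by decide +kernel
theorem v_c_c3_0_165 : ∀ k, 0 ≤ k → k < 8134 → chk_c_c3 (k * 20) = true := between_extend chk_c_c3 20 0 8085 49 (v_c_c3_0_164) r_c_c3_0_165

theorem r_c_c3_0_166 : allRange chk_c_c3 20 8134 49 = true := by decide +kernel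
theorem v_c_c3_0_166 : ∀ k, 0 ≤ k → k < 8183 → chk_c_c3 (k * 20) = true := between_extend chk_c_c3 20 0 8134 49 (v_c_c3_0_165) r_c_c3_0_166

theorem r_c_c3_0_167 : allRange chk_c_c3 20 8183 49 = true := by decide +kernel
theorem v_c_c3_0_167 : ∀ k, 0 ≤ k → k < 8232 → chk_c_c3 (k * 20) = true := between_extend chk_c_c3 20 0 8183 49 (v_c_c3_0_166) r_c_c3_0_167

theorem r_c_c3_0_168 : allRange chk_c_c3 20 8232 49 = true := by decide +kernel
theorem v_c_c3_0_168 : ∀ k, 0 ≤ k → k < 8281 → chk_c_c3 (k * 20) = true := between_extend chk_c_c3 20 0 8232 49 (v_c_c3_0_167) r_c_c3_0_168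

theorem r_c_c3_0_169 : allRange chk_c_c3 20 8281 49 = true := by decide +kernel
theorem v_c_c3_0_169 : ∀ k, 0 ≤ k → k < 8330 → chk_c_c3 (k * 20) = true := between_extend chk_c_c3 20 0 8281 49 (v_c_c3_0_168) r_c_c3_0_169

theorem r_c_c3_0_170 : allRange chk_c_c3 20 8330 49 = true := by decide +kernel
theorem v_c_c3_0_170 : ∀ k, 0 ≤ k → k < 8379 → chk_c_c3 (k * 20) = true := between_extend chk_c_c3 20 0 8330 49 (v_c_c3_0_169) r_c_c3_0_170

theorem r_c_c3_0_171 : allRange chk_c_c3 20 8379 49 = true := by decide +kernel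
theorem v_c_c3_0_171 : ∀ k, 0 ≤ k → k < 8428 → chk_c_c3 (k * 20) = true := between_extend chk_c_c3 20 0 8379 49 (v_c_c3_0_170) r_c_c3_0_171

theorem r_c_c3_0_172 : allRange chk_c_c3 20 8428 49 = true := by decide +kernel
theorem v_c_c3_0_172 : ∀ k, 0 ≤ k → k < 8477 → chk_c_c3 (k * 20) = true := between_extend chk_c_c3 20 0 8428 49 (v_c_c3_0_171) r_c_c3_0_172

theorem r_c_c3_0_173 : allRange chk_c_c3 20 8477 49 = true := by decide +kernel
theorem v_c_c3_0_173 : ∀ k, 0 ≤ k → k < 8526 → chk_c_c3 (k * 20) = true := between_extend chk_c_c3 20 0 8477 49 (v_c_c3_0_172) r_c_c3_0_173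

theorem r_c_c3_0_174 : allRange chk_c_c3 20 8526 49 = true := by decide +kernel
theorem v_c_c3_0_174 : ∀ k, 0 ≤ k → k < 8575 → chk_c_c3 (k * 20) = true := between_extend chk_c_c3 20 0 8526 49 (v_c_c3_0_173) r_c_c3_0_174

theorem r_c_c3_0_175 : allRange chk_c_c3 20 8575 49 = true := by decide +kernel
theorem v_c_c3_0_175 : ∀ k, 0 ≤ k → k < 8624 → chk_c_c3 (k * 20) = true := between_extend chk_c_c3 20 0 8575 49 (v_c_c3_0_174) r_c_c3_0_175

theorem r_c_c3_0_176 : allRange chk_c_c3 20 8624 49 = true := by decide +kernel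
theorem v_c_c3_0_176 : ∀ k, 0 ≤ k → k < 8673 → chk_c_c3 (k * 20) = true := between_extend chk_c_c3 20 0 8624 49 (v_c_c3_0_175) r_c_c3_0_176

theorem r_c_c3_0_177 : allRange chk_c_c3 20 8673 49 = true := by decide +kernel
theorem v_c_c3_0_177 : ∀ k, 0 ≤ k → k < 8722 → chk_c_c3 (k * 20) = true := between_extend chk_c_c3 20 0 8673 49 (v_c_c3_0_176) r_c_c3_0_177

theorem r_c_c3_0_178 : allRange chk_c_c3 20 8722 49 = true := by decide +kernel
theorem v_c_c3_0_178 : ∀ k, 0 ≤ k → k < 8771 → chk_c_c3 (k * 20) = true := between_extend chk_c_c3 20 0 8722 49 (v_c_c3_0_177) r_c_c3_0_178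

theorem r_c_c3_0_179 : allRange chk_c_c3 20 8771 49 = true := by decide +kernel
theorem v_c_c3_0_179 : ∀ k, 0 ≤ k → k < 8820 → chk_c_c3 (k * 20) = true := between_extend chk_c_c3 20 0 8771 49 (v_c_c3_0_178) r_c_c3_0_179

theorem r_c_c3_0_180 : allRange chk_c_c3 20 8820 49 = true := by decide +kernel
theorem v_c_c3_0_180 : ∀ k, 0 ≤ k → k < 8869 → chk_c_c3 (k * 20) = true := between_extend chk_c_c3 20 0 8820 49 (v_c_c3_0_179) r_c_c3_0_180

theorem r_c_c3_0_181 : allRange chk_c_c3 20 8869 49 = true := by decide +kernel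
theorem v_c_c3_0_181 : ∀ k, 0 ≤ k → k < 8918 → chk_c_c3 (k * 20) = true := between_extend chk_c_c3 20 0 8869 49 (v_c_c3_0_180) r_c_c3_0_181

theorem r_c_c3_0_182 : allRange chk_c_c3 20 8918 49 = true := by decide +kernel
theorem v_c_c3_0_182 : ∀ k, 0 ≤ k → k < 8967 → chk_c_c3 (k * 20) = true := between_extend chk_c_c3 20 0 8918 49 (v_c_c3_0_181) r_c_c3_0_182

theorem r_c_c3_0_183 : allRange chk_c_c3 20 8967 49 = true := by decide +kernel
theorem v_c_c3_0_183 : ∀ k, 0 ≤ k → k < 9016 → chk_c_c3 (k * 20) = true := between_extend chk_c_c3 20 0 8967 49 (v_c_c3_0_182) r_c_c3_0_183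

theorem r_c_c3_0_184 : allRange chk_c_c3 20 9016 49 = true := by decide +kernel
theorem v_c_c3_0_184 : ∀ k, 0 ≤ k → k < 9065 → chk_c_c3 (k * 20) = true := between_extend chk_c_c3 20 0 9016 49 (v_c_c3_0_183) r_c_c3_0_184

theorem r_c_c3_0_185 : allRange chk_c_c3 20 9065 49 = true := by decide +kernel
theorem v_c_c3_0_185 : ∀ k, 0 ≤ k → k < 9114 → chk_c_c3 (k * 20) = true := between_extend chk_c_c3 20 0 9065 49 (v_c_c3_0_184) r_c_c3_0_185

theorem r_c_c3_0_186 : allRange chk_c_c3 20 9114 49 = true := by decide +kernel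
theorem v_c_c3_0_186 : ∀ k, 0 ≤ k → k < 9163 → chk_c_c3 (k * 20) = true := between_extend chk_c_c3 20 0 9114 49 (v_c_c3_0_185) r_c_c3_0_186

theorem r_c_c3_0_187 : allRange chk_c_c3 20 9163 49 = true := by decide +kernel
theorem v_c_c3_0_187 : ∀ k, 0 ≤ k → k < 9212 → chk_c_c3 (k * 20) = true := between_extend chk_c_c3 20 0 9163 49 (v_c_c3_0_186) r_c_c3_0_187

theorem r_c_c3_0_188 : allRange chk_c_c3 20 9212 49 = true := by decide +kernel
theorem v_c_c3_0_188 : ∀ k, 0 ≤ k → k < 9261 → chk_c_c3 (k * 20) = true := between_extend chk_c_c3 20 0 9212 49 (v_c_c3_0_187) r_c_c3_0_188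

theorem r_c_c3_0_189 : allRange chk_c_c3 20 9261 49 = true := by decide +kernel
theorem v_c_c3_0_189 : ∀ k, 0 ≤ k → k < 9310 → chk_c_c3 (k * 20) = true := between_extend chk_c_c3 20 0 9261 49 (v_c_c3_0_188) r_c_c3_0_189

theorem r_c_c3_0_190 : allRange chk_c_c3 20 9310 49 = true := by decide +kernel
theorem v_c_c3_0_190 : ∀ k, 0 ≤ k → k < 9359 → chk_c_c3 (k * 20) = true := between_extend chk_c_c3 20 0 9310 49 (v_c_c3_0_189) r_c_c3_0_190

theorem r_c_c3_0_191 : allRange chk_c_c3 20 9359 49 = true := by decide +kernel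
theorem v_c_c3_0_191 : ∀ k, 0 ≤ k → k < 9408 → chk_c_c3 (k * 20) = true := between_extend chk_c_c3 20 0 9359 49 (v_c_c3_0_190) r_c_c3_0_191

theorem r_c_c3_0_192 : allRange chk_c_c3 20 9408 49 = true := by decide +kernel
theorem v_c_c3_0_192 : ∀ k, 0 ≤ k → k < 9457 → chk_c_c3 (k * 20) = true := between_extend chk_c_c3 20 0 9408 49 (v_c_c3_0_191) r_c_c3_0_192

theorem r_c_c3_0_193 : allRange chk_c_c3 20 9457 49 = true := by decide +kernel
theorem v_c_c3_0_193 : ∀ k, 0 ≤ k → k < 9506 → chk_c_c3 (k * 20) = true := between_extend chk_c_c3 20 0 9457 49 (v_c_c3_0_192) r_c_c3_0_193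

theorem r_c_c3_0_194 : allRange chk_c_c3 20 9506 49 = true := by decide +kernel
theorem v_c_c3_0_194 : ∀ k, 0 ≤ k → k < 9555 → chk_c_c3 (k * 20) = true := between_extend chk_c_c3 20 0 9506 49 (v_c_c3_0_193) r_c_c3_0_194

theorem r_c_c3_0_195 : allRange chk_c_c3 20 9555 49 = true := by decide +kernel
theorem v_c_c3_0_195 : ∀ k, 0 ≤ k → k < 9604 → chk_c_c3 (k * 20) = true := between_extend chk_c_c3 20 0 9555 49 (v_c_c3_0_194) r_c_c3_0_195

theorem r_c_c3_0_196 : allRange chk_c_c3 20 9604 49 = true := by decide +kernel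
theorem v_c_c3_0_196 : ∀ k, 0 ≤ k → k < 9653 → chk_c_c3 (k * 20) = true := between_extend chk_c_c3 20 0 9604 49 (v_c_c3_0_195) r_c_c3_0_196

theorem r_c_c3_0_197 : allRange chk_c_c3 20 9653 49 = true := by decide +kernel
theorem v_c_c3_0_197 : ∀ k, 0 ≤ k → k < 9702 → chk_c_c3 (k * 20) = true := between_extend chk_c_c3 20 0 9653 49 (v_c_c3_0_196) r_c_c3_0_197

theorem r_c_c3_0_198 : allRange chk_c_c3 20 9702 49 = true := by decide +kernel
theorem v_c_c3_0_198 : ∀ k, 0 ≤ k → k < 9751 → chk_c_c3 (k * 20) = true := between_extend chk_c_c3 20 0 9702 49 (v_c_c3_0_197) r_c_c3_0_198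

theorem r_c_c3_0_199 : allRange chk_c_c3 20 9751 49 = true := by decide +kernel
theorem v_c_c3_0_199 : ∀ k, 0 ≤ k → k < 9800 → chk_c_c3 (k * 20) = true := between_extend chk_c_c3 20 0 9751 49 (v_c_c3_0_198) r_c_c3_0_199

theorem r_c_c3_0_200 : allRange chk_c_c3 20 9800 49 = true := by decide +kernel
theorem v_c_c3_0_200 : ∀ k, 0 ≤ k → k < 9849 → chk_c_c3 (k * 20) = true := between_extend chk_c_c3 20 0 9800 49 (v_c_c3_0_199) r_c_c3_0_200

theorem r_c_c3_0_201 : allRange chk_c_c3 20 9849 49 = true := by decide +kernel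
theorem v_c_c3_0_201 : ∀ k, 0 ≤ k → k < 9898 → chk_c_c3 (k * 20) = true := between_extend chk_c_c3 20 0 9849 49 (v_c_c3_0_200) r_c_c3_0_201

theorem r_c_c3_0_202 : allRange chk_c_c3 20 9898 49 = true := by decide +kernel
theorem v_c_c3_0_202 : ∀ k, 0 ≤ k → k < 9947 → chk_c_c3 (k * 20) = true := between_extend chk_c_c3 20 0 9898 49 (v_c_c3_0_201) r_c_c3_0_202

theorem r_c_c3_0_203 : allRange chk_c_c3 20 9947 49 = true := by decide +kernel
theorem v_c_c3_0_203 : ∀ k, 0 ≤ k → k < 9996 → chk_c_c3 (k * 20) = true := between_extend chk_c_c3 20 0 9947 49 (v_c_c3_0_202) r_c_c3_0_203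

theorem r_c_c3_0_204 : allRange chk_c_c3 20 9996 49 = true := by decide +kernel
theorem v_c_c3_0_204 : ∀ k, 0 ≤ k → k < 10045 → chk_c_c3 (k * 20) = true := between_extend chk_c_c3 20 0 9996 49 (v_c_c3_0_203) r_c_c3_0_204

theorem r_c_c3_0_205 : allRange chk_c_c3 20 10045 49 = true := by decide +kernel
theorem v_c_c3_0_205 : ∀ k, 0 ≤ k → k < 10094 → chk_c_c3 (k * 20) = true := between_extend chk_c_c3 20 0 10045 49 (v_c_c3_0_204) r_c_c3_0_205

theorem r_c_c3_0_206 : allRange chk_c_c3 20 10094 49 = true := by decide +kernel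
theorem v_c_c3_0_206 : ∀ k, 0 ≤ k → k < 10143 → chk_c_c3 (k * 20) = true := between_extend chk_c_c3 20 0 10094 49 (v_c_c3_0_205) r_c_c3_0_206

theorem r_c_c3_0_207 : allRange chk_c_c3 20 10143 49 = true := by decide +kernel
theorem v_c_c3_0_207 : ∀ k, 0 ≤ k → k < 10192 → chk_c_c3 (k * 20) = true := between_extend chk_c_c3 20 0 10143 49 (v_c_c3_0_206) r_c_c3_0_207

theorem r_c_c3_0_208 : allRange chk_c_c3 20 10192 49 = true := by decide +kernel
theorem v_c_c3_0_208 : ∀ k, 0 ≤ k → k < 10241 → chk_c_c3 (k * 20) = true := between_extend chk_c_c3 20 0 10192 49 (v_c_c3_0_207) r_c_c3_0_208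

theorem r_c_c3_0_209 : allRange chk_c_c3 20 10241 49 = true := by decide +kernel
theorem v_c_c3_0_209 : ∀ k, 0 ≤ k → k < 10290 → chk_c_c3 (k * 20) = true := between_extend chk_c_c3 20 0 10241 49 (v_c_c3_0_208) r_c_c3_0_209

theorem r_c_c3_0_210 : allRange chk_c_c3 20 10290 49 = true := by decide +kernel
theorem v_c_c3_0_210 : ∀ k, 0 ≤ k → k < 10339 → chk_c_c3 (k * 20) = true := between_extend chk_c_c3 20 0 10290 49 (v_c_c3_0_209) r_c_c3_0_210

theorem r_c_c3_0_211 : allRange chk_c_c3 20 10339 49 = true := by decide +kernel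
theorem v_c_c3_0_211 : ∀ k, 0 ≤ k → k < 10388 → chk_c_c3 (k * 20) = true := between_extend chk_c_c3 20 0 10339 49 (v_c_c3_0_210) r_c_c3_0_211

theorem r_c_c3_0_212 : allRange chk_c_c3 20 10388 49 = true := by decide +kernel
theorem v_c_c3_0_212 : ∀ k, 0 ≤ k → k < 10437 → chk_c_c3 (k * 20) = true := between_extend chk_c_c3 20 0 10388 49 (v_c_c3_0_211) r_c_c3_0_212

theorem r_c_c3_0_213 : allRange chk_c_c3 20 10437 49 = true := by decide +kernel
theorem v_c_c3_0_213 : ∀ k, 0 ≤ k → k < 10486 → chk_c_c3 (k * 20) = true := between_extend chk_c_c3 20 0 10437 49 (v_c_c3_0_212) r_c_c3_0_213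

theorem r_c_c3_0_214 : allRange chk_c_c3 20 10486 49 = true := by decide +kernel
theorem v_c_c3_0_214 : ∀ k, 0 ≤ k → k < 10535 → chk_c_c3 (k * 20) = true := between_extend chk_c_c3 20 0 10486 49 (v_c_c3_0_213) r_c_c3_0_214

theorem r_c_c3_0_215 : allRange chk_c_c3 20 10535 49 = true := by decide +kernel
theorem v_c_c3_0_215 : ∀ k, 0 ≤ k → k < 10584 → chk_c_c3 (k * 20) = true := between_extend chk_c_c3 20 0 10535 49 (v_c_c3_0_214) r_c_c3_0_215

theorem r_c_c3_0_216 : allRange chk_c_c3 20 10584 49 = true := by decide +kernel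
theorem v_c_c3_0_216 : ∀ k, 0 ≤ k → k < 10633 → chk_c_c3 (k * 20) = true := between_extend chk_c_c3 20 0 10584 49 (v_c_c3_0_215) r_c_c3_0_216

theorem r_c_c3_0_217 : allRange chk_c_c3 20 10633 49 = true := by decide +kernel
theorem v_c_c3_0_217 : ∀ k, 0 ≤ k → k < 10682 → chk_c_c3 (k * 20) = true := between_extend chk_c_c3 20 0 10633 49 (v_c_c3_0_216) r_c_c3_0_217

theorem r_c_c3_0_218 : allRange chk_c_c3 20 10682 49 = true := by decide +kernel
theorem v_c_c3_0_218 : ∀ k, 0 ≤ k → k < 10731 → chk_c_c3 (k * 20) = true := between_extend chk_c_c3 20 0 10682 49 (v_c_c3_0_217) r_c_c3_0_218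

theorem r_c_c3_0_219 : allRange chk_c_c3 20 10731 49 = true := by decide +kernel
theorem v_c_c3_0_219 : ∀ k, 0 ≤ k → k < 10780 → chk_c_c3 (k * 20) = true := between_extend chk_c_c3 20 0 10731 49 (v_c_c3_0_218) r_c_c3_0_219

theorem r_c_c3_0_220 : allRange chk_c_c3 20 10780 49 = true := by decide +kernel
theorem v_c_c3_0_220 : ∀ k, 0 ≤ k → k < 10829 → chk_c_c3 (k * 20) = true := between_extend chk_c_c3 20 0 10780 49 (v_c_c3_0_219) r_c_c3_0_220

theorem r_c_c3_0_221 : allRange chk_c_c3 20 10829 49 = true := by decide +kernel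
theorem v_c_c3_0_221 : ∀ k, 0 ≤ k → k < 10878 → chk_c_c3 (k * 20) = true := between_extend chk_c_c3 20 0 10829 49 (v_c_c3_0_220) r_c_c3_0_221

theorem r_c_c3_0_222 : allRange chk_c_c3 20 10878 49 = true := by decide +kernel
theorem v_c_c3_0_222 : ∀ k, 0 ≤ k → k < 10927 → chk_c_c3 (k * 20) = true := between_extend chk_c_c3 20 0 10878 49 (v_c_c3_0_221) r_c_c3_0_222

theorem r_c_c3_0_223 : allRange chk_c_c3 20 10927 49 = true := by decide +kernel
theorem v_c_c3_0_223 : ∀ k, 0 ≤ k → k < 10976 → chk_c_c3 (k * 20) = true := between_extend chk_c_c3 20 0 10927 49 (v_c_c3_0_222) r_c_c3_0_223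

theorem r_c_c3_0_224 : allRange chk_c_c3 20 10976 49 = true := by decide +kernel
theorem v_c_c3_0_224 : ∀ k, 0 ≤ k → k < 11025 → chk_c_c3 (k * 20) = true := between_extend chk_c_c3 20 0 10976 49 (v_c_c3_0_223) r_c_c3_0_224

theorem r_c_c3_0_225 : allRange chk_c_c3 20 11025 49 = true := by decide +kernel
theorem v_c_c3_0_225 : ∀ k, 0 ≤ k → k < 11074 → chk_c_c3 (k * 20) = true := between_extend chk_c_c3 20 0 11025 49 (v_c_c3_0_224) r_c_c3_0_225

theorem r_c_c3_0_226 : allRange chk_c_c3 20 11074 49 = true := by decide +kernel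
theorem v_c_c3_0_226 : ∀ k, 0 ≤ k → k < 11123 → chk_c_c3 (k * 20) = true := between_extend chk_c_c3 20 0 11074 49 (v_c_c3_0_225) r_c_c3_0_226

theorem r_c_c3_0_227 : allRange chk_c_c3 20 11123 49 = true := by decide +kernel
theorem v_c_c3_0_227 : ∀ k, 0 ≤ k → k < 11172 → chk_c_c3 (k * 20) = true := between_extend chk_c_c3 20 0 11123 49 (v_c_c3_0_226) r_c_c3_0_227

theorem r_c_c3_0_228 : allRange chk_c_c3 20 11172 49 = true := by decide +kernel
theorem v_c_c3_0_228 : ∀ k, 0 ≤ k → k < 11221 → chk_c_c3 (k * 20) = true := between_extend chk_c_c3 20 0 11172 49 (v_c_c3_0_227) r_c_c3_0_228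

theorem r_c_c3_0_229 : allRange chk_c_c3 20 11221 49 = true := by decide +kernel
theorem v_c_c3_0_229 : ∀ k, 0 ≤ k → k < 11270 → chk_c_c3 (k * 20) = true := between_extend chk_c_c3 20 0 11221 49 (v_c_c3_0_228) r_c_c3_0_229

theorem r_c_c3_0_230 : allRange chk_c_c3 20 11270 49 = true := by decide +kernel
theorem v_c_c3_0_230 : ∀ k, 0 ≤ k → k < 11319 → chk_c_c3 (k * 20) = true := between_extend chk_c_c3 20 0 11270 49 (v_c_c3_0_229) r_c_c3_0_230

theorem r_c_c3_0_231 : allRange chk_c_c3 20 11319 49 = true := by decide +kernel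
theorem v_c_c3_0_231 : ∀ k, 0 ≤ k → k < 11368 → chk_c_c3 (k * 20) = true := between_extend chk_c_c3 20 0 11319 49 (v_c_c3_0_230) r_c_c3_0_231

theorem r_c_c3_0_232 : allRange chk_c_c3 20 11368 49 = true := by decide +kernel
theorem v_c_c3_0_232 : ∀ k, 0 ≤ k → k < 11417 → chk_c_c3 (k * 20) = true := between_extend chk_c_c3 20 0 11368 49 (v_c_c3_0_231) r_c_c3_0_232

theorem r_c_c3_0_233 : allRange chk_c_c3 20 11417 49 = true := by decide +kernel
theorem v_c_c3_0_233 : ∀ k, 0 ≤ k → k < 11466 → chk_c_c3 (k * 20) = true := between_extend chk_c_c3 20 0 11417 49 (v_c_c3_0_232) r_c_c3_0_233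

theorem r_c_c3_0_234 : allRange chk_c_c3 20 11466 49 = true := by decide +kernel
theorem v_c_c3_0_234 : ∀ k, 0 ≤ k → k < 11515 → chk_c_c3 (k * 20) = true := between_extend chk_c_c3 20 0 11466 49 (v_c_c3_0_233) r_c_c3_0_234

theorem r_c_c3_0_235 : allRange chk_c_c3 20 11515 49 = true := by decide +kernel
theorem v_c_c3_0_235 : ∀ k, 0 ≤ k → k < 11564 → chk_c_c3 (k * 20) = true := between_extend chk_c_c3 20 0 11515 49 (v_c_c3_0_234) r_c_c3_0_235

theorem r_c_c3_0_236 : allRange chk_c_c3 20 11564 49 = true := by decide +kernel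
theorem v_c_c3_0_236 : ∀ k, 0 ≤ k → k < 11613 → chk_c_c3 (k * 20) = true := between_extend chk_c_c3 20 0 11564 49 (v_c_c3_0_235) r_c_c3_0_236

theorem r_c_c3_0_237 : allRange chk_c_c3 20 11613 49 = true := by decide +kernel
theorem v_c_c3_0_237 : ∀ k, 0 ≤ k → k < 11662 → chk_c_c3 (k * 20) = true := between_extend chk_c_c3 20 0 11613 49 (v_c_c3_0_236) r_c_c3_0_237

theorem r_c_c3_0_238 : allRange chk_c_c3 20 11662 49 = true := by decide +kernel
theorem v_c_c3_0_238 : ∀ k, 0 ≤ k → k < 11711 → chk_c_c3 (k * 20) = true := between_extend chk_c_c3 20 0 11662 49 (v_c_c3_0_237) r_c_c3_0_238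

theorem r_c_c3_0_239 : allRange chk_c_c3 20 11711 49 = true := by decide +kernel
theorem v_c_c3_0_239 : ∀ k, 0 ≤ k → k < 11760 → chk_c_c3 (k * 20) = true := between_extend chk_c_c3 20 0 11711 49 (v_c_c3_0_238) r_c_c3_0_239

theorem r_c_c3_0_240 : allRange chk_c_c3 20 11760 49 = true := by decide +kernel
theorem v_c_c3_0_240 : ∀ k, 0 ≤ k → k < 11809 → chk_c_c3 (k * 20) = true := between_extend chk_c_c3 20 0 11760 49 (v_c_c3_0_239) r_c_c3_0_240

theorem r_c_c3_0_241 : allRange chk_c_c3 20 11809 49 = true := by decide +kernel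
theorem v_c_c3_0_241 : ∀ k, 0 ≤ k → k < 11858 → chk_c_c3 (k * 20) = true := between_extend chk_c_c3 20 0 11809 49 (v_c_c3_0_240) r_c_c3_0_241

theorem r_c_c3_0_242 : allRange chk_c_c3 20 11858 49 = true := by decide +kernel
theorem v_c_c3_0_242 : ∀ k, 0 ≤ k → k < 11907 → chk_c_c3 (k * 20) = true := between_extend chk_c_c3 20 0 11858 49 (v_c_c3_0_241) r_c_c3_0_242

theorem r_c_c3_0_243 : allRange chk_c_c3 20 11907 49 = true := by decide +kernel
theorem v_c_c3_0_243 : ∀ k, 0 ≤ k → k < 11956 → chk_c_c3 (k * 20) = true := between_extend chk_c_c3 20 0 11907 49 (v_c_c3_0_242) r_c_c3_0_243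

theorem r_c_c3_0_244 : allRange chk_c_c3 20 11956 49 = true := by decide +kernel
theorem v_c_c3_0_244 : ∀ k, 0 ≤ k → k < 12005 → chk_c_c3 (k * 20) = true := between_extend chk_c_c3 20 0 11956 49 (v_c_c3_0_243) r_c_c3_0_244

theorem r_c_c3_0_245 : allRange chk_c_c3 20 12005 49 = true := by decide +kernel
theorem v_c_c3_0_245 : ∀ k, 0 ≤ k → k < 12054 → chk_c_c3 (k * 20) = true := between_extend chk_c_c3 20 0 12005 49 (v_c_c3_0_244) r_c_c3_0_245

theorem r_c_c3_0_246 : allRange chk_c_c3 20 12054 49 = true := by decide +kernel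
theorem v_c_c3_0_246 : ∀ k, 0 ≤ k → k < 12103 → chk_c_c3 (k * 20) = true := between_extend chk_c_c3 20 0 12054 49 (v_c_c3_0_245) r_c_c3_0_246

theorem r_c_c3_0_247 : allRange chk_c_c3 20 12103 49 = true := by decide +kernel
theorem v_c_c3_0_247 : ∀ k, 0 ≤ k → k < 12152 → chk_c_c3 (k * 20) = true := between_extend chk_c_c3 20 0 12103 49 (v_c_c3_0_246) r_c_c3_0_247

theorem r_c_c3_0_248 : allRange chk_c_c3 20 12152 49 = true := by decide +kernel
theorem v_c_c3_0_248 : ∀ k, 0 ≤ k → k < 12201 → chk_c_c3 (k * 20) = true := between_extend chk_c_c3 20 0 12152 49 (v_c_c3_0_247) r_c_c3_0_248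

theorem r_c_c3_0_249 : allRange chk_c_c3 20 12201 49 = true := by decide +kernel
theorem v_c_c3_0_249 : ∀ k, 0 ≤ k → k < 12250 → chk_c_c3 (k * 20) = true := between_extend chk_c_c3 20 0 12201 49 (v_c_c3_0_248) r_c_c3_0_249

theorem r_c_c3_0_250 : allRange chk_c_c3 20 12250 49 = true := by decide +kernel
theorem v_c_c3_0_250 : ∀ k, 0 ≤ k → k < 12299 → chk_c_c3 (k * 20) = true := between_extend chk_c_c3 20 0 12250 49 (v_c_c3_0_249) r_c_c3_0_250

theorem r_c_c3_0_251 : allRange chk_c_c3 20 12299 49 = true := by decide +kernel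
theorem v_c_c3_0_251 : ∀ k, 0 ≤ k → k < 12348 → chk_c_c3 (k * 20) = true := between_extend chk_c_c3 20 0 12299 49 (v_c_c3_0_250) r_c_c3_0_251

theorem r_c_c3_0_252 : allRange chk_c_c3 20 12348 49 = true := by decide +kernel
theorem v_c_c3_0_252 : ∀ k, 0 ≤ k → k < 12397 → chk_c_c3 (k * 20) = true := between_extend chk_c_c3 20 0 12348 49 (v_c_c3_0_251) r_c_c3_0_252

theorem r_c_c3_0_253 : allRange chk_c_c3 20 12397 49 = true := by decide +kernel
theorem v_c_c3_0_253 : ∀ k, 0 ≤ k → k < 12446 → chk_c_c3 (k * 20) = true := between_extend chk_c_c3 20 0 12397 49 (v_c_c3_0_252) r_c_c3_0_253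

theorem r_c_c3_0_254 : allRange chk_c_c3 20 12446 49 = true := by decide +kernel
theorem v_c_c3_0_254 : ∀ k, 0 ≤ k → k < 12495 → chk_c_c3 (k * 20) = true := between_extend chk_c_c3 20 0 12446 49 (v_c_c3_0_253) r_c_c3_0_254

theorem r_c_c3_0_255 : allRange chk_c_c3 20 12495 49 = true := by decide +kernel
theorem v_c_c3_0_255 : ∀ k, 0 ≤ k → k < 12544 → chk_c_c3 (k * 20) = true := between_extend chk_c_c3 20 0 12495 49 (v_c_c3_0_254) r_c_c3_0_255

theorem r_c_c3_0_256 : allRange chk_c_c3 20 12544 49 = true := by decide +kernel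
theorem v_c_c3_0_256 : ∀ k, 0 ≤ k → k < 12593 → chk_c_c3 (k * 20) = true := between_extend chk_c_c3 20 0 12544 49 (v_c_c3_0_255) r_c_c3_0_256

theorem r_c_c3_0_257 : allRange chk_c_c3 20 12593 49 = true := by decide +kernel
theorem v_c_c3_0_257 : ∀ k, 0 ≤ k → k < 12642 → chk_c_c3 (k * 20) = true := between_extend chk_c_c3 20 0 12593 49 (v_c_c3_0_256) r_c_c3_0_257

theorem r_c_c3_0_258 : allRange chk_c_c3 20 12642 49 = true := by decide +kernel
theorem v_c_c3_0_258 : ∀ k, 0 ≤ k → k < 12691 → chk_c_c3 (k * 20) = true := between_extend chk_c_c3 20 0 12642 49 (v_c_c3_0_257) r_c_c3_0_258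

theorem r_c_c3_0_259 : allRange chk_c_c3 20 12691 49 = true := by decide +kernel
theorem v_c_c3_0_259 : ∀ k, 0 ≤ k → k < 12740 → chk_c_c3 (k * 20) = true := between_extend chk_c_c3 20 0 12691 49 (v_c_c3_0_258) r_c_c3_0_259

theorem r_c_c3_0_260 : allRange chk_c_c3 20 12740 49 = true := by decide +kernel
theorem v_c_c3_0_260 : ∀ k, 0 ≤ k → k < 12789 → chk_c_c3 (k * 20) = true := between_extend chk_c_c3 20 0 12740 49 (v_c_c3_0_259) r_c_c3_0_260

theorem r_c_c3_0_261 : allRange chk_c_c3 20 12789 49 = true := by decide +kernel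
theorem v_c_c3_0_261 : ∀ k, 0 ≤ k → k < 12838 → chk_c_c3 (k * 20) = true := between_extend chk_c_c3 20 0 12789 49 (v_c_c3_0_260) r_c_c3_0_261

theorem r_c_c3_0_262 : allRange chk_c_c3 20 12838 49 = true := by decide +kernel
theorem v_c_c3_0_262 : ∀ k, 0 ≤ k → k < 12887 → chk_c_c3 (k * 20) = true := between_extend chk_c_c3 20 0 12838 49 (v_c_c3_0_261) r_c_c3_0_262

theorem r_c_c3_0_263 : allRange chk_c_c3 20 12887 49 = true := by decide +kernel
theorem v_c_c3_0_263 : ∀ k, 0 ≤ k → k < 12936 → chk_c_c3 (k * 20) = true := between_extend chk_c_c3 20 0 12887 49 (v_c_c3_0_262) r_c_c3_0_263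

theorem r_c_c3_0_264 : allRange chk_c_c3 20 12936 49 = true := by decide +kernel
theorem v_c_c3_0_264 : ∀ k, 0 ≤ k → k < 12985 → chk_c_c3 (k * 20) = true := between_extend chk_c_c3 20 0 12936 49 (v_c_c3_0_263) r_c_c3_0_264

theorem r_c_c3_0_265 : allRange chk_c_c3 20 12985 49 = true := by decide +kernel
theorem v_c_c3_0_265 : ∀ k, 0 ≤ k → k < 13034 → chk_c_c3 (k * 20) = true := between_extend chk_c_c3 20 0 12985 49 (v_c_c3_0_264) r_c_c3_0_265

theorem r_c_c3_0_266 : allRange chk_c_c3 20 13034 49 = true := by decide +kernel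
theorem v_c_c3_0_266 : ∀ k, 0 ≤ k → k < 13083 → chk_c_c3 (k * 20) = true := between_extend chk_c_c3 20 0 13034 49 (v_c_c3_0_265) r_c_c3_0_266

theorem r_c_c3_0_267 : allRange chk_c_c3 20 13083 49 = true := by decide +kernel
theorem v_c_c3_0_267 : ∀ k, 0 ≤ k → k < 13132 → chk_c_c3 (k * 20) = true := between_extend chk_c_c3 20 0 13083 49 (v_c_c3_0_266) r_c_c3_0_267

theorem r_c_c3_0_268 : allRange chk_c_c3 20 13132 49 = true := by decide +kernel
theorem v_c_c3_0_268 : ∀ k, 0 ≤ k → k < 13181 → chk_c_c3 (k * 20) = true := between_extend chk_c_c3 20 0 13132 49 (v_c_c3_0_267) r_c_c3_0_268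

theorem r_c_c3_0_269 : allRange chk_c_c3 20 13181 49 = true := by decide +kernel
theorem v_c_c3_0_269 : ∀ k, 0 ≤ k → k < 13230 → chk_c_c3 (k * 20) = true := between_extend chk_c_c3 20 0 13181 49 (v_c_c3_0_268) r_c_c3_0_269

theorem r_c_c3_0_270 : allRange chk_c_c3 20 13230 49 = true := by decide +kernel
theorem v_c_c3_0_270 : ∀ k, 0 ≤ k → k < 13279 → chk_c_c3 (k * 20) = true := between_extend chk_c_c3 20 0 13230 49 (v_c_c3_0_269) r_c_c3_0_270

theorem r_c_c3_0_271 : allRange chk_c_c3 20 13279 49 = true := by decide +kernel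
theorem v_c_c3_0_271 : ∀ k, 0 ≤ k → k < 13328 → chk_c_c3 (k * 20) = true := between_extend chk_c_c3 20 0 13279 49 (v_c_c3_0_270) r_c_c3_0_271

theorem r_c_c3_0_272 : allRange chk_c_c3 20 13328 49 = true := by decide +kernel
theorem v_c_c3_0_272 : ∀ k, 0 ≤ k → k < 13377 → chk_c_c3 (k * 20) = true := between_extend chk_c_c3 20 0 13328 49 (v_c_c3_0_271) r_c_c3_0_272

theorem r_c_c3_0_273 : allRange chk_c_c3 20 13377 49 = true := by decide +kernel
theorem v_c_c3_0_273 : ∀ k, 0 ≤ k → k < 13426 → chk_c_c3 (k * 20) = true := between_extend chk_c_c3 20 0 13377 49 (v_c_c3_0_272) r_c_c3_0_273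

theorem r_c_c3_0_274 : allRange chk_c_c3 20 13426 49 = true := by decide +kernel
theorem v_c_c3_0_274 : ∀ k, 0 ≤ k → k < 13475 → chk_c_c3 (k * 20) = true := between_extend chk_c_c3 20 0 13426 49 (v_c_c3_0_273) r_c_c3_0_274

theorem r_c_c3_0_275 : allRange chk_c_c3 20 13475 49 = true := by decide +kernel
theorem v_c_c3_0_275 : ∀ k, 0 ≤ k → k < 13524 → chk_c_c3 (k * 20) = true := between_extend chk_c_c3 20 0 13475 49 (v_c_c3_0_274) r_c_c3_0_275

theorem r_c_c3_0_276 : allRange chk_c_c3 20 13524 49 = true := by decide +kernel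
theorem v_c_c3_0_276 : ∀ k, 0 ≤ k → k < 13573 → chk_c_c3 (k * 20) = true := between_extend chk_c_c3 20 0 13524 49 (v_c_c3_0_275) r_c_c3_0_276

theorem r_c_c3_0_277 : allRange chk_c_c3 20 13573 49 = true := by decide +kernel
theorem v_c_c3_0_277 : ∀ k, 0 ≤ k → k < 13622 → chk_c_c3 (k * 20) = true := between_extend chk_c_c3 20 0 13573 49 (v_c_c3_0_276) r_c_c3_0_277

theorem r_c_c3_0_278 : allRange chk_c_c3 20 13622 49 = true := by decide +kernel
theorem v_c_c3_0_278 : ∀ k, 0 ≤ k → k < 13671 → chk_c_c3 (k * 20) = true := between_extend chk_c_c3 20 0 13622 49 (v_c_c3_0_277) r_c_c3_0_278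

theorem r_c_c3_0_279 : allRange chk_c_c3 20 13671 49 = true := by decide +kernel
theorem v_c_c3_0_279 : ∀ k, 0 ≤ k → k < 13720 → chk_c_c3 (k * 20) = true := between_extend chk_c_c3 20 0 13671 49 (v_c_c3_0_278) r_c_c3_0_279

theorem r_c_c3_0_280 : allRange chk_c_c3 20 13720 49 = true := by decide +kernel
theorem v_c_c3_0_280 : ∀ k, 0 ≤ k → k < 13769 → chk_c_c3 (k * 20) = true := between_extend chk_c_c3 20 0 13720 49 (v_c_c3_0_279) r_c_c3_0_280

theorem r_c_c3_0_281 : allRange chk_c_c3 20 13769 49 = true := by decide +kernel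
theorem v_c_c3_0_281 : ∀ k, 0 ≤ k → k < 13818 → chk_c_c3 (k * 20) = true := between_extend chk_c_c3 20 0 13769 49 (v_c_c3_0_280) r_c_c3_0_281

theorem r_c_c3_0_282 : allRange chk_c_c3 20 13818 49 = true := by decide +kernel
theorem v_c_c3_0_282 : ∀ k, 0 ≤ k → k < 13867 → chk_c_c3 (k * 20) = true := between_extend chk_c_c3 20 0 13818 49 (v_c_c3_0_281) r_c_c3_0_282

theorem r_c_c3_0_283 : allRange chk_c_c3 20 13867 49 = true := by decide +kernel
theorem v_c_c3_0_283 : ∀ k, 0 ≤ k → k < 13916 → chk_c_c3 (k * 20) = true := between_extend chk_c_c3 20 0 13867 49 (v_c_c3_0_282) r_c_c3_0_283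

theorem r_c_c3_0_284 : allRange chk_c_c3 20 13916 49 = true := by decide +kernel
theorem v_c_c3_0_284 : ∀ k, 0 ≤ k → k < 13965 → chk_c_c3 (k * 20) = true := between_extend chk_c_c3 20 0 13916 49 (v_c_c3_0_283) r_c_c3_0_284

theorem r_c_c3_0_285 : allRange chk_c_c3 20 13965 49 = true := by decide +kernel
theorem v_c_c3_0_285 : ∀ k, 0 ≤ k → k < 14014 → chk_c_c3 (k * 20) = true := between_extend chk_c_c3 20 0 13965 49 (v_c_c3_0_284) r_c_c3_0_285

theorem r_c_c3_0_286 : allRange chk_c_c3 20 14014 49 = true := by decide +kernel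
theorem v_c_c3_0_286 : ∀ k, 0 ≤ k → k < 14063 → chk_c_c3 (k * 20) = true := between_extend chk_c_c3 20 0 14014 49 (v_c_c3_0_285) r_c_c3_0_286

theorem r_c_c3_0_287 : allRange chk_c_c3 20 14063 49 = true := by decide +kernel
theorem v_c_c3_0_287 : ∀ k, 0 ≤ k → k < 14112 → chk_c_c3 (k * 20) = true := between_extend chk_c_c3 20 0 14063 49 (v_c_c3_0_286) r_c_c3_0_287

theorem r_c_c3_0_288 : allRange chk_c_c3 20 14112 49 = true := by decide +kernel
theorem v_c_c3_0_288 : ∀ k, 0 ≤ k → k < 14161 → chk_c_c3 (k * 20) = true := between_extend chk_c_c3 20 0 14112 49 (v_c_c3_0_287) r_c_c3_0_288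

theorem r_c_c3_0_289 : allRange chk_c_c3 20 14161 49 = true := by decide +kernel
theorem v_c_c3_0_289 : ∀ k, 0 ≤ k → k < 14210 → chk_c_c3 (k * 20) = true := between_extend chk_c_c3 20 0 14161 49 (v_c_c3_0_288) r_c_c3_0_289

theorem r_c_c3_0_290 : allRange chk_c_c3 20 14210 49 = true := by decide +kernel
theorem v_c_c3_0_290 : ∀ k, 0 ≤ k → k < 14259 → chk_c_c3 (k * 20) = true := between_extend chk_c_c3 20 0 14210 49 (v_c_c3_0_289) r_c_c3_0_290

theorem r_c_c3_0_291 : allRange chk_c_c3 20 14259 49 = true := by decide +kernel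
theorem v_c_c3_0_291 : ∀ k, 0 ≤ k → k < 14308 → chk_c_c3 (k * 20) = true := between_extend chk_c_c3 20 0 14259 49 (v_c_c3_0_290) r_c_c3_0_291

theorem r_c_c3_0_292 : allRange chk_c_c3 20 14308 49 = true := by decide +kernel
theorem v_c_c3_0_292 : ∀ k, 0 ≤ k → k < 14357 → chk_c_c3 (k * 20) = true := between_extend chk_c_c3 20 0 14308 49 (v_c_c3_0_291) r_c_c3_0_292

theorem r_c_c3_0_293 : allRange chk_c_c3 20 14357 49 = true := by decide +kernel
theorem v_c_c3_0_293 : ∀ k, 0 ≤ k → k < 14406 → chk_c_c3 (k * 20) = true := between_extend chk_c_c3 20 0 14357 49 (v_c_c3_0_292) r_c_c3_0_293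

theorem r_c_c3_0_294 : allRange chk_c_c3 20 14406 49 = true := by decide +kernel
theorem v_c_c3_0_294 : ∀ k, 0 ≤ k → k < 14455 → chk_c_c3 (k * 20) = true := between_extend chk_c_c3 20 0 14406 49 (v_c_c3_0_293) r_c_c3_0_294

theorem r_c_c3_0_295 : allRange chk_c_c3 20 14455 49 = true := by decide +kernel
theorem v_c_c3_0_295 : ∀ k, 0 ≤ k → k < 14504 → chk_c_c3 (k * 20) = true := between_extend chk_c_c3 20 0 14455 49 (v_c_c3_0_294) r_c_c3_0_295

theorem r_c_c3_0_296 : allRange chk_c_c3 20 14504 49 = true := by decide +kernel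
theorem v_c_c3_0_296 : ∀ k, 0 ≤ k → k < 14553 → chk_c_c3 (k * 20) = true := between_extend chk_c_c3 20 0 14504 49 (v_c_c3_0_295) r_c_c3_0_296

theorem r_c_c3_0_297 : allRange chk_c_c3 20 14553 49 = true := by decide +kernel
theorem v_c_c3_0_297 : ∀ k, 0 ≤ k → k < 14602 → chk_c_c3 (k * 20) = true := between_extend chk_c_c3 20 0 14553 49 (v_c_c3_0_296) r_c_c3_0_297

theorem r_c_c3_0_298 : allRange chk_c_c3 20 14602 49 = true := by decide +kernel
theorem v_c_c3_0_298 : ∀ k, 0 ≤ k → k < 14651 → chk_c_c3 (k * 20) = true := between_extend chk_c_c3 20 0 14602 49 (v_c_c3_0_297) r_c_c3_0_298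

theorem r_c_c3_0_299 : allRange chk_c_c3 20 14651 49 = true := by decide +kernel
theorem v_c_c3_0_299 : ∀ k, 0 ≤ k → k < 14700 → chk_c_c3 (k * 20) = true := between_extend chk_c_c3 20 0 14651 49 (v_c_c3_0_298) r_c_c3_0_299

theorem r_c_c3_0_300 : allRange chk_c_c3 20 14700 49 = true := by decide +kernel
theorem v_c_c3_0_300 : ∀ k, 0 ≤ k → k < 14749 → chk_c_c3 (k * 20) = true := between_extend chk_c_c3 20 0 14700 49 (v_c_c3_0_299) r_c_c3_0_300

theorem r_c_c3_0_301 : allRange chk_c_c3 20 14749 49 = true := by decide +kernel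
theorem v_c_c3_0_301 : ∀ k, 0 ≤ k → k < 14798 → chk_c_c3 (k * 20) = true := between_extend chk_c_c3 20 0 14749 49 (v_c_c3_0_300) r_c_c3_0_301

theorem r_c_c3_0_302 : allRange chk_c_c3 20 14798 49 = true := by decide +kernel
theorem v_c_c3_0_302 : ∀ k, 0 ≤ k → k < 14847 → chk_c_c3 (k * 20) = true := between_extend chk_c_c3 20 0 14798 49 (v_c_c3_0_301) r_c_c3_0_302

theorem r_c_c3_0_303 : allRange chk_c_c3 20 14847 49 = true := by decide +kernel
theorem v_c_c3_0_303 : ∀ k, 0 ≤ k → k < 14896 → chk_c_c3 (k * 20) = true := between_extend chk_c_c3 20 0 14847 49 (v_c_c3_0_302) r_c_c3_0_303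

theorem r_c_c3_0_304 : allRange chk_c_c3 20 14896 49 = true := by decide +kernel
theorem v_c_c3_0_304 : ∀ k, 0 ≤ k → k < 14945 → chk_c_c3 (k * 20) = true := between_extend chk_c_c3 20 0 14896 49 (v_c_c3_0_303) r_c_c3_0_304

theorem r_c_c3_0_305 : allRange chk_c_c3 20 14945 49 = true := by decide +kernel
theorem v_c_c3_0_305 : ∀ k, 0 ≤ k → k < 14994 → chk_c_c3 (k * 20) = true := between_extend chk_c_c3 20 0 14945 49 (v_c_c3_0_304) r_c_c3_0_305

theorem r_c_c3_0_306 : allRange chk_c_c3 20 14994 49 = true := by decide +kernel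
theorem v_c_c3_0_306 : ∀ k, 0 ≤ k → k < 15043 → chk_c_c3 (k * 20) = true := between_extend chk_c_c3 20 0 14994 49 (v_c_c3_0_305) r_c_c3_0_306

theorem r_c_c3_0_307 : allRange chk_c_c3 20 15043 49 = true := by decide +kernel
theorem v_c_c3_0_307 : ∀ k, 0 ≤ k → k < 15092 → chk_c_c3 (k * 20) = true := between_extend chk_c_c3 20 0 15043 49 (v_c_c3_0_306) r_c_c3_0_307

theorem r_c_c3_0_308 : allRange chk_c_c3 20 15092 49 = true := by decide +kernel
theorem v_c_c3_0_308 : ∀ k, 0 ≤ k → k < 15141 → chk_c_c3 (k * 20) = true := between_extend chk_c_c3 20 0 15092 49 (v_c_c3_0_307) r_c_c3_0_308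

theorem r_c_c3_0_309 : allRange chk_c_c3 20 15141 49 = true := by decide +kernel
theorem v_c_c3_0_309 : ∀ k, 0 ≤ k → k < 15190 → chk_c_c3 (k * 20) = true := between_extend chk_c_c3 20 0 15141 49 (v_c_c3_0_308) r_c_c3_0_309

theorem r_c_c3_0_310 : allRange chk_c_c3 20 15190 49 = true := by decide +kernel
theorem v_c_c3_0_310 : ∀ k, 0 ≤ k → k < 15239 → chk_c_c3 (k * 20) = true := between_extend chk_c_c3 20 0 15190 49 (v_c_c3_0_309) r_c_c3_0_310

theorem r_c_c3_0_311 : allRange chk_c_c3 20 15239 49 = true := by decide +kernel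
theorem v_c_c3_0_311 : ∀ k, 0 ≤ k → k < 15288 → chk_c_c3 (k * 20) = true := between_extend chk_c_c3 20 0 15239 49 (v_c_c3_0_310) r_c_c3_0_311

theorem r_c_c3_0_312 : allRange chk_c_c3 20 15288 49 = true := by decide +kernel
theorem v_c_c3_0_312 : ∀ k, 0 ≤ k → k < 15337 → chk_c_c3 (k * 20) = true := between_extend chk_c_c3 20 0 15288 49 (v_c_c3_0_311) r_c_c3_0_312

theorem r_c_c3_0_313 : allRange chk_c_c3 20 15337 49 = true := by decide +kernel
theorem v_c_c3_0_313 : ∀ k, 0 ≤ k → k < 15386 → chk_c_c3 (k * 20) = true := between_extend chk_c_c3 20 0 15337 49 (v_c_c3_0_312) r_c_c3_0_313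

theorem r_c_c3_0_314 : allRange chk_c_c3 20 15386 49 = true := by decide +kernel
theorem v_c_c3_0_314 : ∀ k, 0 ≤ k → k < 15435 → chk_c_c3 (k * 20) = true := between_extend chk_c_c3 20 0 15386 49 (v_c_c3_0_313) r_c_c3_0_314

theorem r_c_c3_0_315 : allRange chk_c_c3 20 15435 49 = true := by decide +kernel
theorem v_c_c3_0_315 : ∀ k, 0 ≤ k → k < 15484 → chk_c_c3 (k * 20) = true := between_extend chk_c_c3 20 0 15435 49 (v_c_c3_0_314) r_c_c3_0_315

theorem r_c_c3_0_316 : allRange chk_c_c3 20 15484 49 = true := by decide +kernel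
theorem v_c_c3_0_316 : ∀ k, 0 ≤ k → k < 15533 → chk_c_c3 (k * 20) = true := between_extend chk_c_c3 20 0 15484 49 (v_c_c3_0_315) r_c_c3_0_316

theorem r_c_c3_0_317 : allRange chk_c_c3 20 15533 49 = true := by decide +kernel
theorem v_c_c3_0_317 : ∀ k, 0 ≤ k → k < 15582 → chk_c_c3 (k * 20) = true := between_extend chk_c_c3 20 0 15533 49 (v_c_c3_0_316) r_c_c3_0_317

theorem r_c_c3_0_318 : allRange chk_c_c3 20 15582 49 = true := by decide +kernel
theorem v_c_c3_0_318 : ∀ k, 0 ≤ k → k < 15631 → chk_c_c3 (k * 20) = true := between_extend chk_c_c3 20 0 15582 49 (v_c_c3_0_317) r_c_c3_0_318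

theorem r_c_c3_0_319 : allRange chk_c_c3 20 15631 49 = true := by decide +kernel
theorem v_c_c3_0_319 : ∀ k, 0 ≤ k → k < 15680 → chk_c_c3 (k * 20) = true := between_extend chk_c_c3 20 0 15631 49 (v_c_c3_0_318) r_c_c3_0_319

theorem r_c_c3_0_320 : allRange chk_c_c3 20 15680 49 = true := by decide +kernel
theorem v_c_c3_0_320 : ∀ k, 0 ≤ k → k < 15729 → chk_c_c3 (k * 20) = true := between_extend chk_c_c3 20 0 15680 49 (v_c_c3_0_319) r_c_c3_0_320

theorem r_c_c3_0_321 : allRange chk_c_c3 20 15729 49 = true := by decide +kernel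
theorem v_c_c3_0_321 : ∀ k, 0 ≤ k → k < 15778 → chk_c_c3 (k * 20) = true := between_extend chk_c_c3 20 0 15729 49 (v_c_c3_0_320) r_c_c3_0_321

theorem r_c_c3_0_322 : allRange chk_c_c3 20 15778 49 = true := by decide +kernel
theorem v_c_c3_0_322 : ∀ k, 0 ≤ k → k < 15827 → chk_c_c3 (k * 20) = true := between_extend chk_c_c3 20 0 15778 49 (v_c_c3_0_321) r_c_c3_0_322

theorem r_c_c3_0_323 : allRange chk_c_c3 20 15827 9 = true := by decide +kernel
theorem v_c_c3_0_323 : ∀ k, 0 ≤ k → k < 15836 → chk_c_c3 (k * 20) = true := between_extend chk_c_c3 20 0 15827 9 (v_c_c3_0_322) r_c_c3_0_323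

theorem p_c_c3_0 : ∀ k, 0 ≤ k → k < 15836 → chk_c_c3 (k * 20) = true := v_c_c3_0_323

end Cfsg.Agent.Lib.Helper28_Y5FiW
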