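import Cfsg.Agent.Lib.Helper28_Y5FiWDef

set_option autoImplicit false
set_option linter.constructorNameAsVariable false
set_option Elab.async false

namespace Cfsg.Agent.Lib.Helper28_Y5FiW

open Cfsg.Agent.Lib.Helper28_CosetPerm

theorem r_braid_0_0 : allRange chk_braid 20 0 32 = true := by decide +kernel
theorem v_braid_0_0 : ∀ k, 0 ≤ k → k < 32 → chk_braid (k * 20) = true := between_extend chk_braid 20 0 0 32 (between_start chk_braid 20 0) r_braid_0_0

theorem r_braid_0_1 : allRange chk_braid 20 32 32 = true := by decide +kernel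
theorem v_braid_0_1 : ∀ k, 0 ≤ k → k < 64 → chk_braid (k * 20) = true := between_extend chk_braid 20 0 32 32 (v_braid_0_0) r_braid_0_1

theorem r_braid_0_2 : allRange chk_braid 20 64 32 = true := by decide +kernel
theorem v_braid_0_2 : ∀ k, 0 ≤ k → k < 96 → chk_braid (k * 20) = true := between_extend chk_braid 20 0 64 32 (v_braid_0_1) r_braid_0_2

theorem r_braid_0_3 : allRange chk_braid 20 96 32 = true := by decide +kernel
theorem v_braid_0_3 : ∀ k, 0 ≤ k → k < 128 → chk_braid (k * 20) = true := between_extend chk_braid 20 0 96 32 (v_braid_0_2) r_braid_0_3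

theorem r_braid_0_4 : allRange chk_braid 20 128 32 = true := by decide +kernel
theorem v_braid_0_4 : ∀ k, 0 ≤ k → k < 160 → chk_braid (k * 20) = true := between_extend chk_braid 20 0 128 32 (v_braid_0_3) r_braid_0_4

theorem r_braid_0_5 : allRange chk_braid 20 160 32 = true := by decide +kernel
theorem v_braid_0_5 : ∀ k, 0 ≤ k → k < 192 → chk_braid (k * 20) = true := between_extend chk_braid 20 0 160 32 (v_braid_0_4) r_braid_0_5

theorem r_braid_0_6 : allRange chk_braid 20 192 32 = true := by decide +kernel
theorem v_braid_0_6 : ∀ k, 0 ≤ k → k < 224 → chk_braid (k * 20) = true := between_extend chk_braid 20 0 192 32 (v_braid_0_5) r_braid_0_6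

theorem r_braid_0_7 : allRange chk_braid 20 224 32 = true := by decide +kernel
theorem v_braid_0_7 : ∀ k, 0 ≤ k → k < 256 → chk_braid (k * 20) = true := between_extend chk_braid 20 0 224 32 (v_braid_0_6) r_braid_0_7

theorem r_braid_0_8 : allRange chk_braid 20 256 32 = true := by decide +kernel
theorem v_braid_0_8 : ∀ k, 0 ≤ k → k < 288 → chk_braid (k * 20) = true := between_extend chk_braid 20 0 256 32 (v_braid_0_7) r_braid_0_8

theorem r_braid_0_9 : allRange chk_braid 20 288 32 = true := by decide +kernel
theorem v_braid_0_9 : ∀ k, 0 ≤ k → k < 320 → chk_braid (k * 20) = true := between_extend chk_braid 20 0 288 32 (v_braid_0_8) r_braid_0_9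

theorem r_braid_0_10 : allRange chk_braid 20 320 32 = true := by decide +kernel
theorem v_braid_0_10 : ∀ k, 0 ≤ k → k < 352 → chk_braid (k * 20) = true := between_extend chk_braid 20 0 320 32 (v_braid_0_9) r_braid_0_10

theorem r_braid_0_11 : allRange chk_braid 20 352 32 = true := by decide +kernel
theorem v_braid_0_11 : ∀ k, 0 ≤ k → k < 384 → chk_braid (k * 20) = true := between_extend chk_braid 20 0 352 32 (v_braid_0_10) r_braid_0_11

theorem r_braid_0_12 : allRange chk_braid 20 384 32 = true := by decide +kernel
theorem v_braid_0_12 : ∀ k, 0 ≤ k → k < 416 → chk_braid (k * 20) = true := between_extend chk_braid 20 0 384 32 (v_braid_0_11) r_braid_0_12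

theorem r_braid_0_13 : allRange chk_braid 20 416 32 = true := by decide +kernel
theorem v_braid_0_13 : ∀ k, 0 ≤ k → k < 448 → chk_braid (k * 20) = true := between_extend chk_braid 20 0 416 32 (v_braid_0_12) r_braid_0_13

theorem r_braid_0_14 : allRange chk_braid 20 448 32 = true := by decide +kernel
theorem v_braid_0_14 : ∀ k, 0 ≤ k → k < 480 → chk_braid (k * 20) = true := between_extend chk_braid 20 0 448 32 (v_braid_0_13) r_braid_0_14

theorem r_braid_0_15 : allRange chk_braid 20 480 32 = true := by decide +kernel
theorem v_braid_0_15 : ∀ k, 0 ≤ k → k < 512 → chk_braid (k * 20) = true := between_extend chk_braid 20 0 480 32 (v_braid_0_14) r_braid_0_15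

theorem r_braid_0_16 : allRange chk_braid 20 512 32 = true := by decide +kernel
theorem v_braid_0_16 : ∀ k, 0 ≤ k → k < 544 → chk_braid (k * 20) = true := between_extend chk_braid 20 0 512 32 (v_braid_0_15) r_braid_0_16

theorem r_braid_0_17 : allRange chk_braid 20 544 32 = true := by decide +kernel
theorem v_braid_0_17 : ∀ k, 0 ≤ k → k < 576 → chk_braid (k * 20) = true := between_extend chk_braid 20 0 544 32 (v_braid_0_16) r_braid_0_17

theorem r_braid_0_18 : allRange chk_braid 20 576 32 = true := by decide +kernel
theorem v_braid_0_18 : ∀ k, 0 ≤ k → k < 608 → chk_braid (k * 20) = true := between_extend chk_braid 20 0 576 32 (v_braid_0_17) r_braid_0_18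

theorem r_braid_0_19 : allRange chk_braid 20 608 32 = true := by decide +kernel
theorem v_braid_0_19 : ∀ k, 0 ≤ k → k < 640 → chk_braid (k * 20) = true := between_extend chk_braid 20 0 608 32 (v_braid_0_18) r_braid_0_19

theorem r_braid_0_20 : allRange chk_braid 20 640 32 = true := by decide +kernel
theorem v_braid_0_20 : ∀ k, 0 ≤ k → k < 672 → chk_braid (k * 20) = true := between_extend chk_braid 20 0 640 32 (v_braid_0_19) r_braid_0_20

theorem r_braid_0_21 : allRange chk_braid 20 672 32 = true := by decide +kernel
theorem v_braid_0_21 : ∀ k, 0 ≤ k → k < 704 → chk_braid (k * 20) = true := between_extend chk_braid 20 0 672 32 (v_braid_0_20) r_braid_0_21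

theorem r_braid_0_22 : allRange chk_braid 20 704 32 = true := by decide +kernel
theorem v_braid_0_22 : ∀ k, 0 ≤ k → k < 736 → chk_braid (k * 20) = true := between_extend chk_braid 20 0 704 32 (v_braid_0_21) r_braid_0_22

theorem r_braid_0_23 : allRange chk_braid 20 736 32 = true := by decide +kernel
theorem v_braid_0_23 : ∀ k, 0 ≤ k → k < 768 → chk_braid (k * 20) = true := between_extend chk_braid 20 0 736 32 (v_braid_0_22) r_braid_0_23

theorem r_braid_0_24 : allRange chk_braid 20 768 32 = true := by decide +kernel
theorem v_braid_0_24 : ∀ k, 0 ≤ k → k < 800 → chk_braid (k * 20) = true := between_extend chk_braid 20 0 768 32 (v_braid_0_23) r_braid_0_24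

theorem r_braid_0_25 : allRange chk_braid 20 800 32 = true := by decide +kernel
theorem v_braid_0_25 : ∀ k, 0 ≤ k → k < 832 → chk_braid (k * 20) = true := between_extend chk_braid 20 0 800 32 (v_braid_0_24) r_braid_0_25

theorem r_braid_0_26 : allRange chk_braid 20 832 32 = true := by decide +kernel
theorem v_braid_0_26 : ∀ k, 0 ≤ k → k < 864 → chk_braid (k * 20) = true := between_extend chk_braid 20 0 832 32 (v_braid_0_25) r_braid_0_26

theorem r_braid_0_27 : allRange chk_braid 20 864 32 = true := by decide +kernel
theorem v_braid_0_27 : ∀ k, 0 ≤ k → k < 896 → chk_braid (k * 20) = true := between_extend chk_braid 20 0 864 32 (v_braid_0_26) r_braid_0_27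

theorem r_braid_0_28 : allRange chk_braid 20 896 32 = true := by decide +kernel
theorem v_braid_0_28 : ∀ k, 0 ≤ k → k < 928 → chk_braid (k * 20) = true := between_extend chk_braid 20 0 896 32 (v_braid_0_27) r_braid_0_28

theorem r_braid_0_29 : allRange chk_braid 20 928 32 = true := by decide +kernel
theorem v_braid_0_29 : ∀ k, 0 ≤ k → k < 960 → chk_braid (k * 20) = true := between_extend chk_braid 20 0 928 32 (v_braid_0_28) r_braid_0_29

theorem r_braid_0_30 : allRange chk_braid 20 960 32 = true := by decide +kernel
theorem v_braid_0_30 : ∀ k, 0 ≤ k → k < 992 → chk_braid (k * 20) = true := between_extend chk_braid 20 0 960 32 (v_braid_0_29) r_braid_0_30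

theorem r_braid_0_31 : allRange chk_braid 20 992 32 = true := by decide +kernel
theorem v_braid_0_31 : ∀ k, 0 ≤ k → k < 1024 → chk_braid (k * 20) = true := between_extend chk_braid 20 0 992 32 (v_braid_0_30) r_braid_0_31

theorem r_braid_0_32 : allRange chk_braid 20 1024 32 = true := by decide +kernel
theorem v_braid_0_32 : ∀ k, 0 ≤ k → k < 1056 → chk_braid (k * 20) = true := between_extend chk_braid 20 0 1024 32 (v_braid_0_31) r_braid_0_32

theorem r_braid_0_33 : allRange chk_braid 20 1056 32 = true := by decide +kernel
theorem v_braid_0_33 : ∀ k, 0 ≤ k → k < 1088 → chk_braid (k * 20) = true := between_extend chk_braid 20 0 1056 32 (v_braid_0_32) r_braid_0_33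

theorem r_braid_0_34 : allRange chk_braid 20 1088 32 = true := by decide +kernel
theorem v_braid_0_34 : ∀ k, 0 ≤ k → k < 1120 → chk_braid (k * 20) = true := between_extend chk_braid 20 0 1088 32 (v_braid_0_33) r_braid_0_34

theorem r_braid_0_35 : allRange chk_braid 20 1120 32 = true := by decide +kernel
theorem v_braid_0_35 : ∀ k, 0 ≤ k → k < 1152 → chk_braid (k * 20) = true := between_extend chk_braid 20 0 1120 32 (v_braid_0_34) r_braid_0_35

theorem r_braid_0_36 : allRange chk_braid 20 1152 32 = true := by decide +kernel
theorem v_braid_0_36 : ∀ k, 0 ≤ k → k < 1184 → chk_braid (k * 20) = true := between_extend chk_braid 20 0 1152 32 (v_braid_0_35) r_braid_0_36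

theorem r_braid_0_37 : allRange chk_braid 20 1184 32 = true := by decide +kernel
theorem v_braid_0_37 : ∀ k, 0 ≤ k → k < 1216 → chk_braid (k * 20) = true := between_extend chk_braid 20 0 1184 32 (v_braid_0_36) r_braid_0_37

theorem r_braid_0_38 : allRange chk_braid 20 1216 32 = true := by decide +kernel
theorem v_braid_0_38 : ∀ k, 0 ≤ k → k < 1248 → chk_braid (k * 20) = true := between_extend chk_braid 20 0 1216 32 (v_braid_0_37) r_braid_0_38

theorem r_braid_0_39 : allRange chk_braid 20 1248 32 = true := by decide +kernel
theorem v_braid_0_39 : ∀ k, 0 ≤ k → k < 1280 → chk_braid (k * 20) = true := between_extend chk_braid 20 0 1248 32 (v_braid_0_38) r_braid_0_39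

theorem r_braid_0_40 : allRange chk_braid 20 1280 32 = true := by decide +kernel
theorem v_braid_0_40 : ∀ k, 0 ≤ k → k < 1312 → chk_braid (k * 20) = true := between_extend chk_braid 20 0 1280 32 (v_braid_0_39) r_braid_0_40

theorem r_braid_0_41 : allRange chk_braid 20 1312 32 = true := by decide +kernel
theorem v_braid_0_41 : ∀ k, 0 ≤ k → k < 1344 → chk_braid (k * 20) = true := between_extend chk_braid 20 0 1312 32 (v_braid_0_40) r_braid_0_41

theorem r_braid_0_42 : allRange chk_braid 20 1344 32 = true := by decide +kernel
theorem v_braid_0_42 : ∀ k, 0 ≤ k → k < 1376 → chk_braid (k * 20) = true := between_extend chk_braid 20 0 1344 32 (v_braid_0_41) r_braid_0_42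

theorem r_braid_0_43 : allRange chk_braid 20 1376 32 = true := by decide +kernel
theorem v_braid_0_43 : ∀ k, 0 ≤ k → k < 1408 → chk_braid (k * 20) = true := between_extend chk_braid 20 0 1376 32 (v_braid_0_42) r_braid_0_43

theorem r_braid_0_44 : allRange chk_braid 20 1408 32 = true := by decide +kernel
theorem v_braid_0_44 : ∀ k, 0 ≤ k → k < 1440 → chk_braid (k * 20) = true := between_extend chk_braid 20 0 1408 32 (v_braid_0_43) r_braid_0_44

theorem r_braid_0_45 : allRange chk_braid 20 1440 32 = true := by decide +kernel
theorem v_braid_0_45 : ∀ k, 0 ≤ k → k < 1472 → chk_braid (k * 20) = true := between_extend chk_braid 20 0 1440 32 (v_braid_0_44) r_braid_0_45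

theorem r_braid_0_46 : allRange chk_braid 20 1472 32 = true := by decide +kernel
theorem v_braid_0_46 : ∀ k, 0 ≤ k → k < 1504 → chk_braid (k * 20) = true := between_extend chk_braid 20 0 1472 32 (v_braid_0_45) r_braid_0_46

theorem r_braid_0_47 : allRange chk_braid 20 1504 32 = true := by decide +kernel
theorem v_braid_0_47 : ∀ k, 0 ≤ k → k < 1536 → chk_braid (k * 20) = true := between_extend chk_braid 20 0 1504 32 (v_braid_0_46) r_braid_0_47

theorem r_braid_0_48 : allRange chk_braid 20 1536 32 = true := by decide +kernel
theorem v_braid_0_48 : ∀ k, 0 ≤ k → k < 1568 → chk_braid (k * 20) = true := between_extend chk_braid 20 0 1536 32 (v_braid_0_47) r_braid_0_48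

theorem r_braid_0_49 : allRange chk_braid 20 1568 32 = true := by decide +kernel
theorem v_braid_0_49 : ∀ k, 0 ≤ k → k < 1600 → chk_braid (k * 20) = true := between_extend chk_braid 20 0 1568 32 (v_braid_0_48) r_braid_0_49

theorem r_braid_0_50 : allRange chk_braid 20 1600 32 = true := by decide +kernel
theorem v_braid_0_50 : ∀ k, 0 ≤ k → k < 1632 → chk_braid (k * 20) = true := between_extend chk_braid 20 0 1600 32 (v_braid_0_49) r_braid_0_50

theorem r_braid_0_51 : allRange chk_braid 20 1632 32 = true := by decide +kernel
theorem v_braid_0_51 : ∀ k, 0 ≤ k → k < 1664 → chk_braid (k * 20) = true := between_extend chk_braid 20 0 1632 32 (v_braid_0_50) r_braid_0_51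

theorem r_braid_0_52 : allRange chk_braid 20 1664 32 = true := by decide +kernel
theorem v_braid_0_52 : ∀ k, 0 ≤ k → k < 1696 → chk_braid (k * 20) = true := between_extend chk_braid 20 0 1664 32 (v_braid_0_51) r_braid_0_52

theorem r_braid_0_53 : allRange chk_braid 20 1696 32 = true := by decide +kernel
theorem v_braid_0_53 : ∀ k, 0 ≤ k → k < 1728 → chk_braid (k * 20) = true := between_extend chk_braid 20 0 1696 32 (v_braid_0_52) r_braid_0_53

theorem r_braid_0_54 : allRange chk_braid 20 1728 32 = true := by decide +kernel
theorem v_braid_0_54 : ∀ k, 0 ≤ k → k < 1760 → chk_braid (k * 20) = true := between_extend chk_braid 20 0 1728 32 (v_braid_0_53) r_braid_0_54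

theorem r_braid_0_55 : allRange chk_braid 20 1760 32 = true := by decide +kernel
theorem v_braid_0_55 : ∀ k, 0 ≤ k → k < 1792 → chk_braid (k * 20) = true := between_extend chk_braid 20 0 1760 32 (v_braid_0_54) r_braid_0_55

theorem r_braid_0_56 : allRange chk_braid 20 1792 32 = true := by decide +kernel
theorem v_braid_0_56 : ∀ k, 0 ≤ k → k < 1824 → chk_braid (k * 20) = true := between_extend chk_braid 20 0 1792 32 (v_braid_0_55) r_braid_0_56

theorem r_braid_0_57 : allRange chk_braid 20 1824 32 = true := by decide +kernel
theorem v_braid_0_57 : ∀ k, 0 ≤ k → k < 1856 → chk_braid (k * 20) = true := between_extend chk_braid 20 0 1824 32 (v_braid_0_56) r_braid_0_57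

theorem r_braid_0_58 : allRange chk_braid 20 1856 32 = true := by decide +kernel
theorem v_braid_0_58 : ∀ k, 0 ≤ k → k < 1888 → chk_braid (k * 20) = true := between_extend chk_braid 20 0 1856 32 (v_braid_0_57) r_braid_0_58

theorem r_braid_0_59 : allRange chk_braid 20 1888 32 = true := by decide +kernel
theorem v_braid_0_59 : ∀ k, 0 ≤ k → k < 1920 → chk_braid (k * 20) = true := between_extend chk_braid 20 0 1888 32 (v_braid_0_58) r_braid_0_59

theorem r_braid_0_60 : allRange chk_braid 20 1920 32 = true := by decide +kernel
theorem v_braid_0_60 : ∀ k, 0 ≤ k → k < 1952 → chk_braid (k * 20) = true := between_extend chk_braid 20 0 1920 32 (v_braid_0_59) r_braid_0_60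

theorem r_braid_0_61 : allRange chk_braid 20 1952 32 = true := by decide +kernel
theorem v_braid_0_61 : ∀ k, 0 ≤ k → k < 1984 → chk_braid (k * 20) = true := between_extend chk_braid 20 0 1952 32 (v_braid_0_60) r_braid_0_61

theorem r_braid_0_62 : allRange chk_braid 20 1984 32 = true := by decide +kernel
theorem v_braid_0_62 : ∀ k, 0 ≤ k → k < 2016 → chk_braid (k * 20) = true := between_extend chk_braid 20 0 1984 32 (v_braid_0_61) r_braid_0_62

theorem r_braid_0_63 : allRange chk_braid 20 2016 32 = true := by decide +kernel
theorem v_braid_0_63 : ∀ k, 0 ≤ k → k < 2048 → chk_braid (k * 20) = true := between_extend chk_braid 20 0 2016 32 (v_braid_0_62) r_braid_0_63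

theorem r_braid_0_64 : allRange chk_braid 20 2048 32 = true := by decide +kernel
theorem v_braid_0_64 : ∀ k, 0 ≤ k → k < 2080 → chk_braid (k * 20) = true := between_extend chk_braid 20 0 2048 32 (v_braid_0_63) r_braid_0_64

theorem r_braid_0_65 : allRange chk_braid 20 2080 32 = true := by decide +kernel
theorem v_braid_0_65 : ∀ k, 0 ≤ k → k < 2112 → chk_braid (k * 20) = true := between_extend chk_braid 20 0 2080 32 (v_braid_0_64) r_braid_0_65

theorem r_braid_0_66 : allRange chk_braid 20 2112 32 = true := by decide +kernel
theorem v_braid_0_66 : ∀ k, 0 ≤ k → k < 2144 → chk_braid (k * 20) = true := between_extend chk_braid 20 0 2112 32 (v_braid_0_65) r_braid_0_66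

theorem r_braid_0_67 : allRange chk_braid 20 2144 32 = true := by decide +kernel
theorem v_braid_0_67 : ∀ k, 0 ≤ k → k < 2176 → chk_braid (k * 20) = true := between_extend chk_braid 20 0 2144 32 (v_braid_0_66) r_braid_0_67

theorem r_braid_0_68 : allRange chk_braid 20 2176 32 = true := by decide +kernel
theorem v_braid_0_68 : ∀ k, 0 ≤ k → k < 2208 → chk_braid (k * 20) = true := between_extend chk_braid 20 0 2176 32 (v_braid_0_67) r_braid_0_68

theorem r_braid_0_69 : allRange chk_braid 20 2208 32 = true := by decide +kernel
theorem v_braid_0_69 : ∀ k, 0 ≤ k → k < 2240 → chk_braid (k * 20) = true := between_extend chk_braid 20 0 2208 32 (v_braid_0_68) r_braid_0_69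

theorem r_braid_0_70 : allRange chk_braid 20 2240 32 = true := by decide +kernel
theorem v_braid_0_70 : ∀ k, 0 ≤ k → k < 2272 → chk_braid (k * 20) = true := between_extend chk_braid 20 0 2240 32 (v_braid_0_69) r_braid_0_70

theorem r_braid_0_71 : allRange chk_braid 20 2272 32 = true := by decide +kernel
theorem v_braid_0_71 : ∀ k, 0 ≤ k → k < 2304 → chk_braid (k * 20) = true := between_extend chk_braid 20 0 2272 32 (v_braid_0_70) r_braid_0_71

theorem r_braid_0_72 : allRange chk_braid 20 2304 32 = true := by decide +kernel
theorem v_braid_0_72 : ∀ k, 0 ≤ k → k < 2336 → chk_braid (k * 20) = true := between_extend chk_braid 20 0 2304 32 (v_braid_0_71) r_braid_0_72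

theorem r_braid_0_73 : allRange chk_braid 20 2336 32 = true := by decide +kernel
theorem v_braid_0_73 : ∀ k, 0 ≤ k → k < 2368 → chk_braid (k * 20) = true := between_extend chk_braid 20 0 2336 32 (v_braid_0_72) r_braid_0_73

theorem r_braid_0_74 : allRange chk_braid 20 2368 32 = true := by decide +kernel
theorem v_braid_0_74 : ∀ k, 0 ≤ k → k < 2400 → chk_braid (k * 20) = true := between_extend chk_braid 20 0 2368 32 (v_braid_0_73) r_braid_0_74

theorem r_braid_0_75 : allRange chk_braid 20 2400 32 = true := by decide +kernel
theorem v_braid_0_75 : ∀ k, 0 ≤ k → k < 2432 → chk_braid (k * 20) = true := between_extend chk_braid 20 0 2400 32 (v_braid_0_74) r_braid_0_75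

theorem r_braid_0_76 : allRange chk_braid 20 2432 32 = true := by decide +kernel
theorem v_braid_0_76 : ∀ k, 0 ≤ k → k < 2464 → chk_braid (k * 20) = true := between_extend chk_braid 20 0 2432 32 (v_braid_0_75) r_braid_0_76

theorem r_braid_0_77 : allRange chk_braid 20 2464 32 = true := by decide +kernel
theorem v_braid_0_77 : ∀ k, 0 ≤ k → k < 2496 → chk_braid (k * 20) = true := between_extend chk_braid 20 0 2464 32 (v_braid_0_76) r_braid_0_77

theorem r_braid_0_78 : allRange chk_braid 20 2496 32 = true := by decide +kernel
theorem v_braid_0_78 : ∀ k, 0 ≤ k → k < 2528 → chk_braid (k * 20) = true := between_extend chk_braid 20 0 2496 32 (v_braid_0_77) r_braid_0_78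

theorem r_braid_0_79 : allRange chk_braid 20 2528 32 = true := by decide +kernel
theorem v_braid_0_79 : ∀ k, 0 ≤ k → k < 2560 → chk_braid (k * 20) = true := between_extend chk_braid 20 0 2528 32 (v_braid_0_78) r_braid_0_79

theorem r_braid_0_80 : allRange chk_braid 20 2560 32 = true := by decide +kernel
theorem v_braid_0_80 : ∀ k, 0 ≤ k → k < 2592 → chk_braid (k * 20) = true := between_extend chk_braid 20 0 2560 32 (v_braid_0_79) r_braid_0_80

theorem r_braid_0_81 : allRange chk_braid 20 2592 32 = true := by decide +kernel
theorem v_braid_0_81 : ∀ k, 0 ≤ k → k < 2624 → chk_braid (k * 20) = true := between_extend chk_braid 20 0 2592 32 (v_braid_0_80) r_braid_0_81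

theorem r_braid_0_82 : allRange chk_braid 20 2624 32 = true := by decide +kernel
theorem v_braid_0_82 : ∀ k, 0 ≤ k → k < 2656 → chk_braid (k * 20) = true := between_extend chk_braid 20 0 2624 32 (v_braid_0_81) r_braid_0_82

theorem r_braid_0_83 : allRange chk_braid 20 2656 32 = true := by decide +kernel
theorem v_braid_0_83 : ∀ k, 0 ≤ k → k < 2688 → chk_braid (k * 20) = true := between_extend chk_braid 20 0 2656 32 (v_braid_0_82) r_braid_0_83

theorem r_braid_0_84 : allRange chk_braid 20 2688 32 = true := by decide +kernel
theorem v_braid_0_84 : ∀ k, 0 ≤ k → k < 2720 → chk_braid (k * 20) = true := between_extend chk_braid 20 0 2688 32 (v_braid_0_83) r_braid_0_84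

theorem r_braid_0_85 : allRange chk_braid 20 2720 32 = true := by decide +kernel
theorem v_braid_0_85 : ∀ k, 0 ≤ k → k < 2752 → chk_braid (k * 20) = true := between_extend chk_braid 20 0 2720 32 (v_braid_0_84) r_braid_0_85

theorem r_braid_0_86 : allRange chk_braid 20 2752 32 = true := by decide +kernel
theorem v_braid_0_86 : ∀ k, 0 ≤ k → k < 2784 → chk_braid (k * 20) = true := between_extend chk_braid 20 0 2752 32 (v_braid_0_85) r_braid_0_86

theorem r_braid_0_87 : allRange chk_braid 20 2784 32 = true := by decide +kernel
theorem v_braid_0_87 : ∀ k, 0 ≤ k → k < 2816 → chk_braid (k * 20) = true := between_extend chk_braid 20 0 2784 32 (v_braid_0_86) r_braid_0_87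

theorem r_braid_0_88 : allRange chk_braid 20 2816 32 = true := by decide +kernel
theorem v_braid_0_88 : ∀ k, 0 ≤ k → k < 2848 → chk_braid (k * 20) = true := between_extend chk_braid 20 0 2816 32 (v_braid_0_87) r_braid_0_88

theorem r_braid_0_89 : allRange chk_braid 20 2848 32 = true := by decide +kernel
theorem v_braid_0_89 : ∀ k, 0 ≤ k → k < 2880 → chk_braid (k * 20) = true := between_extend chk_braid 20 0 2848 32 (v_braid_0_88) r_braid_0_89

theorem r_braid_0_90 : allRange chk_braid 20 2880 32 = true := by decide +kernel
theorem v_braid_0_90 : ∀ k, 0 ≤ k → k < 2912 → chk_braid (k * 20) = true := between_extend chk_braid 20 0 2880 32 (v_braid_0_89) r_braid_0_90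

theorem r_braid_0_91 : allRange chk_braid 20 2912 32 = true := by decide +kernel
theorem v_braid_0_91 : ∀ k, 0 ≤ k → k < 2944 → chk_braid (k * 20) = true := between_extend chk_braid 20 0 2912 32 (v_braid_0_90) r_braid_0_91

theorem r_braid_0_92 : allRange chk_braid 20 2944 32 = true := by decide +kernel
theorem v_braid_0_92 : ∀ k, 0 ≤ k → k < 2976 → chk_braid (k * 20) = true := between_extend chk_braid 20 0 2944 32 (v_braid_0_91) r_braid_0_92

theorem r_braid_0_93 : allRange chk_braid 20 2976 32 = true := by decide +kernel
theorem v_braid_0_93 : ∀ k, 0 ≤ k → k < 3008 → chk_braid (k * 20) = true := between_extend chk_braid 20 0 2976 32 (v_braid_0_92) r_braid_0_93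

theorem r_braid_0_94 : allRange chk_braid 20 3008 32 = true := by decide +kernel
theorem v_braid_0_94 : ∀ k, 0 ≤ k → k < 3040 → chk_braid (k * 20) = true := between_extend chk_braid 20 0 3008 32 (v_braid_0_93) r_braid_0_94

theorem r_braid_0_95 : allRange chk_braid 20 3040 32 = true := by decide +kernel
theorem v_braid_0_95 : ∀ k, 0 ≤ k → k < 3072 → chk_braid (k * 20) = true := between_extend chk_braid 20 0 3040 32 (v_braid_0_94) r_braid_0_95

theorem r_braid_0_96 : allRange chk_braid 20 3072 32 = true := by decide +kernel
theorem v_braid_0_96 : ∀ k, 0 ≤ k → k < 3104 → chk_braid (k * 20) = true := between_extend chk_braid 20 0 3072 32 (v_braid_0_95) r_braid_0_96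

theorem r_braid_0_97 : allRange chk_braid 20 3104 32 = true := by decide +kernel
theorem v_braid_0_97 : ∀ k, 0 ≤ k → k < 3136 → chk_braid (k * 20) = true := between_extend chk_braid 20 0 3104 32 (v_braid_0_96) r_braid_0_97

theorem r_braid_0_98 : allRange chk_braid 20 3136 32 = true := by decide +kernel
theorem v_braid_0_98 : ∀ k, 0 ≤ k → k < 3168 → chk_braid (k * 20) = true := between_extend chk_braid 20 0 3136 32 (v_braid_0_97) r_braid_0_98

theorem r_braid_0_99 : allRange chk_braid 20 3168 32 = true := by decide +kernel
theorem v_braid_0_99 : ∀ k, 0 ≤ k → k < 3200 → chk_braid (k * 20) = true := between_extend chk_braid 20 0 3168 32 (v_braid_0_98) r_braid_0_99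

theorem r_braid_0_100 : allRange chk_braid 20 3200 32 = true := by decide +kernel
theorem v_braid_0_100 : ∀ k, 0 ≤ k → k < 3232 → chk_braid (k * 20) = true := between_extend chk_braid 20 0 3200 32 (v_braid_0_99) r_braid_0_100

theorem r_braid_0_101 : allRange chk_braid 20 3232 32 = true := by decide +kernel
theorem v_braid_0_101 : ∀ k, 0 ≤ k → k < 3264 → chk_braid (k * 20) = true := between_extend chk_braid 20 0 3232 32 (v_braid_0_100) r_braid_0_101

theorem r_braid_0_102 : allRange chk_braid 20 3264 32 = true := by decide +kernel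
theorem v_braid_0_102 : ∀ k, 0 ≤ k → k < 3296 → chk_braid (k * 20) = true := between_extend chk_braid 20 0 3264 32 (v_braid_0_101) r_braid_0_102

theorem r_braid_0_103 : allRange chk_braid 20 3296 32 = true := by decide +kernel
theorem v_braid_0_103 : ∀ k, 0 ≤ k → k < 3328 → chk_braid (k * 20) = true := between_extend chk_braid 20 0 3296 32 (v_braid_0_102) r_braid_0_103

theorem r_braid_0_104 : allRange chk_braid 20 3328 32 = true := by decide +kernel
theorem v_braid_0_104 : ∀ k, 0 ≤ k → k < 3360 → chk_braid (k * 20) = true := between_extend chk_braid 20 0 3328 32 (v_braid_0_103) r_braid_0_104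

theorem r_braid_0_105 : allRange chk_braid 20 3360 32 = true := by decide +kernel
theorem v_braid_0_105 : ∀ k, 0 ≤ k → k < 3392 → chk_braid (k * 20) = true := between_extend chk_braid 20 0 3360 32 (v_braid_0_104) r_braid_0_105

theorem r_braid_0_106 : allRange chk_braid 20 3392 32 = true := by decide +kernel
theorem v_braid_0_106 : ∀ k, 0 ≤ k → k < 3424 → chk_braid (k * 20) = true := between_extend chk_braid 20 0 3392 32 (v_braid_0_105) r_braid_0_106

theorem r_braid_0_107 : allRange chk_braid 20 3424 32 = true := by decide +kernel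
theorem v_braid_0_107 : ∀ k, 0 ≤ k → k < 3456 → chk_braid (k * 20) = true := between_extend chk_braid 20 0 3424 32 (v_braid_0_106) r_braid_0_107

theorem r_braid_0_108 : allRange chk_braid 20 3456 32 = true := by decide +kernel
theorem v_braid_0_108 : ∀ k, 0 ≤ k → k < 3488 → chk_braid (k * 20) = true := between_extend chk_braid 20 0 3456 32 (v_braid_0_107) r_braid_0_108

theorem r_braid_0_109 : allRange chk_braid 20 3488 32 = true := by decide +kernel
theorem v_braid_0_109 : ∀ k, 0 ≤ k → k < 3520 → chk_braid (k * 20) = true := between_extend chk_braid 20 0 3488 32 (v_braid_0_108) r_braid_0_109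

theorem r_braid_0_110 : allRange chk_braid 20 3520 32 = true := by decide +kernel
theorem v_braid_0_110 : ∀ k, 0 ≤ k → k < 3552 → chk_braid (k * 20) = true := between_extend chk_braid 20 0 3520 32 (v_braid_0_109) r_braid_0_110

theorem r_braid_0_111 : allRange chk_braid 20 3552 32 = true := by decide +kernel
theorem v_braid_0_111 : ∀ k, 0 ≤ k → k < 3584 → chk_braid (k * 20) = true := between_extend chk_braid 20 0 3552 32 (v_braid_0_110) r_braid_0_111

theorem r_braid_0_112 : allRange chk_braid 20 3584 32 = true := by decide +kernel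
theorem v_braid_0_112 : ∀ k, 0 ≤ k → k < 3616 → chk_braid (k * 20) = true := between_extend chk_braid 20 0 3584 32 (v_braid_0_111) r_braid_0_112

theorem r_braid_0_113 : allRange chk_braid 20 3616 32 = true := by decide +kernel
theorem v_braid_0_113 : ∀ k, 0 ≤ k → k < 3648 → chk_braid (k * 20) = true := between_extend chk_braid 20 0 3616 32 (v_braid_0_112) r_braid_0_113

theorem r_braid_0_114 : allRange chk_braid 20 3648 32 = true := by decide +kernel
theorem v_braid_0_114 : ∀ k, 0 ≤ k → k < 3680 → chk_braid (k * 20) = true := between_extend chk_braid 20 0 3648 32 (v_braid_0_113) r_braid_0_114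

theorem r_braid_0_115 : allRange chk_braid 20 3680 32 = true := by decide +kernel
theorem v_braid_0_115 : ∀ k, 0 ≤ k → k < 3712 → chk_braid (k * 20) = true := between_extend chk_braid 20 0 3680 32 (v_braid_0_114) r_braid_0_115

theorem r_braid_0_116 : allRange chk_braid 20 3712 32 = true := by decide +kernel
theorem v_braid_0_116 : ∀ k, 0 ≤ k → k < 3744 → chk_braid (k * 20) = true := between_extend chk_braid 20 0 3712 32 (v_braid_0_115) r_braid_0_116

theorem r_braid_0_117 : allRange chk_braid 20 3744 32 = true := by decide +kernel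
theorem v_braid_0_117 : ∀ k, 0 ≤ k → k < 3776 → chk_braid (k * 20) = true := between_extend chk_braid 20 0 3744 32 (v_braid_0_116) r_braid_0_117

theorem r_braid_0_118 : allRange chk_braid 20 3776 32 = true := by decide +kernel
theorem v_braid_0_118 : ∀ k, 0 ≤ k → k < 3808 → chk_braid (k * 20) = true := between_extend chk_braid 20 0 3776 32 (v_braid_0_117) r_braid_0_118

theorem r_braid_0_119 : allRange chk_braid 20 3808 32 = true := by decide +kernel
theorem v_braid_0_119 : ∀ k, 0 ≤ k → k < 3840 → chk_braid (k * 20) = true := between_extend chk_braid 20 0 3808 32 (v_braid_0_118) r_braid_0_119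

theorem r_braid_0_120 : allRange chk_braid 20 3840 32 = true := by decide +kernel
theorem v_braid_0_120 : ∀ k, 0 ≤ k → k < 3872 → chk_braid (k * 20) = true := between_extend chk_braid 20 0 3840 32 (v_braid_0_119) r_braid_0_120

theorem r_braid_0_121 : allRange chk_braid 20 3872 32 = true := by decide +kernel
theorem v_braid_0_121 : ∀ k, 0 ≤ k → k < 3904 → chk_braid (k * 20) = true := between_extend chk_braid 20 0 3872 32 (v_braid_0_120) r_braid_0_121

theorem r_braid_0_122 : allRange chk_braid 20 3904 32 = true := by decide +kernel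
theorem v_braid_0_122 : ∀ k, 0 ≤ k → k < 3936 → chk_braid (k * 20) = true := between_extend chk_braid 20 0 3904 32 (v_braid_0_121) r_braid_0_122

theorem r_braid_0_123 : allRange chk_braid 20 3936 32 = true := by decide +kernel
theorem v_braid_0_123 : ∀ k, 0 ≤ k → k < 3968 → chk_braid (k * 20) = true := between_extend chk_braid 20 0 3936 32 (v_braid_0_122) r_braid_0_123

theorem r_braid_0_124 : allRange chk_braid 20 3968 32 = true := by decide +kernel
theorem v_braid_0_124 : ∀ k, 0 ≤ k → k < 4000 → chk_braid (k * 20) = true := between_extend chk_braid 20 0 3968 32 (v_braid_0_123) r_braid_0_124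

theorem r_braid_0_125 : allRange chk_braid 20 4000 32 = true := by decide +kernel
theorem v_braid_0_125 : ∀ k, 0 ≤ k → k < 4032 → chk_braid (k * 20) = true := between_extend chk_braid 20 0 4000 32 (v_braid_0_124) r_braid_0_125

theorem r_braid_0_126 : allRange chk_braid 20 4032 32 = true := by decide +kernel
theorem v_braid_0_126 : ∀ k, 0 ≤ k → k < 4064 → chk_braid (k * 20) = true := between_extend chk_braid 20 0 4032 32 (v_braid_0_125) r_braid_0_126

theorem r_braid_0_127 : allRange chk_braid 20 4064 32 = true := by decide +kernel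
theorem v_braid_0_127 : ∀ k, 0 ≤ k → k < 4096 → chk_braid (k * 20) = true := between_extend chk_braid 20 0 4064 32 (v_braid_0_126) r_braid_0_127

theorem r_braid_0_128 : allRange chk_braid 20 4096 32 = true := by decide +kernel
theorem v_braid_0_128 : ∀ k, 0 ≤ k → k < 4128 → chk_braid (k * 20) = true := between_extend chk_braid 20 0 4096 32 (v_braid_0_127) r_braid_0_128

theorem r_braid_0_129 : allRange chk_braid 20 4128 32 = true := by decide +kernel
theorem v_braid_0_129 : ∀ k, 0 ≤ k → k < 4160 → chk_braid (k * 20) = true := between_extend chk_braid 20 0 4128 32 (v_braid_0_128) r_braid_0_129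

theorem r_braid_0_130 : allRange chk_braid 20 4160 32 = true := by decide +kernel
theorem v_braid_0_130 : ∀ k, 0 ≤ k → k < 4192 → chk_braid (k * 20) = true := between_extend chk_braid 20 0 4160 32 (v_braid_0_129) r_braid_0_130

theorem r_braid_0_131 : allRange chk_braid 20 4192 32 = true := by decide +kernel
theorem v_braid_0_131 : ∀ k, 0 ≤ k → k < 4224 → chk_braid (k * 20) = true := between_extend chk_braid 20 0 4192 32 (v_braid_0_130) r_braid_0_131

theorem r_braid_0_132 : allRange chk_braid 20 4224 32 = true := by decide +kernel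
theorem v_braid_0_132 : ∀ k, 0 ≤ k → k < 4256 → chk_braid (k * 20) = true := between_extend chk_braid 20 0 4224 32 (v_braid_0_131) r_braid_0_132

theorem r_braid_0_133 : allRange chk_braid 20 4256 32 = true := by decide +kernel
theorem v_braid_0_133 : ∀ k, 0 ≤ k → k < 4288 → chk_braid (k * 20) = true := between_extend chk_braid 20 0 4256 32 (v_braid_0_132) r_braid_0_133

theorem r_braid_0_134 : allRange chk_braid 20 4288 32 = true := by decide +kernel
theorem v_braid_0_134 : ∀ k, 0 ≤ k → k < 4320 → chk_braid (k * 20) = true := between_extend chk_braid 20 0 4288 32 (v_braid_0_133) r_braid_0_134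

theorem r_braid_0_135 : allRange chk_braid 20 4320 32 = true := by decide +kernel
theorem v_braid_0_135 : ∀ k, 0 ≤ k → k < 4352 → chk_braid (k * 20) = true := between_extend chk_braid 20 0 4320 32 (v_braid_0_134) r_braid_0_135

theorem r_braid_0_136 : allRange chk_braid 20 4352 32 = true := by decide +kernel
theorem v_braid_0_136 : ∀ k, 0 ≤ k → k < 4384 → chk_braid (k * 20) = true := between_extend chk_braid 20 0 4352 32 (v_braid_0_135) r_braid_0_136

theorem r_braid_0_137 : allRange chk_braid 20 4384 32 = true := by decide +kernel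
theorem v_braid_0_137 : ∀ k, 0 ≤ k → k < 4416 → chk_braid (k * 20) = true := between_extend chk_braid 20 0 4384 32 (v_braid_0_136) r_braid_0_137

theorem r_braid_0_138 : allRange chk_braid 20 4416 32 = true := by decide +kernel
theorem v_braid_0_138 : ∀ k, 0 ≤ k → k < 4448 → chk_braid (k * 20) = true := between_extend chk_braid 20 0 4416 32 (v_braid_0_137) r_braid_0_138

theorem r_braid_0_139 : allRange chk_braid 20 4448 32 = true := by decide +kernel
theorem v_braid_0_139 : ∀ k, 0 ≤ k → k < 4480 → chk_braid (k * 20) = true := between_extend chk_braid 20 0 4448 32 (v_braid_0_138) r_braid_0_139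

theorem r_braid_0_140 : allRange chk_braid 20 4480 32 = true := by decide +kernel
theorem v_braid_0_140 : ∀ k, 0 ≤ k → k < 4512 → chk_braid (k * 20) = true := between_extend chk_braid 20 0 4480 32 (v_braid_0_139) r_braid_0_140

theorem r_braid_0_141 : allRange chk_braid 20 4512 32 = true := by decide +kernel
theorem v_braid_0_141 : ∀ k, 0 ≤ k → k < 4544 → chk_braid (k * 20) = true := between_extend chk_braid 20 0 4512 32 (v_braid_0_140) r_braid_0_141

theorem r_braid_0_142 : allRange chk_braid 20 4544 32 = true := by decide +kernel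
theorem v_braid_0_142 : ∀ k, 0 ≤ k → k < 4576 → chk_braid (k * 20) = true := between_extend chk_braid 20 0 4544 32 (v_braid_0_141) r_braid_0_142

theorem r_braid_0_143 : allRange chk_braid 20 4576 32 = true := by decide +kernel
theorem v_braid_0_143 : ∀ k, 0 ≤ k → k < 4608 → chk_braid (k * 20) = true := between_extend chk_braid 20 0 4576 32 (v_braid_0_142) r_braid_0_143

theorem r_braid_0_144 : allRange chk_braid 20 4608 32 = true := by decide +kernel
theorem v_braid_0_144 : ∀ k, 0 ≤ k → k < 4640 → chk_braid (k * 20) = true := between_extend chk_braid 20 0 4608 32 (v_braid_0_143) r_braid_0_144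

theorem r_braid_0_145 : allRange chk_braid 20 4640 32 = true := by decide +kernel
theorem v_braid_0_145 : ∀ k, 0 ≤ k → k < 4672 → chk_braid (k * 20) = true := between_extend chk_braid 20 0 4640 32 (v_braid_0_144) r_braid_0_145

theorem r_braid_0_146 : allRange chk_braid 20 4672 32 = true := by decide +kernel
theorem v_braid_0_146 : ∀ k, 0 ≤ k → k < 4704 → chk_braid (k * 20) = true := between_extend chk_braid 20 0 4672 32 (v_braid_0_145) r_braid_0_146

theorem r_braid_0_147 : allRange chk_braid 20 4704 32 = true := by decide +kernel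
theorem v_braid_0_147 : ∀ k, 0 ≤ k → k < 4736 → chk_braid (k * 20) = true := between_extend chk_braid 20 0 4704 32 (v_braid_0_146) r_braid_0_147

theorem r_braid_0_148 : allRange chk_braid 20 4736 32 = true := by decide +kernel
theorem v_braid_0_148 : ∀ k, 0 ≤ k → k < 4768 → chk_braid (k * 20) = true := between_extend chk_braid 20 0 4736 32 (v_braid_0_147) r_braid_0_148

theorem r_braid_0_149 : allRange chk_braid 20 4768 32 = true := by decide +kernel
theorem v_braid_0_149 : ∀ k, 0 ≤ k → k < 4800 → chk_braid (k * 20) = true := between_extend chk_braid 20 0 4768 32 (v_braid_0_148) r_braid_0_149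

theorem r_braid_0_150 : allRange chk_braid 20 4800 32 = true := by decide +kernel
theorem v_braid_0_150 : ∀ k, 0 ≤ k → k < 4832 → chk_braid (k * 20) = true := between_extend chk_braid 20 0 4800 32 (v_braid_0_149) r_braid_0_150

theorem r_braid_0_151 : allRange chk_braid 20 4832 32 = true := by decide +kernel
theorem v_braid_0_151 : ∀ k, 0 ≤ k → k < 4864 → chk_braid (k * 20) = true := between_extend chk_braid 20 0 4832 32 (v_braid_0_150) r_braid_0_151

theorem r_braid_0_152 : allRange chk_braid 20 4864 32 = true := by decide +kernel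
theorem v_braid_0_152 : ∀ k, 0 ≤ k → k < 4896 → chk_braid (k * 20) = true := between_extend chk_braid 20 0 4864 32 (v_braid_0_151) r_braid_0_152

theorem r_braid_0_153 : allRange chk_braid 20 4896 32 = true := by decide +kernel
theorem v_braid_0_153 : ∀ k, 0 ≤ k → k < 4928 → chk_braid (k * 20) = true := between_extend chk_braid 20 0 4896 32 (v_braid_0_152) r_braid_0_153

theorem r_braid_0_154 : allRange chk_braid 20 4928 32 = true := by decide +kernel
theorem v_braid_0_154 : ∀ k, 0 ≤ k → k < 4960 → chk_braid (k * 20) = true := between_extend chk_braid 20 0 4928 32 (v_braid_0_153) r_braid_0_154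

theorem r_braid_0_155 : allRange chk_braid 20 4960 32 = true := by decide +kernel
theorem v_braid_0_155 : ∀ k, 0 ≤ k → k < 4992 → chk_braid (k * 20) = true := between_extend chk_braid 20 0 4960 32 (v_braid_0_154) r_braid_0_155

theorem r_braid_0_156 : allRange chk_braid 20 4992 32 = true := by decide +kernel
theorem v_braid_0_156 : ∀ k, 0 ≤ k → k < 5024 → chk_braid (k * 20) = true := between_extend chk_braid 20 0 4992 32 (v_braid_0_155) r_braid_0_156

theorem r_braid_0_157 : allRange chk_braid 20 5024 32 = true := by decide +kernel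
theorem v_braid_0_157 : ∀ k, 0 ≤ k → k < 5056 → chk_braid (k * 20) = true := between_extend chk_braid 20 0 5024 32 (v_braid_0_156) r_braid_0_157

theorem r_braid_0_158 : allRange chk_braid 20 5056 32 = true := by decide +kernel
theorem v_braid_0_158 : ∀ k, 0 ≤ k → k < 5088 → chk_braid (k * 20) = true := between_extend chk_braid 20 0 5056 32 (v_braid_0_157) r_braid_0_158

theorem r_braid_0_159 : allRange chk_braid 20 5088 32 = true := by decide +kernel
theorem v_braid_0_159 : ∀ k, 0 ≤ k → k < 5120 → chk_braid (k * 20) = true := between_extend chk_braid 20 0 5088 32 (v_braid_0_158) r_braid_0_159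

theorem r_braid_0_160 : allRange chk_braid 20 5120 32 = true := by decide +kernel
theorem v_braid_0_160 : ∀ k, 0 ≤ k → k < 5152 → chk_braid (k * 20) = true := between_extend chk_braid 20 0 5120 32 (v_braid_0_159) r_braid_0_160

theorem r_braid_0_161 : allRange chk_braid 20 5152 32 = true := by decide +kernel
theorem v_braid_0_161 : ∀ k, 0 ≤ k → k < 5184 → chk_braid (k * 20) = true := between_extend chk_braid 20 0 5152 32 (v_braid_0_160) r_braid_0_161

theorem r_braid_0_162 : allRange chk_braid 20 5184 32 = true := by decide +kernel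
theorem v_braid_0_162 : ∀ k, 0 ≤ k → k < 5216 → chk_braid (k * 20) = true := between_extend chk_braid 20 0 5184 32 (v_braid_0_161) r_braid_0_162

theorem r_braid_0_163 : allRange chk_braid 20 5216 32 = true := by decide +kernel
theorem v_braid_0_163 : ∀ k, 0 ≤ k → k < 5248 → chk_braid (k * 20) = true := between_extend chk_braid 20 0 5216 32 (v_braid_0_162) r_braid_0_163

theorem r_braid_0_164 : allRange chk_braid 20 5248 32 = true := by decide +kernel
theorem v_braid_0_164 : ∀ k, 0 ≤ k → k < 5280 → chk_braid (k * 20) = true := between_extend chk_braid 20 0 5248 32 (v_braid_0_163) r_braid_0_164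

theorem r_braid_0_165 : allRange chk_braid 20 5280 32 = true := by decide +kernel
theorem v_braid_0_165 : ∀ k, 0 ≤ k → k < 5312 → chk_braid (k * 20) = true := between_extend chk_braid 20 0 5280 32 (v_braid_0_164) r_braid_0_165

theorem r_braid_0_166 : allRange chk_braid 20 5312 32 = true := by decide +kernel
theorem v_braid_0_166 : ∀ k, 0 ≤ k → k < 5344 → chk_braid (k * 20) = true := between_extend chk_braid 20 0 5312 32 (v_braid_0_165) r_braid_0_166

theorem r_braid_0_167 : allRange chk_braid 20 5344 32 = true := by decide +kernel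
theorem v_braid_0_167 : ∀ k, 0 ≤ k → k < 5376 → chk_braid (k * 20) = true := between_extend chk_braid 20 0 5344 32 (v_braid_0_166) r_braid_0_167

theorem r_braid_0_168 : allRange chk_braid 20 5376 32 = true := by decide +kernel
theorem v_braid_0_168 : ∀ k, 0 ≤ k → k < 5408 → chk_braid (k * 20) = true := between_extend chk_braid 20 0 5376 32 (v_braid_0_167) r_braid_0_168

theorem r_braid_0_169 : allRange chk_braid 20 5408 32 = true := by decide +kernel
theorem v_braid_0_169 : ∀ k, 0 ≤ k → k < 5440 → chk_braid (k * 20) = true := between_extend chk_braid 20 0 5408 32 (v_braid_0_168) r_braid_0_169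

theorem r_braid_0_170 : allRange chk_braid 20 5440 32 = true := by decide +kernel
theorem v_braid_0_170 : ∀ k, 0 ≤ k → k < 5472 → chk_braid (k * 20) = true := between_extend chk_braid 20 0 5440 32 (v_braid_0_169) r_braid_0_170

theorem r_braid_0_171 : allRange chk_braid 20 5472 32 = true := by decide +kernel
theorem v_braid_0_171 : ∀ k, 0 ≤ k → k < 5504 → chk_braid (k * 20) = true := between_extend chk_braid 20 0 5472 32 (v_braid_0_170) r_braid_0_171

theorem r_braid_0_172 : allRange chk_braid 20 5504 32 = true := by decide +kernel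
theorem v_braid_0_172 : ∀ k, 0 ≤ k → k < 5536 → chk_braid (k * 20) = true := between_extend chk_braid 20 0 5504 32 (v_braid_0_171) r_braid_0_172

theorem r_braid_0_173 : allRange chk_braid 20 5536 32 = true := by decide +kernel
theorem v_braid_0_173 : ∀ k, 0 ≤ k → k < 5568 → chk_braid (k * 20) = true := between_extend chk_braid 20 0 5536 32 (v_braid_0_172) r_braid_0_173

theorem r_braid_0_174 : allRange chk_braid 20 5568 32 = true := by decide +kernel
theorem v_braid_0_174 : ∀ k, 0 ≤ k → k < 5600 → chk_braid (k * 20) = true := between_extend chk_braid 20 0 5568 32 (v_braid_0_173) r_braid_0_174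

theorem r_braid_0_175 : allRange chk_braid 20 5600 32 = true := by decide +kernel
theorem v_braid_0_175 : ∀ k, 0 ≤ k → k < 5632 → chk_braid (k * 20) = true := between_extend chk_braid 20 0 5600 32 (v_braid_0_174) r_braid_0_175

theorem r_braid_0_176 : allRange chk_braid 20 5632 32 = true := by decide +kernel
theorem v_braid_0_176 : ∀ k, 0 ≤ k → k < 5664 → chk_braid (k * 20) = true := between_extend chk_braid 20 0 5632 32 (v_braid_0_175) r_braid_0_176

theorem r_braid_0_177 : allRange chk_braid 20 5664 32 = true := by decide +kernel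
theorem v_braid_0_177 : ∀ k, 0 ≤ k → k < 5696 → chk_braid (k * 20) = true := between_extend chk_braid 20 0 5664 32 (v_braid_0_176) r_braid_0_177

theorem r_braid_0_178 : allRange chk_braid 20 5696 32 = true := by decide +kernel
theorem v_braid_0_178 : ∀ k, 0 ≤ k → k < 5728 → chk_braid (k * 20) = true := between_extend chk_braid 20 0 5696 32 (v_braid_0_177) r_braid_0_178

theorem r_braid_0_179 : allRange chk_braid 20 5728 32 = true := by decide +kernel
theorem v_braid_0_179 : ∀ k, 0 ≤ k → k < 5760 → chk_braid (k * 20) = true := between_extend chk_braid 20 0 5728 32 (v_braid_0_178) r_braid_0_179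

theorem r_braid_0_180 : allRange chk_braid 20 5760 32 = true := by decide +kernel
theorem v_braid_0_180 : ∀ k, 0 ≤ k → k < 5792 → chk_braid (k * 20) = true := between_extend chk_braid 20 0 5760 32 (v_braid_0_179) r_braid_0_180

theorem r_braid_0_181 : allRange chk_braid 20 5792 32 = true := by decide +kernel
theorem v_braid_0_181 : ∀ k, 0 ≤ k → k < 5824 → chk_braid (k * 20) = true := between_extend chk_braid 20 0 5792 32 (v_braid_0_180) r_braid_0_181

theorem r_braid_0_182 : allRange chk_braid 20 5824 32 = true := by decide +kernel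
theorem v_braid_0_182 : ∀ k, 0 ≤ k → k < 5856 → chk_braid (k * 20) = true := between_extend chk_braid 20 0 5824 32 (v_braid_0_181) r_braid_0_182

theorem r_braid_0_183 : allRange chk_braid 20 5856 32 = true := by decide +kernel
theorem v_braid_0_183 : ∀ k, 0 ≤ k → k < 5888 → chk_braid (k * 20) = true := between_extend chk_braid 20 0 5856 32 (v_braid_0_182) r_braid_0_183

theorem r_braid_0_184 : allRange chk_braid 20 5888 32 = true := by decide +kernel
theorem v_braid_0_184 : ∀ k, 0 ≤ k → k < 5920 → chk_braid (k * 20) = true := between_extend chk_braid 20 0 5888 32 (v_braid_0_183) r_braid_0_184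

theorem r_braid_0_185 : allRange chk_braid 20 5920 32 = true := by decide +kernel
theorem v_braid_0_185 : ∀ k, 0 ≤ k → k < 5952 → chk_braid (k * 20) = true := between_extend chk_braid 20 0 5920 32 (v_braid_0_184) r_braid_0_185

theorem r_braid_0_186 : allRange chk_braid 20 5952 32 = true := by decide +kernel
theorem v_braid_0_186 : ∀ k, 0 ≤ k → k < 5984 → chk_braid (k * 20) = true := between_extend chk_braid 20 0 5952 32 (v_braid_0_185) r_braid_0_186

theorem r_braid_0_187 : allRange chk_braid 20 5984 32 = true := by decide +kernel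
theorem v_braid_0_187 : ∀ k, 0 ≤ k → k < 6016 → chk_braid (k * 20) = true := between_extend chk_braid 20 0 5984 32 (v_braid_0_186) r_braid_0_187

theorem r_braid_0_188 : allRange chk_braid 20 6016 32 = true := by decide +kernel
theorem v_braid_0_188 : ∀ k, 0 ≤ k → k < 6048 → chk_braid (k * 20) = true := between_extend chk_braid 20 0 6016 32 (v_braid_0_187) r_braid_0_188

theorem r_braid_0_189 : allRange chk_braid 20 6048 32 = true := by decide +kernel
theorem v_braid_0_189 : ∀ k, 0 ≤ k → k < 6080 → chk_braid (k * 20) = true := between_extend chk_braid 20 0 6048 32 (v_braid_0_188) r_braid_0_189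

theorem r_braid_0_190 : allRange chk_braid 20 6080 32 = true := by decide +kernel
theorem v_braid_0_190 : ∀ k, 0 ≤ k → k < 6112 → chk_braid (k * 20) = true := between_extend chk_braid 20 0 6080 32 (v_braid_0_189) r_braid_0_190

theorem r_braid_0_191 : allRange chk_braid 20 6112 32 = true := by decide +kernel
theorem v_braid_0_191 : ∀ k, 0 ≤ k → k < 6144 → chk_braid (k * 20) = true := between_extend chk_braid 20 0 6112 32 (v_braid_0_190) r_braid_0_191

theorem r_braid_0_192 : allRange chk_braid 20 6144 32 = true := by decide +kernel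
theorem v_braid_0_192 : ∀ k, 0 ≤ k → k < 6176 → chk_braid (k * 20) = true := between_extend chk_braid 20 0 6144 32 (v_braid_0_191) r_braid_0_192

theorem r_braid_0_193 : allRange chk_braid 20 6176 32 = true := by decide +kernel
theorem v_braid_0_193 : ∀ k, 0 ≤ k → k < 6208 → chk_braid (k * 20) = true := between_extend chk_braid 20 0 6176 32 (v_braid_0_192) r_braid_0_193

theorem r_braid_0_194 : allRange chk_braid 20 6208 32 = true := by decide +kernel
theorem v_braid_0_194 : ∀ k, 0 ≤ k → k < 6240 → chk_braid (k * 20) = true := between_extend chk_braid 20 0 6208 32 (v_braid_0_193) r_braid_0_194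

theorem r_braid_0_195 : allRange chk_braid 20 6240 32 = true := by decide +kernel
theorem v_braid_0_195 : ∀ k, 0 ≤ k → k < 6272 → chk_braid (k * 20) = true := between_extend chk_braid 20 0 6240 32 (v_braid_0_194) r_braid_0_195

theorem r_braid_0_196 : allRange chk_braid 20 6272 32 = true := by decide +kernel
theorem v_braid_0_196 : ∀ k, 0 ≤ k → k < 6304 → chk_braid (k * 20) = true := between_extend chk_braid 20 0 6272 32 (v_braid_0_195) r_braid_0_196

theorem r_braid_0_197 : allRange chk_braid 20 6304 32 = true := by decide +kernel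
theorem v_braid_0_197 : ∀ k, 0 ≤ k → k < 6336 → chk_braid (k * 20) = true := between_extend chk_braid 20 0 6304 32 (v_braid_0_196) r_braid_0_197

theorem r_braid_0_198 : allRange chk_braid 20 6336 32 = true := by decide +kernel
theorem v_braid_0_198 : ∀ k, 0 ≤ k → k < 6368 → chk_braid (k * 20) = true := between_extend chk_braid 20 0 6336 32 (v_braid_0_197) r_braid_0_198

theorem r_braid_0_199 : allRange chk_braid 20 6368 32 = true := by decide +kernel
theorem v_braid_0_199 : ∀ k, 0 ≤ k → k < 6400 → chk_braid (k * 20) = true := between_extend chk_braid 20 0 6368 32 (v_braid_0_198) r_braid_0_199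

theorem r_braid_0_200 : allRange chk_braid 20 6400 32 = true := by decide +kernel
theorem v_braid_0_200 : ∀ k, 0 ≤ k → k < 6432 → chk_braid (k * 20) = true := between_extend chk_braid 20 0 6400 32 (v_braid_0_199) r_braid_0_200

theorem r_braid_0_201 : allRange chk_braid 20 6432 32 = true := by decide +kernel
theorem v_braid_0_201 : ∀ k, 0 ≤ k → k < 6464 → chk_braid (k * 20) = true := between_extend chk_braid 20 0 6432 32 (v_braid_0_200) r_braid_0_201

theorem r_braid_0_202 : allRange chk_braid 20 6464 32 = true := by decide +kernel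
theorem v_braid_0_202 : ∀ k, 0 ≤ k → k < 6496 → chk_braid (k * 20) = true := between_extend chk_braid 20 0 6464 32 (v_braid_0_201) r_braid_0_202

theorem r_braid_0_203 : allRange chk_braid 20 6496 32 = true := by decide +kernel
theorem v_braid_0_203 : ∀ k, 0 ≤ k → k < 6528 → chk_braid (k * 20) = true := between_extend chk_braid 20 0 6496 32 (v_braid_0_202) r_braid_0_203

theorem r_braid_0_204 : allRange chk_braid 20 6528 32 = true := by decide +kernel
theorem v_braid_0_204 : ∀ k, 0 ≤ k → k < 6560 → chk_braid (k * 20) = true := between_extend chk_braid 20 0 6528 32 (v_braid_0_203) r_braid_0_204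

theorem r_braid_0_205 : allRange chk_braid 20 6560 32 = true := by decide +kernel
theorem v_braid_0_205 : ∀ k, 0 ≤ k → k < 6592 → chk_braid (k * 20) = true := between_extend chk_braid 20 0 6560 32 (v_braid_0_204) r_braid_0_205

theorem r_braid_0_206 : allRange chk_braid 20 6592 32 = true := by decide +kernel
theorem v_braid_0_206 : ∀ k, 0 ≤ k → k < 6624 → chk_braid (k * 20) = true := between_extend chk_braid 20 0 6592 32 (v_braid_0_205) r_braid_0_206

theorem r_braid_0_207 : allRange chk_braid 20 6624 32 = true := by decide +kernel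
theorem v_braid_0_207 : ∀ k, 0 ≤ k → k < 6656 → chk_braid (k * 20) = true := between_extend chk_braid 20 0 6624 32 (v_braid_0_206) r_braid_0_207

theorem r_braid_0_208 : allRange chk_braid 20 6656 32 = true := by decide +kernel
theorem v_braid_0_208 : ∀ k, 0 ≤ k → k < 6688 → chk_braid (k * 20) = true := between_extend chk_braid 20 0 6656 32 (v_braid_0_207) r_braid_0_208

theorem r_braid_0_209 : allRange chk_braid 20 6688 32 = true := by decide +kernel
theorem v_braid_0_209 : ∀ k, 0 ≤ k → k < 6720 → chk_braid (k * 20) = true := between_extend chk_braid 20 0 6688 32 (v_braid_0_208) r_braid_0_209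

theorem r_braid_0_210 : allRange chk_braid 20 6720 32 = true := by decide +kernel
theorem v_braid_0_210 : ∀ k, 0 ≤ k → k < 6752 → chk_braid (k * 20) = true := between_extend chk_braid 20 0 6720 32 (v_braid_0_209) r_braid_0_210

theorem r_braid_0_211 : allRange chk_braid 20 6752 32 = true := by decide +kernel
theorem v_braid_0_211 : ∀ k, 0 ≤ k → k < 6784 → chk_braid (k * 20) = true := between_extend chk_braid 20 0 6752 32 (v_braid_0_210) r_braid_0_211

theorem r_braid_0_212 : allRange chk_braid 20 6784 32 = true := by decide +kernel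
theorem v_braid_0_212 : ∀ k, 0 ≤ k → k < 6816 → chk_braid (k * 20) = true := between_extend chk_braid 20 0 6784 32 (v_braid_0_211) r_braid_0_212

theorem r_braid_0_213 : allRange chk_braid 20 6816 32 = true := by decide +kernel
theorem v_braid_0_213 : ∀ k, 0 ≤ k → k < 6848 → chk_braid (k * 20) = true := between_extend chk_braid 20 0 6816 32 (v_braid_0_212) r_braid_0_213

theorem r_braid_0_214 : allRange chk_braid 20 6848 32 = true := by decide +kernel
theorem v_braid_0_214 : ∀ k, 0 ≤ k → k < 6880 → chk_braid (k * 20) = true := between_extend chk_braid 20 0 6848 32 (v_braid_0_213) r_braid_0_214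

theorem r_braid_0_215 : allRange chk_braid 20 6880 32 = true := by decide +kernel
theorem v_braid_0_215 : ∀ k, 0 ≤ k → k < 6912 → chk_braid (k * 20) = true := between_extend chk_braid 20 0 6880 32 (v_braid_0_214) r_braid_0_215

theorem r_braid_0_216 : allRange chk_braid 20 6912 32 = true := by decide +kernel
theorem v_braid_0_216 : ∀ k, 0 ≤ k → k < 6944 → chk_braid (k * 20) = true := between_extend chk_braid 20 0 6912 32 (v_braid_0_215) r_braid_0_216

theorem r_braid_0_217 : allRange chk_braid 20 6944 32 = true := by decide +kernel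
theorem v_braid_0_217 : ∀ k, 0 ≤ k → k < 6976 → chk_braid (k * 20) = true := between_extend chk_braid 20 0 6944 32 (v_braid_0_216) r_braid_0_217

theorem r_braid_0_218 : allRange chk_braid 20 6976 32 = true := by decide +kernel
theorem v_braid_0_218 : ∀ k, 0 ≤ k → k < 7008 → chk_braid (k * 20) = true := between_extend chk_braid 20 0 6976 32 (v_braid_0_217) r_braid_0_218

theorem r_braid_0_219 : allRange chk_braid 20 7008 32 = true := by decide +kernel
theorem v_braid_0_219 : ∀ k, 0 ≤ k → k < 7040 → chk_braid (k * 20) = true := between_extend chk_braid 20 0 7008 32 (v_braid_0_218) r_braid_0_219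

theorem r_braid_0_220 : allRange chk_braid 20 7040 32 = true := by decide +kernel
theorem v_braid_0_220 : ∀ k, 0 ≤ k → k < 7072 → chk_braid (k * 20) = true := between_extend chk_braid 20 0 7040 32 (v_braid_0_219) r_braid_0_220

theorem r_braid_0_221 : allRange chk_braid 20 7072 32 = true := by decide +kernel
theorem v_braid_0_221 : ∀ k, 0 ≤ k → k < 7104 → chk_braid (k * 20) = true := between_extend chk_braid 20 0 7072 32 (v_braid_0_220) r_braid_0_221

theorem r_braid_0_222 : allRange chk_braid 20 7104 32 = true := by decide +kernel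
theorem v_braid_0_222 : ∀ k, 0 ≤ k → k < 7136 → chk_braid (k * 20) = true := between_extend chk_braid 20 0 7104 32 (v_braid_0_221) r_braid_0_222

theorem r_braid_0_223 : allRange chk_braid 20 7136 32 = true := by decide +kernel
theorem v_braid_0_223 : ∀ k, 0 ≤ k → k < 7168 → chk_braid (k * 20) = true := between_extend chk_braid 20 0 7136 32 (v_braid_0_222) r_braid_0_223

theorem r_braid_0_224 : allRange chk_braid 20 7168 32 = true := by decide +kernel
theorem v_braid_0_224 : ∀ k, 0 ≤ k → k < 7200 → chk_braid (k * 20) = true := between_extend chk_braid 20 0 7168 32 (v_braid_0_223) r_braid_0_224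

theorem r_braid_0_225 : allRange chk_braid 20 7200 32 = true := by decide +kernel
theorem v_braid_0_225 : ∀ k, 0 ≤ k → k < 7232 → chk_braid (k * 20) = true := between_extend chk_braid 20 0 7200 32 (v_braid_0_224) r_braid_0_225

theorem r_braid_0_226 : allRange chk_braid 20 7232 32 = true := by decide +kernel
theorem v_braid_0_226 : ∀ k, 0 ≤ k → k < 7264 → chk_braid (k * 20) = true := between_extend chk_braid 20 0 7232 32 (v_braid_0_225) r_braid_0_226

theorem r_braid_0_227 : allRange chk_braid 20 7264 32 = true := by decide +kernel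
theorem v_braid_0_227 : ∀ k, 0 ≤ k → k < 7296 → chk_braid (k * 20) = true := between_extend chk_braid 20 0 7264 32 (v_braid_0_226) r_braid_0_227

theorem r_braid_0_228 : allRange chk_braid 20 7296 32 = true := by decide +kernel
theorem v_braid_0_228 : ∀ k, 0 ≤ k → k < 7328 → chk_braid (k * 20) = true := between_extend chk_braid 20 0 7296 32 (v_braid_0_227) r_braid_0_228

theorem r_braid_0_229 : allRange chk_braid 20 7328 32 = true := by decide +kernel
theorem v_braid_0_229 : ∀ k, 0 ≤ k → k < 7360 → chk_braid (k * 20) = true := between_extend chk_braid 20 0 7328 32 (v_braid_0_228) r_braid_0_229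

theorem r_braid_0_230 : allRange chk_braid 20 7360 32 = true := by decide +kernel
theorem v_braid_0_230 : ∀ k, 0 ≤ k → k < 7392 → chk_braid (k * 20) = true := between_extend chk_braid 20 0 7360 32 (v_braid_0_229) r_braid_0_230

theorem r_braid_0_231 : allRange chk_braid 20 7392 32 = true := by decide +kernel
theorem v_braid_0_231 : ∀ k, 0 ≤ k → k < 7424 → chk_braid (k * 20) = true := between_extend chk_braid 20 0 7392 32 (v_braid_0_230) r_braid_0_231

theorem r_braid_0_232 : allRange chk_braid 20 7424 32 = true := by decide +kernel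
theorem v_braid_0_232 : ∀ k, 0 ≤ k → k < 7456 → chk_braid (k * 20) = true := between_extend chk_braid 20 0 7424 32 (v_braid_0_231) r_braid_0_232

theorem r_braid_0_233 : allRange chk_braid 20 7456 32 = true := by decide +kernel
theorem v_braid_0_233 : ∀ k, 0 ≤ k → k < 7488 → chk_braid (k * 20) = true := between_extend chk_braid 20 0 7456 32 (v_braid_0_232) r_braid_0_233

theorem r_braid_0_234 : allRange chk_braid 20 7488 32 = true := by decide +kernel
theorem v_braid_0_234 : ∀ k, 0 ≤ k → k < 7520 → chk_braid (k * 20) = true := between_extend chk_braid 20 0 7488 32 (v_braid_0_233) r_braid_0_234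

theorem r_braid_0_235 : allRange chk_braid 20 7520 32 = true := by decide +kernel
theorem v_braid_0_235 : ∀ k, 0 ≤ k → k < 7552 → chk_braid (k * 20) = true := between_extend chk_braid 20 0 7520 32 (v_braid_0_234) r_braid_0_235

theorem r_braid_0_236 : allRange chk_braid 20 7552 32 = true := by decide +kernel
theorem v_braid_0_236 : ∀ k, 0 ≤ k → k < 7584 → chk_braid (k * 20) = true := between_extend chk_braid 20 0 7552 32 (v_braid_0_235) r_braid_0_236

theorem r_braid_0_237 : allRange chk_braid 20 7584 32 = true := by decide +kernel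
theorem v_braid_0_237 : ∀ k, 0 ≤ k → k < 7616 → chk_braid (k * 20) = true := between_extend chk_braid 20 0 7584 32 (v_braid_0_236) r_braid_0_237

theorem r_braid_0_238 : allRange chk_braid 20 7616 32 = true := by decide +kernel
theorem v_braid_0_238 : ∀ k, 0 ≤ k → k < 7648 → chk_braid (k * 20) = true := between_extend chk_braid 20 0 7616 32 (v_braid_0_237) r_braid_0_238

theorem r_braid_0_239 : allRange chk_braid 20 7648 32 = true := by decide +kernel
theorem v_braid_0_239 : ∀ k, 0 ≤ k → k < 7680 → chk_braid (k * 20) = true := between_extend chk_braid 20 0 7648 32 (v_braid_0_238) r_braid_0_239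

theorem r_braid_0_240 : allRange chk_braid 20 7680 32 = true := by decide +kernel
theorem v_braid_0_240 : ∀ k, 0 ≤ k → k < 7712 → chk_braid (k * 20) = true := between_extend chk_braid 20 0 7680 32 (v_braid_0_239) r_braid_0_240

theorem r_braid_0_241 : allRange chk_braid 20 7712 32 = true := by decide +kernel
theorem v_braid_0_241 : ∀ k, 0 ≤ k → k < 7744 → chk_braid (k * 20) = true := between_extend chk_braid 20 0 7712 32 (v_braid_0_240) r_braid_0_241

theorem r_braid_0_242 : allRange chk_braid 20 7744 32 = true := by decide +kernel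
theorem v_braid_0_242 : ∀ k, 0 ≤ k → k < 7776 → chk_braid (k * 20) = true := between_extend chk_braid 20 0 7744 32 (v_braid_0_241) r_braid_0_242

theorem r_braid_0_243 : allRange chk_braid 20 7776 32 = true := by decide +kernel
theorem v_braid_0_243 : ∀ k, 0 ≤ k → k < 7808 → chk_braid (k * 20) = true := between_extend chk_braid 20 0 7776 32 (v_braid_0_242) r_braid_0_243

theorem r_braid_0_244 : allRange chk_braid 20 7808 32 = true := by decide +kernel
theorem v_braid_0_244 : ∀ k, 0 ≤ k → k < 7840 → chk_braid (k * 20) = true := between_extend chk_braid 20 0 7808 32 (v_braid_0_243) r_braid_0_244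

theorem r_braid_0_245 : allRange chk_braid 20 7840 32 = true := by decide +kernel
theorem v_braid_0_245 : ∀ k, 0 ≤ k → k < 7872 → chk_braid (k * 20) = true := between_extend chk_braid 20 0 7840 32 (v_braid_0_244) r_braid_0_245

theorem r_braid_0_246 : allRange chk_braid 20 7872 32 = true := by decide +kernel
theorem v_braid_0_246 : ∀ k, 0 ≤ k → k < 7904 → chk_braid (k * 20) = true := between_extend chk_braid 20 0 7872 32 (v_braid_0_245) r_braid_0_246

theorem r_braid_0_247 : allRange chk_braid 20 7904 32 = true := by decide +kernel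
theorem v_braid_0_247 : ∀ k, 0 ≤ k → k < 7936 → chk_braid (k * 20) = true := between_extend chk_braid 20 0 7904 32 (v_braid_0_246) r_braid_0_247

theorem r_braid_0_248 : allRange chk_braid 20 7936 32 = true := by decide +kernel
theorem v_braid_0_248 : ∀ k, 0 ≤ k → k < 7968 → chk_braid (k * 20) = true := between_extend chk_braid 20 0 7936 32 (v_braid_0_247) r_braid_0_248

theorem r_braid_0_249 : allRange chk_braid 20 7968 32 = true := by decide +kernel
theorem v_braid_0_249 : ∀ k, 0 ≤ k → k < 8000 → chk_braid (k * 20) = true := between_extend chk_braid 20 0 7968 32 (v_braid_0_248) r_braid_0_249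

theorem r_braid_0_250 : allRange chk_braid 20 8000 32 = true := by decide +kernel
theorem v_braid_0_250 : ∀ k, 0 ≤ k → k < 8032 → chk_braid (k * 20) = true := between_extend chk_braid 20 0 8000 32 (v_braid_0_249) r_braid_0_250

theorem r_braid_0_251 : allRange chk_braid 20 8032 32 = true := by decide +kernel
theorem v_braid_0_251 : ∀ k, 0 ≤ k → k < 8064 → chk_braid (k * 20) = true := between_extend chk_braid 20 0 8032 32 (v_braid_0_250) r_braid_0_251

theorem r_braid_0_252 : allRange chk_braid 20 8064 32 = true := by decide +kernel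
theorem v_braid_0_252 : ∀ k, 0 ≤ k → k < 8096 → chk_braid (k * 20) = true := between_extend chk_braid 20 0 8064 32 (v_braid_0_251) r_braid_0_252

theorem r_braid_0_253 : allRange chk_braid 20 8096 32 = true := by decide +kernel
theorem v_braid_0_253 : ∀ k, 0 ≤ k → k < 8128 → chk_braid (k * 20) = true := between_extend chk_braid 20 0 8096 32 (v_braid_0_252) r_braid_0_253

theorem r_braid_0_254 : allRange chk_braid 20 8128 32 = true := by decide +kernel
theorem v_braid_0_254 : ∀ k, 0 ≤ k → k < 8160 → chk_braid (k * 20) = true := between_extend chk_braid 20 0 8128 32 (v_braid_0_253) r_braid_0_254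

theorem r_braid_0_255 : allRange chk_braid 20 8160 32 = true := by decide +kernel
theorem v_braid_0_255 : ∀ k, 0 ≤ k → k < 8192 → chk_braid (k * 20) = true := between_extend chk_braid 20 0 8160 32 (v_braid_0_254) r_braid_0_255

theorem r_braid_0_256 : allRange chk_braid 20 8192 32 = true := by decide +kernel
theorem v_braid_0_256 : ∀ k, 0 ≤ k → k < 8224 → chk_braid (k * 20) = true := between_extend chk_braid 20 0 8192 32 (v_braid_0_255) r_braid_0_256

theorem r_braid_0_257 : allRange chk_braid 20 8224 32 = true := by decide +kernel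
theorem v_braid_0_257 : ∀ k, 0 ≤ k → k < 8256 → chk_braid (k * 20) = true := between_extend chk_braid 20 0 8224 32 (v_braid_0_256) r_braid_0_257

theorem r_braid_0_258 : allRange chk_braid 20 8256 32 = true := by decide +kernel
theorem v_braid_0_258 : ∀ k, 0 ≤ k → k < 8288 → chk_braid (k * 20) = true := between_extend chk_braid 20 0 8256 32 (v_braid_0_257) r_braid_0_258

theorem r_braid_0_259 : allRange chk_braid 20 8288 32 = true := by decide +kernel
theorem v_braid_0_259 : ∀ k, 0 ≤ k → k < 8320 → chk_braid (k * 20) = true := between_extend chk_braid 20 0 8288 32 (v_braid_0_258) r_braid_0_259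

theorem r_braid_0_260 : allRange chk_braid 20 8320 32 = true := by decide +kernel
theorem v_braid_0_260 : ∀ k, 0 ≤ k → k < 8352 → chk_braid (k * 20) = true := between_extend chk_braid 20 0 8320 32 (v_braid_0_259) r_braid_0_260

theorem r_braid_0_261 : allRange chk_braid 20 8352 32 = true := by decide +kernel
theorem v_braid_0_261 : ∀ k, 0 ≤ k → k < 8384 → chk_braid (k * 20) = true := between_extend chk_braid 20 0 8352 32 (v_braid_0_260) r_braid_0_261

theorem r_braid_0_262 : allRange chk_braid 20 8384 32 = true := by decide +kernel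
theorem v_braid_0_262 : ∀ k, 0 ≤ k → k < 8416 → chk_braid (k * 20) = true := between_extend chk_braid 20 0 8384 32 (v_braid_0_261) r_braid_0_262

theorem r_braid_0_263 : allRange chk_braid 20 8416 32 = true := by decide +kernel
theorem v_braid_0_263 : ∀ k, 0 ≤ k → k < 8448 → chk_braid (k * 20) = true := between_extend chk_braid 20 0 8416 32 (v_braid_0_262) r_braid_0_263

theorem r_braid_0_264 : allRange chk_braid 20 8448 32 = true := by decide +kernel
theorem v_braid_0_264 : ∀ k, 0 ≤ k → k < 8480 → chk_braid (k * 20) = true := between_extend chk_braid 20 0 8448 32 (v_braid_0_263) r_braid_0_264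

theorem r_braid_0_265 : allRange chk_braid 20 8480 32 = true := by decide +kernel
theorem v_braid_0_265 : ∀ k, 0 ≤ k → k < 8512 → chk_braid (k * 20) = true := between_extend chk_braid 20 0 8480 32 (v_braid_0_264) r_braid_0_265

theorem r_braid_0_266 : allRange chk_braid 20 8512 32 = true := by decide +kernel
theorem v_braid_0_266 : ∀ k, 0 ≤ k → k < 8544 → chk_braid (k * 20) = true := between_extend chk_braid 20 0 8512 32 (v_braid_0_265) r_braid_0_266

theorem r_braid_0_267 : allRange chk_braid 20 8544 32 = true := by decide +kernel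
theorem v_braid_0_267 : ∀ k, 0 ≤ k → k < 8576 → chk_braid (k * 20) = true := between_extend chk_braid 20 0 8544 32 (v_braid_0_266) r_braid_0_267

theorem r_braid_0_268 : allRange chk_braid 20 8576 32 = true := by decide +kernel
theorem v_braid_0_268 : ∀ k, 0 ≤ k → k < 8608 → chk_braid (k * 20) = true := between_extend chk_braid 20 0 8576 32 (v_braid_0_267) r_braid_0_268

theorem r_braid_0_269 : allRange chk_braid 20 8608 32 = true := by decide +kernel
theorem v_braid_0_269 : ∀ k, 0 ≤ k → k < 8640 → chk_braid (k * 20) = true := between_extend chk_braid 20 0 8608 32 (v_braid_0_268) r_braid_0_269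

theorem r_braid_0_270 : allRange chk_braid 20 8640 32 = true := by decide +kernel
theorem v_braid_0_270 : ∀ k, 0 ≤ k → k < 8672 → chk_braid (k * 20) = true := between_extend chk_braid 20 0 8640 32 (v_braid_0_269) r_braid_0_270

theorem r_braid_0_271 : allRange chk_braid 20 8672 32 = true := by decide +kernel
theorem v_braid_0_271 : ∀ k, 0 ≤ k → k < 8704 → chk_braid (k * 20) = true := between_extend chk_braid 20 0 8672 32 (v_braid_0_270) r_braid_0_271

theorem r_braid_0_272 : allRange chk_braid 20 8704 32 = true := by decide +kernel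
theorem v_braid_0_272 : ∀ k, 0 ≤ k → k < 8736 → chk_braid (k * 20) = true := between_extend chk_braid 20 0 8704 32 (v_braid_0_271) r_braid_0_272

theorem r_braid_0_273 : allRange chk_braid 20 8736 32 = true := by decide +kernel
theorem v_braid_0_273 : ∀ k, 0 ≤ k → k < 8768 → chk_braid (k * 20) = true := between_extend chk_braid 20 0 8736 32 (v_braid_0_272) r_braid_0_273

theorem r_braid_0_274 : allRange chk_braid 20 8768 32 = true := by decide +kernel
theorem v_braid_0_274 : ∀ k, 0 ≤ k → k < 8800 → chk_braid (k * 20) = true := between_extend chk_braid 20 0 8768 32 (v_braid_0_273) r_braid_0_274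

theorem r_braid_0_275 : allRange chk_braid 20 8800 32 = true := by decide +kernel
theorem v_braid_0_275 : ∀ k, 0 ≤ k → k < 8832 → chk_braid (k * 20) = true := between_extend chk_braid 20 0 8800 32 (v_braid_0_274) r_braid_0_275

theorem r_braid_0_276 : allRange chk_braid 20 8832 32 = true := by decide +kernel
theorem v_braid_0_276 : ∀ k, 0 ≤ k → k < 8864 → chk_braid (k * 20) = true := between_extend chk_braid 20 0 8832 32 (v_braid_0_275) r_braid_0_276

theorem r_braid_0_277 : allRange chk_braid 20 8864 32 = true := by decide +kernel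
theorem v_braid_0_277 : ∀ k, 0 ≤ k → k < 8896 → chk_braid (k * 20) = true := between_extend chk_braid 20 0 8864 32 (v_braid_0_276) r_braid_0_277

theorem r_braid_0_278 : allRange chk_braid 20 8896 32 = true := by decide +kernel
theorem v_braid_0_278 : ∀ k, 0 ≤ k → k < 8928 → chk_braid (k * 20) = true := between_extend chk_braid 20 0 8896 32 (v_braid_0_277) r_braid_0_278

theorem r_braid_0_279 : allRange chk_braid 20 8928 32 = true := by decide +kernel
theorem v_braid_0_279 : ∀ k, 0 ≤ k → k < 8960 → chk_braid (k * 20) = true := between_extend chk_braid 20 0 8928 32 (v_braid_0_278) r_braid_0_279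

theorem r_braid_0_280 : allRange chk_braid 20 8960 32 = true := by decide +kernel
theorem v_braid_0_280 : ∀ k, 0 ≤ k → k < 8992 → chk_braid (k * 20) = true := between_extend chk_braid 20 0 8960 32 (v_braid_0_279) r_braid_0_280

theorem r_braid_0_281 : allRange chk_braid 20 8992 32 = true := by decide +kernel
theorem v_braid_0_281 : ∀ k, 0 ≤ k → k < 9024 → chk_braid (k * 20) = true := between_extend chk_braid 20 0 8992 32 (v_braid_0_280) r_braid_0_281

theorem r_braid_0_282 : allRange chk_braid 20 9024 32 = true := by decide +kernel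
theorem v_braid_0_282 : ∀ k, 0 ≤ k → k < 9056 → chk_braid (k * 20) = true := between_extend chk_braid 20 0 9024 32 (v_braid_0_281) r_braid_0_282

theorem r_braid_0_283 : allRange chk_braid 20 9056 32 = true := by decide +kernel
theorem v_braid_0_283 : ∀ k, 0 ≤ k → k < 9088 → chk_braid (k * 20) = true := between_extend chk_braid 20 0 9056 32 (v_braid_0_282) r_braid_0_283

theorem r_braid_0_284 : allRange chk_braid 20 9088 32 = true := by decide +kernel
theorem v_braid_0_284 : ∀ k, 0 ≤ k → k < 9120 → chk_braid (k * 20) = true := between_extend chk_braid 20 0 9088 32 (v_braid_0_283) r_braid_0_284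

theorem r_braid_0_285 : allRange chk_braid 20 9120 32 = true := by decide +kernel
theorem v_braid_0_285 : ∀ k, 0 ≤ k → k < 9152 → chk_braid (k * 20) = true := between_extend chk_braid 20 0 9120 32 (v_braid_0_284) r_braid_0_285

theorem r_braid_0_286 : allRange chk_braid 20 9152 32 = true := by decide +kernel
theorem v_braid_0_286 : ∀ k, 0 ≤ k → k < 9184 → chk_braid (k * 20) = true := between_extend chk_braid 20 0 9152 32 (v_braid_0_285) r_braid_0_286

theorem r_braid_0_287 : allRange chk_braid 20 9184 32 = true := by decide +kernel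
theorem v_braid_0_287 : ∀ k, 0 ≤ k → k < 9216 → chk_braid (k * 20) = true := between_extend chk_braid 20 0 9184 32 (v_braid_0_286) r_braid_0_287

theorem r_braid_0_288 : allRange chk_braid 20 9216 32 = true := by decide +kernel
theorem v_braid_0_288 : ∀ k, 0 ≤ k → k < 9248 → chk_braid (k * 20) = true := between_extend chk_braid 20 0 9216 32 (v_braid_0_287) r_braid_0_288

theorem r_braid_0_289 : allRange chk_braid 20 9248 32 = true := by decide +kernel
theorem v_braid_0_289 : ∀ k, 0 ≤ k → k < 9280 → chk_braid (k * 20) = true := between_extend chk_braid 20 0 9248 32 (v_braid_0_288) r_braid_0_289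

theorem r_braid_0_290 : allRange chk_braid 20 9280 32 = true := by decide +kernel
theorem v_braid_0_290 : ∀ k, 0 ≤ k → k < 9312 → chk_braid (k * 20) = true := between_extend chk_braid 20 0 9280 32 (v_braid_0_289) r_braid_0_290

theorem r_braid_0_291 : allRange chk_braid 20 9312 32 = true := by decide +kernel
theorem v_braid_0_291 : ∀ k, 0 ≤ k → k < 9344 → chk_braid (k * 20) = true := between_extend chk_braid 20 0 9312 32 (v_braid_0_290) r_braid_0_291

theorem r_braid_0_292 : allRange chk_braid 20 9344 32 = true := by decide +kernel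
theorem v_braid_0_292 : ∀ k, 0 ≤ k → k < 9376 → chk_braid (k * 20) = true := between_extend chk_braid 20 0 9344 32 (v_braid_0_291) r_braid_0_292

theorem r_braid_0_293 : allRange chk_braid 20 9376 32 = true := by decide +kernel
theorem v_braid_0_293 : ∀ k, 0 ≤ k → k < 9408 → chk_braid (k * 20) = true := between_extend chk_braid 20 0 9376 32 (v_braid_0_292) r_braid_0_293

theorem r_braid_0_294 : allRange chk_braid 20 9408 32 = true := by decide +kernel
theorem v_braid_0_294 : ∀ k, 0 ≤ k → k < 9440 → chk_braid (k * 20) = true := between_extend chk_braid 20 0 9408 32 (v_braid_0_293) r_braid_0_294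

theorem r_braid_0_295 : allRange chk_braid 20 9440 32 = true := by decide +kernel
theorem v_braid_0_295 : ∀ k, 0 ≤ k → k < 9472 → chk_braid (k * 20) = true := between_extend chk_braid 20 0 9440 32 (v_braid_0_294) r_braid_0_295

theorem r_braid_0_296 : allRange chk_braid 20 9472 32 = true := by decide +kernel
theorem v_braid_0_296 : ∀ k, 0 ≤ k → k < 9504 → chk_braid (k * 20) = true := between_extend chk_braid 20 0 9472 32 (v_braid_0_295) r_braid_0_296

theorem r_braid_0_297 : allRange chk_braid 20 9504 32 = true := by decide +kernel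
theorem v_braid_0_297 : ∀ k, 0 ≤ k → k < 9536 → chk_braid (k * 20) = true := between_extend chk_braid 20 0 9504 32 (v_braid_0_296) r_braid_0_297

theorem r_braid_0_298 : allRange chk_braid 20 9536 32 = true := by decide +kernel
theorem v_braid_0_298 : ∀ k, 0 ≤ k → k < 9568 → chk_braid (k * 20) = true := between_extend chk_braid 20 0 9536 32 (v_braid_0_297) r_braid_0_298

theorem r_braid_0_299 : allRange chk_braid 20 9568 32 = true := by decide +kernel
theorem v_braid_0_299 : ∀ k, 0 ≤ k → k < 9600 → chk_braid (k * 20) = true := between_extend chk_braid 20 0 9568 32 (v_braid_0_298) r_braid_0_299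

theorem r_braid_0_300 : allRange chk_braid 20 9600 32 = true := by decide +kernel
theorem v_braid_0_300 : ∀ k, 0 ≤ k → k < 9632 → chk_braid (k * 20) = true := between_extend chk_braid 20 0 9600 32 (v_braid_0_299) r_braid_0_300

theorem r_braid_0_301 : allRange chk_braid 20 9632 32 = true := by decide +kernel
theorem v_braid_0_301 : ∀ k, 0 ≤ k → k < 9664 → chk_braid (k * 20) = true := between_extend chk_braid 20 0 9632 32 (v_braid_0_300) r_braid_0_301

theorem r_braid_0_302 : allRange chk_braid 20 9664 32 = true := by decide +kernel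
theorem v_braid_0_302 : ∀ k, 0 ≤ k → k < 9696 → chk_braid (k * 20) = true := between_extend chk_braid 20 0 9664 32 (v_braid_0_301) r_braid_0_302

theorem r_braid_0_303 : allRange chk_braid 20 9696 32 = true := by decide +kernel
theorem v_braid_0_303 : ∀ k, 0 ≤ k → k < 9728 → chk_braid (k * 20) = true := between_extend chk_braid 20 0 9696 32 (v_braid_0_302) r_braid_0_303

theorem r_braid_0_304 : allRange chk_braid 20 9728 32 = true := by decide +kernel
theorem v_braid_0_304 : ∀ k, 0 ≤ k → k < 9760 → chk_braid (k * 20) = true := between_extend chk_braid 20 0 9728 32 (v_braid_0_303) r_braid_0_304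

theorem r_braid_0_305 : allRange chk_braid 20 9760 32 = true := by decide +kernel
theorem v_braid_0_305 : ∀ k, 0 ≤ k → k < 9792 → chk_braid (k * 20) = true := between_extend chk_braid 20 0 9760 32 (v_braid_0_304) r_braid_0_305

theorem r_braid_0_306 : allRange chk_braid 20 9792 32 = true := by decide +kernel
theorem v_braid_0_306 : ∀ k, 0 ≤ k → k < 9824 → chk_braid (k * 20) = true := between_extend chk_braid 20 0 9792 32 (v_braid_0_305) r_braid_0_306

theorem r_braid_0_307 : allRange chk_braid 20 9824 32 = true := by decide +kernel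
theorem v_braid_0_307 : ∀ k, 0 ≤ k → k < 9856 → chk_braid (k * 20) = true := between_extend chk_braid 20 0 9824 32 (v_braid_0_306) r_braid_0_307

theorem r_braid_0_308 : allRange chk_braid 20 9856 32 = true := by decide +kernel
theorem v_braid_0_308 : ∀ k, 0 ≤ k → k < 9888 → chk_braid (k * 20) = true := between_extend chk_braid 20 0 9856 32 (v_braid_0_307) r_braid_0_308

theorem r_braid_0_309 : allRange chk_braid 20 9888 32 = true := by decide +kernel
theorem v_braid_0_309 : ∀ k, 0 ≤ k → k < 9920 → chk_braid (k * 20) = true := between_extend chk_braid 20 0 9888 32 (v_braid_0_308) r_braid_0_309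

theorem r_braid_0_310 : allRange chk_braid 20 9920 32 = true := by decide +kernel
theorem v_braid_0_310 : ∀ k, 0 ≤ k → k < 9952 → chk_braid (k * 20) = true := between_extend chk_braid 20 0 9920 32 (v_braid_0_309) r_braid_0_310

theorem r_braid_0_311 : allRange chk_braid 20 9952 32 = true := by decide +kernel
theorem v_braid_0_311 : ∀ k, 0 ≤ k → k < 9984 → chk_braid (k * 20) = true := between_extend chk_braid 20 0 9952 32 (v_braid_0_310) r_braid_0_311

theorem r_braid_0_312 : allRange chk_braid 20 9984 32 = true := by decide +kernel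
theorem v_braid_0_312 : ∀ k, 0 ≤ k → k < 10016 → chk_braid (k * 20) = true := between_extend chk_braid 20 0 9984 32 (v_braid_0_311) r_braid_0_312

theorem r_braid_0_313 : allRange chk_braid 20 10016 32 = true := by decide +kernel
theorem v_braid_0_313 : ∀ k, 0 ≤ k → k < 10048 → chk_braid (k * 20) = true := between_extend chk_braid 20 0 10016 32 (v_braid_0_312) r_braid_0_313

theorem r_braid_0_314 : allRange chk_braid 20 10048 32 = true := by decide +kernel
theorem v_braid_0_314 : ∀ k, 0 ≤ k → k < 10080 → chk_braid (k * 20) = true := between_extend chk_braid 20 0 10048 32 (v_braid_0_313) r_braid_0_314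

theorem r_braid_0_315 : allRange chk_braid 20 10080 32 = true := by decide +kernel
theorem v_braid_0_315 : ∀ k, 0 ≤ k → k < 10112 → chk_braid (k * 20) = true := between_extend chk_braid 20 0 10080 32 (v_braid_0_314) r_braid_0_315

theorem r_braid_0_316 : allRange chk_braid 20 10112 32 = true := by decide +kernel
theorem v_braid_0_316 : ∀ k, 0 ≤ k → k < 10144 → chk_braid (k * 20) = true := between_extend chk_braid 20 0 10112 32 (v_braid_0_315) r_braid_0_316

theorem r_braid_0_317 : allRange chk_braid 20 10144 32 = true := by decide +kernel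
theorem v_braid_0_317 : ∀ k, 0 ≤ k → k < 10176 → chk_braid (k * 20) = true := between_extend chk_braid 20 0 10144 32 (v_braid_0_316) r_braid_0_317

theorem r_braid_0_318 : allRange chk_braid 20 10176 32 = true := by decide +kernel
theorem v_braid_0_318 : ∀ k, 0 ≤ k → k < 10208 → chk_braid (k * 20) = true := between_extend chk_braid 20 0 10176 32 (v_braid_0_317) r_braid_0_318

theorem r_braid_0_319 : allRange chk_braid 20 10208 32 = true := by decide +kernel
theorem v_braid_0_319 : ∀ k, 0 ≤ k → k < 10240 → chk_braid (k * 20) = true := between_extend chk_braid 20 0 10208 32 (v_braid_0_318) r_braid_0_319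

theorem r_braid_0_320 : allRange chk_braid 20 10240 32 = true := by decide +kernel
theorem v_braid_0_320 : ∀ k, 0 ≤ k → k < 10272 → chk_braid (k * 20) = true := between_extend chk_braid 20 0 10240 32 (v_braid_0_319) r_braid_0_320

theorem r_braid_0_321 : allRange chk_braid 20 10272 32 = true := by decide +kernel
theorem v_braid_0_321 : ∀ k, 0 ≤ k → k < 10304 → chk_braid (k * 20) = true := between_extend chk_braid 20 0 10272 32 (v_braid_0_320) r_braid_0_321

theorem r_braid_0_322 : allRange chk_braid 20 10304 32 = true := by decide +kernel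
theorem v_braid_0_322 : ∀ k, 0 ≤ k → k < 10336 → chk_braid (k * 20) = true := between_extend chk_braid 20 0 10304 32 (v_braid_0_321) r_braid_0_322

theorem r_braid_0_323 : allRange chk_braid 20 10336 32 = true := by decide +kernel
theorem v_braid_0_323 : ∀ k, 0 ≤ k → k < 10368 → chk_braid (k * 20) = true := between_extend chk_braid 20 0 10336 32 (v_braid_0_322) r_braid_0_323

theorem r_braid_0_324 : allRange chk_braid 20 10368 32 = true := by decide +kernel
theorem v_braid_0_324 : ∀ k, 0 ≤ k → k < 10400 → chk_braid (k * 20) = true := between_extend chk_braid 20 0 10368 32 (v_braid_0_323) r_braid_0_324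

theorem r_braid_0_325 : allRange chk_braid 20 10400 32 = true := by decide +kernel
theorem v_braid_0_325 : ∀ k, 0 ≤ k → k < 10432 → chk_braid (k * 20) = true := between_extend chk_braid 20 0 10400 32 (v_braid_0_324) r_braid_0_325

theorem r_braid_0_326 : allRange chk_braid 20 10432 32 = true := by decide +kernel
theorem v_braid_0_326 : ∀ k, 0 ≤ k → k < 10464 → chk_braid (k * 20) = true := between_extend chk_braid 20 0 10432 32 (v_braid_0_325) r_braid_0_326

theorem r_braid_0_327 : allRange chk_braid 20 10464 32 = true := by decide +kernel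
theorem v_braid_0_327 : ∀ k, 0 ≤ k → k < 10496 → chk_braid (k * 20) = true := between_extend chk_braid 20 0 10464 32 (v_braid_0_326) r_braid_0_327

theorem r_braid_0_328 : allRange chk_braid 20 10496 32 = true := by decide +kernel
theorem v_braid_0_328 : ∀ k, 0 ≤ k → k < 10528 → chk_braid (k * 20) = true := between_extend chk_braid 20 0 10496 32 (v_braid_0_327) r_braid_0_328

theorem r_braid_0_329 : allRange chk_braid 20 10528 29 = true := by decide +kernel
theorem v_braid_0_329 : ∀ k, 0 ≤ k → k < 10557 → chk_braid (k * 20) = true := between_extend chk_braid 20 0 10528 29 (v_braid_0_328) r_braid_0_329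

theorem p_braid_0 : ∀ k, 0 ≤ k → k < 10557 → chk_braid (k * 20) = true := v_braid_0_329

end Cfsg.Agent.Lib.Helper28_Y5FiW
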