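import Cfsg.Agent.Lib.Helper28_Y5FiWDef

set_option autoImplicit false
set_option linter.constructorNameAsVariable false
set_option Elab.async false

namespace Cfsg.Agent.Lib.Helper28_Y5FiW

open Cfsg.Agent.Lib.Helper28_CosetPerm

theorem r_braid_1_0 : allRange chk_braid 20 10557 32 = true := by decide +kernel
theorem v_braid_1_0 : ∀ k, 10557 ≤ k → k < 10589 → chk_braid (k * 20) = true := between_extend chk_braid 20 10557 10557 32 (between_start chk_braid 20 10557) r_braid_1_0

theorem r_braid_1_1 : allRange chk_braid 20 10589 32 = true := by decide +kernel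
theorem v_braid_1_1 : ∀ k, 10557 ≤ k → k < 10621 → chk_braid (k * 20) = true := between_extend chk_braid 20 10557 10589 32 (v_braid_1_0) r_braid_1_1

theorem r_braid_1_2 : allRange chk_braid 20 10621 32 = true := by decide +kernel
theorem v_braid_1_2 : ∀ k, 10557 ≤ k → k < 10653 → chk_braid (k * 20) = true := between_extend chk_braid 20 10557 10621 32 (v_braid_1_1) r_braid_1_2

theorem r_braid_1_3 : allRange chk_braid 20 10653 32 = true := by decide +kernel
theorem v_braid_1_3 : ∀ k, 10557 ≤ k → k < 10685 → chk_braid (k * 20) = true := between_extend chk_braid 20 10557 10653 32 (v_braid_1_2) r_braid_1_3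

theorem r_braid_1_4 : allRange chk_braid 20 10685 32 = true := by decide +kernel
theorem v_braid_1_4 : ∀ k, 10557 ≤ k → k < 10717 → chk_braid (k * 20) = true := between_extend chk_braid 20 10557 10685 32 (v_braid_1_3) r_braid_1_4

theorem r_braid_1_5 : allRange chk_braid 20 10717 32 = true := by decide +kernel
theorem v_braid_1_5 : ∀ k, 10557 ≤ k → k < 10749 → chk_braid (k * 20) = true := between_extend chk_braid 20 10557 10717 32 (v_braid_1_4) r_braid_1_5

theorem r_braid_1_6 : allRange chk_braid 20 10749 32 = true := by decide +kernel
theorem v_braid_1_6 : ∀ k, 10557 ≤ k → k < 10781 → chk_braid (k * 20) = true := between_extend chk_braid 20 10557 10749 32 (v_braid_1_5) r_braid_1_6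

theorem r_braid_1_7 : allRange chk_braid 20 10781 32 = true := by decide +kernel
theorem v_braid_1_7 : ∀ k, 10557 ≤ k → k < 10813 → chk_braid (k * 20) = true := between_extend chk_braid 20 10557 10781 32 (v_braid_1_6) r_braid_1_7

theorem r_braid_1_8 : allRange chk_braid 20 10813 32 = true := by decide +kernel
theorem v_braid_1_8 : ∀ k, 10557 ≤ k → k < 10845 → chk_braid (k * 20) = true := between_extend chk_braid 20 10557 10813 32 (v_braid_1_7) r_braid_1_8

theorem r_braid_1_9 : allRange chk_braid 20 10845 32 = true := by decide +kernel
theorem v_braid_1_9 : ∀ k, 10557 ≤ k → k < 10877 → chk_braid (k * 20) = true := between_extend chk_braid 20 10557 10845 32 (v_braid_1_8) r_braid_1_9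

theorem r_braid_1_10 : allRange chk_braid 20 10877 32 = true := by decide +kernel
theorem v_braid_1_10 : ∀ k, 10557 ≤ k → k < 10909 → chk_braid (k * 20) = true := between_extend chk_braid 20 10557 10877 32 (v_braid_1_9) r_braid_1_10

theorem r_braid_1_11 : allRange chk_braid 20 10909 32 = true := by decide +kernel
theorem v_braid_1_11 : ∀ k, 10557 ≤ k → k < 10941 → chk_braid (k * 20) = true := between_extend chk_braid 20 10557 10909 32 (v_braid_1_10) r_braid_1_11

theorem r_braid_1_12 : allRange chk_braid 20 10941 32 = true := by decide +kernel
theorem v_braid_1_12 : ∀ k, 10557 ≤ k → k < 10973 → chk_braid (k * 20) = true := between_extend chk_braid 20 10557 10941 32 (v_braid_1_11) r_braid_1_12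

theorem r_braid_1_13 : allRange chk_braid 20 10973 32 = true := by decide +kernel
theorem v_braid_1_13 : ∀ k, 10557 ≤ k → k < 11005 → chk_braid (k * 20) = true := between_extend chk_braid 20 10557 10973 32 (v_braid_1_12) r_braid_1_13

theorem r_braid_1_14 : allRange chk_braid 20 11005 32 = true := by decide +kernel
theorem v_braid_1_14 : ∀ k, 10557 ≤ k → k < 11037 → chk_braid (k * 20) = true := between_extend chk_braid 20 10557 11005 32 (v_braid_1_13) r_braid_1_14

theorem r_braid_1_15 : allRange chk_braid 20 11037 32 = true := by decide +kernel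
theorem v_braid_1_15 : ∀ k, 10557 ≤ k → k < 11069 → chk_braid (k * 20) = true := between_extend chk_braid 20 10557 11037 32 (v_braid_1_14) r_braid_1_15

theorem r_braid_1_16 : allRange chk_braid 20 11069 32 = true := by decide +kernel
theorem v_braid_1_16 : ∀ k, 10557 ≤ k → k < 11101 → chk_braid (k * 20) = true := between_extend chk_braid 20 10557 11069 32 (v_braid_1_15) r_braid_1_16

theorem r_braid_1_17 : allRange chk_braid 20 11101 32 = true := by decide +kernel
theorem v_braid_1_17 : ∀ k, 10557 ≤ k → k < 11133 → chk_braid (k * 20) = true := between_extend chk_braid 20 10557 11101 32 (v_braid_1_16) r_braid_1_17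

theorem r_braid_1_18 : allRange chk_braid 20 11133 32 = true := by decide +kernel
theorem v_braid_1_18 : ∀ k, 10557 ≤ k → k < 11165 → chk_braid (k * 20) = true := between_extend chk_braid 20 10557 11133 32 (v_braid_1_17) r_braid_1_18

theorem r_braid_1_19 : allRange chk_braid 20 11165 32 = true := by decide +kernel
theorem v_braid_1_19 : ∀ k, 10557 ≤ k → k < 11197 → chk_braid (k * 20) = true := between_extend chk_braid 20 10557 11165 32 (v_braid_1_18) r_braid_1_19

theorem r_braid_1_20 : allRange chk_braid 20 11197 32 = true := by decide +kernel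
theorem v_braid_1_20 : ∀ k, 10557 ≤ k → k < 11229 → chk_braid (k * 20) = true := between_extend chk_braid 20 10557 11197 32 (v_braid_1_19) r_braid_1_20

theorem r_braid_1_21 : allRange chk_braid 20 11229 32 = true := by decide +kernel
theorem v_braid_1_21 : ∀ k, 10557 ≤ k → k < 11261 → chk_braid (k * 20) = true := between_extend chk_braid 20 10557 11229 32 (v_braid_1_20) r_braid_1_21

theorem r_braid_1_22 : allRange chk_braid 20 11261 32 = true := by decide +kernel
theorem v_braid_1_22 : ∀ k, 10557 ≤ k → k < 11293 → chk_braid (k * 20) = true := between_extend chk_braid 20 10557 11261 32 (v_braid_1_21) r_braid_1_22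

theorem r_braid_1_23 : allRange chk_braid 20 11293 32 = true := by decide +kernel
theorem v_braid_1_23 : ∀ k, 10557 ≤ k → k < 11325 → chk_braid (k * 20) = true := between_extend chk_braid 20 10557 11293 32 (v_braid_1_22) r_braid_1_23

theorem r_braid_1_24 : allRange chk_braid 20 11325 32 = true := by decide +kernel
theorem v_braid_1_24 : ∀ k, 10557 ≤ k → k < 11357 → chk_braid (k * 20) = true := between_extend chk_braid 20 10557 11325 32 (v_braid_1_23) r_braid_1_24

theorem r_braid_1_25 : allRange chk_braid 20 11357 32 = true := by decide +kernel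
theorem v_braid_1_25 : ∀ k, 10557 ≤ k → k < 11389 → chk_braid (k * 20) = true := between_extend chk_braid 20 10557 11357 32 (v_braid_1_24) r_braid_1_25

theorem r_braid_1_26 : allRange chk_braid 20 11389 32 = true := by decide +kernel
theorem v_braid_1_26 : ∀ k, 10557 ≤ k → k < 11421 → chk_braid (k * 20) = true := between_extend chk_braid 20 10557 11389 32 (v_braid_1_25) r_braid_1_26

theorem r_braid_1_27 : allRange chk_braid 20 11421 32 = true := by decide +kernel
theorem v_braid_1_27 : ∀ k, 10557 ≤ k → k < 11453 → chk_braid (k * 20) = true := between_extend chk_braid 20 10557 11421 32 (v_braid_1_26) r_braid_1_27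

theorem r_braid_1_28 : allRange chk_braid 20 11453 32 = true := by decide +kernel
theorem v_braid_1_28 : ∀ k, 10557 ≤ k → k < 11485 → chk_braid (k * 20) = true := between_extend chk_braid 20 10557 11453 32 (v_braid_1_27) r_braid_1_28

theorem r_braid_1_29 : allRange chk_braid 20 11485 32 = true := by decide +kernel
theorem v_braid_1_29 : ∀ k, 10557 ≤ k → k < 11517 → chk_braid (k * 20) = true := between_extend chk_braid 20 10557 11485 32 (v_braid_1_28) r_braid_1_29

theorem r_braid_1_30 : allRange chk_braid 20 11517 32 = true := by decide +kernel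
theorem v_braid_1_30 : ∀ k, 10557 ≤ k → k < 11549 → chk_braid (k * 20) = true := between_extend chk_braid 20 10557 11517 32 (v_braid_1_29) r_braid_1_30

theorem r_braid_1_31 : allRange chk_braid 20 11549 32 = true := by decide +kernel
theorem v_braid_1_31 : ∀ k, 10557 ≤ k → k < 11581 → chk_braid (k * 20) = true := between_extend chk_braid 20 10557 11549 32 (v_braid_1_30) r_braid_1_31

theorem r_braid_1_32 : allRange chk_braid 20 11581 32 = true := by decide +kernel
theorem v_braid_1_32 : ∀ k, 10557 ≤ k → k < 11613 → chk_braid (k * 20) = true := between_extend chk_braid 20 10557 11581 32 (v_braid_1_31) r_braid_1_32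

theorem r_braid_1_33 : allRange chk_braid 20 11613 32 = true := by decide +kernel
theorem v_braid_1_33 : ∀ k, 10557 ≤ k → k < 11645 → chk_braid (k * 20) = true := between_extend chk_braid 20 10557 11613 32 (v_braid_1_32) r_braid_1_33

theorem r_braid_1_34 : allRange chk_braid 20 11645 32 = true := by decide +kernel
theorem v_braid_1_34 : ∀ k, 10557 ≤ k → k < 11677 → chk_braid (k * 20) = true := between_extend chk_braid 20 10557 11645 32 (v_braid_1_33) r_braid_1_34

theorem r_braid_1_35 : allRange chk_braid 20 11677 32 = true := by decide +kernel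
theorem v_braid_1_35 : ∀ k, 10557 ≤ k → k < 11709 → chk_braid (k * 20) = true := between_extend chk_braid 20 10557 11677 32 (v_braid_1_34) r_braid_1_35

theorem r_braid_1_36 : allRange chk_braid 20 11709 32 = true := by decide +kernel
theorem v_braid_1_36 : ∀ k, 10557 ≤ k → k < 11741 → chk_braid (k * 20) = true := between_extend chk_braid 20 10557 11709 32 (v_braid_1_35) r_braid_1_36

theorem r_braid_1_37 : allRange chk_braid 20 11741 32 = true := by decide +kernel
theorem v_braid_1_37 : ∀ k, 10557 ≤ k → k < 11773 → chk_braid (k * 20) = true := between_extend chk_braid 20 10557 11741 32 (v_braid_1_36) r_braid_1_37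

theorem r_braid_1_38 : allRange chk_braid 20 11773 32 = true := by decide +kernel
theorem v_braid_1_38 : ∀ k, 10557 ≤ k → k < 11805 → chk_braid (k * 20) = true := between_extend chk_braid 20 10557 11773 32 (v_braid_1_37) r_braid_1_38

theorem r_braid_1_39 : allRange chk_braid 20 11805 32 = true := by decide +kernel
theorem v_braid_1_39 : ∀ k, 10557 ≤ k → k < 11837 → chk_braid (k * 20) = true := between_extend chk_braid 20 10557 11805 32 (v_braid_1_38) r_braid_1_39

theorem r_braid_1_40 : allRange chk_braid 20 11837 32 = true := by decide +kernel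
theorem v_braid_1_40 : ∀ k, 10557 ≤ k → k < 11869 → chk_braid (k * 20) = true := between_extend chk_braid 20 10557 11837 32 (v_braid_1_39) r_braid_1_40

theorem r_braid_1_41 : allRange chk_braid 20 11869 32 = true := by decide +kernel
theorem v_braid_1_41 : ∀ k, 10557 ≤ k → k < 11901 → chk_braid (k * 20) = true := between_extend chk_braid 20 10557 11869 32 (v_braid_1_40) r_braid_1_41

theorem r_braid_1_42 : allRange chk_braid 20 11901 32 = true := by decide +kernel
theorem v_braid_1_42 : ∀ k, 10557 ≤ k → k < 11933 → chk_braid (k * 20) = true := between_extend chk_braid 20 10557 11901 32 (v_braid_1_41) r_braid_1_42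

theorem r_braid_1_43 : allRange chk_braid 20 11933 32 = true := by decide +kernel
theorem v_braid_1_43 : ∀ k, 10557 ≤ k → k < 11965 → chk_braid (k * 20) = true := between_extend chk_braid 20 10557 11933 32 (v_braid_1_42) r_braid_1_43

theorem r_braid_1_44 : allRange chk_braid 20 11965 32 = true := by decide +kernel
theorem v_braid_1_44 : ∀ k, 10557 ≤ k → k < 11997 → chk_braid (k * 20) = true := between_extend chk_braid 20 10557 11965 32 (v_braid_1_43) r_braid_1_44

theorem r_braid_1_45 : allRange chk_braid 20 11997 32 = true := by decide +kernel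
theorem v_braid_1_45 : ∀ k, 10557 ≤ k → k < 12029 → chk_braid (k * 20) = true := between_extend chk_braid 20 10557 11997 32 (v_braid_1_44) r_braid_1_45

theorem r_braid_1_46 : allRange chk_braid 20 12029 32 = true := by decide +kernel
theorem v_braid_1_46 : ∀ k, 10557 ≤ k → k < 12061 → chk_braid (k * 20) = true := between_extend chk_braid 20 10557 12029 32 (v_braid_1_45) r_braid_1_46

theorem r_braid_1_47 : allRange chk_braid 20 12061 32 = true := by decide +kernel
theorem v_braid_1_47 : ∀ k, 10557 ≤ k → k < 12093 → chk_braid (k * 20) = true := between_extend chk_braid 20 10557 12061 32 (v_braid_1_46) r_braid_1_47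

theorem r_braid_1_48 : allRange chk_braid 20 12093 32 = true := by decide +kernel
theorem v_braid_1_48 : ∀ k, 10557 ≤ k → k < 12125 → chk_braid (k * 20) = true := between_extend chk_braid 20 10557 12093 32 (v_braid_1_47) r_braid_1_48

theorem r_braid_1_49 : allRange chk_braid 20 12125 32 = true := by decide +kernel
theorem v_braid_1_49 : ∀ k, 10557 ≤ k → k < 12157 → chk_braid (k * 20) = true := between_extend chk_braid 20 10557 12125 32 (v_braid_1_48) r_braid_1_49

theorem r_braid_1_50 : allRange chk_braid 20 12157 32 = true := by decide +kernel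
theorem v_braid_1_50 : ∀ k, 10557 ≤ k → k < 12189 → chk_braid (k * 20) = true := between_extend chk_braid 20 10557 12157 32 (v_braid_1_49) r_braid_1_50

theorem r_braid_1_51 : allRange chk_braid 20 12189 32 = true := by decide +kernel
theorem v_braid_1_51 : ∀ k, 10557 ≤ k → k < 12221 → chk_braid (k * 20) = true := between_extend chk_braid 20 10557 12189 32 (v_braid_1_50) r_braid_1_51

theorem r_braid_1_52 : allRange chk_braid 20 12221 32 = true := by decide +kernel
theorem v_braid_1_52 : ∀ k, 10557 ≤ k → k < 12253 → chk_braid (k * 20) = true := between_extend chk_braid 20 10557 12221 32 (v_braid_1_51) r_braid_1_52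

theorem r_braid_1_53 : allRange chk_braid 20 12253 32 = true := by decide +kernel
theorem v_braid_1_53 : ∀ k, 10557 ≤ k → k < 12285 → chk_braid (k * 20) = true := between_extend chk_braid 20 10557 12253 32 (v_braid_1_52) r_braid_1_53

theorem r_braid_1_54 : allRange chk_braid 20 12285 32 = true := by decide +kernel
theorem v_braid_1_54 : ∀ k, 10557 ≤ k → k < 12317 → chk_braid (k * 20) = true := between_extend chk_braid 20 10557 12285 32 (v_braid_1_53) r_braid_1_54

theorem r_braid_1_55 : allRange chk_braid 20 12317 32 = true := by decide +kernel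
theorem v_braid_1_55 : ∀ k, 10557 ≤ k → k < 12349 → chk_braid (k * 20) = true := between_extend chk_braid 20 10557 12317 32 (v_braid_1_54) r_braid_1_55

theorem r_braid_1_56 : allRange chk_braid 20 12349 32 = true := by decide +kernel
theorem v_braid_1_56 : ∀ k, 10557 ≤ k → k < 12381 → chk_braid (k * 20) = true := between_extend chk_braid 20 10557 12349 32 (v_braid_1_55) r_braid_1_56

theorem r_braid_1_57 : allRange chk_braid 20 12381 32 = true := by decide +kernel
theorem v_braid_1_57 : ∀ k, 10557 ≤ k → k < 12413 → chk_braid (k * 20) = true := between_extend chk_braid 20 10557 12381 32 (v_braid_1_56) r_braid_1_57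

theorem r_braid_1_58 : allRange chk_braid 20 12413 32 = true := by decide +kernel
theorem v_braid_1_58 : ∀ k, 10557 ≤ k → k < 12445 → chk_braid (k * 20) = true := between_extend chk_braid 20 10557 12413 32 (v_braid_1_57) r_braid_1_58

theorem r_braid_1_59 : allRange chk_braid 20 12445 32 = true := by decide +kernel
theorem v_braid_1_59 : ∀ k, 10557 ≤ k → k < 12477 → chk_braid (k * 20) = true := between_extend chk_braid 20 10557 12445 32 (v_braid_1_58) r_braid_1_59

theorem r_braid_1_60 : allRange chk_braid 20 12477 32 = true := by decide +kernel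
theorem v_braid_1_60 : ∀ k, 10557 ≤ k → k < 12509 → chk_braid (k * 20) = true := between_extend chk_braid 20 10557 12477 32 (v_braid_1_59) r_braid_1_60

theorem r_braid_1_61 : allRange chk_braid 20 12509 32 = true := by decide +kernel
theorem v_braid_1_61 : ∀ k, 10557 ≤ k → k < 12541 → chk_braid (k * 20) = true := between_extend chk_braid 20 10557 12509 32 (v_braid_1_60) r_braid_1_61

theorem r_braid_1_62 : allRange chk_braid 20 12541 32 = true := by decide +kernel
theorem v_braid_1_62 : ∀ k, 10557 ≤ k → k < 12573 → chk_braid (k * 20) = true := between_extend chk_braid 20 10557 12541 32 (v_braid_1_61) r_braid_1_62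

theorem r_braid_1_63 : allRange chk_braid 20 12573 32 = true := by decide +kernel
theorem v_braid_1_63 : ∀ k, 10557 ≤ k → k < 12605 → chk_braid (k * 20) = true := between_extend chk_braid 20 10557 12573 32 (v_braid_1_62) r_braid_1_63

theorem r_braid_1_64 : allRange chk_braid 20 12605 32 = true := by decide +kernel
theorem v_braid_1_64 : ∀ k, 10557 ≤ k → k < 12637 → chk_braid (k * 20) = true := between_extend chk_braid 20 10557 12605 32 (v_braid_1_63) r_braid_1_64

theorem r_braid_1_65 : allRange chk_braid 20 12637 32 = true := by decide +kernel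
theorem v_braid_1_65 : ∀ k, 10557 ≤ k → k < 12669 → chk_braid (k * 20) = true := between_extend chk_braid 20 10557 12637 32 (v_braid_1_64) r_braid_1_65

theorem r_braid_1_66 : allRange chk_braid 20 12669 32 = true := by decide +kernel
theorem v_braid_1_66 : ∀ k, 10557 ≤ k → k < 12701 → chk_braid (k * 20) = true := between_extend chk_braid 20 10557 12669 32 (v_braid_1_65) r_braid_1_66

theorem r_braid_1_67 : allRange chk_braid 20 12701 32 = true := by decide +kernel
theorem v_braid_1_67 : ∀ k, 10557 ≤ k → k < 12733 → chk_braid (k * 20) = true := between_extend chk_braid 20 10557 12701 32 (v_braid_1_66) r_braid_1_67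

theorem r_braid_1_68 : allRange chk_braid 20 12733 32 = true := by decide +kernel
theorem v_braid_1_68 : ∀ k, 10557 ≤ k → k < 12765 → chk_braid (k * 20) = true := between_extend chk_braid 20 10557 12733 32 (v_braid_1_67) r_braid_1_68

theorem r_braid_1_69 : allRange chk_braid 20 12765 32 = true := by decide +kernel
theorem v_braid_1_69 : ∀ k, 10557 ≤ k → k < 12797 → chk_braid (k * 20) = true := between_extend chk_braid 20 10557 12765 32 (v_braid_1_68) r_braid_1_69

theorem r_braid_1_70 : allRange chk_braid 20 12797 32 = true := by decide +kernel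
theorem v_braid_1_70 : ∀ k, 10557 ≤ k → k < 12829 → chk_braid (k * 20) = true := between_extend chk_braid 20 10557 12797 32 (v_braid_1_69) r_braid_1_70

theorem r_braid_1_71 : allRange chk_braid 20 12829 32 = true := by decide +kernel
theorem v_braid_1_71 : ∀ k, 10557 ≤ k → k < 12861 → chk_braid (k * 20) = true := between_extend chk_braid 20 10557 12829 32 (v_braid_1_70) r_braid_1_71

theorem r_braid_1_72 : allRange chk_braid 20 12861 32 = true := by decide +kernel
theorem v_braid_1_72 : ∀ k, 10557 ≤ k → k < 12893 → chk_braid (k * 20) = true := between_extend chk_braid 20 10557 12861 32 (v_braid_1_71) r_braid_1_72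

theorem r_braid_1_73 : allRange chk_braid 20 12893 32 = true := by decide +kernel
theorem v_braid_1_73 : ∀ k, 10557 ≤ k → k < 12925 → chk_braid (k * 20) = true := between_extend chk_braid 20 10557 12893 32 (v_braid_1_72) r_braid_1_73

theorem r_braid_1_74 : allRange chk_braid 20 12925 32 = true := by decide +kernel
theorem v_braid_1_74 : ∀ k, 10557 ≤ k → k < 12957 → chk_braid (k * 20) = true := between_extend chk_braid 20 10557 12925 32 (v_braid_1_73) r_braid_1_74

theorem r_braid_1_75 : allRange chk_braid 20 12957 32 = true := by decide +kernel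
theorem v_braid_1_75 : ∀ k, 10557 ≤ k → k < 12989 → chk_braid (k * 20) = true := between_extend chk_braid 20 10557 12957 32 (v_braid_1_74) r_braid_1_75

theorem r_braid_1_76 : allRange chk_braid 20 12989 32 = true := by decide +kernel
theorem v_braid_1_76 : ∀ k, 10557 ≤ k → k < 13021 → chk_braid (k * 20) = true := between_extend chk_braid 20 10557 12989 32 (v_braid_1_75) r_braid_1_76

theorem r_braid_1_77 : allRange chk_braid 20 13021 32 = true := by decide +kernel
theorem v_braid_1_77 : ∀ k, 10557 ≤ k → k < 13053 → chk_braid (k * 20) = true := between_extend chk_braid 20 10557 13021 32 (v_braid_1_76) r_braid_1_77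

theorem r_braid_1_78 : allRange chk_braid 20 13053 32 = true := by decide +kernel
theorem v_braid_1_78 : ∀ k, 10557 ≤ k → k < 13085 → chk_braid (k * 20) = true := between_extend chk_braid 20 10557 13053 32 (v_braid_1_77) r_braid_1_78

theorem r_braid_1_79 : allRange chk_braid 20 13085 32 = true := by decide +kernel
theorem v_braid_1_79 : ∀ k, 10557 ≤ k → k < 13117 → chk_braid (k * 20) = true := between_extend chk_braid 20 10557 13085 32 (v_braid_1_78) r_braid_1_79

theorem r_braid_1_80 : allRange chk_braid 20 13117 32 = true := by decide +kernel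
theorem v_braid_1_80 : ∀ k, 10557 ≤ k → k < 13149 → chk_braid (k * 20) = true := between_extend chk_braid 20 10557 13117 32 (v_braid_1_79) r_braid_1_80

theorem r_braid_1_81 : allRange chk_braid 20 13149 32 = true := by decide +kernel
theorem v_braid_1_81 : ∀ k, 10557 ≤ k → k < 13181 → chk_braid (k * 20) = true := between_extend chk_braid 20 10557 13149 32 (v_braid_1_80) r_braid_1_81

theorem r_braid_1_82 : allRange chk_braid 20 13181 32 = true := by decide +kernel
theorem v_braid_1_82 : ∀ k, 10557 ≤ k → k < 13213 → chk_braid (k * 20) = true := between_extend chk_braid 20 10557 13181 32 (v_braid_1_81) r_braid_1_82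

theorem r_braid_1_83 : allRange chk_braid 20 13213 32 = true := by decide +kernel
theorem v_braid_1_83 : ∀ k, 10557 ≤ k → k < 13245 → chk_braid (k * 20) = true := between_extend chk_braid 20 10557 13213 32 (v_braid_1_82) r_braid_1_83

theorem r_braid_1_84 : allRange chk_braid 20 13245 32 = true := by decide +kernel
theorem v_braid_1_84 : ∀ k, 10557 ≤ k → k < 13277 → chk_braid (k * 20) = true := between_extend chk_braid 20 10557 13245 32 (v_braid_1_83) r_braid_1_84

theorem r_braid_1_85 : allRange chk_braid 20 13277 32 = true := by decide +kernel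
theorem v_braid_1_85 : ∀ k, 10557 ≤ k → k < 13309 → chk_braid (k * 20) = true := between_extend chk_braid 20 10557 13277 32 (v_braid_1_84) r_braid_1_85

theorem r_braid_1_86 : allRange chk_braid 20 13309 32 = true := by decide +kernel
theorem v_braid_1_86 : ∀ k, 10557 ≤ k → k < 13341 → chk_braid (k * 20) = true := between_extend chk_braid 20 10557 13309 32 (v_braid_1_85) r_braid_1_86

theorem r_braid_1_87 : allRange chk_braid 20 13341 32 = true := by decide +kernel
theorem v_braid_1_87 : ∀ k, 10557 ≤ k → k < 13373 → chk_braid (k * 20) = true := between_extend chk_braid 20 10557 13341 32 (v_braid_1_86) r_braid_1_87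

theorem r_braid_1_88 : allRange chk_braid 20 13373 32 = true := by decide +kernel
theorem v_braid_1_88 : ∀ k, 10557 ≤ k → k < 13405 → chk_braid (k * 20) = true := between_extend chk_braid 20 10557 13373 32 (v_braid_1_87) r_braid_1_88

theorem r_braid_1_89 : allRange chk_braid 20 13405 32 = true := by decide +kernel
theorem v_braid_1_89 : ∀ k, 10557 ≤ k → k < 13437 → chk_braid (k * 20) = true := between_extend chk_braid 20 10557 13405 32 (v_braid_1_88) r_braid_1_89

theorem r_braid_1_90 : allRange chk_braid 20 13437 32 = true := by decide +kernel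
theorem v_braid_1_90 : ∀ k, 10557 ≤ k → k < 13469 → chk_braid (k * 20) = true := between_extend chk_braid 20 10557 13437 32 (v_braid_1_89) r_braid_1_90

theorem r_braid_1_91 : allRange chk_braid 20 13469 32 = true := by decide +kernel
theorem v_braid_1_91 : ∀ k, 10557 ≤ k → k < 13501 → chk_braid (k * 20) = true := between_extend chk_braid 20 10557 13469 32 (v_braid_1_90) r_braid_1_91

theorem r_braid_1_92 : allRange chk_braid 20 13501 32 = true := by decide +kernel
theorem v_braid_1_92 : ∀ k, 10557 ≤ k → k < 13533 → chk_braid (k * 20) = true := between_extend chk_braid 20 10557 13501 32 (v_braid_1_91) r_braid_1_92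

theorem r_braid_1_93 : allRange chk_braid 20 13533 32 = true := by decide +kernel
theorem v_braid_1_93 : ∀ k, 10557 ≤ k → k < 13565 → chk_braid (k * 20) = true := between_extend chk_braid 20 10557 13533 32 (v_braid_1_92) r_braid_1_93

theorem r_braid_1_94 : allRange chk_braid 20 13565 32 = true := by decide +kernel
theorem v_braid_1_94 : ∀ k, 10557 ≤ k → k < 13597 → chk_braid (k * 20) = true := between_extend chk_braid 20 10557 13565 32 (v_braid_1_93) r_braid_1_94

theorem r_braid_1_95 : allRange chk_braid 20 13597 32 = true := by decide +kernel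
theorem v_braid_1_95 : ∀ k, 10557 ≤ k → k < 13629 → chk_braid (k * 20) = true := between_extend chk_braid 20 10557 13597 32 (v_braid_1_94) r_braid_1_95

theorem r_braid_1_96 : allRange chk_braid 20 13629 32 = true := by decide +kernel
theorem v_braid_1_96 : ∀ k, 10557 ≤ k → k < 13661 → chk_braid (k * 20) = true := between_extend chk_braid 20 10557 13629 32 (v_braid_1_95) r_braid_1_96

theorem r_braid_1_97 : allRange chk_braid 20 13661 32 = true := by decide +kernel
theorem v_braid_1_97 : ∀ k, 10557 ≤ k → k < 13693 → chk_braid (k * 20) = true := between_extend chk_braid 20 10557 13661 32 (v_braid_1_96) r_braid_1_97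

theorem r_braid_1_98 : allRange chk_braid 20 13693 32 = true := by decide +kernel
theorem v_braid_1_98 : ∀ k, 10557 ≤ k → k < 13725 → chk_braid (k * 20) = true := between_extend chk_braid 20 10557 13693 32 (v_braid_1_97) r_braid_1_98

theorem r_braid_1_99 : allRange chk_braid 20 13725 32 = true := by decide +kernel
theorem v_braid_1_99 : ∀ k, 10557 ≤ k → k < 13757 → chk_braid (k * 20) = true := between_extend chk_braid 20 10557 13725 32 (v_braid_1_98) r_braid_1_99

theorem r_braid_1_100 : allRange chk_braid 20 13757 32 = true := by decide +kernel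
theorem v_braid_1_100 : ∀ k, 10557 ≤ k → k < 13789 → chk_braid (k * 20) = true := between_extend chk_braid 20 10557 13757 32 (v_braid_1_99) r_braid_1_100

theorem r_braid_1_101 : allRange chk_braid 20 13789 32 = true := by decide +kernel
theorem v_braid_1_101 : ∀ k, 10557 ≤ k → k < 13821 → chk_braid (k * 20) = true := between_extend chk_braid 20 10557 13789 32 (v_braid_1_100) r_braid_1_101

theorem r_braid_1_102 : allRange chk_braid 20 13821 32 = true := by decide +kernel
theorem v_braid_1_102 : ∀ k, 10557 ≤ k → k < 13853 → chk_braid (k * 20) = true := between_extend chk_braid 20 10557 13821 32 (v_braid_1_101) r_braid_1_102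

theorem r_braid_1_103 : allRange chk_braid 20 13853 32 = true := by decide +kernel
theorem v_braid_1_103 : ∀ k, 10557 ≤ k → k < 13885 → chk_braid (k * 20) = true := between_extend chk_braid 20 10557 13853 32 (v_braid_1_102) r_braid_1_103

theorem r_braid_1_104 : allRange chk_braid 20 13885 32 = true := by decide +kernel
theorem v_braid_1_104 : ∀ k, 10557 ≤ k → k < 13917 → chk_braid (k * 20) = true := between_extend chk_braid 20 10557 13885 32 (v_braid_1_103) r_braid_1_104

theorem r_braid_1_105 : allRange chk_braid 20 13917 32 = true := by decide +kernel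
theorem v_braid_1_105 : ∀ k, 10557 ≤ k → k < 13949 → chk_braid (k * 20) = true := between_extend chk_braid 20 10557 13917 32 (v_braid_1_104) r_braid_1_105

theorem r_braid_1_106 : allRange chk_braid 20 13949 32 = true := by decide +kernel
theorem v_braid_1_106 : ∀ k, 10557 ≤ k → k < 13981 → chk_braid (k * 20) = true := between_extend chk_braid 20 10557 13949 32 (v_braid_1_105) r_braid_1_106

theorem r_braid_1_107 : allRange chk_braid 20 13981 32 = true := by decide +kernel
theorem v_braid_1_107 : ∀ k, 10557 ≤ k → k < 14013 → chk_braid (k * 20) = true := between_extend chk_braid 20 10557 13981 32 (v_braid_1_106) r_braid_1_107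

theorem r_braid_1_108 : allRange chk_braid 20 14013 32 = true := by decide +kernel
theorem v_braid_1_108 : ∀ k, 10557 ≤ k → k < 14045 → chk_braid (k * 20) = true := between_extend chk_braid 20 10557 14013 32 (v_braid_1_107) r_braid_1_108

theorem r_braid_1_109 : allRange chk_braid 20 14045 32 = true := by decide +kernel
theorem v_braid_1_109 : ∀ k, 10557 ≤ k → k < 14077 → chk_braid (k * 20) = true := between_extend chk_braid 20 10557 14045 32 (v_braid_1_108) r_braid_1_109

theorem r_braid_1_110 : allRange chk_braid 20 14077 32 = true := by decide +kernel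
theorem v_braid_1_110 : ∀ k, 10557 ≤ k → k < 14109 → chk_braid (k * 20) = true := between_extend chk_braid 20 10557 14077 32 (v_braid_1_109) r_braid_1_110

theorem r_braid_1_111 : allRange chk_braid 20 14109 32 = true := by decide +kernel
theorem v_braid_1_111 : ∀ k, 10557 ≤ k → k < 14141 → chk_braid (k * 20) = true := between_extend chk_braid 20 10557 14109 32 (v_braid_1_110) r_braid_1_111

theorem r_braid_1_112 : allRange chk_braid 20 14141 32 = true := by decide +kernel
theorem v_braid_1_112 : ∀ k, 10557 ≤ k → k < 14173 → chk_braid (k * 20) = true := between_extend chk_braid 20 10557 14141 32 (v_braid_1_111) r_braid_1_112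

theorem r_braid_1_113 : allRange chk_braid 20 14173 32 = true := by decide +kernel
theorem v_braid_1_113 : ∀ k, 10557 ≤ k → k < 14205 → chk_braid (k * 20) = true := between_extend chk_braid 20 10557 14173 32 (v_braid_1_112) r_braid_1_113

theorem r_braid_1_114 : allRange chk_braid 20 14205 32 = true := by decide +kernel
theorem v_braid_1_114 : ∀ k, 10557 ≤ k → k < 14237 → chk_braid (k * 20) = true := between_extend chk_braid 20 10557 14205 32 (v_braid_1_113) r_braid_1_114

theorem r_braid_1_115 : allRange chk_braid 20 14237 32 = true := by decide +kernel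
theorem v_braid_1_115 : ∀ k, 10557 ≤ k → k < 14269 → chk_braid (k * 20) = true := between_extend chk_braid 20 10557 14237 32 (v_braid_1_114) r_braid_1_115

theorem r_braid_1_116 : allRange chk_braid 20 14269 32 = true := by decide +kernel
theorem v_braid_1_116 : ∀ k, 10557 ≤ k → k < 14301 → chk_braid (k * 20) = true := between_extend chk_braid 20 10557 14269 32 (v_braid_1_115) r_braid_1_116

theorem r_braid_1_117 : allRange chk_braid 20 14301 32 = true := by decide +kernel
theorem v_braid_1_117 : ∀ k, 10557 ≤ k → k < 14333 → chk_braid (k * 20) = true := between_extend chk_braid 20 10557 14301 32 (v_braid_1_116) r_braid_1_117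

theorem r_braid_1_118 : allRange chk_braid 20 14333 32 = true := by decide +kernel
theorem v_braid_1_118 : ∀ k, 10557 ≤ k → k < 14365 → chk_braid (k * 20) = true := between_extend chk_braid 20 10557 14333 32 (v_braid_1_117) r_braid_1_118

theorem r_braid_1_119 : allRange chk_braid 20 14365 32 = true := by decide +kernel
theorem v_braid_1_119 : ∀ k, 10557 ≤ k → k < 14397 → chk_braid (k * 20) = true := between_extend chk_braid 20 10557 14365 32 (v_braid_1_118) r_braid_1_119

theorem r_braid_1_120 : allRange chk_braid 20 14397 32 = true := by decide +kernel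
theorem v_braid_1_120 : ∀ k, 10557 ≤ k → k < 14429 → chk_braid (k * 20) = true := between_extend chk_braid 20 10557 14397 32 (v_braid_1_119) r_braid_1_120

theorem r_braid_1_121 : allRange chk_braid 20 14429 32 = true := by decide +kernel
theorem v_braid_1_121 : ∀ k, 10557 ≤ k → k < 14461 → chk_braid (k * 20) = true := between_extend chk_braid 20 10557 14429 32 (v_braid_1_120) r_braid_1_121

theorem r_braid_1_122 : allRange chk_braid 20 14461 32 = true := by decide +kernel
theorem v_braid_1_122 : ∀ k, 10557 ≤ k → k < 14493 → chk_braid (k * 20) = true := between_extend chk_braid 20 10557 14461 32 (v_braid_1_121) r_braid_1_122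

theorem r_braid_1_123 : allRange chk_braid 20 14493 32 = true := by decide +kernel
theorem v_braid_1_123 : ∀ k, 10557 ≤ k → k < 14525 → chk_braid (k * 20) = true := between_extend chk_braid 20 10557 14493 32 (v_braid_1_122) r_braid_1_123

theorem r_braid_1_124 : allRange chk_braid 20 14525 32 = true := by decide +kernel
theorem v_braid_1_124 : ∀ k, 10557 ≤ k → k < 14557 → chk_braid (k * 20) = true := between_extend chk_braid 20 10557 14525 32 (v_braid_1_123) r_braid_1_124

theorem r_braid_1_125 : allRange chk_braid 20 14557 32 = true := by decide +kernel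
theorem v_braid_1_125 : ∀ k, 10557 ≤ k → k < 14589 → chk_braid (k * 20) = true := between_extend chk_braid 20 10557 14557 32 (v_braid_1_124) r_braid_1_125

theorem r_braid_1_126 : allRange chk_braid 20 14589 32 = true := by decide +kernel
theorem v_braid_1_126 : ∀ k, 10557 ≤ k → k < 14621 → chk_braid (k * 20) = true := between_extend chk_braid 20 10557 14589 32 (v_braid_1_125) r_braid_1_126

theorem r_braid_1_127 : allRange chk_braid 20 14621 32 = true := by decide +kernel
theorem v_braid_1_127 : ∀ k, 10557 ≤ k → k < 14653 → chk_braid (k * 20) = true := between_extend chk_braid 20 10557 14621 32 (v_braid_1_126) r_braid_1_127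

theorem r_braid_1_128 : allRange chk_braid 20 14653 32 = true := by decide +kernel
theorem v_braid_1_128 : ∀ k, 10557 ≤ k → k < 14685 → chk_braid (k * 20) = true := between_extend chk_braid 20 10557 14653 32 (v_braid_1_127) r_braid_1_128

theorem r_braid_1_129 : allRange chk_braid 20 14685 32 = true := by decide +kernel
theorem v_braid_1_129 : ∀ k, 10557 ≤ k → k < 14717 → chk_braid (k * 20) = true := between_extend chk_braid 20 10557 14685 32 (v_braid_1_128) r_braid_1_129

theorem r_braid_1_130 : allRange chk_braid 20 14717 32 = true := by decide +kernel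
theorem v_braid_1_130 : ∀ k, 10557 ≤ k → k < 14749 → chk_braid (k * 20) = true := between_extend chk_braid 20 10557 14717 32 (v_braid_1_129) r_braid_1_130

theorem r_braid_1_131 : allRange chk_braid 20 14749 32 = true := by decide +kernel
theorem v_braid_1_131 : ∀ k, 10557 ≤ k → k < 14781 → chk_braid (k * 20) = true := between_extend chk_braid 20 10557 14749 32 (v_braid_1_130) r_braid_1_131

theorem r_braid_1_132 : allRange chk_braid 20 14781 32 = true := by decide +kernel
theorem v_braid_1_132 : ∀ k, 10557 ≤ k → k < 14813 → chk_braid (k * 20) = true := between_extend chk_braid 20 10557 14781 32 (v_braid_1_131) r_braid_1_132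

theorem r_braid_1_133 : allRange chk_braid 20 14813 32 = true := by decide +kernel
theorem v_braid_1_133 : ∀ k, 10557 ≤ k → k < 14845 → chk_braid (k * 20) = true := between_extend chk_braid 20 10557 14813 32 (v_braid_1_132) r_braid_1_133

theorem r_braid_1_134 : allRange chk_braid 20 14845 32 = true := by decide +kernel
theorem v_braid_1_134 : ∀ k, 10557 ≤ k → k < 14877 → chk_braid (k * 20) = true := between_extend chk_braid 20 10557 14845 32 (v_braid_1_133) r_braid_1_134

theorem r_braid_1_135 : allRange chk_braid 20 14877 32 = true := by decide +kernel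
theorem v_braid_1_135 : ∀ k, 10557 ≤ k → k < 14909 → chk_braid (k * 20) = true := between_extend chk_braid 20 10557 14877 32 (v_braid_1_134) r_braid_1_135

theorem r_braid_1_136 : allRange chk_braid 20 14909 32 = true := by decide +kernel
theorem v_braid_1_136 : ∀ k, 10557 ≤ k → k < 14941 → chk_braid (k * 20) = true := between_extend chk_braid 20 10557 14909 32 (v_braid_1_135) r_braid_1_136

theorem r_braid_1_137 : allRange chk_braid 20 14941 32 = true := by decide +kernel
theorem v_braid_1_137 : ∀ k, 10557 ≤ k → k < 14973 → chk_braid (k * 20) = true := between_extend chk_braid 20 10557 14941 32 (v_braid_1_136) r_braid_1_137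

theorem r_braid_1_138 : allRange chk_braid 20 14973 32 = true := by decide +kernel
theorem v_braid_1_138 : ∀ k, 10557 ≤ k → k < 15005 → chk_braid (k * 20) = true := between_extend chk_braid 20 10557 14973 32 (v_braid_1_137) r_braid_1_138

theorem r_braid_1_139 : allRange chk_braid 20 15005 32 = true := by decide +kernel
theorem v_braid_1_139 : ∀ k, 10557 ≤ k → k < 15037 → chk_braid (k * 20) = true := between_extend chk_braid 20 10557 15005 32 (v_braid_1_138) r_braid_1_139

theorem r_braid_1_140 : allRange chk_braid 20 15037 32 = true := by decide +kernel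
theorem v_braid_1_140 : ∀ k, 10557 ≤ k → k < 15069 → chk_braid (k * 20) = true := between_extend chk_braid 20 10557 15037 32 (v_braid_1_139) r_braid_1_140

theorem r_braid_1_141 : allRange chk_braid 20 15069 32 = true := by decide +kernel
theorem v_braid_1_141 : ∀ k, 10557 ≤ k → k < 15101 → chk_braid (k * 20) = true := between_extend chk_braid 20 10557 15069 32 (v_braid_1_140) r_braid_1_141

theorem r_braid_1_142 : allRange chk_braid 20 15101 32 = true := by decide +kernel
theorem v_braid_1_142 : ∀ k, 10557 ≤ k → k < 15133 → chk_braid (k * 20) = true := between_extend chk_braid 20 10557 15101 32 (v_braid_1_141) r_braid_1_142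

theorem r_braid_1_143 : allRange chk_braid 20 15133 32 = true := by decide +kernel
theorem v_braid_1_143 : ∀ k, 10557 ≤ k → k < 15165 → chk_braid (k * 20) = true := between_extend chk_braid 20 10557 15133 32 (v_braid_1_142) r_braid_1_143

theorem r_braid_1_144 : allRange chk_braid 20 15165 32 = true := by decide +kernel
theorem v_braid_1_144 : ∀ k, 10557 ≤ k → k < 15197 → chk_braid (k * 20) = true := between_extend chk_braid 20 10557 15165 32 (v_braid_1_143) r_braid_1_144

theorem r_braid_1_145 : allRange chk_braid 20 15197 32 = true := by decide +kernel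
theorem v_braid_1_145 : ∀ k, 10557 ≤ k → k < 15229 → chk_braid (k * 20) = true := between_extend chk_braid 20 10557 15197 32 (v_braid_1_144) r_braid_1_145

theorem r_braid_1_146 : allRange chk_braid 20 15229 32 = true := by decide +kernel
theorem v_braid_1_146 : ∀ k, 10557 ≤ k → k < 15261 → chk_braid (k * 20) = true := between_extend chk_braid 20 10557 15229 32 (v_braid_1_145) r_braid_1_146

theorem r_braid_1_147 : allRange chk_braid 20 15261 32 = true := by decide +kernel
theorem v_braid_1_147 : ∀ k, 10557 ≤ k → k < 15293 → chk_braid (k * 20) = true := between_extend chk_braid 20 10557 15261 32 (v_braid_1_146) r_braid_1_147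

theorem r_braid_1_148 : allRange chk_braid 20 15293 32 = true := by decide +kernel
theorem v_braid_1_148 : ∀ k, 10557 ≤ k → k < 15325 → chk_braid (k * 20) = true := between_extend chk_braid 20 10557 15293 32 (v_braid_1_147) r_braid_1_148

theorem r_braid_1_149 : allRange chk_braid 20 15325 32 = true := by decide +kernel
theorem v_braid_1_149 : ∀ k, 10557 ≤ k → k < 15357 → chk_braid (k * 20) = true := between_extend chk_braid 20 10557 15325 32 (v_braid_1_148) r_braid_1_149

theorem r_braid_1_150 : allRange chk_braid 20 15357 32 = true := by decide +kernel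
theorem v_braid_1_150 : ∀ k, 10557 ≤ k → k < 15389 → chk_braid (k * 20) = true := between_extend chk_braid 20 10557 15357 32 (v_braid_1_149) r_braid_1_150

theorem r_braid_1_151 : allRange chk_braid 20 15389 32 = true := by decide +kernel
theorem v_braid_1_151 : ∀ k, 10557 ≤ k → k < 15421 → chk_braid (k * 20) = true := between_extend chk_braid 20 10557 15389 32 (v_braid_1_150) r_braid_1_151

theorem r_braid_1_152 : allRange chk_braid 20 15421 32 = true := by decide +kernel
theorem v_braid_1_152 : ∀ k, 10557 ≤ k → k < 15453 → chk_braid (k * 20) = true := between_extend chk_braid 20 10557 15421 32 (v_braid_1_151) r_braid_1_152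

theorem r_braid_1_153 : allRange chk_braid 20 15453 32 = true := by decide +kernel
theorem v_braid_1_153 : ∀ k, 10557 ≤ k → k < 15485 → chk_braid (k * 20) = true := between_extend chk_braid 20 10557 15453 32 (v_braid_1_152) r_braid_1_153

theorem r_braid_1_154 : allRange chk_braid 20 15485 32 = true := by decide +kernel
theorem v_braid_1_154 : ∀ k, 10557 ≤ k → k < 15517 → chk_braid (k * 20) = true := between_extend chk_braid 20 10557 15485 32 (v_braid_1_153) r_braid_1_154

theorem r_braid_1_155 : allRange chk_braid 20 15517 32 = true := by decide +kernel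
theorem v_braid_1_155 : ∀ k, 10557 ≤ k → k < 15549 → chk_braid (k * 20) = true := between_extend chk_braid 20 10557 15517 32 (v_braid_1_154) r_braid_1_155

theorem r_braid_1_156 : allRange chk_braid 20 15549 32 = true := by decide +kernel
theorem v_braid_1_156 : ∀ k, 10557 ≤ k → k < 15581 → chk_braid (k * 20) = true := between_extend chk_braid 20 10557 15549 32 (v_braid_1_155) r_braid_1_156

theorem r_braid_1_157 : allRange chk_braid 20 15581 32 = true := by decide +kernel
theorem v_braid_1_157 : ∀ k, 10557 ≤ k → k < 15613 → chk_braid (k * 20) = true := between_extend chk_braid 20 10557 15581 32 (v_braid_1_156) r_braid_1_157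

theorem r_braid_1_158 : allRange chk_braid 20 15613 32 = true := by decide +kernel
theorem v_braid_1_158 : ∀ k, 10557 ≤ k → k < 15645 → chk_braid (k * 20) = true := between_extend chk_braid 20 10557 15613 32 (v_braid_1_157) r_braid_1_158

theorem r_braid_1_159 : allRange chk_braid 20 15645 32 = true := by decide +kernel
theorem v_braid_1_159 : ∀ k, 10557 ≤ k → k < 15677 → chk_braid (k * 20) = true := between_extend chk_braid 20 10557 15645 32 (v_braid_1_158) r_braid_1_159

theorem r_braid_1_160 : allRange chk_braid 20 15677 32 = true := by decide +kernel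
theorem v_braid_1_160 : ∀ k, 10557 ≤ k → k < 15709 → chk_braid (k * 20) = true := between_extend chk_braid 20 10557 15677 32 (v_braid_1_159) r_braid_1_160

theorem r_braid_1_161 : allRange chk_braid 20 15709 32 = true := by decide +kernel
theorem v_braid_1_161 : ∀ k, 10557 ≤ k → k < 15741 → chk_braid (k * 20) = true := between_extend chk_braid 20 10557 15709 32 (v_braid_1_160) r_braid_1_161

theorem r_braid_1_162 : allRange chk_braid 20 15741 32 = true := by decide +kernel
theorem v_braid_1_162 : ∀ k, 10557 ≤ k → k < 15773 → chk_braid (k * 20) = true := between_extend chk_braid 20 10557 15741 32 (v_braid_1_161) r_braid_1_162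

theorem r_braid_1_163 : allRange chk_braid 20 15773 32 = true := by decide +kernel
theorem v_braid_1_163 : ∀ k, 10557 ≤ k → k < 15805 → chk_braid (k * 20) = true := between_extend chk_braid 20 10557 15773 32 (v_braid_1_162) r_braid_1_163

theorem r_braid_1_164 : allRange chk_braid 20 15805 32 = true := by decide +kernel
theorem v_braid_1_164 : ∀ k, 10557 ≤ k → k < 15837 → chk_braid (k * 20) = true := between_extend chk_braid 20 10557 15805 32 (v_braid_1_163) r_braid_1_164

theorem r_braid_1_165 : allRange chk_braid 20 15837 32 = true := by decide +kernel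
theorem v_braid_1_165 : ∀ k, 10557 ≤ k → k < 15869 → chk_braid (k * 20) = true := between_extend chk_braid 20 10557 15837 32 (v_braid_1_164) r_braid_1_165

theorem r_braid_1_166 : allRange chk_braid 20 15869 32 = true := by decide +kernel
theorem v_braid_1_166 : ∀ k, 10557 ≤ k → k < 15901 → chk_braid (k * 20) = true := between_extend chk_braid 20 10557 15869 32 (v_braid_1_165) r_braid_1_166

theorem r_braid_1_167 : allRange chk_braid 20 15901 32 = true := by decide +kernel
theorem v_braid_1_167 : ∀ k, 10557 ≤ k → k < 15933 → chk_braid (k * 20) = true := between_extend chk_braid 20 10557 15901 32 (v_braid_1_166) r_braid_1_167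

theorem r_braid_1_168 : allRange chk_braid 20 15933 32 = true := by decide +kernel
theorem v_braid_1_168 : ∀ k, 10557 ≤ k → k < 15965 → chk_braid (k * 20) = true := between_extend chk_braid 20 10557 15933 32 (v_braid_1_167) r_braid_1_168

theorem r_braid_1_169 : allRange chk_braid 20 15965 32 = true := by decide +kernel
theorem v_braid_1_169 : ∀ k, 10557 ≤ k → k < 15997 → chk_braid (k * 20) = true := between_extend chk_braid 20 10557 15965 32 (v_braid_1_168) r_braid_1_169

theorem r_braid_1_170 : allRange chk_braid 20 15997 32 = true := by decide +kernel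
theorem v_braid_1_170 : ∀ k, 10557 ≤ k → k < 16029 → chk_braid (k * 20) = true := between_extend chk_braid 20 10557 15997 32 (v_braid_1_169) r_braid_1_170

theorem r_braid_1_171 : allRange chk_braid 20 16029 32 = true := by decide +kernel
theorem v_braid_1_171 : ∀ k, 10557 ≤ k → k < 16061 → chk_braid (k * 20) = true := between_extend chk_braid 20 10557 16029 32 (v_braid_1_170) r_braid_1_171

theorem r_braid_1_172 : allRange chk_braid 20 16061 32 = true := by decide +kernel
theorem v_braid_1_172 : ∀ k, 10557 ≤ k → k < 16093 → chk_braid (k * 20) = true := between_extend chk_braid 20 10557 16061 32 (v_braid_1_171) r_braid_1_172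

theorem r_braid_1_173 : allRange chk_braid 20 16093 32 = true := by decide +kernel
theorem v_braid_1_173 : ∀ k, 10557 ≤ k → k < 16125 → chk_braid (k * 20) = true := between_extend chk_braid 20 10557 16093 32 (v_braid_1_172) r_braid_1_173

theorem r_braid_1_174 : allRange chk_braid 20 16125 32 = true := by decide +kernel
theorem v_braid_1_174 : ∀ k, 10557 ≤ k → k < 16157 → chk_braid (k * 20) = true := between_extend chk_braid 20 10557 16125 32 (v_braid_1_173) r_braid_1_174

theorem r_braid_1_175 : allRange chk_braid 20 16157 32 = true := by decide +kernel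
theorem v_braid_1_175 : ∀ k, 10557 ≤ k → k < 16189 → chk_braid (k * 20) = true := between_extend chk_braid 20 10557 16157 32 (v_braid_1_174) r_braid_1_175

theorem r_braid_1_176 : allRange chk_braid 20 16189 32 = true := by decide +kernel
theorem v_braid_1_176 : ∀ k, 10557 ≤ k → k < 16221 → chk_braid (k * 20) = true := between_extend chk_braid 20 10557 16189 32 (v_braid_1_175) r_braid_1_176

theorem r_braid_1_177 : allRange chk_braid 20 16221 32 = true := by decide +kernel
theorem v_braid_1_177 : ∀ k, 10557 ≤ k → k < 16253 → chk_braid (k * 20) = true := between_extend chk_braid 20 10557 16221 32 (v_braid_1_176) r_braid_1_177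

theorem r_braid_1_178 : allRange chk_braid 20 16253 32 = true := by decide +kernel
theorem v_braid_1_178 : ∀ k, 10557 ≤ k → k < 16285 → chk_braid (k * 20) = true := between_extend chk_braid 20 10557 16253 32 (v_braid_1_177) r_braid_1_178

theorem r_braid_1_179 : allRange chk_braid 20 16285 32 = true := by decide +kernel
theorem v_braid_1_179 : ∀ k, 10557 ≤ k → k < 16317 → chk_braid (k * 20) = true := between_extend chk_braid 20 10557 16285 32 (v_braid_1_178) r_braid_1_179

theorem r_braid_1_180 : allRange chk_braid 20 16317 32 = true := by decide +kernel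
theorem v_braid_1_180 : ∀ k, 10557 ≤ k → k < 16349 → chk_braid (k * 20) = true := between_extend chk_braid 20 10557 16317 32 (v_braid_1_179) r_braid_1_180

theorem r_braid_1_181 : allRange chk_braid 20 16349 32 = true := by decide +kernel
theorem v_braid_1_181 : ∀ k, 10557 ≤ k → k < 16381 → chk_braid (k * 20) = true := between_extend chk_braid 20 10557 16349 32 (v_braid_1_180) r_braid_1_181

theorem r_braid_1_182 : allRange chk_braid 20 16381 32 = true := by decide +kernel
theorem v_braid_1_182 : ∀ k, 10557 ≤ k → k < 16413 → chk_braid (k * 20) = true := between_extend chk_braid 20 10557 16381 32 (v_braid_1_181) r_braid_1_182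

theorem r_braid_1_183 : allRange chk_braid 20 16413 32 = true := by decide +kernel
theorem v_braid_1_183 : ∀ k, 10557 ≤ k → k < 16445 → chk_braid (k * 20) = true := between_extend chk_braid 20 10557 16413 32 (v_braid_1_182) r_braid_1_183

theorem r_braid_1_184 : allRange chk_braid 20 16445 32 = true := by decide +kernel
theorem v_braid_1_184 : ∀ k, 10557 ≤ k → k < 16477 → chk_braid (k * 20) = true := between_extend chk_braid 20 10557 16445 32 (v_braid_1_183) r_braid_1_184

theorem r_braid_1_185 : allRange chk_braid 20 16477 32 = true := by decide +kernel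
theorem v_braid_1_185 : ∀ k, 10557 ≤ k → k < 16509 → chk_braid (k * 20) = true := between_extend chk_braid 20 10557 16477 32 (v_braid_1_184) r_braid_1_185

theorem r_braid_1_186 : allRange chk_braid 20 16509 32 = true := by decide +kernel
theorem v_braid_1_186 : ∀ k, 10557 ≤ k → k < 16541 → chk_braid (k * 20) = true := between_extend chk_braid 20 10557 16509 32 (v_braid_1_185) r_braid_1_186

theorem r_braid_1_187 : allRange chk_braid 20 16541 32 = true := by decide +kernel
theorem v_braid_1_187 : ∀ k, 10557 ≤ k → k < 16573 → chk_braid (k * 20) = true := between_extend chk_braid 20 10557 16541 32 (v_braid_1_186) r_braid_1_187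

theorem r_braid_1_188 : allRange chk_braid 20 16573 32 = true := by decide +kernel
theorem v_braid_1_188 : ∀ k, 10557 ≤ k → k < 16605 → chk_braid (k * 20) = true := between_extend chk_braid 20 10557 16573 32 (v_braid_1_187) r_braid_1_188

theorem r_braid_1_189 : allRange chk_braid 20 16605 32 = true := by decide +kernel
theorem v_braid_1_189 : ∀ k, 10557 ≤ k → k < 16637 → chk_braid (k * 20) = true := between_extend chk_braid 20 10557 16605 32 (v_braid_1_188) r_braid_1_189

theorem r_braid_1_190 : allRange chk_braid 20 16637 32 = true := by decide +kernel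
theorem v_braid_1_190 : ∀ k, 10557 ≤ k → k < 16669 → chk_braid (k * 20) = true := between_extend chk_braid 20 10557 16637 32 (v_braid_1_189) r_braid_1_190

theorem r_braid_1_191 : allRange chk_braid 20 16669 32 = true := by decide +kernel
theorem v_braid_1_191 : ∀ k, 10557 ≤ k → k < 16701 → chk_braid (k * 20) = true := between_extend chk_braid 20 10557 16669 32 (v_braid_1_190) r_braid_1_191

theorem r_braid_1_192 : allRange chk_braid 20 16701 32 = true := by decide +kernel
theorem v_braid_1_192 : ∀ k, 10557 ≤ k → k < 16733 → chk_braid (k * 20) = true := between_extend chk_braid 20 10557 16701 32 (v_braid_1_191) r_braid_1_192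

theorem r_braid_1_193 : allRange chk_braid 20 16733 32 = true := by decide +kernel
theorem v_braid_1_193 : ∀ k, 10557 ≤ k → k < 16765 → chk_braid (k * 20) = true := between_extend chk_braid 20 10557 16733 32 (v_braid_1_192) r_braid_1_193

theorem r_braid_1_194 : allRange chk_braid 20 16765 32 = true := by decide +kernel
theorem v_braid_1_194 : ∀ k, 10557 ≤ k → k < 16797 → chk_braid (k * 20) = true := between_extend chk_braid 20 10557 16765 32 (v_braid_1_193) r_braid_1_194

theorem r_braid_1_195 : allRange chk_braid 20 16797 32 = true := by decide +kernel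
theorem v_braid_1_195 : ∀ k, 10557 ≤ k → k < 16829 → chk_braid (k * 20) = true := between_extend chk_braid 20 10557 16797 32 (v_braid_1_194) r_braid_1_195

theorem r_braid_1_196 : allRange chk_braid 20 16829 32 = true := by decide +kernel
theorem v_braid_1_196 : ∀ k, 10557 ≤ k → k < 16861 → chk_braid (k * 20) = true := between_extend chk_braid 20 10557 16829 32 (v_braid_1_195) r_braid_1_196

theorem r_braid_1_197 : allRange chk_braid 20 16861 32 = true := by decide +kernel
theorem v_braid_1_197 : ∀ k, 10557 ≤ k → k < 16893 → chk_braid (k * 20) = true := between_extend chk_braid 20 10557 16861 32 (v_braid_1_196) r_braid_1_197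

theorem r_braid_1_198 : allRange chk_braid 20 16893 32 = true := by decide +kernel
theorem v_braid_1_198 : ∀ k, 10557 ≤ k → k < 16925 → chk_braid (k * 20) = true := between_extend chk_braid 20 10557 16893 32 (v_braid_1_197) r_braid_1_198

theorem r_braid_1_199 : allRange chk_braid 20 16925 32 = true := by decide +kernel
theorem v_braid_1_199 : ∀ k, 10557 ≤ k → k < 16957 → chk_braid (k * 20) = true := between_extend chk_braid 20 10557 16925 32 (v_braid_1_198) r_braid_1_199

theorem r_braid_1_200 : allRange chk_braid 20 16957 32 = true := by decide +kernel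
theorem v_braid_1_200 : ∀ k, 10557 ≤ k → k < 16989 → chk_braid (k * 20) = true := between_extend chk_braid 20 10557 16957 32 (v_braid_1_199) r_braid_1_200

theorem r_braid_1_201 : allRange chk_braid 20 16989 32 = true := by decide +kernel
theorem v_braid_1_201 : ∀ k, 10557 ≤ k → k < 17021 → chk_braid (k * 20) = true := between_extend chk_braid 20 10557 16989 32 (v_braid_1_200) r_braid_1_201

theorem r_braid_1_202 : allRange chk_braid 20 17021 32 = true := by decide +kernel
theorem v_braid_1_202 : ∀ k, 10557 ≤ k → k < 17053 → chk_braid (k * 20) = true := between_extend chk_braid 20 10557 17021 32 (v_braid_1_201) r_braid_1_202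

theorem r_braid_1_203 : allRange chk_braid 20 17053 32 = true := by decide +kernel
theorem v_braid_1_203 : ∀ k, 10557 ≤ k → k < 17085 → chk_braid (k * 20) = true := between_extend chk_braid 20 10557 17053 32 (v_braid_1_202) r_braid_1_203

theorem r_braid_1_204 : allRange chk_braid 20 17085 32 = true := by decide +kernel
theorem v_braid_1_204 : ∀ k, 10557 ≤ k → k < 17117 → chk_braid (k * 20) = true := between_extend chk_braid 20 10557 17085 32 (v_braid_1_203) r_braid_1_204

theorem r_braid_1_205 : allRange chk_braid 20 17117 32 = true := by decide +kernel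
theorem v_braid_1_205 : ∀ k, 10557 ≤ k → k < 17149 → chk_braid (k * 20) = true := between_extend chk_braid 20 10557 17117 32 (v_braid_1_204) r_braid_1_205

theorem r_braid_1_206 : allRange chk_braid 20 17149 32 = true := by decide +kernel
theorem v_braid_1_206 : ∀ k, 10557 ≤ k → k < 17181 → chk_braid (k * 20) = true := between_extend chk_braid 20 10557 17149 32 (v_braid_1_205) r_braid_1_206

theorem r_braid_1_207 : allRange chk_braid 20 17181 32 = true := by decide +kernel
theorem v_braid_1_207 : ∀ k, 10557 ≤ k → k < 17213 → chk_braid (k * 20) = true := between_extend chk_braid 20 10557 17181 32 (v_braid_1_206) r_braid_1_207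

theorem r_braid_1_208 : allRange chk_braid 20 17213 32 = true := by decide +kernel
theorem v_braid_1_208 : ∀ k, 10557 ≤ k → k < 17245 → chk_braid (k * 20) = true := between_extend chk_braid 20 10557 17213 32 (v_braid_1_207) r_braid_1_208

theorem r_braid_1_209 : allRange chk_braid 20 17245 32 = true := by decide +kernel
theorem v_braid_1_209 : ∀ k, 10557 ≤ k → k < 17277 → chk_braid (k * 20) = true := between_extend chk_braid 20 10557 17245 32 (v_braid_1_208) r_braid_1_209

theorem r_braid_1_210 : allRange chk_braid 20 17277 32 = true := by decide +kernel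
theorem v_braid_1_210 : ∀ k, 10557 ≤ k → k < 17309 → chk_braid (k * 20) = true := between_extend chk_braid 20 10557 17277 32 (v_braid_1_209) r_braid_1_210

theorem r_braid_1_211 : allRange chk_braid 20 17309 32 = true := by decide +kernel
theorem v_braid_1_211 : ∀ k, 10557 ≤ k → k < 17341 → chk_braid (k * 20) = true := between_extend chk_braid 20 10557 17309 32 (v_braid_1_210) r_braid_1_211

theorem r_braid_1_212 : allRange chk_braid 20 17341 32 = true := by decide +kernel
theorem v_braid_1_212 : ∀ k, 10557 ≤ k → k < 17373 → chk_braid (k * 20) = true := between_extend chk_braid 20 10557 17341 32 (v_braid_1_211) r_braid_1_212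

theorem r_braid_1_213 : allRange chk_braid 20 17373 32 = true := by decide +kernel
theorem v_braid_1_213 : ∀ k, 10557 ≤ k → k < 17405 → chk_braid (k * 20) = true := between_extend chk_braid 20 10557 17373 32 (v_braid_1_212) r_braid_1_213

theorem r_braid_1_214 : allRange chk_braid 20 17405 32 = true := by decide +kernel
theorem v_braid_1_214 : ∀ k, 10557 ≤ k → k < 17437 → chk_braid (k * 20) = true := between_extend chk_braid 20 10557 17405 32 (v_braid_1_213) r_braid_1_214

theorem r_braid_1_215 : allRange chk_braid 20 17437 32 = true := by decide +kernel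
theorem v_braid_1_215 : ∀ k, 10557 ≤ k → k < 17469 → chk_braid (k * 20) = true := between_extend chk_braid 20 10557 17437 32 (v_braid_1_214) r_braid_1_215

theorem r_braid_1_216 : allRange chk_braid 20 17469 32 = true := by decide +kernel
theorem v_braid_1_216 : ∀ k, 10557 ≤ k → k < 17501 → chk_braid (k * 20) = true := between_extend chk_braid 20 10557 17469 32 (v_braid_1_215) r_braid_1_216

theorem r_braid_1_217 : allRange chk_braid 20 17501 32 = true := by decide +kernel
theorem v_braid_1_217 : ∀ k, 10557 ≤ k → k < 17533 → chk_braid (k * 20) = true := between_extend chk_braid 20 10557 17501 32 (v_braid_1_216) r_braid_1_217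

theorem r_braid_1_218 : allRange chk_braid 20 17533 32 = true := by decide +kernel
theorem v_braid_1_218 : ∀ k, 10557 ≤ k → k < 17565 → chk_braid (k * 20) = true := between_extend chk_braid 20 10557 17533 32 (v_braid_1_217) r_braid_1_218

theorem r_braid_1_219 : allRange chk_braid 20 17565 32 = true := by decide +kernel
theorem v_braid_1_219 : ∀ k, 10557 ≤ k → k < 17597 → chk_braid (k * 20) = true := between_extend chk_braid 20 10557 17565 32 (v_braid_1_218) r_braid_1_219

theorem r_braid_1_220 : allRange chk_braid 20 17597 32 = true := by decide +kernel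
theorem v_braid_1_220 : ∀ k, 10557 ≤ k → k < 17629 → chk_braid (k * 20) = true := between_extend chk_braid 20 10557 17597 32 (v_braid_1_219) r_braid_1_220

theorem r_braid_1_221 : allRange chk_braid 20 17629 32 = true := by decide +kernel
theorem v_braid_1_221 : ∀ k, 10557 ≤ k → k < 17661 → chk_braid (k * 20) = true := between_extend chk_braid 20 10557 17629 32 (v_braid_1_220) r_braid_1_221

theorem r_braid_1_222 : allRange chk_braid 20 17661 32 = true := by decide +kernel
theorem v_braid_1_222 : ∀ k, 10557 ≤ k → k < 17693 → chk_braid (k * 20) = true := between_extend chk_braid 20 10557 17661 32 (v_braid_1_221) r_braid_1_222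

theorem r_braid_1_223 : allRange chk_braid 20 17693 32 = true := by decide +kernel
theorem v_braid_1_223 : ∀ k, 10557 ≤ k → k < 17725 → chk_braid (k * 20) = true := between_extend chk_braid 20 10557 17693 32 (v_braid_1_222) r_braid_1_223

theorem r_braid_1_224 : allRange chk_braid 20 17725 32 = true := by decide +kernel
theorem v_braid_1_224 : ∀ k, 10557 ≤ k → k < 17757 → chk_braid (k * 20) = true := between_extend chk_braid 20 10557 17725 32 (v_braid_1_223) r_braid_1_224

theorem r_braid_1_225 : allRange chk_braid 20 17757 32 = true := by decide +kernel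
theorem v_braid_1_225 : ∀ k, 10557 ≤ k → k < 17789 → chk_braid (k * 20) = true := between_extend chk_braid 20 10557 17757 32 (v_braid_1_224) r_braid_1_225

theorem r_braid_1_226 : allRange chk_braid 20 17789 32 = true := by decide +kernel
theorem v_braid_1_226 : ∀ k, 10557 ≤ k → k < 17821 → chk_braid (k * 20) = true := between_extend chk_braid 20 10557 17789 32 (v_braid_1_225) r_braid_1_226

theorem r_braid_1_227 : allRange chk_braid 20 17821 32 = true := by decide +kernel
theorem v_braid_1_227 : ∀ k, 10557 ≤ k → k < 17853 → chk_braid (k * 20) = true := between_extend chk_braid 20 10557 17821 32 (v_braid_1_226) r_braid_1_227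

theorem r_braid_1_228 : allRange chk_braid 20 17853 32 = true := by decide +kernel
theorem v_braid_1_228 : ∀ k, 10557 ≤ k → k < 17885 → chk_braid (k * 20) = true := between_extend chk_braid 20 10557 17853 32 (v_braid_1_227) r_braid_1_228

theorem r_braid_1_229 : allRange chk_braid 20 17885 32 = true := by decide +kernel
theorem v_braid_1_229 : ∀ k, 10557 ≤ k → k < 17917 → chk_braid (k * 20) = true := between_extend chk_braid 20 10557 17885 32 (v_braid_1_228) r_braid_1_229

theorem r_braid_1_230 : allRange chk_braid 20 17917 32 = true := by decide +kernel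
theorem v_braid_1_230 : ∀ k, 10557 ≤ k → k < 17949 → chk_braid (k * 20) = true := between_extend chk_braid 20 10557 17917 32 (v_braid_1_229) r_braid_1_230

theorem r_braid_1_231 : allRange chk_braid 20 17949 32 = true := by decide +kernel
theorem v_braid_1_231 : ∀ k, 10557 ≤ k → k < 17981 → chk_braid (k * 20) = true := between_extend chk_braid 20 10557 17949 32 (v_braid_1_230) r_braid_1_231

theorem r_braid_1_232 : allRange chk_braid 20 17981 32 = true := by decide +kernel
theorem v_braid_1_232 : ∀ k, 10557 ≤ k → k < 18013 → chk_braid (k * 20) = true := between_extend chk_braid 20 10557 17981 32 (v_braid_1_231) r_braid_1_232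

theorem r_braid_1_233 : allRange chk_braid 20 18013 32 = true := by decide +kernel
theorem v_braid_1_233 : ∀ k, 10557 ≤ k → k < 18045 → chk_braid (k * 20) = true := between_extend chk_braid 20 10557 18013 32 (v_braid_1_232) r_braid_1_233

theorem r_braid_1_234 : allRange chk_braid 20 18045 32 = true := by decide +kernel
theorem v_braid_1_234 : ∀ k, 10557 ≤ k → k < 18077 → chk_braid (k * 20) = true := between_extend chk_braid 20 10557 18045 32 (v_braid_1_233) r_braid_1_234

theorem r_braid_1_235 : allRange chk_braid 20 18077 32 = true := by decide +kernel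
theorem v_braid_1_235 : ∀ k, 10557 ≤ k → k < 18109 → chk_braid (k * 20) = true := between_extend chk_braid 20 10557 18077 32 (v_braid_1_234) r_braid_1_235

theorem r_braid_1_236 : allRange chk_braid 20 18109 32 = true := by decide +kernel
theorem v_braid_1_236 : ∀ k, 10557 ≤ k → k < 18141 → chk_braid (k * 20) = true := between_extend chk_braid 20 10557 18109 32 (v_braid_1_235) r_braid_1_236

theorem r_braid_1_237 : allRange chk_braid 20 18141 32 = true := by decide +kernel
theorem v_braid_1_237 : ∀ k, 10557 ≤ k → k < 18173 → chk_braid (k * 20) = true := between_extend chk_braid 20 10557 18141 32 (v_braid_1_236) r_braid_1_237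

theorem r_braid_1_238 : allRange chk_braid 20 18173 32 = true := by decide +kernel
theorem v_braid_1_238 : ∀ k, 10557 ≤ k → k < 18205 → chk_braid (k * 20) = true := between_extend chk_braid 20 10557 18173 32 (v_braid_1_237) r_braid_1_238

theorem r_braid_1_239 : allRange chk_braid 20 18205 32 = true := by decide +kernel
theorem v_braid_1_239 : ∀ k, 10557 ≤ k → k < 18237 → chk_braid (k * 20) = true := between_extend chk_braid 20 10557 18205 32 (v_braid_1_238) r_braid_1_239

theorem r_braid_1_240 : allRange chk_braid 20 18237 32 = true := by decide +kernel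
theorem v_braid_1_240 : ∀ k, 10557 ≤ k → k < 18269 → chk_braid (k * 20) = true := between_extend chk_braid 20 10557 18237 32 (v_braid_1_239) r_braid_1_240

theorem r_braid_1_241 : allRange chk_braid 20 18269 32 = true := by decide +kernel
theorem v_braid_1_241 : ∀ k, 10557 ≤ k → k < 18301 → chk_braid (k * 20) = true := between_extend chk_braid 20 10557 18269 32 (v_braid_1_240) r_braid_1_241

theorem r_braid_1_242 : allRange chk_braid 20 18301 32 = true := by decide +kernel
theorem v_braid_1_242 : ∀ k, 10557 ≤ k → k < 18333 → chk_braid (k * 20) = true := between_extend chk_braid 20 10557 18301 32 (v_braid_1_241) r_braid_1_242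

theorem r_braid_1_243 : allRange chk_braid 20 18333 32 = true := by decide +kernel
theorem v_braid_1_243 : ∀ k, 10557 ≤ k → k < 18365 → chk_braid (k * 20) = true := between_extend chk_braid 20 10557 18333 32 (v_braid_1_242) r_braid_1_243

theorem r_braid_1_244 : allRange chk_braid 20 18365 32 = true := by decide +kernel
theorem v_braid_1_244 : ∀ k, 10557 ≤ k → k < 18397 → chk_braid (k * 20) = true := between_extend chk_braid 20 10557 18365 32 (v_braid_1_243) r_braid_1_244

theorem r_braid_1_245 : allRange chk_braid 20 18397 32 = true := by decide +kernel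
theorem v_braid_1_245 : ∀ k, 10557 ≤ k → k < 18429 → chk_braid (k * 20) = true := between_extend chk_braid 20 10557 18397 32 (v_braid_1_244) r_braid_1_245

theorem r_braid_1_246 : allRange chk_braid 20 18429 32 = true := by decide +kernel
theorem v_braid_1_246 : ∀ k, 10557 ≤ k → k < 18461 → chk_braid (k * 20) = true := between_extend chk_braid 20 10557 18429 32 (v_braid_1_245) r_braid_1_246

theorem r_braid_1_247 : allRange chk_braid 20 18461 32 = true := by decide +kernel
theorem v_braid_1_247 : ∀ k, 10557 ≤ k → k < 18493 → chk_braid (k * 20) = true := between_extend chk_braid 20 10557 18461 32 (v_braid_1_246) r_braid_1_247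

theorem r_braid_1_248 : allRange chk_braid 20 18493 32 = true := by decide +kernel
theorem v_braid_1_248 : ∀ k, 10557 ≤ k → k < 18525 → chk_braid (k * 20) = true := between_extend chk_braid 20 10557 18493 32 (v_braid_1_247) r_braid_1_248

theorem r_braid_1_249 : allRange chk_braid 20 18525 32 = true := by decide +kernel
theorem v_braid_1_249 : ∀ k, 10557 ≤ k → k < 18557 → chk_braid (k * 20) = true := between_extend chk_braid 20 10557 18525 32 (v_braid_1_248) r_braid_1_249

theorem r_braid_1_250 : allRange chk_braid 20 18557 32 = true := by decide +kernel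
theorem v_braid_1_250 : ∀ k, 10557 ≤ k → k < 18589 → chk_braid (k * 20) = true := between_extend chk_braid 20 10557 18557 32 (v_braid_1_249) r_braid_1_250

theorem r_braid_1_251 : allRange chk_braid 20 18589 32 = true := by decide +kernel
theorem v_braid_1_251 : ∀ k, 10557 ≤ k → k < 18621 → chk_braid (k * 20) = true := between_extend chk_braid 20 10557 18589 32 (v_braid_1_250) r_braid_1_251

theorem r_braid_1_252 : allRange chk_braid 20 18621 32 = true := by decide +kernel
theorem v_braid_1_252 : ∀ k, 10557 ≤ k → k < 18653 → chk_braid (k * 20) = true := between_extend chk_braid 20 10557 18621 32 (v_braid_1_251) r_braid_1_252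

theorem r_braid_1_253 : allRange chk_braid 20 18653 32 = true := by decide +kernel
theorem v_braid_1_253 : ∀ k, 10557 ≤ k → k < 18685 → chk_braid (k * 20) = true := between_extend chk_braid 20 10557 18653 32 (v_braid_1_252) r_braid_1_253

theorem r_braid_1_254 : allRange chk_braid 20 18685 32 = true := by decide +kernel
theorem v_braid_1_254 : ∀ k, 10557 ≤ k → k < 18717 → chk_braid (k * 20) = true := between_extend chk_braid 20 10557 18685 32 (v_braid_1_253) r_braid_1_254

theorem r_braid_1_255 : allRange chk_braid 20 18717 32 = true := by decide +kernel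
theorem v_braid_1_255 : ∀ k, 10557 ≤ k → k < 18749 → chk_braid (k * 20) = true := between_extend chk_braid 20 10557 18717 32 (v_braid_1_254) r_braid_1_255

theorem r_braid_1_256 : allRange chk_braid 20 18749 32 = true := by decide +kernel
theorem v_braid_1_256 : ∀ k, 10557 ≤ k → k < 18781 → chk_braid (k * 20) = true := between_extend chk_braid 20 10557 18749 32 (v_braid_1_255) r_braid_1_256

theorem r_braid_1_257 : allRange chk_braid 20 18781 32 = true := by decide +kernel
theorem v_braid_1_257 : ∀ k, 10557 ≤ k → k < 18813 → chk_braid (k * 20) = true := between_extend chk_braid 20 10557 18781 32 (v_braid_1_256) r_braid_1_257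

theorem r_braid_1_258 : allRange chk_braid 20 18813 32 = true := by decide +kernel
theorem v_braid_1_258 : ∀ k, 10557 ≤ k → k < 18845 → chk_braid (k * 20) = true := between_extend chk_braid 20 10557 18813 32 (v_braid_1_257) r_braid_1_258

theorem r_braid_1_259 : allRange chk_braid 20 18845 32 = true := by decide +kernel
theorem v_braid_1_259 : ∀ k, 10557 ≤ k → k < 18877 → chk_braid (k * 20) = true := between_extend chk_braid 20 10557 18845 32 (v_braid_1_258) r_braid_1_259

theorem r_braid_1_260 : allRange chk_braid 20 18877 32 = true := by decide +kernel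
theorem v_braid_1_260 : ∀ k, 10557 ≤ k → k < 18909 → chk_braid (k * 20) = true := between_extend chk_braid 20 10557 18877 32 (v_braid_1_259) r_braid_1_260

theorem r_braid_1_261 : allRange chk_braid 20 18909 32 = true := by decide +kernel
theorem v_braid_1_261 : ∀ k, 10557 ≤ k → k < 18941 → chk_braid (k * 20) = true := between_extend chk_braid 20 10557 18909 32 (v_braid_1_260) r_braid_1_261

theorem r_braid_1_262 : allRange chk_braid 20 18941 32 = true := by decide +kernel
theorem v_braid_1_262 : ∀ k, 10557 ≤ k → k < 18973 → chk_braid (k * 20) = true := between_extend chk_braid 20 10557 18941 32 (v_braid_1_261) r_braid_1_262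

theorem r_braid_1_263 : allRange chk_braid 20 18973 32 = true := by decide +kernel
theorem v_braid_1_263 : ∀ k, 10557 ≤ k → k < 19005 → chk_braid (k * 20) = true := between_extend chk_braid 20 10557 18973 32 (v_braid_1_262) r_braid_1_263

theorem r_braid_1_264 : allRange chk_braid 20 19005 32 = true := by decide +kernel
theorem v_braid_1_264 : ∀ k, 10557 ≤ k → k < 19037 → chk_braid (k * 20) = true := between_extend chk_braid 20 10557 19005 32 (v_braid_1_263) r_braid_1_264

theorem r_braid_1_265 : allRange chk_braid 20 19037 32 = true := by decide +kernel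
theorem v_braid_1_265 : ∀ k, 10557 ≤ k → k < 19069 → chk_braid (k * 20) = true := between_extend chk_braid 20 10557 19037 32 (v_braid_1_264) r_braid_1_265

theorem r_braid_1_266 : allRange chk_braid 20 19069 32 = true := by decide +kernel
theorem v_braid_1_266 : ∀ k, 10557 ≤ k → k < 19101 → chk_braid (k * 20) = true := between_extend chk_braid 20 10557 19069 32 (v_braid_1_265) r_braid_1_266

theorem r_braid_1_267 : allRange chk_braid 20 19101 32 = true := by decide +kernel
theorem v_braid_1_267 : ∀ k, 10557 ≤ k → k < 19133 → chk_braid (k * 20) = true := between_extend chk_braid 20 10557 19101 32 (v_braid_1_266) r_braid_1_267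

theorem r_braid_1_268 : allRange chk_braid 20 19133 32 = true := by decide +kernel
theorem v_braid_1_268 : ∀ k, 10557 ≤ k → k < 19165 → chk_braid (k * 20) = true := between_extend chk_braid 20 10557 19133 32 (v_braid_1_267) r_braid_1_268

theorem r_braid_1_269 : allRange chk_braid 20 19165 32 = true := by decide +kernel
theorem v_braid_1_269 : ∀ k, 10557 ≤ k → k < 19197 → chk_braid (k * 20) = true := between_extend chk_braid 20 10557 19165 32 (v_braid_1_268) r_braid_1_269

theorem r_braid_1_270 : allRange chk_braid 20 19197 32 = true := by decide +kernel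
theorem v_braid_1_270 : ∀ k, 10557 ≤ k → k < 19229 → chk_braid (k * 20) = true := between_extend chk_braid 20 10557 19197 32 (v_braid_1_269) r_braid_1_270

theorem r_braid_1_271 : allRange chk_braid 20 19229 32 = true := by decide +kernel
theorem v_braid_1_271 : ∀ k, 10557 ≤ k → k < 19261 → chk_braid (k * 20) = true := between_extend chk_braid 20 10557 19229 32 (v_braid_1_270) r_braid_1_271

theorem r_braid_1_272 : allRange chk_braid 20 19261 32 = true := by decide +kernel
theorem v_braid_1_272 : ∀ k, 10557 ≤ k → k < 19293 → chk_braid (k * 20) = true := between_extend chk_braid 20 10557 19261 32 (v_braid_1_271) r_braid_1_272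

theorem r_braid_1_273 : allRange chk_braid 20 19293 32 = true := by decide +kernel
theorem v_braid_1_273 : ∀ k, 10557 ≤ k → k < 19325 → chk_braid (k * 20) = true := between_extend chk_braid 20 10557 19293 32 (v_braid_1_272) r_braid_1_273

theorem r_braid_1_274 : allRange chk_braid 20 19325 32 = true := by decide +kernel
theorem v_braid_1_274 : ∀ k, 10557 ≤ k → k < 19357 → chk_braid (k * 20) = true := between_extend chk_braid 20 10557 19325 32 (v_braid_1_273) r_braid_1_274

theorem r_braid_1_275 : allRange chk_braid 20 19357 32 = true := by decide +kernel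
theorem v_braid_1_275 : ∀ k, 10557 ≤ k → k < 19389 → chk_braid (k * 20) = true := between_extend chk_braid 20 10557 19357 32 (v_braid_1_274) r_braid_1_275

theorem r_braid_1_276 : allRange chk_braid 20 19389 32 = true := by decide +kernel
theorem v_braid_1_276 : ∀ k, 10557 ≤ k → k < 19421 → chk_braid (k * 20) = true := between_extend chk_braid 20 10557 19389 32 (v_braid_1_275) r_braid_1_276

theorem r_braid_1_277 : allRange chk_braid 20 19421 32 = true := by decide +kernel
theorem v_braid_1_277 : ∀ k, 10557 ≤ k → k < 19453 → chk_braid (k * 20) = true := between_extend chk_braid 20 10557 19421 32 (v_braid_1_276) r_braid_1_277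

theorem r_braid_1_278 : allRange chk_braid 20 19453 32 = true := by decide +kernel
theorem v_braid_1_278 : ∀ k, 10557 ≤ k → k < 19485 → chk_braid (k * 20) = true := between_extend chk_braid 20 10557 19453 32 (v_braid_1_277) r_braid_1_278

theorem r_braid_1_279 : allRange chk_braid 20 19485 32 = true := by decide +kernel
theorem v_braid_1_279 : ∀ k, 10557 ≤ k → k < 19517 → chk_braid (k * 20) = true := between_extend chk_braid 20 10557 19485 32 (v_braid_1_278) r_braid_1_279

theorem r_braid_1_280 : allRange chk_braid 20 19517 32 = true := by decide +kernel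
theorem v_braid_1_280 : ∀ k, 10557 ≤ k → k < 19549 → chk_braid (k * 20) = true := between_extend chk_braid 20 10557 19517 32 (v_braid_1_279) r_braid_1_280

theorem r_braid_1_281 : allRange chk_braid 20 19549 32 = true := by decide +kernel
theorem v_braid_1_281 : ∀ k, 10557 ≤ k → k < 19581 → chk_braid (k * 20) = true := between_extend chk_braid 20 10557 19549 32 (v_braid_1_280) r_braid_1_281

theorem r_braid_1_282 : allRange chk_braid 20 19581 32 = true := by decide +kernel
theorem v_braid_1_282 : ∀ k, 10557 ≤ k → k < 19613 → chk_braid (k * 20) = true := between_extend chk_braid 20 10557 19581 32 (v_braid_1_281) r_braid_1_282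

theorem r_braid_1_283 : allRange chk_braid 20 19613 32 = true := by decide +kernel
theorem v_braid_1_283 : ∀ k, 10557 ≤ k → k < 19645 → chk_braid (k * 20) = true := between_extend chk_braid 20 10557 19613 32 (v_braid_1_282) r_braid_1_283

theorem r_braid_1_284 : allRange chk_braid 20 19645 32 = true := by decide +kernel
theorem v_braid_1_284 : ∀ k, 10557 ≤ k → k < 19677 → chk_braid (k * 20) = true := between_extend chk_braid 20 10557 19645 32 (v_braid_1_283) r_braid_1_284

theorem r_braid_1_285 : allRange chk_braid 20 19677 32 = true := by decide +kernel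
theorem v_braid_1_285 : ∀ k, 10557 ≤ k → k < 19709 → chk_braid (k * 20) = true := between_extend chk_braid 20 10557 19677 32 (v_braid_1_284) r_braid_1_285

theorem r_braid_1_286 : allRange chk_braid 20 19709 32 = true := by decide +kernel
theorem v_braid_1_286 : ∀ k, 10557 ≤ k → k < 19741 → chk_braid (k * 20) = true := between_extend chk_braid 20 10557 19709 32 (v_braid_1_285) r_braid_1_286

theorem r_braid_1_287 : allRange chk_braid 20 19741 32 = true := by decide +kernel
theorem v_braid_1_287 : ∀ k, 10557 ≤ k → k < 19773 → chk_braid (k * 20) = true := between_extend chk_braid 20 10557 19741 32 (v_braid_1_286) r_braid_1_287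

theorem r_braid_1_288 : allRange chk_braid 20 19773 32 = true := by decide +kernel
theorem v_braid_1_288 : ∀ k, 10557 ≤ k → k < 19805 → chk_braid (k * 20) = true := between_extend chk_braid 20 10557 19773 32 (v_braid_1_287) r_braid_1_288

theorem r_braid_1_289 : allRange chk_braid 20 19805 32 = true := by decide +kernel
theorem v_braid_1_289 : ∀ k, 10557 ≤ k → k < 19837 → chk_braid (k * 20) = true := between_extend chk_braid 20 10557 19805 32 (v_braid_1_288) r_braid_1_289

theorem r_braid_1_290 : allRange chk_braid 20 19837 32 = true := by decide +kernel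
theorem v_braid_1_290 : ∀ k, 10557 ≤ k → k < 19869 → chk_braid (k * 20) = true := between_extend chk_braid 20 10557 19837 32 (v_braid_1_289) r_braid_1_290

theorem r_braid_1_291 : allRange chk_braid 20 19869 32 = true := by decide +kernel
theorem v_braid_1_291 : ∀ k, 10557 ≤ k → k < 19901 → chk_braid (k * 20) = true := between_extend chk_braid 20 10557 19869 32 (v_braid_1_290) r_braid_1_291

theorem r_braid_1_292 : allRange chk_braid 20 19901 32 = true := by decide +kernel
theorem v_braid_1_292 : ∀ k, 10557 ≤ k → k < 19933 → chk_braid (k * 20) = true := between_extend chk_braid 20 10557 19901 32 (v_braid_1_291) r_braid_1_292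

theorem r_braid_1_293 : allRange chk_braid 20 19933 32 = true := by decide +kernel
theorem v_braid_1_293 : ∀ k, 10557 ≤ k → k < 19965 → chk_braid (k * 20) = true := between_extend chk_braid 20 10557 19933 32 (v_braid_1_292) r_braid_1_293

theorem r_braid_1_294 : allRange chk_braid 20 19965 32 = true := by decide +kernel
theorem v_braid_1_294 : ∀ k, 10557 ≤ k → k < 19997 → chk_braid (k * 20) = true := between_extend chk_braid 20 10557 19965 32 (v_braid_1_293) r_braid_1_294

theorem r_braid_1_295 : allRange chk_braid 20 19997 32 = true := by decide +kernel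
theorem v_braid_1_295 : ∀ k, 10557 ≤ k → k < 20029 → chk_braid (k * 20) = true := between_extend chk_braid 20 10557 19997 32 (v_braid_1_294) r_braid_1_295

theorem r_braid_1_296 : allRange chk_braid 20 20029 32 = true := by decide +kernel
theorem v_braid_1_296 : ∀ k, 10557 ≤ k → k < 20061 → chk_braid (k * 20) = true := between_extend chk_braid 20 10557 20029 32 (v_braid_1_295) r_braid_1_296

theorem r_braid_1_297 : allRange chk_braid 20 20061 32 = true := by decide +kernel
theorem v_braid_1_297 : ∀ k, 10557 ≤ k → k < 20093 → chk_braid (k * 20) = true := between_extend chk_braid 20 10557 20061 32 (v_braid_1_296) r_braid_1_297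

theorem r_braid_1_298 : allRange chk_braid 20 20093 32 = true := by decide +kernel
theorem v_braid_1_298 : ∀ k, 10557 ≤ k → k < 20125 → chk_braid (k * 20) = true := between_extend chk_braid 20 10557 20093 32 (v_braid_1_297) r_braid_1_298

theorem r_braid_1_299 : allRange chk_braid 20 20125 32 = true := by decide +kernel
theorem v_braid_1_299 : ∀ k, 10557 ≤ k → k < 20157 → chk_braid (k * 20) = true := between_extend chk_braid 20 10557 20125 32 (v_braid_1_298) r_braid_1_299

theorem r_braid_1_300 : allRange chk_braid 20 20157 32 = true := by decide +kernel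
theorem v_braid_1_300 : ∀ k, 10557 ≤ k → k < 20189 → chk_braid (k * 20) = true := between_extend chk_braid 20 10557 20157 32 (v_braid_1_299) r_braid_1_300

theorem r_braid_1_301 : allRange chk_braid 20 20189 32 = true := by decide +kernel
theorem v_braid_1_301 : ∀ k, 10557 ≤ k → k < 20221 → chk_braid (k * 20) = true := between_extend chk_braid 20 10557 20189 32 (v_braid_1_300) r_braid_1_301

theorem r_braid_1_302 : allRange chk_braid 20 20221 32 = true := by decide +kernel
theorem v_braid_1_302 : ∀ k, 10557 ≤ k → k < 20253 → chk_braid (k * 20) = true := between_extend chk_braid 20 10557 20221 32 (v_braid_1_301) r_braid_1_302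

theorem r_braid_1_303 : allRange chk_braid 20 20253 32 = true := by decide +kernel
theorem v_braid_1_303 : ∀ k, 10557 ≤ k → k < 20285 → chk_braid (k * 20) = true := between_extend chk_braid 20 10557 20253 32 (v_braid_1_302) r_braid_1_303

theorem r_braid_1_304 : allRange chk_braid 20 20285 32 = true := by decide +kernel
theorem v_braid_1_304 : ∀ k, 10557 ≤ k → k < 20317 → chk_braid (k * 20) = true := between_extend chk_braid 20 10557 20285 32 (v_braid_1_303) r_braid_1_304

theorem r_braid_1_305 : allRange chk_braid 20 20317 32 = true := by decide +kernel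
theorem v_braid_1_305 : ∀ k, 10557 ≤ k → k < 20349 → chk_braid (k * 20) = true := between_extend chk_braid 20 10557 20317 32 (v_braid_1_304) r_braid_1_305

theorem r_braid_1_306 : allRange chk_braid 20 20349 32 = true := by decide +kernel
theorem v_braid_1_306 : ∀ k, 10557 ≤ k → k < 20381 → chk_braid (k * 20) = true := between_extend chk_braid 20 10557 20349 32 (v_braid_1_305) r_braid_1_306

theorem r_braid_1_307 : allRange chk_braid 20 20381 32 = true := by decide +kernel
theorem v_braid_1_307 : ∀ k, 10557 ≤ k → k < 20413 → chk_braid (k * 20) = true := between_extend chk_braid 20 10557 20381 32 (v_braid_1_306) r_braid_1_307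

theorem r_braid_1_308 : allRange chk_braid 20 20413 32 = true := by decide +kernel
theorem v_braid_1_308 : ∀ k, 10557 ≤ k → k < 20445 → chk_braid (k * 20) = true := between_extend chk_braid 20 10557 20413 32 (v_braid_1_307) r_braid_1_308

theorem r_braid_1_309 : allRange chk_braid 20 20445 32 = true := by decide +kernel
theorem v_braid_1_309 : ∀ k, 10557 ≤ k → k < 20477 → chk_braid (k * 20) = true := between_extend chk_braid 20 10557 20445 32 (v_braid_1_308) r_braid_1_309

theorem r_braid_1_310 : allRange chk_braid 20 20477 32 = true := by decide +kernel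
theorem v_braid_1_310 : ∀ k, 10557 ≤ k → k < 20509 → chk_braid (k * 20) = true := between_extend chk_braid 20 10557 20477 32 (v_braid_1_309) r_braid_1_310

theorem r_braid_1_311 : allRange chk_braid 20 20509 32 = true := by decide +kernel
theorem v_braid_1_311 : ∀ k, 10557 ≤ k → k < 20541 → chk_braid (k * 20) = true := between_extend chk_braid 20 10557 20509 32 (v_braid_1_310) r_braid_1_311

theorem r_braid_1_312 : allRange chk_braid 20 20541 32 = true := by decide +kernel
theorem v_braid_1_312 : ∀ k, 10557 ≤ k → k < 20573 → chk_braid (k * 20) = true := between_extend chk_braid 20 10557 20541 32 (v_braid_1_311) r_braid_1_312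

theorem r_braid_1_313 : allRange chk_braid 20 20573 32 = true := by decide +kernel
theorem v_braid_1_313 : ∀ k, 10557 ≤ k → k < 20605 → chk_braid (k * 20) = true := between_extend chk_braid 20 10557 20573 32 (v_braid_1_312) r_braid_1_313

theorem r_braid_1_314 : allRange chk_braid 20 20605 32 = true := by decide +kernel
theorem v_braid_1_314 : ∀ k, 10557 ≤ k → k < 20637 → chk_braid (k * 20) = true := between_extend chk_braid 20 10557 20605 32 (v_braid_1_313) r_braid_1_314

theorem r_braid_1_315 : allRange chk_braid 20 20637 32 = true := by decide +kernel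
theorem v_braid_1_315 : ∀ k, 10557 ≤ k → k < 20669 → chk_braid (k * 20) = true := between_extend chk_braid 20 10557 20637 32 (v_braid_1_314) r_braid_1_315

theorem r_braid_1_316 : allRange chk_braid 20 20669 32 = true := by decide +kernel
theorem v_braid_1_316 : ∀ k, 10557 ≤ k → k < 20701 → chk_braid (k * 20) = true := between_extend chk_braid 20 10557 20669 32 (v_braid_1_315) r_braid_1_316

theorem r_braid_1_317 : allRange chk_braid 20 20701 32 = true := by decide +kernel
theorem v_braid_1_317 : ∀ k, 10557 ≤ k → k < 20733 → chk_braid (k * 20) = true := between_extend chk_braid 20 10557 20701 32 (v_braid_1_316) r_braid_1_317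

theorem r_braid_1_318 : allRange chk_braid 20 20733 32 = true := by decide +kernel
theorem v_braid_1_318 : ∀ k, 10557 ≤ k → k < 20765 → chk_braid (k * 20) = true := between_extend chk_braid 20 10557 20733 32 (v_braid_1_317) r_braid_1_318

theorem r_braid_1_319 : allRange chk_braid 20 20765 32 = true := by decide +kernel
theorem v_braid_1_319 : ∀ k, 10557 ≤ k → k < 20797 → chk_braid (k * 20) = true := between_extend chk_braid 20 10557 20765 32 (v_braid_1_318) r_braid_1_319

theorem r_braid_1_320 : allRange chk_braid 20 20797 32 = true := by decide +kernel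
theorem v_braid_1_320 : ∀ k, 10557 ≤ k → k < 20829 → chk_braid (k * 20) = true := between_extend chk_braid 20 10557 20797 32 (v_braid_1_319) r_braid_1_320

theorem r_braid_1_321 : allRange chk_braid 20 20829 32 = true := by decide +kernel
theorem v_braid_1_321 : ∀ k, 10557 ≤ k → k < 20861 → chk_braid (k * 20) = true := between_extend chk_braid 20 10557 20829 32 (v_braid_1_320) r_braid_1_321

theorem r_braid_1_322 : allRange chk_braid 20 20861 32 = true := by decide +kernel
theorem v_braid_1_322 : ∀ k, 10557 ≤ k → k < 20893 → chk_braid (k * 20) = true := between_extend chk_braid 20 10557 20861 32 (v_braid_1_321) r_braid_1_322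

theorem r_braid_1_323 : allRange chk_braid 20 20893 32 = true := by decide +kernel
theorem v_braid_1_323 : ∀ k, 10557 ≤ k → k < 20925 → chk_braid (k * 20) = true := between_extend chk_braid 20 10557 20893 32 (v_braid_1_322) r_braid_1_323

theorem r_braid_1_324 : allRange chk_braid 20 20925 32 = true := by decide +kernel
theorem v_braid_1_324 : ∀ k, 10557 ≤ k → k < 20957 → chk_braid (k * 20) = true := between_extend chk_braid 20 10557 20925 32 (v_braid_1_323) r_braid_1_324

theorem r_braid_1_325 : allRange chk_braid 20 20957 32 = true := by decide +kernel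
theorem v_braid_1_325 : ∀ k, 10557 ≤ k → k < 20989 → chk_braid (k * 20) = true := between_extend chk_braid 20 10557 20957 32 (v_braid_1_324) r_braid_1_325

theorem r_braid_1_326 : allRange chk_braid 20 20989 32 = true := by decide +kernel
theorem v_braid_1_326 : ∀ k, 10557 ≤ k → k < 21021 → chk_braid (k * 20) = true := between_extend chk_braid 20 10557 20989 32 (v_braid_1_325) r_braid_1_326

theorem r_braid_1_327 : allRange chk_braid 20 21021 32 = true := by decide +kernel
theorem v_braid_1_327 : ∀ k, 10557 ≤ k → k < 21053 → chk_braid (k * 20) = true := between_extend chk_braid 20 10557 21021 32 (v_braid_1_326) r_braid_1_327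

theorem r_braid_1_328 : allRange chk_braid 20 21053 32 = true := by decide +kernel
theorem v_braid_1_328 : ∀ k, 10557 ≤ k → k < 21085 → chk_braid (k * 20) = true := between_extend chk_braid 20 10557 21053 32 (v_braid_1_327) r_braid_1_328

theorem r_braid_1_329 : allRange chk_braid 20 21085 29 = true := by decide +kernel
theorem v_braid_1_329 : ∀ k, 10557 ≤ k → k < 21114 → chk_braid (k * 20) = true := between_extend chk_braid 20 10557 21085 29 (v_braid_1_328) r_braid_1_329

theorem p_braid_1 : ∀ k, 10557 ≤ k → k < 21114 → chk_braid (k * 20) = true := v_braid_1_329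

end Cfsg.Agent.Lib.Helper28_Y5FiW
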