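import Cfsg.Agent.Lib.Helper28_Y5FiWDef

set_option autoImplicit false
set_option linter.constructorNameAsVariable false
set_option Elab.async false

namespace Cfsg.Agent.Lib.Helper28_Y5FiW

open Cfsg.Agent.Lib.Helper28_CosetPerm

theorem r_z12_0_0 : allRange chk_z12 20 0 50 = true := by decide +kernel
theorem v_z12_0_0 : ∀ k, 0 ≤ k → k < 50 → chk_z12 (k * 20) = true := between_extend chk_z12 20 0 0 50 (between_start chk_z12 20 0) r_z12_0_0

theorem r_z12_0_1 : allRange chk_z12 20 50 50 = true := by decide +kernel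
theorem v_z12_0_1 : ∀ k, 0 ≤ k → k < 100 → chk_z12 (k * 20) = true := between_extend chk_z12 20 0 50 50 (v_z12_0_0) r_z12_0_1

theorem r_z12_0_2 : allRange chk_z12 20 100 50 = true := by decide +kernel
theorem v_z12_0_2 : ∀ k, 0 ≤ k → k < 150 → chk_z12 (k * 20) = true := between_extend chk_z12 20 0 100 50 (v_z12_0_1) r_z12_0_2

theorem r_z12_0_3 : allRange chk_z12 20 150 50 = true := by decide +kernel
theorem v_z12_0_3 : ∀ k, 0 ≤ k → k < 200 → chk_z12 (k * 20) = true := between_extend chk_z12 20 0 150 50 (v_z12_0_2) r_z12_0_3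

theorem r_z12_0_4 : allRange chk_z12 20 200 50 = true := by decide +kernel
theorem v_z12_0_4 : ∀ k, 0 ≤ k → k < 250 → chk_z12 (k * 20) = true := between_extend chk_z12 20 0 200 50 (v_z12_0_3) r_z12_0_4

theorem r_z12_0_5 : allRange chk_z12 20 250 50 = true := by decide +kernel
theorem v_z12_0_5 : ∀ k, 0 ≤ k → k < 300 → chk_z12 (k * 20) = true := between_extend chk_z12 20 0 250 50 (v_z12_0_4) r_z12_0_5

theorem r_z12_0_6 : allRange chk_z12 20 300 50 = true := by decide +kernel
theorem v_z12_0_6 : ∀ k, 0 ≤ k → k < 350 → chk_z12 (k * 20) = true := between_extend chk_z12 20 0 300 50 (v_z12_0_5) r_z12_0_6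

theorem r_z12_0_7 : allRange chk_z12 20 350 50 = true := by decide +kernel
theorem v_z12_0_7 : ∀ k, 0 ≤ k → k < 400 → chk_z12 (k * 20) = true := between_extend chk_z12 20 0 350 50 (v_z12_0_6) r_z12_0_7

theorem r_z12_0_8 : allRange chk_z12 20 400 50 = true := by decide +kernel
theorem v_z12_0_8 : ∀ k, 0 ≤ k → k < 450 → chk_z12 (k * 20) = true := between_extend chk_z12 20 0 400 50 (v_z12_0_7) r_z12_0_8

theorem r_z12_0_9 : allRange chk_z12 20 450 50 = true := by decide +kernel
theorem v_z12_0_9 : ∀ k, 0 ≤ k → k < 500 → chk_z12 (k * 20) = true := between_extend chk_z12 20 0 450 50 (v_z12_0_8) r_z12_0_9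

theorem r_z12_0_10 : allRange chk_z12 20 500 50 = true := by decide +kernel
theorem v_z12_0_10 : ∀ k, 0 ≤ k → k < 550 → chk_z12 (k * 20) = true := between_extend chk_z12 20 0 500 50 (v_z12_0_9) r_z12_0_10

theorem r_z12_0_11 : allRange chk_z12 20 550 50 = true := by decide +kernel
theorem v_z12_0_11 : ∀ k, 0 ≤ k → k < 600 → chk_z12 (k * 20) = true := between_extend chk_z12 20 0 550 50 (v_z12_0_10) r_z12_0_11

theorem r_z12_0_12 : allRange chk_z12 20 600 50 = true := by decide +kernel
theorem v_z12_0_12 : ∀ k, 0 ≤ k → k < 650 → chk_z12 (k * 20) = true := between_extend chk_z12 20 0 600 50 (v_z12_0_11) r_z12_0_12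

theorem r_z12_0_13 : allRange chk_z12 20 650 50 = true := by decide +kernel
theorem v_z12_0_13 : ∀ k, 0 ≤ k → k < 700 → chk_z12 (k * 20) = true := between_extend chk_z12 20 0 650 50 (v_z12_0_12) r_z12_0_13

theorem r_z12_0_14 : allRange chk_z12 20 700 50 = true := by decide +kernel
theorem v_z12_0_14 : ∀ k, 0 ≤ k → k < 750 → chk_z12 (k * 20) = true := between_extend chk_z12 20 0 700 50 (v_z12_0_13) r_z12_0_14

theorem r_z12_0_15 : allRange chk_z12 20 750 50 = true := by decide +kernel
theorem v_z12_0_15 : ∀ k, 0 ≤ k → k < 800 → chk_z12 (k * 20) = true := between_extend chk_z12 20 0 750 50 (v_z12_0_14) r_z12_0_15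

theorem r_z12_0_16 : allRange chk_z12 20 800 50 = true := by decide +kernel
theorem v_z12_0_16 : ∀ k, 0 ≤ k → k < 850 → chk_z12 (k * 20) = true := between_extend chk_z12 20 0 800 50 (v_z12_0_15) r_z12_0_16

theorem r_z12_0_17 : allRange chk_z12 20 850 50 = true := by decide +kernel
theorem v_z12_0_17 : ∀ k, 0 ≤ k → k < 900 → chk_z12 (k * 20) = true := between_extend chk_z12 20 0 850 50 (v_z12_0_16) r_z12_0_17

theorem r_z12_0_18 : allRange chk_z12 20 900 50 = true := by decide +kernel
theorem v_z12_0_18 : ∀ k, 0 ≤ k → k < 950 → chk_z12 (k * 20) = true := between_extend chk_z12 20 0 900 50 (v_z12_0_17) r_z12_0_18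

theorem r_z12_0_19 : allRange chk_z12 20 950 50 = true := by decide +kernel
theorem v_z12_0_19 : ∀ k, 0 ≤ k → k < 1000 → chk_z12 (k * 20) = true := between_extend chk_z12 20 0 950 50 (v_z12_0_18) r_z12_0_19

theorem r_z12_0_20 : allRange chk_z12 20 1000 50 = true := by decide +kernel
theorem v_z12_0_20 : ∀ k, 0 ≤ k → k < 1050 → chk_z12 (k * 20) = true := between_extend chk_z12 20 0 1000 50 (v_z12_0_19) r_z12_0_20

theorem r_z12_0_21 : allRange chk_z12 20 1050 50 = true := by decide +kernel
theorem v_z12_0_21 : ∀ k, 0 ≤ k → k < 1100 → chk_z12 (k * 20) = true := between_extend chk_z12 20 0 1050 50 (v_z12_0_20) r_z12_0_21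

theorem r_z12_0_22 : allRange chk_z12 20 1100 50 = true := by decide +kernel
theorem v_z12_0_22 : ∀ k, 0 ≤ k → k < 1150 → chk_z12 (k * 20) = true := between_extend chk_z12 20 0 1100 50 (v_z12_0_21) r_z12_0_22

theorem r_z12_0_23 : allRange chk_z12 20 1150 50 = true := by decide +kernel
theorem v_z12_0_23 : ∀ k, 0 ≤ k → k < 1200 → chk_z12 (k * 20) = true := between_extend chk_z12 20 0 1150 50 (v_z12_0_22) r_z12_0_23

theorem r_z12_0_24 : allRange chk_z12 20 1200 50 = true := by decide +kernel
theorem v_z12_0_24 : ∀ k, 0 ≤ k → k < 1250 → chk_z12 (k * 20) = true := between_extend chk_z12 20 0 1200 50 (v_z12_0_23) r_z12_0_24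

theorem r_z12_0_25 : allRange chk_z12 20 1250 50 = true := by decide +kernel
theorem v_z12_0_25 : ∀ k, 0 ≤ k → k < 1300 → chk_z12 (k * 20) = true := between_extend chk_z12 20 0 1250 50 (v_z12_0_24) r_z12_0_25

theorem r_z12_0_26 : allRange chk_z12 20 1300 50 = true := by decide +kernel
theorem v_z12_0_26 : ∀ k, 0 ≤ k → k < 1350 → chk_z12 (k * 20) = true := between_extend chk_z12 20 0 1300 50 (v_z12_0_25) r_z12_0_26

theorem r_z12_0_27 : allRange chk_z12 20 1350 50 = true := by decide +kernel
theorem v_z12_0_27 : ∀ k, 0 ≤ k → k < 1400 → chk_z12 (k * 20) = true := between_extend chk_z12 20 0 1350 50 (v_z12_0_26) r_z12_0_27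

theorem r_z12_0_28 : allRange chk_z12 20 1400 50 = true := by decide +kernel
theorem v_z12_0_28 : ∀ k, 0 ≤ k → k < 1450 → chk_z12 (k * 20) = true := between_extend chk_z12 20 0 1400 50 (v_z12_0_27) r_z12_0_28

theorem r_z12_0_29 : allRange chk_z12 20 1450 50 = true := by decide +kernel
theorem v_z12_0_29 : ∀ k, 0 ≤ k → k < 1500 → chk_z12 (k * 20) = true := between_extend chk_z12 20 0 1450 50 (v_z12_0_28) r_z12_0_29

theorem r_z12_0_30 : allRange chk_z12 20 1500 50 = true := by decide +kernel
theorem v_z12_0_30 : ∀ k, 0 ≤ k → k < 1550 → chk_z12 (k * 20) = true := between_extend chk_z12 20 0 1500 50 (v_z12_0_29) r_z12_0_30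

theorem r_z12_0_31 : allRange chk_z12 20 1550 50 = true := by decide +kernel
theorem v_z12_0_31 : ∀ k, 0 ≤ k → k < 1600 → chk_z12 (k * 20) = true := between_extend chk_z12 20 0 1550 50 (v_z12_0_30) r_z12_0_31

theorem r_z12_0_32 : allRange chk_z12 20 1600 50 = true := by decide +kernel
theorem v_z12_0_32 : ∀ k, 0 ≤ k → k < 1650 → chk_z12 (k * 20) = true := between_extend chk_z12 20 0 1600 50 (v_z12_0_31) r_z12_0_32

theorem r_z12_0_33 : allRange chk_z12 20 1650 50 = true := by decide +kernel
theorem v_z12_0_33 : ∀ k, 0 ≤ k → k < 1700 → chk_z12 (k * 20) = true := between_extend chk_z12 20 0 1650 50 (v_z12_0_32) r_z12_0_33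

theorem r_z12_0_34 : allRange chk_z12 20 1700 50 = true := by decide +kernel
theorem v_z12_0_34 : ∀ k, 0 ≤ k → k < 1750 → chk_z12 (k * 20) = true := between_extend chk_z12 20 0 1700 50 (v_z12_0_33) r_z12_0_34

theorem r_z12_0_35 : allRange chk_z12 20 1750 50 = true := by decide +kernel
theorem v_z12_0_35 : ∀ k, 0 ≤ k → k < 1800 → chk_z12 (k * 20) = true := between_extend chk_z12 20 0 1750 50 (v_z12_0_34) r_z12_0_35

theorem r_z12_0_36 : allRange chk_z12 20 1800 50 = true := by decide +kernel
theorem v_z12_0_36 : ∀ k, 0 ≤ k → k < 1850 → chk_z12 (k * 20) = true := between_extend chk_z12 20 0 1800 50 (v_z12_0_35) r_z12_0_36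

theorem r_z12_0_37 : allRange chk_z12 20 1850 50 = true := by decide +kernel
theorem v_z12_0_37 : ∀ k, 0 ≤ k → k < 1900 → chk_z12 (k * 20) = true := between_extend chk_z12 20 0 1850 50 (v_z12_0_36) r_z12_0_37

theorem r_z12_0_38 : allRange chk_z12 20 1900 50 = true := by decide +kernel
theorem v_z12_0_38 : ∀ k, 0 ≤ k → k < 1950 → chk_z12 (k * 20) = true := between_extend chk_z12 20 0 1900 50 (v_z12_0_37) r_z12_0_38

theorem r_z12_0_39 : allRange chk_z12 20 1950 50 = true := by decide +kernel
theorem v_z12_0_39 : ∀ k, 0 ≤ k → k < 2000 → chk_z12 (k * 20) = true := between_extend chk_z12 20 0 1950 50 (v_z12_0_38) r_z12_0_39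

theorem r_z12_0_40 : allRange chk_z12 20 2000 50 = true := by decide +kernel
theorem v_z12_0_40 : ∀ k, 0 ≤ k → k < 2050 → chk_z12 (k * 20) = true := between_extend chk_z12 20 0 2000 50 (v_z12_0_39) r_z12_0_40

theorem r_z12_0_41 : allRange chk_z12 20 2050 50 = true := by decide +kernel
theorem v_z12_0_41 : ∀ k, 0 ≤ k → k < 2100 → chk_z12 (k * 20) = true := between_extend chk_z12 20 0 2050 50 (v_z12_0_40) r_z12_0_41

theorem r_z12_0_42 : allRange chk_z12 20 2100 50 = true := by decide +kernel
theorem v_z12_0_42 : ∀ k, 0 ≤ k → k < 2150 → chk_z12 (k * 20) = true := between_extend chk_z12 20 0 2100 50 (v_z12_0_41) r_z12_0_42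

theorem r_z12_0_43 : allRange chk_z12 20 2150 50 = true := by decide +kernel
theorem v_z12_0_43 : ∀ k, 0 ≤ k → k < 2200 → chk_z12 (k * 20) = true := between_extend chk_z12 20 0 2150 50 (v_z12_0_42) r_z12_0_43

theorem r_z12_0_44 : allRange chk_z12 20 2200 50 = true := by decide +kernel
theorem v_z12_0_44 : ∀ k, 0 ≤ k → k < 2250 → chk_z12 (k * 20) = true := between_extend chk_z12 20 0 2200 50 (v_z12_0_43) r_z12_0_44

theorem r_z12_0_45 : allRange chk_z12 20 2250 50 = true := by decide +kernel
theorem v_z12_0_45 : ∀ k, 0 ≤ k → k < 2300 → chk_z12 (k * 20) = true := between_extend chk_z12 20 0 2250 50 (v_z12_0_44) r_z12_0_45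

theorem r_z12_0_46 : allRange chk_z12 20 2300 50 = true := by decide +kernel
theorem v_z12_0_46 : ∀ k, 0 ≤ k → k < 2350 → chk_z12 (k * 20) = true := between_extend chk_z12 20 0 2300 50 (v_z12_0_45) r_z12_0_46

theorem r_z12_0_47 : allRange chk_z12 20 2350 50 = true := by decide +kernel
theorem v_z12_0_47 : ∀ k, 0 ≤ k → k < 2400 → chk_z12 (k * 20) = true := between_extend chk_z12 20 0 2350 50 (v_z12_0_46) r_z12_0_47

theorem r_z12_0_48 : allRange chk_z12 20 2400 50 = true := by decide +kernel
theorem v_z12_0_48 : ∀ k, 0 ≤ k → k < 2450 → chk_z12 (k * 20) = true := between_extend chk_z12 20 0 2400 50 (v_z12_0_47) r_z12_0_48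

theorem r_z12_0_49 : allRange chk_z12 20 2450 50 = true := by decide +kernel
theorem v_z12_0_49 : ∀ k, 0 ≤ k → k < 2500 → chk_z12 (k * 20) = true := between_extend chk_z12 20 0 2450 50 (v_z12_0_48) r_z12_0_49

theorem r_z12_0_50 : allRange chk_z12 20 2500 50 = true := by decide +kernel
theorem v_z12_0_50 : ∀ k, 0 ≤ k → k < 2550 → chk_z12 (k * 20) = true := between_extend chk_z12 20 0 2500 50 (v_z12_0_49) r_z12_0_50

theorem r_z12_0_51 : allRange chk_z12 20 2550 50 = true := by decide +kernel
theorem v_z12_0_51 : ∀ k, 0 ≤ k → k < 2600 → chk_z12 (k * 20) = true := between_extend chk_z12 20 0 2550 50 (v_z12_0_50) r_z12_0_51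

theorem r_z12_0_52 : allRange chk_z12 20 2600 50 = true := by decide +kernel
theorem v_z12_0_52 : ∀ k, 0 ≤ k → k < 2650 → chk_z12 (k * 20) = true := between_extend chk_z12 20 0 2600 50 (v_z12_0_51) r_z12_0_52

theorem r_z12_0_53 : allRange chk_z12 20 2650 50 = true := by decide +kernel
theorem v_z12_0_53 : ∀ k, 0 ≤ k → k < 2700 → chk_z12 (k * 20) = true := between_extend chk_z12 20 0 2650 50 (v_z12_0_52) r_z12_0_53

theorem r_z12_0_54 : allRange chk_z12 20 2700 50 = true := by decide +kernel
theorem v_z12_0_54 : ∀ k, 0 ≤ k → k < 2750 → chk_z12 (k * 20) = true := between_extend chk_z12 20 0 2700 50 (v_z12_0_53) r_z12_0_54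

theorem r_z12_0_55 : allRange chk_z12 20 2750 50 = true := by decide +kernel
theorem v_z12_0_55 : ∀ k, 0 ≤ k → k < 2800 → chk_z12 (k * 20) = true := between_extend chk_z12 20 0 2750 50 (v_z12_0_54) r_z12_0_55

theorem r_z12_0_56 : allRange chk_z12 20 2800 50 = true := by decide +kernel
theorem v_z12_0_56 : ∀ k, 0 ≤ k → k < 2850 → chk_z12 (k * 20) = true := between_extend chk_z12 20 0 2800 50 (v_z12_0_55) r_z12_0_56

theorem r_z12_0_57 : allRange chk_z12 20 2850 50 = true := by decide +kernel
theorem v_z12_0_57 : ∀ k, 0 ≤ k → k < 2900 → chk_z12 (k * 20) = true := between_extend chk_z12 20 0 2850 50 (v_z12_0_56) r_z12_0_57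

theorem r_z12_0_58 : allRange chk_z12 20 2900 50 = true := by decide +kernel
theorem v_z12_0_58 : ∀ k, 0 ≤ k → k < 2950 → chk_z12 (k * 20) = true := between_extend chk_z12 20 0 2900 50 (v_z12_0_57) r_z12_0_58

theorem r_z12_0_59 : allRange chk_z12 20 2950 50 = true := by decide +kernel
theorem v_z12_0_59 : ∀ k, 0 ≤ k → k < 3000 → chk_z12 (k * 20) = true := between_extend chk_z12 20 0 2950 50 (v_z12_0_58) r_z12_0_59

theorem r_z12_0_60 : allRange chk_z12 20 3000 50 = true := by decide +kernel
theorem v_z12_0_60 : ∀ k, 0 ≤ k → k < 3050 → chk_z12 (k * 20) = true := between_extend chk_z12 20 0 3000 50 (v_z12_0_59) r_z12_0_60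

theorem r_z12_0_61 : allRange chk_z12 20 3050 50 = true := by decide +kernel
theorem v_z12_0_61 : ∀ k, 0 ≤ k → k < 3100 → chk_z12 (k * 20) = true := between_extend chk_z12 20 0 3050 50 (v_z12_0_60) r_z12_0_61

theorem r_z12_0_62 : allRange chk_z12 20 3100 50 = true := by decide +kernel
theorem v_z12_0_62 : ∀ k, 0 ≤ k → k < 3150 → chk_z12 (k * 20) = true := between_extend chk_z12 20 0 3100 50 (v_z12_0_61) r_z12_0_62

theorem r_z12_0_63 : allRange chk_z12 20 3150 50 = true := by decide +kernel
theorem v_z12_0_63 : ∀ k, 0 ≤ k → k < 3200 → chk_z12 (k * 20) = true := between_extend chk_z12 20 0 3150 50 (v_z12_0_62) r_z12_0_63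

theorem r_z12_0_64 : allRange chk_z12 20 3200 50 = true := by decide +kernel
theorem v_z12_0_64 : ∀ k, 0 ≤ k → k < 3250 → chk_z12 (k * 20) = true := between_extend chk_z12 20 0 3200 50 (v_z12_0_63) r_z12_0_64

theorem r_z12_0_65 : allRange chk_z12 20 3250 50 = true := by decide +kernel
theorem v_z12_0_65 : ∀ k, 0 ≤ k → k < 3300 → chk_z12 (k * 20) = true := between_extend chk_z12 20 0 3250 50 (v_z12_0_64) r_z12_0_65

theorem r_z12_0_66 : allRange chk_z12 20 3300 50 = true := by decide +kernel
theorem v_z12_0_66 : ∀ k, 0 ≤ k → k < 3350 → chk_z12 (k * 20) = true := between_extend chk_z12 20 0 3300 50 (v_z12_0_65) r_z12_0_66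

theorem r_z12_0_67 : allRange chk_z12 20 3350 50 = true := by decide +kernel
theorem v_z12_0_67 : ∀ k, 0 ≤ k → k < 3400 → chk_z12 (k * 20) = true := between_extend chk_z12 20 0 3350 50 (v_z12_0_66) r_z12_0_67

theorem r_z12_0_68 : allRange chk_z12 20 3400 50 = true := by decide +kernel
theorem v_z12_0_68 : ∀ k, 0 ≤ k → k < 3450 → chk_z12 (k * 20) = true := between_extend chk_z12 20 0 3400 50 (v_z12_0_67) r_z12_0_68

theorem r_z12_0_69 : allRange chk_z12 20 3450 50 = true := by decide +kernel
theorem v_z12_0_69 : ∀ k, 0 ≤ k → k < 3500 → chk_z12 (k * 20) = true := between_extend chk_z12 20 0 3450 50 (v_z12_0_68) r_z12_0_69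

theorem r_z12_0_70 : allRange chk_z12 20 3500 50 = true := by decide +kernel
theorem v_z12_0_70 : ∀ k, 0 ≤ k → k < 3550 → chk_z12 (k * 20) = true := between_extend chk_z12 20 0 3500 50 (v_z12_0_69) r_z12_0_70

theorem r_z12_0_71 : allRange chk_z12 20 3550 50 = true := by decide +kernel
theorem v_z12_0_71 : ∀ k, 0 ≤ k → k < 3600 → chk_z12 (k * 20) = true := between_extend chk_z12 20 0 3550 50 (v_z12_0_70) r_z12_0_71

theorem r_z12_0_72 : allRange chk_z12 20 3600 50 = true := by decide +kernel
theorem v_z12_0_72 : ∀ k, 0 ≤ k → k < 3650 → chk_z12 (k * 20) = true := between_extend chk_z12 20 0 3600 50 (v_z12_0_71) r_z12_0_72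

theorem r_z12_0_73 : allRange chk_z12 20 3650 50 = true := by decide +kernel
theorem v_z12_0_73 : ∀ k, 0 ≤ k → k < 3700 → chk_z12 (k * 20) = true := between_extend chk_z12 20 0 3650 50 (v_z12_0_72) r_z12_0_73

theorem r_z12_0_74 : allRange chk_z12 20 3700 50 = true := by decide +kernel
theorem v_z12_0_74 : ∀ k, 0 ≤ k → k < 3750 → chk_z12 (k * 20) = true := between_extend chk_z12 20 0 3700 50 (v_z12_0_73) r_z12_0_74

theorem r_z12_0_75 : allRange chk_z12 20 3750 50 = true := by decide +kernel
theorem v_z12_0_75 : ∀ k, 0 ≤ k → k < 3800 → chk_z12 (k * 20) = true := between_extend chk_z12 20 0 3750 50 (v_z12_0_74) r_z12_0_75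

theorem r_z12_0_76 : allRange chk_z12 20 3800 50 = true := by decide +kernel
theorem v_z12_0_76 : ∀ k, 0 ≤ k → k < 3850 → chk_z12 (k * 20) = true := between_extend chk_z12 20 0 3800 50 (v_z12_0_75) r_z12_0_76

theorem r_z12_0_77 : allRange chk_z12 20 3850 50 = true := by decide +kernel
theorem v_z12_0_77 : ∀ k, 0 ≤ k → k < 3900 → chk_z12 (k * 20) = true := between_extend chk_z12 20 0 3850 50 (v_z12_0_76) r_z12_0_77

theorem r_z12_0_78 : allRange chk_z12 20 3900 50 = true := by decide +kernel
theorem v_z12_0_78 : ∀ k, 0 ≤ k → k < 3950 → chk_z12 (k * 20) = true := between_extend chk_z12 20 0 3900 50 (v_z12_0_77) r_z12_0_78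

theorem r_z12_0_79 : allRange chk_z12 20 3950 50 = true := by decide +kernel
theorem v_z12_0_79 : ∀ k, 0 ≤ k → k < 4000 → chk_z12 (k * 20) = true := between_extend chk_z12 20 0 3950 50 (v_z12_0_78) r_z12_0_79

theorem r_z12_0_80 : allRange chk_z12 20 4000 50 = true := by decide +kernel
theorem v_z12_0_80 : ∀ k, 0 ≤ k → k < 4050 → chk_z12 (k * 20) = true := between_extend chk_z12 20 0 4000 50 (v_z12_0_79) r_z12_0_80

theorem r_z12_0_81 : allRange chk_z12 20 4050 50 = true := by decide +kernel
theorem v_z12_0_81 : ∀ k, 0 ≤ k → k < 4100 → chk_z12 (k * 20) = true := between_extend chk_z12 20 0 4050 50 (v_z12_0_80) r_z12_0_81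

theorem r_z12_0_82 : allRange chk_z12 20 4100 50 = true := by decide +kernel
theorem v_z12_0_82 : ∀ k, 0 ≤ k → k < 4150 → chk_z12 (k * 20) = true := between_extend chk_z12 20 0 4100 50 (v_z12_0_81) r_z12_0_82

theorem r_z12_0_83 : allRange chk_z12 20 4150 50 = true := by decide +kernel
theorem v_z12_0_83 : ∀ k, 0 ≤ k → k < 4200 → chk_z12 (k * 20) = true := between_extend chk_z12 20 0 4150 50 (v_z12_0_82) r_z12_0_83

theorem r_z12_0_84 : allRange chk_z12 20 4200 50 = true := by decide +kernel
theorem v_z12_0_84 : ∀ k, 0 ≤ k → k < 4250 → chk_z12 (k * 20) = true := between_extend chk_z12 20 0 4200 50 (v_z12_0_83) r_z12_0_84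

theorem r_z12_0_85 : allRange chk_z12 20 4250 50 = true := by decide +kernel
theorem v_z12_0_85 : ∀ k, 0 ≤ k → k < 4300 → chk_z12 (k * 20) = true := between_extend chk_z12 20 0 4250 50 (v_z12_0_84) r_z12_0_85

theorem r_z12_0_86 : allRange chk_z12 20 4300 50 = true := by decide +kernel
theorem v_z12_0_86 : ∀ k, 0 ≤ k → k < 4350 → chk_z12 (k * 20) = true := between_extend chk_z12 20 0 4300 50 (v_z12_0_85) r_z12_0_86

theorem r_z12_0_87 : allRange chk_z12 20 4350 50 = true := by decide +kernel
theorem v_z12_0_87 : ∀ k, 0 ≤ k → k < 4400 → chk_z12 (k * 20) = true := between_extend chk_z12 20 0 4350 50 (v_z12_0_86) r_z12_0_87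

theorem r_z12_0_88 : allRange chk_z12 20 4400 50 = true := by decide +kernel
theorem v_z12_0_88 : ∀ k, 0 ≤ k → k < 4450 → chk_z12 (k * 20) = true := between_extend chk_z12 20 0 4400 50 (v_z12_0_87) r_z12_0_88

theorem r_z12_0_89 : allRange chk_z12 20 4450 50 = true := by decide +kernel
theorem v_z12_0_89 : ∀ k, 0 ≤ k → k < 4500 → chk_z12 (k * 20) = true := between_extend chk_z12 20 0 4450 50 (v_z12_0_88) r_z12_0_89

theorem r_z12_0_90 : allRange chk_z12 20 4500 50 = true := by decide +kernel
theorem v_z12_0_90 : ∀ k, 0 ≤ k → k < 4550 → chk_z12 (k * 20) = true := between_extend chk_z12 20 0 4500 50 (v_z12_0_89) r_z12_0_90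

theorem r_z12_0_91 : allRange chk_z12 20 4550 50 = true := by decide +kernel
theorem v_z12_0_91 : ∀ k, 0 ≤ k → k < 4600 → chk_z12 (k * 20) = true := between_extend chk_z12 20 0 4550 50 (v_z12_0_90) r_z12_0_91

theorem r_z12_0_92 : allRange chk_z12 20 4600 50 = true := by decide +kernel
theorem v_z12_0_92 : ∀ k, 0 ≤ k → k < 4650 → chk_z12 (k * 20) = true := between_extend chk_z12 20 0 4600 50 (v_z12_0_91) r_z12_0_92

theorem r_z12_0_93 : allRange chk_z12 20 4650 50 = true := by decide +kernel
theorem v_z12_0_93 : ∀ k, 0 ≤ k → k < 4700 → chk_z12 (k * 20) = true := between_extend chk_z12 20 0 4650 50 (v_z12_0_92) r_z12_0_93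

theorem r_z12_0_94 : allRange chk_z12 20 4700 50 = true := by decide +kernel
theorem v_z12_0_94 : ∀ k, 0 ≤ k → k < 4750 → chk_z12 (k * 20) = true := between_extend chk_z12 20 0 4700 50 (v_z12_0_93) r_z12_0_94

theorem r_z12_0_95 : allRange chk_z12 20 4750 50 = true := by decide +kernel
theorem v_z12_0_95 : ∀ k, 0 ≤ k → k < 4800 → chk_z12 (k * 20) = true := between_extend chk_z12 20 0 4750 50 (v_z12_0_94) r_z12_0_95

theorem r_z12_0_96 : allRange chk_z12 20 4800 50 = true := by decide +kernel
theorem v_z12_0_96 : ∀ k, 0 ≤ k → k < 4850 → chk_z12 (k * 20) = true := between_extend chk_z12 20 0 4800 50 (v_z12_0_95) r_z12_0_96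

theorem r_z12_0_97 : allRange chk_z12 20 4850 50 = true := by decide +kernel
theorem v_z12_0_97 : ∀ k, 0 ≤ k → k < 4900 → chk_z12 (k * 20) = true := between_extend chk_z12 20 0 4850 50 (v_z12_0_96) r_z12_0_97

theorem r_z12_0_98 : allRange chk_z12 20 4900 50 = true := by decide +kernel
theorem v_z12_0_98 : ∀ k, 0 ≤ k → k < 4950 → chk_z12 (k * 20) = true := between_extend chk_z12 20 0 4900 50 (v_z12_0_97) r_z12_0_98

theorem r_z12_0_99 : allRange chk_z12 20 4950 50 = true := by decide +kernel
theorem v_z12_0_99 : ∀ k, 0 ≤ k → k < 5000 → chk_z12 (k * 20) = true := between_extend chk_z12 20 0 4950 50 (v_z12_0_98) r_z12_0_99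

theorem r_z12_0_100 : allRange chk_z12 20 5000 50 = true := by decide +kernel
theorem v_z12_0_100 : ∀ k, 0 ≤ k → k < 5050 → chk_z12 (k * 20) = true := between_extend chk_z12 20 0 5000 50 (v_z12_0_99) r_z12_0_100

theorem r_z12_0_101 : allRange chk_z12 20 5050 50 = true := by decide +kernel
theorem v_z12_0_101 : ∀ k, 0 ≤ k → k < 5100 → chk_z12 (k * 20) = true := between_extend chk_z12 20 0 5050 50 (v_z12_0_100) r_z12_0_101

theorem r_z12_0_102 : allRange chk_z12 20 5100 50 = true := by decide +kernel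
theorem v_z12_0_102 : ∀ k, 0 ≤ k → k < 5150 → chk_z12 (k * 20) = true := between_extend chk_z12 20 0 5100 50 (v_z12_0_101) r_z12_0_102

theorem r_z12_0_103 : allRange chk_z12 20 5150 50 = true := by decide +kernel
theorem v_z12_0_103 : ∀ k, 0 ≤ k → k < 5200 → chk_z12 (k * 20) = true := between_extend chk_z12 20 0 5150 50 (v_z12_0_102) r_z12_0_103

theorem r_z12_0_104 : allRange chk_z12 20 5200 50 = true := by decide +kernel
theorem v_z12_0_104 : ∀ k, 0 ≤ k → k < 5250 → chk_z12 (k * 20) = true := between_extend chk_z12 20 0 5200 50 (v_z12_0_103) r_z12_0_104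

theorem r_z12_0_105 : allRange chk_z12 20 5250 50 = true := by decide +kernel
theorem v_z12_0_105 : ∀ k, 0 ≤ k → k < 5300 → chk_z12 (k * 20) = true := between_extend chk_z12 20 0 5250 50 (v_z12_0_104) r_z12_0_105

theorem r_z12_0_106 : allRange chk_z12 20 5300 50 = true := by decide +kernel
theorem v_z12_0_106 : ∀ k, 0 ≤ k → k < 5350 → chk_z12 (k * 20) = true := between_extend chk_z12 20 0 5300 50 (v_z12_0_105) r_z12_0_106

theorem r_z12_0_107 : allRange chk_z12 20 5350 50 = true := by decide +kernel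
theorem v_z12_0_107 : ∀ k, 0 ≤ k → k < 5400 → chk_z12 (k * 20) = true := between_extend chk_z12 20 0 5350 50 (v_z12_0_106) r_z12_0_107

theorem r_z12_0_108 : allRange chk_z12 20 5400 50 = true := by decide +kernel
theorem v_z12_0_108 : ∀ k, 0 ≤ k → k < 5450 → chk_z12 (k * 20) = true := between_extend chk_z12 20 0 5400 50 (v_z12_0_107) r_z12_0_108

theorem r_z12_0_109 : allRange chk_z12 20 5450 50 = true := by decide +kernel
theorem v_z12_0_109 : ∀ k, 0 ≤ k → k < 5500 → chk_z12 (k * 20) = true := between_extend chk_z12 20 0 5450 50 (v_z12_0_108) r_z12_0_109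

theorem r_z12_0_110 : allRange chk_z12 20 5500 50 = true := by decide +kernel
theorem v_z12_0_110 : ∀ k, 0 ≤ k → k < 5550 → chk_z12 (k * 20) = true := between_extend chk_z12 20 0 5500 50 (v_z12_0_109) r_z12_0_110

theorem r_z12_0_111 : allRange chk_z12 20 5550 50 = true := by decide +kernel
theorem v_z12_0_111 : ∀ k, 0 ≤ k → k < 5600 → chk_z12 (k * 20) = true := between_extend chk_z12 20 0 5550 50 (v_z12_0_110) r_z12_0_111

theorem r_z12_0_112 : allRange chk_z12 20 5600 50 = true := by decide +kernel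
theorem v_z12_0_112 : ∀ k, 0 ≤ k → k < 5650 → chk_z12 (k * 20) = true := between_extend chk_z12 20 0 5600 50 (v_z12_0_111) r_z12_0_112

theorem r_z12_0_113 : allRange chk_z12 20 5650 50 = true := by decide +kernel
theorem v_z12_0_113 : ∀ k, 0 ≤ k → k < 5700 → chk_z12 (k * 20) = true := between_extend chk_z12 20 0 5650 50 (v_z12_0_112) r_z12_0_113

theorem r_z12_0_114 : allRange chk_z12 20 5700 50 = true := by decide +kernel
theorem v_z12_0_114 : ∀ k, 0 ≤ k → k < 5750 → chk_z12 (k * 20) = true := between_extend chk_z12 20 0 5700 50 (v_z12_0_113) r_z12_0_114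

theorem r_z12_0_115 : allRange chk_z12 20 5750 50 = true := by decide +kernel
theorem v_z12_0_115 : ∀ k, 0 ≤ k → k < 5800 → chk_z12 (k * 20) = true := between_extend chk_z12 20 0 5750 50 (v_z12_0_114) r_z12_0_115

theorem r_z12_0_116 : allRange chk_z12 20 5800 50 = true := by decide +kernel
theorem v_z12_0_116 : ∀ k, 0 ≤ k → k < 5850 → chk_z12 (k * 20) = true := between_extend chk_z12 20 0 5800 50 (v_z12_0_115) r_z12_0_116

theorem r_z12_0_117 : allRange chk_z12 20 5850 50 = true := by decide +kernel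
theorem v_z12_0_117 : ∀ k, 0 ≤ k → k < 5900 → chk_z12 (k * 20) = true := between_extend chk_z12 20 0 5850 50 (v_z12_0_116) r_z12_0_117

theorem r_z12_0_118 : allRange chk_z12 20 5900 50 = true := by decide +kernel
theorem v_z12_0_118 : ∀ k, 0 ≤ k → k < 5950 → chk_z12 (k * 20) = true := between_extend chk_z12 20 0 5900 50 (v_z12_0_117) r_z12_0_118

theorem r_z12_0_119 : allRange chk_z12 20 5950 50 = true := by decide +kernel
theorem v_z12_0_119 : ∀ k, 0 ≤ k → k < 6000 → chk_z12 (k * 20) = true := between_extend chk_z12 20 0 5950 50 (v_z12_0_118) r_z12_0_119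

theorem r_z12_0_120 : allRange chk_z12 20 6000 50 = true := by decide +kernel
theorem v_z12_0_120 : ∀ k, 0 ≤ k → k < 6050 → chk_z12 (k * 20) = true := between_extend chk_z12 20 0 6000 50 (v_z12_0_119) r_z12_0_120

theorem r_z12_0_121 : allRange chk_z12 20 6050 50 = true := by decide +kernel
theorem v_z12_0_121 : ∀ k, 0 ≤ k → k < 6100 → chk_z12 (k * 20) = true := between_extend chk_z12 20 0 6050 50 (v_z12_0_120) r_z12_0_121

theorem r_z12_0_122 : allRange chk_z12 20 6100 50 = true := by decide +kernel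
theorem v_z12_0_122 : ∀ k, 0 ≤ k → k < 6150 → chk_z12 (k * 20) = true := between_extend chk_z12 20 0 6100 50 (v_z12_0_121) r_z12_0_122

theorem r_z12_0_123 : allRange chk_z12 20 6150 50 = true := by decide +kernel
theorem v_z12_0_123 : ∀ k, 0 ≤ k → k < 6200 → chk_z12 (k * 20) = true := between_extend chk_z12 20 0 6150 50 (v_z12_0_122) r_z12_0_123

theorem r_z12_0_124 : allRange chk_z12 20 6200 50 = true := by decide +kernel
theorem v_z12_0_124 : ∀ k, 0 ≤ k → k < 6250 → chk_z12 (k * 20) = true := between_extend chk_z12 20 0 6200 50 (v_z12_0_123) r_z12_0_124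

theorem r_z12_0_125 : allRange chk_z12 20 6250 50 = true := by decide +kernel
theorem v_z12_0_125 : ∀ k, 0 ≤ k → k < 6300 → chk_z12 (k * 20) = true := between_extend chk_z12 20 0 6250 50 (v_z12_0_124) r_z12_0_125

theorem r_z12_0_126 : allRange chk_z12 20 6300 50 = true := by decide +kernel
theorem v_z12_0_126 : ∀ k, 0 ≤ k → k < 6350 → chk_z12 (k * 20) = true := between_extend chk_z12 20 0 6300 50 (v_z12_0_125) r_z12_0_126

theorem r_z12_0_127 : allRange chk_z12 20 6350 50 = true := by decide +kernel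
theorem v_z12_0_127 : ∀ k, 0 ≤ k → k < 6400 → chk_z12 (k * 20) = true := between_extend chk_z12 20 0 6350 50 (v_z12_0_126) r_z12_0_127

theorem r_z12_0_128 : allRange chk_z12 20 6400 50 = true := by decide +kernel
theorem v_z12_0_128 : ∀ k, 0 ≤ k → k < 6450 → chk_z12 (k * 20) = true := between_extend chk_z12 20 0 6400 50 (v_z12_0_127) r_z12_0_128

theorem r_z12_0_129 : allRange chk_z12 20 6450 50 = true := by decide +kernel
theorem v_z12_0_129 : ∀ k, 0 ≤ k → k < 6500 → chk_z12 (k * 20) = true := between_extend chk_z12 20 0 6450 50 (v_z12_0_128) r_z12_0_129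

theorem r_z12_0_130 : allRange chk_z12 20 6500 50 = true := by decide +kernel
theorem v_z12_0_130 : ∀ k, 0 ≤ k → k < 6550 → chk_z12 (k * 20) = true := between_extend chk_z12 20 0 6500 50 (v_z12_0_129) r_z12_0_130

theorem r_z12_0_131 : allRange chk_z12 20 6550 50 = true := by decide +kernel
theorem v_z12_0_131 : ∀ k, 0 ≤ k → k < 6600 → chk_z12 (k * 20) = true := between_extend chk_z12 20 0 6550 50 (v_z12_0_130) r_z12_0_131

theorem r_z12_0_132 : allRange chk_z12 20 6600 50 = true := by decide +kernel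
theorem v_z12_0_132 : ∀ k, 0 ≤ k → k < 6650 → chk_z12 (k * 20) = true := between_extend chk_z12 20 0 6600 50 (v_z12_0_131) r_z12_0_132

theorem r_z12_0_133 : allRange chk_z12 20 6650 50 = true := by decide +kernel
theorem v_z12_0_133 : ∀ k, 0 ≤ k → k < 6700 → chk_z12 (k * 20) = true := between_extend chk_z12 20 0 6650 50 (v_z12_0_132) r_z12_0_133

theorem r_z12_0_134 : allRange chk_z12 20 6700 50 = true := by decide +kernel
theorem v_z12_0_134 : ∀ k, 0 ≤ k → k < 6750 → chk_z12 (k * 20) = true := between_extend chk_z12 20 0 6700 50 (v_z12_0_133) r_z12_0_134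

theorem r_z12_0_135 : allRange chk_z12 20 6750 50 = true := by decide +kernel
theorem v_z12_0_135 : ∀ k, 0 ≤ k → k < 6800 → chk_z12 (k * 20) = true := between_extend chk_z12 20 0 6750 50 (v_z12_0_134) r_z12_0_135

theorem r_z12_0_136 : allRange chk_z12 20 6800 50 = true := by decide +kernel
theorem v_z12_0_136 : ∀ k, 0 ≤ k → k < 6850 → chk_z12 (k * 20) = true := between_extend chk_z12 20 0 6800 50 (v_z12_0_135) r_z12_0_136

theorem r_z12_0_137 : allRange chk_z12 20 6850 50 = true := by decide +kernel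
theorem v_z12_0_137 : ∀ k, 0 ≤ k → k < 6900 → chk_z12 (k * 20) = true := between_extend chk_z12 20 0 6850 50 (v_z12_0_136) r_z12_0_137

theorem r_z12_0_138 : allRange chk_z12 20 6900 50 = true := by decide +kernel
theorem v_z12_0_138 : ∀ k, 0 ≤ k → k < 6950 → chk_z12 (k * 20) = true := between_extend chk_z12 20 0 6900 50 (v_z12_0_137) r_z12_0_138

theorem r_z12_0_139 : allRange chk_z12 20 6950 50 = true := by decide +kernel
theorem v_z12_0_139 : ∀ k, 0 ≤ k → k < 7000 → chk_z12 (k * 20) = true := between_extend chk_z12 20 0 6950 50 (v_z12_0_138) r_z12_0_139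

theorem r_z12_0_140 : allRange chk_z12 20 7000 50 = true := by decide +kernel
theorem v_z12_0_140 : ∀ k, 0 ≤ k → k < 7050 → chk_z12 (k * 20) = true := between_extend chk_z12 20 0 7000 50 (v_z12_0_139) r_z12_0_140

theorem r_z12_0_141 : allRange chk_z12 20 7050 50 = true := by decide +kernel
theorem v_z12_0_141 : ∀ k, 0 ≤ k → k < 7100 → chk_z12 (k * 20) = true := between_extend chk_z12 20 0 7050 50 (v_z12_0_140) r_z12_0_141

theorem r_z12_0_142 : allRange chk_z12 20 7100 50 = true := by decide +kernel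
theorem v_z12_0_142 : ∀ k, 0 ≤ k → k < 7150 → chk_z12 (k * 20) = true := between_extend chk_z12 20 0 7100 50 (v_z12_0_141) r_z12_0_142

theorem r_z12_0_143 : allRange chk_z12 20 7150 50 = true := by decide +kernel
theorem v_z12_0_143 : ∀ k, 0 ≤ k → k < 7200 → chk_z12 (k * 20) = true := between_extend chk_z12 20 0 7150 50 (v_z12_0_142) r_z12_0_143

theorem r_z12_0_144 : allRange chk_z12 20 7200 50 = true := by decide +kernel
theorem v_z12_0_144 : ∀ k, 0 ≤ k → k < 7250 → chk_z12 (k * 20) = true := between_extend chk_z12 20 0 7200 50 (v_z12_0_143) r_z12_0_144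

theorem r_z12_0_145 : allRange chk_z12 20 7250 50 = true := by decide +kernel
theorem v_z12_0_145 : ∀ k, 0 ≤ k → k < 7300 → chk_z12 (k * 20) = true := between_extend chk_z12 20 0 7250 50 (v_z12_0_144) r_z12_0_145

theorem r_z12_0_146 : allRange chk_z12 20 7300 50 = true := by decide +kernel
theorem v_z12_0_146 : ∀ k, 0 ≤ k → k < 7350 → chk_z12 (k * 20) = true := between_extend chk_z12 20 0 7300 50 (v_z12_0_145) r_z12_0_146

theorem r_z12_0_147 : allRange chk_z12 20 7350 50 = true := by decide +kernel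
theorem v_z12_0_147 : ∀ k, 0 ≤ k → k < 7400 → chk_z12 (k * 20) = true := between_extend chk_z12 20 0 7350 50 (v_z12_0_146) r_z12_0_147

theorem r_z12_0_148 : allRange chk_z12 20 7400 50 = true := by decide +kernel
theorem v_z12_0_148 : ∀ k, 0 ≤ k → k < 7450 → chk_z12 (k * 20) = true := between_extend chk_z12 20 0 7400 50 (v_z12_0_147) r_z12_0_148

theorem r_z12_0_149 : allRange chk_z12 20 7450 50 = true := by decide +kernel
theorem v_z12_0_149 : ∀ k, 0 ≤ k → k < 7500 → chk_z12 (k * 20) = true := between_extend chk_z12 20 0 7450 50 (v_z12_0_148) r_z12_0_149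

theorem r_z12_0_150 : allRange chk_z12 20 7500 50 = true := by decide +kernel
theorem v_z12_0_150 : ∀ k, 0 ≤ k → k < 7550 → chk_z12 (k * 20) = true := between_extend chk_z12 20 0 7500 50 (v_z12_0_149) r_z12_0_150

theorem r_z12_0_151 : allRange chk_z12 20 7550 50 = true := by decide +kernel
theorem v_z12_0_151 : ∀ k, 0 ≤ k → k < 7600 → chk_z12 (k * 20) = true := between_extend chk_z12 20 0 7550 50 (v_z12_0_150) r_z12_0_151

theorem r_z12_0_152 : allRange chk_z12 20 7600 50 = true := by decide +kernel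
theorem v_z12_0_152 : ∀ k, 0 ≤ k → k < 7650 → chk_z12 (k * 20) = true := between_extend chk_z12 20 0 7600 50 (v_z12_0_151) r_z12_0_152

theorem r_z12_0_153 : allRange chk_z12 20 7650 50 = true := by decide +kernel
theorem v_z12_0_153 : ∀ k, 0 ≤ k → k < 7700 → chk_z12 (k * 20) = true := between_extend chk_z12 20 0 7650 50 (v_z12_0_152) r_z12_0_153

theorem r_z12_0_154 : allRange chk_z12 20 7700 50 = true := by decide +kernel
theorem v_z12_0_154 : ∀ k, 0 ≤ k → k < 7750 → chk_z12 (k * 20) = true := between_extend chk_z12 20 0 7700 50 (v_z12_0_153) r_z12_0_154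

theorem r_z12_0_155 : allRange chk_z12 20 7750 50 = true := by decide +kernel
theorem v_z12_0_155 : ∀ k, 0 ≤ k → k < 7800 → chk_z12 (k * 20) = true := between_extend chk_z12 20 0 7750 50 (v_z12_0_154) r_z12_0_155

theorem r_z12_0_156 : allRange chk_z12 20 7800 50 = true := by decide +kernel
theorem v_z12_0_156 : ∀ k, 0 ≤ k → k < 7850 → chk_z12 (k * 20) = true := between_extend chk_z12 20 0 7800 50 (v_z12_0_155) r_z12_0_156

theorem r_z12_0_157 : allRange chk_z12 20 7850 50 = true := by decide +kernel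
theorem v_z12_0_157 : ∀ k, 0 ≤ k → k < 7900 → chk_z12 (k * 20) = true := between_extend chk_z12 20 0 7850 50 (v_z12_0_156) r_z12_0_157

theorem r_z12_0_158 : allRange chk_z12 20 7900 50 = true := by decide +kernel
theorem v_z12_0_158 : ∀ k, 0 ≤ k → k < 7950 → chk_z12 (k * 20) = true := between_extend chk_z12 20 0 7900 50 (v_z12_0_157) r_z12_0_158

theorem r_z12_0_159 : allRange chk_z12 20 7950 50 = true := by decide +kernel
theorem v_z12_0_159 : ∀ k, 0 ≤ k → k < 8000 → chk_z12 (k * 20) = true := between_extend chk_z12 20 0 7950 50 (v_z12_0_158) r_z12_0_159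

theorem r_z12_0_160 : allRange chk_z12 20 8000 50 = true := by decide +kernel
theorem v_z12_0_160 : ∀ k, 0 ≤ k → k < 8050 → chk_z12 (k * 20) = true := between_extend chk_z12 20 0 8000 50 (v_z12_0_159) r_z12_0_160

theorem r_z12_0_161 : allRange chk_z12 20 8050 50 = true := by decide +kernel
theorem v_z12_0_161 : ∀ k, 0 ≤ k → k < 8100 → chk_z12 (k * 20) = true := between_extend chk_z12 20 0 8050 50 (v_z12_0_160) r_z12_0_161

theorem r_z12_0_162 : allRange chk_z12 20 8100 50 = true := by decide +kernel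
theorem v_z12_0_162 : ∀ k, 0 ≤ k → k < 8150 → chk_z12 (k * 20) = true := between_extend chk_z12 20 0 8100 50 (v_z12_0_161) r_z12_0_162

theorem r_z12_0_163 : allRange chk_z12 20 8150 50 = true := by decide +kernel
theorem v_z12_0_163 : ∀ k, 0 ≤ k → k < 8200 → chk_z12 (k * 20) = true := between_extend chk_z12 20 0 8150 50 (v_z12_0_162) r_z12_0_163

theorem r_z12_0_164 : allRange chk_z12 20 8200 50 = true := by decide +kernel
theorem v_z12_0_164 : ∀ k, 0 ≤ k → k < 8250 → chk_z12 (k * 20) = true := between_extend chk_z12 20 0 8200 50 (v_z12_0_163) r_z12_0_164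

theorem r_z12_0_165 : allRange chk_z12 20 8250 50 = true := by decide +kernel
theorem v_z12_0_165 : ∀ k, 0 ≤ k → k < 8300 → chk_z12 (k * 20) = true := between_extend chk_z12 20 0 8250 50 (v_z12_0_164) r_z12_0_165

theorem r_z12_0_166 : allRange chk_z12 20 8300 50 = true := by decide +kernel
theorem v_z12_0_166 : ∀ k, 0 ≤ k → k < 8350 → chk_z12 (k * 20) = true := between_extend chk_z12 20 0 8300 50 (v_z12_0_165) r_z12_0_166

theorem r_z12_0_167 : allRange chk_z12 20 8350 50 = true := by decide +kernel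
theorem v_z12_0_167 : ∀ k, 0 ≤ k → k < 8400 → chk_z12 (k * 20) = true := between_extend chk_z12 20 0 8350 50 (v_z12_0_166) r_z12_0_167

theorem r_z12_0_168 : allRange chk_z12 20 8400 50 = true := by decide +kernel
theorem v_z12_0_168 : ∀ k, 0 ≤ k → k < 8450 → chk_z12 (k * 20) = true := between_extend chk_z12 20 0 8400 50 (v_z12_0_167) r_z12_0_168

theorem r_z12_0_169 : allRange chk_z12 20 8450 50 = true := by decide +kernel
theorem v_z12_0_169 : ∀ k, 0 ≤ k → k < 8500 → chk_z12 (k * 20) = true := between_extend chk_z12 20 0 8450 50 (v_z12_0_168) r_z12_0_169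

theorem r_z12_0_170 : allRange chk_z12 20 8500 50 = true := by decide +kernel
theorem v_z12_0_170 : ∀ k, 0 ≤ k → k < 8550 → chk_z12 (k * 20) = true := between_extend chk_z12 20 0 8500 50 (v_z12_0_169) r_z12_0_170

theorem r_z12_0_171 : allRange chk_z12 20 8550 50 = true := by decide +kernel
theorem v_z12_0_171 : ∀ k, 0 ≤ k → k < 8600 → chk_z12 (k * 20) = true := between_extend chk_z12 20 0 8550 50 (v_z12_0_170) r_z12_0_171

theorem r_z12_0_172 : allRange chk_z12 20 8600 50 = true := by decide +kernel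
theorem v_z12_0_172 : ∀ k, 0 ≤ k → k < 8650 → chk_z12 (k * 20) = true := between_extend chk_z12 20 0 8600 50 (v_z12_0_171) r_z12_0_172

theorem r_z12_0_173 : allRange chk_z12 20 8650 50 = true := by decide +kernel
theorem v_z12_0_173 : ∀ k, 0 ≤ k → k < 8700 → chk_z12 (k * 20) = true := between_extend chk_z12 20 0 8650 50 (v_z12_0_172) r_z12_0_173

theorem r_z12_0_174 : allRange chk_z12 20 8700 50 = true := by decide +kernel
theorem v_z12_0_174 : ∀ k, 0 ≤ k → k < 8750 → chk_z12 (k * 20) = true := between_extend chk_z12 20 0 8700 50 (v_z12_0_173) r_z12_0_174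

theorem r_z12_0_175 : allRange chk_z12 20 8750 50 = true := by decide +kernel
theorem v_z12_0_175 : ∀ k, 0 ≤ k → k < 8800 → chk_z12 (k * 20) = true := between_extend chk_z12 20 0 8750 50 (v_z12_0_174) r_z12_0_175

theorem r_z12_0_176 : allRange chk_z12 20 8800 50 = true := by decide +kernel
theorem v_z12_0_176 : ∀ k, 0 ≤ k → k < 8850 → chk_z12 (k * 20) = true := between_extend chk_z12 20 0 8800 50 (v_z12_0_175) r_z12_0_176

theorem r_z12_0_177 : allRange chk_z12 20 8850 50 = true := by decide +kernel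
theorem v_z12_0_177 : ∀ k, 0 ≤ k → k < 8900 → chk_z12 (k * 20) = true := between_extend chk_z12 20 0 8850 50 (v_z12_0_176) r_z12_0_177

theorem r_z12_0_178 : allRange chk_z12 20 8900 50 = true := by decide +kernel
theorem v_z12_0_178 : ∀ k, 0 ≤ k → k < 8950 → chk_z12 (k * 20) = true := between_extend chk_z12 20 0 8900 50 (v_z12_0_177) r_z12_0_178

theorem r_z12_0_179 : allRange chk_z12 20 8950 50 = true := by decide +kernel
theorem v_z12_0_179 : ∀ k, 0 ≤ k → k < 9000 → chk_z12 (k * 20) = true := between_extend chk_z12 20 0 8950 50 (v_z12_0_178) r_z12_0_179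

theorem r_z12_0_180 : allRange chk_z12 20 9000 50 = true := by decide +kernel
theorem v_z12_0_180 : ∀ k, 0 ≤ k → k < 9050 → chk_z12 (k * 20) = true := between_extend chk_z12 20 0 9000 50 (v_z12_0_179) r_z12_0_180

theorem r_z12_0_181 : allRange chk_z12 20 9050 50 = true := by decide +kernel
theorem v_z12_0_181 : ∀ k, 0 ≤ k → k < 9100 → chk_z12 (k * 20) = true := between_extend chk_z12 20 0 9050 50 (v_z12_0_180) r_z12_0_181

theorem r_z12_0_182 : allRange chk_z12 20 9100 50 = true := by decide +kernel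
theorem v_z12_0_182 : ∀ k, 0 ≤ k → k < 9150 → chk_z12 (k * 20) = true := between_extend chk_z12 20 0 9100 50 (v_z12_0_181) r_z12_0_182

theorem r_z12_0_183 : allRange chk_z12 20 9150 50 = true := by decide +kernel
theorem v_z12_0_183 : ∀ k, 0 ≤ k → k < 9200 → chk_z12 (k * 20) = true := between_extend chk_z12 20 0 9150 50 (v_z12_0_182) r_z12_0_183

theorem r_z12_0_184 : allRange chk_z12 20 9200 50 = true := by decide +kernel
theorem v_z12_0_184 : ∀ k, 0 ≤ k → k < 9250 → chk_z12 (k * 20) = true := between_extend chk_z12 20 0 9200 50 (v_z12_0_183) r_z12_0_184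

theorem r_z12_0_185 : allRange chk_z12 20 9250 50 = true := by decide +kernel
theorem v_z12_0_185 : ∀ k, 0 ≤ k → k < 9300 → chk_z12 (k * 20) = true := between_extend chk_z12 20 0 9250 50 (v_z12_0_184) r_z12_0_185

theorem r_z12_0_186 : allRange chk_z12 20 9300 50 = true := by decide +kernel
theorem v_z12_0_186 : ∀ k, 0 ≤ k → k < 9350 → chk_z12 (k * 20) = true := between_extend chk_z12 20 0 9300 50 (v_z12_0_185) r_z12_0_186

theorem r_z12_0_187 : allRange chk_z12 20 9350 50 = true := by decide +kernel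
theorem v_z12_0_187 : ∀ k, 0 ≤ k → k < 9400 → chk_z12 (k * 20) = true := between_extend chk_z12 20 0 9350 50 (v_z12_0_186) r_z12_0_187

theorem r_z12_0_188 : allRange chk_z12 20 9400 50 = true := by decide +kernel
theorem v_z12_0_188 : ∀ k, 0 ≤ k → k < 9450 → chk_z12 (k * 20) = true := between_extend chk_z12 20 0 9400 50 (v_z12_0_187) r_z12_0_188

theorem r_z12_0_189 : allRange chk_z12 20 9450 50 = true := by decide +kernel
theorem v_z12_0_189 : ∀ k, 0 ≤ k → k < 9500 → chk_z12 (k * 20) = true := between_extend chk_z12 20 0 9450 50 (v_z12_0_188) r_z12_0_189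

theorem r_z12_0_190 : allRange chk_z12 20 9500 50 = true := by decide +kernel
theorem v_z12_0_190 : ∀ k, 0 ≤ k → k < 9550 → chk_z12 (k * 20) = true := between_extend chk_z12 20 0 9500 50 (v_z12_0_189) r_z12_0_190

theorem r_z12_0_191 : allRange chk_z12 20 9550 50 = true := by decide +kernel
theorem v_z12_0_191 : ∀ k, 0 ≤ k → k < 9600 → chk_z12 (k * 20) = true := between_extend chk_z12 20 0 9550 50 (v_z12_0_190) r_z12_0_191

theorem r_z12_0_192 : allRange chk_z12 20 9600 50 = true := by decide +kernel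
theorem v_z12_0_192 : ∀ k, 0 ≤ k → k < 9650 → chk_z12 (k * 20) = true := between_extend chk_z12 20 0 9600 50 (v_z12_0_191) r_z12_0_192

theorem r_z12_0_193 : allRange chk_z12 20 9650 50 = true := by decide +kernel
theorem v_z12_0_193 : ∀ k, 0 ≤ k → k < 9700 → chk_z12 (k * 20) = true := between_extend chk_z12 20 0 9650 50 (v_z12_0_192) r_z12_0_193

theorem r_z12_0_194 : allRange chk_z12 20 9700 50 = true := by decide +kernel
theorem v_z12_0_194 : ∀ k, 0 ≤ k → k < 9750 → chk_z12 (k * 20) = true := between_extend chk_z12 20 0 9700 50 (v_z12_0_193) r_z12_0_194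

theorem r_z12_0_195 : allRange chk_z12 20 9750 50 = true := by decide +kernel
theorem v_z12_0_195 : ∀ k, 0 ≤ k → k < 9800 → chk_z12 (k * 20) = true := between_extend chk_z12 20 0 9750 50 (v_z12_0_194) r_z12_0_195

theorem r_z12_0_196 : allRange chk_z12 20 9800 50 = true := by decide +kernel
theorem v_z12_0_196 : ∀ k, 0 ≤ k → k < 9850 → chk_z12 (k * 20) = true := between_extend chk_z12 20 0 9800 50 (v_z12_0_195) r_z12_0_196

theorem r_z12_0_197 : allRange chk_z12 20 9850 50 = true := by decide +kernel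
theorem v_z12_0_197 : ∀ k, 0 ≤ k → k < 9900 → chk_z12 (k * 20) = true := between_extend chk_z12 20 0 9850 50 (v_z12_0_196) r_z12_0_197

theorem r_z12_0_198 : allRange chk_z12 20 9900 50 = true := by decide +kernel
theorem v_z12_0_198 : ∀ k, 0 ≤ k → k < 9950 → chk_z12 (k * 20) = true := between_extend chk_z12 20 0 9900 50 (v_z12_0_197) r_z12_0_198

theorem r_z12_0_199 : allRange chk_z12 20 9950 50 = true := by decide +kernel
theorem v_z12_0_199 : ∀ k, 0 ≤ k → k < 10000 → chk_z12 (k * 20) = true := between_extend chk_z12 20 0 9950 50 (v_z12_0_198) r_z12_0_199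

theorem r_z12_0_200 : allRange chk_z12 20 10000 50 = true := by decide +kernel
theorem v_z12_0_200 : ∀ k, 0 ≤ k → k < 10050 → chk_z12 (k * 20) = true := between_extend chk_z12 20 0 10000 50 (v_z12_0_199) r_z12_0_200

theorem r_z12_0_201 : allRange chk_z12 20 10050 50 = true := by decide +kernel
theorem v_z12_0_201 : ∀ k, 0 ≤ k → k < 10100 → chk_z12 (k * 20) = true := between_extend chk_z12 20 0 10050 50 (v_z12_0_200) r_z12_0_201

theorem r_z12_0_202 : allRange chk_z12 20 10100 50 = true := by decide +kernel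
theorem v_z12_0_202 : ∀ k, 0 ≤ k → k < 10150 → chk_z12 (k * 20) = true := between_extend chk_z12 20 0 10100 50 (v_z12_0_201) r_z12_0_202

theorem r_z12_0_203 : allRange chk_z12 20 10150 50 = true := by decide +kernel
theorem v_z12_0_203 : ∀ k, 0 ≤ k → k < 10200 → chk_z12 (k * 20) = true := between_extend chk_z12 20 0 10150 50 (v_z12_0_202) r_z12_0_203

theorem r_z12_0_204 : allRange chk_z12 20 10200 50 = true := by decide +kernel
theorem v_z12_0_204 : ∀ k, 0 ≤ k → k < 10250 → chk_z12 (k * 20) = true := between_extend chk_z12 20 0 10200 50 (v_z12_0_203) r_z12_0_204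

theorem r_z12_0_205 : allRange chk_z12 20 10250 50 = true := by decide +kernel
theorem v_z12_0_205 : ∀ k, 0 ≤ k → k < 10300 → chk_z12 (k * 20) = true := between_extend chk_z12 20 0 10250 50 (v_z12_0_204) r_z12_0_205

theorem r_z12_0_206 : allRange chk_z12 20 10300 50 = true := by decide +kernel
theorem v_z12_0_206 : ∀ k, 0 ≤ k → k < 10350 → chk_z12 (k * 20) = true := between_extend chk_z12 20 0 10300 50 (v_z12_0_205) r_z12_0_206

theorem r_z12_0_207 : allRange chk_z12 20 10350 50 = true := by decide +kernel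
theorem v_z12_0_207 : ∀ k, 0 ≤ k → k < 10400 → chk_z12 (k * 20) = true := between_extend chk_z12 20 0 10350 50 (v_z12_0_206) r_z12_0_207

theorem r_z12_0_208 : allRange chk_z12 20 10400 50 = true := by decide +kernel
theorem v_z12_0_208 : ∀ k, 0 ≤ k → k < 10450 → chk_z12 (k * 20) = true := between_extend chk_z12 20 0 10400 50 (v_z12_0_207) r_z12_0_208

theorem r_z12_0_209 : allRange chk_z12 20 10450 50 = true := by decide +kernel
theorem v_z12_0_209 : ∀ k, 0 ≤ k → k < 10500 → chk_z12 (k * 20) = true := between_extend chk_z12 20 0 10450 50 (v_z12_0_208) r_z12_0_209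

theorem r_z12_0_210 : allRange chk_z12 20 10500 50 = true := by decide +kernel
theorem v_z12_0_210 : ∀ k, 0 ≤ k → k < 10550 → chk_z12 (k * 20) = true := between_extend chk_z12 20 0 10500 50 (v_z12_0_209) r_z12_0_210

theorem r_z12_0_211 : allRange chk_z12 20 10550 50 = true := by decide +kernel
theorem v_z12_0_211 : ∀ k, 0 ≤ k → k < 10600 → chk_z12 (k * 20) = true := between_extend chk_z12 20 0 10550 50 (v_z12_0_210) r_z12_0_211

theorem r_z12_0_212 : allRange chk_z12 20 10600 50 = true := by decide +kernel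
theorem v_z12_0_212 : ∀ k, 0 ≤ k → k < 10650 → chk_z12 (k * 20) = true := between_extend chk_z12 20 0 10600 50 (v_z12_0_211) r_z12_0_212

theorem r_z12_0_213 : allRange chk_z12 20 10650 50 = true := by decide +kernel
theorem v_z12_0_213 : ∀ k, 0 ≤ k → k < 10700 → chk_z12 (k * 20) = true := between_extend chk_z12 20 0 10650 50 (v_z12_0_212) r_z12_0_213

theorem r_z12_0_214 : allRange chk_z12 20 10700 50 = true := by decide +kernel
theorem v_z12_0_214 : ∀ k, 0 ≤ k → k < 10750 → chk_z12 (k * 20) = true := between_extend chk_z12 20 0 10700 50 (v_z12_0_213) r_z12_0_214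

theorem r_z12_0_215 : allRange chk_z12 20 10750 50 = true := by decide +kernel
theorem v_z12_0_215 : ∀ k, 0 ≤ k → k < 10800 → chk_z12 (k * 20) = true := between_extend chk_z12 20 0 10750 50 (v_z12_0_214) r_z12_0_215

theorem r_z12_0_216 : allRange chk_z12 20 10800 50 = true := by decide +kernel
theorem v_z12_0_216 : ∀ k, 0 ≤ k → k < 10850 → chk_z12 (k * 20) = true := between_extend chk_z12 20 0 10800 50 (v_z12_0_215) r_z12_0_216

theorem r_z12_0_217 : allRange chk_z12 20 10850 50 = true := by decide +kernel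
theorem v_z12_0_217 : ∀ k, 0 ≤ k → k < 10900 → chk_z12 (k * 20) = true := between_extend chk_z12 20 0 10850 50 (v_z12_0_216) r_z12_0_217

theorem r_z12_0_218 : allRange chk_z12 20 10900 50 = true := by decide +kernel
theorem v_z12_0_218 : ∀ k, 0 ≤ k → k < 10950 → chk_z12 (k * 20) = true := between_extend chk_z12 20 0 10900 50 (v_z12_0_217) r_z12_0_218

theorem r_z12_0_219 : allRange chk_z12 20 10950 50 = true := by decide +kernel
theorem v_z12_0_219 : ∀ k, 0 ≤ k → k < 11000 → chk_z12 (k * 20) = true := between_extend chk_z12 20 0 10950 50 (v_z12_0_218) r_z12_0_219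

theorem r_z12_0_220 : allRange chk_z12 20 11000 50 = true := by decide +kernel
theorem v_z12_0_220 : ∀ k, 0 ≤ k → k < 11050 → chk_z12 (k * 20) = true := between_extend chk_z12 20 0 11000 50 (v_z12_0_219) r_z12_0_220

theorem r_z12_0_221 : allRange chk_z12 20 11050 50 = true := by decide +kernel
theorem v_z12_0_221 : ∀ k, 0 ≤ k → k < 11100 → chk_z12 (k * 20) = true := between_extend chk_z12 20 0 11050 50 (v_z12_0_220) r_z12_0_221

theorem r_z12_0_222 : allRange chk_z12 20 11100 50 = true := by decide +kernel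
theorem v_z12_0_222 : ∀ k, 0 ≤ k → k < 11150 → chk_z12 (k * 20) = true := between_extend chk_z12 20 0 11100 50 (v_z12_0_221) r_z12_0_222

theorem r_z12_0_223 : allRange chk_z12 20 11150 50 = true := by decide +kernel
theorem v_z12_0_223 : ∀ k, 0 ≤ k → k < 11200 → chk_z12 (k * 20) = true := between_extend chk_z12 20 0 11150 50 (v_z12_0_222) r_z12_0_223

theorem r_z12_0_224 : allRange chk_z12 20 11200 50 = true := by decide +kernel
theorem v_z12_0_224 : ∀ k, 0 ≤ k → k < 11250 → chk_z12 (k * 20) = true := between_extend chk_z12 20 0 11200 50 (v_z12_0_223) r_z12_0_224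

theorem r_z12_0_225 : allRange chk_z12 20 11250 50 = true := by decide +kernel
theorem v_z12_0_225 : ∀ k, 0 ≤ k → k < 11300 → chk_z12 (k * 20) = true := between_extend chk_z12 20 0 11250 50 (v_z12_0_224) r_z12_0_225

theorem r_z12_0_226 : allRange chk_z12 20 11300 50 = true := by decide +kernel
theorem v_z12_0_226 : ∀ k, 0 ≤ k → k < 11350 → chk_z12 (k * 20) = true := between_extend chk_z12 20 0 11300 50 (v_z12_0_225) r_z12_0_226

theorem r_z12_0_227 : allRange chk_z12 20 11350 50 = true := by decide +kernel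
theorem v_z12_0_227 : ∀ k, 0 ≤ k → k < 11400 → chk_z12 (k * 20) = true := between_extend chk_z12 20 0 11350 50 (v_z12_0_226) r_z12_0_227

theorem r_z12_0_228 : allRange chk_z12 20 11400 50 = true := by decide +kernel
theorem v_z12_0_228 : ∀ k, 0 ≤ k → k < 11450 → chk_z12 (k * 20) = true := between_extend chk_z12 20 0 11400 50 (v_z12_0_227) r_z12_0_228

theorem r_z12_0_229 : allRange chk_z12 20 11450 50 = true := by decide +kernel
theorem v_z12_0_229 : ∀ k, 0 ≤ k → k < 11500 → chk_z12 (k * 20) = true := between_extend chk_z12 20 0 11450 50 (v_z12_0_228) r_z12_0_229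

theorem r_z12_0_230 : allRange chk_z12 20 11500 50 = true := by decide +kernel
theorem v_z12_0_230 : ∀ k, 0 ≤ k → k < 11550 → chk_z12 (k * 20) = true := between_extend chk_z12 20 0 11500 50 (v_z12_0_229) r_z12_0_230

theorem r_z12_0_231 : allRange chk_z12 20 11550 50 = true := by decide +kernel
theorem v_z12_0_231 : ∀ k, 0 ≤ k → k < 11600 → chk_z12 (k * 20) = true := between_extend chk_z12 20 0 11550 50 (v_z12_0_230) r_z12_0_231

theorem r_z12_0_232 : allRange chk_z12 20 11600 50 = true := by decide +kernel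
theorem v_z12_0_232 : ∀ k, 0 ≤ k → k < 11650 → chk_z12 (k * 20) = true := between_extend chk_z12 20 0 11600 50 (v_z12_0_231) r_z12_0_232

theorem r_z12_0_233 : allRange chk_z12 20 11650 50 = true := by decide +kernel
theorem v_z12_0_233 : ∀ k, 0 ≤ k → k < 11700 → chk_z12 (k * 20) = true := between_extend chk_z12 20 0 11650 50 (v_z12_0_232) r_z12_0_233

theorem r_z12_0_234 : allRange chk_z12 20 11700 50 = true := by decide +kernel
theorem v_z12_0_234 : ∀ k, 0 ≤ k → k < 11750 → chk_z12 (k * 20) = true := between_extend chk_z12 20 0 11700 50 (v_z12_0_233) r_z12_0_234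

theorem r_z12_0_235 : allRange chk_z12 20 11750 50 = true := by decide +kernel
theorem v_z12_0_235 : ∀ k, 0 ≤ k → k < 11800 → chk_z12 (k * 20) = true := between_extend chk_z12 20 0 11750 50 (v_z12_0_234) r_z12_0_235

theorem r_z12_0_236 : allRange chk_z12 20 11800 50 = true := by decide +kernel
theorem v_z12_0_236 : ∀ k, 0 ≤ k → k < 11850 → chk_z12 (k * 20) = true := between_extend chk_z12 20 0 11800 50 (v_z12_0_235) r_z12_0_236

theorem r_z12_0_237 : allRange chk_z12 20 11850 50 = true := by decide +kernel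
theorem v_z12_0_237 : ∀ k, 0 ≤ k → k < 11900 → chk_z12 (k * 20) = true := between_extend chk_z12 20 0 11850 50 (v_z12_0_236) r_z12_0_237

theorem r_z12_0_238 : allRange chk_z12 20 11900 50 = true := by decide +kernel
theorem v_z12_0_238 : ∀ k, 0 ≤ k → k < 11950 → chk_z12 (k * 20) = true := between_extend chk_z12 20 0 11900 50 (v_z12_0_237) r_z12_0_238

theorem r_z12_0_239 : allRange chk_z12 20 11950 50 = true := by decide +kernel
theorem v_z12_0_239 : ∀ k, 0 ≤ k → k < 12000 → chk_z12 (k * 20) = true := between_extend chk_z12 20 0 11950 50 (v_z12_0_238) r_z12_0_239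

theorem r_z12_0_240 : allRange chk_z12 20 12000 50 = true := by decide +kernel
theorem v_z12_0_240 : ∀ k, 0 ≤ k → k < 12050 → chk_z12 (k * 20) = true := between_extend chk_z12 20 0 12000 50 (v_z12_0_239) r_z12_0_240

theorem r_z12_0_241 : allRange chk_z12 20 12050 50 = true := by decide +kernel
theorem v_z12_0_241 : ∀ k, 0 ≤ k → k < 12100 → chk_z12 (k * 20) = true := between_extend chk_z12 20 0 12050 50 (v_z12_0_240) r_z12_0_241

theorem r_z12_0_242 : allRange chk_z12 20 12100 50 = true := by decide +kernel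
theorem v_z12_0_242 : ∀ k, 0 ≤ k → k < 12150 → chk_z12 (k * 20) = true := between_extend chk_z12 20 0 12100 50 (v_z12_0_241) r_z12_0_242

theorem r_z12_0_243 : allRange chk_z12 20 12150 50 = true := by decide +kernel
theorem v_z12_0_243 : ∀ k, 0 ≤ k → k < 12200 → chk_z12 (k * 20) = true := between_extend chk_z12 20 0 12150 50 (v_z12_0_242) r_z12_0_243

theorem r_z12_0_244 : allRange chk_z12 20 12200 50 = true := by decide +kernel
theorem v_z12_0_244 : ∀ k, 0 ≤ k → k < 12250 → chk_z12 (k * 20) = true := between_extend chk_z12 20 0 12200 50 (v_z12_0_243) r_z12_0_244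

theorem r_z12_0_245 : allRange chk_z12 20 12250 50 = true := by decide +kernel
theorem v_z12_0_245 : ∀ k, 0 ≤ k → k < 12300 → chk_z12 (k * 20) = true := between_extend chk_z12 20 0 12250 50 (v_z12_0_244) r_z12_0_245

theorem r_z12_0_246 : allRange chk_z12 20 12300 50 = true := by decide +kernel
theorem v_z12_0_246 : ∀ k, 0 ≤ k → k < 12350 → chk_z12 (k * 20) = true := between_extend chk_z12 20 0 12300 50 (v_z12_0_245) r_z12_0_246

theorem r_z12_0_247 : allRange chk_z12 20 12350 50 = true := by decide +kernel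
theorem v_z12_0_247 : ∀ k, 0 ≤ k → k < 12400 → chk_z12 (k * 20) = true := between_extend chk_z12 20 0 12350 50 (v_z12_0_246) r_z12_0_247

theorem r_z12_0_248 : allRange chk_z12 20 12400 50 = true := by decide +kernel
theorem v_z12_0_248 : ∀ k, 0 ≤ k → k < 12450 → chk_z12 (k * 20) = true := between_extend chk_z12 20 0 12400 50 (v_z12_0_247) r_z12_0_248

theorem r_z12_0_249 : allRange chk_z12 20 12450 50 = true := by decide +kernel
theorem v_z12_0_249 : ∀ k, 0 ≤ k → k < 12500 → chk_z12 (k * 20) = true := between_extend chk_z12 20 0 12450 50 (v_z12_0_248) r_z12_0_249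

theorem r_z12_0_250 : allRange chk_z12 20 12500 50 = true := by decide +kernel
theorem v_z12_0_250 : ∀ k, 0 ≤ k → k < 12550 → chk_z12 (k * 20) = true := between_extend chk_z12 20 0 12500 50 (v_z12_0_249) r_z12_0_250

theorem r_z12_0_251 : allRange chk_z12 20 12550 50 = true := by decide +kernel
theorem v_z12_0_251 : ∀ k, 0 ≤ k → k < 12600 → chk_z12 (k * 20) = true := between_extend chk_z12 20 0 12550 50 (v_z12_0_250) r_z12_0_251

theorem r_z12_0_252 : allRange chk_z12 20 12600 50 = true := by decide +kernel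
theorem v_z12_0_252 : ∀ k, 0 ≤ k → k < 12650 → chk_z12 (k * 20) = true := between_extend chk_z12 20 0 12600 50 (v_z12_0_251) r_z12_0_252

theorem r_z12_0_253 : allRange chk_z12 20 12650 50 = true := by decide +kernel
theorem v_z12_0_253 : ∀ k, 0 ≤ k → k < 12700 → chk_z12 (k * 20) = true := between_extend chk_z12 20 0 12650 50 (v_z12_0_252) r_z12_0_253

theorem r_z12_0_254 : allRange chk_z12 20 12700 50 = true := by decide +kernel
theorem v_z12_0_254 : ∀ k, 0 ≤ k → k < 12750 → chk_z12 (k * 20) = true := between_extend chk_z12 20 0 12700 50 (v_z12_0_253) r_z12_0_254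

theorem r_z12_0_255 : allRange chk_z12 20 12750 50 = true := by decide +kernel
theorem v_z12_0_255 : ∀ k, 0 ≤ k → k < 12800 → chk_z12 (k * 20) = true := between_extend chk_z12 20 0 12750 50 (v_z12_0_254) r_z12_0_255

theorem r_z12_0_256 : allRange chk_z12 20 12800 50 = true := by decide +kernel
theorem v_z12_0_256 : ∀ k, 0 ≤ k → k < 12850 → chk_z12 (k * 20) = true := between_extend chk_z12 20 0 12800 50 (v_z12_0_255) r_z12_0_256

theorem r_z12_0_257 : allRange chk_z12 20 12850 50 = true := by decide +kernel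
theorem v_z12_0_257 : ∀ k, 0 ≤ k → k < 12900 → chk_z12 (k * 20) = true := between_extend chk_z12 20 0 12850 50 (v_z12_0_256) r_z12_0_257

theorem r_z12_0_258 : allRange chk_z12 20 12900 50 = true := by decide +kernel
theorem v_z12_0_258 : ∀ k, 0 ≤ k → k < 12950 → chk_z12 (k * 20) = true := between_extend chk_z12 20 0 12900 50 (v_z12_0_257) r_z12_0_258

theorem r_z12_0_259 : allRange chk_z12 20 12950 50 = true := by decide +kernel
theorem v_z12_0_259 : ∀ k, 0 ≤ k → k < 13000 → chk_z12 (k * 20) = true := between_extend chk_z12 20 0 12950 50 (v_z12_0_258) r_z12_0_259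

theorem r_z12_0_260 : allRange chk_z12 20 13000 50 = true := by decide +kernel
theorem v_z12_0_260 : ∀ k, 0 ≤ k → k < 13050 → chk_z12 (k * 20) = true := between_extend chk_z12 20 0 13000 50 (v_z12_0_259) r_z12_0_260

theorem r_z12_0_261 : allRange chk_z12 20 13050 50 = true := by decide +kernel
theorem v_z12_0_261 : ∀ k, 0 ≤ k → k < 13100 → chk_z12 (k * 20) = true := between_extend chk_z12 20 0 13050 50 (v_z12_0_260) r_z12_0_261

theorem r_z12_0_262 : allRange chk_z12 20 13100 50 = true := by decide +kernel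
theorem v_z12_0_262 : ∀ k, 0 ≤ k → k < 13150 → chk_z12 (k * 20) = true := between_extend chk_z12 20 0 13100 50 (v_z12_0_261) r_z12_0_262

theorem r_z12_0_263 : allRange chk_z12 20 13150 50 = true := by decide +kernel
theorem v_z12_0_263 : ∀ k, 0 ≤ k → k < 13200 → chk_z12 (k * 20) = true := between_extend chk_z12 20 0 13150 50 (v_z12_0_262) r_z12_0_263

theorem r_z12_0_264 : allRange chk_z12 20 13200 50 = true := by decide +kernel
theorem v_z12_0_264 : ∀ k, 0 ≤ k → k < 13250 → chk_z12 (k * 20) = true := between_extend chk_z12 20 0 13200 50 (v_z12_0_263) r_z12_0_264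

theorem r_z12_0_265 : allRange chk_z12 20 13250 50 = true := by decide +kernel
theorem v_z12_0_265 : ∀ k, 0 ≤ k → k < 13300 → chk_z12 (k * 20) = true := between_extend chk_z12 20 0 13250 50 (v_z12_0_264) r_z12_0_265

theorem r_z12_0_266 : allRange chk_z12 20 13300 50 = true := by decide +kernel
theorem v_z12_0_266 : ∀ k, 0 ≤ k → k < 13350 → chk_z12 (k * 20) = true := between_extend chk_z12 20 0 13300 50 (v_z12_0_265) r_z12_0_266

theorem r_z12_0_267 : allRange chk_z12 20 13350 50 = true := by decide +kernel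
theorem v_z12_0_267 : ∀ k, 0 ≤ k → k < 13400 → chk_z12 (k * 20) = true := between_extend chk_z12 20 0 13350 50 (v_z12_0_266) r_z12_0_267

theorem r_z12_0_268 : allRange chk_z12 20 13400 50 = true := by decide +kernel
theorem v_z12_0_268 : ∀ k, 0 ≤ k → k < 13450 → chk_z12 (k * 20) = true := between_extend chk_z12 20 0 13400 50 (v_z12_0_267) r_z12_0_268

theorem r_z12_0_269 : allRange chk_z12 20 13450 50 = true := by decide +kernel
theorem v_z12_0_269 : ∀ k, 0 ≤ k → k < 13500 → chk_z12 (k * 20) = true := between_extend chk_z12 20 0 13450 50 (v_z12_0_268) r_z12_0_269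

theorem r_z12_0_270 : allRange chk_z12 20 13500 50 = true := by decide +kernel
theorem v_z12_0_270 : ∀ k, 0 ≤ k → k < 13550 → chk_z12 (k * 20) = true := between_extend chk_z12 20 0 13500 50 (v_z12_0_269) r_z12_0_270

theorem r_z12_0_271 : allRange chk_z12 20 13550 50 = true := by decide +kernel
theorem v_z12_0_271 : ∀ k, 0 ≤ k → k < 13600 → chk_z12 (k * 20) = true := between_extend chk_z12 20 0 13550 50 (v_z12_0_270) r_z12_0_271

theorem r_z12_0_272 : allRange chk_z12 20 13600 50 = true := by decide +kernel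
theorem v_z12_0_272 : ∀ k, 0 ≤ k → k < 13650 → chk_z12 (k * 20) = true := between_extend chk_z12 20 0 13600 50 (v_z12_0_271) r_z12_0_272

theorem r_z12_0_273 : allRange chk_z12 20 13650 50 = true := by decide +kernel
theorem v_z12_0_273 : ∀ k, 0 ≤ k → k < 13700 → chk_z12 (k * 20) = true := between_extend chk_z12 20 0 13650 50 (v_z12_0_272) r_z12_0_273

theorem r_z12_0_274 : allRange chk_z12 20 13700 50 = true := by decide +kernel
theorem v_z12_0_274 : ∀ k, 0 ≤ k → k < 13750 → chk_z12 (k * 20) = true := between_extend chk_z12 20 0 13700 50 (v_z12_0_273) r_z12_0_274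

theorem r_z12_0_275 : allRange chk_z12 20 13750 50 = true := by decide +kernel
theorem v_z12_0_275 : ∀ k, 0 ≤ k → k < 13800 → chk_z12 (k * 20) = true := between_extend chk_z12 20 0 13750 50 (v_z12_0_274) r_z12_0_275

theorem r_z12_0_276 : allRange chk_z12 20 13800 50 = true := by decide +kernel
theorem v_z12_0_276 : ∀ k, 0 ≤ k → k < 13850 → chk_z12 (k * 20) = true := between_extend chk_z12 20 0 13800 50 (v_z12_0_275) r_z12_0_276

theorem r_z12_0_277 : allRange chk_z12 20 13850 50 = true := by decide +kernel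
theorem v_z12_0_277 : ∀ k, 0 ≤ k → k < 13900 → chk_z12 (k * 20) = true := between_extend chk_z12 20 0 13850 50 (v_z12_0_276) r_z12_0_277

theorem r_z12_0_278 : allRange chk_z12 20 13900 50 = true := by decide +kernel
theorem v_z12_0_278 : ∀ k, 0 ≤ k → k < 13950 → chk_z12 (k * 20) = true := between_extend chk_z12 20 0 13900 50 (v_z12_0_277) r_z12_0_278

theorem r_z12_0_279 : allRange chk_z12 20 13950 50 = true := by decide +kernel
theorem v_z12_0_279 : ∀ k, 0 ≤ k → k < 14000 → chk_z12 (k * 20) = true := between_extend chk_z12 20 0 13950 50 (v_z12_0_278) r_z12_0_279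

theorem r_z12_0_280 : allRange chk_z12 20 14000 50 = true := by decide +kernel
theorem v_z12_0_280 : ∀ k, 0 ≤ k → k < 14050 → chk_z12 (k * 20) = true := between_extend chk_z12 20 0 14000 50 (v_z12_0_279) r_z12_0_280

theorem r_z12_0_281 : allRange chk_z12 20 14050 50 = true := by decide +kernel
theorem v_z12_0_281 : ∀ k, 0 ≤ k → k < 14100 → chk_z12 (k * 20) = true := between_extend chk_z12 20 0 14050 50 (v_z12_0_280) r_z12_0_281

theorem r_z12_0_282 : allRange chk_z12 20 14100 50 = true := by decide +kernel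
theorem v_z12_0_282 : ∀ k, 0 ≤ k → k < 14150 → chk_z12 (k * 20) = true := between_extend chk_z12 20 0 14100 50 (v_z12_0_281) r_z12_0_282

theorem r_z12_0_283 : allRange chk_z12 20 14150 50 = true := by decide +kernel
theorem v_z12_0_283 : ∀ k, 0 ≤ k → k < 14200 → chk_z12 (k * 20) = true := between_extend chk_z12 20 0 14150 50 (v_z12_0_282) r_z12_0_283

theorem r_z12_0_284 : allRange chk_z12 20 14200 50 = true := by decide +kernel
theorem v_z12_0_284 : ∀ k, 0 ≤ k → k < 14250 → chk_z12 (k * 20) = true := between_extend chk_z12 20 0 14200 50 (v_z12_0_283) r_z12_0_284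

theorem r_z12_0_285 : allRange chk_z12 20 14250 50 = true := by decide +kernel
theorem v_z12_0_285 : ∀ k, 0 ≤ k → k < 14300 → chk_z12 (k * 20) = true := between_extend chk_z12 20 0 14250 50 (v_z12_0_284) r_z12_0_285

theorem r_z12_0_286 : allRange chk_z12 20 14300 50 = true := by decide +kernel
theorem v_z12_0_286 : ∀ k, 0 ≤ k → k < 14350 → chk_z12 (k * 20) = true := between_extend chk_z12 20 0 14300 50 (v_z12_0_285) r_z12_0_286

theorem r_z12_0_287 : allRange chk_z12 20 14350 50 = true := by decide +kernel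
theorem v_z12_0_287 : ∀ k, 0 ≤ k → k < 14400 → chk_z12 (k * 20) = true := between_extend chk_z12 20 0 14350 50 (v_z12_0_286) r_z12_0_287

theorem r_z12_0_288 : allRange chk_z12 20 14400 50 = true := by decide +kernel
theorem v_z12_0_288 : ∀ k, 0 ≤ k → k < 14450 → chk_z12 (k * 20) = true := between_extend chk_z12 20 0 14400 50 (v_z12_0_287) r_z12_0_288

theorem r_z12_0_289 : allRange chk_z12 20 14450 50 = true := by decide +kernel
theorem v_z12_0_289 : ∀ k, 0 ≤ k → k < 14500 → chk_z12 (k * 20) = true := between_extend chk_z12 20 0 14450 50 (v_z12_0_288) r_z12_0_289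

theorem r_z12_0_290 : allRange chk_z12 20 14500 50 = true := by decide +kernel
theorem v_z12_0_290 : ∀ k, 0 ≤ k → k < 14550 → chk_z12 (k * 20) = true := between_extend chk_z12 20 0 14500 50 (v_z12_0_289) r_z12_0_290

theorem r_z12_0_291 : allRange chk_z12 20 14550 50 = true := by decide +kernel
theorem v_z12_0_291 : ∀ k, 0 ≤ k → k < 14600 → chk_z12 (k * 20) = true := between_extend chk_z12 20 0 14550 50 (v_z12_0_290) r_z12_0_291

theorem r_z12_0_292 : allRange chk_z12 20 14600 50 = true := by decide +kernel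
theorem v_z12_0_292 : ∀ k, 0 ≤ k → k < 14650 → chk_z12 (k * 20) = true := between_extend chk_z12 20 0 14600 50 (v_z12_0_291) r_z12_0_292

theorem r_z12_0_293 : allRange chk_z12 20 14650 50 = true := by decide +kernel
theorem v_z12_0_293 : ∀ k, 0 ≤ k → k < 14700 → chk_z12 (k * 20) = true := between_extend chk_z12 20 0 14650 50 (v_z12_0_292) r_z12_0_293

theorem r_z12_0_294 : allRange chk_z12 20 14700 50 = true := by decide +kernel
theorem v_z12_0_294 : ∀ k, 0 ≤ k → k < 14750 → chk_z12 (k * 20) = true := between_extend chk_z12 20 0 14700 50 (v_z12_0_293) r_z12_0_294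

theorem r_z12_0_295 : allRange chk_z12 20 14750 50 = true := by decide +kernel
theorem v_z12_0_295 : ∀ k, 0 ≤ k → k < 14800 → chk_z12 (k * 20) = true := between_extend chk_z12 20 0 14750 50 (v_z12_0_294) r_z12_0_295

theorem r_z12_0_296 : allRange chk_z12 20 14800 50 = true := by decide +kernel
theorem v_z12_0_296 : ∀ k, 0 ≤ k → k < 14850 → chk_z12 (k * 20) = true := between_extend chk_z12 20 0 14800 50 (v_z12_0_295) r_z12_0_296

theorem r_z12_0_297 : allRange chk_z12 20 14850 50 = true := by decide +kernel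
theorem v_z12_0_297 : ∀ k, 0 ≤ k → k < 14900 → chk_z12 (k * 20) = true := between_extend chk_z12 20 0 14850 50 (v_z12_0_296) r_z12_0_297

theorem r_z12_0_298 : allRange chk_z12 20 14900 50 = true := by decide +kernel
theorem v_z12_0_298 : ∀ k, 0 ≤ k → k < 14950 → chk_z12 (k * 20) = true := between_extend chk_z12 20 0 14900 50 (v_z12_0_297) r_z12_0_298

theorem r_z12_0_299 : allRange chk_z12 20 14950 50 = true := by decide +kernel
theorem v_z12_0_299 : ∀ k, 0 ≤ k → k < 15000 → chk_z12 (k * 20) = true := between_extend chk_z12 20 0 14950 50 (v_z12_0_298) r_z12_0_299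

theorem r_z12_0_300 : allRange chk_z12 20 15000 50 = true := by decide +kernel
theorem v_z12_0_300 : ∀ k, 0 ≤ k → k < 15050 → chk_z12 (k * 20) = true := between_extend chk_z12 20 0 15000 50 (v_z12_0_299) r_z12_0_300

theorem r_z12_0_301 : allRange chk_z12 20 15050 50 = true := by decide +kernel
theorem v_z12_0_301 : ∀ k, 0 ≤ k → k < 15100 → chk_z12 (k * 20) = true := between_extend chk_z12 20 0 15050 50 (v_z12_0_300) r_z12_0_301

theorem r_z12_0_302 : allRange chk_z12 20 15100 50 = true := by decide +kernel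
theorem v_z12_0_302 : ∀ k, 0 ≤ k → k < 15150 → chk_z12 (k * 20) = true := between_extend chk_z12 20 0 15100 50 (v_z12_0_301) r_z12_0_302

theorem r_z12_0_303 : allRange chk_z12 20 15150 50 = true := by decide +kernel
theorem v_z12_0_303 : ∀ k, 0 ≤ k → k < 15200 → chk_z12 (k * 20) = true := between_extend chk_z12 20 0 15150 50 (v_z12_0_302) r_z12_0_303

theorem r_z12_0_304 : allRange chk_z12 20 15200 50 = true := by decide +kernel
theorem v_z12_0_304 : ∀ k, 0 ≤ k → k < 15250 → chk_z12 (k * 20) = true := between_extend chk_z12 20 0 15200 50 (v_z12_0_303) r_z12_0_304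

theorem r_z12_0_305 : allRange chk_z12 20 15250 50 = true := by decide +kernel
theorem v_z12_0_305 : ∀ k, 0 ≤ k → k < 15300 → chk_z12 (k * 20) = true := between_extend chk_z12 20 0 15250 50 (v_z12_0_304) r_z12_0_305

theorem r_z12_0_306 : allRange chk_z12 20 15300 50 = true := by decide +kernel
theorem v_z12_0_306 : ∀ k, 0 ≤ k → k < 15350 → chk_z12 (k * 20) = true := between_extend chk_z12 20 0 15300 50 (v_z12_0_305) r_z12_0_306

theorem r_z12_0_307 : allRange chk_z12 20 15350 50 = true := by decide +kernel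
theorem v_z12_0_307 : ∀ k, 0 ≤ k → k < 15400 → chk_z12 (k * 20) = true := between_extend chk_z12 20 0 15350 50 (v_z12_0_306) r_z12_0_307

theorem r_z12_0_308 : allRange chk_z12 20 15400 50 = true := by decide +kernel
theorem v_z12_0_308 : ∀ k, 0 ≤ k → k < 15450 → chk_z12 (k * 20) = true := between_extend chk_z12 20 0 15400 50 (v_z12_0_307) r_z12_0_308

theorem r_z12_0_309 : allRange chk_z12 20 15450 50 = true := by decide +kernel
theorem v_z12_0_309 : ∀ k, 0 ≤ k → k < 15500 → chk_z12 (k * 20) = true := between_extend chk_z12 20 0 15450 50 (v_z12_0_308) r_z12_0_309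

theorem r_z12_0_310 : allRange chk_z12 20 15500 50 = true := by decide +kernel
theorem v_z12_0_310 : ∀ k, 0 ≤ k → k < 15550 → chk_z12 (k * 20) = true := between_extend chk_z12 20 0 15500 50 (v_z12_0_309) r_z12_0_310

theorem r_z12_0_311 : allRange chk_z12 20 15550 50 = true := by decide +kernel
theorem v_z12_0_311 : ∀ k, 0 ≤ k → k < 15600 → chk_z12 (k * 20) = true := between_extend chk_z12 20 0 15550 50 (v_z12_0_310) r_z12_0_311

theorem r_z12_0_312 : allRange chk_z12 20 15600 50 = true := by decide +kernel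
theorem v_z12_0_312 : ∀ k, 0 ≤ k → k < 15650 → chk_z12 (k * 20) = true := between_extend chk_z12 20 0 15600 50 (v_z12_0_311) r_z12_0_312

theorem r_z12_0_313 : allRange chk_z12 20 15650 50 = true := by decide +kernel
theorem v_z12_0_313 : ∀ k, 0 ≤ k → k < 15700 → chk_z12 (k * 20) = true := between_extend chk_z12 20 0 15650 50 (v_z12_0_312) r_z12_0_313

theorem r_z12_0_314 : allRange chk_z12 20 15700 50 = true := by decide +kernel
theorem v_z12_0_314 : ∀ k, 0 ≤ k → k < 15750 → chk_z12 (k * 20) = true := between_extend chk_z12 20 0 15700 50 (v_z12_0_313) r_z12_0_314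

theorem r_z12_0_315 : allRange chk_z12 20 15750 50 = true := by decide +kernel
theorem v_z12_0_315 : ∀ k, 0 ≤ k → k < 15800 → chk_z12 (k * 20) = true := between_extend chk_z12 20 0 15750 50 (v_z12_0_314) r_z12_0_315

theorem r_z12_0_316 : allRange chk_z12 20 15800 36 = true := by decide +kernel
theorem v_z12_0_316 : ∀ k, 0 ≤ k → k < 15836 → chk_z12 (k * 20) = true := between_extend chk_z12 20 0 15800 36 (v_z12_0_315) r_z12_0_316

theorem p_z12_0 : ∀ k, 0 ≤ k → k < 15836 → chk_z12 (k * 20) = true := v_z12_0_316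

end Cfsg.Agent.Lib.Helper28_Y5FiW
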