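import Cfsg.Agent.Lib.Helper28_Y5FiWDef

set_option autoImplicit false
set_option linter.constructorNameAsVariable false
set_option Elab.async false

namespace Cfsg.Agent.Lib.Helper28_Y5FiW

open Cfsg.Agent.Lib.Helper28_CosetPerm

theorem r_zz_1_0 : allRange chk_zz 20 15836 50 = true := by decide +kernel
theorem v_zz_1_0 : ∀ k, 15836 ≤ k → k < 15886 → chk_zz (k * 20) = true := between_extend chk_zz 20 15836 15836 50 (between_start chk_zz 20 15836) r_zz_1_0

theorem r_zz_1_1 : allRange chk_zz 20 15886 50 = true := by decide +kernel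
theorem v_zz_1_1 : ∀ k, 15836 ≤ k → k < 15936 → chk_zz (k * 20) = true := between_extend chk_zz 20 15836 15886 50 (v_zz_1_0) r_zz_1_1

theorem r_zz_1_2 : allRange chk_zz 20 15936 50 = true := by decide +kernel
theorem v_zz_1_2 : ∀ k, 15836 ≤ k → k < 15986 → chk_zz (k * 20) = true := between_extend chk_zz 20 15836 15936 50 (v_zz_1_1) r_zz_1_2

theorem r_zz_1_3 : allRange chk_zz 20 15986 50 = true := by decide +kernel
theorem v_zz_1_3 : ∀ k, 15836 ≤ k → k < 16036 → chk_zz (k * 20) = true := between_extend chk_zz 20 15836 15986 50 (v_zz_1_2) r_zz_1_3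

theorem r_zz_1_4 : allRange chk_zz 20 16036 50 = true := by decide +kernel
theorem v_zz_1_4 : ∀ k, 15836 ≤ k → k < 16086 → chk_zz (k * 20) = true := between_extend chk_zz 20 15836 16036 50 (v_zz_1_3) r_zz_1_4

theorem r_zz_1_5 : allRange chk_zz 20 16086 50 = true := by decide +kernel
theorem v_zz_1_5 : ∀ k, 15836 ≤ k → k < 16136 → chk_zz (k * 20) = true := between_extend chk_zz 20 15836 16086 50 (v_zz_1_4) r_zz_1_5

theorem r_zz_1_6 : allRange chk_zz 20 16136 50 = true := by decide +kernel
theorem v_zz_1_6 : ∀ k, 15836 ≤ k → k < 16186 → chk_zz (k * 20) = true := between_extend chk_zz 20 15836 16136 50 (v_zz_1_5) r_zz_1_6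

theorem r_zz_1_7 : allRange chk_zz 20 16186 50 = true := by decide +kernel
theorem v_zz_1_7 : ∀ k, 15836 ≤ k → k < 16236 → chk_zz (k * 20) = true := between_extend chk_zz 20 15836 16186 50 (v_zz_1_6) r_zz_1_7

theorem r_zz_1_8 : allRange chk_zz 20 16236 50 = true := by decide +kernel
theorem v_zz_1_8 : ∀ k, 15836 ≤ k → k < 16286 → chk_zz (k * 20) = true := between_extend chk_zz 20 15836 16236 50 (v_zz_1_7) r_zz_1_8

theorem r_zz_1_9 : allRange chk_zz 20 16286 50 = true := by decide +kernel
theorem v_zz_1_9 : ∀ k, 15836 ≤ k → k < 16336 → chk_zz (k * 20) = true := between_extend chk_zz 20 15836 16286 50 (v_zz_1_8) r_zz_1_9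

theorem r_zz_1_10 : allRange chk_zz 20 16336 50 = true := by decide +kernel
theorem v_zz_1_10 : ∀ k, 15836 ≤ k → k < 16386 → chk_zz (k * 20) = true := between_extend chk_zz 20 15836 16336 50 (v_zz_1_9) r_zz_1_10

theorem r_zz_1_11 : allRange chk_zz 20 16386 50 = true := by decide +kernel
theorem v_zz_1_11 : ∀ k, 15836 ≤ k → k < 16436 → chk_zz (k * 20) = true := between_extend chk_zz 20 15836 16386 50 (v_zz_1_10) r_zz_1_11

theorem r_zz_1_12 : allRange chk_zz 20 16436 50 = true := by decide +kernel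
theorem v_zz_1_12 : ∀ k, 15836 ≤ k → k < 16486 → chk_zz (k * 20) = true := between_extend chk_zz 20 15836 16436 50 (v_zz_1_11) r_zz_1_12

theorem r_zz_1_13 : allRange chk_zz 20 16486 50 = true := by decide +kernel
theorem v_zz_1_13 : ∀ k, 15836 ≤ k → k < 16536 → chk_zz (k * 20) = true := between_extend chk_zz 20 15836 16486 50 (v_zz_1_12) r_zz_1_13

theorem r_zz_1_14 : allRange chk_zz 20 16536 50 = true := by decide +kernel
theorem v_zz_1_14 : ∀ k, 15836 ≤ k → k < 16586 → chk_zz (k * 20) = true := between_extend chk_zz 20 15836 16536 50 (v_zz_1_13) r_zz_1_14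

theorem r_zz_1_15 : allRange chk_zz 20 16586 50 = true := by decide +kernel
theorem v_zz_1_15 : ∀ k, 15836 ≤ k → k < 16636 → chk_zz (k * 20) = true := between_extend chk_zz 20 15836 16586 50 (v_zz_1_14) r_zz_1_15

theorem r_zz_1_16 : allRange chk_zz 20 16636 50 = true := by decide +kernel
theorem v_zz_1_16 : ∀ k, 15836 ≤ k → k < 16686 → chk_zz (k * 20) = true := between_extend chk_zz 20 15836 16636 50 (v_zz_1_15) r_zz_1_16

theorem r_zz_1_17 : allRange chk_zz 20 16686 50 = true := by decide +kernel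
theorem v_zz_1_17 : ∀ k, 15836 ≤ k → k < 16736 → chk_zz (k * 20) = true := between_extend chk_zz 20 15836 16686 50 (v_zz_1_16) r_zz_1_17

theorem r_zz_1_18 : allRange chk_zz 20 16736 50 = true := by decide +kernel
theorem v_zz_1_18 : ∀ k, 15836 ≤ k → k < 16786 → chk_zz (k * 20) = true := between_extend chk_zz 20 15836 16736 50 (v_zz_1_17) r_zz_1_18

theorem r_zz_1_19 : allRange chk_zz 20 16786 50 = true := by decide +kernel
theorem v_zz_1_19 : ∀ k, 15836 ≤ k → k < 16836 → chk_zz (k * 20) = true := between_extend chk_zz 20 15836 16786 50 (v_zz_1_18) r_zz_1_19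

theorem r_zz_1_20 : allRange chk_zz 20 16836 50 = true := by decide +kernel
theorem v_zz_1_20 : ∀ k, 15836 ≤ k → k < 16886 → chk_zz (k * 20) = true := between_extend chk_zz 20 15836 16836 50 (v_zz_1_19) r_zz_1_20

theorem r_zz_1_21 : allRange chk_zz 20 16886 50 = true := by decide +kernel
theorem v_zz_1_21 : ∀ k, 15836 ≤ k → k < 16936 → chk_zz (k * 20) = true := between_extend chk_zz 20 15836 16886 50 (v_zz_1_20) r_zz_1_21

theorem r_zz_1_22 : allRange chk_zz 20 16936 50 = true := by decide +kernel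
theorem v_zz_1_22 : ∀ k, 15836 ≤ k → k < 16986 → chk_zz (k * 20) = true := between_extend chk_zz 20 15836 16936 50 (v_zz_1_21) r_zz_1_22

theorem r_zz_1_23 : allRange chk_zz 20 16986 50 = true := by decide +kernel
theorem v_zz_1_23 : ∀ k, 15836 ≤ k → k < 17036 → chk_zz (k * 20) = true := between_extend chk_zz 20 15836 16986 50 (v_zz_1_22) r_zz_1_23

theorem r_zz_1_24 : allRange chk_zz 20 17036 50 = true := by decide +kernel
theorem v_zz_1_24 : ∀ k, 15836 ≤ k → k < 17086 → chk_zz (k * 20) = true := between_extend chk_zz 20 15836 17036 50 (v_zz_1_23) r_zz_1_24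

theorem r_zz_1_25 : allRange chk_zz 20 17086 50 = true := by decide +kernel
theorem v_zz_1_25 : ∀ k, 15836 ≤ k → k < 17136 → chk_zz (k * 20) = true := between_extend chk_zz 20 15836 17086 50 (v_zz_1_24) r_zz_1_25

theorem r_zz_1_26 : allRange chk_zz 20 17136 50 = true := by decide +kernel
theorem v_zz_1_26 : ∀ k, 15836 ≤ k → k < 17186 → chk_zz (k * 20) = true := between_extend chk_zz 20 15836 17136 50 (v_zz_1_25) r_zz_1_26

theorem r_zz_1_27 : allRange chk_zz 20 17186 50 = true := by decide +kernel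
theorem v_zz_1_27 : ∀ k, 15836 ≤ k → k < 17236 → chk_zz (k * 20) = true := between_extend chk_zz 20 15836 17186 50 (v_zz_1_26) r_zz_1_27

theorem r_zz_1_28 : allRange chk_zz 20 17236 50 = true := by decide +kernel
theorem v_zz_1_28 : ∀ k, 15836 ≤ k → k < 17286 → chk_zz (k * 20) = true := between_extend chk_zz 20 15836 17236 50 (v_zz_1_27) r_zz_1_28

theorem r_zz_1_29 : allRange chk_zz 20 17286 50 = true := by decide +kernel
theorem v_zz_1_29 : ∀ k, 15836 ≤ k → k < 17336 → chk_zz (k * 20) = true := between_extend chk_zz 20 15836 17286 50 (v_zz_1_28) r_zz_1_29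

theorem r_zz_1_30 : allRange chk_zz 20 17336 50 = true := by decide +kernel
theorem v_zz_1_30 : ∀ k, 15836 ≤ k → k < 17386 → chk_zz (k * 20) = true := between_extend chk_zz 20 15836 17336 50 (v_zz_1_29) r_zz_1_30

theorem r_zz_1_31 : allRange chk_zz 20 17386 50 = true := by decide +kernel
theorem v_zz_1_31 : ∀ k, 15836 ≤ k → k < 17436 → chk_zz (k * 20) = true := between_extend chk_zz 20 15836 17386 50 (v_zz_1_30) r_zz_1_31

theorem r_zz_1_32 : allRange chk_zz 20 17436 50 = true := by decide +kernel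
theorem v_zz_1_32 : ∀ k, 15836 ≤ k → k < 17486 → chk_zz (k * 20) = true := between_extend chk_zz 20 15836 17436 50 (v_zz_1_31) r_zz_1_32

theorem r_zz_1_33 : allRange chk_zz 20 17486 50 = true := by decide +kernel
theorem v_zz_1_33 : ∀ k, 15836 ≤ k → k < 17536 → chk_zz (k * 20) = true := between_extend chk_zz 20 15836 17486 50 (v_zz_1_32) r_zz_1_33

theorem r_zz_1_34 : allRange chk_zz 20 17536 50 = true := by decide +kernel
theorem v_zz_1_34 : ∀ k, 15836 ≤ k → k < 17586 → chk_zz (k * 20) = true := between_extend chk_zz 20 15836 17536 50 (v_zz_1_33) r_zz_1_34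

theorem r_zz_1_35 : allRange chk_zz 20 17586 50 = true := by decide +kernel
theorem v_zz_1_35 : ∀ k, 15836 ≤ k → k < 17636 → chk_zz (k * 20) = true := between_extend chk_zz 20 15836 17586 50 (v_zz_1_34) r_zz_1_35

theorem r_zz_1_36 : allRange chk_zz 20 17636 50 = true := by decide +kernel
theorem v_zz_1_36 : ∀ k, 15836 ≤ k → k < 17686 → chk_zz (k * 20) = true := between_extend chk_zz 20 15836 17636 50 (v_zz_1_35) r_zz_1_36

theorem r_zz_1_37 : allRange chk_zz 20 17686 50 = true := by decide +kernel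
theorem v_zz_1_37 : ∀ k, 15836 ≤ k → k < 17736 → chk_zz (k * 20) = true := between_extend chk_zz 20 15836 17686 50 (v_zz_1_36) r_zz_1_37

theorem r_zz_1_38 : allRange chk_zz 20 17736 50 = true := by decide +kernel
theorem v_zz_1_38 : ∀ k, 15836 ≤ k → k < 17786 → chk_zz (k * 20) = true := between_extend chk_zz 20 15836 17736 50 (v_zz_1_37) r_zz_1_38

theorem r_zz_1_39 : allRange chk_zz 20 17786 50 = true := by decide +kernel
theorem v_zz_1_39 : ∀ k, 15836 ≤ k → k < 17836 → chk_zz (k * 20) = true := between_extend chk_zz 20 15836 17786 50 (v_zz_1_38) r_zz_1_39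

theorem r_zz_1_40 : allRange chk_zz 20 17836 50 = true := by decide +kernel
theorem v_zz_1_40 : ∀ k, 15836 ≤ k → k < 17886 → chk_zz (k * 20) = true := between_extend chk_zz 20 15836 17836 50 (v_zz_1_39) r_zz_1_40

theorem r_zz_1_41 : allRange chk_zz 20 17886 50 = true := by decide +kernel
theorem v_zz_1_41 : ∀ k, 15836 ≤ k → k < 17936 → chk_zz (k * 20) = true := between_extend chk_zz 20 15836 17886 50 (v_zz_1_40) r_zz_1_41

theorem r_zz_1_42 : allRange chk_zz 20 17936 50 = true := by decide +kernel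
theorem v_zz_1_42 : ∀ k, 15836 ≤ k → k < 17986 → chk_zz (k * 20) = true := between_extend chk_zz 20 15836 17936 50 (v_zz_1_41) r_zz_1_42

theorem r_zz_1_43 : allRange chk_zz 20 17986 50 = true := by decide +kernel
theorem v_zz_1_43 : ∀ k, 15836 ≤ k → k < 18036 → chk_zz (k * 20) = true := between_extend chk_zz 20 15836 17986 50 (v_zz_1_42) r_zz_1_43

theorem r_zz_1_44 : allRange chk_zz 20 18036 50 = true := by decide +kernel
theorem v_zz_1_44 : ∀ k, 15836 ≤ k → k < 18086 → chk_zz (k * 20) = true := between_extend chk_zz 20 15836 18036 50 (v_zz_1_43) r_zz_1_44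

theorem r_zz_1_45 : allRange chk_zz 20 18086 50 = true := by decide +kernel
theorem v_zz_1_45 : ∀ k, 15836 ≤ k → k < 18136 → chk_zz (k * 20) = true := between_extend chk_zz 20 15836 18086 50 (v_zz_1_44) r_zz_1_45

theorem r_zz_1_46 : allRange chk_zz 20 18136 50 = true := by decide +kernel
theorem v_zz_1_46 : ∀ k, 15836 ≤ k → k < 18186 → chk_zz (k * 20) = true := between_extend chk_zz 20 15836 18136 50 (v_zz_1_45) r_zz_1_46

theorem r_zz_1_47 : allRange chk_zz 20 18186 50 = true := by decide +kernel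
theorem v_zz_1_47 : ∀ k, 15836 ≤ k → k < 18236 → chk_zz (k * 20) = true := between_extend chk_zz 20 15836 18186 50 (v_zz_1_46) r_zz_1_47

theorem r_zz_1_48 : allRange chk_zz 20 18236 50 = true := by decide +kernel
theorem v_zz_1_48 : ∀ k, 15836 ≤ k → k < 18286 → chk_zz (k * 20) = true := between_extend chk_zz 20 15836 18236 50 (v_zz_1_47) r_zz_1_48

theorem r_zz_1_49 : allRange chk_zz 20 18286 50 = true := by decide +kernel
theorem v_zz_1_49 : ∀ k, 15836 ≤ k → k < 18336 → chk_zz (k * 20) = true := between_extend chk_zz 20 15836 18286 50 (v_zz_1_48) r_zz_1_49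

theorem r_zz_1_50 : allRange chk_zz 20 18336 50 = true := by decide +kernel
theorem v_zz_1_50 : ∀ k, 15836 ≤ k → k < 18386 → chk_zz (k * 20) = true := between_extend chk_zz 20 15836 18336 50 (v_zz_1_49) r_zz_1_50

theorem r_zz_1_51 : allRange chk_zz 20 18386 50 = true := by decide +kernel
theorem v_zz_1_51 : ∀ k, 15836 ≤ k → k < 18436 → chk_zz (k * 20) = true := between_extend chk_zz 20 15836 18386 50 (v_zz_1_50) r_zz_1_51

theorem r_zz_1_52 : allRange chk_zz 20 18436 50 = true := by decide +kernel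
theorem v_zz_1_52 : ∀ k, 15836 ≤ k → k < 18486 → chk_zz (k * 20) = true := between_extend chk_zz 20 15836 18436 50 (v_zz_1_51) r_zz_1_52

theorem r_zz_1_53 : allRange chk_zz 20 18486 50 = true := by decide +kernel
theorem v_zz_1_53 : ∀ k, 15836 ≤ k → k < 18536 → chk_zz (k * 20) = true := between_extend chk_zz 20 15836 18486 50 (v_zz_1_52) r_zz_1_53

theorem r_zz_1_54 : allRange chk_zz 20 18536 50 = true := by decide +kernel
theorem v_zz_1_54 : ∀ k, 15836 ≤ k → k < 18586 → chk_zz (k * 20) = true := between_extend chk_zz 20 15836 18536 50 (v_zz_1_53) r_zz_1_54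

theorem r_zz_1_55 : allRange chk_zz 20 18586 50 = true := by decide +kernel
theorem v_zz_1_55 : ∀ k, 15836 ≤ k → k < 18636 → chk_zz (k * 20) = true := between_extend chk_zz 20 15836 18586 50 (v_zz_1_54) r_zz_1_55

theorem r_zz_1_56 : allRange chk_zz 20 18636 50 = true := by decide +kernel
theorem v_zz_1_56 : ∀ k, 15836 ≤ k → k < 18686 → chk_zz (k * 20) = true := between_extend chk_zz 20 15836 18636 50 (v_zz_1_55) r_zz_1_56

theorem r_zz_1_57 : allRange chk_zz 20 18686 50 = true := by decide +kernel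
theorem v_zz_1_57 : ∀ k, 15836 ≤ k → k < 18736 → chk_zz (k * 20) = true := between_extend chk_zz 20 15836 18686 50 (v_zz_1_56) r_zz_1_57

theorem r_zz_1_58 : allRange chk_zz 20 18736 50 = true := by decide +kernel
theorem v_zz_1_58 : ∀ k, 15836 ≤ k → k < 18786 → chk_zz (k * 20) = true := between_extend chk_zz 20 15836 18736 50 (v_zz_1_57) r_zz_1_58

theorem r_zz_1_59 : allRange chk_zz 20 18786 50 = true := by decide +kernel
theorem v_zz_1_59 : ∀ k, 15836 ≤ k → k < 18836 → chk_zz (k * 20) = true := between_extend chk_zz 20 15836 18786 50 (v_zz_1_58) r_zz_1_59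

theorem r_zz_1_60 : allRange chk_zz 20 18836 50 = true := by decide +kernel
theorem v_zz_1_60 : ∀ k, 15836 ≤ k → k < 18886 → chk_zz (k * 20) = true := between_extend chk_zz 20 15836 18836 50 (v_zz_1_59) r_zz_1_60

theorem r_zz_1_61 : allRange chk_zz 20 18886 50 = true := by decide +kernel
theorem v_zz_1_61 : ∀ k, 15836 ≤ k → k < 18936 → chk_zz (k * 20) = true := between_extend chk_zz 20 15836 18886 50 (v_zz_1_60) r_zz_1_61

theorem r_zz_1_62 : allRange chk_zz 20 18936 50 = true := by decide +kernel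
theorem v_zz_1_62 : ∀ k, 15836 ≤ k → k < 18986 → chk_zz (k * 20) = true := between_extend chk_zz 20 15836 18936 50 (v_zz_1_61) r_zz_1_62

theorem r_zz_1_63 : allRange chk_zz 20 18986 50 = true := by decide +kernel
theorem v_zz_1_63 : ∀ k, 15836 ≤ k → k < 19036 → chk_zz (k * 20) = true := between_extend chk_zz 20 15836 18986 50 (v_zz_1_62) r_zz_1_63

theorem r_zz_1_64 : allRange chk_zz 20 19036 50 = true := by decide +kernel
theorem v_zz_1_64 : ∀ k, 15836 ≤ k → k < 19086 → chk_zz (k * 20) = true := between_extend chk_zz 20 15836 19036 50 (v_zz_1_63) r_zz_1_64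

theorem r_zz_1_65 : allRange chk_zz 20 19086 50 = true := by decide +kernel
theorem v_zz_1_65 : ∀ k, 15836 ≤ k → k < 19136 → chk_zz (k * 20) = true := between_extend chk_zz 20 15836 19086 50 (v_zz_1_64) r_zz_1_65

theorem r_zz_1_66 : allRange chk_zz 20 19136 50 = true := by decide +kernel
theorem v_zz_1_66 : ∀ k, 15836 ≤ k → k < 19186 → chk_zz (k * 20) = true := between_extend chk_zz 20 15836 19136 50 (v_zz_1_65) r_zz_1_66

theorem r_zz_1_67 : allRange chk_zz 20 19186 50 = true := by decide +kernel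
theorem v_zz_1_67 : ∀ k, 15836 ≤ k → k < 19236 → chk_zz (k * 20) = true := between_extend chk_zz 20 15836 19186 50 (v_zz_1_66) r_zz_1_67

theorem r_zz_1_68 : allRange chk_zz 20 19236 50 = true := by decide +kernel
theorem v_zz_1_68 : ∀ k, 15836 ≤ k → k < 19286 → chk_zz (k * 20) = true := between_extend chk_zz 20 15836 19236 50 (v_zz_1_67) r_zz_1_68

theorem r_zz_1_69 : allRange chk_zz 20 19286 50 = true := by decide +kernel
theorem v_zz_1_69 : ∀ k, 15836 ≤ k → k < 19336 → chk_zz (k * 20) = true := between_extend chk_zz 20 15836 19286 50 (v_zz_1_68) r_zz_1_69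

theorem r_zz_1_70 : allRange chk_zz 20 19336 50 = true := by decide +kernel
theorem v_zz_1_70 : ∀ k, 15836 ≤ k → k < 19386 → chk_zz (k * 20) = true := between_extend chk_zz 20 15836 19336 50 (v_zz_1_69) r_zz_1_70

theorem r_zz_1_71 : allRange chk_zz 20 19386 50 = true := by decide +kernel
theorem v_zz_1_71 : ∀ k, 15836 ≤ k → k < 19436 → chk_zz (k * 20) = true := between_extend chk_zz 20 15836 19386 50 (v_zz_1_70) r_zz_1_71

theorem r_zz_1_72 : allRange chk_zz 20 19436 50 = true := by decide +kernel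
theorem v_zz_1_72 : ∀ k, 15836 ≤ k → k < 19486 → chk_zz (k * 20) = true := between_extend chk_zz 20 15836 19436 50 (v_zz_1_71) r_zz_1_72

theorem r_zz_1_73 : allRange chk_zz 20 19486 50 = true := by decide +kernel
theorem v_zz_1_73 : ∀ k, 15836 ≤ k → k < 19536 → chk_zz (k * 20) = true := between_extend chk_zz 20 15836 19486 50 (v_zz_1_72) r_zz_1_73

theorem r_zz_1_74 : allRange chk_zz 20 19536 50 = true := by decide +kernel
theorem v_zz_1_74 : ∀ k, 15836 ≤ k → k < 19586 → chk_zz (k * 20) = true := between_extend chk_zz 20 15836 19536 50 (v_zz_1_73) r_zz_1_74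

theorem r_zz_1_75 : allRange chk_zz 20 19586 50 = true := by decide +kernel
theorem v_zz_1_75 : ∀ k, 15836 ≤ k → k < 19636 → chk_zz (k * 20) = true := between_extend chk_zz 20 15836 19586 50 (v_zz_1_74) r_zz_1_75

theorem r_zz_1_76 : allRange chk_zz 20 19636 50 = true := by decide +kernel
theorem v_zz_1_76 : ∀ k, 15836 ≤ k → k < 19686 → chk_zz (k * 20) = true := between_extend chk_zz 20 15836 19636 50 (v_zz_1_75) r_zz_1_76

theorem r_zz_1_77 : allRange chk_zz 20 19686 50 = true := by decide +kernel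
theorem v_zz_1_77 : ∀ k, 15836 ≤ k → k < 19736 → chk_zz (k * 20) = true := between_extend chk_zz 20 15836 19686 50 (v_zz_1_76) r_zz_1_77

theorem r_zz_1_78 : allRange chk_zz 20 19736 50 = true := by decide +kernel
theorem v_zz_1_78 : ∀ k, 15836 ≤ k → k < 19786 → chk_zz (k * 20) = true := between_extend chk_zz 20 15836 19736 50 (v_zz_1_77) r_zz_1_78

theorem r_zz_1_79 : allRange chk_zz 20 19786 50 = true := by decide +kernel
theorem v_zz_1_79 : ∀ k, 15836 ≤ k → k < 19836 → chk_zz (k * 20) = true := between_extend chk_zz 20 15836 19786 50 (v_zz_1_78) r_zz_1_79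

theorem r_zz_1_80 : allRange chk_zz 20 19836 50 = true := by decide +kernel
theorem v_zz_1_80 : ∀ k, 15836 ≤ k → k < 19886 → chk_zz (k * 20) = true := between_extend chk_zz 20 15836 19836 50 (v_zz_1_79) r_zz_1_80

theorem r_zz_1_81 : allRange chk_zz 20 19886 50 = true := by decide +kernel
theorem v_zz_1_81 : ∀ k, 15836 ≤ k → k < 19936 → chk_zz (k * 20) = true := between_extend chk_zz 20 15836 19886 50 (v_zz_1_80) r_zz_1_81

theorem r_zz_1_82 : allRange chk_zz 20 19936 50 = true := by decide +kernel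
theorem v_zz_1_82 : ∀ k, 15836 ≤ k → k < 19986 → chk_zz (k * 20) = true := between_extend chk_zz 20 15836 19936 50 (v_zz_1_81) r_zz_1_82

theorem r_zz_1_83 : allRange chk_zz 20 19986 50 = true := by decide +kernel
theorem v_zz_1_83 : ∀ k, 15836 ≤ k → k < 20036 → chk_zz (k * 20) = true := between_extend chk_zz 20 15836 19986 50 (v_zz_1_82) r_zz_1_83

theorem r_zz_1_84 : allRange chk_zz 20 20036 50 = true := by decide +kernel
theorem v_zz_1_84 : ∀ k, 15836 ≤ k → k < 20086 → chk_zz (k * 20) = true := between_extend chk_zz 20 15836 20036 50 (v_zz_1_83) r_zz_1_84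

theorem r_zz_1_85 : allRange chk_zz 20 20086 50 = true := by decide +kernel
theorem v_zz_1_85 : ∀ k, 15836 ≤ k → k < 20136 → chk_zz (k * 20) = true := between_extend chk_zz 20 15836 20086 50 (v_zz_1_84) r_zz_1_85

theorem r_zz_1_86 : allRange chk_zz 20 20136 50 = true := by decide +kernel
theorem v_zz_1_86 : ∀ k, 15836 ≤ k → k < 20186 → chk_zz (k * 20) = true := between_extend chk_zz 20 15836 20136 50 (v_zz_1_85) r_zz_1_86

theorem r_zz_1_87 : allRange chk_zz 20 20186 50 = true := by decide +kernel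
theorem v_zz_1_87 : ∀ k, 15836 ≤ k → k < 20236 → chk_zz (k * 20) = true := between_extend chk_zz 20 15836 20186 50 (v_zz_1_86) r_zz_1_87

theorem r_zz_1_88 : allRange chk_zz 20 20236 50 = true := by decide +kernel
theorem v_zz_1_88 : ∀ k, 15836 ≤ k → k < 20286 → chk_zz (k * 20) = true := between_extend chk_zz 20 15836 20236 50 (v_zz_1_87) r_zz_1_88

theorem r_zz_1_89 : allRange chk_zz 20 20286 50 = true := by decide +kernel
theorem v_zz_1_89 : ∀ k, 15836 ≤ k → k < 20336 → chk_zz (k * 20) = true := between_extend chk_zz 20 15836 20286 50 (v_zz_1_88) r_zz_1_89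

theorem r_zz_1_90 : allRange chk_zz 20 20336 50 = true := by decide +kernel
theorem v_zz_1_90 : ∀ k, 15836 ≤ k → k < 20386 → chk_zz (k * 20) = true := between_extend chk_zz 20 15836 20336 50 (v_zz_1_89) r_zz_1_90

theorem r_zz_1_91 : allRange chk_zz 20 20386 50 = true := by decide +kernel
theorem v_zz_1_91 : ∀ k, 15836 ≤ k → k < 20436 → chk_zz (k * 20) = true := between_extend chk_zz 20 15836 20386 50 (v_zz_1_90) r_zz_1_91

theorem r_zz_1_92 : allRange chk_zz 20 20436 50 = true := by decide +kernel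
theorem v_zz_1_92 : ∀ k, 15836 ≤ k → k < 20486 → chk_zz (k * 20) = true := between_extend chk_zz 20 15836 20436 50 (v_zz_1_91) r_zz_1_92

theorem r_zz_1_93 : allRange chk_zz 20 20486 50 = true := by decide +kernel
theorem v_zz_1_93 : ∀ k, 15836 ≤ k → k < 20536 → chk_zz (k * 20) = true := between_extend chk_zz 20 15836 20486 50 (v_zz_1_92) r_zz_1_93

theorem r_zz_1_94 : allRange chk_zz 20 20536 50 = true := by decide +kernel
theorem v_zz_1_94 : ∀ k, 15836 ≤ k → k < 20586 → chk_zz (k * 20) = true := between_extend chk_zz 20 15836 20536 50 (v_zz_1_93) r_zz_1_94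

theorem r_zz_1_95 : allRange chk_zz 20 20586 50 = true := by decide +kernel
theorem v_zz_1_95 : ∀ k, 15836 ≤ k → k < 20636 → chk_zz (k * 20) = true := between_extend chk_zz 20 15836 20586 50 (v_zz_1_94) r_zz_1_95

theorem r_zz_1_96 : allRange chk_zz 20 20636 50 = true := by decide +kernel
theorem v_zz_1_96 : ∀ k, 15836 ≤ k → k < 20686 → chk_zz (k * 20) = true := between_extend chk_zz 20 15836 20636 50 (v_zz_1_95) r_zz_1_96

theorem r_zz_1_97 : allRange chk_zz 20 20686 50 = true := by decide +kernel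
theorem v_zz_1_97 : ∀ k, 15836 ≤ k → k < 20736 → chk_zz (k * 20) = true := between_extend chk_zz 20 15836 20686 50 (v_zz_1_96) r_zz_1_97

theorem r_zz_1_98 : allRange chk_zz 20 20736 50 = true := by decide +kernel
theorem v_zz_1_98 : ∀ k, 15836 ≤ k → k < 20786 → chk_zz (k * 20) = true := between_extend chk_zz 20 15836 20736 50 (v_zz_1_97) r_zz_1_98

theorem r_zz_1_99 : allRange chk_zz 20 20786 50 = true := by decide +kernel
theorem v_zz_1_99 : ∀ k, 15836 ≤ k → k < 20836 → chk_zz (k * 20) = true := between_extend chk_zz 20 15836 20786 50 (v_zz_1_98) r_zz_1_99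

theorem r_zz_1_100 : allRange chk_zz 20 20836 50 = true := by decide +kernel
theorem v_zz_1_100 : ∀ k, 15836 ≤ k → k < 20886 → chk_zz (k * 20) = true := between_extend chk_zz 20 15836 20836 50 (v_zz_1_99) r_zz_1_100

theorem r_zz_1_101 : allRange chk_zz 20 20886 50 = true := by decide +kernel
theorem v_zz_1_101 : ∀ k, 15836 ≤ k → k < 20936 → chk_zz (k * 20) = true := between_extend chk_zz 20 15836 20886 50 (v_zz_1_100) r_zz_1_101

theorem r_zz_1_102 : allRange chk_zz 20 20936 50 = true := by decide +kernel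
theorem v_zz_1_102 : ∀ k, 15836 ≤ k → k < 20986 → chk_zz (k * 20) = true := between_extend chk_zz 20 15836 20936 50 (v_zz_1_101) r_zz_1_102

theorem r_zz_1_103 : allRange chk_zz 20 20986 50 = true := by decide +kernel
theorem v_zz_1_103 : ∀ k, 15836 ≤ k → k < 21036 → chk_zz (k * 20) = true := between_extend chk_zz 20 15836 20986 50 (v_zz_1_102) r_zz_1_103

theorem r_zz_1_104 : allRange chk_zz 20 21036 50 = true := by decide +kernel
theorem v_zz_1_104 : ∀ k, 15836 ≤ k → k < 21086 → chk_zz (k * 20) = true := between_extend chk_zz 20 15836 21036 50 (v_zz_1_103) r_zz_1_104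

theorem r_zz_1_105 : allRange chk_zz 20 21086 50 = true := by decide +kernel
theorem v_zz_1_105 : ∀ k, 15836 ≤ k → k < 21136 → chk_zz (k * 20) = true := between_extend chk_zz 20 15836 21086 50 (v_zz_1_104) r_zz_1_105

theorem r_zz_1_106 : allRange chk_zz 20 21136 50 = true := by decide +kernel
theorem v_zz_1_106 : ∀ k, 15836 ≤ k → k < 21186 → chk_zz (k * 20) = true := between_extend chk_zz 20 15836 21136 50 (v_zz_1_105) r_zz_1_106

theorem r_zz_1_107 : allRange chk_zz 20 21186 50 = true := by decide +kernel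
theorem v_zz_1_107 : ∀ k, 15836 ≤ k → k < 21236 → chk_zz (k * 20) = true := between_extend chk_zz 20 15836 21186 50 (v_zz_1_106) r_zz_1_107

theorem r_zz_1_108 : allRange chk_zz 20 21236 50 = true := by decide +kernel
theorem v_zz_1_108 : ∀ k, 15836 ≤ k → k < 21286 → chk_zz (k * 20) = true := between_extend chk_zz 20 15836 21236 50 (v_zz_1_107) r_zz_1_108

theorem r_zz_1_109 : allRange chk_zz 20 21286 50 = true := by decide +kernel
theorem v_zz_1_109 : ∀ k, 15836 ≤ k → k < 21336 → chk_zz (k * 20) = true := between_extend chk_zz 20 15836 21286 50 (v_zz_1_108) r_zz_1_109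

theorem r_zz_1_110 : allRange chk_zz 20 21336 50 = true := by decide +kernel
theorem v_zz_1_110 : ∀ k, 15836 ≤ k → k < 21386 → chk_zz (k * 20) = true := between_extend chk_zz 20 15836 21336 50 (v_zz_1_109) r_zz_1_110

theorem r_zz_1_111 : allRange chk_zz 20 21386 50 = true := by decide +kernel
theorem v_zz_1_111 : ∀ k, 15836 ≤ k → k < 21436 → chk_zz (k * 20) = true := between_extend chk_zz 20 15836 21386 50 (v_zz_1_110) r_zz_1_111

theorem r_zz_1_112 : allRange chk_zz 20 21436 50 = true := by decide +kernel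
theorem v_zz_1_112 : ∀ k, 15836 ≤ k → k < 21486 → chk_zz (k * 20) = true := between_extend chk_zz 20 15836 21436 50 (v_zz_1_111) r_zz_1_112

theorem r_zz_1_113 : allRange chk_zz 20 21486 50 = true := by decide +kernel
theorem v_zz_1_113 : ∀ k, 15836 ≤ k → k < 21536 → chk_zz (k * 20) = true := between_extend chk_zz 20 15836 21486 50 (v_zz_1_112) r_zz_1_113

theorem r_zz_1_114 : allRange chk_zz 20 21536 50 = true := by decide +kernel
theorem v_zz_1_114 : ∀ k, 15836 ≤ k → k < 21586 → chk_zz (k * 20) = true := between_extend chk_zz 20 15836 21536 50 (v_zz_1_113) r_zz_1_114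

theorem r_zz_1_115 : allRange chk_zz 20 21586 50 = true := by decide +kernel
theorem v_zz_1_115 : ∀ k, 15836 ≤ k → k < 21636 → chk_zz (k * 20) = true := between_extend chk_zz 20 15836 21586 50 (v_zz_1_114) r_zz_1_115

theorem r_zz_1_116 : allRange chk_zz 20 21636 50 = true := by decide +kernel
theorem v_zz_1_116 : ∀ k, 15836 ≤ k → k < 21686 → chk_zz (k * 20) = true := between_extend chk_zz 20 15836 21636 50 (v_zz_1_115) r_zz_1_116

theorem r_zz_1_117 : allRange chk_zz 20 21686 50 = true := by decide +kernel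
theorem v_zz_1_117 : ∀ k, 15836 ≤ k → k < 21736 → chk_zz (k * 20) = true := between_extend chk_zz 20 15836 21686 50 (v_zz_1_116) r_zz_1_117

theorem r_zz_1_118 : allRange chk_zz 20 21736 50 = true := by decide +kernel
theorem v_zz_1_118 : ∀ k, 15836 ≤ k → k < 21786 → chk_zz (k * 20) = true := between_extend chk_zz 20 15836 21736 50 (v_zz_1_117) r_zz_1_118

theorem r_zz_1_119 : allRange chk_zz 20 21786 50 = true := by decide +kernel
theorem v_zz_1_119 : ∀ k, 15836 ≤ k → k < 21836 → chk_zz (k * 20) = true := between_extend chk_zz 20 15836 21786 50 (v_zz_1_118) r_zz_1_119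

theorem r_zz_1_120 : allRange chk_zz 20 21836 50 = true := by decide +kernel
theorem v_zz_1_120 : ∀ k, 15836 ≤ k → k < 21886 → chk_zz (k * 20) = true := between_extend chk_zz 20 15836 21836 50 (v_zz_1_119) r_zz_1_120

theorem r_zz_1_121 : allRange chk_zz 20 21886 50 = true := by decide +kernel
theorem v_zz_1_121 : ∀ k, 15836 ≤ k → k < 21936 → chk_zz (k * 20) = true := between_extend chk_zz 20 15836 21886 50 (v_zz_1_120) r_zz_1_121

theorem r_zz_1_122 : allRange chk_zz 20 21936 50 = true := by decide +kernel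
theorem v_zz_1_122 : ∀ k, 15836 ≤ k → k < 21986 → chk_zz (k * 20) = true := between_extend chk_zz 20 15836 21936 50 (v_zz_1_121) r_zz_1_122

theorem r_zz_1_123 : allRange chk_zz 20 21986 50 = true := by decide +kernel
theorem v_zz_1_123 : ∀ k, 15836 ≤ k → k < 22036 → chk_zz (k * 20) = true := between_extend chk_zz 20 15836 21986 50 (v_zz_1_122) r_zz_1_123

theorem r_zz_1_124 : allRange chk_zz 20 22036 50 = true := by decide +kernel
theorem v_zz_1_124 : ∀ k, 15836 ≤ k → k < 22086 → chk_zz (k * 20) = true := between_extend chk_zz 20 15836 22036 50 (v_zz_1_123) r_zz_1_124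

theorem r_zz_1_125 : allRange chk_zz 20 22086 50 = true := by decide +kernel
theorem v_zz_1_125 : ∀ k, 15836 ≤ k → k < 22136 → chk_zz (k * 20) = true := between_extend chk_zz 20 15836 22086 50 (v_zz_1_124) r_zz_1_125

theorem r_zz_1_126 : allRange chk_zz 20 22136 50 = true := by decide +kernel
theorem v_zz_1_126 : ∀ k, 15836 ≤ k → k < 22186 → chk_zz (k * 20) = true := between_extend chk_zz 20 15836 22136 50 (v_zz_1_125) r_zz_1_126

theorem r_zz_1_127 : allRange chk_zz 20 22186 50 = true := by decide +kernel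
theorem v_zz_1_127 : ∀ k, 15836 ≤ k → k < 22236 → chk_zz (k * 20) = true := between_extend chk_zz 20 15836 22186 50 (v_zz_1_126) r_zz_1_127

theorem r_zz_1_128 : allRange chk_zz 20 22236 50 = true := by decide +kernel
theorem v_zz_1_128 : ∀ k, 15836 ≤ k → k < 22286 → chk_zz (k * 20) = true := between_extend chk_zz 20 15836 22236 50 (v_zz_1_127) r_zz_1_128

theorem r_zz_1_129 : allRange chk_zz 20 22286 50 = true := by decide +kernel
theorem v_zz_1_129 : ∀ k, 15836 ≤ k → k < 22336 → chk_zz (k * 20) = true := between_extend chk_zz 20 15836 22286 50 (v_zz_1_128) r_zz_1_129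

theorem r_zz_1_130 : allRange chk_zz 20 22336 50 = true := by decide +kernel
theorem v_zz_1_130 : ∀ k, 15836 ≤ k → k < 22386 → chk_zz (k * 20) = true := between_extend chk_zz 20 15836 22336 50 (v_zz_1_129) r_zz_1_130

theorem r_zz_1_131 : allRange chk_zz 20 22386 50 = true := by decide +kernel
theorem v_zz_1_131 : ∀ k, 15836 ≤ k → k < 22436 → chk_zz (k * 20) = true := between_extend chk_zz 20 15836 22386 50 (v_zz_1_130) r_zz_1_131

theorem r_zz_1_132 : allRange chk_zz 20 22436 50 = true := by decide +kernel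
theorem v_zz_1_132 : ∀ k, 15836 ≤ k → k < 22486 → chk_zz (k * 20) = true := between_extend chk_zz 20 15836 22436 50 (v_zz_1_131) r_zz_1_132

theorem r_zz_1_133 : allRange chk_zz 20 22486 50 = true := by decide +kernel
theorem v_zz_1_133 : ∀ k, 15836 ≤ k → k < 22536 → chk_zz (k * 20) = true := between_extend chk_zz 20 15836 22486 50 (v_zz_1_132) r_zz_1_133

theorem r_zz_1_134 : allRange chk_zz 20 22536 50 = true := by decide +kernel
theorem v_zz_1_134 : ∀ k, 15836 ≤ k → k < 22586 → chk_zz (k * 20) = true := between_extend chk_zz 20 15836 22536 50 (v_zz_1_133) r_zz_1_134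

theorem r_zz_1_135 : allRange chk_zz 20 22586 50 = true := by decide +kernel
theorem v_zz_1_135 : ∀ k, 15836 ≤ k → k < 22636 → chk_zz (k * 20) = true := between_extend chk_zz 20 15836 22586 50 (v_zz_1_134) r_zz_1_135

theorem r_zz_1_136 : allRange chk_zz 20 22636 50 = true := by decide +kernel
theorem v_zz_1_136 : ∀ k, 15836 ≤ k → k < 22686 → chk_zz (k * 20) = true := between_extend chk_zz 20 15836 22636 50 (v_zz_1_135) r_zz_1_136

theorem r_zz_1_137 : allRange chk_zz 20 22686 50 = true := by decide +kernel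
theorem v_zz_1_137 : ∀ k, 15836 ≤ k → k < 22736 → chk_zz (k * 20) = true := between_extend chk_zz 20 15836 22686 50 (v_zz_1_136) r_zz_1_137

theorem r_zz_1_138 : allRange chk_zz 20 22736 50 = true := by decide +kernel
theorem v_zz_1_138 : ∀ k, 15836 ≤ k → k < 22786 → chk_zz (k * 20) = true := between_extend chk_zz 20 15836 22736 50 (v_zz_1_137) r_zz_1_138

theorem r_zz_1_139 : allRange chk_zz 20 22786 50 = true := by decide +kernel
theorem v_zz_1_139 : ∀ k, 15836 ≤ k → k < 22836 → chk_zz (k * 20) = true := between_extend chk_zz 20 15836 22786 50 (v_zz_1_138) r_zz_1_139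

theorem r_zz_1_140 : allRange chk_zz 20 22836 50 = true := by decide +kernel
theorem v_zz_1_140 : ∀ k, 15836 ≤ k → k < 22886 → chk_zz (k * 20) = true := between_extend chk_zz 20 15836 22836 50 (v_zz_1_139) r_zz_1_140

theorem r_zz_1_141 : allRange chk_zz 20 22886 50 = true := by decide +kernel
theorem v_zz_1_141 : ∀ k, 15836 ≤ k → k < 22936 → chk_zz (k * 20) = true := between_extend chk_zz 20 15836 22886 50 (v_zz_1_140) r_zz_1_141

theorem r_zz_1_142 : allRange chk_zz 20 22936 50 = true := by decide +kernel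
theorem v_zz_1_142 : ∀ k, 15836 ≤ k → k < 22986 → chk_zz (k * 20) = true := between_extend chk_zz 20 15836 22936 50 (v_zz_1_141) r_zz_1_142

theorem r_zz_1_143 : allRange chk_zz 20 22986 50 = true := by decide +kernel
theorem v_zz_1_143 : ∀ k, 15836 ≤ k → k < 23036 → chk_zz (k * 20) = true := between_extend chk_zz 20 15836 22986 50 (v_zz_1_142) r_zz_1_143

theorem r_zz_1_144 : allRange chk_zz 20 23036 50 = true := by decide +kernel
theorem v_zz_1_144 : ∀ k, 15836 ≤ k → k < 23086 → chk_zz (k * 20) = true := between_extend chk_zz 20 15836 23036 50 (v_zz_1_143) r_zz_1_144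

theorem r_zz_1_145 : allRange chk_zz 20 23086 50 = true := by decide +kernel
theorem v_zz_1_145 : ∀ k, 15836 ≤ k → k < 23136 → chk_zz (k * 20) = true := between_extend chk_zz 20 15836 23086 50 (v_zz_1_144) r_zz_1_145

theorem r_zz_1_146 : allRange chk_zz 20 23136 50 = true := by decide +kernel
theorem v_zz_1_146 : ∀ k, 15836 ≤ k → k < 23186 → chk_zz (k * 20) = true := between_extend chk_zz 20 15836 23136 50 (v_zz_1_145) r_zz_1_146

theorem r_zz_1_147 : allRange chk_zz 20 23186 50 = true := by decide +kernel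
theorem v_zz_1_147 : ∀ k, 15836 ≤ k → k < 23236 → chk_zz (k * 20) = true := between_extend chk_zz 20 15836 23186 50 (v_zz_1_146) r_zz_1_147

theorem r_zz_1_148 : allRange chk_zz 20 23236 50 = true := by decide +kernel
theorem v_zz_1_148 : ∀ k, 15836 ≤ k → k < 23286 → chk_zz (k * 20) = true := between_extend chk_zz 20 15836 23236 50 (v_zz_1_147) r_zz_1_148

theorem r_zz_1_149 : allRange chk_zz 20 23286 50 = true := by decide +kernel
theorem v_zz_1_149 : ∀ k, 15836 ≤ k → k < 23336 → chk_zz (k * 20) = true := between_extend chk_zz 20 15836 23286 50 (v_zz_1_148) r_zz_1_149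

theorem r_zz_1_150 : allRange chk_zz 20 23336 50 = true := by decide +kernel
theorem v_zz_1_150 : ∀ k, 15836 ≤ k → k < 23386 → chk_zz (k * 20) = true := between_extend chk_zz 20 15836 23336 50 (v_zz_1_149) r_zz_1_150

theorem r_zz_1_151 : allRange chk_zz 20 23386 50 = true := by decide +kernel
theorem v_zz_1_151 : ∀ k, 15836 ≤ k → k < 23436 → chk_zz (k * 20) = true := between_extend chk_zz 20 15836 23386 50 (v_zz_1_150) r_zz_1_151

theorem r_zz_1_152 : allRange chk_zz 20 23436 50 = true := by decide +kernel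
theorem v_zz_1_152 : ∀ k, 15836 ≤ k → k < 23486 → chk_zz (k * 20) = true := between_extend chk_zz 20 15836 23436 50 (v_zz_1_151) r_zz_1_152

theorem r_zz_1_153 : allRange chk_zz 20 23486 50 = true := by decide +kernel
theorem v_zz_1_153 : ∀ k, 15836 ≤ k → k < 23536 → chk_zz (k * 20) = true := between_extend chk_zz 20 15836 23486 50 (v_zz_1_152) r_zz_1_153

theorem r_zz_1_154 : allRange chk_zz 20 23536 50 = true := by decide +kernel
theorem v_zz_1_154 : ∀ k, 15836 ≤ k → k < 23586 → chk_zz (k * 20) = true := between_extend chk_zz 20 15836 23536 50 (v_zz_1_153) r_zz_1_154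

theorem r_zz_1_155 : allRange chk_zz 20 23586 50 = true := by decide +kernel
theorem v_zz_1_155 : ∀ k, 15836 ≤ k → k < 23636 → chk_zz (k * 20) = true := between_extend chk_zz 20 15836 23586 50 (v_zz_1_154) r_zz_1_155

theorem r_zz_1_156 : allRange chk_zz 20 23636 50 = true := by decide +kernel
theorem v_zz_1_156 : ∀ k, 15836 ≤ k → k < 23686 → chk_zz (k * 20) = true := between_extend chk_zz 20 15836 23636 50 (v_zz_1_155) r_zz_1_156

theorem r_zz_1_157 : allRange chk_zz 20 23686 50 = true := by decide +kernel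
theorem v_zz_1_157 : ∀ k, 15836 ≤ k → k < 23736 → chk_zz (k * 20) = true := between_extend chk_zz 20 15836 23686 50 (v_zz_1_156) r_zz_1_157

theorem r_zz_1_158 : allRange chk_zz 20 23736 50 = true := by decide +kernel
theorem v_zz_1_158 : ∀ k, 15836 ≤ k → k < 23786 → chk_zz (k * 20) = true := between_extend chk_zz 20 15836 23736 50 (v_zz_1_157) r_zz_1_158

theorem r_zz_1_159 : allRange chk_zz 20 23786 50 = true := by decide +kernel
theorem v_zz_1_159 : ∀ k, 15836 ≤ k → k < 23836 → chk_zz (k * 20) = true := between_extend chk_zz 20 15836 23786 50 (v_zz_1_158) r_zz_1_159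

theorem r_zz_1_160 : allRange chk_zz 20 23836 50 = true := by decide +kernel
theorem v_zz_1_160 : ∀ k, 15836 ≤ k → k < 23886 → chk_zz (k * 20) = true := between_extend chk_zz 20 15836 23836 50 (v_zz_1_159) r_zz_1_160

theorem r_zz_1_161 : allRange chk_zz 20 23886 50 = true := by decide +kernel
theorem v_zz_1_161 : ∀ k, 15836 ≤ k → k < 23936 → chk_zz (k * 20) = true := between_extend chk_zz 20 15836 23886 50 (v_zz_1_160) r_zz_1_161

theorem r_zz_1_162 : allRange chk_zz 20 23936 50 = true := by decide +kernel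
theorem v_zz_1_162 : ∀ k, 15836 ≤ k → k < 23986 → chk_zz (k * 20) = true := between_extend chk_zz 20 15836 23936 50 (v_zz_1_161) r_zz_1_162

theorem r_zz_1_163 : allRange chk_zz 20 23986 50 = true := by decide +kernel
theorem v_zz_1_163 : ∀ k, 15836 ≤ k → k < 24036 → chk_zz (k * 20) = true := between_extend chk_zz 20 15836 23986 50 (v_zz_1_162) r_zz_1_163

theorem r_zz_1_164 : allRange chk_zz 20 24036 50 = true := by decide +kernel
theorem v_zz_1_164 : ∀ k, 15836 ≤ k → k < 24086 → chk_zz (k * 20) = true := between_extend chk_zz 20 15836 24036 50 (v_zz_1_163) r_zz_1_164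

theorem r_zz_1_165 : allRange chk_zz 20 24086 50 = true := by decide +kernel
theorem v_zz_1_165 : ∀ k, 15836 ≤ k → k < 24136 → chk_zz (k * 20) = true := between_extend chk_zz 20 15836 24086 50 (v_zz_1_164) r_zz_1_165

theorem r_zz_1_166 : allRange chk_zz 20 24136 50 = true := by decide +kernel
theorem v_zz_1_166 : ∀ k, 15836 ≤ k → k < 24186 → chk_zz (k * 20) = true := between_extend chk_zz 20 15836 24136 50 (v_zz_1_165) r_zz_1_166

theorem r_zz_1_167 : allRange chk_zz 20 24186 50 = true := by decide +kernel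
theorem v_zz_1_167 : ∀ k, 15836 ≤ k → k < 24236 → chk_zz (k * 20) = true := between_extend chk_zz 20 15836 24186 50 (v_zz_1_166) r_zz_1_167

theorem r_zz_1_168 : allRange chk_zz 20 24236 50 = true := by decide +kernel
theorem v_zz_1_168 : ∀ k, 15836 ≤ k → k < 24286 → chk_zz (k * 20) = true := between_extend chk_zz 20 15836 24236 50 (v_zz_1_167) r_zz_1_168

theorem r_zz_1_169 : allRange chk_zz 20 24286 50 = true := by decide +kernel
theorem v_zz_1_169 : ∀ k, 15836 ≤ k → k < 24336 → chk_zz (k * 20) = true := between_extend chk_zz 20 15836 24286 50 (v_zz_1_168) r_zz_1_169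

theorem r_zz_1_170 : allRange chk_zz 20 24336 50 = true := by decide +kernel
theorem v_zz_1_170 : ∀ k, 15836 ≤ k → k < 24386 → chk_zz (k * 20) = true := between_extend chk_zz 20 15836 24336 50 (v_zz_1_169) r_zz_1_170

theorem r_zz_1_171 : allRange chk_zz 20 24386 50 = true := by decide +kernel
theorem v_zz_1_171 : ∀ k, 15836 ≤ k → k < 24436 → chk_zz (k * 20) = true := between_extend chk_zz 20 15836 24386 50 (v_zz_1_170) r_zz_1_171

theorem r_zz_1_172 : allRange chk_zz 20 24436 50 = true := by decide +kernel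
theorem v_zz_1_172 : ∀ k, 15836 ≤ k → k < 24486 → chk_zz (k * 20) = true := between_extend chk_zz 20 15836 24436 50 (v_zz_1_171) r_zz_1_172

theorem r_zz_1_173 : allRange chk_zz 20 24486 50 = true := by decide +kernel
theorem v_zz_1_173 : ∀ k, 15836 ≤ k → k < 24536 → chk_zz (k * 20) = true := between_extend chk_zz 20 15836 24486 50 (v_zz_1_172) r_zz_1_173

theorem r_zz_1_174 : allRange chk_zz 20 24536 50 = true := by decide +kernel
theorem v_zz_1_174 : ∀ k, 15836 ≤ k → k < 24586 → chk_zz (k * 20) = true := between_extend chk_zz 20 15836 24536 50 (v_zz_1_173) r_zz_1_174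

theorem r_zz_1_175 : allRange chk_zz 20 24586 50 = true := by decide +kernel
theorem v_zz_1_175 : ∀ k, 15836 ≤ k → k < 24636 → chk_zz (k * 20) = true := between_extend chk_zz 20 15836 24586 50 (v_zz_1_174) r_zz_1_175

theorem r_zz_1_176 : allRange chk_zz 20 24636 50 = true := by decide +kernel
theorem v_zz_1_176 : ∀ k, 15836 ≤ k → k < 24686 → chk_zz (k * 20) = true := between_extend chk_zz 20 15836 24636 50 (v_zz_1_175) r_zz_1_176

theorem r_zz_1_177 : allRange chk_zz 20 24686 50 = true := by decide +kernel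
theorem v_zz_1_177 : ∀ k, 15836 ≤ k → k < 24736 → chk_zz (k * 20) = true := between_extend chk_zz 20 15836 24686 50 (v_zz_1_176) r_zz_1_177

theorem r_zz_1_178 : allRange chk_zz 20 24736 50 = true := by decide +kernel
theorem v_zz_1_178 : ∀ k, 15836 ≤ k → k < 24786 → chk_zz (k * 20) = true := between_extend chk_zz 20 15836 24736 50 (v_zz_1_177) r_zz_1_178

theorem r_zz_1_179 : allRange chk_zz 20 24786 50 = true := by decide +kernel
theorem v_zz_1_179 : ∀ k, 15836 ≤ k → k < 24836 → chk_zz (k * 20) = true := between_extend chk_zz 20 15836 24786 50 (v_zz_1_178) r_zz_1_179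

theorem r_zz_1_180 : allRange chk_zz 20 24836 50 = true := by decide +kernel
theorem v_zz_1_180 : ∀ k, 15836 ≤ k → k < 24886 → chk_zz (k * 20) = true := between_extend chk_zz 20 15836 24836 50 (v_zz_1_179) r_zz_1_180

theorem r_zz_1_181 : allRange chk_zz 20 24886 50 = true := by decide +kernel
theorem v_zz_1_181 : ∀ k, 15836 ≤ k → k < 24936 → chk_zz (k * 20) = true := between_extend chk_zz 20 15836 24886 50 (v_zz_1_180) r_zz_1_181

theorem r_zz_1_182 : allRange chk_zz 20 24936 50 = true := by decide +kernel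
theorem v_zz_1_182 : ∀ k, 15836 ≤ k → k < 24986 → chk_zz (k * 20) = true := between_extend chk_zz 20 15836 24936 50 (v_zz_1_181) r_zz_1_182

theorem r_zz_1_183 : allRange chk_zz 20 24986 50 = true := by decide +kernel
theorem v_zz_1_183 : ∀ k, 15836 ≤ k → k < 25036 → chk_zz (k * 20) = true := between_extend chk_zz 20 15836 24986 50 (v_zz_1_182) r_zz_1_183

theorem r_zz_1_184 : allRange chk_zz 20 25036 50 = true := by decide +kernel
theorem v_zz_1_184 : ∀ k, 15836 ≤ k → k < 25086 → chk_zz (k * 20) = true := between_extend chk_zz 20 15836 25036 50 (v_zz_1_183) r_zz_1_184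

theorem r_zz_1_185 : allRange chk_zz 20 25086 50 = true := by decide +kernel
theorem v_zz_1_185 : ∀ k, 15836 ≤ k → k < 25136 → chk_zz (k * 20) = true := between_extend chk_zz 20 15836 25086 50 (v_zz_1_184) r_zz_1_185

theorem r_zz_1_186 : allRange chk_zz 20 25136 50 = true := by decide +kernel
theorem v_zz_1_186 : ∀ k, 15836 ≤ k → k < 25186 → chk_zz (k * 20) = true := between_extend chk_zz 20 15836 25136 50 (v_zz_1_185) r_zz_1_186

theorem r_zz_1_187 : allRange chk_zz 20 25186 50 = true := by decide +kernel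
theorem v_zz_1_187 : ∀ k, 15836 ≤ k → k < 25236 → chk_zz (k * 20) = true := between_extend chk_zz 20 15836 25186 50 (v_zz_1_186) r_zz_1_187

theorem r_zz_1_188 : allRange chk_zz 20 25236 50 = true := by decide +kernel
theorem v_zz_1_188 : ∀ k, 15836 ≤ k → k < 25286 → chk_zz (k * 20) = true := between_extend chk_zz 20 15836 25236 50 (v_zz_1_187) r_zz_1_188

theorem r_zz_1_189 : allRange chk_zz 20 25286 50 = true := by decide +kernel
theorem v_zz_1_189 : ∀ k, 15836 ≤ k → k < 25336 → chk_zz (k * 20) = true := between_extend chk_zz 20 15836 25286 50 (v_zz_1_188) r_zz_1_189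

theorem r_zz_1_190 : allRange chk_zz 20 25336 50 = true := by decide +kernel
theorem v_zz_1_190 : ∀ k, 15836 ≤ k → k < 25386 → chk_zz (k * 20) = true := between_extend chk_zz 20 15836 25336 50 (v_zz_1_189) r_zz_1_190

theorem r_zz_1_191 : allRange chk_zz 20 25386 50 = true := by decide +kernel
theorem v_zz_1_191 : ∀ k, 15836 ≤ k → k < 25436 → chk_zz (k * 20) = true := between_extend chk_zz 20 15836 25386 50 (v_zz_1_190) r_zz_1_191

theorem r_zz_1_192 : allRange chk_zz 20 25436 50 = true := by decide +kernel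
theorem v_zz_1_192 : ∀ k, 15836 ≤ k → k < 25486 → chk_zz (k * 20) = true := between_extend chk_zz 20 15836 25436 50 (v_zz_1_191) r_zz_1_192

theorem r_zz_1_193 : allRange chk_zz 20 25486 50 = true := by decide +kernel
theorem v_zz_1_193 : ∀ k, 15836 ≤ k → k < 25536 → chk_zz (k * 20) = true := between_extend chk_zz 20 15836 25486 50 (v_zz_1_192) r_zz_1_193

theorem r_zz_1_194 : allRange chk_zz 20 25536 50 = true := by decide +kernel
theorem v_zz_1_194 : ∀ k, 15836 ≤ k → k < 25586 → chk_zz (k * 20) = true := between_extend chk_zz 20 15836 25536 50 (v_zz_1_193) r_zz_1_194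

theorem r_zz_1_195 : allRange chk_zz 20 25586 50 = true := by decide +kernel
theorem v_zz_1_195 : ∀ k, 15836 ≤ k → k < 25636 → chk_zz (k * 20) = true := between_extend chk_zz 20 15836 25586 50 (v_zz_1_194) r_zz_1_195

theorem r_zz_1_196 : allRange chk_zz 20 25636 50 = true := by decide +kernel
theorem v_zz_1_196 : ∀ k, 15836 ≤ k → k < 25686 → chk_zz (k * 20) = true := between_extend chk_zz 20 15836 25636 50 (v_zz_1_195) r_zz_1_196

theorem r_zz_1_197 : allRange chk_zz 20 25686 50 = true := by decide +kernel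
theorem v_zz_1_197 : ∀ k, 15836 ≤ k → k < 25736 → chk_zz (k * 20) = true := between_extend chk_zz 20 15836 25686 50 (v_zz_1_196) r_zz_1_197

theorem r_zz_1_198 : allRange chk_zz 20 25736 50 = true := by decide +kernel
theorem v_zz_1_198 : ∀ k, 15836 ≤ k → k < 25786 → chk_zz (k * 20) = true := between_extend chk_zz 20 15836 25736 50 (v_zz_1_197) r_zz_1_198

theorem r_zz_1_199 : allRange chk_zz 20 25786 50 = true := by decide +kernel
theorem v_zz_1_199 : ∀ k, 15836 ≤ k → k < 25836 → chk_zz (k * 20) = true := between_extend chk_zz 20 15836 25786 50 (v_zz_1_198) r_zz_1_199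

theorem r_zz_1_200 : allRange chk_zz 20 25836 50 = true := by decide +kernel
theorem v_zz_1_200 : ∀ k, 15836 ≤ k → k < 25886 → chk_zz (k * 20) = true := between_extend chk_zz 20 15836 25836 50 (v_zz_1_199) r_zz_1_200

theorem r_zz_1_201 : allRange chk_zz 20 25886 50 = true := by decide +kernel
theorem v_zz_1_201 : ∀ k, 15836 ≤ k → k < 25936 → chk_zz (k * 20) = true := between_extend chk_zz 20 15836 25886 50 (v_zz_1_200) r_zz_1_201

theorem r_zz_1_202 : allRange chk_zz 20 25936 50 = true := by decide +kernel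
theorem v_zz_1_202 : ∀ k, 15836 ≤ k → k < 25986 → chk_zz (k * 20) = true := between_extend chk_zz 20 15836 25936 50 (v_zz_1_201) r_zz_1_202

theorem r_zz_1_203 : allRange chk_zz 20 25986 50 = true := by decide +kernel
theorem v_zz_1_203 : ∀ k, 15836 ≤ k → k < 26036 → chk_zz (k * 20) = true := between_extend chk_zz 20 15836 25986 50 (v_zz_1_202) r_zz_1_203

theorem r_zz_1_204 : allRange chk_zz 20 26036 50 = true := by decide +kernel
theorem v_zz_1_204 : ∀ k, 15836 ≤ k → k < 26086 → chk_zz (k * 20) = true := between_extend chk_zz 20 15836 26036 50 (v_zz_1_203) r_zz_1_204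

theorem r_zz_1_205 : allRange chk_zz 20 26086 50 = true := by decide +kernel
theorem v_zz_1_205 : ∀ k, 15836 ≤ k → k < 26136 → chk_zz (k * 20) = true := between_extend chk_zz 20 15836 26086 50 (v_zz_1_204) r_zz_1_205

theorem r_zz_1_206 : allRange chk_zz 20 26136 50 = true := by decide +kernel
theorem v_zz_1_206 : ∀ k, 15836 ≤ k → k < 26186 → chk_zz (k * 20) = true := between_extend chk_zz 20 15836 26136 50 (v_zz_1_205) r_zz_1_206

theorem r_zz_1_207 : allRange chk_zz 20 26186 50 = true := by decide +kernel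
theorem v_zz_1_207 : ∀ k, 15836 ≤ k → k < 26236 → chk_zz (k * 20) = true := between_extend chk_zz 20 15836 26186 50 (v_zz_1_206) r_zz_1_207

theorem r_zz_1_208 : allRange chk_zz 20 26236 50 = true := by decide +kernel
theorem v_zz_1_208 : ∀ k, 15836 ≤ k → k < 26286 → chk_zz (k * 20) = true := between_extend chk_zz 20 15836 26236 50 (v_zz_1_207) r_zz_1_208

theorem r_zz_1_209 : allRange chk_zz 20 26286 50 = true := by decide +kernel
theorem v_zz_1_209 : ∀ k, 15836 ≤ k → k < 26336 → chk_zz (k * 20) = true := between_extend chk_zz 20 15836 26286 50 (v_zz_1_208) r_zz_1_209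

theorem r_zz_1_210 : allRange chk_zz 20 26336 50 = true := by decide +kernel
theorem v_zz_1_210 : ∀ k, 15836 ≤ k → k < 26386 → chk_zz (k * 20) = true := between_extend chk_zz 20 15836 26336 50 (v_zz_1_209) r_zz_1_210

theorem r_zz_1_211 : allRange chk_zz 20 26386 50 = true := by decide +kernel
theorem v_zz_1_211 : ∀ k, 15836 ≤ k → k < 26436 → chk_zz (k * 20) = true := between_extend chk_zz 20 15836 26386 50 (v_zz_1_210) r_zz_1_211

theorem r_zz_1_212 : allRange chk_zz 20 26436 50 = true := by decide +kernel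
theorem v_zz_1_212 : ∀ k, 15836 ≤ k → k < 26486 → chk_zz (k * 20) = true := between_extend chk_zz 20 15836 26436 50 (v_zz_1_211) r_zz_1_212

theorem r_zz_1_213 : allRange chk_zz 20 26486 50 = true := by decide +kernel
theorem v_zz_1_213 : ∀ k, 15836 ≤ k → k < 26536 → chk_zz (k * 20) = true := between_extend chk_zz 20 15836 26486 50 (v_zz_1_212) r_zz_1_213

theorem r_zz_1_214 : allRange chk_zz 20 26536 50 = true := by decide +kernel
theorem v_zz_1_214 : ∀ k, 15836 ≤ k → k < 26586 → chk_zz (k * 20) = true := between_extend chk_zz 20 15836 26536 50 (v_zz_1_213) r_zz_1_214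

theorem r_zz_1_215 : allRange chk_zz 20 26586 50 = true := by decide +kernel
theorem v_zz_1_215 : ∀ k, 15836 ≤ k → k < 26636 → chk_zz (k * 20) = true := between_extend chk_zz 20 15836 26586 50 (v_zz_1_214) r_zz_1_215

theorem r_zz_1_216 : allRange chk_zz 20 26636 50 = true := by decide +kernel
theorem v_zz_1_216 : ∀ k, 15836 ≤ k → k < 26686 → chk_zz (k * 20) = true := between_extend chk_zz 20 15836 26636 50 (v_zz_1_215) r_zz_1_216

theorem r_zz_1_217 : allRange chk_zz 20 26686 50 = true := by decide +kernel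
theorem v_zz_1_217 : ∀ k, 15836 ≤ k → k < 26736 → chk_zz (k * 20) = true := between_extend chk_zz 20 15836 26686 50 (v_zz_1_216) r_zz_1_217

theorem r_zz_1_218 : allRange chk_zz 20 26736 50 = true := by decide +kernel
theorem v_zz_1_218 : ∀ k, 15836 ≤ k → k < 26786 → chk_zz (k * 20) = true := between_extend chk_zz 20 15836 26736 50 (v_zz_1_217) r_zz_1_218

theorem r_zz_1_219 : allRange chk_zz 20 26786 50 = true := by decide +kernel
theorem v_zz_1_219 : ∀ k, 15836 ≤ k → k < 26836 → chk_zz (k * 20) = true := between_extend chk_zz 20 15836 26786 50 (v_zz_1_218) r_zz_1_219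

theorem r_zz_1_220 : allRange chk_zz 20 26836 50 = true := by decide +kernel
theorem v_zz_1_220 : ∀ k, 15836 ≤ k → k < 26886 → chk_zz (k * 20) = true := between_extend chk_zz 20 15836 26836 50 (v_zz_1_219) r_zz_1_220

theorem r_zz_1_221 : allRange chk_zz 20 26886 50 = true := by decide +kernel
theorem v_zz_1_221 : ∀ k, 15836 ≤ k → k < 26936 → chk_zz (k * 20) = true := between_extend chk_zz 20 15836 26886 50 (v_zz_1_220) r_zz_1_221

theorem r_zz_1_222 : allRange chk_zz 20 26936 50 = true := by decide +kernel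
theorem v_zz_1_222 : ∀ k, 15836 ≤ k → k < 26986 → chk_zz (k * 20) = true := between_extend chk_zz 20 15836 26936 50 (v_zz_1_221) r_zz_1_222

theorem r_zz_1_223 : allRange chk_zz 20 26986 50 = true := by decide +kernel
theorem v_zz_1_223 : ∀ k, 15836 ≤ k → k < 27036 → chk_zz (k * 20) = true := between_extend chk_zz 20 15836 26986 50 (v_zz_1_222) r_zz_1_223

theorem r_zz_1_224 : allRange chk_zz 20 27036 50 = true := by decide +kernel
theorem v_zz_1_224 : ∀ k, 15836 ≤ k → k < 27086 → chk_zz (k * 20) = true := between_extend chk_zz 20 15836 27036 50 (v_zz_1_223) r_zz_1_224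

theorem r_zz_1_225 : allRange chk_zz 20 27086 50 = true := by decide +kernel
theorem v_zz_1_225 : ∀ k, 15836 ≤ k → k < 27136 → chk_zz (k * 20) = true := between_extend chk_zz 20 15836 27086 50 (v_zz_1_224) r_zz_1_225

theorem r_zz_1_226 : allRange chk_zz 20 27136 50 = true := by decide +kernel
theorem v_zz_1_226 : ∀ k, 15836 ≤ k → k < 27186 → chk_zz (k * 20) = true := between_extend chk_zz 20 15836 27136 50 (v_zz_1_225) r_zz_1_226

theorem r_zz_1_227 : allRange chk_zz 20 27186 50 = true := by decide +kernel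
theorem v_zz_1_227 : ∀ k, 15836 ≤ k → k < 27236 → chk_zz (k * 20) = true := between_extend chk_zz 20 15836 27186 50 (v_zz_1_226) r_zz_1_227

theorem r_zz_1_228 : allRange chk_zz 20 27236 50 = true := by decide +kernel
theorem v_zz_1_228 : ∀ k, 15836 ≤ k → k < 27286 → chk_zz (k * 20) = true := between_extend chk_zz 20 15836 27236 50 (v_zz_1_227) r_zz_1_228

theorem r_zz_1_229 : allRange chk_zz 20 27286 50 = true := by decide +kernel
theorem v_zz_1_229 : ∀ k, 15836 ≤ k → k < 27336 → chk_zz (k * 20) = true := between_extend chk_zz 20 15836 27286 50 (v_zz_1_228) r_zz_1_229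

theorem r_zz_1_230 : allRange chk_zz 20 27336 50 = true := by decide +kernel
theorem v_zz_1_230 : ∀ k, 15836 ≤ k → k < 27386 → chk_zz (k * 20) = true := between_extend chk_zz 20 15836 27336 50 (v_zz_1_229) r_zz_1_230

theorem r_zz_1_231 : allRange chk_zz 20 27386 50 = true := by decide +kernel
theorem v_zz_1_231 : ∀ k, 15836 ≤ k → k < 27436 → chk_zz (k * 20) = true := between_extend chk_zz 20 15836 27386 50 (v_zz_1_230) r_zz_1_231

theorem r_zz_1_232 : allRange chk_zz 20 27436 50 = true := by decide +kernel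
theorem v_zz_1_232 : ∀ k, 15836 ≤ k → k < 27486 → chk_zz (k * 20) = true := between_extend chk_zz 20 15836 27436 50 (v_zz_1_231) r_zz_1_232

theorem r_zz_1_233 : allRange chk_zz 20 27486 50 = true := by decide +kernel
theorem v_zz_1_233 : ∀ k, 15836 ≤ k → k < 27536 → chk_zz (k * 20) = true := between_extend chk_zz 20 15836 27486 50 (v_zz_1_232) r_zz_1_233

theorem r_zz_1_234 : allRange chk_zz 20 27536 50 = true := by decide +kernel
theorem v_zz_1_234 : ∀ k, 15836 ≤ k → k < 27586 → chk_zz (k * 20) = true := between_extend chk_zz 20 15836 27536 50 (v_zz_1_233) r_zz_1_234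

theorem r_zz_1_235 : allRange chk_zz 20 27586 50 = true := by decide +kernel
theorem v_zz_1_235 : ∀ k, 15836 ≤ k → k < 27636 → chk_zz (k * 20) = true := between_extend chk_zz 20 15836 27586 50 (v_zz_1_234) r_zz_1_235

theorem r_zz_1_236 : allRange chk_zz 20 27636 50 = true := by decide +kernel
theorem v_zz_1_236 : ∀ k, 15836 ≤ k → k < 27686 → chk_zz (k * 20) = true := between_extend chk_zz 20 15836 27636 50 (v_zz_1_235) r_zz_1_236

theorem r_zz_1_237 : allRange chk_zz 20 27686 50 = true := by decide +kernel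
theorem v_zz_1_237 : ∀ k, 15836 ≤ k → k < 27736 → chk_zz (k * 20) = true := between_extend chk_zz 20 15836 27686 50 (v_zz_1_236) r_zz_1_237

theorem r_zz_1_238 : allRange chk_zz 20 27736 50 = true := by decide +kernel
theorem v_zz_1_238 : ∀ k, 15836 ≤ k → k < 27786 → chk_zz (k * 20) = true := between_extend chk_zz 20 15836 27736 50 (v_zz_1_237) r_zz_1_238

theorem r_zz_1_239 : allRange chk_zz 20 27786 50 = true := by decide +kernel
theorem v_zz_1_239 : ∀ k, 15836 ≤ k → k < 27836 → chk_zz (k * 20) = true := between_extend chk_zz 20 15836 27786 50 (v_zz_1_238) r_zz_1_239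

theorem r_zz_1_240 : allRange chk_zz 20 27836 50 = true := by decide +kernel
theorem v_zz_1_240 : ∀ k, 15836 ≤ k → k < 27886 → chk_zz (k * 20) = true := between_extend chk_zz 20 15836 27836 50 (v_zz_1_239) r_zz_1_240

theorem r_zz_1_241 : allRange chk_zz 20 27886 50 = true := by decide +kernel
theorem v_zz_1_241 : ∀ k, 15836 ≤ k → k < 27936 → chk_zz (k * 20) = true := between_extend chk_zz 20 15836 27886 50 (v_zz_1_240) r_zz_1_241

theorem r_zz_1_242 : allRange chk_zz 20 27936 50 = true := by decide +kernel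
theorem v_zz_1_242 : ∀ k, 15836 ≤ k → k < 27986 → chk_zz (k * 20) = true := between_extend chk_zz 20 15836 27936 50 (v_zz_1_241) r_zz_1_242

theorem r_zz_1_243 : allRange chk_zz 20 27986 50 = true := by decide +kernel
theorem v_zz_1_243 : ∀ k, 15836 ≤ k → k < 28036 → chk_zz (k * 20) = true := between_extend chk_zz 20 15836 27986 50 (v_zz_1_242) r_zz_1_243

theorem r_zz_1_244 : allRange chk_zz 20 28036 50 = true := by decide +kernel
theorem v_zz_1_244 : ∀ k, 15836 ≤ k → k < 28086 → chk_zz (k * 20) = true := between_extend chk_zz 20 15836 28036 50 (v_zz_1_243) r_zz_1_244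

theorem r_zz_1_245 : allRange chk_zz 20 28086 50 = true := by decide +kernel
theorem v_zz_1_245 : ∀ k, 15836 ≤ k → k < 28136 → chk_zz (k * 20) = true := between_extend chk_zz 20 15836 28086 50 (v_zz_1_244) r_zz_1_245

theorem r_zz_1_246 : allRange chk_zz 20 28136 50 = true := by decide +kernel
theorem v_zz_1_246 : ∀ k, 15836 ≤ k → k < 28186 → chk_zz (k * 20) = true := between_extend chk_zz 20 15836 28136 50 (v_zz_1_245) r_zz_1_246

theorem r_zz_1_247 : allRange chk_zz 20 28186 50 = true := by decide +kernel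
theorem v_zz_1_247 : ∀ k, 15836 ≤ k → k < 28236 → chk_zz (k * 20) = true := between_extend chk_zz 20 15836 28186 50 (v_zz_1_246) r_zz_1_247

theorem r_zz_1_248 : allRange chk_zz 20 28236 50 = true := by decide +kernel
theorem v_zz_1_248 : ∀ k, 15836 ≤ k → k < 28286 → chk_zz (k * 20) = true := between_extend chk_zz 20 15836 28236 50 (v_zz_1_247) r_zz_1_248

theorem r_zz_1_249 : allRange chk_zz 20 28286 50 = true := by decide +kernel
theorem v_zz_1_249 : ∀ k, 15836 ≤ k → k < 28336 → chk_zz (k * 20) = true := between_extend chk_zz 20 15836 28286 50 (v_zz_1_248) r_zz_1_249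

theorem r_zz_1_250 : allRange chk_zz 20 28336 50 = true := by decide +kernel
theorem v_zz_1_250 : ∀ k, 15836 ≤ k → k < 28386 → chk_zz (k * 20) = true := between_extend chk_zz 20 15836 28336 50 (v_zz_1_249) r_zz_1_250

theorem r_zz_1_251 : allRange chk_zz 20 28386 50 = true := by decide +kernel
theorem v_zz_1_251 : ∀ k, 15836 ≤ k → k < 28436 → chk_zz (k * 20) = true := between_extend chk_zz 20 15836 28386 50 (v_zz_1_250) r_zz_1_251

theorem r_zz_1_252 : allRange chk_zz 20 28436 50 = true := by decide +kernel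
theorem v_zz_1_252 : ∀ k, 15836 ≤ k → k < 28486 → chk_zz (k * 20) = true := between_extend chk_zz 20 15836 28436 50 (v_zz_1_251) r_zz_1_252

theorem r_zz_1_253 : allRange chk_zz 20 28486 50 = true := by decide +kernel
theorem v_zz_1_253 : ∀ k, 15836 ≤ k → k < 28536 → chk_zz (k * 20) = true := between_extend chk_zz 20 15836 28486 50 (v_zz_1_252) r_zz_1_253

theorem r_zz_1_254 : allRange chk_zz 20 28536 50 = true := by decide +kernel
theorem v_zz_1_254 : ∀ k, 15836 ≤ k → k < 28586 → chk_zz (k * 20) = true := between_extend chk_zz 20 15836 28536 50 (v_zz_1_253) r_zz_1_254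

theorem r_zz_1_255 : allRange chk_zz 20 28586 50 = true := by decide +kernel
theorem v_zz_1_255 : ∀ k, 15836 ≤ k → k < 28636 → chk_zz (k * 20) = true := between_extend chk_zz 20 15836 28586 50 (v_zz_1_254) r_zz_1_255

theorem r_zz_1_256 : allRange chk_zz 20 28636 50 = true := by decide +kernel
theorem v_zz_1_256 : ∀ k, 15836 ≤ k → k < 28686 → chk_zz (k * 20) = true := between_extend chk_zz 20 15836 28636 50 (v_zz_1_255) r_zz_1_256

theorem r_zz_1_257 : allRange chk_zz 20 28686 50 = true := by decide +kernel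
theorem v_zz_1_257 : ∀ k, 15836 ≤ k → k < 28736 → chk_zz (k * 20) = true := between_extend chk_zz 20 15836 28686 50 (v_zz_1_256) r_zz_1_257

theorem r_zz_1_258 : allRange chk_zz 20 28736 50 = true := by decide +kernel
theorem v_zz_1_258 : ∀ k, 15836 ≤ k → k < 28786 → chk_zz (k * 20) = true := between_extend chk_zz 20 15836 28736 50 (v_zz_1_257) r_zz_1_258

theorem r_zz_1_259 : allRange chk_zz 20 28786 50 = true := by decide +kernel
theorem v_zz_1_259 : ∀ k, 15836 ≤ k → k < 28836 → chk_zz (k * 20) = true := between_extend chk_zz 20 15836 28786 50 (v_zz_1_258) r_zz_1_259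

theorem r_zz_1_260 : allRange chk_zz 20 28836 50 = true := by decide +kernel
theorem v_zz_1_260 : ∀ k, 15836 ≤ k → k < 28886 → chk_zz (k * 20) = true := between_extend chk_zz 20 15836 28836 50 (v_zz_1_259) r_zz_1_260

theorem r_zz_1_261 : allRange chk_zz 20 28886 50 = true := by decide +kernel
theorem v_zz_1_261 : ∀ k, 15836 ≤ k → k < 28936 → chk_zz (k * 20) = true := between_extend chk_zz 20 15836 28886 50 (v_zz_1_260) r_zz_1_261

theorem r_zz_1_262 : allRange chk_zz 20 28936 50 = true := by decide +kernel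
theorem v_zz_1_262 : ∀ k, 15836 ≤ k → k < 28986 → chk_zz (k * 20) = true := between_extend chk_zz 20 15836 28936 50 (v_zz_1_261) r_zz_1_262

theorem r_zz_1_263 : allRange chk_zz 20 28986 50 = true := by decide +kernel
theorem v_zz_1_263 : ∀ k, 15836 ≤ k → k < 29036 → chk_zz (k * 20) = true := between_extend chk_zz 20 15836 28986 50 (v_zz_1_262) r_zz_1_263

theorem r_zz_1_264 : allRange chk_zz 20 29036 50 = true := by decide +kernel
theorem v_zz_1_264 : ∀ k, 15836 ≤ k → k < 29086 → chk_zz (k * 20) = true := between_extend chk_zz 20 15836 29036 50 (v_zz_1_263) r_zz_1_264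

theorem r_zz_1_265 : allRange chk_zz 20 29086 50 = true := by decide +kernel
theorem v_zz_1_265 : ∀ k, 15836 ≤ k → k < 29136 → chk_zz (k * 20) = true := between_extend chk_zz 20 15836 29086 50 (v_zz_1_264) r_zz_1_265

theorem r_zz_1_266 : allRange chk_zz 20 29136 50 = true := by decide +kernel
theorem v_zz_1_266 : ∀ k, 15836 ≤ k → k < 29186 → chk_zz (k * 20) = true := between_extend chk_zz 20 15836 29136 50 (v_zz_1_265) r_zz_1_266

theorem r_zz_1_267 : allRange chk_zz 20 29186 50 = true := by decide +kernel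
theorem v_zz_1_267 : ∀ k, 15836 ≤ k → k < 29236 → chk_zz (k * 20) = true := between_extend chk_zz 20 15836 29186 50 (v_zz_1_266) r_zz_1_267

theorem r_zz_1_268 : allRange chk_zz 20 29236 50 = true := by decide +kernel
theorem v_zz_1_268 : ∀ k, 15836 ≤ k → k < 29286 → chk_zz (k * 20) = true := between_extend chk_zz 20 15836 29236 50 (v_zz_1_267) r_zz_1_268

theorem r_zz_1_269 : allRange chk_zz 20 29286 50 = true := by decide +kernel
theorem v_zz_1_269 : ∀ k, 15836 ≤ k → k < 29336 → chk_zz (k * 20) = true := between_extend chk_zz 20 15836 29286 50 (v_zz_1_268) r_zz_1_269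

theorem r_zz_1_270 : allRange chk_zz 20 29336 50 = true := by decide +kernel
theorem v_zz_1_270 : ∀ k, 15836 ≤ k → k < 29386 → chk_zz (k * 20) = true := between_extend chk_zz 20 15836 29336 50 (v_zz_1_269) r_zz_1_270

theorem r_zz_1_271 : allRange chk_zz 20 29386 50 = true := by decide +kernel
theorem v_zz_1_271 : ∀ k, 15836 ≤ k → k < 29436 → chk_zz (k * 20) = true := between_extend chk_zz 20 15836 29386 50 (v_zz_1_270) r_zz_1_271

theorem r_zz_1_272 : allRange chk_zz 20 29436 50 = true := by decide +kernel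
theorem v_zz_1_272 : ∀ k, 15836 ≤ k → k < 29486 → chk_zz (k * 20) = true := between_extend chk_zz 20 15836 29436 50 (v_zz_1_271) r_zz_1_272

theorem r_zz_1_273 : allRange chk_zz 20 29486 50 = true := by decide +kernel
theorem v_zz_1_273 : ∀ k, 15836 ≤ k → k < 29536 → chk_zz (k * 20) = true := between_extend chk_zz 20 15836 29486 50 (v_zz_1_272) r_zz_1_273

theorem r_zz_1_274 : allRange chk_zz 20 29536 50 = true := by decide +kernel
theorem v_zz_1_274 : ∀ k, 15836 ≤ k → k < 29586 → chk_zz (k * 20) = true := between_extend chk_zz 20 15836 29536 50 (v_zz_1_273) r_zz_1_274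

theorem r_zz_1_275 : allRange chk_zz 20 29586 50 = true := by decide +kernel
theorem v_zz_1_275 : ∀ k, 15836 ≤ k → k < 29636 → chk_zz (k * 20) = true := between_extend chk_zz 20 15836 29586 50 (v_zz_1_274) r_zz_1_275

theorem r_zz_1_276 : allRange chk_zz 20 29636 50 = true := by decide +kernel
theorem v_zz_1_276 : ∀ k, 15836 ≤ k → k < 29686 → chk_zz (k * 20) = true := between_extend chk_zz 20 15836 29636 50 (v_zz_1_275) r_zz_1_276

theorem r_zz_1_277 : allRange chk_zz 20 29686 50 = true := by decide +kernel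
theorem v_zz_1_277 : ∀ k, 15836 ≤ k → k < 29736 → chk_zz (k * 20) = true := between_extend chk_zz 20 15836 29686 50 (v_zz_1_276) r_zz_1_277

theorem r_zz_1_278 : allRange chk_zz 20 29736 50 = true := by decide +kernel
theorem v_zz_1_278 : ∀ k, 15836 ≤ k → k < 29786 → chk_zz (k * 20) = true := between_extend chk_zz 20 15836 29736 50 (v_zz_1_277) r_zz_1_278

theorem r_zz_1_279 : allRange chk_zz 20 29786 50 = true := by decide +kernel
theorem v_zz_1_279 : ∀ k, 15836 ≤ k → k < 29836 → chk_zz (k * 20) = true := between_extend chk_zz 20 15836 29786 50 (v_zz_1_278) r_zz_1_279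

theorem r_zz_1_280 : allRange chk_zz 20 29836 50 = true := by decide +kernel
theorem v_zz_1_280 : ∀ k, 15836 ≤ k → k < 29886 → chk_zz (k * 20) = true := between_extend chk_zz 20 15836 29836 50 (v_zz_1_279) r_zz_1_280

theorem r_zz_1_281 : allRange chk_zz 20 29886 50 = true := by decide +kernel
theorem v_zz_1_281 : ∀ k, 15836 ≤ k → k < 29936 → chk_zz (k * 20) = true := between_extend chk_zz 20 15836 29886 50 (v_zz_1_280) r_zz_1_281

theorem r_zz_1_282 : allRange chk_zz 20 29936 50 = true := by decide +kernel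
theorem v_zz_1_282 : ∀ k, 15836 ≤ k → k < 29986 → chk_zz (k * 20) = true := between_extend chk_zz 20 15836 29936 50 (v_zz_1_281) r_zz_1_282

theorem r_zz_1_283 : allRange chk_zz 20 29986 50 = true := by decide +kernel
theorem v_zz_1_283 : ∀ k, 15836 ≤ k → k < 30036 → chk_zz (k * 20) = true := between_extend chk_zz 20 15836 29986 50 (v_zz_1_282) r_zz_1_283

theorem r_zz_1_284 : allRange chk_zz 20 30036 50 = true := by decide +kernel
theorem v_zz_1_284 : ∀ k, 15836 ≤ k → k < 30086 → chk_zz (k * 20) = true := between_extend chk_zz 20 15836 30036 50 (v_zz_1_283) r_zz_1_284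

theorem r_zz_1_285 : allRange chk_zz 20 30086 50 = true := by decide +kernel
theorem v_zz_1_285 : ∀ k, 15836 ≤ k → k < 30136 → chk_zz (k * 20) = true := between_extend chk_zz 20 15836 30086 50 (v_zz_1_284) r_zz_1_285

theorem r_zz_1_286 : allRange chk_zz 20 30136 50 = true := by decide +kernel
theorem v_zz_1_286 : ∀ k, 15836 ≤ k → k < 30186 → chk_zz (k * 20) = true := between_extend chk_zz 20 15836 30136 50 (v_zz_1_285) r_zz_1_286

theorem r_zz_1_287 : allRange chk_zz 20 30186 50 = true := by decide +kernel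
theorem v_zz_1_287 : ∀ k, 15836 ≤ k → k < 30236 → chk_zz (k * 20) = true := between_extend chk_zz 20 15836 30186 50 (v_zz_1_286) r_zz_1_287

theorem r_zz_1_288 : allRange chk_zz 20 30236 50 = true := by decide +kernel
theorem v_zz_1_288 : ∀ k, 15836 ≤ k → k < 30286 → chk_zz (k * 20) = true := between_extend chk_zz 20 15836 30236 50 (v_zz_1_287) r_zz_1_288

theorem r_zz_1_289 : allRange chk_zz 20 30286 50 = true := by decide +kernel
theorem v_zz_1_289 : ∀ k, 15836 ≤ k → k < 30336 → chk_zz (k * 20) = true := between_extend chk_zz 20 15836 30286 50 (v_zz_1_288) r_zz_1_289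

theorem r_zz_1_290 : allRange chk_zz 20 30336 50 = true := by decide +kernel
theorem v_zz_1_290 : ∀ k, 15836 ≤ k → k < 30386 → chk_zz (k * 20) = true := between_extend chk_zz 20 15836 30336 50 (v_zz_1_289) r_zz_1_290

theorem r_zz_1_291 : allRange chk_zz 20 30386 50 = true := by decide +kernel
theorem v_zz_1_291 : ∀ k, 15836 ≤ k → k < 30436 → chk_zz (k * 20) = true := between_extend chk_zz 20 15836 30386 50 (v_zz_1_290) r_zz_1_291

theorem r_zz_1_292 : allRange chk_zz 20 30436 50 = true := by decide +kernel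
theorem v_zz_1_292 : ∀ k, 15836 ≤ k → k < 30486 → chk_zz (k * 20) = true := between_extend chk_zz 20 15836 30436 50 (v_zz_1_291) r_zz_1_292

theorem r_zz_1_293 : allRange chk_zz 20 30486 50 = true := by decide +kernel
theorem v_zz_1_293 : ∀ k, 15836 ≤ k → k < 30536 → chk_zz (k * 20) = true := between_extend chk_zz 20 15836 30486 50 (v_zz_1_292) r_zz_1_293

theorem r_zz_1_294 : allRange chk_zz 20 30536 50 = true := by decide +kernel
theorem v_zz_1_294 : ∀ k, 15836 ≤ k → k < 30586 → chk_zz (k * 20) = true := between_extend chk_zz 20 15836 30536 50 (v_zz_1_293) r_zz_1_294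

theorem r_zz_1_295 : allRange chk_zz 20 30586 50 = true := by decide +kernel
theorem v_zz_1_295 : ∀ k, 15836 ≤ k → k < 30636 → chk_zz (k * 20) = true := between_extend chk_zz 20 15836 30586 50 (v_zz_1_294) r_zz_1_295

theorem r_zz_1_296 : allRange chk_zz 20 30636 50 = true := by decide +kernel
theorem v_zz_1_296 : ∀ k, 15836 ≤ k → k < 30686 → chk_zz (k * 20) = true := between_extend chk_zz 20 15836 30636 50 (v_zz_1_295) r_zz_1_296

theorem r_zz_1_297 : allRange chk_zz 20 30686 50 = true := by decide +kernel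
theorem v_zz_1_297 : ∀ k, 15836 ≤ k → k < 30736 → chk_zz (k * 20) = true := between_extend chk_zz 20 15836 30686 50 (v_zz_1_296) r_zz_1_297

theorem r_zz_1_298 : allRange chk_zz 20 30736 50 = true := by decide +kernel
theorem v_zz_1_298 : ∀ k, 15836 ≤ k → k < 30786 → chk_zz (k * 20) = true := between_extend chk_zz 20 15836 30736 50 (v_zz_1_297) r_zz_1_298

theorem r_zz_1_299 : allRange chk_zz 20 30786 50 = true := by decide +kernel
theorem v_zz_1_299 : ∀ k, 15836 ≤ k → k < 30836 → chk_zz (k * 20) = true := between_extend chk_zz 20 15836 30786 50 (v_zz_1_298) r_zz_1_299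

theorem r_zz_1_300 : allRange chk_zz 20 30836 50 = true := by decide +kernel
theorem v_zz_1_300 : ∀ k, 15836 ≤ k → k < 30886 → chk_zz (k * 20) = true := between_extend chk_zz 20 15836 30836 50 (v_zz_1_299) r_zz_1_300

theorem r_zz_1_301 : allRange chk_zz 20 30886 50 = true := by decide +kernel
theorem v_zz_1_301 : ∀ k, 15836 ≤ k → k < 30936 → chk_zz (k * 20) = true := between_extend chk_zz 20 15836 30886 50 (v_zz_1_300) r_zz_1_301

theorem r_zz_1_302 : allRange chk_zz 20 30936 50 = true := by decide +kernel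
theorem v_zz_1_302 : ∀ k, 15836 ≤ k → k < 30986 → chk_zz (k * 20) = true := between_extend chk_zz 20 15836 30936 50 (v_zz_1_301) r_zz_1_302

theorem r_zz_1_303 : allRange chk_zz 20 30986 50 = true := by decide +kernel
theorem v_zz_1_303 : ∀ k, 15836 ≤ k → k < 31036 → chk_zz (k * 20) = true := between_extend chk_zz 20 15836 30986 50 (v_zz_1_302) r_zz_1_303

theorem r_zz_1_304 : allRange chk_zz 20 31036 50 = true := by decide +kernel
theorem v_zz_1_304 : ∀ k, 15836 ≤ k → k < 31086 → chk_zz (k * 20) = true := between_extend chk_zz 20 15836 31036 50 (v_zz_1_303) r_zz_1_304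

theorem r_zz_1_305 : allRange chk_zz 20 31086 50 = true := by decide +kernel
theorem v_zz_1_305 : ∀ k, 15836 ≤ k → k < 31136 → chk_zz (k * 20) = true := between_extend chk_zz 20 15836 31086 50 (v_zz_1_304) r_zz_1_305

theorem r_zz_1_306 : allRange chk_zz 20 31136 50 = true := by decide +kernel
theorem v_zz_1_306 : ∀ k, 15836 ≤ k → k < 31186 → chk_zz (k * 20) = true := between_extend chk_zz 20 15836 31136 50 (v_zz_1_305) r_zz_1_306

theorem r_zz_1_307 : allRange chk_zz 20 31186 50 = true := by decide +kernel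
theorem v_zz_1_307 : ∀ k, 15836 ≤ k → k < 31236 → chk_zz (k * 20) = true := between_extend chk_zz 20 15836 31186 50 (v_zz_1_306) r_zz_1_307

theorem r_zz_1_308 : allRange chk_zz 20 31236 50 = true := by decide +kernel
theorem v_zz_1_308 : ∀ k, 15836 ≤ k → k < 31286 → chk_zz (k * 20) = true := between_extend chk_zz 20 15836 31236 50 (v_zz_1_307) r_zz_1_308

theorem r_zz_1_309 : allRange chk_zz 20 31286 50 = true := by decide +kernel
theorem v_zz_1_309 : ∀ k, 15836 ≤ k → k < 31336 → chk_zz (k * 20) = true := between_extend chk_zz 20 15836 31286 50 (v_zz_1_308) r_zz_1_309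

theorem r_zz_1_310 : allRange chk_zz 20 31336 50 = true := by decide +kernel
theorem v_zz_1_310 : ∀ k, 15836 ≤ k → k < 31386 → chk_zz (k * 20) = true := between_extend chk_zz 20 15836 31336 50 (v_zz_1_309) r_zz_1_310

theorem r_zz_1_311 : allRange chk_zz 20 31386 50 = true := by decide +kernel
theorem v_zz_1_311 : ∀ k, 15836 ≤ k → k < 31436 → chk_zz (k * 20) = true := between_extend chk_zz 20 15836 31386 50 (v_zz_1_310) r_zz_1_311

theorem r_zz_1_312 : allRange chk_zz 20 31436 50 = true := by decide +kernel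
theorem v_zz_1_312 : ∀ k, 15836 ≤ k → k < 31486 → chk_zz (k * 20) = true := between_extend chk_zz 20 15836 31436 50 (v_zz_1_311) r_zz_1_312

theorem r_zz_1_313 : allRange chk_zz 20 31486 50 = true := by decide +kernel
theorem v_zz_1_313 : ∀ k, 15836 ≤ k → k < 31536 → chk_zz (k * 20) = true := between_extend chk_zz 20 15836 31486 50 (v_zz_1_312) r_zz_1_313

theorem r_zz_1_314 : allRange chk_zz 20 31536 50 = true := by decide +kernel
theorem v_zz_1_314 : ∀ k, 15836 ≤ k → k < 31586 → chk_zz (k * 20) = true := between_extend chk_zz 20 15836 31536 50 (v_zz_1_313) r_zz_1_314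

theorem r_zz_1_315 : allRange chk_zz 20 31586 50 = true := by decide +kernel
theorem v_zz_1_315 : ∀ k, 15836 ≤ k → k < 31636 → chk_zz (k * 20) = true := between_extend chk_zz 20 15836 31586 50 (v_zz_1_314) r_zz_1_315

theorem r_zz_1_316 : allRange chk_zz 20 31636 35 = true := by decide +kernel
theorem v_zz_1_316 : ∀ k, 15836 ≤ k → k < 31671 → chk_zz (k * 20) = true := between_extend chk_zz 20 15836 31636 35 (v_zz_1_315) r_zz_1_316

theorem p_zz_1 : ∀ k, 15836 ≤ k → k < 31671 → chk_zz (k * 20) = true := v_zz_1_316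

end Cfsg.Agent.Lib.Helper28_Y5FiW
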