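import Cfsg.Agent.Lib.Helper28_Y5FiWP0
import Cfsg.Agent.Lib.Helper28_Y5FiWP1
import Cfsg.Agent.Lib.Helper28_Y5FiWP2
import Cfsg.Agent.Lib.Helper28_Y5FiWP3
import Cfsg.Agent.Lib.Helper28_Y5FiWP4
import Cfsg.Agent.Lib.Helper28_Y5FiWP5
import Cfsg.Agent.Lib.Helper28_Y5FiWP6
import Cfsg.Agent.Lib.Helper28_Y5FiWP7
import Cfsg.Agent.Lib.Helper28_Y5FiWP8
import Cfsg.Agent.Lib.Helper28_Y5FiWP9
import Cfsg.Agent.Lib.Helper28_Y5FiWP10
import Cfsg.Agent.Lib.Helper28_Y5FiWP11
import Cfsg.Agent.Lib.Helper28_Y5FiWP12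
import Cfsg.Agent.Lib.Helper28_Y5FiWP13
import Cfsg.Agent.Lib.Helper28_Y5FiWP14
import Cfsg.Agent.Lib.Helper28_Y5FiWP15
import Cfsg.Agent.Lib.Helper28_Y5FiWP16
import Cfsg.Agent.Lib.Helper28_Y5FiWP17
import Cfsg.Agent.Lib.Helper28_Y5FiWP18
import Cfsg.Agent.Lib.Helper28_Y5FiWP19
import Cfsg.Agent.Lib.Helper28_Y5FiWP20
import Cfsg.Agent.Lib.Helper28_Y5FiWP21
import Cfsg.Agent.Lib.Helper28_Y5FiWP22
import Cfsg.Agent.Lib.Helper28_Y5FiWP23
import Cfsg.Agent.Lib.Helper28_Y5FiWP24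
import Cfsg.Agent.Lib.Helper28_Y5FiWP25
import Cfsg.Agent.Lib.Helper28_Y5FiWP26

/-!
# Word identities in `Fi₂₃` checked on the verified 31671-point coset table (helper28)
-/

set_option autoImplicit false
set_option linter.constructorNameAsVariable false
set_option Elab.async false

namespace Cfsg.Agent.Lib.Helper28_Y5FiW

open Cfsg.Spor Cfsg.Agent.Lib.Helper28_CosetPerm Cfsg.Agent.Lib.Helper28_Fi23Order

theorem triv_spider : FreeGroup.lift (perm Cfsg.Agent.Lib.Helper28_S1689.verified.hv) (FreeGroup.mk u_spider) = 1 := by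
  apply lift_eq_one_of_walk
  intro k hk
  exact Nat.eq_of_beq_eq_true (between_all chk_spider 20 31671 (between_trans chk_spider 20 0 15836 31671 p_spider_0 p_spider_1) k hk)

theorem one_spider : PresentedGroup.mk RELS (FreeGroup.mk u_spider) = 1 := by
  apply eq_one_of_act
  show psi _ _ (PresentedGroup.mk RELS _) = 1
  rw [psi_mk]
  exact triv_spider

theorem triv_zz : FreeGroup.lift (perm Cfsg.Agent.Lib.Helper28_S1689.verified.hv) (FreeGroup.mk u_zz) = 1 := by
  apply lift_eq_one_of_walk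
  intro k hk
  exact Nat.eq_of_beq_eq_true (between_all chk_zz 20 31671 (between_trans chk_zz 20 0 15836 31671 p_zz_0 p_zz_1) k hk)

theorem one_zz : PresentedGroup.mk RELS (FreeGroup.mk u_zz) = 1 := by
  apply eq_one_of_act
  show psi _ _ (PresentedGroup.mk RELS _) = 1
  rw [psi_mk]
  exact triv_zz

theorem triv_c_a : FreeGroup.lift (perm Cfsg.Agent.Lib.Helper28_S1689.verified.hv) (FreeGroup.mk u_c_a) = 1 := by
  apply lift_eq_one_of_walk
  intro k hk
  exact Nat.eq_of_beq_eq_true (between_all chk_c_a 20 31671 (between_trans chk_c_a 20 0 15836 31671 p_c_a_0 p_c_a_1) k hk)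

theorem one_c_a : PresentedGroup.mk RELS (FreeGroup.mk u_c_a) = 1 := by
  apply eq_one_of_act
  show psi _ _ (PresentedGroup.mk RELS _) = 1
  rw [psi_mk]
  exact triv_c_a

theorem triv_c_b1 : FreeGroup.lift (perm Cfsg.Agent.Lib.Helper28_S1689.verified.hv) (FreeGroup.mk u_c_b1) = 1 := by
  apply lift_eq_one_of_walk
  intro k hk
  exact Nat.eq_of_beq_eq_true (between_all chk_c_b1 20 31671 (between_trans chk_c_b1 20 0 15836 31671 p_c_b1_0 p_c_b1_1) k hk)

theorem one_c_b1 : PresentedGroup.mk RELS (FreeGroup.mk u_c_b1) = 1 := by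
  apply eq_one_of_act
  show psi _ _ (PresentedGroup.mk RELS _) = 1
  rw [psi_mk]
  exact triv_c_b1

theorem triv_c_c1 : FreeGroup.lift (perm Cfsg.Agent.Lib.Helper28_S1689.verified.hv) (FreeGroup.mk u_c_c1) = 1 := by
  apply lift_eq_one_of_walk
  intro k hk
  exact Nat.eq_of_beq_eq_true (between_all chk_c_c1 20 31671 (between_trans chk_c_c1 20 0 15836 31671 p_c_c1_0 p_c_c1_1) k hk)

theorem one_c_c1 : PresentedGroup.mk RELS (FreeGroup.mk u_c_c1) = 1 := by
  apply eq_one_of_act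
  show psi _ _ (PresentedGroup.mk RELS _) = 1
  rw [psi_mk]
  exact triv_c_c1

theorem triv_c_d1 : FreeGroup.lift (perm Cfsg.Agent.Lib.Helper28_S1689.verified.hv) (FreeGroup.mk u_c_d1) = 1 := by
  apply lift_eq_one_of_walk
  intro k hk
  exact Nat.eq_of_beq_eq_true (between_all chk_c_d1 20 31671 (between_trans chk_c_d1 20 0 15836 31671 p_c_d1_0 p_c_d1_1) k hk)

theorem one_c_d1 : PresentedGroup.mk RELS (FreeGroup.mk u_c_d1) = 1 := by
  apply eq_one_of_act
  show psi _ _ (PresentedGroup.mk RELS _) = 1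
  rw [psi_mk]
  exact triv_c_d1

theorem triv_c_b2 : FreeGroup.lift (perm Cfsg.Agent.Lib.Helper28_S1689.verified.hv) (FreeGroup.mk u_c_b2) = 1 := by
  apply lift_eq_one_of_walk
  intro k hk
  exact Nat.eq_of_beq_eq_true (between_all chk_c_b2 20 31671 (between_trans chk_c_b2 20 0 15836 31671 p_c_b2_0 p_c_b2_1) k hk)

theorem one_c_b2 : PresentedGroup.mk RELS (FreeGroup.mk u_c_b2) = 1 := by
  apply eq_one_of_act
  show psi _ _ (PresentedGroup.mk RELS _) = 1
  rw [psi_mk]
  exact triv_c_b2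

theorem triv_c_c2 : FreeGroup.lift (perm Cfsg.Agent.Lib.Helper28_S1689.verified.hv) (FreeGroup.mk u_c_c2) = 1 := by
  apply lift_eq_one_of_walk
  intro k hk
  exact Nat.eq_of_beq_eq_true (between_all chk_c_c2 20 31671 (between_trans chk_c_c2 20 0 15836 31671 p_c_c2_0 p_c_c2_1) k hk)

theorem one_c_c2 : PresentedGroup.mk RELS (FreeGroup.mk u_c_c2) = 1 := by
  apply eq_one_of_act
  show psi _ _ (PresentedGroup.mk RELS _) = 1
  rw [psi_mk]
  exact triv_c_c2

theorem triv_c_d2 : FreeGroup.lift (perm Cfsg.Agent.Lib.Helper28_S1689.verified.hv) (FreeGroup.mk u_c_d2) = 1 := by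
  apply lift_eq_one_of_walk
  intro k hk
  exact Nat.eq_of_beq_eq_true (between_all chk_c_d2 20 31671 (between_trans chk_c_d2 20 0 15836 31671 p_c_d2_0 p_c_d2_1) k hk)

theorem one_c_d2 : PresentedGroup.mk RELS (FreeGroup.mk u_c_d2) = 1 := by
  apply eq_one_of_act
  show psi _ _ (PresentedGroup.mk RELS _) = 1
  rw [psi_mk]
  exact triv_c_d2

theorem triv_c_b3 : FreeGroup.lift (perm Cfsg.Agent.Lib.Helper28_S1689.verified.hv) (FreeGroup.mk u_c_b3) = 1 := by
  apply lift_eq_one_of_walk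
  intro k hk
  exact Nat.eq_of_beq_eq_true (between_all chk_c_b3 20 31671 (between_trans chk_c_b3 20 0 15836 31671 p_c_b3_0 p_c_b3_1) k hk)

theorem one_c_b3 : PresentedGroup.mk RELS (FreeGroup.mk u_c_b3) = 1 := by
  apply eq_one_of_act
  show psi _ _ (PresentedGroup.mk RELS _) = 1
  rw [psi_mk]
  exact triv_c_b3

theorem triv_c_c3 : FreeGroup.lift (perm Cfsg.Agent.Lib.Helper28_S1689.verified.hv) (FreeGroup.mk u_c_c3) = 1 := by
  apply lift_eq_one_of_walk
  intro k hk
  exact Nat.eq_of_beq_eq_true (between_all chk_c_c3 20 31671 (between_trans chk_c_c3 20 0 15836 31671 p_c_c3_0 p_c_c3_1) k hk)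

theorem one_c_c3 : PresentedGroup.mk RELS (FreeGroup.mk u_c_c3) = 1 := by
  apply eq_one_of_act
  show psi _ _ (PresentedGroup.mk RELS _) = 1
  rw [psi_mk]
  exact triv_c_c3

theorem triv_braid : FreeGroup.lift (perm Cfsg.Agent.Lib.Helper28_S1689.verified.hv) (FreeGroup.mk u_braid) = 1 := by
  apply lift_eq_one_of_walk
  intro k hk
  exact Nat.eq_of_beq_eq_true (between_all chk_braid 20 31671 (between_trans chk_braid 20 0 21114 31671 (between_trans chk_braid 20 0 10557 21114 p_braid_0 p_braid_1) p_braid_2) k hk)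

theorem one_braid : PresentedGroup.mk RELS (FreeGroup.mk u_braid) = 1 := by
  apply eq_one_of_act
  show psi _ _ (PresentedGroup.mk RELS _) = 1
  rw [psi_mk]
  exact triv_braid

theorem triv_z12 : FreeGroup.lift (perm Cfsg.Agent.Lib.Helper28_S1689.verified.hv) (FreeGroup.mk u_z12) = 1 := by
  apply lift_eq_one_of_walk
  intro k hk
  exact Nat.eq_of_beq_eq_true (between_all chk_z12 20 31671 (between_trans chk_z12 20 0 15836 31671 p_z12_0 p_z12_1) k hk)

theorem one_z12 : PresentedGroup.mk RELS (FreeGroup.mk u_z12) = 1 := by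
  apply eq_one_of_act
  show psi _ _ (PresentedGroup.mk RELS _) = 1
  rw [psi_mk]
  exact triv_z12

end Cfsg.Agent.Lib.Helper28_Y5FiW
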