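import Cfsg.Agent.Lib.Helper28_Fi23Order

/-!
# Word identities in `Fi₂₃` checked on the verified 31671-point coset table: the words (helper28; generated by tools/helper28/y5/gen_fiw.py)
-/

set_option autoImplicit false
set_option linter.constructorNameAsVariable false
set_option Elab.async false

namespace Cfsg.Agent.Lib.Helper28_Y5FiW

open Cfsg.Spor Cfsg.Agent.Lib.Helper28_CosetPerm Cfsg.Agent.Lib.Helper28_Fi23Order

/-- the word `spider` -/
def u_spider : List (Cfsg.Spor.Fi23.Gen × Bool) := [(.d, true), (.e, true), (.f, true), (.d, true), (.c, true), (.b, true), (.d, true), (.h, true), (.i, true), (.d, true), (.e, true), (.f, true), (.d, true), (.c, true), (.b, true), (.d, true), (.h, true), (.i, true), (.d, true), (.e, true), (.f, true), (.d, true), (.c, true), (.b, true), (.d, true), (.h, true), (.i, true), (.d, true), (.e, true), (.f, true), (.d, true), (.c, true), (.b, true), (.d, true), (.h, true), (.i, true), (.d, true), (.e, true), (.f, true), (.d, true), (.c, true), (.b, true), (.d, true), (.h, true), (.i, true), (.d, true), (.e, true), (.f, true), (.d, true), (.c, true), (.b, true), (.d, true), (.h, true), (.i, true), (.d, true),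 (.e, true), (.f, true), (.d, true), (.c, true), (.b, true), (.d, true), (.h, true), (.i, true), (.d, true), (.e, true), (.f, true), (.d, true), (.c, true), (.b, true), (.d, true), (.h, true), (.i, true), (.d, true), (.e, true), (.f, true), (.d, true), (.c, true), (.b, true), (.d, true), (.h, true), (.i, true), (.d, true), (.e, true), (.f, true), (.d, true), (.c, true), (.b, true), (.d, true), (.h, true), (.i, true)]

def chk_spider (x : ℕ) : Bool := Nat.beq (walk 1048575 Cfsg.Agent.Lib.Helper28_S1689.col u_spider x) x

/-- the word `zz` -/
def u_zz : List (Cfsg.Spor.Fi23.Gen × Bool) := [(.d, true), (.e, true), (.c, true), (.h, true), (.f, true), (.b, true), (.g, true), (.d, true), (.e, true), (.c, true), (.h, true), (.f, true), (.b, true), (.g, true), (.d, true), (.e, true), (.c, true), (.h, true), (.f, true), (.b, true), (.g, true), (.d, true), (.e, true), (.c, true), (.h, true), (.f, true), (.b, true), (.g, true), (.d, true), (.e, true), (.c, true), (.h, true), (.f, true), (.b, true), (.g, true), (.d, true), (.e, true), (.c, true), (.h, true), (.f, true), (.b, true), (.g, true), (.d, true), (.e, true), (.c, true), (.h, true), (.f, true), (.b,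 true), (.g, true), (.d, true), (.e, true), (.c, true), (.h, true), (.f, true), (.b, true), (.g, true), (.d, true), (.e, true), (.c, true), (.h, true), (.f, true), (.b, true), (.g, true), (.d, true), (.e, true), (.c, true), (.h, true), (.f, true), (.b, true), (.g, true), (.d, true), (.e, true), (.c, true), (.h, true), (.f, true), (.b, true), (.g, true), (.d, true), (.e, true), (.c, true), (.h, true), (.f, true), (.b, true), (.g, true), (.d, true), (.e, true), (.c, true), (.h, true), (.f, true), (.b, true), (.g, true), (.d, true), (.e, true), (.c, true), (.h, true), (.f, true), (.b, true), (.g, true), (.d, true), (.e, true), (.c, true), (.h, true), (.f, true), (.b, true), (.g, true), (.d, true), (.e, true), (.c, true), (.h, true), (.f, true), (.b, true), (.g, true), (.d, true), (.e, true), (.c, true), (.h, true), (.f, true), (.b, true), (.g, true), (.d, true), (.e, true), (.c, true), (.h, true), (.f, true), (.b, true), (.g, true)]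

def chk_zz (x : ℕ) : Bool := Nat.beq (walk 1048575 Cfsg.Agent.Lib.Helper28_S1689.col u_zz x) x

/-- the word `c_a` -/
def u_c_a : List (Cfsg.Spor.Fi23.Gen × Bool) := [(.d, true), (.e, true), (.c, true), (.h, true), (.f, true), (.b, true), (.g, true), (.d, true), (.e, true), (.c, true), (.h, true), (.f, true), (.b, true), (.g, true), (.d, true), (.e, true), (.c, true), (.h, true), (.f, true), (.b, true), (.g, true), (.d, true), (.e, true), (.c, true), (.h, true), (.f, true), (.b, true), (.g, true), (.d, true), (.e, true), (.c, true), (.h, true), (.f, true), (.b, true), (.g, true), (.d, true), (.e, true), (.c, true), (.h, true), (.f, true), (.b, true), (.g, true), (.d, true), (.e, true), (.c, true), (.h, true), (.f, true), (.b, true), (.g, true), (.d, true), (.e, true), (.c, true), (.h, true), (.f, true), (.b, true), (.g, true), (.d, true), (.e, true), (.c, true), (.h, true), (.f, true), (.b, true), (.g, true), (.d, true), (.d, true), (.e, true), (.c, true), (.h, true), (.f, true), (.b, true), (.g, true), (.d, true), (.e, true), (.c, true), (.h, true), (.f, true), (.b, true), (.g, true), (.d, true), (.e, true), (.c, true), (.h, true), (.f, true),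 (.b, true), (.g, true), (.d, true), (.e, true), (.c, true), (.h, true), (.f, true), (.b, true), (.g, true), (.d, true), (.e, true), (.c, true), (.h, true), (.f, true), (.b, true), (.g, true), (.d, true), (.e, true), (.c, true), (.h, true), (.f, true), (.b, true), (.g, true), (.d, true), (.e, true), (.c, true), (.h, true), (.f, true), (.b, true), (.g, true), (.d, true), (.e, true), (.c, true), (.h, true), (.f, true), (.b, true), (.g, true), (.d, true), (.e, true), (.c, true), (.h, true), (.f, true), (.b, true), (.g, true), (.d, true)]

def chk_c_a (x : ℕ) : Bool := Nat.beq (walk 1048575 Cfsg.Agent.Lib.Helper28_S1689.col u_c_a x) x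

/-- the word `c_b1` -/
def u_c_b1 : List (Cfsg.Spor.Fi23.Gen × Bool) := [(.d, true), (.e, true), (.c, true), (.h, true), (.f, true), (.b, true), (.g, true), (.d, true), (.e, true), (.c, true), (.h, true), (.f, true), (.b, true), (.g, true), (.d, true), (.e, true), (.c, true), (.h, true), (.f, true), (.b, true), (.g, true), (.d, true), (.e, true), (.c, true), (.h, true), (.f, true), (.b, true), (.g, true), (.d, true), (.e, true), (.c, true), (.h, true), (.f, true), (.b, true), (.g, true), (.d, true), (.e, true), (.c, true), (.h, true), (.f, true), (.b, true), (.g, true), (.d, true), (.e, true), (.c, true), (.h, true), (.f, true), (.b, true), (.g, true), (.d, true), (.e, true), (.c, true), (.h, true), (.f, true), (.b, true), (.g, true), (.d, true), (.e, true), (.c, true), (.h, true), (.f, true), (.b, true), (.g, true), (.e, true), (.d, true), (.e, true), (.c, true), (.h, true), (.f, true), (.b, true), (.g, true), (.d, true), (.e, true), (.c, true), (.h, true), (.f, true), (.b, true), (.g, true), (.d, true), (.e, true), (.c, true), (.h, true), (.f, true), (.b, true), (.g, true), (.d, true), (.e, true), (.c, true), (.h, true), (.f, true), (.b,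 true), (.g, true), (.d, true), (.e, true), (.c, true), (.h, true), (.f, true), (.b, true), (.g, true), (.d, true), (.e, true), (.c, true), (.h, true), (.f, true), (.b, true), (.g, true), (.d, true), (.e, true), (.c, true), (.h, true), (.f, true), (.b, true), (.g, true), (.d, true), (.e, true), (.c, true), (.h, true), (.f, true), (.b, true), (.g, true), (.d, true), (.e, true), (.c, true), (.h, true), (.f, true), (.b, true), (.g, true), (.e, true)]

def chk_c_b1 (x : ℕ) : Bool := Nat.beq (walk 1048575 Cfsg.Agent.Lib.Helper28_S1689.col u_c_b1 x) x

/-- the word `c_c1` -/
def u_c_c1 : List (Cfsg.Spor.Fi23.Gen × Bool) := [(.d, true), (.e, true), (.c, true), (.h, true), (.f, true), (.b, true), (.g, true), (.d, true), (.e, true), (.c, true), (.h, true), (.f, true), (.b, true), (.g, true), (.d, true), (.e, true), (.c, true), (.h, true), (.f, true), (.b, true), (.g, true), (.d, true), (.e, true), (.c, true), (.h, true), (.f, true), (.b, true), (.g, true), (.d, true), (.e, true), (.c, true), (.h, true), (.f, true), (.b, true), (.g, true), (.d, true), (.e, true), (.c, true), (.h, true), (.f, true), (.b, true), (.g, true), (.d, true), (.e, true), (.c, true),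 (.h, true), (.f, true), (.b, true), (.g, true), (.d, true), (.e, true), (.c, true), (.h, true), (.f, true), (.b, true), (.g, true), (.d, true), (.e, true), (.c, true), (.h, true), (.f, true), (.b, true), (.g, true), (.f, true), (.d, true), (.e, true), (.c, true), (.h, true), (.f, true), (.b, true), (.g, true), (.d, true), (.e, true), (.c, true), (.h, true), (.f, true), (.b, true), (.g, true), (.d, true), (.e, true), (.c, true), (.h, true), (.f, true), (.b, true), (.g, true), (.d, true), (.e, true), (.c, true), (.h, true), (.f, true), (.b, true), (.g, true), (.d, true), (.e, true), (.c, true), (.h, true), (.f, true), (.b, true), (.g, true), (.d, true), (.e, true), (.c, true), (.h, true), (.f, true), (.b, true), (.g, true), (.d, true), (.e, true), (.c, true), (.h, true), (.f, true), (.b, true), (.g, true), (.d, true), (.e, true), (.c, true), (.h, true), (.f, true), (.b, true), (.g, true), (.d, true), (.e, true), (.c, true), (.h, true), (.f, true), (.b, true), (.g, true), (.f, true)]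

def chk_c_c1 (x : ℕ) : Bool := Nat.beq (walk 1048575 Cfsg.Agent.Lib.Helper28_S1689.col u_c_c1 x) x

/-- the word `c_d1` -/
def u_c_d1 : List (Cfsg.Spor.Fi23.Gen × Bool) := [(.d, true), (.e, true), (.c, true), (.h, true), (.f, true), (.b, true), (.g, true), (.d, true), (.e, true), (.c, true), (.h, true), (.f, true), (.b, true), (.g, true), (.d, true), (.e, true), (.c, true), (.h, true), (.f, true), (.b, true), (.g, true), (.d, true), (.e, true), (.c, true), (.h, true), (.f, true), (.b, true), (.g, true), (.d, true), (.e, true), (.c, true), (.h, true), (.f, true), (.b, true), (.g, true), (.d, true), (.e, true), (.c, true), (.h, true), (.f, true), (.b, true), (.g, true), (.d, true), (.e, true), (.c, true), (.h, true), (.f, true), (.b, true), (.g, true), (.d, true), (.e, true), (.c, true), (.h, true), (.f, true), (.b, true), (.g, true), (.d, true), (.e, true), (.c, true), (.h, true), (.f, true), (.b, true), (.g, true), (.g, true), (.d, true), (.e, true), (.c, true), (.h, true), (.f, true), (.b, true), (.g, true), (.d, true), (.e, true), (.c, true), (.h, true), (.f, true), (.b, true), (.g, true), (.d, true), (.e, true), (.c, true), (.h, true), (.f,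 true), (.b, true), (.g, true), (.d, true), (.e, true), (.c, true), (.h, true), (.f, true), (.b, true), (.g, true), (.d, true), (.e, true), (.c, true), (.h, true), (.f, true), (.b, true), (.g, true), (.d, true), (.e, true), (.c, true), (.h, true), (.f, true), (.b, true), (.g, true), (.d, true), (.e, true), (.c, true), (.h, true), (.f, true), (.b, true), (.g, true), (.d, true), (.e, true), (.c, true), (.h, true), (.f, true), (.b, true), (.g, true), (.d, true), (.e, true), (.c, true), (.h, true), (.f, true), (.b, true), (.g, true), (.g, true)]

def chk_c_d1 (x : ℕ) : Bool := Nat.beq (walk 1048575 Cfsg.Agent.Lib.Helper28_S1689.col u_c_d1 x) x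

/-- the word `c_b2` -/
def u_c_b2 : List (Cfsg.Spor.Fi23.Gen × Bool) := [(.d, true), (.e, true), (.c, true), (.h, true), (.f, true), (.b, true), (.g, true), (.d, true), (.e, true), (.c, true), (.h, true), (.f, true), (.b, true), (.g, true), (.d, true), (.e, true), (.c, true), (.h, true), (.f, true), (.b, true), (.g, true), (.d, true), (.e, true), (.c, true), (.h, true), (.f, true), (.b, true), (.g, true), (.d, true), (.e, true), (.c, true), (.h, true), (.f, true), (.b, true), (.g, true), (.d, true), (.e, true), (.c, true), (.h, true), (.f, true), (.b, true), (.g, true), (.d, true), (.e, true), (.c, true), (.h, true), (.f, true), (.b, true), (.g, true), (.d, true), (.e, true), (.c, true), (.h, true), (.f, true), (.b, true), (.g, true), (.d, true), (.e, true), (.c, true), (.h, true), (.f, true), (.b, true), (.g, true), (.c, true), (.d, true), (.e, true), (.c, true), (.h, true), (.f, true), (.b, true), (.g, true), (.d, true), (.e, true), (.c, true), (.h, true), (.f, true), (.b, true), (.g, true), (.d, true), (.e, true), (.c, true), (.h, true), (.f, true), (.b, true), (.g, true), (.d, true), (.e, true), (.c, true), (.h, true), (.f, true), (.b,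 true), (.g, true), (.d, true), (.e, true), (.c, true), (.h, true), (.f, true), (.b, true), (.g, true), (.d, true), (.e, true), (.c, true), (.h, true), (.f, true), (.b, true), (.g, true), (.d, true), (.e, true), (.c, true), (.h, true), (.f, true), (.b, true), (.g, true), (.d, true), (.e, true), (.c, true), (.h, true), (.f, true), (.b, true), (.g, true), (.d, true), (.e, true), (.c, true), (.h, true), (.f, true), (.b, true), (.g, true), (.c, true)]

def chk_c_b2 (x : ℕ) : Bool := Nat.beq (walk 1048575 Cfsg.Agent.Lib.Helper28_S1689.col u_c_b2 x) x

/-- the word `c_c2` -/
def u_c_c2 : List (Cfsg.Spor.Fi23.Gen × Bool) := [(.d, true), (.e, true), (.c, true), (.h, true), (.f, true), (.b, true), (.g, true), (.d, true), (.e, true), (.c, true), (.h, true), (.f, true), (.b, true), (.g, true), (.d, true), (.e, true), (.c, true), (.h, true), (.f, true), (.b, true), (.g, true), (.d, true), (.e, true), (.c, true), (.h, true), (.f, true), (.b, true), (.g, true), (.d, true), (.e, true), (.c, true), (.h, true), (.f, true), (.b, true), (.g, true), (.d, true), (.e, true), (.c, true), (.h, true), (.f, true), (.b, true), (.g, true), (.d, true), (.e, true), (.c, true),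 (.h, true), (.f, true), (.b, true), (.g, true), (.d, true), (.e, true), (.c, true), (.h, true), (.f, true), (.b, true), (.g, true), (.d, true), (.e, true), (.c, true), (.h, true), (.f, true), (.b, true), (.g, true), (.b, true), (.d, true), (.e, true), (.c, true), (.h, true), (.f, true), (.b, true), (.g, true), (.d, true), (.e, true), (.c, true), (.h, true), (.f, true), (.b, true), (.g, true), (.d, true), (.e, true), (.c, true), (.h, true), (.f, true), (.b, true), (.g, true), (.d, true), (.e, true), (.c, true), (.h, true), (.f, true), (.b, true), (.g, true), (.d, true), (.e, true), (.c, true), (.h, true), (.f, true), (.b, true), (.g, true), (.d, true), (.e, true), (.c, true), (.h, true), (.f, true), (.b, true), (.g, true), (.d, true), (.e, true), (.c, true), (.h, true), (.f, true), (.b, true), (.g, true), (.d, true), (.e, true), (.c, true), (.h, true), (.f, true), (.b, true), (.g, true), (.d, true), (.e, true), (.c, true), (.h, true), (.f, true), (.b, true), (.g, true), (.b, true)]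

def chk_c_c2 (x : ℕ) : Bool := Nat.beq (walk 1048575 Cfsg.Agent.Lib.Helper28_S1689.col u_c_c2 x) x

/-- the word `c_d2` -/
def u_c_d2 : List (Cfsg.Spor.Fi23.Gen × Bool) := [(.d, true), (.e, true), (.c, true), (.h, true), (.f, true), (.b, true), (.g, true), (.d, true), (.e, true), (.c, true), (.h, true), (.f, true), (.b, true), (.g, true), (.d, true), (.e, true), (.c, true), (.h, true), (.f, true), (.b, true), (.g, true), (.d, true), (.e, true), (.c, true), (.h, true), (.f, true), (.b, true), (.g, true), (.d, true), (.e, true), (.c, true), (.h, true), (.f, true), (.b, true), (.g, true), (.d, true), (.e, true), (.c, true), (.h, true), (.f, true), (.b, true), (.g, true), (.d, true), (.e, true), (.c, true), (.h, true), (.f, true), (.b, true), (.g, true), (.d, true), (.e, true), (.c, true), (.h, true), (.f, true), (.b, true), (.g, true), (.d, true), (.e, true), (.c, true), (.h, true), (.f, true), (.b, true), (.g, true), (.a, true), (.d, true), (.e, true), (.c, true), (.h, true), (.f, true), (.b, true), (.g, true), (.d, true), (.e, true), (.c, true), (.h, true), (.f, true), (.b, true), (.g, true), (.d, true), (.e, true), (.c, true), (.h, true), (.f,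 true), (.b, true), (.g, true), (.d, true), (.e, true), (.c, true), (.h, true), (.f, true), (.b, true), (.g, true), (.d, true), (.e, true), (.c, true), (.h, true), (.f, true), (.b, true), (.g, true), (.d, true), (.e, true), (.c, true), (.h, true), (.f, true), (.b, true), (.g, true), (.d, true), (.e, true), (.c, true), (.h, true), (.f, true), (.b, true), (.g, true), (.d, true), (.e, true), (.c, true), (.h, true), (.f, true), (.b, true), (.g, true), (.d, true), (.e, true), (.c, true), (.h, true), (.f, true), (.b, true), (.g, true), (.a, true)]

def chk_c_d2 (x : ℕ) : Bool := Nat.beq (walk 1048575 Cfsg.Agent.Lib.Helper28_S1689.col u_c_d2 x) x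

/-- the word `c_b3` -/
def u_c_b3 : List (Cfsg.Spor.Fi23.Gen × Bool) := [(.d, true), (.e, true), (.c, true), (.h, true), (.f, true), (.b, true), (.g, true), (.d, true), (.e, true), (.c, true), (.h, true), (.f, true), (.b, true), (.g, true), (.d, true), (.e, true), (.c, true), (.h, true), (.f, true), (.b, true), (.g, true), (.d, true), (.e, true), (.c, true), (.h, true), (.f, true), (.b, true), (.g, true), (.d, true), (.e, true), (.c, true), (.h, true), (.f, true), (.b, true), (.g, true), (.d, true), (.e, true), (.c, true), (.h, true), (.f, true), (.b, true), (.g, true), (.d, true), (.e, true), (.c, true), (.h, true), (.f, true), (.b, true), (.g, true), (.d, true), (.e, true), (.c, true), (.h, true), (.f, true), (.b, true), (.g, true), (.d, true), (.e, true), (.c, true), (.h, true), (.f, true), (.b, true), (.g, true), (.h, true), (.d, true), (.e, true), (.c, true), (.h, true), (.f, true), (.b, true), (.g, true), (.d, true), (.e, true), (.c, true), (.h, true), (.f, true), (.b, true), (.g, true), (.d, true), (.e, true), (.c, true), (.h, true), (.f, true), (.b, true), (.g, true), (.d, true), (.e, true), (.c, true), (.h, true), (.f, true), (.b,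 true), (.g, true), (.d, true), (.e, true), (.c, true), (.h, true), (.f, true), (.b, true), (.g, true), (.d, true), (.e, true), (.c, true), (.h, true), (.f, true), (.b, true), (.g, true), (.d, true), (.e, true), (.c, true), (.h, true), (.f, true), (.b, true), (.g, true), (.d, true), (.e, true), (.c, true), (.h, true), (.f, true), (.b, true), (.g, true), (.d, true), (.e, true), (.c, true), (.h, true), (.f, true), (.b, true), (.g, true), (.h, true)]

def chk_c_b3 (x : ℕ) : Bool := Nat.beq (walk 1048575 Cfsg.Agent.Lib.Helper28_S1689.col u_c_b3 x) x

/-- the word `c_c3` -/
def u_c_c3 : List (Cfsg.Spor.Fi23.Gen × Bool) := [(.d, true), (.e, true), (.c, true), (.h, true), (.f, true), (.b, true), (.g, true), (.d, true), (.e, true), (.c, true), (.h, true), (.f, true), (.b, true), (.g, true), (.d, true), (.e, true), (.c, true), (.h, true), (.f, true), (.b, true), (.g, true), (.d, true), (.e, true), (.c, true), (.h, true), (.f, true), (.b, true), (.g, true), (.d, true), (.e, true), (.c, true), (.h, true), (.f, true), (.b, true), (.g, true), (.d, true), (.e, true), (.c, true), (.h, true), (.f, true), (.b, true), (.g, true), (.d, true), (.e, true), (.c, true),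 (.h, true), (.f, true), (.b, true), (.g, true), (.d, true), (.e, true), (.c, true), (.h, true), (.f, true), (.b, true), (.g, true), (.d, true), (.e, true), (.c, true), (.h, true), (.f, true), (.b, true), (.g, true), (.i, true), (.d, true), (.e, true), (.c, true), (.h, true), (.f, true), (.b, true), (.g, true), (.d, true), (.e, true), (.c, true), (.h, true), (.f, true), (.b, true), (.g, true), (.d, true), (.e, true), (.c, true), (.h, true), (.f, true), (.b, true), (.g, true), (.d, true), (.e, true), (.c, true), (.h, true), (.f, true), (.b, true), (.g, true), (.d, true), (.e, true), (.c, true), (.h, true), (.f, true), (.b, true), (.g, true), (.d, true), (.e, true), (.c, true), (.h, true), (.f, true), (.b, true), (.g, true), (.d, true), (.e, true), (.c, true), (.h, true), (.f, true), (.b, true), (.g, true), (.d, true), (.e, true), (.c, true), (.h, true), (.f, true), (.b, true), (.g, true), (.d, true), (.e, true), (.c, true), (.h, true), (.f, true), (.b, true), (.g, true), (.i, true)]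

def chk_c_c3 (x : ℕ) : Bool := Nat.beq (walk 1048575 Cfsg.Agent.Lib.Helper28_S1689.col u_c_c3 x) x

/-- the word `braid` -/
def u_braid : List (Cfsg.Spor.Fi23.Gen × Bool) := [(.d, true), (.e, true), (.c, true), (.h, true), (.f, true), (.b, true), (.g, true), (.d, true), (.e, true), (.c, true), (.h, true), (.f, true), (.b, true), (.g, true), (.d, true), (.e, true), (.c, true), (.h, true), (.f, true), (.b, true), (.g, true), (.d, true), (.e, true), (.c, true), (.h, true), (.f, true), (.b, true), (.g, true), (.d, true), (.e, true), (.c, true), (.h, true), (.f, true), (.b, true), (.g, true), (.d, true), (.e, true), (.c, true), (.h, true), (.f, true), (.b, true), (.g, true), (.d, true), (.e, true), (.c, true), (.h, true), (.f, true), (.b, true), (.g, true), (.d, true), (.e, true), (.c, true), (.h, true), (.f, true), (.b, true), (.g, true), (.d, true), (.e, true), (.c, true), (.h, true), (.f, true), (.b, true), (.g, true), (.j, true), (.d, true), (.e, true), (.c, true), (.h, true), (.f, true), (.b, true), (.g, true), (.d, true), (.e, true), (.c, true), (.h, true), (.f, true), (.b, true), (.g, true), (.d, true), (.e, true), (.c, true), (.h, true),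 (.f, true), (.b, true), (.g, true), (.d, true), (.e, true), (.c, true), (.h, true), (.f, true), (.b, true), (.g, true), (.d, true), (.e, true), (.c, true), (.h, true), (.f, true), (.b, true), (.g, true), (.d, true), (.e, true), (.c, true), (.h, true), (.f, true), (.b, true), (.g, true), (.d, true), (.e, true), (.c, true), (.h, true), (.f, true), (.b, true), (.g, true), (.d, true), (.e, true), (.c, true), (.h, true), (.f, true), (.b, true), (.g, true), (.d, true), (.e, true), (.c, true), (.h, true), (.f, true), (.b, true), (.g, true), (.j, true), (.d, true), (.e, true), (.c, true), (.h, true), (.f, true), (.b, true), (.g, true), (.d, true), (.e, true), (.c, true), (.h, true), (.f, true), (.b, true), (.g, true), (.d, true), (.e, true), (.c, true), (.h, true), (.f, true), (.b, true), (.g, true), (.d, true), (.e, true), (.c, true), (.h, true), (.f, true), (.b, true), (.g, true), (.d, true), (.e, true), (.c, true), (.h, true), (.f, true), (.b, true), (.g, true), (.d, true), (.e, true), (.c, true), (.h, true), (.f, true), (.b, true), (.g, true), (.d, true), (.e, true), (.c, true), (.h, true), (.f, true), (.b, true), (.g, true), (.d, true), (.e, true),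 (.c, true), (.h, true), (.f, true), (.b, true), (.g, true), (.d, true), (.e, true), (.c, true), (.h, true), (.f, true), (.b, true), (.g, true), (.j, true)]

def chk_braid (x : ℕ) : Bool := Nat.beq (walk 1048575 Cfsg.Agent.Lib.Helper28_S1689.col u_braid x) x

/-- the word `z12` -/
def u_z12 : List (Cfsg.Spor.Fi23.Gen × Bool) := [(.d, true), (.e, true), (.c, true), (.h, true), (.f, true), (.b, true), (.g, true), (.d, true), (.e, true), (.c, true), (.h, true), (.f, true), (.b, true), (.g, true), (.d, true), (.e, true), (.c, true), (.h, true), (.f, true), (.b, true), (.g, true), (.d, true), (.e, true), (.c, true), (.h, true), (.f, true), (.b, true), (.g, true), (.d, true), (.e, true), (.c, true), (.h, true), (.f, true), (.b, true), (.g, true), (.d, true), (.e, true), (.c, true), (.h, true), (.f, true), (.b, true), (.g, true), (.d, true), (.e, true), (.c, true), (.h, true), (.f, true), (.b, true), (.g, true), (.d, true), (.e, true), (.c, true), (.h, true), (.f, true), (.b, true), (.g, true), (.d, true), (.e, true), (.c, true), (.h, true), (.f, true), (.b, true), (.g, true), (.g, false), (.i, false), (.f, false), (.c, false), (.h, false), (.e, false),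 (.d, false), (.g, false), (.i, false), (.f, false), (.c, false), (.h, false), (.e, false), (.d, false), (.g, false), (.i, false), (.f, false), (.c, false), (.h, false), (.e, false), (.d, false), (.g, false), (.i, false), (.f, false), (.c, false), (.h, false), (.e, false), (.d, false), (.g, false), (.i, false), (.f, false), (.c, false), (.h, false), (.e, false), (.d, false), (.g, false), (.i, false), (.f, false), (.c, false), (.h, false), (.e, false), (.d, false), (.g, false), (.i, false), (.f, false), (.c, false), (.h, false), (.e, false), (.d, false), (.g, false), (.i, false), (.f, false), (.c, false), (.h, false), (.e, false), (.d, false), (.g, false), (.i, false), (.f, false), (.c, false), (.h, false), (.e, false), (.d, false)]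

def chk_z12 (x : ℕ) : Bool := Nat.beq (walk 1048575 Cfsg.Agent.Lib.Helper28_S1689.col u_z12 x) x

end Cfsg.Agent.Lib.Helper28_Y5FiW
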