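import Cfsg.Agent.Lib.Helper28_Y5FiWDef

set_option autoImplicit false
set_option linter.constructorNameAsVariable false
set_option Elab.async false

namespace Cfsg.Agent.Lib.Helper28_Y5FiW

open Cfsg.Agent.Lib.Helper28_CosetPerm

theorem r_spider_0_0 : allRange chk_spider 20 0 70 = true := by decide +kernel
theorem v_spider_0_0 : ∀ k, 0 ≤ k → k < 70 → chk_spider (k * 20) = true := between_extend chk_spider 20 0 0 70 (between_start chk_spider 20 0) r_spider_0_0

theorem r_spider_0_1 : allRange chk_spider 20 70 70 = true := by decide +kernel
theorem v_spider_0_1 : ∀ k, 0 ≤ k → k < 140 → chk_spider (k * 20) = true := between_extend chk_spider 20 0 70 70 (v_spider_0_0) r_spider_0_1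

theorem r_spider_0_2 : allRange chk_spider 20 140 70 = true := by decide +kernel
theorem v_spider_0_2 : ∀ k, 0 ≤ k → k < 210 → chk_spider (k * 20) = true := between_extend chk_spider 20 0 140 70 (v_spider_0_1) r_spider_0_2

theorem r_spider_0_3 : allRange chk_spider 20 210 70 = true := by decide +kernel
theorem v_spider_0_3 : ∀ k, 0 ≤ k → k < 280 → chk_spider (k * 20) = true := between_extend chk_spider 20 0 210 70 (v_spider_0_2) r_spider_0_3

theorem r_spider_0_4 : allRange chk_spider 20 280 70 = true := by decide +kernel
theorem v_spider_0_4 : ∀ k, 0 ≤ k → k < 350 → chk_spider (k * 20) = true := between_extend chk_spider 20 0 280 70 (v_spider_0_3) r_spider_0_4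

theorem r_spider_0_5 : allRange chk_spider 20 350 70 = true := by decide +kernel
theorem v_spider_0_5 : ∀ k, 0 ≤ k → k < 420 → chk_spider (k * 20) = true := between_extend chk_spider 20 0 350 70 (v_spider_0_4) r_spider_0_5

theorem r_spider_0_6 : allRange chk_spider 20 420 70 = true := by decide +kernel
theorem v_spider_0_6 : ∀ k, 0 ≤ k → k < 490 → chk_spider (k * 20) = true := between_extend chk_spider 20 0 420 70 (v_spider_0_5) r_spider_0_6

theorem r_spider_0_7 : allRange chk_spider 20 490 70 = true := by decide +kernel
theorem v_spider_0_7 : ∀ k, 0 ≤ k → k < 560 → chk_spider (k * 20) = true := between_extend chk_spider 20 0 490 70 (v_spider_0_6) r_spider_0_7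

theorem r_spider_0_8 : allRange chk_spider 20 560 70 = true := by decide +kernel
theorem v_spider_0_8 : ∀ k, 0 ≤ k → k < 630 → chk_spider (k * 20) = true := between_extend chk_spider 20 0 560 70 (v_spider_0_7) r_spider_0_8

theorem r_spider_0_9 : allRange chk_spider 20 630 70 = true := by decide +kernel
theorem v_spider_0_9 : ∀ k, 0 ≤ k → k < 700 → chk_spider (k * 20) = true := between_extend chk_spider 20 0 630 70 (v_spider_0_8) r_spider_0_9

theorem r_spider_0_10 : allRange chk_spider 20 700 70 = true := by decide +kernel
theorem v_spider_0_10 : ∀ k, 0 ≤ k → k < 770 → chk_spider (k * 20) = true := between_extend chk_spider 20 0 700 70 (v_spider_0_9) r_spider_0_10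

theorem r_spider_0_11 : allRange chk_spider 20 770 70 = true := by decide +kernel
theorem v_spider_0_11 : ∀ k, 0 ≤ k → k < 840 → chk_spider (k * 20) = true := between_extend chk_spider 20 0 770 70 (v_spider_0_10) r_spider_0_11

theorem r_spider_0_12 : allRange chk_spider 20 840 70 = true := by decide +kernel
theorem v_spider_0_12 : ∀ k, 0 ≤ k → k < 910 → chk_spider (k * 20) = true := between_extend chk_spider 20 0 840 70 (v_spider_0_11) r_spider_0_12

theorem r_spider_0_13 : allRange chk_spider 20 910 70 = true := by decide +kernel
theorem v_spider_0_13 : ∀ k, 0 ≤ k → k < 980 → chk_spider (k * 20) = true := between_extend chk_spider 20 0 910 70 (v_spider_0_12) r_spider_0_13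

theorem r_spider_0_14 : allRange chk_spider 20 980 70 = true := by decide +kernel
theorem v_spider_0_14 : ∀ k, 0 ≤ k → k < 1050 → chk_spider (k * 20) = true := between_extend chk_spider 20 0 980 70 (v_spider_0_13) r_spider_0_14

theorem r_spider_0_15 : allRange chk_spider 20 1050 70 = true := by decide +kernel
theorem v_spider_0_15 : ∀ k, 0 ≤ k → k < 1120 → chk_spider (k * 20) = true := between_extend chk_spider 20 0 1050 70 (v_spider_0_14) r_spider_0_15

theorem r_spider_0_16 : allRange chk_spider 20 1120 70 = true := by decide +kernel
theorem v_spider_0_16 : ∀ k, 0 ≤ k → k < 1190 → chk_spider (k * 20) = true := between_extend chk_spider 20 0 1120 70 (v_spider_0_15) r_spider_0_16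

theorem r_spider_0_17 : allRange chk_spider 20 1190 70 = true := by decide +kernel
theorem v_spider_0_17 : ∀ k, 0 ≤ k → k < 1260 → chk_spider (k * 20) = true := between_extend chk_spider 20 0 1190 70 (v_spider_0_16) r_spider_0_17

theorem r_spider_0_18 : allRange chk_spider 20 1260 70 = true := by decide +kernel
theorem v_spider_0_18 : ∀ k, 0 ≤ k → k < 1330 → chk_spider (k * 20) = true := between_extend chk_spider 20 0 1260 70 (v_spider_0_17) r_spider_0_18

theorem r_spider_0_19 : allRange chk_spider 20 1330 70 = true := by decide +kernel
theorem v_spider_0_19 : ∀ k, 0 ≤ k → k < 1400 → chk_spider (k * 20) = true := between_extend chk_spider 20 0 1330 70 (v_spider_0_18) r_spider_0_19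

theorem r_spider_0_20 : allRange chk_spider 20 1400 70 = true := by decide +kernel
theorem v_spider_0_20 : ∀ k, 0 ≤ k → k < 1470 → chk_spider (k * 20) = true := between_extend chk_spider 20 0 1400 70 (v_spider_0_19) r_spider_0_20

theorem r_spider_0_21 : allRange chk_spider 20 1470 70 = true := by decide +kernel
theorem v_spider_0_21 : ∀ k, 0 ≤ k → k < 1540 → chk_spider (k * 20) = true := between_extend chk_spider 20 0 1470 70 (v_spider_0_20) r_spider_0_21

theorem r_spider_0_22 : allRange chk_spider 20 1540 70 = true := by decide +kernel
theorem v_spider_0_22 : ∀ k, 0 ≤ k → k < 1610 → chk_spider (k * 20) = true := between_extend chk_spider 20 0 1540 70 (v_spider_0_21) r_spider_0_22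

theorem r_spider_0_23 : allRange chk_spider 20 1610 70 = true := by decide +kernel
theorem v_spider_0_23 : ∀ k, 0 ≤ k → k < 1680 → chk_spider (k * 20) = true := between_extend chk_spider 20 0 1610 70 (v_spider_0_22) r_spider_0_23

theorem r_spider_0_24 : allRange chk_spider 20 1680 70 = true := by decide +kernel
theorem v_spider_0_24 : ∀ k, 0 ≤ k → k < 1750 → chk_spider (k * 20) = true := between_extend chk_spider 20 0 1680 70 (v_spider_0_23) r_spider_0_24

theorem r_spider_0_25 : allRange chk_spider 20 1750 70 = true := by decide +kernel
theorem v_spider_0_25 : ∀ k, 0 ≤ k → k < 1820 → chk_spider (k * 20) = true := between_extend chk_spider 20 0 1750 70 (v_spider_0_24) r_spider_0_25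

theorem r_spider_0_26 : allRange chk_spider 20 1820 70 = true := by decide +kernel
theorem v_spider_0_26 : ∀ k, 0 ≤ k → k < 1890 → chk_spider (k * 20) = true := between_extend chk_spider 20 0 1820 70 (v_spider_0_25) r_spider_0_26

theorem r_spider_0_27 : allRange chk_spider 20 1890 70 = true := by decide +kernel
theorem v_spider_0_27 : ∀ k, 0 ≤ k → k < 1960 → chk_spider (k * 20) = true := between_extend chk_spider 20 0 1890 70 (v_spider_0_26) r_spider_0_27

theorem r_spider_0_28 : allRange chk_spider 20 1960 70 = true := by decide +kernel
theorem v_spider_0_28 : ∀ k, 0 ≤ k → k < 2030 → chk_spider (k * 20) = true := between_extend chk_spider 20 0 1960 70 (v_spider_0_27) r_spider_0_28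

theorem r_spider_0_29 : allRange chk_spider 20 2030 70 = true := by decide +kernel
theorem v_spider_0_29 : ∀ k, 0 ≤ k → k < 2100 → chk_spider (k * 20) = true := between_extend chk_spider 20 0 2030 70 (v_spider_0_28) r_spider_0_29

theorem r_spider_0_30 : allRange chk_spider 20 2100 70 = true := by decide +kernel
theorem v_spider_0_30 : ∀ k, 0 ≤ k → k < 2170 → chk_spider (k * 20) = true := between_extend chk_spider 20 0 2100 70 (v_spider_0_29) r_spider_0_30

theorem r_spider_0_31 : allRange chk_spider 20 2170 70 = true := by decide +kernel
theorem v_spider_0_31 : ∀ k, 0 ≤ k → k < 2240 → chk_spider (k * 20) = true := between_extend chk_spider 20 0 2170 70 (v_spider_0_30) r_spider_0_31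

theorem r_spider_0_32 : allRange chk_spider 20 2240 70 = true := by decide +kernel
theorem v_spider_0_32 : ∀ k, 0 ≤ k → k < 2310 → chk_spider (k * 20) = true := between_extend chk_spider 20 0 2240 70 (v_spider_0_31) r_spider_0_32

theorem r_spider_0_33 : allRange chk_spider 20 2310 70 = true := by decide +kernel
theorem v_spider_0_33 : ∀ k, 0 ≤ k → k < 2380 → chk_spider (k * 20) = true := between_extend chk_spider 20 0 2310 70 (v_spider_0_32) r_spider_0_33

theorem r_spider_0_34 : allRange chk_spider 20 2380 70 = true := by decide +kernel
theorem v_spider_0_34 : ∀ k, 0 ≤ k → k < 2450 → chk_spider (k * 20) = true := between_extend chk_spider 20 0 2380 70 (v_spider_0_33) r_spider_0_34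

theorem r_spider_0_35 : allRange chk_spider 20 2450 70 = true := by decide +kernel
theorem v_spider_0_35 : ∀ k, 0 ≤ k → k < 2520 → chk_spider (k * 20) = true := between_extend chk_spider 20 0 2450 70 (v_spider_0_34) r_spider_0_35

theorem r_spider_0_36 : allRange chk_spider 20 2520 70 = true := by decide +kernel
theorem v_spider_0_36 : ∀ k, 0 ≤ k → k < 2590 → chk_spider (k * 20) = true := between_extend chk_spider 20 0 2520 70 (v_spider_0_35) r_spider_0_36

theorem r_spider_0_37 : allRange chk_spider 20 2590 70 = true := by decide +kernel
theorem v_spider_0_37 : ∀ k, 0 ≤ k → k < 2660 → chk_spider (k * 20) = true := between_extend chk_spider 20 0 2590 70 (v_spider_0_36) r_spider_0_37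

theorem r_spider_0_38 : allRange chk_spider 20 2660 70 = true := by decide +kernel
theorem v_spider_0_38 : ∀ k, 0 ≤ k → k < 2730 → chk_spider (k * 20) = true := between_extend chk_spider 20 0 2660 70 (v_spider_0_37) r_spider_0_38

theorem r_spider_0_39 : allRange chk_spider 20 2730 70 = true := by decide +kernel
theorem v_spider_0_39 : ∀ k, 0 ≤ k → k < 2800 → chk_spider (k * 20) = true := between_extend chk_spider 20 0 2730 70 (v_spider_0_38) r_spider_0_39

theorem r_spider_0_40 : allRange chk_spider 20 2800 70 = true := by decide +kernel
theorem v_spider_0_40 : ∀ k, 0 ≤ k → k < 2870 → chk_spider (k * 20) = true := between_extend chk_spider 20 0 2800 70 (v_spider_0_39) r_spider_0_40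

theorem r_spider_0_41 : allRange chk_spider 20 2870 70 = true := by decide +kernel
theorem v_spider_0_41 : ∀ k, 0 ≤ k → k < 2940 → chk_spider (k * 20) = true := between_extend chk_spider 20 0 2870 70 (v_spider_0_40) r_spider_0_41

theorem r_spider_0_42 : allRange chk_spider 20 2940 70 = true := by decide +kernel
theorem v_spider_0_42 : ∀ k, 0 ≤ k → k < 3010 → chk_spider (k * 20) = true := between_extend chk_spider 20 0 2940 70 (v_spider_0_41) r_spider_0_42

theorem r_spider_0_43 : allRange chk_spider 20 3010 70 = true := by decide +kernel
theorem v_spider_0_43 : ∀ k, 0 ≤ k → k < 3080 → chk_spider (k * 20) = true := between_extend chk_spider 20 0 3010 70 (v_spider_0_42) r_spider_0_43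

theorem r_spider_0_44 : allRange chk_spider 20 3080 70 = true := by decide +kernel
theorem v_spider_0_44 : ∀ k, 0 ≤ k → k < 3150 → chk_spider (k * 20) = true := between_extend chk_spider 20 0 3080 70 (v_spider_0_43) r_spider_0_44

theorem r_spider_0_45 : allRange chk_spider 20 3150 70 = true := by decide +kernel
theorem v_spider_0_45 : ∀ k, 0 ≤ k → k < 3220 → chk_spider (k * 20) = true := between_extend chk_spider 20 0 3150 70 (v_spider_0_44) r_spider_0_45

theorem r_spider_0_46 : allRange chk_spider 20 3220 70 = true := by decide +kernel
theorem v_spider_0_46 : ∀ k, 0 ≤ k → k < 3290 → chk_spider (k * 20) = true := between_extend chk_spider 20 0 3220 70 (v_spider_0_45) r_spider_0_46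

theorem r_spider_0_47 : allRange chk_spider 20 3290 70 = true := by decide +kernel
theorem v_spider_0_47 : ∀ k, 0 ≤ k → k < 3360 → chk_spider (k * 20) = true := between_extend chk_spider 20 0 3290 70 (v_spider_0_46) r_spider_0_47

theorem r_spider_0_48 : allRange chk_spider 20 3360 70 = true := by decide +kernel
theorem v_spider_0_48 : ∀ k, 0 ≤ k → k < 3430 → chk_spider (k * 20) = true := between_extend chk_spider 20 0 3360 70 (v_spider_0_47) r_spider_0_48

theorem r_spider_0_49 : allRange chk_spider 20 3430 70 = true := by decide +kernel
theorem v_spider_0_49 : ∀ k, 0 ≤ k → k < 3500 → chk_spider (k * 20) = true := between_extend chk_spider 20 0 3430 70 (v_spider_0_48) r_spider_0_49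

theorem r_spider_0_50 : allRange chk_spider 20 3500 70 = true := by decide +kernel
theorem v_spider_0_50 : ∀ k, 0 ≤ k → k < 3570 → chk_spider (k * 20) = true := between_extend chk_spider 20 0 3500 70 (v_spider_0_49) r_spider_0_50

theorem r_spider_0_51 : allRange chk_spider 20 3570 70 = true := by decide +kernel
theorem v_spider_0_51 : ∀ k, 0 ≤ k → k < 3640 → chk_spider (k * 20) = true := between_extend chk_spider 20 0 3570 70 (v_spider_0_50) r_spider_0_51

theorem r_spider_0_52 : allRange chk_spider 20 3640 70 = true := by decide +kernel
theorem v_spider_0_52 : ∀ k, 0 ≤ k → k < 3710 → chk_spider (k * 20) = true := between_extend chk_spider 20 0 3640 70 (v_spider_0_51) r_spider_0_52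

theorem r_spider_0_53 : allRange chk_spider 20 3710 70 = true := by decide +kernel
theorem v_spider_0_53 : ∀ k, 0 ≤ k → k < 3780 → chk_spider (k * 20) = true := between_extend chk_spider 20 0 3710 70 (v_spider_0_52) r_spider_0_53

theorem r_spider_0_54 : allRange chk_spider 20 3780 70 = true := by decide +kernel
theorem v_spider_0_54 : ∀ k, 0 ≤ k → k < 3850 → chk_spider (k * 20) = true := between_extend chk_spider 20 0 3780 70 (v_spider_0_53) r_spider_0_54

theorem r_spider_0_55 : allRange chk_spider 20 3850 70 = true := by decide +kernel
theorem v_spider_0_55 : ∀ k, 0 ≤ k → k < 3920 → chk_spider (k * 20) = true := between_extend chk_spider 20 0 3850 70 (v_spider_0_54) r_spider_0_55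

theorem r_spider_0_56 : allRange chk_spider 20 3920 70 = true := by decide +kernel
theorem v_spider_0_56 : ∀ k, 0 ≤ k → k < 3990 → chk_spider (k * 20) = true := between_extend chk_spider 20 0 3920 70 (v_spider_0_55) r_spider_0_56

theorem r_spider_0_57 : allRange chk_spider 20 3990 70 = true := by decide +kernel
theorem v_spider_0_57 : ∀ k, 0 ≤ k → k < 4060 → chk_spider (k * 20) = true := between_extend chk_spider 20 0 3990 70 (v_spider_0_56) r_spider_0_57

theorem r_spider_0_58 : allRange chk_spider 20 4060 70 = true := by decide +kernel
theorem v_spider_0_58 : ∀ k, 0 ≤ k → k < 4130 → chk_spider (k * 20) = true := between_extend chk_spider 20 0 4060 70 (v_spider_0_57) r_spider_0_58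

theorem r_spider_0_59 : allRange chk_spider 20 4130 70 = true := by decide +kernel
theorem v_spider_0_59 : ∀ k, 0 ≤ k → k < 4200 → chk_spider (k * 20) = true := between_extend chk_spider 20 0 4130 70 (v_spider_0_58) r_spider_0_59

theorem r_spider_0_60 : allRange chk_spider 20 4200 70 = true := by decide +kernel
theorem v_spider_0_60 : ∀ k, 0 ≤ k → k < 4270 → chk_spider (k * 20) = true := between_extend chk_spider 20 0 4200 70 (v_spider_0_59) r_spider_0_60

theorem r_spider_0_61 : allRange chk_spider 20 4270 70 = true := by decide +kernel
theorem v_spider_0_61 : ∀ k, 0 ≤ k → k < 4340 → chk_spider (k * 20) = true := between_extend chk_spider 20 0 4270 70 (v_spider_0_60) r_spider_0_61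

theorem r_spider_0_62 : allRange chk_spider 20 4340 70 = true := by decide +kernel
theorem v_spider_0_62 : ∀ k, 0 ≤ k → k < 4410 → chk_spider (k * 20) = true := between_extend chk_spider 20 0 4340 70 (v_spider_0_61) r_spider_0_62

theorem r_spider_0_63 : allRange chk_spider 20 4410 70 = true := by decide +kernel
theorem v_spider_0_63 : ∀ k, 0 ≤ k → k < 4480 → chk_spider (k * 20) = true := between_extend chk_spider 20 0 4410 70 (v_spider_0_62) r_spider_0_63

theorem r_spider_0_64 : allRange chk_spider 20 4480 70 = true := by decide +kernel
theorem v_spider_0_64 : ∀ k, 0 ≤ k → k < 4550 → chk_spider (k * 20) = true := between_extend chk_spider 20 0 4480 70 (v_spider_0_63) r_spider_0_64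

theorem r_spider_0_65 : allRange chk_spider 20 4550 70 = true := by decide +kernel
theorem v_spider_0_65 : ∀ k, 0 ≤ k → k < 4620 → chk_spider (k * 20) = true := between_extend chk_spider 20 0 4550 70 (v_spider_0_64) r_spider_0_65

theorem r_spider_0_66 : allRange chk_spider 20 4620 70 = true := by decide +kernel
theorem v_spider_0_66 : ∀ k, 0 ≤ k → k < 4690 → chk_spider (k * 20) = true := between_extend chk_spider 20 0 4620 70 (v_spider_0_65) r_spider_0_66

theorem r_spider_0_67 : allRange chk_spider 20 4690 70 = true := by decide +kernel
theorem v_spider_0_67 : ∀ k, 0 ≤ k → k < 4760 → chk_spider (k * 20) = true := between_extend chk_spider 20 0 4690 70 (v_spider_0_66) r_spider_0_67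

theorem r_spider_0_68 : allRange chk_spider 20 4760 70 = true := by decide +kernel
theorem v_spider_0_68 : ∀ k, 0 ≤ k → k < 4830 → chk_spider (k * 20) = true := between_extend chk_spider 20 0 4760 70 (v_spider_0_67) r_spider_0_68

theorem r_spider_0_69 : allRange chk_spider 20 4830 70 = true := by decide +kernel
theorem v_spider_0_69 : ∀ k, 0 ≤ k → k < 4900 → chk_spider (k * 20) = true := between_extend chk_spider 20 0 4830 70 (v_spider_0_68) r_spider_0_69

theorem r_spider_0_70 : allRange chk_spider 20 4900 70 = true := by decide +kernel
theorem v_spider_0_70 : ∀ k, 0 ≤ k → k < 4970 → chk_spider (k * 20) = true := between_extend chk_spider 20 0 4900 70 (v_spider_0_69) r_spider_0_70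

theorem r_spider_0_71 : allRange chk_spider 20 4970 70 = true := by decide +kernel
theorem v_spider_0_71 : ∀ k, 0 ≤ k → k < 5040 → chk_spider (k * 20) = true := between_extend chk_spider 20 0 4970 70 (v_spider_0_70) r_spider_0_71

theorem r_spider_0_72 : allRange chk_spider 20 5040 70 = true := by decide +kernel
theorem v_spider_0_72 : ∀ k, 0 ≤ k → k < 5110 → chk_spider (k * 20) = true := between_extend chk_spider 20 0 5040 70 (v_spider_0_71) r_spider_0_72

theorem r_spider_0_73 : allRange chk_spider 20 5110 70 = true := by decide +kernel
theorem v_spider_0_73 : ∀ k, 0 ≤ k → k < 5180 → chk_spider (k * 20) = true := between_extend chk_spider 20 0 5110 70 (v_spider_0_72) r_spider_0_73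

theorem r_spider_0_74 : allRange chk_spider 20 5180 70 = true := by decide +kernel
theorem v_spider_0_74 : ∀ k, 0 ≤ k → k < 5250 → chk_spider (k * 20) = true := between_extend chk_spider 20 0 5180 70 (v_spider_0_73) r_spider_0_74

theorem r_spider_0_75 : allRange chk_spider 20 5250 70 = true := by decide +kernel
theorem v_spider_0_75 : ∀ k, 0 ≤ k → k < 5320 → chk_spider (k * 20) = true := between_extend chk_spider 20 0 5250 70 (v_spider_0_74) r_spider_0_75

theorem r_spider_0_76 : allRange chk_spider 20 5320 70 = true := by decide +kernel
theorem v_spider_0_76 : ∀ k, 0 ≤ k → k < 5390 → chk_spider (k * 20) = true := between_extend chk_spider 20 0 5320 70 (v_spider_0_75) r_spider_0_76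

theorem r_spider_0_77 : allRange chk_spider 20 5390 70 = true := by decide +kernel
theorem v_spider_0_77 : ∀ k, 0 ≤ k → k < 5460 → chk_spider (k * 20) = true := between_extend chk_spider 20 0 5390 70 (v_spider_0_76) r_spider_0_77

theorem r_spider_0_78 : allRange chk_spider 20 5460 70 = true := by decide +kernel
theorem v_spider_0_78 : ∀ k, 0 ≤ k → k < 5530 → chk_spider (k * 20) = true := between_extend chk_spider 20 0 5460 70 (v_spider_0_77) r_spider_0_78

theorem r_spider_0_79 : allRange chk_spider 20 5530 70 = true := by decide +kernel
theorem v_spider_0_79 : ∀ k, 0 ≤ k → k < 5600 → chk_spider (k * 20) = true := between_extend chk_spider 20 0 5530 70 (v_spider_0_78) r_spider_0_79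

theorem r_spider_0_80 : allRange chk_spider 20 5600 70 = true := by decide +kernel
theorem v_spider_0_80 : ∀ k, 0 ≤ k → k < 5670 → chk_spider (k * 20) = true := between_extend chk_spider 20 0 5600 70 (v_spider_0_79) r_spider_0_80

theorem r_spider_0_81 : allRange chk_spider 20 5670 70 = true := by decide +kernel
theorem v_spider_0_81 : ∀ k, 0 ≤ k → k < 5740 → chk_spider (k * 20) = true := between_extend chk_spider 20 0 5670 70 (v_spider_0_80) r_spider_0_81

theorem r_spider_0_82 : allRange chk_spider 20 5740 70 = true := by decide +kernel
theorem v_spider_0_82 : ∀ k, 0 ≤ k → k < 5810 → chk_spider (k * 20) = true := between_extend chk_spider 20 0 5740 70 (v_spider_0_81) r_spider_0_82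

theorem r_spider_0_83 : allRange chk_spider 20 5810 70 = true := by decide +kernel
theorem v_spider_0_83 : ∀ k, 0 ≤ k → k < 5880 → chk_spider (k * 20) = true := between_extend chk_spider 20 0 5810 70 (v_spider_0_82) r_spider_0_83

theorem r_spider_0_84 : allRange chk_spider 20 5880 70 = true := by decide +kernel
theorem v_spider_0_84 : ∀ k, 0 ≤ k → k < 5950 → chk_spider (k * 20) = true := between_extend chk_spider 20 0 5880 70 (v_spider_0_83) r_spider_0_84

theorem r_spider_0_85 : allRange chk_spider 20 5950 70 = true := by decide +kernel
theorem v_spider_0_85 : ∀ k, 0 ≤ k → k < 6020 → chk_spider (k * 20) = true := between_extend chk_spider 20 0 5950 70 (v_spider_0_84) r_spider_0_85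

theorem r_spider_0_86 : allRange chk_spider 20 6020 70 = true := by decide +kernel
theorem v_spider_0_86 : ∀ k, 0 ≤ k → k < 6090 → chk_spider (k * 20) = true := between_extend chk_spider 20 0 6020 70 (v_spider_0_85) r_spider_0_86

theorem r_spider_0_87 : allRange chk_spider 20 6090 70 = true := by decide +kernel
theorem v_spider_0_87 : ∀ k, 0 ≤ k → k < 6160 → chk_spider (k * 20) = true := between_extend chk_spider 20 0 6090 70 (v_spider_0_86) r_spider_0_87

theorem r_spider_0_88 : allRange chk_spider 20 6160 70 = true := by decide +kernel
theorem v_spider_0_88 : ∀ k, 0 ≤ k → k < 6230 → chk_spider (k * 20) = true := between_extend chk_spider 20 0 6160 70 (v_spider_0_87) r_spider_0_88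

theorem r_spider_0_89 : allRange chk_spider 20 6230 70 = true := by decide +kernel
theorem v_spider_0_89 : ∀ k, 0 ≤ k → k < 6300 → chk_spider (k * 20) = true := between_extend chk_spider 20 0 6230 70 (v_spider_0_88) r_spider_0_89

theorem r_spider_0_90 : allRange chk_spider 20 6300 70 = true := by decide +kernel
theorem v_spider_0_90 : ∀ k, 0 ≤ k → k < 6370 → chk_spider (k * 20) = true := between_extend chk_spider 20 0 6300 70 (v_spider_0_89) r_spider_0_90

theorem r_spider_0_91 : allRange chk_spider 20 6370 70 = true := by decide +kernel
theorem v_spider_0_91 : ∀ k, 0 ≤ k → k < 6440 → chk_spider (k * 20) = true := between_extend chk_spider 20 0 6370 70 (v_spider_0_90) r_spider_0_91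

theorem r_spider_0_92 : allRange chk_spider 20 6440 70 = true := by decide +kernel
theorem v_spider_0_92 : ∀ k, 0 ≤ k → k < 6510 → chk_spider (k * 20) = true := between_extend chk_spider 20 0 6440 70 (v_spider_0_91) r_spider_0_92

theorem r_spider_0_93 : allRange chk_spider 20 6510 70 = true := by decide +kernel
theorem v_spider_0_93 : ∀ k, 0 ≤ k → k < 6580 → chk_spider (k * 20) = true := between_extend chk_spider 20 0 6510 70 (v_spider_0_92) r_spider_0_93

theorem r_spider_0_94 : allRange chk_spider 20 6580 70 = true := by decide +kernel
theorem v_spider_0_94 : ∀ k, 0 ≤ k → k < 6650 → chk_spider (k * 20) = true := between_extend chk_spider 20 0 6580 70 (v_spider_0_93) r_spider_0_94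

theorem r_spider_0_95 : allRange chk_spider 20 6650 70 = true := by decide +kernel
theorem v_spider_0_95 : ∀ k, 0 ≤ k → k < 6720 → chk_spider (k * 20) = true := between_extend chk_spider 20 0 6650 70 (v_spider_0_94) r_spider_0_95

theorem r_spider_0_96 : allRange chk_spider 20 6720 70 = true := by decide +kernel
theorem v_spider_0_96 : ∀ k, 0 ≤ k → k < 6790 → chk_spider (k * 20) = true := between_extend chk_spider 20 0 6720 70 (v_spider_0_95) r_spider_0_96

theorem r_spider_0_97 : allRange chk_spider 20 6790 70 = true := by decide +kernel
theorem v_spider_0_97 : ∀ k, 0 ≤ k → k < 6860 → chk_spider (k * 20) = true := between_extend chk_spider 20 0 6790 70 (v_spider_0_96) r_spider_0_97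

theorem r_spider_0_98 : allRange chk_spider 20 6860 70 = true := by decide +kernel
theorem v_spider_0_98 : ∀ k, 0 ≤ k → k < 6930 → chk_spider (k * 20) = true := between_extend chk_spider 20 0 6860 70 (v_spider_0_97) r_spider_0_98

theorem r_spider_0_99 : allRange chk_spider 20 6930 70 = true := by decide +kernel
theorem v_spider_0_99 : ∀ k, 0 ≤ k → k < 7000 → chk_spider (k * 20) = true := between_extend chk_spider 20 0 6930 70 (v_spider_0_98) r_spider_0_99

theorem r_spider_0_100 : allRange chk_spider 20 7000 70 = true := by decide +kernel
theorem v_spider_0_100 : ∀ k, 0 ≤ k → k < 7070 → chk_spider (k * 20) = true := between_extend chk_spider 20 0 7000 70 (v_spider_0_99) r_spider_0_100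

theorem r_spider_0_101 : allRange chk_spider 20 7070 70 = true := by decide +kernel
theorem v_spider_0_101 : ∀ k, 0 ≤ k → k < 7140 → chk_spider (k * 20) = true := between_extend chk_spider 20 0 7070 70 (v_spider_0_100) r_spider_0_101

theorem r_spider_0_102 : allRange chk_spider 20 7140 70 = true := by decide +kernel
theorem v_spider_0_102 : ∀ k, 0 ≤ k → k < 7210 → chk_spider (k * 20) = true := between_extend chk_spider 20 0 7140 70 (v_spider_0_101) r_spider_0_102

theorem r_spider_0_103 : allRange chk_spider 20 7210 70 = true := by decide +kernel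
theorem v_spider_0_103 : ∀ k, 0 ≤ k → k < 7280 → chk_spider (k * 20) = true := between_extend chk_spider 20 0 7210 70 (v_spider_0_102) r_spider_0_103

theorem r_spider_0_104 : allRange chk_spider 20 7280 70 = true := by decide +kernel
theorem v_spider_0_104 : ∀ k, 0 ≤ k → k < 7350 → chk_spider (k * 20) = true := between_extend chk_spider 20 0 7280 70 (v_spider_0_103) r_spider_0_104

theorem r_spider_0_105 : allRange chk_spider 20 7350 70 = true := by decide +kernel
theorem v_spider_0_105 : ∀ k, 0 ≤ k → k < 7420 → chk_spider (k * 20) = true := between_extend chk_spider 20 0 7350 70 (v_spider_0_104) r_spider_0_105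

theorem r_spider_0_106 : allRange chk_spider 20 7420 70 = true := by decide +kernel
theorem v_spider_0_106 : ∀ k, 0 ≤ k → k < 7490 → chk_spider (k * 20) = true := between_extend chk_spider 20 0 7420 70 (v_spider_0_105) r_spider_0_106

theorem r_spider_0_107 : allRange chk_spider 20 7490 70 = true := by decide +kernel
theorem v_spider_0_107 : ∀ k, 0 ≤ k → k < 7560 → chk_spider (k * 20) = true := between_extend chk_spider 20 0 7490 70 (v_spider_0_106) r_spider_0_107

theorem r_spider_0_108 : allRange chk_spider 20 7560 70 = true := by decide +kernel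
theorem v_spider_0_108 : ∀ k, 0 ≤ k → k < 7630 → chk_spider (k * 20) = true := between_extend chk_spider 20 0 7560 70 (v_spider_0_107) r_spider_0_108

theorem r_spider_0_109 : allRange chk_spider 20 7630 70 = true := by decide +kernel
theorem v_spider_0_109 : ∀ k, 0 ≤ k → k < 7700 → chk_spider (k * 20) = true := between_extend chk_spider 20 0 7630 70 (v_spider_0_108) r_spider_0_109

theorem r_spider_0_110 : allRange chk_spider 20 7700 70 = true := by decide +kernel
theorem v_spider_0_110 : ∀ k, 0 ≤ k → k < 7770 → chk_spider (k * 20) = true := between_extend chk_spider 20 0 7700 70 (v_spider_0_109) r_spider_0_110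

theorem r_spider_0_111 : allRange chk_spider 20 7770 70 = true := by decide +kernel
theorem v_spider_0_111 : ∀ k, 0 ≤ k → k < 7840 → chk_spider (k * 20) = true := between_extend chk_spider 20 0 7770 70 (v_spider_0_110) r_spider_0_111

theorem r_spider_0_112 : allRange chk_spider 20 7840 70 = true := by decide +kernel
theorem v_spider_0_112 : ∀ k, 0 ≤ k → k < 7910 → chk_spider (k * 20) = true := between_extend chk_spider 20 0 7840 70 (v_spider_0_111) r_spider_0_112

theorem r_spider_0_113 : allRange chk_spider 20 7910 70 = true := by decide +kernel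
theorem v_spider_0_113 : ∀ k, 0 ≤ k → k < 7980 → chk_spider (k * 20) = true := between_extend chk_spider 20 0 7910 70 (v_spider_0_112) r_spider_0_113

theorem r_spider_0_114 : allRange chk_spider 20 7980 70 = true := by decide +kernel
theorem v_spider_0_114 : ∀ k, 0 ≤ k → k < 8050 → chk_spider (k * 20) = true := between_extend chk_spider 20 0 7980 70 (v_spider_0_113) r_spider_0_114

theorem r_spider_0_115 : allRange chk_spider 20 8050 70 = true := by decide +kernel
theorem v_spider_0_115 : ∀ k, 0 ≤ k → k < 8120 → chk_spider (k * 20) = true := between_extend chk_spider 20 0 8050 70 (v_spider_0_114) r_spider_0_115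

theorem r_spider_0_116 : allRange chk_spider 20 8120 70 = true := by decide +kernel
theorem v_spider_0_116 : ∀ k, 0 ≤ k → k < 8190 → chk_spider (k * 20) = true := between_extend chk_spider 20 0 8120 70 (v_spider_0_115) r_spider_0_116

theorem r_spider_0_117 : allRange chk_spider 20 8190 70 = true := by decide +kernel
theorem v_spider_0_117 : ∀ k, 0 ≤ k → k < 8260 → chk_spider (k * 20) = true := between_extend chk_spider 20 0 8190 70 (v_spider_0_116) r_spider_0_117

theorem r_spider_0_118 : allRange chk_spider 20 8260 70 = true := by decide +kernel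
theorem v_spider_0_118 : ∀ k, 0 ≤ k → k < 8330 → chk_spider (k * 20) = true := between_extend chk_spider 20 0 8260 70 (v_spider_0_117) r_spider_0_118

theorem r_spider_0_119 : allRange chk_spider 20 8330 70 = true := by decide +kernel
theorem v_spider_0_119 : ∀ k, 0 ≤ k → k < 8400 → chk_spider (k * 20) = true := between_extend chk_spider 20 0 8330 70 (v_spider_0_118) r_spider_0_119

theorem r_spider_0_120 : allRange chk_spider 20 8400 70 = true := by decide +kernel
theorem v_spider_0_120 : ∀ k, 0 ≤ k → k < 8470 → chk_spider (k * 20) = true := between_extend chk_spider 20 0 8400 70 (v_spider_0_119) r_spider_0_120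

theorem r_spider_0_121 : allRange chk_spider 20 8470 70 = true := by decide +kernel
theorem v_spider_0_121 : ∀ k, 0 ≤ k → k < 8540 → chk_spider (k * 20) = true := between_extend chk_spider 20 0 8470 70 (v_spider_0_120) r_spider_0_121

theorem r_spider_0_122 : allRange chk_spider 20 8540 70 = true := by decide +kernel
theorem v_spider_0_122 : ∀ k, 0 ≤ k → k < 8610 → chk_spider (k * 20) = true := between_extend chk_spider 20 0 8540 70 (v_spider_0_121) r_spider_0_122

theorem r_spider_0_123 : allRange chk_spider 20 8610 70 = true := by decide +kernel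
theorem v_spider_0_123 : ∀ k, 0 ≤ k → k < 8680 → chk_spider (k * 20) = true := between_extend chk_spider 20 0 8610 70 (v_spider_0_122) r_spider_0_123

theorem r_spider_0_124 : allRange chk_spider 20 8680 70 = true := by decide +kernel
theorem v_spider_0_124 : ∀ k, 0 ≤ k → k < 8750 → chk_spider (k * 20) = true := between_extend chk_spider 20 0 8680 70 (v_spider_0_123) r_spider_0_124

theorem r_spider_0_125 : allRange chk_spider 20 8750 70 = true := by decide +kernel
theorem v_spider_0_125 : ∀ k, 0 ≤ k → k < 8820 → chk_spider (k * 20) = true := between_extend chk_spider 20 0 8750 70 (v_spider_0_124) r_spider_0_125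

theorem r_spider_0_126 : allRange chk_spider 20 8820 70 = true := by decide +kernel
theorem v_spider_0_126 : ∀ k, 0 ≤ k → k < 8890 → chk_spider (k * 20) = true := between_extend chk_spider 20 0 8820 70 (v_spider_0_125) r_spider_0_126

theorem r_spider_0_127 : allRange chk_spider 20 8890 70 = true := by decide +kernel
theorem v_spider_0_127 : ∀ k, 0 ≤ k → k < 8960 → chk_spider (k * 20) = true := between_extend chk_spider 20 0 8890 70 (v_spider_0_126) r_spider_0_127

theorem r_spider_0_128 : allRange chk_spider 20 8960 70 = true := by decide +kernel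
theorem v_spider_0_128 : ∀ k, 0 ≤ k → k < 9030 → chk_spider (k * 20) = true := between_extend chk_spider 20 0 8960 70 (v_spider_0_127) r_spider_0_128

theorem r_spider_0_129 : allRange chk_spider 20 9030 70 = true := by decide +kernel
theorem v_spider_0_129 : ∀ k, 0 ≤ k → k < 9100 → chk_spider (k * 20) = true := between_extend chk_spider 20 0 9030 70 (v_spider_0_128) r_spider_0_129

theorem r_spider_0_130 : allRange chk_spider 20 9100 70 = true := by decide +kernel
theorem v_spider_0_130 : ∀ k, 0 ≤ k → k < 9170 → chk_spider (k * 20) = true := between_extend chk_spider 20 0 9100 70 (v_spider_0_129) r_spider_0_130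

theorem r_spider_0_131 : allRange chk_spider 20 9170 70 = true := by decide +kernel
theorem v_spider_0_131 : ∀ k, 0 ≤ k → k < 9240 → chk_spider (k * 20) = true := between_extend chk_spider 20 0 9170 70 (v_spider_0_130) r_spider_0_131

theorem r_spider_0_132 : allRange chk_spider 20 9240 70 = true := by decide +kernel
theorem v_spider_0_132 : ∀ k, 0 ≤ k → k < 9310 → chk_spider (k * 20) = true := between_extend chk_spider 20 0 9240 70 (v_spider_0_131) r_spider_0_132

theorem r_spider_0_133 : allRange chk_spider 20 9310 70 = true := by decide +kernel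
theorem v_spider_0_133 : ∀ k, 0 ≤ k → k < 9380 → chk_spider (k * 20) = true := between_extend chk_spider 20 0 9310 70 (v_spider_0_132) r_spider_0_133

theorem r_spider_0_134 : allRange chk_spider 20 9380 70 = true := by decide +kernel
theorem v_spider_0_134 : ∀ k, 0 ≤ k → k < 9450 → chk_spider (k * 20) = true := between_extend chk_spider 20 0 9380 70 (v_spider_0_133) r_spider_0_134

theorem r_spider_0_135 : allRange chk_spider 20 9450 70 = true := by decide +kernel
theorem v_spider_0_135 : ∀ k, 0 ≤ k → k < 9520 → chk_spider (k * 20) = true := between_extend chk_spider 20 0 9450 70 (v_spider_0_134) r_spider_0_135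

theorem r_spider_0_136 : allRange chk_spider 20 9520 70 = true := by decide +kernel
theorem v_spider_0_136 : ∀ k, 0 ≤ k → k < 9590 → chk_spider (k * 20) = true := between_extend chk_spider 20 0 9520 70 (v_spider_0_135) r_spider_0_136

theorem r_spider_0_137 : allRange chk_spider 20 9590 70 = true := by decide +kernel
theorem v_spider_0_137 : ∀ k, 0 ≤ k → k < 9660 → chk_spider (k * 20) = true := between_extend chk_spider 20 0 9590 70 (v_spider_0_136) r_spider_0_137

theorem r_spider_0_138 : allRange chk_spider 20 9660 70 = true := by decide +kernel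
theorem v_spider_0_138 : ∀ k, 0 ≤ k → k < 9730 → chk_spider (k * 20) = true := between_extend chk_spider 20 0 9660 70 (v_spider_0_137) r_spider_0_138

theorem r_spider_0_139 : allRange chk_spider 20 9730 70 = true := by decide +kernel
theorem v_spider_0_139 : ∀ k, 0 ≤ k → k < 9800 → chk_spider (k * 20) = true := between_extend chk_spider 20 0 9730 70 (v_spider_0_138) r_spider_0_139

theorem r_spider_0_140 : allRange chk_spider 20 9800 70 = true := by decide +kernel
theorem v_spider_0_140 : ∀ k, 0 ≤ k → k < 9870 → chk_spider (k * 20) = true := between_extend chk_spider 20 0 9800 70 (v_spider_0_139) r_spider_0_140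

theorem r_spider_0_141 : allRange chk_spider 20 9870 70 = true := by decide +kernel
theorem v_spider_0_141 : ∀ k, 0 ≤ k → k < 9940 → chk_spider (k * 20) = true := between_extend chk_spider 20 0 9870 70 (v_spider_0_140) r_spider_0_141

theorem r_spider_0_142 : allRange chk_spider 20 9940 70 = true := by decide +kernel
theorem v_spider_0_142 : ∀ k, 0 ≤ k → k < 10010 → chk_spider (k * 20) = true := between_extend chk_spider 20 0 9940 70 (v_spider_0_141) r_spider_0_142

theorem r_spider_0_143 : allRange chk_spider 20 10010 70 = true := by decide +kernel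
theorem v_spider_0_143 : ∀ k, 0 ≤ k → k < 10080 → chk_spider (k * 20) = true := between_extend chk_spider 20 0 10010 70 (v_spider_0_142) r_spider_0_143

theorem r_spider_0_144 : allRange chk_spider 20 10080 70 = true := by decide +kernel
theorem v_spider_0_144 : ∀ k, 0 ≤ k → k < 10150 → chk_spider (k * 20) = true := between_extend chk_spider 20 0 10080 70 (v_spider_0_143) r_spider_0_144

theorem r_spider_0_145 : allRange chk_spider 20 10150 70 = true := by decide +kernel
theorem v_spider_0_145 : ∀ k, 0 ≤ k → k < 10220 → chk_spider (k * 20) = true := between_extend chk_spider 20 0 10150 70 (v_spider_0_144) r_spider_0_145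

theorem r_spider_0_146 : allRange chk_spider 20 10220 70 = true := by decide +kernel
theorem v_spider_0_146 : ∀ k, 0 ≤ k → k < 10290 → chk_spider (k * 20) = true := between_extend chk_spider 20 0 10220 70 (v_spider_0_145) r_spider_0_146

theorem r_spider_0_147 : allRange chk_spider 20 10290 70 = true := by decide +kernel
theorem v_spider_0_147 : ∀ k, 0 ≤ k → k < 10360 → chk_spider (k * 20) = true := between_extend chk_spider 20 0 10290 70 (v_spider_0_146) r_spider_0_147

theorem r_spider_0_148 : allRange chk_spider 20 10360 70 = true := by decide +kernel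
theorem v_spider_0_148 : ∀ k, 0 ≤ k → k < 10430 → chk_spider (k * 20) = true := between_extend chk_spider 20 0 10360 70 (v_spider_0_147) r_spider_0_148

theorem r_spider_0_149 : allRange chk_spider 20 10430 70 = true := by decide +kernel
theorem v_spider_0_149 : ∀ k, 0 ≤ k → k < 10500 → chk_spider (k * 20) = true := between_extend chk_spider 20 0 10430 70 (v_spider_0_148) r_spider_0_149

theorem r_spider_0_150 : allRange chk_spider 20 10500 70 = true := by decide +kernel
theorem v_spider_0_150 : ∀ k, 0 ≤ k → k < 10570 → chk_spider (k * 20) = true := between_extend chk_spider 20 0 10500 70 (v_spider_0_149) r_spider_0_150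

theorem r_spider_0_151 : allRange chk_spider 20 10570 70 = true := by decide +kernel
theorem v_spider_0_151 : ∀ k, 0 ≤ k → k < 10640 → chk_spider (k * 20) = true := between_extend chk_spider 20 0 10570 70 (v_spider_0_150) r_spider_0_151

theorem r_spider_0_152 : allRange chk_spider 20 10640 70 = true := by decide +kernel
theorem v_spider_0_152 : ∀ k, 0 ≤ k → k < 10710 → chk_spider (k * 20) = true := between_extend chk_spider 20 0 10640 70 (v_spider_0_151) r_spider_0_152

theorem r_spider_0_153 : allRange chk_spider 20 10710 70 = true := by decide +kernel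
theorem v_spider_0_153 : ∀ k, 0 ≤ k → k < 10780 → chk_spider (k * 20) = true := between_extend chk_spider 20 0 10710 70 (v_spider_0_152) r_spider_0_153

theorem r_spider_0_154 : allRange chk_spider 20 10780 70 = true := by decide +kernel
theorem v_spider_0_154 : ∀ k, 0 ≤ k → k < 10850 → chk_spider (k * 20) = true := between_extend chk_spider 20 0 10780 70 (v_spider_0_153) r_spider_0_154

theorem r_spider_0_155 : allRange chk_spider 20 10850 70 = true := by decide +kernel
theorem v_spider_0_155 : ∀ k, 0 ≤ k → k < 10920 → chk_spider (k * 20) = true := between_extend chk_spider 20 0 10850 70 (v_spider_0_154) r_spider_0_155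

theorem r_spider_0_156 : allRange chk_spider 20 10920 70 = true := by decide +kernel
theorem v_spider_0_156 : ∀ k, 0 ≤ k → k < 10990 → chk_spider (k * 20) = true := between_extend chk_spider 20 0 10920 70 (v_spider_0_155) r_spider_0_156

theorem r_spider_0_157 : allRange chk_spider 20 10990 70 = true := by decide +kernel
theorem v_spider_0_157 : ∀ k, 0 ≤ k → k < 11060 → chk_spider (k * 20) = true := between_extend chk_spider 20 0 10990 70 (v_spider_0_156) r_spider_0_157

theorem r_spider_0_158 : allRange chk_spider 20 11060 70 = true := by decide +kernel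
theorem v_spider_0_158 : ∀ k, 0 ≤ k → k < 11130 → chk_spider (k * 20) = true := between_extend chk_spider 20 0 11060 70 (v_spider_0_157) r_spider_0_158

theorem r_spider_0_159 : allRange chk_spider 20 11130 70 = true := by decide +kernel
theorem v_spider_0_159 : ∀ k, 0 ≤ k → k < 11200 → chk_spider (k * 20) = true := between_extend chk_spider 20 0 11130 70 (v_spider_0_158) r_spider_0_159

theorem r_spider_0_160 : allRange chk_spider 20 11200 70 = true := by decide +kernel
theorem v_spider_0_160 : ∀ k, 0 ≤ k → k < 11270 → chk_spider (k * 20) = true := between_extend chk_spider 20 0 11200 70 (v_spider_0_159) r_spider_0_160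

theorem r_spider_0_161 : allRange chk_spider 20 11270 70 = true := by decide +kernel
theorem v_spider_0_161 : ∀ k, 0 ≤ k → k < 11340 → chk_spider (k * 20) = true := between_extend chk_spider 20 0 11270 70 (v_spider_0_160) r_spider_0_161

theorem r_spider_0_162 : allRange chk_spider 20 11340 70 = true := by decide +kernel
theorem v_spider_0_162 : ∀ k, 0 ≤ k → k < 11410 → chk_spider (k * 20) = true := between_extend chk_spider 20 0 11340 70 (v_spider_0_161) r_spider_0_162

theorem r_spider_0_163 : allRange chk_spider 20 11410 70 = true := by decide +kernel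
theorem v_spider_0_163 : ∀ k, 0 ≤ k → k < 11480 → chk_spider (k * 20) = true := between_extend chk_spider 20 0 11410 70 (v_spider_0_162) r_spider_0_163

theorem r_spider_0_164 : allRange chk_spider 20 11480 70 = true := by decide +kernel
theorem v_spider_0_164 : ∀ k, 0 ≤ k → k < 11550 → chk_spider (k * 20) = true := between_extend chk_spider 20 0 11480 70 (v_spider_0_163) r_spider_0_164

theorem r_spider_0_165 : allRange chk_spider 20 11550 70 = true := by decide +kernel
theorem v_spider_0_165 : ∀ k, 0 ≤ k → k < 11620 → chk_spider (k * 20) = true := between_extend chk_spider 20 0 11550 70 (v_spider_0_164) r_spider_0_165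

theorem r_spider_0_166 : allRange chk_spider 20 11620 70 = true := by decide +kernel
theorem v_spider_0_166 : ∀ k, 0 ≤ k → k < 11690 → chk_spider (k * 20) = true := between_extend chk_spider 20 0 11620 70 (v_spider_0_165) r_spider_0_166

theorem r_spider_0_167 : allRange chk_spider 20 11690 70 = true := by decide +kernel
theorem v_spider_0_167 : ∀ k, 0 ≤ k → k < 11760 → chk_spider (k * 20) = true := between_extend chk_spider 20 0 11690 70 (v_spider_0_166) r_spider_0_167

theorem r_spider_0_168 : allRange chk_spider 20 11760 70 = true := by decide +kernel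
theorem v_spider_0_168 : ∀ k, 0 ≤ k → k < 11830 → chk_spider (k * 20) = true := between_extend chk_spider 20 0 11760 70 (v_spider_0_167) r_spider_0_168

theorem r_spider_0_169 : allRange chk_spider 20 11830 70 = true := by decide +kernel
theorem v_spider_0_169 : ∀ k, 0 ≤ k → k < 11900 → chk_spider (k * 20) = true := between_extend chk_spider 20 0 11830 70 (v_spider_0_168) r_spider_0_169

theorem r_spider_0_170 : allRange chk_spider 20 11900 70 = true := by decide +kernel
theorem v_spider_0_170 : ∀ k, 0 ≤ k → k < 11970 → chk_spider (k * 20) = true := between_extend chk_spider 20 0 11900 70 (v_spider_0_169) r_spider_0_170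

theorem r_spider_0_171 : allRange chk_spider 20 11970 70 = true := by decide +kernel
theorem v_spider_0_171 : ∀ k, 0 ≤ k → k < 12040 → chk_spider (k * 20) = true := between_extend chk_spider 20 0 11970 70 (v_spider_0_170) r_spider_0_171

theorem r_spider_0_172 : allRange chk_spider 20 12040 70 = true := by decide +kernel
theorem v_spider_0_172 : ∀ k, 0 ≤ k → k < 12110 → chk_spider (k * 20) = true := between_extend chk_spider 20 0 12040 70 (v_spider_0_171) r_spider_0_172

theorem r_spider_0_173 : allRange chk_spider 20 12110 70 = true := by decide +kernel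
theorem v_spider_0_173 : ∀ k, 0 ≤ k → k < 12180 → chk_spider (k * 20) = true := between_extend chk_spider 20 0 12110 70 (v_spider_0_172) r_spider_0_173

theorem r_spider_0_174 : allRange chk_spider 20 12180 70 = true := by decide +kernel
theorem v_spider_0_174 : ∀ k, 0 ≤ k → k < 12250 → chk_spider (k * 20) = true := between_extend chk_spider 20 0 12180 70 (v_spider_0_173) r_spider_0_174

theorem r_spider_0_175 : allRange chk_spider 20 12250 70 = true := by decide +kernel
theorem v_spider_0_175 : ∀ k, 0 ≤ k → k < 12320 → chk_spider (k * 20) = true := between_extend chk_spider 20 0 12250 70 (v_spider_0_174) r_spider_0_175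

theorem r_spider_0_176 : allRange chk_spider 20 12320 70 = true := by decide +kernel
theorem v_spider_0_176 : ∀ k, 0 ≤ k → k < 12390 → chk_spider (k * 20) = true := between_extend chk_spider 20 0 12320 70 (v_spider_0_175) r_spider_0_176

theorem r_spider_0_177 : allRange chk_spider 20 12390 70 = true := by decide +kernel
theorem v_spider_0_177 : ∀ k, 0 ≤ k → k < 12460 → chk_spider (k * 20) = true := between_extend chk_spider 20 0 12390 70 (v_spider_0_176) r_spider_0_177

theorem r_spider_0_178 : allRange chk_spider 20 12460 70 = true := by decide +kernel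
theorem v_spider_0_178 : ∀ k, 0 ≤ k → k < 12530 → chk_spider (k * 20) = true := between_extend chk_spider 20 0 12460 70 (v_spider_0_177) r_spider_0_178

theorem r_spider_0_179 : allRange chk_spider 20 12530 70 = true := by decide +kernel
theorem v_spider_0_179 : ∀ k, 0 ≤ k → k < 12600 → chk_spider (k * 20) = true := between_extend chk_spider 20 0 12530 70 (v_spider_0_178) r_spider_0_179

theorem r_spider_0_180 : allRange chk_spider 20 12600 70 = true := by decide +kernel
theorem v_spider_0_180 : ∀ k, 0 ≤ k → k < 12670 → chk_spider (k * 20) = true := between_extend chk_spider 20 0 12600 70 (v_spider_0_179) r_spider_0_180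

theorem r_spider_0_181 : allRange chk_spider 20 12670 70 = true := by decide +kernel
theorem v_spider_0_181 : ∀ k, 0 ≤ k → k < 12740 → chk_spider (k * 20) = true := between_extend chk_spider 20 0 12670 70 (v_spider_0_180) r_spider_0_181

theorem r_spider_0_182 : allRange chk_spider 20 12740 70 = true := by decide +kernel
theorem v_spider_0_182 : ∀ k, 0 ≤ k → k < 12810 → chk_spider (k * 20) = true := between_extend chk_spider 20 0 12740 70 (v_spider_0_181) r_spider_0_182

theorem r_spider_0_183 : allRange chk_spider 20 12810 70 = true := by decide +kernel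
theorem v_spider_0_183 : ∀ k, 0 ≤ k → k < 12880 → chk_spider (k * 20) = true := between_extend chk_spider 20 0 12810 70 (v_spider_0_182) r_spider_0_183

theorem r_spider_0_184 : allRange chk_spider 20 12880 70 = true := by decide +kernel
theorem v_spider_0_184 : ∀ k, 0 ≤ k → k < 12950 → chk_spider (k * 20) = true := between_extend chk_spider 20 0 12880 70 (v_spider_0_183) r_spider_0_184

theorem r_spider_0_185 : allRange chk_spider 20 12950 70 = true := by decide +kernel
theorem v_spider_0_185 : ∀ k, 0 ≤ k → k < 13020 → chk_spider (k * 20) = true := between_extend chk_spider 20 0 12950 70 (v_spider_0_184) r_spider_0_185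

theorem r_spider_0_186 : allRange chk_spider 20 13020 70 = true := by decide +kernel
theorem v_spider_0_186 : ∀ k, 0 ≤ k → k < 13090 → chk_spider (k * 20) = true := between_extend chk_spider 20 0 13020 70 (v_spider_0_185) r_spider_0_186

theorem r_spider_0_187 : allRange chk_spider 20 13090 70 = true := by decide +kernel
theorem v_spider_0_187 : ∀ k, 0 ≤ k → k < 13160 → chk_spider (k * 20) = true := between_extend chk_spider 20 0 13090 70 (v_spider_0_186) r_spider_0_187

theorem r_spider_0_188 : allRange chk_spider 20 13160 70 = true := by decide +kernel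
theorem v_spider_0_188 : ∀ k, 0 ≤ k → k < 13230 → chk_spider (k * 20) = true := between_extend chk_spider 20 0 13160 70 (v_spider_0_187) r_spider_0_188

theorem r_spider_0_189 : allRange chk_spider 20 13230 70 = true := by decide +kernel
theorem v_spider_0_189 : ∀ k, 0 ≤ k → k < 13300 → chk_spider (k * 20) = true := between_extend chk_spider 20 0 13230 70 (v_spider_0_188) r_spider_0_189

theorem r_spider_0_190 : allRange chk_spider 20 13300 70 = true := by decide +kernel
theorem v_spider_0_190 : ∀ k, 0 ≤ k → k < 13370 → chk_spider (k * 20) = true := between_extend chk_spider 20 0 13300 70 (v_spider_0_189) r_spider_0_190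

theorem r_spider_0_191 : allRange chk_spider 20 13370 70 = true := by decide +kernel
theorem v_spider_0_191 : ∀ k, 0 ≤ k → k < 13440 → chk_spider (k * 20) = true := between_extend chk_spider 20 0 13370 70 (v_spider_0_190) r_spider_0_191

theorem r_spider_0_192 : allRange chk_spider 20 13440 70 = true := by decide +kernel
theorem v_spider_0_192 : ∀ k, 0 ≤ k → k < 13510 → chk_spider (k * 20) = true := between_extend chk_spider 20 0 13440 70 (v_spider_0_191) r_spider_0_192

theorem r_spider_0_193 : allRange chk_spider 20 13510 70 = true := by decide +kernel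
theorem v_spider_0_193 : ∀ k, 0 ≤ k → k < 13580 → chk_spider (k * 20) = true := between_extend chk_spider 20 0 13510 70 (v_spider_0_192) r_spider_0_193

theorem r_spider_0_194 : allRange chk_spider 20 13580 70 = true := by decide +kernel
theorem v_spider_0_194 : ∀ k, 0 ≤ k → k < 13650 → chk_spider (k * 20) = true := between_extend chk_spider 20 0 13580 70 (v_spider_0_193) r_spider_0_194

theorem r_spider_0_195 : allRange chk_spider 20 13650 70 = true := by decide +kernel
theorem v_spider_0_195 : ∀ k, 0 ≤ k → k < 13720 → chk_spider (k * 20) = true := between_extend chk_spider 20 0 13650 70 (v_spider_0_194) r_spider_0_195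

theorem r_spider_0_196 : allRange chk_spider 20 13720 70 = true := by decide +kernel
theorem v_spider_0_196 : ∀ k, 0 ≤ k → k < 13790 → chk_spider (k * 20) = true := between_extend chk_spider 20 0 13720 70 (v_spider_0_195) r_spider_0_196

theorem r_spider_0_197 : allRange chk_spider 20 13790 70 = true := by decide +kernel
theorem v_spider_0_197 : ∀ k, 0 ≤ k → k < 13860 → chk_spider (k * 20) = true := between_extend chk_spider 20 0 13790 70 (v_spider_0_196) r_spider_0_197

theorem r_spider_0_198 : allRange chk_spider 20 13860 70 = true := by decide +kernel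
theorem v_spider_0_198 : ∀ k, 0 ≤ k → k < 13930 → chk_spider (k * 20) = true := between_extend chk_spider 20 0 13860 70 (v_spider_0_197) r_spider_0_198

theorem r_spider_0_199 : allRange chk_spider 20 13930 70 = true := by decide +kernel
theorem v_spider_0_199 : ∀ k, 0 ≤ k → k < 14000 → chk_spider (k * 20) = true := between_extend chk_spider 20 0 13930 70 (v_spider_0_198) r_spider_0_199

theorem r_spider_0_200 : allRange chk_spider 20 14000 70 = true := by decide +kernel
theorem v_spider_0_200 : ∀ k, 0 ≤ k → k < 14070 → chk_spider (k * 20) = true := between_extend chk_spider 20 0 14000 70 (v_spider_0_199) r_spider_0_200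

theorem r_spider_0_201 : allRange chk_spider 20 14070 70 = true := by decide +kernel
theorem v_spider_0_201 : ∀ k, 0 ≤ k → k < 14140 → chk_spider (k * 20) = true := between_extend chk_spider 20 0 14070 70 (v_spider_0_200) r_spider_0_201

theorem r_spider_0_202 : allRange chk_spider 20 14140 70 = true := by decide +kernel
theorem v_spider_0_202 : ∀ k, 0 ≤ k → k < 14210 → chk_spider (k * 20) = true := between_extend chk_spider 20 0 14140 70 (v_spider_0_201) r_spider_0_202

theorem r_spider_0_203 : allRange chk_spider 20 14210 70 = true := by decide +kernel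
theorem v_spider_0_203 : ∀ k, 0 ≤ k → k < 14280 → chk_spider (k * 20) = true := between_extend chk_spider 20 0 14210 70 (v_spider_0_202) r_spider_0_203

theorem r_spider_0_204 : allRange chk_spider 20 14280 70 = true := by decide +kernel
theorem v_spider_0_204 : ∀ k, 0 ≤ k → k < 14350 → chk_spider (k * 20) = true := between_extend chk_spider 20 0 14280 70 (v_spider_0_203) r_spider_0_204

theorem r_spider_0_205 : allRange chk_spider 20 14350 70 = true := by decide +kernel
theorem v_spider_0_205 : ∀ k, 0 ≤ k → k < 14420 → chk_spider (k * 20) = true := between_extend chk_spider 20 0 14350 70 (v_spider_0_204) r_spider_0_205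

theorem r_spider_0_206 : allRange chk_spider 20 14420 70 = true := by decide +kernel
theorem v_spider_0_206 : ∀ k, 0 ≤ k → k < 14490 → chk_spider (k * 20) = true := between_extend chk_spider 20 0 14420 70 (v_spider_0_205) r_spider_0_206

theorem r_spider_0_207 : allRange chk_spider 20 14490 70 = true := by decide +kernel
theorem v_spider_0_207 : ∀ k, 0 ≤ k → k < 14560 → chk_spider (k * 20) = true := between_extend chk_spider 20 0 14490 70 (v_spider_0_206) r_spider_0_207

theorem r_spider_0_208 : allRange chk_spider 20 14560 70 = true := by decide +kernel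
theorem v_spider_0_208 : ∀ k, 0 ≤ k → k < 14630 → chk_spider (k * 20) = true := between_extend chk_spider 20 0 14560 70 (v_spider_0_207) r_spider_0_208

theorem r_spider_0_209 : allRange chk_spider 20 14630 70 = true := by decide +kernel
theorem v_spider_0_209 : ∀ k, 0 ≤ k → k < 14700 → chk_spider (k * 20) = true := between_extend chk_spider 20 0 14630 70 (v_spider_0_208) r_spider_0_209

theorem r_spider_0_210 : allRange chk_spider 20 14700 70 = true := by decide +kernel
theorem v_spider_0_210 : ∀ k, 0 ≤ k → k < 14770 → chk_spider (k * 20) = true := between_extend chk_spider 20 0 14700 70 (v_spider_0_209) r_spider_0_210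

theorem r_spider_0_211 : allRange chk_spider 20 14770 70 = true := by decide +kernel
theorem v_spider_0_211 : ∀ k, 0 ≤ k → k < 14840 → chk_spider (k * 20) = true := between_extend chk_spider 20 0 14770 70 (v_spider_0_210) r_spider_0_211

theorem r_spider_0_212 : allRange chk_spider 20 14840 70 = true := by decide +kernel
theorem v_spider_0_212 : ∀ k, 0 ≤ k → k < 14910 → chk_spider (k * 20) = true := between_extend chk_spider 20 0 14840 70 (v_spider_0_211) r_spider_0_212

theorem r_spider_0_213 : allRange chk_spider 20 14910 70 = true := by decide +kernel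
theorem v_spider_0_213 : ∀ k, 0 ≤ k → k < 14980 → chk_spider (k * 20) = true := between_extend chk_spider 20 0 14910 70 (v_spider_0_212) r_spider_0_213

theorem r_spider_0_214 : allRange chk_spider 20 14980 70 = true := by decide +kernel
theorem v_spider_0_214 : ∀ k, 0 ≤ k → k < 15050 → chk_spider (k * 20) = true := between_extend chk_spider 20 0 14980 70 (v_spider_0_213) r_spider_0_214

theorem r_spider_0_215 : allRange chk_spider 20 15050 70 = true := by decide +kernel
theorem v_spider_0_215 : ∀ k, 0 ≤ k → k < 15120 → chk_spider (k * 20) = true := between_extend chk_spider 20 0 15050 70 (v_spider_0_214) r_spider_0_215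

theorem r_spider_0_216 : allRange chk_spider 20 15120 70 = true := by decide +kernel
theorem v_spider_0_216 : ∀ k, 0 ≤ k → k < 15190 → chk_spider (k * 20) = true := between_extend chk_spider 20 0 15120 70 (v_spider_0_215) r_spider_0_216

theorem r_spider_0_217 : allRange chk_spider 20 15190 70 = true := by decide +kernel
theorem v_spider_0_217 : ∀ k, 0 ≤ k → k < 15260 → chk_spider (k * 20) = true := between_extend chk_spider 20 0 15190 70 (v_spider_0_216) r_spider_0_217

theorem r_spider_0_218 : allRange chk_spider 20 15260 70 = true := by decide +kernel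
theorem v_spider_0_218 : ∀ k, 0 ≤ k → k < 15330 → chk_spider (k * 20) = true := between_extend chk_spider 20 0 15260 70 (v_spider_0_217) r_spider_0_218

theorem r_spider_0_219 : allRange chk_spider 20 15330 70 = true := by decide +kernel
theorem v_spider_0_219 : ∀ k, 0 ≤ k → k < 15400 → chk_spider (k * 20) = true := between_extend chk_spider 20 0 15330 70 (v_spider_0_218) r_spider_0_219

theorem r_spider_0_220 : allRange chk_spider 20 15400 70 = true := by decide +kernel
theorem v_spider_0_220 : ∀ k, 0 ≤ k → k < 15470 → chk_spider (k * 20) = true := between_extend chk_spider 20 0 15400 70 (v_spider_0_219) r_spider_0_220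

theorem r_spider_0_221 : allRange chk_spider 20 15470 70 = true := by decide +kernel
theorem v_spider_0_221 : ∀ k, 0 ≤ k → k < 15540 → chk_spider (k * 20) = true := between_extend chk_spider 20 0 15470 70 (v_spider_0_220) r_spider_0_221

theorem r_spider_0_222 : allRange chk_spider 20 15540 70 = true := by decide +kernel
theorem v_spider_0_222 : ∀ k, 0 ≤ k → k < 15610 → chk_spider (k * 20) = true := between_extend chk_spider 20 0 15540 70 (v_spider_0_221) r_spider_0_222

theorem r_spider_0_223 : allRange chk_spider 20 15610 70 = true := by decide +kernel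
theorem v_spider_0_223 : ∀ k, 0 ≤ k → k < 15680 → chk_spider (k * 20) = true := between_extend chk_spider 20 0 15610 70 (v_spider_0_222) r_spider_0_223

theorem r_spider_0_224 : allRange chk_spider 20 15680 70 = true := by decide +kernel
theorem v_spider_0_224 : ∀ k, 0 ≤ k → k < 15750 → chk_spider (k * 20) = true := between_extend chk_spider 20 0 15680 70 (v_spider_0_223) r_spider_0_224

theorem r_spider_0_225 : allRange chk_spider 20 15750 70 = true := by decide +kernel
theorem v_spider_0_225 : ∀ k, 0 ≤ k → k < 15820 → chk_spider (k * 20) = true := between_extend chk_spider 20 0 15750 70 (v_spider_0_224) r_spider_0_225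

theorem r_spider_0_226 : allRange chk_spider 20 15820 16 = true := by decide +kernel
theorem v_spider_0_226 : ∀ k, 0 ≤ k → k < 15836 → chk_spider (k * 20) = true := between_extend chk_spider 20 0 15820 16 (v_spider_0_225) r_spider_0_226

theorem p_spider_0 : ∀ k, 0 ≤ k → k < 15836 → chk_spider (k * 20) = true := v_spider_0_226

end Cfsg.Agent.Lib.Helper28_Y5FiW
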