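import Cfsg.Agent.Lib.Helper28_Y5FiWDef

set_option autoImplicit false
set_option linter.constructorNameAsVariable false
set_option Elab.async false

namespace Cfsg.Agent.Lib.Helper28_Y5FiW

open Cfsg.Agent.Lib.Helper28_CosetPerm

theorem r_braid_2_0 : allRange chk_braid 20 21114 32 = true := by decide +kernel
theorem v_braid_2_0 : ∀ k, 21114 ≤ k → k < 21146 → chk_braid (k * 20) = true := between_extend chk_braid 20 21114 21114 32 (between_start chk_braid 20 21114) r_braid_2_0

theorem r_braid_2_1 : allRange chk_braid 20 21146 32 = true := by decide +kernel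
theorem v_braid_2_1 : ∀ k, 21114 ≤ k → k < 21178 → chk_braid (k * 20) = true := between_extend chk_braid 20 21114 21146 32 (v_braid_2_0) r_braid_2_1

theorem r_braid_2_2 : allRange chk_braid 20 21178 32 = true := by decide +kernel
theorem v_braid_2_2 : ∀ k, 21114 ≤ k → k < 21210 → chk_braid (k * 20) = true := between_extend chk_braid 20 21114 21178 32 (v_braid_2_1) r_braid_2_2

theorem r_braid_2_3 : allRange chk_braid 20 21210 32 = true := by decide +kernel
theorem v_braid_2_3 : ∀ k, 21114 ≤ k → k < 21242 → chk_braid (k * 20) = true := between_extend chk_braid 20 21114 21210 32 (v_braid_2_2) r_braid_2_3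

theorem r_braid_2_4 : allRange chk_braid 20 21242 32 = true := by decide +kernel
theorem v_braid_2_4 : ∀ k, 21114 ≤ k → k < 21274 → chk_braid (k * 20) = true := between_extend chk_braid 20 21114 21242 32 (v_braid_2_3) r_braid_2_4

theorem r_braid_2_5 : allRange chk_braid 20 21274 32 = true := by decide +kernel
theorem v_braid_2_5 : ∀ k, 21114 ≤ k → k < 21306 → chk_braid (k * 20) = true := between_extend chk_braid 20 21114 21274 32 (v_braid_2_4) r_braid_2_5

theorem r_braid_2_6 : allRange chk_braid 20 21306 32 = true := by decide +kernel
theorem v_braid_2_6 : ∀ k, 21114 ≤ k → k < 21338 → chk_braid (k * 20) = true := between_extend chk_braid 20 21114 21306 32 (v_braid_2_5) r_braid_2_6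

theorem r_braid_2_7 : allRange chk_braid 20 21338 32 = true := by decide +kernel
theorem v_braid_2_7 : ∀ k, 21114 ≤ k → k < 21370 → chk_braid (k * 20) = true := between_extend chk_braid 20 21114 21338 32 (v_braid_2_6) r_braid_2_7

theorem r_braid_2_8 : allRange chk_braid 20 21370 32 = true := by decide +kernel
theorem v_braid_2_8 : ∀ k, 21114 ≤ k → k < 21402 → chk_braid (k * 20) = true := between_extend chk_braid 20 21114 21370 32 (v_braid_2_7) r_braid_2_8

theorem r_braid_2_9 : allRange chk_braid 20 21402 32 = true := by decide +kernel
theorem v_braid_2_9 : ∀ k, 21114 ≤ k → k < 21434 → chk_braid (k * 20) = true := between_extend chk_braid 20 21114 21402 32 (v_braid_2_8) r_braid_2_9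

theorem r_braid_2_10 : allRange chk_braid 20 21434 32 = true := by decide +kernel
theorem v_braid_2_10 : ∀ k, 21114 ≤ k → k < 21466 → chk_braid (k * 20) = true := between_extend chk_braid 20 21114 21434 32 (v_braid_2_9) r_braid_2_10

theorem r_braid_2_11 : allRange chk_braid 20 21466 32 = true := by decide +kernel
theorem v_braid_2_11 : ∀ k, 21114 ≤ k → k < 21498 → chk_braid (k * 20) = true := between_extend chk_braid 20 21114 21466 32 (v_braid_2_10) r_braid_2_11

theorem r_braid_2_12 : allRange chk_braid 20 21498 32 = true := by decide +kernel
theorem v_braid_2_12 : ∀ k, 21114 ≤ k → k < 21530 → chk_braid (k * 20) = true := between_extend chk_braid 20 21114 21498 32 (v_braid_2_11) r_braid_2_12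

theorem r_braid_2_13 : allRange chk_braid 20 21530 32 = true := by decide +kernel
theorem v_braid_2_13 : ∀ k, 21114 ≤ k → k < 21562 → chk_braid (k * 20) = true := between_extend chk_braid 20 21114 21530 32 (v_braid_2_12) r_braid_2_13

theorem r_braid_2_14 : allRange chk_braid 20 21562 32 = true := by decide +kernel
theorem v_braid_2_14 : ∀ k, 21114 ≤ k → k < 21594 → chk_braid (k * 20) = true := between_extend chk_braid 20 21114 21562 32 (v_braid_2_13) r_braid_2_14

theorem r_braid_2_15 : allRange chk_braid 20 21594 32 = true := by decide +kernel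
theorem v_braid_2_15 : ∀ k, 21114 ≤ k → k < 21626 → chk_braid (k * 20) = true := between_extend chk_braid 20 21114 21594 32 (v_braid_2_14) r_braid_2_15

theorem r_braid_2_16 : allRange chk_braid 20 21626 32 = true := by decide +kernel
theorem v_braid_2_16 : ∀ k, 21114 ≤ k → k < 21658 → chk_braid (k * 20) = true := between_extend chk_braid 20 21114 21626 32 (v_braid_2_15) r_braid_2_16

theorem r_braid_2_17 : allRange chk_braid 20 21658 32 = true := by decide +kernel
theorem v_braid_2_17 : ∀ k, 21114 ≤ k → k < 21690 → chk_braid (k * 20) = true := between_extend chk_braid 20 21114 21658 32 (v_braid_2_16) r_braid_2_17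

theorem r_braid_2_18 : allRange chk_braid 20 21690 32 = true := by decide +kernel
theorem v_braid_2_18 : ∀ k, 21114 ≤ k → k < 21722 → chk_braid (k * 20) = true := between_extend chk_braid 20 21114 21690 32 (v_braid_2_17) r_braid_2_18

theorem r_braid_2_19 : allRange chk_braid 20 21722 32 = true := by decide +kernel
theorem v_braid_2_19 : ∀ k, 21114 ≤ k → k < 21754 → chk_braid (k * 20) = true := between_extend chk_braid 20 21114 21722 32 (v_braid_2_18) r_braid_2_19

theorem r_braid_2_20 : allRange chk_braid 20 21754 32 = true := by decide +kernel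
theorem v_braid_2_20 : ∀ k, 21114 ≤ k → k < 21786 → chk_braid (k * 20) = true := between_extend chk_braid 20 21114 21754 32 (v_braid_2_19) r_braid_2_20

theorem r_braid_2_21 : allRange chk_braid 20 21786 32 = true := by decide +kernel
theorem v_braid_2_21 : ∀ k, 21114 ≤ k → k < 21818 → chk_braid (k * 20) = true := between_extend chk_braid 20 21114 21786 32 (v_braid_2_20) r_braid_2_21

theorem r_braid_2_22 : allRange chk_braid 20 21818 32 = true := by decide +kernel
theorem v_braid_2_22 : ∀ k, 21114 ≤ k → k < 21850 → chk_braid (k * 20) = true := between_extend chk_braid 20 21114 21818 32 (v_braid_2_21) r_braid_2_22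

theorem r_braid_2_23 : allRange chk_braid 20 21850 32 = true := by decide +kernel
theorem v_braid_2_23 : ∀ k, 21114 ≤ k → k < 21882 → chk_braid (k * 20) = true := between_extend chk_braid 20 21114 21850 32 (v_braid_2_22) r_braid_2_23

theorem r_braid_2_24 : allRange chk_braid 20 21882 32 = true := by decide +kernel
theorem v_braid_2_24 : ∀ k, 21114 ≤ k → k < 21914 → chk_braid (k * 20) = true := between_extend chk_braid 20 21114 21882 32 (v_braid_2_23) r_braid_2_24

theorem r_braid_2_25 : allRange chk_braid 20 21914 32 = true := by decide +kernel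
theorem v_braid_2_25 : ∀ k, 21114 ≤ k → k < 21946 → chk_braid (k * 20) = true := between_extend chk_braid 20 21114 21914 32 (v_braid_2_24) r_braid_2_25

theorem r_braid_2_26 : allRange chk_braid 20 21946 32 = true := by decide +kernel
theorem v_braid_2_26 : ∀ k, 21114 ≤ k → k < 21978 → chk_braid (k * 20) = true := between_extend chk_braid 20 21114 21946 32 (v_braid_2_25) r_braid_2_26

theorem r_braid_2_27 : allRange chk_braid 20 21978 32 = true := by decide +kernel
theorem v_braid_2_27 : ∀ k, 21114 ≤ k → k < 22010 → chk_braid (k * 20) = true := between_extend chk_braid 20 21114 21978 32 (v_braid_2_26) r_braid_2_27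

theorem r_braid_2_28 : allRange chk_braid 20 22010 32 = true := by decide +kernel
theorem v_braid_2_28 : ∀ k, 21114 ≤ k → k < 22042 → chk_braid (k * 20) = true := between_extend chk_braid 20 21114 22010 32 (v_braid_2_27) r_braid_2_28

theorem r_braid_2_29 : allRange chk_braid 20 22042 32 = true := by decide +kernel
theorem v_braid_2_29 : ∀ k, 21114 ≤ k → k < 22074 → chk_braid (k * 20) = true := between_extend chk_braid 20 21114 22042 32 (v_braid_2_28) r_braid_2_29

theorem r_braid_2_30 : allRange chk_braid 20 22074 32 = true := by decide +kernel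
theorem v_braid_2_30 : ∀ k, 21114 ≤ k → k < 22106 → chk_braid (k * 20) = true := between_extend chk_braid 20 21114 22074 32 (v_braid_2_29) r_braid_2_30

theorem r_braid_2_31 : allRange chk_braid 20 22106 32 = true := by decide +kernel
theorem v_braid_2_31 : ∀ k, 21114 ≤ k → k < 22138 → chk_braid (k * 20) = true := between_extend chk_braid 20 21114 22106 32 (v_braid_2_30) r_braid_2_31

theorem r_braid_2_32 : allRange chk_braid 20 22138 32 = true := by decide +kernel
theorem v_braid_2_32 : ∀ k, 21114 ≤ k → k < 22170 → chk_braid (k * 20) = true := between_extend chk_braid 20 21114 22138 32 (v_braid_2_31) r_braid_2_32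

theorem r_braid_2_33 : allRange chk_braid 20 22170 32 = true := by decide +kernel
theorem v_braid_2_33 : ∀ k, 21114 ≤ k → k < 22202 → chk_braid (k * 20) = true := between_extend chk_braid 20 21114 22170 32 (v_braid_2_32) r_braid_2_33

theorem r_braid_2_34 : allRange chk_braid 20 22202 32 = true := by decide +kernel
theorem v_braid_2_34 : ∀ k, 21114 ≤ k → k < 22234 → chk_braid (k * 20) = true := between_extend chk_braid 20 21114 22202 32 (v_braid_2_33) r_braid_2_34

theorem r_braid_2_35 : allRange chk_braid 20 22234 32 = true := by decide +kernel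
theorem v_braid_2_35 : ∀ k, 21114 ≤ k → k < 22266 → chk_braid (k * 20) = true := between_extend chk_braid 20 21114 22234 32 (v_braid_2_34) r_braid_2_35

theorem r_braid_2_36 : allRange chk_braid 20 22266 32 = true := by decide +kernel
theorem v_braid_2_36 : ∀ k, 21114 ≤ k → k < 22298 → chk_braid (k * 20) = true := between_extend chk_braid 20 21114 22266 32 (v_braid_2_35) r_braid_2_36

theorem r_braid_2_37 : allRange chk_braid 20 22298 32 = true := by decide +kernel
theorem v_braid_2_37 : ∀ k, 21114 ≤ k → k < 22330 → chk_braid (k * 20) = true := between_extend chk_braid 20 21114 22298 32 (v_braid_2_36) r_braid_2_37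

theorem r_braid_2_38 : allRange chk_braid 20 22330 32 = true := by decide +kernel
theorem v_braid_2_38 : ∀ k, 21114 ≤ k → k < 22362 → chk_braid (k * 20) = true := between_extend chk_braid 20 21114 22330 32 (v_braid_2_37) r_braid_2_38

theorem r_braid_2_39 : allRange chk_braid 20 22362 32 = true := by decide +kernel
theorem v_braid_2_39 : ∀ k, 21114 ≤ k → k < 22394 → chk_braid (k * 20) = true := between_extend chk_braid 20 21114 22362 32 (v_braid_2_38) r_braid_2_39

theorem r_braid_2_40 : allRange chk_braid 20 22394 32 = true := by decide +kernel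
theorem v_braid_2_40 : ∀ k, 21114 ≤ k → k < 22426 → chk_braid (k * 20) = true := between_extend chk_braid 20 21114 22394 32 (v_braid_2_39) r_braid_2_40

theorem r_braid_2_41 : allRange chk_braid 20 22426 32 = true := by decide +kernel
theorem v_braid_2_41 : ∀ k, 21114 ≤ k → k < 22458 → chk_braid (k * 20) = true := between_extend chk_braid 20 21114 22426 32 (v_braid_2_40) r_braid_2_41

theorem r_braid_2_42 : allRange chk_braid 20 22458 32 = true := by decide +kernel
theorem v_braid_2_42 : ∀ k, 21114 ≤ k → k < 22490 → chk_braid (k * 20) = true := between_extend chk_braid 20 21114 22458 32 (v_braid_2_41) r_braid_2_42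

theorem r_braid_2_43 : allRange chk_braid 20 22490 32 = true := by decide +kernel
theorem v_braid_2_43 : ∀ k, 21114 ≤ k → k < 22522 → chk_braid (k * 20) = true := between_extend chk_braid 20 21114 22490 32 (v_braid_2_42) r_braid_2_43

theorem r_braid_2_44 : allRange chk_braid 20 22522 32 = true := by decide +kernel
theorem v_braid_2_44 : ∀ k, 21114 ≤ k → k < 22554 → chk_braid (k * 20) = true := between_extend chk_braid 20 21114 22522 32 (v_braid_2_43) r_braid_2_44

theorem r_braid_2_45 : allRange chk_braid 20 22554 32 = true := by decide +kernel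
theorem v_braid_2_45 : ∀ k, 21114 ≤ k → k < 22586 → chk_braid (k * 20) = true := between_extend chk_braid 20 21114 22554 32 (v_braid_2_44) r_braid_2_45

theorem r_braid_2_46 : allRange chk_braid 20 22586 32 = true := by decide +kernel
theorem v_braid_2_46 : ∀ k, 21114 ≤ k → k < 22618 → chk_braid (k * 20) = true := between_extend chk_braid 20 21114 22586 32 (v_braid_2_45) r_braid_2_46

theorem r_braid_2_47 : allRange chk_braid 20 22618 32 = true := by decide +kernel
theorem v_braid_2_47 : ∀ k, 21114 ≤ k → k < 22650 → chk_braid (k * 20) = true := between_extend chk_braid 20 21114 22618 32 (v_braid_2_46) r_braid_2_47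

theorem r_braid_2_48 : allRange chk_braid 20 22650 32 = true := by decide +kernel
theorem v_braid_2_48 : ∀ k, 21114 ≤ k → k < 22682 → chk_braid (k * 20) = true := between_extend chk_braid 20 21114 22650 32 (v_braid_2_47) r_braid_2_48

theorem r_braid_2_49 : allRange chk_braid 20 22682 32 = true := by decide +kernel
theorem v_braid_2_49 : ∀ k, 21114 ≤ k → k < 22714 → chk_braid (k * 20) = true := between_extend chk_braid 20 21114 22682 32 (v_braid_2_48) r_braid_2_49

theorem r_braid_2_50 : allRange chk_braid 20 22714 32 = true := by decide +kernel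
theorem v_braid_2_50 : ∀ k, 21114 ≤ k → k < 22746 → chk_braid (k * 20) = true := between_extend chk_braid 20 21114 22714 32 (v_braid_2_49) r_braid_2_50

theorem r_braid_2_51 : allRange chk_braid 20 22746 32 = true := by decide +kernel
theorem v_braid_2_51 : ∀ k, 21114 ≤ k → k < 22778 → chk_braid (k * 20) = true := between_extend chk_braid 20 21114 22746 32 (v_braid_2_50) r_braid_2_51

theorem r_braid_2_52 : allRange chk_braid 20 22778 32 = true := by decide +kernel
theorem v_braid_2_52 : ∀ k, 21114 ≤ k → k < 22810 → chk_braid (k * 20) = true := between_extend chk_braid 20 21114 22778 32 (v_braid_2_51) r_braid_2_52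

theorem r_braid_2_53 : allRange chk_braid 20 22810 32 = true := by decide +kernel
theorem v_braid_2_53 : ∀ k, 21114 ≤ k → k < 22842 → chk_braid (k * 20) = true := between_extend chk_braid 20 21114 22810 32 (v_braid_2_52) r_braid_2_53

theorem r_braid_2_54 : allRange chk_braid 20 22842 32 = true := by decide +kernel
theorem v_braid_2_54 : ∀ k, 21114 ≤ k → k < 22874 → chk_braid (k * 20) = true := between_extend chk_braid 20 21114 22842 32 (v_braid_2_53) r_braid_2_54

theorem r_braid_2_55 : allRange chk_braid 20 22874 32 = true := by decide +kernel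
theorem v_braid_2_55 : ∀ k, 21114 ≤ k → k < 22906 → chk_braid (k * 20) = true := between_extend chk_braid 20 21114 22874 32 (v_braid_2_54) r_braid_2_55

theorem r_braid_2_56 : allRange chk_braid 20 22906 32 = true := by decide +kernel
theorem v_braid_2_56 : ∀ k, 21114 ≤ k → k < 22938 → chk_braid (k * 20) = true := between_extend chk_braid 20 21114 22906 32 (v_braid_2_55) r_braid_2_56

theorem r_braid_2_57 : allRange chk_braid 20 22938 32 = true := by decide +kernel
theorem v_braid_2_57 : ∀ k, 21114 ≤ k → k < 22970 → chk_braid (k * 20) = true := between_extend chk_braid 20 21114 22938 32 (v_braid_2_56) r_braid_2_57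

theorem r_braid_2_58 : allRange chk_braid 20 22970 32 = true := by decide +kernel
theorem v_braid_2_58 : ∀ k, 21114 ≤ k → k < 23002 → chk_braid (k * 20) = true := between_extend chk_braid 20 21114 22970 32 (v_braid_2_57) r_braid_2_58

theorem r_braid_2_59 : allRange chk_braid 20 23002 32 = true := by decide +kernel
theorem v_braid_2_59 : ∀ k, 21114 ≤ k → k < 23034 → chk_braid (k * 20) = true := between_extend chk_braid 20 21114 23002 32 (v_braid_2_58) r_braid_2_59

theorem r_braid_2_60 : allRange chk_braid 20 23034 32 = true := by decide +kernel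
theorem v_braid_2_60 : ∀ k, 21114 ≤ k → k < 23066 → chk_braid (k * 20) = true := between_extend chk_braid 20 21114 23034 32 (v_braid_2_59) r_braid_2_60

theorem r_braid_2_61 : allRange chk_braid 20 23066 32 = true := by decide +kernel
theorem v_braid_2_61 : ∀ k, 21114 ≤ k → k < 23098 → chk_braid (k * 20) = true := between_extend chk_braid 20 21114 23066 32 (v_braid_2_60) r_braid_2_61

theorem r_braid_2_62 : allRange chk_braid 20 23098 32 = true := by decide +kernel
theorem v_braid_2_62 : ∀ k, 21114 ≤ k → k < 23130 → chk_braid (k * 20) = true := between_extend chk_braid 20 21114 23098 32 (v_braid_2_61) r_braid_2_62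

theorem r_braid_2_63 : allRange chk_braid 20 23130 32 = true := by decide +kernel
theorem v_braid_2_63 : ∀ k, 21114 ≤ k → k < 23162 → chk_braid (k * 20) = true := between_extend chk_braid 20 21114 23130 32 (v_braid_2_62) r_braid_2_63

theorem r_braid_2_64 : allRange chk_braid 20 23162 32 = true := by decide +kernel
theorem v_braid_2_64 : ∀ k, 21114 ≤ k → k < 23194 → chk_braid (k * 20) = true := between_extend chk_braid 20 21114 23162 32 (v_braid_2_63) r_braid_2_64

theorem r_braid_2_65 : allRange chk_braid 20 23194 32 = true := by decide +kernel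
theorem v_braid_2_65 : ∀ k, 21114 ≤ k → k < 23226 → chk_braid (k * 20) = true := between_extend chk_braid 20 21114 23194 32 (v_braid_2_64) r_braid_2_65

theorem r_braid_2_66 : allRange chk_braid 20 23226 32 = true := by decide +kernel
theorem v_braid_2_66 : ∀ k, 21114 ≤ k → k < 23258 → chk_braid (k * 20) = true := between_extend chk_braid 20 21114 23226 32 (v_braid_2_65) r_braid_2_66

theorem r_braid_2_67 : allRange chk_braid 20 23258 32 = true := by decide +kernel
theorem v_braid_2_67 : ∀ k, 21114 ≤ k → k < 23290 → chk_braid (k * 20) = true := between_extend chk_braid 20 21114 23258 32 (v_braid_2_66) r_braid_2_67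

theorem r_braid_2_68 : allRange chk_braid 20 23290 32 = true := by decide +kernel
theorem v_braid_2_68 : ∀ k, 21114 ≤ k → k < 23322 → chk_braid (k * 20) = true := between_extend chk_braid 20 21114 23290 32 (v_braid_2_67) r_braid_2_68

theorem r_braid_2_69 : allRange chk_braid 20 23322 32 = true := by decide +kernel
theorem v_braid_2_69 : ∀ k, 21114 ≤ k → k < 23354 → chk_braid (k * 20) = true := between_extend chk_braid 20 21114 23322 32 (v_braid_2_68) r_braid_2_69

theorem r_braid_2_70 : allRange chk_braid 20 23354 32 = true := by decide +kernel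
theorem v_braid_2_70 : ∀ k, 21114 ≤ k → k < 23386 → chk_braid (k * 20) = true := between_extend chk_braid 20 21114 23354 32 (v_braid_2_69) r_braid_2_70

theorem r_braid_2_71 : allRange chk_braid 20 23386 32 = true := by decide +kernel
theorem v_braid_2_71 : ∀ k, 21114 ≤ k → k < 23418 → chk_braid (k * 20) = true := between_extend chk_braid 20 21114 23386 32 (v_braid_2_70) r_braid_2_71

theorem r_braid_2_72 : allRange chk_braid 20 23418 32 = true := by decide +kernel
theorem v_braid_2_72 : ∀ k, 21114 ≤ k → k < 23450 → chk_braid (k * 20) = true := between_extend chk_braid 20 21114 23418 32 (v_braid_2_71) r_braid_2_72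

theorem r_braid_2_73 : allRange chk_braid 20 23450 32 = true := by decide +kernel
theorem v_braid_2_73 : ∀ k, 21114 ≤ k → k < 23482 → chk_braid (k * 20) = true := between_extend chk_braid 20 21114 23450 32 (v_braid_2_72) r_braid_2_73

theorem r_braid_2_74 : allRange chk_braid 20 23482 32 = true := by decide +kernel
theorem v_braid_2_74 : ∀ k, 21114 ≤ k → k < 23514 → chk_braid (k * 20) = true := between_extend chk_braid 20 21114 23482 32 (v_braid_2_73) r_braid_2_74

theorem r_braid_2_75 : allRange chk_braid 20 23514 32 = true := by decide +kernel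
theorem v_braid_2_75 : ∀ k, 21114 ≤ k → k < 23546 → chk_braid (k * 20) = true := between_extend chk_braid 20 21114 23514 32 (v_braid_2_74) r_braid_2_75

theorem r_braid_2_76 : allRange chk_braid 20 23546 32 = true := by decide +kernel
theorem v_braid_2_76 : ∀ k, 21114 ≤ k → k < 23578 → chk_braid (k * 20) = true := between_extend chk_braid 20 21114 23546 32 (v_braid_2_75) r_braid_2_76

theorem r_braid_2_77 : allRange chk_braid 20 23578 32 = true := by decide +kernel
theorem v_braid_2_77 : ∀ k, 21114 ≤ k → k < 23610 → chk_braid (k * 20) = true := between_extend chk_braid 20 21114 23578 32 (v_braid_2_76) r_braid_2_77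

theorem r_braid_2_78 : allRange chk_braid 20 23610 32 = true := by decide +kernel
theorem v_braid_2_78 : ∀ k, 21114 ≤ k → k < 23642 → chk_braid (k * 20) = true := between_extend chk_braid 20 21114 23610 32 (v_braid_2_77) r_braid_2_78

theorem r_braid_2_79 : allRange chk_braid 20 23642 32 = true := by decide +kernel
theorem v_braid_2_79 : ∀ k, 21114 ≤ k → k < 23674 → chk_braid (k * 20) = true := between_extend chk_braid 20 21114 23642 32 (v_braid_2_78) r_braid_2_79

theorem r_braid_2_80 : allRange chk_braid 20 23674 32 = true := by decide +kernel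
theorem v_braid_2_80 : ∀ k, 21114 ≤ k → k < 23706 → chk_braid (k * 20) = true := between_extend chk_braid 20 21114 23674 32 (v_braid_2_79) r_braid_2_80

theorem r_braid_2_81 : allRange chk_braid 20 23706 32 = true := by decide +kernel
theorem v_braid_2_81 : ∀ k, 21114 ≤ k → k < 23738 → chk_braid (k * 20) = true := between_extend chk_braid 20 21114 23706 32 (v_braid_2_80) r_braid_2_81

theorem r_braid_2_82 : allRange chk_braid 20 23738 32 = true := by decide +kernel
theorem v_braid_2_82 : ∀ k, 21114 ≤ k → k < 23770 → chk_braid (k * 20) = true := between_extend chk_braid 20 21114 23738 32 (v_braid_2_81) r_braid_2_82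

theorem r_braid_2_83 : allRange chk_braid 20 23770 32 = true := by decide +kernel
theorem v_braid_2_83 : ∀ k, 21114 ≤ k → k < 23802 → chk_braid (k * 20) = true := between_extend chk_braid 20 21114 23770 32 (v_braid_2_82) r_braid_2_83

theorem r_braid_2_84 : allRange chk_braid 20 23802 32 = true := by decide +kernel
theorem v_braid_2_84 : ∀ k, 21114 ≤ k → k < 23834 → chk_braid (k * 20) = true := between_extend chk_braid 20 21114 23802 32 (v_braid_2_83) r_braid_2_84

theorem r_braid_2_85 : allRange chk_braid 20 23834 32 = true := by decide +kernel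
theorem v_braid_2_85 : ∀ k, 21114 ≤ k → k < 23866 → chk_braid (k * 20) = true := between_extend chk_braid 20 21114 23834 32 (v_braid_2_84) r_braid_2_85

theorem r_braid_2_86 : allRange chk_braid 20 23866 32 = true := by decide +kernel
theorem v_braid_2_86 : ∀ k, 21114 ≤ k → k < 23898 → chk_braid (k * 20) = true := between_extend chk_braid 20 21114 23866 32 (v_braid_2_85) r_braid_2_86

theorem r_braid_2_87 : allRange chk_braid 20 23898 32 = true := by decide +kernel
theorem v_braid_2_87 : ∀ k, 21114 ≤ k → k < 23930 → chk_braid (k * 20) = true := between_extend chk_braid 20 21114 23898 32 (v_braid_2_86) r_braid_2_87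

theorem r_braid_2_88 : allRange chk_braid 20 23930 32 = true := by decide +kernel
theorem v_braid_2_88 : ∀ k, 21114 ≤ k → k < 23962 → chk_braid (k * 20) = true := between_extend chk_braid 20 21114 23930 32 (v_braid_2_87) r_braid_2_88

theorem r_braid_2_89 : allRange chk_braid 20 23962 32 = true := by decide +kernel
theorem v_braid_2_89 : ∀ k, 21114 ≤ k → k < 23994 → chk_braid (k * 20) = true := between_extend chk_braid 20 21114 23962 32 (v_braid_2_88) r_braid_2_89

theorem r_braid_2_90 : allRange chk_braid 20 23994 32 = true := by decide +kernel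
theorem v_braid_2_90 : ∀ k, 21114 ≤ k → k < 24026 → chk_braid (k * 20) = true := between_extend chk_braid 20 21114 23994 32 (v_braid_2_89) r_braid_2_90

theorem r_braid_2_91 : allRange chk_braid 20 24026 32 = true := by decide +kernel
theorem v_braid_2_91 : ∀ k, 21114 ≤ k → k < 24058 → chk_braid (k * 20) = true := between_extend chk_braid 20 21114 24026 32 (v_braid_2_90) r_braid_2_91

theorem r_braid_2_92 : allRange chk_braid 20 24058 32 = true := by decide +kernel
theorem v_braid_2_92 : ∀ k, 21114 ≤ k → k < 24090 → chk_braid (k * 20) = true := between_extend chk_braid 20 21114 24058 32 (v_braid_2_91) r_braid_2_92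

theorem r_braid_2_93 : allRange chk_braid 20 24090 32 = true := by decide +kernel
theorem v_braid_2_93 : ∀ k, 21114 ≤ k → k < 24122 → chk_braid (k * 20) = true := between_extend chk_braid 20 21114 24090 32 (v_braid_2_92) r_braid_2_93

theorem r_braid_2_94 : allRange chk_braid 20 24122 32 = true := by decide +kernel
theorem v_braid_2_94 : ∀ k, 21114 ≤ k → k < 24154 → chk_braid (k * 20) = true := between_extend chk_braid 20 21114 24122 32 (v_braid_2_93) r_braid_2_94

theorem r_braid_2_95 : allRange chk_braid 20 24154 32 = true := by decide +kernel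
theorem v_braid_2_95 : ∀ k, 21114 ≤ k → k < 24186 → chk_braid (k * 20) = true := between_extend chk_braid 20 21114 24154 32 (v_braid_2_94) r_braid_2_95

theorem r_braid_2_96 : allRange chk_braid 20 24186 32 = true := by decide +kernel
theorem v_braid_2_96 : ∀ k, 21114 ≤ k → k < 24218 → chk_braid (k * 20) = true := between_extend chk_braid 20 21114 24186 32 (v_braid_2_95) r_braid_2_96

theorem r_braid_2_97 : allRange chk_braid 20 24218 32 = true := by decide +kernel
theorem v_braid_2_97 : ∀ k, 21114 ≤ k → k < 24250 → chk_braid (k * 20) = true := between_extend chk_braid 20 21114 24218 32 (v_braid_2_96) r_braid_2_97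

theorem r_braid_2_98 : allRange chk_braid 20 24250 32 = true := by decide +kernel
theorem v_braid_2_98 : ∀ k, 21114 ≤ k → k < 24282 → chk_braid (k * 20) = true := between_extend chk_braid 20 21114 24250 32 (v_braid_2_97) r_braid_2_98

theorem r_braid_2_99 : allRange chk_braid 20 24282 32 = true := by decide +kernel
theorem v_braid_2_99 : ∀ k, 21114 ≤ k → k < 24314 → chk_braid (k * 20) = true := between_extend chk_braid 20 21114 24282 32 (v_braid_2_98) r_braid_2_99

theorem r_braid_2_100 : allRange chk_braid 20 24314 32 = true := by decide +kernel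
theorem v_braid_2_100 : ∀ k, 21114 ≤ k → k < 24346 → chk_braid (k * 20) = true := between_extend chk_braid 20 21114 24314 32 (v_braid_2_99) r_braid_2_100

theorem r_braid_2_101 : allRange chk_braid 20 24346 32 = true := by decide +kernel
theorem v_braid_2_101 : ∀ k, 21114 ≤ k → k < 24378 → chk_braid (k * 20) = true := between_extend chk_braid 20 21114 24346 32 (v_braid_2_100) r_braid_2_101

theorem r_braid_2_102 : allRange chk_braid 20 24378 32 = true := by decide +kernel
theorem v_braid_2_102 : ∀ k, 21114 ≤ k → k < 24410 → chk_braid (k * 20) = true := between_extend chk_braid 20 21114 24378 32 (v_braid_2_101) r_braid_2_102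

theorem r_braid_2_103 : allRange chk_braid 20 24410 32 = true := by decide +kernel
theorem v_braid_2_103 : ∀ k, 21114 ≤ k → k < 24442 → chk_braid (k * 20) = true := between_extend chk_braid 20 21114 24410 32 (v_braid_2_102) r_braid_2_103

theorem r_braid_2_104 : allRange chk_braid 20 24442 32 = true := by decide +kernel
theorem v_braid_2_104 : ∀ k, 21114 ≤ k → k < 24474 → chk_braid (k * 20) = true := between_extend chk_braid 20 21114 24442 32 (v_braid_2_103) r_braid_2_104

theorem r_braid_2_105 : allRange chk_braid 20 24474 32 = true := by decide +kernel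
theorem v_braid_2_105 : ∀ k, 21114 ≤ k → k < 24506 → chk_braid (k * 20) = true := between_extend chk_braid 20 21114 24474 32 (v_braid_2_104) r_braid_2_105

theorem r_braid_2_106 : allRange chk_braid 20 24506 32 = true := by decide +kernel
theorem v_braid_2_106 : ∀ k, 21114 ≤ k → k < 24538 → chk_braid (k * 20) = true := between_extend chk_braid 20 21114 24506 32 (v_braid_2_105) r_braid_2_106

theorem r_braid_2_107 : allRange chk_braid 20 24538 32 = true := by decide +kernel
theorem v_braid_2_107 : ∀ k, 21114 ≤ k → k < 24570 → chk_braid (k * 20) = true := between_extend chk_braid 20 21114 24538 32 (v_braid_2_106) r_braid_2_107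

theorem r_braid_2_108 : allRange chk_braid 20 24570 32 = true := by decide +kernel
theorem v_braid_2_108 : ∀ k, 21114 ≤ k → k < 24602 → chk_braid (k * 20) = true := between_extend chk_braid 20 21114 24570 32 (v_braid_2_107) r_braid_2_108

theorem r_braid_2_109 : allRange chk_braid 20 24602 32 = true := by decide +kernel
theorem v_braid_2_109 : ∀ k, 21114 ≤ k → k < 24634 → chk_braid (k * 20) = true := between_extend chk_braid 20 21114 24602 32 (v_braid_2_108) r_braid_2_109

theorem r_braid_2_110 : allRange chk_braid 20 24634 32 = true := by decide +kernel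
theorem v_braid_2_110 : ∀ k, 21114 ≤ k → k < 24666 → chk_braid (k * 20) = true := between_extend chk_braid 20 21114 24634 32 (v_braid_2_109) r_braid_2_110

theorem r_braid_2_111 : allRange chk_braid 20 24666 32 = true := by decide +kernel
theorem v_braid_2_111 : ∀ k, 21114 ≤ k → k < 24698 → chk_braid (k * 20) = true := between_extend chk_braid 20 21114 24666 32 (v_braid_2_110) r_braid_2_111

theorem r_braid_2_112 : allRange chk_braid 20 24698 32 = true := by decide +kernel
theorem v_braid_2_112 : ∀ k, 21114 ≤ k → k < 24730 → chk_braid (k * 20) = true := between_extend chk_braid 20 21114 24698 32 (v_braid_2_111) r_braid_2_112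

theorem r_braid_2_113 : allRange chk_braid 20 24730 32 = true := by decide +kernel
theorem v_braid_2_113 : ∀ k, 21114 ≤ k → k < 24762 → chk_braid (k * 20) = true := between_extend chk_braid 20 21114 24730 32 (v_braid_2_112) r_braid_2_113

theorem r_braid_2_114 : allRange chk_braid 20 24762 32 = true := by decide +kernel
theorem v_braid_2_114 : ∀ k, 21114 ≤ k → k < 24794 → chk_braid (k * 20) = true := between_extend chk_braid 20 21114 24762 32 (v_braid_2_113) r_braid_2_114

theorem r_braid_2_115 : allRange chk_braid 20 24794 32 = true := by decide +kernel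
theorem v_braid_2_115 : ∀ k, 21114 ≤ k → k < 24826 → chk_braid (k * 20) = true := between_extend chk_braid 20 21114 24794 32 (v_braid_2_114) r_braid_2_115

theorem r_braid_2_116 : allRange chk_braid 20 24826 32 = true := by decide +kernel
theorem v_braid_2_116 : ∀ k, 21114 ≤ k → k < 24858 → chk_braid (k * 20) = true := between_extend chk_braid 20 21114 24826 32 (v_braid_2_115) r_braid_2_116

theorem r_braid_2_117 : allRange chk_braid 20 24858 32 = true := by decide +kernel
theorem v_braid_2_117 : ∀ k, 21114 ≤ k → k < 24890 → chk_braid (k * 20) = true := between_extend chk_braid 20 21114 24858 32 (v_braid_2_116) r_braid_2_117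

theorem r_braid_2_118 : allRange chk_braid 20 24890 32 = true := by decide +kernel
theorem v_braid_2_118 : ∀ k, 21114 ≤ k → k < 24922 → chk_braid (k * 20) = true := between_extend chk_braid 20 21114 24890 32 (v_braid_2_117) r_braid_2_118

theorem r_braid_2_119 : allRange chk_braid 20 24922 32 = true := by decide +kernel
theorem v_braid_2_119 : ∀ k, 21114 ≤ k → k < 24954 → chk_braid (k * 20) = true := between_extend chk_braid 20 21114 24922 32 (v_braid_2_118) r_braid_2_119

theorem r_braid_2_120 : allRange chk_braid 20 24954 32 = true := by decide +kernel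
theorem v_braid_2_120 : ∀ k, 21114 ≤ k → k < 24986 → chk_braid (k * 20) = true := between_extend chk_braid 20 21114 24954 32 (v_braid_2_119) r_braid_2_120

theorem r_braid_2_121 : allRange chk_braid 20 24986 32 = true := by decide +kernel
theorem v_braid_2_121 : ∀ k, 21114 ≤ k → k < 25018 → chk_braid (k * 20) = true := between_extend chk_braid 20 21114 24986 32 (v_braid_2_120) r_braid_2_121

theorem r_braid_2_122 : allRange chk_braid 20 25018 32 = true := by decide +kernel
theorem v_braid_2_122 : ∀ k, 21114 ≤ k → k < 25050 → chk_braid (k * 20) = true := between_extend chk_braid 20 21114 25018 32 (v_braid_2_121) r_braid_2_122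

theorem r_braid_2_123 : allRange chk_braid 20 25050 32 = true := by decide +kernel
theorem v_braid_2_123 : ∀ k, 21114 ≤ k → k < 25082 → chk_braid (k * 20) = true := between_extend chk_braid 20 21114 25050 32 (v_braid_2_122) r_braid_2_123

theorem r_braid_2_124 : allRange chk_braid 20 25082 32 = true := by decide +kernel
theorem v_braid_2_124 : ∀ k, 21114 ≤ k → k < 25114 → chk_braid (k * 20) = true := between_extend chk_braid 20 21114 25082 32 (v_braid_2_123) r_braid_2_124

theorem r_braid_2_125 : allRange chk_braid 20 25114 32 = true := by decide +kernel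
theorem v_braid_2_125 : ∀ k, 21114 ≤ k → k < 25146 → chk_braid (k * 20) = true := between_extend chk_braid 20 21114 25114 32 (v_braid_2_124) r_braid_2_125

theorem r_braid_2_126 : allRange chk_braid 20 25146 32 = true := by decide +kernel
theorem v_braid_2_126 : ∀ k, 21114 ≤ k → k < 25178 → chk_braid (k * 20) = true := between_extend chk_braid 20 21114 25146 32 (v_braid_2_125) r_braid_2_126

theorem r_braid_2_127 : allRange chk_braid 20 25178 32 = true := by decide +kernel
theorem v_braid_2_127 : ∀ k, 21114 ≤ k → k < 25210 → chk_braid (k * 20) = true := between_extend chk_braid 20 21114 25178 32 (v_braid_2_126) r_braid_2_127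

theorem r_braid_2_128 : allRange chk_braid 20 25210 32 = true := by decide +kernel
theorem v_braid_2_128 : ∀ k, 21114 ≤ k → k < 25242 → chk_braid (k * 20) = true := between_extend chk_braid 20 21114 25210 32 (v_braid_2_127) r_braid_2_128

theorem r_braid_2_129 : allRange chk_braid 20 25242 32 = true := by decide +kernel
theorem v_braid_2_129 : ∀ k, 21114 ≤ k → k < 25274 → chk_braid (k * 20) = true := between_extend chk_braid 20 21114 25242 32 (v_braid_2_128) r_braid_2_129

theorem r_braid_2_130 : allRange chk_braid 20 25274 32 = true := by decide +kernel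
theorem v_braid_2_130 : ∀ k, 21114 ≤ k → k < 25306 → chk_braid (k * 20) = true := between_extend chk_braid 20 21114 25274 32 (v_braid_2_129) r_braid_2_130

theorem r_braid_2_131 : allRange chk_braid 20 25306 32 = true := by decide +kernel
theorem v_braid_2_131 : ∀ k, 21114 ≤ k → k < 25338 → chk_braid (k * 20) = true := between_extend chk_braid 20 21114 25306 32 (v_braid_2_130) r_braid_2_131

theorem r_braid_2_132 : allRange chk_braid 20 25338 32 = true := by decide +kernel
theorem v_braid_2_132 : ∀ k, 21114 ≤ k → k < 25370 → chk_braid (k * 20) = true := between_extend chk_braid 20 21114 25338 32 (v_braid_2_131) r_braid_2_132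

theorem r_braid_2_133 : allRange chk_braid 20 25370 32 = true := by decide +kernel
theorem v_braid_2_133 : ∀ k, 21114 ≤ k → k < 25402 → chk_braid (k * 20) = true := between_extend chk_braid 20 21114 25370 32 (v_braid_2_132) r_braid_2_133

theorem r_braid_2_134 : allRange chk_braid 20 25402 32 = true := by decide +kernel
theorem v_braid_2_134 : ∀ k, 21114 ≤ k → k < 25434 → chk_braid (k * 20) = true := between_extend chk_braid 20 21114 25402 32 (v_braid_2_133) r_braid_2_134

theorem r_braid_2_135 : allRange chk_braid 20 25434 32 = true := by decide +kernel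
theorem v_braid_2_135 : ∀ k, 21114 ≤ k → k < 25466 → chk_braid (k * 20) = true := between_extend chk_braid 20 21114 25434 32 (v_braid_2_134) r_braid_2_135

theorem r_braid_2_136 : allRange chk_braid 20 25466 32 = true := by decide +kernel
theorem v_braid_2_136 : ∀ k, 21114 ≤ k → k < 25498 → chk_braid (k * 20) = true := between_extend chk_braid 20 21114 25466 32 (v_braid_2_135) r_braid_2_136

theorem r_braid_2_137 : allRange chk_braid 20 25498 32 = true := by decide +kernel
theorem v_braid_2_137 : ∀ k, 21114 ≤ k → k < 25530 → chk_braid (k * 20) = true := between_extend chk_braid 20 21114 25498 32 (v_braid_2_136) r_braid_2_137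

theorem r_braid_2_138 : allRange chk_braid 20 25530 32 = true := by decide +kernel
theorem v_braid_2_138 : ∀ k, 21114 ≤ k → k < 25562 → chk_braid (k * 20) = true := between_extend chk_braid 20 21114 25530 32 (v_braid_2_137) r_braid_2_138

theorem r_braid_2_139 : allRange chk_braid 20 25562 32 = true := by decide +kernel
theorem v_braid_2_139 : ∀ k, 21114 ≤ k → k < 25594 → chk_braid (k * 20) = true := between_extend chk_braid 20 21114 25562 32 (v_braid_2_138) r_braid_2_139

theorem r_braid_2_140 : allRange chk_braid 20 25594 32 = true := by decide +kernel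
theorem v_braid_2_140 : ∀ k, 21114 ≤ k → k < 25626 → chk_braid (k * 20) = true := between_extend chk_braid 20 21114 25594 32 (v_braid_2_139) r_braid_2_140

theorem r_braid_2_141 : allRange chk_braid 20 25626 32 = true := by decide +kernel
theorem v_braid_2_141 : ∀ k, 21114 ≤ k → k < 25658 → chk_braid (k * 20) = true := between_extend chk_braid 20 21114 25626 32 (v_braid_2_140) r_braid_2_141

theorem r_braid_2_142 : allRange chk_braid 20 25658 32 = true := by decide +kernel
theorem v_braid_2_142 : ∀ k, 21114 ≤ k → k < 25690 → chk_braid (k * 20) = true := between_extend chk_braid 20 21114 25658 32 (v_braid_2_141) r_braid_2_142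

theorem r_braid_2_143 : allRange chk_braid 20 25690 32 = true := by decide +kernel
theorem v_braid_2_143 : ∀ k, 21114 ≤ k → k < 25722 → chk_braid (k * 20) = true := between_extend chk_braid 20 21114 25690 32 (v_braid_2_142) r_braid_2_143

theorem r_braid_2_144 : allRange chk_braid 20 25722 32 = true := by decide +kernel
theorem v_braid_2_144 : ∀ k, 21114 ≤ k → k < 25754 → chk_braid (k * 20) = true := between_extend chk_braid 20 21114 25722 32 (v_braid_2_143) r_braid_2_144

theorem r_braid_2_145 : allRange chk_braid 20 25754 32 = true := by decide +kernel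
theorem v_braid_2_145 : ∀ k, 21114 ≤ k → k < 25786 → chk_braid (k * 20) = true := between_extend chk_braid 20 21114 25754 32 (v_braid_2_144) r_braid_2_145

theorem r_braid_2_146 : allRange chk_braid 20 25786 32 = true := by decide +kernel
theorem v_braid_2_146 : ∀ k, 21114 ≤ k → k < 25818 → chk_braid (k * 20) = true := between_extend chk_braid 20 21114 25786 32 (v_braid_2_145) r_braid_2_146

theorem r_braid_2_147 : allRange chk_braid 20 25818 32 = true := by decide +kernel
theorem v_braid_2_147 : ∀ k, 21114 ≤ k → k < 25850 → chk_braid (k * 20) = true := between_extend chk_braid 20 21114 25818 32 (v_braid_2_146) r_braid_2_147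

theorem r_braid_2_148 : allRange chk_braid 20 25850 32 = true := by decide +kernel
theorem v_braid_2_148 : ∀ k, 21114 ≤ k → k < 25882 → chk_braid (k * 20) = true := between_extend chk_braid 20 21114 25850 32 (v_braid_2_147) r_braid_2_148

theorem r_braid_2_149 : allRange chk_braid 20 25882 32 = true := by decide +kernel
theorem v_braid_2_149 : ∀ k, 21114 ≤ k → k < 25914 → chk_braid (k * 20) = true := between_extend chk_braid 20 21114 25882 32 (v_braid_2_148) r_braid_2_149

theorem r_braid_2_150 : allRange chk_braid 20 25914 32 = true := by decide +kernel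
theorem v_braid_2_150 : ∀ k, 21114 ≤ k → k < 25946 → chk_braid (k * 20) = true := between_extend chk_braid 20 21114 25914 32 (v_braid_2_149) r_braid_2_150

theorem r_braid_2_151 : allRange chk_braid 20 25946 32 = true := by decide +kernel
theorem v_braid_2_151 : ∀ k, 21114 ≤ k → k < 25978 → chk_braid (k * 20) = true := between_extend chk_braid 20 21114 25946 32 (v_braid_2_150) r_braid_2_151

theorem r_braid_2_152 : allRange chk_braid 20 25978 32 = true := by decide +kernel
theorem v_braid_2_152 : ∀ k, 21114 ≤ k → k < 26010 → chk_braid (k * 20) = true := between_extend chk_braid 20 21114 25978 32 (v_braid_2_151) r_braid_2_152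

theorem r_braid_2_153 : allRange chk_braid 20 26010 32 = true := by decide +kernel
theorem v_braid_2_153 : ∀ k, 21114 ≤ k → k < 26042 → chk_braid (k * 20) = true := between_extend chk_braid 20 21114 26010 32 (v_braid_2_152) r_braid_2_153

theorem r_braid_2_154 : allRange chk_braid 20 26042 32 = true := by decide +kernel
theorem v_braid_2_154 : ∀ k, 21114 ≤ k → k < 26074 → chk_braid (k * 20) = true := between_extend chk_braid 20 21114 26042 32 (v_braid_2_153) r_braid_2_154

theorem r_braid_2_155 : allRange chk_braid 20 26074 32 = true := by decide +kernel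
theorem v_braid_2_155 : ∀ k, 21114 ≤ k → k < 26106 → chk_braid (k * 20) = true := between_extend chk_braid 20 21114 26074 32 (v_braid_2_154) r_braid_2_155

theorem r_braid_2_156 : allRange chk_braid 20 26106 32 = true := by decide +kernel
theorem v_braid_2_156 : ∀ k, 21114 ≤ k → k < 26138 → chk_braid (k * 20) = true := between_extend chk_braid 20 21114 26106 32 (v_braid_2_155) r_braid_2_156

theorem r_braid_2_157 : allRange chk_braid 20 26138 32 = true := by decide +kernel
theorem v_braid_2_157 : ∀ k, 21114 ≤ k → k < 26170 → chk_braid (k * 20) = true := between_extend chk_braid 20 21114 26138 32 (v_braid_2_156) r_braid_2_157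

theorem r_braid_2_158 : allRange chk_braid 20 26170 32 = true := by decide +kernel
theorem v_braid_2_158 : ∀ k, 21114 ≤ k → k < 26202 → chk_braid (k * 20) = true := between_extend chk_braid 20 21114 26170 32 (v_braid_2_157) r_braid_2_158

theorem r_braid_2_159 : allRange chk_braid 20 26202 32 = true := by decide +kernel
theorem v_braid_2_159 : ∀ k, 21114 ≤ k → k < 26234 → chk_braid (k * 20) = true := between_extend chk_braid 20 21114 26202 32 (v_braid_2_158) r_braid_2_159

theorem r_braid_2_160 : allRange chk_braid 20 26234 32 = true := by decide +kernel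
theorem v_braid_2_160 : ∀ k, 21114 ≤ k → k < 26266 → chk_braid (k * 20) = true := between_extend chk_braid 20 21114 26234 32 (v_braid_2_159) r_braid_2_160

theorem r_braid_2_161 : allRange chk_braid 20 26266 32 = true := by decide +kernel
theorem v_braid_2_161 : ∀ k, 21114 ≤ k → k < 26298 → chk_braid (k * 20) = true := between_extend chk_braid 20 21114 26266 32 (v_braid_2_160) r_braid_2_161

theorem r_braid_2_162 : allRange chk_braid 20 26298 32 = true := by decide +kernel
theorem v_braid_2_162 : ∀ k, 21114 ≤ k → k < 26330 → chk_braid (k * 20) = true := between_extend chk_braid 20 21114 26298 32 (v_braid_2_161) r_braid_2_162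

theorem r_braid_2_163 : allRange chk_braid 20 26330 32 = true := by decide +kernel
theorem v_braid_2_163 : ∀ k, 21114 ≤ k → k < 26362 → chk_braid (k * 20) = true := between_extend chk_braid 20 21114 26330 32 (v_braid_2_162) r_braid_2_163

theorem r_braid_2_164 : allRange chk_braid 20 26362 32 = true := by decide +kernel
theorem v_braid_2_164 : ∀ k, 21114 ≤ k → k < 26394 → chk_braid (k * 20) = true := between_extend chk_braid 20 21114 26362 32 (v_braid_2_163) r_braid_2_164

theorem r_braid_2_165 : allRange chk_braid 20 26394 32 = true := by decide +kernel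
theorem v_braid_2_165 : ∀ k, 21114 ≤ k → k < 26426 → chk_braid (k * 20) = true := between_extend chk_braid 20 21114 26394 32 (v_braid_2_164) r_braid_2_165

theorem r_braid_2_166 : allRange chk_braid 20 26426 32 = true := by decide +kernel
theorem v_braid_2_166 : ∀ k, 21114 ≤ k → k < 26458 → chk_braid (k * 20) = true := between_extend chk_braid 20 21114 26426 32 (v_braid_2_165) r_braid_2_166

theorem r_braid_2_167 : allRange chk_braid 20 26458 32 = true := by decide +kernel
theorem v_braid_2_167 : ∀ k, 21114 ≤ k → k < 26490 → chk_braid (k * 20) = true := between_extend chk_braid 20 21114 26458 32 (v_braid_2_166) r_braid_2_167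

theorem r_braid_2_168 : allRange chk_braid 20 26490 32 = true := by decide +kernel
theorem v_braid_2_168 : ∀ k, 21114 ≤ k → k < 26522 → chk_braid (k * 20) = true := between_extend chk_braid 20 21114 26490 32 (v_braid_2_167) r_braid_2_168

theorem r_braid_2_169 : allRange chk_braid 20 26522 32 = true := by decide +kernel
theorem v_braid_2_169 : ∀ k, 21114 ≤ k → k < 26554 → chk_braid (k * 20) = true := between_extend chk_braid 20 21114 26522 32 (v_braid_2_168) r_braid_2_169

theorem r_braid_2_170 : allRange chk_braid 20 26554 32 = true := by decide +kernel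
theorem v_braid_2_170 : ∀ k, 21114 ≤ k → k < 26586 → chk_braid (k * 20) = true := between_extend chk_braid 20 21114 26554 32 (v_braid_2_169) r_braid_2_170

theorem r_braid_2_171 : allRange chk_braid 20 26586 32 = true := by decide +kernel
theorem v_braid_2_171 : ∀ k, 21114 ≤ k → k < 26618 → chk_braid (k * 20) = true := between_extend chk_braid 20 21114 26586 32 (v_braid_2_170) r_braid_2_171

theorem r_braid_2_172 : allRange chk_braid 20 26618 32 = true := by decide +kernel
theorem v_braid_2_172 : ∀ k, 21114 ≤ k → k < 26650 → chk_braid (k * 20) = true := between_extend chk_braid 20 21114 26618 32 (v_braid_2_171) r_braid_2_172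

theorem r_braid_2_173 : allRange chk_braid 20 26650 32 = true := by decide +kernel
theorem v_braid_2_173 : ∀ k, 21114 ≤ k → k < 26682 → chk_braid (k * 20) = true := between_extend chk_braid 20 21114 26650 32 (v_braid_2_172) r_braid_2_173

theorem r_braid_2_174 : allRange chk_braid 20 26682 32 = true := by decide +kernel
theorem v_braid_2_174 : ∀ k, 21114 ≤ k → k < 26714 → chk_braid (k * 20) = true := between_extend chk_braid 20 21114 26682 32 (v_braid_2_173) r_braid_2_174

theorem r_braid_2_175 : allRange chk_braid 20 26714 32 = true := by decide +kernel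
theorem v_braid_2_175 : ∀ k, 21114 ≤ k → k < 26746 → chk_braid (k * 20) = true := between_extend chk_braid 20 21114 26714 32 (v_braid_2_174) r_braid_2_175

theorem r_braid_2_176 : allRange chk_braid 20 26746 32 = true := by decide +kernel
theorem v_braid_2_176 : ∀ k, 21114 ≤ k → k < 26778 → chk_braid (k * 20) = true := between_extend chk_braid 20 21114 26746 32 (v_braid_2_175) r_braid_2_176

theorem r_braid_2_177 : allRange chk_braid 20 26778 32 = true := by decide +kernel
theorem v_braid_2_177 : ∀ k, 21114 ≤ k → k < 26810 → chk_braid (k * 20) = true := between_extend chk_braid 20 21114 26778 32 (v_braid_2_176) r_braid_2_177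

theorem r_braid_2_178 : allRange chk_braid 20 26810 32 = true := by decide +kernel
theorem v_braid_2_178 : ∀ k, 21114 ≤ k → k < 26842 → chk_braid (k * 20) = true := between_extend chk_braid 20 21114 26810 32 (v_braid_2_177) r_braid_2_178

theorem r_braid_2_179 : allRange chk_braid 20 26842 32 = true := by decide +kernel
theorem v_braid_2_179 : ∀ k, 21114 ≤ k → k < 26874 → chk_braid (k * 20) = true := between_extend chk_braid 20 21114 26842 32 (v_braid_2_178) r_braid_2_179

theorem r_braid_2_180 : allRange chk_braid 20 26874 32 = true := by decide +kernel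
theorem v_braid_2_180 : ∀ k, 21114 ≤ k → k < 26906 → chk_braid (k * 20) = true := between_extend chk_braid 20 21114 26874 32 (v_braid_2_179) r_braid_2_180

theorem r_braid_2_181 : allRange chk_braid 20 26906 32 = true := by decide +kernel
theorem v_braid_2_181 : ∀ k, 21114 ≤ k → k < 26938 → chk_braid (k * 20) = true := between_extend chk_braid 20 21114 26906 32 (v_braid_2_180) r_braid_2_181

theorem r_braid_2_182 : allRange chk_braid 20 26938 32 = true := by decide +kernel
theorem v_braid_2_182 : ∀ k, 21114 ≤ k → k < 26970 → chk_braid (k * 20) = true := between_extend chk_braid 20 21114 26938 32 (v_braid_2_181) r_braid_2_182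

theorem r_braid_2_183 : allRange chk_braid 20 26970 32 = true := by decide +kernel
theorem v_braid_2_183 : ∀ k, 21114 ≤ k → k < 27002 → chk_braid (k * 20) = true := between_extend chk_braid 20 21114 26970 32 (v_braid_2_182) r_braid_2_183

theorem r_braid_2_184 : allRange chk_braid 20 27002 32 = true := by decide +kernel
theorem v_braid_2_184 : ∀ k, 21114 ≤ k → k < 27034 → chk_braid (k * 20) = true := between_extend chk_braid 20 21114 27002 32 (v_braid_2_183) r_braid_2_184

theorem r_braid_2_185 : allRange chk_braid 20 27034 32 = true := by decide +kernel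
theorem v_braid_2_185 : ∀ k, 21114 ≤ k → k < 27066 → chk_braid (k * 20) = true := between_extend chk_braid 20 21114 27034 32 (v_braid_2_184) r_braid_2_185

theorem r_braid_2_186 : allRange chk_braid 20 27066 32 = true := by decide +kernel
theorem v_braid_2_186 : ∀ k, 21114 ≤ k → k < 27098 → chk_braid (k * 20) = true := between_extend chk_braid 20 21114 27066 32 (v_braid_2_185) r_braid_2_186

theorem r_braid_2_187 : allRange chk_braid 20 27098 32 = true := by decide +kernel
theorem v_braid_2_187 : ∀ k, 21114 ≤ k → k < 27130 → chk_braid (k * 20) = true := between_extend chk_braid 20 21114 27098 32 (v_braid_2_186) r_braid_2_187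

theorem r_braid_2_188 : allRange chk_braid 20 27130 32 = true := by decide +kernel
theorem v_braid_2_188 : ∀ k, 21114 ≤ k → k < 27162 → chk_braid (k * 20) = true := between_extend chk_braid 20 21114 27130 32 (v_braid_2_187) r_braid_2_188

theorem r_braid_2_189 : allRange chk_braid 20 27162 32 = true := by decide +kernel
theorem v_braid_2_189 : ∀ k, 21114 ≤ k → k < 27194 → chk_braid (k * 20) = true := between_extend chk_braid 20 21114 27162 32 (v_braid_2_188) r_braid_2_189

theorem r_braid_2_190 : allRange chk_braid 20 27194 32 = true := by decide +kernel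
theorem v_braid_2_190 : ∀ k, 21114 ≤ k → k < 27226 → chk_braid (k * 20) = true := between_extend chk_braid 20 21114 27194 32 (v_braid_2_189) r_braid_2_190

theorem r_braid_2_191 : allRange chk_braid 20 27226 32 = true := by decide +kernel
theorem v_braid_2_191 : ∀ k, 21114 ≤ k → k < 27258 → chk_braid (k * 20) = true := between_extend chk_braid 20 21114 27226 32 (v_braid_2_190) r_braid_2_191

theorem r_braid_2_192 : allRange chk_braid 20 27258 32 = true := by decide +kernel
theorem v_braid_2_192 : ∀ k, 21114 ≤ k → k < 27290 → chk_braid (k * 20) = true := between_extend chk_braid 20 21114 27258 32 (v_braid_2_191) r_braid_2_192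

theorem r_braid_2_193 : allRange chk_braid 20 27290 32 = true := by decide +kernel
theorem v_braid_2_193 : ∀ k, 21114 ≤ k → k < 27322 → chk_braid (k * 20) = true := between_extend chk_braid 20 21114 27290 32 (v_braid_2_192) r_braid_2_193

theorem r_braid_2_194 : allRange chk_braid 20 27322 32 = true := by decide +kernel
theorem v_braid_2_194 : ∀ k, 21114 ≤ k → k < 27354 → chk_braid (k * 20) = true := between_extend chk_braid 20 21114 27322 32 (v_braid_2_193) r_braid_2_194

theorem r_braid_2_195 : allRange chk_braid 20 27354 32 = true := by decide +kernel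
theorem v_braid_2_195 : ∀ k, 21114 ≤ k → k < 27386 → chk_braid (k * 20) = true := between_extend chk_braid 20 21114 27354 32 (v_braid_2_194) r_braid_2_195

theorem r_braid_2_196 : allRange chk_braid 20 27386 32 = true := by decide +kernel
theorem v_braid_2_196 : ∀ k, 21114 ≤ k → k < 27418 → chk_braid (k * 20) = true := between_extend chk_braid 20 21114 27386 32 (v_braid_2_195) r_braid_2_196

theorem r_braid_2_197 : allRange chk_braid 20 27418 32 = true := by decide +kernel
theorem v_braid_2_197 : ∀ k, 21114 ≤ k → k < 27450 → chk_braid (k * 20) = true := between_extend chk_braid 20 21114 27418 32 (v_braid_2_196) r_braid_2_197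

theorem r_braid_2_198 : allRange chk_braid 20 27450 32 = true := by decide +kernel
theorem v_braid_2_198 : ∀ k, 21114 ≤ k → k < 27482 → chk_braid (k * 20) = true := between_extend chk_braid 20 21114 27450 32 (v_braid_2_197) r_braid_2_198

theorem r_braid_2_199 : allRange chk_braid 20 27482 32 = true := by decide +kernel
theorem v_braid_2_199 : ∀ k, 21114 ≤ k → k < 27514 → chk_braid (k * 20) = true := between_extend chk_braid 20 21114 27482 32 (v_braid_2_198) r_braid_2_199

theorem r_braid_2_200 : allRange chk_braid 20 27514 32 = true := by decide +kernel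
theorem v_braid_2_200 : ∀ k, 21114 ≤ k → k < 27546 → chk_braid (k * 20) = true := between_extend chk_braid 20 21114 27514 32 (v_braid_2_199) r_braid_2_200

theorem r_braid_2_201 : allRange chk_braid 20 27546 32 = true := by decide +kernel
theorem v_braid_2_201 : ∀ k, 21114 ≤ k → k < 27578 → chk_braid (k * 20) = true := between_extend chk_braid 20 21114 27546 32 (v_braid_2_200) r_braid_2_201

theorem r_braid_2_202 : allRange chk_braid 20 27578 32 = true := by decide +kernel
theorem v_braid_2_202 : ∀ k, 21114 ≤ k → k < 27610 → chk_braid (k * 20) = true := between_extend chk_braid 20 21114 27578 32 (v_braid_2_201) r_braid_2_202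

theorem r_braid_2_203 : allRange chk_braid 20 27610 32 = true := by decide +kernel
theorem v_braid_2_203 : ∀ k, 21114 ≤ k → k < 27642 → chk_braid (k * 20) = true := between_extend chk_braid 20 21114 27610 32 (v_braid_2_202) r_braid_2_203

theorem r_braid_2_204 : allRange chk_braid 20 27642 32 = true := by decide +kernel
theorem v_braid_2_204 : ∀ k, 21114 ≤ k → k < 27674 → chk_braid (k * 20) = true := between_extend chk_braid 20 21114 27642 32 (v_braid_2_203) r_braid_2_204

theorem r_braid_2_205 : allRange chk_braid 20 27674 32 = true := by decide +kernel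
theorem v_braid_2_205 : ∀ k, 21114 ≤ k → k < 27706 → chk_braid (k * 20) = true := between_extend chk_braid 20 21114 27674 32 (v_braid_2_204) r_braid_2_205

theorem r_braid_2_206 : allRange chk_braid 20 27706 32 = true := by decide +kernel
theorem v_braid_2_206 : ∀ k, 21114 ≤ k → k < 27738 → chk_braid (k * 20) = true := between_extend chk_braid 20 21114 27706 32 (v_braid_2_205) r_braid_2_206

theorem r_braid_2_207 : allRange chk_braid 20 27738 32 = true := by decide +kernel
theorem v_braid_2_207 : ∀ k, 21114 ≤ k → k < 27770 → chk_braid (k * 20) = true := between_extend chk_braid 20 21114 27738 32 (v_braid_2_206) r_braid_2_207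

theorem r_braid_2_208 : allRange chk_braid 20 27770 32 = true := by decide +kernel
theorem v_braid_2_208 : ∀ k, 21114 ≤ k → k < 27802 → chk_braid (k * 20) = true := between_extend chk_braid 20 21114 27770 32 (v_braid_2_207) r_braid_2_208

theorem r_braid_2_209 : allRange chk_braid 20 27802 32 = true := by decide +kernel
theorem v_braid_2_209 : ∀ k, 21114 ≤ k → k < 27834 → chk_braid (k * 20) = true := between_extend chk_braid 20 21114 27802 32 (v_braid_2_208) r_braid_2_209

theorem r_braid_2_210 : allRange chk_braid 20 27834 32 = true := by decide +kernel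
theorem v_braid_2_210 : ∀ k, 21114 ≤ k → k < 27866 → chk_braid (k * 20) = true := between_extend chk_braid 20 21114 27834 32 (v_braid_2_209) r_braid_2_210

theorem r_braid_2_211 : allRange chk_braid 20 27866 32 = true := by decide +kernel
theorem v_braid_2_211 : ∀ k, 21114 ≤ k → k < 27898 → chk_braid (k * 20) = true := between_extend chk_braid 20 21114 27866 32 (v_braid_2_210) r_braid_2_211

theorem r_braid_2_212 : allRange chk_braid 20 27898 32 = true := by decide +kernel
theorem v_braid_2_212 : ∀ k, 21114 ≤ k → k < 27930 → chk_braid (k * 20) = true := between_extend chk_braid 20 21114 27898 32 (v_braid_2_211) r_braid_2_212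

theorem r_braid_2_213 : allRange chk_braid 20 27930 32 = true := by decide +kernel
theorem v_braid_2_213 : ∀ k, 21114 ≤ k → k < 27962 → chk_braid (k * 20) = true := between_extend chk_braid 20 21114 27930 32 (v_braid_2_212) r_braid_2_213

theorem r_braid_2_214 : allRange chk_braid 20 27962 32 = true := by decide +kernel
theorem v_braid_2_214 : ∀ k, 21114 ≤ k → k < 27994 → chk_braid (k * 20) = true := between_extend chk_braid 20 21114 27962 32 (v_braid_2_213) r_braid_2_214

theorem r_braid_2_215 : allRange chk_braid 20 27994 32 = true := by decide +kernel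
theorem v_braid_2_215 : ∀ k, 21114 ≤ k → k < 28026 → chk_braid (k * 20) = true := between_extend chk_braid 20 21114 27994 32 (v_braid_2_214) r_braid_2_215

theorem r_braid_2_216 : allRange chk_braid 20 28026 32 = true := by decide +kernel
theorem v_braid_2_216 : ∀ k, 21114 ≤ k → k < 28058 → chk_braid (k * 20) = true := between_extend chk_braid 20 21114 28026 32 (v_braid_2_215) r_braid_2_216

theorem r_braid_2_217 : allRange chk_braid 20 28058 32 = true := by decide +kernel
theorem v_braid_2_217 : ∀ k, 21114 ≤ k → k < 28090 → chk_braid (k * 20) = true := between_extend chk_braid 20 21114 28058 32 (v_braid_2_216) r_braid_2_217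

theorem r_braid_2_218 : allRange chk_braid 20 28090 32 = true := by decide +kernel
theorem v_braid_2_218 : ∀ k, 21114 ≤ k → k < 28122 → chk_braid (k * 20) = true := between_extend chk_braid 20 21114 28090 32 (v_braid_2_217) r_braid_2_218

theorem r_braid_2_219 : allRange chk_braid 20 28122 32 = true := by decide +kernel
theorem v_braid_2_219 : ∀ k, 21114 ≤ k → k < 28154 → chk_braid (k * 20) = true := between_extend chk_braid 20 21114 28122 32 (v_braid_2_218) r_braid_2_219

theorem r_braid_2_220 : allRange chk_braid 20 28154 32 = true := by decide +kernel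
theorem v_braid_2_220 : ∀ k, 21114 ≤ k → k < 28186 → chk_braid (k * 20) = true := between_extend chk_braid 20 21114 28154 32 (v_braid_2_219) r_braid_2_220

theorem r_braid_2_221 : allRange chk_braid 20 28186 32 = true := by decide +kernel
theorem v_braid_2_221 : ∀ k, 21114 ≤ k → k < 28218 → chk_braid (k * 20) = true := between_extend chk_braid 20 21114 28186 32 (v_braid_2_220) r_braid_2_221

theorem r_braid_2_222 : allRange chk_braid 20 28218 32 = true := by decide +kernel
theorem v_braid_2_222 : ∀ k, 21114 ≤ k → k < 28250 → chk_braid (k * 20) = true := between_extend chk_braid 20 21114 28218 32 (v_braid_2_221) r_braid_2_222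

theorem r_braid_2_223 : allRange chk_braid 20 28250 32 = true := by decide +kernel
theorem v_braid_2_223 : ∀ k, 21114 ≤ k → k < 28282 → chk_braid (k * 20) = true := between_extend chk_braid 20 21114 28250 32 (v_braid_2_222) r_braid_2_223

theorem r_braid_2_224 : allRange chk_braid 20 28282 32 = true := by decide +kernel
theorem v_braid_2_224 : ∀ k, 21114 ≤ k → k < 28314 → chk_braid (k * 20) = true := between_extend chk_braid 20 21114 28282 32 (v_braid_2_223) r_braid_2_224

theorem r_braid_2_225 : allRange chk_braid 20 28314 32 = true := by decide +kernel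
theorem v_braid_2_225 : ∀ k, 21114 ≤ k → k < 28346 → chk_braid (k * 20) = true := between_extend chk_braid 20 21114 28314 32 (v_braid_2_224) r_braid_2_225

theorem r_braid_2_226 : allRange chk_braid 20 28346 32 = true := by decide +kernel
theorem v_braid_2_226 : ∀ k, 21114 ≤ k → k < 28378 → chk_braid (k * 20) = true := between_extend chk_braid 20 21114 28346 32 (v_braid_2_225) r_braid_2_226

theorem r_braid_2_227 : allRange chk_braid 20 28378 32 = true := by decide +kernel
theorem v_braid_2_227 : ∀ k, 21114 ≤ k → k < 28410 → chk_braid (k * 20) = true := between_extend chk_braid 20 21114 28378 32 (v_braid_2_226) r_braid_2_227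

theorem r_braid_2_228 : allRange chk_braid 20 28410 32 = true := by decide +kernel
theorem v_braid_2_228 : ∀ k, 21114 ≤ k → k < 28442 → chk_braid (k * 20) = true := between_extend chk_braid 20 21114 28410 32 (v_braid_2_227) r_braid_2_228

theorem r_braid_2_229 : allRange chk_braid 20 28442 32 = true := by decide +kernel
theorem v_braid_2_229 : ∀ k, 21114 ≤ k → k < 28474 → chk_braid (k * 20) = true := between_extend chk_braid 20 21114 28442 32 (v_braid_2_228) r_braid_2_229

theorem r_braid_2_230 : allRange chk_braid 20 28474 32 = true := by decide +kernel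
theorem v_braid_2_230 : ∀ k, 21114 ≤ k → k < 28506 → chk_braid (k * 20) = true := between_extend chk_braid 20 21114 28474 32 (v_braid_2_229) r_braid_2_230

theorem r_braid_2_231 : allRange chk_braid 20 28506 32 = true := by decide +kernel
theorem v_braid_2_231 : ∀ k, 21114 ≤ k → k < 28538 → chk_braid (k * 20) = true := between_extend chk_braid 20 21114 28506 32 (v_braid_2_230) r_braid_2_231

theorem r_braid_2_232 : allRange chk_braid 20 28538 32 = true := by decide +kernel
theorem v_braid_2_232 : ∀ k, 21114 ≤ k → k < 28570 → chk_braid (k * 20) = true := between_extend chk_braid 20 21114 28538 32 (v_braid_2_231) r_braid_2_232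

theorem r_braid_2_233 : allRange chk_braid 20 28570 32 = true := by decide +kernel
theorem v_braid_2_233 : ∀ k, 21114 ≤ k → k < 28602 → chk_braid (k * 20) = true := between_extend chk_braid 20 21114 28570 32 (v_braid_2_232) r_braid_2_233

theorem r_braid_2_234 : allRange chk_braid 20 28602 32 = true := by decide +kernel
theorem v_braid_2_234 : ∀ k, 21114 ≤ k → k < 28634 → chk_braid (k * 20) = true := between_extend chk_braid 20 21114 28602 32 (v_braid_2_233) r_braid_2_234

theorem r_braid_2_235 : allRange chk_braid 20 28634 32 = true := by decide +kernel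
theorem v_braid_2_235 : ∀ k, 21114 ≤ k → k < 28666 → chk_braid (k * 20) = true := between_extend chk_braid 20 21114 28634 32 (v_braid_2_234) r_braid_2_235

theorem r_braid_2_236 : allRange chk_braid 20 28666 32 = true := by decide +kernel
theorem v_braid_2_236 : ∀ k, 21114 ≤ k → k < 28698 → chk_braid (k * 20) = true := between_extend chk_braid 20 21114 28666 32 (v_braid_2_235) r_braid_2_236

theorem r_braid_2_237 : allRange chk_braid 20 28698 32 = true := by decide +kernel
theorem v_braid_2_237 : ∀ k, 21114 ≤ k → k < 28730 → chk_braid (k * 20) = true := between_extend chk_braid 20 21114 28698 32 (v_braid_2_236) r_braid_2_237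

theorem r_braid_2_238 : allRange chk_braid 20 28730 32 = true := by decide +kernel
theorem v_braid_2_238 : ∀ k, 21114 ≤ k → k < 28762 → chk_braid (k * 20) = true := between_extend chk_braid 20 21114 28730 32 (v_braid_2_237) r_braid_2_238

theorem r_braid_2_239 : allRange chk_braid 20 28762 32 = true := by decide +kernel
theorem v_braid_2_239 : ∀ k, 21114 ≤ k → k < 28794 → chk_braid (k * 20) = true := between_extend chk_braid 20 21114 28762 32 (v_braid_2_238) r_braid_2_239

theorem r_braid_2_240 : allRange chk_braid 20 28794 32 = true := by decide +kernel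
theorem v_braid_2_240 : ∀ k, 21114 ≤ k → k < 28826 → chk_braid (k * 20) = true := between_extend chk_braid 20 21114 28794 32 (v_braid_2_239) r_braid_2_240

theorem r_braid_2_241 : allRange chk_braid 20 28826 32 = true := by decide +kernel
theorem v_braid_2_241 : ∀ k, 21114 ≤ k → k < 28858 → chk_braid (k * 20) = true := between_extend chk_braid 20 21114 28826 32 (v_braid_2_240) r_braid_2_241

theorem r_braid_2_242 : allRange chk_braid 20 28858 32 = true := by decide +kernel
theorem v_braid_2_242 : ∀ k, 21114 ≤ k → k < 28890 → chk_braid (k * 20) = true := between_extend chk_braid 20 21114 28858 32 (v_braid_2_241) r_braid_2_242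

theorem r_braid_2_243 : allRange chk_braid 20 28890 32 = true := by decide +kernel
theorem v_braid_2_243 : ∀ k, 21114 ≤ k → k < 28922 → chk_braid (k * 20) = true := between_extend chk_braid 20 21114 28890 32 (v_braid_2_242) r_braid_2_243

theorem r_braid_2_244 : allRange chk_braid 20 28922 32 = true := by decide +kernel
theorem v_braid_2_244 : ∀ k, 21114 ≤ k → k < 28954 → chk_braid (k * 20) = true := between_extend chk_braid 20 21114 28922 32 (v_braid_2_243) r_braid_2_244

theorem r_braid_2_245 : allRange chk_braid 20 28954 32 = true := by decide +kernel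
theorem v_braid_2_245 : ∀ k, 21114 ≤ k → k < 28986 → chk_braid (k * 20) = true := between_extend chk_braid 20 21114 28954 32 (v_braid_2_244) r_braid_2_245

theorem r_braid_2_246 : allRange chk_braid 20 28986 32 = true := by decide +kernel
theorem v_braid_2_246 : ∀ k, 21114 ≤ k → k < 29018 → chk_braid (k * 20) = true := between_extend chk_braid 20 21114 28986 32 (v_braid_2_245) r_braid_2_246

theorem r_braid_2_247 : allRange chk_braid 20 29018 32 = true := by decide +kernel
theorem v_braid_2_247 : ∀ k, 21114 ≤ k → k < 29050 → chk_braid (k * 20) = true := between_extend chk_braid 20 21114 29018 32 (v_braid_2_246) r_braid_2_247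

theorem r_braid_2_248 : allRange chk_braid 20 29050 32 = true := by decide +kernel
theorem v_braid_2_248 : ∀ k, 21114 ≤ k → k < 29082 → chk_braid (k * 20) = true := between_extend chk_braid 20 21114 29050 32 (v_braid_2_247) r_braid_2_248

theorem r_braid_2_249 : allRange chk_braid 20 29082 32 = true := by decide +kernel
theorem v_braid_2_249 : ∀ k, 21114 ≤ k → k < 29114 → chk_braid (k * 20) = true := between_extend chk_braid 20 21114 29082 32 (v_braid_2_248) r_braid_2_249

theorem r_braid_2_250 : allRange chk_braid 20 29114 32 = true := by decide +kernel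
theorem v_braid_2_250 : ∀ k, 21114 ≤ k → k < 29146 → chk_braid (k * 20) = true := between_extend chk_braid 20 21114 29114 32 (v_braid_2_249) r_braid_2_250

theorem r_braid_2_251 : allRange chk_braid 20 29146 32 = true := by decide +kernel
theorem v_braid_2_251 : ∀ k, 21114 ≤ k → k < 29178 → chk_braid (k * 20) = true := between_extend chk_braid 20 21114 29146 32 (v_braid_2_250) r_braid_2_251

theorem r_braid_2_252 : allRange chk_braid 20 29178 32 = true := by decide +kernel
theorem v_braid_2_252 : ∀ k, 21114 ≤ k → k < 29210 → chk_braid (k * 20) = true := between_extend chk_braid 20 21114 29178 32 (v_braid_2_251) r_braid_2_252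

theorem r_braid_2_253 : allRange chk_braid 20 29210 32 = true := by decide +kernel
theorem v_braid_2_253 : ∀ k, 21114 ≤ k → k < 29242 → chk_braid (k * 20) = true := between_extend chk_braid 20 21114 29210 32 (v_braid_2_252) r_braid_2_253

theorem r_braid_2_254 : allRange chk_braid 20 29242 32 = true := by decide +kernel
theorem v_braid_2_254 : ∀ k, 21114 ≤ k → k < 29274 → chk_braid (k * 20) = true := between_extend chk_braid 20 21114 29242 32 (v_braid_2_253) r_braid_2_254

theorem r_braid_2_255 : allRange chk_braid 20 29274 32 = true := by decide +kernel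
theorem v_braid_2_255 : ∀ k, 21114 ≤ k → k < 29306 → chk_braid (k * 20) = true := between_extend chk_braid 20 21114 29274 32 (v_braid_2_254) r_braid_2_255

theorem r_braid_2_256 : allRange chk_braid 20 29306 32 = true := by decide +kernel
theorem v_braid_2_256 : ∀ k, 21114 ≤ k → k < 29338 → chk_braid (k * 20) = true := between_extend chk_braid 20 21114 29306 32 (v_braid_2_255) r_braid_2_256

theorem r_braid_2_257 : allRange chk_braid 20 29338 32 = true := by decide +kernel
theorem v_braid_2_257 : ∀ k, 21114 ≤ k → k < 29370 → chk_braid (k * 20) = true := between_extend chk_braid 20 21114 29338 32 (v_braid_2_256) r_braid_2_257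

theorem r_braid_2_258 : allRange chk_braid 20 29370 32 = true := by decide +kernel
theorem v_braid_2_258 : ∀ k, 21114 ≤ k → k < 29402 → chk_braid (k * 20) = true := between_extend chk_braid 20 21114 29370 32 (v_braid_2_257) r_braid_2_258

theorem r_braid_2_259 : allRange chk_braid 20 29402 32 = true := by decide +kernel
theorem v_braid_2_259 : ∀ k, 21114 ≤ k → k < 29434 → chk_braid (k * 20) = true := between_extend chk_braid 20 21114 29402 32 (v_braid_2_258) r_braid_2_259

theorem r_braid_2_260 : allRange chk_braid 20 29434 32 = true := by decide +kernel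
theorem v_braid_2_260 : ∀ k, 21114 ≤ k → k < 29466 → chk_braid (k * 20) = true := between_extend chk_braid 20 21114 29434 32 (v_braid_2_259) r_braid_2_260

theorem r_braid_2_261 : allRange chk_braid 20 29466 32 = true := by decide +kernel
theorem v_braid_2_261 : ∀ k, 21114 ≤ k → k < 29498 → chk_braid (k * 20) = true := between_extend chk_braid 20 21114 29466 32 (v_braid_2_260) r_braid_2_261

theorem r_braid_2_262 : allRange chk_braid 20 29498 32 = true := by decide +kernel
theorem v_braid_2_262 : ∀ k, 21114 ≤ k → k < 29530 → chk_braid (k * 20) = true := between_extend chk_braid 20 21114 29498 32 (v_braid_2_261) r_braid_2_262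

theorem r_braid_2_263 : allRange chk_braid 20 29530 32 = true := by decide +kernel
theorem v_braid_2_263 : ∀ k, 21114 ≤ k → k < 29562 → chk_braid (k * 20) = true := between_extend chk_braid 20 21114 29530 32 (v_braid_2_262) r_braid_2_263

theorem r_braid_2_264 : allRange chk_braid 20 29562 32 = true := by decide +kernel
theorem v_braid_2_264 : ∀ k, 21114 ≤ k → k < 29594 → chk_braid (k * 20) = true := between_extend chk_braid 20 21114 29562 32 (v_braid_2_263) r_braid_2_264

theorem r_braid_2_265 : allRange chk_braid 20 29594 32 = true := by decide +kernel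
theorem v_braid_2_265 : ∀ k, 21114 ≤ k → k < 29626 → chk_braid (k * 20) = true := between_extend chk_braid 20 21114 29594 32 (v_braid_2_264) r_braid_2_265

theorem r_braid_2_266 : allRange chk_braid 20 29626 32 = true := by decide +kernel
theorem v_braid_2_266 : ∀ k, 21114 ≤ k → k < 29658 → chk_braid (k * 20) = true := between_extend chk_braid 20 21114 29626 32 (v_braid_2_265) r_braid_2_266

theorem r_braid_2_267 : allRange chk_braid 20 29658 32 = true := by decide +kernel
theorem v_braid_2_267 : ∀ k, 21114 ≤ k → k < 29690 → chk_braid (k * 20) = true := between_extend chk_braid 20 21114 29658 32 (v_braid_2_266) r_braid_2_267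

theorem r_braid_2_268 : allRange chk_braid 20 29690 32 = true := by decide +kernel
theorem v_braid_2_268 : ∀ k, 21114 ≤ k → k < 29722 → chk_braid (k * 20) = true := between_extend chk_braid 20 21114 29690 32 (v_braid_2_267) r_braid_2_268

theorem r_braid_2_269 : allRange chk_braid 20 29722 32 = true := by decide +kernel
theorem v_braid_2_269 : ∀ k, 21114 ≤ k → k < 29754 → chk_braid (k * 20) = true := between_extend chk_braid 20 21114 29722 32 (v_braid_2_268) r_braid_2_269

theorem r_braid_2_270 : allRange chk_braid 20 29754 32 = true := by decide +kernel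
theorem v_braid_2_270 : ∀ k, 21114 ≤ k → k < 29786 → chk_braid (k * 20) = true := between_extend chk_braid 20 21114 29754 32 (v_braid_2_269) r_braid_2_270

theorem r_braid_2_271 : allRange chk_braid 20 29786 32 = true := by decide +kernel
theorem v_braid_2_271 : ∀ k, 21114 ≤ k → k < 29818 → chk_braid (k * 20) = true := between_extend chk_braid 20 21114 29786 32 (v_braid_2_270) r_braid_2_271

theorem r_braid_2_272 : allRange chk_braid 20 29818 32 = true := by decide +kernel
theorem v_braid_2_272 : ∀ k, 21114 ≤ k → k < 29850 → chk_braid (k * 20) = true := between_extend chk_braid 20 21114 29818 32 (v_braid_2_271) r_braid_2_272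

theorem r_braid_2_273 : allRange chk_braid 20 29850 32 = true := by decide +kernel
theorem v_braid_2_273 : ∀ k, 21114 ≤ k → k < 29882 → chk_braid (k * 20) = true := between_extend chk_braid 20 21114 29850 32 (v_braid_2_272) r_braid_2_273

theorem r_braid_2_274 : allRange chk_braid 20 29882 32 = true := by decide +kernel
theorem v_braid_2_274 : ∀ k, 21114 ≤ k → k < 29914 → chk_braid (k * 20) = true := between_extend chk_braid 20 21114 29882 32 (v_braid_2_273) r_braid_2_274

theorem r_braid_2_275 : allRange chk_braid 20 29914 32 = true := by decide +kernel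
theorem v_braid_2_275 : ∀ k, 21114 ≤ k → k < 29946 → chk_braid (k * 20) = true := between_extend chk_braid 20 21114 29914 32 (v_braid_2_274) r_braid_2_275

theorem r_braid_2_276 : allRange chk_braid 20 29946 32 = true := by decide +kernel
theorem v_braid_2_276 : ∀ k, 21114 ≤ k → k < 29978 → chk_braid (k * 20) = true := between_extend chk_braid 20 21114 29946 32 (v_braid_2_275) r_braid_2_276

theorem r_braid_2_277 : allRange chk_braid 20 29978 32 = true := by decide +kernel
theorem v_braid_2_277 : ∀ k, 21114 ≤ k → k < 30010 → chk_braid (k * 20) = true := between_extend chk_braid 20 21114 29978 32 (v_braid_2_276) r_braid_2_277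

theorem r_braid_2_278 : allRange chk_braid 20 30010 32 = true := by decide +kernel
theorem v_braid_2_278 : ∀ k, 21114 ≤ k → k < 30042 → chk_braid (k * 20) = true := between_extend chk_braid 20 21114 30010 32 (v_braid_2_277) r_braid_2_278

theorem r_braid_2_279 : allRange chk_braid 20 30042 32 = true := by decide +kernel
theorem v_braid_2_279 : ∀ k, 21114 ≤ k → k < 30074 → chk_braid (k * 20) = true := between_extend chk_braid 20 21114 30042 32 (v_braid_2_278) r_braid_2_279

theorem r_braid_2_280 : allRange chk_braid 20 30074 32 = true := by decide +kernel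
theorem v_braid_2_280 : ∀ k, 21114 ≤ k → k < 30106 → chk_braid (k * 20) = true := between_extend chk_braid 20 21114 30074 32 (v_braid_2_279) r_braid_2_280

theorem r_braid_2_281 : allRange chk_braid 20 30106 32 = true := by decide +kernel
theorem v_braid_2_281 : ∀ k, 21114 ≤ k → k < 30138 → chk_braid (k * 20) = true := between_extend chk_braid 20 21114 30106 32 (v_braid_2_280) r_braid_2_281

theorem r_braid_2_282 : allRange chk_braid 20 30138 32 = true := by decide +kernel
theorem v_braid_2_282 : ∀ k, 21114 ≤ k → k < 30170 → chk_braid (k * 20) = true := between_extend chk_braid 20 21114 30138 32 (v_braid_2_281) r_braid_2_282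

theorem r_braid_2_283 : allRange chk_braid 20 30170 32 = true := by decide +kernel
theorem v_braid_2_283 : ∀ k, 21114 ≤ k → k < 30202 → chk_braid (k * 20) = true := between_extend chk_braid 20 21114 30170 32 (v_braid_2_282) r_braid_2_283

theorem r_braid_2_284 : allRange chk_braid 20 30202 32 = true := by decide +kernel
theorem v_braid_2_284 : ∀ k, 21114 ≤ k → k < 30234 → chk_braid (k * 20) = true := between_extend chk_braid 20 21114 30202 32 (v_braid_2_283) r_braid_2_284

theorem r_braid_2_285 : allRange chk_braid 20 30234 32 = true := by decide +kernel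
theorem v_braid_2_285 : ∀ k, 21114 ≤ k → k < 30266 → chk_braid (k * 20) = true := between_extend chk_braid 20 21114 30234 32 (v_braid_2_284) r_braid_2_285

theorem r_braid_2_286 : allRange chk_braid 20 30266 32 = true := by decide +kernel
theorem v_braid_2_286 : ∀ k, 21114 ≤ k → k < 30298 → chk_braid (k * 20) = true := between_extend chk_braid 20 21114 30266 32 (v_braid_2_285) r_braid_2_286

theorem r_braid_2_287 : allRange chk_braid 20 30298 32 = true := by decide +kernel
theorem v_braid_2_287 : ∀ k, 21114 ≤ k → k < 30330 → chk_braid (k * 20) = true := between_extend chk_braid 20 21114 30298 32 (v_braid_2_286) r_braid_2_287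

theorem r_braid_2_288 : allRange chk_braid 20 30330 32 = true := by decide +kernel
theorem v_braid_2_288 : ∀ k, 21114 ≤ k → k < 30362 → chk_braid (k * 20) = true := between_extend chk_braid 20 21114 30330 32 (v_braid_2_287) r_braid_2_288

theorem r_braid_2_289 : allRange chk_braid 20 30362 32 = true := by decide +kernel
theorem v_braid_2_289 : ∀ k, 21114 ≤ k → k < 30394 → chk_braid (k * 20) = true := between_extend chk_braid 20 21114 30362 32 (v_braid_2_288) r_braid_2_289

theorem r_braid_2_290 : allRange chk_braid 20 30394 32 = true := by decide +kernel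
theorem v_braid_2_290 : ∀ k, 21114 ≤ k → k < 30426 → chk_braid (k * 20) = true := between_extend chk_braid 20 21114 30394 32 (v_braid_2_289) r_braid_2_290

theorem r_braid_2_291 : allRange chk_braid 20 30426 32 = true := by decide +kernel
theorem v_braid_2_291 : ∀ k, 21114 ≤ k → k < 30458 → chk_braid (k * 20) = true := between_extend chk_braid 20 21114 30426 32 (v_braid_2_290) r_braid_2_291

theorem r_braid_2_292 : allRange chk_braid 20 30458 32 = true := by decide +kernel
theorem v_braid_2_292 : ∀ k, 21114 ≤ k → k < 30490 → chk_braid (k * 20) = true := between_extend chk_braid 20 21114 30458 32 (v_braid_2_291) r_braid_2_292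

theorem r_braid_2_293 : allRange chk_braid 20 30490 32 = true := by decide +kernel
theorem v_braid_2_293 : ∀ k, 21114 ≤ k → k < 30522 → chk_braid (k * 20) = true := between_extend chk_braid 20 21114 30490 32 (v_braid_2_292) r_braid_2_293

theorem r_braid_2_294 : allRange chk_braid 20 30522 32 = true := by decide +kernel
theorem v_braid_2_294 : ∀ k, 21114 ≤ k → k < 30554 → chk_braid (k * 20) = true := between_extend chk_braid 20 21114 30522 32 (v_braid_2_293) r_braid_2_294

theorem r_braid_2_295 : allRange chk_braid 20 30554 32 = true := by decide +kernel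
theorem v_braid_2_295 : ∀ k, 21114 ≤ k → k < 30586 → chk_braid (k * 20) = true := between_extend chk_braid 20 21114 30554 32 (v_braid_2_294) r_braid_2_295

theorem r_braid_2_296 : allRange chk_braid 20 30586 32 = true := by decide +kernel
theorem v_braid_2_296 : ∀ k, 21114 ≤ k → k < 30618 → chk_braid (k * 20) = true := between_extend chk_braid 20 21114 30586 32 (v_braid_2_295) r_braid_2_296

theorem r_braid_2_297 : allRange chk_braid 20 30618 32 = true := by decide +kernel
theorem v_braid_2_297 : ∀ k, 21114 ≤ k → k < 30650 → chk_braid (k * 20) = true := between_extend chk_braid 20 21114 30618 32 (v_braid_2_296) r_braid_2_297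

theorem r_braid_2_298 : allRange chk_braid 20 30650 32 = true := by decide +kernel
theorem v_braid_2_298 : ∀ k, 21114 ≤ k → k < 30682 → chk_braid (k * 20) = true := between_extend chk_braid 20 21114 30650 32 (v_braid_2_297) r_braid_2_298

theorem r_braid_2_299 : allRange chk_braid 20 30682 32 = true := by decide +kernel
theorem v_braid_2_299 : ∀ k, 21114 ≤ k → k < 30714 → chk_braid (k * 20) = true := between_extend chk_braid 20 21114 30682 32 (v_braid_2_298) r_braid_2_299

theorem r_braid_2_300 : allRange chk_braid 20 30714 32 = true := by decide +kernel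
theorem v_braid_2_300 : ∀ k, 21114 ≤ k → k < 30746 → chk_braid (k * 20) = true := between_extend chk_braid 20 21114 30714 32 (v_braid_2_299) r_braid_2_300

theorem r_braid_2_301 : allRange chk_braid 20 30746 32 = true := by decide +kernel
theorem v_braid_2_301 : ∀ k, 21114 ≤ k → k < 30778 → chk_braid (k * 20) = true := between_extend chk_braid 20 21114 30746 32 (v_braid_2_300) r_braid_2_301

theorem r_braid_2_302 : allRange chk_braid 20 30778 32 = true := by decide +kernel
theorem v_braid_2_302 : ∀ k, 21114 ≤ k → k < 30810 → chk_braid (k * 20) = true := between_extend chk_braid 20 21114 30778 32 (v_braid_2_301) r_braid_2_302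

theorem r_braid_2_303 : allRange chk_braid 20 30810 32 = true := by decide +kernel
theorem v_braid_2_303 : ∀ k, 21114 ≤ k → k < 30842 → chk_braid (k * 20) = true := between_extend chk_braid 20 21114 30810 32 (v_braid_2_302) r_braid_2_303

theorem r_braid_2_304 : allRange chk_braid 20 30842 32 = true := by decide +kernel
theorem v_braid_2_304 : ∀ k, 21114 ≤ k → k < 30874 → chk_braid (k * 20) = true := between_extend chk_braid 20 21114 30842 32 (v_braid_2_303) r_braid_2_304

theorem r_braid_2_305 : allRange chk_braid 20 30874 32 = true := by decide +kernel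
theorem v_braid_2_305 : ∀ k, 21114 ≤ k → k < 30906 → chk_braid (k * 20) = true := between_extend chk_braid 20 21114 30874 32 (v_braid_2_304) r_braid_2_305

theorem r_braid_2_306 : allRange chk_braid 20 30906 32 = true := by decide +kernel
theorem v_braid_2_306 : ∀ k, 21114 ≤ k → k < 30938 → chk_braid (k * 20) = true := between_extend chk_braid 20 21114 30906 32 (v_braid_2_305) r_braid_2_306

theorem r_braid_2_307 : allRange chk_braid 20 30938 32 = true := by decide +kernel
theorem v_braid_2_307 : ∀ k, 21114 ≤ k → k < 30970 → chk_braid (k * 20) = true := between_extend chk_braid 20 21114 30938 32 (v_braid_2_306) r_braid_2_307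

theorem r_braid_2_308 : allRange chk_braid 20 30970 32 = true := by decide +kernel
theorem v_braid_2_308 : ∀ k, 21114 ≤ k → k < 31002 → chk_braid (k * 20) = true := between_extend chk_braid 20 21114 30970 32 (v_braid_2_307) r_braid_2_308

theorem r_braid_2_309 : allRange chk_braid 20 31002 32 = true := by decide +kernel
theorem v_braid_2_309 : ∀ k, 21114 ≤ k → k < 31034 → chk_braid (k * 20) = true := between_extend chk_braid 20 21114 31002 32 (v_braid_2_308) r_braid_2_309

theorem r_braid_2_310 : allRange chk_braid 20 31034 32 = true := by decide +kernel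
theorem v_braid_2_310 : ∀ k, 21114 ≤ k → k < 31066 → chk_braid (k * 20) = true := between_extend chk_braid 20 21114 31034 32 (v_braid_2_309) r_braid_2_310

theorem r_braid_2_311 : allRange chk_braid 20 31066 32 = true := by decide +kernel
theorem v_braid_2_311 : ∀ k, 21114 ≤ k → k < 31098 → chk_braid (k * 20) = true := between_extend chk_braid 20 21114 31066 32 (v_braid_2_310) r_braid_2_311

theorem r_braid_2_312 : allRange chk_braid 20 31098 32 = true := by decide +kernel
theorem v_braid_2_312 : ∀ k, 21114 ≤ k → k < 31130 → chk_braid (k * 20) = true := between_extend chk_braid 20 21114 31098 32 (v_braid_2_311) r_braid_2_312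

theorem r_braid_2_313 : allRange chk_braid 20 31130 32 = true := by decide +kernel
theorem v_braid_2_313 : ∀ k, 21114 ≤ k → k < 31162 → chk_braid (k * 20) = true := between_extend chk_braid 20 21114 31130 32 (v_braid_2_312) r_braid_2_313

theorem r_braid_2_314 : allRange chk_braid 20 31162 32 = true := by decide +kernel
theorem v_braid_2_314 : ∀ k, 21114 ≤ k → k < 31194 → chk_braid (k * 20) = true := between_extend chk_braid 20 21114 31162 32 (v_braid_2_313) r_braid_2_314

theorem r_braid_2_315 : allRange chk_braid 20 31194 32 = true := by decide +kernel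
theorem v_braid_2_315 : ∀ k, 21114 ≤ k → k < 31226 → chk_braid (k * 20) = true := between_extend chk_braid 20 21114 31194 32 (v_braid_2_314) r_braid_2_315

theorem r_braid_2_316 : allRange chk_braid 20 31226 32 = true := by decide +kernel
theorem v_braid_2_316 : ∀ k, 21114 ≤ k → k < 31258 → chk_braid (k * 20) = true := between_extend chk_braid 20 21114 31226 32 (v_braid_2_315) r_braid_2_316

theorem r_braid_2_317 : allRange chk_braid 20 31258 32 = true := by decide +kernel
theorem v_braid_2_317 : ∀ k, 21114 ≤ k → k < 31290 → chk_braid (k * 20) = true := between_extend chk_braid 20 21114 31258 32 (v_braid_2_316) r_braid_2_317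

theorem r_braid_2_318 : allRange chk_braid 20 31290 32 = true := by decide +kernel
theorem v_braid_2_318 : ∀ k, 21114 ≤ k → k < 31322 → chk_braid (k * 20) = true := between_extend chk_braid 20 21114 31290 32 (v_braid_2_317) r_braid_2_318

theorem r_braid_2_319 : allRange chk_braid 20 31322 32 = true := by decide +kernel
theorem v_braid_2_319 : ∀ k, 21114 ≤ k → k < 31354 → chk_braid (k * 20) = true := between_extend chk_braid 20 21114 31322 32 (v_braid_2_318) r_braid_2_319

theorem r_braid_2_320 : allRange chk_braid 20 31354 32 = true := by decide +kernel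
theorem v_braid_2_320 : ∀ k, 21114 ≤ k → k < 31386 → chk_braid (k * 20) = true := between_extend chk_braid 20 21114 31354 32 (v_braid_2_319) r_braid_2_320

theorem r_braid_2_321 : allRange chk_braid 20 31386 32 = true := by decide +kernel
theorem v_braid_2_321 : ∀ k, 21114 ≤ k → k < 31418 → chk_braid (k * 20) = true := between_extend chk_braid 20 21114 31386 32 (v_braid_2_320) r_braid_2_321

theorem r_braid_2_322 : allRange chk_braid 20 31418 32 = true := by decide +kernel
theorem v_braid_2_322 : ∀ k, 21114 ≤ k → k < 31450 → chk_braid (k * 20) = true := between_extend chk_braid 20 21114 31418 32 (v_braid_2_321) r_braid_2_322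

theorem r_braid_2_323 : allRange chk_braid 20 31450 32 = true := by decide +kernel
theorem v_braid_2_323 : ∀ k, 21114 ≤ k → k < 31482 → chk_braid (k * 20) = true := between_extend chk_braid 20 21114 31450 32 (v_braid_2_322) r_braid_2_323

theorem r_braid_2_324 : allRange chk_braid 20 31482 32 = true := by decide +kernel
theorem v_braid_2_324 : ∀ k, 21114 ≤ k → k < 31514 → chk_braid (k * 20) = true := between_extend chk_braid 20 21114 31482 32 (v_braid_2_323) r_braid_2_324

theorem r_braid_2_325 : allRange chk_braid 20 31514 32 = true := by decide +kernel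
theorem v_braid_2_325 : ∀ k, 21114 ≤ k → k < 31546 → chk_braid (k * 20) = true := between_extend chk_braid 20 21114 31514 32 (v_braid_2_324) r_braid_2_325

theorem r_braid_2_326 : allRange chk_braid 20 31546 32 = true := by decide +kernel
theorem v_braid_2_326 : ∀ k, 21114 ≤ k → k < 31578 → chk_braid (k * 20) = true := between_extend chk_braid 20 21114 31546 32 (v_braid_2_325) r_braid_2_326

theorem r_braid_2_327 : allRange chk_braid 20 31578 32 = true := by decide +kernel
theorem v_braid_2_327 : ∀ k, 21114 ≤ k → k < 31610 → chk_braid (k * 20) = true := between_extend chk_braid 20 21114 31578 32 (v_braid_2_326) r_braid_2_327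

theorem r_braid_2_328 : allRange chk_braid 20 31610 32 = true := by decide +kernel
theorem v_braid_2_328 : ∀ k, 21114 ≤ k → k < 31642 → chk_braid (k * 20) = true := between_extend chk_braid 20 21114 31610 32 (v_braid_2_327) r_braid_2_328

theorem r_braid_2_329 : allRange chk_braid 20 31642 29 = true := by decide +kernel
theorem v_braid_2_329 : ∀ k, 21114 ≤ k → k < 31671 → chk_braid (k * 20) = true := between_extend chk_braid 20 21114 31642 29 (v_braid_2_328) r_braid_2_329

theorem p_braid_2 : ∀ k, 21114 ≤ k → k < 31671 → chk_braid (k * 20) = true := v_braid_2_329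

end Cfsg.Agent.Lib.Helper28_Y5FiW
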