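import Cfsg.Agent.Lib.Helper28_Y5Main

/-!
# The arm relations in the `Y₅₅₅` + spider group (helper28)

The relation `f₁ = (a b₁ b₂ b₃ c₁ c₂ d₁)^9` and its variant hold in the `Y₅₃₂` + spider group
(`Helper28_Y5Main`), hence in the `Y₅₅₅` + spider group; the other four follow by the symmetry of
the diagram that rotates the three arms.
-/

set_option autoImplicit false
set_option linter.unusedVariables false
set_option linter.unusedSectionVars false
set_option linter.constructorNameAsVariable false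

namespace Cfsg.Agent.Lib.Helper28_Y5Final

open Cfsg.Spor Cfsg.Agent.Lib.Helper28_OrderChain Cfsg.Agent.Lib.Helper28_Y5Chain
  Cfsg.Agent.Lib.Helper28_Y5Lemmas Cfsg.Agent.Lib.Helper28_CosetCox Cfsg.Agent.Lib.Helper28_Y5Main

/-- the relators of the `Y₅₅₅` + spider group -/
abbrev R0 : Set (FreeGroup BG) := coxRelators Cfsg.Spor.Bimonster.edges ∪ {r | r ∈ extra0}

/-- a generator of the `Y₅₅₅` + spider group -/
abbrev g0 (x : BG) : PresentedGroup R0 := PresentedGroup.of x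

/-- the comparison map `D → G` -/
noncomputable def i10 : PresentedGroup R1 →* PresentedGroup R0 :=
  subHom Cfsg.Spor.Bimonster.edges edges1 extra0 kept1 dropped1 h1_1 h2_1 h3_1

theorem i10_of (x : BG) (hx : x ∉ dropped1) :
    i10 (PresentedGroup.of x) = PresentedGroup.of x :=
  subHom_of Cfsg.Spor.Bimonster.edges edges1 extra0 kept1 dropped1 h1_1 h2_1 h3_1 x hx

theorem i10_word (u : List (BG × Bool)) (hu : ∀ l ∈ u, l.1 ∉ dropped1) :
    i10 (PresentedGroup.mk R1 (FreeGroup.mk u)) = PresentedGroup.mk R0 (FreeGroup.mk u) :=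
  lift_subMap_mk (coxRelators Cfsg.Spor.Bimonster.edges ∪ {r | r ∈ extra0}) dropped1 u hu

theorem z1W_drop1 : ∀ l ∈ z1W, l.1 ∉ dropped1 := by decide
theorem z2W_drop1 : ∀ l ∈ z2W, l.1 ∉ dropped1 := by decide

theorem f1_z1 : g0 .f1 = PresentedGroup.mk R0 (FreeGroup.mk z1W) := by
  have h := congrArg i10 f1_eq_z1
  rw [i10_of .f1 (by decide), i10_word z1W z1W_drop1] at h
  exact h

theorem f1_z2 : g0 .f1 = PresentedGroup.mk R0 (FreeGroup.mk z2W) := by
  have h := congrArg i10 f1_eq_z2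
  rw [i10_of .f1 (by decide), i10_word z2W z2W_drop1] at h
  exact h

/-! ### The rotation of the arms -/

/-- the rotation `1 → 2 → 3 → 1` of the arms -/
def rot : BG → BG
  | .a => .a
  | .b1 => .b2 | .c1 => .c2 | .d1 => .d2 | .e1 => .e2 | .f1 => .f2
  | .b2 => .b3 | .c2 => .c3 | .d2 => .d3 | .e2 => .e3 | .f2 => .f3
  | .b3 => .b1 | .c3 => .c1 | .d3 => .d1 | .e3 => .e1 | .f3 => .f1

theorem keyR : ∀ x ∈ coxNodes Cfsg.Spor.Bimonster.edges, ∀ y ∈ coxNodes Cfsg.Spor.Bimonster.edges,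
    rot x ∈ coxNodes Cfsg.Spor.Bimonster.edges ∧ rot y ∈ coxNodes Cfsg.Spor.Bimonster.edges ∧
      coxLabel Cfsg.Spor.Bimonster.edges x y =
        coxLabel Cfsg.Spor.Bimonster.edges (rot x) (rot y) := by decide

theorem spider0 : (g0 .a * g0 .b1 * g0 .c1 * g0 .a * g0 .b2 * g0 .c2 * g0 .a * g0 .b3 * g0 .c3) ^ 10
    = 1 := by
  have hmem : (fo .a * fo .b1 * fo .c1 * fo .a * fo .b2 * fo .c2 * fo .a * fo .b3 * fo .c3) ^ 10 ∈ R0 :=
    Or.inr (List.mem_singleton_self _)
  have h := PresentedGroup.one_of_mem hmem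
  rw [map_pow] at h
  simp only [map_mul] at h
  exact h

theorem spider0_rot : (g0 .a * g0 .b2 * g0 .c2 * g0 .a * g0 .b3 * g0 .c3 * g0 .a * g0 .b1 * g0 .c1) ^ 10
    = 1 := by
  have h := spider0
  have h1 : (g0 .a * g0 .b1 * g0 .c1 * (g0 .a * g0 .b2 * g0 .c2 * g0 .a * g0 .b3 * g0 .c3)) ^ 10 = 1 := by
    simpa only [mul_assoc] using h
  have h2 := pow_swap_eq_one _ _ _ h1
  simpa only [mul_assoc] using h2

theorem rot_rels : ∀ r ∈ R0, FreeGroup.lift (fun x => g0 (rot x)) r = 1 := by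
  rintro r (hr | hr)
  · revert r
    apply cox_lift_eq_one
    intro x hx y hy
    obtain ⟨h1, h2, h3⟩ := keyR x hx y hy
    rw [h3]
    have hmem : (FreeGroup.of (rot x) * FreeGroup.of (rot y)) ^
        coxLabel Cfsg.Spor.Bimonster.edges (rot x) (rot y) ∈ R0 := Or.inl ⟨_, h1, _, h2, rfl⟩
    have := PresentedGroup.one_of_mem hmem
    rw [map_pow, map_mul] at this
    exact this
  · have hr' : r ∈ extra0 := hr
    unfold extra0 at hr'
    rw [List.mem_singleton] at hr'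
    subst hr'
    simp only [map_pow, map_mul, FreeGroup.lift_apply_of, rot]
    exact spider0_rot

/-- the automorphism of the `Y₅₅₅` + spider group rotating the arms -/
noncomputable def theta : PresentedGroup R0 →* PresentedGroup R0 := PresentedGroup.toGroup rot_rels

theorem theta_of (x : BG) : theta (g0 x) = g0 (rot x) := by
  unfold theta
  rw [PresentedGroup.toGroup.of]

/-! ### The six relations -/

theorem eZ1 : (FreeGroup.mk z1W : FreeGroup BG) =
    (fo .a * fo .b1 * fo .b2 * fo .b3 * fo .c1 * fo .c2 * fo .d1) ^ 9 :=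
  mk_replicate_eq _ 9 _ rfl

theorem eZ2 : (FreeGroup.mk z2W : FreeGroup BG) =
    (fo .a * fo .b1 * fo .b3 * fo .b2 * fo .c1 * fo .c3 * fo .d1) ^ 9 :=
  mk_replicate_eq _ 9 _ rfl

theorem rel1 : g0 .f1 = (g0 .a * g0 .b1 * g0 .b2 * g0 .b3 * g0 .c1 * g0 .c2 * g0 .d1) ^ 9 := by
  have h := f1_z1.trans (congrArg (PresentedGroup.mk R0) eZ1)
  rw [map_pow] at h
  simp only [map_mul] at h
  exact h

theorem rel2 : g0 .f1 = (g0 .a * g0 .b1 * g0 .b3 * g0 .b2 * g0 .c1 * g0 .c3 * g0 .d1) ^ 9 := by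
  have h := f1_z2.trans (congrArg (PresentedGroup.mk R0) eZ2)
  rw [map_pow] at h
  simp only [map_mul] at h
  exact h

theorem rel3 : g0 .f2 = (g0 .a * g0 .b2 * g0 .b1 * g0 .b3 * g0 .c2 * g0 .c1 * g0 .d2) ^ 9 := by
  have h := congrArg theta rel2
  simp only [map_pow, map_mul, theta_of, rot] at h
  exact h

theorem rel4 : g0 .f2 = (g0 .a * g0 .b2 * g0 .b3 * g0 .b1 * g0 .c2 * g0 .c3 * g0 .d2) ^ 9 := by
  have h := congrArg theta rel1
  simp only [map_pow, map_mul, theta_of, rot] at h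
  exact h

theorem rel5 : g0 .f3 = (g0 .a * g0 .b3 * g0 .b1 * g0 .b2 * g0 .c3 * g0 .c1 * g0 .d3) ^ 9 := by
  have h := congrArg theta rel4
  simp only [map_pow, map_mul, theta_of, rot] at h
  exact h

theorem rel6 : g0 .f3 = (g0 .a * g0 .b3 * g0 .b2 * g0 .b1 * g0 .c3 * g0 .c2 * g0 .d3) ^ 9 := by
  have h := congrArg theta rel3
  simp only [map_pow, map_mul, theta_of, rot] at h
  exact h

end Cfsg.Agent.Lib.Helper28_Y5Final
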