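import Cfsg.Agent.Lib.Helper28_OrderChain

/-!
# Generic lemmas for the `Y₅₅₅` + spider argument (helper28)

Homomorphisms out of sub-presented groups, the sign character, transport of words along a
relabelling of the generators, and two counting lemmas.
-/

set_option autoImplicit false
set_option linter.unusedSectionVars false
set_option linter.unusedVariables false

namespace Cfsg.Agent.Lib.Helper28_Y5Lemmas

open Cfsg.Spor Cfsg.Agent.Lib.Helper28_CosetCox Cfsg.Agent.Lib.Helper28_OrderChain

section Rels

variable {α : Type} [DecidableEq α]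

/-- The relators of a sub-presentation are killed by `f`, given the checks on the Coxeter pairs,
the kept words and the dropped generators. -/
theorem rels_of_parts {G : Type*} [Group G] (edges : List (α × ℕ × α))
    (kept : List (List (α × Bool))) (dropped : List α) (f : α → G)
    (hcox : ∀ x ∈ coxNodes edges, ∀ y ∈ coxNodes edges, (f x * f y) ^ coxLabel edges x y = 1)
    (hkept : ∀ u ∈ kept, FreeGroup.lift f (FreeGroup.mk u) = 1)
    (hdrop : ∀ x ∈ dropped, f x = 1) :
    ∀ r ∈ coxRelators edges ∪ {r | r ∈ subExtra kept dropped}, FreeGroup.lift f r = 1 := by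
  rintro r (hr | hr)
  · exact cox_lift_eq_one edges f hcox r hr
  · have hr' : r ∈ subExtra kept dropped := hr
    unfold subExtra at hr'
    rcases List.mem_append.mp hr' with h | h
    · obtain ⟨u, hu, rfl⟩ := List.mem_map.mp h
      exact hkept u hu
    · obtain ⟨x, hx, rfl⟩ := List.mem_map.mp h
      rw [FreeGroup.lift_apply_of]
      exact hdrop x hx

/-- Value of a homomorphism given on generators on a word given as a letter list. -/
theorem lift_mk_cons {G : Type*} [Group G] (f : α → G) (l : α × Bool) (ls : List (α × Bool)) :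
    FreeGroup.lift f (FreeGroup.mk (l :: ls)) =
      (bif l.2 then f l.1 else (f l.1)⁻¹) * FreeGroup.lift f (FreeGroup.mk ls) := by
  rw [FreeGroup.lift_mk, FreeGroup.lift_mk, List.map_cons, List.prod_cons]

theorem lift_mk_nil {G : Type*} [Group G] (f : α → G) :
    FreeGroup.lift f (FreeGroup.mk ([] : List (α × Bool))) = 1 := by
  rw [FreeGroup.lift_mk]; rfl

/-- The sign of a word all of whose letters have sign `-1`. -/
theorem lift_sign (s : α → ℤˣ) (u : List (α × Bool)) (hu : ∀ l ∈ u, s l.1 = -1) :
    FreeGroup.lift s (FreeGroup.mk u) = (-1) ^ u.length := by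
  induction u with
  | nil => rw [lift_mk_nil]; rfl
  | cons l ls ih =>
    rw [lift_mk_cons, ih (fun l' hl' => hu l' (List.mem_cons_of_mem _ hl')),
      hu l List.mem_cons_self, List.length_cons, pow_succ']
    cases l.2 <;> simp

/-- Transport of a word along a relabelling: if `f x = of (m x)` on the letters of `u` then the
value of `u` is the class of the relabelled word. -/
theorem lift_relabel {β : Type} (rels : Set (FreeGroup β)) (m : α → β)
    (f : α → PresentedGroup rels) (u : List (α × Bool))
    (hu : ∀ l ∈ u, f l.1 = PresentedGroup.of (m l.1)) :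
    FreeGroup.lift f (FreeGroup.mk u) =
      PresentedGroup.mk rels (FreeGroup.mk (u.map fun l => (m l.1, l.2))) := by
  induction u with
  | nil => rw [lift_mk_nil]; rfl
  | cons l ls ih =>
    rw [lift_mk_cons, ih (fun l' hl' => hu l' (List.mem_cons_of_mem _ hl')),
      hu l List.mem_cons_self, List.map_cons]
    have h1 : (FreeGroup.mk ((m l.1, l.2) :: ls.map fun l => (m l.1, l.2)) : FreeGroup β) =
        FreeGroup.mk [(m l.1, l.2)] * FreeGroup.mk (ls.map fun l => (m l.1, l.2)) := by
      rw [FreeGroup.mul_mk]; rfl
    rw [h1, map_mul]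
    congr 1
    cases l.2 with
    | true => rfl
    | false => rfl

/-- A repeated word is a power. -/
theorem mk_replicate (l : List (α × Bool)) (n : ℕ) :
    FreeGroup.mk (List.replicate n l).flatten = (FreeGroup.mk l) ^ n := by
  induction n with
  | zero => rfl
  | succ n ih =>
    rw [pow_succ', ← ih, List.replicate_succ, List.flatten_cons, FreeGroup.mul_mk]

theorem mk_replicate_eq (l : List (α × Bool)) (n : ℕ) (w : FreeGroup α) (h : FreeGroup.mk l = w) :
    FreeGroup.mk (List.replicate n l).flatten = w ^ n := by
  rw [mk_replicate, h]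

/-- The class of a word in a presented group is the value of the word under `of`. -/
theorem mk_eq_lift_of (rels : Set (FreeGroup α)) (w : FreeGroup α) :
    PresentedGroup.mk rels w = FreeGroup.lift (PresentedGroup.of (rels := rels)) w := by
  induction w using FreeGroup.induction_on with
  | C1 => simp
  | of x => rw [FreeGroup.lift_apply_of]; rfl
  | inv_of x ih => rw [map_inv, map_inv, ih]
  | mul x y hx hy => rw [map_mul, map_mul, hx, hy]

/-- A homomorphism out of a presented group, on the class of a word. -/
theorem toGroup_mk {G : Type*} [Group G] {rels : Set (FreeGroup α)} {f : α → G}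
    (h : ∀ r ∈ rels, FreeGroup.lift f r = 1) (w : FreeGroup α) :
    PresentedGroup.toGroup h (PresentedGroup.mk rels w) = FreeGroup.lift f w := rfl

end Rels

section Count

/-- A homomorphism from a finite group whose range is at least as large as the group is
injective. -/
theorem injective_of_card_le_range {G H : Type*} [Group G] [Group H] [Finite G] (φ : G →* H)
    (K : Subgroup H) (hK : K ≤ φ.range) (h : Nat.card G ≤ Nat.card K) :
    Function.Injective φ := by
  have : Finite φ.range := Set.finite_range φ |>.to_subtype
  have h1 : Nat.card K ≤ Nat.card φ.range :=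
    Nat.card_le_card_of_injective (Subgroup.inclusion hK) (Subgroup.inclusion_injective hK)
  have hb := Function.Surjective.bijective_of_nat_card_le φ.rangeRestrict_surjective
    (le_trans h h1)
  intro x y hxy
  apply hb.1
  exact Subtype.ext hxy

/-- The order of `B × ℤˣ` as a subgroup of a product. -/
theorem card_prod_top {H : Type*} [Group H] (B : Subgroup H) :
    Nat.card (B.prod (⊤ : Subgroup ℤˣ)) = Nat.card B * 2 := by
  rw [Nat.card_congr (Subgroup.prodEquiv B ⊤).toEquiv, Nat.card_prod, Subgroup.card_top]
  congr 1
  rw [Nat.card_eq_fintype_card]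
  rfl

/-- `B × ℤˣ` lies in the range as soon as the generators of `B` (with some sign) and `(1, -1)` do. -/
theorem prod_top_le_range {G H : Type*} [Group G] [Group H] (φ : G →* H × ℤˣ)
    (S : Set H) (hS : ∀ s ∈ S, ∃ g, φ g = (s, -1)) (hz : ∃ g, φ g = (1, -1)) :
    (Subgroup.closure S).prod ⊤ ≤ φ.range := by
  obtain ⟨z, hz⟩ := hz
  have h1 : Subgroup.closure S ≤ φ.range.comap (MonoidHom.inl H ℤˣ) := by
    rw [Subgroup.closure_le]
    intro s hs
    obtain ⟨g, hg⟩ := hS s hs
    refine ⟨g * z, ?_⟩
    rw [map_mul, hg, hz]
    ext <;> simp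
  rintro ⟨b, e⟩ ⟨hb, _⟩
  have h2 : ((b, 1) : H × ℤˣ) ∈ φ.range := h1 hb
  have h3 : ((1, e) : H × ℤˣ) ∈ φ.range := by
    rcases Int.units_eq_one_or e with rfl | rfl
    · exact φ.range.one_mem
    · exact ⟨z, hz⟩
  have : ((b, e) : H × ℤˣ) = (b, 1) * (1, e) := by ext <;> simp
  rw [this]
  exact φ.range.mul_mem h2 h3

end Count

end Cfsg.Agent.Lib.Helper28_Y5Lemmas
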