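import Cfsg.Agent.Lib.Helper28_Y5c3U
import Cfsg.Agent.Lib.Helper28_Y5c4U
import Cfsg.Agent.Lib.Helper28_Y5c5U
import Cfsg.Agent.Lib.Helper28_Y5c6U
import Cfsg.Agent.Lib.Helper28_Y5c7U
import Cfsg.Agent.Lib.Helper28_Y5c8U

/-!
# The group presented by the `Y₃₃₂` diagram with the spider relation has at most 258247006617600 elements (helper28)
-/

set_option autoImplicit false

namespace Cfsg.Agent.Lib.Helper28_Y5Order

open Cfsg.Spor Cfsg.Agent.Lib.Helper28_OrderChain Cfsg.Agent.Lib.Helper28_Y5Chain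

theorem card8 : Finite (PresentedGroup (coxRelators edges8 ∪ {r | r ∈ extra8})) ∧ Nat.card (PresentedGroup (coxRelators edges8 ∪ {r | r ∈ extra8})) ≤ 120 :=
  card_le_empty _ 120 Cfsg.Agent.Lib.Helper28_Y5c8.U.upper

theorem hS7 : ∀ s ∈ ({Cfsg.Spor.Bimonster.a, Cfsg.Spor.Bimonster.b2, Cfsg.Spor.Bimonster.c2, Cfsg.Spor.Bimonster.b3} : Set (FreeGroup Cfsg.Spor.Bimonster.Gen)), ∃ x, x ∉ dropped8 ∧ s = FreeGroup.of x := by
  intro s hs
  simp only [Set.mem_insert_iff, Set.mem_singleton_iff] at hs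
  rcases hs with rfl | rfl | rfl | rfl
  · exact ⟨.a, by decide, rfl⟩
  · exact ⟨.b2, by decide, rfl⟩
  · exact ⟨.c2, by decide, rfl⟩
  · exact ⟨.b3, by decide, rfl⟩

theorem card7 : Finite (PresentedGroup (coxRelators edges7 ∪ {r | r ∈ extra7})) ∧ Nat.card (PresentedGroup (coxRelators edges7 ∪ {r | r ∈ extra7})) ≤ 16 * 120 :=
  card_le_sub edges7 edges8 extra7 kept8 dropped8 h1_8 h2_8 h3_8 ({Cfsg.Spor.Bimonster.a, Cfsg.Spor.Bimonster.b2, Cfsg.Spor.Bimonster.c2, Cfsg.Spor.Bimonster.b3} : Set (FreeGroup Cfsg.Spor.Bimonster.Gen)) hS7 16 120 Cfsg.Agent.Lib.Helper28_Y5c7.U.upper (by have := card8; norm_num at this ⊢; exact this)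

theorem hS6 : ∀ s ∈ ({Cfsg.Spor.Bimonster.a, Cfsg.Spor.Bimonster.b1, Cfsg.Spor.Bimonster.b2, Cfsg.Spor.Bimonster.c2, Cfsg.Spor.Bimonster.b3} : Set (FreeGroup Cfsg.Spor.Bimonster.Gen)), ∃ x, x ∉ dropped7 ∧ s = FreeGroup.of x := by
  intro s hs
  simp only [Set.mem_insert_iff, Set.mem_singleton_iff] at hs
  rcases hs with rfl | rfl | rfl | rfl | rfl
  · exact ⟨.a, by decide, rfl⟩
  · exact ⟨.b1, by decide, rfl⟩
  · exact ⟨.b2, by decide, rfl⟩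
  · exact ⟨.c2, by decide, rfl⟩
  · exact ⟨.b3, by decide, rfl⟩

theorem card6 : Finite (PresentedGroup (coxRelators edges6 ∪ {r | r ∈ extra6})) ∧ Nat.card (PresentedGroup (coxRelators edges6 ∪ {r | r ∈ extra6})) ≤ 27 * 1920 :=
  card_le_sub edges6 edges7 extra6 kept7 dropped7 h1_7 h2_7 h3_7 ({Cfsg.Spor.Bimonster.a, Cfsg.Spor.Bimonster.b1, Cfsg.Spor.Bimonster.b2, Cfsg.Spor.Bimonster.c2, Cfsg.Spor.Bimonster.b3} : Set (FreeGroup Cfsg.Spor.Bimonster.Gen)) hS6 27 1920 Cfsg.Agent.Lib.Helper28_Y5c6.U.upper (by have := card7; norm_num at this ⊢; exact this)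

theorem hS5 : ∀ s ∈ ({Cfsg.Spor.Bimonster.a, Cfsg.Spor.Bimonster.b1, Cfsg.Spor.Bimonster.c1, Cfsg.Spor.Bimonster.b2, Cfsg.Spor.Bimonster.c2, Cfsg.Spor.Bimonster.b3} : Set (FreeGroup Cfsg.Spor.Bimonster.Gen)), ∃ x, x ∉ dropped6 ∧ s = FreeGroup.of x := by
  intro s hs
  simp only [Set.mem_insert_iff, Set.mem_singleton_iff] at hs
  rcases hs with rfl | rfl | rfl | rfl | rfl | rfl
  · exact ⟨.a, by decide, rfl⟩
  · exact ⟨.b1, by decide, rfl⟩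
  · exact ⟨.c1, by decide, rfl⟩
  · exact ⟨.b2, by decide, rfl⟩
  · exact ⟨.c2, by decide, rfl⟩
  · exact ⟨.b3, by decide, rfl⟩

theorem card5 : Finite (PresentedGroup (coxRelators edges5 ∪ {r | r ∈ extra5})) ∧ Nat.card (PresentedGroup (coxRelators edges5 ∪ {r | r ∈ extra5})) ≤ 243 * 51840 :=
  card_le_sub edges5 edges6 extra5 kept6 dropped6 h1_6 h2_6 h3_6 ({Cfsg.Spor.Bimonster.a, Cfsg.Spor.Bimonster.b1, Cfsg.Spor.Bimonster.c1, Cfsg.Spor.Bimonster.b2, Cfsg.Spor.Bimonster.c2, Cfsg.Spor.Bimonster.b3} : Set (FreeGroup Cfsg.Spor.Bimonster.Gen)) hS5 243 51840 Cfsg.Agent.Lib.Helper28_Y5c5.U.upper (by have := card6; norm_num at this ⊢; exact this)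

theorem hS4 : ∀ s ∈ ({Cfsg.Spor.Bimonster.a, Cfsg.Spor.Bimonster.b1, Cfsg.Spor.Bimonster.c1, Cfsg.Spor.Bimonster.b2, Cfsg.Spor.Bimonster.c2, Cfsg.Spor.Bimonster.b3, Cfsg.Spor.Bimonster.c3} : Set (FreeGroup Cfsg.Spor.Bimonster.Gen)), ∃ x, x ∉ dropped5 ∧ s = FreeGroup.of x := by
  intro s hs
  simp only [Set.mem_insert_iff, Set.mem_singleton_iff] at hs
  rcases hs with rfl | rfl | rfl | rfl | rfl | rfl | rfl
  · exact ⟨.a, by decide, rfl⟩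
  · exact ⟨.b1, by decide, rfl⟩
  · exact ⟨.c1, by decide, rfl⟩
  · exact ⟨.b2, by decide, rfl⟩
  · exact ⟨.c2, by decide, rfl⟩
  · exact ⟨.b3, by decide, rfl⟩
  · exact ⟨.c3, by decide, rfl⟩

theorem card4 : Finite (PresentedGroup (coxRelators edges4 ∪ {r | r ∈ extra4})) ∧ Nat.card (PresentedGroup (coxRelators edges4 ∪ {r | r ∈ extra4})) ≤ 728 * 12597120 :=
  card_le_sub edges4 edges5 extra4 kept5 dropped5 h1_5 h2_5 h3_5 ({Cfsg.Spor.Bimonster.a, Cfsg.Spor.Bimonster.b1, Cfsg.Spor.Bimonster.c1, Cfsg.Spor.Bimonster.b2, Cfsg.Spor.Bimonster.c2, Cfsg.Spor.Bimonster.b3, Cfsg.Spor.Bimonster.c3} : Set (FreeGroup Cfsg.Spor.Bimonster.Gen)) hS4 728 12597120 Cfsg.Agent.Lib.Helper28_Y5c4.U.upper (by have := card5; norm_num at this ⊢; exact this)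

theorem hS3 : ∀ s ∈ ({Cfsg.Spor.Bimonster.a, Cfsg.Spor.Bimonster.b1, Cfsg.Spor.Bimonster.c1, Cfsg.Spor.Bimonster.d1, Cfsg.Spor.Bimonster.b2, Cfsg.Spor.Bimonster.c2, Cfsg.Spor.Bimonster.b3, Cfsg.Spor.Bimonster.c3} : Set (FreeGroup Cfsg.Spor.Bimonster.Gen)), ∃ x, x ∉ dropped4 ∧ s = FreeGroup.of x := by
  intro s hs
  simp only [Set.mem_insert_iff, Set.mem_singleton_iff] at hs
  rcases hs with rfl | rfl | rfl | rfl | rfl | rfl | rfl | rfl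
  · exact ⟨.a, by decide, rfl⟩
  · exact ⟨.b1, by decide, rfl⟩
  · exact ⟨.c1, by decide, rfl⟩
  · exact ⟨.d1, by decide, rfl⟩
  · exact ⟨.b2, by decide, rfl⟩
  · exact ⟨.c2, by decide, rfl⟩
  · exact ⟨.b3, by decide, rfl⟩
  · exact ⟨.c3, by decide, rfl⟩

theorem card3 : Finite (PresentedGroup (coxRelators edges3 ∪ {r | r ∈ extra3})) ∧ Nat.card (PresentedGroup (coxRelators edges3 ∪ {r | r ∈ extra3})) ≤ 28160 * 9170703360 :=
  card_le_sub edges3 edges4 extra3 kept4 dropped4 h1_4 h2_4 h3_4 ({Cfsg.Spor.Bimonster.a, Cfsg.Spor.Bimonster.b1, Cfsg.Spor.Bimonster.c1, Cfsg.Spor.Bimonster.d1, Cfsg.Spor.Bimonster.b2, Cfsg.Spor.Bimonster.c2, Cfsg.Spor.Bimonster.b3, Cfsg.Spor.Bimonster.c3} : Set (FreeGroup Cfsg.Spor.Bimonster.Gen)) hS3 28160 9170703360 Cfsg.Agent.Lib.Helper28_Y5c3.U.upper (by have := card4; norm_num at this ⊢; exact this)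

/-- the upper bound for the order of the `Y₃₃₂` + spider group -/
theorem card_le : Finite (PresentedGroup (coxRelators edges3 ∪ {r | r ∈ extra3})) ∧ Nat.card (PresentedGroup (coxRelators edges3 ∪ {r | r ∈ extra3})) ≤ 258247006617600 := by
  have := card3
  norm_num at this ⊢
  exact this

end Cfsg.Agent.Lib.Helper28_Y5Order
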