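import Cfsg.Agent.Lib.Helper28_Y5Lemmas
import Cfsg.Agent.Lib.Helper28_Y5Chain
import Cfsg.Agent.Lib.Helper28_Fi23Order
import Cfsg.Agent.Lib.Helper28_Y5OrderU
import Cfsg.Agent.Lib.Helper28_Y5FiW
import Cfsg.Agent.Lib.Helper28_Y5c1U

/-!
# The `Y₄₃₂` + spider group is `Fi₂₃ × 2` (helper28)

`X` is the group presented by the `Y₄₃₂` sub-diagram of `Y₅₅₅` with the spider relation, `W` the
one for `Y₃₃₂`.  The homomorphism `Φ = (π, σ) : X → Fi₂₃ × {±1}` (relabelling of the nodes, sign)
is injective: on `W` by counting (`|W| ≤ 4·|Fi₂₂|` by coset enumeration, and the range contains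
`2·Fi₂₂ × 2`), which makes the `E₇` element `ζ` central in `X`, and `Fi₂₃` is `X / ⟨ζ⟩`.
-/

set_option autoImplicit false
set_option linter.unusedVariables false
set_option linter.unusedSectionVars false
set_option linter.constructorNameAsVariable false

namespace Cfsg.Agent.Lib.Helper28_Y5Main

open Cfsg.Spor Cfsg.Agent.Lib.Helper28_OrderChain Cfsg.Agent.Lib.Helper28_Y5Chain
  Cfsg.Agent.Lib.Helper28_Y5Lemmas Cfsg.Agent.Lib.Helper28_CosetCox

/-- generators of the `Y₅₅₅` diagram -/
abbrev BG := Cfsg.Spor.Bimonster.Gen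
/-- generators of `Fi₂₃` -/
abbrev FG := Cfsg.Spor.Fi23.Gen
/-- the relators of `Fi₂₃` -/
abbrev RF : Set (FreeGroup FG) := Cfsg.Agent.Lib.Helper28_Fi23Order.RELS
/-- the relators of the `Y₅₃₂` + spider group `D` -/
abbrev R1 : Set (FreeGroup BG) := coxRelators edges1 ∪ {r | r ∈ extra1}
/-- the relators of the `Y₄₃₂` + spider group `X` -/
abbrev R2 : Set (FreeGroup BG) := coxRelators edges2 ∪ {r | r ∈ extra2}
/-- the relators of the `Y₃₃₂` + spider group `W` -/
abbrev R3 : Set (FreeGroup BG) := coxRelators edges3 ∪ {r | r ∈ extra3}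

/-- a generator as a free group element -/
abbrev fo (x : BG) : FreeGroup BG := FreeGroup.of x
/-- a generator of `X` -/
abbrev g2 (x : BG) : PresentedGroup R2 := PresentedGroup.of x

/-- the relabelling of the nodes of `Y₄₃₂` by the generators of `Fi₂₃` -/
def m : BG → FG
  | .a => .d
  | .b1 => .e
  | .c1 => .f
  | .d1 => .g
  | .e1 => .j
  | .b2 => .c
  | .c2 => .b
  | .d2 => .a
  | .b3 => .h
  | .c3 => .i
  | _ => .d

/-- the inverse relabelling -/
def minv : FG → BG
  | .d => .a
  | .e => .b1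
  | .f => .c1
  | .g => .d1
  | .j => .e1
  | .c => .b2
  | .b => .c2
  | .a => .d2
  | .h => .b3
  | .i => .c3

/-- relabelling of a word -/
def mw (u : List (BG × Bool)) : List (FG × Bool) := u.map fun l => (m l.1, l.2)

/-! ### The maps on `X` -/

/-- generator images for `π₂` -/
noncomputable def f2 (x : BG) : PresentedGroup RF :=
  if x ∈ dropped2 then 1 else PresentedGroup.of (m x)

/-- generator images for the sign -/
def s2 (x : BG) : ℤˣ := if x ∈ dropped2 then 1 else -1

theorem key2 : ∀ x ∈ coxNodes edges2, ∀ y ∈ coxNodes edges2,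
    x ∉ dropped2 ∧ y ∉ dropped2 ∧ m x ∈ coxNodes Fi23.edges ∧ m y ∈ coxNodes Fi23.edges ∧
      coxLabel edges2 x y = coxLabel Fi23.edges (m x) (m y) := by decide

theorem pair_F (x y : FG) (hx : x ∈ coxNodes Fi23.edges) (hy : y ∈ coxNodes Fi23.edges) :
    ((PresentedGroup.of x : PresentedGroup RF) * PresentedGroup.of y) ^
      coxLabel Fi23.edges x y = 1 := by
  have hmem : (FreeGroup.of x * FreeGroup.of y) ^ coxLabel Fi23.edges x y ∈ RF :=
    Or.inl ⟨x, hx, y, hy, rfl⟩
  have := PresentedGroup.one_of_mem hmem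
  rwa [map_pow, map_mul] at this

theorem kept2_eq : ∀ u ∈ kept2, u = (List.replicate 10 [((.a : BG), true), (.b1, true), (.c1, true),
    (.a, true), (.b2, true), (.c2, true), (.a, true), (.b3, true), (.c3, true)]).flatten := by
  decide

theorem spider_mw : mw (List.replicate 10 [((.a : BG), true), (.b1, true), (.c1, true),
    (.a, true), (.b2, true), (.c2, true), (.a, true), (.b3, true), (.c3, true)]).flatten =
    Cfsg.Agent.Lib.Helper28_Y5FiW.u_spider := by decide

theorem f2_rels : ∀ r ∈ R2, FreeGroup.lift f2 r = 1 := by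
  apply rels_of_parts
  · intro x hx y hy
    obtain ⟨h1, h2, h3, h4, h5⟩ := key2 x hx y hy
    unfold f2
    rw [if_neg h1, if_neg h2, h5]
    exact pair_F _ _ h3 h4
  · intro u hu
    have hl := (h3_2 u hu).2
    rw [lift_relabel RF m f2 u (fun l hl' => by unfold f2; rw [if_neg (hl l hl')])]
    rw [kept2_eq u hu]
    have := spider_mw
    unfold mw at this
    rw [this]
    exact Cfsg.Agent.Lib.Helper28_Y5FiW.one_spider
  · intro x hx
    unfold f2
    rw [if_pos hx]

theorem s2_rels : ∀ r ∈ R2, FreeGroup.lift s2 r = 1 := by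
  apply rels_of_parts
  · intro x hx y hy
    obtain ⟨h1, h2, _⟩ := key2 x hx y hy
    unfold s2
    rw [if_neg h1, if_neg h2]
    simp
  · intro u hu
    have hl := (h3_2 u hu).2
    rw [lift_sign s2 u (fun l hl' => by unfold s2; rw [if_neg (hl l hl')])]
    rw [kept2_eq u hu]
    decide
  · intro x hx
    unfold s2
    rw [if_pos hx]

/-- `π₂ : X → Fi₂₃` -/
noncomputable def pi2 : PresentedGroup R2 →* PresentedGroup RF := PresentedGroup.toGroup f2_rels

/-- the sign `σ₂ : X → {±1}` -/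
noncomputable def sg2 : PresentedGroup R2 →* ℤˣ := PresentedGroup.toGroup s2_rels

theorem pi2_of (x : BG) (hx : x ∉ dropped2) :
    pi2 (PresentedGroup.of x) = PresentedGroup.of (m x) := by
  unfold pi2
  rw [PresentedGroup.toGroup.of]
  unfold f2
  rw [if_neg hx]

theorem sg2_of (x : BG) (hx : x ∉ dropped2) : sg2 (PresentedGroup.of x) = -1 := by
  unfold sg2
  rw [PresentedGroup.toGroup.of]
  unfold s2
  rw [if_neg hx]

theorem pi2_word (u : List (BG × Bool)) (hu : ∀ l ∈ u, l.1 ∉ dropped2) :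
    pi2 (PresentedGroup.mk R2 (FreeGroup.mk u)) = PresentedGroup.mk RF (FreeGroup.mk (mw u)) := by
  unfold pi2
  rw [toGroup_mk]
  exact lift_relabel RF m f2 u (fun l hl => by unfold f2; rw [if_neg (hu l hl)])

theorem sg2_word (u : List (BG × Bool)) (hu : ∀ l ∈ u, l.1 ∉ dropped2) :
    sg2 (PresentedGroup.mk R2 (FreeGroup.mk u)) = (-1) ^ u.length := by
  unfold sg2
  rw [toGroup_mk]
  exact lift_sign s2 u (fun l hl => by unfold s2; rw [if_neg (hu l hl)])

/-- `Φ₂ = (π₂, σ₂)` -/
noncomputable def Phi2 : PresentedGroup R2 →* PresentedGroup RF × ℤˣ := pi2.prod sg2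

/-! ### The group `W` embeds in `Fi₂₃ × {±1}` -/

instance finiteW : Finite (PresentedGroup R3) := Cfsg.Agent.Lib.Helper28_Y5Order.card_le.1

/-- the comparison map `W → X` -/
noncomputable def i32 : PresentedGroup R3 →* PresentedGroup R2 :=
  subHom edges2 edges3 extra2 kept3 dropped3 h1_3 h2_3 h3_3

theorem i32_of (x : BG) (hx : x ∉ dropped3) :
    i32 (PresentedGroup.of x) = PresentedGroup.of x :=
  subHom_of edges2 edges3 extra2 kept3 dropped3 h1_3 h2_3 h3_3 x hx

theorem i32_word (u : List (BG × Bool)) (hu : ∀ l ∈ u, l.1 ∉ dropped3) :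
    i32 (PresentedGroup.mk R3 (FreeGroup.mk u)) = PresentedGroup.mk R2 (FreeGroup.mk u) := by
  exact lift_subMap_mk (coxRelators edges2 ∪ {r | r ∈ extra2}) dropped3 u hu

/-- `Φ₃ = Φ₂ ∘ i₃₂` -/
noncomputable def Phi3 : PresentedGroup R3 →* PresentedGroup RF × ℤˣ := Phi2.comp i32

theorem drop32 : ∀ x : BG, x ∉ dropped3 → x ∉ dropped2 := by
  intro x; cases x <;> decide

theorem Phi3_of (x : BG) (hx : x ∉ dropped3) :
    Phi3 (PresentedGroup.of x) = (PresentedGroup.of (m x), -1) := by
  unfold Phi3 Phi2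
  rw [MonoidHom.comp_apply, i32_of x hx, MonoidHom.prod_apply, pi2_of x (drop32 x hx),
    sg2_of x (drop32 x hx)]

theorem Phi3_word (u : List (BG × Bool)) (hu : ∀ l ∈ u, l.1 ∉ dropped3) :
    Phi3 (PresentedGroup.mk R3 (FreeGroup.mk u)) =
      (PresentedGroup.mk RF (FreeGroup.mk (mw u)), (-1) ^ u.length) := by
  unfold Phi3 Phi2
  rw [MonoidHom.comp_apply, i32_word u hu, MonoidHom.prod_apply,
    pi2_word u (fun l hl => drop32 _ (hu l hl)), sg2_word u (fun l hl => drop32 _ (hu l hl))]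

/-- the `E₇` word `(d₂ c₂ b₂ a b₁ c₁ b₃)^9`, which is the relator `(a b c d e f h)^9` of `Fi₂₃` -/
def zetaW : List (BG × Bool) := (List.replicate 9 [((.d2 : BG), true), (.c2, true), (.b2, true),
    (.a, true), (.b1, true), (.c1, true), (.b3, true)]).flatten

/-- the spider word with the first two arms interchanged, which is the spider relator of `Fi₂₃` -/
def spiderW' : List (BG × Bool) := (List.replicate 10 [((.a : BG), true), (.b2, true), (.c2, true),
    (.a, true), (.b1, true), (.c1, true), (.a, true), (.b3, true), (.c3, true)]).flatten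

theorem zetaW_drop : ∀ l ∈ zetaW, l.1 ∉ dropped3 := by decide
theorem spiderW'_drop : ∀ l ∈ spiderW', l.1 ∉ dropped3 := by decide

theorem zetaW_rel : PresentedGroup.mk RF (FreeGroup.mk (mw zetaW)) = 1 := by
  apply PresentedGroup.one_of_mem
  exact Or.inr (by decide +kernel)

theorem spiderW'_rel : PresentedGroup.mk RF (FreeGroup.mk (mw spiderW')) = 1 := by
  apply PresentedGroup.one_of_mem
  exact Or.inr (by decide +kernel)

theorem Phi3_zeta : Phi3 (PresentedGroup.mk R3 (FreeGroup.mk zetaW)) = (1, -1) := by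
  rw [Phi3_word zetaW zetaW_drop, zetaW_rel]
  rfl

theorem Phi3_injective : Function.Injective Phi3 := by
  apply injective_of_card_le_range Phi3
    ((Subgroup.closure {x : PresentedGroup RF | ∃ a ∈ ([.a, .b, .c, .d, .e, .f, .g, .h, .i] : List FG),
      x = PresentedGroup.of a}).prod ⊤)
  · apply prod_top_le_range
    · rintro s ⟨a, ha, rfl⟩
      refine ⟨PresentedGroup.of (minv a), ?_⟩
      simp only [List.mem_cons, List.not_mem_nil, or_false] at ha
      rcases ha with rfl | rfl | rfl | rfl | rfl | rfl | rfl | rfl | rfl <;>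
        exact Phi3_of _ (by decide)
    · exact ⟨_, Phi3_zeta⟩
  · rw [card_prod_top]
    have h1 := Cfsg.Agent.Lib.Helper28_Y5Order.card_le.2
    have h2 := Cfsg.Agent.Lib.Helper28_Fi23Order.lo1
    unfold Cfsg.Agent.Lib.Helper28_OrbitLB.SG at h2
    calc Nat.card (PresentedGroup R3) ≤ 258247006617600 := h1
      _ = 129123503308800 * 2 := by norm_num
      _ ≤ _ := Nat.mul_le_mul_right 2 h2

/-- the element `ζ` of `W` -/
noncomputable def zeta3 : PresentedGroup R3 := PresentedGroup.mk R3 (FreeGroup.mk zetaW)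

theorem zeta3_sq : zeta3 * zeta3 = 1 := by
  apply Phi3_injective
  unfold zeta3
  rw [map_mul, Phi3_zeta, map_one]
  rfl

theorem zeta3_comm (g : PresentedGroup R3) : zeta3 * g = g * zeta3 := by
  apply Phi3_injective
  unfold zeta3
  rw [map_mul, map_mul, Phi3_zeta]
  ext
  · simp
  · simp [mul_comm]

theorem spider3' : PresentedGroup.mk R3 (FreeGroup.mk spiderW') = 1 := by
  apply Phi3_injective
  rw [Phi3_word spiderW' spiderW'_drop, spiderW'_rel, map_one]
  rfl

/-! ### `ζ` is central in `X`, and `Φ₂` is injective -/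

/-- the element `ζ` of `X` -/
noncomputable def zeta2 : PresentedGroup R2 := PresentedGroup.mk R2 (FreeGroup.mk zetaW)

theorem i32_zeta : i32 zeta3 = zeta2 := i32_word zetaW zetaW_drop

theorem zeta2_sq : zeta2 * zeta2 = 1 := by
  rw [← i32_zeta, ← map_mul, zeta3_sq, map_one]

/-- a generator commutes with a word if it commutes with its letters -/
theorem comm_word {G : Type*} [Group G] (f : BG → G) (g : G) (u : List (BG × Bool))
    (h : ∀ l ∈ u, g * f l.1 = f l.1 * g) :
    g * FreeGroup.lift f (FreeGroup.mk u) = FreeGroup.lift f (FreeGroup.mk u) * g := by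
  induction u with
  | nil => rw [lift_mk_nil, mul_one, one_mul]
  | cons l ls ih =>
    rw [lift_mk_cons, ← mul_assoc, mul_assoc _ _ g,
      ← ih (fun l' hl' => h l' (List.mem_cons_of_mem _ hl')), ← mul_assoc]
    congr 1
    have h1 := h l List.mem_cons_self
    cases l.2 with
    | true => exact h1
    | false =>
      show g * (f l.1)⁻¹ = (f l.1)⁻¹ * g
      rw [eq_inv_mul_iff_mul_eq, ← mul_assoc, ← h1, mul_assoc, mul_inv_cancel, mul_one]

theorem of_sq2 (x : BG) (hx : x ∈ coxNodes edges2) :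
    (PresentedGroup.of x : PresentedGroup R2) * PresentedGroup.of x = 1 := by
  have hmem : (FreeGroup.of x * FreeGroup.of x) ^ coxLabel edges2 x x ∈ R2 :=
    Or.inl ⟨x, hx, x, hx, rfl⟩
  have := PresentedGroup.one_of_mem hmem
  have hl : coxLabel edges2 x x = 1 := by unfold coxLabel; rw [if_pos rfl]
  rwa [hl, pow_one, map_mul] at this

theorem of_comm2 (x y : BG) (hx : x ∈ coxNodes edges2) (hy : y ∈ coxNodes edges2)
    (hl : coxLabel edges2 x y = 2) :
    (PresentedGroup.of x : PresentedGroup R2) * PresentedGroup.of y =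
      PresentedGroup.of y * PresentedGroup.of x := by
  have hmem : (FreeGroup.of x * FreeGroup.of y) ^ coxLabel edges2 x y ∈ R2 :=
    Or.inl ⟨x, hx, y, hy, rfl⟩
  have h := PresentedGroup.one_of_mem hmem
  rw [hl, map_pow, map_mul, pow_two] at h
  have hx2 := of_sq2 x hx
  have hy2 := of_sq2 y hy
  have e1 : (PresentedGroup.of x : PresentedGroup R2)⁻¹ = PresentedGroup.of x :=
    inv_eq_of_mul_eq_one_right hx2
  have e2 : (PresentedGroup.of y : PresentedGroup R2)⁻¹ = PresentedGroup.of y :=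
    inv_eq_of_mul_eq_one_right hy2
  have : (PresentedGroup.of x : PresentedGroup R2) * PresentedGroup.of y =
      ((PresentedGroup.of x : PresentedGroup R2) * PresentedGroup.of y)⁻¹ :=
    (inv_eq_of_mul_eq_one_right h).symm
  rw [this, mul_inv_rev, e1, e2]

theorem zeta2_comm_e1 : PresentedGroup.of .e1 * zeta2 = zeta2 * PresentedGroup.of .e1 := by
  unfold zeta2
  rw [mk_eq_lift_of]
  apply comm_word
  intro l hl
  have : l.1 = .d2 ∨ l.1 = .c2 ∨ l.1 = .b2 ∨ l.1 = .a ∨ l.1 = .b1 ∨ l.1 = .c1 ∨ l.1 = .b3 := by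
    revert l; decide
  rcases this with h | h | h | h | h | h | h <;> rw [h] <;>
    exact of_comm2 _ _ (by decide) (by decide) (by decide)

theorem of_dropped2 (x : BG) (hx : x ∈ dropped2) : (PresentedGroup.of x : PresentedGroup R2) = 1 := by
  apply PresentedGroup.one_of_mem
  refine Or.inr ?_
  show FreeGroup.of x ∈ subExtra kept2 dropped2
  unfold subExtra
  exact List.mem_append_right _ (List.mem_map.mpr ⟨x, hx, rfl⟩)

theorem zeta2_comm_of (x : BG) : PresentedGroup.of x * zeta2 = zeta2 * PresentedGroup.of x := by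
  by_cases h3 : x ∈ dropped3
  · by_cases h2 : x ∈ dropped2
    · rw [of_dropped2 x h2, one_mul, mul_one]
    · have : x = .e1 := by
        revert h2 h3; cases x <;> decide
      rw [this]; exact zeta2_comm_e1
  · rw [← i32_of x h3, ← i32_zeta, ← map_mul, ← map_mul, zeta3_comm]

theorem zeta2_central (g : PresentedGroup R2) : g * zeta2 = zeta2 * g := by
  have h : (⊤ : Subgroup (PresentedGroup R2)) ≤ Subgroup.centralizer {zeta2} := by
    rw [← PresentedGroup.closure_range_of, Subgroup.closure_le]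
    rintro _ ⟨x, rfl⟩
    rw [SetLike.mem_coe, Subgroup.mem_centralizer_iff]
    intro y hy
    rw [Set.mem_singleton_iff.mp hy]
    exact (zeta2_comm_of x).symm
  have := h (Subgroup.mem_top g)
  rw [Subgroup.mem_centralizer_iff] at this
  exact (this zeta2 rfl).symm

/-- the subgroup `⟨ζ⟩` of `X` -/
noncomputable def N2 : Subgroup (PresentedGroup R2) := Subgroup.zpowers zeta2

instance N2_normal : N2.Normal := by
  constructor
  intro n hn g
  have : g * n * g⁻¹ = n := by
    obtain ⟨k, rfl⟩ := Subgroup.mem_zpowers_iff.mp hn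
    have hc : g * zeta2 ^ k = zeta2 ^ k * g := by
      have := Commute.zpow_right (show Commute g zeta2 from zeta2_central g) k
      exact this
    rw [hc, mul_assoc, mul_inv_cancel, mul_one]
  rw [this]; exact hn

theorem mem_N2 (x : PresentedGroup R2) (hx : x ∈ N2) : x = 1 ∨ x = zeta2 := by
  obtain ⟨k, rfl⟩ := Subgroup.mem_zpowers_iff.mp hx
  have h2 : zeta2 ^ (2 : ℤ) = 1 := by
    rw [zpow_ofNat, pow_two]; exact zeta2_sq
  rcases Int.even_or_odd' k with ⟨j, hj | hj⟩
  · left; rw [hj, zpow_mul, h2, one_zpow]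
  · right; rw [hj, zpow_add, zpow_mul, h2, one_zpow, one_mul, zpow_one]

theorem keyF : ∀ x ∈ coxNodes Fi23.edges, ∀ y ∈ coxNodes Fi23.edges,
    minv x ∈ coxNodes edges2 ∧ minv y ∈ coxNodes edges2 ∧
      coxLabel Fi23.edges x y = coxLabel edges2 (minv x) (minv y) := by decide

/-- generator images for `τ : Fi₂₃ → X / ⟨ζ⟩` -/
noncomputable def ft (y : FG) : PresentedGroup R2 ⧸ N2 :=
  QuotientGroup.mk' N2 (PresentedGroup.of (minv y))

theorem mk_of2 (x : BG) : PresentedGroup.mk R2 (fo x) = g2 x := rfl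

theorem eSp : (FreeGroup.mk spiderW' : FreeGroup BG) =
    (fo .a * fo .b2 * fo .c2 * fo .a * fo .b1 *
      fo .c1 * fo .a * fo .b3 * fo .c3) ^ 10 :=
  mk_replicate_eq _ 10 _ rfl

theorem hSp : PresentedGroup.mk R2 (FreeGroup.mk spiderW') = 1 :=
  (i32_word spiderW' spiderW'_drop).symm.trans ((congrArg i32 spider3').trans (map_one i32))

theorem hSp' : PresentedGroup.mk R2 ((fo .a * fo .b2 * fo .c2 *
    fo .a * fo .b1 * fo .c1 * fo .a * fo .b3 *
    fo .c3) ^ 10) = 1 :=
  (congrArg (PresentedGroup.mk R2) eSp).symm.trans hSp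

theorem spider2' : (g2 .a * g2 .b2 *
    g2 .c2 * g2 .a * g2 .b1 * g2 .c1 *
    g2 .a * g2 .b3 * g2 .c3) ^ 10 = 1 := by
  have h' := hSp'
  rw [map_pow] at h'
  simp only [map_mul, mk_of2] at h'
  exact h'

theorem eZeta : (FreeGroup.mk zetaW : FreeGroup BG) =
    (fo .d2 * fo .c2 * fo .b2 * fo .a * fo .b1 *
      fo .c1 * fo .b3) ^ 9 :=
  mk_replicate_eq _ 9 _ rfl

theorem zeta2_eq' : zeta2 = PresentedGroup.mk R2 ((fo .d2 * fo .c2 *
    fo .b2 * fo .a * fo .b1 * fo .c1 * fo .b3) ^ 9) :=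
  congrArg (PresentedGroup.mk R2) eZeta

theorem zeta2_eq : zeta2 = (g2 .d2 * g2 .c2 *
    g2 .b2 * g2 .a * g2 .b1 * g2 .c1 *
    g2 .b3) ^ 9 := by
  have h' := zeta2_eq'
  rw [map_pow] at h'
  simp only [map_mul, mk_of2] at h'
  exact h'

theorem ft_rels : ∀ r ∈ RF, FreeGroup.lift ft r = 1 := by
  rintro r (hr | hr)
  · revert r
    apply cox_lift_eq_one
    intro x hx y hy
    obtain ⟨h1, h2, h3⟩ := keyF x hx y hy
    unfold ft
    rw [← map_mul, ← map_pow, h3]
    have hmem : (FreeGroup.of (minv x) * FreeGroup.of (minv y)) ^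
        coxLabel edges2 (minv x) (minv y) ∈ R2 := Or.inl ⟨_, h1, _, h2, rfl⟩
    have := PresentedGroup.one_of_mem hmem
    rw [map_pow, map_mul] at this
    rw [show (PresentedGroup.of (minv x) : PresentedGroup R2) = PresentedGroup.mk R2 (FreeGroup.of (minv x)) from rfl,
      show (PresentedGroup.of (minv y) : PresentedGroup R2) = PresentedGroup.mk R2 (FreeGroup.of (minv y)) from rfl,
      this, map_one]
  · have hr' : r ∈ Fi23.extra := hr
    unfold Fi23.extra at hr'
    simp only [List.mem_cons, List.not_mem_nil, or_false] at hr'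
    rcases hr' with rfl | rfl
    · simp only [map_pow, map_mul, FreeGroup.lift_apply_of]
      unfold ft
      simp only [← map_mul, ← map_pow]
      show QuotientGroup.mk' N2 _ = 1
      have := spider2'
      simp only [minv]
      rw [this, map_one]
    · simp only [map_pow, map_mul, FreeGroup.lift_apply_of]
      unfold ft
      simp only [← map_mul, ← map_pow]
      show QuotientGroup.mk' N2 _ = 1
      simp only [minv]
      rw [← zeta2_eq]
      exact (QuotientGroup.eq_one_iff _).mpr (Subgroup.mem_zpowers zeta2)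

/-- `τ : Fi₂₃ → X / ⟨ζ⟩` -/
noncomputable def tau : PresentedGroup RF →* PresentedGroup R2 ⧸ N2 := PresentedGroup.toGroup ft_rels

theorem tau_pi2 : tau.comp pi2 = QuotientGroup.mk' N2 := by
  apply PresentedGroup.ext
  intro x
  rw [MonoidHom.comp_apply]
  by_cases hx : x ∈ dropped2
  · rw [of_dropped2 x hx, map_one, map_one, map_one]
  · rw [pi2_of x hx]
    unfold tau
    rw [PresentedGroup.toGroup.of]
    unfold ft
    congr 2
    revert hx; cases x <;> decide

theorem ker_pi2 (x : PresentedGroup R2) (hx : pi2 x = 1) : x ∈ N2 := by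
  have h := congrArg (fun φ => φ x) tau_pi2
  simp only [MonoidHom.comp_apply] at h
  rw [hx, map_one] at h
  exact (QuotientGroup.eq_one_iff x).mp h.symm

theorem sg2_zeta : sg2 zeta2 = -1 := by
  unfold zeta2
  rw [sg2_word zetaW (fun l hl => drop32 _ (zetaW_drop l hl))]
  decide

theorem Phi2_injective : Function.Injective Phi2 := by
  rw [injective_iff_map_eq_one]
  intro x hx
  unfold Phi2 at hx
  rw [MonoidHom.prod_apply, Prod.mk_eq_one] at hx
  rcases mem_N2 x (ker_pi2 x hx.1) with h | h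
  · exact h
  · exfalso
    have := hx.2
    rw [h, sg2_zeta] at this
    exact absurd this (by decide)

/-! ### The group `D` (`Y₅₃₂` + spider) -/

/-- a generator of `Fi₂₃` as a free group element -/
abbrev ff (x : FG) : FreeGroup FG := FreeGroup.of x
/-- a generator of `Fi₂₃` -/
abbrev gF (x : FG) : PresentedGroup RF := PresentedGroup.of x

/-- the word `z₁ = (a b₁ b₂ b₃ c₁ c₂ d₁)^9` -/
def z1W : List (BG × Bool) := (List.replicate 9 [((.a : BG), true), (.b1, true), (.b2, true),
    (.b3, true), (.c1, true), (.c2, true), (.d1, true)]).flatten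

/-- the word `z₂ = (a b₁ b₃ b₂ c₁ c₃ d₁)^9` -/
def z2W : List (BG × Bool) := (List.replicate 9 [((.a : BG), true), (.b1, true), (.b3, true),
    (.b2, true), (.c1, true), (.c3, true), (.d1, true)]).flatten

theorem z1W_drop : ∀ l ∈ z1W, l.1 ∉ dropped2 := by decide
theorem z2W_drop : ∀ l ∈ z2W, l.1 ∉ dropped2 := by decide

/-- the image of `z₁` in `Fi₂₃` -/
noncomputable def ZF : PresentedGroup RF := PresentedGroup.mk RF (FreeGroup.mk (mw z1W))

theorem ZF_sq : ZF * ZF = 1 := by
  have e : (FreeGroup.mk Cfsg.Agent.Lib.Helper28_Y5FiW.u_zz : FreeGroup FG) =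
      FreeGroup.mk (mw z1W) * FreeGroup.mk (mw z1W) := by decide +kernel
  have h := (congrArg (PresentedGroup.mk RF) e).symm.trans Cfsg.Agent.Lib.Helper28_Y5FiW.one_zz
  rw [map_mul] at h
  exact h

theorem ZF_comm (y : FG) (u : List (FG × Bool))
    (e : (FreeGroup.mk u : FreeGroup FG) = (FreeGroup.mk (mw z1W) * ff y) ^ 2)
    (h : PresentedGroup.mk RF (FreeGroup.mk u) = 1) : (ZF * gF y) ^ 2 = 1 := by
  have h' := (congrArg (PresentedGroup.mk RF) e).symm.trans h
  rw [map_pow, map_mul] at h'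
  exact h'

theorem ZF_d : (ZF * gF .d) ^ 2 = 1 :=
  ZF_comm .d _ (by decide +kernel) Cfsg.Agent.Lib.Helper28_Y5FiW.one_c_a
theorem ZF_e : (ZF * gF .e) ^ 2 = 1 :=
  ZF_comm .e _ (by decide +kernel) Cfsg.Agent.Lib.Helper28_Y5FiW.one_c_b1
theorem ZF_f : (ZF * gF .f) ^ 2 = 1 :=
  ZF_comm .f _ (by decide +kernel) Cfsg.Agent.Lib.Helper28_Y5FiW.one_c_c1
theorem ZF_g : (ZF * gF .g) ^ 2 = 1 :=
  ZF_comm .g _ (by decide +kernel) Cfsg.Agent.Lib.Helper28_Y5FiW.one_c_d1
theorem ZF_c : (ZF * gF .c) ^ 2 = 1 :=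
  ZF_comm .c _ (by decide +kernel) Cfsg.Agent.Lib.Helper28_Y5FiW.one_c_b2
theorem ZF_b : (ZF * gF .b) ^ 2 = 1 :=
  ZF_comm .b _ (by decide +kernel) Cfsg.Agent.Lib.Helper28_Y5FiW.one_c_c2
theorem ZF_a : (ZF * gF .a) ^ 2 = 1 :=
  ZF_comm .a _ (by decide +kernel) Cfsg.Agent.Lib.Helper28_Y5FiW.one_c_d2
theorem ZF_h : (ZF * gF .h) ^ 2 = 1 :=
  ZF_comm .h _ (by decide +kernel) Cfsg.Agent.Lib.Helper28_Y5FiW.one_c_b3
theorem ZF_i : (ZF * gF .i) ^ 2 = 1 :=
  ZF_comm .i _ (by decide +kernel) Cfsg.Agent.Lib.Helper28_Y5FiW.one_c_c3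

theorem ZF_j : (ZF * gF .j) ^ 3 = 1 := by
  have e : (FreeGroup.mk Cfsg.Agent.Lib.Helper28_Y5FiW.u_braid : FreeGroup FG) =
      (FreeGroup.mk (mw z1W) * ff .j) ^ 3 := by decide +kernel
  have h' := (congrArg (PresentedGroup.mk RF) e).symm.trans
    Cfsg.Agent.Lib.Helper28_Y5FiW.one_braid
  rw [map_pow, map_mul] at h'
  exact h'

/-- generator images for `π_D : D → Fi₂₃` -/
noncomputable def fD (x : BG) : PresentedGroup RF :=
  if x ∈ dropped1 then 1 else if x = .f1 then ZF else PresentedGroup.of (m x)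

/-- generator images for the sign on `D` -/
def sD (x : BG) : ℤˣ := if x ∈ dropped1 then 1 else -1

theorem fD_f1 : fD .f1 = ZF := by
  unfold fD
  rw [if_neg (by decide), if_pos rfl]

theorem fD_of (x : BG) (h1 : x ∉ dropped1) (h2 : x ≠ .f1) : fD x = PresentedGroup.of (m x) := by
  unfold fD
  rw [if_neg h1, if_neg h2]

theorem hZ : ∀ y ∈ coxNodes edges1, (ZF * fD y) ^ coxLabel edges1 .f1 y = 1 := by
  intro y hy
  cases y with
  | a => rw [fD_of .a (by decide) (by decide), show coxLabel edges1 .f1 .a = 2 by decide]; exact ZF_d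
  | b1 => rw [fD_of .b1 (by decide) (by decide), show coxLabel edges1 .f1 .b1 = 2 by decide]; exact ZF_e
  | c1 => rw [fD_of .c1 (by decide) (by decide), show coxLabel edges1 .f1 .c1 = 2 by decide]; exact ZF_f
  | d1 => rw [fD_of .d1 (by decide) (by decide), show coxLabel edges1 .f1 .d1 = 2 by decide]; exact ZF_g
  | e1 => rw [fD_of .e1 (by decide) (by decide), show coxLabel edges1 .f1 .e1 = 3 by decide]; exact ZF_j
  | f1 => rw [fD_f1, show coxLabel edges1 .f1 .f1 = 1 by decide, pow_one]; exact ZF_sq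
  | b2 => rw [fD_of .b2 (by decide) (by decide), show coxLabel edges1 .f1 .b2 = 2 by decide]; exact ZF_c
  | c2 => rw [fD_of .c2 (by decide) (by decide), show coxLabel edges1 .f1 .c2 = 2 by decide]; exact ZF_b
  | d2 => rw [fD_of .d2 (by decide) (by decide), show coxLabel edges1 .f1 .d2 = 2 by decide]; exact ZF_a
  | b3 => rw [fD_of .b3 (by decide) (by decide), show coxLabel edges1 .f1 .b3 = 2 by decide]; exact ZF_h
  | c3 => rw [fD_of .c3 (by decide) (by decide), show coxLabel edges1 .f1 .c3 = 2 by decide]; exact ZF_i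
  | e2 => exact absurd hy (by decide)
  | f2 => exact absurd hy (by decide)
  | d3 => exact absurd hy (by decide)
  | e3 => exact absurd hy (by decide)
  | f3 => exact absurd hy (by decide)

theorem key1 : ∀ x ∈ coxNodes edges1, x ≠ .f1 → x ∈ coxNodes edges2 ∧ x ∉ dropped1 := by decide

theorem label_symm1 : ∀ x ∈ coxNodes edges1, coxLabel edges1 x .f1 = coxLabel edges1 .f1 x := by
  decide

theorem kept1_eq : ∀ u ∈ kept1, u = (List.replicate 10 [((.a : BG), true), (.b1, true), (.c1, true),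
    (.a, true), (.b2, true), (.c2, true), (.a, true), (.b3, true), (.c3, true)]).flatten := by
  decide

theorem kept1_letters : ∀ u ∈ kept1, ∀ l ∈ u, l.1 ∉ dropped1 ∧ l.1 ≠ .f1 := by decide

theorem fD_rels : ∀ r ∈ R1, FreeGroup.lift fD r = 1 := by
  apply rels_of_parts
  · intro x hx y hy
    by_cases hxf : x = .f1
    · rw [hxf, fD_f1]; exact hZ y hy
    · by_cases hyf : y = .f1
      · rw [hyf, fD_f1, label_symm1 x hx]
        exact pow_swap_eq_one _ _ _ (hZ x hx)
      · obtain ⟨hx2, hxd⟩ := key1 x hx hxf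
        obtain ⟨hy2, hyd⟩ := key1 y hy hyf
        obtain ⟨_, _, h3, h4, h5⟩ := key2 x hx2 y hy2
        rw [fD_of x hxd hxf, fD_of y hyd hyf, ← h2_2 x hx2 y hy2, h5]
        exact pair_F _ _ h3 h4
  · intro u hu
    have hl := kept1_letters u hu
    rw [lift_relabel RF m fD u (fun l hl' => fD_of l.1 (hl l hl').1 (hl l hl').2)]
    rw [kept1_eq u hu]
    have := spider_mw
    unfold mw at this
    rw [this]
    exact Cfsg.Agent.Lib.Helper28_Y5FiW.one_spider
  · intro x hx
    unfold fD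
    rw [if_pos hx]

theorem sD_rels : ∀ r ∈ R1, FreeGroup.lift sD r = 1 := by
  apply rels_of_parts
  · intro x hx y hy
    have h1 := (h1_1 x hx).2
    have h2 := (h1_1 y hy).2
    unfold sD
    rw [if_neg h1, if_neg h2]
    simp
  · intro u hu
    have hl := kept1_letters u hu
    rw [lift_sign sD u (fun l hl' => by unfold sD; rw [if_neg (hl l hl').1])]
    rw [kept1_eq u hu]
    decide
  · intro x hx
    unfold sD
    rw [if_pos hx]

/-- `ρ : D → Fi₂₃ × {±1}` -/
noncomputable def rho : PresentedGroup R1 →* PresentedGroup RF × ℤˣ :=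
  (PresentedGroup.toGroup fD_rels).prod (PresentedGroup.toGroup sD_rels)

theorem rho_of (x : BG) : rho (PresentedGroup.of x) = (fD x, sD x) := by
  unfold rho
  rw [MonoidHom.prod_apply, PresentedGroup.toGroup.of, PresentedGroup.toGroup.of]

/-- the comparison map `X → D` -/
noncomputable def i21 : PresentedGroup R2 →* PresentedGroup R1 :=
  subHom edges1 edges2 extra1 kept2 dropped2 h1_2 h2_2 h3_2

theorem i21_of (x : BG) (hx : x ∉ dropped2) :
    i21 (PresentedGroup.of x) = PresentedGroup.of x :=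
  subHom_of edges1 edges2 extra1 kept2 dropped2 h1_2 h2_2 h3_2 x hx

theorem i21_word (u : List (BG × Bool)) (hu : ∀ l ∈ u, l.1 ∉ dropped2) :
    i21 (PresentedGroup.mk R2 (FreeGroup.mk u)) = PresentedGroup.mk R1 (FreeGroup.mk u) :=
  lift_subMap_mk (coxRelators edges1 ∪ {r | r ∈ extra1}) dropped2 u hu

theorem i21_surjective : Function.Surjective i21 := by
  have h := Cfsg.Agent.Lib.Helper28_Y5c1.U.upper
  have h1 := Subgroup.index_eq_one.mp (le_antisymm h.2 (Nat.one_le_iff_ne_zero.mpr h.1))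
  rw [← MonoidHom.range_eq_top, eq_top_iff, ← h1, Subgroup.map_le_iff_le_comap, Subgroup.closure_le]
  intro s hs
  simp only [Set.mem_insert_iff, Set.mem_singleton_iff] at hs
  rcases hs with rfl | rfl | rfl | rfl | rfl | rfl | rfl | rfl | rfl | rfl
  · exact ⟨PresentedGroup.of .a, i21_of .a (by decide)⟩
  · exact ⟨PresentedGroup.of .b1, i21_of .b1 (by decide)⟩
  · exact ⟨PresentedGroup.of .c1, i21_of .c1 (by decide)⟩
  · exact ⟨PresentedGroup.of .d1, i21_of .d1 (by decide)⟩
  · exact ⟨PresentedGroup.of .e1, i21_of .e1 (by decide)⟩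
  · exact ⟨PresentedGroup.of .b2, i21_of .b2 (by decide)⟩
  · exact ⟨PresentedGroup.of .c2, i21_of .c2 (by decide)⟩
  · exact ⟨PresentedGroup.of .d2, i21_of .d2 (by decide)⟩
  · exact ⟨PresentedGroup.of .b3, i21_of .b3 (by decide)⟩
  · exact ⟨PresentedGroup.of .c3, i21_of .c3 (by decide)⟩

theorem drop21 : ∀ x : BG, x ∉ dropped2 → x ∉ dropped1 ∧ x ≠ .f1 := by
  intro x; cases x <;> decide

theorem rho_i21 : rho.comp i21 = Phi2 := by
  apply PresentedGroup.ext
  intro x
  rw [MonoidHom.comp_apply]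
  by_cases hx : x ∈ dropped2
  · have : i21 (PresentedGroup.of x) = 1 :=
      (PresentedGroup.toGroup.of (subMap_rels edges1 edges2 extra1 kept2 dropped2 h1_2 h2_2 h3_2)
        (x := x)).trans (if_pos hx)
    rw [this, map_one, of_dropped2 x hx, map_one]
  · obtain ⟨h1, h2⟩ := drop21 x hx
    rw [i21_of x hx, rho_of, fD_of x h1 h2]
    unfold sD Phi2
    rw [if_neg h1, MonoidHom.prod_apply, pi2_of x hx, sg2_of x hx]

theorem Phi2_z1 : Phi2 (PresentedGroup.mk R2 (FreeGroup.mk z1W)) = (ZF, -1) := by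
  unfold Phi2
  rw [MonoidHom.prod_apply, pi2_word z1W z1W_drop, sg2_word z1W z1W_drop]
  rfl

/-- the relation `f₁ = z₁` in `D` -/
theorem f1_eq_z1 : (PresentedGroup.of .f1 : PresentedGroup R1) =
    PresentedGroup.mk R1 (FreeGroup.mk z1W) := by
  obtain ⟨x, hx⟩ := i21_surjective (PresentedGroup.of .f1)
  have h1 : Phi2 x = (ZF, -1) := by
    rw [← rho_i21, MonoidHom.comp_apply, hx, rho_of, fD_f1]
    rfl
  have h3 : x = PresentedGroup.mk R2 (FreeGroup.mk z1W) :=
    Phi2_injective (h1.trans Phi2_z1.symm)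
  rw [← hx, h3, i21_word z1W z1W_drop]

theorem z1_eq_z2 : PresentedGroup.mk R2 (FreeGroup.mk z1W) = PresentedGroup.mk R2 (FreeGroup.mk z2W) := by
  apply Phi2_injective
  unfold Phi2
  rw [MonoidHom.prod_apply, MonoidHom.prod_apply, pi2_word z1W z1W_drop, sg2_word z1W z1W_drop,
    pi2_word z2W z2W_drop, sg2_word z2W z2W_drop]
  have e : (FreeGroup.mk Cfsg.Agent.Lib.Helper28_Y5FiW.u_z12 : FreeGroup FG) =
      FreeGroup.mk (mw z1W) * (FreeGroup.mk (mw z2W))⁻¹ := by decide +kernel
  have h := (congrArg (PresentedGroup.mk RF) e).symm.trans Cfsg.Agent.Lib.Helper28_Y5FiW.one_z12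
  rw [map_mul, map_inv, mul_inv_eq_one] at h
  rw [h]
  rfl

/-- the relation `f₁ = z₂` in `D` -/
theorem f1_eq_z2 : (PresentedGroup.of .f1 : PresentedGroup R1) =
    PresentedGroup.mk R1 (FreeGroup.mk z2W) := by
  rw [f1_eq_z1, ← i21_word z1W z1W_drop, z1_eq_z2, i21_word z2W z2W_drop]

end Cfsg.Agent.Lib.Helper28_Y5Main
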