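import Cfsg.Agent.Lib.Helper28_Y5c3UDef

set_option autoImplicit false
set_option linter.constructorNameAsVariable false
set_option linter.unusedVariables false
set_option Elab.async false

namespace Cfsg.Agent.Lib.Helper28_Y5c3.U

open Cfsg.Agent.Lib.Helper28_CosetPerm

theorem f1r0 : allRange blockOk 1 377 116 = true := by decide +kernel
theorem f1u0 : ∀ k, 377 ≤ k → k < 493 → blockOk (k * 1) = true := between_extend blockOk 1 377 377 116 (between_start blockOk 1 377) f1r0

theorem f1r1 : allRange blockOk 1 493 117 = true := by decide +kernel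
theorem f1u1 : ∀ k, 377 ≤ k → k < 610 → blockOk (k * 1) = true := between_extend blockOk 1 377 493 117 (f1u0) f1r1

theorem f1r2 : allRange blockOk 1 610 119 = true := by decide +kernel
theorem f1u2 : ∀ k, 377 ≤ k → k < 729 → blockOk (k * 1) = true := between_extend blockOk 1 377 610 119 (f1u1) f1r2

theorem f1r3 : allRange blockOk 1 729 42 = true := by decide +kernel
theorem f1u3 : ∀ k, 377 ≤ k → k < 771 → blockOk (k * 1) = true := between_extend blockOk 1 377 729 42 (f1u2) f1r3

theorem f1 : ∀ k, 377 ≤ k → k < 771 → blockOk (k * 1) = true := f1u3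

end Cfsg.Agent.Lib.Helper28_Y5c3.U
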