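import Cfsg.Agent.Lib.Helper28_Y5c3UDef

set_option autoImplicit false
set_option linter.constructorNameAsVariable false
set_option linter.unusedVariables false
set_option Elab.async false

namespace Cfsg.Agent.Lib.Helper28_Y5c3.U

open Cfsg.Agent.Lib.Helper28_CosetPerm

theorem f2r0 : allRange blockOk 1 771 63 = true := by decide +kernel
theorem f2u0 : ∀ k, 771 ≤ k → k < 834 → blockOk (k * 1) = true := between_extend blockOk 1 771 771 63 (between_start blockOk 1 771) f2r0

theorem f2r1 : allRange blockOk 1 834 81 = true := by decide +kernel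
theorem f2u1 : ∀ k, 771 ≤ k → k < 915 → blockOk (k * 1) = true := between_extend blockOk 1 771 834 81 (f2u0) f2r1

theorem f2r2 : allRange blockOk 1 915 126 = true := by decide +kernel
theorem f2u2 : ∀ k, 771 ≤ k → k < 1041 → blockOk (k * 1) = true := between_extend blockOk 1 771 915 126 (f2u1) f2r2

theorem f2r3 : allRange blockOk 1 1041 43 = true := by decide +kernel
theorem f2u3 : ∀ k, 771 ≤ k → k < 1084 → blockOk (k * 1) = true := between_extend blockOk 1 771 1041 43 (f2u2) f2r3

theorem f2 : ∀ k, 771 ≤ k → k < 1084 → blockOk (k * 1) = true := f2u3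

end Cfsg.Agent.Lib.Helper28_Y5c3.U
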