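import Cfsg.Agent.Lib.Helper28_Y5c3UDef

set_option autoImplicit false
set_option linter.constructorNameAsVariable false
set_option linter.unusedVariables false
set_option Elab.async false

namespace Cfsg.Agent.Lib.Helper28_Y5c3.U

open Cfsg.Agent.Lib.Helper28_CosetPerm

theorem f3r0 : allRange blockOk 1 1084 126 = true := by decide +kernel
theorem f3u0 : ∀ k, 1084 ≤ k → k < 1210 → blockOk (k * 1) = true := between_extend blockOk 1 1084 1084 126 (between_start blockOk 1 1084) f3r0

theorem f3r1 : allRange blockOk 1 1210 123 = true := by decide +kernel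
theorem f3u1 : ∀ k, 1084 ≤ k → k < 1333 → blockOk (k * 1) = true := between_extend blockOk 1 1084 1210 123 (f3u0) f3r1

theorem f3r2 : allRange blockOk 1 1333 123 = true := by decide +kernel
theorem f3u2 : ∀ k, 1084 ≤ k → k < 1456 → blockOk (k * 1) = true := between_extend blockOk 1 1084 1333 123 (f3u1) f3r2

theorem f3r3 : allRange blockOk 1 1456 44 = true := by decide +kernel
theorem f3u3 : ∀ k, 1084 ≤ k → k < 1500 → blockOk (k * 1) = true := between_extend blockOk 1 1084 1456 44 (f3u2) f3r3

theorem f3 : ∀ k, 1084 ≤ k → k < 1500 → blockOk (k * 1) = true := f3u3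

end Cfsg.Agent.Lib.Helper28_Y5c3.U
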