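import Cfsg.Agent.Lib.Helper28_Y5c3UDef

set_option autoImplicit false
set_option linter.constructorNameAsVariable false
set_option linter.unusedVariables false
set_option Elab.async false

namespace Cfsg.Agent.Lib.Helper28_Y5c3.U

open Cfsg.Agent.Lib.Helper28_CosetPerm

theorem r0r0 : allRange rowOk 1 0 2242 = true := by decide +kernel
theorem r0u0 : ∀ k, 0 ≤ k → k < 2242 → rowOk (k * 1) = true := between_extend rowOk 1 0 0 2242 (between_start rowOk 1 0) r0r0

theorem r0r1 : allRange rowOk 1 2242 2953 = true := by decide +kernel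
theorem r0u1 : ∀ k, 0 ≤ k → k < 5195 → rowOk (k * 1) = true := between_extend rowOk 1 0 2242 2953 (r0u0) r0r1

theorem r0r2 : allRange rowOk 1 5195 3480 = true := by decide +kernel
theorem r0u2 : ∀ k, 0 ≤ k → k < 8675 → rowOk (k * 1) = true := between_extend rowOk 1 0 5195 3480 (r0u1) r0r2

theorem r0r3 : allRange rowOk 1 8675 3292 = true := by decide +kernel
theorem r0u3 : ∀ k, 0 ≤ k → k < 11967 → rowOk (k * 1) = true := between_extend rowOk 1 0 8675 3292 (r0u2) r0r3

theorem r0r4 : allRange rowOk 1 11967 3540 = true := by decide +kernel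
theorem r0u4 : ∀ k, 0 ≤ k → k < 15507 → rowOk (k * 1) = true := between_extend rowOk 1 0 11967 3540 (r0u3) r0r4

theorem r0r5 : allRange rowOk 1 15507 3856 = true := by decide +kernel
theorem r0u5 : ∀ k, 0 ≤ k → k < 19363 → rowOk (k * 1) = true := between_extend rowOk 1 0 15507 3856 (r0u4) r0r5

theorem r0r6 : allRange rowOk 1 19363 3974 = true := by decide +kernel
theorem r0u6 : ∀ k, 0 ≤ k → k < 23337 → rowOk (k * 1) = true := between_extend rowOk 1 0 19363 3974 (r0u5) r0r6

theorem r0r7 : allRange rowOk 1 23337 3212 = true := by decide +kernel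
theorem r0u7 : ∀ k, 0 ≤ k → k < 26549 → rowOk (k * 1) = true := between_extend rowOk 1 0 23337 3212 (r0u6) r0r7

theorem r0 : ∀ k, 0 ≤ k → k < 26549 → rowOk (k * 1) = true := r0u7

end Cfsg.Agent.Lib.Helper28_Y5c3.U
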