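import Cfsg.Agent.Lib.Helper28_Y5c3UDef

set_option autoImplicit false
set_option linter.constructorNameAsVariable false
set_option linter.unusedVariables false
set_option Elab.async false

namespace Cfsg.Agent.Lib.Helper28_Y5c3.U

open Cfsg.Agent.Lib.Helper28_CosetPerm

theorem r1r0 : allRange rowOk 1 26549 3745 = true := by decide +kernel
theorem r1u0 : ∀ k, 26549 ≤ k → k < 30294 → rowOk (k * 1) = true := between_extend rowOk 1 26549 26549 3745 (between_start rowOk 1 26549) r1r0

theorem r1r1 : allRange rowOk 1 30294 2295 = true := by decide +kernel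
theorem r1u1 : ∀ k, 26549 ≤ k → k < 32589 → rowOk (k * 1) = true := between_extend rowOk 1 26549 30294 2295 (r1u0) r1r1

theorem r1r2 : allRange rowOk 1 32589 1848 = true := by decide +kernel
theorem r1u2 : ∀ k, 26549 ≤ k → k < 34437 → rowOk (k * 1) = true := between_extend rowOk 1 26549 32589 1848 (r1u1) r1r2

theorem r1r3 : allRange rowOk 1 34437 1848 = true := by decide +kernel
theorem r1u3 : ∀ k, 26549 ≤ k → k < 36285 → rowOk (k * 1) = true := between_extend rowOk 1 26549 34437 1848 (r1u2) r1r3

theorem r1r4 : allRange rowOk 1 36285 1848 = true := by decide +kernel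
theorem r1u4 : ∀ k, 26549 ≤ k → k < 38133 → rowOk (k * 1) = true := between_extend rowOk 1 26549 36285 1848 (r1u3) r1r4

theorem r1r5 : allRange rowOk 1 38133 1848 = true := by decide +kernel
theorem r1u5 : ∀ k, 26549 ≤ k → k < 39981 → rowOk (k * 1) = true := between_extend rowOk 1 26549 38133 1848 (r1u4) r1r5

theorem r1r6 : allRange rowOk 1 39981 1848 = true := by decide +kernel
theorem r1u6 : ∀ k, 26549 ≤ k → k < 41829 → rowOk (k * 1) = true := between_extend rowOk 1 26549 39981 1848 (r1u5) r1r6

theorem r1r7 : allRange rowOk 1 41829 1283 = true := by decide +kernel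
theorem r1u7 : ∀ k, 26549 ≤ k → k < 43112 → rowOk (k * 1) = true := between_extend rowOk 1 26549 41829 1283 (r1u6) r1r7

theorem r1 : ∀ k, 26549 ≤ k → k < 43112 → rowOk (k * 1) = true := r1u7

end Cfsg.Agent.Lib.Helper28_Y5c3.U
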