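import Mathlib
import Cfsg.Prelude.Def_OddOrderLocal

set_option autoImplicit false
open Cfsg

namespace Cfsg.Agent.Lib.Helper29_BG144a

open Subgroup

variable {G : Type*} [Group G]

theorem mem_map_conj_iff {M : Subgroup G} {g x : G} :
    x ∈ M.map (MulAut.conj g).toMonoidHom ↔ g⁻¹ * x * g ∈ M := by
  constructor
  · rintro ⟨m, hm, rfl⟩
    simp only [MulEquiv.coe_toMonoidHom, MulAut.conj_apply]
    have : g⁻¹ * (g * m * g⁻¹) * g = m := by group
    rw [this]; exact hm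
  · intro h
    refine ⟨g⁻¹ * x * g, h, ?_⟩
    simp only [MulEquiv.coe_toMonoidHom, MulAut.conj_apply]
    group

theorem map_conj_mul_of_mem {M : Subgroup G} (c m : G) (hm : m ∈ M) :
    M.map (MulAut.conj (c * m)).toMonoidHom = M.map (MulAut.conj c).toMonoidHom := by
  ext y
  rw [mem_map_conj_iff, mem_map_conj_iff]
  have e : (c * m)⁻¹ * y * (c * m) = m⁻¹ * (c⁻¹ * y * c) * m := by group
  rw [e]
  constructor
  · intro h
    have := M.mul_mem (M.mul_mem hm h) (M.inv_mem hm)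
    have e2 : m * (m⁻¹ * (c⁻¹ * y * c) * m) * m⁻¹ = c⁻¹ * y * c := by group
    rwa [e2] at this
  · intro h
    exact M.mul_mem (M.mul_mem (M.inv_mem hm) h) hm

/-- **Regular action from a complement** (core of B&G 14.4(a)). -/
theorem regular_of_compl (M Mstar Ns X : Subgroup G) (x : G)
    (hself : ∀ g : G, M.map (MulAut.conj g).toMonoidHom = M → g ∈ M)
    (hxM : x ∈ M) (hXx : X ≤ Subgroup.zpowers x)
    (hF : ∀ g : G, X.map (MulAut.conj g).toMonoidHom ≤ M →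
      ∃ m ∈ M, ∃ c ∈ centralizer (X : Set G), g = m * c)
    (hCX : centralizer (X : Set G) ≤ Mstar)
    (hNs : Mstar ≤ normalizer (Ns : Set G))
    (hcompl : IsComplIn (M ⊓ Mstar) Ns Mstar) :
    centralizer ({x} : Set G) ≤ normalizer ((Ns ⊓ centralizer ({x} : Set G) : Subgroup G) : Set G) ∧
    IsComplIn (M ⊓ centralizer ({x} : Set G)) (Ns ⊓ centralizer ({x} : Set G))
      (centralizer ({x} : Set G)) ∧
    ∀ g : G, x ∈ M.map (MulAut.conj g).toMonoidHom →
      ∃! r : G, r ∈ Ns ⊓ centralizer ({x} : Set G) ∧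
        M.map (MulAut.conj r).toMonoidHom = M.map (MulAut.conj g).toMonoidHom := by
  obtain ⟨-, hNsM, hdisj, hprod⟩ := hcompl
  have hXM : X ≤ M := fun u hu => by
    obtain ⟨i, rfl⟩ := Subgroup.mem_zpowers_iff.mp (hXx hu)
    exact M.zpow_mem hxM i
  -- C(x) ≤ C(X)
  have hCxCX : centralizer ({x} : Set G) ≤ centralizer (X : Set G) := by
    intro c hc
    rw [Subgroup.mem_centralizer_iff] at hc ⊢
    intro u hu
    obtain ⟨i, rfl⟩ := Subgroup.mem_zpowers_iff.mp (hXx hu)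
    have h1 : Commute x c := hc x rfl
    exact (h1.zpow_left i).eq
  have hCxMs : centralizer ({x} : Set G) ≤ Mstar := hCxCX.trans hCX
  have hxC : x ∈ centralizer ({x} : Set G) := by
    rw [Subgroup.mem_centralizer_iff]; rintro _ rfl; rfl
  have hxMs : x ∈ Mstar := hCxMs hxC
  have hcomm_iff : ∀ c : G, c ∈ centralizer ({x} : Set G) ↔ c * x * c⁻¹ = x := by
    intro c
    rw [Subgroup.mem_centralizer_iff]
    constructor
    · intro h
      have := h x rfl
      rw [← this]; group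
    · intro h y hy
      rw [Set.mem_singleton_iff] at hy
      rw [hy]
      calc x * c = (c * x * c⁻¹) * c := by rw [h]
        _ = c * x := by group
  -- key: n ∈ Ns with n x n⁻¹ ∈ M centralizes x
  have key : ∀ n ∈ Ns, n * x * n⁻¹ ∈ M → n ∈ centralizer ({x} : Set G) := by
    intro n hn hnx
    have hnMs : n ∈ Mstar := hNsM hn
    have h1 : n * x * n⁻¹ * x⁻¹ ∈ M ⊓ Mstar :=
      ⟨M.mul_mem hnx (M.inv_mem hxM),
        Mstar.mul_mem (Mstar.mul_mem (Mstar.mul_mem hnMs hxMs) (Mstar.inv_mem hnMs))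
          (Mstar.inv_mem hxMs)⟩
    have h2 : n * x * n⁻¹ * x⁻¹ ∈ Ns := by
      have h3 : x * n⁻¹ * x⁻¹ ∈ Ns :=
        (Subgroup.mem_normalizer_iff.mp (hNs hxMs) n⁻¹).mp (Ns.inv_mem hn)
      have e : n * x * n⁻¹ * x⁻¹ = n * (x * n⁻¹ * x⁻¹) := by group
      rw [e]; exact Ns.mul_mem hn h3
    have h4 : n * x * n⁻¹ * x⁻¹ ∈ (M ⊓ Mstar) ⊓ Ns := ⟨h1, h2⟩
    rw [hdisj, Subgroup.mem_bot] at h4
    rw [hcomm_iff]
    calc n * x * n⁻¹ = (n * x * n⁻¹ * x⁻¹) * x := by group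
      _ = x := by rw [h4, one_mul]
  refine ⟨?_, ?_, ?_⟩
  · -- normality of R in C(x)
    intro c hc
    rw [Subgroup.mem_normalizer_iff]
    intro r
    have hcMs := hCxMs hc
    have hcN := hNs hcMs
    constructor
    · rintro ⟨hr1, hr2⟩
      exact ⟨(Subgroup.mem_normalizer_iff.mp hcN r).mp hr1,
        Subgroup.mul_mem _ (Subgroup.mul_mem _ hc hr2) (Subgroup.inv_mem _ hc)⟩
    · rintro ⟨hr1, hr2⟩
      refine ⟨(Subgroup.mem_normalizer_iff.mp hcN r).mpr hr1, ?_⟩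
      have := Subgroup.mul_mem _ (Subgroup.mul_mem _ (Subgroup.inv_mem _ hc) hr2) hc
      have e : c⁻¹ * (c * r * c⁻¹) * c = r := by group
      rwa [e] at this
  · refine ⟨inf_le_right, inf_le_right, ?_, ?_⟩
    · rw [eq_bot_iff]
      rintro y ⟨⟨hy1, hy2⟩, hy3, -⟩
      rw [← hdisj]
      exact ⟨⟨hy1, hCxMs hy2⟩, hy3⟩
    · intro c hc
      obtain ⟨e, he, n, hn, rfl⟩ := hprod c (hCxMs hc)
      have hcx := (hcomm_iff _).mp hc
      have hnx : n * x * n⁻¹ ∈ M := by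
        have e1 : n * x * n⁻¹ = e⁻¹ * (e * n * x * (e * n)⁻¹) * e := by group
        rw [e1, hcx]
        exact M.mul_mem (M.mul_mem (M.inv_mem he.1) hxM) he.1
      have hnC := key n hn hnx
      have heC : e ∈ centralizer ({x} : Set G) := by
        have := Subgroup.mul_mem _ hc (Subgroup.inv_mem _ hnC)
        have e2 : e * n * n⁻¹ = e := by group
        rwa [e2] at this
      exact ⟨e, ⟨he.1, heC⟩, n, ⟨hn, hnC⟩, rfl⟩
  · intro g hg
    rw [mem_map_conj_iff] at hg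
    have hXg : X.map (MulAut.conj g⁻¹).toMonoidHom ≤ M := by
      rintro _ ⟨u, hu, rfl⟩
      simp only [MulEquiv.coe_toMonoidHom, MulAut.conj_apply, inv_inv]
      obtain ⟨i, rfl⟩ := Subgroup.mem_zpowers_iff.mp (hXx hu)
      have : g⁻¹ * x ^ i * g = (g⁻¹ * x * g) ^ i := by
        have := conj_zpow (a := g⁻¹) (b := x) (i := i)
        rw [inv_inv] at this
        exact this.symm
      rw [this]; exact M.zpow_mem hg i
    obtain ⟨m, hm, c, hc, hgmc⟩ := hF g⁻¹ hXg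
    have hgeq : g = c⁻¹ * m⁻¹ := by
      have : g = (g⁻¹)⁻¹ := by simp
      rw [this, hgmc]; group
    obtain ⟨e, he, n, hn, hcen⟩ := hprod c (hCX hc)
    have hMg : M.map (MulAut.conj g).toMonoidHom = M.map (MulAut.conj n⁻¹).toMonoidHom := by
      rw [hgeq, map_conj_mul_of_mem _ _ (M.inv_mem hm)]
      have : c⁻¹ = n⁻¹ * e⁻¹ := by rw [hcen]; group
      rw [this, map_conj_mul_of_mem _ _ (M.inv_mem he.1)]
    have hnx : n * x * n⁻¹ ∈ M := by
      have h1 : x ∈ M.map (MulAut.conj n⁻¹).toMonoidHom := by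
        rw [← hMg, mem_map_conj_iff]; exact hg
      rw [mem_map_conj_iff] at h1
      simpa using h1
    have hnC := key n hn hnx
    refine ⟨n⁻¹, ⟨⟨Ns.inv_mem hn, Subgroup.inv_mem _ hnC⟩, hMg.symm⟩, ?_⟩
    rintro r ⟨⟨hr1, hr2⟩, hr3⟩
    -- r⁻¹ n⁻¹ ... normalizes M
    have h5 : M.map (MulAut.conj (n * r)).toMonoidHom = M := by
      have h6 : M.map (MulAut.conj r).toMonoidHom = M.map (MulAut.conj n⁻¹).toMonoidHom := by
        rw [hr3, hMg]
      ext y
      rw [mem_map_conj_iff]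
      have h7 : ∀ z, z ∈ M.map (MulAut.conj r).toMonoidHom ↔ z ∈ M.map (MulAut.conj n⁻¹).toMonoidHom := by
        intro z; rw [h6]
      have h8 := h7 (n⁻¹ * y * n)
      rw [mem_map_conj_iff, mem_map_conj_iff] at h8
      have e1 : (n * r)⁻¹ * y * (n * r) = r⁻¹ * (n⁻¹ * y * n) * r := by group
      have e2 : n⁻¹⁻¹ * (n⁻¹ * y * n) * n⁻¹ = y := by group
      rw [e1, h8, e2]
    have h9 : n * r ∈ M := hself _ h5
    have h10 : n * r ∈ (M ⊓ Mstar) ⊓ Ns :=
      ⟨⟨h9, Mstar.mul_mem (hNsM hn) (hNsM hr1)⟩, Ns.mul_mem hn hr1⟩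
    rw [hdisj, Subgroup.mem_bot] at h10
    exact eq_inv_of_mul_eq_one_right h10

end Cfsg.Agent.Lib.Helper29_BG144a
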