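import Mathlib
import Cfsg.Prelude.Def_Local
import Cfsg.Prelude.Def_OddOrderLocal
import Cfsg.Agent.Lib.Helper24_CoprimeHall
import Cfsg.Agent.Lib.Helper29_BG12a
import Cfsg.Agent.Lib.Helper70_BG107

set_option autoImplicit false
open Cfsg

namespace Cfsg.Agent.Lib.Helper29_HallFusion

open Subgroup

variable {G : Type*} [Group G]

/-- in a finite nilpotent group the `q`-elements lie in any Sylow `q`-subgroup -/
theorem mem_sylow_of_nilpotent {K : Type*} [Group K] [Finite K] [Group.IsNilpotent K] {q : ℕ}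
    [Fact q.Prime] (S : Sylow q K) {a : K} {k : ℕ} (ha : a ^ q ^ k = 1) : a ∈ S := by
  have hz : IsPGroup q (Subgroup.zpowers a) := by
    rintro ⟨y, hy⟩
    obtain ⟨i, rfl⟩ := Subgroup.mem_zpowers_iff.mp hy
    refine ⟨k, ?_⟩
    apply Subtype.ext
    change (a ^ i) ^ q ^ k = 1
    rw [← zpow_natCast, ← zpow_mul, mul_comm, zpow_mul, zpow_natCast, ha, one_zpow]
  obtain ⟨S', hS'⟩ := hz.exists_le_sylow
  obtain ⟨g, hg⟩ := MulAction.exists_smul_eq K S S'
  have : S' = S := by rw [← hg, Sylow.smul_eq_of_normal]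
  rw [← this]
  exact hS' (Subgroup.mem_zpowers a)

/-- Sylow `q`-subgroup and Hall `q'`-subgroup of a nilpotent subgroup, with elementwise
characterisations. -/
theorem exists_sylow_compl [Finite G] (K : Subgroup G) (hK : Group.IsNilpotent K) (q : ℕ)
    [hq : Fact q.Prime] :
    ∃ Q R : Subgroup G, (∀ a, a ∈ Q ↔ a ∈ K ∧ ∃ k : ℕ, a ^ q ^ k = 1) ∧
      (∀ a, a ∈ R ↔ a ∈ K ∧ (orderOf a).Coprime q) ∧ IsPGroup q Q ∧ (Nat.card R).Coprime q ∧
      Nat.card Q * Nat.card R = Nat.card K ∧ (∀ a ∈ Q, ∀ b ∈ R, a * b = b * a) := by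
  have := hK
  let S : Sylow q K := default
  have hSn : (S : Subgroup K).Normal := inferInstance
  obtain ⟨R', hR'⟩ := Subgroup.exists_right_complement'_of_coprime S.card_coprime_index
  have hcardmul : Nat.card (S : Subgroup K) * Nat.card R' = Nat.card K := hR'.card_mul_card
  have hidx : R'.index = Nat.card (S : Subgroup K) := hR'.index_eq_card
  have hidx' : (S : Subgroup K).index = Nat.card R' := hR'.symm.index_eq_card
  have hRcop : (Nat.card R').Coprime R'.index := by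
    rw [hidx, ← hidx']; exact S.card_coprime_index.symm
  have hRn : R'.Normal := Cfsg.Agent.Lib.Helper29_BG12a.normal_of_hall_of_isNilpotent R' hRcop
  obtain ⟨n, hn⟩ := IsPGroup.iff_card.mp S.isPGroup'
  have hRq : (Nat.card R').Coprime q := by
    rw [← hidx']
    exact ((Nat.Prime.coprime_iff_not_dvd hq.out).mpr S.not_dvd_index).symm
  refine ⟨(S : Subgroup K).map K.subtype, R'.map K.subtype, ?_, ?_, ?_, ?_, ?_, ?_⟩
  · intro a
    constructor
    · rintro ⟨s, hs, rfl⟩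
      refine ⟨s.2, ?_⟩
      obtain ⟨k, hk⟩ := S.isPGroup' ⟨s, hs⟩
      refine ⟨k, ?_⟩
      have := congrArg Subtype.val (congrArg Subtype.val hk)
      simpa using this
    · rintro ⟨haK, k, hk⟩
      refine ⟨⟨a, haK⟩, ?_, rfl⟩
      apply mem_sylow_of_nilpotent S (k := k)
      apply Subtype.ext
      simpa using hk
  · intro a
    constructor
    · rintro ⟨b, hb, rfl⟩
      refine ⟨b.2, ?_⟩
      have h1 : orderOf (K.subtype b) = orderOf b := orderOf_injective K.subtype K.subtype_injective b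
      rw [h1]
      have h2 : orderOf (⟨b, hb⟩ : R') ∣ Nat.card R' := orderOf_dvd_natCard _
      have h3 : orderOf (⟨b, hb⟩ : R') = orderOf b := Subgroup.orderOf_mk b hb
      rw [h3] at h2
      exact Nat.Coprime.coprime_dvd_left h2 hRq
    · rintro ⟨haK, hcop⟩
      refine ⟨⟨a, haK⟩, ?_, rfl⟩
      set b : K := ⟨a, haK⟩ with hb
      have hob : orderOf b = orderOf a := Subgroup.orderOf_mk a haK
      have h1 : orderOf (QuotientGroup.mk' R' b) ∣ orderOf b := orderOf_map_dvd _ b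
      have h2 : orderOf (QuotientGroup.mk' R' b) ∣ Nat.card (K ⧸ R') := orderOf_dvd_natCard _
      have h3 : Nat.card (K ⧸ R') = q ^ n := by
        rw [← Subgroup.index_eq_card, hidx, hn]
      rw [h3] at h2
      rw [hob] at h1
      have h4 : orderOf (QuotientGroup.mk' R' b) ∣ Nat.gcd (orderOf a) (q ^ n) := Nat.dvd_gcd h1 h2
      rw [Nat.Coprime.pow_right n hcop] at h4
      have h5 : QuotientGroup.mk' R' b = 1 := orderOf_eq_one_iff.mp (Nat.dvd_one.mp h4)
      exact (QuotientGroup.eq_one_iff b).mp h5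
  · exact S.isPGroup'.map _
  · rw [Subgroup.card_map_of_injective K.subtype_injective]; exact hRq
  · rw [Subgroup.card_map_of_injective K.subtype_injective,
      Subgroup.card_map_of_injective K.subtype_injective]; exact hcardmul
  · rintro _ ⟨s, hs, rfl⟩ _ ⟨b, hb, rfl⟩
    have hdis : Disjoint (S : Subgroup K) R' := hR'.disjoint
    have := Subgroup.commute_of_normal_of_disjoint _ _ hSn hRn hdis s b hs hb
    have := congrArg Subtype.val this.eq
    simpa using this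

/-- forward conjugation-invariance gives normalizer membership in a finite group -/
theorem mem_normalizer_of_conj_mem [Finite G] (X : Subgroup G) (m : G)
    (h : ∀ a ∈ X, m * a * m⁻¹ ∈ X) : m ∈ normalizer (X : Set G) := by
  have hle : X.map (MulAut.conj m).toMonoidHom ≤ X := by
    rintro _ ⟨a, ha, rfl⟩
    simpa using h a ha
  have hcard : Nat.card X ≤ Nat.card (X.map (MulAut.conj m).toMonoidHom) := by
    rw [Subgroup.card_map_of_injective (MulAut.conj m).injective]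
  have heq : X.map (MulAut.conj m).toMonoidHom = X := Subgroup.eq_of_le_of_card_ge hle hcard
  exact Subgroup.mem_normalizer_iff_map_conj_eq.mpr heq

theorem conj_mem_of_mem_normalizer {X : Subgroup G} {m : G} (hm : m ∈ normalizer (X : Set G))
    {a : G} (ha : a ∈ X) : m * a * m⁻¹ ∈ X :=
  (Subgroup.mem_normalizer_iff.mp hm a).mp ha

theorem conj_inv_mem_of_mem_normalizer {X : Subgroup G} {m : G} (hm : m ∈ normalizer (X : Set G))
    {a : G} (ha : a ∈ X) : m⁻¹ * a * m ∈ X := by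
  have := conj_mem_of_mem_normalizer (Subgroup.inv_mem _ hm) ha
  simpa using this

theorem conj_mem_centralizer {X : Subgroup G} {m c : G} (hm : m ∈ normalizer (X : Set G))
    (hc : c ∈ centralizer (X : Set G)) : m * c * m⁻¹ ∈ centralizer (X : Set G) := by
  rw [Subgroup.mem_centralizer_iff]
  intro a ha
  have ha' : m⁻¹ * a * m ∈ X := conj_inv_mem_of_mem_normalizer hm ha
  have h1 := Subgroup.mem_centralizer_iff.mp hc _ ha'
  calc a * (m * c * m⁻¹) = m * ((m⁻¹ * a * m) * c) * m⁻¹ := by group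
    _ = m * (c * (m⁻¹ * a * m)) * m⁻¹ := by rw [h1]
    _ = m * c * m⁻¹ * a := by group

/-- the `q`-part and `q'`-part of an element of finite order as (integer) powers -/
theorem exists_parts (q : ℕ) (hq : q.Prime) (y : G) (hy : IsOfFinOrder y) :
    ∃ i j : ℤ, y = y ^ i * y ^ j ∧ (∃ k : ℕ, (y ^ i) ^ q ^ k = 1) ∧ (orderOf (y ^ j)).Coprime q := by
  have hn : orderOf y ≠ 0 := hy.orderOf_pos.ne'
  obtain ⟨e, r, hr, hnr⟩ := Nat.exists_eq_pow_mul_and_not_dvd hn q hq.ne_one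
  have hcop : Nat.Coprime (q ^ e) r :=
    Nat.Coprime.pow_left e ((Nat.Prime.coprime_iff_not_dvd hq).mpr hr)
  have hbez := Nat.gcd_eq_gcd_ab (q ^ e) r
  rw [hcop.gcd_eq_one] at hbez
  set A := Nat.gcdA (q ^ e) r
  set B := Nat.gcdB (q ^ e) r
  refine ⟨(r : ℤ) * B, ((q ^ e : ℕ) : ℤ) * A, ?_, ⟨e, ?_⟩, ?_⟩
  · rw [← zpow_add]
    have : (r : ℤ) * B + ((q ^ e : ℕ) : ℤ) * A = 1 := by rw [add_comm]; exact_mod_cast hbez.symm
    rw [this, zpow_one]
  · rw [← zpow_natCast, ← zpow_mul]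
    have : (r : ℤ) * B * ((q ^ e : ℕ) : ℤ) = ((orderOf y : ℕ) : ℤ) * B := by
      rw [hnr]; push_cast; ring
    rw [this, zpow_mul, zpow_natCast, pow_orderOf_eq_one, one_zpow]
  · have h1 : (y ^ (((q ^ e : ℕ) : ℤ) * A)) ^ r = 1 := by
      rw [← zpow_natCast, ← zpow_mul]
      have : ((q ^ e : ℕ) : ℤ) * A * (r : ℤ) = ((orderOf y : ℕ) : ℤ) * A := by
        rw [hnr]; push_cast; ring
      rw [this, zpow_mul, zpow_natCast, pow_orderOf_eq_one, one_zpow]
    have h2 : orderOf (y ^ (((q ^ e : ℕ) : ℤ) * A)) ∣ r := orderOf_dvd_of_pow_eq_one h1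
    exact Nat.Coprime.coprime_dvd_left h2 ((Nat.Prime.coprime_iff_not_dvd hq).mpr hr).symm

theorem relIndex_mul_card_eq [Finite G] {A B : Subgroup G} (h : A ≤ B) :
    A.relIndex B * Nat.card A = Nat.card B := by
  rw [Subgroup.relIndex, ← Cfsg.Agent.Lib.Helper24_CoprimeAction.card_subgroupOf_of_le h,
    Subgroup.index_mul_card]

/-- a Hall subgroup of a Hall subgroup is Hall in any intermediate subgroup -/
theorem hall_sub [Finite G] {K Y R M : Subgroup G} (hRK : R ≤ K) (hKY : K ≤ Y) (hRM : R ≤ M)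
    (hMY : M ≤ Y) (hcopK : (Nat.card R).Coprime (R.relIndex K))
    (hHall : (Nat.card K).Coprime (K.relIndex Y)) : (Nat.card R).Coprime (R.relIndex M) := by
  have h1 : R.relIndex M ∣ R.relIndex Y := Dvd.intro _ (Subgroup.relIndex_mul_relIndex R M Y hRM hMY)
  have h2 : R.relIndex Y = R.relIndex K * K.relIndex Y :=
    (Subgroup.relIndex_mul_relIndex R K Y hRK hKY).symm
  have h3 : (Nat.card R).Coprime (K.relIndex Y) :=
    Nat.Coprime.coprime_dvd_left (Subgroup.card_dvd_of_le hRK) hHall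
  apply Nat.Coprime.coprime_dvd_right h1
  rw [h2]
  exact Nat.Coprime.mul_right hcopK h3

/-- Sylow's conjugacy theorem inside a subgroup `D`, for subgroups of `G` -/
theorem sylow_conj_in [Finite G] (D Q₁ Q₂ : Subgroup G) (q : ℕ) [hq : Fact q.Prime] (h₁ : Q₁ ≤ D)
    (h₂ : Q₂ ≤ D) (hp₁ : IsPGroup q Q₁) (hi₁ : ¬ q ∣ Q₁.relIndex D)
    (hc : Nat.card Q₂ = Nat.card Q₁) : ∃ e ∈ D, Q₁.map (MulAut.conj e).toMonoidHom = Q₂ := by
  have hp₂ : IsPGroup q Q₂ := by
    obtain ⟨n, hn⟩ := IsPGroup.iff_card.mp hp₁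
    exact IsPGroup.of_card (hc.trans hn)
  have hi₂ : ¬ q ∣ Q₂.relIndex D := by
    have e1 := relIndex_mul_card_eq h₁
    have e2 := relIndex_mul_card_eq h₂
    rw [hc, ← e1] at e2
    have : Q₂.relIndex D = Q₁.relIndex D := Nat.eq_of_mul_eq_mul_right Nat.card_pos e2
    rw [this]; exact hi₁
  let S₁ : Sylow q D := (hp₁.comap_subtype (K := D)).toSylow hi₁
  let S₂ : Sylow q D := (hp₂.comap_subtype (K := D)).toSylow hi₂
  obtain ⟨e, he⟩ := MulAction.exists_smul_eq D S₁ S₂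
  refine ⟨e, e.2, ?_⟩
  apply Cfsg.Agent.S0001.conj_of_subgroupOf D Q₁ Q₂ h₁ h₂ e
  have := congrArg (fun S : Sylow q D => (S : Subgroup D)) he
  exact this

/-- Sylow normalizers control fusion of elements, inside the subgroup `Y`. -/
def FC (Y : Subgroup G) : Prop :=
  ∀ (q : ℕ), q.Prime → ∀ Q : Subgroup G, Q ≤ Y → IsPGroup q Q → ¬ q ∣ Q.relIndex Y →
    ∀ v ∈ Q, ∀ g ∈ Y, g * v * g⁻¹ ∈ Q →
      ∃ m ∈ Y, m ∈ normalizer (Q : Set G) ∧ m * v * m⁻¹ = g * v * g⁻¹

theorem isNilpotent_of_le {R K : Subgroup G} (hRK : R ≤ K) (hK : Group.IsNilpotent K) :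
    Group.IsNilpotent R := by
  have := hK
  have h1 : Group.IsNilpotent (R.subgroupOf K) := inferInstance
  exact Group.nilpotent_of_mulEquiv (Subgroup.subgroupOfEquivOfLe hRK)

theorem fusion_aux [Finite G] (hFC : ∀ Y : Subgroup G, FC Y)
    (hsol : ∀ Q : Subgroup G, Q ≠ ⊥ → ∀ M : Subgroup G, M ≤ centralizer (Q : Set G) →
      Group.IsSolvable M) :
    ∀ n : ℕ, ∀ Y K : Subgroup G, Nat.card K ≤ n → K ≤ Y → Group.IsNilpotent K →
      (Nat.card K).Coprime (K.relIndex Y) → ∀ y ∈ K, ∀ g ∈ Y, g * y * g⁻¹ ∈ K →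
      ∃ m ∈ Y, m ∈ normalizer (K : Set G) ∧ m * y * m⁻¹ = g * y * g⁻¹ := by
  intro n
  induction n with
  | zero =>
    intro Y K hn
    have := Nat.card_pos (α := K)
    omega
  | succ n ih =>
    intro Y K hn hKY hKnil hHall y hy g hg hgy
    by_cases hK1 : K = ⊥
    · subst hK1
      rw [Subgroup.mem_bot] at hy
      subst hy
      exact ⟨1, one_mem _, one_mem _, by simp⟩
    have hcard1 : Nat.card K ≠ 1 := fun h => hK1 (Subgroup.card_eq_one.mp h)
    obtain ⟨q, hq, hqK⟩ := Nat.exists_prime_and_dvd hcard1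
    have : Fact q.Prime := ⟨hq⟩
    obtain ⟨Q, R, hQ, hR, hQp, hRq, hQR, hcomm⟩ := exists_sylow_compl K hKnil q
    have hQK : Q ≤ K := fun a ha => ((hQ a).mp ha).1
    have hRK : R ≤ K := fun a ha => ((hR a).mp ha).1
    have hQY : Q ≤ Y := hQK.trans hKY
    have hRY : R ≤ Y := hRK.trans hKY
    have hqQ : q ∣ Nat.card Q := by
      have h1 : q ∣ Nat.card Q * Nat.card R := hQR ▸ hqK
      exact (Nat.Coprime.dvd_mul_right hRq.symm).mp h1
    have hQ2 : 2 ≤ Nat.card Q := le_trans hq.two_le (Nat.le_of_dvd Nat.card_pos hqQ)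
    have hQ1 : Q ≠ ⊥ := by
      rintro rfl
      rw [Subgroup.card_bot] at hQ2
      omega
    have hRn : Nat.card R ≤ n := by
      have h1 := Nat.card_pos (α := R)
      have h2 : 2 * Nat.card R ≤ Nat.card Q * Nat.card R := Nat.mul_le_mul_right _ hQ2
      omega
    obtain ⟨a, hQa⟩ := IsPGroup.iff_card.mp hQp
    have hQRcop : (Nat.card Q).Coprime (Nat.card R) := by
      rw [hQa]; exact Nat.Coprime.pow_left a hRq.symm
    have hQrelK : Q.relIndex K = Nat.card R := by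
      have e1 := relIndex_mul_card_eq hQK
      rw [← hQR, mul_comm (Nat.card Q)] at e1
      exact Nat.eq_of_mul_eq_mul_right Nat.card_pos e1
    have hRrelK : R.relIndex K = Nat.card Q := by
      have e1 := relIndex_mul_card_eq hRK
      rw [← hQR] at e1
      exact Nat.eq_of_mul_eq_mul_right Nat.card_pos e1
    have hQcopK : (Nat.card Q).Coprime (Q.relIndex K) := by rw [hQrelK]; exact hQRcop
    have hRcopK : (Nat.card R).Coprime (R.relIndex K) := by rw [hRrelK]; exact hQRcop.symm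
    have hsyl : ∀ D : Subgroup G, Q ≤ D → D ≤ Y → ¬ q ∣ Q.relIndex D := by
      intro D hQD hDY hdvd
      have h1 := hall_sub hQK hKY hQD hDY hQcopK hHall
      have h2 : q ∣ Nat.gcd (Nat.card Q) (Q.relIndex D) := Nat.dvd_gcd hqQ hdvd
      rw [h1] at h2
      exact hq.one_lt.ne' (Nat.dvd_one.mp h2)
    -- the parts of y
    obtain ⟨i, j, hyij, ⟨k, hvk⟩, hwcop⟩ := exists_parts q hq y (isOfFinOrder_of_finite y)
    set v := y ^ i with hv
    set w := y ^ j with hw
    have hvK : v ∈ K := K.zpow_mem hy i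
    have hwK : w ∈ K := K.zpow_mem hy j
    have hvQ : v ∈ Q := (hQ v).mpr ⟨hvK, k, hvk⟩
    have hwR : w ∈ R := (hR w).mpr ⟨hwK, hwcop⟩
    have hgv : g * v * g⁻¹ ∈ Q := by
      rw [hQ]
      refine ⟨?_, k, ?_⟩
      · rw [hv, ← conj_zpow]; exact K.zpow_mem hgy i
      · rw [conj_pow, hvk]; simp
    have hgw : g * w * g⁻¹ ∈ R := by
      rw [hR]
      refine ⟨?_, ?_⟩
      · rw [hw, ← conj_zpow]; exact K.zpow_mem hgy j
      · have : orderOf (g * w * g⁻¹) = orderOf w := (MulAut.conj g).orderOf_eq w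
        rw [this]; exact hwcop
    -- K is normalized by whatever normalizes Q and R
    have hK_of : ∀ m : G, (∀ a ∈ Q, m * a * m⁻¹ ∈ Q) → (∀ b ∈ R, m * b * m⁻¹ ∈ R) →
        m ∈ normalizer (K : Set G) := by
      intro m hmQ hmR
      apply mem_normalizer_of_conj_mem
      intro z hz
      obtain ⟨i', j', hz', ⟨k', hk'⟩, hcop'⟩ := exists_parts q hq z (isOfFinOrder_of_finite z)
      have h1 : z ^ i' ∈ Q := (hQ _).mpr ⟨K.zpow_mem hz i', k', hk'⟩
      have h2 : z ^ j' ∈ R := (hR _).mpr ⟨K.zpow_mem hz j', hcop'⟩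
      have h3 : m * z * m⁻¹ = (m * z ^ i' * m⁻¹) * (m * z ^ j' * m⁻¹) := by
        conv_lhs => rw [hz']
        group
      rw [h3]
      exact K.mul_mem (hQK (hmQ _ h1)) (hRK (hmR _ h2))
    -- Step 1
    obtain ⟨n₁, hn₁Y, hn₁Q, hn₁v⟩ := hFC Y q hq Q hQY hQp (hsyl Y hQY le_rfl) v hvQ g hg hgv
    -- Step 2
    set M := Y ⊓ centralizer (Q : Set G) with hM
    have hMsol : Group.IsSolvable M := hsol Q hQ1 M inf_le_right
    have hRcQ : R ≤ centralizer (Q : Set G) := by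
      intro b hb
      rw [Subgroup.mem_centralizer_iff]
      intro a ha
      exact hcomm a ha b hb
    have hQcR : Q ≤ centralizer (R : Set G) := by
      intro a ha
      rw [Subgroup.mem_centralizer_iff]
      intro b hb
      exact (hcomm a ha b hb).symm
    have hRM : R ≤ M := le_inf hRY hRcQ
    set π : Set ℕ := {p | p ∣ Nat.card R} with hπ
    have hRhall : Cfsg.Agent.Lib.Helper24_CoprimeHall.PiHall π R M := by
      refine ⟨hRM, fun p _ hp => hp, fun p hp hpπ hdvd => ?_⟩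
      rw [← Cfsg.Agent.Lib.Helper24_CoprimeHall.relIndex_eq_div hRM] at hdvd
      have h1 := hall_sub hRK hKY hRM inf_le_left hRcopK hHall
      have h2 : p ∣ Nat.gcd (Nat.card R) (R.relIndex M) := Nat.dvd_gcd hpπ hdvd
      rw [h1] at h2
      exact hp.one_lt.ne' (Nat.dvd_one.mp h2)
    have hR₁M : R.map (MulAut.conj n₁).toMonoidHom ≤ M := by
      rintro _ ⟨b, hb, rfl⟩
      simp only [MulEquiv.coe_toMonoidHom, MulAut.conj_apply]
      exact ⟨Y.mul_mem (Y.mul_mem hn₁Y (hRY hb)) (Y.inv_mem hn₁Y),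
        conj_mem_centralizer hn₁Q (hRcQ hb)⟩
    have hR₁hall : Cfsg.Agent.Lib.Helper24_CoprimeHall.PiHall π
        (R.map (MulAut.conj n₁).toMonoidHom) M :=
      hRhall.of_card_eq hR₁M (Cfsg.Agent.S0001.card_map_conj n₁ R)
    obtain ⟨d, hdM, hd⟩ := Cfsg.Agent.Lib.Helper24_CoprimeHall.piHall_conj hMsol hR₁hall hRhall
    set n₁' := d * n₁ with hn₁'
    have hn₁'Y : n₁' ∈ Y := Y.mul_mem hdM.1 hn₁Y
    have hdQ : d ∈ normalizer (Q : Set G) := Subgroup.centralizer_le_normalizer _ hdM.2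
    have hn₁'Q : n₁' ∈ normalizer (Q : Set G) := Subgroup.mul_mem _ hdQ hn₁Q
    have hn₁'Rf : ∀ b ∈ R, n₁' * b * n₁'⁻¹ ∈ R := by
      intro b hb
      rw [← hd]
      refine ⟨n₁ * b * n₁⁻¹, ⟨b, hb, by simp⟩, ?_⟩
      simp only [MulEquiv.coe_toMonoidHom, MulAut.conj_apply, hn₁']
      group
    have hn₁'R : n₁' ∈ normalizer (R : Set G) := mem_normalizer_of_conj_mem R n₁' hn₁'Rf
    have hn₁'v : n₁' * v * n₁'⁻¹ = g * v * g⁻¹ := by
      have h1 : n₁' * v * n₁'⁻¹ = d * (n₁ * v * n₁⁻¹) * d⁻¹ := by rw [hn₁']; group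
      rw [h1, hn₁v]
      have h2 := Subgroup.mem_centralizer_iff.mp hdM.2 _ hgv
      rw [← h2]; group
    have hn₁'K : n₁' ∈ normalizer (K : Set G) :=
      hK_of n₁' (fun a ha => conj_mem_of_mem_normalizer hn₁'Q ha) hn₁'Rf
    -- Step 3
    set g' := n₁'⁻¹ * g with hg'
    have hg'Y : g' ∈ Y := Y.mul_mem (Y.inv_mem hn₁'Y) hg
    have hg'v : g' * v * g'⁻¹ = v := by
      have h1 : g' * v * g'⁻¹ = n₁'⁻¹ * (g * v * g⁻¹) * n₁' := by rw [hg']; group
      rw [h1, ← hn₁'v]; group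
    set Y' := Y ⊓ centralizer ({v} : Set G) with hY'
    have hg'Y' : g' ∈ Y' := by
      refine ⟨hg'Y, ?_⟩
      change g' ∈ centralizer ({v} : Set G)
      rw [Subgroup.mem_centralizer_iff]
      rintro _ rfl
      calc v * g' = (g' * v * g'⁻¹) * g' := by rw [hg'v]
        _ = g' * v := by group
    have hRY' : R ≤ Y' := by
      refine le_inf hRY ?_
      intro b hb
      rw [Subgroup.mem_centralizer_iff]
      rintro _ rfl
      exact hcomm v hvQ b hb
    have hg'w : g' * w * g'⁻¹ ∈ R := by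
      have h1 : g' * w * g'⁻¹ = n₁'⁻¹ * (g * w * g⁻¹) * n₁' := by rw [hg']; group
      rw [h1]
      exact conj_inv_mem_of_mem_normalizer hn₁'R hgw
    have hRnil : Group.IsNilpotent R := isNilpotent_of_le hRK hKnil
    have hRhallY' : (Nat.card R).Coprime (R.relIndex Y') :=
      hall_sub hRK hKY hRY' inf_le_left hRcopK hHall
    obtain ⟨n₂, hn₂Y', hn₂R, hn₂w⟩ := ih Y' R hRn hRY' hRnil hRhallY' w hwR g' hg'Y' hg'w
    have hn₂Y : n₂ ∈ Y := hn₂Y'.1
    have hn₂v : n₂ * v * n₂⁻¹ = v := by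
      have h1 := Subgroup.mem_centralizer_iff.mp hn₂Y'.2 v rfl
      calc n₂ * v * n₂⁻¹ = (v * n₂) * n₂⁻¹ := by rw [h1]
        _ = v := by group
    -- Step 4
    set D := Y ⊓ centralizer (R : Set G) with hD
    have hQD : Q ≤ D := le_inf hQY hQcR
    set Q₂ := Q.map (MulAut.conj n₂).toMonoidHom with hQ₂
    have hQ₂D : Q₂ ≤ D := by
      rintro _ ⟨a, ha, rfl⟩
      simp only [MulEquiv.coe_toMonoidHom, MulAut.conj_apply]
      exact ⟨Y.mul_mem (Y.mul_mem hn₂Y (hQY ha)) (Y.inv_mem hn₂Y),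
        conj_mem_centralizer hn₂R (hQcR ha)⟩
    have hvQ₂ : v ∈ Q₂ := ⟨v, hvQ, by simpa using hn₂v⟩
    have hqD : ¬ q ∣ Q.relIndex D := hsyl D hQD inf_le_left
    obtain ⟨e, heD, he⟩ := sylow_conj_in D Q Q₂ q hQD hQ₂D hQp hqD
      (Cfsg.Agent.S0001.card_map_conj n₂ Q)
    have hev : e⁻¹ * v * e⁻¹⁻¹ ∈ Q := by
      rw [← he] at hvQ₂
      obtain ⟨a, ha, hav⟩ := hvQ₂
      simp only [MulEquiv.coe_toMonoidHom, MulAut.conj_apply] at hav
      rw [← hav]
      have : e⁻¹ * (e * a * e⁻¹) * e⁻¹⁻¹ = a := by group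
      rw [this]; exact ha
    obtain ⟨m, hmD, hmQ, hmv⟩ := hFC D q hq Q hQD hQp hqD v hvQ e⁻¹ (D.inv_mem heD) hev
    set c := e * m with hc
    have hcD : c ∈ D := D.mul_mem heD hmD
    have hcv : c⁻¹ * v * c = v := by
      have h1 : c⁻¹ * v * c = m⁻¹ * (e⁻¹ * v * e⁻¹⁻¹) * m := by rw [hc]; group
      rw [h1, ← hmv]; group
    set nn := c⁻¹ * n₂ with hnn
    have hnnY : nn ∈ Y := Y.mul_mem (Y.inv_mem hcD.1) hn₂Y
    have hnnQ : ∀ a ∈ Q, nn * a * nn⁻¹ ∈ Q := by
      intro a ha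
      have h1 : n₂ * a * n₂⁻¹ ∈ Q₂ := ⟨a, ha, by simp⟩
      rw [← he] at h1
      obtain ⟨a', ha', hav⟩ := h1
      simp only [MulEquiv.coe_toMonoidHom, MulAut.conj_apply] at hav
      have h2 : nn * a * nn⁻¹ = c⁻¹ * (n₂ * a * n₂⁻¹) * c := by rw [hnn]; group
      rw [h2, ← hav]
      have h3 : c⁻¹ * (e * a' * e⁻¹) * c = m⁻¹ * a' * m := by rw [hc]; group
      rw [h3]
      exact conj_inv_mem_of_mem_normalizer hmQ ha'
    have hc_cent : ∀ b ∈ R, c⁻¹ * b * c = b := by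
      intro b hb
      have h1 := Subgroup.mem_centralizer_iff.mp hcD.2 b hb
      calc c⁻¹ * b * c = c⁻¹ * (b * c) := by group
        _ = c⁻¹ * (c * b) := by rw [h1]
        _ = b := by group
    have hnnR : ∀ b ∈ R, nn * b * nn⁻¹ ∈ R := by
      intro b hb
      have h2 : nn * b * nn⁻¹ = c⁻¹ * (n₂ * b * n₂⁻¹) * c := by rw [hnn]; group
      rw [h2, hc_cent _ (conj_mem_of_mem_normalizer hn₂R hb)]
      exact conj_mem_of_mem_normalizer hn₂R hb
    have hnnK : nn ∈ normalizer (K : Set G) := hK_of nn hnnQ hnnR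
    have hnnv : nn * v * nn⁻¹ = v := by
      have h2 : nn * v * nn⁻¹ = c⁻¹ * (n₂ * v * n₂⁻¹) * c := by rw [hnn]; group
      rw [h2, hn₂v, hcv]
    have hnnw : nn * w * nn⁻¹ = g' * w * g'⁻¹ := by
      have h2 : nn * w * nn⁻¹ = c⁻¹ * (n₂ * w * n₂⁻¹) * c := by rw [hnn]; group
      rw [h2, hn₂w, hc_cent _ hg'w]
    have hnny : nn * y * nn⁻¹ = g' * y * g'⁻¹ := by
      have h1 : nn * y * nn⁻¹ = (nn * v * nn⁻¹) * (nn * w * nn⁻¹) := by
        conv_lhs => rw [hyij]
        group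
      have h2 : g' * y * g'⁻¹ = (g' * v * g'⁻¹) * (g' * w * g'⁻¹) := by
        conv_lhs => rw [hyij]
        group
      rw [h1, h2, hnnv, hnnw, hg'v]
    refine ⟨n₁' * nn, Y.mul_mem hn₁'Y hnnY, Subgroup.mul_mem _ hn₁'K hnnK, ?_⟩
    have h1 : n₁' * nn * y * (n₁' * nn)⁻¹ = n₁' * (nn * y * nn⁻¹) * n₁'⁻¹ := by group
    rw [h1, hnny, hg']
    group

open Cfsg.Agent.Lib.Helper70_BG107 in
/-- In a minimal simple group of odd order, Sylow normalizers control fusion of elements in every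
subgroup (given the statements of S1404 and S1410). -/
theorem fc_of_minSimple [Finite G] (hG : Cfsg.IsMinSimpleOddOrder G) (h04 : H1404 G)
    (h10 : H1410 G) (Y : Subgroup G) : FC Y := by
  intro q hq Q hQY hQp hidx v hv g hg hgv
  have : Fact q.Prime := ⟨hq⟩
  by_cases hY : Y = ⊤
  · subst hY
    rw [Subgroup.relIndex_top_right] at hidx
    let P : Sylow q G := hQp.toSylow hidx
    have hPQ : (P : Subgroup G) = Q := rfl
    have hz : Subgroup.zpowers v ≤ (P : Subgroup G) := by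
      rw [hPQ, Subgroup.zpowers_le]; exact hv
    have hx : ∀ u ∈ Subgroup.zpowers v, g * u * g⁻¹ ∈ (P : Subgroup G) := by
      intro u hu
      obtain ⟨i, rfl⟩ := Subgroup.mem_zpowers_iff.mp hu
      rw [hPQ, ← conj_zpow]
      exact Q.zpow_mem hgv i
    obtain ⟨y, hy, hxy⟩ := fusion_elementwise hG h04 h10 P (Subgroup.zpowers v) hz g hx
    refine ⟨y, Subgroup.mem_top y, ?_, (hxy v (Subgroup.mem_zpowers v)).symm⟩
    rw [← hPQ]; exact hy
  · have hlen : Cfsg.PLengthLE q 1 Y := h10 q Y hY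
    let P : Sylow q Y := (hQp.comap_subtype (K := Y)).toSylow hidx
    have hPmem : ∀ a : Y, a ∈ (P : Subgroup Y) ↔ (a : G) ∈ Q := fun a => Iff.rfl
    obtain ⟨n, hn, k, hgk, hk⟩ := exists_decomp hlen P ⟨g, hg⟩
    set u : Y := ⟨v, hQY hv⟩ with hu
    have huP : u ∈ (P : Subgroup Y) := (hPmem u).mpr hv
    have hguP : (⟨g, hg⟩ : Y) * u * (⟨g, hg⟩ : Y)⁻¹ ∈ (P : Subgroup Y) := (hPmem _).mpr hgv
    have hkuP : k * u * k⁻¹ ∈ (P : Subgroup Y) := by
      have h1 : k * u * k⁻¹ = n⁻¹ * ((⟨g, hg⟩ : Y) * u * (⟨g, hg⟩ : Y)⁻¹) * n := by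
        rw [hgk]; group
      rw [h1]
      exact conj_inv_mem_of_mem_normalizer hn hguP
    have hku : k * u * k⁻¹ = u := hk u huP hkuP
    have hgu : (⟨g, hg⟩ : Y) * u * (⟨g, hg⟩ : Y)⁻¹ = n * u * n⁻¹ := by
      have h1 : (⟨g, hg⟩ : Y) * u * (⟨g, hg⟩ : Y)⁻¹ = n * (k * u * k⁻¹) * n⁻¹ := by
        rw [hgk]; group
      rw [h1, hku]
    refine ⟨(n : G), n.2, ?_, ?_⟩
    · apply mem_normalizer_of_conj_mem
      intro a ha
      have h1 : (⟨a, hQY ha⟩ : Y) ∈ (P : Subgroup Y) := (hPmem _).mpr ha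
      have h2 := conj_mem_of_mem_normalizer hn h1
      exact (hPmem _).mp h2
    · have := congrArg Subtype.val hgu
      simpa using this.symm

/-- subgroups of centralizers of nontrivial subgroups are solvable in a minimal simple group -/
theorem solvable_of_le_centralizer [Finite G] (hG : Cfsg.IsMinSimpleOddOrder G) (Q : Subgroup G)
    (hQ : Q ≠ ⊥) (M : Subgroup G) (hM : M ≤ centralizer (Q : Set G)) : Group.IsSolvable M := by
  obtain ⟨-, hsimple, hnc, hsolv⟩ := hG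
  have hC : centralizer (Q : Set G) ≠ ⊤ := by
    intro htop
    have hQc : Q ≤ Subgroup.center G := by
      intro a ha
      rw [Subgroup.mem_center_iff]
      intro b
      have hb : b ∈ centralizer (Q : Set G) := by rw [htop]; exact Subgroup.mem_top b
      exact (Subgroup.mem_centralizer_iff.mp hb a ha).symm
    rcases hsimple.eq_bot_or_eq_top_of_normal (Subgroup.center G) inferInstance with h | h
    · apply hQ
      rw [eq_bot_iff, ← h]; exact hQc
    · apply hnc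
      refine ⟨⟨fun a b => ?_⟩⟩
      have ha : a ∈ Subgroup.center G := by rw [h]; exact Subgroup.mem_top a
      exact (Subgroup.mem_center_iff.mp ha b).symm
  have h1 : Group.IsSolvable (centralizer (Q : Set G)) := hsolv _ hC
  exact Group.isSolvable_of_isSolvable_injective (Subgroup.inclusion_injective hM)

open Cfsg.Agent.Lib.Helper70_BG107 in
/-- **Fusion in nilpotent Hall subgroups** of a minimal simple group of odd order is controlled by
the normalizer (given the statements of S1404 and S1410). -/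
theorem hall_fusion [Finite G] (hG : Cfsg.IsMinSimpleOddOrder G) (h04 : H1404 G) (h10 : H1410 G)
    (H : Subgroup G) (hHn : Group.IsNilpotent H) (hHall : (Nat.card H).Coprime H.index) :
    ∀ x ∈ H, ∀ g : G, g * x * g⁻¹ ∈ H →
      ∃ n ∈ Subgroup.normalizer (H : Set G), n * x * n⁻¹ = g * x * g⁻¹ := by
  intro x hx g hgx
  obtain ⟨m, -, hmN, hm⟩ := fusion_aux (fc_of_minSimple hG h04 h10)
    (solvable_of_le_centralizer hG) (Nat.card H) ⊤ H le_rfl le_top hHn
    (by rwa [Subgroup.relIndex_top_right]) x hx g (Subgroup.mem_top g) hgx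
  exact ⟨m, hmN, hm⟩

end Cfsg.Agent.Lib.Helper29_HallFusion
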