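import Mathlib
import Cfsg.Prelude.Def_OddOrderLocal
import Cfsg.Agent.Lib.Helper29_BG144a
import Cfsg.Agent.Lib.Helper29_HallFusion
import Cfsg.Agent.Lib.Helper35_BG11a
import Cfsg.Agent.Lib.Helper73_BG12
import Cfsg.Agent.Lib.Helper79_BG141
import Cfsg.Agent.Lib.Helper49_SigmaDisjoint

set_option autoImplicit false
open Cfsg

namespace Cfsg.Agent.Lib.Helper29_BG144b

open Subgroup Cfsg.Agent.Lib.Helper49_Sigma Cfsg.Agent.Lib.Helper73_BG12

universe u

variable {G : Type u} [Group G] [Finite G]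

/-- σ-partition (second conjunct of the frozen statement S1378), as a hypothesis -/
def SigmaPartition (G : Type u) [Group G] : Prop :=
  ∀ M N : Subgroup G, IsCoatom M → IsCoatom N → (sigma M ∩ sigma N).Nonempty →
    ∃ g : G, N = M.map (MulAut.conj g).toMonoidHom

/-- **B&G 12.12(e3) + σ-partition**: the dichotomy for a `σ(M)`-subgroup of prime power order. -/
theorem dichotomy (hG : IsMinSimpleOddOrder G) (hU : UniqHyp G) (hC : CentHyp G)
    (h17 : Cfsg.Agent.Lib.Helper79_BG141.Hyp1417 G) (hSP : SigmaPartition G)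
    {M : Subgroup G} (hM : IsCoatom M) {q : ℕ} [hq : Fact q.Prime] (hqσ : q ∈ sigma M)
    {X : Subgroup G} (hXq : IsPGroup q X) (hX1 : X ≠ ⊥) (hXM : X ≤ M)
    (hCX : ¬ centralizer (X : Set G) ≤ M) :
    ∃ Mstar : Subgroup G, IsCoatom Mstar ∧ Mstar ≠ M ∧
      (∀ g : G, Mstar ≠ M.map (MulAut.conj g).toMonoidHom) ∧ normalizer (X : Set G) ≤ Mstar ∧
      q ∈ tau2 Mstar ∧ Group.IsNilpotent (sigmaCore Mstar) ∧
      IsComplIn (M ⊓ Mstar) (sigmaCore Mstar) Mstar := by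
  have hXtop : X ≠ ⊤ := by
    rintro rfl
    exact hM.1 (top_le_iff.mp hXM)
  have hN : normalizer (X : Set G) ≠ ⊤ :=
    Cfsg.Agent.Lib.Helper22_BGTrans.normalizer_ne_top hG hX1 hXtop
  obtain ⟨Mstar, hMs, hNX⟩ := (eq_top_or_exists_le_coatom _).resolve_left hN
  have hne : Mstar ≠ M := by
    rintro rfl
    exact hCX ((Subgroup.centralizer_le_normalizer _).trans hNX)
  have hXMs : X ≤ Mstar := Subgroup.le_normalizer.trans hNX
  have hXD : X ≤ M ⊓ Mstar := le_inf hXM hXMs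
  obtain ⟨S, hS⟩ := (hXq.comap_subtype (K := M ⊓ Mstar)).exists_le_sylow
  set S' := (S : Subgroup ↥(M ⊓ Mstar)).map (M ⊓ Mstar).subtype with hS'
  have hXS : X ≤ S' := by
    intro x hx
    exact ⟨⟨x, hXD hx⟩, hS (Subgroup.mem_subgroupOf.mpr hx), rfl⟩
  obtain ⟨hnc, hNS, hidx⟩ := statement_S1424 hG hU hC M hM q hqσ X hX1 Mstar hne hNX S hXS
  have hS'D : S' ≤ M ⊓ Mstar := Subgroup.map_subtype_le _
  have hS'q : IsPGroup q S' := S.isPGroup'.map _
  have hqσs : q ∉ sigma Mstar := by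
    intro h
    obtain ⟨g, hg⟩ := hSP M Mstar hM hMs ⟨q, hqσ, h⟩
    exact hnc g hg
  have hq2 : q ≠ 2 := ne_two_of_mem_sigma hG hqσ
  have hqMs : q ∣ Nat.card Mstar := by
    obtain ⟨n, hn⟩ := IsPGroup.iff_card.mp hXq
    have hn0 : n ≠ 0 := by
      rintro rfl
      rw [pow_zero] at hn
      exact hX1 (Subgroup.card_eq_one.mp hn)
    have h1 : Nat.card X ∣ Nat.card Mstar := Subgroup.card_dvd_of_le hXMs
    rw [hn] at h1
    exact (dvd_pow_self q hn0).trans h1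
  have hS'nc : ¬ IsCyclic S' := by
    intro hc
    apply hqσs
    have h1 : normalizer (S' : Set G) ≤ Mstar :=
      (normalizer_le_normalizer_of_isCyclic hc hXS).trans hNX
    have hidx' : ¬ q ∣ (S'.subgroupOf Mstar).index := hidx
    refine ⟨hq.out, hqMs, (hS'q.comap_subtype (K := Mstar)).toSylow hidx', ?_⟩
    change normalizer (((S'.subgroupOf Mstar).map Mstar.subtype : Subgroup G) : Set G) ≤ Mstar
    rw [Subgroup.map_subgroupOf_eq_of_le (hS'D.trans inf_le_right)]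
    exact h1
  obtain ⟨A, hAS, hAe, hA2⟩ := exists_elemAb_sq_of_not_isCyclic hq2 hS'q hS'nc
  have hAM : A ≤ M := hAS.trans (hS'D.trans inf_le_left)
  have hAMs : A ≤ Mstar := hAS.trans (hS'D.trans inf_le_right)
  have hAcomm : ∀ a ∈ A, ∀ b ∈ A, a * b = b * a := by
    intro a ha b hb
    have h1 := hAe.1.is_comm.comm (⟨a, ha⟩ : A) ⟨b, hb⟩
    exact congrArg Subtype.val h1
  have hτ : q ∈ tau2 Mstar := by
    refine ⟨hq.out, hqσs, ?_, ?_⟩
    · by_contra h
      exact hqσs (Cfsg.Agent.Lib.Helper49_Alpha.mem_sigma_of_mem_alpha hG hU hMs ⟨hq.out, h⟩)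
    · apply Cfsg.Agent.Lib.Helper22_Uniq.not_pRankLE_of_elemAb hAMs hAcomm hAe.2
      rw [hA2]
      exact Nat.pow_lt_pow_right hq.out.one_lt (by norm_num)
  obtain ⟨hnil, hSyl, hnorm, hcent, hdisj, -⟩ := h17 Mstar hMs q hτ A ⟨hAMs, hAe, hA2⟩
  have hS'comm : ∀ a ∈ S', ∀ b ∈ S', a * b = b * a := by
    intro a ha b hb
    have hidx' : ¬ q ∣ (S'.subgroupOf Mstar).index := hidx
    have hcomm : IsMulCommutative (S'.subgroupOf Mstar) :=
      (hSyl ((hS'q.comap_subtype (K := Mstar)).toSylow hidx')).1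
    have haMs : a ∈ Mstar := (hS'D ha).2
    have hbMs : b ∈ Mstar := (hS'D hb).2
    have ha' : (⟨a, haMs⟩ : Mstar) ∈ S'.subgroupOf Mstar := Subgroup.mem_subgroupOf.mpr ha
    have hb' : (⟨b, hbMs⟩ : Mstar) ∈ S'.subgroupOf Mstar := Subgroup.mem_subgroupOf.mpr hb
    have h1 := hcomm.is_comm.comm (⟨⟨a, haMs⟩, ha'⟩ : (S'.subgroupOf Mstar)) ⟨⟨b, hbMs⟩, hb'⟩
    exact congrArg (fun z : (S'.subgroupOf Mstar) => ((z : Mstar) : G)) h1
  have hNσM : sigmaCore Mstar ⊓ M = ⊥ := hdisj M hM hne.symm hAM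
  -- E* := Mstar ⊓ N(A) ≤ M
  have hEM : Mstar ⊓ normalizer (A : Set G) ≤ M := by
    rintro e ⟨heMs, heN⟩
    set C := Mstar ⊓ centralizer (A : Set G) with hCdef
    have hS'C : S' ≤ C := by
      intro s hs
      refine ⟨(hS'D hs).2, ?_⟩
      change s ∈ centralizer (A : Set G)
      rw [Subgroup.mem_centralizer_iff]
      intro a ha
      exact hS'comm a (hAS ha) s hs
    have hQ₁C : S'.map (MulAut.conj e).toMonoidHom ≤ C := by
      rintro _ ⟨s, hs, rfl⟩
      simp only [MulEquiv.coe_toMonoidHom, MulAut.conj_apply]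
      exact ⟨Mstar.mul_mem (Mstar.mul_mem heMs (hS'D hs).2) (Mstar.inv_mem heMs),
        Cfsg.Agent.Lib.Helper29_HallFusion.conj_mem_centralizer heN (hS'C hs).2⟩
    have hidxC : ¬ q ∣ S'.relIndex C := by
      intro h
      apply hidx
      have h1 : S'.relIndex C ∣ S'.relIndex Mstar :=
        Dvd.intro _ (Subgroup.relIndex_mul_relIndex S' C Mstar hS'C inf_le_left)
      exact h.trans h1
    obtain ⟨c, hcC, hc⟩ := Cfsg.Agent.Lib.Helper29_HallFusion.sylow_conj_in C S'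
      (S'.map (MulAut.conj e).toMonoidHom) q hS'C hQ₁C hS'q hidxC
      (Cfsg.Agent.S0001.card_map_conj e S')
    have hce : c⁻¹ * e ∈ normalizer (S' : Set G) := by
      rw [Cfsg.Agent.Lib.Helper24_CoprimeAction.mem_normalizer_iff_map_conj, ← Cfsg.Agent.S0001.map_conj_mul, ← hc,
        Cfsg.Agent.S0001.map_conj_mul]
      have : c⁻¹ * c = 1 := by group
      rw [this]
      ext y
      simp
    have hcM : c ∈ M := hC M hM q A hAM hAe hA2 hcC.2
    have := M.mul_mem hcM (hNS hce)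
    have e2 : c * (c⁻¹ * e) = e := by group
    rwa [e2] at this
  refine ⟨Mstar, hMs, hne, hnc, hNX, hτ, hnil, inf_le_right,
    Cfsg.Agent.Lib.Helper35_BG11a.sigmaCore_le Mstar, ?_, ?_⟩
  · rw [eq_bot_iff]
    rintro y ⟨⟨hy1, -⟩, hy3⟩
    rw [← hNσM]
    exact ⟨hy3, hy1⟩
  · intro m hm
    set Nσ := sigmaCore Mstar with hNσ
    have hNσle : Nσ ≤ Mstar := Cfsg.Agent.Lib.Helper35_BG11a.sigmaCore_le Mstar
    have hMsNσ : Mstar ≤ normalizer (Nσ : Set G) :=
      Cfsg.Agent.Lib.Helper35_BG11a.le_normalizer_sigmaCore Mstar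
    have hANσ : A ≤ normalizer (Nσ : Set G) := hAMs.trans hMsNσ
    set L := Nσ ⊔ A with hL
    have hAL : A ≤ L := le_sup_right
    have hLMs : L ≤ Mstar := sup_le hNσle hAMs
    -- Nσ ⊓ A = ⊥
    have hAq : IsPGroup q A := hS'q.to_le hAS
    have hNσA : Nσ ⊓ A = ⊥ := by
      rw [eq_bot_iff]
      rw [← hNσM]
      exact inf_le_inf_left _ hAM
    have hcardL : Nat.card L = Nat.card Nσ * Nat.card A :=
      Cfsg.Agent.Lib.Helper24_CoprimeHall.card_sup_of_disjoint' A Nσ hANσ hNσA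
    have hrelL : A.relIndex L = Nat.card Nσ := by
      have e1 := Cfsg.Agent.Lib.Helper29_HallFusion.relIndex_mul_card_eq hAL
      rw [hcardL] at e1
      exact Nat.eq_of_mul_eq_mul_right Nat.card_pos e1
    have hqL : ¬ q ∣ A.relIndex L := by
      rw [hrelL]
      intro h
      exact hqσs (Cfsg.Agent.Lib.Helper49_SigmaDisjoint.mem_sigma_of_dvd_card_sigmaCore Mstar hq.out h)
    have hAmL : A.map (MulAut.conj m⁻¹).toMonoidHom ≤ L := by
      have h1 : m⁻¹ ∈ normalizer (L : Set G) := hnorm (Mstar.inv_mem hm)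
      rw [Cfsg.Agent.Lib.Helper24_CoprimeAction.mem_normalizer_iff_map_conj] at h1
      rw [← h1]
      exact Subgroup.map_mono hAL
    obtain ⟨l, hlL, hl⟩ := Cfsg.Agent.Lib.Helper29_HallFusion.sylow_conj_in L A
      (A.map (MulAut.conj m⁻¹).toMonoidHom) q hAL hAmL hAq hqL (Cfsg.Agent.S0001.card_map_conj m⁻¹ A)
    have hml : m * l ∈ normalizer (A : Set G) := by
      rw [Cfsg.Agent.Lib.Helper24_CoprimeAction.mem_normalizer_iff_map_conj, ← Cfsg.Agent.S0001.map_conj_mul, hl,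
        Cfsg.Agent.S0001.map_conj_mul]
      have : m * m⁻¹ = 1 := by group
      rw [this]
      ext y
      simp
    obtain ⟨k, hk, a, ha, hlka⟩ := Cfsg.Agent.Lib.Helper24_CoprimeAction.exists_mul_of_mem_sup A Nσ hANσ hlL
    refine ⟨m * l * a⁻¹, ⟨?_, ?_⟩, k⁻¹, Nσ.inv_mem hk, ?_⟩
    · apply hEM
      exact ⟨Mstar.mul_mem (Mstar.mul_mem hm (hLMs hlL)) (Mstar.inv_mem (hAMs ha)),
        Subgroup.mul_mem _ hml (Subgroup.inv_mem _ (Subgroup.le_normalizer ha))⟩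
    · exact Mstar.mul_mem (Mstar.mul_mem hm (hLMs hlL)) (Mstar.inv_mem (hAMs ha))
    · rw [hlka]; group

end Cfsg.Agent.Lib.Helper29_BG144b
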