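import Mathlib
import Cfsg.Prelude.Def_OddOrderLocal
import Cfsg.Agent.Lib.Helper29_BG144b
import Cfsg.Agent.Lib.Helper23_SigmaHall
import Cfsg.Agent.Lib.Helper49_Alpha3

/-!
# Bender–Glauberman Theorem 14.4 (helper29)

The statements of S1374 (`bg144_statement`) and S1375 (`bg144_not_le_statement`), modulo the
frozen statements they depend on, taken as explicit hypotheses:
`UniqHyp G` (= S1403), `CentHyp G` (= first part of S1416), `Hyp1417 G` (= S1417),
`SigmaPartition G` (= second conjunct of S1378) and, for S1375, `Hyp1432 G` (= S1432).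
-/

set_option autoImplicit false
open Cfsg

namespace Cfsg.Agent.Lib.Helper29_BG144c

open Subgroup Cfsg.Agent.Lib.Helper49_Sigma Cfsg.Agent.Lib.Helper73_BG12
  Cfsg.Agent.Lib.Helper29_BG144a Cfsg.Agent.Lib.Helper29_BG144b

universe u

variable {G : Type u} [Group G]

/-- the order of a group that is the product of two complementary subgroups -/
theorem card_of_isComplIn {A B M : Subgroup G} (h : IsComplIn A B M) :
    Nat.card M = Nat.card A * Nat.card B := by
  obtain ⟨hA, hB, hdisj, hprod⟩ := h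
  rw [← Nat.card_prod]
  symm
  apply Nat.card_congr
  refine Equiv.ofBijective
    (fun p : A × B => (⟨(p.1 : G) * (p.2 : G), M.mul_mem (hA p.1.2) (hB p.2.2)⟩ : M)) ⟨?_, ?_⟩
  · rintro ⟨a, b⟩ ⟨a', b'⟩ h
    have h1 : (a : G) * b = a' * b' := congrArg Subtype.val h
    have h2 : (a' : G)⁻¹ * a = b' * (b : G)⁻¹ := by
      calc (a' : G)⁻¹ * a = (a' : G)⁻¹ * ((a : G) * b) * (b : G)⁻¹ := by group
        _ = (a' : G)⁻¹ * ((a' : G) * b') * (b : G)⁻¹ := by rw [h1]
        _ = b' * (b : G)⁻¹ := by group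
    have h3 : (a' : G)⁻¹ * a ∈ A ⊓ B :=
      ⟨A.mul_mem (A.inv_mem a'.2) a.2, by rw [h2]; exact B.mul_mem b'.2 (B.inv_mem b.2)⟩
    rw [hdisj, Subgroup.mem_bot] at h3
    have h4 : (a : G) = a' := by
      calc (a : G) = (a' : G) * ((a' : G)⁻¹ * a) := by group
        _ = a' := by rw [h3, mul_one]
    have h5 : (b : G) = b' := by
      rw [h4] at h1
      exact mul_left_cancel h1
    exact Prod.ext (Subtype.ext h4) (Subtype.ext h5)
  · rintro ⟨m, hm⟩
    obtain ⟨a, ha, b, hb, rfl⟩ := hprod m hm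
    exact ⟨(⟨a, ha⟩, ⟨b, hb⟩), rfl⟩

theorem relIndex_of_isComplIn [Finite G] {A B M : Subgroup G} (h : IsComplIn A B M) :
    A.relIndex M = Nat.card B := by
  have h1 := card_of_isComplIn h
  have h2 := Cfsg.Agent.Lib.Helper29_HallFusion.relIndex_mul_card_eq h.1
  rw [h1, mul_comm] at h2
  exact Nat.eq_of_mul_eq_mul_left Nat.card_pos h2

theorem relIndex_of_isComplIn' [Finite G] {A B M : Subgroup G} (h : IsComplIn A B M) :
    B.relIndex M = Nat.card A := by
  have h1 := card_of_isComplIn h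
  have h2 := Cfsg.Agent.Lib.Helper29_HallFusion.relIndex_mul_card_eq h.2.1
  rw [h1] at h2
  exact Nat.eq_of_mul_eq_mul_right Nat.card_pos h2

/-- if all Sylow `q`-subgroups are cyclic then the `q`-rank is at most one -/
theorem pRankLE_one_of_sylow_cyclic {H : Type*} [Group H] [Finite H] (q : ℕ) [hq : Fact q.Prime]
    (h : ∀ P : Sylow q H, IsCyclic P) : PRankLE q 1 H := by
  intro E hEc hEe
  have hEp : IsPGroup q ↥E := by
    intro b
    refine ⟨1, ?_⟩
    apply Subtype.ext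
    rw [pow_one, Subgroup.coe_pow]
    exact hEe b.1 b.2
  obtain ⟨P, hP⟩ := hEp.exists_le_sylow
  have : IsCyclic (P : Subgroup H) := h P
  have hEcyc : IsCyclic E := Subgroup.isCyclic_of_le hP
  have h1 := Cfsg.Agent.Lib.Helper79_BG141.pRankLE_one_of_isCyclic q hEcyc ⊤
    (by infer_instance) (by
      intro a _
      apply Subtype.ext
      rw [Subgroup.coe_pow]
      exact hEe a.1 a.2)
  rwa [Subgroup.card_top] at h1

/-- an element of `N` whose order is coprime to the index of the normal subgroup `H` lies in `H` -/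
theorem mem_of_coprime_relIndex [Finite G] {H N : Subgroup G}
    (hn : N ≤ normalizer (H : Set G)) {x : G} (hx : x ∈ N)
    (hcop : (orderOf x).Coprime (H.relIndex N)) : x ∈ H := by
  have hnorm : (H.subgroupOf N).Normal := by
    constructor
    intro y hy g
    rw [Subgroup.mem_subgroupOf] at hy ⊢
    have := (Subgroup.mem_normalizer_iff.mp (hn g.2) (y : G)).mp hy
    simpa using this
  set y : N := ⟨x, hx⟩ with hy
  have h1 : orderOf (QuotientGroup.mk' (H.subgroupOf N) y) ∣ orderOf y :=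
    orderOf_map_dvd _ y
  have h2 : orderOf (QuotientGroup.mk' (H.subgroupOf N) y) ∣ (H.subgroupOf N).index := by
    rw [Subgroup.index_eq_card]
    exact orderOf_dvd_natCard _
  have h3 : orderOf y = orderOf x := by
    rw [hy]
    exact (Subgroup.orderOf_mk x hx)
  rw [h3] at h1
  have h4 : orderOf (QuotientGroup.mk' (H.subgroupOf N) y) = 1 :=
    Nat.eq_one_of_dvd_coprimes hcop h1 h2
  rw [orderOf_eq_one_iff] at h4
  have h5 : y ∈ H.subgroupOf N := by
    rwa [QuotientGroup.mk'_apply, QuotientGroup.eq_one_iff] at h4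
  exact Subgroup.mem_subgroupOf.mp h5

/-- `N_F ≤ N_σ` for a maximal subgroup `N` -/
theorem fittingHallOf_le_sigmaCore [Finite G] (hG : IsMinSimpleOddOrder G) {N : Subgroup G}
    (hN : IsCoatom N) : fittingHallOf N ≤ sigmaCore N := by
  unfold fittingHallOf sigmaCore
  apply Subgroup.map_mono
  unfold fittingHall
  apply sSup_le
  rintro H ⟨hHn, hHnil, hHcop⟩
  unfold piCore
  apply le_sSup
  refine ⟨hHn, ?_⟩
  intro q hq hqH
  have : Fact q.Prime := ⟨hq⟩
  have Q : Sylow q H := default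
  have hQn : (Q : Subgroup H).Normal :=
    Sylow.normal_of_normalizerCondition Group.normalizerCondition_of_isNilpotent Q
  have hQc : (Q : Subgroup H).Characteristic := Sylow.characteristic_of_normal Q hQn
  have hP0n : ((Q : Subgroup H).map H.subtype).Normal :=
    ConjAct.normal_of_characteristic_of_normal
  have hP0p : IsPGroup q ((Q : Subgroup H).map H.subtype) := Q.isPGroup'.map _
  have hidx : ¬ q ∣ ((Q : Subgroup H).map H.subtype).index := by
    rw [Subgroup.index_map_subtype]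
    intro h
    rcases (Nat.Prime.dvd_mul hq).mp h with h | h
    · exact Q.not_dvd_index h
    · have h1 : q ∣ Nat.gcd (Nat.card H) H.index := Nat.dvd_gcd hqH h
      rw [hHcop.gcd_eq_one] at h1
      exact hq.one_lt.ne' (Nat.dvd_one.mp h1)
  set P : Sylow q N := hP0p.toSylow hidx with hP
  have hPcoe : (P : Subgroup N) = (Q : Subgroup H).map H.subtype := rfl
  set PG : Subgroup G := (P : Subgroup N).map N.subtype with hPG
  have hQ1 : (Q : Subgroup H) ≠ ⊥ := by
    intro h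
    have h1 := Q.card_eq_multiplicity
    rw [h, Subgroup.card_bot] at h1
    have h2 : (Nat.card H).factorization q = 0 := by
      by_contra h0
      have : 1 < q ^ (Nat.card H).factorization q :=
        Nat.one_lt_pow h0 hq.one_lt
      omega
    have h3 : 0 < (Nat.card H).factorization q :=
      hq.factorization_pos_of_dvd Nat.card_pos.ne' hqH
    omega
  have hPG1 : PG ≠ ⊥ := by
    intro h
    apply hQ1
    rw [hPG, hPcoe] at h
    have h1 := (Subgroup.map_eq_bot_iff_of_injective _ N.subtype_injective).mp h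
    exact (Subgroup.map_eq_bot_iff_of_injective _ H.subtype_injective).mp h1
  have hPGN : PG ≤ N := Subgroup.map_subtype_le _
  have hPGtop : PG ≠ ⊤ := by
    rintro h
    rw [h] at hPGN
    exact hN.1 (top_le_iff.mp hPGN)
  have hNn : N ≤ normalizer (PG : Set G) := by
    intro n hn
    rw [Subgroup.mem_normalizer_iff]
    intro y
    constructor
    · rintro ⟨z, hz, rfl⟩
      refine ⟨⟨n, hn⟩ * z * ⟨n, hn⟩⁻¹, ?_, by simp⟩
      rw [hPcoe] at hz ⊢
      exact hP0n.conj_mem z hz ⟨n, hn⟩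
    · rintro ⟨z, hz, hzy⟩
      have hyN : y ∈ N := by
        have h1 : n * y * n⁻¹ ∈ N := by rw [← hzy]; exact z.2
        have h2 := N.mul_mem (N.mul_mem (N.inv_mem hn) h1) hn
        have e : n⁻¹ * (n * y * n⁻¹) * n = y := by group
        rwa [e] at h2
      refine ⟨⟨y, hyN⟩, ?_, rfl⟩
      have h3 : (⟨y, hyN⟩ : N) = (⟨n, hn⟩ : N)⁻¹ * z * (⟨n, hn⟩ : N)⁻¹⁻¹ := by
        apply Subtype.ext
        simp only [Subgroup.coe_mul, Subgroup.coe_inv, inv_inv]
        have : (z : G) = n * y * n⁻¹ := hzy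
        rw [this]
        group
      rw [h3]
      rw [hPcoe] at hz ⊢
      exact hP0n.conj_mem z hz _
  have hnorm : normalizer (PG : Set G) = N := by
    by_contra hne
    have hlt : N < normalizer (PG : Set G) := lt_of_le_of_ne hNn (Ne.symm hne)
    exact Cfsg.Agent.Lib.Helper22_BGTrans.normalizer_ne_top hG hPG1 hPGtop (hN.2 _ hlt)
  refine ⟨hq, hqH.trans (Subgroup.card_subgroup_dvd_card H), P, ?_⟩
  rw [hnorm]

/-- if `N_σ` is a nilpotent Hall subgroup of `N` then `N_σ ≤ N_F` -/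
theorem sigmaCore_le_fittingHallOf [Finite G] {N : Subgroup G}
    (hnil : Group.IsNilpotent (sigmaCore N))
    (hHall : IsPiHallOf (sigma N) (sigmaCore N) N) : sigmaCore N ≤ fittingHallOf N := by
  unfold fittingHallOf
  have e : sigmaCore N = (piCore (sigma N) N).map N.subtype := rfl
  rw [e]
  apply Subgroup.map_mono
  unfold fittingHall
  apply le_sSup
  refine ⟨inferInstance, ?_, ?_⟩
  · have f : (piCore (sigma N) N) ≃* sigmaCore N :=
      (piCore (sigma N) N).equivMapOfInjective N.subtype N.subtype_injective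
    exact (Group.nilpotent_of_mulEquiv f.symm)
  · apply Nat.Coprime.symm
    apply Nat.coprime_of_dvd
    intro k hk hk1 hk2
    rw [← Cfsg.Agent.Lib.Helper23_SigmaHall.relIndex_sigmaCore] at hk1
    rw [← Cfsg.Agent.Lib.Helper23_SigmaHall.card_sigmaCore] at hk2
    exact hHall.2.2 k hk (hHall.2.1 k hk hk2) hk1

section

variable [Finite G]

/-- common setup: a subgroup `X` of order `q` of `⟨x⟩`, `x ∈ M_σ`. -/
theorem setup (hG : IsMinSimpleOddOrder G) (hU : UniqHyp G) {M : Subgroup G} (hM : IsCoatom M)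
    {x : G} (hx : x ∈ sigmaCore M) (hx1 : x ≠ 1) {q : ℕ} (hq : q.Prime) (hqx : q ∣ orderOf x) :
    q ∈ sigma M ∧ IsPGroup q (zpowers (x ^ (orderOf x / q))) ∧
      zpowers (x ^ (orderOf x / q)) ≠ ⊥ ∧ zpowers (x ^ (orderOf x / q)) ≤ zpowers x ∧
      zpowers (x ^ (orderOf x / q)) ≤ M ∧ x ∈ M ∧
      (∀ g : G, M.map (MulAut.conj g).toMonoidHom = M → g ∈ M) ∧
      (∀ g : G, (zpowers (x ^ (orderOf x / q))).map (MulAut.conj g).toMonoidHom ≤ M →
        ∃ m ∈ M, ∃ c ∈ centralizer ((zpowers (x ^ (orderOf x / q)) : Subgroup G) : Set G),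
          g = m * c) := by
  have : Fact q.Prime := ⟨hq⟩
  have hxM : x ∈ M := Cfsg.Agent.Lib.Helper35_BG11a.sigmaCore_le M hx
  have hM1 : M ≠ ⊥ := by
    rintro rfl
    exact hx1 (Subgroup.mem_bot.mp hxM)
  have hqσ : q ∈ sigma M := by
    apply Cfsg.Agent.Lib.Helper49_SigmaDisjoint.mem_sigma_of_dvd_card_sigmaCore M hq
    have h1 : orderOf (⟨x, hx⟩ : sigmaCore M) ∣ Nat.card (sigmaCore M) := orderOf_dvd_natCard _
    rw [Subgroup.orderOf_mk] at h1
    exact hqx.trans h1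
  have ho : orderOf (x ^ (orderOf x / q)) = q :=
    orderOf_pow_orderOf_div (orderOf_pos x).ne' hqx
  have hcard : Nat.card (zpowers (x ^ (orderOf x / q))) = q := by
    rw [Nat.card_zpowers, ho]
  have hXq : IsPGroup q (zpowers (x ^ (orderOf x / q))) :=
    IsPGroup.of_card (n := 1) (by rw [hcard, pow_one])
  have hX1 : zpowers (x ^ (orderOf x / q)) ≠ ⊥ := by
    intro h
    rw [h, Subgroup.card_bot] at hcard
    exact hq.one_lt.ne' hcard.symm
  have hXx : zpowers (x ^ (orderOf x / q)) ≤ zpowers x :=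
    Subgroup.zpowers_le.mpr (Subgroup.pow_mem _ (Subgroup.mem_zpowers x) _)
  have hXM : zpowers (x ^ (orderOf x / q)) ≤ M :=
    hXx.trans (Subgroup.zpowers_le.mpr hxM)
  refine ⟨hqσ, hXq, hX1, hXx, hXM, hxM, ?_, ?_⟩
  · intro g hg
    have h1 : g ∈ normalizer (M : Set G) :=
      Cfsg.Agent.Lib.Helper24_CoprimeAction.mem_normalizer_iff_map_conj.mpr hg
    rwa [Cfsg.Agent.Lib.Helper49_Alpha3.normalizer_coatom hG hM hM1] at h1
  · exact (sigma_fusion_statement hG hU M hM hqσ _ hXq hX1 hXM).1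

/-- **B&G 14.4, the nontrivial case**. -/
theorem core (hG : IsMinSimpleOddOrder G) (hU : UniqHyp G) (hC : CentHyp G)
    (h17 : Cfsg.Agent.Lib.Helper79_BG141.Hyp1417 G) (hSP : SigmaPartition G)
    {M : Subgroup G} (hM : IsCoatom M) {x : G} (hx : x ∈ sigmaCore M) (hx1 : x ≠ 1)
    {q : ℕ} (hq : q.Prime) (hqx : q ∣ orderOf x)
    (hCX : ¬ centralizer ((zpowers (x ^ (orderOf x / q)) : Subgroup G) : Set G) ≤ M) :
    ∃ N : Subgroup G, IsCoatom N ∧ centralizer ({x} : Set G) ≤ N ∧ q ∈ tau2 N ∧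
      Group.IsNilpotent (sigmaCore N) ∧ IsComplIn (M ⊓ N) (sigmaCore N) N ∧
      centralizer ({x} : Set G) ≤
        normalizer ((sigmaCore N ⊓ centralizer ({x} : Set G) : Subgroup G) : Set G) ∧
      IsComplIn (M ⊓ centralizer ({x} : Set G)) (sigmaCore N ⊓ centralizer ({x} : Set G))
        (centralizer ({x} : Set G)) ∧
      ∀ g : G, x ∈ M.map (MulAut.conj g).toMonoidHom →
        ∃! r : G, r ∈ sigmaCore N ⊓ centralizer ({x} : Set G) ∧
          M.map (MulAut.conj r).toMonoidHom = M.map (MulAut.conj g).toMonoidHom := by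
  obtain ⟨hqσ, hXq, hX1, hXx, hXM, hxM, hself, hF⟩ := setup hG hU hM hx hx1 hq hqx
  have : Fact q.Prime := ⟨hq⟩
  obtain ⟨N, hN, -, -, hNX, hτ, hnil, hcompl⟩ :=
    dichotomy hG hU hC h17 hSP hM hqσ hXq hX1 hXM hCX
  have hCXN : centralizer ((zpowers (x ^ (orderOf x / q)) : Subgroup G) : Set G) ≤ N :=
    (Subgroup.centralizer_le_normalizer _).trans hNX
  obtain ⟨h1, h2, h3⟩ := regular_of_compl M N (sigmaCore N) _ x hself hxM hXx hF hCXN
    (Cfsg.Agent.Lib.Helper35_BG11a.le_normalizer_sigmaCore N) hcompl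
  refine ⟨N, hN, ?_, hτ, hnil, hcompl, h1, h2, h3⟩
  refine le_trans ?_ hCXN
  intro c hc
  rw [Subgroup.mem_centralizer_iff] at hc ⊢
  intro u hu
  obtain ⟨i, rfl⟩ := Subgroup.mem_zpowers_iff.mp (hXx hu)
  have h1 : Commute x c := hc x rfl
  exact (h1.zpow_left i).eq

/-- the statement of S1374 -/
theorem bg144_statement (hG : IsMinSimpleOddOrder G) (hU : UniqHyp G) (hC : CentHyp G)
    (h17 : Cfsg.Agent.Lib.Helper79_BG141.Hyp1417 G) (hSP : SigmaPartition G)
    (M : Subgroup G) (hM : IsCoatom M) (x : G) (hx : x ∈ Cfsg.sigmaCore M) (hx1 : x ≠ 1) :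
    (Nat.card ↥(M ⊓ Subgroup.centralizer ({x} : Set G))).Coprime ((M ⊓ Subgroup.centralizer ({x} : Set G)).relIndex (Subgroup.centralizer ({x} : Set G))) ∧
      ∃ R : Subgroup G, Subgroup.centralizer ({x} : Set G) ≤ Subgroup.normalizer (R : Set G) ∧ Cfsg.IsComplIn (M ⊓ Subgroup.centralizer ({x} : Set G)) R (Subgroup.centralizer ({x} : Set G)) ∧
        ∀ g : G, x ∈ M.map (MulAut.conj g).toMonoidHom → ∃! r : G, r ∈ R ∧ M.map (MulAut.conj r).toMonoidHom = M.map (MulAut.conj g).toMonoidHom := by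
  have hx1' : orderOf x ≠ 1 := by
    rw [Ne, orderOf_eq_one_iff]; exact hx1
  obtain ⟨q, hq, hqx⟩ := Nat.exists_prime_and_dvd hx1'
  by_cases hCX : centralizer ((zpowers (x ^ (orderOf x / q)) : Subgroup G) : Set G) ≤ M
  · obtain ⟨hqσ, hXq, hX1, hXx, hXM, hxM, hself, hF⟩ := setup hG hU hM hx hx1 hq hqx
    have hcomplM : IsComplIn (M ⊓ M) ⊥ M := by
      refine ⟨inf_le_left, bot_le, inf_bot_eq _, ?_⟩
      intro m hm
      exact ⟨m, ⟨hm, hm⟩, 1, Subgroup.mem_bot.mpr rfl, (mul_one m).symm⟩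
    obtain ⟨h1, h2, h3⟩ := regular_of_compl M M ⊥ _ x hself hxM hXx hF hCX
      (by
        intro m _
        rw [Subgroup.mem_normalizer_iff]
        intro h
        simp only [Subgroup.mem_bot]
        constructor
        · rintro rfl; group
        · intro h'
          have : h = m⁻¹ * (m * h * m⁻¹) * m := by group
          rw [this, h']; group) hcomplM
    refine ⟨?_, ⊥ ⊓ centralizer ({x} : Set G), h1, h2, h3⟩
    have h4 := relIndex_of_isComplIn h2
    rw [h4, bot_inf_eq, Subgroup.card_bot]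
    exact Nat.coprime_one_right _
  · obtain ⟨N, hN, hCN, -, -, hcompl, h1, h2, h3⟩ := core hG hU hC h17 hSP hM hx hx1 hq hqx hCX
    refine ⟨?_, sigmaCore N ⊓ centralizer ({x} : Set G), h1, h2, h3⟩
    have hHall := (Cfsg.Agent.Lib.Helper23_SigmaHall.sigma_statement hG hU N hN).1
    rw [relIndex_of_isComplIn h2]
    have h5 : Nat.card ↥(M ⊓ centralizer ({x} : Set G)) ∣ Nat.card ↥(M ⊓ N) :=
      Subgroup.card_dvd_of_le (inf_le_inf_left M hCN)
    have h6 : Nat.card ↥(sigmaCore N ⊓ centralizer ({x} : Set G)) ∣ Nat.card ↥(sigmaCore N) :=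
      Subgroup.card_dvd_of_le inf_le_left
    have h7 : (Nat.card ↥(M ⊓ N)).Coprime (Nat.card ↥(sigmaCore N)) := by
      apply Nat.coprime_of_dvd
      intro k hk hk1 hk2
      rw [← relIndex_of_isComplIn' hcompl] at hk1
      exact hHall.2.2 k hk (hHall.2.1 k hk hk2) hk1
    exact Nat.Coprime.coprime_dvd_left h5 (Nat.Coprime.coprime_dvd_right h6 h7)

/-- the frozen statement S1432 (B&G 14.3), as a hypothesis -/
def Hyp1432 (G : Type u) [Group G] : Prop :=
  ∀ (M : Subgroup G), IsCoatom M → ∀ x : G, x ∈ sigmaCore M → x ≠ 1 → ∀ x' : G,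
    x' ∈ M ⊓ centralizer ({x} : Set G) → x' ≠ 1 →
    (∀ p : ℕ, p.Prime → p ∣ orderOf x' → p ∉ sigma M) →
    ((∀ p : ℕ, p.Prime → p ∣ orderOf x' → p ∈ kappa M) ∧ centralizer ({x} : Set G) ≤ M) ∨
      ((∀ p : ℕ, p.Prime → p ∣ orderOf x' → p ∈ tau2 M) ∧
        (∃ L : Subgroup G, IsCoatom L ∧ ∀ p : ℕ, p.Prime → p ∣ orderOf x' → p ∈ sigma L) ∧
        (centralizer ({x'} : Set G) ≤ M ∧
          ∀ L : Subgroup G, IsCoatom L → centralizer ({x'} : Set G) ≤ L → L = M))

/-- `κ(N)` and `τ₂(N)` are disjoint -/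
theorem not_mem_kappa_of_mem_tau2 {N : Subgroup G} {p : ℕ} (h2 : p ∈ tau2 N) : p ∉ kappa N := by
  intro hκ
  have : Fact p.Prime := ⟨h2.1⟩
  exact h2.2.2.2 (pRankLE_one_of_sylow_cyclic p (fun P => (hκ.2.2.2 P).1))

omit [Finite G] in
/-- the index of `U ⊔ N_σ` in `N = U (K N_σ)` divides `|K|` -/
theorem sigmaDecomposition_normal_index {N K U : Subgroup G} (hdec : IsSigmaDecomposition N K U) :
    N ≤ normalizer ((U ⊔ sigmaCore N : Subgroup G) : Set G) ∧
      (U ⊔ sigmaCore N).relIndex N ∣ Nat.card K := by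
  obtain ⟨hUN, hKσN, -, hprod⟩ := hdec.compl
  have hKN : K ≤ N := le_sup_left.trans hKσN
  have hσN : sigmaCore N ≤ N := Cfsg.Agent.Lib.Helper35_BG11a.sigmaCore_le N
  have hNσ : N ≤ normalizer (sigmaCore N : Set G) :=
    Cfsg.Agent.Lib.Helper35_BG11a.le_normalizer_sigmaCore N
  have hHN : U ⊔ sigmaCore N ≤ N := sup_le hUN hσN
  have hKnorm : K ≤ normalizer ((U ⊔ sigmaCore N : Subgroup G) : Set G) := by
    intro k hk
    rw [Cfsg.Agent.Lib.Helper24_CoprimeAction.mem_normalizer_iff_map_conj, Subgroup.map_sup]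
    have h1 := Cfsg.Agent.Lib.Helper24_CoprimeAction.mem_normalizer_iff_map_conj.mp (hdec.normal hk)
    have h2 := Cfsg.Agent.Lib.Helper24_CoprimeAction.mem_normalizer_iff_map_conj.mp (hNσ (hKN hk))
    rw [h1, h2]
  -- decomposition of elements of N
  have hdecomp : ∀ n ∈ N, ∃ h ∈ U ⊔ sigmaCore N, ∃ k ∈ K, n = h * k := by
    intro n hn
    obtain ⟨u, hu, w, hw, rfl⟩ := hprod n hn
    rw [sup_comm] at hw
    obtain ⟨s, hs, k, hk, rfl⟩ := Cfsg.Agent.Lib.Helper24_CoprimeAction.exists_mul_of_mem_sup K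
      (sigmaCore N) (hKN.trans hNσ) hw
    refine ⟨u * s, ?_, k, hk, by group⟩
    exact Subgroup.mul_mem _ (le_sup_left (a := U) hu) (le_sup_right (a := U) hs)
  have hnorm : N ≤ normalizer ((U ⊔ sigmaCore N : Subgroup G) : Set G) := by
    intro n hn
    obtain ⟨h, hh, k, hk, rfl⟩ := hdecomp n hn
    exact Subgroup.mul_mem _ (Subgroup.le_normalizer hh) (hKnorm hk)
  refine ⟨hnorm, ?_⟩
  have hnormal : ((U ⊔ sigmaCore N).subgroupOf N).Normal :=
    (Subgroup.normal_subgroupOf_iff_le_normalizer hHN).mpr hnorm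
  let f : K →* N ⧸ (U ⊔ sigmaCore N).subgroupOf N :=
    (QuotientGroup.mk' _).comp (Subgroup.inclusion hKN)
  have hf : Function.Surjective f := by
    intro c
    obtain ⟨n, rfl⟩ := QuotientGroup.mk'_surjective _ c
    obtain ⟨h, hh, k, hk, hn⟩ := hdecomp n.1 n.2
    refine ⟨⟨k, hk⟩, ?_⟩
    change QuotientGroup.mk' _ (Subgroup.inclusion hKN ⟨k, hk⟩) = QuotientGroup.mk' _ n
    rw [QuotientGroup.mk'_eq_mk']
    refine ⟨⟨k, hKN hk⟩⁻¹ * n, ?_, ?_⟩
    · rw [Subgroup.mem_subgroupOf]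
      simp only [Subgroup.coe_mul, Subgroup.coe_inv]
      rw [hn]
      have e : k⁻¹ * (h * k) = k⁻¹ * h * k := by group
      rw [e]
      exact Cfsg.Agent.Lib.Helper29_HallFusion.conj_inv_mem_of_mem_normalizer (hKnorm hk) hh
    · apply Subtype.ext
      simp
  have := Subgroup.card_dvd_of_surjective f hf
  rwa [← Subgroup.index_eq_card] at this

/-- the statement of S1375 -/
theorem bg144_not_le_statement (hG : IsMinSimpleOddOrder G) (hU : UniqHyp G) (hC : CentHyp G)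
    (h17 : Cfsg.Agent.Lib.Helper79_BG141.Hyp1417 G) (hSP : SigmaPartition G) (h32 : Hyp1432 G)
    (M : Subgroup G) (hM : IsCoatom M) (x : G) (hx : x ∈ Cfsg.sigmaCore M) (hx1 : x ≠ 1) (hxM : ¬ Subgroup.centralizer ({x} : Set G) ≤ M) :
    ∃ N : Subgroup G, (IsCoatom N ∧ Subgroup.centralizer ({x} : Set G) ≤ N) ∧ (∀ L : Subgroup G, IsCoatom L → Subgroup.centralizer ({x} : Set G) ≤ L → L = N) ∧
        Cfsg.sigmaCore N = Cfsg.fittingHallOf N ∧
        Subgroup.centralizer ({x} : Set G) ≤ Subgroup.normalizer ((Cfsg.sigmaCore N ⊓ Subgroup.centralizer ({x} : Set G) : Subgroup G) : Set G) ∧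
        Cfsg.IsComplIn (M ⊓ Subgroup.centralizer ({x} : Set G)) (Cfsg.sigmaCore N ⊓ Subgroup.centralizer ({x} : Set G)) (Subgroup.centralizer ({x} : Set G)) ∧
        Cfsg.IsComplIn (M ⊓ N) (Cfsg.sigmaCore N) N ∧
        ∀ K' U' : Subgroup G, Cfsg.IsSigmaDecomposition N K' U' → U' ≠ ⊥ ∧ x ∈ Cfsg.sigmaA N U' ∧ x ∉ Cfsg.sigmaCore N := by
  have hx1' : orderOf x ≠ 1 := by
    rw [Ne, orderOf_eq_one_iff]; exact hx1
  obtain ⟨q, hq, hqx⟩ := Nat.exists_prime_and_dvd hx1'
  obtain ⟨hqσ, hXq, hX1, hXx, hXM, hxMM, hself, hF⟩ := setup hG hU hM hx hx1 hq hqx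
  have hCX : ¬ centralizer ((zpowers (x ^ (orderOf x / q)) : Subgroup G) : Set G) ≤ M := by
    intro h
    apply hxM
    refine le_trans ?_ h
    intro c hc
    rw [Subgroup.mem_centralizer_iff] at hc ⊢
    intro u hu
    obtain ⟨i, rfl⟩ := Subgroup.mem_zpowers_iff.mp (hXx hu)
    have h1 : Commute x c := hc x rfl
    exact (h1.zpow_left i).eq
  obtain ⟨N, hN, hCN, hτ, hnil, hcompl, h1, h2, h3⟩ :=
    core hG hU hC h17 hSP hM hx hx1 hq hqx hCX
  have hHall := (Cfsg.Agent.Lib.Helper23_SigmaHall.sigma_statement hG hU N hN).1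
  have hxC : x ∈ centralizer ({x} : Set G) := by
    rw [Subgroup.mem_centralizer_iff]; rintro _ rfl; rfl
  have hxN : x ∈ N := hCN hxC
  -- `R ≠ 1`
  have hR : ∃ y ∈ sigmaCore N ⊓ centralizer ({x} : Set G), y ≠ 1 := by
    by_contra hne
    push Not at hne
    apply hxM
    intro c hc
    obtain ⟨a, ha, b, hb, rfl⟩ := h2.2.2.2 c hc
    rw [hne b hb, mul_one]
    exact ha.1
  obtain ⟨y, hy, hy1⟩ := hR
  have hyx : x * y = y * x := (Subgroup.mem_centralizer_iff.mp hy.2) x rfl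
  have hxy : x ∈ N ⊓ centralizer ({y} : Set G) := by
    refine ⟨hxN, ?_⟩
    change x ∈ centralizer ({y} : Set G)
    rw [Subgroup.mem_centralizer_iff]
    rintro _ rfl
    exact hyx.symm
  have hσ : ∀ p : ℕ, p.Prime → p ∣ orderOf x → p ∉ sigma N := by
    intro p hp hpx hpσ
    apply hHall.2.2 p hp hpσ
    rw [relIndex_of_isComplIn' hcompl]
    have h4 : orderOf x ∣ Nat.card ↥(M ⊓ N) :=
      Subgroup.orderOf_dvd_natCard _ ⟨hxMM, hxN⟩
    exact hpx.trans h4
  have hxσ : x ∉ sigmaCore N := by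
    intro h
    have h4 : x ∈ (M ⊓ N) ⊓ sigmaCore N := ⟨⟨hxMM, hxN⟩, h⟩
    rw [hcompl.2.2.1, Subgroup.mem_bot] at h4
    exact hx1 h4
  rcases h32 N hN y hy.1 hy1 x hxy hx1 hσ with ⟨hκ, -⟩ | ⟨hτ2, -, -, huniq⟩
  · exact absurd (hκ q hq hqx) (not_mem_kappa_of_mem_tau2 hτ)
  · refine ⟨N, ⟨hN, hCN⟩, huniq, ?_, h1, h2, hcompl, ?_⟩
    · exact le_antisymm (sigmaCore_le_fittingHallOf hnil hHall) (fittingHallOf_le_sigmaCore hG hN)
    · intro K' U' hdec
      obtain ⟨hnorm, hidx⟩ := sigmaDecomposition_normal_index hdec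
      have hcop : (orderOf x).Coprime ((U' ⊔ sigmaCore N).relIndex N) := by
        apply Nat.Coprime.coprime_dvd_right hidx
        apply Nat.coprime_of_dvd
        intro k hk hk1 hk2
        exact not_mem_kappa_of_mem_tau2 (hτ2 k hk hk1) (hdec.hall.2.1 k hk hk2)
      have hxH : x ∈ U' ⊔ sigmaCore N := mem_of_coprime_relIndex hnorm hxN hcop
      refine ⟨?_, ⟨⟨hxN, y, hy.1, hy1, hyx⟩, hxH⟩, hxσ⟩
      rintro rfl
      rw [bot_sup_eq] at hxH
      exact hxσ hxH

end

end Cfsg.Agent.Lib.Helper29_BG144c
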