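import Mathlib
import Cfsg.Prelude.Def_OddOrderLocal
import Cfsg.Agent.Lib.Helper25_BGHyp
import Cfsg.Agent.Lib.Helper25_BG14a
import Cfsg.Agent.Lib.Helper23_SigmaHall
import Cfsg.Agent.Lib.Helper29_BG144c

/-!
# The cosets `x R(x)`, `x ∈ M_σ^#`, are pairwise disjoint (helper29)

The statement of S1433 from the frozen statements S1375 (`H1375`), the second clause of S1378
(`SigmaDisj`) and S1403 (`UniqHyp`, for the Hall property of `M_σ`), as explicit hypotheses.
-/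

set_option autoImplicit false
open Cfsg

namespace Cfsg.Agent.Lib.Helper29_BG145

open Subgroup Cfsg.Agent.Lib.Helper49_Sigma Cfsg.Agent.Lib.Helper25_BGHyp
  Cfsg.Agent.Lib.Helper29_BG144c

universe u

variable {G : Type u} [Group G]

/-! ### elements whose orders involve disjoint sets of primes -/

theorem prime_dvd_orderOf_mul {a b : G} (hc : Commute a b) {p : ℕ} (hp : p.Prime)
    (h : p ∣ orderOf (a * b)) : p ∣ orderOf a ∨ p ∣ orderOf b := by
  have h1 : orderOf (a * b) ∣ Nat.lcm (orderOf a) (orderOf b) := hc.orderOf_mul_dvd_lcm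
  have h2 : Nat.lcm (orderOf a) (orderOf b) ∣ orderOf a * orderOf b := Nat.lcm_dvd_mul _ _
  exact (Nat.Prime.dvd_mul hp).mp (h.trans (h1.trans h2))

theorem eq_one_of_forall_prime_not_dvd {a : G} (h : ∀ p : ℕ, p.Prime → ¬ p ∣ orderOf a) :
    a = 1 := by
  rw [← orderOf_eq_one_iff]
  by_contra hne
  obtain ⟨p, hp, hpa⟩ := Nat.exists_prime_and_dvd hne
  exact h p hp hpa

/-- if `a * b = c * d`, all commuting, `a, d` are `π`-elements and `b, c` are `π'`-elements,
then `a = d`... in the form used below: `a b = c d`, `a, c ∈ π`, `b, d ∈ π'` gives `a = c`. -/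
theorem eq_of_mul_eq_mul_of_primes {a b c d : G} (π : Set ℕ)
    (hac : Commute a c) (hbd : Commute b d) (h : a * b = c * d)
    (ha : ∀ p : ℕ, p.Prime → p ∣ orderOf a → p ∈ π) (hc : ∀ p : ℕ, p.Prime → p ∣ orderOf c → p ∈ π)
    (hb : ∀ p : ℕ, p.Prime → p ∣ orderOf b → p ∉ π) (hd : ∀ p : ℕ, p.Prime → p ∣ orderOf d → p ∉ π) :
    a = c := by
  -- c⁻¹ * a = d * b⁻¹
  have h1 : c⁻¹ * a = d * b⁻¹ := by
    have : c⁻¹ * (a * b) * b⁻¹ = c⁻¹ * (c * d) * b⁻¹ := by rw [h]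
    calc c⁻¹ * a = c⁻¹ * (a * b) * b⁻¹ := by group
      _ = c⁻¹ * (c * d) * b⁻¹ := this
      _ = d * b⁻¹ := by group
  have h2 : c⁻¹ * a = 1 := by
    apply eq_one_of_forall_prime_not_dvd
    intro p hp hpd
    have h3 : p ∣ orderOf c⁻¹ ∨ p ∣ orderOf a :=
      prime_dvd_orderOf_mul (hac.symm.inv_left) hp hpd
    have hπ : p ∈ π := by
      rcases h3 with h3 | h3
      · rw [orderOf_inv] at h3; exact hc p hp h3
      · exact ha p hp h3
    rw [h1] at hpd
    have h4 : p ∣ orderOf d ∨ p ∣ orderOf b⁻¹ :=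
      prime_dvd_orderOf_mul (hbd.symm.inv_right) hp hpd
    rcases h4 with h4 | h4
    · exact hd p hp h4 hπ
    · rw [orderOf_inv] at h4; exact hb p hp h4 hπ
  calc a = c * (c⁻¹ * a) := by group
    _ = c := by rw [h2, mul_one]

/-! ### the data attached to `x ∈ M_σ^#` -/

section Finite

variable [Finite G]

omit [Finite G] in
/-- the data of `R(x)`: either `R(x) = 1`, or `R(x) = C_{L_σ}(x)` for the unique maximal subgroup
`L` containing `C_G(x)`, with the properties of `L` given by S1375. -/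
theorem supportR_spec (h75 : H1375 G) {M : Subgroup G} (hM : IsCoatom M) {x : G}
    (hx : x ∈ sigmaCore M) (hx1 : x ≠ 1) :
    supportR M x = ⊥ ∨ ∃ L : Subgroup G, IsCoatom L ∧ centralizer ({x} : Set G) ≤ L ∧
      ¬ centralizer ({x} : Set G) ≤ M ∧
      (∀ L' : Subgroup G, IsCoatom L' → centralizer ({x} : Set G) ≤ L' → L' = L) ∧
      supportR M x = sigmaCore L ⊓ centralizer ({x} : Set G) ∧
      IsComplIn (M ⊓ L) (sigmaCore L) L := by
  by_cases hC : centralizer ({x} : Set G) ≤ M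
  · left
    unfold supportR
    rw [dif_neg]
    intro h
    exact h.1 hC
  · right
    obtain ⟨L, ⟨hL, hCL⟩, huniq, hF, -, -, hcompl, -⟩ := h75 M hM x hx hx1 hC
    have hex : ∃! L' : Subgroup G, IsCoatom L' ∧ centralizer ({x} : Set G) ≤ L' :=
      ⟨L, ⟨hL, hCL⟩, fun L' h => huniq L' h.1 h.2⟩
    refine ⟨L, hL, hCL, hC, huniq, ?_, hcompl⟩
    have hcond : ¬ centralizer ({x} : Set G) ≤ M ∧
        ∃! L' : Subgroup G, IsCoatom L' ∧ centralizer ({x} : Set G) ≤ L' := ⟨hC, hex⟩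
    unfold supportR
    rw [dif_pos hcond]
    have hch := Classical.choose_spec hcond.2.exists
    have : Classical.choose hcond.2.exists = L := huniq _ hch.1 hch.2
    rw [this, hF]

/-- primes of the order of `x ∈ M_σ` lie in `σ(M)` -/
theorem prime_mem_sigma_of_dvd_orderOf {M : Subgroup G} {x : G} (hx : x ∈ sigmaCore M) {p : ℕ}
    (hp : p.Prime) (h : p ∣ orderOf x) : p ∈ sigma M := by
  apply Cfsg.Agent.Lib.Helper49_SigmaDisjoint.mem_sigma_of_dvd_card_sigmaCore M hp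
  exact h.trans (Subgroup.orderOf_dvd_natCard _ hx)

/-- for `x ∈ M_σ^#` with `C_G(x) ≤ L` and `M ∩ L` a complement of `L_σ` in `L`: no prime of `o(x)`
lies in `σ(L)`, and `σ(M) ∩ σ(L) = ∅`. -/
theorem pair_data (hG : IsMinSimpleOddOrder G) (hU : UniqHyp G) (hSD : SigmaDisj G)
    {M L : Subgroup G} (hM : IsCoatom M) (hL : IsCoatom L) {x : G} (hx : x ∈ sigmaCore M)
    (hx1 : x ≠ 1) (hCL : centralizer ({x} : Set G) ≤ L)
    (hcompl : IsComplIn (M ⊓ L) (sigmaCore L) L) :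
    (∀ p : ℕ, p.Prime → p ∣ orderOf x → p ∉ sigma L) ∧ ∀ p ∈ sigma L, p ∉ sigma M := by
  have hHall := (Cfsg.Agent.Lib.Helper23_SigmaHall.sigma_statement hG hU L hL).1
  have hxC : x ∈ centralizer ({x} : Set G) := by
    rw [Subgroup.mem_centralizer_iff]; rintro _ rfl; rfl
  have hxML : x ∈ M ⊓ L := ⟨Cfsg.Agent.Lib.Helper35_BG11a.sigmaCore_le M hx, hCL hxC⟩
  have h1 : ∀ p : ℕ, p.Prime → p ∣ orderOf x → p ∉ sigma L := by
    intro p hp hpx hpσ
    apply hHall.2.2 p hp hpσ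
    rw [relIndex_of_isComplIn' hcompl]
    exact hpx.trans (Subgroup.orderOf_dvd_natCard _ hxML)
  refine ⟨h1, ?_⟩
  intro q hqL hqM
  obtain ⟨g, hg⟩ := hSD M L hM hL ⟨q, hqM, hqL⟩
  have hσ : sigma L = sigma M := by
    rw [hg]
    exact Cfsg.Agent.Lib.Helper25_BG14a.sigma_cj g M
  have hx1' : orderOf x ≠ 1 := by
    rw [Ne, orderOf_eq_one_iff]; exact hx1
  obtain ⟨p, hp, hpx⟩ := Nat.exists_prime_and_dvd hx1'
  apply h1 p hp hpx
  rw [hσ]
  exact prime_mem_sigma_of_dvd_orderOf hx hp hpx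

/-- the data attached to an element `r ∈ R(x)` -/
theorem coset_data (hG : IsMinSimpleOddOrder G) (hU : UniqHyp G) (hSD : SigmaDisj G)
    (h75 : H1375 G) {M : Subgroup G} (hM : IsCoatom M) {x : G} (hx : x ∈ sigmaCore M)
    (hx1 : x ≠ 1) {r : G} (hr : r ∈ supportR M x) :
    Commute x r ∧ ∃ ρ : Set ℕ, (∀ p : ℕ, p.Prime → p ∣ orderOf r → p ∈ ρ) ∧
      (∀ p ∈ ρ, p ∉ sigma M) ∧
      (r ≠ 1 → ∃ L : Subgroup G, IsCoatom L ∧ centralizer ({x} : Set G) ≤ L ∧
        (∀ L' : Subgroup G, IsCoatom L' → centralizer ({x} : Set G) ≤ L' → L' = L) ∧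
        r ∈ sigmaCore L ∧ ρ = sigma L) := by
  rcases supportR_spec h75 hM hx hx1 with h0 | ⟨L, hL, hCL, -, huniq, hR, hcompl⟩
  · rw [h0, Subgroup.mem_bot] at hr
    subst hr
    refine ⟨Commute.one_right x, ∅, ?_, ?_, ?_⟩
    · intro p hp hp1
      rw [orderOf_one] at hp1
      exact absurd (Nat.dvd_one.mp hp1) hp.one_lt.ne'
    · intro p hp
      exact absurd hp (Set.notMem_empty p)
    · intro h
      exact absurd rfl h
  · rw [hR] at hr
    obtain ⟨-, h2⟩ := pair_data hG hU hSD hM hL hx hx1 hCL hcompl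
    refine ⟨?_, sigma L, ?_, h2, ?_⟩
    · exact (Subgroup.mem_centralizer_iff.mp hr.2) x rfl
    · intro p hp hpr
      exact prime_mem_sigma_of_dvd_orderOf hr.1 hp hpr
    · intro _
      exact ⟨L, hL, hCL, huniq, hr.1, rfl⟩

/-- the statement of S1433 -/
theorem statement_S1433 (hG : IsMinSimpleOddOrder G) (hU : UniqHyp G) (hSD : SigmaDisj G)
    (h75 : H1375 G)
    (M N : Subgroup G) (hM : IsCoatom M) (hN : IsCoatom N) (x y : G) (hx : x ∈ Cfsg.sigmaCore M) (hy : y ∈ Cfsg.sigmaCore N)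
    (hx1 : x ≠ 1) (hy1 : y ≠ 1) (hxy : x ≠ y) :
    ∀ r ∈ Cfsg.supportR M x, ∀ s ∈ Cfsg.supportR N y, x * r ≠ y * s := by
  intro r hr s hs hz
  obtain ⟨hxr, ρ, hrρ, hρM, hρL⟩ := coset_data hG hU hSD h75 hM hx hx1 hr
  obtain ⟨hys, ρ', hsρ, hρN, hρL'⟩ := coset_data hG hU hSD h75 hN hy hy1 hs
  have hxσ : ∀ p : ℕ, p.Prime → p ∣ orderOf x → p ∈ sigma M :=
    fun p hp h => prime_mem_sigma_of_dvd_orderOf hx hp h
  have hyσ : ∀ p : ℕ, p.Prime → p ∣ orderOf y → p ∈ sigma N :=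
    fun p hp h => prime_mem_sigma_of_dvd_orderOf hy hp h
  have hcop1 : (orderOf x).Coprime (orderOf r) := by
    apply Nat.coprime_of_dvd
    intro p hp h1 h2
    exact hρM p (hrρ p hp h2) (hxσ p hp h1)
  have hcop2 : (orderOf y).Coprime (orderOf s) := by
    apply Nat.coprime_of_dvd
    intro p hp h1 h2
    exact hρN p (hsρ p hp h2) (hyσ p hp h1)
  -- everything is a power of `z = x * r`
  obtain ⟨n, hn⟩ := Cfsg.Agent.Lib.Helper25_BG14a.exists_pow_mul_eq_left hxr hcop1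
  obtain ⟨m, hm⟩ := Cfsg.Agent.Lib.Helper25_BG14a.exists_pow_mul_eq_right hxr hcop1
  obtain ⟨k, hk⟩ := Cfsg.Agent.Lib.Helper25_BG14a.exists_pow_mul_eq_left hys hcop2
  obtain ⟨l, hl⟩ := Cfsg.Agent.Lib.Helper25_BG14a.exists_pow_mul_eq_right hys hcop2
  rw [← hz] at hk hl
  set z := x * r with hzdef
  have hcomm : ∀ i j : ℕ, Commute (z ^ i) (z ^ j) := fun i j => (Commute.refl z).pow_pow i j
  have hxy' : Commute x y := by rw [← hn, ← hk]; exact hcomm n k
  have hxs : Commute x s := by rw [← hn, ← hl]; exact hcomm n l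
  have hry : Commute r y := by rw [← hm, ← hk]; exact hcomm m k
  have hrs : Commute r s := by rw [← hm, ← hl]; exact hcomm m l
  have hzx : orderOf x ∣ orderOf z := by rw [← hn]; exact orderOf_pow_dvd n
  have hzy : orderOf y ∣ orderOf z := by rw [← hk]; exact orderOf_pow_dvd k
  by_cases hcase : ∃ p : ℕ, p.Prime ∧ p ∣ orderOf x ∧ p ∣ orderOf y
  · -- common prime: `N` is conjugate to `M` and `x = y`
    obtain ⟨p, hp, hpx, hpy⟩ := hcase
    obtain ⟨g, hg⟩ := hSD M N hM hN ⟨p, hxσ p hp hpx, hyσ p hp hpy⟩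
    have hσ : sigma N = sigma M := by
      rw [hg]
      exact Cfsg.Agent.Lib.Helper25_BG14a.sigma_cj g M
    apply hxy
    refine eq_of_mul_eq_mul_of_primes (sigma M) hxy' hrs hz hxσ ?_ ?_ ?_
    · intro q hq h; rw [← hσ]; exact hyσ q hq h
    · intro q hq h; exact hρM q (hrρ q hq h)
    · intro q hq h; rw [← hσ]; exact hρN q (hsρ q hq h)
  · push Not at hcase
    have hx1' : orderOf x ≠ 1 := by
      rw [Ne, orderOf_eq_one_iff]; exact hx1
    have hy1' : orderOf y ≠ 1 := by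
      rw [Ne, orderOf_eq_one_iff]; exact hy1
    obtain ⟨p, hp, hpx⟩ := Nat.exists_prime_and_dvd hx1'
    obtain ⟨q, hq, hqy⟩ := Nat.exists_prime_and_dvd hy1'
    -- `p ∣ o(s)`
    have hps : p ∣ orderOf s := by
      have h1 : p ∣ orderOf (y * s) := by rw [← hz]; exact hpx.trans hzx
      rcases prime_dvd_orderOf_mul hys hp h1 with h2 | h2
      · exact absurd h2 (hcase p hp hpx)
      · exact h2
    have hqr : q ∣ orderOf r := by
      have h1 : q ∣ orderOf (x * r) := hqy.trans hzy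
      rcases prime_dvd_orderOf_mul hxr hq h1 with h2 | h2
      · exact absurd hqy (hcase q hq h2)
      · exact h2
    have hs1 : s ≠ 1 := by
      rintro rfl
      rw [orderOf_one] at hps
      exact hp.one_lt.ne' (Nat.dvd_one.mp hps)
    have hr1 : r ≠ 1 := by
      rintro rfl
      rw [orderOf_one] at hqr
      exact hq.one_lt.ne' (Nat.dvd_one.mp hqr)
    obtain ⟨L, hL, hCL, huniq, hrL, rfl⟩ := hρL hr1
    obtain ⟨L', hL', hCL', huniq', hsL', rfl⟩ := hρL' hs1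
    -- `L' ~ M`, `L ~ N`
    obtain ⟨g, hg⟩ := hSD M L' hM hL' ⟨p, hxσ p hp hpx, hsρ p hp hps⟩
    have hσ' : sigma L' = sigma M := by
      rw [hg]
      exact Cfsg.Agent.Lib.Helper25_BG14a.sigma_cj g M
    obtain ⟨g', hg'⟩ := hSD N L hN hL ⟨q, hyσ q hq hqy, hrρ q hq hqr⟩
    have hσ : sigma L = sigma N := by
      rw [hg']
      exact Cfsg.Agent.Lib.Helper25_BG14a.sigma_cj g' N
    -- `x = s` and `r = y`
    have hz' : x * r = s * y := by rw [← hzdef, hz]; exact hys.eq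
    have hxs' : x = s := by
      refine eq_of_mul_eq_mul_of_primes (sigma M) hxs hry hz' hxσ ?_ ?_ ?_
      · intro t ht h; rw [← hσ']; exact hsρ t ht h
      · intro t ht h; exact hρM t (hrρ t ht h)
      · intro t ht h; exact hρM t (by rw [hσ]; exact hyσ t ht h)
    have hry' : r = y := by
      rw [← hxs'] at hz'
      exact mul_left_cancel hz'
    -- `L ≠ L'`
    have hne : L ≠ L' := by
      intro h
      apply hρM p _ (hxσ p hp hpx)
      rw [h, hσ']
      exact hxσ p hp hpx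
    have hyL : y ∈ sigmaCore L := by rw [← hry']; exact hrL
    have hxL' : x ∈ sigmaCore L' := by rw [hxs']; exact hsL'
    have hCyL : ¬ centralizer ({y} : Set G) ≤ L := fun h => hne (huniq' L hL h)
    obtain ⟨L₃, ⟨hL₃, hCL₃⟩, -, -, -, -, hcompl₃, -⟩ := h75 L hL y hyL hy1 hCyL
    have hL₃' : L₃ = L' := huniq' L₃ hL₃ hCL₃
    rw [hL₃'] at hcompl₃
    have hxC : x ∈ centralizer ({x} : Set G) := by
      rw [Subgroup.mem_centralizer_iff]; rintro _ rfl; rfl
    have h4 : x ∈ (L ⊓ L') ⊓ sigmaCore L' :=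
      ⟨⟨hCL hxC, Cfsg.Agent.Lib.Helper35_BG11a.sigmaCore_le L' hxL'⟩, hxL'⟩
    rw [hcompl₃.2.2.1, Subgroup.mem_bot] at h4
    exact hx1 h4

end Finite

end Cfsg.Agent.Lib.Helper29_BG145
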