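import Mathlib
import Cfsg.Prelude.Def_OddOrderLocal

/-!
# Transport of the Bender–Glauberman vocabulary along a group isomorphism  (helper4)

For `e : G ≃* G'` and `M : Subgroup G` write `mp e M = M.map e.toMonoidHom`.  With `e = MulAut.conj g`
this is the conjugate `gMg⁻¹` in the form used by the frozen statements.  We show that
`σ`, `κ`, `M_σ`, `M_F`, Hall subgroups, complements, the standard factorisation, `R(x)` and
the sets `M̃` are all compatible with `mp e`.
-/

set_option autoImplicit false
open Cfsg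

namespace Cfsg.Agent.Lib.Helper4_BGConj

open Subgroup

universe u v

variable {G : Type u} {G' : Type v} [Group G] [Group G']

/-- image of a subgroup under an isomorphism -/
abbrev mp (e : G ≃* G') (M : Subgroup G) : Subgroup G' := M.map e.toMonoidHom

theorem mem_mp {e : G ≃* G'} {M : Subgroup G} {y : G'} : y ∈ mp e M ↔ e.symm y ∈ M := by
  constructor
  · rintro ⟨x, hx, rfl⟩
    simpa using hx
  · intro h
    exact ⟨e.symm y, h, by simp⟩

theorem apply_mem_mp {e : G ≃* G'} {M : Subgroup G} {x : G} : e x ∈ mp e M ↔ x ∈ M := by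
  rw [mem_mp]; simp

theorem card_mp (e : G ≃* G') (M : Subgroup G) : Nat.card ↥(mp e M) = Nat.card ↥M :=
  Subgroup.card_map_of_injective e.injective

theorem mp_symm_mp (e : G ≃* G') (M : Subgroup G) : mp e.symm (mp e M) = M := by
  ext x
  rw [mem_mp, mem_mp]; simp

theorem mp_mp_symm (e : G ≃* G') (M : Subgroup G') : mp e (mp e.symm M) = M := by
  ext x
  rw [mem_mp, mem_mp]; simp

theorem mp_le_mp {e : G ≃* G'} {A B : Subgroup G} : mp e A ≤ mp e B ↔ A ≤ B :=
  Subgroup.map_le_map_iff_of_injective e.injective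

theorem mp_injective (e : G ≃* G') : Function.Injective (mp e) :=
  Subgroup.map_injective e.injective

theorem mp_inf (e : G ≃* G') (A B : Subgroup G) : mp e (A ⊓ B) = mp e A ⊓ mp e B :=
  Subgroup.map_inf A B e.toMonoidHom e.injective

theorem mp_sup (e : G ≃* G') (A B : Subgroup G) : mp e (A ⊔ B) = mp e A ⊔ mp e B :=
  Subgroup.map_sup A B e.toMonoidHom

theorem mp_bot (e : G ≃* G') : mp e (⊥ : Subgroup G) = ⊥ := Subgroup.map_bot _

theorem mp_eq_bot_iff {e : G ≃* G'} {A : Subgroup G} : mp e A = ⊥ ↔ A = ⊥ :=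
  Subgroup.map_eq_bot_iff_of_injective A e.injective

theorem mp_top (e : G ≃* G') : mp e (⊤ : Subgroup G) = ⊤ := by
  ext x; rw [mem_mp]; simp

theorem mp_eq_top_iff {e : G ≃* G'} {A : Subgroup G} : mp e A = ⊤ ↔ A = ⊤ := by
  constructor
  · intro h
    apply mp_injective e
    rw [h, mp_top]
  · rintro rfl; exact mp_top e

theorem mp_commutator (e : G ≃* G') (A B : Subgroup G) : mp e ⁅A, B⁆ = ⁅mp e A, mp e B⁆ :=
  Subgroup.map_commutator A B e.toMonoidHom

theorem centralizer_image (e : G ≃* G') (S : Set G) :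
    centralizer (e '' S) = mp e (centralizer S) := by
  ext y
  rw [mem_mp, mem_centralizer_iff, mem_centralizer_iff]
  constructor
  · intro h s hs
    have := h (e s) ⟨s, hs, rfl⟩
    apply e.injective
    simpa using this
  · rintro h _ ⟨s, hs, rfl⟩
    have := congrArg e (h s hs)
    simpa using this

theorem centralizer_mp (e : G ≃* G') (A : Subgroup G) :
    centralizer ((mp e A : Subgroup G') : Set G') = mp e (centralizer (A : Set G)) := by
  rw [← centralizer_image]
  congr 1

theorem centralizer_singleton (e : G ≃* G') (x : G) :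
    centralizer ({e x} : Set G') = mp e (centralizer ({x} : Set G)) := by
  rw [← centralizer_image, Set.image_singleton]

theorem normalizer_mp (e : G ≃* G') (A : Subgroup G) :
    normalizer ((mp e A : Subgroup G') : Set G') = mp e (normalizer (A : Set G)) := by
  ext y
  rw [mem_mp, mem_normalizer_iff, mem_normalizer_iff]
  constructor
  · intro h a
    have := h (e a)
    rw [apply_mem_mp, mem_mp] at this
    simpa using this
  · intro h b
    have := h (e.symm b)
    rw [mem_mp, mem_mp]
    simpa using this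

theorem index_mp (e : G ≃* G') (A : Subgroup G) : (mp e A).index = A.index :=
  Subgroup.index_map_equiv A e

theorem relIndex_mp (e : G ≃* G') (A B : Subgroup G) :
    (mp e A).relIndex (mp e B) = A.relIndex B :=
  Subgroup.relIndex_map_map_of_injective A B e.injective

theorem isCoatom_mp {e : G ≃* G'} {M : Subgroup G} (hM : IsCoatom M) : IsCoatom (mp e M) := by
  constructor
  · intro h
    exact hM.1 (mp_eq_top_iff.mp h)
  · intro L hL
    have h1 : M < mp e.symm L := by
      have := (Subgroup.map_lt_map_iff_of_injective (f := e.symm.toMonoidHom) e.symm.injective).mpr hL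
      rw [show map e.symm.toMonoidHom (mp e M) = M from mp_symm_mp e M] at this
      exact this
    have h2 := hM.2 _ h1
    have h3 : mp e (mp e.symm L) = mp e ⊤ := by rw [h2]
    rwa [mp_mp_symm, mp_top] at h3

/-- the isomorphism `↥M ≃* ↥(mp e M)` -/
noncomputable abbrev sub (e : G ≃* G') (M : Subgroup G) : ↥M ≃* ↥(mp e M) := e.subgroupMap M

theorem sub_coe (e : G ≃* G') (M : Subgroup G) (m : ↥M) : ((sub e M m : ↥(mp e M)) : G') = e (m : G) := rfl

theorem map_subtype_mp (e : G ≃* G') (M : Subgroup G) (A : Subgroup ↥M) :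
    (A.map (sub e M).toMonoidHom).map (mp e M).subtype = mp e (A.map M.subtype) := by
  ext y
  constructor
  · rintro ⟨_, ⟨a, ha, rfl⟩, rfl⟩
    exact ⟨(a : G), ⟨a, ha, rfl⟩, rfl⟩
  · rintro ⟨_, ⟨a, ha, rfl⟩, rfl⟩
    exact ⟨sub e M a, ⟨a, ha, rfl⟩, rfl⟩

section piCore

variable {H : Type u} {H' : Type v} [Group H] [Group H']

theorem piCore_map (f : H ≃* H') (π : Set ℕ) : piCore π H' = mp f (piCore π H) := by
  apply le_antisymm
  · apply sSup_le
    rintro N ⟨hN, hNπ⟩
    have h1 : mp f.symm N ≤ piCore π H := by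
      apply le_sSup
      refine ⟨?_, ?_⟩
      · exact Subgroup.Normal.map hN f.symm.toMonoidHom f.symm.surjective
      · intro p hp hd
        rw [card_mp] at hd
        exact hNπ p hp hd
    have := (mp_le_mp (e := f)).mpr h1
    rwa [mp_mp_symm] at this
  · have h1 : piCore π H ≤ mp f.symm (piCore π H') := by
      apply sSup_le
      rintro N ⟨hN, hNπ⟩
      have h2 : mp f N ≤ piCore π H' := by
        apply le_sSup
        refine ⟨Subgroup.Normal.map hN f.toMonoidHom f.surjective, ?_⟩
        intro p hp hd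
        rw [card_mp] at hd
        exact hNπ p hp hd
      have := (mp_le_mp (e := f.symm)).mpr h2
      rwa [mp_symm_mp] at this
    have := (mp_le_mp (e := f)).mpr h1
    rwa [mp_mp_symm] at this

theorem fittingHall_aux {K : Type*} {K' : Type*} [Group K] [Group K'] (g : K ≃* K') (N : Subgroup K)
    (h : N.Normal ∧ Group.IsNilpotent N ∧ (Nat.card N).Coprime N.index) :
    (mp g N).Normal ∧ Group.IsNilpotent ↥(mp g N) ∧ (Nat.card ↥(mp g N)).Coprime (mp g N).index := by
  obtain ⟨h1, h2, h3⟩ := h
  refine ⟨Subgroup.Normal.map h1 g.toMonoidHom g.surjective, ?_, ?_⟩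
  · exact (Group.isNilpotent_congr (sub g N)).mp h2
  · rw [card_mp, index_mp]; exact h3

theorem fittingHall_map (f : H ≃* H') : fittingHall H' = mp f (fittingHall H) := by
  apply le_antisymm
  · apply sSup_le
    intro N hN
    have h1 : mp f.symm N ≤ fittingHall H := le_sSup (fittingHall_aux f.symm N hN)
    have := (mp_le_mp (e := f)).mpr h1
    rwa [mp_mp_symm] at this
  · have h1 : fittingHall H ≤ mp f.symm (fittingHall H') := by
      apply sSup_le
      intro N hN
      have h2 : mp f N ≤ fittingHall H' := le_sSup (fittingHall_aux f N hN)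
      have := (mp_le_mp (e := f.symm)).mpr h2
      rwa [mp_symm_mp] at this
    have := (mp_le_mp (e := f)).mpr h1
    rwa [mp_mp_symm] at this

end piCore

/-! ### `σ(M)`, `M_σ`, `κ(M)`, `M_F` -/

/-- transport of a Sylow subgroup along an isomorphism -/
noncomputable def sylowMap {p : ℕ} {H : Type*} {H' : Type*} [Group H] [Group H'] (f : H ≃* H')
    (P : Sylow p H) : Sylow p H' where
  toSubgroup := (P : Subgroup H).map f.toMonoidHom
  isPGroup' := P.isPGroup'.map f.toMonoidHom
  is_maximal' := by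
    intro Q hQ hle
    have h1 : (P : Subgroup H) ≤ mp f.symm Q := by
      have := Subgroup.map_mono (f := f.symm.toMonoidHom) hle
      rwa [show map f.symm.toMonoidHom (map f.toMonoidHom (P : Subgroup H)) = (P : Subgroup H) from
        mp_symm_mp f _] at this
    have h2 := P.is_maximal' (hQ.map f.symm.toMonoidHom) h1
    have h3 : mp f (mp f.symm Q) = Q := mp_mp_symm f Q
    rw [← h3]
    show map f.toMonoidHom (mp f.symm Q) = map f.toMonoidHom (P : Subgroup H)
    rw [← h2]

theorem sylowMap_coe {p : ℕ} {H : Type*} {H' : Type*} [Group H] [Group H'] (f : H ≃* H')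
    (P : Sylow p H) : ((sylowMap f P : Sylow p H') : Subgroup H') = mp f (P : Subgroup H) := rfl

theorem sylowMap_symm {p : ℕ} {H : Type*} {H' : Type*} [Group H] [Group H'] (f : H ≃* H')
    (Q : Sylow p H') : sylowMap f (sylowMap f.symm Q) = Q := by
  apply Sylow.ext
  rw [sylowMap_coe, sylowMap_coe, mp_mp_symm]

theorem sigma_subset (e : G ≃* G') (M : Subgroup G) : sigma M ⊆ sigma (mp e M) := by
  rintro p ⟨hp, hd, P, hP⟩
  refine ⟨hp, by rwa [card_mp], sylowMap (sub e M) P, ?_⟩
  rw [sylowMap_coe, map_subtype_mp, normalizer_mp, mp_le_mp]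
  exact hP

theorem sigma_mp (e : G ≃* G') (M : Subgroup G) : sigma (mp e M) = sigma M := by
  apply Set.Subset.antisymm
  · have := sigma_subset e.symm (mp e M)
    rwa [mp_symm_mp] at this
  · exact sigma_subset e M

theorem sigmaCore_mp (e : G ≃* G') (M : Subgroup G) : sigmaCore (mp e M) = mp e (sigmaCore M) := by
  unfold sigmaCore
  rw [sigma_mp, piCore_map (sub e M), map_subtype_mp]

theorem fittingHallOf_mp (e : G ≃* G') (M : Subgroup G) : fittingHallOf (mp e M) = mp e (fittingHallOf M) := by
  unfold fittingHallOf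
  rw [fittingHall_map (sub e M), map_subtype_mp]

theorem kappa_subset (e : G ≃* G') (M : Subgroup G) : kappa M ⊆ kappa (mp e M) := by
  rintro p ⟨hp, hd, hns, hP⟩
  refine ⟨hp, by rwa [card_mp], by rwa [sigma_mp], ?_⟩
  intro Q
  obtain ⟨hc, x, hx, hx1, y, hy, hy1, hxy⟩ := hP (sylowMap (sub e M).symm Q)
  rw [← sylowMap_symm (sub e M) Q]
  refine ⟨?_, sub e M x, ?_, ?_, e y, ?_, ?_, ?_⟩
  · have f : ↥((sylowMap (sub e M).symm Q : Sylow p ↥M) : Subgroup ↥M) ≃*
        ↥((sylowMap (sub e M) (sylowMap (sub e M).symm Q) : Sylow p ↥(mp e M)) : Subgroup ↥(mp e M)) :=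
      sub (sub e M) _
    exact isCyclic_of_surjective f f.surjective
  · show sub e M x ∈ ((sylowMap (sub e M) (sylowMap (sub e M).symm Q) : Sylow p ↥(mp e M)) :
        Subgroup ↥(mp e M))
    rw [sylowMap_coe]
    exact apply_mem_mp.mpr hx
  · intro h
    apply hx1
    have := congrArg (sub e M).symm h
    simpa using this
  · rw [sigmaCore_mp]; exact apply_mem_mp.mpr hy
  · intro h
    apply hy1
    have := congrArg e.symm h
    simpa using this
  · rw [sub_coe, ← map_mul, ← map_mul, hxy]

theorem kappa_mp (e : G ≃* G') (M : Subgroup G) : kappa (mp e M) = kappa M := by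
  apply Set.Subset.antisymm
  · have := kappa_subset e.symm (mp e M)
    rwa [mp_symm_mp] at this
  · exact kappa_subset e M

/-! ### Hall subgroups, complements, the standard factorisation -/

theorem isPiHallOf_mp {e : G ≃* G'} {π : Set ℕ} {H M : Subgroup G} (h : IsPiHallOf π H M) :
    IsPiHallOf π (mp e H) (mp e M) := by
  obtain ⟨h1, h2, h3⟩ := h
  refine ⟨mp_le_mp.mpr h1, ?_, ?_⟩
  · intro p hp hd; rw [card_mp] at hd; exact h2 p hp hd
  · intro p hp hpπ; rw [relIndex_mp]; exact h3 p hp hpπ

theorem isPiHall_mp {e : G ≃* G'} {π : Set ℕ} {H : Subgroup G} (h : IsPiHall π H) :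
    IsPiHall π (mp e H) := by
  obtain ⟨h2, h3⟩ := h
  refine ⟨?_, ?_⟩
  · intro p hp hd; rw [card_mp] at hd; exact h2 p hp hd
  · intro p hp hpπ; rw [index_mp]; exact h3 p hp hpπ

theorem isComplIn_mp {e : G ≃* G'} {A B M : Subgroup G} (h : IsComplIn A B M) :
    IsComplIn (mp e A) (mp e B) (mp e M) := by
  obtain ⟨h1, h2, h3, h4⟩ := h
  refine ⟨mp_le_mp.mpr h1, mp_le_mp.mpr h2, ?_, ?_⟩
  · rw [← mp_inf, h3, mp_bot]
  · rintro _ ⟨m, hm, rfl⟩
    obtain ⟨a, ha, b, hb, rfl⟩ := h4 m hm
    exact ⟨e a, apply_mem_mp.mpr ha, e b, apply_mem_mp.mpr hb, by simp⟩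

theorem isSigmaDecomposition_mp {e : G ≃* G'} {M K U : Subgroup G} (h : IsSigmaDecomposition M K U) :
    IsSigmaDecomposition (mp e M) (mp e K) (mp e U) := by
  refine ⟨?_, ?_, ?_, ?_⟩
  · have := h.cyclic
    exact isCyclic_of_surjective (sub e K) (sub e K).surjective
  · have := isPiHallOf_mp (e := e) h.hall
    rwa [← kappa_mp e M] at this
  · have := isComplIn_mp (e := e) h.compl
    rwa [mp_sup, ← sigmaCore_mp] at this
  · rw [normalizer_mp, mp_le_mp]; exact h.normal

/-- the inverse direction, for conjugation-type use -/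
theorem isSigmaDecomposition_of_mp {e : G ≃* G'} {M K U : Subgroup G}
    (h : IsSigmaDecomposition (mp e M) (mp e K) (mp e U)) : IsSigmaDecomposition M K U := by
  have := isSigmaDecomposition_mp (e := e.symm) h
  rwa [mp_symm_mp, mp_symm_mp, mp_symm_mp] at this

/-! ### `R(x)` and the sets `M̃` -/

theorem supportR_eq_bot_of_le {M : Subgroup G} {x : G} (h : centralizer ({x} : Set G) ≤ M) :
    supportR M x = ⊥ := by
  unfold supportR
  rw [dif_neg]
  intro h'
  exact h'.1 h

theorem supportR_eq_of_unique {M L : Subgroup G} {x : G} (h : ¬ centralizer ({x} : Set G) ≤ M)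
    (hL : IsCoatom L) (hxL : centralizer ({x} : Set G) ≤ L)
    (huniq : ∀ L' : Subgroup G, IsCoatom L' → centralizer ({x} : Set G) ≤ L' → L' = L) :
    supportR M x = fittingHallOf L ⊓ centralizer ({x} : Set G) := by
  have hex : ∃! L : Subgroup G, IsCoatom L ∧ centralizer ({x} : Set G) ≤ L :=
    ⟨L, ⟨hL, hxL⟩, fun L' h' => huniq L' h'.1 h'.2⟩
  unfold supportR
  rw [dif_pos ⟨h, hex⟩]
  have h1 := Classical.choose_spec hex.exists
  rw [huniq _ h1.1 h1.2]

theorem supportR_eq_bot_of_not_unique {M : Subgroup G} {x : G}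
    (h : ¬ ∃! L : Subgroup G, IsCoatom L ∧ centralizer ({x} : Set G) ≤ L) :
    supportR M x = ⊥ := by
  unfold supportR
  rw [dif_neg]
  intro h'
  exact h h'.2

theorem supportR_le_centralizer (M : Subgroup G) (x : G) : supportR M x ≤ centralizer ({x} : Set G) := by
  unfold supportR
  split_ifs
  · exact inf_le_right
  · exact bot_le

theorem existsUnique_mp {e : G ≃* G'} {x : G}
    (h : ∃! L : Subgroup G, IsCoatom L ∧ centralizer ({x} : Set G) ≤ L) :
    ∃! L : Subgroup G', IsCoatom L ∧ centralizer ({e x} : Set G') ≤ L := by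
  obtain ⟨L, ⟨hL, hxL⟩, hu⟩ := h
  refine ⟨mp e L, ⟨isCoatom_mp hL, ?_⟩, ?_⟩
  · rw [centralizer_singleton, mp_le_mp]; exact hxL
  · rintro L' ⟨hL', hxL'⟩
    have h1 : mp e.symm L' = L := by
      apply hu
      refine ⟨isCoatom_mp hL', ?_⟩
      have := (mp_le_mp (e := e.symm)).mpr hxL'
      rwa [centralizer_singleton, mp_symm_mp] at this
    rw [← h1, mp_mp_symm]

theorem supportR_mp (e : G ≃* G') (M : Subgroup G) (x : G) :
    supportR (mp e M) (e x) = mp e (supportR M x) := by
  by_cases h1 : centralizer ({x} : Set G) ≤ M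
  · rw [supportR_eq_bot_of_le h1, mp_bot, supportR_eq_bot_of_le]
    rw [centralizer_singleton, mp_le_mp]; exact h1
  · by_cases h2 : ∃! L : Subgroup G, IsCoatom L ∧ centralizer ({x} : Set G) ≤ L
    · obtain ⟨L, ⟨hL, hxL⟩, hu⟩ := h2
      rw [supportR_eq_of_unique h1 hL hxL (fun L' a b => hu L' ⟨a, b⟩)]
      rw [supportR_eq_of_unique (L := mp e L)]
      · rw [fittingHallOf_mp, centralizer_singleton, mp_inf]
      · rw [centralizer_singleton, mp_le_mp]; exact h1
      · exact isCoatom_mp hL
      · rw [centralizer_singleton, mp_le_mp]; exact hxL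
      · intro L' hL' hxL'
        have h3 : mp e.symm L' = L := by
          apply hu
          refine ⟨isCoatom_mp hL', ?_⟩
          have := (mp_le_mp (e := e.symm)).mpr hxL'
          rwa [centralizer_singleton, mp_symm_mp] at this
        rw [← h3, mp_mp_symm]
    · rw [supportR_eq_bot_of_not_unique h2, mp_bot, supportR_eq_bot_of_not_unique]
      intro h3
      apply h2
      have := existsUnique_mp (e := e.symm) h3
      simpa using this

/-- conjugation form: `R_{gMg⁻¹}(g x g⁻¹) = g R_M(x) g⁻¹` -/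
theorem supportR_conj (g : G) (M : Subgroup G) (x : G) :
    supportR (M.map (MulAut.conj g).toMonoidHom) (g * x * g⁻¹) =
      (supportR M x).map (MulAut.conj g).toMonoidHom :=
  supportR_mp (MulAut.conj g) M x

theorem sigmaCore_conj (g : G) (M : Subgroup G) :
    sigmaCore (M.map (MulAut.conj g).toMonoidHom) = (sigmaCore M).map (MulAut.conj g).toMonoidHom :=
  sigmaCore_mp (MulAut.conj g) M

theorem sigma_conj (g : G) (M : Subgroup G) :
    sigma (M.map (MulAut.conj g).toMonoidHom) = sigma M := sigma_mp (MulAut.conj g) M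

theorem kappa_conj (g : G) (M : Subgroup G) :
    kappa (M.map (MulAut.conj g).toMonoidHom) = kappa M := kappa_mp (MulAut.conj g) M

theorem mem_conj {g : G} {M : Subgroup G} {x : G} :
    x ∈ M.map (MulAut.conj g).toMonoidHom ↔ g⁻¹ * x * g ∈ M := by
  rw [show M.map (MulAut.conj g).toMonoidHom = mp (MulAut.conj g) M from rfl, mem_mp]
  simp [MulAut.conj_symm_apply]

theorem conj_mem_conj {g : G} {M : Subgroup G} {x : G} :
    g * x * g⁻¹ ∈ M.map (MulAut.conj g).toMonoidHom ↔ x ∈ M := by
  rw [mem_conj]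
  have : g⁻¹ * (g * x * g⁻¹) * g = x := by group
  rw [this]

end Cfsg.Agent.Lib.Helper4_BGConj
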