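import Mathlib
import Cfsg.Prelude.Def_OddOrderLocal
import Cfsg.Agent.Lib.Helper25_BGHyp
import Cfsg.Agent.Lib.Helper4_BGConj
import Cfsg.Agent.Lib.Helper76_BG13b
import Cfsg.Agent.Lib.Helper29_BG145

/-!
# Bender–Glauberman 14.4, last part: `M`-conjugacy of the maximal subgroups over `C_G(x)` (helper29)

`M` maximal, `x, y ∈ M_σ^#` with `C_G(x), C_G(y) ⊄ M`, `N ⊇ C_G(x)`, `N' ⊇ C_G(y)` maximal and
`gN'g⁻¹ = N`: then `mN'm⁻¹ = N` for some `m ∈ M` (second half of the statement S1436).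
The frozen statements S1374 and S1375 are explicit hypotheses.
-/

set_option autoImplicit false
open Cfsg

namespace Cfsg.Agent.Lib.Helper29_BG146a

open Subgroup Cfsg.Agent.Lib.Helper25_BGHyp Cfsg.Agent.Lib.Helper29_BG144c
  Cfsg.Agent.Lib.Helper4_BGConj

universe u

variable {G : Type u} [Group G]

/-- the frozen statement S1374, as a hypothesis -/
def H1374 (G : Type u) [Group G] : Prop :=
  ∀ (M : Subgroup G), IsCoatom M → ∀ x : G, x ∈ Cfsg.sigmaCore M → x ≠ 1 →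
    (Nat.card ↥(M ⊓ Subgroup.centralizer ({x} : Set G))).Coprime ((M ⊓ Subgroup.centralizer ({x} : Set G)).relIndex (Subgroup.centralizer ({x} : Set G))) ∧
      ∃ R : Subgroup G, Subgroup.centralizer ({x} : Set G) ≤ Subgroup.normalizer (R : Set G) ∧ Cfsg.IsComplIn (M ⊓ Subgroup.centralizer ({x} : Set G)) R (Subgroup.centralizer ({x} : Set G)) ∧
        ∀ g : G, x ∈ M.map (MulAut.conj g).toMonoidHom → ∃! r : G, r ∈ R ∧ M.map (MulAut.conj r).toMonoidHom = M.map (MulAut.conj g).toMonoidHom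

/-- the maximal subgroup over `C_G(x)` given by S1375 -/
theorem data_of_h75 (h75 : H1375 G) {M : Subgroup G} (hM : IsCoatom M) {x : G}
    (hx : x ∈ sigmaCore M) (hx1 : x ≠ 1) (hxM : ¬ centralizer ({x} : Set G) ≤ M)
    {N : Subgroup G} (hN : IsCoatom N) (hxN : centralizer ({x} : Set G) ≤ N) :
    (∀ L : Subgroup G, IsCoatom L → centralizer ({x} : Set G) ≤ L → L = N) ∧
      sigmaCore N = fittingHallOf N ∧ IsComplIn (M ⊓ N) (sigmaCore N) N ∧
      ∀ K' U' : Subgroup G, IsSigmaDecomposition N K' U' →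
        U' ≠ ⊥ ∧ x ∈ sigmaA N U' ∧ x ∉ sigmaCore N := by
  obtain ⟨N₀, -, huniq, hF, -, -, hcompl, hdec⟩ := h75 M hM x hx hx1 hxM
  have h := huniq N hN hxN
  subst h
  exact ⟨huniq, hF, hcompl, hdec⟩

variable [Finite G]

omit [Finite G] in
/-- the order of a complement of `N_σ` in `N` -/
theorem card_compl_mul {A N : Subgroup G} (h : IsComplIn A (sigmaCore N) N) :
    Nat.card A * Nat.card (sigmaCore N) = Nat.card N :=
  (card_of_isComplIn h).symm

/-- **B&G 14.4, `M`-conjugacy.** -/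
theorem part_b (hG : IsMinSimpleOddOrder G) (h74 : H1374 G) (h75 : H1375 G)
    (M : Subgroup G) (hM : IsCoatom M) (x : G) (hx : x ∈ Cfsg.sigmaCore M) (hx1 : x ≠ 1)
    (hxM : ¬ Subgroup.centralizer ({x} : Set G) ≤ M)
    (N : Subgroup G) (hN : IsCoatom N) (hxN : Subgroup.centralizer ({x} : Set G) ≤ N) :
    ∀ (y : G) (N' : Subgroup G) (g : G), y ∈ Cfsg.sigmaCore M → y ≠ 1 → ¬ Subgroup.centralizer ({y} : Set G) ≤ M → IsCoatom N' → Subgroup.centralizer ({y} : Set G) ≤ N' →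
        N'.map (MulAut.conj g).toMonoidHom = N → ∃ m ∈ M, N'.map (MulAut.conj m).toMonoidHom = N := by
  intro y N' g hy hy1 hyM hN' hyN' hg
  obtain ⟨-, -, hcompl, -⟩ := data_of_h75 h75 hM hx hx1 hxM hN hxN
  obtain ⟨-, -, hcompl', -⟩ := data_of_h75 h75 hM hy hy1 hyM hN' hyN'
  -- the conjugated complement
  have hcompl₂ : IsComplIn ((M ⊓ N').map (MulAut.conj g).toMonoidHom) (sigmaCore N) N := by
    have h1 := isComplIn_mp (e := MulAut.conj g) hcompl'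
    have h2 : mp (MulAut.conj g) (sigmaCore N') = sigmaCore N := by
      rw [← hg]; exact (sigmaCore_conj g N').symm
    have h3 : mp (MulAut.conj g) N' = N := hg
    rw [h2, h3] at h1
    exact h1
  have hxMem : x ∈ M := Cfsg.Agent.Lib.Helper35_BG11a.sigmaCore_le M hx
  have hM1 : M ≠ ⊥ := by
    rintro rfl
    exact hx1 (Subgroup.mem_bot.mp hxMem)
  have hxC : x ∈ centralizer ({x} : Set G) := by
    rw [Subgroup.mem_centralizer_iff]; rintro _ rfl; rfl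
  have hxD : x ∈ M ⊓ N := ⟨hxMem, hxN hxC⟩
  have hHall := Cfsg.Agent.Lib.Helper76_BG13b.sigma_hall hG hN
  have hNσ : N ≤ normalizer (sigmaCore N : Set G) :=
    Cfsg.Agent.Lib.Helper35_BG11a.le_normalizer_sigmaCore N
  -- coprimality
  have hcop : (Nat.card ↥(M ⊓ N)).Coprime (Nat.card ↥(sigmaCore N)) := by
    apply Nat.coprime_of_dvd
    intro k hk hk1 hk2
    rw [← relIndex_of_isComplIn' hcompl] at hk1
    exact hHall.2.2 k hk (hHall.2.1 k hk hk2) hk1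
  have hsolv : Group.IsSolvable ↥(M ⊓ N) :=
    Cfsg.Agent.Lib.Helper76_BG13b.isSolvable_of_le hG hN inf_le_right
  have hB : (M ⊓ N').map (MulAut.conj g).toMonoidHom ≤ sigmaCore N ⊔ (M ⊓ N) := by
    intro b hb
    obtain ⟨a, ha, c, hc, rfl⟩ := hcompl.2.2.2 b (hcompl₂.1 hb)
    have hca : a * c = (a * c * a⁻¹) * a := by group
    rw [hca]
    refine Subgroup.mul_mem _ (Subgroup.mem_sup_left ?_) (Subgroup.mem_sup_right ha)
    exact Cfsg.Agent.Lib.Helper76_BG13b.conj_mem_of_mem_normalizer (hNσ ha.2) hc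
  have hBcard : Nat.card ↥((M ⊓ N').map (MulAut.conj g).toMonoidHom) = Nat.card ↥(M ⊓ N) := by
    have h1 := card_compl_mul hcompl
    have h2 := card_compl_mul hcompl₂
    exact Nat.eq_of_mul_eq_mul_right Nat.card_pos (h2.trans h1.symm)
  obtain ⟨k, hk, hkeq⟩ := Cfsg.Agent.Lib.Helper24_CoprimeAction.sz_rel_conj (M ⊓ N) (sigmaCore N)
    ((M ⊓ N').map (MulAut.conj g).toMonoidHom) (inf_le_right.trans hNσ) hcop (Or.inl hsolv) hB hBcard
  have hkN : k ∈ N := Cfsg.Agent.Lib.Helper35_BG11a.sigmaCore_le N hk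
  -- `x ∈ M^h` with `h = k⁻¹ g`
  have hxh : x ∈ M.map (MulAut.conj (k⁻¹ * g)).toMonoidHom := by
    have h1 : k * x * k⁻¹ ∈ (M ⊓ N').map (MulAut.conj g).toMonoidHom := by
      rw [← hkeq]
      exact ⟨x, hxD, by simp⟩
    obtain ⟨m', hm', hm'eq⟩ := h1
    refine ⟨m', hm'.1, ?_⟩
    simp only [MulEquiv.coe_toMonoidHom, MulAut.conj_apply] at hm'eq ⊢
    calc k⁻¹ * g * m' * (k⁻¹ * g)⁻¹ = k⁻¹ * (g * m' * g⁻¹) * k := by group
      _ = k⁻¹ * (k * x * k⁻¹) * k := by rw [hm'eq]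
      _ = x := by group
  obtain ⟨-, R, -, hR, hreg⟩ := h74 M hM x hx hx1
  obtain ⟨r, ⟨hrR, hrM⟩, -⟩ := hreg (k⁻¹ * g) hxh
  have hrN : r ∈ N := hxN (hR.2.1 hrR)
  -- `m = r⁻¹ k⁻¹ g ∈ N_G(M) = M`
  have hmM : r⁻¹ * (k⁻¹ * g) ∈ M := by
    have h1 : r⁻¹ * (k⁻¹ * g) ∈ normalizer (M : Set G) := by
      rw [Cfsg.Agent.Lib.Helper24_CoprimeAction.mem_normalizer_iff_map_conj,
        ← Cfsg.Agent.S0001.map_conj_mul, ← hrM, Cfsg.Agent.S0001.map_conj_mul, inv_mul_cancel]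
      exact Cfsg.Agent.Lib.Helper24_CoprimeAction.map_conj_of_mem M (Subgroup.one_mem M)
    rwa [Cfsg.Agent.Lib.Helper49_Alpha3.normalizer_coatom hG hM hM1] at h1
  refine ⟨r⁻¹ * (k⁻¹ * g), hmM, ?_⟩
  have e : r⁻¹ * (k⁻¹ * g) = (r⁻¹ * k⁻¹) * g := by group
  rw [e, ← Cfsg.Agent.S0001.map_conj_mul, hg]
  exact Cfsg.Agent.Lib.Helper24_CoprimeAction.map_conj_of_mem N
    (N.mul_mem (N.inv_mem hrN) (N.inv_mem hkN))

end Cfsg.Agent.Lib.Helper29_BG146a
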