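import Mathlib
import Cfsg.Prelude.Def_OddOrderLocal
import Cfsg.Agent.S1414
import Cfsg.Agent.S1416
import Cfsg.Agent.S1417
import Cfsg.Agent.Lib.Helper1_Cores
import Cfsg.Agent.Lib.Helper30_SigmaPartB
import Cfsg.Agent.Lib.Helper76_BG13c
import Cfsg.Agent.Lib.Helper29_BG146a

/-!
# Bender–Glauberman 14.4(d) (= 12.17(e2)): `π(M) ∩ σ(N) ⊆ β(N)` (helper29)

`M`, `N` maximal, `q ∈ σ(M) ∖ β(M)`, `q ∈ τ₂(N)` and `M ∩ N` a complement of `N_σ` in `N`.  Then every
prime of `σ(N)` dividing `|M|` lies in `β(N)`.  The proof uses the last clause of S1414 twice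
("every prime dividing `|H : O_{p'}(H)|` is at most `p`").
-/

set_option autoImplicit false
open Cfsg

namespace Cfsg.Agent.Lib.Helper29_BG146b

open Subgroup Cfsg.Agent.Lib.Helper29_BG144c Cfsg.Agent.Lib.Helper84_RelSylow
  Cfsg.Agent.Lib.Helper24_CoprimeAction

universe u

variable {G : Type u} [Group G]

/-- `O_{s'}(H)` as a subgroup of `G` -/
def ppc (s : ℕ) (H : Subgroup G) : Subgroup G := (pPrimeCore s ↥H).map H.subtype

theorem ppc_le (s : ℕ) (H : Subgroup G) : ppc s H ≤ H := Subgroup.map_subtype_le _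

theorem le_normalizer_ppc (s : ℕ) (H : Subgroup G) : H ≤ normalizer (ppc s H : Set G) := by
  intro h hh
  rw [Subgroup.mem_normalizer_iff]
  have hn : (pPrimeCore s ↥H).Normal := Cfsg.Agent.Lib.Helper1_Cores.pPrimeCore_normal s
  intro x
  constructor
  · rintro ⟨w, hw, rfl⟩
    exact ⟨⟨h, hh⟩ * w * ⟨h, hh⟩⁻¹, hn.conj_mem w hw ⟨h, hh⟩, by simp⟩
  · rintro ⟨w, hw, hwx⟩
    refine ⟨⟨h, hh⟩⁻¹ * w * ⟨h, hh⟩, ?_, ?_⟩
    · have := hn.conj_mem w hw ⟨h, hh⟩⁻¹
      simpa using this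
    · have h1 : (w : G) = h * x * h⁻¹ := by simpa using hwx
      simp only [Subgroup.coe_subtype, Subgroup.coe_mul, Subgroup.coe_inv, h1]
      group

theorem card_ppc_coprime [Finite G] (s : ℕ) (H : Subgroup G) : (Nat.card (ppc s H)).Coprime s := by
  unfold ppc
  rw [Subgroup.card_map_of_injective H.subtype_injective]
  exact Cfsg.Agent.Lib.Helper1_Cores.pPrimeCore_card_coprime s

theorem relIndex_ppc (s : ℕ) (H : Subgroup G) : (ppc s H).relIndex H = (pPrimeCore s ↥H).index := by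
  unfold ppc Subgroup.relIndex Subgroup.subgroupOf
  rw [Subgroup.comap_map_eq_self_of_injective H.subtype_injective]

/-- elements of `H` of order prime to `|H : O_{s'}(H)|` lie in `O_{s'}(H)` -/
theorem mem_ppc_of_coprime [Finite G] {s : ℕ} {H : Subgroup G} {y : G} (hy : y ∈ H)
    (hcop : (orderOf y).Coprime (pPrimeCore s ↥H).index) : y ∈ ppc s H := by
  apply mem_of_coprime_relIndex (le_normalizer_ppc s H) hy
  rwa [relIndex_ppc]

/-- an element of `O_{s'}(H)` normalizing an `s`-subgroup `Q` of `H` centralizes it -/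
theorem commute_of_mem_ppc [Finite G] {s : ℕ} [hs : Fact s.Prime] {H Q : Subgroup G} (hQH : Q ≤ H)
    (hQ : IsPGroup s Q) {y : G} (hyW : y ∈ ppc s H) (hyQ : y ∈ normalizer (Q : Set G)) {a : G}
    (ha : a ∈ Q) : a * y = y * a := by
  have h1 : a * (y * a⁻¹ * y⁻¹) ∈ Q :=
    Q.mul_mem ha (Cfsg.Agent.Lib.Helper76_BG13b.conj_mem_of_mem_normalizer hyQ (Q.inv_mem ha))
  have h2 : a * y * a⁻¹ * y⁻¹ ∈ ppc s H :=
    (ppc s H).mul_mem
      (Cfsg.Agent.Lib.Helper76_BG13b.conj_mem_of_mem_normalizer (le_normalizer_ppc s H (hQH ha)) hyW)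
      ((ppc s H).inv_mem hyW)
  have h3 : a * y * a⁻¹ * y⁻¹ ∈ Q ⊓ ppc s H := by
    refine ⟨?_, h2⟩
    have e : a * y * a⁻¹ * y⁻¹ = a * (y * a⁻¹ * y⁻¹) := by group
    rw [e]; exact h1
  have hdisj : Q ⊓ ppc s H = ⊥ := by
    apply (Subgroup.disjoint_of_coprime_natCard ?_).eq_bot
    obtain ⟨n, hn⟩ := IsPGroup.iff_card.mp hQ
    rw [hn]
    exact Nat.Coprime.pow_left n (card_ppc_coprime s H).symm
  rw [hdisj, Subgroup.mem_bot] at h3
  calc a * y = (a * y * a⁻¹ * y⁻¹) * (y * a) := by group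
    _ = y * a := by rw [h3, one_mul]

variable [Finite G]

/-- **B&G 14.4(d)**. -/
theorem mem_beta_of_mem_sigma (hG : IsMinSimpleOddOrder G) {M N : Subgroup G} (hM : IsCoatom M)
    (hN : IsCoatom N) {q : ℕ} [hq : Fact q.Prime] (hqM : q ∈ sigma M) (hqβ : q ∉ beta M)
    (hqN : q ∈ tau2 N) (hcompl : IsComplIn (M ⊓ N) (sigmaCore N) N) {s : ℕ} (hsN : s ∈ sigma N)
    (hsM : s ∣ Nat.card M) (hsσM : s ∉ sigma M) : s ∈ beta N := by
  by_contra hsβ
  have hsP : s.Prime := hsN.1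
  have : Fact s.Prime := ⟨hsP⟩
  obtain ⟨A, hAD, hAe, hA2⟩ := Cfsg.Agent.Lib.Helper76_BG13c.exists_elemAb_le_compl hG hN hcompl hqN
  have hAM : A ≤ M := hAD.trans inf_le_left
  have hAN : A ≤ N := hAD.trans inf_le_right
  have hAq : IsPGroup q A := Cfsg.Agent.Lib.Helper76_BG13c.isPGroup_of_elemAb hAe
  have hcent : sigmaCore N ⊓ centralizer (A : Set G) = ⊥ :=
    (Cfsg.Agent.S1417.result hG N hN q hqN A ⟨hAN, hAe, hA2⟩).2.2.2.1
  have hCA : centralizer (A : Set G) ≤ N := (Cfsg.Agent.S1416.result hG N hN q A ⟨hAN, hAe, hA2⟩).1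
  have hHallN := Cfsg.Agent.Lib.Helper76_BG13b.sigma_hall hG hN
  have hHallM := Cfsg.Agent.Lib.Helper76_BG13b.sigma_hall hG hM
  have hord : ∀ a ∈ A, orderOf a ∣ q := fun a ha => orderOf_dvd_of_pow_eq_one (hAe.2 a ha)
  -- `q < s`
  have h14N := (Cfsg.Agent.S1414.result hG N hN).2.2.2.2 s hsP hsN.2.1 hsβ
  have hqs : q < s := by
    have hq_dvd : q ∣ (pPrimeCore s ↥N).index := by
      by_contra hnd
      have hAW : ∀ a ∈ A, a ∈ ppc s N := by
        intro a ha
        apply mem_ppc_of_coprime (hAN ha)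
        exact Nat.Coprime.coprime_dvd_left (hord a ha) ((Nat.Prime.coprime_iff_not_dvd hq.out).mpr hnd)
      have hcopA : (Nat.card A).Coprime (Nat.card (sigmaCore N)) := by
        rw [hA2]
        apply Nat.Coprime.pow_left
        rw [Nat.Prime.coprime_iff_not_dvd hq.out]
        intro hd
        exact hqN.2.1 (hHallN.2.1 q hq.out hd)
      have hsolvN : Group.IsSolvable ↥(sigmaCore N) :=
        Cfsg.Agent.Lib.Helper76_BG13b.isSolvable_of_le hG hN
          (Cfsg.Agent.Lib.Helper35_BG11a.sigmaCore_le N)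
      obtain ⟨P, hP⟩ := exists_invariant_sylow A (sigmaCore N)
        (hAN.trans (Cfsg.Agent.Lib.Helper35_BG11a.le_normalizer_sigmaCore N)) hcopA (Or.inr hsolvN) s
      have hPle : sylowImage P ≤ sigmaCore N := Subgroup.map_subtype_le _
      have hPs : IsPGroup s (sylowImage P) := P.2.map _
      have hPbot : sylowImage P = ⊥ := by
        rw [eq_bot_iff, ← hcent]
        intro b hb
        refine ⟨hPle hb, ?_⟩
        show b ∈ centralizer (A : Set G)
        rw [Subgroup.mem_centralizer_iff]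
        intro a ha
        exact (commute_of_mem_ppc (hPle.trans (Cfsg.Agent.Lib.Helper35_BG11a.sigmaCore_le N)) hPs
          (hAW a ha) (hP ha) hb).symm
      -- but `s` divides `|N_σ|`
      have hsσ : s ∣ Nat.card (sigmaCore N) := by
        have h1 := Cfsg.Agent.Lib.Helper76_BG13a.relIndex_mul_card'
          (Cfsg.Agent.Lib.Helper35_BG11a.sigmaCore_le N)
        have h2 : s ∣ (sigmaCore N).relIndex N * Nat.card (sigmaCore N) := by rw [h1]; exact hsN.2.1
        rcases (Nat.Prime.dvd_mul hsP).mp h2 with h | h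
        · exact absurd h (hHallN.2.2 s hsP hsN)
        · exact h
      have hcardP : Nat.card (sylowImage P) = Nat.card (P : Subgroup ↥(sigmaCore N)) :=
        Subgroup.card_map_of_injective (Subgroup.subtype_injective _)
      have hPcard := P.card_eq_multiplicity
      rw [hPbot, Subgroup.card_bot] at hcardP
      rw [← hcardP] at hPcard
      have hfac : (Nat.card ↥(sigmaCore N)).factorization s = 0 := by
        by_contra h0
        have : 1 < s ^ (Nat.card ↥(sigmaCore N)).factorization s :=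
          Nat.one_lt_pow h0 hsP.one_lt
        omega
      have := (hsP.dvd_iff_one_le_factorization Nat.card_pos.ne').mp hsσ
      omega
    have hle := h14N.2.2 q hq.out hq_dvd
    have hne : q ≠ s := by
      rintro rfl
      exact hqN.2.1 hsN
    omega
  -- the `s`-elements of `M` lie in `O_{q'}(M)`
  have h14M := (Cfsg.Agent.S1414.result hG M hM).2.2.2.2 q hq.out hqM.2.1 hqβ
  have hs_ndvd : ¬ s ∣ (pPrimeCore q ↥M).index := by
    intro h
    have := h14M.2.2 s hsP h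
    omega
  -- a Sylow `q`-subgroup of `M_σ` over `A`
  have hAσ : A ≤ sigmaCore M :=
    Cfsg.Agent.Lib.Helper76_BG13b.le_sigmaCore_of_isPGroup' hG hM hqM hAq hAM
  obtain ⟨Q, hQ⟩ := (hAq.comap_subtype (K := sigmaCore M)).exists_le_sylow
  have hAQ : A ≤ sylowImage Q := by
    intro a ha
    exact ⟨⟨a, hAσ ha⟩, hQ (Subgroup.mem_subgroupOf.mpr ha), rfl⟩
  have hQsyl : IsSylowIn q (sylowImage Q) (sigmaCore M) := isSylowIn_of_sylow Q
  obtain ⟨E₀, hE₀, hE₀Q⟩ :=
    Cfsg.Agent.Lib.Helper30_SigmaPartB.exists_compl_le_normalizer hHallM hQsyl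
  -- an element of order `s` in `E₀`
  have hsE₀ : s ∣ Nat.card E₀ := by
    have h1 := card_of_isComplIn hE₀
    rw [h1] at hsM
    rcases (Nat.Prime.dvd_mul hsP).mp hsM with h | h
    · exact h
    · exact absurd (hHallM.2.1 s hsP h) hsσM
  obtain ⟨y, hy⟩ := exists_prime_orderOf_dvd_card' s hsE₀
  have hyo : orderOf (y : G) = s := by rw [Subgroup.orderOf_coe]; exact hy
  have hyM : (y : G) ∈ M := hE₀.1 y.2
  have hyW : (y : G) ∈ ppc q M := by
    apply mem_ppc_of_coprime hyM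
    rw [hyo]
    exact (Nat.Prime.coprime_iff_not_dvd hsP).mpr hs_ndvd
  have hyA : (y : G) ∈ centralizer (A : Set G) := by
    rw [Subgroup.mem_centralizer_iff]
    intro a ha
    exact commute_of_mem_ppc ((Subgroup.map_subtype_le _).trans
      (Cfsg.Agent.Lib.Helper35_BG11a.sigmaCore_le M)) (Q.2.map _) hyW (hE₀Q y.2) (hAQ ha)
  have hyD : (y : G) ∈ M ⊓ N := ⟨hyM, hCA hyA⟩
  apply hHallN.2.2 s hsP hsN
  rw [relIndex_of_isComplIn' hcompl, ← hyo]
  exact Subgroup.orderOf_dvd_natCard _ hyD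

end Cfsg.Agent.Lib.Helper29_BG146b
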