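import Mathlib
import Cfsg.Prelude.Def_OddOrderLocal
import Cfsg.Agent.Lib.Helper33_BG16Hyp
import Cfsg.Agent.Lib.Helper53_BG16b
import Cfsg.Agent.Lib.Helper29_BG146a

/-!
# `κ(M) = ∅` when `C_G(x) ⊄ M` and `σ(N)` meets `π(M)` (helper29)

`M` maximal, `x ∈ M_σ^#`, `C_G(x) ⊄ M`, `N ⊇ C_G(x)` maximal.
* `kappa_eq_empty_of_kappa_nonempty`: if `κ(N) ≠ ∅` then `κ(M) = ∅` (first clause of S1376);
* `kappa_eq_empty`: if some prime of `σ(N)` divides `|M|` then `κ(M) = ∅` (part of S1436).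
The frozen statements S1351, S1352, S1354, S1366, S1369, S1372, S1375, S1378, S1434 are explicit
hypotheses (S1435 is NOT used: it depends on S1436).
-/

set_option autoImplicit false
open Cfsg

namespace Cfsg.Agent.Lib.Helper29_BG146c

open Subgroup Cfsg.Agent.Lib.Helper25_BGHyp Cfsg.Agent.Lib.Helper29_BG144c
  Cfsg.Agent.Lib.Helper4_BGConj Cfsg.Agent.Lib.Helper29_BG146a Cfsg.Agent.Lib.Helper29_BG145

universe u

variable {G : Type u} [Group G]

/-- the frozen statement S1352 (existence clause), as a hypothesis -/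
def H1352 (G : Type u) [Group G] : Prop :=
  ∀ (M : Subgroup G), IsCoatom M → ∀ K : Subgroup G, IsCyclic K → Cfsg.IsPiHallOf (Cfsg.kappa M) K M →
    ∃ U : Subgroup G, Cfsg.IsSigmaDecomposition M K U

/-- the frozen statement S1354 (first clause), as a hypothesis -/
def H1354 (G : Type u) [Group G] : Prop :=
  ∀ (M : Subgroup G), IsCoatom M → ∀ K : Subgroup G, IsCyclic K → Cfsg.IsPiHallOf (Cfsg.kappa M) K M →
    Cfsg.sigmaCore M ⊓ Subgroup.centralizer (K : Set G) ≠ ⊥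

/-- the frozen statement S1372 (second and third clauses), as a hypothesis -/
def H1372 (G : Type u) [Group G] : Prop :=
  ∀ (M : Subgroup G), IsCoatom M → ∀ K U : Subgroup G, Cfsg.IsSigmaDecomposition M K U → K ≠ ⊥ → U ≠ ⊥ →
    Cfsg.IsTISubset (Cfsg.fittingOf M : Set G) ∧ Cfsg.sigmaCore M ≤ Cfsg.fittingOf M

/-- the image in `G` of a normal subgroup of `↥H` is normalized by `H` -/
theorem le_normalizer_map_subtype {H : Subgroup G} {K : Subgroup ↥H} (hn : K.Normal) :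
    H ≤ normalizer ((K.map H.subtype : Subgroup G) : Set G) := by
  intro h hh
  rw [Subgroup.mem_normalizer_iff]
  intro x
  constructor
  · rintro ⟨w, hw, rfl⟩
    exact ⟨⟨h, hh⟩ * w * ⟨h, hh⟩⁻¹, hn.conj_mem w hw ⟨h, hh⟩, by simp⟩
  · rintro ⟨w, hw, hwx⟩
    refine ⟨⟨h, hh⟩⁻¹ * w * ⟨h, hh⟩, ?_, ?_⟩
    · have := hn.conj_mem w hw ⟨h, hh⟩⁻¹
      simpa using this
    · have h1 : (w : G) = h * x * h⁻¹ := by simpa using hwx
      simp only [Subgroup.coe_subtype, Subgroup.coe_mul, Subgroup.coe_inv, h1]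
      group

/-- a Hall `π`-subgroup of `M` is nontrivial as soon as some prime of `π` divides `|M|` -/
theorem ne_bot_of_isPiHallOf [Finite G] {π : Set ℕ} {K M : Subgroup G} (hK : IsPiHallOf π K M) {k : ℕ}
    (hk : k.Prime) (hkπ : k ∈ π) (hkM : k ∣ Nat.card M) : k ∣ Nat.card K := by
  have h1 := Cfsg.Agent.Lib.Helper76_BG13a.relIndex_mul_card' hK.1
  rw [← h1] at hkM
  rcases (Nat.Prime.dvd_mul hk).mp hkM with h | h
  · exact absurd h (hK.2.2 k hk hkπ)
  · exact h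

theorem ne_bot_of_dvd_card {K : Subgroup G} {k : ℕ} (hk : k.Prime) (h : k ∣ Nat.card K) : K ≠ ⊥ := by
  rintro rfl
  rw [Subgroup.card_bot] at h
  exact hk.one_lt.ne' (Nat.dvd_one.mp h)

variable [Finite G]

/-- the frozen statement S1369 (second clause), as a hypothesis -/
def H1369 (G : Type u) [Group G] : Prop :=
  ∀ (M : Subgroup G), IsCoatom M → ∀ K U : Subgroup G, Cfsg.IsSigmaDecomposition M K U → K ≠ ⊥ →
    ∀ Mstar : Subgroup G, IsCoatom Mstar →
    K = Cfsg.sigmaCore Mstar ⊓ Subgroup.centralizer ((Cfsg.sigmaCore M ⊓ Subgroup.centralizer (K : Set G)) : Set G) →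
    Cfsg.IsPiHallOf (Cfsg.kappa Mstar) (Cfsg.sigmaCore M ⊓ Subgroup.centralizer (K : Set G)) Mstar →
    ∀ H : Subgroup G, IsCoatom H → (Cfsg.kappa H).Nonempty →
      ∃ g : G, H = M.map (MulAut.conj g).toMonoidHom ∨ H = Mstar.map (MulAut.conj g).toMonoidHom

/-- the frozen statement S1434 (second clause), as a hypothesis -/
def H1434 (G : Type u) [Group G] : Prop :=
  ∀ (M : Subgroup G), IsCoatom M → ∀ K U : Subgroup G, Cfsg.IsSigmaDecomposition M K U → K ≠ ⊥ →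
    ∀ Mstar : Subgroup G, IsCoatom Mstar →
    K = Cfsg.sigmaCore Mstar ⊓ Subgroup.centralizer ((Cfsg.sigmaCore M ⊓ Subgroup.centralizer (K : Set G)) : Set G) →
    Cfsg.IsPiHallOf (Cfsg.kappa Mstar) (Cfsg.sigmaCore M ⊓ Subgroup.centralizer (K : Set G)) Mstar →
    Cfsg.IsPiHallOf (Cfsg.sigma M) (Cfsg.sigmaCore M ⊓ Subgroup.centralizer (K : Set G)) Mstar

/-- **first clause of S1376**: `κ(N) ≠ ∅` forces `κ(M) = ∅`. -/
theorem kappa_eq_empty_of_kappa_nonempty (hG : IsMinSimpleOddOrder G) (hSD : SigmaDisj G)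
    (h75 : H1375 G) (h51 : Cfsg.Agent.Lib.Helper33_BG16Hyp.H1351 G) (h52 : H1352 G) (h54 : H1354 G)
    (h66 : Cfsg.Agent.Lib.Helper33_BG16Hyp.H1366 G) (h69 : H1369 G) (h34 : H1434 G)
    {M : Subgroup G} (hM : IsCoatom M) {x : G} (hx : x ∈ sigmaCore M) (hx1 : x ≠ 1)
    (hxM : ¬ centralizer ({x} : Set G) ≤ M) {N : Subgroup G} (hN : IsCoatom N)
    (hxN : centralizer ({x} : Set G) ≤ N) (hκN : (kappa N).Nonempty) : kappa M = ∅ := by
  have hU := Cfsg.Agent.Lib.Helper49_SigmaDisjoint.uniqHyp hG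
  obtain ⟨-, -, hcompl, hdec⟩ := data_of_h75 h75 hM hx hx1 hxM hN hxN
  obtain ⟨hxσN, -⟩ := pair_data hG hU hSD hM hN hx hx1 hxN hcompl
  have hHallN := Cfsg.Agent.Lib.Helper76_BG13b.sigma_hall hG hN
  -- the standard factorisation of `N`
  obtain ⟨⟨K', hK'H⟩, hcyc⟩ := h51 N hN
  have hK'c := hcyc K' hK'H
  obtain ⟨U', hK'U'⟩ := h52 N hN K' hK'c hK'H
  obtain ⟨k, hk⟩ := hκN
  have hK'1 : K' ≠ ⊥ := ne_bot_of_dvd_card hk.1 (ne_bot_of_isPiHallOf hK'H hk.1 hk hk.2.1)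
  obtain ⟨-, hxA, -⟩ := hdec K' U' hK'U'
  -- a prime `q` of `o(x)` divides `|U'|`
  have hx1' : orderOf x ≠ 1 := by
    rw [Ne, orderOf_eq_one_iff]; exact hx1
  obtain ⟨q, hq, hqx⟩ := Nat.exists_prime_and_dvd hx1'
  have : Fact q.Prime := ⟨hq⟩
  have hU'N : U' ≤ N := hK'U'.compl.1
  have hNσ : N ≤ normalizer (sigmaCore N : Set G) :=
    Cfsg.Agent.Lib.Helper35_BG11a.le_normalizer_sigmaCore N
  have hcomplU : IsComplIn U' (sigmaCore N) (U' ⊔ sigmaCore N) := by
    refine ⟨le_sup_left, le_sup_right, ?_, ?_⟩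
    · rw [eq_bot_iff, ← hK'U'.compl.2.2.1]
      exact inf_le_inf_left U' le_sup_right
    · intro t ht
      rw [sup_comm] at ht
      obtain ⟨s, hs, a, ha, rfl⟩ := Cfsg.Agent.Lib.Helper24_CoprimeAction.exists_mul_of_mem_sup U'
        (sigmaCore N) (hU'N.trans hNσ) ht
      refine ⟨a, ha, a⁻¹ * s * a, ?_, by group⟩
      exact Cfsg.Agent.Lib.Helper29_HallFusion.conj_inv_mem_of_mem_normalizer (hNσ (hU'N ha)) hs
  have hqU' : q ∣ Nat.card U' := by
    have h1 : orderOf x ∣ Nat.card ↥(U' ⊔ sigmaCore N) := Subgroup.orderOf_dvd_natCard _ hxA.2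
    rw [card_of_isComplIn hcomplU] at h1
    rcases (Nat.Prime.dvd_mul hq).mp (hqx.trans h1) with h | h
    · exact h
    · exact absurd (hHallN.2.1 q hq h) (hxσN q hq hqx)
  have hqM : q ∈ sigma M := prime_mem_sigma_of_dvd_orderOf hx hq hqx
  -- the partner of `N`
  obtain ⟨Nstar, ⟨hNs, hKeq, hKstH⟩, -⟩ := h66 N hN K' U' hK'U' hK'1
  by_contra hne
  obtain ⟨g, hg | hg⟩ := h69 N hN K' U' hK'U' hK'1 Nstar hNs hKeq hKstH M hM
    (Set.nonempty_iff_ne_empty.mpr hne)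
  · -- `M` conjugate to `N`
    rw [hg, sigma_conj] at hqM
    exact hxσN q hq hqx hqM
  · -- `M` conjugate to `N*`
    rw [hg, sigma_conj] at hqM
    have hKs1 : sigmaCore N ⊓ centralizer (K' : Set G) ≠ ⊥ := h54 N hN K' hK'c hK'H
    have hKsc := (h51 Nstar hNs).2 _ hKstH
    obtain ⟨Us, hKsUs⟩ := h52 Nstar hNs _ hKsc hKstH
    have e1 : sigmaCore Nstar ⊓ centralizer
        ((sigmaCore N ⊓ centralizer (K' : Set G) : Subgroup G) : Set G) = K' := hKeq.symm
    have hHall : IsPiHallOf (sigma Nstar) (sigmaCore Nstar ⊓ centralizer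
        ((sigmaCore N ⊓ centralizer (K' : Set G) : Subgroup G) : Set G)) N := by
      apply h34 Nstar hNs _ Us hKsUs hKs1 N hN
      · change sigmaCore N ⊓ centralizer (K' : Set G) = sigmaCore N ⊓ centralizer
          ((sigmaCore Nstar ⊓ centralizer
            ((sigmaCore N ⊓ centralizer (K' : Set G) : Subgroup G) : Set G) : Subgroup G) : Set G)
        rw [e1]
      · rw [e1]; exact hK'H
    rw [e1] at hHall
    have hqN : q ∣ Nat.card N := hqU'.trans (Subgroup.card_dvd_of_le hU'N)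
    have hqK' : q ∣ Nat.card K' := ne_bot_of_isPiHallOf hHall hq hqM hqN
    have hqκ : q ∈ kappa N := hK'H.2.1 q hq hqK'
    apply hK'H.2.2 q hq hqκ
    have h1 := Cfsg.Agent.Lib.Helper76_BG13a.relIndex_mul_card' hK'H.1
    have h2 := Cfsg.Agent.Lib.Helper53_BG16b.card_M_eq hK'U' hHallN
    have h3 : K'.relIndex N = Nat.card U' * Nat.card (sigmaCore N) := by
      have h4 : K'.relIndex N * Nat.card K' = (Nat.card U' * Nat.card (sigmaCore N)) * Nat.card K' := by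
        rw [h1, h2]; ring
      exact Nat.eq_of_mul_eq_mul_right Nat.card_pos h4
    rw [h3]
    exact Dvd.dvd.mul_right hqU' _

/-- `κ(M) = ∅` as soon as a prime of `σ(N)` divides `|M|` -/
theorem kappa_eq_empty (hG : IsMinSimpleOddOrder G) (hSD : SigmaDisj G)
    (h75 : H1375 G) (h51 : Cfsg.Agent.Lib.Helper33_BG16Hyp.H1351 G) (h52 : H1352 G) (h54 : H1354 G)
    (h66 : Cfsg.Agent.Lib.Helper33_BG16Hyp.H1366 G) (h69 : H1369 G) (h72 : H1372 G) (h34 : H1434 G)
    {M : Subgroup G} (hM : IsCoatom M) {x : G} (hx : x ∈ sigmaCore M) (hx1 : x ≠ 1)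
    (hxM : ¬ centralizer ({x} : Set G) ≤ M) {N : Subgroup G} (hN : IsCoatom N)
    (hxN : centralizer ({x} : Set G) ≤ N) {p : ℕ} (hpN : p ∈ sigma N) (hpM : p ∣ Nat.card M) :
    kappa M = ∅ := by
  by_contra hne
  obtain ⟨k, hk⟩ := Set.nonempty_iff_ne_empty.mpr hne
  have hU := Cfsg.Agent.Lib.Helper49_SigmaDisjoint.uniqHyp hG
  obtain ⟨-, -, hcompl, -⟩ := data_of_h75 h75 hM hx hx1 hxM hN hxN
  obtain ⟨-, hσdisj⟩ := pair_data hG hU hSD hM hN hx hx1 hxN hcompl
  have hHallM := Cfsg.Agent.Lib.Helper76_BG13b.sigma_hall hG hM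
  have hp : p.Prime := hpN.1
  obtain ⟨⟨K, hKH⟩, hcyc⟩ := h51 M hM
  have hKc := hcyc K hKH
  obtain ⟨U, hKU⟩ := h52 M hM K hKc hKH
  have hK1 : K ≠ ⊥ := ne_bot_of_dvd_card hk.1 (ne_bot_of_isPiHallOf hKH hk.1 hk hk.2.1)
  have hxMem : x ∈ M := Cfsg.Agent.Lib.Helper35_BG11a.sigmaCore_le M hx
  by_cases hU1 : U = ⊥
  · -- type `P₁`
    have hcard := Cfsg.Agent.Lib.Helper53_BG16b.card_M_eq hKU hHallM
    rw [hU1, Subgroup.card_bot, one_mul] at hcard
    have hpK : p ∣ Nat.card K := by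
      rw [hcard] at hpM
      rcases (Nat.Prime.dvd_mul hp).mp hpM with h | h
      · exact h
      · exact absurd (hHallM.2.1 p hp h) (hσdisj p hpN)
    obtain ⟨Mstar, ⟨hMs, hKeq, hKstH⟩, -⟩ := h66 M hM K U hKU hK1
    have hKle : K ≤ sigmaCore Mstar := by
      rw [hKeq]; exact inf_le_left
    have hpMs : p ∈ sigma Mstar :=
      Cfsg.Agent.Lib.Helper49_SigmaDisjoint.mem_sigma_of_dvd_card_sigmaCore Mstar hp
        (hpK.trans (Subgroup.card_dvd_of_le hKle))
    obtain ⟨g, hg⟩ := hSD Mstar N hMs hN ⟨p, hpMs, hpN⟩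
    have hKst1 := h54 M hM K hKc hKH
    have hcard1 : Nat.card ↥(sigmaCore M ⊓ centralizer (K : Set G)) ≠ 1 := by
      intro h
      exact hKst1 (Subgroup.card_eq_one.mp h)
    obtain ⟨r, hr, hrd⟩ := Nat.exists_prime_and_dvd hcard1
    have hrκ : r ∈ kappa N := by
      rw [hg, kappa_conj]
      exact hKstH.2.1 r hr hrd
    have := kappa_eq_empty_of_kappa_nonempty hG hSD h75 h51 h52 h54 h66 h69 h34 hM hx hx1 hxM hN hxN ⟨r, hrκ⟩
    rw [this] at hk
    exact hk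
  · -- `F(M)` is a TI-subgroup containing `x`
    obtain ⟨hTI, hle⟩ := h72 M hM K U hKU hK1 hU1
    apply hxM
    have hxF : x ∈ fittingOf M := hle hx
    have hF1 : fittingOf M ≠ ⊥ := by
      intro h
      rw [h, Subgroup.mem_bot] at hxF
      exact hx1 hxF
    have hFM : fittingOf M ≤ M := Subgroup.map_subtype_le _
    have hFtop : fittingOf M ≠ ⊤ := by
      intro h
      apply hM.1
      rw [eq_top_iff, ← h]
      exact hFM
    have hMn : M ≤ normalizer (fittingOf M : Set G) :=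
      le_normalizer_map_subtype Cfsg.Agent.Lib.Helper1_Cores.fittingSubgroup_normal
    have hnM : normalizer (fittingOf M : Set G) = M := by
      by_contra hne'
      have hlt : M < normalizer (fittingOf M : Set G) := lt_of_le_of_ne hMn (Ne.symm hne')
      exact Cfsg.Agent.Lib.Helper22_BGTrans.normalizer_ne_top hG hF1 hFtop (hM.2 _ hlt)
    intro c hc
    by_contra hcM
    have hcn : c ∉ normalizer ((fittingOf M : Subgroup G) : Set G) := by
      rw [hnM]; exact hcM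
    apply hx1
    apply hTI c hcn x hxF
    have hcx : c * x = x * c := (Subgroup.mem_centralizer_iff.mp hc x rfl).symm
    have e : c * x * c⁻¹ = x := by rw [hcx]; group
    rw [e]
    exact hxF

end Cfsg.Agent.Lib.Helper29_BG146c
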