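import Mathlib

/-!
# The commutator subgroup `[A, y]` of an abelian subgroup `A` normalized by `y` (helper29)

`commSub A hA y hy = {a * (y * a⁻¹ * y⁻¹) | a ∈ A}`.  It is a `y`-invariant subgroup of `A`; if `y ^ n = 1`
and `A` has no `n`-torsion then `y` acts on it without fixed points; it is trivial iff `y` centralizes
`A`; and if it is a proper subgroup of the finite group `A` then `y` centralizes a non-identity element of `A`.
-/

set_option autoImplicit false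

namespace Cfsg.Agent.Lib.Helper29_BG146d

open Subgroup

universe u

variable {G : Type u} [Group G]

/-- `[A, y]` for an abelian subgroup `A` normalized by `y` -/
def commSub (A : Subgroup G) (hA : ∀ a ∈ A, ∀ b ∈ A, a * b = b * a) (y : G)
    (hy : ∀ a ∈ A, y * a * y⁻¹ ∈ A) : Subgroup G where
  carrier := {u | ∃ a ∈ A, u = a * (y * a⁻¹ * y⁻¹)}
  one_mem' := ⟨1, A.one_mem, by group⟩
  mul_mem' := by
    rintro _ _ ⟨a, ha, rfl⟩ ⟨b, hb, rfl⟩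
    refine ⟨a * b, A.mul_mem ha hb, ?_⟩
    have h1 : (y * a⁻¹ * y⁻¹) * b = b * (y * a⁻¹ * y⁻¹) := hA _ (hy _ (A.inv_mem ha)) _ hb
    have h2 : a * b = b * a := hA a ha b hb
    calc a * (y * a⁻¹ * y⁻¹) * (b * (y * b⁻¹ * y⁻¹))
        = a * ((y * a⁻¹ * y⁻¹) * b) * (y * b⁻¹ * y⁻¹) := by group
      _ = a * (b * (y * a⁻¹ * y⁻¹)) * (y * b⁻¹ * y⁻¹) := by rw [h1]
      _ = a * b * (y * (b * a)⁻¹ * y⁻¹) := by group
      _ = a * b * (y * (a * b)⁻¹ * y⁻¹) := by rw [h2]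
  inv_mem' := by
    rintro _ ⟨a, ha, rfl⟩
    refine ⟨a⁻¹, A.inv_mem ha, ?_⟩
    have h1 : (y * a * y⁻¹) * a⁻¹ = a⁻¹ * (y * a * y⁻¹) := hA _ (hy _ ha) _ (A.inv_mem ha)
    calc (a * (y * a⁻¹ * y⁻¹))⁻¹ = (y * a * y⁻¹) * a⁻¹ := by group
      _ = a⁻¹ * (y * a * y⁻¹) := h1
      _ = a⁻¹ * (y * a⁻¹⁻¹ * y⁻¹) := by rw [inv_inv]

variable {A : Subgroup G} {hA : ∀ a ∈ A, ∀ b ∈ A, a * b = b * a} {y : G}
  {hy : ∀ a ∈ A, y * a * y⁻¹ ∈ A}

theorem mem_commSub {u : G} : u ∈ commSub A hA y hy ↔ ∃ a ∈ A, u = a * (y * a⁻¹ * y⁻¹) := Iff.rfl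

theorem commSub_le : commSub A hA y hy ≤ A := by
  rintro _ ⟨a, ha, rfl⟩
  exact A.mul_mem ha (hy _ (A.inv_mem ha))

/-- `[A, y]` is `y`-invariant -/
theorem conj_mem_commSub {u : G} (hu : u ∈ commSub A hA y hy) : y * u * y⁻¹ ∈ commSub A hA y hy := by
  obtain ⟨a, ha, rfl⟩ := hu
  refine ⟨y * a * y⁻¹, hy a ha, ?_⟩
  group

/-- `y` acts without fixed points on `[A, y]` when `y ^ n = 1` and `A` has no `n`-torsion -/
theorem eq_one_of_commute {n : ℕ} (hyn : y ^ n = 1) (hAn : ∀ a ∈ A, a ^ n = 1 → a = 1) {u : G}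
    (hu : u ∈ commSub A hA y hy) (hc : y * u = u * y) : u = 1 := by
  have huA : u ∈ A := commSub_le hu
  obtain ⟨a, ha, rfl⟩ := hu
  apply hAn _ huA
  set u := a * (y * a⁻¹ * y⁻¹) with hu_def
  have h1 : a * y * a⁻¹ = u * y := by rw [hu_def]; group
  have h2 : (a * y * a⁻¹) ^ n = 1 := by rw [conj_pow, hyn]; group
  have h3 : Commute u y := hc.symm
  rw [h1, h3.mul_pow, hyn, mul_one] at h2
  exact h2

/-- `[A, y] = 1` iff `y` centralizes `A` -/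
theorem commSub_eq_bot_iff : commSub A hA y hy = ⊥ ↔ ∀ a ∈ A, y * a = a * y := by
  constructor
  · intro h a ha
    have h1 : a * (y * a⁻¹ * y⁻¹) ∈ commSub A hA y hy := ⟨a, ha, rfl⟩
    rw [h, Subgroup.mem_bot] at h1
    calc y * a = (a * (y * a⁻¹ * y⁻¹))⁻¹ * a * y := by group
      _ = a * y := by rw [h1]; group
  · intro h
    rw [eq_bot_iff]
    rintro _ ⟨a, ha, rfl⟩
    rw [Subgroup.mem_bot]
    have h1 := h a⁻¹ (A.inv_mem ha)
    rw [h1]; group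

/-- if `[A, y] < A` (with `A` finite) then `y` centralizes a non-identity element of `A` -/
theorem exists_commute_of_ne [Finite G] (hne : commSub A hA y hy ≠ A) :
    ∃ a ∈ A, a ≠ 1 ∧ y * a = a * y := by
  by_contra hcon
  push Not at hcon
  apply hne
  apply Subgroup.eq_of_le_of_card_ge commSub_le
  let f : A → commSub A hA y hy := fun a => ⟨a * (y * (a : G)⁻¹ * y⁻¹), ⟨a, a.2, rfl⟩⟩
  apply Nat.card_le_card_of_injective f
  intro a b hab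
  have h0 : (a : G) * (y * (a : G)⁻¹ * y⁻¹) = b * (y * (b : G)⁻¹ * y⁻¹) := congrArg Subtype.val hab
  -- `c = b⁻¹ a` is fixed by `y`
  have hcA : (b : G)⁻¹ * a ∈ A := A.mul_mem (A.inv_mem b.2) a.2
  have h2 : (b : G)⁻¹ * a = y * ((b : G)⁻¹ * a) * y⁻¹ := by
    have e1 : (b : G)⁻¹ * a = (y * (b : G)⁻¹ * y⁻¹) * (y * (a : G)⁻¹ * y⁻¹)⁻¹ := by
      have : (b : G)⁻¹ * (a * (y * (a : G)⁻¹ * y⁻¹)) * (y * (a : G)⁻¹ * y⁻¹)⁻¹ = (b : G)⁻¹ * a := by group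
      rw [← this, h0]; group
    calc (b : G)⁻¹ * a = (y * (b : G)⁻¹ * y⁻¹) * (y * (a : G)⁻¹ * y⁻¹)⁻¹ := e1
      _ = y * ((b : G)⁻¹ * a) * y⁻¹ := by group
  have h3 : y * ((b : G)⁻¹ * a) = ((b : G)⁻¹ * a) * y := by
    calc y * ((b : G)⁻¹ * a) = (y * ((b : G)⁻¹ * a) * y⁻¹) * y := by group
      _ = ((b : G)⁻¹ * a) * y := by rw [← h2]
  have h4 := hcon _ hcA
  by_contra hab'
  apply h4 _ h3
  intro h5
  apply hab'
  apply Subtype.ext
  calc (a : G) = b * ((b : G)⁻¹ * a) := by group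
    _ = b := by rw [h5, mul_one]

end Cfsg.Agent.Lib.Helper29_BG146d
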