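/-
Helper library (helper76): evaluating the transfer homomorphism modulo a subgroup of the target.
-/
import Mathlib.GroupTheory.Transfer

set_option autoImplicit false

namespace Cfsg.Agent.Lib.Helper76_Transfer

open MulAction Subgroup

variable {G : Type*} [Group G] {H : Subgroup G} {A : Type*} [CommGroup A]

/-- If, modulo a subgroup `K` of the target, `ϕ (g₀⁻¹ g^k g₀) ≡ b^k` whenever the conjugate lies in
`H`, then the transfer of `g` is congruent to `b ^ |G : H|` modulo `K`. -/
theorem transfer_div_pow_mem (ϕ : H →* A) [H.FiniteIndex] (K : Subgroup A) (g : G) (b : A)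
    (key : ∀ (k : ℕ) (g₀ : G) (hk : g₀⁻¹ * g ^ k * g₀ ∈ H),
      ϕ ⟨g₀⁻¹ * g ^ k * g₀, hk⟩ / b ^ k ∈ K) :
    MonoidHom.transfer ϕ g / b ^ H.index ∈ K := by
  classical
  letI := H.fintypeQuotientOfFiniteIndex
  rw [MonoidHom.transfer_eq_prod_quotient_orbitRel_zpowers_quot, index_eq_sum_minimalPeriod H g,
    ← Finset.prod_pow_eq_pow_sum, ← Finset.prod_div_distrib]
  exact Subgroup.prod_mem K (fun q _ => key _ _ _)

end Cfsg.Agent.Lib.Helper76_Transfer
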