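import Mathlib
import Cfsg.Agent.Lib.Helper34_Sylow
import Cfsg.Agent.Lib.Helper32_Nilpotent
import Cfsg.Agent.Lib.Helper1_MinNormal
import Cfsg.Agent.Lib.Helper1_Cores
import Cfsg.Agent.S0581
import Cfsg.Agent.Lib.Helper32_PGroup

/-!
# Basic API for the Kegel–Wielandt theorem (helper37)

`Fac A B` (factorization `G = AB`), conjugation bridging, the `p`-part `sy p A` of a nilpotent
subgroup, and the wrapper for the inductive hypothesis.
-/

set_option autoImplicit false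
set_option linter.unusedSectionVars false

namespace Cfsg.Agent.Lib.Helper37_KW

open Cfsg.Agent.Lib.Helper34_Sylow
open Pointwise

universe u

variable {G : Type u} [Group G]

/-- `G = AB`. -/
def Fac (A B : Subgroup G) : Prop := ∀ g : G, ∃ a ∈ A, ∃ b ∈ B, g = a * b

theorem cj_eq_smul (g : G) (A : Subgroup G) : cj g A = MulAut.conj g • A := rfl

theorem Fac.symm {A B : Subgroup G} (h : Fac A B) : Fac B A := by
  intro g
  obtain ⟨a, ha, b, hb, e⟩ := h g⁻¹
  refine ⟨b⁻¹, B.inv_mem hb, a⁻¹, A.inv_mem ha, ?_⟩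
  rw [← mul_inv_rev, ← e, inv_inv]

theorem Fac.dedekind {A B K : Subgroup G} (h : Fac A B) (hAK : A ≤ K) :
    ∀ k ∈ K, ∃ a ∈ A, ∃ b ∈ B ⊓ K, k = a * b := by
  intro k hk
  obtain ⟨a, ha, b, hb, e⟩ := h k
  refine ⟨a, ha, b, ⟨hb, ?_⟩, e⟩
  have : b = a⁻¹ * k := by rw [e]; group
  rw [this]
  exact K.mul_mem (K.inv_mem (hAK ha)) hk

theorem Fac.dedekind' {A B K : Subgroup G} (h : Fac A B) (hBK : B ≤ K) :
    ∀ k ∈ K, ∃ a ∈ A ⊓ K, ∃ b ∈ B, k = a * b := by
  intro k hk
  obtain ⟨a, ha, b, hb, e⟩ := h k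
  refine ⟨a, ⟨ha, ?_⟩, b, hb, e⟩
  have : a = k * b⁻¹ := by rw [e]; group
  rw [this]
  exact K.mul_mem hk (K.inv_mem (hBK hb))

theorem inf_eq_bot_of_coprime' {A B : Subgroup G} (h : (Nat.card A).Coprime (Nat.card B)) :
    A ⊓ B = ⊥ := (Subgroup.disjoint_of_coprime_natCard h).eq_bot

theorem Fac.card_eq [Finite G] {A B : Subgroup G} (h : Fac A B) (hd : A ⊓ B = ⊥) :
    Nat.card A * Nat.card B = Nat.card G := by
  have hc : Subgroup.IsComplement' A B := by
    apply Subgroup.isComplement'_of_disjoint_and_mul_eq_univ (disjoint_iff.mpr hd)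
    ext g
    simp only [Set.mem_univ, iff_true]
    obtain ⟨a, ha, b, hb, e⟩ := h g
    exact ⟨a, ha, b, hb, e.symm⟩
  exact hc.card_mul_card

/-! ### the `p`-part of a subgroup -/

/-- The image in `G` of a (chosen) Sylow `p`-subgroup of `A`.  For nilpotent `A` this is the
set of `p`-elements of `A`. -/
noncomputable def sy (p : ℕ) (A : Subgroup G) : Subgroup G :=
  ((default : Sylow p A) : Subgroup A).map A.subtype

theorem sy_le (p : ℕ) (A : Subgroup G) : sy p A ≤ A := by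
  rintro _ ⟨x, -, rfl⟩
  exact x.2

theorem sy_isPGroup (p : ℕ) (A : Subgroup G) : IsPGroup p (sy p A) :=
  (default : Sylow p A).isPGroup'.map _

section Finite

variable [Finite G]

theorem sy_eq_of_sylow {p : ℕ} [Fact p.Prime] {A : Subgroup G} (hA : Group.IsNilpotent A)
    (P : Sylow p A) : (P : Subgroup A).map A.subtype = sy p A := by
  have hn : ((default : Sylow p A) : Subgroup A).Normal := inferInstance
  have := Sylow.unique_of_normal (default : Sylow p A) hn
  rw [sy, Subsingleton.elim P default]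

theorem mem_sy {p : ℕ} [Fact p.Prime] {A : Subgroup G} (hA : Group.IsNilpotent A) {x : G} :
    x ∈ sy p A ↔ x ∈ A ∧ ∃ k : ℕ, x ^ p ^ k = 1 := by
  constructor
  · intro hx
    refine ⟨sy_le p A hx, ?_⟩
    obtain ⟨k, hk⟩ := (sy_isPGroup p A) ⟨x, hx⟩
    exact ⟨k, by simpa using congrArg Subtype.val hk⟩
  · rintro ⟨hxA, k, hk⟩
    have hp : IsPGroup p (Subgroup.zpowers (⟨x, hxA⟩ : A)) := by
      apply IsPGroup.of_card (n := (orderOf (⟨x, hxA⟩ : A)).factorization p)
      rw [Nat.card_zpowers]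
      have hd : orderOf (⟨x, hxA⟩ : A) ∣ p ^ k := by
        apply orderOf_dvd_of_pow_eq_one
        exact Subtype.ext (by simpa using hk)
      obtain ⟨j, -, hj⟩ := (Nat.dvd_prime_pow Fact.out).mp hd
      rw [hj, Nat.Prime.factorization_pow Fact.out]
      simp
    obtain ⟨Q, hQ⟩ := hp.exists_le_sylow
    have h1 : (⟨x, hxA⟩ : A) ∈ (Q : Subgroup A) := hQ (Subgroup.mem_zpowers _)
    rw [← sy_eq_of_sylow hA Q]
    exact ⟨⟨x, hxA⟩, h1, rfl⟩

theorem pow_conj_eq (a x : G) (n : ℕ) : (a * x * a⁻¹) ^ n = a * x ^ n * a⁻¹ := by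
  induction n with
  | zero => simp
  | succ n ih => rw [pow_succ, ih, pow_succ]; group

theorem sy_conj_mem {p : ℕ} [Fact p.Prime] {A : Subgroup G} (hA : Group.IsNilpotent A)
    {a x : G} (ha : a ∈ A) (hx : x ∈ sy p A) : a * x * a⁻¹ ∈ sy p A := by
  rw [mem_sy hA] at hx ⊢
  obtain ⟨hxA, k, hk⟩ := hx
  refine ⟨A.mul_mem (A.mul_mem ha hxA) (A.inv_mem ha), k, ?_⟩
  rw [pow_conj_eq, hk]; group

theorem sy_normal_subgroupOf {p : ℕ} [Fact p.Prime] {A : Subgroup G}
    (hA : Group.IsNilpotent A) : ((sy p A).subgroupOf A).Normal := by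
  constructor
  intro n hn g
  rw [Subgroup.mem_subgroupOf] at hn ⊢
  exact sy_conj_mem hA g.2 hn

theorem card_sy {p : ℕ} [Fact p.Prime] (A : Subgroup G) :
    Nat.card (sy p A) = p ^ (Nat.card A).factorization p := by
  rw [sy, Subgroup.card_map_of_injective A.subtype_injective]
  exact Sylow.card_eq_multiplicity _

theorem sy_ne_bot {p : ℕ} [Fact p.Prime] {A : Subgroup G} (hp : p ∣ Nat.card A) :
    sy p A ≠ ⊥ := by
  intro h
  have h1 := card_sy (p := p) A
  rw [h, Subgroup.card_bot] at h1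
  have h2 : 0 < (Nat.card A).factorization p :=
    (Nat.Prime.factorization_pos_of_dvd Fact.out Nat.card_pos.ne' hp)
  have h3 : 1 < p ^ (Nat.card A).factorization p :=
    Nat.one_lt_pow h2.ne' (Nat.Prime.one_lt Fact.out)
  omega

theorem commute_sy {p q : ℕ} [Fact p.Prime] [Fact q.Prime] (hpq : p ≠ q) {A : Subgroup G}
    (hA : Group.IsNilpotent A) {x y : G} (hx : x ∈ sy p A) (hy : y ∈ sy q A) : x * y = y * x := by
  rw [mem_sy hA] at hx hy
  obtain ⟨hxA, k, hk⟩ := hx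
  obtain ⟨hyA, l, hl⟩ := hy
  have h := Cfsg.Agent.Lib.Helper32_Nilpotent.commute_of_coprime_pow_eq_one A
    ⟨x, hxA⟩ ⟨y, hyA⟩ (p ^ k) (q ^ l) (Subtype.ext (by simpa using hk))
    (Subtype.ext (by simpa using hl))
    (Nat.Coprime.pow _ _ ((Nat.coprime_primes Fact.out Fact.out).mpr hpq))
  exact congrArg Subtype.val h.eq

theorem le_of_sy_le {A K : Subgroup G} (hA : Group.IsNilpotent A)
    (h : ∀ (p : ℕ) [Fact p.Prime], sy p A ≤ K) : A ≤ K := by
  have h1 : A = (⊤ : Subgroup A).map A.subtype := by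
    rw [← MonoidHom.range_eq_map, Subgroup.range_subtype]
  rw [h1, ← Cfsg.Agent.Lib.Helper1_Cores.iSup_sylow_eq_top, Subgroup.map_iSup]
  refine iSup_le (fun p => ?_)
  rw [Subgroup.map_iSup]
  refine iSup_le (fun P => ?_)
  have : Fact (p : ℕ).Prime := ⟨p.2⟩
  rw [sy_eq_of_sylow hA P]
  exact h p

theorem nilpotent_of_le {S T : Subgroup G} (h : S ≤ T) (hT : Group.IsNilpotent T) :
    Group.IsNilpotent S := Cfsg.Agent.S0581.nilpotent_of_le h hT

theorem nilpotent_cj (x : G) {H : Subgroup G} (hH : Group.IsNilpotent H) :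
    Group.IsNilpotent (cj x H) := Cfsg.Agent.S0581.nilpotent_cj x hH

theorem cj_sy {p : ℕ} [Fact p.Prime] {A : Subgroup G} (hA : Group.IsNilpotent A) (g : G) :
    cj g (sy p A) = sy p (cj g A) := by
  ext x
  rw [mem_cj, mem_sy hA, mem_sy (nilpotent_cj g hA), mem_cj]
  constructor
  · rintro ⟨h1, k, hk⟩
    refine ⟨h1, k, ?_⟩
    have : (g⁻¹ * x * g) ^ p ^ k = g⁻¹ * x ^ p ^ k * g := by
      have := pow_conj_eq g⁻¹ x (p ^ k)
      rwa [inv_inv] at this
    rw [this] at hk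
    have : x ^ p ^ k = g * (g⁻¹ * x ^ p ^ k * g) * g⁻¹ := by group
    rw [this, hk]; group
  · rintro ⟨h1, k, hk⟩
    refine ⟨h1, k, ?_⟩
    have : (g⁻¹ * x * g) ^ p ^ k = g⁻¹ * x ^ p ^ k * g := by
      have := pow_conj_eq g⁻¹ x (p ^ k)
      rwa [inv_inv] at this
    rw [this, hk]; group

theorem sy_card_eq_of_hall {p : ℕ} [Fact p.Prime] {A : Subgroup G}
    (hHall : (Nat.card A).Coprime A.index) (hp : p ∣ Nat.card A) :
    Nat.card (sy p A) = p ^ (Nat.card G).factorization p := by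
  rw [card_sy, ← A.card_mul_index, Nat.factorization_mul Nat.card_pos.ne'
    Subgroup.index_ne_zero_of_finite]
  have hnd : ¬ p ∣ A.index := by
    intro hd
    have h1 : p ∣ Nat.gcd (Nat.card A) A.index := Nat.dvd_gcd hp hd
    rw [hHall] at h1
    exact (Nat.Prime.one_lt Fact.out).ne' (Nat.dvd_one.mp h1)
  rw [Finsupp.add_apply, Nat.factorization_eq_zero_of_not_dvd hnd, add_zero]

/-- The `p`-part of a nilpotent Hall subgroup, as a Sylow subgroup of `G`. -/
noncomputable def sySylow {p : ℕ} [Fact p.Prime] {A : Subgroup G}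
    (hHall : (Nat.card A).Coprime A.index) (hp : p ∣ Nat.card A) : Sylow p G :=
  Sylow.ofCard (sy p A) (sy_card_eq_of_hall hHall hp)

theorem coe_sySylow {p : ℕ} [Fact p.Prime] {A : Subgroup G}
    (hHall : (Nat.card A).Coprime A.index) (hp : p ∣ Nat.card A) :
    ((sySylow hHall hp : Sylow p G) : Subgroup G) = sy p A := rfl

theorem sy_hall {p : ℕ} [Fact p.Prime] {A : Subgroup G}
    (hHall : (Nat.card A).Coprime A.index) :
    (Nat.card (sy p A)).Coprime (sy p A).index := by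
  by_cases hp : p ∣ Nat.card A
  · have := (sySylow hHall hp).card_coprime_index
    rwa [coe_sySylow] at this
  · have : Nat.card (sy p A) = 1 := by
      rw [card_sy, Nat.factorization_eq_zero_of_not_dvd hp, pow_zero]
    rw [this]
    exact Nat.coprime_one_left _

/-- An element of `sy p A` centralizing `sy p A` centralizes `A`. -/
theorem commute_of_center_sy {p : ℕ} [Fact p.Prime] {A : Subgroup G} (hA : Group.IsNilpotent A)
    {x : G} (hx : x ∈ sy p A) (hc : ∀ y ∈ sy p A, x * y = y * x) :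
    ∀ a ∈ A, x * a = a * x := by
  have h1 : A ≤ Subgroup.centralizer {x} := by
    apply le_of_sy_le hA
    intro q _ y hy
    rw [Subgroup.mem_centralizer_singleton_iff]
    by_cases hqp : q = p
    · subst hqp
      exact (hc y hy).symm
    · exact commute_sy hqp hA hy hx
  intro a ha
  have := h1 ha
  rw [Subgroup.mem_centralizer_singleton_iff] at this
  exact this.symm

/-- A nontrivial subgroup of `sy p A` normalized by `sy p A` contains a nontrivial element
central in `A`. -/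
theorem exists_central_of_normal {p : ℕ} [Fact p.Prime] {A : Subgroup G}
    (hA : Group.IsNilpotent A) {U : Subgroup G} (hU : U ≤ sy p A) (hU1 : U ≠ ⊥)
    (hn : ∀ y ∈ sy p A, ∀ u ∈ U, y * u * y⁻¹ ∈ U) :
    ∃ z ∈ U, z ≠ 1 ∧ ∀ a ∈ A, z * a = a * z := by
  have hP : IsPGroup p (sy p A) := sy_isPGroup p A
  have hN : (U.subgroupOf (sy p A)).Normal := by
    constructor
    intro n hn' g
    rw [Subgroup.mem_subgroupOf] at hn' ⊢
    exact hn g g.2 n hn'
  have hN1 : U.subgroupOf (sy p A) ≠ ⊥ := by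
    intro h
    apply hU1
    rw [Subgroup.subgroupOf_eq_bot] at h
    rw [eq_bot_iff]
    intro u hu
    have : u ∈ U ⊓ sy p A := ⟨hu, hU hu⟩
    rw [disjoint_iff.mp h] at this
    exact this
  obtain ⟨z, hzN, hzc, hz1⟩ :=
    Cfsg.Agent.Lib.Helper32_PGroup.exists_mem_center_of_normal hP (U.subgroupOf (sy p A)) hN1
  refine ⟨z.1, Subgroup.mem_subgroupOf.mp hzN, fun h => hz1 (Subtype.ext h), ?_⟩
  apply commute_of_center_sy hA z.2
  intro y hy
  have := Subgroup.mem_center_iff.mp hzc ⟨y, hy⟩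
  exact (congrArg Subtype.val this).symm

/-- If `p ∣ |A|` (nilpotent), `A` has a central element of order `p`. -/
theorem exists_central_prime {p : ℕ} [Fact p.Prime] {A : Subgroup G}
    (hA : Group.IsNilpotent A) (hp : p ∣ Nat.card A) :
    ∃ z ∈ sy p A, orderOf z = p ∧ ∀ a ∈ A, z * a = a * z := by
  obtain ⟨z, hz, hz1, hzc⟩ := exists_central_of_normal hA (le_refl (sy p A)) (sy_ne_bot hp)
    (fun y hy u hu => sy_conj_mem hA (sy_le p A hy) hu)
  obtain ⟨-, k, hk⟩ := (mem_sy hA).mp hz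
  have hd : orderOf z ∣ p ^ k := orderOf_dvd_of_pow_eq_one hk
  obtain ⟨j, -, hj⟩ := (Nat.dvd_prime_pow Fact.out).mp hd
  have hj0 : j ≠ 0 := by
    rintro rfl
    rw [pow_zero, orderOf_eq_one_iff] at hj
    exact hz1 hj
  obtain ⟨i, rfl⟩ := Nat.exists_eq_succ_of_ne_zero hj0
  refine ⟨z ^ p ^ i, Subgroup.pow_mem _ hz _, ?_, ?_⟩
  · rw [orderOf_pow' z (pow_ne_zero _ (Nat.Prime.ne_zero Fact.out)), hj,
      Nat.gcd_eq_right (pow_dvd_pow p (Nat.le_succ i)), pow_succ,
      Nat.mul_div_cancel_left _ (pow_pos (Nat.Prime.pos Fact.out) i)]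
  · intro a ha
    have h1 : Commute z a := hzc a ha
    exact (h1.pow_left _).eq

/-- Sylow: a `p`-subgroup lies in a conjugate of the `p`-part of a nilpotent Hall subgroup. -/
theorem exists_le_cj_sy {p : ℕ} [Fact p.Prime] {A : Subgroup G}
    (hHall : (Nat.card A).Coprime A.index) (hp : p ∣ Nat.card A) {U : Subgroup G}
    (hU : IsPGroup p U) : ∃ g : G, U ≤ cj g (sy p A) := by
  obtain ⟨P, hP⟩ := hU.exists_le_sylow
  obtain ⟨g, hg⟩ := MulAction.exists_smul_eq G (sySylow hHall hp) P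
  refine ⟨g, ?_⟩
  have h1 : ((g • sySylow hHall hp : Sylow p G) : Subgroup G) = cj g (sy p A) := by
    rw [Sylow.coe_subgroup_smul, coe_sySylow]; rfl
  rw [← h1, hg]
  exact hP

theorem card_lt_of_ne_top {H : Subgroup G} (hH : H ≠ ⊤) : Nat.card H < Nat.card G :=
  lt_of_le_of_ne (Subgroup.card_le_card_group H)
    (fun h => hH ((Subgroup.card_eq_iff_eq_top H).mp h))

/-- The inductive hypothesis of Wielandt's theorem. -/
def IH (G : Type u) [Group G] : Prop :=
  ∀ (K : Type u) [Group K] [Finite K], Nat.card K < Nat.card G →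
    ∀ A B : Subgroup K, Group.IsNilpotent A → Group.IsNilpotent B →
      (Nat.card A).Coprime (Nat.card B) → (∀ g : K, ∃ a ∈ A, ∃ b ∈ B, g = a * b) →
      Group.IsSolvable K

theorem IH.solvable_of_fac (ih : IH G) {H A₁ B₁ : Subgroup G} (hH : H ≠ ⊤)
    (hA : A₁ ≤ H) (hB : B₁ ≤ H) (nA : Group.IsNilpotent A₁) (nB : Group.IsNilpotent B₁)
    (cop : (Nat.card A₁).Coprime (Nat.card B₁))
    (fac : ∀ h ∈ H, ∃ a ∈ A₁, ∃ b ∈ B₁, h = a * b) : Group.IsSolvable H := by
  have cA : Nat.card (A₁.subgroupOf H) = Nat.card A₁ :=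
    Nat.card_congr (Subgroup.subgroupOfEquivOfLe hA).toEquiv
  have cB : Nat.card (B₁.subgroupOf H) = Nat.card B₁ :=
    Nat.card_congr (Subgroup.subgroupOfEquivOfLe hB).toEquiv
  refine ih H (card_lt_of_ne_top hH) (A₁.subgroupOf H) (B₁.subgroupOf H) ?_ ?_ ?_ ?_
  · rw [Cfsg.Agent.S0581.nilpotent_map_subtype, Subgroup.map_subgroupOf_eq_of_le hA]
    exact nA
  · rw [Cfsg.Agent.S0581.nilpotent_map_subtype, Subgroup.map_subgroupOf_eq_of_le hB]
    exact nB
  · rw [cA, cB]; exact cop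
  · intro g
    obtain ⟨a, ha, b, hb, e⟩ := fac g.1 g.2
    exact ⟨⟨a, hA ha⟩, Subgroup.mem_subgroupOf.mpr ha, ⟨b, hB hb⟩, Subgroup.mem_subgroupOf.mpr hb,
      Subtype.ext e⟩

/-- A nontrivial solvable subgroup has a nontrivial normal `s`-subgroup for some prime `s`. -/
theorem exists_normal_pgroup_of_solvable {D : Subgroup G} (hsol : Group.IsSolvable D)
    (hD : D ≠ ⊥) :
    ∃ (s : ℕ) (U : Subgroup G), s.Prime ∧ U ≤ D ∧ U ≠ ⊥ ∧ IsPGroup s U ∧
      D ≤ Subgroup.normalizer (U : Set G) := by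
  have htop : Group.IsSolvable (⊤ : Subgroup D) :=
    Group.isSolvable_of_isSolvable_injective (f := (⊤ : Subgroup D).subtype) Subtype.val_injective
  have hne : (⊤ : Subgroup D) ≠ ⊥ := by
    intro h
    apply hD
    rw [eq_bot_iff]
    intro d hd
    have : (⟨d, hd⟩ : D) ∈ (⊤ : Subgroup D) := Subgroup.mem_top _
    rw [h, Subgroup.mem_bot] at this
    exact congrArg Subtype.val this
  obtain ⟨M, hMn, -, hM1, -, s, hs, hexp⟩ :=
    Cfsg.Agent.Lib.Helper1_MinNormal.exists_elementary_abelian_normal_le (⊤ : Subgroup D) htop hne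
  refine ⟨s, M.map D.subtype, hs, ?_, ?_, ?_, ?_⟩
  · rintro _ ⟨x, -, rfl⟩
    exact x.2
  · intro h
    apply hM1
    rwa [Subgroup.map_eq_bot_iff_of_injective _ D.subtype_injective] at h
  · have : IsPGroup s M := by
      intro x
      refine ⟨1, ?_⟩
      rw [pow_one]
      exact Subtype.ext (by rw [Subgroup.coe_pow]; exact hexp x.1 x.2)
    exact this.map _
  · intro d hd
    rw [Subgroup.mem_normalizer_iff]
    intro x
    constructor
    · rintro ⟨y, hy, rfl⟩
      exact ⟨⟨d, hd⟩ * y * ⟨d, hd⟩⁻¹, hMn.conj_mem y hy ⟨d, hd⟩, rfl⟩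
    · rintro ⟨y, hy, hxy⟩
      have h1 := hMn.conj_mem y hy ⟨d, hd⟩⁻¹
      refine ⟨⟨d, hd⟩⁻¹ * y * ⟨d, hd⟩⁻¹⁻¹, h1, ?_⟩
      have h2 : D.subtype y = d * x * d⁻¹ := hxy
      simp only [Subgroup.subtype_apply, Subgroup.coe_mul, Subgroup.coe_inv, inv_inv]
      simp only [Subgroup.subtype_apply] at h2
      rw [h2]; group

end Finite

end Cfsg.Agent.Lib.Helper37_KW
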