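import Mathlib
import Cfsg.Agent.Lib.Helper47_BG1214b
import Cfsg.Agent.Lib.Helper37_KWBasic

/-!
# Bender–Glauberman, Lemma 12.15 (`sigma_Jsub`)  (helper47)

Every nontrivial `σ(M)`-subgroup of a minimal simple group of odd order is conjugate to a subgroup of `M_σ`.
The Uniqueness Theorem (S1403), S1444, the first part of S1416 and the needed parts of S1417 are explicit
hypotheses (`UniqHyp`, `H1444`, `CentHyp`, `Tau2Hyp`).
-/

set_option autoImplicit false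

namespace Cfsg.Agent.Lib.Helper47_BG1215

open Subgroup Cfsg Cfsg.Agent.Lib.Helper22_BGTrans Cfsg.Agent.Lib.Helper22_Radical
  Cfsg.Agent.Lib.Helper84_RelSylow Cfsg.Agent.Lib.Helper49_Sigma
  Cfsg.Agent.Lib.Helper49_Alpha Cfsg.Agent.Lib.Helper70_BG106
  Cfsg.Agent.Lib.Helper73_BG12
  Cfsg.Agent.Lib.Helper47_BG1214a Cfsg.Agent.Lib.Helper47_BG1214b

universe u

variable {G : Type u} [Group G] [Finite G]

/-- **Bender–Glauberman, Lemma 12.15** -/
theorem sigma_Jsub (hG : IsMinSimpleOddOrder G) (hU : UniqHyp G) (h44 : H1444.{u}) (hC : CentHyp G)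
    (h17 : Tau2Hyp G) (M : Subgroup G) (hM : IsCoatom M) (Y : Subgroup G) (hY1 : Y ≠ ⊥)
    (hY : ∀ p : ℕ, p.Prime → p ∣ Nat.card Y → p ∈ sigma M) :
    ∃ g : G, Y.map (MulAut.conj g).toMonoidHom ≤ sigmaCore M := by
  have hYtop : Y ≠ ⊤ := by
    rintro rfl
    have hidx : M.index ≠ 1 := fun h => hM.1 (Subgroup.index_eq_one.mp h)
    obtain ⟨r, hr, hrd⟩ := Nat.exists_prime_and_dvd hidx
    have hrG : r ∣ Nat.card ↥(⊤ : Subgroup G) := by
      rw [Subgroup.card_top]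
      exact hrd.trans (Subgroup.index_dvd_card M)
    have hrσ := hY r hr hrG
    have : Fact r.Prime := ⟨hr⟩
    obtain ⟨P, hP⟩ := exists_sylM_of_mem_sigma hrσ
    exact not_dvd_index_of_sylM hP hrd
  have hYs : Group.IsSolvable ↥Y := hG.2.2.2 Y hYtop
  obtain ⟨p, U, hp, hUY, hU1, hUp, hYU⟩ :=
    Cfsg.Agent.Lib.Helper37_KW.exists_normal_pgroup_of_solvable hYs hY1
  have : Fact p.Prime := ⟨hp⟩
  have hpσ : p ∈ sigma M := hY p hp
    ((Cfsg.Agent.Lib.Helper49_MaxSub.dvd_card_of_isPGroup_ne_bot hUp hU1).trans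
      (Subgroup.card_dvd_of_le hUY))
  obtain ⟨P, hP⟩ := exists_sylM_of_mem_sigma hpσ
  obtain ⟨g, -, hg⟩ := hP.1.exists_conj_le (K := U) le_top hUp
  have hXP : cj g U ≤ P := by
    rintro _ ⟨x, hx, rfl⟩
    exact hg x hx
  have hXM : cj g U ≤ M := hXP.trans hP.2.1
  have hX1 : cj g U ≠ ⊥ := cj_ne_bot hU1
  have hXp : IsPGroup p ↥(cj g U) := hUp.map _
  have hY'X : cj g Y ≤ normalizer ((cj g U : Subgroup G) : Set G) := by
    rw [normalizer_cj]
    exact cj_mono hYU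
  have hY' : ∀ q : ℕ, q.Prime → q ∣ Nat.card ↥(cj g Y) → q ∈ sigma M := by
    intro q hq hd
    rw [card_cj] at hd
    exact hY q hq hd
  suffices h : ∃ m : G, cj m (cj g Y) ≤ M by
    obtain ⟨m, hm⟩ := h
    refine ⟨m * g, ?_⟩
    show cj (m * g) Y ≤ sigmaCore M
    rw [cj_mul]
    exact le_sigmaCore_of_le hG hU h44 hM hm (by
      intro q hq hd
      rw [card_cj] at hd
      exact hY' q hq hd)
  by_cases hN : normalizer ((cj g U : Subgroup G) : Set G) ≤ M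
  · exact ⟨1, by rw [cj_one']; exact hY'X.trans hN⟩
  · have hXtop : cj g U ≠ ⊤ := ne_top_of_isPGroup hG hp hXp
    have hNtop := normalizer_ne_top hG hX1 hXtop
    obtain ⟨Ms, hMs, hNMs⟩ := (eq_top_or_exists_le_coatom _).resolve_left hNtop
    have hne : Ms ≠ M := fun h => hN (h ▸ hNMs)
    obtain ⟨S, hXS, hS⟩ := exists_isSylowIn_ge (H := M ⊓ Ms)
      (le_inf hXM (le_normalizer.trans hNMs)) hXp
    obtain ⟨hnc, hNS, hidx⟩ := sigma_other_maximal hG hU hC hM hpσ hX1 hne hNMs hS hXS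
    have hSMs : IsSylowIn p S Ms := ⟨hS.le.trans inf_le_right, hS.isPGroup, hidx⟩
    have hSM : S ≤ M := hS.le.trans inf_le_left
    by_cases hpMs : p ∈ sigma Ms
    · obtain ⟨m, -, hm⟩ := case_sigma_conj hG hU h44 hM hMs hnc hpσ hpMs hSMs hNS
        (hY'X.trans hNMs) hY'
      exact ⟨m, hm⟩
    · obtain ⟨m, -, hm⟩ := case_tau2_conj hG hU h44 hC h17 hM hMs hnc hpσ hpMs hX1 hNMs hSMs hXS
        hSM hNS (hY'X.trans hNMs) hY'
      exact ⟨m, hm⟩

end Cfsg.Agent.Lib.Helper47_BG1215
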