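import Mathlib
import Cfsg.Prelude.Def_OddOrderLocal
import Cfsg.Agent.S1408
import Cfsg.Agent.S1418
import Cfsg.Agent.S1423
import Cfsg.Agent.S1425
import Cfsg.Agent.Lib.Helper52_FrobFormula
import Cfsg.Agent.Lib.Helper29_BG146b
import Cfsg.Agent.Lib.Helper29_BG146c
import Cfsg.Agent.Lib.Helper29_BG146d

/-!
# Bender–Glauberman 14.6(a): `τ₂(M) = ∅` (helper29)

`M` maximal, `x ∈ M_σ^#`, `C_G(x) ⊄ M`, `N ⊇ C_G(x)` maximal, `p ∈ σ(N)` dividing `|M|`, and `κ(M) = ∅`.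
Then `τ₂(M) = ∅`.
-/

set_option autoImplicit false
open Cfsg

namespace Cfsg.Agent.Lib.Helper29_BG146e

open Subgroup Cfsg.Agent.Lib.Helper25_BGHyp Cfsg.Agent.Lib.Helper29_BG144c
  Cfsg.Agent.Lib.Helper29_BG146a Cfsg.Agent.Lib.Helper29_BG146b Cfsg.Agent.Lib.Helper29_BG146d
  Cfsg.Agent.Lib.Helper29_BG145

universe u

variable {G : Type u} [Group G]

/-- commuting with `y` is the same as centralizing `⟨y⟩` -/
theorem mem_centralizer_zpowers_iff {y z : G} :
    z ∈ centralizer ((zpowers y : Subgroup G) : Set G) ↔ y * z = z * y := by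
  rw [Subgroup.mem_centralizer_iff]
  constructor
  · intro h
    exact h y (Subgroup.mem_zpowers y)
  · intro h w hw
    obtain ⟨i, rfl⟩ := Subgroup.mem_zpowers_iff.mp hw
    have h1 : Commute y z := h
    exact (h1.zpow_left i).eq

/-- commuting with `y` is the same as centralizing `{y}` -/
theorem mem_centralizer_singleton_iff {y z : G} :
    z ∈ centralizer ({y} : Set G) ↔ y * z = z * y := by
  rw [Subgroup.mem_centralizer_iff]
  constructor
  · intro h
    exact h y rfl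
  · rintro h _ rfl
    exact h

variable [Finite G]

/-- the basic data of the configuration: `q ∈ σ(M) ∖ β(M)`, `q ∈ τ₂(N)` -/
theorem base_data (hG : IsMinSimpleOddOrder G) (hSD : SigmaDisj G) (h75 : H1375 G)
    {M : Subgroup G} (hM : IsCoatom M) {x : G} (hx : x ∈ sigmaCore M) (hx1 : x ≠ 1)
    (hxM : ¬ centralizer ({x} : Set G) ≤ M) {N : Subgroup G} (hN : IsCoatom N)
    (hxN : centralizer ({x} : Set G) ≤ N) :
    ∃ q : ℕ, q.Prime ∧ q ∈ sigma M ∧ q ∉ beta M ∧ q ∈ tau2 N := by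
  have hU := Cfsg.Agent.Lib.Helper49_SigmaDisjoint.uniqHyp hG
  have hC : Cfsg.Agent.Lib.Helper73_BG12.CentHyp G := fun M hM p _ A hAM hAe hA2 =>
    (Cfsg.Agent.S1416.result hG M hM p A ⟨hAM, hAe, hA2⟩).1
  have h17 : Cfsg.Agent.Lib.Helper79_BG141.Hyp1417 G :=
    fun M hM p _ hp A hA => Cfsg.Agent.S1417.result hG M hM p hp A hA
  have hSP : Cfsg.Agent.Lib.Helper29_BG144b.SigmaPartition G := hSD
  obtain ⟨huniq, -, -, -⟩ := data_of_h75 h75 hM hx hx1 hxM hN hxN
  have hx1' : orderOf x ≠ 1 := by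
    rw [Ne, orderOf_eq_one_iff]; exact hx1
  obtain ⟨q, hq, hqx⟩ := Nat.exists_prime_and_dvd hx1'
  have : Fact q.Prime := ⟨hq⟩
  obtain ⟨hqσ, hXq, hX1, hXx, hXM, hxMM, -, -⟩ := setup hG hU hM hx hx1 hq hqx
  have hCX : ¬ centralizer ((zpowers (x ^ (orderOf x / q)) : Subgroup G) : Set G) ≤ M := by
    intro h
    apply hxM
    refine le_trans ?_ h
    intro c hc
    rw [Subgroup.mem_centralizer_iff] at hc ⊢
    intro u hu
    obtain ⟨i, rfl⟩ := Subgroup.mem_zpowers_iff.mp (hXx hu)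
    have h1 : Commute x c := hc x rfl
    exact (h1.zpow_left i).eq
  have hXcard : Nat.card (zpowers (x ^ (orderOf x / q))) = q := by
    rw [Nat.card_zpowers, orderOf_pow_orderOf_div (orderOf_pos x).ne' hqx]
  have hqβ : q ∉ beta M := by
    intro hβ
    exact hCX (Cfsg.Agent.S1423.result hG M hM q hqσ _ hXM hXcard default (Or.inl hβ)).1.1
  obtain ⟨N₁, hN₁, hCN₁, hτ, -, -, -, -, -⟩ := core hG hU hC h17 hSP hM hx hx1 hq hqx hCX
  have := huniq N₁ hN₁ hCN₁
  subst this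
  exact ⟨q, hq, hqσ, hqβ, hτ⟩

/-- **B&G 14.6(a), the `τ₂`-part.** -/
theorem tau2_eq_empty (hG : IsMinSimpleOddOrder G) (hSD : SigmaDisj G) (h75 : H1375 G)
    {M : Subgroup G} (hM : IsCoatom M) {x : G} (hx : x ∈ sigmaCore M) (hx1 : x ≠ 1)
    (hxM : ¬ centralizer ({x} : Set G) ≤ M) {N : Subgroup G} (hN : IsCoatom N)
    (hxN : centralizer ({x} : Set G) ≤ N) {p : ℕ} (hpN : p ∈ sigma N) (hpM : p ∣ Nat.card M)
    (hκM : kappa M = ∅) : tau2 M = ∅ := by
  rw [Set.eq_empty_iff_forall_notMem]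
  intro t htτ
  have hU := Cfsg.Agent.Lib.Helper49_SigmaDisjoint.uniqHyp hG
  obtain ⟨-, -, hcompl, -⟩ := data_of_h75 h75 hM hx hx1 hxM hN hxN
  obtain ⟨-, hσdisj⟩ := pair_data hG hU hSD hM hN hx hx1 hxN hcompl
  obtain ⟨q, hq, hqσ, hqβ, hqτ⟩ := base_data hG hSD h75 hM hx hx1 hxM hN hxN
  have : Fact q.Prime := ⟨hq⟩
  have hp : p.Prime := hpN.1
  have : Fact p.Prime := ⟨hp⟩
  have ht : t.Prime := htτ.1
  have : Fact t.Prime := ⟨ht⟩
  have hHallM := Cfsg.Agent.Lib.Helper76_BG13b.sigma_hall hG hM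
  have hxC : x ∈ centralizer ({x} : Set G) := mem_centralizer_singleton_iff.mpr rfl
  have hxNN : x ∈ N := hxN hxC
  have hNM : N ≠ M := by
    rintro rfl
    exact hxM hxN
  -- (1) primes of `σ(N)` dividing `|M|` lie in `β(N)`
  have hβ : ∀ s ∈ sigma N, s ∣ Nat.card M → s ∈ beta N := fun s hsN hsM =>
    mem_beta_of_mem_sigma hG hM hN hqσ hqβ hqτ hcompl hsN hsM (hσdisj s hsN)
  have hpβ : p ∈ beta N := hβ p hpN hpM
  have hpσM : p ∉ sigma M := hσdisj p hpN
  -- (2) a complement `E` of `M_σ` and `A ≤ E` elementary abelian of order `t ^ 2`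
  obtain ⟨E, hE⟩ := Cfsg.Agent.Lib.Helper53_BG16b.exists_compl_sigmaCore hHallM
  obtain ⟨A, hAE, hAe, hA2⟩ := Cfsg.Agent.Lib.Helper76_BG13c.exists_elemAb_le_compl hG hM hE htτ
  have hEM : E ≤ M := hE.1
  have hAM : A ≤ M := hAE.trans hEM
  have htM : t ∣ Nat.card M := by
    have h1 : t ∣ Nat.card A := by rw [hA2]; exact dvd_pow_self t two_ne_zero
    exact h1.trans (Subgroup.card_dvd_of_le hAM)
  have ht_ideal : ¬ IsIdealPrime t G :=
    (Cfsg.Agent.S1408.result hG M hM t htτ.2.1 htτ.2.2.1 htτ.2.2.2).1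
  have htσN : t ∉ sigma N := fun h => ht_ideal (hβ t h htM).2
  have htp : t ≠ p := by
    rintro rfl
    exact htσN hpN
  -- the `t`-rank of `N` is at most one
  have htN1 : PRankLE t 1 ↥N := by
    by_contra hr1
    have hr2 : PRankLE t 2 ↥N := by
      by_contra hr2
      exact htσN (Cfsg.Agent.Lib.Helper49_Alpha.mem_sigma_of_mem_alpha hG hU hN ⟨ht, hr2⟩)
    have htτN : t ∈ tau2 N := ⟨ht, htσN, hr2, hr1⟩
    obtain ⟨A', hA'D, hA'e, hA'2⟩ :=
      Cfsg.Agent.Lib.Helper76_BG13c.exists_elemAb_le_compl hG hN hcompl htτN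
    have h1 := (Cfsg.Agent.S1417.result hG M hM t htτ A'
      ⟨hA'D.trans inf_le_left, hA'e, hA'2⟩).2.2.2.2.1 N hN hNM (hA'D.trans inf_le_right)
    have h2 : x ∈ sigmaCore M ⊓ N := ⟨hx, hxNN⟩
    rw [h1, Subgroup.mem_bot] at h2
    exact hx1 h2
  -- the `p`-rank of `M` is at most one
  have hpM1 : PRankLE p 1 ↥M := by
    by_contra hr1
    have hr2 : PRankLE p 2 ↥M := by
      by_contra hr2
      exact hpσM (Cfsg.Agent.Lib.Helper49_Alpha.mem_sigma_of_mem_alpha hG hU hM ⟨hp, hr2⟩)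
    exact (Cfsg.Agent.S1408.result hG M hM p hpσM hr2 hr1).1 hpβ.2
  -- S1417, S1418 for `(M, E, t, A)`
  obtain ⟨⟨hEA, -⟩, -, h18c⟩ := Cfsg.Agent.S1418.result hG M hM E hE t htτ A ⟨hAE, hAe, hA2⟩
  have hcentA : sigmaCore M ⊓ centralizer (A : Set G) = ⊥ :=
    (Cfsg.Agent.S1417.result hG M hM t htτ A ⟨hAM, hAe, hA2⟩).2.2.2.1
  -- (3) `y ∈ E` of order `p`
  have hpE : p ∣ Nat.card E := by
    have h1 := card_of_isComplIn hE
    rw [h1] at hpM
    rcases (Nat.Prime.dvd_mul hp).mp hpM with h | h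
    · exact h
    · exact absurd (hHallM.2.1 p hp h) hpσM
  obtain ⟨y, hy⟩ := exists_prime_orderOf_dvd_card' p hpE
  have hyo : orderOf (y : G) = p := by rw [Subgroup.orderOf_coe]; exact hy
  have hyE : (y : G) ∈ E := y.2
  have hyM : (y : G) ∈ M := hEM hyE
  have hy1 : (y : G) ≠ 1 := by
    intro h
    rw [h, orderOf_one] at hyo
    exact hp.one_lt.ne hyo
  have hYcard : Nat.card (zpowers (y : G)) = p := by rw [Nat.card_zpowers, hyo]
  have hY1 : zpowers (y : G) ≠ ⊥ := by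
    intro h
    rw [h, Subgroup.card_bot] at hYcard
    exact hp.one_lt.ne hYcard
  obtain ⟨g, hg⟩ := Cfsg.Agent.S1425.result hG N hN (zpowers (y : G)) hY1 (by
    intro r hr hrd
    rw [hYcard] at hrd
    rw [(Nat.prime_dvd_prime_iff_eq hr hp).mp hrd]
    exact hpN)
  have hY'card : Nat.card ((zpowers (y : G)).map (MulAut.conj g).toMonoidHom) = p := by
    rw [Subgroup.card_map_of_injective (MulAut.conj g).injective, hYcard]
  have hY'N : (zpowers (y : G)).map (MulAut.conj g).toMonoidHom ≤ N :=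
    hg.trans (Cfsg.Agent.Lib.Helper35_BG11a.sigmaCore_le N)
  obtain ⟨⟨hCY'N, -⟩, -, -⟩ :=
    Cfsg.Agent.S1423.result hG N hN p hpN _ hY'N hY'card default (Or.inl hpβ)
  have hy'mem : g * (y : G) * g⁻¹ ∈ (zpowers (y : G)).map (MulAut.conj g).toMonoidHom :=
    ⟨(y : G), Subgroup.mem_zpowers _, rfl⟩
  have hy'σ : g * (y : G) * g⁻¹ ∈ sigmaCore N := hg hy'mem
  have hy'1 : g * (y : G) * g⁻¹ ≠ 1 := by
    intro h
    apply hy1
    calc (y : G) = g⁻¹ * (g * (y : G) * g⁻¹) * g := by group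
      _ = 1 := by rw [h]; group
  -- elements commuting with `y` are conjugated by `g` into `N`
  have hconjN : ∀ a : G, (y : G) * a = a * y → g * a * g⁻¹ ∈ N := by
    intro a ha
    apply hCY'N
    rw [Subgroup.mem_centralizer_iff]
    rintro _ ⟨w, hw, rfl⟩
    obtain ⟨i, rfl⟩ := Subgroup.mem_zpowers_iff.mp hw
    have h1 : Commute (y : G) a := ha
    have h2 : (y : G) ^ i * a = a * (y : G) ^ i := (h1.zpow_left i).eq
    simp only [MulEquiv.coe_toMonoidHom, MulAut.conj_apply]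
    calc g * (y : G) ^ i * g⁻¹ * (g * a * g⁻¹) = g * ((y : G) ^ i * a) * g⁻¹ := by group
      _ = g * (a * (y : G) ^ i) * g⁻¹ := by rw [h2]
      _ = g * a * g⁻¹ * (g * (y : G) ^ i * g⁻¹) := by group
  -- (4) `y` does not centralize `A`
  have hyA : ¬ ∀ a ∈ A, (y : G) * a = a * y := by
    intro h
    have hAgN : A.map (MulAut.conj g).toMonoidHom ≤ N := by
      rintro _ ⟨a, ha, rfl⟩
      exact hconjN a (h a ha)
    have hAge : IsElementaryAbelian t (A.map (MulAut.conj g).toMonoidHom) :=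
      Cfsg.Agent.Lib.Helper76_BG13a.isElementaryAbelian_cj hAe g
    have hAg2 : Nat.card (A.map (MulAut.conj g).toMonoidHom) = t ^ 2 := by
      rw [Subgroup.card_map_of_injective (MulAut.conj g).injective, hA2]
    exact Cfsg.Agent.Lib.Helper76_BG13a.not_pRankLE_one_of_elemAb ht hAgN hAge hAg2 htN1
  -- (5) `y` acts without fixed points on `M_σ`
  have hreg : ∀ z ∈ sigmaCore M, (y : G) * z = z * y → z = 1 := by
    intro z hz hc
    by_contra hz1
    have h1 : p ∈ kappa M := Cfsg.Agent.Lib.Helper53_BG16b.mem_kappa_of_centralizing hG hpσM hpM1 hyM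
      (by rw [hyo]) hz hz1 hc
    rw [hκM] at h1
    exact h1
  -- (6) `U = [A, y]`
  have hAcomm : ∀ a ∈ A, ∀ b ∈ A, a * b = b * a := by
    intro a ha b hb
    have := hAe.1.is_comm.comm (⟨a, ha⟩ : A) ⟨b, hb⟩
    exact congrArg Subtype.val this
  have hyNA : (y : G) ∈ normalizer (A : Set G) := hEA hyE
  have hynorm : ∀ a ∈ A, (y : G) * a * (y : G)⁻¹ ∈ A := fun a ha =>
    Cfsg.Agent.Lib.Helper76_BG13b.conj_mem_of_mem_normalizer hyNA ha
  have hUA : commSub A hAcomm (y : G) hynorm ≤ A := commSub_le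
  have hyp : (y : G) ^ p = 1 := by rw [← hyo]; exact pow_orderOf_eq_one _
  have hAtors : ∀ a ∈ A, a ^ p = 1 → a = 1 := by
    intro a ha hap
    have h1 : orderOf a ∣ t := orderOf_dvd_of_pow_eq_one (hAe.2 a ha)
    have h2 : orderOf a ∣ p := orderOf_dvd_of_pow_eq_one hap
    have h3 : orderOf a ∣ Nat.gcd t p := Nat.dvd_gcd h1 h2
    rw [(Nat.coprime_primes ht hp).mpr htp] at h3
    exact orderOf_eq_one_iff.mp (Nat.dvd_one.mp h3)
  have hUfpf : ∀ u ∈ commSub A hAcomm (y : G) hynorm, (y : G) * u = u * y → u = 1 :=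
    fun u hu hc => eq_one_of_commute hyp hAtors hu hc
  have hU1 : commSub A hAcomm (y : G) hynorm ≠ ⊥ := by
    intro h
    exact hyA (commSub_eq_bot_iff.mp h)
  -- `U` centralizes `M_σ` (Frobenius action)
  have hUcent : sigmaCore M ≤ centralizer ((commSub A hAcomm (y : G) hynorm : Subgroup G) : Set G) := by
    have hMσ : M ≤ normalizer (sigmaCore M : Set G) :=
      Cfsg.Agent.Lib.Helper35_BG11a.le_normalizer_sigmaCore M
    have hUE : commSub A hAcomm (y : G) hynorm ⊔ zpowers (y : G) ≤ E :=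
      sup_le (hUA.trans hAE) (Subgroup.zpowers_le.mpr hyE)
    have hyNU : (y : G) ∈ normalizer ((commSub A hAcomm (y : G) hynorm : Subgroup G) : Set G) :=
      Subgroup.mem_normalizer_fintype (fun n hn => conj_mem_commSub hn)
    have hcopE : (Nat.card E).Coprime (Nat.card (sigmaCore M)) := by
      apply Nat.coprime_of_dvd
      intro k hk hk1 hk2
      rw [← relIndex_of_isComplIn' hE] at hk1
      exact hHallM.2.2 k hk (hHallM.2.1 k hk hk2) hk1
    have hform := Cfsg.Agent.Lib.Helper52_FrobFormula.frobenius_formula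
      (commSub A hAcomm (y : G) hynorm) (zpowers (y : G)) (sigmaCore M) hY1
      (fun e he u hu => Cfsg.Agent.Lib.Helper76_BG13b.conj_mem_of_mem_normalizer
        (Subgroup.zpowers_le.mpr hyNU he) hu)
      (by
        intro e he he1 u hu hc
        apply hUfpf u hu
        -- `y` is a power of `e`
        have h1 : zpowers e = zpowers (y : G) := by
          apply Subgroup.eq_of_le_of_card_ge (Subgroup.zpowers_le.mpr he)
          rw [hYcard]
          have h2 : Nat.card (zpowers e) ∣ p := by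
            rw [← hYcard]; exact Subgroup.card_dvd_of_le (Subgroup.zpowers_le.mpr he)
          rcases (Nat.dvd_prime hp).mp h2 with h | h
          · exfalso
            apply he1
            rw [Nat.card_zpowers, orderOf_eq_one_iff] at h
            exact h
          · exact h.ge
        have h3 : (y : G) ∈ zpowers e := by rw [h1]; exact Subgroup.mem_zpowers _
        obtain ⟨i, hi⟩ := Subgroup.mem_zpowers_iff.mp h3
        rw [← hi]
        have h4 : Commute e u := hc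
        exact (h4.zpow_left i).eq)
      ((hUE.trans hEM).trans hMσ)
      (Cfsg.Agent.Lib.Helper76_BG13b.isSolvable_of_le hG hM
        (Cfsg.Agent.Lib.Helper35_BG11a.sigmaCore_le M))
      (Nat.Coprime.coprime_dvd_left (Subgroup.card_dvd_of_le hUE) hcopE)
    have h1 : sigmaCore M ⊓ centralizer ((zpowers (y : G) : Subgroup G) : Set G) = ⊥ := by
      rw [eq_bot_iff]
      rintro z ⟨hz, hzc⟩
      exact Subgroup.mem_bot.mpr (hreg z hz (mem_centralizer_zpowers_iff.mp hzc))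
    have h2 : sigmaCore M ⊓ centralizer
        ((commSub A hAcomm (y : G) hynorm ⊔ zpowers (y : G) : Subgroup G) : Set G) = ⊥ := by
      rw [eq_bot_iff, ← h1]
      exact inf_le_inf_left _ (Subgroup.centralizer_le (SetLike.coe_subset_coe.mpr le_sup_right))
    rw [h1, h2, Subgroup.card_bot, one_pow, one_mul, one_mul] at hform
    have h3 : sigmaCore M ⊓ centralizer ((commSub A hAcomm (y : G) hynorm : Subgroup G) : Set G) =
        sigmaCore M := Subgroup.eq_of_le_of_card_ge inf_le_left hform.le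
    rw [← h3]
    exact inf_le_right
  have hUneA : commSub A hAcomm (y : G) hynorm ≠ A := by
    intro h
    have h1 : x ∈ sigmaCore M ⊓ centralizer (A : Set G) := ⟨hx, by rw [← h]; exact hUcent hx⟩
    rw [hcentA, Subgroup.mem_bot] at h1
    exact hx1 h1
  obtain ⟨a₁, ha₁A, ha₁1, ha₁y⟩ := exists_commute_of_ne hUneA
  obtain ⟨u, huU, hu1⟩ : ∃ u ∈ commSub A hAcomm (y : G) hynorm, u ≠ 1 := by
    by_contra hcon
    push Not at hcon
    exact hU1 ((Subgroup.eq_bot_iff_forall _).mpr hcon)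
  -- (7) the contradiction
  have huA : u ∈ A := hUA huU
  have ord_of_mem : ∀ a ∈ A, a ≠ 1 → orderOf a = t := by
    intro a ha ha1
    have h1 : orderOf a ∣ t := orderOf_dvd_of_pow_eq_one (hAe.2 a ha)
    rcases (Nat.dvd_prime ht).mp h1 with h | h
    · exact absurd (orderOf_eq_one_iff.mp h) ha1
    · exact h
  have huo : orderOf u = t := ord_of_mem u huA hu1
  have hZcard : Nat.card (zpowers u) = t := by rw [Nat.card_zpowers, huo]
  have hZA : zpowers u ≤ A := Subgroup.zpowers_le.mpr huA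
  have hux : u * x = x * u := (Subgroup.mem_centralizer_iff.mp (hUcent hx)) u huU
  have hne : sigmaCore M ⊓ centralizer ((zpowers u : Subgroup G) : Set G) ≠ ⊥ := by
    intro h
    have h1 : x ∈ sigmaCore M ⊓ centralizer ((zpowers u : Subgroup G) : Set G) :=
      ⟨hx, mem_centralizer_zpowers_iff.mpr hux⟩
    rw [h, Subgroup.mem_bot] at h1
    exact hx1 h1
  obtain ⟨hCuM, -⟩ := h18c (zpowers u) hZA hZcard hne
  have huN : u ∈ N := hxN (mem_centralizer_singleton_iff.mpr hux.symm)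
  have hNu : ∀ z ∈ sigmaCore N, u * z = z * u → z = 1 := by
    intro z hz hc
    have hzM : z ∈ M := hCuM (mem_centralizer_zpowers_iff.mpr hc)
    have h1 : z ∈ (M ⊓ N) ⊓ sigmaCore N :=
      ⟨⟨hzM, Cfsg.Agent.Lib.Helper35_BG11a.sigmaCore_le N hz⟩, hz⟩
    rw [hcompl.2.2.1, Subgroup.mem_bot] at h1
    exact h1
  -- `t ∈ κ(N)`
  have ha₁N : g * a₁ * g⁻¹ ∈ N := hconjN a₁ ha₁y
  have ha₁o : orderOf (g * a₁ * g⁻¹) = t := by
    have h1 := MulEquiv.orderOf_eq (MulAut.conj g) a₁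
    rw [MulAut.conj_apply] at h1
    rw [h1]
    exact ord_of_mem a₁ ha₁A ha₁1
  have htκ : t ∈ kappa N :=
    Cfsg.Agent.Lib.Helper53_BG16b.mem_kappa_of_centralizing hG htσN htN1 ha₁N (by rw [ha₁o]) hy'σ hy'1
      (by
        calc g * a₁ * g⁻¹ * (g * (y : G) * g⁻¹) = g * (a₁ * (y : G)) * g⁻¹ := by group
          _ = g * ((y : G) * a₁) * g⁻¹ := by rw [ha₁y]
          _ = g * (y : G) * g⁻¹ * (g * a₁ * g⁻¹) := by group)
  -- a Sylow `t`-subgroup of `N` containing `u`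
  have huN' : IsPGroup t (zpowers (⟨u, huN⟩ : ↥N)) := by
    apply IsPGroup.of_card (n := 1)
    rw [Nat.card_zpowers, Subgroup.orderOf_mk, huo, pow_one]
  obtain ⟨P, hP⟩ := huN'.exists_le_sylow
  obtain ⟨hPcyc, x₀, hx₀P, hx₀1, z, hzσ, hz1, hx₀z⟩ := htκ.2.2.2 P
  obtain ⟨γ, hγ⟩ := hPcyc.exists_generator
  obtain ⟨a, hPa⟩ := IsPGroup.iff_card.mp P.2
  have hγo : orderOf (γ : ↥N) = t ^ a := by
    rw [Subgroup.orderOf_coe, orderOf_eq_card_of_forall_mem_zpowers hγ, hPa]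
  have huP : (⟨u, huN⟩ : ↥N) ∈ (P : Subgroup ↥N) := hP (Subgroup.mem_zpowers _)
  have hu'1 : (⟨u, huN⟩ : ↥N) ≠ 1 := by
    intro h
    exact hu1 (congrArg Subtype.val h)
  have ha0 : a ≠ 0 := by
    rintro rfl
    rw [pow_zero] at hPa
    have h1 : (⟨⟨u, huN⟩, huP⟩ : ↥(P : Subgroup ↥N)) = 1 := by
      have := (Nat.card_eq_one_iff_unique.mp hPa).1
      exact Subsingleton.elim _ _
    exact hu'1 (congrArg Subtype.val h1)
  have mem_zp : ∀ w : ↥N, w ∈ (P : Subgroup ↥N) → w ∈ zpowers (γ : ↥N) := by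
    intro w hw
    obtain ⟨i, hi⟩ := Subgroup.mem_zpowers_iff.mp (hγ ⟨w, hw⟩)
    refine Subgroup.mem_zpowers_iff.mpr ⟨i, ?_⟩
    have := congrArg Subtype.val hi
    simpa using this
  have hω1 := Cfsg.Agent.Lib.Helper53_BG16b.pow_mem_zpowers_of_ne_one ha0 hγo (mem_zp x₀ hx₀P) hx₀1
  have hω2 := Cfsg.Agent.Lib.Helper53_BG16b.pow_mem_zpowers_of_ne_one ha0 hγo (mem_zp _ huP) hu'1
  have hωne : (γ : ↥N) ^ (t ^ (a - 1)) ≠ 1 := by
    intro h
    have h1 := orderOf_dvd_of_pow_eq_one h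
    rw [hγo, Nat.pow_dvd_pow_iff_le_right ht.one_lt] at h1
    omega
  have hzeq : zpowers ((γ : ↥N) ^ (t ^ (a - 1))) = zpowers (⟨u, huN⟩ : ↥N) := by
    apply Subgroup.eq_of_le_of_card_ge (Subgroup.zpowers_le.mpr hω2)
    have hc : Nat.card (zpowers (⟨u, huN⟩ : ↥N)) = t := by
      rw [Nat.card_zpowers, Subgroup.orderOf_mk, huo]
    rw [hc]
    have h2 : Nat.card (zpowers ((γ : ↥N) ^ (t ^ (a - 1)))) ∣ t := by
      have h := Subgroup.card_dvd_of_le (Subgroup.zpowers_le.mpr hω2)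
      rwa [hc] at h
    rcases (Nat.dvd_prime ht).mp h2 with h | h
    · exfalso
      apply hωne
      rw [Nat.card_zpowers, orderOf_eq_one_iff] at h
      exact h
    · exact h.ge
  have hu_x₀ : (⟨u, huN⟩ : ↥N) ∈ zpowers x₀ := by
    have h1 : (⟨u, huN⟩ : ↥N) ∈ zpowers ((γ : ↥N) ^ (t ^ (a - 1))) := by
      rw [hzeq]; exact Subgroup.mem_zpowers _
    exact (Subgroup.zpowers_le.mpr hω1) h1
  obtain ⟨i, hi⟩ := Subgroup.mem_zpowers_iff.mp hu_x₀
  have hi' : ((x₀ : ↥N) : G) ^ i = u := by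
    have := congrArg Subtype.val hi
    simpa using this
  apply hz1
  apply hNu z hzσ
  rw [← hi']
  have h4 : Commute ((x₀ : ↥N) : G) z := hx₀z
  exact (h4.zpow_left i).eq

/-- **the statement of S1436** (B&G 14.6), modulo the frozen statements S1351, S1352, S1354, S1366,
S1369, S1372, S1374, S1375, S1378, S1434 -/
theorem statement_S1436 (hG : IsMinSimpleOddOrder G) (hSD : SigmaDisj G) (h74 : H1374 G)
    (h75 : H1375 G) (h51 : Cfsg.Agent.Lib.Helper33_BG16Hyp.H1351 G)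
    (h52 : Cfsg.Agent.Lib.Helper29_BG146c.H1352 G) (h54 : Cfsg.Agent.Lib.Helper29_BG146c.H1354 G)
    (h66 : Cfsg.Agent.Lib.Helper33_BG16Hyp.H1366 G) (h69 : Cfsg.Agent.Lib.Helper29_BG146c.H1369 G)
    (h72 : Cfsg.Agent.Lib.Helper29_BG146c.H1372 G) (h34 : Cfsg.Agent.Lib.Helper29_BG146c.H1434 G)
    (M : Subgroup G) (hM : IsCoatom M) (x : G) (hx : x ∈ Cfsg.sigmaCore M) (hx1 : x ≠ 1)
    (hxM : ¬ Subgroup.centralizer ({x} : Set G) ≤ M)
    (N : Subgroup G) (hN : IsCoatom N) (hxN : Subgroup.centralizer ({x} : Set G) ≤ N) :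
    ((∃ p ∈ Cfsg.sigma N, p ∣ Nat.card M) → Cfsg.kappa M = ∅ ∧ Cfsg.tau2 M = ∅) ∧
      ∀ (y : G) (N' : Subgroup G) (g : G), y ∈ Cfsg.sigmaCore M → y ≠ 1 → ¬ Subgroup.centralizer ({y} : Set G) ≤ M → IsCoatom N' → Subgroup.centralizer ({y} : Set G) ≤ N' →
        N'.map (MulAut.conj g).toMonoidHom = N → ∃ m ∈ M, N'.map (MulAut.conj m).toMonoidHom = N := by
  refine ⟨?_, part_b hG h74 h75 M hM x hx hx1 hxM N hN hxN⟩
  rintro ⟨p, hpN, hpM⟩
  have hκ := Cfsg.Agent.Lib.Helper29_BG146c.kappa_eq_empty hG hSD h75 h51 h52 h54 h66 h69 h72 h34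
    hM hx hx1 hxM hN hxN hpN hpM
  exact ⟨hκ, tau2_eq_empty hG hSD h75 hM hx hx1 hxM hN hxN hpN hpM hκ⟩

end Cfsg.Agent.Lib.Helper29_BG146e
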