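import Mathlib
import Cfsg.Prelude.Def_OddOrderLocal
import Cfsg.Agent.Lib.Helper33_BG16Hyp
import Cfsg.Agent.Lib.Helper53_BG16b
import Cfsg.Agent.Lib.Helper29_BG146c

/-!
# Glue for S1376 (B-G Corollary 15.9), PART A (helper29)

`Core159 G` is the statement of the core of B-G 15.9(b) in the notation of B-G 15.8
(`M` of type P2 with `K`, `U`, `M*`; `x ∈ U` of prime order `r` with `C_G(x) ≤ M`;
`H ∈ 𝓜(N_G(R))`): `E = H ∩ M*` is cyclic, `E ∩ E^h = 1` for `h ∈ H - E`, `H_σ` nilpotent.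
`statement_S1376` derives the frozen S1376 from `Core159 G` and frozen rows taken as hypotheses.
-/

set_option autoImplicit false
open Cfsg

namespace Cfsg.Agent.Lib.Helper29_BG159A

open Subgroup Cfsg.Agent.Lib.Helper25_BGHyp Cfsg.Agent.Lib.Helper4_BGConj
  Cfsg.Agent.Lib.Helper29_BG146a Cfsg.Agent.Lib.Helper29_BG146c Cfsg.Agent.Lib.Helper29_BG145
  Cfsg.Agent.Lib.Helper29_BG144c

universe u

variable {G : Type u} [Group G]

/-- The core of B-G 15.9(b), as a hypothesis.  All the facts available in the glue are offered;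
`M0` is the maximal subgroup called `M` in the frozen S1376. -/
def Core159 (G : Type u) [Group G] : Prop :=
  ∀ (M : Subgroup G) (_ : IsCoatom M) (K U : Subgroup G) (_ : IsSigmaDecomposition M K U)
    (_ : K ≠ ⊥) (_ : U ≠ ⊥) (Mstar : Subgroup G) (_ : IsCoatom Mstar)
    (_ : K = sigmaCore Mstar ⊓ centralizer ((sigmaCore M ⊓ centralizer (K : Set G)) : Set G))
    (_ : IsPiHallOf (kappa Mstar) (sigmaCore M ⊓ centralizer (K : Set G)) Mstar)
    (r : ℕ) [Fact r.Prime] (x : G) (_ : x ∈ U) (_ : orderOf x = r)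
    (_ : centralizer ({x} : Set G) ≤ M)
    (_ : ∀ L : Subgroup G, IsCoatom L → centralizer ({x} : Set G) ≤ L → L = M)
    (_ : sigmaCore M ⊓ centralizer ({x} : Set G) ≠ ⊥)
    (M0 : Subgroup G) (_ : IsCoatom M0) (_ : x ∈ sigmaCore M0)
    (_ : ¬ centralizer ({x} : Set G) ≤ M0)
    (R : Sylow r U) (H : Subgroup G) (_ : IsCoatom H)
    (_ : normalizer (((R : Subgroup U).map U.subtype : Subgroup G) : Set G) ≤ H),
    IsCyclic ↥(H ⊓ Mstar) ∧
      (∀ h ∈ H, h ∉ H ⊓ Mstar →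
        (H ⊓ Mstar) ⊓ (H ⊓ Mstar).map (MulAut.conj h).toMonoidHom = ⊥) ∧
      Group.IsNilpotent ↥(sigmaCore H)

/-- conjugating a subgroup by one of its elements -/
theorem map_conj_eq_self {N : Subgroup G} {m : G} (hm : m ∈ N) :
    N.map (MulAut.conj m).toMonoidHom = N := by
  ext y
  rw [mem_conj]
  constructor
  · intro h
    have : y = m * (m⁻¹ * y * m) * m⁻¹ := by group
    rw [this]
    exact N.mul_mem (N.mul_mem hm h) (N.inv_mem hm)
  · intro h
    exact N.mul_mem (N.mul_mem (N.inv_mem hm) h) hm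

/-- the centralizer of an element lies in the centralizer of each of its powers -/
theorem centralizer_le_centralizer_pow (x : G) (n : ℕ) :
    centralizer ({x} : Set G) ≤ centralizer ({x ^ n} : Set G) := by
  intro c hc
  rw [mem_centralizer_iff] at hc ⊢
  intro y hy
  rw [Set.mem_singleton_iff] at hy
  subst hy
  have h := hc x rfl
  exact ((Commute.pow_left (show Commute x c from h) n)).eq

/-- transport of the Frobenius complement property along an inner automorphism: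
if `H = M0^g`, `E ≤ H` and `E ∩ E^h = 1` for `h ∈ H - E`, then `g⁻¹ E g`, as a subgroup of
`M0`, is a Frobenius complement; it is cyclic if `E` is. -/
theorem frobenius_transport {M0 H E : Subgroup G} {g : G}
    (hg : H = M0.map (MulAut.conj g).toMonoidHom) (hEH : E ≤ H) (hE1 : E ≠ ⊥) (hEH' : E ≠ H)
    (hcyc : IsCyclic ↥E)
    (hTI : ∀ h ∈ H, h ∉ E → E ⊓ E.map (MulAut.conj h).toMonoidHom = ⊥) :
    ∃ F : Subgroup ↥M0, IsFrobeniusComplement F ∧ IsCyclic F := by
  -- `E0 = g⁻¹ E g ≤ M0`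
  let E0 : Subgroup G := E.map (MulAut.conj g⁻¹).toMonoidHom
  have hmemE0 : ∀ y : G, y ∈ E0 ↔ g * y * g⁻¹ ∈ E := by
    intro y
    show y ∈ E.map (MulAut.conj g⁻¹).toMonoidHom ↔ _
    rw [mem_conj]
    simp only [inv_inv]
  have hmemH : ∀ y : G, y ∈ M0 ↔ g * y * g⁻¹ ∈ H := by
    intro y
    rw [hg, conj_mem_conj]
  have hE0M : E0 ≤ M0 := by
    intro y hy
    rw [hmemH]
    exact hEH ((hmemE0 y).mp hy)
  refine ⟨E0.subgroupOf M0, ⟨?_, ?_, ?_⟩, ?_⟩
  · -- nontrivial
    intro h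
    apply hE1
    rw [eq_bot_iff]
    intro y hy
    have h1 : g⁻¹ * y * g ∈ E0 := by
      rw [hmemE0]
      have : g * (g⁻¹ * y * g) * g⁻¹ = y := by group
      rw [this]; exact hy
    have h2 : (⟨g⁻¹ * y * g, hE0M h1⟩ : ↥M0) ∈ E0.subgroupOf M0 := by
      rw [mem_subgroupOf]; exact h1
    rw [h, mem_bot] at h2
    have h3 : g⁻¹ * y * g = 1 := congrArg Subtype.val h2
    rw [mem_bot]
    have : y = g * (g⁻¹ * y * g) * g⁻¹ := by group
    rw [this, h3]; group
  · -- proper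
    intro h
    apply hEH'
    apply le_antisymm hEH
    intro y hy
    have h1 : g⁻¹ * y * g ∈ M0 := by
      rw [hmemH]
      have : g * (g⁻¹ * y * g) * g⁻¹ = y := by group
      rw [this]; exact hy
    have h2 : (⟨g⁻¹ * y * g, h1⟩ : ↥M0) ∈ E0.subgroupOf M0 := by
      rw [h]; exact mem_top _
    rw [mem_subgroupOf] at h2
    have h3 := (hmemE0 _).mp h2
    have : g * (g⁻¹ * y * g) * g⁻¹ = y := by group
    rw [← this]; exact h3
  · -- trivial intersections
    intro m hm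
    rw [eq_bot_iff]
    intro z hz
    rw [mem_inf] at hz
    obtain ⟨hz1, hz2⟩ := hz
    rw [mem_subgroupOf] at hz1
    rw [Subgroup.mem_pointwise_smul_iff_inv_smul_mem] at hz2
    rw [MulAut.smul_def, mem_subgroupOf] at hz2
    have hm' : (m : G) ∉ E0 := by
      intro h
      apply hm
      rw [mem_subgroupOf]; exact h
    have hz2' : (m : G)⁻¹ * (z : G) * (m : G) ∈ E0 := by
      have : (((MulAut.conj m)⁻¹ z : ↥M0) : G) = (m : G)⁻¹ * (z : G) * (m : G) := by
        simp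
      rw [← this]; exact hz2
    set h : G := g * (m : G) * g⁻¹ with hh
    have hhH : h ∈ H := (hmemH _).mp m.2
    have hhE : h ∉ E := fun hc => hm' ((hmemE0 _).mpr hc)
    have h1 : g * (z : G) * g⁻¹ ∈ E := (hmemE0 _).mp hz1
    have h2 : g * (z : G) * g⁻¹ ∈ E.map (MulAut.conj h).toMonoidHom := by
      rw [mem_conj]
      have : h⁻¹ * (g * (z : G) * g⁻¹) * h = g * ((m : G)⁻¹ * (z : G) * (m : G)) * g⁻¹ := by
        rw [hh]; group
      rw [this]
      exact (hmemE0 _).mp hz2'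
    have h3 : g * (z : G) * g⁻¹ ∈ E ⊓ E.map (MulAut.conj h).toMonoidHom := ⟨h1, h2⟩
    rw [hTI h hhH hhE, mem_bot] at h3
    rw [mem_bot]
    apply Subtype.ext
    have : (z : G) = g⁻¹ * (g * (z : G) * g⁻¹) * g := by group
    rw [this, h3]
    simp
  · -- cyclic
    have e1 : ↥E ≃* ↥E0 := E.equivMapOfInjective (MulAut.conj g⁻¹).toMonoidHom
      (MulAut.conj g⁻¹).injective
    have e2 : ↥(E0.subgroupOf M0) ≃* ↥E0 := subgroupOfEquivOfLe hE0M
    have : IsCyclic ↥E0 := isCyclic_of_surjective e1 e1.surjective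
    exact isCyclic_of_surjective e2.symm e2.symm.surjective

variable [Finite G]

/-- **S1376 from the core of B-G 15.9(b)** and frozen rows taken as hypotheses. -/
theorem statement_S1376 (hG : IsMinSimpleOddOrder G) (hSD : SigmaDisj G)
    (h75 : H1375 G) (h51 : Cfsg.Agent.Lib.Helper33_BG16Hyp.H1351 G) (h52 : H1352 G) (h54 : H1354 G)
    (h66 : Cfsg.Agent.Lib.Helper33_BG16Hyp.H1366 G) (h69 : H1369 G) (h34 : H1434 G)
    (h35 : Cfsg.Agent.Lib.Helper33_BG16Hyp.H1435 G) (hcore : Core159 G)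
    (M : Subgroup G) (hM : IsCoatom M) (x : G) (hx : x ∈ sigmaCore M) (hx1 : x ≠ 1)
    (hxM : ¬ centralizer ({x} : Set G) ≤ M) (N : Subgroup G) (hN : IsCoatom N)
    (hxN : centralizer ({x} : Set G) ≤ N) (hkN : (kappa N).Nonempty) :
    kappa M = ∅ ∧ (∃ E : Subgroup ↥M, IsFrobeniusComplement E ∧ IsCyclic E) ∧
      ¬ IsTISubset (fittingHallOf M : Set G) := by
  have hU := Cfsg.Agent.Lib.Helper49_SigmaDisjoint.uniqHyp hG
  have hκM : kappa M = ∅ :=
    kappa_eq_empty_of_kappa_nonempty hG hSD h75 h51 h52 h54 h66 h69 h34 hM hx hx1 hxM hN hxN hkN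
  obtain ⟨huniq, -, -, -⟩ := data_of_h75 h75 hM hx hx1 hxM hN hxN
  -- a power `x'` of `x` of prime order `r`
  have hx1' : orderOf x ≠ 1 := by
    rw [Ne, orderOf_eq_one_iff]; exact hx1
  obtain ⟨r, hr, hrx⟩ := Nat.exists_prime_and_dvd hx1'
  have : Fact r.Prime := ⟨hr⟩
  obtain ⟨x', hx'def⟩ : ∃ x' : G, x' = x ^ (orderOf x / r) := ⟨_, rfl⟩
  have hx'ord : orderOf x' = r := by
    rw [hx'def]; exact orderOf_pow_orderOf_div (orderOf_pos x).ne' hrx
  have hx'1 : x' ≠ 1 := by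
    intro h
    rw [← orderOf_eq_one_iff, hx'ord] at h
    exact hr.one_lt.ne' h
  have hx'σ : x' ∈ sigmaCore M := by
    rw [hx'def]; exact (sigmaCore M).pow_mem hx _
  have hCC : centralizer ({x} : Set G) ≤ centralizer ({x'} : Set G) := by
    rw [hx'def]; exact centralizer_le_centralizer_pow x _
  have hx'M : ¬ centralizer ({x'} : Set G) ≤ M := fun h => hxM (hCC.trans h)
  have huniq' : ∀ L : Subgroup G, IsCoatom L → centralizer ({x'} : Set G) ≤ L → L = N :=
    fun L hL h => huniq L hL (hCC.trans h)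
  have hx'N : centralizer ({x'} : Set G) ≤ N := by
    obtain ⟨N', ⟨hN', hle⟩, -⟩ := h75 M hM x' hx'σ hx'1 hx'M
    rw [← huniq' N' hN' hle]; exact hle
  obtain ⟨-, -, hcompl, hdec⟩ := data_of_h75 h75 hM hx'σ hx'1 hx'M hN hx'N
  obtain ⟨hxσN, -⟩ := pair_data hG hU hSD hM hN hx'σ hx'1 hx'N hcompl
  have hrσN : r ∉ sigma N := hxσN r hr (by rw [hx'ord])
  have hrσM : r ∈ sigma M := prime_mem_sigma_of_dvd_orderOf hx'σ hr (by rw [hx'ord])
  have hHallN := Cfsg.Agent.Lib.Helper76_BG13b.sigma_hall hG hN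
  have hHallM := Cfsg.Agent.Lib.Helper76_BG13b.sigma_hall hG hM
  -- a standard factorisation of `N`
  obtain ⟨⟨K', hK'H⟩, hcyc⟩ := h51 N hN
  have hK'c := hcyc K' hK'H
  obtain ⟨U', hK'U'⟩ := h52 N hN K' hK'c hK'H
  obtain ⟨k, hk⟩ := hkN
  have hK'1 : K' ≠ ⊥ := ne_bot_of_dvd_card hk.1 (ne_bot_of_isPiHallOf hK'H hk.1 hk hk.2.1)
  obtain ⟨hU'1, hxA, -⟩ := hdec K' U' hK'U'
  have hU'N : U' ≤ N := hK'U'.compl.1
  have hNσ : N ≤ normalizer (sigmaCore N : Set G) :=
    Cfsg.Agent.Lib.Helper35_BG11a.le_normalizer_sigmaCore N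
  have hcomplU : IsComplIn U' (sigmaCore N) (U' ⊔ sigmaCore N) := by
    refine ⟨le_sup_left, le_sup_right, ?_, ?_⟩
    · rw [eq_bot_iff, ← hK'U'.compl.2.2.1]
      exact inf_le_inf_left U' le_sup_right
    · intro t ht
      rw [sup_comm] at ht
      obtain ⟨s, hs, a, ha, rfl⟩ := Cfsg.Agent.Lib.Helper24_CoprimeAction.exists_mul_of_mem_sup U'
        (sigmaCore N) (hU'N.trans hNσ) ht
      refine ⟨a, ha, a⁻¹ * s * a, ?_, by group⟩
      exact Cfsg.Agent.Lib.Helper29_HallFusion.conj_inv_mem_of_mem_normalizer (hNσ (hU'N ha)) hs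
  have hrU' : r ∣ Nat.card U' := by
    have h1 : orderOf x' ∣ Nat.card ↥(U' ⊔ sigmaCore N) := Subgroup.orderOf_dvd_natCard _ hxA.2
    rw [card_of_isComplIn hcomplU, hx'ord] at h1
    rcases (Nat.Prime.dvd_mul hr).mp h1 with h | h
    · exact h
    · exact absurd (hHallN.2.1 r hr h) hrσN
  have hrκN : r ∉ kappa N :=
    ((Cfsg.Agent.Lib.Helper53_BG16b.U_isPiHallOf hK'U' hHallN).2.1 r hr hrU').2.1
  -- conjugate the factorisation so that `x' ∈ U`
  have hsolv := Cfsg.Agent.Lib.Helper76_BG13b.isSolvable_of_isCoatom hG hN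
  have hx'mem : x' ∈ N := hx'N (by
    rw [mem_centralizer_iff]
    intro y hy
    rw [Set.mem_singleton_iff] at hy
    rw [hy])
  obtain ⟨m, hm, hmU⟩ := Cfsg.Agent.Lib.Helper53_BG16b.conj_into_U hsolv hK'U' hHallN hx'mem
    (by
      intro q hq hqd
      rw [hx'ord] at hqd
      have := (Nat.prime_dvd_prime_iff_eq hq hr).mp hqd
      subst this
      exact ⟨hrκN, hrσN⟩)
  obtain ⟨e, he⟩ : ∃ e : G ≃* G, e = MulAut.conj m⁻¹ := ⟨_, rfl⟩
  have hNe : mp e N = N := by
    rw [he]; exact map_conj_eq_self (N.inv_mem hm)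
  have hKU : IsSigmaDecomposition N (mp e K') (mp e U') := by
    have := isSigmaDecomposition_mp (e := e) hK'U'
    rwa [hNe] at this
  obtain ⟨K, hKdef⟩ : ∃ K : Subgroup G, K = mp e K' := ⟨_, rfl⟩
  obtain ⟨U, hUdef⟩ : ∃ U : Subgroup G, U = mp e U' := ⟨_, rfl⟩
  rw [← hKdef, ← hUdef] at hKU
  have hxU : x' ∈ U := by
    rw [hUdef, mem_mp, he]
    have : (MulAut.conj m⁻¹).symm x' = m * x' * m⁻¹ := by
      simp
    rw [this]; exact hmU
  have hK1 : K ≠ ⊥ := by
    rw [hKdef]; exact fun h => hK'1 (mp_eq_bot_iff.mp h)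
  have hU1 : U ≠ ⊥ := by
    rw [hUdef]; exact fun h => hU'1 (mp_eq_bot_iff.mp h)
  obtain ⟨Nstar, ⟨hNs, hKeq, hKstH⟩, -⟩ := h66 N hN K U hKU hK1
  have hrU : r ∣ Nat.card U := by
    rw [← hx'ord]; exact Subgroup.orderOf_dvd_natCard U hxU
  -- a Sylow `r`-subgroup `R` of `U` and `H ∈ 𝓜(N_G(R))`
  obtain ⟨R⟩ : Nonempty (Sylow r U) := inferInstance
  obtain ⟨R0, hR0def⟩ : ∃ R0 : Subgroup G, R0 = (R : Subgroup U).map U.subtype := ⟨_, rfl⟩
  have hR01 : R0 ≠ ⊥ := by
    intro h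
    have h1 : Nat.card R0 = Nat.card (R : Subgroup U) := by
      rw [hR0def]; exact Subgroup.card_map_of_injective U.subtype_injective
    rw [h, Subgroup.card_bot] at h1
    have h2 : r ∣ Nat.card (R : Subgroup U) := R.dvd_card_of_dvd_card hrU
    rw [← h1] at h2
    exact hr.one_lt.ne' (Nat.dvd_one.mp h2)
  have hR0U : R0 ≤ U := by
    rw [hR0def]; exact Subgroup.map_subtype_le _
  have hR0top : R0 ≠ ⊤ := by
    intro h
    apply hN.1
    rw [eq_top_iff, ← h]
    exact hR0U.trans hKU.compl.1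
  have hnt := Cfsg.Agent.Lib.Helper22_BGTrans.normalizer_ne_top hG hR01 hR0top
  obtain ⟨H, hH, hNH⟩ := (eq_top_or_exists_le_coatom (normalizer (R0 : Set G))).resolve_left hnt
  rw [hR0def] at hNH
  obtain ⟨-, hUH, hNHeq, -, -, hEcompl⟩ :=
    h35 N hN K U hKU hK1 hU1 Nstar hNs hKeq hKstH r hrU R H hH hNH
  have hrσH : r ∈ sigma H :=
    Cfsg.Agent.Lib.Helper49_SigmaDisjoint.mem_sigma_of_dvd_card_sigmaCore H hr
      (hrU.trans (Subgroup.card_dvd_of_le hUH))
  obtain ⟨g, hg⟩ := hSD M H hM hH ⟨r, hrσM, hrσH⟩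
  -- the core
  have hhat : sigmaCore N ⊓ centralizer ({x'} : Set G) ≠ ⊥ := by
    obtain ⟨-, y, hy, hy1, hxy⟩ := hxA.1
    intro h
    apply hy1
    have : y ∈ sigmaCore N ⊓ centralizer ({x'} : Set G) := by
      refine mem_inf.mpr ⟨hy, ?_⟩
      rw [mem_centralizer_iff]
      intro z hz
      rw [Set.mem_singleton_iff] at hz
      rw [hz]; exact hxy
    rw [h, mem_bot] at this
    exact this
  obtain ⟨hEc, hETI, hnil⟩ := hcore N hN K U hKU hK1 hU1 Nstar hNs hKeq hKstH r x' hxU hx'ord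
    hx'N huniq' hhat M hM hx'σ hx'M R H hH hNH
  refine ⟨hκM, ?_, ?_⟩
  · -- the Frobenius complement
    have hKE : K ≤ H ⊓ Nstar := by
      refine le_inf ?_ ?_
      · have h1 : K ≤ N ⊓ H := by
          rw [hNHeq]; exact le_sup_right
        exact h1.trans inf_le_right
      · have h1 : K ≤ sigmaCore Nstar := by
          rw [hKeq]; exact inf_le_left
        exact h1.trans (Cfsg.Agent.Lib.Helper35_BG11a.sigmaCore_le Nstar)
    apply frobenius_transport hg hEcompl.1 ?_ ?_ hEc hETI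
    · intro h
      apply hK1
      rw [eq_bot_iff, ← h]
      exact hKE
    · intro h
      apply hU1
      rw [eq_bot_iff]
      have h1 : sigmaCore H ≤ H ⊓ Nstar := by
        rw [h]; exact hEcompl.2.1
      have h2 : sigmaCore H ≤ (H ⊓ Nstar) ⊓ sigmaCore H := le_inf h1 le_rfl
      rw [hEcompl.2.2.1] at h2
      exact hUH.trans h2
  · -- `M_F` is not a TI-subset
    have hnilM : Group.IsNilpotent ↥(sigmaCore M) := by
      rw [hg, sigmaCore_conj] at hnil
      have f : ↥(sigmaCore M) ≃* ↥((sigmaCore M).map (MulAut.conj g).toMonoidHom) :=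
        (sigmaCore M).equivMapOfInjective (MulAut.conj g).toMonoidHom (MulAut.conj g).injective
      exact Group.nilpotent_of_mulEquiv f.symm
    have hle := sigmaCore_le_fittingHallOf hnilM hHallM
    have hx'F : x' ∈ fittingHallOf M := hle hx'σ
    have hF1 : fittingHallOf M ≠ ⊥ := by
      intro h
      rw [h, mem_bot] at hx'F
      exact hx'1 hx'F
    have hFM : fittingHallOf M ≤ M := Subgroup.map_subtype_le _
    have hFtop : fittingHallOf M ≠ ⊤ := by
      intro h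
      apply hM.1
      rw [eq_top_iff, ← h]
      exact hFM
    have hMn : M ≤ normalizer (fittingHallOf M : Set G) :=
      le_normalizer_map_subtype (fittingHall_normal ↥M)
    have hnM : normalizer (fittingHallOf M : Set G) = M := by
      by_contra hne'
      have hlt : M < normalizer (fittingHallOf M : Set G) := lt_of_le_of_ne hMn (Ne.symm hne')
      exact Cfsg.Agent.Lib.Helper22_BGTrans.normalizer_ne_top hG hF1 hFtop (hM.2 _ hlt)
    intro hTI
    obtain ⟨-, y, hy, hy1, hxy⟩ := hxA.1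
    have hyM : y ∉ M := by
      intro h
      apply hy1
      have h1 : y ∈ (M ⊓ N) ⊓ sigmaCore N :=
        ⟨⟨h, Cfsg.Agent.Lib.Helper35_BG11a.sigmaCore_le N hy⟩, hy⟩
      rw [hcompl.2.2.1, mem_bot] at h1
      exact h1
    have hyn : y ∉ normalizer ((fittingHallOf M : Subgroup G) : Set G) := by
      rw [hnM]; exact hyM
    apply hx'1
    apply hTI y hyn x' hx'F
    have e' : y * x' * y⁻¹ = x' := by rw [← hxy]; group
    rw [e']
    exact hx'F

end Cfsg.Agent.Lib.Helper29_BG159A
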