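import Mathlib
import Cfsg.Agent.Lib.Helper29_Gaschutz

/-!
# Gaschütz's theorem, conjugacy part (helper29)

Two derivations `G → K` agreeing on a subgroup `U` of index prime to `|K|` differ by a principal
derivation; two complements of `K` with the same intersection with `U ≥ K` are conjugate by an
element of `K`.
-/

set_option autoImplicit false

namespace Cfsg.Agent.Lib.Helper29_Gaschutz

open scoped IsMulCommutative Pointwise

variable {G : Type*} [Group G]

section Unique

variable {K : Subgroup G} [K.Normal] [IsMulCommutative K]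

theorem deriv_unique [Finite G] (U : Subgroup G) (hcop : (Nat.card K).Coprime U.index)
    (D D' : G → K) (hD : IsDeriv K D) (hD' : IsDeriv K D') (hU : ∀ u ∈ U, D u = D' u) :
    ∃ w : K, ∀ g, D' g = D g * (w * (MulAut.conjNormal g w)⁻¹) := by
  classical
  let _ : Fintype (G ⧸ U) := Fintype.ofFinite _
  obtain ⟨e, he⟩ : ∃ e : G → K, ∀ g, e g = (D g)⁻¹ * D' g := ⟨_, fun _ => rfl⟩
  have he_mul : ∀ g h, e (g * h) = e g * MulAut.conjNormal g (e h) := by
    intro g h
    rw [he, he, he, hD g h, hD' g h, map_mul, map_inv, mul_inv_rev]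
    rw [mul_comm ((MulAut.conjNormal g) (D h))⁻¹ (D g)⁻¹]
    rw [mul_mul_mul_comm]
  have he_U : ∀ u ∈ U, e u = 1 := by
    intro u hu
    rw [he, hU u hu, inv_mul_cancel]
  have he_right : ∀ g, ∀ u ∈ U, e (g * u) = e g := by
    intro g u hu
    rw [he_mul, he_U u hu, map_one, mul_one]
  have he_coset : ∀ x y : G, (x : G ⧸ U) = (y : G ⧸ U) → e x = e y := by
    intro x y h
    rw [QuotientGroup.eq] at h
    have := he_right x _ h
    rw [mul_inv_cancel_left] at this
    exact this.symm
  obtain ⟨z, hz⟩ : ∃ z : K, z = ∏ q : G ⧸ U, e q.out := ⟨_, rfl⟩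
  have h1 : ∀ g : G, (∏ q : G ⧸ U, e (g * q.out)) = z := by
    intro g
    have h2 : ∀ q : G ⧸ U, e (g * q.out) = e (g • q).out := by
      intro q
      apply he_coset
      rw [QuotientGroup.out_eq']
      show ((g • q.out : G) : G ⧸ U) = g • q
      rw [← MulAction.Quotient.smul_mk, QuotientGroup.out_eq']
    rw [Finset.prod_congr rfl (fun q _ => h2 q), hz]
    exact Equiv.prod_comp (MulAction.toPerm g : Equiv.Perm (G ⧸ U)) (fun q => e q.out)
  have h3 : ∀ g : G, z = (e g) ^ U.index * MulAut.conjNormal g z := by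
    intro g
    calc z = ∏ q : G ⧸ U, e (g * q.out) := (h1 g).symm
      _ = ∏ q : G ⧸ U, (e g * MulAut.conjNormal g (e q.out)) :=
        Finset.prod_congr rfl (fun q _ => he_mul g q.out)
      _ = (∏ _q : G ⧸ U, e g) * ∏ q : G ⧸ U, MulAut.conjNormal g (e q.out) :=
        Finset.prod_mul_distrib
      _ = (e g) ^ U.index * MulAut.conjNormal g z := by
        rw [Finset.prod_const, Finset.card_univ, ← map_prod, ← hz, Subgroup.index_eq_card,
          Nat.card_eq_fintype_card]
  obtain ⟨w, hw⟩ : ∃ w : K, w ^ U.index = z := (powCoprime hcop).surjective z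
  refine ⟨w, fun g => ?_⟩
  have h4 : (e g) ^ U.index = (w * (MulAut.conjNormal g w)⁻¹) ^ U.index := by
    rw [mul_pow, inv_pow, ← map_pow, hw, eq_mul_inv_iff_mul_eq]
    exact (h3 g).symm
  have h5 : e g = w * (MulAut.conjNormal g w)⁻¹ := (powCoprime hcop).injective h4
  rw [← h5, he, mul_inv_cancel_left]

end Unique

section Complements

variable {K : Subgroup G} [K.Normal]

/-- The `K`-component with respect to a complement `H` of `K`. -/
noncomputable def compK {H : Subgroup G} (h : Subgroup.IsComplement' K H) (g : G) : K :=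
  (Classical.choose (h.2 g)).1

omit [K.Normal] in
theorem compK_spec {H : Subgroup G} (h : Subgroup.IsComplement' K H) (g : G) :
    ∃ x ∈ H, (compK h g : G) * x = g :=
  ⟨(Classical.choose (h.2 g)).2, (Classical.choose (h.2 g)).2.2, Classical.choose_spec (h.2 g)⟩

omit [K.Normal] in
theorem compK_eq {H : Subgroup G} (h : Subgroup.IsComplement' K H) (g : G) (k : K) (x : G)
    (hx : x ∈ H) (hg : (k : G) * x = g) : compK h g = k := by
  obtain ⟨y, hy, hgy⟩ := compK_spec h g
  have := h.1 (a₁ := (compK h g, ⟨y, hy⟩)) (a₂ := (k, ⟨x, hx⟩)) (by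
    show (compK h g : G) * y = (k : G) * x
    rw [hgy, hg])
  exact congrArg Prod.fst this

theorem compK_isDeriv [IsMulCommutative K] {H : Subgroup G} (h : Subgroup.IsComplement' K H) :
    IsDeriv K (compK h) := by
  intro g g'
  obtain ⟨x, hx, hgx⟩ := compK_spec h g
  obtain ⟨x', hx', hgx'⟩ := compK_spec h g'
  generalize compK h g = k at hgx ⊢
  generalize compK h g' = k' at hgx' ⊢
  subst hgx hgx'
  apply compK_eq h _ _ (x * x') (H.mul_mem hx hx')
  rw [Subgroup.coe_mul, MulAut.conjNormal_apply]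
  have hy : x * (k' : G) * x⁻¹ ∈ K := (inferInstance : K.Normal).conj_mem _ k'.2 x
  have hc : (k : G) * (x * (k' : G) * x⁻¹) = (x * (k' : G) * x⁻¹) * (k : G) :=
    congrArg Subtype.val (mul_comm' k ⟨_, hy⟩)
  calc (k : G) * ((k : G) * x * (k' : G) * ((k : G) * x)⁻¹) * (x * x')
      = (k : G) * ((k : G) * (x * (k' : G) * x⁻¹)) * (k : G)⁻¹ * x * x' := by group
    _ = (k : G) * ((x * (k' : G) * x⁻¹) * (k : G)) * (k : G)⁻¹ * x * x' := by rw [hc]
    _ = (k : G) * x * ((k' : G) * x') := by group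

omit [K.Normal] in
theorem compK_of_mem_left {H : Subgroup G} (h : Subgroup.IsComplement' K H) (k : K) :
    compK h (k : G) = k :=
  compK_eq h _ k 1 H.one_mem (mul_one _)

omit [K.Normal] in
theorem compK_of_mem_right {H : Subgroup G} (h : Subgroup.IsComplement' K H) (x : G)
    (hx : x ∈ H) : compK h x = 1 :=
  compK_eq h _ 1 x hx (by simp)

omit [K.Normal] in
theorem mem_of_compK_eq_one {H : Subgroup G} (h : Subgroup.IsComplement' K H) (g : G)
    (hg : compK h g = 1) : g ∈ H := by
  obtain ⟨x, hx, hgx⟩ := compK_spec h g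
  rw [hg] at hgx
  have : x = g := by simpa using hgx
  rwa [← this]

/-- **Gaschütz's theorem, conjugacy.** -/
theorem complements_conj [Finite G] [IsMulCommutative K] (U : Subgroup G) (hKU : K ≤ U)
    (hcop : (Nat.card K).Coprime U.index) (H₀ H₁ : Subgroup G)
    (h₀ : Subgroup.IsComplement' K H₀) (h₁ : Subgroup.IsComplement' K H₁)
    (hU : H₀ ⊓ U = H₁ ⊓ U) : ∃ w : K, MulAut.conj (w : G) • H₁ = H₀ := by
  have hagree : ∀ u ∈ U, compK h₀ u = compK h₁ u := by
    intro u hu
    obtain ⟨x, hx, hux⟩ := compK_spec h₀ u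
    have hxU : x ∈ U := by
      have : x = (compK h₀ u : G)⁻¹ * u := eq_inv_mul_of_mul_eq hux
      rw [this]
      exact U.mul_mem (U.inv_mem (hKU (compK h₀ u).2)) hu
    have hx1 : x ∈ H₁ := by
      have : x ∈ H₀ ⊓ U := ⟨hx, hxU⟩
      rw [hU] at this
      exact this.1
    exact (compK_eq h₁ u _ x hx1 hux).symm
  obtain ⟨w, hw⟩ := deriv_unique U hcop (compK h₀) (compK h₁) (compK_isDeriv h₀) (compK_isDeriv h₁)
    hagree
  refine ⟨w, ?_⟩
  have hle : MulAut.conj (w : G) • H₁ ≤ H₀ := by
    rintro _ ⟨x, hx, rfl⟩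
    show (MulAut.conj (w : G)) x ∈ H₀
    rw [MulAut.conj_apply]
    apply mem_of_compK_eq_one h₀
    have e1 := hw x
    rw [compK_of_mem_right h₁ x hx] at e1
    -- `compK h₀ x = conj x w * w⁻¹`
    have e2 : compK h₀ x = MulAut.conjNormal x w * w⁻¹ := by
      have : compK h₀ x * (w * (MulAut.conjNormal x w)⁻¹) = 1 := e1.symm
      rw [mul_eq_one_iff_eq_inv] at this
      rw [this, mul_inv_rev, inv_inv]
    have hd := compK_isDeriv h₀
    have e3 : compK h₀ ((w : G) * x * (w : G)⁻¹) =
        compK h₀ (w : G) * MulAut.conjNormal (w : G)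
          (compK h₀ x * MulAut.conjNormal x (compK h₀ ((w : G)⁻¹))) := by
      rw [mul_assoc, hd, hd]
    rw [e3, conjNormal_eq_self_of_mem, compK_of_mem_left h₀ w, e2]
    have e4 : compK h₀ ((w : G)⁻¹) = w⁻¹ := compK_of_mem_left h₀ w⁻¹
    rw [e4, map_inv]
    rw [mul_comm (MulAut.conjNormal x w) w⁻¹, mul_assoc, mul_inv_cancel, mul_one, mul_inv_cancel]
  apply Subgroup.eq_of_le_of_card_ge hle
  have c0 := h₀.card_mul_card
  have c1 := h₁.card_mul_card
  have c2 : Nat.card (MulAut.conj (w : G) • H₁ : Subgroup G) = Nat.card H₁ := by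
    rw [Subgroup.pointwise_smul_def]
    exact Subgroup.card_map_of_injective (MulAut.conj (w : G)).injective
  rw [c2]
  have : Nat.card K * Nat.card H₀ = Nat.card K * Nat.card H₁ := c0.trans c1.symm
  exact (Nat.eq_of_mul_eq_mul_left Nat.card_pos this).le

end Complements

end Cfsg.Agent.Lib.Helper29_Gaschutz
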