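import Mathlib
import Cfsg.Prelude.Def_Characters
import Cfsg.Agent.Lib.Helper80_CharBasic
import Cfsg.Agent.Lib.Helper80_CharComplete
import Cfsg.Agent.Lib.Helper17_H27Defs
import Cfsg.Agent.Lib.Helper76_H648Defs

/-!
# S3702 market (`h648_packages`, architect helper76), package GRAM, aux form: the Gram matrix of the
nine functionals from the second orthogonality relation, with the statements of `rep_real`,
`rep_nconj`, `rep_cent` as hypotheses.
-/

set_option autoImplicit false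
set_option maxHeartbeats 1600000
set_option maxRecDepth 8000
open scoped ComplexConjugate

namespace Cfsg.Agent.Lib.Helper29_H648_GRAMaux

open Cfsg Cfsg.Agent.Lib.Helper80_CharBasic
  Cfsg.Agent.Lib.Helper76_H648Defs

theorem s3_sq : s3 ^ 2 = 3 := by
  unfold s3
  rw [pow_two, ← Complex.ofReal_mul, Real.mul_self_sqrt (by norm_num)]
  norm_num

/-- the coefficient matrix of `cform` -/
noncomputable def Acf : Fin 9 → Fin 9 → ℂ :=
  ![![0, 0, 0, s3 / 6, -s3 / 6, 0, 0, 0, 0],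
    ![-1 / 36, 1 / 4, 0, -s3 / 12, s3 / 12, 0, 0, -1 / 9, -1 / 9],
    ![0, 0, 0, 0, 0, 1 / 3, -1 / 3, 0, 0],
    ![-1 / 12, -1 / 4, 0, s3 / 12, -s3 / 12, 0, 1 / 3, 0, 0],
    ![-1 / 36, -1 / 4, 0, -1 / 4, -1 / 4, 0, 0, -1 / 9, -1 / 9],
    ![-1 / 12, -1 / 4, 0, s3 / 12, -s3 / 12, -1 / 3, -1 / 3, 0, 0],
    ![0, 0, 1 / 2, 0, 0, 0, -1 / 3, -1 / 6, 0],
    ![0, 0, -1 / 2, 0, 0, 0, -1 / 3, -1 / 6, 0],
    ![-1 / 36, -1 / 4, 0, 1 / 4, 1 / 4, 0, 0, -1 / 9, -1 / 9]]

/-- `cform` is linear with matrix `Acf` -/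
theorem cform_lin (x0 x1 x2 x3 x4 x5 x6 x7 x8 : ℂ) (j : Fin 9) :
    cform x0 x1 x2 x3 x4 x5 x6 x7 x8 j =
      ∑ i, Acf j i * (![x0, x1, x2, x3, x4, x5, x6, x7, x8] : Fin 9 → ℂ) i := by
  fin_cases j <;> simp [cform, Acf, Fin.sum_univ_succ] <;> ring

/-- the arithmetic: `A D Aᵀ = Gm` -/
theorem gram_arith (j k : Fin 9) :
    ∑ i, Acf j i * Acf k i * (cent9 i : ℂ) = (Gm j k : ℂ) := by
  have h3 := s3_sq
  fin_cases j <;> fin_cases k <;> simp [Acf, Fin.sum_univ_succ, cent9, Gm] <;>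
    ring_nf <;> (try rw [h3]) <;> (try norm_num)

section grp
variable {G : Type*} [Group G] [Finite G]

/-- second orthogonality for real classes without conjugation -/
theorem orth_real (x y : G) (hy : IsConj y y⁻¹) :
    (IsConj x y → ∑ᶠ χ : IrrCharacter G, (χ : G → ℂ) x * (χ : G → ℂ) y =
        (Nat.card (Subgroup.centralizer ({x} : Set G)) : ℂ)) ∧
    (¬ IsConj x y → ∑ᶠ χ : IrrCharacter G, (χ : G → ℂ) x * (χ : G → ℂ) y = 0) := by
  have hreal : ∀ χ : IrrCharacter G, (χ : G → ℂ) y = conj ((χ : G → ℂ) y) := by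
    intro χ
    rw [← irr_inv χ y]
    exact irr_isConj χ hy
  have h := Cfsg.Agent.Lib.Helper80_CharComplete.second_orthogonality x y
  constructor
  · intro hc
    rw [← h.1 hc]
    exact finsum_congr (fun χ => by rw [← hreal χ])
  · intro hc
    rw [← h.2 hc]
    exact finsum_congr (fun χ => by rw [← hreal χ])

variable {a b c σ u v s : G}

/-- GRAM with the class data as hypotheses -/
theorem gram_aux
    (hreal : ∀ i : Fin 9, IsConj (rep9 a b c σ u v s i) (rep9 a b c σ u v s i)⁻¹)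
    (hnconj : ∀ i k : Fin 9, i ≠ k → ¬ IsConj (rep9 a b c σ u v s i) (rep9 a b c σ u v s k))
    (hcent : ∀ i : Fin 9,
      Nat.card (Subgroup.centralizer ({rep9 a b c σ u v s i} : Set G)) = cent9 i)
    (j k : Fin 9) :
    ∑ᶠ χ : IrrCharacter G, cvec a b c σ u v s (χ : G → ℂ) j * cvec a b c σ u v s (χ : G → ℂ) k =
      (Gm j k : ℂ) := by
  classical
  haveI := Fintype.ofFinite (IrrCharacter G)
  -- the values at the nine representatives
  set X : IrrCharacter G → Fin 9 → ℂ := fun χ i => (χ : G → ℂ) (rep9 a b c σ u v s i) with hX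
  have hXlit : ∀ (χ : IrrCharacter G) (i : Fin 9), X χ i =
      (![(χ : G → ℂ) c, (χ : G → ℂ) (c * u), (χ : G → ℂ) (a * b * v), (χ : G → ℂ) (c⁻¹ * s),
        (χ : G → ℂ) (c * s), (χ : G → ℂ) (a * σ), (χ : G → ℂ) (a⁻¹ * σ), (χ : G → ℂ) (a * b),
        (χ : G → ℂ) (a * b * c)] : Fin 9 → ℂ) i := by
    intro χ i
    fin_cases i <;> rfl
  have hcv : ∀ (χ : IrrCharacter G) (j : Fin 9),
      cvec a b c σ u v s (χ : G → ℂ) j = ∑ i, Acf j i * X χ i := by
    intro χ j
    unfold cvec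
    rw [cform_lin]
    exact Finset.sum_congr rfl (fun i _ => by rw [hXlit])
  have horth : ∀ i l : Fin 9, ∑ χ : IrrCharacter G, X χ i * X χ l =
      if i = l then (cent9 i : ℂ) else 0 := by
    intro i l
    have h := orth_real (rep9 a b c σ u v s i) (rep9 a b c σ u v s l) (hreal l)
    rw [← finsum_eq_sum_of_fintype]
    by_cases hil : i = l
    · subst hil
      rw [if_pos rfl, h.1 (IsConj.refl _), hcent]
    · rw [if_neg hil, h.2 (hnconj i l hil)]
  rw [finsum_eq_sum_of_fintype, ← gram_arith j k]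
  calc ∑ χ : IrrCharacter G, cvec a b c σ u v s (χ : G → ℂ) j * cvec a b c σ u v s (χ : G → ℂ) k
      = ∑ χ : IrrCharacter G, ∑ i : Fin 9, ∑ l : Fin 9,
          (Acf j i * Acf k l) * (X χ i * X χ l) := by
        refine Finset.sum_congr rfl (fun χ _ => ?_)
        rw [hcv, hcv, Finset.sum_mul_sum]
        exact Finset.sum_congr rfl (fun i _ => Finset.sum_congr rfl (fun l _ => by ring))
    _ = ∑ i : Fin 9, ∑ χ : IrrCharacter G, ∑ l : Fin 9,
          (Acf j i * Acf k l) * (X χ i * X χ l) := Finset.sum_comm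
    _ = ∑ i : Fin 9, ∑ l : Fin 9, ∑ χ : IrrCharacter G,
          (Acf j i * Acf k l) * (X χ i * X χ l) :=
        Finset.sum_congr rfl (fun i _ => Finset.sum_comm)
    _ = ∑ i : Fin 9, ∑ l : Fin 9, (Acf j i * Acf k l) * (if i = l then (cent9 i : ℂ) else 0) := by
        refine Finset.sum_congr rfl (fun i _ => Finset.sum_congr rfl (fun l _ => ?_))
        rw [← Finset.mul_sum, horth]
    _ = ∑ i, Acf j i * Acf k i * (cent9 i : ℂ) := by
        refine Finset.sum_congr rfl (fun i _ => ?_)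
        simp only [mul_ite, mul_zero, Finset.sum_ite_eq, Finset.mem_univ, if_true]

end grp

end Cfsg.Agent.Lib.Helper29_H648_GRAMaux
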