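import Mathlib
import Cfsg.Agent.Lib.Helper94_Herm
import Cfsg.Agent.Lib.Helper94_HermIrr
import Cfsg.Agent.Lib.Helper94_HermTrans
import Cfsg.Agent.Lib.Helper94_HermOrth
import Cfsg.Agent.Lib.Helper94_HermWitt
import Cfsg.Agent.Lib.Helper94_HermNondeg

set_option autoImplicit false

/-!
Maximality of the stabiliser of a nondegenerate subspace `W` in the special unitary group under the
weaker dimension hypothesis `dim W + 4 ≤ dim V` (instead of `7 ≤ dim V`): helper94's proof of
`Helper94_HermNondeg.maximal_stab_nondeg` goes through verbatim.  Covers `SU_6` (`dim W = 1, 2`)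
and `SU_5` (`dim W = 1`).
-/

namespace Cfsg.Agent.Lib.Helper29_HermNondeg6

open Module Cfsg.Agent.Lib.Helper94_Symp Cfsg.Agent.Lib.Helper94_Herm
  Cfsg.Agent.Lib.Helper94_HermIrr Cfsg.Agent.Lib.Helper94_HermTrans
  Cfsg.Agent.Lib.Helper94_HermOrth Cfsg.Agent.Lib.Helper94_HermWitt
  Cfsg.Agent.Lib.Helper94_HermNondeg

variable {F V : Type*} [Field F] [AddCommGroup V] [Module F V]
variable {σ : F →+* F} {B : V →ₗ[F] V →ₛₗ[σ] F}

theorem maximal_stab_nondeg6 [Finite F] [FiniteDimensional F V] (hσ : Invol σ) (hB : IsHerm B)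
    (hN : NondegOn B ⊤) (K0 : Subgroup (V ≃ₗ[F] V))
    (hK1 : ∀ (φ : Dual F V) (v : V) (h : φ v = 0), LinearEquiv.transvection h ∈ K0)
    (W : Submodule F V) (hW0 : W ≠ ⊥) (hW : NondegOn B W)
    (hdim : 2 * finrank F W < finrank F V) (h7 : finrank F W + 4 ≤ finrank F V) :
    (stab W ⊓ (uG B ⊓ K0) < uG B ⊓ K0) ∧
      ∀ M : Subgroup (V ≃ₗ[F] V), stab W ⊓ (uG B ⊓ K0) ≤ M → M ≤ uG B ⊓ K0 →
        M = stab W ⊓ (uG B ⊓ K0) ∨ M = uG B ⊓ K0 := by
  have hutvG : ∀ a c, σ c = -c → utv B a c ∈ uG B ⊓ K0 := by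
    intro a c hc
    refine ⟨utv_mem_uG hB a hc, ?_⟩
    unfold utv
    split_ifs with h
    · exact hK1 _ _ _
    · exact K0.one_mem
  obtain ⟨ζ, hζ0, hζ⟩ := exists_skew hσ
  have hfr := finrank_orthS hB hN W
  set W' := orthS B W with hW'
  have hWW' : ∀ a ∈ W, ∀ b ∈ W', B a b = 0 := fun a ha b hb => hb a ha
  have hW'W : ∀ a ∈ W, ∀ b ∈ W', B b a = 0 := fun a ha b hb => herm_eq_zero hB (hb a ha)
  have hdisj : W ⊓ W' = ⊥ := by
    rw [eq_bot_iff]
    intro x hx
    obtain ⟨hx1, hx2⟩ := Submodule.mem_inf.mp hx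
    by_contra hx0
    obtain ⟨y, hy, hyx⟩ := hW x hx1 hx0
    exact hyx (hW'W y hy x hx2)
  have hsup : W ⊔ W' = ⊤ := by
    apply Submodule.eq_top_of_finrank_eq
    have := Submodule.finrank_sup_add_finrank_inf_eq W W'
    rw [hdisj, finrank_bot] at this
    omega
  have hdecomp : ∀ x : V, ∃ a ∈ W, ∃ b ∈ W', a + b = x := by
    intro x
    have : x ∈ W ⊔ W' := by rw [hsup]; trivial
    exact Submodule.mem_sup.mp this
  have hW'nd : NondegOn B W' := by
    intro y hy hy0
    obtain ⟨x, -, hx⟩ := hN y trivial hy0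
    obtain ⟨a, ha, b, hb, rfl⟩ := hdecomp x
    refine ⟨b, hb, ?_⟩
    rw [map_add, hW'W a ha y hy, zero_add] at hx
    exact hx
  have hfrW' : 4 ≤ finrank F W' := by omega
  have hnorm_sum : ∀ a ∈ W, ∀ b ∈ W', B (a + b) (a + b) = B a a + B b b := by
    intro a ha b hb
    rw [self_add hB, hWW' a ha b hb, map_zero]; ring
  constructor
  · -- proper
    refine lt_of_le_of_ne inf_le_right ?_
    intro heq
    obtain ⟨x0, hx0W, hx00⟩ := Submodule.exists_mem_ne_zero_of_ne_bot hW0
    obtain ⟨a, haW, ha⟩ := exists_aniso hσ hB hW hx0W hx00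
    obtain ⟨b, hbW', hb0, hb⟩ := exists_norm hσ hB hW'nd (by omega) (-(B a a))
      (by rw [map_neg, herm_self hB])
    have hx : B (a + b) (a + b) = 0 := by rw [hnorm_sum a haW b hbW', hb]; ring
    have hg : utv B (a + b) ζ ∈ stab W ⊓ (uG B ⊓ K0) := by
      rw [heq]; exact hutvG _ _ hζ
    have hga := (mem_stab.mp hg.1 a).mp haW
    rw [utv_apply B hx, map_add, hWW' a haW b hbW', add_zero] at hga
    have h1 : (ζ * B a a) • (a + b) ∈ W := by
      have := W.sub_mem hga haW
      rwa [add_sub_cancel_left] at this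
    have h2 : a + b ∈ W := by
      have := W.smul_mem (ζ * B a a)⁻¹ h1
      rwa [smul_smul, inv_mul_cancel₀ (mul_ne_zero hζ0 ha), one_smul] at this
    have h3 : b ∈ W := by
      have := W.sub_mem h2 haW
      rwa [add_sub_cancel_left] at this
    have h4 : b ∈ W ⊓ W' := ⟨h3, hbW'⟩
    rw [hdisj] at h4
    exact hb0 ((Submodule.mem_bot F).mp h4)
  · intro M hHM hMK
    let T : V → Prop := fun a => ∀ c, σ c = -c → utv B a c ∈ M
    have hTW : ∀ a ∈ W, T a := by
      intro a ha c hc
      apply hHM
      refine ⟨mem_stab_of_forall_mem ?_, hutvG a c hc⟩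
      intro x hx
      by_cases haa : B a a = 0
      · rw [utv_apply B haa]
        exact W.add_mem hx (W.smul_mem _ ha)
      · rw [utv_of_ne haa]; exact hx
    have hTW' : ∀ a ∈ W', T a := by
      intro a ha c hc
      apply hHM
      refine ⟨mem_stab_of_forall_mem ?_, hutvG a c hc⟩
      intro x hx
      rw [utv_fix B a c (hWW' x hx a ha)]
      exact hx
    have hTM : ∀ g ∈ M, ∀ a, T a → T (g a) := by
      intro g hg a ha c hc
      have hgU : g ∈ uG B := (hMK hg).1
      rw [← conj_utv hgU a c]
      exact M.mul_mem (M.mul_mem hg (ha c hc)) (M.inv_mem hg)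
    have hTsmul : ∀ a, T a → ∀ μ : F, T (μ • a) := by
      intro a ha μ c hc
      rw [utv_smul]
      apply ha
      rw [map_mul, map_mul, hσ.invol, hc]; ring
    have hTline : ∀ x y, T x → B x x = 0 → B y y = 0 → B x y ≠ 0 → ∀ l m : F,
        B (l • x + m • y) (l • x + m • y) = 0 → T y → T (l • x + m • y) := by
      intro x y hTx hx hy hxy l m hiso hTy
      by_cases hm : m = 0
      · rw [hm, zero_smul, add_zero]
        exact hTsmul x hTx l
      have hyx : B y x ≠ 0 := herm_ne_zero hσ hB hxy
      have hyx' : B y x = σ (B x y) := hB x y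
      have hσm : σ m ≠ 0 := (map_ne_zero σ).mpr hm
      have hcond : l * σ m * B x y + m * σ l * σ (B x y) = 0 := by
        simp only [map_add, map_smul, map_smulₛₗ, LinearMap.add_apply, LinearMap.smul_apply,
          smul_eq_mul, hx, hy, hyx'] at hiso
        linear_combination hiso
      have hc : σ (l / (m * B y x)) = -(l / (m * B y x)) := by
        rw [map_div₀, map_mul, hyx', hσ.invol]
        have h1 : σ m * B x y ≠ 0 := mul_ne_zero hσm hxy
        have h2 : m * σ (B x y) ≠ 0 := mul_ne_zero hm (by rw [← hyx']; exact hyx)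
        have hσβ : σ (B x y) ≠ 0 := by rw [← hyx']; exact hyx
        rw [eq_neg_iff_add_eq_zero]
        field_simp
        linear_combination hcond
      have h3 : utv B x (l / (m * B y x)) y = y + (l / m) • x := by
        rw [utv_apply B hx]
        congr 2
        field_simp
      have h4 : T (y + (l / m) • x) := by
        rw [← h3]
        exact hTM _ (hTx _ hc) y hTy
      have h5 : l • x + m • y = m • (y + (l / m) • x) := by
        rw [smul_add, smul_smul, mul_div_cancel₀ _ hm]; abel
      rw [h5]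
      exact hTsmul _ h4 m
    have htvW : tvGroup B W ≤ M := tvGroup_le W M (fun a ha _ c hc => hTW a ha c hc)
    have htvW' : tvGroup B W' ≤ M := tvGroup_le W' M (fun a ha _ c hc => hTW' a ha c hc)
    by_cases hMs : M ≤ stab W
    · left
      exact le_antisymm (fun g hg => ⟨hMs hg, hMK hg⟩) hHM
    right
    apply le_antisymm hMK
    obtain ⟨g, hgM, hgs⟩ := SetLike.not_le_iff_exists.mp hMs
    have hgU : g ∈ uG B := (hMK hgM).1
    -- isotropic vectors of W' span it
    obtain ⟨e', he'W', f', hf'W', he', hf', hef'⟩ :=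
      exists_pair hσ hB hW'nd (exists_notMem_span1 (by omega))
    have hspan' := span_iso hσ hB he'W' hf'W' he' hf' hef'
    -- a mixed vector
    have hu : ∃ b ∈ W', B b b = 0 ∧ g b ∉ W ∧ g b ∉ W' := by
      by_contra hcon
      push Not at hcon
      by_cases hall : ∀ b ∈ W', B b b = 0 → g b ∈ W'
      · -- g stabilises W'
        have h1 : ∀ y ∈ W', g y ∈ W' := by
          intro y hy
          have := hspan' y hy
          refine Submodule.span_induction (p := fun y _ => g y ∈ W') ?_ ?_ ?_ ?_ this
          · rintro z ⟨hzU, hz⟩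
            exact hall z hzU hz
          · rw [map_zero]; exact W'.zero_mem
          · intro x y _ _ hx hy
            rw [map_add]; exact W'.add_mem hx hy
          · intro c x _ hx
            rw [map_smul]; exact W'.smul_mem _ hx
        have h2 : g ∈ stab W' := mem_stab_of_forall_mem h1
        apply hgs
        apply mem_stab_of_forall_mem
        intro w hw
        rw [← orthS_orthS hB hN W]
        intro y hy
        have h3 : g⁻¹ y ∈ W' := (mem_stab.mp ((stab W').inv_mem h2) y).mp hy
        have h4 := hgU (g⁻¹ y) w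
        rw [apply_inv_apply'] at h4
        rw [h4]
        exact hW'W w hw _ h3
      · push Not at hall
        obtain ⟨b1, hb1W', hb1, hgb1⟩ := hall
        have hgb1W : g b1 ∈ W := by
          by_contra h
          exact hgb1 (hcon b1 hb1W' hb1 h)
        have hb10 : b1 ≠ 0 := by
          rintro rfl
          apply hgb1
          rw [map_zero]; exact W'.zero_mem
        have hnb : ∀ b2 ∈ W', B b2 b2 = 0 → g b2 ∈ W → ∀ b ∈ W', B b b = 0 → B b2 b ≠ 0 →
            g b ∈ W := by
          intro b2 _ _ hgb2 b hb hbb h22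
          by_contra h
          have h5 := hcon b hb hbb h
          apply h22
          rw [← hgU b2 b]
          exact hWW' _ hgb2 _ h5
        have hallW : ∀ b ∈ W', B b b = 0 → g b ∈ W := by
          intro b hb hbb
          by_cases hb0 : b = 0
          · rw [hb0, map_zero]; exact W.zero_mem
          by_cases h12 : B b1 b = 0
          · obtain ⟨b'', hb''W', hb'', h6, h7⟩ :=
              exists_connect hσ hB hW'nd hb1W' hb hb10 hb0 hb1 h12
            have h8 := hnb b1 hb1W' hb1 hgb1W b'' hb''W' hb'' h6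
            exact hnb b'' hb''W' hb'' h8 b hb hbb (herm_ne_zero hσ hB h7)
          · exact hnb b1 hb1W' hb1 hgb1W b hb hbb h12
        have h1 : ∀ y ∈ W', g y ∈ W := by
          intro y hy
          have := hspan' y hy
          refine Submodule.span_induction (p := fun y _ => g y ∈ W) ?_ ?_ ?_ ?_ this
          · rintro z ⟨hzU, hz⟩
            exact hallW z hzU hz
          · rw [map_zero]; exact W.zero_mem
          · intro x y _ _ hx hy
            rw [map_add]; exact W.add_mem hx hy
          · intro c x _ hx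
            rw [map_smul]; exact W.smul_mem _ hx
        have hle : W'.map (g : V →ₗ[F] V) ≤ W := by
          rintro _ ⟨y, hy, rfl⟩
          exact h1 y hy
        have := Submodule.finrank_mono hle
        rw [LinearEquiv.finrank_map_eq g W'] at this
        omega
    obtain ⟨b1, hb1W', hb1, hgb1W, hgb1W'⟩ := hu
    have hTu : T (g b1) := hTM g hgM b1 (hTW' b1 hb1W')
    have huu : B (g b1) (g b1) = 0 := by rw [hgU, hb1]
    obtain ⟨a0, ha0W, b0, hb0W', hab0⟩ := hdecomp (g b1)
    have ha00 : a0 ≠ 0 := by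
      rintro rfl
      rw [zero_add] at hab0
      exact hgb1W' (hab0 ▸ hb0W')
    have hb00 : b0 ≠ 0 := by
      rintro rfl
      rw [add_zero] at hab0
      exact hgb1W (hab0 ▸ ha0W)
    rw [← hab0] at hTu huu
    have hn0 : B a0 a0 + B b0 b0 = 0 := by rw [← hnorm_sum a0 ha0W b0 hb0W']; exact huu
    -- the predicate on W
    let PS : V → Prop := fun a => ∀ b ∈ W', B b b = -(B a a) → T (a + b)
    have hPS0 : PS a0 := by
      intro b hb hbb
      have hkey : ∀ t ∈ tvGroup B W', t b0 = b → T (a0 + b) := by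
        intro t ht htb
        have hta : t a0 = a0 := tvGroup_fix (fun a ha => hWW' a0 ha0W a ha) ht
        have := hTM t (htvW' ht) _ hTu
        rwa [map_add, hta, htb] at this
      by_cases hα : B a0 a0 = 0
      · have hb0i : B b0 b0 = 0 := by rw [hα, zero_add] at hn0; exact hn0
        have hbi : B b b = 0 := by rw [hbb, hα, neg_zero]
        by_cases hb0 : b = 0
        · rw [hb0, add_zero]; exact hTW a0 ha0W
        · obtain ⟨t, ht, htb⟩ :=
            exists_tv_iso hσ hB hW'nd (by omega) hb0W' hb hb00 hb0 hb0i hbi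
          exact hkey t ht htb
      · have hb0n : B b0 b0 ≠ 0 := by
          intro h
          rw [h, add_zero] at hn0
          exact hα hn0
        obtain ⟨t, ht, htb⟩ := exists_tv_aniso hσ hB hW'nd hfrW' hb0W' hb hb0n
          (by rw [hbb]; linear_combination -hn0)
        exact hkey t ht htb
    have hPSzero : PS 0 := by
      intro b hb _
      rw [zero_add]; exact hTW' b hb
    have hPSsmul : ∀ a, PS a → ∀ μ : F, μ ≠ 0 → PS (μ • a) := by
      intro a ha μ hμ b hb hbb
      have hσμ : σ μ ≠ 0 := (map_ne_zero σ).mpr hμ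
      have h1 : B (μ⁻¹ • b) (μ⁻¹ • b) = -(B a a) := by
        rw [self_smul, hbb, self_smul, map_inv₀]
        field_simp
      have h2 := hTsmul _ (ha _ (W'.smul_mem μ⁻¹ hb) h1) μ
      rwa [smul_add, smul_smul, mul_inv_cancel₀ hμ, one_smul] at h2
    have hPSadd : ∀ a1 ∈ W, ∀ a2 ∈ W, PS a1 → PS a2 → PS (a1 + a2) := by
      intro a1 ha1 a2 ha2 hP1 hP2 b hb hbb
      by_cases hb0 : b = 0
      · rw [hb0, add_zero]; exact hTW _ (W.add_mem ha1 ha2)
      have hθ : σ (B b b - B a1 a1 + B a2 a2) = B b b - B a1 a1 + B a2 a2 := by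
        rw [map_add, map_sub, herm_self hB, herm_self hB, herm_self hB]
      obtain ⟨τ0, hτ0⟩ := tr_surj hσ _ hθ
      obtain ⟨τ, hτ, hρ⟩ : ∃ τ, τ + σ τ = B b b - B a1 a1 + B a2 a2 ∧
          B a1 a2 + τ + B a1 a1 ≠ 0 := by
        by_cases h : B a1 a2 + τ0 + B a1 a1 = 0
        · refine ⟨τ0 + ζ, ?_, ?_⟩
          · rw [map_add, hζ]; linear_combination hτ0
          · have : B a1 a2 + (τ0 + ζ) + B a1 a1 = ζ := by linear_combination h
            rw [this]; exact hζ0
        · exact ⟨τ0, hτ0, h⟩
      obtain ⟨b1, hb1, hb1b, hb1n⟩ := exists_rep hσ hB hW'nd hfrW' hb hb0 τ (-(B a1 a1))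
        (by rw [map_neg, herm_self hB])
      have hbb1 : B b b1 = σ τ := by rw [hB b1 b, hb1b]
      have h2n : B (b - b1) (b - b1) = -(B a2 a2) := by
        simp only [map_sub, LinearMap.sub_apply, hb1b, hbb1, hb1n]
        linear_combination -hτ
      have hT1 := hP1 b1 hb1 hb1n
      have hT2 := hP2 (b - b1) (W'.sub_mem hb hb1) h2n
      have hx1 : B (a1 + b1) (a1 + b1) = 0 := by
        rw [hnorm_sum a1 ha1 b1 hb1, hb1n]; ring
      have hx2 : B (a2 + (b - b1)) (a2 + (b - b1)) = 0 := by
        rw [hnorm_sum a2 ha2 _ (W'.sub_mem hb hb1), h2n]; ring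
      have hx12 : B (a1 + b1) (a2 + (b - b1)) ≠ 0 := by
        have : B (a1 + b1) (a2 + (b - b1)) = B a1 a2 + τ + B a1 a1 := by
          simp only [map_add, map_sub, LinearMap.add_apply, hWW' a1 ha1 b hb,
            hWW' a1 ha1 b1 hb1, hW'W a2 ha2 b1 hb1, hb1b, hb1n]
          ring
        rw [this]; exact hρ
      have hsum : (1 : F) • (a1 + b1) + (1 : F) • (a2 + (b - b1)) = a1 + a2 + b := by
        rw [one_smul, one_smul]; abel
      have hiso : B (a1 + a2 + b) (a1 + a2 + b) = 0 := by
        rw [hnorm_sum _ (W.add_mem ha1 ha2) b hb, hbb]; ring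
      have := hTline _ _ hT1 hx1 hx2 hx12 1 1 (by rw [hsum]; exact hiso) hT2
      rwa [hsum] at this
    let S : Submodule F V :=
      { carrier := {a | a ∈ W ∧ PS a}
        add_mem' := by
          rintro a1 a2 ⟨h1, h1'⟩ ⟨h2, h2'⟩
          exact ⟨W.add_mem h1 h2, hPSadd a1 h1 a2 h2 h1' h2'⟩
        zero_mem' := ⟨W.zero_mem, hPSzero⟩
        smul_mem' := by
          rintro c a ⟨h1, h1'⟩
          refine ⟨W.smul_mem c h1, ?_⟩
          by_cases hc : c = 0
          · rw [hc, zero_smul]; exact hPSzero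
          · exact hPSsmul a h1' c hc }
    have hSmem : ∀ a, a ∈ S ↔ a ∈ W ∧ PS a := fun a => Iff.rfl
    have ha0S : a0 ∈ S := ⟨ha0W, hPS0⟩
    have hSinv : ∀ e ∈ W, B e e = 0 → ∀ c, σ c = -c → ∀ a ∈ S, utv B e c a ∈ S := by
      intro e he hee c hc a ha
      obtain ⟨haW, haP⟩ := ha
      have htU : utv B e c ∈ uG B := utv_mem_uG hB e hc
      refine ⟨?_, ?_⟩
      · rw [utv_apply B hee]
        exact W.add_mem haW (W.smul_mem _ he)
      · intro b hb hbb
        have h1 : T (a + b) := haP b hb (by rw [hbb, htU])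
        have h2 := hTM _ (hTW e he c hc) _ h1
        rwa [map_add, utv_fix B e c (hW'W e he b hb)] at h2
    -- transfer
    have hTr : ∀ s ∈ S, ∀ e ∈ W, B e e = 0 → B s e ≠ 0 → e ∈ S := by
      intro s hs e he hee hse
      have h1 := hSinv e he hee ζ hζ s hs
      rw [utv_apply B hee] at h1
      have h2 : (ζ * B s e) • e ∈ S := by
        have := S.sub_mem h1 hs
        rwa [add_sub_cancel_left] at this
      have := S.smul_mem (ζ * B s e)⁻¹ h2
      rwa [smul_smul, inv_mul_cancel₀ (mul_ne_zero hζ0 hse), one_smul] at this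
    have hWS : W ≤ S := by
      by_cases h1 : ∃ z ∈ W, z ∉ Submodule.span F {a0}
      · obtain ⟨z, hzW, hz⟩ := h1
        have h2 : ∀ x : V, ∃ z ∈ W, z ∉ Submodule.span F {x} := by
          intro x
          by_cases hax : a0 ∈ Submodule.span F {x}
          · refine ⟨z, hzW, ?_⟩
            intro hzx
            apply hz
            obtain ⟨c, hc⟩ := Submodule.mem_span_singleton.mp hax
            have hc0 : c ≠ 0 := by
              rintro rfl
              rw [zero_smul] at hc
              exact ha00 hc.symm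
            have hx : x ∈ Submodule.span F {a0} := by
              rw [Submodule.mem_span_singleton]
              exact ⟨c⁻¹, by rw [← hc, smul_smul, inv_mul_cancel₀ hc0, one_smul]⟩
            exact (Submodule.span_singleton_le_iff_mem _ _).mpr hx hzx
          · exact ⟨a0, ha0W, hax⟩
        obtain ⟨e, heW, f, hfW, he, hf, hef⟩ := exists_pair hσ hB hW h2
        have hspan := span_iso hσ hB heW hfW he hf hef
        obtain ⟨e1, he1W, he1, hae1⟩ : ∃ b ∈ W, B b b = 0 ∧ B a0 b ≠ 0 := by
          by_contra hcon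
          push Not at hcon
          obtain ⟨y, hyW, hy⟩ := hW a0 ha0W ha00
          apply hy
          have := hspan y hyW
          refine Submodule.span_induction (p := fun y _ => B a0 y = 0) ?_ ?_ ?_ ?_ this
          · rintro z ⟨hzU, hz⟩
            exact hcon z hzU hz
          · simp
          · intro x y _ _ hx hy
            rw [map_add, hx, hy, add_zero]
          · intro c x _ hx
            rw [map_smulₛₗ, hx, smul_zero]
        have he1S : e1 ∈ S := hTr a0 ha0S e1 he1W he1 hae1
        have he10 : e1 ≠ 0 := by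
          rintro rfl
          simp at hae1
        have hisoS : ∀ e2 ∈ W, B e2 e2 = 0 → e2 ∈ S := by
          intro e2 he2W he2
          by_cases he20 : e2 = 0
          · rw [he20]; exact S.zero_mem
          by_cases h12 : B e1 e2 = 0
          · obtain ⟨b'', hb''W, hb'', h6, h7⟩ :=
              exists_connect hσ hB hW he1W he2W he10 he20 he1 h12
            have h8 := hTr e1 he1S b'' hb''W hb'' h6
            exact hTr b'' h8 e2 he2W he2 (herm_ne_zero hσ hB h7)
          · exact hTr e1 he1S e2 he2W he2 h12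
        intro w hw
        have := hspan w hw
        refine (Submodule.span_le (p := S)).mpr ?_ this
        rintro z ⟨hzW, hz⟩
        exact hisoS z hzW hz
      · push Not at h1
        intro w hw
        obtain ⟨c, hc⟩ := Submodule.mem_span_singleton.mp (h1 w hw)
        rw [← hc]
        exact S.smul_mem c ha0S
    have hTall : ∀ x, T x := by
      intro x c hc
      by_cases hx : B x x = 0
      · obtain ⟨a, ha, b, hb, rfl⟩ := hdecomp x
        have hPa : PS a := (hWS ha).2
        rw [hnorm_sum a ha b hb] at hx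
        exact hPa b hb (by linear_combination hx) c hc
      · rw [utv_of_ne hx]; exact M.one_mem
    have htop : tvGroup B ⊤ ≤ M := tvGroup_le ⊤ M (fun a _ _ c hc => hTall a c hc)
    intro g' hg'
    obtain ⟨t, ht, hag⟩ := exists_tv_agree hσ hB (finrank F W) ⊤ hN W le_top hW le_rfl
      (by rw [finrank_top]; omega) g' hg'.1 (fun _ _ => trivial)
    have htM : t ∈ M := htop ht
    have hmem : t⁻¹ * g' ∈ stab W ⊓ (uG B ⊓ K0) := by
      refine ⟨mem_stab_of_forall_mem ?_,
        (uG B ⊓ K0).mul_mem ((uG B ⊓ K0).inv_mem (hMK htM)) hg'⟩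
      intro x hx
      rw [LinearEquiv.mul_apply, ← hag x hx, inv_apply_apply']
      exact hx
    have : g' = t * (t⁻¹ * g') := by group
    rw [this]
    exact M.mul_mem htM (hHM hmem)

end Cfsg.Agent.Lib.Helper29_HermNondeg6
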