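import Mathlib
import Cfsg.Agent.Lib.Helper44_M3MDefs

set_option autoImplicit false
set_option linter.unusedVariables false
set_option linter.unusedSectionVars false
set_option linter.unusedSimpArgs false

/-!
# M3M market (S2147, `q = 3`, architect helper44), package M3M-REGC:
the regular case is impossible (assembly of CHOICE, COCY, SPAN, END; dimension `≥ 8`).
-/

namespace Cfsg.Agent.Lib.Helper29_M3M_REGC

open Module Cfsg.Agent.Lib.Helper14_OmegaSimple Cfsg.Agent.Lib.Helper22_MI2Defs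
  Cfsg.Agent.Lib.Helper44_MI3Defs Cfsg.Agent.Lib.Helper44_M3MDefs

variable {F V : Type*} [Field F] [AddCommGroup V] [Module F V]

theorem polar_self_of_sing (Q : QuadraticForm F V) {x : V} (hx : Q x = 0) :
    QuadraticMap.polar (⇑Q) x x = 0 := by
  rw [Cfsg.Agent.Lib.Helper44_QuadClass.polar_self', hx, mul_zero]

theorem polar_of_mem_orth (Q : QuadraticForm F V) (P : Submodule F V) {n x : V} (hn : n ∈ P)
    (hx : x ∈ LinearMap.BilinForm.orthogonal (QuadraticMap.polarBilin Q) P) :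
    QuadraticMap.polar (⇑Q) n x = 0 := by
  have := (LinearMap.BilinForm.mem_orthogonal_iff.mp hx) n hn
  rw [QuadraticMap.polarBilin_apply_apply] at this
  exact this

section action2

variable {X : Type*} [MulAction (V ≃ₗ[F] V) X]

theorem regC3g [Finite F] [FiniteDimensional F V] (Q : QuadraticForm F V)
    (hf3 : ∀ c : F, c = 0 ∨ c = 1 ∨ c = -1) (h2 : (2 : F) ≠ 0)
    (hQ : (QuadraticMap.polarBilin Q).Nondegenerate) (hdim : 8 ≤ finrank F V)
    (Ω : Set X) (hΩ : IsOrbit Q Ω)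
    (hreg : ∀ u : V, u ≠ 0 → Q u = 0 → ∀ ω ∈ Ω, ∀ w : V, QuadraticMap.polar (⇑Q) u w = 0 →
      E Q u w • ω = ω → w ∈ Submodule.span F {u})
    (htr : ∀ u u' : V, Q u = 0 → Q u' = 0 → QuadraticMap.polar (⇑Q) u u' = 1 →
      ∀ ω ∈ Ω, ∀ ω' ∈ Ω, ∃ w ∈ perp2 Q u u', E Q u w • ω = ω')
    (hchoice : ∀ v v' : V, Q v = 0 → Q v' = 0 → QuadraticMap.polar (⇑Q) v v' = 1 →
      ∃ p p' q : V, Q p = 0 ∧ Q p' = 0 ∧ QuadraticMap.polar (⇑Q) p p' = 1 ∧ Q q ≠ 0 ∧
        QuadraticMap.polar (⇑Q) v p = 0 ∧ QuadraticMap.polar (⇑Q) v' p = 0 ∧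
        QuadraticMap.polar (⇑Q) v p' = 0 ∧ QuadraticMap.polar (⇑Q) v' p' = 0 ∧
        QuadraticMap.polar (⇑Q) v q = 0 ∧ QuadraticMap.polar (⇑Q) v' q = 0 ∧
        QuadraticMap.polar (⇑Q) p q = 0 ∧ QuadraticMap.polar (⇑Q) p' q = 0 ∧
        IsCompl (Submodule.span F {v, v', p, p', q})
          (LinearMap.BilinForm.orthogonal (QuadraticMap.polarBilin Q)
            (Submodule.span F {v, v', p, p', q})) ∧
        finrank F (Submodule.span F ({v, v', p, p', q} : Set V)) ≤ 5)
    (hcocy : ∀ ω ∈ Ω, ∀ v v' : V, Q v = 0 → Q v' = 0 → QuadraticMap.polar (⇑Q) v v' = 1 →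
      ∀ p q : V, p ≠ 0 → Q p = 0 → Q q ≠ 0 →
      QuadraticMap.polar (⇑Q) v p = 0 → QuadraticMap.polar (⇑Q) v' p = 0 →
      QuadraticMap.polar (⇑Q) v q = 0 → QuadraticMap.polar (⇑Q) v' q = 0 →
      QuadraticMap.polar (⇑Q) p q = 0 →
      ∀ c ∈ perp2 Q v v', (E Q v c * E Q p q) • ω = ω →
      QuadraticMap.polar (⇑Q) c p = 0 ∧
        ∀ x y : V, Q x ≠ 0 → Q y = Q x → QuadraticMap.polar (⇑Q) x y = 0 →
          QuadraticMap.polar (⇑Q) v x = 0 → QuadraticMap.polar (⇑Q) v' x = 0 →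
          QuadraticMap.polar (⇑Q) p x = 0 → QuadraticMap.polar (⇑Q) q x = 0 →
          QuadraticMap.polar (⇑Q) v y = 0 → QuadraticMap.polar (⇑Q) v' y = 0 →
          QuadraticMap.polar (⇑Q) p y = 0 → QuadraticMap.polar (⇑Q) q y = 0 →
          QuadraticMap.polar (⇑Q) c x = 0)
    (hspan : ∀ (P : Submodule F V),
      IsCompl P (LinearMap.BilinForm.orthogonal (QuadraticMap.polarBilin Q) P) →
      finrank F P + 3 ≤ finrank F V → ∀ c : V,
      (∀ x y : V, x ∈ LinearMap.BilinForm.orthogonal (QuadraticMap.polarBilin Q) P →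
        y ∈ LinearMap.BilinForm.orthogonal (QuadraticMap.polarBilin Q) P →
        Q x ≠ 0 → Q y = Q x → QuadraticMap.polar (⇑Q) x y = 0 → QuadraticMap.polar (⇑Q) c x = 0) →
      c ∈ P)
    (hend : ∀ v p q : V, Q v = 0 → Q p = 0 → QuadraticMap.polar (⇑Q) v p = 0 →
      QuadraticMap.polar (⇑Q) v q = 0 → QuadraticMap.polar (⇑Q) p q = 0 → ∀ α γ : F,
      E Q v (α • p + γ • q) * E Q p q = E Q (p + γ • v) (q - (α + Q q * γ) • v)) :
    False := by
  classical
  have hdim5 : 5 ≤ finrank F V := by omega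
  obtain ⟨ω, hω, -⟩ := hΩ.nontriv
  obtain ⟨v, hv0, hv⟩ := Cfsg.Agent.Lib.Helper44_QuadClass.exists_singular Q (by omega)
  obtain ⟨v', hv', hvv'⟩ := Cfsg.Agent.Lib.Helper44_QuadClass.exists_hyperbolic_partner Q hQ hv0 hv
  obtain ⟨p, p', q, hp, hp', hpp', hq, hvp, hv'p, hvp', hv'p', hvq, hv'q, hpq, hp'q, hP, hPdim⟩ :=
    hchoice v v' hv hv' hvv'
  have hp0 : p ≠ 0 := by
    rintro rfl
    rw [QuadraticMap.polar_zero_left] at hpp'
    exact zero_ne_one hpp'
  -- the element `g = E p q` and the vector `c`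
  have hgT : E Q p q ∈ T Q := E_mem_T Q hQ hdim5 hp hpq
  obtain ⟨c, hc, hfix0⟩ := htr v v' hv hv' hvv' (E Q p q • ω) (hΩ.inv _ hgT ω hω) ω hω
  have hfix : (E Q v c * E Q p q) • ω = ω := by rw [mul_smul]; exact hfix0
  obtain ⟨hcp, hgood⟩ := hcocy ω hω v v' hv hv' hvv' p q hp0 hp hq hvp hv'p hvq hv'q hpq c hc hfix
  -- `c ∈ P`
  set P : Submodule F V := Submodule.span F {v, v', p, p', q} with hPdef
  have hvP : v ∈ P := Submodule.subset_span (by simp)
  have hv'P : v' ∈ P := Submodule.subset_span (by simp)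
  have hpP : p ∈ P := Submodule.subset_span (by simp)
  have hp'P : p' ∈ P := Submodule.subset_span (by simp)
  have hqP : q ∈ P := Submodule.subset_span (by simp)
  have hcP : c ∈ P := by
    refine hspan P hP (by omega) c ?_
    intro x y hx hy hQx hQy hxy
    exact hgood x y hQx hQy hxy (polar_of_mem_orth Q P hvP hx) (polar_of_mem_orth Q P hv'P hx)
      (polar_of_mem_orth Q P hpP hx) (polar_of_mem_orth Q P hqP hx)
      (polar_of_mem_orth Q P hvP hy) (polar_of_mem_orth Q P hv'P hy)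
      (polar_of_mem_orth Q P hpP hy) (polar_of_mem_orth Q P hqP hy)
  obtain ⟨a, z1, hz1, rfl⟩ := Submodule.mem_span_insert.mp hcP
  obtain ⟨a', z2, hz2, rfl⟩ := Submodule.mem_span_insert.mp hz1
  obtain ⟨α, z3, hz3, rfl⟩ := Submodule.mem_span_insert.mp hz2
  obtain ⟨β', z4, hz4, rfl⟩ := Submodule.mem_span_insert.mp hz3
  obtain ⟨γ, rfl⟩ := Submodule.mem_span_singleton.mp hz4
  -- symmetric versions of the orthogonality relations
  have hv'v : QuadraticMap.polar (⇑Q) v' v = 1 := by rw [QuadraticMap.polar_comm]; exact hvv'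
  have hp'p : QuadraticMap.polar (⇑Q) p' p = 1 := by rw [QuadraticMap.polar_comm]; exact hpp'
  have hpv : QuadraticMap.polar (⇑Q) p v = 0 := by rw [QuadraticMap.polar_comm]; exact hvp
  have hpv' : QuadraticMap.polar (⇑Q) p v' = 0 := by rw [QuadraticMap.polar_comm]; exact hv'p
  have hp'v : QuadraticMap.polar (⇑Q) p' v = 0 := by rw [QuadraticMap.polar_comm]; exact hvp'
  have hp'v' : QuadraticMap.polar (⇑Q) p' v' = 0 := by rw [QuadraticMap.polar_comm]; exact hv'p'
  have hqv : QuadraticMap.polar (⇑Q) q v = 0 := by rw [QuadraticMap.polar_comm]; exact hvq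
  have hqv' : QuadraticMap.polar (⇑Q) q v' = 0 := by rw [QuadraticMap.polar_comm]; exact hv'q
  have hqp : QuadraticMap.polar (⇑Q) q p = 0 := by rw [QuadraticMap.polar_comm]; exact hpq
  have hqp' : QuadraticMap.polar (⇑Q) q p' = 0 := by rw [QuadraticMap.polar_comm]; exact hp'q
  have hvv : QuadraticMap.polar (⇑Q) v v = 0 := polar_self_of_sing Q hv
  have hv'v'0 : QuadraticMap.polar (⇑Q) v' v' = 0 := polar_self_of_sing Q hv'
  have hpp : QuadraticMap.polar (⇑Q) p p = 0 := polar_self_of_sing Q hp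
  have hp'p'0 : QuadraticMap.polar (⇑Q) p' p' = 0 := polar_self_of_sing Q hp'
  obtain ⟨hc1, hc2⟩ := (Cfsg.Agent.Lib.Helper44_QuadClass.mem_perp Q v v').mp hc
  have ha' : a' = 0 := by
    simp only [QuadraticMap.polar_add_right, QuadraticMap.polar_smul_right, hvv, hvv', hvp, hvp',
      hvq, smul_eq_mul, mul_zero, mul_one, zero_add, add_zero] at hc1
    exact hc1
  have ha : a = 0 := by
    simp only [QuadraticMap.polar_add_right, QuadraticMap.polar_smul_right, hv'v, hv'v'0, hv'p,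
      hv'p', hv'q, smul_eq_mul, mul_zero, mul_one, zero_add, add_zero] at hc2
    exact hc2
  have hβ' : β' = 0 := by
    simp only [QuadraticMap.polar_add_left, QuadraticMap.polar_smul_left, hvp, hv'p, hpp, hp'p,
      hqp, smul_eq_mul, mul_zero, mul_one, zero_add, add_zero] at hcp
    exact hcp
  subst ha ha' hβ'
  have hceq : (0 : F) • v + ((0 : F) • v' + (α • p + ((0 : F) • p' + γ • q))) = α • p + γ • q := by
    simp
  rw [hceq] at hfix
  rw [hend v p q hv hp hvp hvq hpq α γ] at hfix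
  -- the singular vector `u = p + γ v`
  set u : V := p + γ • v with hu
  set s : F := α + Q q * γ with hs
  have hQu : Q u = 0 := by
    have : Q (p + γ • v) = Q p + Q (γ • v) + QuadraticMap.polar (⇑Q) p (γ • v) := by
      rw [QuadraticMap.polar]; ring
    rw [hu, this, hp, QuadraticMap.map_smul, hv, QuadraticMap.polar_smul_right, hpv]
    simp
  have hup' : QuadraticMap.polar (⇑Q) u p' = 1 := by
    rw [hu, QuadraticMap.polar_add_left, QuadraticMap.polar_smul_left, hpp', hvp']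
    simp
  have hu0 : u ≠ 0 := by
    intro h
    rw [h, QuadraticMap.polar_zero_left] at hup'
    exact zero_ne_one hup'
  have huw : QuadraticMap.polar (⇑Q) u (q - s • v) = 0 := by
    rw [hu, QuadraticMap.polar_add_left, QuadraticMap.polar_smul_left,
      QuadraticMap.polar_sub_right, QuadraticMap.polar_sub_right, QuadraticMap.polar_smul_right,
      QuadraticMap.polar_smul_right, hpq, hpv, hvq, hvv]
    simp
  obtain ⟨t, ht⟩ := Submodule.mem_span_singleton.mp (hreg u hu0 hQu ω hω (q - s • v) huw hfix)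
  have ht0 : t = 0 := by
    have h1 : QuadraticMap.polar (⇑Q) (t • u) p' = t := by
      rw [QuadraticMap.polar_smul_left, hup']; simp
    have h3 : QuadraticMap.polar (⇑Q) (q - s • v) p' = 0 := by
      rw [QuadraticMap.polar_sub_left, QuadraticMap.polar_smul_left, hqp', hvp']
      simp
    rw [ht, h3] at h1
    exact h1.symm
  rw [ht0, zero_smul] at ht
  have hqv : q = s • v := by
    have := sub_eq_zero.mp ht.symm
    exact this
  apply hq
  rw [hqv, QuadraticMap.map_smul, hv, smul_zero]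

end action2

end Cfsg.Agent.Lib.Helper29_M3M_REGC
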