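import Mathlib
import Cfsg.Agent.Lib.Helper44_MI3Defs
import Cfsg.Agent.Lib.Helper22_MI2_Sub

set_option autoImplicit false

/-!
# MI3-DICHL (helper74, package for helper44's S2144 market)

The local dichotomy at one hyperbolic pair: for an orbit `Ω` of `T Q` with fewer than `Nmin3 (k+1)`
points, either every point is fixed by a "hyperplane" of the root group `U_v = {E v w}`, or every
point is fixed by all of `U_v` or only by the trivial elements.
-/

namespace Cfsg.Agent.Lib.Helper74_MI3_DICHL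

open Module Cfsg.Agent.Lib.Helper14_OmegaSimple Cfsg.Agent.Lib.Helper22_MI2Defs
  Cfsg.Agent.Lib.Helper44_MI3Defs Cfsg.Agent.Lib.Helper94_OrthSmall

variable {F V : Type*} [Field F] [AddCommGroup V] [Module F V]

/-- `2 * Nmin3 k = 3^k (3^k - 1)`. -/
theorem two_mul_Nmin3 (k : ℕ) : 2 * Nmin3 k = 3 ^ k * (3 ^ k - 1) := by
  unfold Nmin3
  have hodd : (3 ^ k) % 2 = 1 := by
    induction k with
    | zero => simp
    | succ n ih => rw [pow_succ, Nat.mul_mod, ih]
  have h2 : 2 ∣ 3 ^ k * (3 ^ k - 1) := by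
    have : 2 ∣ 3 ^ k - 1 := by omega
    exact Dvd.dvd.mul_left this _
  exact Nat.mul_div_cancel' h2

/-- the arithmetic identity behind case (b) -/
theorem Nmin3_succ (k : ℕ) : 3 ^ (2 * k + 1) + 3 * Nmin3 k = Nmin3 (k + 1) := by
  have h1 := two_mul_Nmin3 k
  have h2 := two_mul_Nmin3 (k + 1)
  have hpos : 1 ≤ 3 ^ k := Nat.one_le_pow _ _ (by norm_num)
  have hpos' : 1 ≤ 3 ^ (k + 1) := Nat.one_le_pow _ _ (by norm_num)
  obtain ⟨a, ha⟩ : ∃ a, 3 ^ k = a + 1 := ⟨3 ^ k - 1, by omega⟩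
  have e1 : 3 ^ (k + 1) = 3 * a + 3 := by rw [pow_succ, ha]; ring
  have e2 : 3 ^ (2 * k + 1) = 3 * (a + 1) * (a + 1) := by
    rw [pow_succ, two_mul, pow_add, ha]; ring
  rw [ha] at h1
  rw [e1] at h2
  have h1' : 2 * Nmin3 k = (a + 1) * a := by simpa using h1
  have h2' : 2 * Nmin3 (k + 1) = (3 * a + 3) * (3 * a + 2) := by
    have : 3 * a + 3 - 1 = 3 * a + 2 := by omega
    rw [this] at h2; exact h2
  rw [e2]
  nlinarith [h1', h2']

theorem card_F_eq_three [Finite F] (f3 : ∀ c : F, c = 0 ∨ c = 1 ∨ c = -1) (two_ne : (2 : F) ≠ 0) :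
    Nat.card F = 3 := by
  classical
  have := Fintype.ofFinite F
  have h10 : (1 : F) ≠ 0 := one_ne_zero
  have hm10 : (-1 : F) ≠ 0 := neg_ne_zero.mpr one_ne_zero
  have hm11 : (-1 : F) ≠ 1 := by
    intro h
    apply two_ne
    have : (1 : F) + 1 = 0 := by nth_rewrite 1 [← h]; ring
    rw [← this]; norm_num
  have huniv : (Finset.univ : Finset F) = {0, 1, -1} := by
    ext c
    simp only [Finset.mem_univ, Finset.mem_insert, Finset.mem_singleton, true_iff]
    exact f3 c
  rw [Nat.card_eq_fintype_card, ← Finset.card_univ, huniv]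
  rw [Finset.card_insert_of_notMem, Finset.card_insert_of_notMem, Finset.card_singleton]
  · simpa using hm11.symm
  · simp only [Finset.mem_insert, Finset.mem_singleton, not_or]
    exact ⟨h10.symm, hm10.symm⟩

section action

variable {X : Type*} [MulAction (V ≃ₗ[F] V) X]

theorem polar_v_of_mem (Q : QuadraticForm F V) {v v' : V} (w : ↥(perp2 Q v v')) :
    QuadraticMap.polar (⇑Q) v (w : V) = 0 :=
  ((Cfsg.Agent.Lib.Helper44_QuadClass.mem_perp Q v v').mp w.2).1

/-- the subspace of parameters `w ∈ W` with `E v w` fixing `ω` -/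
def stab (Q : QuadraticForm F V) (f3 : ∀ c : F, c = 0 ∨ c = 1 ∨ c = -1) {v : V} (v' : V)
    (hv : Q v = 0) (ω : X) : Submodule F ↥(perp2 Q v v') where
  carrier := {w | E Q v (w : V) • ω = ω}
  zero_mem' := by
    show E Q v ((0 : ↥(perp2 Q v v')) : V) • ω = ω
    rw [Submodule.coe_zero, E_zero_right Q hv, one_smul]
  add_mem' := by
    intro a b ha hb
    show E Q v ((a + b : ↥(perp2 Q v v')) : V) • ω = ω
    rw [Submodule.coe_add, ← E_mul Q hv (polar_v_of_mem Q a) (polar_v_of_mem Q b), mul_smul]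
    rw [show E Q v (b : V) • ω = ω from hb]
    exact ha
  smul_mem' := by
    intro c w hw
    show E Q v ((c • w : ↥(perp2 Q v v')) : V) • ω = ω
    rcases f3 c with rfl | rfl | rfl
    · rw [zero_smul, Submodule.coe_zero, E_zero_right Q hv, one_smul]
    · rw [one_smul]; exact hw
    · rw [neg_one_smul, Submodule.coe_neg, ← E_inv Q hv (polar_v_of_mem Q w), inv_smul_eq_iff]
      exact (show E Q v (w : V) • ω = ω from hw).symm

theorem mem_stab (Q : QuadraticForm F V) (f3 : ∀ c : F, c = 0 ∨ c = 1 ∨ c = -1) {v : V} (v' : V)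
    (hv : Q v = 0) (ω : X) (w : ↥(perp2 Q v v')) :
    w ∈ stab Q f3 v' hv ω ↔ E Q v (w : V) • ω = ω := Iff.rfl

end action

/-- the `W`-component of a vector orthogonal to `v` -/
theorem exists_decomp (Q : QuadraticForm F V) {v v' : V} (hv : Q v = 0)
    (hvv' : QuadraticMap.polar (⇑Q) v v' = 1) {w : V} (hw : QuadraticMap.polar (⇑Q) v w = 0) :
    ∃ wW : ↥(perp2 Q v v'), w = (wW : V) + QuadraticMap.polar (⇑Q) w v' • v ∧
      E Q v w = E Q v (wW : V) := by
  have hmem : w - QuadraticMap.polar (⇑Q) w v' • v ∈ perp2 Q v v' := by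
    rw [Cfsg.Agent.Lib.Helper44_QuadClass.mem_perp]
    constructor
    · rw [QuadraticMap.polar_sub_right, QuadraticMap.polar_smul_right,
        Cfsg.Agent.Lib.Helper44_QuadClass.polar_self', hv, hw]
      simp
    · rw [QuadraticMap.polar_sub_right, QuadraticMap.polar_smul_right,
        QuadraticMap.polar_comm (⇑Q) v' v, hvv', QuadraticMap.polar_comm (⇑Q) v' w]
      simp
  refine ⟨⟨_, hmem⟩, ?_, ?_⟩
  · simp
  · have h0 : QuadraticMap.polar (⇑Q) v (w - QuadraticMap.polar (⇑Q) w v' • v) = 0 :=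
      ((Cfsg.Agent.Lib.Helper44_QuadClass.mem_perp Q v v').mp hmem).1
    have := E_add_smul Q hv h0 (QuadraticMap.polar (⇑Q) w v')
    rw [sub_add_cancel] at this
    exact this

section action

variable {X : Type*} [MulAction (V ≃ₗ[F] V) X]

/-- `v` is orthogonal to `W = {v, v'}^⟂` -/
theorem v_mem_orthogonal (Q : QuadraticForm F V) (v v' : V) :
    v ∈ LinearMap.BilinForm.orthogonal (QuadraticMap.polarBilin Q) (perp2 Q v v') := by
  rw [LinearMap.BilinForm.mem_orthogonal_iff]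
  intro n hn
  show QuadraticMap.polarBilin Q n v = 0
  rw [QuadraticMap.polarBilin_apply_apply, QuadraticMap.polar_comm]
  exact ((Cfsg.Agent.Lib.Helper44_QuadClass.mem_perp Q v v').mp hn).1

/-- the parameter space of a translated point -/
theorem stab_translate (Q : QuadraticForm F V) (f3 : ∀ c : F, c = 0 ∨ c = 1 ∨ c = -1)
    {v v' : V} (hv : Q v = 0)
    (ext : (↥(perp2 Q v v') ≃ₗ[F] ↥(perp2 Q v v')) →* (V ≃ₗ[F] V))
    (hext : IsExt Q (perp2 Q v v') ext) (ω : X) (w : ↥(perp2 Q v v'))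
    (l : ↥(perp2 Q v v') ≃ₗ[F] ↥(perp2 Q v v')) (hl : l ∈ T (resQ Q (perp2 Q v v'))) :
    stab Q f3 v' hv (E Q v (w : V) • ext l • ω) =
      (stab Q f3 v' hv ω).map (l : ↥(perp2 Q v v') →ₗ[F] ↥(perp2 Q v v')) := by
  ext w'
  rw [Submodule.mem_map_equiv, mem_stab, mem_stab]
  have hw := polar_v_of_mem Q w
  have hw' := polar_v_of_mem Q w'
  -- commute the two root elements
  have hcomm : E Q v (w' : V) * E Q v (w : V) = E Q v (w : V) * E Q v (w' : V) := by
    rw [E_mul Q hv hw' hw, E_mul Q hv hw hw', add_comm]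
  rw [← mul_smul, hcomm, mul_smul, smul_left_cancel_iff]
  -- conjugate by ext l
  have hgT : ext l ∈ T Q := hext.map_T l hl
  have hg : (ext l)⁻¹ ∈ oG (⇑Q) := (oG (⇑Q)).inv_mem (T_le_oG Q hgT)
  have hconj := conj_E Q hg hv hw'
  rw [inv_inv] at hconj
  have hinv : (ext l)⁻¹ = ext l⁻¹ := (map_inv ext l).symm
  have e1 : (ext l)⁻¹ v = v := by
    rw [hinv]; exact hext.on_orth l⁻¹ v (v_mem_orthogonal Q v v')
  have e2 : (ext l)⁻¹ (w' : V) = ((l.symm w' : ↥(perp2 Q v v')) : V) := by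
    rw [hinv]; exact hext.on_mem l⁻¹ w'
  rw [e1, e2] at hconj
  rw [← hconj, mul_smul, mul_smul, inv_smul_eq_iff]

end action

section main

variable {X : Type*} [MulAction (V ≃ₗ[F] V) X]

theorem card_quotient [Finite F] [FiniteDimensional F V] (f3 : ∀ c : F, c = 0 ∨ c = 1 ∨ c = -1)
    (two_ne : (2 : F) ≠ 0) (W : Submodule F V) (S : Submodule F ↥W) :
    Nat.card (↥W ⧸ S) = 3 ^ (finrank F ↥W - finrank F ↥S) := by
  rw [Module.natCard_eq_pow_finrank (K := F) (V := ↥W ⧸ S), card_F_eq_three f3 two_ne]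
  congr 1
  have := Submodule.finrank_quotient_add_finrank S
  omega

theorem dichotomy_local [Finite F] [FiniteDimensional F V] (Q : QuadraticForm F V) {k : ℕ}
    (hS : OddSetting Q (k + 1)) (hk : 2 ≤ k) {v v' : V} (hv : Q v = 0) (hv' : Q v' = 0)
    (hvv' : QuadraticMap.polar (⇑Q) v v' = 1)
    (hW : OddSetting (resQ Q (perp2 Q v v')) k)
    (ext : (↥(perp2 Q v v') ≃ₗ[F] ↥(perp2 Q v v')) →* (V ≃ₗ[F] V))
    (hext : IsExt Q (perp2 Q v v') ext)
    (hsub : ∀ S : Submodule F ↥(perp2 Q v v'), 1 ≤ finrank F S → finrank F S + 2 ≤ 2 * k + 1 →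
      Nmin3 (k + 1) ≤ Nat.card (↥(perp2 Q v v') ⧸ S) * (subOrbit (resQ Q (perp2 Q v v')) S).ncard)
    (hhyp : ∀ S : Submodule F ↥(perp2 Q v v'), finrank F S = 2 * k →
      Nmin3 k ≤ (subOrbit (resQ Q (perp2 Q v v')) S).ncard)
    (hinj : ∀ (ω : X) (S : Submodule F ↥(perp2 Q v v')),
      (∀ w : ↥(perp2 Q v v'), w ∈ S ↔ E Q v (w : V) • ω = ω) →
      Nat.card (↥(perp2 Q v v') ⧸ S) * (subOrbit (resQ Q (perp2 Q v v')) S).ncard ≤
        {ω' : X | ∃ (w : ↥(perp2 Q v v')) (l : ↥(perp2 Q v v') ≃ₗ[F] ↥(perp2 Q v v')),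
          l ∈ T (resQ Q (perp2 Q v v')) ∧ ω' = E Q v (w : V) • ext l • ω}.ncard)
    (Ω : Set X) (hΩ : IsOrbit Q Ω) (hn : Ω.ncard < Nmin3 (k + 1)) :
    (∀ ω ∈ Ω, ∃ lam : V, ∀ w : V, QuadraticMap.polar (⇑Q) v w = 0 →
        QuadraticMap.polar (⇑Q) lam w = 0 → E Q v w • ω = ω) ∨
    (∀ ω ∈ Ω, (∀ w : V, QuadraticMap.polar (⇑Q) v w = 0 → E Q v w • ω = ω) ∨
        (∀ w : V, QuadraticMap.polar (⇑Q) v w = 0 → E Q v w • ω = ω →
          w ∈ Submodule.span F {v})) := by
  classical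
  have f3 := hS.f3
  have two_ne := hS.two_ne
  have hdimV : 5 ≤ finrank F V := by rw [hS.dim]; omega
  have hdimW : finrank F ↥(perp2 Q v v') = 2 * k + 1 := hW.dim
  have hfinV : Finite V := Module.finite_of_finite F
  have hfinW : Finite ↥(perp2 Q v v') := inferInstance
  have hfinSub : ∀ C : Submodule F ↥(perp2 Q v v'),
      (subOrbit (resQ Q (perp2 Q v v')) C).Finite := fun C => Set.toFinite _
  have hposSub : ∀ C : Submodule F ↥(perp2 Q v v'),
      1 ≤ (subOrbit (resQ Q (perp2 Q v v')) C).ncard := fun C =>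
    (Set.ncard_pos (hfinSub C)).mpr ⟨C, Cfsg.Agent.Lib.Helper22_MI2_Sub.self_mem_subOrbit _ C⟩
  -- notation
  set S : X → Submodule F ↥(perp2 Q v v') := fun ω => stab Q f3 v' hv ω with hSdef
  set O : X → Set X := fun ω => {ω' : X | ∃ (w : ↥(perp2 Q v v'))
      (l : ↥(perp2 Q v v') ≃ₗ[F] ↥(perp2 Q v v')),
      l ∈ T (resQ Q (perp2 Q v v')) ∧ ω' = E Q v (w : V) • ext l • ω} with hOdef
  have hOsub : ∀ ω ∈ Ω, O ω ⊆ Ω := by
    rintro ω hω ω' ⟨w, l, hl, rfl⟩
    exact hΩ.inv _ (E_mem_T Q hS.nondeg hdimV hv (polar_v_of_mem Q w)) _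
      (hΩ.inv _ (hext.map_T l hl) _ hω)
  have hOle : ∀ ω ∈ Ω, (O ω).ncard ≤ Ω.ncard := fun ω hω =>
    Set.ncard_le_ncard (hOsub ω hω) hΩ.fin
  have hinj' : ∀ ω : X, Nat.card (↥(perp2 Q v v') ⧸ S ω) *
      (subOrbit (resQ Q (perp2 Q v v')) (S ω)).ncard ≤ (O ω).ncard := fun ω =>
    hinj ω (S ω) (fun w => Iff.rfl)
  have hrank : ∀ ω ∈ Ω, finrank F ↥(S ω) = 0 ∨ 2 * k ≤ finrank F ↥(S ω) := by
    intro ω hω
    by_contra hcon
    push Not at hcon
    have h1 := hsub (S ω) (by omega) (by omega)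
    have h2 := (hinj' ω).trans (hOle ω hω)
    omega
  have hfix_of_top : ∀ ω : X, S ω = ⊤ → ∀ w : V, QuadraticMap.polar (⇑Q) v w = 0 →
      E Q v w • ω = ω := by
    intro ω htop w hw
    obtain ⟨wW, -, hE⟩ := exists_decomp Q hv hvv' hw
    rw [hE]
    have hmem : wW ∈ S ω := by rw [htop]; trivial
    exact hmem
  have hfinrank_translate : ∀ (ω : X) (w : ↥(perp2 Q v v'))
      (l : ↥(perp2 Q v v') ≃ₗ[F] ↥(perp2 Q v v')), l ∈ T (resQ Q (perp2 Q v v')) →
      finrank F ↥(S (E Q v (w : V) • ext l • ω)) = finrank F ↥(S ω) := by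
    intro ω w l hl
    show finrank F ↥(stab Q f3 v' hv (E Q v (w : V) • ext l • ω)) = _
    rw [stab_translate Q f3 hv ext hext ω w l hl]
    exact LinearEquiv.finrank_map_eq l (stab Q f3 v' hv ω)
  by_cases hall : ∀ ω ∈ Ω, 2 * k ≤ finrank F ↥(S ω)
  · left
    intro ω hω
    obtain ⟨μ, hμ⟩ : ∃ μ : ↥(perp2 Q v v'), ∀ w : ↥(perp2 Q v v'),
        QuadraticMap.polar (⇑(resQ Q (perp2 Q v v'))) μ w = 0 → w ∈ S ω := by
      by_cases htop : S ω = ⊤
      · exact ⟨0, fun w _ => by rw [htop]; trivial⟩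
      · have hlt : finrank F ↥(S ω) < finrank F ↥(perp2 Q v v') :=
          Submodule.finrank_lt htop
        have h2k : finrank F ↥(S ω) = 2 * k := by have := hall ω hω; omega
        set B : LinearMap.BilinForm F ↥(perp2 Q v v') :=
          QuadraticMap.polarBilin (resQ Q (perp2 Q v v')) with hBdef
        have hB : B.Nondegenerate := hW.nondeg
        have hrefl : B.IsRefl := by
          intro x y hxy
          rw [hBdef, QuadraticMap.polarBilin_apply_apply] at hxy ⊢
          rw [QuadraticMap.polar_comm]; exact hxy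
        have horth : finrank F ↥(LinearMap.BilinForm.orthogonal B (S ω)) = 1 := by
          rw [LinearMap.BilinForm.finrank_orthogonal hB, hdimW, h2k]; omega
        obtain ⟨μ, hμmem, hμne⟩ : ∃ μ ∈ LinearMap.BilinForm.orthogonal B (S ω), μ ≠ 0 := by
          apply Submodule.exists_mem_ne_zero_of_ne_bot
          intro hbot
          rw [hbot, finrank_bot] at horth
          omega
        refine ⟨μ, fun w hw => ?_⟩
        rw [← LinearMap.BilinForm.orthogonal_orthogonal hB hrefl (S ω),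
          LinearMap.BilinForm.mem_orthogonal_iff]
        intro n hn
        have hne : (⟨μ, hμmem⟩ : ↥(LinearMap.BilinForm.orthogonal B (S ω))) ≠ 0 := by
          intro h; exact hμne (congrArg Subtype.val h)
        obtain ⟨c, hc⟩ := (finrank_eq_one_iff_of_nonzero' _ hne).mp horth ⟨n, hn⟩
        have hnc : n = c • μ := by
          have := congrArg Subtype.val hc
          simpa using this.symm
        show B n w = 0
        rw [hnc, map_smul, LinearMap.smul_apply, hBdef, QuadraticMap.polarBilin_apply_apply, hw,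
          smul_zero]
    refine ⟨(μ : V), ?_⟩
    intro w hw hlw
    obtain ⟨wW, hdec, hE⟩ := exists_decomp Q hv hvv' hw
    rw [hE]
    apply hμ wW
    rw [Cfsg.Agent.Lib.Helper44_QuadClass.polar_comp_subtype]
    have hμv : QuadraticMap.polar (⇑Q) (μ : V) v = 0 := by
      rw [QuadraticMap.polar_comm]; exact polar_v_of_mem Q μ
    rw [hdec, QuadraticMap.polar_add_right, QuadraticMap.polar_smul_right, hμv] at hlw
    simpa using hlw
  · right
    push Not at hall
    obtain ⟨ω₁, hω₁, h1⟩ := hall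
    have h10 : finrank F ↥(S ω₁) = 0 := (hrank ω₁ hω₁).resolve_right (by omega)
    have hno : ∀ ω₂ ∈ Ω, finrank F ↥(S ω₂) ≠ 2 * k := by
      intro ω₂ hω₂ h2
      have hdisj : Disjoint (O ω₁) (O ω₂) := by
        rw [Set.disjoint_left]
        rintro ω' ⟨w, l, hl, rfl⟩ ⟨w2, l2, hl2, h'⟩
        have e1 := hfinrank_translate ω₁ w l hl
        have e2 := hfinrank_translate ω₂ w2 l2 hl2
        rw [← h'] at e2
        omega
      have c1 : 3 ^ (2 * k + 1) ≤ (O ω₁).ncard := by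
        refine le_trans ?_ (hinj' ω₁)
        rw [card_quotient f3 two_ne, hdimW, h10]
        have := hposSub (S ω₁)
        calc 3 ^ (2 * k + 1) = 3 ^ (2 * k + 1 - 0) * 1 := by simp
          _ ≤ _ := Nat.mul_le_mul_left _ this
      have c2 : 3 * Nmin3 k ≤ (O ω₂).ncard := by
        refine le_trans ?_ (hinj' ω₂)
        rw [card_quotient f3 two_ne, hdimW, h2]
        have : 2 * k + 1 - 2 * k = 1 := by omega
        rw [this, pow_one]
        exact Nat.mul_le_mul_left _ (hhyp (S ω₂) h2)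
      have hfin1 : (O ω₁).Finite := hΩ.fin.subset (hOsub ω₁ hω₁)
      have hfin2 : (O ω₂).Finite := hΩ.fin.subset (hOsub ω₂ hω₂)
      have hun : (O ω₁ ∪ O ω₂).ncard = (O ω₁).ncard + (O ω₂).ncard :=
        Set.ncard_union_eq hdisj hfin1 hfin2
      have hle : (O ω₁ ∪ O ω₂).ncard ≤ Ω.ncard :=
        Set.ncard_le_ncard (Set.union_subset (hOsub ω₁ hω₁) (hOsub ω₂ hω₂)) hΩ.fin
      have := Nmin3_succ k
      omega
    intro ω hω
    rcases hrank ω hω with h0 | hge
    · right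
      intro w hw hfix
      obtain ⟨wW, hdec, hE⟩ := exists_decomp Q hv hvv' hw
      have hmem : wW ∈ S ω := by
        show E Q v (wW : V) • ω = ω
        rw [← hE]; exact hfix
      have hbot : S ω = ⊥ := Submodule.finrank_eq_zero.mp h0
      rw [hbot, Submodule.mem_bot] at hmem
      rw [hdec, hmem, Submodule.coe_zero, zero_add]
      exact Submodule.smul_mem _ _ (Submodule.mem_span_singleton_self v)
    · left
      have htop : S ω = ⊤ := by
        apply Submodule.eq_top_of_finrank_eq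
        have h1 := hno ω hω
        have h2 := Submodule.finrank_le (S ω)
        omega
      exact hfix_of_top ω htop

end main

end Cfsg.Agent.Lib.Helper74_MI3_DICHL
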