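import Mathlib
import Cfsg.Agent.Lib.Helper44_M3MDefs
import Cfsg.Agent.Lib.Helper71_MI3_TS

set_option autoImplicit false
set_option linter.unusedVariables false
set_option linter.unusedSectionVars false
set_option linter.unusedSimpArgs false

/-!
# M3M market (S2147, `q = 3`, architect helper44), package M3M-TS:
nine images of a totally singular subspace `C ∋ lam` under the stabiliser of `lam` (generic dimensions;
adaptation of part (3) of `Helper71_MI3_TS.ts_images`).
-/

namespace Cfsg.Agent.Lib.Helper29_M3M_TS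

open Module Cfsg.Agent.Lib.Helper14_OmegaSimple Cfsg.Agent.Lib.Helper22_MI2Defs
  Cfsg.Agent.Lib.Helper44_MI3Defs Cfsg.Agent.Lib.Helper44_M3MDefs
  Cfsg.Agent.Lib.Helper44_QuadClass Cfsg.Agent.Lib.Helper14_Siegel Cfsg.Agent.Lib.Helper71_MI3_TS

variable {F V : Type*} [Field F] [AddCommGroup V] [Module F V]

/-- Generic count: at least `|F|^(n - d - 2)` members of the orbit of `C` pass through `lam`
(`n = finrank F V`, `d = finrank F C`). -/
theorem through_lower_bound_g [Finite F] [FiniteDimensional F V] (Q : QuadraticForm F V)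
    (hnd : (QuadraticMap.polarBilin Q).Nondegenerate)
    {lam : V} (hlam : lam ≠ 0) (C : Submodule F V)
    (hlC : lam ∈ C) (hts : ∀ x ∈ C, Q x = 0) (hd : 2 ≤ finrank F C)
    (hdim5 : 5 ≤ finrank F V) :
    Nat.card F ^ (finrank F V - finrank F C - 2) ≤
      {C' | C' ∈ subOrbit Q C ∧ lam ∈ C'}.ncard := by
  classical
  have hQlam : Q lam = 0 := hts lam hlC
  -- the vector `c`
  obtain ⟨c, hcC, hcl⟩ : ∃ c ∈ C, c ∉ Submodule.span F {lam} := by
    by_contra hcon
    push Not at hcon
    have hle : C ≤ Submodule.span F {lam} := fun x hx => hcon x hx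
    have := Submodule.finrank_mono hle
    rw [finrank_span_singleton hlam] at this
    omega
  have hQc : Q c = 0 := hts c hcC
  have hlc : QuadraticMap.polar (⇑Q) lam c = 0 := polar_zero_of_ts Q C hts hlC hcC
  obtain ⟨a, ha, hla, hac⟩ := exists_singular_orth_polar Q hnd hdim5 hlam hQlam hlc hcl 1
  have hca : QuadraticMap.polar (⇑Q) c a = 1 := by rw [QuadraticMap.polar_comm, hac]
  obtain ⟨X, hX⟩ : ∃ X : Submodule F V, X = perp3 Q a lam c := ⟨_, rfl⟩
  have hmemX : ∀ {w : V}, w ∈ X ↔ QuadraticMap.polar (⇑Q) a w = 0 ∧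
      QuadraticMap.polar (⇑Q) lam w = 0 ∧ QuadraticMap.polar (⇑Q) c w = 0 := by
    intro w
    rw [hX]
    exact mem_perp3 Q a lam c
  have hXdim : finrank F V ≤ finrank F X + 3 := by
    have := finrank_le_perp3 Q a lam c
    rw [← hX] at this
    exact this
  have hcX : c ∉ X := by
    intro h
    have := (hmemX.mp h).1
    rw [hac] at this
    exact one_ne_zero this
  -- the set `Y`
  set Y : Set (Submodule F V) := {C' | C' ∈ subOrbit Q C ∧ lam ∈ C'} with hY
  -- members `C.map (E a x)`, `x ∈ X`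
  have hmemY : ∀ x ∈ X, C.map ((E Q a x : V ≃ₗ[F] V) : V →ₗ[F] V) ∈ Y := by
    intro x hx
    obtain ⟨hax, hlx, hcx⟩ := hmemX.mp hx
    refine ⟨⟨E Q a x, E_mem_T Q hnd hdim5 ha hax, rfl⟩, ?_⟩
    rw [Submodule.mem_map]
    refine ⟨lam, hlC, ?_⟩
    show E Q a x lam = lam
    rw [E_apply Q ha hax, hla, hlx]
    simp
  -- the quotient count
  set S' : Submodule F ↥X := Submodule.comap X.subtype C with hS'
  let φ : (↥X ⧸ S') → Submodule F V := fun q =>
    C.map ((E Q a ((Quotient.out q : ↥X) : V) : V ≃ₗ[F] V) : V →ₗ[F] V)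
  have hφinj : Function.Injective φ := by
    intro q q' hqq'
    have hx := (Quotient.out q : ↥X).2
    have hx' := (Quotient.out q' : ↥X).2
    obtain ⟨hax, hlx, hcx⟩ := hmemX.mp hx
    obtain ⟨hax', hlx', hcx'⟩ := hmemX.mp hx'
    have hmem := sub_mem_of_map_eq Q C hts ha hcC hac hax hax' hcx hcx' hqq'
    have h1 : Quotient.out q - Quotient.out q' ∈ S' := by
      show X.subtype (Quotient.out q - Quotient.out q') ∈ C
      simpa using hmem
    have h2 := (Submodule.Quotient.eq S').mpr h1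
    rw [Submodule.Quotient.mk_out, Submodule.Quotient.mk_out] at h2
    exact h2
  have hZsub : Set.range φ ⊆ Y := by
    rintro y ⟨q, rfl⟩
    exact hmemY _ (Quotient.out q : ↥X).2
  have hcardZ : (Set.range φ).ncard = Nat.card (↥X ⧸ S') :=
    Set.ncard_range_of_injective hφinj
  have hle := Set.ncard_le_ncard hZsub (Set.toFinite _)
  rw [hcardZ] at hle
  -- the size of the quotient
  have hq1 := Submodule.finrank_quotient_add_finrank S'
  have hq2 : finrank F ↥S' = finrank F ↥(X ⊓ C) := by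
    rw [← Submodule.finrank_map_subtype_eq X S', hS', Submodule.map_comap_subtype]
  have hq3 : finrank F ↥(X ⊓ C) < finrank F ↥C := by
    apply Submodule.finrank_lt_finrank_of_lt
    refine lt_of_le_of_ne inf_le_right ?_
    intro h
    apply hcX
    have : c ∈ X ⊓ C := by rw [h]; exact hcC
    exact this.1
  have hq4 : finrank F V - finrank F C - 2 ≤ finrank F (↥X ⧸ S') := by omega
  have hcardq : Nat.card (↥X ⧸ S') = Nat.card F ^ finrank F (↥X ⧸ S') :=
    Module.natCard_eq_pow_finrank
  have hFpos : 0 < Nat.card F := Nat.card_pos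
  have := Nat.pow_le_pow_right hFpos hq4
  omega

theorem ts_images_g [Finite F] [FiniteDimensional F V] (Q : QuadraticForm F V)
    (hf3 : ∀ c : F, c = 0 ∨ c = 1 ∨ c = -1) (h2 : (2 : F) ≠ 0)
    (hQ : (QuadraticMap.polarBilin Q).Nondegenerate)
    {lam : V} (hlam : lam ≠ 0) (C : Submodule F V)
    (hlC : lam ∈ C) (hts : ∀ x ∈ C, Q x = 0) (hd : 2 ≤ finrank F C)
    (hdn : finrank F C + 4 ≤ finrank F V) :
    9 ≤ {C' | C' ∈ subOrbit Q C ∧ lam ∈ C'}.ncard := by
  have hmain := through_lower_bound_g Q hQ hlam C hlC hts hd (by omega)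
  have hF3 := three_le_card (F := F) h2
  have h1 : 3 ^ (finrank F V - finrank F C - 2) ≤
      Nat.card F ^ (finrank F V - finrank F C - 2) := Nat.pow_le_pow_left hF3 _
  have h3 : 3 ^ 2 ≤ 3 ^ (finrank F V - finrank F C - 2) :=
    Nat.pow_le_pow_right (by norm_num) (by omega)
  omega

end Cfsg.Agent.Lib.Helper29_M3M_TS
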