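import Mathlib
import Cfsg.Prelude.Def_GeometricClasses
import Cfsg.Agent.Lib.Helper98_MonoBase
import Cfsg.Agent.Lib.Helper98_MonoG
import Cfsg.Agent.Lib.Helper98_MonoSL
import Cfsg.Agent.Lib.Helper98_MonoTop
import Cfsg.Agent.Lib.Helper94_SLBridge

set_option autoImplicit false
set_option linter.unusedSectionVars false
set_option linter.unusedSimpArgs false
set_option linter.unusedVariables false
set_option linter.style.haveILetI false

/-!
Small-dimension versions (6 ≤ |ι|, and 11 ≤ |ι| when |F| = 5, instead of 13 ≤ |ι|) of helper98's monomial maximality theorems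
(`Helper98_MonoSL.le_mono`, `Helper98_MonoTop.mono_maximal`): the proofs are helper98's, verbatim; only the
dimension hypothesis is weakened (it is only used through `6 ≤ |ι|`, except for `|F| = 5` where a pigeonhole needs `9 ≤ |ι| - 2`).
-/

namespace Cfsg.Agent.Lib.Helper29_MonoSmall

open Matrix Cfsg.Agent.Lib.Helper98_MonoBase Cfsg.Agent.Lib.Helper98_MonoG
  Cfsg.Agent.Lib.Helper98_MonoSL Cfsg.Agent.Lib.Helper98_MonoTop

section A
variable {F : Type*} [Field F] [Fintype F] {ι : Type*} [Fintype ι] [DecidableEq ι]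

theorem seven_contra (hq : 7 ≤ Fintype.card F) (hn : 6 ≤ Fintype.card ι) {K : Subgroup (GL ι F)}
    (hK : Hyp K) {k : GL ι F} (hk : k ∈ K) (hkM : k ∉ monoGL ι F) : False := by
  classical
  have hq5 : 5 ≤ Fintype.card F := by omega
  have hn5 : 5 ≤ Fintype.card ι := by omega
  have hn6 : 6 ≤ Fintype.card ι := by omega
  have hcolz : ∀ j z₁ z₂, z₁ ≠ z₂ → (k : Matrix ι ι F) z₁ j = 0 → (k : Matrix ι ι F) z₂ j = 0 →
      False := fun j z₁ z₂ hz h1 h2 => hkM (e1 hq5 hn6 hK hk hz h1 h2)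
  obtain ⟨l₁, l₂, hl⟩ := Fintype.exists_pair_of_one_lt_card (by omega : 1 < Fintype.card ι)
  set R' : Finset ι := Finset.univ.filter
    (fun r => (k : Matrix ι ι F) r l₁ ≠ 0 ∧ (k : Matrix ι ι F) r l₂ ≠ 0) with hR'd
  have hR' : 4 ≤ R'.card := by
    have : Fintype.card ι ≤ R'.card + 2 := card_filter_and_ge (fun r => (k : Matrix ι ι F) r l₁ ≠ 0)
      (fun r => (k : Matrix ι ι F) r l₂ ≠ 0)
      (Finset.card_le_one.mpr (fun a ha b hb => by
        by_contra hab
        rw [Finset.mem_filter] at ha hb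
        exact hcolz l₁ a b hab (not_not.mp ha.2) (not_not.mp hb.2)))
      (Finset.card_le_one.mpr (fun a ha b hb => by
        by_contra hab
        rw [Finset.mem_filter] at ha hb
        exact hcolz l₂ a b hab (not_not.mp ha.2) (not_not.mp hb.2)))
    omega
  obtain ⟨i, hi, j, hj, j', hj', i'', hi'', n1, n2, n3, n4, n5, n6⟩ := exists_four R' hR'
  simp only [hR'd, Finset.mem_filter, Finset.mem_univ, true_and] at hi hj hj' hi''
  set κ : F := (k : Matrix ι ι F) j l₁ * ((k⁻¹ : GL ι F) : Matrix ι ι F) l₁ j with hκd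
  have hκ : κ ≠ 0 := mul_ne_zero hj.1 (inv_ne_zero_of_ne_zero hq5 hn5 hK hk hj.1)
  have rj := recip_row hq5 hn5 hK hk j l₁ l₂ hj.1 hj.2
  have inv1 : ∀ v, (k : Matrix ι ι F) v l₁ ≠ 0 →
      ((k⁻¹ : GL ι F) : Matrix ι ι F) l₁ v = κ / (k : Matrix ι ι F) v l₁ := by
    intro v hv
    have := recip hq5 hn5 hK hk l₁ v j hv hj.1
    rw [eq_div_iff hv, hκd]; linear_combination this
  have inv2 : ∀ v, (k : Matrix ι ι F) v l₂ ≠ 0 →
      ((k⁻¹ : GL ι F) : Matrix ι ι F) l₂ v = κ / (k : Matrix ι ι F) v l₂ := by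
    intro v hv
    have := recip hq5 hn5 hK hk l₂ v j hv hj.2
    rw [eq_div_iff hv, hκd]; linear_combination this - rj
  obtain ⟨a, ha0, ha1, ha2⟩ := exists_good_a2 hq5 κ hκ
  set c : F := κ * ((a - 1) + (a⁻¹ - 1)) with hcd
  have hac : a * c = κ * (a - 1) ^ 2 := by
    rw [hcd]; field_simp; ring
  have hc0 : c ≠ 0 := by
    intro h
    rw [h, mul_zero] at hac
    exact mul_ne_zero hκ (pow_ne_zero 2 (sub_ne_zero.mpr ha1)) hac.symm
  have hc1 : 1 + c ≠ 0 := by
    intro h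
    apply ha2
    have : a * (1 + c) = 0 := by rw [h, mul_zero]
    linear_combination this - hac
  set s : GL ι F := k * tD l₁ l₂ a ha0 * k⁻¹ with hs
  have hsK : s ∈ K := K.mul_mem (K.mul_mem hk (tD_mem hK hl ha0)) (K.inv_mem hk)
  have off : ∀ u v w, ((k : Matrix ι ι F) u l₁ ≠ 0 ∧ (k : Matrix ι ι F) u l₂ ≠ 0) →
      ((k : Matrix ι ι F) v l₁ ≠ 0 ∧ (k : Matrix ι ι F) v l₂ ≠ 0) →
      ((k : Matrix ι ι F) w l₁ ≠ 0 ∧ (k : Matrix ι ι F) w l₂ ≠ 0) → u ≠ v → u ≠ w → v ≠ w →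
      (s : Matrix ι ι F) u v = c * ((k : Matrix ι ι F) u l₁ / (k : Matrix ι ι F) v l₁) := by
    intro u v w hu hv hw huv huw hvw
    have hΘ := theta hq hn5 hK hk hl huw hvw hu.1 hu.2 hv.1 hv.2 hw.1 hw.2
    have e : (k : Matrix ι ι F) u l₂ / (k : Matrix ι ι F) v l₂ =
        (k : Matrix ι ι F) u l₁ / (k : Matrix ι ι F) v l₁ := by
      rw [div_eq_div_iff hv.2 hv.1]; linear_combination -hΘ
    rw [hs, conj_tD_apply k hl a ha0, Matrix.one_apply_ne huv, zero_add, inv1 v hv.1, inv2 v hv.2,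
      show (k : Matrix ι ι F) u l₂ * (κ / (k : Matrix ι ι F) v l₂) =
        κ * ((k : Matrix ι ι F) u l₂ / (k : Matrix ι ι F) v l₂) by ring, e, hcd]
    ring
  have dia : ∀ v, ((k : Matrix ι ι F) v l₁ ≠ 0 ∧ (k : Matrix ι ι F) v l₂ ≠ 0) →
      (s : Matrix ι ι F) v v = 1 + c := by
    intro v hv
    rw [hs, conj_tD_apply k hl a ha0, Matrix.one_apply_eq, inv1 v hv.1, inv2 v hv.2, hcd,
      mul_div_cancel₀ _ hv.1, mul_div_cancel₀ _ hv.2]
    ring
  have nz : ∀ u v, (k : Matrix ι ι F) u l₁ ≠ 0 → (k : Matrix ι ι F) v l₁ ≠ 0 →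
      c * ((k : Matrix ι ι F) u l₁ / (k : Matrix ι ι F) v l₁) ≠ 0 :=
    fun u v hu hv => mul_ne_zero hc0 (div_ne_zero hu hv)
  have s_ij := off i j j' hi hj hj' n1 n2 n4
  have s_ij' := off i j' j hi hj' hj n2 n1 (Ne.symm n4)
  have s_jj' := off j j' i hj hj' hi n4 (Ne.symm n1) (Ne.symm n2)
  have s_i''j := off i'' j i hi'' hj hi (Ne.symm n5) (Ne.symm n3) (Ne.symm n1)
  have s_i''j' := off i'' j' i hi'' hj' hi (Ne.symm n6) (Ne.symm n3) (Ne.symm n2)
  have s_jj := dia j hj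
  have hT := theta hq hn5 hK hsK (l₁ := j) (l₂ := j') (i := i) (i' := j) (j := i'') n4 n3 n5
    (by rw [s_ij]; exact nz _ _ hi.1 hj.1) (by rw [s_ij']; exact nz _ _ hi.1 hj'.1)
    (by rw [s_jj]; exact hc1) (by rw [s_jj']; exact nz _ _ hj.1 hj'.1)
    (by rw [s_i''j]; exact nz _ _ hi''.1 hj.1) (by rw [s_i''j']; exact nz _ _ hi''.1 hj'.1)
  rw [s_ij, s_jj', s_jj, s_ij'] at hT
  have hX : (k : Matrix ι ι F) i l₁ / (k : Matrix ι ι F) j l₁ *
      ((k : Matrix ι ι F) j l₁ / (k : Matrix ι ι F) j' l₁) =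
      (k : Matrix ι ι F) i l₁ / (k : Matrix ι ι F) j' l₁ := by
    have := hj.1
    have := hj'.1
    field_simp
  have : c * ((k : Matrix ι ι F) i l₁ / (k : Matrix ι ι F) j' l₁) = 0 := by
    rw [← hX]
    rw [← hX] at hT
    linear_combination (-1 : F) * hT
  exact nz _ _ hi.1 hj'.1 this


lemma conj_diag3_apply (g : GL ι F) (δ : ι → F) (hδ : ∀ i, δ i ≠ 0) {l₁ l₂ l₃ : ι}
    (h12 : l₁ ≠ l₂) (h13 : l₁ ≠ l₃) (h23 : l₂ ≠ l₃)
    (hδ1 : ∀ l, l ≠ l₁ → l ≠ l₂ → l ≠ l₃ → δ l = 1) (u v : ι) :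
    ((g * diagU δ hδ * g⁻¹ : GL ι F) : Matrix ι ι F) u v =
      (1 : Matrix ι ι F) u v
        + (δ l₁ - 1) * ((g : Matrix ι ι F) u l₁ * ((g⁻¹ : GL ι F) : Matrix ι ι F) l₁ v)
        + (δ l₂ - 1) * ((g : Matrix ι ι F) u l₂ * ((g⁻¹ : GL ι F) : Matrix ι ι F) l₂ v)
        + (δ l₃ - 1) * ((g : Matrix ι ι F) u l₃ * ((g⁻¹ : GL ι F) : Matrix ι ι F) l₃ v) := by
  classical
  rw [conj_diag_apply, sum_diag_split,
    ← Finset.sum_subset (Finset.subset_univ ({l₁, l₂, l₃} : Finset ι)), Finset.sum_insert,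
    Finset.sum_pair h23]
  · ring
  · simp only [Finset.mem_insert, Finset.mem_singleton, not_or]
    exact ⟨h12, h13⟩
  · intro l _ hl
    simp only [Finset.mem_insert, Finset.mem_singleton, not_or] at hl
    rw [hδ1 l hl.1 hl.2.1 hl.2.2, sub_self, zero_mul]

/-- the contradiction for `|F| = 5` -/
theorem five_contra (hq : Fintype.card F = 5) (hn : 11 ≤ Fintype.card ι) {K : Subgroup (GL ι F)}
    (hK : Hyp K) {k : GL ι F} (hk : k ∈ K) (hkM : k ∉ monoGL ι F) : False := by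
  classical
  have hq5 : 5 ≤ Fintype.card F := by omega
  have hn5 : 5 ≤ Fintype.card ι := by omega
  have hn6 : 6 ≤ Fintype.card ι := by omega
  have h5 : (5 : F) = 0 := by
    have := FiniteField.cast_card_eq_zero F
    rw [hq] at this
    exact_mod_cast this
  have h2 : (2 : F) ≠ 0 := by
    intro h
    have : (1 : F) = 0 := by linear_combination h5 - 2 * h
    exact one_ne_zero this
  have hrowz : ∀ i l l', l ≠ l' → (k : Matrix ι ι F) i l = 0 → (k : Matrix ι ι F) i l' = 0 →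
      False := by
    intro i l l' hll h1 h2'
    have h1' : ((k⁻¹ : GL ι F) : Matrix ι ι F) l i = 0 := by
      by_contra h
      exact ((supp_iff hq5 hn5 hK hk i l).mpr h) h1
    have h2'' : ((k⁻¹ : GL ι F) : Matrix ι ι F) l' i = 0 := by
      by_contra h
      exact ((supp_iff hq5 hn5 hK hk i l').mpr h) h2'
    have := e1 hq5 hn6 hK (K.inv_mem hk) hll h1' h2''
    have := (monoGL ι F).inv_mem this
    rw [inv_inv] at this
    exact hkM this
  obtain ⟨i, j, hij⟩ := Fintype.exists_pair_of_one_lt_card (by omega : 1 < Fintype.card ι)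
  set C : Finset ι := Finset.univ.filter
    (fun l => (k : Matrix ι ι F) i l ≠ 0 ∧ (k : Matrix ι ι F) j l ≠ 0) with hCd
  have hC : 9 ≤ C.card := by
    have : Fintype.card ι ≤ C.card + 2 := card_filter_and_ge (fun l => (k : Matrix ι ι F) i l ≠ 0)
      (fun l => (k : Matrix ι ι F) j l ≠ 0)
      (Finset.card_le_one.mpr (fun a ha b hb => by
        by_contra hab
        rw [Finset.mem_filter] at ha hb
        exact hrowz i a b hab (not_not.mp ha.2) (not_not.mp hb.2)))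
      (Finset.card_le_one.mpr (fun a ha b hb => by
        by_contra hab
        rw [Finset.mem_filter] at ha hb
        exact hrowz j a b hab (not_not.mp ha.2) (not_not.mp hb.2)))
    omega
  set f : ι → F := fun l => (k : Matrix ι ι F) i l / (k : Matrix ι ι F) j l with hfd
  have hf : ∀ l ∈ C, f l ∈ (Finset.univ.erase (0 : F)) := by
    intro l hl
    rw [hCd, Finset.mem_filter] at hl
    rw [Finset.mem_erase]
    exact ⟨div_ne_zero hl.2.1 hl.2.2, Finset.mem_univ _⟩
  have hcard : (Finset.univ.erase (0 : F)).card = 4 := by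
    rw [Finset.card_erase_of_mem (Finset.mem_univ _), Finset.card_univ, hq]
  obtain ⟨y, hy, hlt⟩ := Finset.exists_lt_card_fiber_of_mul_lt_card_of_maps_to hf (n := 2)
    (by rw [hcard]; omega)
  obtain ⟨l₁, hl₁, l₂, hl₂, l₃, hl₃, h12, h13, h23⟩ := Finset.two_lt_card.mp hlt
  simp only [hCd, Finset.mem_filter, Finset.mem_univ, true_and] at hl₁ hl₂ hl₃
  have hy0 : y ≠ 0 := (Finset.mem_erase.mp hy).1
  obtain ⟨⟨hi1, hj1⟩, hf1⟩ := hl₁
  obtain ⟨⟨hi2, hj2⟩, hf2⟩ := hl₂
  obtain ⟨⟨hi3, hj3⟩, hf3⟩ := hl₃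
  set κ : F := (k : Matrix ι ι F) j l₁ * ((k⁻¹ : GL ι F) : Matrix ι ι F) l₁ j with hκd
  have hκ : κ ≠ 0 := mul_ne_zero hj1 (inv_ne_zero_of_ne_zero hq5 hn5 hK hk hj1)
  -- the terms
  have term : ∀ l, (k : Matrix ι ι F) i l ≠ 0 → (k : Matrix ι ι F) j l ≠ 0 → f l = y →
      (k : Matrix ι ι F) i l * ((k⁻¹ : GL ι F) : Matrix ι ι F) l j = κ * y ∧
      (k : Matrix ι ι F) j l * ((k⁻¹ : GL ι F) : Matrix ι ι F) l i = κ / y := by
    intro l hil hjl hfl
    have r1 := recip_row hq5 hn5 hK hk j l₁ l hj1 hjl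
    have r2 := recip hq5 hn5 hK hk l i j hil hjl
    have e1 : ((k⁻¹ : GL ι F) : Matrix ι ι F) l j = κ / (k : Matrix ι ι F) j l := by
      rw [eq_div_iff hjl, hκd]; linear_combination -r1
    have e2 : ((k⁻¹ : GL ι F) : Matrix ι ι F) l i = κ / (k : Matrix ι ι F) i l := by
      rw [eq_div_iff hil, hκd]; linear_combination r2 - r1
    rw [e1, e2, ← hfl, hfd]
    constructor
    · field_simp
    · field_simp
  obtain ⟨t1, t1'⟩ := term l₁ hi1 hj1 hf1
  obtain ⟨t2, t2'⟩ := term l₂ hi2 hj2 hf2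
  obtain ⟨t3, t3'⟩ := term l₃ hi3 hj3 hf3
  set δ : ι → F := fun l => tδ l₁ l₃ 2 l * tδ l₂ l₃ 2 l with hδd
  have hδ0 : ∀ l, δ l ≠ 0 := fun l => mul_ne_zero (tδ_ne_zero _ _ h2 _) (tδ_ne_zero _ _ h2 _)
  have hδprod : ∏ l, δ l = 1 := by
    rw [hδd, Finset.prod_mul_distrib, prod_tδ h13 h2, prod_tδ h23 h2, one_mul]
  have hδ1 : δ l₁ = 2 := by
    rw [hδd]; simp only [tδ_left, tδ_of_ne (2 : F) h12 h13, mul_one]
  have hδ2 : δ l₂ = 2 := by
    rw [hδd]; simp only [tδ_left, tδ_of_ne (2 : F) (Ne.symm h12) h23, one_mul]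
  have hδ3 : δ l₃ = 2⁻¹ * 2⁻¹ := by
    rw [hδd]; simp only [tδ_right h13, tδ_right h23]
  have hδo : ∀ l, l ≠ l₁ → l ≠ l₂ → l ≠ l₃ → δ l = 1 := by
    intro l a1 a2 a3
    rw [hδd]; simp only [tδ_of_ne (2 : F) a1 a3, tδ_of_ne (2 : F) a2 a3, mul_one]
  set s : GL ι F := k * diagU δ hδ0 * k⁻¹ with hs
  have hsK : s ∈ K := K.mul_mem (K.mul_mem hk (diagU_mem hK δ hδ0 hδprod)) (K.inv_mem hk)
  have hsinv : s⁻¹ = k * diagU (fun i => (δ i)⁻¹) (fun i => inv_ne_zero (hδ0 i)) * k⁻¹ :=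
    conj_diag_inv k δ hδ0
  have s_ij : (s : Matrix ι ι F) i j = 0 := by
    rw [hs, conj_diag3_apply k δ hδ0 h12 h13 h23 hδo, Matrix.one_apply_ne hij, t1, t2, t3, hδ1,
      hδ2, hδ3]
    have e4 : (2 : F)⁻¹ * 2⁻¹ * 4 = 1 := by
      field_simp
      norm_num
    have : (4 : F) * (1 + 2⁻¹ * 2⁻¹) = 0 := by
      linear_combination h5 + e4
    have h4 : (4 : F) ≠ 0 := by
      intro h
      apply h2
      have : (2 : F) * 2 = 0 := by linear_combination h
      rcases mul_eq_zero.mp this with h' | h' <;> exact h'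
    have h' : (1 : F) + 2⁻¹ * 2⁻¹ = 0 := by
      rcases mul_eq_zero.mp this with h' | h'
      · exact absurd h' h4
      · exact h'
    linear_combination (κ * y) * h'
  have s_ji : ((s⁻¹ : GL ι F) : Matrix ι ι F) j i ≠ 0 := by
    rw [hsinv, conj_diag3_apply k _ _ h12 h13 h23
      (fun l a1 a2 a3 => by rw [hδo l a1 a2 a3, inv_one]),
      Matrix.one_apply_ne (Ne.symm hij), t1', t2', t3', hδ1, hδ2, hδ3]
    have : (0 : F) + (2⁻¹ - 1) * (κ / y) + (2⁻¹ - 1) * (κ / y) + ((2⁻¹ * 2⁻¹)⁻¹ - 1) * (κ / y) =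
        2 * (κ / y) := by
      field_simp
      ring
    rw [this]
    exact mul_ne_zero h2 (div_ne_zero hκ hy0)
  exact ((supp_iff hq5 hn5 hK hsK i j).mpr s_ji) s_ij

/-- **Main theorem**: `K` consists of monomial matrices. -/
theorem le_mono (hq : 5 ≤ Fintype.card F) (hn : 6 ≤ Fintype.card ι)
    (hn5 : Fintype.card F = 5 → 11 ≤ Fintype.card ι) {K : Subgroup (GL ι F)}
    (hK : Hyp K) : K ≤ monoGL ι F := by
  intro k hk
  by_contra hkM
  by_cases h5 : Fintype.card F = 5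
  · exact five_contra h5 (hn5 h5) hK hk hkM
  · by_cases h7 : 7 ≤ Fintype.card F
    · exact seven_contra h7 hn hK hk hkM
    · have h6 : Fintype.card F = 6 := by omega
      obtain ⟨p, -, n', hp, hpn⟩ := FiniteField.card' F
      rw [h6] at hpn
      have hp6 : p ∣ 6 := by
        rw [hpn]; exact dvd_pow_self p n'.ne_zero
      have hple : p ≤ 6 := Nat.le_of_dvd (by norm_num) hp6
      have hp2 : 2 ≤ p := hp.two_le
      interval_cases p
      · -- p = 2
        have : (n' : ℕ) ≤ 2 := by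
          by_contra hcon
          push Not at hcon
          have : 2 ^ 3 ≤ 2 ^ (n' : ℕ) := Nat.pow_le_pow_right (by norm_num) hcon
          omega
        have hn0 := n'.pos
        interval_cases (n' : ℕ) <;> omega
      · -- p = 3
        have : (n' : ℕ) ≤ 1 := by
          by_contra hcon
          push Not at hcon
          have : 3 ^ 2 ≤ 3 ^ (n' : ℕ) := Nat.pow_le_pow_right (by norm_num) hcon
          omega
        have hn0 := n'.pos
        interval_cases (n' : ℕ)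
        omega
      · exact absurd hp (by norm_num)
      · exact absurd hp6 (by norm_num)
      · exact absurd hp (by norm_num)

end A

section B
variable {F : Type*} [Field F] [Fintype F] {ι : Type} [Fintype ι] [DecidableEq ι]

/-- **Dichotomy for overgroups of the monomial group in `SL`.** -/
theorem mono_dichotomy (hq : 5 ≤ Fintype.card F) (hn : 6 ≤ Fintype.card ι)
    (hn5 : Fintype.card F = 5 → 11 ≤ Fintype.card ι)
    (K : Subgroup (GL ι F)) (hdet : ∀ g ∈ K, (g : Matrix ι ι F).det = 1)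
    (hmono : ∀ g ∈ monoGL ι F, (g : Matrix ι ι F).det = 1 → g ∈ K) :
    K ≤ monoGL ι F ∨ ∀ g : GL ι F, (g : Matrix ι ι F).det = 1 → g ∈ K := by
  classical
  haveI : Nontrivial ι := Fintype.one_lt_card_iff_nontrivial.mp (by omega)
  by_cases h : ∃ i j : ι, i ≠ j ∧ ∃ c : F, c ≠ 0 ∧ InK K (1 + Matrix.single i j c)
  · right
    obtain ⟨i, j, hij, c, hc, hE⟩ := h
    apply sl_le_of_elem K
    intro i' j' hij' c'
    by_cases hc' : c' = 0
    · subst hc'
      rw [Matrix.single_zero, add_zero]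
      exact ⟨1, K.one_mem, rfl⟩
    obtain ⟨σ, hσi, hσj⟩ := exists_perm_two hij hij'
    obtain ⟨l₀, hl₀⟩ : ∃ l, l ∉ ({i, j} : Finset ι) := by
      by_contra hcon
      push Not at hcon
      have : (Finset.univ : Finset ι) ⊆ {i, j} := fun r _ => hcon r
      have := Finset.card_le_card this
      rw [Finset.card_univ] at this
      have : ({i, j} : Finset ι).card ≤ 2 := Finset.card_le_two
      omega
    simp only [Finset.mem_insert, Finset.mem_singleton, not_or] at hl₀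
    set ε : F := ((Equiv.Perm.sign σ : ℤ) : F) with hε
    have hε0 : ε ≠ 0 := by
      rcases Int.units_eq_one_or (Equiv.Perm.sign σ) with h | h <;> simp [hε, h]
    set d : ι → F := fun l => if l = i then c' / c else if l = l₀ then ε⁻¹ * (c' / c)⁻¹ else 1
      with hd
    have hdi : d i = c' / c := by simp [hd]
    have hdl : d l₀ = ε⁻¹ * (c' / c)⁻¹ := by simp [hd, hl₀.1]
    have hdj : d j = 1 := by simp [hd, Ne.symm hij, Ne.symm hl₀.2]
    have hdo : ∀ l, l ≠ i → l ≠ l₀ → d l = 1 := fun l h1 h2 => by simp [hd, h1, h2]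
    have hcc : c' / c ≠ 0 := div_ne_zero hc' hc
    have hd0 : ∀ l, d l ≠ 0 := by
      intro l
      by_cases h1 : l = i
      · rw [h1, hdi]; exact hcc
      · by_cases h2 : l = l₀
        · rw [h2, hdl]; exact mul_ne_zero (inv_ne_zero hε0) (inv_ne_zero hcc)
        · rw [hdo l h1 h2]; exact one_ne_zero
    have hμK : monoU σ d hd0 ∈ K := by
      apply hmono _ (monoU_mem _ _ _)
      rw [monoU_val, det_mono, Finset.prod_eq_mul i l₀ (Ne.symm hl₀.1)
        (fun l _ hl => hdo l hl.1 hl.2) (fun h => absurd (Finset.mem_univ _) h)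
        (fun h => absurd (Finset.mem_univ _) h), hdi, hdl, ← hε]
      field_simp
    have := hE.conj hμK
    rw [conj_mono_single, hσi, hσj, hdi, hdj] at this
    convert this using 3
    field_simp
  · left
    push Not at h
    exact le_mono hq hn hn5 ⟨hdet, hmono, fun i j hij c hc hE => h i j hij c hc hE⟩

/-- **The monomial subgroup of `SL` is maximal.** -/
theorem mono_maximal (hq : 5 ≤ Fintype.card F) (hn : 6 ≤ Fintype.card ι)
    (hn5 : Fintype.card F = 5 → 11 ≤ Fintype.card ι) :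
    Cfsg.Geo.IsMaximalIn (Cfsg.Geo.specialLinear ι F)
      (monoGL ι F ⊓ Cfsg.Geo.specialLinear ι F) := by
  classical
  constructor
  · refine lt_of_le_of_ne inf_le_right ?_
    intro heq
    obtain ⟨i, j, hij⟩ := Fintype.exists_pair_of_one_lt_card (by omega : 1 < Fintype.card ι)
    have hdetE : ((1 : Matrix ι ι F) + Matrix.single i j 1).det = 1 :=
      Matrix.det_transvection_of_ne i j hij 1
    set E : GL ι F := Matrix.GeneralLinearGroup.mkOfDetNeZero (1 + Matrix.single i j 1)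
      (by rw [hdetE]; exact one_ne_zero) with hE
    have hEv : (E : Matrix ι ι F) = 1 + Matrix.single i j 1 := rfl
    have hE1 : E ∈ Cfsg.Geo.specialLinear ι F := (mem_SL_iff _).mpr (by rw [hEv, hdetE])
    rw [← heq] at hE1
    have hM : IsMono (E : Matrix ι ι F) := hE1.1
    apply hij
    apply hM j i j
    · rw [hEv, Matrix.add_apply, Matrix.one_apply_ne hij, Matrix.single_apply, if_pos ⟨rfl, rfl⟩,
        zero_add]
      exact one_ne_zero
    · rw [hEv, Matrix.add_apply, Matrix.one_apply_eq, Matrix.single_apply,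
        if_neg (fun h => hij h.1), add_zero]
      exact one_ne_zero
  · intro M hHM hMS
    rcases mono_dichotomy hq hn hn5 M (fun g hg => (mem_SL_iff g).mp (hMS hg))
      (fun g hg hdet => hHM ⟨hg, (mem_SL_iff g).mpr hdet⟩) with h | h
    · left
      exact le_antisymm (fun g hg => ⟨h hg, hMS hg⟩) hHM
    · right
      exact le_antisymm hMS (fun g hg => h g ((mem_SL_iff g).mp hg))


end B

end Cfsg.Agent.Lib.Helper29_MonoSmall
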