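import Mathlib
import Cfsg.Agent.Lib.Helper98_MonoBase
import Cfsg.Agent.Lib.Helper98_MonoG
import Cfsg.Agent.Lib.Helper98_MonoSL

set_option autoImplicit false
set_option linter.unusedSectionVars false
set_option linter.unusedSimpArgs false
set_option linter.unusedVariables false
set_option linter.style.haveILetI false

/-!
The `|F| = 5` contradiction of `Helper98_MonoSL` with the dimension bound `6 ≤ |ι|` instead of
`13 ≤ |ι|`: a smarter choice of the diagonal element (two or three columns only).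
-/

namespace Cfsg.Agent.Lib.Helper98_MonoSL6

open Matrix Cfsg.Agent.Lib.Helper98_MonoBase Cfsg.Agent.Lib.Helper98_MonoG
  Cfsg.Agent.Lib.Helper98_MonoSL

variable {F : Type*} [Field F] [Fintype F] {ι : Type*} [Fintype ι] [DecidableEq ι]

/-- conjugating the diagonal element with entries `a`, `b`, `(ab)⁻¹` at three distinct columns:
the `(i,j)` entry of the conjugate vanishes iff the `(j,i)` entry of its inverse does. -/
lemma three_col (hq5 : 5 ≤ Fintype.card F) (hn5 : 5 ≤ Fintype.card ι) {K : Subgroup (GL ι F)}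
    (hK : Hyp K) {k : GL ι F} (hk : k ∈ K) {i j : ι} (hij : i ≠ j) {c₁ c₂ c₃ : ι}
    (h12 : c₁ ≠ c₂) (h13 : c₁ ≠ c₃) (h23 : c₂ ≠ c₃) {a b : F} (ha : a ≠ 0) (hb : b ≠ 0) :
    ((a - 1) * ((k : Matrix ι ι F) i c₁ * ((k⁻¹ : GL ι F) : Matrix ι ι F) c₁ j)
      + (b - 1) * ((k : Matrix ι ι F) i c₂ * ((k⁻¹ : GL ι F) : Matrix ι ι F) c₂ j)
      + (a⁻¹ * b⁻¹ - 1) * ((k : Matrix ι ι F) i c₃ * ((k⁻¹ : GL ι F) : Matrix ι ι F) c₃ j) = 0) ↔
    ((a⁻¹ - 1) * ((k : Matrix ι ι F) j c₁ * ((k⁻¹ : GL ι F) : Matrix ι ι F) c₁ i)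
      + (b⁻¹ - 1) * ((k : Matrix ι ι F) j c₂ * ((k⁻¹ : GL ι F) : Matrix ι ι F) c₂ i)
      + ((a⁻¹ * b⁻¹)⁻¹ - 1) * ((k : Matrix ι ι F) j c₃ * ((k⁻¹ : GL ι F) : Matrix ι ι F) c₃ i)
        = 0) := by
  classical
  set δ : ι → F := fun l => tδ c₁ c₃ a l * tδ c₂ c₃ b l with hδd
  have hδ0 : ∀ l, δ l ≠ 0 := fun l => mul_ne_zero (tδ_ne_zero _ _ ha _) (tδ_ne_zero _ _ hb _)
  have hδprod : ∏ l, δ l = 1 := by
    rw [hδd, Finset.prod_mul_distrib, prod_tδ h13 ha, prod_tδ h23 hb, one_mul]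
  have hδ1 : δ c₁ = a := by
    rw [hδd]; simp only [tδ_left, tδ_of_ne b h12 h13, mul_one]
  have hδ2 : δ c₂ = b := by
    rw [hδd]; simp only [tδ_left, tδ_of_ne a (Ne.symm h12) h23, one_mul]
  have hδ3 : δ c₃ = a⁻¹ * b⁻¹ := by
    rw [hδd]; simp only [tδ_right h13, tδ_right h23]
  have hδo : ∀ l, l ≠ c₁ → l ≠ c₂ → l ≠ c₃ → δ l = 1 := by
    intro l a1 a2 a3
    rw [hδd]; simp only [tδ_of_ne a a1 a3, tδ_of_ne b a2 a3, mul_one]
  set s : GL ι F := k * diagU δ hδ0 * k⁻¹ with hs
  have hsK : s ∈ K := K.mul_mem (K.mul_mem hk (diagU_mem hK δ hδ0 hδprod)) (K.inv_mem hk)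
  have hsinv : s⁻¹ = k * diagU (fun i => (δ i)⁻¹) (fun i => inv_ne_zero (hδ0 i)) * k⁻¹ :=
    conj_diag_inv k δ hδ0
  have s_ij : (s : Matrix ι ι F) i j =
      (a - 1) * ((k : Matrix ι ι F) i c₁ * ((k⁻¹ : GL ι F) : Matrix ι ι F) c₁ j)
      + (b - 1) * ((k : Matrix ι ι F) i c₂ * ((k⁻¹ : GL ι F) : Matrix ι ι F) c₂ j)
      + (a⁻¹ * b⁻¹ - 1) * ((k : Matrix ι ι F) i c₃ * ((k⁻¹ : GL ι F) : Matrix ι ι F) c₃ j) := by
    rw [hs, conj_diag3_apply k δ hδ0 h12 h13 h23 hδo, Matrix.one_apply_ne hij, hδ1, hδ2, hδ3,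
      zero_add]
  have s_ji : ((s⁻¹ : GL ι F) : Matrix ι ι F) j i =
      (a⁻¹ - 1) * ((k : Matrix ι ι F) j c₁ * ((k⁻¹ : GL ι F) : Matrix ι ι F) c₁ i)
      + (b⁻¹ - 1) * ((k : Matrix ι ι F) j c₂ * ((k⁻¹ : GL ι F) : Matrix ι ι F) c₂ i)
      + ((a⁻¹ * b⁻¹)⁻¹ - 1) * ((k : Matrix ι ι F) j c₃ * ((k⁻¹ : GL ι F) : Matrix ι ι F) c₃ i) := by
    rw [hsinv, conj_diag3_apply k _ _ h12 h13 h23
      (fun l a1 a2 a3 => by rw [hδo l a1 a2 a3, inv_one]),
      Matrix.one_apply_ne (Ne.symm hij), hδ1, hδ2, hδ3, zero_add]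
  rw [← s_ij, ← s_ji]
  have := supp_iff hq5 hn5 hK hsK i j
  constructor
  · intro h
    by_contra h'
    exact (this.mpr h') h
  · intro h
    by_contra h'
    exact (this.mp h') h

/-- arithmetic in the field with five elements -/
lemma five_cases (h5 : (5 : F) = 0) (hq : Fintype.card F = 5) (x : F) :
    x = 0 ∨ x = 1 ∨ x = 2 ∨ x = 3 ∨ x = 4 := by
  have hx : x ^ 5 = x := by
    have := FiniteField.pow_card x
    rwa [hq] at this
  have : x * ((x - 1) * ((x - 2) * ((x - 3) * (x - 4)))) = 0 := by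
    linear_combination hx + (-2 * x ^ 4 + 7 * x ^ 3 - 10 * x ^ 2 + 5 * x) * h5
  rcases mul_eq_zero.mp this with h | h
  · exact Or.inl h
  rcases mul_eq_zero.mp h with h | h
  · exact Or.inr (Or.inl (sub_eq_zero.mp h))
  rcases mul_eq_zero.mp h with h | h
  · exact Or.inr (Or.inr (Or.inl (sub_eq_zero.mp h)))
  rcases mul_eq_zero.mp h with h | h
  · exact Or.inr (Or.inr (Or.inr (Or.inl (sub_eq_zero.mp h))))
  · exact Or.inr (Or.inr (Or.inr (Or.inr (sub_eq_zero.mp h))))

/-- the contradiction for `|F| = 5`, `6 ≤ |ι|` -/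
theorem five_contra6 (hq : Fintype.card F = 5) (hn : 6 ≤ Fintype.card ι) {K : Subgroup (GL ι F)}
    (hK : Hyp K) {k : GL ι F} (hk : k ∈ K) (hkM : k ∉ monoGL ι F) : False := by
  classical
  have hq5 : 5 ≤ Fintype.card F := by omega
  have hn5 : 5 ≤ Fintype.card ι := by omega
  have h5 : (5 : F) = 0 := by
    have := FiniteField.cast_card_eq_zero F
    rw [hq] at this
    exact_mod_cast this
  have h10 : (1 : F) ≠ 0 := one_ne_zero
  have h20 : (2 : F) ≠ 0 := by
    intro h
    exact h10 (by linear_combination h5 - 2 * h)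
  have h30 : (3 : F) ≠ 0 := by
    intro h
    exact h10 (by linear_combination 2 * h - h5)
  have h40 : (4 : F) ≠ 0 := by
    intro h
    exact h10 (by linear_combination h5 - h)
  have inv2 : (2 : F)⁻¹ = 3 := inv_eq_of_mul_eq_one_right (by linear_combination h5)
  have inv3 : (3 : F)⁻¹ = 2 := inv_eq_of_mul_eq_one_right (by linear_combination h5)
  have inv4 : (4 : F)⁻¹ = 4 := inv_eq_of_mul_eq_one_right (by linear_combination 3 * h5)
  have hrowz : ∀ i l l', l ≠ l' → (k : Matrix ι ι F) i l = 0 → (k : Matrix ι ι F) i l' = 0 →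
      False := by
    intro i l l' hll h1 h2'
    have h1' : ((k⁻¹ : GL ι F) : Matrix ι ι F) l i = 0 := by
      by_contra h
      exact ((supp_iff hq5 hn5 hK hk i l).mpr h) h1
    have h2'' : ((k⁻¹ : GL ι F) : Matrix ι ι F) l' i = 0 := by
      by_contra h
      exact ((supp_iff hq5 hn5 hK hk i l').mpr h) h2'
    have := e1 hq5 hn hK (K.inv_mem hk) hll h1' h2''
    have := (monoGL ι F).inv_mem this
    rw [inv_inv] at this
    exact hkM this
  obtain ⟨i, j, hij⟩ := Fintype.exists_pair_of_one_lt_card (by omega : 1 < Fintype.card ι)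
  set C : Finset ι := Finset.univ.filter
    (fun l => (k : Matrix ι ι F) i l ≠ 0 ∧ (k : Matrix ι ι F) j l ≠ 0) with hCd
  have hC : 4 ≤ C.card := by
    have : Fintype.card ι ≤ C.card + 2 := card_filter_and_ge (fun l => (k : Matrix ι ι F) i l ≠ 0)
      (fun l => (k : Matrix ι ι F) j l ≠ 0)
      (Finset.card_le_one.mpr (fun a ha b hb => by
        by_contra hab
        rw [Finset.mem_filter] at ha hb
        exact hrowz i a b hab (not_not.mp ha.2) (not_not.mp hb.2)))
      (Finset.card_le_one.mpr (fun a ha b hb => by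
        by_contra hab
        rw [Finset.mem_filter] at ha hb
        exact hrowz j a b hab (not_not.mp ha.2) (not_not.mp hb.2)))
    omega
  have hCmem : ∀ l, l ∈ C ↔ ((k : Matrix ι ι F) i l ≠ 0 ∧ (k : Matrix ι ι F) j l ≠ 0) := by
    intro l
    rw [hCd, Finset.mem_filter]
    simp
  obtain ⟨l₀, hl₀, m₁, hm₁, m₂, hm₂, m₃, hm₃, n01, n02, n03, n12, n13, n23⟩ := exists_four C hC
  set f : ι → F := fun l => (k : Matrix ι ι F) i l / (k : Matrix ι ι F) j l with hfd
  have hf0 : ∀ l ∈ C, f l ≠ 0 := by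
    intro l hl
    rw [hCmem] at hl
    exact div_ne_zero hl.1 hl.2
  have hj0 := ((hCmem l₀).mp hl₀).2
  set κ : F := (k : Matrix ι ι F) j l₀ * ((k⁻¹ : GL ι F) : Matrix ι ι F) l₀ j with hκd
  have hκ : κ ≠ 0 := mul_ne_zero hj0 (inv_ne_zero_of_ne_zero hq5 hn5 hK hk hj0)
  have term : ∀ l ∈ C,
      (k : Matrix ι ι F) i l * ((k⁻¹ : GL ι F) : Matrix ι ι F) l j = κ * f l ∧
      (k : Matrix ι ι F) j l * ((k⁻¹ : GL ι F) : Matrix ι ι F) l i = κ / f l := by
    intro l hl
    rw [hCmem] at hl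
    obtain ⟨hil, hjl⟩ := hl
    have r1 := recip_row hq5 hn5 hK hk j l₀ l hj0 hjl
    have r2 := recip hq5 hn5 hK hk l i j hil hjl
    have e1 : ((k⁻¹ : GL ι F) : Matrix ι ι F) l j = κ / (k : Matrix ι ι F) j l := by
      rw [eq_div_iff hjl, hκd]; linear_combination -r1
    have e2 : ((k⁻¹ : GL ι F) : Matrix ι ι F) l i = κ / (k : Matrix ι ι F) i l := by
      rw [eq_div_iff hil, hκd]; linear_combination r2 - r1
    rw [e1, e2, hfd]
    constructor
    · field_simp
    · field_simp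
  have zterm : ∀ z, ((k : Matrix ι ι F) i z = 0 ∨ (k : Matrix ι ι F) j z = 0) →
      (k : Matrix ι ι F) i z * ((k⁻¹ : GL ι F) : Matrix ι ι F) z j = 0 ∧
      (k : Matrix ι ι F) j z * ((k⁻¹ : GL ι F) : Matrix ι ι F) z i = 0 := by
    intro z hz
    rcases hz with hz | hz
    · have : ((k⁻¹ : GL ι F) : Matrix ι ι F) z i = 0 := by
        by_contra h
        exact ((supp_iff hq5 hn5 hK hk i z).mpr h) hz
      rw [hz, this, zero_mul, mul_zero]
      exact ⟨rfl, rfl⟩
    · have : ((k⁻¹ : GL ι F) : Matrix ι ι F) z j = 0 := by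
        by_contra h
        exact ((supp_iff hq5 hn5 hK hk j z).mpr h) hz
      rw [hz, this, zero_mul, mul_zero]
      exact ⟨rfl, rfl⟩
  by_cases hZ : ∃ z, (k : Matrix ι ι F) i z = 0 ∨ (k : Matrix ι ι F) j z = 0
  · -- a column outside the common support absorbs the determinant
    obtain ⟨z, hz⟩ := hZ
    obtain ⟨tz, tz'⟩ := zterm z hz
    have hzC : ∀ l ∈ C, l ≠ z := by
      intro l hl h
      rw [hCmem] at hl
      rw [h] at hl
      rcases hz with hz | hz
      · exact hl.1 hz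
      · exact hl.2 hz
    -- a pair of columns with ratio 1 or 2
    have pair : ∃ p ∈ C, ∃ p' ∈ C, p ≠ p' ∧ (f p = f p' ∨ f p = 2 * f p') := by
      have key : ∀ p ∈ C, ∀ p' ∈ C, p ≠ p' → f p ≠ -f p' →
          ∃ p ∈ C, ∃ p' ∈ C, p ≠ p' ∧ (f p = f p' ∨ f p = 2 * f p') := by
        intro p hp p' hp' hpp hne
        have hr0 : f p / f p' ≠ 0 := div_ne_zero (hf0 p hp) (hf0 p' hp')
        rcases five_cases h5 hq (f p / f p') with h | h | h | h | h
        · exact absurd h hr0
        · refine ⟨p, hp, p', hp', hpp, Or.inl ?_⟩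
          rw [div_eq_iff (hf0 p' hp')] at h
          rw [h, one_mul]
        · refine ⟨p, hp, p', hp', hpp, Or.inr ?_⟩
          rw [div_eq_iff (hf0 p' hp')] at h
          exact h
        · refine ⟨p', hp', p, hp, Ne.symm hpp, Or.inr ?_⟩
          rw [div_eq_iff (hf0 p' hp')] at h
          rw [h]
          linear_combination (-f p') * h5
        · exfalso
          apply hne
          rw [div_eq_iff (hf0 p' hp')] at h
          rw [h]
          linear_combination (f p') * h5
      by_cases h1 : f m₁ = -f m₂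
      · by_cases h2 : f m₁ = -f m₃
        · refine ⟨m₂, hm₂, m₃, hm₃, n23, Or.inl ?_⟩
          linear_combination h1 - h2
        · exact key m₁ hm₁ m₃ hm₃ n13 h2
      · exact key m₁ hm₁ m₂ hm₂ n12 h1
    obtain ⟨p, hp, p', hp', hpp, hcase⟩ := pair
    obtain ⟨t1, t1'⟩ := term p hp
    obtain ⟨t2, t2'⟩ := term p' hp'
    have hy0 := hf0 p' hp'
    rcases hcase with hc | hc
    · have h := three_col hq5 hn5 hK hk hij hpp (hzC p hp) (hzC p' hp') (a := 3) (b := 4) h30 h40
      rw [t1, t2, tz, t1', t2', tz', hc, inv3, inv4] at h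
      have h' := h.mp (by linear_combination (κ * f p') * h5)
      have : (4 : F) * (κ / f p') = 0 := by linear_combination h'
      rcases mul_eq_zero.mp this with h'' | h''
      · exact h40 h''
      · exact div_ne_zero hκ hy0 h''
    · have h := three_col hq5 hn5 hK hk hij hpp (hzC p hp) (hzC p' hp') (a := 2) (b := 4) h20 h40
      rw [t1, t2, tz, t1', t2', tz', hc, inv2, inv4] at h
      have h' := h.mp (by linear_combination (κ * f p') * h5)
      have e : κ / (2 * f p') = 3 * (κ / f p') := by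
        rw [mul_comm 2 (f p'), ← div_div, div_eq_mul_inv _ (2 : F), inv2]
        ring
      rw [e] at h'
      have : (4 : F) * (κ / f p') = 0 := by linear_combination h' - (κ / f p') * h5
      rcases mul_eq_zero.mp this with h'' | h''
      · exact h40 h''
      · exact div_ne_zero hκ hy0 h''
  · -- all columns lie in the common support
    push Not at hZ
    have hall : ∀ l, l ∈ C := by
      intro l
      rw [hCmem]
      exact hZ l
    -- two columns with equal ratio and a third whose ratio is not the opposite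
    have triple : ∃ l₁ l₂ l₃ : ι, l₁ ≠ l₂ ∧ l₁ ≠ l₃ ∧ l₂ ≠ l₃ ∧ f l₁ = f l₂ ∧ f l₃ ≠ -f l₁ := by
      have hmaps : ∀ l ∈ (Finset.univ : Finset ι), f l ∈ (Finset.univ.erase (0 : F)) := by
        intro l _
        rw [Finset.mem_erase]
        exact ⟨hf0 l (hall l), Finset.mem_univ _⟩
      have hcard : (Finset.univ.erase (0 : F)).card < (Finset.univ : Finset ι).card := by
        rw [Finset.card_erase_of_mem (Finset.mem_univ _), Finset.card_univ, hq, Finset.card_univ]
        omega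
      obtain ⟨l₁, -, l₂, -, h12, hf12⟩ :=
        Finset.exists_ne_map_eq_of_card_lt_of_maps_to hcard hmaps
      set R : Finset ι := (Finset.univ.erase l₁).erase l₂ with hRd
      have hR : 2 < R.card := by
        rw [hRd, Finset.card_erase_of_mem, Finset.card_erase_of_mem (Finset.mem_univ _),
          Finset.card_univ]
        · omega
        · rw [Finset.mem_erase]
          exact ⟨Ne.symm h12, Finset.mem_univ _⟩
      have hRmem : ∀ l, l ∈ R ↔ (l ≠ l₂ ∧ l ≠ l₁) := by
        intro l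
        rw [hRd, Finset.mem_erase, Finset.mem_erase]
        simp
      by_cases hex : ∃ l₃ ∈ R, f l₃ ≠ -f l₁
      · obtain ⟨l₃, hl₃, hne⟩ := hex
        rw [hRmem] at hl₃
        exact ⟨l₁, l₂, l₃, h12, Ne.symm hl₃.2, Ne.symm hl₃.1, hf12, hne⟩
      · push Not at hex
        obtain ⟨a, ha, b, hb, c, hc, hab, hac, hbc⟩ := Finset.two_lt_card.mp hR
        refine ⟨a, b, c, hab, hac, hbc, ?_, ?_⟩
        · rw [hex a ha, hex b hb]
        · rw [hex a ha, hex c hc, neg_neg]
          intro h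
          have : (2 : F) * f l₁ = 0 := by linear_combination -h
          rcases mul_eq_zero.mp this with h' | h'
          · exact h20 h'
          · exact hf0 l₁ (hall l₁) h'
    obtain ⟨l₁, l₂, l₃, h12, h13, h23, hf12, hne⟩ := triple
    obtain ⟨t1, t1'⟩ := term l₁ (hall l₁)
    obtain ⟨t2, t2'⟩ := term l₂ (hall l₂)
    obtain ⟨t3, t3'⟩ := term l₃ (hall l₃)
    have hy0 := hf0 l₁ (hall l₁)
    have hw0 := hf0 l₃ (hall l₃)
    have hr0 : f l₃ / f l₁ ≠ 0 := div_ne_zero hw0 hy0
    have hky : κ / f l₁ ≠ 0 := div_ne_zero hκ hy0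
    have hky' : κ * f l₁ ≠ 0 := mul_ne_zero hκ hy0
    rcases five_cases h5 hq (f l₃ / f l₁) with h | h | h | h | h
    · exact absurd h hr0
    · -- ratio 1
      rw [div_eq_iff hy0, one_mul] at h
      have hh := three_col hq5 hn5 hK hk hij h12 h13 h23 (a := 2) (b := 2) h20 h20
      rw [t1, t2, t3, t1', t2', t3', ← hf12, h, inv2] at hh
      have h' := hh.mp (by linear_combination (2 * κ * f l₁) * h5)
      have e : ((3 : F) * 3)⁻¹ = 4 := inv_eq_of_mul_eq_one_right (by linear_combination 7 * h5)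
      rw [e] at h'
      have : (2 : F) * (κ / f l₁) = 0 := by linear_combination h' - (κ / f l₁) * h5
      rcases mul_eq_zero.mp this with h'' | h''
      · exact h20 h''
      · exact hky h''
    · -- ratio 2
      rw [div_eq_iff hy0] at h
      have hh := three_col hq5 hn5 hK hk hij h12 h13 h23 (a := 3) (b := 3) h30 h30
      rw [t1, t2, t3, t1', t2', t3', ← hf12, h, inv3] at hh
      have h' := hh.mp (by linear_combination (2 * κ * f l₁) * h5)
      have e : ((2 : F) * 2)⁻¹ = 4 := inv_eq_of_mul_eq_one_right (by linear_combination 3 * h5)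
      have e' : κ / (2 * f l₁) = 3 * (κ / f l₁) := by
        rw [mul_comm 2 (f l₁), ← div_div, div_eq_mul_inv _ (2 : F), inv2]
        ring
      rw [e, e'] at h'
      have : κ / f l₁ = 0 := by linear_combination h' - 2 * (κ / f l₁) * h5
      exact hky this
    · -- ratio 3
      rw [div_eq_iff hy0] at h
      have hh := three_col hq5 hn5 hK hk hij h12 h13 h23 (a := 2) (b := 2) h20 h20
      rw [t1, t2, t3, t1', t2', t3', ← hf12, h, inv2] at hh
      have e : ((3 : F) * 3)⁻¹ = 4 := inv_eq_of_mul_eq_one_right (by linear_combination 7 * h5)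
      have e' : κ / (3 * f l₁) = 2 * (κ / f l₁) := by
        rw [mul_comm 3 (f l₁), ← div_div, div_eq_mul_inv _ (3 : F), inv3]
        ring
      rw [e, e'] at hh
      have h' := hh.mpr (by linear_combination (2 * (κ / f l₁)) * h5)
      have : κ * f l₁ = 0 := by linear_combination h' - (5 * κ * f l₁) * h5
      exact hky' this
    · -- ratio 4 = -1
      exfalso
      apply hne
      rw [div_eq_iff hy0] at h
      rw [h]
      linear_combination (f l₁) * h5

end Cfsg.Agent.Lib.Helper98_MonoSL6
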