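import Mathlib
import Cfsg.Prelude.Def_GeometricClasses
import Cfsg.Agent.Lib.Helper98_MonoBase
import Cfsg.Agent.Lib.Helper98_MonoG
import Cfsg.Agent.Lib.Helper98_MonoSL
import Cfsg.Agent.Lib.Helper98_MonoTop
import Cfsg.Agent.Lib.Helper94_SLBridge
import Cfsg.Agent.Lib.Helper29_MonoSmall
import Cfsg.Agent.Lib.Helper98_MonoSL6

set_option autoImplicit false
set_option linter.unusedSectionVars false
set_option linter.unusedSimpArgs false
set_option linter.unusedVariables false
set_option linter.style.haveILetI false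

/-!
The monomial subgroup of `SL_n(q)` is maximal for all `n ≥ 6`, `q ≥ 5` (the case `q = 5`,
`6 ≤ n ≤ 10` uses helper98's `Helper98_MonoSL6.five_contra6`; the rest is `Helper29_MonoSmall`).
-/

namespace Cfsg.Agent.Lib.Helper29_MonoSmall6

open Matrix Cfsg.Agent.Lib.Helper98_MonoBase Cfsg.Agent.Lib.Helper98_MonoG
  Cfsg.Agent.Lib.Helper98_MonoSL Cfsg.Agent.Lib.Helper98_MonoTop

section A
variable {F : Type*} [Field F] [Fintype F] {ι : Type*} [Fintype ι] [DecidableEq ι]

theorem le_mono6 (hq : 5 ≤ Fintype.card F) (hn : 6 ≤ Fintype.card ι) {K : Subgroup (GL ι F)}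
    (hK : Hyp K) : K ≤ monoGL ι F := by
  by_cases h5 : Fintype.card F = 5
  · intro k hk
    by_contra hkM
    exact Cfsg.Agent.Lib.Helper98_MonoSL6.five_contra6 h5 hn hK hk hkM
  · exact Cfsg.Agent.Lib.Helper29_MonoSmall.le_mono hq hn (fun h => absurd h h5) hK

end A

section B
variable {F : Type*} [Field F] [Fintype F] {ι : Type} [Fintype ι] [DecidableEq ι]

/-- **Dichotomy for overgroups of the monomial group in `SL`.** -/
theorem mono_dichotomy6 (hq : 5 ≤ Fintype.card F) (hn : 6 ≤ Fintype.card ι)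
    (K : Subgroup (GL ι F)) (hdet : ∀ g ∈ K, (g : Matrix ι ι F).det = 1)
    (hmono : ∀ g ∈ monoGL ι F, (g : Matrix ι ι F).det = 1 → g ∈ K) :
    K ≤ monoGL ι F ∨ ∀ g : GL ι F, (g : Matrix ι ι F).det = 1 → g ∈ K := by
  classical
  haveI : Nontrivial ι := Fintype.one_lt_card_iff_nontrivial.mp (by omega)
  by_cases h : ∃ i j : ι, i ≠ j ∧ ∃ c : F, c ≠ 0 ∧ InK K (1 + Matrix.single i j c)
  · right
    obtain ⟨i, j, hij, c, hc, hE⟩ := h
    apply sl_le_of_elem K
    intro i' j' hij' c'
    by_cases hc' : c' = 0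
    · subst hc'
      rw [Matrix.single_zero, add_zero]
      exact ⟨1, K.one_mem, rfl⟩
    obtain ⟨σ, hσi, hσj⟩ := exists_perm_two hij hij'
    obtain ⟨l₀, hl₀⟩ : ∃ l, l ∉ ({i, j} : Finset ι) := by
      by_contra hcon
      push Not at hcon
      have : (Finset.univ : Finset ι) ⊆ {i, j} := fun r _ => hcon r
      have := Finset.card_le_card this
      rw [Finset.card_univ] at this
      have : ({i, j} : Finset ι).card ≤ 2 := Finset.card_le_two
      omega
    simp only [Finset.mem_insert, Finset.mem_singleton, not_or] at hl₀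
    set ε : F := ((Equiv.Perm.sign σ : ℤ) : F) with hε
    have hε0 : ε ≠ 0 := by
      rcases Int.units_eq_one_or (Equiv.Perm.sign σ) with h | h <;> simp [hε, h]
    set d : ι → F := fun l => if l = i then c' / c else if l = l₀ then ε⁻¹ * (c' / c)⁻¹ else 1
      with hd
    have hdi : d i = c' / c := by simp [hd]
    have hdl : d l₀ = ε⁻¹ * (c' / c)⁻¹ := by simp [hd, hl₀.1]
    have hdj : d j = 1 := by simp [hd, Ne.symm hij, Ne.symm hl₀.2]
    have hdo : ∀ l, l ≠ i → l ≠ l₀ → d l = 1 := fun l h1 h2 => by simp [hd, h1, h2]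
    have hcc : c' / c ≠ 0 := div_ne_zero hc' hc
    have hd0 : ∀ l, d l ≠ 0 := by
      intro l
      by_cases h1 : l = i
      · rw [h1, hdi]; exact hcc
      · by_cases h2 : l = l₀
        · rw [h2, hdl]; exact mul_ne_zero (inv_ne_zero hε0) (inv_ne_zero hcc)
        · rw [hdo l h1 h2]; exact one_ne_zero
    have hμK : monoU σ d hd0 ∈ K := by
      apply hmono _ (monoU_mem _ _ _)
      rw [monoU_val, det_mono, Finset.prod_eq_mul i l₀ (Ne.symm hl₀.1)
        (fun l _ hl => hdo l hl.1 hl.2) (fun h => absurd (Finset.mem_univ _) h)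
        (fun h => absurd (Finset.mem_univ _) h), hdi, hdl, ← hε]
      field_simp
    have := hE.conj hμK
    rw [conj_mono_single, hσi, hσj, hdi, hdj] at this
    convert this using 3
    field_simp
  · left
    push Not at h
    exact le_mono6 hq hn ⟨hdet, hmono, fun i j hij c hc hE => h i j hij c hc hE⟩

/-- **The monomial subgroup of `SL` is maximal.** -/
theorem mono_maximal6 (hq : 5 ≤ Fintype.card F) (hn : 6 ≤ Fintype.card ι) :
    Cfsg.Geo.IsMaximalIn (Cfsg.Geo.specialLinear ι F)
      (monoGL ι F ⊓ Cfsg.Geo.specialLinear ι F) := by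
  classical
  constructor
  · refine lt_of_le_of_ne inf_le_right ?_
    intro heq
    obtain ⟨i, j, hij⟩ := Fintype.exists_pair_of_one_lt_card (by omega : 1 < Fintype.card ι)
    have hdetE : ((1 : Matrix ι ι F) + Matrix.single i j 1).det = 1 :=
      Matrix.det_transvection_of_ne i j hij 1
    set E : GL ι F := Matrix.GeneralLinearGroup.mkOfDetNeZero (1 + Matrix.single i j 1)
      (by rw [hdetE]; exact one_ne_zero) with hE
    have hEv : (E : Matrix ι ι F) = 1 + Matrix.single i j 1 := rfl
    have hE1 : E ∈ Cfsg.Geo.specialLinear ι F := (mem_SL_iff _).mpr (by rw [hEv, hdetE])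
    rw [← heq] at hE1
    have hM : IsMono (E : Matrix ι ι F) := hE1.1
    apply hij
    apply hM j i j
    · rw [hEv, Matrix.add_apply, Matrix.one_apply_ne hij, Matrix.single_apply, if_pos ⟨rfl, rfl⟩,
        zero_add]
      exact one_ne_zero
    · rw [hEv, Matrix.add_apply, Matrix.one_apply_eq, Matrix.single_apply,
        if_neg (fun h => hij h.1), add_zero]
      exact one_ne_zero
  · intro M hHM hMS
    rcases mono_dichotomy6 hq hn M (fun g hg => (mem_SL_iff g).mp (hMS hg))
      (fun g hg hdet => hHM ⟨hg, (mem_SL_iff g).mpr hdet⟩) with h | h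
    · left
      exact le_antisymm (fun g hg => ⟨h hg, hMS hg⟩) hHM
    · right
      exact le_antisymm hMS (fun g hg => h g ((mem_SL_iff g).mp hg))


end B

end Cfsg.Agent.Lib.Helper29_MonoSmall6
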