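import Mathlib
import Cfsg.Prelude.Def_Solvable
import Cfsg.Agent.Lib.Helper1_MinNormal
import Cfsg.Agent.Lib.Helper1_Cores

/-!
Helper library (helper29): sections without an element of exponent order, used for the
characterisation of `p`-nilpotency by sections (S4238).
-/

set_option autoImplicit false

namespace Cfsg.Agent.Lib.Helper29_NPCSections

open Cfsg.Agent.Lib

/-- a finite `p`-group has an element whose order is the exponent -/
theorem exists_orderOf_eq_exponent_of_card {A : Type*} [Group A] [Finite A] {p n : ℕ}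
    [hp : Fact p.Prime] (hA : Nat.card A = p ^ n) : ∃ k : A, orderOf k = Monoid.exponent A := by
  have h1 : Monoid.exponent A ∣ p ^ n := hA ▸ Group.exponent_dvd_nat_card
  obtain ⟨e, -, he⟩ := (Nat.dvd_prime_pow hp.out).mp h1
  rcases Nat.eq_zero_or_pos e with h0 | hpos
  · refine ⟨1, ?_⟩
    rw [orderOf_one, he, h0, pow_zero]
  · obtain ⟨e', rfl⟩ : ∃ e', e = e' + 1 := ⟨e - 1, by omega⟩
    by_contra hcon
    push Not at hcon
    have h2 : ∀ g : A, g ^ p ^ e' = 1 := by
      intro g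
      by_contra hg
      have h3 : g ^ p ^ (e' + 1) = 1 := by rw [← he]; exact Monoid.pow_exponent_eq_one g
      exact hcon g ((orderOf_eq_prime_pow hg h3).trans he.symm)
    have h4 : Monoid.exponent A ∣ p ^ e' := Monoid.exponent_dvd_of_forall_pow_eq_one h2
    rw [he] at h4
    have := (Nat.pow_dvd_pow_iff_le_right hp.out.one_lt).mp h4
    omega

theorem lemmaA {K : Type*} [Group K] [Finite K] {p r : ℕ} [hp : Fact p.Prime] (hr : r.Prime)
    (hrp : r ≠ p) (V : Subgroup K) [hVn : V.Normal] (hVp : ∀ v ∈ V, v ^ p = 1) (hV1 : V ≠ ⊥)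
    (hr' : ∀ g : K, g ^ r ∈ V) (c : K) (hc : c ∉ V)
    (hfix : ∀ x : K, x ∉ V → ∀ v ∈ V, x * v = v * x → v = 1) :
    Cfsg.pPrimeCore p K = ⊥ ∧ ∀ g : K, orderOf g ≠ Monoid.exponent K := by
  have hpr : Nat.Coprime p r := (Nat.coprime_primes hp.out hr).mpr (Ne.symm hrp)
  obtain ⟨v0, hv0V, hv01⟩ : ∃ v ∈ V, v ≠ 1 := by
    by_contra hcon
    push Not at hcon
    exact hV1 ((Subgroup.eq_bot_iff_forall V).mpr hcon)
  constructor
  · unfold Cfsg.pPrimeCore
    rw [sSup_eq_bot]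
    rintro N ⟨hNn, hNc⟩
    by_contra hN
    obtain ⟨x, hxN, hx1⟩ : ∃ x ∈ N, x ≠ 1 := by
      by_contra hcon
      push Not at hcon
      exact hN ((Subgroup.eq_bot_iff_forall N).mpr hcon)
    have hxV : x ∉ V := by
      intro hxV
      have h1 : orderOf x ∣ p := orderOf_dvd_of_pow_eq_one (hVp x hxV)
      have h2 : orderOf x ∣ Nat.card N := by
        have := orderOf_dvd_natCard (⟨x, hxN⟩ : N)
        rwa [Subgroup.orderOf_mk] at this
      have h3 : orderOf x ∣ Nat.gcd (Nat.card N) p := Nat.dvd_gcd h2 h1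
      rw [hNc, Nat.dvd_one, orderOf_eq_one_iff] at h3
      exact hx1 h3
    have hcomm : v0 * x * v0⁻¹ * x⁻¹ = 1 := by
      have h1 : v0 * x * v0⁻¹ * x⁻¹ ∈ N := N.mul_mem (hNn.conj_mem x hxN v0) (N.inv_mem hxN)
      have h2 : v0 * x * v0⁻¹ * x⁻¹ ∈ V := by
        have : v0 * x * v0⁻¹ * x⁻¹ = v0 * (x * v0⁻¹ * x⁻¹) := by group
        rw [this]
        exact V.mul_mem hv0V (hVn.conj_mem _ (V.inv_mem hv0V) x)
      by_contra hne
      have hyV : orderOf (v0 * x * v0⁻¹ * x⁻¹) ∣ p := orderOf_dvd_of_pow_eq_one (hVp _ h2)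
      have hyN : orderOf (v0 * x * v0⁻¹ * x⁻¹) ∣ Nat.card N := by
        have := orderOf_dvd_natCard (⟨_, h1⟩ : N)
        rwa [Subgroup.orderOf_mk] at this
      have h3 := Nat.dvd_gcd hyN hyV
      rw [hNc, Nat.dvd_one, orderOf_eq_one_iff] at h3
      exact hne h3
    have hcomm' : x * v0 = v0 * x := by
      have : v0 * x = x * v0 := by
        have h := hcomm
        rw [mul_inv_eq_one, mul_inv_eq_iff_eq_mul] at h
        exact h
      exact this.symm
    exact hv01 (hfix x hxV v0 hv0V hcomm')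
  · intro g hg
    have h1 : Monoid.exponent K ∣ p * r := by
      apply Monoid.exponent_dvd_of_forall_pow_eq_one
      intro g
      rw [mul_comm, pow_mul]
      exact hVp _ (hr' g)
    have h2 : p ∣ Monoid.exponent K := by
      have : orderOf v0 = p := by
        have hd : orderOf v0 ∣ p := orderOf_dvd_of_pow_eq_one (hVp v0 hv0V)
        rcases (Nat.dvd_prime hp.out).mp hd with h | h
        · rw [orderOf_eq_one_iff] at h; exact absurd h hv01
        · exact h
      rw [← this]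
      exact Monoid.order_dvd_exponent v0
    have h3 : r ∣ Monoid.exponent K := by
      by_contra hnr
      have hcop : Nat.Coprime (Monoid.exponent K) r :=
        (Nat.Coprime.symm ((Nat.Prime.coprime_iff_not_dvd hr).mpr hnr))
      have h4 : Monoid.exponent K ∣ p := hcop.dvd_of_dvd_mul_right h1
      have h5 : c ^ p = 1 := by
        obtain ⟨m, hm⟩ := h4
        rw [hm, pow_mul, Monoid.pow_exponent_eq_one, one_pow]
      have h6 : Nat.Coprime r (orderOf c) :=
        Nat.Coprime.coprime_dvd_right (orderOf_dvd_of_pow_eq_one h5) hpr.symm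
      obtain ⟨m, hm⟩ := exists_pow_eq_self_of_coprime h6
      apply hc
      rw [← hm]
      exact V.pow_mem (hr' c) m
    have h4 : orderOf g = p * r := by
      apply Nat.dvd_antisymm
      · rw [hg]; exact h1
      · rw [hg]; exact hpr.mul_dvd_of_dvd_of_dvd h2 h3
    have h5 : g ^ r ≠ 1 := by
      intro h
      have := orderOf_dvd_of_pow_eq_one h
      rw [h4] at this
      have h6 : p ∣ r := Dvd.dvd.trans (dvd_mul_right p r) this
      exact hrp ((Nat.prime_dvd_prime_iff_eq hp.out hr).mp h6).symm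
    have h6 : g ^ p ∉ V := by
      intro h
      have h7 : g ^ (p * p) = 1 := by rw [pow_mul]; exact hVp _ h
      have := orderOf_dvd_of_pow_eq_one h7
      rw [h4] at this
      have h8 : r ∣ p * p := Dvd.dvd.trans (dvd_mul_left r p) this
      rcases (Nat.Prime.dvd_mul hr).mp h8 with h9 | h9
      · exact hrp ((Nat.prime_dvd_prime_iff_eq hr hp.out).mp h9)
      · exact hrp ((Nat.prime_dvd_prime_iff_eq hr hp.out).mp h9)
    apply h5
    apply hfix (g ^ p) h6 (g ^ r) (hr' g)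
    rw [← pow_add, ← pow_add, add_comm]

/-- coprime stability: if `h` centralizes `M`, and moves each `x ∈ Q` only by elements of `M`, then `h`
centralizes the `p`-group `Q` when `h` has order prime to `p`. -/
theorem lemmaC {H : Type*} [Group H] {p : ℕ} [Fact p.Prime] (Q M : Subgroup H)
    (hQ : IsPGroup p Q) (hMQ : M ≤ Q) (h : H) (hcop : (orderOf h).Coprime p)
    (hM : h ∈ Subgroup.centralizer (M : Set H)) (hQM : ∀ x ∈ Q, h * x * h⁻¹ * x⁻¹ ∈ M) :
    h ∈ Subgroup.centralizer (Q : Set H) := by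
  rw [Subgroup.mem_centralizer_iff]
  intro x hx
  set m := h * x * h⁻¹ * x⁻¹ with hm
  have hmM : m ∈ M := hQM x hx
  have hcm : h * m = m * h := ((Subgroup.mem_centralizer_iff.mp hM) m hmM).symm
  have hconj : h * x * h⁻¹ = m * x := by rw [hm]; group
  have hpow : ∀ n : ℕ, h ^ n * x * (h ^ n)⁻¹ = m ^ n * x := by
    intro n
    induction n with
    | zero => simp
    | succ n ih =>
      have hcmn : h * m ^ n = m ^ n * h := (Commute.pow_right (show Commute h m from hcm) n).eq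
      calc h ^ (n + 1) * x * (h ^ (n + 1))⁻¹ = h * (h ^ n * x * (h ^ n)⁻¹) * h⁻¹ := by
            rw [pow_succ']; group
        _ = h * (m ^ n * x) * h⁻¹ := by rw [ih]
        _ = (h * m ^ n) * x * h⁻¹ := by group
        _ = m ^ n * (h * x * h⁻¹) := by rw [hcmn]; group
        _ = m ^ n * (m * x) := by rw [hconj]
        _ = m ^ (n + 1) * x := by rw [pow_succ]; group
  have h1 := hpow (orderOf h)
  rw [pow_orderOf_eq_one, one_mul, inv_one, mul_one] at h1
  have h2 : m ^ orderOf h = 1 := by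
    have : m ^ orderOf h * x = 1 * x := by rw [← h1, one_mul]
    exact mul_right_cancel this
  obtain ⟨j, hj⟩ := hQ ⟨m, hMQ hmM⟩
  have hj' : m ^ p ^ j = 1 := by
    have := congrArg Subtype.val hj
    simpa using this
  have h3 : orderOf m ∣ Nat.gcd (orderOf h) (p ^ j) :=
    Nat.dvd_gcd (orderOf_dvd_of_pow_eq_one h2) (orderOf_dvd_of_pow_eq_one hj')
  rw [Nat.Coprime.pow_right j hcop, Nat.dvd_one, orderOf_eq_one_iff] at h3
  have : h * x * h⁻¹ = x := by rw [hconj, h3, one_mul]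
  rw [mul_inv_eq_iff_eq_mul] at this
  exact this.symm


theorem pPrimeCore_eq_bot_of_equiv {A B : Type*} [Group A] [Group B] [Finite A] {p : ℕ}
    (e : A ≃* B) (hB : Cfsg.pPrimeCore p B = ⊥) : Cfsg.pPrimeCore p A = ⊥ := by
  unfold Cfsg.pPrimeCore
  rw [sSup_eq_bot]
  rintro N ⟨hNn, hNc⟩
  have h1 : (N.map e.toMonoidHom).Normal := hNn.map e.toMonoidHom e.surjective
  have h2 : Nat.card (N.map e.toMonoidHom) = Nat.card N :=
    Subgroup.card_map_of_injective e.injective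
  have h3 : N.map e.toMonoidHom ≤ Cfsg.pPrimeCore p B :=
    Helper1_Cores.le_pPrimeCore h1 (by rw [h2]; exact hNc)
  rw [hB, le_bot_iff] at h3
  exact (Subgroup.map_eq_bot_iff_of_injective N e.injective).mp h3

theorem lemmaB {H : Type*} [Group H] [Finite H] {p r k : ℕ} [hp : Fact p.Prime] (hr : r.Prime)
    (hrp : r ≠ p) (Q : Subgroup H) [hQn : Q.Normal] (hQ : IsPGroup p Q) (h : H)
    (hord : orderOf h = r ^ k) (htop : Q ⊔ Subgroup.zpowers h = ⊤)
    (hnc : h ∉ Subgroup.centralizer (Q : Set H))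
    (hmin : ∀ Q₁ : Subgroup H, Q₁.Normal → Q₁ ≤ Q → Q₁ ≠ Q →
      h ∈ Subgroup.centralizer (Q₁ : Set H))
    (hr' : h ^ r ∈ Subgroup.centralizer (Q : Set H)) :
    ∃ N : Subgroup H, ∃ _ : N.Normal, Cfsg.pPrimeCore p (H ⧸ N) = ⊥ ∧
      ∀ g : H ⧸ N, orderOf g ≠ Monoid.exponent (H ⧸ N) := by
  classical
  have hpr : Nat.Coprime r p := (Nat.coprime_primes hr hp.out).mpr hrp
  have hcop : (orderOf h).Coprime p := by rw [hord]; exact Nat.Coprime.pow_left k hpr
  have hQbot : Q ≠ ⊥ := by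
    rintro rfl
    apply hnc
    rw [Subgroup.mem_centralizer_iff]
    intro x hx
    rw [SetLike.mem_coe, Subgroup.mem_bot] at hx
    rw [hx, one_mul, mul_one]
  obtain ⟨M, -, hMmax⟩ := Finite.exists_le_maximal
    (p := fun K : Subgroup H => K.Normal ∧ K < Q) (a := ⊥)
    ⟨inferInstance, bot_lt_iff_ne_bot.mpr hQbot⟩
  obtain ⟨hMn, hMQ⟩ := hMmax.prop
  have hMc : h ∈ Subgroup.centralizer (M : Set H) := hmin M hMn hMQ.le hMQ.ne
  have := hMn
  obtain ⟨π, hπ⟩ : ∃ π : H →* H ⧸ M, π = QuotientGroup.mk' M := ⟨_, rfl⟩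
  have hπs : Function.Surjective π := hπ ▸ QuotientGroup.mk'_surjective M
  have hπk : π.ker = M := hπ ▸ QuotientGroup.ker_mk' M
  obtain ⟨Qb, hQb⟩ : ∃ Qb : Subgroup (H ⧸ M), Qb = Q.map π := ⟨_, rfl⟩
  obtain ⟨hb, hhb⟩ : ∃ hb : H ⧸ M, hb = π h := ⟨_, rfl⟩
  have hQbn : Qb.Normal := hQb ▸ hQn.map π hπs
  have hQbp : IsPGroup p Qb := hQb ▸ hQ.map π
  have hcomap : Qb.comap π = Q := by
    rw [hQb, Subgroup.comap_map_eq, hπk, sup_eq_left.mpr hMQ.le]
  have hQb1 : Qb ≠ ⊥ := by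
    intro hbot
    have : Q ≤ M := by
      rw [← hπk, ← Subgroup.map_eq_bot_iff, ← hQb]; exact hbot
    exact (lt_irrefl _ (lt_of_le_of_lt this hMQ))
  -- minimality of `Qb`
  have hminb : ∀ L : Subgroup (H ⧸ M), L.Normal → L ≤ Qb → L = ⊥ ∨ L = Qb := by
    intro L hLn hLQ
    have hLc : (L.comap π).Normal := hLn.comap π
    have hLle : L.comap π ≤ Q := by rw [← hcomap]; exact Subgroup.comap_mono hLQ
    have hML : M ≤ L.comap π := by
      have h0 : π.ker ≤ L.comap π := MonoidHom.ker_le_comap π L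
      rwa [hπk] at h0
    by_cases hLQ' : L.comap π = Q
    · right
      rw [← Subgroup.map_comap_eq_self_of_surjective hπs L, hLQ', hQb]
    · left
      have hlt : L.comap π < Q := lt_of_le_of_ne hLle hLQ'
      have hle : L.comap π ≤ M := hMmax.le_of_ge ⟨hLc, hlt⟩ hML
      rw [← Subgroup.map_comap_eq_self_of_surjective hπs L, eq_bot_iff]
      calc (L.comap π).map π ≤ M.map π := Subgroup.map_mono hle
        _ = ⊥ := by rw [Subgroup.map_eq_bot_iff, hπk]
  have hQbsolv : Group.IsSolvable Qb := by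
    have : Group.IsNilpotent Qb := hQbp.isNilpotent
    infer_instance
  obtain ⟨hQbc, p', hp', hQbp'⟩ :=
    Helper1_MinNormal.elementary_abelian_of_minimal Qb hQbsolv hQb1 hminb
  have hpowp : ∀ x ∈ Qb, ∃ j : ℕ, x ^ p ^ j = 1 := by
    intro x hx
    obtain ⟨j, hj⟩ := hQbp ⟨x, hx⟩
    refine ⟨j, ?_⟩
    have := congrArg Subtype.val hj
    simpa using this
  have hexp : ∀ x ∈ Qb, x ^ p = 1 := by
    intro x hx
    by_cases hpp : p' = p
    · rw [← hpp]; exact hQbp' x hx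
    · obtain ⟨j, hj⟩ := hpowp x hx
      have h1 : orderOf x ∣ Nat.gcd p' (p ^ j) :=
        Nat.dvd_gcd (orderOf_dvd_of_pow_eq_one (hQbp' x hx)) (orderOf_dvd_of_pow_eq_one hj)
      have h2 : Nat.Coprime p' (p ^ j) :=
        Nat.Coprime.pow_right j ((Nat.coprime_primes hp' hp.out).mpr hpp)
      rw [h2, Nat.dvd_one, orderOf_eq_one_iff] at h1
      rw [h1, one_pow]
  have hcommQb : ∀ a ∈ Qb, ∀ b ∈ Qb, a * b = b * a := by
    intro a ha b hb'
    have := hQbc.is_comm.comm ⟨a, ha⟩ ⟨b, hb'⟩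
    exact congrArg Subtype.val this
  -- `hb` does not centralize `Qb`
  have hbnc : hb ∉ Subgroup.centralizer (Qb : Set (H ⧸ M)) := by
    intro hcon
    apply hnc
    apply lemmaC Q M hQ hMQ.le h hcop hMc
    intro x hx
    rw [← hπk, MonoidHom.mem_ker]
    have h1 := (Subgroup.mem_centralizer_iff.mp hcon) (π x)
      (by rw [hQb]; exact Subgroup.mem_map_of_mem π hx)
    rw [map_mul, map_mul, map_mul, map_inv, map_inv, ← hhb, ← h1]
    group
  have htopb : Qb ⊔ Subgroup.zpowers hb = ⊤ := by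
    have := congrArg (Subgroup.map π) htop
    rw [Subgroup.map_sup, MonoidHom.map_zpowers, Subgroup.map_top_of_surjective π hπs] at this
    rw [hQb, hhb]; exact this
  -- order facts
  have hordb : orderOf hb ∣ r ^ k := by rw [hhb, ← hord]; exact orderOf_map_dvd π h
  have hdisj : ∀ w ∈ Qb, w ∈ Subgroup.zpowers hb → w = 1 := by
    intro w hw hwz
    obtain ⟨j, hj⟩ := hpowp w hw
    have h1 : orderOf w ∣ r ^ k := (orderOf_dvd_of_mem_zpowers hwz).trans hordb
    have h2 : orderOf w ∣ Nat.gcd (r ^ k) (p ^ j) :=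
      Nat.dvd_gcd h1 (orderOf_dvd_of_pow_eq_one hj)
    rw [Nat.Coprime.pow k j hpr, Nat.dvd_one, orderOf_eq_one_iff] at h2
    exact h2
  -- the centralizer of `hb` in `Qb` is trivial
  have hCbot : Qb ⊓ Subgroup.centralizer {hb} = ⊥ := by
    have hCn : (Qb ⊓ Subgroup.centralizer {hb}).Normal := by
      rw [← Subgroup.normalizer_eq_top_iff, eq_top_iff, ← htopb, sup_le_iff]
      constructor
      · refine le_trans ?_ (Subgroup.centralizer_le_normalizer _)
        intro q hq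
        rw [Subgroup.mem_centralizer_iff]
        intro x hx
        exact hcommQb x hx.1 q hq
      · rw [Subgroup.zpowers_le]
        apply Subgroup.centralizer_le_normalizer
        rw [Subgroup.mem_centralizer_iff]
        intro x hx
        have := (Subgroup.mem_centralizer_iff.mp hx.2) hb (Set.mem_singleton hb)
        exact this.symm
    rcases hminb _ hCn inf_le_left with h1 | h1
    · exact h1
    · exfalso
      apply hbnc
      rw [Subgroup.mem_centralizer_iff]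
      intro x hx
      have hx' : x ∈ Qb ⊓ Subgroup.centralizer {hb} := by rw [h1]; exact hx
      have := (Subgroup.mem_centralizer_iff.mp hx'.2) hb (Set.mem_singleton hb)
      exact this.symm
  -- `hb ^ r` is central
  have hbrQ : ∀ q ∈ Qb, q * hb ^ r = hb ^ r * q := by
    intro q hq
    rw [hQb] at hq
    obtain ⟨x, hx, rfl⟩ := hq
    have := (Subgroup.mem_centralizer_iff.mp hr') x hx
    rw [hhb, ← map_pow, ← map_mul, ← map_mul, this]
  have hbrc : ∀ g : H ⧸ M, g * hb ^ r = hb ^ r * g := by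
    intro g
    have hg : g ∈ Qb ⊔ Subgroup.zpowers hb := htopb ▸ Subgroup.mem_top g
    obtain ⟨q, hq, z, hz, rfl⟩ := Subgroup.mem_sup_of_normal_left.mp hg
    obtain ⟨i, rfl⟩ := Subgroup.mem_zpowers_iff.mp hz
    have h1 : hb ^ i * hb ^ r = hb ^ r * hb ^ i :=
      ((Commute.refl hb).zpow_left i).pow_right r |>.eq
    rw [mul_assoc, h1, ← mul_assoc, hbrQ q hq, mul_assoc]
  obtain ⟨Zb, hZb⟩ : ∃ Zb : Subgroup (H ⧸ M), Zb = Subgroup.zpowers (hb ^ r) := ⟨_, rfl⟩
  have hZbc : ∀ z ∈ Zb, ∀ g : H ⧸ M, g * z = z * g := by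
    intro z hz g
    rw [hZb] at hz
    obtain ⟨i, rfl⟩ := Subgroup.mem_zpowers_iff.mp hz
    exact ((show Commute g (hb ^ r) from hbrc g).zpow_right i).eq
  have hZbn : Zb.Normal := by
    constructor
    intro z hz g
    rw [hZbc z hz g, mul_inv_cancel_right]
    exact hz
  have hZble : Zb ≤ Subgroup.zpowers hb := by
    rw [hZb, Subgroup.zpowers_le]
    exact Subgroup.pow_mem _ (Subgroup.mem_zpowers hb) r
  have hbZ : hb ∉ Zb := by
    intro hcon
    apply hbnc
    rw [Subgroup.mem_centralizer_iff]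
    intro x _
    exact hZbc hb hcon x
  obtain ⟨ρ, hρ⟩ : ∃ ρ : (H ⧸ M) →* (H ⧸ M) ⧸ Zb, ρ = QuotientGroup.mk' Zb := ⟨_, rfl⟩
  have hρs : Function.Surjective ρ := hρ ▸ QuotientGroup.mk'_surjective Zb
  have hρk : ρ.ker = Zb := hρ ▸ QuotientGroup.ker_mk' Zb
  obtain ⟨V, hV⟩ : ∃ V : Subgroup ((H ⧸ M) ⧸ Zb), V = Qb.map ρ := ⟨_, rfl⟩
  have hVn : V.Normal := hV ▸ hQbn.map ρ hρs
  have hVcomap : V.comap ρ = Qb ⊔ Zb := by rw [hV, Subgroup.comap_map_eq, hρk]
  have hA := lemmaA (p := p) hr hrp V ?_ ?_ ?_ (ρ hb) ?_ ?_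
  · -- transport
    obtain ⟨φ, hφ⟩ : ∃ φ : H →* (H ⧸ M) ⧸ Zb, φ = ρ.comp π := ⟨_, rfl⟩
    have hφs : Function.Surjective φ := hφ ▸ hρs.comp hπs
    refine ⟨φ.ker, inferInstance, ?_, ?_⟩
    · exact pPrimeCore_eq_bot_of_equiv (QuotientGroup.quotientKerEquivOfSurjective φ hφs) hA.1
    · intro g hg
      have e := QuotientGroup.quotientKerEquivOfSurjective φ hφs
      apply hA.2 (e g)
      rw [MulEquiv.orderOf_eq, hg, Monoid.exponent_eq_of_mulEquiv e]
  · -- exponent p
    intro v hv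
    rw [hV] at hv
    obtain ⟨q, hq, rfl⟩ := hv
    rw [← map_pow, hexp q hq, map_one]
  · -- V ≠ ⊥
    intro hbot
    have h1 : Qb ≤ Zb := by
      rw [← hρk, ← Subgroup.map_eq_bot_iff, ← hV]; exact hbot
    apply hbnc
    rw [Subgroup.mem_centralizer_iff]
    intro x hx
    exact (hZbc x (h1 hx) hb).symm
  · -- r-th powers
    intro g
    obtain ⟨y, rfl⟩ := hρs g
    have hy : y ∈ Qb ⊔ Subgroup.zpowers hb := htopb ▸ Subgroup.mem_top y
    obtain ⟨q, hq, z, hz, rfl⟩ := Subgroup.mem_sup_of_normal_left.mp hy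
    obtain ⟨i, rfl⟩ := Subgroup.mem_zpowers_iff.mp hz
    have key : (q * hb ^ i) ^ r * ((hb ^ i) ^ r)⁻¹ ∈ Qb := by
      rw [← QuotientGroup.eq_one_iff]
      rw [QuotientGroup.mk_mul, QuotientGroup.mk_inv, QuotientGroup.mk_pow, QuotientGroup.mk_pow,
        QuotientGroup.mk_mul, (QuotientGroup.eq_one_iff q).mpr hq, one_mul, mul_inv_cancel]
    have hz' : (hb ^ i) ^ r ∈ Zb := by
      have h0 : (hb ^ i) ^ r = (hb ^ r) ^ i :=
        calc (hb ^ i) ^ r = (hb ^ i) ^ (r : ℤ) := (zpow_natCast _ _).symm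
          _ = hb ^ (i * (r : ℤ)) := (zpow_mul _ _ _).symm
          _ = hb ^ ((r : ℤ) * i) := by rw [mul_comm]
          _ = (hb ^ (r : ℤ)) ^ i := zpow_mul _ _ _
          _ = (hb ^ r) ^ i := by rw [zpow_natCast]
      rw [hZb, h0]
      exact Subgroup.zpow_mem _ (Subgroup.mem_zpowers _) i
    have h1 : ρ ((hb ^ i) ^ r) = 1 := by
      rw [← MonoidHom.mem_ker, hρk]; exact hz'
    have h2 : ρ (q * hb ^ i) ^ r = ρ ((q * hb ^ i) ^ r * ((hb ^ i) ^ r)⁻¹) := by
      have h3 : ρ ((q * hb ^ i) ^ r * ((hb ^ i) ^ r)⁻¹) =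
          ρ ((q * hb ^ i) ^ r) * (ρ ((hb ^ i) ^ r))⁻¹ := by rw [map_mul, map_inv]
      rw [h3, h1, inv_one, mul_one, map_pow]
    rw [h2, hV]
    exact Subgroup.mem_map_of_mem ρ key
  · -- ρ hb ∉ V
    intro hcon
    have h1 : hb ∈ Qb ⊔ Zb := by rw [← hVcomap]; exact hcon
    obtain ⟨q, hq, z, hz, hqz⟩ := Subgroup.mem_sup_of_normal_left.mp h1
    have hq1 : q = 1 := by
      apply hdisj q hq
      have : q = hb * z⁻¹ := by rw [← hqz]; group
      rw [this]
      exact Subgroup.mul_mem _ (Subgroup.mem_zpowers hb) (Subgroup.inv_mem _ (hZble hz))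
    rw [hq1, one_mul] at hqz
    exact hbZ (hqz ▸ hz)
  · -- fixed points
    intro x hxV v hv hcomm
    obtain ⟨y, rfl⟩ := hρs x
    rw [hV] at hv
    obtain ⟨q₁, hq₁, rfl⟩ := hv
    have hy : y ∈ Qb ⊔ Subgroup.zpowers hb := htopb ▸ Subgroup.mem_top y
    obtain ⟨q, hq, z, hz, rfl⟩ := Subgroup.mem_sup_of_normal_left.mp hy
    obtain ⟨i, rfl⟩ := Subgroup.mem_zpowers_iff.mp hz
    -- r ∤ i
    have hri : ¬ (r : ℤ) ∣ i := by
      rintro ⟨j, rfl⟩
      apply hxV
      have hz' : hb ^ ((r : ℤ) * j) ∈ Zb := by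
        rw [hZb, zpow_mul, zpow_natCast]
        exact Subgroup.zpow_mem _ (Subgroup.mem_zpowers _) j
      have h1 : ρ (hb ^ ((r : ℤ) * j)) = 1 := by
        rw [← MonoidHom.mem_ker, hρk]; exact hz'
      rw [map_mul, h1, mul_one, hV]
      exact Subgroup.mem_map_of_mem ρ hq
    -- the commutator is trivial
    have hw : (q * hb ^ i * q₁)⁻¹ * (q₁ * (q * hb ^ i)) = 1 := by
      have hwZ : (q * hb ^ i * q₁)⁻¹ * (q₁ * (q * hb ^ i)) ∈ Zb := by
        rw [← hρk, MonoidHom.mem_ker, map_mul, map_inv, inv_mul_eq_one,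
          map_mul (f := ρ) (q * hb ^ i) q₁, map_mul (f := ρ) q₁ (q * hb ^ i)]
        exact hcomm
      have hwQ : (q * hb ^ i * q₁)⁻¹ * (q₁ * (q * hb ^ i)) ∈ Qb := by
        have : (q * hb ^ i * q₁)⁻¹ * (q₁ * (q * hb ^ i)) =
            q₁⁻¹ * ((q * hb ^ i)⁻¹ * q₁ * (q * hb ^ i)) := by group
        rw [this]
        exact Qb.mul_mem (Qb.inv_mem hq₁) (hQbn.conj_mem' q₁ hq₁ _)
      exact hdisj _ hwQ (hZble hwZ)
    have h1 : q * hb ^ i * q₁ = q₁ * (q * hb ^ i) := by
      rw [inv_mul_eq_one] at hw; exact hw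
    have h2 : hb ^ i * q₁ = q₁ * hb ^ i := by
      have h3 : q * (hb ^ i * q₁) = q * (q₁ * hb ^ i) := by
        rw [← mul_assoc, h1, ← mul_assoc, hcommQb q₁ hq₁ q hq, mul_assoc]
      exact mul_left_cancel h3
    -- so `hb` commutes with `q₁`
    have hgcd : IsCoprime i (r : ℤ) := by
      rw [Int.isCoprime_iff_gcd_eq_one]
      have : Nat.Coprime r i.natAbs := by
        rw [Nat.Prime.coprime_iff_not_dvd hr]
        intro hd
        exact hri (Int.natCast_dvd.mpr hd)
      rw [Int.gcd, Int.natAbs_natCast]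
      exact this.symm
    obtain ⟨a, b, hab⟩ := hgcd
    have h3 : hb * q₁ = q₁ * hb := by
      have hc1 : Commute (hb ^ i) q₁ := h2
      have hc2 : Commute (hb ^ r) q₁ := (hbrc q₁).symm
      have hc3 : Commute ((hb ^ i) ^ a * (hb ^ r) ^ b) q₁ :=
        (hc1.zpow_left a).mul_left (hc2.zpow_left b)
      have : (hb ^ i) ^ a * (hb ^ r) ^ b = hb := by
        rw [← zpow_mul, ← zpow_natCast, ← zpow_mul, ← zpow_add, mul_comm i a, mul_comm (r : ℤ) b,
          hab, zpow_one]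
      rw [this] at hc3
      exact hc3.eq
    have h4 : q₁ ∈ Qb ⊓ Subgroup.centralizer {hb} := by
      refine Subgroup.mem_inf.mpr ⟨hq₁, ?_⟩
      rw [Subgroup.mem_centralizer_iff]
      intro y hy
      rw [Set.mem_singleton_iff] at hy
      rw [hy]; exact h3
    rw [hCbot, Subgroup.mem_bot] at h4
    rw [h4, map_one]

end Cfsg.Agent.Lib.Helper29_NPCSections
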