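import Cfsg.Agent.Lib.Helper29_NilpSym2

/-!
Nilpotent subgroups of alternating groups: a nilpotent subgroup of `Alt(n)` has order at most `E n`,
where `E n = F n / 2` except for `n ∈ {0, 1, 3, 5, 6, 9}`.
-/

set_option autoImplicit false

open Nat
open scoped Pointwise

namespace Cfsg.Agent.Lib.Helper29_NilpAlt

open Cfsg.Agent.Lib.Helper29_NilpSym Cfsg.Agent.Lib.Helper29_NilpSym2

/-! numeric -/

lemma s2_eq_digits (n : ℕ) : s2 n = 2 ^ (n - (Nat.digits 2 n).sum) := by
  unfold s2
  have : Fact (Nat.Prime 2) := ⟨Nat.prime_two⟩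
  have := sub_one_mul_padicValNat_factorial (p := 2) n
  simp at this
  rw [this]

/-- The largest order of a nilpotent subgroup of `Alt(n)`. -/
def E (n : ℕ) : ℕ :=
  if n = 3 then 3 else if n = 5 then 5 else if n = 6 then 9 else if n = 9 then 81 else
  if n ≤ 1 then 1 else F n / 2

lemma F_two : F 2 = 2 := by norm_num [F, s2_eq_digits]

lemma two_dvd_s2 {n : ℕ} (h : 2 ≤ n) : 2 ∣ s2 n := by
  have h2 := s2_mono h
  rw [s2_two] at h2
  unfold s2 at *
  have hpos : padicValNat 2 n ! ≠ 0 := by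
    intro h0
    rw [h0] at h2
    norm_num at h2
  exact dvd_pow_self 2 hpos

lemma two_dvd_F {n : ℕ} (h : 2 ≤ n) (h3 : n ≠ 3) : 2 ∣ F n := by
  by_cases hm : n % 4 = 3
  · rw [F_eq_of_mod hm]
    exact Dvd.dvd.mul_left (two_dvd_s2 (by omega)) 3
  · rw [F_eq_s2 hm]; exact two_dvd_s2 h

lemma two_mul_E {n : ℕ} (h : 2 ≤ n) (h3 : n ≠ 3) (h5 : n ≠ 5) (h6 : n ≠ 6) (h9 : n ≠ 9) :
    2 * E n = F n := by
  unfold E
  rw [if_neg h3, if_neg h5, if_neg h6, if_neg h9, if_neg (by omega)]
  exact Nat.mul_div_cancel' (two_dvd_F h h3)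

lemma F_le_two_mul_E {n : ℕ} (h : 2 ≤ n) : F n ≤ 2 * E n := by
  by_cases h3 : n = 3
  · subst h3; norm_num [E, F, s2_eq_digits]
  by_cases h5 : n = 5
  · subst h5; norm_num [E, F, s2_eq_digits]
  by_cases h6 : n = 6
  · subst h6; norm_num [E, F, s2_eq_digits]
  by_cases h9 : n = 9
  · subst h9; norm_num [E, F, s2_eq_digits]
  exact (two_mul_E h h3 h5 h6 h9).ge

lemma E_pos (n : ℕ) : 0 < E n := by
  by_cases h : 2 ≤ n
  · have := F_le_two_mul_E h
    have := F_pos n
    omega
  · unfold E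
    rw [if_neg (by omega), if_neg (by omega), if_neg (by omega), if_neg (by omega), if_pos (by omega)]
    norm_num

lemma E_of_le_one {n : ℕ} (h : n ≤ 1) : E n = 1 := by
  unfold E
  rw [if_neg (by omega), if_neg (by omega), if_neg (by omega), if_neg (by omega), if_pos h]

lemma le_E_of_two_mul_le_F {n x : ℕ} (h : 2 ≤ n) (hx : 2 * x ≤ F n) : x ≤ E n := by
  have := F_le_two_mul_E h
  omega

/-- the intransitive step -/
lemma E_step {a b : ℕ} (ha : 1 ≤ a) (hb : 1 ≤ b) :
    F a * E b ≤ E (a + b) ∨ F b * E a ≤ E (a + b) := by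
  have hab : 2 ≤ a + b := by omega
  have key : ∀ {x y : ℕ}, 1 ≤ x → 2 ≤ y → y ≠ 3 → y ≠ 5 → y ≠ 6 → y ≠ 9 →
      F x * E y ≤ E (x + y) := by
    intro x y hx hy h3 h5 h6 h9
    apply le_E_of_two_mul_le_F (by omega)
    calc 2 * (F x * E y) = F x * (2 * E y) := by ring
      _ = F x * F y := by rw [two_mul_E hy h3 h5 h6 h9]
      _ ≤ F (x + y) := F_mul_le _ _
  by_cases hbe : 2 ≤ b ∧ b ≠ 3 ∧ b ≠ 5 ∧ b ≠ 6 ∧ b ≠ 9
  · obtain ⟨h2, h3, h5, h6, h9⟩ := hbe
    exact Or.inl (key ha h2 h3 h5 h6 h9)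
  by_cases hae : 2 ≤ a ∧ a ≠ 3 ∧ a ≠ 5 ∧ a ≠ 6 ∧ a ≠ 9
  · obtain ⟨h2, h3, h5, h6, h9⟩ := hae
    right
    have := key hb h2 h3 h5 h6 h9
    rwa [add_comm] at this
  have hb' : b = 1 ∨ b = 3 ∨ b = 5 ∨ b = 6 ∨ b = 9 := by omega
  have ha' : a = 1 ∨ a = 3 ∨ a = 5 ∨ a = 6 ∨ a = 9 := by omega
  rcases ha' with rfl | rfl | rfl | rfl | rfl <;> rcases hb' with rfl | rfl | rfl | rfl | rfl <;>
    norm_num [E, F, s2_eq_digits]

/-- the transitive non-`p`-group step -/
lemma F_mul_F_le_E {m₁ m₂ : ℕ} (h1 : 2 ≤ m₁) (h2 : 2 ≤ m₂) : F m₁ * F m₂ ≤ E (m₁ * m₂) := by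
  by_cases h : m₁ + m₂ + 2 ≤ m₁ * m₂
  · have hn : 2 ≤ m₁ * m₂ := by nlinarith
    apply le_E_of_two_mul_le_F hn
    calc 2 * (F m₁ * F m₂) ≤ 2 * F (m₁ + m₂) := Nat.mul_le_mul_left _ (F_mul_le _ _)
      _ ≤ 2 * F (m₁ * m₂ - 2) := Nat.mul_le_mul_left _ (F_mono (by omega))
      _ = F 2 * F (m₁ * m₂ - 2) := by rw [F_two]
      _ ≤ F (2 + (m₁ * m₂ - 2)) := F_mul_le _ _
      _ = F (m₁ * m₂) := by congr 1; omega
  · have h3 : m₁ ≤ 3 := by
      by_contra hc
      have : 4 ≤ m₁ := by omega
      nlinarith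
    have h4 : m₂ ≤ 3 := by
      by_contra hc
      have : 4 ≤ m₂ := by omega
      nlinarith
    interval_cases m₁ <;> interval_cases m₂ <;> first | omega | norm_num [E, F, s2_eq_digits]

/-! prime powers -/

lemma two_mul_add_one_le_two_pow : ∀ h : ℕ, 3 ≤ h → 2 * h + 1 ≤ 2 ^ h := by
  intro h hh
  induction h, hh using Nat.le_induction with
  | base => norm_num
  | succ n hn ih =>
    rw [pow_succ]
    omega

lemma two_mul_pow_padic_le_s2 (p : ℕ) [hp : Fact p.Prime] (h5 : 5 ≤ p) (m : ℕ)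
    (hm : 2 * p ≤ m ∨ (7 ≤ p ∧ p ≤ m)) : 2 * p ^ padicValNat p m ! ≤ s2 m := by
  have hpm : p ≤ m := by rcases hm with h | h <;> omega
  have hppos : 0 < p := by omega
  set k := m / p with hkdef
  have hkpos : 1 ≤ k := (Nat.le_div_iff_mul_le hppos).2 (by omega)
  have e1 : padicValNat p m ! = padicValNat p k ! + k := by
    rw [← padicValNat_mul_div_factorial m, padicValNat_factorial_mul]
  rw [e1, pow_add]
  have ihk := pow_padic_le_s2_of_five_le p h5 k
  obtain ⟨h, hh⟩ : ∃ h, p = 2 * h + 1 := by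
    have := hp.out.eq_one_or_self_of_dvd 2
    rcases Nat.even_or_odd p with he | ho
    · exfalso
      have h2 : 2 ∣ p := he.two_dvd
      rcases this h2 with h | h <;> omega
    · exact ho
  have hh2 : 2 ≤ h := by omega
  have h1 : 2 ^ k * s2 k ≤ s2 (h * k) := by
    calc 2 ^ k * s2 k = s2 (2 * k) := (s2_two_mul k).symm
      _ ≤ s2 (h * k) := s2_mono (Nat.mul_le_mul_right _ hh2)
  have hA : 2 * p ^ k ≤ s2 (2 * (h * k)) := by
    rw [s2_two_mul]
    rcases hm with hm | ⟨h7, _⟩
    · have hk2 : 2 ≤ k := (Nat.le_div_iff_mul_le hppos).2 (by omega)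
      have hs : 2 ≤ s2 k := by
        have := s2_mono hk2
        rwa [s2_two] at this
      have h2 : p ≤ 2 ^ (h + 1) := by
        rw [hh]
        have : h + 1 < 2 ^ (h + 1) := Nat.lt_two_pow_self
        rw [pow_succ] at this ⊢
        have : h < 2 ^ h := Nat.lt_two_pow_self
        omega
      calc 2 * p ^ k ≤ 2 * (2 ^ (h + 1)) ^ k := Nat.mul_le_mul_left _ (Nat.pow_le_pow_left h2 k)
        _ = 2 ^ (h * k) * (2 ^ k * 2) := by rw [← pow_mul, ← pow_succ, ← pow_add]; ring_nf
        _ ≤ 2 ^ (h * k) * (2 ^ k * s2 k) :=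
            Nat.mul_le_mul_left _ (Nat.mul_le_mul_left _ hs)
        _ ≤ 2 ^ (h * k) * s2 (h * k) := Nat.mul_le_mul_left _ h1
    · have hh3 : 3 ≤ h := by omega
      have h2 : p ≤ 2 ^ h := by rw [hh]; exact two_mul_add_one_le_two_pow h hh3
      have h3 : 2 ≤ 2 ^ k := by
        calc 2 = 2 ^ 1 := by norm_num
          _ ≤ 2 ^ k := Nat.pow_le_pow_right (by norm_num) hkpos
      calc 2 * p ^ k ≤ 2 * (2 ^ h) ^ k := Nat.mul_le_mul_left _ (Nat.pow_le_pow_left h2 k)
        _ = 2 ^ (h * k) * 2 := by rw [← pow_mul]; ring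
        _ ≤ 2 ^ (h * k) * (2 ^ k * s2 k) := by
            apply Nat.mul_le_mul_left
            calc 2 ≤ 2 ^ k := h3
              _ ≤ 2 ^ k * s2 k := Nat.le_mul_of_pos_right _ (s2_pos k)
        _ ≤ 2 ^ (h * k) * s2 (h * k) := Nat.mul_le_mul_left _ h1
  have hB : s2 (2 * (h * k)) * s2 k ≤ s2 m := by
    refine (s2_mul_le _ _).trans (s2_mono ?_)
    have : p * k ≤ m := Nat.mul_div_le m p
    rw [hh] at this
    nlinarith
  calc 2 * (p ^ padicValNat p k ! * p ^ k) = p ^ padicValNat p k ! * (2 * p ^ k) := by ring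
    _ ≤ s2 k * s2 (2 * (h * k)) := Nat.mul_le_mul ihk hA
    _ = s2 (2 * (h * k)) * s2 k := mul_comm _ _
    _ ≤ s2 m := hB

lemma three_pow_aux' : ∀ j : ℕ, 2 * 3 ^ (3 ^ (j + 2)) ≤ 2 ^ (3 ^ (j + 2)) * s2 (3 ^ (j + 2)) := by
  intro j
  induction j with
  | zero =>
    have e9 : (3 : ℕ) ^ (0 + 2) = 9 := by norm_num
    rw [e9, s2_nine]
    norm_num
  | succ j ih =>
    set k := 3 ^ (j + 2) with hk
    have e : 3 ^ (j + 1 + 2) = 3 * k := by rw [hk]; ring
    rw [e]
    have hs : 2 ^ k * s2 k * s2 k ≤ s2 (3 * k) := by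
      have : 3 * k = 2 * k + k := by ring
      rw [this]
      calc 2 ^ k * s2 k * s2 k = s2 (2 * k) * s2 k := by rw [s2_two_mul]
        _ ≤ s2 (2 * k + k) := s2_mul_le _ _
    have h1 : 3 ^ (3 * k) = (3 ^ k) ^ 3 := by rw [← pow_mul, mul_comm]
    have h2 : (2 * 3 ^ k) ^ 3 ≤ (2 ^ k * s2 k) ^ 3 := Nat.pow_le_pow_left ih 3
    have h3 : s2 k ≤ 2 ^ k := s2_le_two_pow k
    have h4 : (2 ^ k * s2 k) ^ 3 ≤ 2 ^ (3 * k) * (2 ^ k * s2 k * s2 k) := by
      have : (2:ℕ) ^ (3 * k) = 2 ^ k * 2 ^ k * 2 ^ k := by rw [← pow_add, ← pow_add]; ring_nf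
      rw [this]
      have hp : 0 < s2 k := s2_pos k
      have hq : 0 < 2 ^ k := by positivity
      nlinarith [Nat.mul_le_mul_left (2 ^ k * 2 ^ k * 2 ^ k * s2 k * s2 k) h3, mul_pos hp hp, mul_pos hq hq]
    have h5 : 2 * 3 ^ (3 * k) ≤ (2 * 3 ^ k) ^ 3 := by
      rw [h1, mul_pow]
      have : 0 < (3 ^ k) ^ 3 := by positivity
      nlinarith
    exact h5.trans (h2.trans (h4.trans (Nat.mul_le_mul_left _ hs)))

lemma two_mul_three_pow_le (j : ℕ) :
    2 * 3 ^ padicValNat 3 (3 ^ (j + 3))! ≤ s2 (3 ^ (j + 3)) := by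
  set k := 3 ^ (j + 2) with hk
  have e : 3 ^ (j + 3) = 3 * k := by rw [hk]; ring
  rw [e, padicValNat_factorial_mul, pow_add]
  have ha := three_pow_aux' j
  have hb := (three_pow_aux j).2
  rw [← hk] at ha hb
  have hs : 2 ^ k * s2 k * s2 k ≤ s2 (3 * k) := by
    have : 3 * k = 2 * k + k := by ring
    rw [this]
    calc 2 ^ k * s2 k * s2 k = s2 (2 * k) * s2 k := by rw [s2_two_mul]
      _ ≤ s2 (2 * k + k) := s2_mul_le _ _
  calc 2 * (3 ^ padicValNat 3 k ! * 3 ^ k) = 3 ^ padicValNat 3 k ! * (2 * 3 ^ k) := by ring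
    _ ≤ s2 k * (2 ^ k * s2 k) := Nat.mul_le_mul hb ha
    _ = 2 ^ k * s2 k * s2 k := by ring
    _ ≤ s2 (3 * k) := hs

lemma padicValNat_self_factorial (p : ℕ) [hp : Fact p.Prime] : padicValNat p p ! = 1 := by
  have h2 : padicValNat p p ! = padicValNat p (p * 1)! := by rw [mul_one]
  rw [h2, padicValNat_factorial_mul]; simp

/-- the transitive `p`-group step, `p` odd -/
lemma pow_padic_le_E (p : ℕ) [hp : Fact p.Prime] (hp2 : p ≠ 2) (b : ℕ) (hb : 1 ≤ b) :
    p ^ padicValNat p (p ^ b)! ≤ E (p ^ b) := by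
  have hp2' := hp.out.two_le
  have hpb : p ≤ p ^ b := by
    calc p = p ^ 1 := (pow_one p).symm
      _ ≤ p ^ b := Nat.pow_le_pow_right (by omega) hb
  rcases Nat.lt_or_ge p 7 with h | h
  · have : p = 3 ∨ p = 5 := by
      interval_cases p
      · exact absurd rfl hp2
      · left; rfl
      · exfalso; exact absurd hp.out (by norm_num)
      · right; rfl
      · exfalso; exact absurd hp.out (by norm_num)
    rcases this with rfl | rfl
    · obtain ⟨j, rfl⟩ | rfl | rfl : (∃ j, b = j + 3) ∨ b = 1 ∨ b = 2 := by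
        rcases Nat.lt_or_ge b 3 with h | h
        · right; omega
        · left; exact ⟨b - 3, by omega⟩
      · apply le_E_of_two_mul_le_F (by omega)
        exact (two_mul_three_pow_le j).trans (s2_le_F _)
      · rw [pow_one, padicValNat_self_factorial]
        norm_num [E]
      · have h1 : padicValNat 3 (3 ^ 2)! = padicValNat 3 (3 * 3)! := rfl
        rw [h1, padicValNat_factorial_mul, padicValNat_self_factorial]
        norm_num [E]
    · obtain ⟨j, rfl⟩ | rfl : (∃ j, b = j + 2) ∨ b = 1 := by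
        rcases Nat.lt_or_ge b 2 with h | h
        · right; omega
        · left; exact ⟨b - 2, by omega⟩
      · apply le_E_of_two_mul_le_F (by omega)
        refine (two_mul_pow_padic_le_s2 5 le_rfl _ (Or.inl ?_)).trans (s2_le_F _)
        have : (5:ℕ) ^ 2 ≤ 5 ^ (j + 2) := Nat.pow_le_pow_right (by norm_num) (by omega)
        omega
      · rw [pow_one, padicValNat_self_factorial]
        norm_num [E]
  · apply le_E_of_two_mul_le_F (by omega)
    exact (two_mul_pow_padic_le_s2 p (by omega) _ (Or.inr ⟨h, hpb⟩)).trans (s2_le_F _)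

/-! group theory -/

universe u

lemma card_le_F_mul_F {G : Type u} [Group G] [Finite G] [Group.IsNilpotent G] (p : ℕ)
    [hp : Fact p.Prime] (A : Sylow p G) (S : Subgroup G) (hS : S.normalCore = ⊥) :
    Nat.card G ≤ F (S.subgroupOf (A : Subgroup G)).index * F ((A : Subgroup G) ⊔ S).index := by
  have hAn : (A : Subgroup G).Normal := inferInstance
  have hA1 : Nat.card (A : Subgroup G) ≤ F (S.subgroupOf (A : Subgroup G)).index :=
    card_le_F_of_pgroup p A.isPGroup' _ (normalCore_subgroupOf_eq_bot p A S hS)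
  let π := QuotientGroup.mk' (A : Subgroup G)
  set S' : Subgroup (G ⧸ (A : Subgroup G)) := ((A : Subgroup G) ⊔ S).map π with hS'
  have hker : π.ker ≤ (A : Subgroup G) ⊔ S := by
    rw [QuotientGroup.ker_mk']; exact le_sup_left
  have hidx : S'.index = ((A : Subgroup G) ⊔ S).index :=
    Subgroup.index_map_eq _ (QuotientGroup.mk'_surjective _) hker
  have hcore : S'.normalCore = ⊥ := by
    rw [eq_bot_iff]
    intro x hx
    obtain ⟨g, rfl⟩ := QuotientGroup.mk'_surjective (A : Subgroup G) x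
    have hg : g ∈ ((A : Subgroup G) ⊔ S).normalCore := by
      intro h
      have := hx (π h)
      rw [← map_inv, ← map_mul, ← map_mul, hS'] at this
      have h2 := Subgroup.mem_comap.2 this
      rwa [Subgroup.comap_map_eq_self hker] at h2
    rw [normalCore_sup_eq p A S hS] at hg
    rw [Subgroup.mem_bot]
    exact (QuotientGroup.eq_one_iff g).2 hg
  have hcardQ : Nat.card (G ⧸ (A : Subgroup G)) * Nat.card (A : Subgroup G) = Nat.card G :=
    (Subgroup.card_eq_card_quotient_mul_card_subgroup _).symm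
  have hQ := card_le_F_index S' hcore
  rw [hidx] at hQ
  rw [← hcardQ, mul_comm]
  exact Nat.mul_le_mul hA1 hQ

/-- The transitive step. -/
lemma card_le_E_of_corefree {G : Type u} [Group G] [Finite G] [Group.IsNilpotent G]
    (S : Subgroup G) (hS : S.normalCore = ⊥) (hn : 2 ≤ S.index)
    (h2 : IsPGroup 2 G → 2 * Nat.card G ≤ s2 S.index) : Nat.card G ≤ E S.index := by
  have h1 : Nat.card G ≠ 1 := by
    intro h
    have : S.index ∣ Nat.card G := Subgroup.index_dvd_card S
    rw [h] at this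
    have := Nat.le_of_dvd one_pos this
    omega
  set p := (Nat.card G).minFac with hp
  have hpp : p.Prime := Nat.minFac_prime h1
  have : Fact p.Prime := ⟨hpp⟩
  have hpd : p ∣ Nat.card G := Nat.minFac_dvd _
  let A : Sylow p G := default
  have hAn : (A : Subgroup G).Normal := inferInstance
  have hcardA : 1 < Nat.card (A : Subgroup G) := by
    rw [Sylow.card_eq_multiplicity]
    have : 0 < (Nat.card G).factorization p :=
      hpp.factorization_pos_of_dvd Nat.card_pos.ne' hpd
    exact Nat.one_lt_pow this.ne' hpp.one_lt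
  by_cases hA : (A : Subgroup G) = ⊤
  · -- `G` is a `p`-group
    have hG : IsPGroup p G := by
      have := A.isPGroup'
      rw [hA] at this
      exact IsPGroup.of_equiv this Subgroup.topEquiv
    by_cases hp2 : p = 2
    · have h3 := h2 (hp2 ▸ hG)
      exact le_E_of_two_mul_le_F hn (h3.trans (s2_le_F _))
    · obtain ⟨b, hb⟩ := hG.index S
      obtain ⟨a, ha⟩ := IsPGroup.iff_card.1 hG
      have hinj : Function.Injective (MulAction.toPermHom G (G ⧸ S)) := by
        rw [← MonoidHom.ker_eq_bot_iff, ← Subgroup.normalCore_eq_ker, hS]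
      have hdvd : Nat.card G ∣ (p ^ b)! := by
        have := Subgroup.card_dvd_of_injective _ hinj
        rwa [Nat.card_perm, ← Subgroup.index_eq_card, hb] at this
      rw [ha] at hdvd
      have hle : a ≤ padicValNat p (p ^ b)! :=
        (padicValNat_dvd_iff_le (Nat.factorial_ne_zero _)).1 hdvd
      have hb1 : 1 ≤ b := by
        rcases Nat.eq_zero_or_pos b with h | h
        · rw [h, pow_zero] at hb; omega
        · exact h
      rw [ha, hb]
      exact (Nat.pow_le_pow_right hpp.pos hle).trans (pow_padic_le_E p hp2 b hb1)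
  · have hm1 : 2 ≤ (S.subgroupOf (A : Subgroup G)).index := by
      have h0 : (S.subgroupOf (A : Subgroup G)).index ≠ 0 := Subgroup.index_ne_zero_of_finite
      have h1' : (S.subgroupOf (A : Subgroup G)).index ≠ 1 := by
        intro h
        rw [Subgroup.index_eq_one, Subgroup.subgroupOf_eq_top] at h
        have : (A : Subgroup G) ≤ S.normalCore := Subgroup.normal_le_normalCore.2 h
        rw [hS, le_bot_iff] at this
        rw [this] at hcardA
        simp at hcardA
      omega
    have hm2 : 2 ≤ ((A : Subgroup G) ⊔ S).index := by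
      have h0 : ((A : Subgroup G) ⊔ S).index ≠ 0 := Subgroup.index_ne_zero_of_finite
      have h1' : ((A : Subgroup G) ⊔ S).index ≠ 1 := by
        intro h
        rw [Subgroup.index_eq_one] at h
        have := normalCore_sup_eq p A S hS
        rw [h] at this
        apply hA
        rw [← this]
        exact Subgroup.normalCore_eq_self ⊤
      omega
    rw [index_eq_mul_of_normal (A : Subgroup G) S]
    exact (card_le_F_mul_F p A S hS).trans (F_mul_F_le_E hm1 hm2)

universe v

section Perm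
variable {α : Type v} [Fintype α] [DecidableEq α]

omit [Fintype α] [DecidableEq α] in
lemma card_compl_add (s : Set α) [Finite α] :
    Nat.card s + Nat.card ↥(sᶜ : Set α) = Nat.card α := by
  classical
  rw [← Nat.card_sum]
  exact Nat.card_congr (Equiv.Set.sumCompl s)

/-- The kernel of the restriction to an invariant set acts faithfully and evenly on the
complement. -/
lemma card_ker_restrictHom_le (N : Subgroup (Equiv.Perm α)) (hN : Group.IsNilpotent N)
    (hA : N ≤ alternatingGroup α) (s : Set α) [DecidablePred (· ∈ s)]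
    (hs : ∀ g ∈ N, ∀ x, g x ∈ s ↔ x ∈ s)
    (hs' : ∀ g ∈ N, ∀ x, g x ∈ (sᶜ : Set α) ↔ x ∈ (sᶜ : Set α)) (X : ℕ)
    [Fintype ↥(sᶜ : Set α)]
    (ih : ∀ M : Subgroup (Equiv.Perm ↥(sᶜ : Set α)), Group.IsNilpotent M →
      M ≤ alternatingGroup ↥(sᶜ : Set α) → Nat.card M ≤ X) :
    Nat.card (restrictHom N s hs).ker ≤ X := by
  set rs := restrictHom N s hs with hrs
  set rc := restrictHom N (sᶜ : Set α) hs' with hrc
  let θ : rs.ker →* Equiv.Perm ↥(sᶜ : Set α) := rc.comp rs.ker.subtype
  have hθ : Function.Injective θ := by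
    rw [injective_iff_map_eq_one]
    intro g hg
    apply Subtype.ext
    apply Subtype.ext
    apply Equiv.ext
    intro x
    by_cases hx : x ∈ s
    · have h1 : rs g.1 = 1 := g.2
      exact congrArg (fun z : Equiv.Perm s => ((z ⟨x, hx⟩ : s) : α)) h1
    · exact congrArg (fun z : Equiv.Perm (sᶜ : Set α) => ((z ⟨x, hx⟩ : (sᶜ : Set α)) : α)) hg
  have hnil : Group.IsNilpotent θ.range :=
    Group.nilpotent_of_surjective θ.rangeRestrict (MonoidHom.rangeRestrict_surjective _)
  have heven : θ.range ≤ alternatingGroup ↥(sᶜ : Set α) := by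
    rintro _ ⟨g, rfl⟩
    rw [Equiv.Perm.mem_alternatingGroup]
    have hg1 : rs g.1 = 1 := g.2
    have hfix : ∀ x, ((g.1 : N) : Equiv.Perm α) x ≠ x → x ∈ (sᶜ : Set α) := by
      intro x hx hxs
      apply hx
      exact congrArg (fun z : Equiv.Perm s => ((z ⟨x, hxs⟩ : s) : α)) hg1
    have h1 : Equiv.Perm.sign (θ g) = Equiv.Perm.sign ((g.1 : N) : Equiv.Perm α) := by
      have := Equiv.Perm.sign_subtypePerm ((g.1 : N) : Equiv.Perm α)
        (p := fun x => x ∈ (sᶜ : Set α)) (hs' _ g.1.2) hfix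
      convert this
      rfl
    rw [h1]
    exact Equiv.Perm.mem_alternatingGroup.1 (hA g.1.2)
  have := ih θ.range hnil heven
  rwa [← Nat.card_congr (MonoidHom.ofInjective hθ).toEquiv] at this

end Perm

theorem card_le_E_alt_aux : ∀ (n : ℕ) (α : Type v) [Fintype α] [DecidableEq α]
    (N : Subgroup (Equiv.Perm α)), Group.IsNilpotent N → N ≤ alternatingGroup α →
    Nat.card α = n → Nat.card N ≤ E n := by
  intro n
  induction n using Nat.strong_induction_on with
  | _ n ih =>
    intro α _ _ N hN hA hn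
    by_cases hn1 : n ≤ 1
    · rw [E_of_le_one hn1]
      have h1 : Nat.card N ≤ Nat.card (Equiv.Perm α) := Subgroup.card_le_card_group N
      rw [Nat.card_perm, hn] at h1
      have : n ! = 1 := by interval_cases n <;> rfl
      omega
    have hn2 : 2 ≤ n := by omega
    have hne : Nonempty α := by
      rw [← Finite.card_pos_iff, hn]; omega
    have hnt : Nontrivial α := by
      rw [← Finite.one_lt_card_iff_nontrivial, hn]; omega
    obtain ⟨a⟩ := hne
    set s : Set α := MulAction.orbit N a with hs_def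
    have hs : ∀ g ∈ N, ∀ x, g x ∈ s ↔ x ∈ s := orbit_invariant N a
    by_cases htr : ∀ b, b ∈ s
    · -- transitive case
      let S : Subgroup N := MulAction.stabilizer N a
      have hidx : S.index = n := by
        rw [MulAction.index_stabilizer, ← hn]
        have : MulAction.orbit N a = Set.univ := Set.eq_univ_of_forall htr
        rw [this, Set.ncard_univ]
      have hcore : S.normalCore = ⊥ := by
        rw [eq_bot_iff]
        intro x hx
        rw [Subgroup.mem_bot]
        apply Subtype.ext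
        apply Equiv.ext
        intro b
        obtain ⟨h, rfl⟩ := MulAction.mem_orbit_iff.1 (htr b)
        have h1 : (h⁻¹ * x * h⁻¹⁻¹) • a = a := MulAction.mem_stabilizer_iff.1 (hx h⁻¹)
        rw [inv_inv, mul_smul, mul_smul, inv_smul_eq_iff] at h1
        exact h1
      have := card_le_E_of_corefree S hcore (by omega) ?_
      · rwa [hidx] at this
      · intro h2
        rw [hidx]
        obtain ⟨k, hk⟩ := IsPGroup.iff_card.1 h2
        have hd1 : Nat.card N ∣ Nat.card (alternatingGroup α) := Subgroup.card_dvd_of_le hA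
        have hd2 : 2 * Nat.card N ∣ n ! := by
          rw [← hn, ← Nat.card_perm, ← two_mul_nat_card_alternatingGroup]
          exact Nat.mul_dvd_mul_left 2 hd1
        rw [hk, ← pow_succ'] at hd2
        have hle : k + 1 ≤ padicValNat 2 n ! :=
          (padicValNat_dvd_iff_le (Nat.factorial_ne_zero _)).1 hd2
        rw [hk, ← pow_succ']
        exact Nat.pow_le_pow_right (by norm_num) hle
    · -- intransitive case
      obtain ⟨b, hb⟩ := not_forall.1 htr
      classical
      have hs' : ∀ g ∈ N, ∀ x, g x ∈ (sᶜ : Set α) ↔ x ∈ (sᶜ : Set α) :=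
        fun g hg x => not_congr (hs g hg x)
      have hs'' : ∀ g ∈ N, ∀ x, g x ∈ ((sᶜ)ᶜ : Set α) ↔ x ∈ ((sᶜ)ᶜ : Set α) :=
        fun g hg x => not_congr (hs' g hg x)
      have hcard : Nat.card s + Nat.card ↥(sᶜ : Set α) = n := by
        rw [← hn]; exact card_compl_add s
      have hpos1 : 0 < Nat.card s := by
        have : Nonempty s := ⟨⟨a, MulAction.mem_orbit_self a⟩⟩
        exact Nat.card_pos
      have hpos2 : 0 < Nat.card ↥(sᶜ : Set α) := by
        have : Nonempty ↥(sᶜ : Set α) := ⟨⟨b, hb⟩⟩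
        exact Nat.card_pos
      set rs := restrictHom N s hs with hrs
      set rc := restrictHom N (sᶜ : Set α) hs' with hrc
      have e1 : Nat.card N = Nat.card rs.range * Nat.card rs.ker := card_eq_range_mul_ker rs
      have e2 : Nat.card N = Nat.card rc.range * Nat.card rc.ker := card_eq_range_mul_ker rc
      have b1 : Nat.card rs.range ≤ F (Nat.card s) :=
        card_le_F_perm rs.range
          (Group.nilpotent_of_surjective rs.rangeRestrict (MonoidHom.rangeRestrict_surjective _))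
      have b3 : Nat.card rc.range ≤ F (Nat.card ↥(sᶜ : Set α)) :=
        card_le_F_perm rc.range
          (Group.nilpotent_of_surjective rc.rangeRestrict (MonoidHom.rangeRestrict_surjective _))
      have b2 : Nat.card rs.ker ≤ E (Nat.card ↥(sᶜ : Set α)) :=
        card_ker_restrictHom_le N hN hA s hs hs' _
          (fun M hM hMA => ih _ (by omega) ↥(sᶜ : Set α) M hM hMA rfl)
      have b4 : Nat.card rc.ker ≤ E (Nat.card s) := by
        have hc : Nat.card ↥((sᶜ)ᶜ : Set α) = Nat.card s := by rw [compl_compl]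
        have := card_ker_restrictHom_le N hN hA (sᶜ : Set α) hs' hs'' _
          (fun M hM hMA => ih _ (by omega) ↥((sᶜ)ᶜ : Set α) M hM hMA rfl)
        rwa [hc] at this
      rcases E_step hpos1 hpos2 with h | h
      · rw [hcard] at h
        calc Nat.card N = Nat.card rs.range * Nat.card rs.ker := e1
          _ ≤ F (Nat.card s) * E (Nat.card ↥(sᶜ : Set α)) := Nat.mul_le_mul b1 b2
          _ ≤ E n := h
      · rw [hcard] at h
        calc Nat.card N = Nat.card rc.range * Nat.card rc.ker := e2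
          _ ≤ F (Nat.card ↥(sᶜ : Set α)) * E (Nat.card s) := Nat.mul_le_mul b3 b4
          _ ≤ E n := h

/-- A nilpotent group of even permutations of `n` points has order at most `E n`. -/
theorem card_le_E_alt {α : Type v} [Fintype α] [DecidableEq α] (N : Subgroup (Equiv.Perm α))
    (hN : Group.IsNilpotent N) (hA : N ≤ alternatingGroup α) : Nat.card N ≤ E (Nat.card α) :=
  card_le_E_alt_aux _ α N hN hA rfl

lemma card_le_E_of_subgroup_alt {n : ℕ} (N : Subgroup (alternatingGroup (Fin n)))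
    (hN : Group.IsNilpotent N) : Nat.card N ≤ E n := by
  set N' : Subgroup (Equiv.Perm (Fin n)) := N.map (alternatingGroup (Fin n)).subtype with hN'
  have hinj : Function.Injective (alternatingGroup (Fin n)).subtype := Subgroup.subtype_injective _
  have hc : Nat.card N' = Nat.card N := Subgroup.card_map_of_injective hinj
  have hnil : Group.IsNilpotent N' :=
    Group.nilpotent_of_mulEquiv (Subgroup.equivMapOfInjective N _ hinj)
  have hle : N' ≤ alternatingGroup (Fin n) := Subgroup.map_subtype_le N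
  have := card_le_E_alt N' hnil hle
  rwa [hc, Nat.card_fin] at this

lemma two_mul_card_sylow_alt {n : ℕ} (hn : 2 ≤ n) (P : Sylow 2 (alternatingGroup (Fin n))) :
    2 * Nat.card P = s2 n := by
  have : Fact (Nat.Prime 2) := ⟨Nat.prime_two⟩
  have hnt : Nontrivial (Fin n) := Fin.nontrivial_iff_two_le.2 hn
  have h1 : 2 * Nat.card (alternatingGroup (Fin n)) = n ! := by
    rw [two_mul_nat_card_alternatingGroup, Nat.card_perm, Nat.card_fin]
  have hc0 : Nat.card (alternatingGroup (Fin n)) ≠ 0 := Nat.card_pos.ne'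
  rw [Sylow.card_eq_multiplicity, Nat.factorization_def _ Nat.prime_two]
  unfold s2
  rw [← h1, padicValNat.mul (by norm_num) hc0, padicValNat_self, pow_add, pow_one]

end Cfsg.Agent.Lib.Helper29_NilpAlt
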