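import Cfsg.Agent.Lib.Helper29_NilpAlt

/-!
Nilpotent subgroups of `Alt(n)` of the largest order when `n ≡ 3 (mod 4)`, `n ≥ 7`: they have order
`3 * s2 (n - 3) / 2`, are of the shape `C₃ × (Sylow 2-subgroup of Alt(n-3))`, and are all conjugate
in `Alt(n)`.
-/

set_option autoImplicit false

open Nat
open scoped Pointwise

namespace Cfsg.Agent.Lib.Helper29_NilpAlt2

open Cfsg.Agent.Lib.Helper29_NilpSym Cfsg.Agent.Lib.Helper29_NilpSym2 Cfsg.Agent.Lib.Helper29_NilpAlt

/-! numeric -/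

lemma eight_mul_s2_le {m : ℕ} (h4 : 4 ≤ m) (h : m % 4 = 0) : 8 * s2 (m - 4) ≤ s2 m := by
  obtain ⟨k, rfl⟩ : ∃ k, m = k + 4 := ⟨m - 4, by omega⟩
  simp only [Nat.add_sub_cancel]
  unfold s2
  have e2 : (k + 4)! = ((k + 4) * (k + 3) * (k + 2) * (k + 1)) * k ! := by
    rw [Nat.factorial_succ, Nat.factorial_succ, Nat.factorial_succ, Nat.factorial_succ]; ring
  have hd : 8 ∣ (k + 4) * (k + 3) * (k + 2) * (k + 1) := by
    obtain ⟨c, hc⟩ : 4 ∣ k + 4 := Nat.dvd_of_mod_eq_zero h
    obtain ⟨d, hd⟩ : 2 ∣ k + 2 := by omega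
    refine ⟨c * (k + 3) * d * (k + 1), ?_⟩
    rw [hc, hd]; ring
  have hne : (k + 4) * (k + 3) * (k + 2) * (k + 1) ≠ 0 := by positivity
  rw [e2, padicValNat.mul hne (factorial_ne_zero k), pow_add]
  apply Nat.mul_le_mul_right
  have : 3 ≤ padicValNat 2 ((k + 4) * (k + 3) * (k + 2) * (k + 1)) := by
    rw [← padicValNat_dvd_iff_le hne]
    exact hd
  calc 8 = 2 ^ 3 := by norm_num
    _ ≤ _ := Nat.pow_le_pow_right (by norm_num) this

universe u

lemma card_le_three_mul_F {G : Type u} [Group G] [Finite G] [Group.IsNilpotent G]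
    (S : Subgroup G) (hS : S.normalCore = ⊥) (h3 : 3 ∣ Nat.card G) (h9 : ¬ 9 ∣ Nat.card G) :
    ∃ m, S.index = 3 * m ∧ Nat.card G ≤ 3 * F m := by
  have : Fact (Nat.Prime 3) := ⟨Nat.prime_three⟩
  let A : Sylow 3 G := default
  have hAn : (A : Subgroup G).Normal := inferInstance
  have hcardA : 1 < Nat.card (A : Subgroup G) := by
    rw [Sylow.card_eq_multiplicity]
    have : 0 < (Nat.card G).factorization 3 :=
      Nat.prime_three.factorization_pos_of_dvd Nat.card_pos.ne' h3
    exact Nat.one_lt_pow this.ne' (by norm_num)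
  obtain ⟨b, hb⟩ := (A.isPGroup').index (S.subgroupOf (A : Subgroup G))
  have hdvd : (S.subgroupOf (A : Subgroup G)).index ∣ Nat.card G :=
    (Subgroup.index_dvd_card _).trans (Subgroup.card_subgroup_dvd_card _)
  have hb1 : b = 1 := by
    rcases Nat.lt_or_ge b 2 with h | h
    · interval_cases b
      · exfalso
        rw [pow_zero, Subgroup.index_eq_one, Subgroup.subgroupOf_eq_top] at hb
        have : (A : Subgroup G) ≤ S.normalCore := Subgroup.normal_le_normalCore.2 hb
        rw [hS, le_bot_iff] at this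
        rw [this] at hcardA
        simp at hcardA
      · rfl
    · exfalso
      apply h9
      rw [hb] at hdvd
      exact (pow_dvd_pow 3 h).trans hdvd
  rw [hb1, pow_one] at hb
  refine ⟨((A : Subgroup G) ⊔ S).index, ?_, ?_⟩
  · rw [index_eq_mul_of_normal (A : Subgroup G) S, hb]
  · have := card_le_F_mul_F 3 A S hS
    rwa [hb, F_three] at this

universe v

section Perm
variable {α : Type v} [Fintype α] [DecidableEq α]

/-- The standard shape of a nilpotent subgroup of largest order of `Alt(n)`, `n ≡ 3 (mod 4)`. -/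
def IsStdA (N : Subgroup (Equiv.Perm α)) (s : Set α) : Prop :=
  Nat.card s = 3 ∧ 2 * Nat.card ↥(N ⊓ fixSub s) = s2 (Nat.card α - 3) ∧
    Nat.card ↥(N ⊓ fixSub (sᶜ : Set α)) = 3 ∧ N = (N ⊓ fixSub s) ⊔ (N ⊓ fixSub (sᶜ : Set α))

theorem exists_isStdA (N : Subgroup (Equiv.Perm α)) (hN : Group.IsNilpotent N)
    (hn : Nat.card α % 4 = 3) (h7 : 7 ≤ Nat.card α)
    (hcard : 2 * Nat.card N = 3 * s2 (Nat.card α - 3)) :
    ∃ s : Set α, IsStdA N s := by
  classical
  set n := Nat.card α with hn_def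
  set H := s2 (n - 3) with hH
  have hH8 : 8 * s2 (n - 7) ≤ H := by
    have := eight_mul_s2_le (m := n - 3) (by omega) (by omega)
    have e : n - 3 - 4 = n - 7 := by omega
    rwa [e] at this
  have hs2pos : 0 < s2 (n - 7) := s2_pos _
  -- an element of order 3
  have h3 : 3 ∣ Nat.card N := by
    have : 3 ∣ 2 * Nat.card N := ⟨_, hcard⟩
    exact (Nat.Coprime.dvd_mul_left (by norm_num)).1 this
  have h9 : ¬ 9 ∣ Nat.card N := by
    intro h
    have : 9 ∣ 3 * H := by rw [← hcard]; exact Dvd.dvd.mul_left h 2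
    have h3H : 3 ∣ H := by
      obtain ⟨c, hc⟩ := this
      exact ⟨c, by omega⟩
    have : 3 ∣ 2 := by
      rw [hH] at h3H
      unfold s2 at h3H
      exact Nat.Prime.dvd_of_dvd_pow Nat.prime_three h3H
    omega
  have : Fact (Nat.Prime 3) := ⟨Nat.prime_three⟩
  obtain ⟨c, hc⟩ := exists_prime_orderOf_dvd_card' 3 h3
  have hc1 : c ≠ 1 := by
    intro h; rw [h, orderOf_one] at hc; omega
  obtain ⟨a, ha⟩ : ∃ a, (c : Equiv.Perm α) a ≠ a := by
    by_contra hcon
    apply hc1
    apply Subtype.ext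
    apply Equiv.ext
    intro x
    by_contra hx
    exact hcon ⟨x, hx⟩
  set s : Set α := MulAction.orbit N a with hs_def
  have has : a ∈ s := MulAction.mem_orbit_self a
  have hs : ∀ g ∈ N, ∀ x, g x ∈ s ↔ x ∈ s := orbit_invariant N a
  have hs' : ∀ g ∈ N, ∀ x, g x ∈ (sᶜ : Set α) ↔ x ∈ (sᶜ : Set α) :=
    fun g hg x => not_congr (hs g hg x)
  set rs := restrictHom N s hs with hrs
  set rc := restrictHom N (sᶜ : Set α) hs' with hrc
  have hcs : Nat.card s + Nat.card ↥(sᶜ : Set α) = n := card_compl_add s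
  have e1 : Nat.card N = Nat.card rs.range * Nat.card rs.ker := card_eq_range_mul_ker rs
  have e2 : Nat.card N = Nat.card rc.range * Nat.card rc.ker := card_eq_range_mul_ker rc
  have hRnil : Group.IsNilpotent rs.range :=
    Group.nilpotent_of_surjective rs.rangeRestrict (MonoidHom.rangeRestrict_surjective _)
  have b3 : Nat.card rc.range ≤ F (Nat.card ↥(sᶜ : Set α)) :=
    card_le_F_perm rc.range
      (Group.nilpotent_of_surjective rc.rangeRestrict (MonoidHom.rangeRestrict_surjective _))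
  have hdisj : ∀ g : N, rs g = 1 → rc g = 1 → g = 1 := by
    intro g h1 h2
    apply Subtype.ext
    apply Equiv.ext
    intro x
    by_cases hx : x ∈ s
    · exact congrArg (fun z : Equiv.Perm s => ((z ⟨x, hx⟩ : s) : α)) h1
    · exact congrArg (fun z : Equiv.Perm (sᶜ : Set α) => ((z ⟨x, hx⟩ : (sᶜ : Set α)) : α)) h2
  have b2 : Nat.card rs.ker ≤ F (Nat.card ↥(sᶜ : Set α)) := by
    let θ : rs.ker →* Equiv.Perm ↥(sᶜ : Set α) := rc.comp rs.ker.subtype
    have hθ : Function.Injective θ := by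
      rw [injective_iff_map_eq_one]
      intro g hg
      apply Subtype.ext
      exact hdisj g.1 g.2 hg
    have hnil : Group.IsNilpotent θ.range :=
      Group.nilpotent_of_surjective θ.rangeRestrict (MonoidHom.rangeRestrict_surjective _)
    have := card_le_F_perm θ.range hnil
    rwa [← Nat.card_congr (MonoidHom.ofInjective hθ).toEquiv] at this
  -- `rs c` has order 3
  have hrsc : rs c ≠ 1 := by
    intro h
    apply ha
    exact congrArg (fun z : Equiv.Perm s => ((z ⟨a, has⟩ : s) : α)) h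
  have hrsc3 : orderOf (rs c) = 3 := by
    have hd : orderOf (rs c) ∣ 3 := by
      apply orderOf_dvd_of_pow_eq_one
      rw [← map_pow, ← hc, pow_orderOf_eq_one, map_one]
    rcases (Nat.dvd_prime Nat.prime_three).1 hd with h | h
    · exact absurd (orderOf_eq_one_iff.1 h) hrsc
    · exact h
  have h3r : 3 ∣ Nat.card rs.range := by
    have := Subgroup.orderOf_dvd_natCard rs.range (⟨c, rfl⟩ : rs c ∈ rs.range)
    rwa [hrsc3] at this
  have h9r : ¬ 9 ∣ Nat.card rs.range := by
    intro h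
    apply h9
    rw [e1]
    exact Dvd.dvd.mul_right h _
  -- transitivity of the range on `s`
  have hsne : Nonempty s := ⟨⟨a, has⟩⟩
  let a' : s := ⟨a, has⟩
  have htrans : ∀ b : s, ∃ r ∈ rs.range, r a' = b := by
    rintro ⟨b, hb⟩
    obtain ⟨g, rfl⟩ := MulAction.mem_orbit_iff.1 hb
    exact ⟨rs g, ⟨g, rfl⟩, Subtype.ext rfl⟩
  let S : Subgroup rs.range := MulAction.stabilizer rs.range a'
  have hidx : S.index = Nat.card s := by
    rw [MulAction.index_stabilizer]
    have : MulAction.orbit rs.range a' = Set.univ := by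
      apply Set.eq_univ_of_forall
      intro b
      obtain ⟨r, hr, hrb⟩ := htrans b
      exact ⟨⟨r, hr⟩, hrb⟩
    rw [this, Set.ncard_univ]
  have hcore : S.normalCore = ⊥ := by
    rw [eq_bot_iff]
    intro x hx
    rw [Subgroup.mem_bot]
    apply Subtype.ext
    apply Equiv.ext
    intro b
    obtain ⟨r, hr, rfl⟩ := htrans b
    have h1 : ((⟨r, hr⟩ : rs.range)⁻¹ * x * (⟨r, hr⟩ : rs.range)⁻¹⁻¹) • a' = a' :=
      MulAction.mem_stabilizer_iff.1 (hx (⟨r, hr⟩ : rs.range)⁻¹)
    rw [inv_inv, mul_smul, mul_smul, inv_smul_eq_iff] at h1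
    exact h1
  obtain ⟨m, hm1, hm2⟩ := card_le_three_mul_F S hcore h3r h9r
  rw [hidx] at hm1
  -- `m = 1`
  have hm : m = 1 := by
    by_contra hne
    have hm0 : m ≠ 0 := by
      rintro rfl
      have : Nat.card s = 0 := hm1
      have := Nat.card_pos (α := s)
      omega
    have hm2' : 2 ≤ m := by omega
    have hle : Nat.card N ≤ 3 * F (n - 4) := by
      calc Nat.card N = Nat.card rs.range * Nat.card rs.ker := e1
        _ ≤ (3 * F m) * F (Nat.card ↥(sᶜ : Set α)) := Nat.mul_le_mul hm2 b2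
        _ = 3 * (F m * F (Nat.card ↥(sᶜ : Set α))) := by ring
        _ ≤ 3 * F (m + Nat.card ↥(sᶜ : Set α)) := Nat.mul_le_mul_left _ (F_mul_le _ _)
        _ ≤ 3 * F (n - 4) := Nat.mul_le_mul_left _ (F_mono (by omega))
    have hF : F (n - 4) = 3 * s2 (n - 7) := by
      have := F_eq_of_mod (n := n - 4) (by omega)
      have e : n - 4 - 3 = n - 7 := by omega
      rwa [e] at this
    rw [hF] at hle
    omega
  subst hm
  have hs3 : Nat.card s = 3 := by omega
  have hsc : Nat.card ↥(sᶜ : Set α) = n - 3 := by omega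
  have hFc : F (Nat.card ↥(sᶜ : Set α)) = H := by
    rw [hsc]; exact F_eq_s2 (by omega)
  rw [hFc] at b2 b3
  rw [F_one] at hm2
  have r1 : Nat.card rs.range = 3 := by
    have := Nat.le_of_dvd Nat.card_pos h3r
    omega
  have r2 : 2 * Nat.card rs.ker = H := by
    rw [r1] at e1
    omega
  -- the kernel of `rc` has order 3
  have k0 : Nat.card rc.ker ∣ 3 := by
    rw [← r1]
    let θ : rc.ker →* rs.range := rs.rangeRestrict.comp rc.ker.subtype
    have hθ : Function.Injective θ := by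
      rw [injective_iff_map_eq_one]
      intro g hg
      apply Subtype.ext
      have hg' : rs g.1 = 1 := congrArg Subtype.val hg
      exact hdisj g.1 hg' g.2
    exact Subgroup.card_dvd_of_injective θ hθ
  have k3 : Nat.card rc.ker = 3 := by
    rcases (Nat.dvd_prime Nat.prime_three).1 k0 with h | h
    · exfalso
      rw [h, mul_one] at e2
      omega
    · exact h
  have k4 : 2 * Nat.card rc.range = H := by
    rw [k3] at e2
    omega
  -- the two kernels generate `N`
  have htop : rs.ker ⊔ rc.ker = ⊤ := by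
    rw [← Subgroup.index_eq_one]
    have d1 : (rs.ker ⊔ rc.ker).index ∣ 3 := by
      have := Subgroup.index_dvd_of_le (le_sup_left : rs.ker ≤ rs.ker ⊔ rc.ker)
      rwa [Subgroup.index_ker, r1] at this
    have d2 : (rs.ker ⊔ rc.ker).index ∣ H := by
      have := Subgroup.index_dvd_of_le (le_sup_right : rc.ker ≤ rs.ker ⊔ rc.ker)
      rw [Subgroup.index_ker] at this
      exact this.trans ⟨2, by omega⟩
    have hcop : Nat.Coprime 3 H := by
      rw [hH]
      unfold s2
      apply Nat.Coprime.pow_right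
      norm_num
    exact Nat.eq_one_of_dvd_coprimes hcop d1 d2
  refine ⟨s, hs3, ?_, ?_, ?_⟩
  · rw [card_inf_fixSub N s hs, r2]
  · rw [card_inf_fixSub N (sᶜ : Set α) hs', k3]
  · rw [← map_ker_restrictHom N s hs, ← map_ker_restrictHom N (sᶜ : Set α) hs',
      ← Subgroup.map_sup, htop, ← MonoidHom.range_eq_map, Subgroup.range_subtype]

end Perm

section Perm
variable {α : Type v} [Fintype α] [DecidableEq α]

omit [Fintype α] [DecidableEq α] in
lemma IsStdA.map [Fintype α] [DecidableEq α] {N : Subgroup (Equiv.Perm α)} {s : Set α}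
    (h : IsStdA N s) (g : Equiv.Perm α) :
    IsStdA (N.map (MulAut.conj g).toMonoidHom) (g '' s) := by
  obtain ⟨h1, h2, h3, h4⟩ := h
  have hinj := conj_injective g
  have e1 : N.map (MulAut.conj g).toMonoidHom ⊓ fixSub (g '' s) =
      (N ⊓ fixSub s).map (MulAut.conj g).toMonoidHom := by
    rw [Subgroup.map_inf _ _ _ hinj, map_conj_fixSub]
  have hc : ((g '' s)ᶜ : Set α) = g '' (sᶜ : Set α) := (Set.image_compl_eq g.bijective).symm
  have e2 : N.map (MulAut.conj g).toMonoidHom ⊓ fixSub ((g '' s)ᶜ : Set α) =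
      (N ⊓ fixSub (sᶜ : Set α)).map (MulAut.conj g).toMonoidHom := by
    rw [Subgroup.map_inf _ _ _ hinj, map_conj_fixSub, hc]
  refine ⟨?_, ?_, ?_, ?_⟩
  · rw [← h1]; exact Nat.card_image_of_injective g.injective s
  · rw [e1, Subgroup.card_map_of_injective hinj, h2]
  · rw [e2, Subgroup.card_map_of_injective hinj, h3]
  · rw [e1, e2, ← Subgroup.map_sup, ← h4]

/-- the even permutations fixing `s` pointwise have index two in `fixSub s` -/
lemma two_mul_card_alt_inf_fixSub (s : Set α) (hs : 2 ≤ Nat.card ↥(sᶜ : Set α)) :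
    2 * Nat.card ↥(alternatingGroup α ⊓ fixSub s) = Nat.card (fixSub s) := by
  classical
  have hnt : Nontrivial ↥(sᶜ : Set α) := Finite.one_lt_card_iff_nontrivial.1 (by omega)
  obtain ⟨x, y, hxy⟩ := exists_pair_ne ↥(sᶜ : Set α)
  have hxy' : (x : α) ≠ y := fun h => hxy (Subtype.ext h)
  have hsw : Equiv.swap (x : α) y ∈ fixSub s := by
    intro a ha
    apply Equiv.swap_apply_of_ne_of_ne
    · rintro rfl; exact x.2 ha
    · rintro rfl; exact y.2 ha
  have hodd : Equiv.swap (x : α) y ∉ alternatingGroup α := by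
    rw [Equiv.Perm.mem_alternatingGroup, Equiv.Perm.sign_swap hxy']
    decide
  have hrel : (alternatingGroup α).relIndex (fixSub s) = 2 := by
    have hd : (alternatingGroup α).relIndex (fixSub s) ∣ 2 := by
      have := Subgroup.relIndex_dvd_index_of_normal (alternatingGroup α) (fixSub s)
      have hnt' : Nontrivial α := ⟨⟨x, y, hxy'⟩⟩
      rwa [alternatingGroup.index_eq_two] at this
    rcases (Nat.dvd_prime Nat.prime_two).1 hd with h | h
    · exfalso
      rw [Subgroup.relIndex_eq_one] at h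
      exact hodd (h hsw)
    · exact h
  have := card_mul_relIndex (inf_le_right : alternatingGroup α ⊓ fixSub s ≤ fixSub s)
  rw [Subgroup.inf_relIndex_right, hrel] at this
  omega

lemma exists_even_perm_image_eq {s₁ s₂ : Set α} (h : Nat.card s₁ = Nat.card s₂)
    (h2 : 2 ≤ Nat.card s₁) :
    ∃ g : Equiv.Perm α, Equiv.Perm.sign g = 1 ∧ g '' s₁ = s₂ := by
  classical
  obtain ⟨g, hg⟩ := exists_perm_image_eq h
  by_cases hsg : Equiv.Perm.sign g = 1
  · exact ⟨g, hsg, hg⟩
  · have hsg' : Equiv.Perm.sign g = -1 := by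
      rcases Int.units_eq_one_or (Equiv.Perm.sign g) with h | h
      · exact absurd h hsg
      · exact h
    have hnt : Nontrivial ↥s₁ := Finite.one_lt_card_iff_nontrivial.1 (by omega)
    obtain ⟨x, y, hxy⟩ := exists_pair_ne ↥s₁
    have hxy' : (x : α) ≠ y := fun h => hxy (Subtype.ext h)
    refine ⟨g * Equiv.swap (x : α) y, ?_, ?_⟩
    · rw [map_mul, hsg', Equiv.Perm.sign_swap hxy']; decide
    · rw [← hg]
      ext z
      constructor
      · rintro ⟨w, hw, rfl⟩
        refine ⟨Equiv.swap (x : α) y w, ?_, rfl⟩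
        by_cases h1 : w = x
        · rw [h1, Equiv.swap_apply_left]; exact y.2
        · by_cases h2' : w = y
          · rw [h2', Equiv.swap_apply_right]; exact x.2
          · rw [Equiv.swap_apply_of_ne_of_ne h1 h2']; exact hw
      · rintro ⟨w, hw, rfl⟩
        refine ⟨Equiv.swap (x : α) y w, ?_, ?_⟩
        · by_cases h1 : w = x
          · rw [h1, Equiv.swap_apply_left]; exact y.2
          · by_cases h2' : w = y
            · rw [h2', Equiv.swap_apply_right]; exact x.2
            · rw [Equiv.swap_apply_of_ne_of_ne h1 h2']; exact hw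
        · show g (Equiv.swap (x : α) y (Equiv.swap (x : α) y w)) = g w
          rw [Equiv.swap_apply_self]

lemma IsStdA.conj_of_same {N₁ N₂ : Subgroup (Equiv.Perm α)} {s : Set α}
    (h₁ : IsStdA N₁ s) (h₂ : IsStdA N₂ s) (hA₁ : N₁ ≤ alternatingGroup α)
    (hA₂ : N₂ ≤ alternatingGroup α) (h7 : 7 ≤ Nat.card α) :
    ∃ h : Equiv.Perm α, Equiv.Perm.sign h = 1 ∧ N₂ = N₁.map (MulAut.conj h).toMonoidHom := by
  classical
  obtain ⟨a1, a2, a3, a4⟩ := h₁
  obtain ⟨_, b2, b3, b4⟩ := h₂
  have hcs : Nat.card ↥(sᶜ : Set α) = Nat.card α - 3 := by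
    have := card_compl_add s
    omega
  -- the 2-parts are conjugate inside `Alt ⊓ fixSub s`
  set K := alternatingGroup α ⊓ fixSub s with hK
  have hK2 : 2 * Nat.card K = (Nat.card α - 3)! := by
    rw [two_mul_card_alt_inf_fixSub s (by omega), card_fixSub, hcs]
  have hK0 : Nat.card K ≠ 0 := Nat.card_pos.ne'
  have hf2 : ∀ t : ℕ, 2 * t = s2 (Nat.card α - 3) → t = 2 ^ (Nat.card K).factorization 2 := by
    intro t ht
    have h1 : s2 (Nat.card α - 3) = 2 * 2 ^ (Nat.card K).factorization 2 := by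
      unfold s2
      rw [← hK2, padicValNat.mul (by norm_num) hK0, padicValNat_self, pow_add, pow_one,
        Nat.factorization_def _ Nat.prime_two]
    omega
  have : Fact (Nat.Prime 2) := ⟨Nat.prime_two⟩
  have : Fact (Nat.Prime 3) := ⟨Nat.prime_three⟩
  obtain ⟨h, hh, hT⟩ := exists_conj_of_card_eq K 2 (N₁ ⊓ fixSub s) (N₂ ⊓ fixSub s)
    (le_inf (inf_le_left.trans hA₁) inf_le_right) (le_inf (inf_le_left.trans hA₂) inf_le_right)
    (hf2 _ a2) (hf2 _ b2)
  have hhA : Equiv.Perm.sign h = 1 := Equiv.Perm.mem_alternatingGroup.1 hh.1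
  have hhf : h ∈ fixSub s := hh.2
  -- the 3-parts are equal
  have hH : Nat.card (fixSub (sᶜ : Set α)) = 6 := by
    rw [card_fixSub, compl_compl, a1]; rfl
  have hf3 : (Nat.card (fixSub (sᶜ : Set α))).factorization 3 = 1 := by
    rw [hH]
    exact factorization_eq_of Nat.prime_three (by norm_num : 6 = 3 ^ 1 * 2) (by norm_num)
  have hnorm : ∀ k ∈ fixSub (sᶜ : Set α), ∀ x ∈ N₁ ⊓ fixSub (sᶜ : Set α),
      k * x * k⁻¹ ∈ N₁ ⊓ fixSub (sᶜ : Set α) := by
    have hidx : ((N₁ ⊓ fixSub (sᶜ : Set α)).subgroupOf (fixSub (sᶜ : Set α))).index = 2 := by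
      have := Subgroup.card_mul_index ((N₁ ⊓ fixSub (sᶜ : Set α)).subgroupOf (fixSub (sᶜ : Set α)))
      rw [card_subgroupOf_of_le inf_le_right, a3, hH] at this
      omega
    have hN := Subgroup.normal_of_index_eq_two hidx
    intro k hk x hx
    have hxH : x ∈ fixSub (sᶜ : Set α) := hx.2
    have := hN.conj_mem ⟨x, hxH⟩ (by rw [Subgroup.mem_subgroupOf]; exact hx) ⟨k, hk⟩
    rw [Subgroup.mem_subgroupOf] at this
    exact this
  have hC : N₂ ⊓ fixSub (sᶜ : Set α) = N₁ ⊓ fixSub (sᶜ : Set α) :=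
    eq_of_card_eq_of_normal (fixSub (sᶜ : Set α)) 3 _ _ inf_le_right inf_le_right
      (by rw [a3, hf3, pow_one]) (by rw [b3, hf3, pow_one]) hnorm
  -- `h` centralizes the 3-part
  have hCmap : (N₁ ⊓ fixSub (sᶜ : Set α)).map (MulAut.conj h).toMonoidHom =
      N₁ ⊓ fixSub (sᶜ : Set α) := by
    ext x
    constructor
    · rintro ⟨y, hy, rfl⟩
      have hc : Commute h y := commute_of_mem_fixSub hhf hy.2
      have : (MulAut.conj h).toMonoidHom y = y := by
        show h * y * h⁻¹ = y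
        rw [hc.eq, mul_assoc, mul_inv_cancel, mul_one]
      rw [this]; exact hy
    · intro hx
      have hc : Commute h x := commute_of_mem_fixSub hhf hx.2
      refine ⟨x, hx, ?_⟩
      show h * x * h⁻¹ = x
      rw [hc.eq, mul_assoc, mul_inv_cancel, mul_one]
  refine ⟨h, hhA, ?_⟩
  conv_lhs => rw [b4]
  conv_rhs => rw [a4]
  rw [Subgroup.map_sup, hCmap, ← hT, hC]

lemma IsStdA.conj {N₁ N₂ : Subgroup (Equiv.Perm α)} {s₁ s₂ : Set α}
    (h₁ : IsStdA N₁ s₁) (h₂ : IsStdA N₂ s₂) (hA₁ : N₁ ≤ alternatingGroup α)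
    (hA₂ : N₂ ≤ alternatingGroup α) (h7 : 7 ≤ Nat.card α) :
    ∃ g : Equiv.Perm α, Equiv.Perm.sign g = 1 ∧ N₂ = N₁.map (MulAut.conj g).toMonoidHom := by
  obtain ⟨g, hgs, hg⟩ := exists_even_perm_image_eq (h₁.1.trans h₂.1.symm) (by rw [h₁.1]; norm_num)
  have h₁' : IsStdA (N₁.map (MulAut.conj g).toMonoidHom) s₂ := hg ▸ h₁.map g
  have hA₁' : N₁.map (MulAut.conj g).toMonoidHom ≤ alternatingGroup α := by
    rintro _ ⟨x, hx, rfl⟩
    have hgA : g ∈ alternatingGroup α := Equiv.Perm.mem_alternatingGroup.2 hgs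
    exact (inferInstance : (alternatingGroup α).Normal).conj_mem x (hA₁ hx) g
  obtain ⟨h, hhs, hh⟩ := IsStdA.conj_of_same h₁' h₂ hA₁' hA₂ h7
  refine ⟨h * g, by rw [map_mul, hhs, hgs, one_mul], ?_⟩
  rw [hh, Subgroup.map_map]
  congr 1

/-- Two nilpotent subgroups of `Alt(n)` of the largest order are conjugate in `Alt(n)`,
`n ≡ 3 (mod 4)`, `n ≥ 7`. -/
theorem exists_even_conj (N₁ N₂ : Subgroup (Equiv.Perm α)) (hN₁ : Group.IsNilpotent N₁)
    (hN₂ : Group.IsNilpotent N₂) (hA₁ : N₁ ≤ alternatingGroup α) (hA₂ : N₂ ≤ alternatingGroup α)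
    (hn : Nat.card α % 4 = 3) (h7 : 7 ≤ Nat.card α)
    (hc₁ : 2 * Nat.card N₁ = 3 * s2 (Nat.card α - 3))
    (hc₂ : 2 * Nat.card N₂ = 3 * s2 (Nat.card α - 3)) :
    ∃ g : Equiv.Perm α, Equiv.Perm.sign g = 1 ∧ N₂ = N₁.map (MulAut.conj g).toMonoidHom := by
  obtain ⟨s₁, h₁⟩ := exists_isStdA N₁ hN₁ hn h7 hc₁
  obtain ⟨s₂, h₂⟩ := exists_isStdA N₂ hN₂ hn h7 hc₂
  exact IsStdA.conj h₁ h₂ hA₁ hA₂ h7

end Perm

lemma exists_std_subgroup_alt (m : ℕ) (P : Sylow 2 (alternatingGroup (Fin m))) {n : ℕ}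
    (hn : n = m + 3) :
    ∃ M : Subgroup (alternatingGroup (Fin n)), Group.IsNilpotent M ∧ Nat.card M = 3 * Nat.card P ∧
      Nonempty (M ≃* (↥(P : Subgroup (alternatingGroup (Fin m))) × Multiplicative (ZMod 3))) := by
  subst hn
  have : Fact (Nat.Prime 2) := ⟨Nat.prime_two⟩
  have : Fact (Nat.Prime 3) := ⟨Nat.prime_three⟩
  let ι : Equiv.Perm (Fin m) × Equiv.Perm (Fin 3) →* Equiv.Perm (Fin (m + 3)) :=
    (finSumFinEquiv.permCongrHom).toMonoidHom.comp (Equiv.Perm.sumCongrHom (Fin m) (Fin 3))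
  have hι : Function.Injective ι :=
    (finSumFinEquiv.permCongrHom).injective.comp Equiv.Perm.sumCongrHom_injective
  let ψ : alternatingGroup (Fin m) × alternatingGroup (Fin 3) →* Equiv.Perm (Fin (m + 3)) :=
    ι.comp (MonoidHom.prodMap (alternatingGroup (Fin m)).subtype (alternatingGroup (Fin 3)).subtype)
  have hψ : Function.Injective ψ := by
    apply hι.comp
    intro x y h
    have h1 := congrArg Prod.fst h
    have h2 := congrArg Prod.snd h
    exact Prod.ext (Subtype.ext h1) (Subtype.ext h2)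
  have hψA : ∀ x, ψ x ∈ alternatingGroup (Fin (m + 3)) := by
    rintro ⟨σ, τ⟩
    rw [Equiv.Perm.mem_alternatingGroup]
    show Equiv.Perm.sign (finSumFinEquiv.permCongr (Equiv.Perm.sumCongr (σ : Equiv.Perm (Fin m))
      (τ : Equiv.Perm (Fin 3)))) = 1
    rw [Equiv.Perm.sign_permCongr, Equiv.Perm.sign_sumCongr,
      Equiv.Perm.mem_alternatingGroup.1 σ.2, Equiv.Perm.mem_alternatingGroup.1 τ.2, one_mul]
  let phi0 : alternatingGroup (Fin m) × alternatingGroup (Fin 3) →* alternatingGroup (Fin (m + 3)) :=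
    ψ.codRestrict (alternatingGroup (Fin (m + 3))) hψA
  have hphi0 : Function.Injective phi0 := by
    intro x y h
    apply hψ
    exact congrArg Subtype.val h
  have hC : Nat.card (alternatingGroup (Fin 3)) = 3 := by
    have hnt : Nontrivial (Fin 3) := Fin.nontrivial_iff_two_le.2 (by norm_num)
    rw [nat_card_alternatingGroup, Nat.card_fin]
    rfl
  let M : Subgroup (alternatingGroup (Fin (m + 3))) :=
    ((P : Subgroup (alternatingGroup (Fin m))).prod ⊤).map phi0
  have hZ : Nat.card (Multiplicative (ZMod 3)) = 3 := by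
    rw [Nat.card_congr Multiplicative.toAdd, Nat.card_zmod]
  let eC : alternatingGroup (Fin 3) ≃* Multiplicative (ZMod 3) :=
    mulEquivOfPrimeCardEq (p := 3) hC hZ
  let e : M ≃* (↥(P : Subgroup (alternatingGroup (Fin m))) × Multiplicative (ZMod 3)) :=
    ((Subgroup.equivMapOfInjective _ phi0 hphi0).symm).trans
      ((Subgroup.prodEquiv _ _).trans (MulEquiv.prodCongr (MulEquiv.refl _)
        (Subgroup.topEquiv.trans eC)))
  have hPnil : Group.IsNilpotent ↥(P : Subgroup (alternatingGroup (Fin m))) :=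
    P.isPGroup'.isNilpotent
  refine ⟨M, Group.nilpotent_of_mulEquiv e.symm, ?_, ⟨e⟩⟩
  rw [Nat.card_congr e.toEquiv, Nat.card_prod, hZ, mul_comm]

end Cfsg.Agent.Lib.Helper29_NilpAlt2
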