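import Mathlib

/-!
Nilpotent subgroups of symmetric groups: a nilpotent group acting faithfully on `n` points has order
at most `F n = max (2-part of n!) (3 * 2-part of (n-3)!)`, which is the `2`-part of `n!` unless `n ≡ 3 mod 4`.
-/

set_option autoImplicit false

open Nat
open scoped Pointwise

namespace Cfsg.Agent.Lib.Helper29_NilpSym




def s2 (n : ℕ) : ℕ := 2 ^ padicValNat 2 n !

def F (n : ℕ) : ℕ := max (s2 n) (if 3 ≤ n then 3 * s2 (n - 3) else 0)

lemma s2_pos (n : ℕ) : 0 < s2 n := by unfold s2; positivity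

lemma padic_le_of_dvd {p a b : ℕ} [Fact p.Prime] (hb : b ≠ 0) (h : a ∣ b) :
    padicValNat p a ≤ padicValNat p b := by
  have := (padicValNat_dvd_iff_le (p := p) hb (n := padicValNat p a)).1
    ((pow_padicValNat_dvd).trans h)
  exact this

lemma s2_mul_le (a b : ℕ) : s2 a * s2 b ≤ s2 (a + b) := by
  unfold s2
  rw [← pow_add]
  apply Nat.pow_le_pow_right (by norm_num)
  rw [← padicValNat.mul (factorial_ne_zero a) (factorial_ne_zero b)]
  exact padic_le_of_dvd (factorial_ne_zero _) (factorial_mul_factorial_dvd_factorial_add a b)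

lemma s2_mono {a b : ℕ} (h : a ≤ b) : s2 a ≤ s2 b := by
  obtain ⟨c, rfl⟩ := Nat.exists_eq_add_of_le h
  calc s2 a = s2 a * 1 := (mul_one _).symm
    _ ≤ s2 a * s2 c := Nat.mul_le_mul_left _ (s2_pos c)
    _ ≤ s2 (a + c) := s2_mul_le a c

lemma s2_two_mul (m : ℕ) : s2 (2 * m) = 2 ^ m * s2 m := by
  unfold s2
  rw [padicValNat_factorial_mul, pow_add, mul_comm]

lemma s2_le_two_pow (m : ℕ) : s2 m ≤ 2 ^ m := by
  unfold s2
  apply Nat.pow_le_pow_right (by norm_num)
  rcases Nat.eq_zero_or_pos m with rfl | h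
  · simp
  · exact (padicValNat_factorial_lt_of_ne_zero 2 h.ne').le

lemma s2_two_mul_add_one (m : ℕ) : s2 (2 * m + 1) = s2 (2 * m) := by
  unfold s2
  rw [padicValNat_factorial_mul_add m (by norm_num : 1 < 2)]

lemma s2_zero : s2 0 = 1 := by simp [s2]
lemma s2_one : s2 1 = 1 := by simp [s2]
lemma s2_two : s2 2 = 2 := by
  have := s2_two_mul 1; simpa [s2_one] using this
lemma s2_three : s2 3 = 2 := by
  have := s2_two_mul_add_one 1; simpa [s2_two] using this
lemma s2_four : s2 4 = 8 := by
  have := s2_two_mul 2; simpa [s2_two] using this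
lemma s2_six : s2 6 = 16 := by
  have := s2_two_mul 3; simpa [s2_three] using this
lemma s2_eight : s2 8 = 128 := by
  have := s2_two_mul 4; simpa [s2_four] using this
lemma s2_nine : s2 9 = 128 := by
  have := s2_two_mul_add_one 4; simpa [s2_eight] using this

lemma s2_le_F (n : ℕ) : s2 n ≤ F n := le_max_left _ _

lemma F_pos (n : ℕ) : 0 < F n := lt_of_lt_of_le (s2_pos n) (s2_le_F n)

lemma F_le_iff {n x : ℕ} : F n ≤ x ↔ s2 n ≤ x ∧ (3 ≤ n → 3 * s2 (n - 3) ≤ x) := by
  unfold F
  rw [max_le_iff]
  constructor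
  · rintro ⟨h1, h2⟩
    refine ⟨h1, fun h => ?_⟩
    simpa [h] using h2
  · rintro ⟨h1, h2⟩
    refine ⟨h1, ?_⟩
    split_ifs with h
    · exact h2 h
    · exact Nat.zero_le _

lemma three_mul_le_F {n : ℕ} (h : 3 ≤ n) : 3 * s2 (n - 3) ≤ F n := by
  unfold F
  simp [h]

lemma F_mono {a b : ℕ} (h : a ≤ b) : F a ≤ F b := by
  rw [F_le_iff]
  refine ⟨(s2_mono h).trans (s2_le_F b), fun h3 => ?_⟩
  have : 3 ≤ b := h3.trans h
  refine le_trans ?_ (three_mul_le_F this)
  exact Nat.mul_le_mul_left _ (s2_mono (by omega))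

lemma F_mul_le (a b : ℕ) : F a * F b ≤ F (a + b) := by
  have h1 : s2 a * s2 b ≤ F (a + b) := (s2_mul_le a b).trans (s2_le_F _)
  have h2 : 3 ≤ a → 3 * s2 (a - 3) * s2 b ≤ F (a + b) := by
    intro h
    have : 3 ≤ a + b := by omega
    refine le_trans ?_ (three_mul_le_F this)
    rw [mul_assoc]
    apply Nat.mul_le_mul_left
    have e : a + b - 3 = (a - 3) + b := by omega
    rw [e]; exact s2_mul_le _ _
  have h3 : 3 ≤ b → s2 a * (3 * s2 (b - 3)) ≤ F (a + b) := by
    intro h
    have : 3 ≤ a + b := by omega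
    refine le_trans ?_ (three_mul_le_F this)
    rw [mul_left_comm]
    apply Nat.mul_le_mul_left
    have e : a + b - 3 = a + (b - 3) := by omega
    rw [e]; exact s2_mul_le _ _
  have h4 : 3 ≤ a → 3 ≤ b → 3 * s2 (a - 3) * (3 * s2 (b - 3)) ≤ F (a + b) := by
    intro ha hb
    refine le_trans ?_ (s2_le_F _)
    have e : a + b = ((a - 3) + (b - 3)) + 6 := by omega
    have : s2 (a - 3) * s2 (b - 3) * s2 6 ≤ s2 (a + b) := by
      rw [e]
      exact (Nat.mul_le_mul_right _ (s2_mul_le _ _)).trans (s2_mul_le _ _)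
    rw [s2_six] at this
    nlinarith [s2_pos (a - 3), s2_pos (b - 3)]
  -- combine
  unfold F at *
  rcases le_total (s2 a) (if 3 ≤ a then 3 * s2 (a - 3) else 0) with hA | hA <;>
  rcases le_total (s2 b) (if 3 ≤ b then 3 * s2 (b - 3) else 0) with hB | hB
  · rw [max_eq_right hA, max_eq_right hB]
    by_cases ha : 3 ≤ a <;> by_cases hb : 3 ≤ b <;> simp only [ha, hb, if_true, if_false] at * <;>
      first | exact h4 ha hb | simp
  · rw [max_eq_right hA, max_eq_left hB]
    by_cases ha : 3 ≤ a <;> simp only [ha, if_true, if_false] at * <;>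
      first | exact h2 ha | simp
  · rw [max_eq_left hA, max_eq_right hB]
    by_cases hb : 3 ≤ b <;> simp only [hb, if_true, if_false] at * <;>
      first | exact h3 hb | simp
  · rw [max_eq_left hA, max_eq_left hB]
    exact h1

lemma four_mul_s2_le {n : ℕ} (h3 : 3 ≤ n) (h : n % 4 ≠ 3) : 4 * s2 (n - 3) ≤ s2 n := by
  obtain ⟨m, rfl⟩ : ∃ m, n = m + 3 := ⟨n - 3, by omega⟩
  simp only [Nat.add_sub_cancel]
  unfold s2
  have e : (m + 3)! = (m + 3) * ((m + 2) * ((m + 1) * m !)) := by
    rw [Nat.factorial_succ, Nat.factorial_succ, Nat.factorial_succ]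
  have hd : 4 ∣ (m + 3) * ((m + 2) * (m + 1)) := by
    have h4 : (m + 3) % 4 = 0 ∨ (m + 2) % 4 = 0 ∨ (m + 1) % 4 = 0 := by omega
    rcases h4 with h4 | h4 | h4
    · exact Dvd.dvd.mul_right (Nat.dvd_of_mod_eq_zero h4) _
    · exact Dvd.dvd.mul_left (Dvd.dvd.mul_right (Nat.dvd_of_mod_eq_zero h4) _) _
    · exact Dvd.dvd.mul_left (Dvd.dvd.mul_left (Nat.dvd_of_mod_eq_zero h4) _) _
  have e2 : (m + 3)! = ((m + 3) * ((m + 2) * (m + 1))) * m ! := by rw [e]; ring
  have hne : (m + 3) * ((m + 2) * (m + 1)) ≠ 0 := by positivity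
  rw [e2, padicValNat.mul hne (factorial_ne_zero m), pow_add]
  apply Nat.mul_le_mul_right
  have : 2 ≤ padicValNat 2 ((m + 3) * ((m + 2) * (m + 1))) := by
    rw [← padicValNat_dvd_iff_le hne]
    exact hd
  calc 4 = 2 ^ 2 := by norm_num
    _ ≤ _ := Nat.pow_le_pow_right (by norm_num) this

lemma F_eq_s2 {n : ℕ} (h : n % 4 ≠ 3) : F n = s2 n := by
  apply le_antisymm _ (s2_le_F n)
  rw [F_le_iff]
  refine ⟨le_rfl, fun h3 => ?_⟩
  have := four_mul_s2_le h3 h
  omega

/-- odd primes at least 5: Sylow p order at most Sylow 2 order, for every degree -/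
lemma pow_padic_le_s2_of_five_le (p : ℕ) [hp : Fact p.Prime] (h5 : 5 ≤ p) :
    ∀ m : ℕ, p ^ padicValNat p m ! ≤ s2 m := by
  intro m
  induction m using Nat.strong_induction_on with
  | _ m ih =>
    have hp2 : 2 ≤ p := hp.out.two_le
    by_cases hk : m / p = 0
    · have : m < p := by
        rcases Nat.div_eq_zero_iff.1 hk with h | h
        · omega
        · exact h
      have h0 : padicValNat p m ! = 0 := by
        apply padicValNat.eq_zero_of_not_dvd
        intro hd
        exact absurd ((hp.out.dvd_factorial).1 hd) (by omega)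
      rw [h0, pow_zero]; exact s2_pos m
    · have hmpos : 0 < m := Nat.pos_of_ne_zero (fun h0 => hk (by rw [h0]; exact Nat.zero_div p))
      set k := m / p with hkdef
      have hkpos : 0 < k := Nat.pos_of_ne_zero hk
      have hklt : k < m := Nat.div_lt_self hmpos (by omega)
      have e1 : padicValNat p m ! = padicValNat p k ! + k := by
        rw [← padicValNat_mul_div_factorial m, padicValNat_factorial_mul]
      rw [e1, pow_add]
      have ihk := ih k hklt
      -- p is odd ≥ 5: p = 2h+1, h ≥ 2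
      obtain ⟨h, hh⟩ : ∃ h, p = 2 * h + 1 := by
        have := hp.out.eq_one_or_self_of_dvd 2
        rcases Nat.even_or_odd p with he | ho
        · exfalso
          have h2 : 2 ∣ p := he.two_dvd
          rcases this h2 with h | h <;> omega
        · exact ho
      have hh2 : 2 ≤ h := by omega
      -- s2 ((p-1)k) ≥ p^k
      have hA : p ^ k ≤ s2 (2 * (h * k)) := by
        rw [s2_two_mul]
        have h1 : 2 ^ k ≤ s2 (h * k) := by
          calc 2 ^ k ≤ 2 ^ k * s2 k := Nat.le_mul_of_pos_right _ (s2_pos k)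
            _ = s2 (2 * k) := (s2_two_mul k).symm
            _ ≤ s2 (h * k) := s2_mono (Nat.mul_le_mul_right _ hh2)
        have h2 : p ≤ 2 ^ (h + 1) := by
          rw [hh]
          have : h + 1 < 2 ^ (h + 1) := Nat.lt_two_pow_self
          rw [pow_succ] at this ⊢
          have : h < 2 ^ h := Nat.lt_two_pow_self
          omega
        calc p ^ k ≤ (2 ^ (h + 1)) ^ k := Nat.pow_le_pow_left h2 k
          _ = 2 ^ (h * k) * 2 ^ k := by rw [← pow_mul, ← pow_add]; ring_nf
          _ ≤ 2 ^ (h * k) * s2 (h * k) := Nat.mul_le_mul_left _ h1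
      have hB : s2 (2 * (h * k)) * s2 k ≤ s2 m := by
        refine (s2_mul_le _ _).trans (s2_mono ?_)
        have : p * k ≤ m := Nat.mul_div_le m p
        rw [hh] at this
        nlinarith
      calc p ^ padicValNat p k ! * p ^ k ≤ s2 k * s2 (2 * (h * k)) :=
            Nat.mul_le_mul ihk hA
        _ = s2 (2 * (h * k)) * s2 k := mul_comm _ _
        _ ≤ s2 m := hB

/-- powers of three -/
lemma three_pow_aux : ∀ j : ℕ, 3 ^ (3 ^ (j + 2)) ≤ 2 ^ (3 ^ (j + 2)) * s2 (3 ^ (j + 2)) ∧
    3 ^ padicValNat 3 (3 ^ (j + 2))! ≤ s2 (3 ^ (j + 2)) := by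
  intro j
  induction j with
  | zero =>
    have e9 : (3 : ℕ) ^ (0 + 2) = 9 := by norm_num
    rw [e9, s2_nine]
    refine ⟨by norm_num, ?_⟩
    have h1 : padicValNat 3 (9)! = padicValNat 3 (3 * 3)! := rfl
    have h2 : padicValNat 3 (3)! = padicValNat 3 (3 * 1)! := rfl
    rw [h1, padicValNat_factorial_mul, h2, padicValNat_factorial_mul]
    simp
  | succ j ih =>
    obtain ⟨iha, ihb⟩ := ih
    set k := 3 ^ (j + 2) with hk
    have e : 3 ^ (j + 1 + 2) = 3 * k := by rw [hk]; ring
    rw [e]
    have hs : 2 ^ k * s2 k * s2 k ≤ s2 (3 * k) := by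
      have : 3 * k = 2 * k + k := by ring
      rw [this]
      calc 2 ^ k * s2 k * s2 k = s2 (2 * k) * s2 k := by rw [s2_two_mul]
        _ ≤ s2 (2 * k + k) := s2_mul_le _ _
    constructor
    · have h1 : 3 ^ (3 * k) = (3 ^ k) ^ 3 := by rw [← pow_mul, mul_comm]
      rw [h1]
      have h2 : (3 ^ k) ^ 3 ≤ (2 ^ k * s2 k) ^ 3 := Nat.pow_le_pow_left iha 3
      have h3 : s2 k ≤ 2 ^ k := s2_le_two_pow k
      have h4 : (2 ^ k * s2 k) ^ 3 ≤ 2 ^ (3 * k) * (2 ^ k * s2 k * s2 k) := by
        have : (2:ℕ) ^ (3 * k) = 2 ^ k * 2 ^ k * 2 ^ k := by rw [← pow_add, ← pow_add]; ring_nf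
        rw [this]
        have hp : 0 < s2 k := s2_pos k
        have hq : 0 < 2 ^ k := by positivity
        nlinarith [Nat.mul_le_mul_left (2 ^ k * 2 ^ k * 2 ^ k * s2 k * s2 k) h3, mul_pos hp hp, mul_pos hq hq]
      exact h2.trans (h4.trans (Nat.mul_le_mul_left _ hs))
    · rw [padicValNat_factorial_mul, pow_add]
      calc 3 ^ padicValNat 3 k ! * 3 ^ k ≤ s2 k * (2 ^ k * s2 k) := Nat.mul_le_mul ihb iha
        _ = 2 ^ k * s2 k * s2 k := by ring
        _ ≤ s2 (3 * k) := hs

lemma pow_padic_le_F (p : ℕ) [hp : Fact p.Prime] (b : ℕ) :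
    p ^ padicValNat p (p ^ b)! ≤ F (p ^ b) := by
  rcases Nat.lt_or_ge p 5 with h | h
  · have hp2 := hp.out.two_le
    have : p = 2 ∨ p = 3 := by
      interval_cases p
      · left; rfl
      · right; rfl
      · exfalso; exact absurd hp.out (by norm_num)
    rcases this with rfl | rfl
    · exact s2_le_F _
    · rcases b with _ | _ | j
      · simp only [pow_zero]
        have : padicValNat 3 (1)! = 0 := by simp
        rw [this, pow_zero]
        exact F_pos 1
      · have : padicValNat 3 (3 ^ (0 + 1))! = 1 := by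
          have h2 : padicValNat 3 (3 ^ (0 + 1))! = padicValNat 3 (3 * 1)! := rfl
          rw [h2, padicValNat_factorial_mul]; simp
        rw [this]
        have : (3 : ℕ) ^ (0 + 1) = 3 := by norm_num
        rw [this]
        have := three_mul_le_F (n := 3) le_rfl
        simpa [s2_zero] using this
      · exact (three_pow_aux j).2.trans (s2_le_F _)
  · exact (pow_padic_le_s2_of_five_le p h _).trans (s2_le_F _)





lemma F_one : F 1 = 1 := by
  unfold F; simp [s2_one]

/-- `F a * F b ≤ F (a * b)` as soon as `a = 1`, `b = 1` or both are at least `2`. -/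
lemma F_mul_le_mul {a b : ℕ} (ha : 1 ≤ a) (hb : 1 ≤ b) : F a * F b ≤ F (a * b) := by
  rcases Nat.eq_or_lt_of_le ha with rfl | ha2
  · rw [F_one, one_mul, one_mul]
  rcases Nat.eq_or_lt_of_le hb with rfl | hb2
  · rw [F_one, mul_one, mul_one]
  refine (F_mul_le a b).trans (F_mono ?_)
  nlinarith

section Nilp

variable {G : Type*} [Group G]

lemma mem_of_coprime_of_eq_mul {p t : ℕ} {y a w : G} (hy : (orderOf y).Coprime p)
    (ha : a ^ (p ^ t) = 1) (hc : Commute a w) (h : y = a * w) (H : Subgroup G) (hw : w ∈ H) :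
    y ∈ H := by
  have h1 : y ^ (p ^ t) = w ^ (p ^ t) := by rw [h, hc.mul_pow, ha, one_mul]
  have hcop : (p ^ t).Coprime (orderOf y) := (Nat.Coprime.pow_left t hy.symm)
  obtain ⟨m, hm⟩ := exists_pow_eq_self_of_coprime hcop
  rw [← hm, h1]
  exact H.pow_mem (H.pow_mem hw _) _

variable [Finite G]

/-- In a finite nilpotent group, `G = A * C_G(A)` for a Sylow subgroup `A`. -/
lemma exists_mul_centralizer [Group.IsNilpotent G] (p : ℕ) [Fact p.Prime] (A : Sylow p G) (g : G) :
    ∃ a ∈ (A : Subgroup G), ∃ c ∈ Subgroup.centralizer ((A : Subgroup G) : Set G), g = a * c := by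
  set C := Subgroup.centralizer ((A : Subgroup G) : Set G) with hC
  have hAn : (A : Subgroup G).Normal := inferInstance
  have htop : (A : Subgroup G) ⊔ C = ⊤ := by
    rw [← Subgroup.index_eq_one, Nat.eq_one_iff_not_exists_prime_dvd]
    intro q hq hdvd
    have : Fact q.Prime := ⟨hq⟩
    by_cases hqp : q = p
    · subst hqp
      have h1 : ((A : Subgroup G) ⊔ C).index ∣ (A : Subgroup G).index :=
        Subgroup.index_dvd_of_le le_sup_left
      exact A.not_dvd_index (hdvd.trans h1)
    · let Q : Sylow q G := default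
      have hQn : (Q : Subgroup G).Normal := inferInstance
      have hdis : Disjoint (Q : Subgroup G) (A : Subgroup G) :=
        IsPGroup.disjoint_of_ne q p hqp _ _ Q.isPGroup' A.isPGroup'
      have hQC : (Q : Subgroup G) ≤ C := by
        intro x hx
        rw [hC, Subgroup.mem_centralizer_iff]
        intro a ha
        exact (Subgroup.commute_of_normal_of_disjoint _ _ hQn hAn hdis x a hx ha).symm.eq
      have h1 : ((A : Subgroup G) ⊔ C).index ∣ (Q : Subgroup G).index :=
        Subgroup.index_dvd_of_le (hQC.trans le_sup_right)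
      exact Q.not_dvd_index (hdvd.trans h1)
  have hg : g ∈ ((A : Subgroup G) ⊔ C : Subgroup G) := by rw [htop]; trivial
  have : g ∈ ((A : Subgroup G) : Set G) * (C : Set G) := by
    rw [← Subgroup.normal_mul]; exact hg
  obtain ⟨a, ha, c, hc, rfl⟩ := Set.mem_mul.1 this
  exact ⟨a, ha, c, hc, rfl⟩

/-- `p'`-elements centralize the Sylow `p`-subgroup of a nilpotent group. -/
lemma mem_centralizer_of_coprime [Group.IsNilpotent G] (p : ℕ) [Fact p.Prime] (A : Sylow p G)
    {y : G} (hy : (orderOf y).Coprime p) :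
    y ∈ Subgroup.centralizer ((A : Subgroup G) : Set G) := by
  obtain ⟨a, ha, c, hc, h⟩ := exists_mul_centralizer p A y
  obtain ⟨t, ht⟩ := A.isPGroup' ⟨a, ha⟩
  have ht' : a ^ (p ^ t) = 1 := by
    have := congrArg Subtype.val ht
    simpa using this
  have hcomm : Commute a c := by
    rw [Subgroup.mem_centralizer_iff] at hc
    exact (hc a ha)
  exact mem_of_coprime_of_eq_mul hy ht' hcomm h _ hc




lemma normalCore_subgroupOf_eq_bot [Group.IsNilpotent G] (p : ℕ) [Fact p.Prime] (A : Sylow p G)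
    (S : Subgroup G) (hS : S.normalCore = ⊥) :
    (S.subgroupOf (A : Subgroup G)).normalCore = ⊥ := by
  rw [eq_bot_iff]
  intro x hx
  have hxS : (x : G) ∈ S.normalCore := by
    intro g
    obtain ⟨a, ha, c, hc, rfl⟩ := exists_mul_centralizer p A g
    have h1 : (⟨a, ha⟩ : (A : Subgroup G)) * x * (⟨a, ha⟩ : (A : Subgroup G))⁻¹ ∈
        S.subgroupOf (A : Subgroup G) := hx ⟨a, ha⟩
    rw [Subgroup.mem_subgroupOf] at h1
    have hcx : (x : G) * c = c * (x : G) := (Subgroup.mem_centralizer_iff.1 hc) x x.2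
    have : a * c * (x : G) * (a * c)⁻¹ = a * x * a⁻¹ := by
      rw [mul_inv_rev, mul_assoc a c, ← hcx]; group
    rw [this]
    simpa using h1
  rw [hS, Subgroup.mem_bot] at hxS
  exact Subgroup.mem_bot.2 (Subtype.ext hxS)

lemma normalCore_sup_eq [Group.IsNilpotent G] (p : ℕ) [hp : Fact p.Prime] (A : Sylow p G)
    (S : Subgroup G) (hS : S.normalCore = ⊥) :
    ((A : Subgroup G) ⊔ S).normalCore = (A : Subgroup G) := by
  have hAn : (A : Subgroup G).Normal := inferInstance
  apply le_antisymm
  · intro x hx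
    set K := ((A : Subgroup G) ⊔ S).normalCore with hK
    have hn : orderOf x ≠ 0 := (orderOf_pos x).ne'
    obtain ⟨e, m, hm, hnm⟩ := Nat.exists_eq_pow_mul_and_not_dvd hn p hp.out.ne_one
    set y := x ^ (p ^ e) with hy
    have hyK : y ∈ K := K.pow_mem hx _
    have hym : y ^ m = 1 := by
      rw [hy, ← pow_mul, ← hnm]; exact pow_orderOf_eq_one x
    have hycop : (orderOf y).Coprime p := by
      have h1 : orderOf y ∣ m := orderOf_dvd_of_pow_eq_one hym
      have h2 : m.Coprime p := ((Nat.Prime.coprime_iff_not_dvd hp.out).2 hm).symm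
      exact Nat.Coprime.coprime_dvd_left h1 h2
    have hy1 : y ∈ S.normalCore := by
      intro g
      set z := g * y * g⁻¹ with hz
      have hzK : z ∈ K := (inferInstance : K.Normal).conj_mem y hyK g
      have hzord : orderOf z = orderOf y := by
        rw [hz, ← MulAut.conj_apply]; exact (MulAut.conj g).orderOf_eq y
      have hzcop : (orderOf z).Coprime p := hzord ▸ hycop
      have hzC := mem_centralizer_of_coprime p A hzcop
      have hzAS : z ∈ ((A : Subgroup G) ⊔ S : Subgroup G) := Subgroup.normalCore_le _ hzK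
      have : z ∈ ((A : Subgroup G) : Set G) * (S : Set G) := by
        rw [← Subgroup.normal_mul]; exact hzAS
      obtain ⟨a, ha, s, hs, has⟩ := Set.mem_mul.1 this
      obtain ⟨t, ht⟩ := A.isPGroup' ⟨a, ha⟩
      have ht' : a ^ (p ^ t) = 1 := by
        have := congrArg Subtype.val ht
        simpa using this
      have hza : a * z = z * a := (Subgroup.mem_centralizer_iff.1 hzC) a ha
      have hcomm : Commute a s := by
        have hs' : s = a⁻¹ * z := by rw [← has]; group
        rw [hs']
        show a * (a⁻¹ * z) = a⁻¹ * z * a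
        rw [mul_assoc, ← hza]; group
      exact mem_of_coprime_of_eq_mul hzcop ht' hcomm has.symm S hs
    rw [hS, Subgroup.mem_bot] at hy1
    -- x is a p-element, so lies in A
    have hxp : IsPGroup p (Subgroup.zpowers x) := by
      rintro ⟨g, hg⟩
      refine ⟨e, ?_⟩
      obtain ⟨i, rfl⟩ := Subgroup.mem_zpowers_iff.1 hg
      apply Subtype.ext
      show (x ^ i) ^ (p ^ e) = 1
      rw [← zpow_natCast, ← zpow_mul, mul_comm, zpow_mul, zpow_natCast, ← hy, hy1, one_zpow]
    obtain ⟨Q, hQ⟩ := hxp.exists_le_sylow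
    have : Unique (Sylow p G) := Sylow.unique_of_normal A hAn
    have hQA : Q = A := Subsingleton.elim _ _
    rw [← hQA]
    exact hQ (Subgroup.mem_zpowers x)
  · exact Subgroup.normal_le_normalCore.2 le_sup_left

omit [Finite G] in
lemma card_mul_relIndex {H K : Subgroup G} (h : H ≤ K) :
    Nat.card H * H.relIndex K = Nat.card K := by
  rw [← Subgroup.relIndex_bot_left, ← Subgroup.relIndex_bot_left,
    Subgroup.relIndex_mul_relIndex _ _ _ bot_le h]

lemma relIndex_sup_of_normal (A S : Subgroup G) [A.Normal] :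
    S.relIndex (A ⊔ S) = S.relIndex A := by
  have h1 := card_mul_relIndex (le_sup_right : S ≤ A ⊔ S)
  have h2 := card_mul_relIndex (le_sup_left : A ≤ A ⊔ S)
  have h3 : A.relIndex (A ⊔ S) = A.relIndex S := Subgroup.relIndex_sup_left S A
  have h4 := card_mul_relIndex (inf_le_right : A ⊓ S ≤ S)
  have h5 := card_mul_relIndex (inf_le_left : A ⊓ S ≤ A)
  rw [Subgroup.inf_relIndex_right] at h4
  rw [Subgroup.inf_relIndex_left] at h5
  rw [h3] at h2
  have hpos : 0 < Nat.card S := Nat.card_pos
  have : Nat.card S * S.relIndex (A ⊔ S) = Nat.card S * S.relIndex A := by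
    rw [h1, ← h2, ← h5, ← h4]; ring
  exact Nat.eq_of_mul_eq_mul_left hpos this

lemma index_eq_mul_of_normal (A S : Subgroup G) [A.Normal] :
    S.index = (S.subgroupOf A).index * (A ⊔ S).index := by
  rw [← Subgroup.relIndex_mul_index (le_sup_right : S ≤ A ⊔ S), relIndex_sup_of_normal]
  rfl

end Nilp

lemma card_le_F_of_pgroup {A : Type*} [Group A] [Finite A] (p : ℕ) [hp : Fact p.Prime]
    (hA : IsPGroup p A) (H : Subgroup A) (hH : H.normalCore = ⊥) :
    Nat.card A ≤ F H.index := by
  obtain ⟨b, hb⟩ := hA.index H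
  obtain ⟨a, ha⟩ := IsPGroup.iff_card.1 hA
  have hinj : Function.Injective (MulAction.toPermHom A (A ⧸ H)) := by
    rw [← MonoidHom.ker_eq_bot_iff, ← Subgroup.normalCore_eq_ker, hH]
  have hdvd : Nat.card A ∣ (p ^ b)! := by
    have := Subgroup.card_dvd_of_injective _ hinj
    rwa [Nat.card_perm, ← Subgroup.index_eq_card, hb] at this
  rw [ha] at hdvd
  have hle : a ≤ padicValNat p (p ^ b)! :=
    (padicValNat_dvd_iff_le (Nat.factorial_ne_zero _)).1 hdvd
  rw [ha, hb]
  exact (Nat.pow_le_pow_right hp.out.pos hle).trans (pow_padic_le_F p b)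

universe u

theorem card_le_F_index_aux : ∀ (n : ℕ) (G : Type u) [Group G] [Finite G] [Group.IsNilpotent G]
    (S : Subgroup G), Nat.card G = n → S.normalCore = ⊥ → Nat.card G ≤ F S.index := by
  intro n
  induction n using Nat.strong_induction_on with
  | _ n ih =>
    intro G _ _ _ S hn hS
    by_cases h1 : Nat.card G = 1
    · rw [h1]; exact F_pos _
    set p := (Nat.card G).minFac with hp
    have hpp : p.Prime := Nat.minFac_prime h1
    have : Fact p.Prime := ⟨hpp⟩
    have hpd : p ∣ Nat.card G := Nat.minFac_dvd _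
    let A : Sylow p G := default
    have hAn : (A : Subgroup G).Normal := inferInstance
    have hcardA : 1 < Nat.card (A : Subgroup G) := by
      rw [Sylow.card_eq_multiplicity]
      have : 0 < (Nat.card G).factorization p :=
        hpp.factorization_pos_of_dvd Nat.card_pos.ne' hpd
      exact Nat.one_lt_pow this.ne' hpp.one_lt
    -- bound for A
    have hA1 : Nat.card (A : Subgroup G) ≤ F (S.subgroupOf (A : Subgroup G)).index :=
      card_le_F_of_pgroup p A.isPGroup' _ (normalCore_subgroupOf_eq_bot p A S hS)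
    -- quotient
    let π := QuotientGroup.mk' (A : Subgroup G)
    set S' : Subgroup (G ⧸ (A : Subgroup G)) := ((A : Subgroup G) ⊔ S).map π with hS'
    have hker : π.ker ≤ (A : Subgroup G) ⊔ S := by
      rw [QuotientGroup.ker_mk']; exact le_sup_left
    have hidx : S'.index = ((A : Subgroup G) ⊔ S).index :=
      Subgroup.index_map_eq _ (QuotientGroup.mk'_surjective _) hker
    have hcore : S'.normalCore = ⊥ := by
      rw [eq_bot_iff]
      intro x hx
      obtain ⟨g, rfl⟩ := QuotientGroup.mk'_surjective (A : Subgroup G) x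
      have hg : g ∈ ((A : Subgroup G) ⊔ S).normalCore := by
        intro h
        have := hx (π h)
        rw [← map_inv, ← map_mul, ← map_mul, hS'] at this
        have h2 := Subgroup.mem_comap.2 this
        rwa [Subgroup.comap_map_eq_self hker] at h2
      rw [normalCore_sup_eq p A S hS] at hg
      rw [Subgroup.mem_bot]
      exact (QuotientGroup.eq_one_iff g).2 hg
    have hcardQ : Nat.card (G ⧸ (A : Subgroup G)) * Nat.card (A : Subgroup G) = Nat.card G :=
      (Subgroup.card_eq_card_quotient_mul_card_subgroup _).symm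
    have hlt : Nat.card (G ⧸ (A : Subgroup G)) < n := by
      rw [← hn, ← hcardQ]
      have : 0 < Nat.card (G ⧸ (A : Subgroup G)) := Nat.card_pos
      nlinarith
    have hQ := ih _ hlt (G ⧸ (A : Subgroup G)) S' rfl hcore
    rw [hidx] at hQ
    rw [index_eq_mul_of_normal (A : Subgroup G) S, ← hcardQ, mul_comm]
    refine (Nat.mul_le_mul hA1 hQ).trans (F_mul_le_mul ?_ ?_)
    · exact Nat.one_le_iff_ne_zero.2 Subgroup.index_ne_zero_of_finite
    · exact Nat.one_le_iff_ne_zero.2 Subgroup.index_ne_zero_of_finite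

/-- A finite nilpotent group with a core-free subgroup of index `n` has order at most `F n`. -/
theorem card_le_F_index {G : Type u} [Group G] [Finite G] [Group.IsNilpotent G]
    (S : Subgroup G) (hS : S.normalCore = ⊥) : Nat.card G ≤ F S.index :=
  card_le_F_index_aux _ G S rfl hS

universe v

section Perm
variable {α : Type v}

/-- Restriction of a permutation group to an invariant set. -/
def restrictHom (N : Subgroup (Equiv.Perm α)) (s : Set α)
    (hs : ∀ g ∈ N, ∀ x, g x ∈ s ↔ x ∈ s) : N →* Equiv.Perm s where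
  toFun g := (g : Equiv.Perm α).subtypePerm (hs g g.2)
  map_one' := by ext; simp
  map_mul' := by intros; ext; rfl

lemma restrictHom_apply (N : Subgroup (Equiv.Perm α)) (s : Set α)
    (hs : ∀ g ∈ N, ∀ x, g x ∈ s ↔ x ∈ s) (g : N) (x : s) :
    ((restrictHom N s hs g) x : α) = (g : Equiv.Perm α) x := rfl

lemma card_le_mul_of_invariant [Finite α] (N : Subgroup (Equiv.Perm α)) (s : Set α)
    (hs : ∀ g ∈ N, ∀ x, g x ∈ s ↔ x ∈ s) (hs' : ∀ g ∈ N, ∀ x, g x ∈ sᶜ ↔ x ∈ sᶜ) :
    Nat.card N ≤ Nat.card (restrictHom N s hs).range * Nat.card (restrictHom N sᶜ hs').range := by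
  rw [← Nat.card_prod]
  let f : N → (restrictHom N s hs).range × (restrictHom N sᶜ hs').range :=
    fun g => (⟨restrictHom N s hs g, ⟨g, rfl⟩⟩, ⟨restrictHom N sᶜ hs' g, ⟨g, rfl⟩⟩)
  apply Nat.card_le_card_of_injective f
  intro g g' h
  have h1 : restrictHom N s hs g = restrictHom N s hs g' := congrArg (fun z => (z.1 : Equiv.Perm s)) h
  have h2 : restrictHom N sᶜ hs' g = restrictHom N sᶜ hs' g' :=
    congrArg (fun z => (z.2 : Equiv.Perm (sᶜ : Set α))) h
  apply Subtype.ext
  apply Equiv.ext
  intro x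
  by_cases hx : x ∈ s
  · have := congrArg (fun z : Equiv.Perm s => ((z ⟨x, hx⟩ : s) : α)) h1
    exact this
  · have := congrArg (fun z : Equiv.Perm (sᶜ : Set α) => ((z ⟨x, hx⟩ : (sᶜ : Set α)) : α)) h2
    exact this

theorem card_le_F_perm_aux : ∀ (n : ℕ) (α : Type v) [Finite α] (N : Subgroup (Equiv.Perm α)),
    Group.IsNilpotent N → Nat.card α = n → Nat.card N ≤ F n := by
  intro n
  induction n using Nat.strong_induction_on with
  | _ n ih =>
    intro α _ N hN hn
    by_cases hne : Nonempty α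
    swap
    · have : IsEmpty α := not_nonempty_iff.1 hne
      have h1 : Nat.card N ≤ 1 := Finite.card_le_one_iff_subsingleton.2 inferInstance
      exact h1.trans (F_pos n)
    obtain ⟨a⟩ := hne
    set s : Set α := MulAction.orbit N a with hs_def
    have hs : ∀ g ∈ N, ∀ x, g x ∈ s ↔ x ∈ s := by
      intro g hg x
      constructor
      · intro h
        have := MulAction.mem_orbit_of_mem_orbit (⟨g, hg⟩ : N)⁻¹ h
        have e : ((⟨g, hg⟩ : N)⁻¹ • (g x) : α) = x := by
          show (g⁻¹ : Equiv.Perm α) (g x) = x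
          simp
        rwa [e] at this
      · intro h
        exact MulAction.mem_orbit_of_mem_orbit (⟨g, hg⟩ : N) h
    by_cases htr : ∀ b, b ∈ s
    · -- transitive case
      let S : Subgroup N := MulAction.stabilizer N a
      have hidx : S.index = n := by
        rw [MulAction.index_stabilizer, ← hn]
        have : MulAction.orbit N a = Set.univ := Set.eq_univ_of_forall htr
        rw [this, Set.ncard_univ]
      have hcore : S.normalCore = ⊥ := by
        rw [eq_bot_iff]
        intro x hx
        rw [Subgroup.mem_bot]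
        apply Subtype.ext
        apply Equiv.ext
        intro b
        obtain ⟨h, rfl⟩ := MulAction.mem_orbit_iff.1 (htr b)
        have h1 : (h⁻¹ * x * h⁻¹⁻¹) • a = a := MulAction.mem_stabilizer_iff.1 (hx h⁻¹)
        rw [inv_inv, mul_smul, mul_smul, inv_smul_eq_iff] at h1
        exact h1
      have := card_le_F_index S hcore
      rwa [hidx] at this
    · -- intransitive case
      obtain ⟨b, hb⟩ := not_forall.1 htr
      classical
      have hs' : ∀ g ∈ N, ∀ x, g x ∈ sᶜ ↔ x ∈ sᶜ := fun g hg x => not_congr (hs g hg x)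
      have hcard : Nat.card s + Nat.card (sᶜ : Set α) = n := by
        rw [← hn, ← Nat.card_sum]
        exact Nat.card_congr (Equiv.Set.sumCompl s)
      have hpos1 : 0 < Nat.card s := by
        have : Nonempty s := ⟨⟨a, MulAction.mem_orbit_self a⟩⟩
        exact Nat.card_pos
      have hpos2 : 0 < Nat.card (sᶜ : Set α) := by
        have : Nonempty (sᶜ : Set α) := ⟨⟨b, hb⟩⟩
        exact Nat.card_pos
      have hN1 : Group.IsNilpotent (restrictHom N s hs).range :=
        Group.nilpotent_of_surjective (restrictHom N s hs).rangeRestrict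
          (MonoidHom.rangeRestrict_surjective _)
      have hN2 : Group.IsNilpotent (restrictHom N sᶜ hs').range :=
        Group.nilpotent_of_surjective (restrictHom N sᶜ hs').rangeRestrict
          (MonoidHom.rangeRestrict_surjective _)
      have b1 := ih (Nat.card s) (by omega) s (restrictHom N s hs).range hN1 rfl
      have b2 := ih (Nat.card (sᶜ : Set α)) (by omega) (sᶜ : Set α) (restrictHom N sᶜ hs').range
        hN2 rfl
      calc Nat.card N ≤ _ := card_le_mul_of_invariant N s hs hs'
        _ ≤ F (Nat.card s) * F (Nat.card (sᶜ : Set α)) := Nat.mul_le_mul b1 b2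
        _ ≤ F (Nat.card s + Nat.card (sᶜ : Set α)) := F_mul_le _ _
        _ = F n := by rw [hcard]

/-- A nilpotent permutation group on `n` points has order at most `F n`. -/
theorem card_le_F_perm {α : Type v} [Finite α] (N : Subgroup (Equiv.Perm α))
    (hN : Group.IsNilpotent N) : Nat.card N ≤ F (Nat.card α) :=
  card_le_F_perm_aux _ α N hN rfl

end Perm

end Cfsg.Agent.Lib.Helper29_NilpSym
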