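import Cfsg.Agent.Lib.Helper29_NilpSym

/-!
Nilpotent subgroups of `Sym(n)` of the largest order when `n ≡ 3 (mod 4)`: they have order
`3 * s2 (n - 3)`, are of the shape `C₃ × (Sylow 2-subgroup of Sym(n-3))`, and are all conjugate.
-/

set_option autoImplicit false

open Nat
open scoped Pointwise

namespace Cfsg.Agent.Lib.Helper29_NilpSym2

open Cfsg.Agent.Lib.Helper29_NilpSym

/-! numeric -/

lemma s2_four_mul_add_three (k : ℕ) : s2 (4 * k + 3) = 2 * s2 (4 * k) := by
  have e1 : 4 * k + 3 = 2 * (2 * k + 1) + 1 := by ring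
  have e2 : 4 * k = 2 * (2 * k) := by ring
  rw [e1, s2_two_mul_add_one, s2_two_mul, s2_two_mul_add_one, e2, s2_two_mul (2 * k), pow_succ]
  ring

lemma F_eq_of_mod {n : ℕ} (h : n % 4 = 3) : F n = 3 * s2 (n - 3) := by
  obtain ⟨k, rfl⟩ : ∃ k, n = 4 * k + 3 := ⟨n / 4, by omega⟩
  have h3 : 3 ≤ 4 * k + 3 := by omega
  apply le_antisymm _ (three_mul_le_F h3)
  rw [F_le_iff]
  refine ⟨?_, fun _ => le_rfl⟩
  rw [s2_four_mul_add_three, Nat.add_sub_cancel]
  have := s2_pos (4 * k)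
  omega

lemma F_three : F 3 = 3 := by
  rw [F_eq_of_mod (by norm_num)]; simp [s2_zero]

lemma mod_four_of_three_dvd_F {a : ℕ} (h : 3 ∣ F a) : a % 4 = 3 := by
  by_contra hne
  rw [F_eq_s2 hne] at h
  unfold s2 at h
  have := (Nat.Prime.dvd_of_dvd_pow Nat.prime_three h)
  omega

/-- `a * b = N`, `a ≤ A`, `b ≤ B`, `A * B ≤ N` force `a = A` and `b = B`. -/
lemma eq_of_mul_eq_of_le {a b A B N : ℕ} (hN : 0 < N) (h : a * b = N) (ha : a ≤ A) (hb : b ≤ B)
    (hAB : A * B ≤ N) : a = A ∧ b = B := by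
  have ha0 : 0 < a := Nat.pos_of_ne_zero (by rintro rfl; simp at h; omega)
  have hb0 : 0 < b := Nat.pos_of_ne_zero (by rintro rfl; simp at h; omega)
  constructor
  · by_contra hne
    have hlt : a < A := lt_of_le_of_ne ha hne
    have : a * b < A * B := Nat.mul_lt_mul_of_lt_of_le hlt hb (lt_of_lt_of_le hb0 hb)
    omega
  · by_contra hne
    have hlt : b < B := lt_of_le_of_ne hb hne
    have : a * b < A * B := Nat.mul_lt_mul_of_le_of_lt ha hlt (lt_of_lt_of_le ha0 ha)
    omega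

section Gen
variable {G : Type*} [Group G] [Finite G]

omit [Finite G] in
lemma card_subgroupOf_of_le {T H : Subgroup G} (h : T ≤ H) :
    Nat.card (T.subgroupOf H) = Nat.card T :=
  Nat.card_congr (Subgroup.subgroupOfEquivOfLe h).toEquiv

/-- Sylow's conjugacy theorem inside a subgroup `H`, for subgroups of the ambient group. -/
lemma exists_conj_of_card_eq (H : Subgroup G) (p : ℕ) [Fact p.Prime]
    (T₁ T₂ : Subgroup G) (h₁ : T₁ ≤ H) (h₂ : T₂ ≤ H)
    (c₁ : Nat.card T₁ = p ^ (Nat.card H).factorization p)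
    (c₂ : Nat.card T₂ = p ^ (Nat.card H).factorization p) :
    ∃ h ∈ H, T₂ = T₁.map (MulAut.conj h).toMonoidHom := by
  let P₁ : Sylow p H := Sylow.ofCard (T₁.subgroupOf H) (by rw [card_subgroupOf_of_le h₁, c₁])
  let P₂ : Sylow p H := Sylow.ofCard (T₂.subgroupOf H) (by rw [card_subgroupOf_of_le h₂, c₂])
  obtain ⟨h, hh⟩ := MulAction.exists_smul_eq H P₁ P₂
  refine ⟨h, h.2, ?_⟩
  ext x
  constructor
  · intro hx
    have hxH : x ∈ H := h₂ hx
    have : (⟨x, hxH⟩ : H) ∈ (P₂ : Subgroup H) := by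
      show (⟨x, hxH⟩ : H) ∈ T₂.subgroupOf H
      rw [Subgroup.mem_subgroupOf]; exact hx
    rw [← hh, Sylow.coe_subgroup_smul, Subgroup.mem_pointwise_smul_iff_inv_smul_mem] at this
    have h3 : (h⁻¹ * ⟨x, hxH⟩ * h : H) ∈ (P₁ : Subgroup H) := by
      simpa [MulAut.smul_def, MulAut.conj_apply] using this
    change (h⁻¹ * ⟨x, hxH⟩ * h : H) ∈ T₁.subgroupOf H at h3
    rw [Subgroup.mem_subgroupOf] at h3
    refine ⟨_, h3, ?_⟩
    simp [MulAut.conj_apply, mul_assoc]
  · rintro ⟨y, hy, rfl⟩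
    have hyH : y ∈ H := h₁ hy
    have : (h * ⟨y, hyH⟩ * h⁻¹ : H) ∈ (P₂ : Subgroup H) := by
      rw [← hh, Sylow.coe_subgroup_smul, Subgroup.mem_pointwise_smul_iff_inv_smul_mem]
      show (MulAut.conj h)⁻¹ • (h * ⟨y, hyH⟩ * h⁻¹ : H) ∈ T₁.subgroupOf H
      rw [Subgroup.mem_subgroupOf]
      simpa [MulAut.smul_def, MulAut.conj_apply, mul_assoc] using hy
    have h4 : (h * ⟨y, hyH⟩ * h⁻¹ : H) ∈ T₂.subgroupOf H := this
    rw [Subgroup.mem_subgroupOf] at h4
    simpa [MulAut.conj_apply] using h4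

/-- A subgroup of Sylow order which is normalized by `H` is the only subgroup of `H` of this order. -/
lemma eq_of_card_eq_of_normal (H : Subgroup G) (p : ℕ) [Fact p.Prime]
    (T₁ T₂ : Subgroup G) (h₁ : T₁ ≤ H) (h₂ : T₂ ≤ H)
    (c₁ : Nat.card T₁ = p ^ (Nat.card H).factorization p)
    (c₂ : Nat.card T₂ = p ^ (Nat.card H).factorization p)
    (hn : ∀ h ∈ H, ∀ x ∈ T₁, h * x * h⁻¹ ∈ T₁) : T₂ = T₁ := by
  obtain ⟨h, hh, rfl⟩ := exists_conj_of_card_eq H p T₁ T₂ h₁ h₂ c₁ c₂
  apply le_antisymm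
  · rintro x ⟨y, hy, rfl⟩
    exact hn h hh y hy
  · intro x hx
    refine ⟨h⁻¹ * x * h, ?_, ?_⟩
    · have := hn h⁻¹ (H.inv_mem hh) x hx
      simpa using this
    · simp [MulAut.conj_apply, mul_assoc]

end Gen

universe v

section Perm
variable {α : Type v}

/-- Pointwise stabilizer of a set in the symmetric group. -/
def fixSub (s : Set α) : Subgroup (Equiv.Perm α) where
  carrier := {f | ∀ a ∈ s, f a = a}
  one_mem' := fun _ _ => rfl
  mul_mem' := fun {f g} hf hg a ha => by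
    show f (g a) = a
    rw [hg a ha, hf a ha]
  inv_mem' := fun {f} hf a ha => by
    show f⁻¹ a = a
    rw [Equiv.Perm.inv_eq_iff_eq]; exact (hf a ha).symm

lemma mem_fixSub {s : Set α} {f : Equiv.Perm α} : f ∈ fixSub s ↔ ∀ a ∈ s, f a = a := Iff.rfl

lemma card_fixSub [Finite α] (s : Set α) : Nat.card (fixSub s) = (Nat.card ↥(sᶜ : Set α))! := by
  classical
  rw [← Nat.card_perm]
  symm
  refine Nat.card_congr ?_
  refine (Equiv.Perm.subtypeEquivSubtypePerm (fun x => x ∈ (sᶜ : Set α))).trans ?_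
  refine Equiv.subtypeEquivRight ?_
  intro f
  rw [mem_fixSub]
  constructor
  · intro h a ha; exact h a (fun hc => hc ha)
  · intro h a ha
    exact h a (by simpa using ha)

lemma map_conj_fixSub (g : Equiv.Perm α) (s : Set α) :
    (fixSub s).map (MulAut.conj g).toMonoidHom = fixSub (g '' s) := by
  ext f
  constructor
  · rintro ⟨f₀, hf₀, rfl⟩
    rintro _ ⟨b, hb, rfl⟩
    show (g * f₀ * g⁻¹) (g b) = g b
    simp [hf₀ b hb]
  · intro hf
    refine ⟨g⁻¹ * f * g, ?_, ?_⟩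
    · intro b hb
      show g⁻¹ (f (g b)) = b
      rw [hf (g b) ⟨b, hb, rfl⟩]; simp
    · show g * (g⁻¹ * f * g) * g⁻¹ = f
      group

lemma commute_of_mem_fixSub {s : Set α} {f g : Equiv.Perm α} (hf : f ∈ fixSub s)
    (hg : g ∈ fixSub (sᶜ : Set α)) : Commute f g := by
  apply Equiv.Perm.Disjoint.commute
  intro x
  by_cases hx : x ∈ s
  · left; exact hf x hx
  · right; exact hg x hx

lemma fixSub_inf_fixSub_compl (s : Set α) : fixSub s ⊓ fixSub (sᶜ : Set α) = ⊥ := by
  rw [eq_bot_iff]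
  rintro f ⟨h1, h2⟩
  rw [Subgroup.mem_bot]
  ext x
  by_cases hx : x ∈ s
  · exact h1 x hx
  · exact h2 x hx

end Perm

section Perm
variable {α : Type v} [Finite α]

/-- The standard shape of a nilpotent subgroup of largest order of `Sym(n)`, `n ≡ 3 (mod 4)`. -/
def IsStd (N : Subgroup (Equiv.Perm α)) (s : Set α) : Prop :=
  Nat.card s = 3 ∧ Nat.card ↥(N ⊓ fixSub s) = s2 (Nat.card α - 3) ∧
    Nat.card ↥(N ⊓ fixSub (sᶜ : Set α)) = 3 ∧ N = (N ⊓ fixSub s) ⊔ (N ⊓ fixSub (sᶜ : Set α))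

omit [Finite α] in
lemma conj_injective (g : Equiv.Perm α) :
    Function.Injective (MulAut.conj g).toMonoidHom := (MulAut.conj g).injective

omit [Finite α] in
lemma IsStd.map {N : Subgroup (Equiv.Perm α)} {s : Set α} (h : IsStd N s) (g : Equiv.Perm α) :
    IsStd (N.map (MulAut.conj g).toMonoidHom) (g '' s) := by
  obtain ⟨h1, h2, h3, h4⟩ := h
  have hinj := conj_injective g
  have e1 : N.map (MulAut.conj g).toMonoidHom ⊓ fixSub (g '' s) =
      (N ⊓ fixSub s).map (MulAut.conj g).toMonoidHom := by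
    rw [Subgroup.map_inf _ _ _ hinj, map_conj_fixSub]
  have hc : ((g '' s)ᶜ : Set α) = g '' (sᶜ : Set α) := (Set.image_compl_eq g.bijective).symm
  have e2 : N.map (MulAut.conj g).toMonoidHom ⊓ fixSub ((g '' s)ᶜ : Set α) =
      (N ⊓ fixSub (sᶜ : Set α)).map (MulAut.conj g).toMonoidHom := by
    rw [Subgroup.map_inf _ _ _ hinj, map_conj_fixSub, hc]
  refine ⟨?_, ?_, ?_, ?_⟩
  · rw [← h1]; exact Nat.card_image_of_injective g.injective s
  · rw [e1, Subgroup.card_map_of_injective hinj, h2]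
  · rw [e2, Subgroup.card_map_of_injective hinj, h3]
  · rw [e1, e2, ← Subgroup.map_sup, ← h4]

end Perm

lemma factorization_eq_of {p k m N : ℕ} (hp : p.Prime) (h : N = p ^ k * m) (hm : ¬ p ∣ m) :
    N.factorization p = k := by
  have hm0 : m ≠ 0 := by rintro rfl; exact hm (dvd_zero p)
  rw [h, Nat.factorization_mul (pow_ne_zero _ hp.ne_zero) hm0, Finsupp.add_apply,
    hp.factorization_pow, Finsupp.single_eq_same, Nat.factorization_eq_zero_of_not_dvd hm, add_zero]

section Perm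
variable {α : Type v} [Finite α]

lemma card_compl_of_isStd {N : Subgroup (Equiv.Perm α)} {s : Set α} (h : IsStd N s) :
    Nat.card ↥(sᶜ : Set α) = Nat.card α - 3 := by
  classical
  have : Nat.card s + Nat.card ↥(sᶜ : Set α) = Nat.card α := by
    rw [← Nat.card_sum]
    exact Nat.card_congr (Equiv.Set.sumCompl s)
  rw [h.1] at this
  omega

lemma IsStd.conj_of_same {N₁ N₂ : Subgroup (Equiv.Perm α)} {s : Set α}
    (h₁ : IsStd N₁ s) (h₂ : IsStd N₂ s) :
    ∃ h : Equiv.Perm α, N₂ = N₁.map (MulAut.conj h).toMonoidHom := by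
  have hcs := card_compl_of_isStd h₁
  obtain ⟨a1, a2, a3, a4⟩ := h₁
  obtain ⟨_, b2, b3, b4⟩ := h₂
  -- the 2-parts are conjugate inside `fixSub s`
  have hH' : Nat.card (fixSub s) = (Nat.card α - 3)! := by rw [card_fixSub, hcs]
  have hf2 : s2 (Nat.card α - 3) = 2 ^ (Nat.card (fixSub s)).factorization 2 := by
    rw [hH', Nat.factorization_def _ Nat.prime_two]; rfl
  have : Fact (Nat.Prime 2) := ⟨Nat.prime_two⟩
  have : Fact (Nat.Prime 3) := ⟨Nat.prime_three⟩
  obtain ⟨h, hh, hT⟩ := exists_conj_of_card_eq (fixSub s) 2 (N₁ ⊓ fixSub s) (N₂ ⊓ fixSub s)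
    inf_le_right inf_le_right (by rw [a2, hf2]) (by rw [b2, hf2])
  -- the 3-parts are equal
  have hH : Nat.card (fixSub (sᶜ : Set α)) = 6 := by
    rw [card_fixSub, compl_compl, a1]; rfl
  have hf3 : (Nat.card (fixSub (sᶜ : Set α))).factorization 3 = 1 := by
    rw [hH]
    exact factorization_eq_of Nat.prime_three (by norm_num : 6 = 3 ^ 1 * 2) (by norm_num)
  have hnorm : ∀ k ∈ fixSub (sᶜ : Set α), ∀ x ∈ N₁ ⊓ fixSub (sᶜ : Set α),
      k * x * k⁻¹ ∈ N₁ ⊓ fixSub (sᶜ : Set α) := by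
    have hidx : ((N₁ ⊓ fixSub (sᶜ : Set α)).subgroupOf (fixSub (sᶜ : Set α))).index = 2 := by
      have := Subgroup.card_mul_index ((N₁ ⊓ fixSub (sᶜ : Set α)).subgroupOf (fixSub (sᶜ : Set α)))
      rw [card_subgroupOf_of_le inf_le_right, a3, hH] at this
      omega
    have hN := Subgroup.normal_of_index_eq_two hidx
    intro k hk x hx
    have hxH : x ∈ fixSub (sᶜ : Set α) := hx.2
    have := hN.conj_mem ⟨x, hxH⟩ (by rw [Subgroup.mem_subgroupOf]; exact hx) ⟨k, hk⟩
    rw [Subgroup.mem_subgroupOf] at this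
    exact this
  have hC : N₂ ⊓ fixSub (sᶜ : Set α) = N₁ ⊓ fixSub (sᶜ : Set α) :=
    eq_of_card_eq_of_normal (fixSub (sᶜ : Set α)) 3 _ _ inf_le_right inf_le_right
      (by rw [a3, hf3, pow_one]) (by rw [b3, hf3, pow_one]) hnorm
  -- `h` centralizes the 3-part
  have hCmap : (N₁ ⊓ fixSub (sᶜ : Set α)).map (MulAut.conj h).toMonoidHom =
      N₁ ⊓ fixSub (sᶜ : Set α) := by
    ext x
    constructor
    · rintro ⟨y, hy, rfl⟩
      have hc : Commute h y := commute_of_mem_fixSub hh hy.2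
      have : (MulAut.conj h).toMonoidHom y = y := by
        show h * y * h⁻¹ = y
        rw [hc.eq, mul_assoc, mul_inv_cancel, mul_one]
      rw [this]; exact hy
    · intro hx
      have hc : Commute h x := commute_of_mem_fixSub hh hx.2
      refine ⟨x, hx, ?_⟩
      show h * x * h⁻¹ = x
      rw [hc.eq, mul_assoc, mul_inv_cancel, mul_one]
  refine ⟨h, ?_⟩
  conv_lhs => rw [b4]
  conv_rhs => rw [a4]
  rw [Subgroup.map_sup, hCmap, ← hT, hC]

end Perm

section Perm
variable {α : Type v} [Finite α]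

lemma exists_perm_image_eq {s₁ s₂ : Set α} (h : Nat.card s₁ = Nat.card s₂) :
    ∃ g : Equiv.Perm α, g '' s₁ = s₂ := by
  classical
  obtain ⟨e⟩ := (Finite.card_eq (α := s₁) (β := s₂)).1 h
  let e' : {x // x ∈ s₁} ≃ {x // x ∈ s₂} := e
  refine ⟨e'.extendSubtype, ?_⟩
  ext x
  constructor
  · rintro ⟨y, hy, rfl⟩
    exact e'.extendSubtype_mem y hy
  · intro hx
    refine ⟨e'.extendSubtype.symm x, ?_, by simp⟩
    by_contra hc
    have := e'.extendSubtype_not_mem _ hc
    simp at this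
    exact this hx

lemma IsStd.conj {N₁ N₂ : Subgroup (Equiv.Perm α)} {s₁ s₂ : Set α}
    (h₁ : IsStd N₁ s₁) (h₂ : IsStd N₂ s₂) :
    ∃ g : Equiv.Perm α, N₂ = N₁.map (MulAut.conj g).toMonoidHom := by
  obtain ⟨g, hg⟩ := exists_perm_image_eq (h₁.1.trans h₂.1.symm)
  have h₁' : IsStd (N₁.map (MulAut.conj g).toMonoidHom) s₂ := hg ▸ h₁.map g
  obtain ⟨h, hh⟩ := IsStd.conj_of_same h₁' h₂
  refine ⟨h * g, ?_⟩
  rw [hh, Subgroup.map_map]
  congr 1

end Perm

lemma card_eq_range_mul_ker {G H : Type*} [Group G] [Group H] (f : G →* H) :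
    Nat.card G = Nat.card f.range * Nat.card f.ker := by
  rw [Subgroup.card_eq_card_quotient_mul_card_subgroup f.ker,
    Nat.card_congr (QuotientGroup.quotientKerEquivRange f).toEquiv]

section Perm
variable {α : Type v}

lemma orbit_invariant (N : Subgroup (Equiv.Perm α)) (a : α) :
    ∀ g ∈ N, ∀ x, g x ∈ MulAction.orbit N a ↔ x ∈ MulAction.orbit N a := by
  intro g hg x
  constructor
  · intro h
    have := MulAction.mem_orbit_of_mem_orbit (⟨g, hg⟩ : N)⁻¹ h
    have e : ((⟨g, hg⟩ : N)⁻¹ • (g x) : α) = x := by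
      show (g⁻¹ : Equiv.Perm α) (g x) = x
      simp
    rwa [e] at this
  · intro h
    exact MulAction.mem_orbit_of_mem_orbit (⟨g, hg⟩ : N) h

lemma ker_restrictHom (N : Subgroup (Equiv.Perm α)) (s : Set α)
    (hs : ∀ g ∈ N, ∀ x, g x ∈ s ↔ x ∈ s) :
    (restrictHom N s hs).ker = (fixSub s).subgroupOf N := by
  ext g
  rw [MonoidHom.mem_ker, Subgroup.mem_subgroupOf, mem_fixSub]
  constructor
  · intro h a ha
    have := congrArg (fun z : Equiv.Perm s => ((z ⟨a, ha⟩ : s) : α)) h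
    exact this
  · intro h
    ext ⟨a, ha⟩
    exact h a ha

lemma card_inf_fixSub (N : Subgroup (Equiv.Perm α)) (s : Set α)
    (hs : ∀ g ∈ N, ∀ x, g x ∈ s ↔ x ∈ s) :
    Nat.card ↥(N ⊓ fixSub s) = Nat.card (restrictHom N s hs).ker := by
  rw [ker_restrictHom, ← Subgroup.inf_subgroupOf_left, card_subgroupOf_of_le inf_le_left]

lemma map_ker_restrictHom (N : Subgroup (Equiv.Perm α)) (s : Set α)
    (hs : ∀ g ∈ N, ∀ x, g x ∈ s ↔ x ∈ s) :
    (restrictHom N s hs).ker.map N.subtype = N ⊓ fixSub s := by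
  rw [ker_restrictHom, Subgroup.subgroupOf_map_subtype, inf_comm]

end Perm

section Perm
variable {α : Type v} [Finite α]

theorem exists_isStd (N : Subgroup (Equiv.Perm α)) (hN : Group.IsNilpotent N)
    (hn : Nat.card α % 4 = 3) (hcard : Nat.card N = 3 * s2 (Nat.card α - 3)) :
    ∃ s : Set α, IsStd N s := by
  classical
  have hFn : F (Nat.card α) = 3 * s2 (Nat.card α - 3) := F_eq_of_mod hn
  have hs2pos : 0 < s2 (Nat.card α - 3) := s2_pos _
  -- an element of order 3
  have h3 : 3 ∣ Nat.card N := ⟨_, hcard⟩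
  have : Fact (Nat.Prime 3) := ⟨Nat.prime_three⟩
  obtain ⟨c, hc⟩ := exists_prime_orderOf_dvd_card' 3 h3
  have hc1 : c ≠ 1 := by
    intro h; rw [h, orderOf_one] at hc; omega
  obtain ⟨a, ha⟩ : ∃ a, (c : Equiv.Perm α) a ≠ a := by
    by_contra hcon
    apply hc1
    apply Subtype.ext
    apply Equiv.ext
    intro x
    by_contra hx
    exact hcon ⟨x, hx⟩
  set s : Set α := MulAction.orbit N a with hs_def
  have has : a ∈ s := MulAction.mem_orbit_self a
  have hs : ∀ g ∈ N, ∀ x, g x ∈ s ↔ x ∈ s := orbit_invariant N a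
  have hs' : ∀ g ∈ N, ∀ x, g x ∈ (sᶜ : Set α) ↔ x ∈ (sᶜ : Set α) :=
    fun g hg x => not_congr (hs g hg x)
  set rs := restrictHom N s hs with hrs
  set rc := restrictHom N (sᶜ : Set α) hs' with hrc
  have hcs : Nat.card s + Nat.card ↥(sᶜ : Set α) = Nat.card α := by
    rw [← Nat.card_sum]
    exact Nat.card_congr (Equiv.Set.sumCompl s)
  have e1 : Nat.card N = Nat.card rs.range * Nat.card rs.ker := card_eq_range_mul_ker rs
  have e2 : Nat.card N = Nat.card rc.range * Nat.card rc.ker := card_eq_range_mul_ker rc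
  -- bounds
  have b1 : Nat.card rs.range ≤ F (Nat.card s) :=
    card_le_F_perm rs.range
      (Group.nilpotent_of_surjective rs.rangeRestrict (MonoidHom.rangeRestrict_surjective _))
  have b3 : Nat.card rc.range ≤ F (Nat.card ↥(sᶜ : Set α)) :=
    card_le_F_perm rc.range
      (Group.nilpotent_of_surjective rc.rangeRestrict (MonoidHom.rangeRestrict_surjective _))
  have hdisj : ∀ g : N, rs g = 1 → rc g = 1 → g = 1 := by
    intro g h1 h2
    apply Subtype.ext
    apply Equiv.ext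
    intro x
    by_cases hx : x ∈ s
    · exact congrArg (fun z : Equiv.Perm s => ((z ⟨x, hx⟩ : s) : α)) h1
    · exact congrArg (fun z : Equiv.Perm (sᶜ : Set α) => ((z ⟨x, hx⟩ : (sᶜ : Set α)) : α)) h2
  have b2 : Nat.card rs.ker ≤ F (Nat.card ↥(sᶜ : Set α)) := by
    let θ : rs.ker →* Equiv.Perm ↥(sᶜ : Set α) := rc.comp rs.ker.subtype
    have hθ : Function.Injective θ := by
      rw [injective_iff_map_eq_one]
      intro g hg
      apply Subtype.ext
      exact hdisj g.1 g.2 hg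
    have hnil : Group.IsNilpotent θ.range :=
      Group.nilpotent_of_surjective θ.rangeRestrict (MonoidHom.rangeRestrict_surjective _)
    have := card_le_F_perm θ.range hnil
    rwa [← Nat.card_congr (MonoidHom.ofInjective hθ).toEquiv] at this
  have hFF : F (Nat.card s) * F (Nat.card ↥(sᶜ : Set α)) ≤ Nat.card N := by
    rw [hcard, ← hFn, ← hcs]; exact F_mul_le _ _
  have hNpos : 0 < Nat.card N := Nat.card_pos
  obtain ⟨r1, r2⟩ := eq_of_mul_eq_of_le hNpos e1.symm b1 b2 hFF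
  -- `rs c` has order 3
  have hrsc : rs c ≠ 1 := by
    intro h
    apply ha
    exact congrArg (fun z : Equiv.Perm s => ((z ⟨a, has⟩ : s) : α)) h
  have hrsc3 : orderOf (rs c) = 3 := by
    have hd : orderOf (rs c) ∣ 3 := by
      apply orderOf_dvd_of_pow_eq_one
      rw [← map_pow, ← hc, pow_orderOf_eq_one, map_one]
    rcases (Nat.dvd_prime Nat.prime_three).1 hd with h | h
    · exact absurd (orderOf_eq_one_iff.1 h) hrsc
    · exact h
  have h3r : 3 ∣ Nat.card rs.range := by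
    have := Subgroup.orderOf_dvd_natCard rs.range (⟨c, rfl⟩ : rs c ∈ rs.range)
    rwa [hrsc3] at this
  have hs4 : Nat.card s % 4 = 3 := mod_four_of_three_dvd_F (r1 ▸ h3r)
  -- the orbit has size 3
  have hsdvd : Nat.card s ∣ Nat.card N := by
    rw [Nat.card_coe_set_eq, hs_def, ← MulAction.index_stabilizer]
    exact Subgroup.index_dvd_card _
  have hs3 : Nat.card s = 3 := by
    rw [hcard] at hsdvd
    have hcop : Nat.Coprime (Nat.card s) (s2 (Nat.card α - 3)) := by
      unfold s2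
      apply Nat.Coprime.pow_right
      exact ((Nat.Prime.coprime_iff_not_dvd Nat.prime_two).2 (by omega)).symm
    have := hcop.dvd_of_dvd_mul_right hsdvd
    rcases (Nat.dvd_prime Nat.prime_three).1 this with h | h
    · omega
    · exact h
  have hsc : Nat.card ↥(sᶜ : Set α) = Nat.card α - 3 := by omega
  have hFc : F (Nat.card ↥(sᶜ : Set α)) = s2 (Nat.card α - 3) := by
    rw [hsc]; exact F_eq_s2 (by omega)
  rw [hs3, F_three] at r1
  rw [hFc] at r2 b3
  -- the kernel of `rc` has order 3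
  have k1 : 3 ≤ Nat.card rc.ker := by
    by_contra hlt
    have hle : Nat.card rc.ker ≤ 2 := by omega
    have : Nat.card rc.range * Nat.card rc.ker ≤ s2 (Nat.card α - 3) * 2 := Nat.mul_le_mul b3 hle
    omega
  have k2 : Nat.card rc.ker ≤ 3 := by
    rw [← r1]
    let θ : rc.ker →* rs.range := rs.rangeRestrict.comp rc.ker.subtype
    have hθ : Function.Injective θ := by
      rw [injective_iff_map_eq_one]
      intro g hg
      apply Subtype.ext
      have hg' : rs g.1 = 1 := congrArg Subtype.val hg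
      exact hdisj g.1 hg' g.2
    exact Nat.card_le_card_of_injective θ hθ
  have k3 : Nat.card rc.ker = 3 := le_antisymm k2 k1
  have k4 : Nat.card rc.range = s2 (Nat.card α - 3) := by
    rw [k3, hcard] at e2
    have : Nat.card rc.range * 3 = s2 (Nat.card α - 3) * 3 := by rw [← e2]; ring
    exact Nat.eq_of_mul_eq_mul_right (by norm_num) this
  -- the two kernels generate `N`
  have htop : rs.ker ⊔ rc.ker = ⊤ := by
    rw [← Subgroup.index_eq_one]
    have d1 : (rs.ker ⊔ rc.ker).index ∣ 3 := by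
      have := Subgroup.index_dvd_of_le (le_sup_left : rs.ker ≤ rs.ker ⊔ rc.ker)
      rwa [Subgroup.index_ker, r1] at this
    have d2 : (rs.ker ⊔ rc.ker).index ∣ s2 (Nat.card α - 3) := by
      have := Subgroup.index_dvd_of_le (le_sup_right : rc.ker ≤ rs.ker ⊔ rc.ker)
      rwa [Subgroup.index_ker, k4] at this
    have hcop : Nat.Coprime 3 (s2 (Nat.card α - 3)) := by
      unfold s2
      apply Nat.Coprime.pow_right
      norm_num
    exact Nat.eq_one_of_dvd_coprimes hcop d1 d2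
  refine ⟨s, hs3, ?_, ?_, ?_⟩
  · rw [card_inf_fixSub N s hs, r2]
  · rw [card_inf_fixSub N (sᶜ : Set α) hs', k3]
  · rw [← map_ker_restrictHom N s hs, ← map_ker_restrictHom N (sᶜ : Set α) hs',
      ← Subgroup.map_sup, htop, ← MonoidHom.range_eq_map, Subgroup.range_subtype]

end Perm

lemma exists_std_subgroup (m : ℕ) (P : Sylow 2 (Equiv.Perm (Fin m))) {n : ℕ} (hn : n = m + 3) :
    ∃ M : Subgroup (Equiv.Perm (Fin n)), Group.IsNilpotent M ∧ Nat.card M = 3 * Nat.card P ∧
      Nonempty (M ≃* (↥(P : Subgroup (Equiv.Perm (Fin m))) × Multiplicative (ZMod 3))) := by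
  subst hn
  have : Fact (Nat.Prime 2) := ⟨Nat.prime_two⟩
  have : Fact (Nat.Prime 3) := ⟨Nat.prime_three⟩
  let ι : Equiv.Perm (Fin m) × Equiv.Perm (Fin 3) →* Equiv.Perm (Fin (m + 3)) :=
    (finSumFinEquiv.permCongrHom).toMonoidHom.comp (Equiv.Perm.sumCongrHom (Fin m) (Fin 3))
  have hι : Function.Injective ι :=
    (finSumFinEquiv.permCongrHom).injective.comp Equiv.Perm.sumCongrHom_injective
  let C₀ : Sylow 3 (Equiv.Perm (Fin 3)) := default
  let C : Subgroup (Equiv.Perm (Fin 3)) := (C₀ : Subgroup (Equiv.Perm (Fin 3)))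
  have hC : Nat.card C = 3 := by
    show Nat.card (C₀ : Subgroup (Equiv.Perm (Fin 3))) = 3
    rw [Sylow.card_eq_multiplicity, Nat.card_perm, Nat.card_fin]
    rw [factorization_eq_of Nat.prime_three (by decide : (3)! = 3 ^ 1 * 2) (by norm_num)]
    norm_num
  let M : Subgroup (Equiv.Perm (Fin (m + 3))) := ((P : Subgroup _).prod C).map ι
  have hZ : Nat.card (Multiplicative (ZMod 3)) = 3 := by
    rw [Nat.card_congr Multiplicative.toAdd, Nat.card_zmod]
  let eC : C ≃* Multiplicative (ZMod 3) := mulEquivOfPrimeCardEq (p := 3) hC hZ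
  let e : M ≃* (↥(P : Subgroup (Equiv.Perm (Fin m))) × Multiplicative (ZMod 3)) :=
    ((Subgroup.equivMapOfInjective _ ι hι).symm).trans
      ((Subgroup.prodEquiv _ _).trans (MulEquiv.prodCongr (MulEquiv.refl _) eC))
  have hPnil : Group.IsNilpotent ↥(P : Subgroup (Equiv.Perm (Fin m))) := P.isPGroup'.isNilpotent
  refine ⟨M, Group.nilpotent_of_mulEquiv e.symm, ?_, ⟨e⟩⟩
  rw [Nat.card_congr e.toEquiv, Nat.card_prod, hZ, mul_comm]

end Cfsg.Agent.Lib.Helper29_NilpSym2
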