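import Mathlib
import Cfsg.Agent.Lib.Helper29_ODDefs
import Cfsg.Agent.Lib.Helper94_OrthRefl

/-!
# OD-3CYC (helper29's market, row S5677): `Ω = [O, O]` contains 3-cycles of blocks

For blocks `a ≠ b` of an orthogonal decomposition and an isometry `e : D a ≃ D b`, the swap
`swapEquiv` (`e` on `D a`, `e⁻¹` on `D b`, identity on the other blocks) is an isometry inducing
`Equiv.swap a b` on the blocks; the commutator of two swaps induces a 3-cycle.
-/

set_option autoImplicit false
set_option linter.unusedSectionVars false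

namespace Cfsg.Agent.Lib.Helper73_OD_3CYC

open Module Cfsg.Agent.Lib.Helper94_Symp Cfsg.Agent.Lib.Helper94_OrthSmall
  Cfsg.Agent.Lib.Helper94_OrthSiegel Cfsg.Agent.Lib.Helper94_OrthSiegel2
  Cfsg.Agent.Lib.Helper94_OrthPara Cfsg.Agent.Lib.Helper94_OrthVec
  Cfsg.Agent.Lib.Helper94_OrthNondeg Cfsg.Agent.Lib.Helper94_OrthRefl
  Cfsg.Agent.Lib.Helper29_ODDefs

open scoped commutatorElement

variable {F V : Type*} [Field F] [AddCommGroup V] [Module F V] [Finite F] [FiniteDimensional F V]
  {Q : V → F} {B : LinearMap.BilinForm F V}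

/-- the blocks of an orthogonal decomposition are independent -/
lemma indep {t k : ℕ} {D : Fin t → Submodule F V} (hD : ODec Q B k D) : iSupIndep D := by
  intro i
  rw [Submodule.disjoint_def]
  intro x hx hx'
  have h1 : ∀ d ∈ D i, B d x = 0 := by
    have hle : (⨆ j, ⨆ (_ : j ≠ i), D j) ≤ B.orthogonal (D i) := by
      refine iSup_le fun j => iSup_le fun hj => ?_
      intro y hy
      rw [LinearMap.BilinForm.mem_orthogonal_iff]
      intro d hd
      exact hD.orth i j (Ne.symm hj) d hd y hy
    have := hle hx'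
    rw [LinearMap.BilinForm.mem_orthogonal_iff] at this
    exact this
  by_contra hx0
  obtain ⟨d, hd, hne⟩ := hD.nd i x hx hx0
  exact hne (h1 d hd)

lemma internal {t k : ℕ} {D : Fin t → Submodule F V} (hD : ODec Q B k D) :
    Function.Bijective (DirectSum.coeLinearMap D) :=
  DirectSum.isInternal_submodule_of_iSupIndep_of_iSup_eq_top (indep hD) hD.sup

/-- linear maps agreeing on all blocks are equal -/
lemma ext_blocks {t : ℕ} {D : Fin t → Submodule F V} (hsup : iSup D = ⊤) {W : Type*}
    [AddCommGroup W] [Module F W] (f g : V →ₗ[F] W) (h : ∀ i, ∀ d ∈ D i, f d = g d) : f = g := by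
  ext v
  have hv : v ∈ iSup D := by rw [hsup]; trivial
  refine Submodule.iSup_induction D (motive := fun v => f v = g v) hv ?_ ?_ ?_
  · intro i x hx
    exact h i x hx
  · rw [map_zero, map_zero]
  · intro x y hx hy
    rw [map_add, map_add, hx, hy]

/-- the linear map glued from linear maps on the blocks -/
noncomputable def glue {t : ℕ} (D : Fin t → Submodule F V) (hint : Function.Bijective (DirectSum.coeLinearMap D))
    (f : ∀ i, D i →ₗ[F] V) : V →ₗ[F] V :=
  (DirectSum.toModule F (Fin t) V f) ∘ₗ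
    (LinearEquiv.ofBijective (DirectSum.coeLinearMap D) hint).symm.toLinearMap

lemma glue_apply_mem {t : ℕ} (D : Fin t → Submodule F V) (hint : Function.Bijective (DirectSum.coeLinearMap D))
    (f : ∀ i, D i →ₗ[F] V) (i : Fin t) (d : V) (hd : d ∈ D i) :
    glue D hint f d = f i ⟨d, hd⟩ := by
  unfold glue
  have h1 : (LinearEquiv.ofBijective (DirectSum.coeLinearMap D) hint).symm d =
      DirectSum.lof F (Fin t) (fun i => D i) i ⟨d, hd⟩ := by
    rw [LinearEquiv.symm_apply_eq, LinearEquiv.ofBijective_apply, DirectSum.coeLinearMap_lof]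
  rw [LinearMap.comp_apply, LinearEquiv.coe_coe, h1, DirectSum.toModule_lof]

section swap

variable {t : ℕ} {D : Fin t → Submodule F V}

/-- the family of maps on the blocks defining the swap of the blocks `a` and `b` -/
noncomputable def swapFam (D : Fin t → Submodule F V) (a b : Fin t) (e : D a ≃ₗ[F] D b) :
    ∀ i, D i →ₗ[F] V := fun i =>
  if ha : i = a then
    (D b).subtype ∘ₗ e.toLinearMap ∘ₗ (LinearEquiv.ofEq (D i) (D a) (by rw [ha])).toLinearMap
  else if hb : i = b then
    (D a).subtype ∘ₗ e.symm.toLinearMap ∘ₗ (LinearEquiv.ofEq (D i) (D b) (by rw [hb])).toLinearMap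
  else (D i).subtype

/-- the swap of two blocks, as a linear map -/
noncomputable def swapLin (hint : Function.Bijective (DirectSum.coeLinearMap D)) (a b : Fin t)
    (e : D a ≃ₗ[F] D b) : V →ₗ[F] V :=
  glue D hint (swapFam D a b e)

lemma swapLin_a (hint : Function.Bijective (DirectSum.coeLinearMap D)) (a b : Fin t)
    (e : D a ≃ₗ[F] D b) (d : V) (hd : d ∈ D a) :
    swapLin hint a b e d = (e ⟨d, hd⟩ : V) := by
  unfold swapLin
  rw [glue_apply_mem D hint _ a d hd]
  unfold swapFam
  rw [dif_pos rfl]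
  simp

lemma swapLin_b (hint : Function.Bijective (DirectSum.coeLinearMap D)) (a b : Fin t) (hab : a ≠ b)
    (e : D a ≃ₗ[F] D b) (d : V) (hd : d ∈ D b) :
    swapLin hint a b e d = (e.symm ⟨d, hd⟩ : V) := by
  unfold swapLin
  rw [glue_apply_mem D hint _ b d hd]
  unfold swapFam
  rw [dif_neg (Ne.symm hab), dif_pos rfl]
  simp

lemma swapLin_other (hint : Function.Bijective (DirectSum.coeLinearMap D)) (a b : Fin t)
    (e : D a ≃ₗ[F] D b) (i : Fin t) (hia : i ≠ a) (hib : i ≠ b) (d : V) (hd : d ∈ D i) :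
    swapLin hint a b e d = d := by
  unfold swapLin
  rw [glue_apply_mem D hint _ i d hd]
  unfold swapFam
  rw [dif_neg hia, dif_neg hib]
  rfl

/-- the swap sends the block `i` into the block `swap a b i` -/
lemma swapLin_mem (hint : Function.Bijective (DirectSum.coeLinearMap D)) (a b : Fin t) (hab : a ≠ b)
    (e : D a ≃ₗ[F] D b) (i : Fin t) (d : V) (hd : d ∈ D i) :
    swapLin hint a b e d ∈ D (Equiv.swap a b i) := by
  by_cases hia : i = a
  · subst hia
    rw [swapLin_a hint i b e d hd, Equiv.swap_apply_left]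
    exact (e ⟨d, hd⟩).2
  · by_cases hib : i = b
    · subst hib
      rw [swapLin_b hint a i hab e d hd, Equiv.swap_apply_right]
      exact (e.symm ⟨d, hd⟩).2
    · rw [swapLin_other hint a b e i hia hib d hd, Equiv.swap_apply_of_ne_of_ne hia hib]
      exact hd

lemma swapLin_invol (hsup : iSup D = ⊤) (hint : Function.Bijective (DirectSum.coeLinearMap D))
    (a b : Fin t) (hab : a ≠ b) (e : D a ≃ₗ[F] D b) :
    Function.Involutive (swapLin hint a b e) := by
  have h : (swapLin hint a b e) ∘ₗ (swapLin hint a b e) = LinearMap.id := by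
    refine ext_blocks hsup _ _ ?_
    intro i d hd
    rw [LinearMap.comp_apply, LinearMap.id_apply]
    by_cases hia : i = a
    · subst hia
      rw [swapLin_a hint i b e d hd, swapLin_b hint i b hab e _ (e ⟨d, hd⟩).2]
      simp
    · by_cases hib : i = b
      · subst hib
        rw [swapLin_b hint a i hab e d hd, swapLin_a hint a i e _ (e.symm ⟨d, hd⟩).2]
        simp
      · rw [swapLin_other hint a b e i hia hib d hd, swapLin_other hint a b e i hia hib d hd]
  intro v
  have := congrArg (fun T : V →ₗ[F] V => T v) h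
  simpa using this

/-- the swap preserves `Q` on each block -/
lemma swapLin_Q_block (hint : Function.Bijective (DirectSum.coeLinearMap D)) (a b : Fin t)
    (hab : a ≠ b) (e : D a ≃ₗ[F] D b) (he : ∀ w : D a, Q ((e w : D b) : V) = Q (w : V))
    (i : Fin t) (d : V) (hd : d ∈ D i) : Q (swapLin hint a b e d) = Q d := by
  by_cases hia : i = a
  · subst hia
    rw [swapLin_a hint i b e d hd, he]
  · by_cases hib : i = b
    · subst hib
      rw [swapLin_b hint a i hab e d hd]
      have := he (e.symm ⟨d, hd⟩)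
      rw [LinearEquiv.apply_symm_apply] at this
      exact this.symm
    · rw [swapLin_other hint a b e i hia hib d hd]

/-- the swap preserves `B` -/
lemma swapLin_B (hQp : ∀ u v : V, Q (u + v) = Q u + Q v + B u v) {k : ℕ} (hD : ODec Q B k D)
    (hint : Function.Bijective (DirectSum.coeLinearMap D)) (a b : Fin t)
    (hab : a ≠ b) (e : D a ≃ₗ[F] D b) (he : ∀ w : D a, Q ((e w : D b) : V) = Q (w : V))
    (u v : V) : B (swapLin hint a b e u) (swapLin hint a b e v) = B u v := by
  have key : B.compl₁₂ (swapLin hint a b e) (swapLin hint a b e) = B := by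
    refine ext_blocks hD.sup _ _ ?_
    intro i x hx
    refine ext_blocks hD.sup _ _ ?_
    intro j y hy
    rw [LinearMap.compl₁₂_apply]
    by_cases hij : i = j
    · subst hij
      have h1 := hQp (swapLin hint a b e x) (swapLin hint a b e y)
      rw [← map_add, swapLin_Q_block hint a b hab e he i _ ((D i).add_mem hx hy),
        swapLin_Q_block hint a b hab e he i _ hx, swapLin_Q_block hint a b hab e he i _ hy,
        hQp x y] at h1
      exact (add_left_cancel h1).symm
    · rw [hD.orth i j hij x hx y hy]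
      exact hD.orth _ _ (fun h => hij ((Equiv.swap a b).injective h)) _
        (swapLin_mem hint a b hab e i x hx) _ (swapLin_mem hint a b hab e j y hy)
  have := congrArg (fun T : LinearMap.BilinForm F V => T u v) key
  simpa [LinearMap.compl₁₂_apply] using this

/-- the swap preserves `Q` -/
lemma swapLin_Q (hQp : ∀ u v : V, Q (u + v) = Q u + Q v + B u v) {k : ℕ} (hD : ODec Q B k D)
    (hint : Function.Bijective (DirectSum.coeLinearMap D)) (a b : Fin t)
    (hab : a ≠ b) (e : D a ≃ₗ[F] D b) (he : ∀ w : D a, Q ((e w : D b) : V) = Q (w : V))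
    (v : V) : Q (swapLin hint a b e v) = Q v := by
  have hv : v ∈ iSup D := by rw [hD.sup]; trivial
  refine Submodule.iSup_induction D (motive := fun v => Q (swapLin hint a b e v) = Q v) hv ?_ ?_ ?_
  · intro i x hx
    exact swapLin_Q_block hint a b hab e he i x hx
  · rw [map_zero]
  · intro x y hx hy
    rw [map_add, hQp, hQp, hx, hy, swapLin_B hQp hD hint a b hab e he]

/-- the swap of two blocks, as a linear equivalence -/
noncomputable def swapEquiv (hsup : iSup D = ⊤)
    (hint : Function.Bijective (DirectSum.coeLinearMap D)) (a b : Fin t) (hab : a ≠ b)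
    (e : D a ≃ₗ[F] D b) : V ≃ₗ[F] V :=
  LinearEquiv.ofInvolutive (swapLin hint a b e) (swapLin_invol hsup hint a b hab e)

lemma swapEquiv_apply (hsup : iSup D = ⊤)
    (hint : Function.Bijective (DirectSum.coeLinearMap D)) (a b : Fin t) (hab : a ≠ b)
    (e : D a ≃ₗ[F] D b) (v : V) : swapEquiv hsup hint a b hab e v = swapLin hint a b e v := rfl

/-- `g` induces the permutation `σ` on the blocks -/
def Ind (D : Fin t → Submodule F V) (g : V ≃ₗ[F] V) (σ : Equiv.Perm (Fin t)) : Prop :=
  ∀ i, (D i).map (g : V →ₗ[F] V) = D (σ i)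

lemma Ind.mul {g g' : V ≃ₗ[F] V} {σ σ' : Equiv.Perm (Fin t)} (h : Ind D g σ) (h' : Ind D g' σ') :
    Ind D (g * g') (σ * σ') := by
  intro i
  have e : ((g * g' : V ≃ₗ[F] V) : V →ₗ[F] V) = (g : V →ₗ[F] V) ∘ₗ (g' : V →ₗ[F] V) := rfl
  rw [e, Submodule.map_comp, h' i, h (σ' i)]
  rfl

lemma Ind.inv {g : V ≃ₗ[F] V} {σ : Equiv.Perm (Fin t)} (h : Ind D g σ) : Ind D g⁻¹ σ⁻¹ := by
  intro i
  have h1 := h (σ⁻¹ i)
  have h0 : σ (σ⁻¹ i) = i := Equiv.apply_symm_apply σ i
  rw [h0] at h1
  rw [← h1, ← Submodule.map_comp]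
  have e : ((g⁻¹ : V ≃ₗ[F] V) : V →ₗ[F] V) ∘ₗ (g : V →ₗ[F] V) = LinearMap.id := by
    ext v
    simp
  rw [e, Submodule.map_id]

lemma swapEquiv_ind (hsup : iSup D = ⊤)
    (hint : Function.Bijective (DirectSum.coeLinearMap D)) (a b : Fin t) (hab : a ≠ b)
    (e : D a ≃ₗ[F] D b) : Ind D (swapEquiv hsup hint a b hab e) (Equiv.swap a b) := by
  have hle : ∀ i, (D i).map ((swapEquiv hsup hint a b hab e : V ≃ₗ[F] V) : V →ₗ[F] V) ≤
      D (Equiv.swap a b i) := by
    intro i
    rw [Submodule.map_le_iff_le_comap]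
    intro d hd
    exact swapLin_mem hint a b hab e i d hd
  intro i
  refine le_antisymm (hle i) ?_
  intro d hd
  refine ⟨swapLin hint a b e d, ?_, ?_⟩
  · have := swapLin_mem hint a b hab e _ d hd
    rw [Equiv.swap_apply_self] at this
    exact this
  · exact swapLin_invol hsup hint a b hab e d

end swap

set_option linter.unusedVariables false in
/-- **OD-3CYC** -/
theorem three_cycles (hQs : ∀ (c : F) (v : V), Q (c • v) = c * c * Q v)
    (hQp : ∀ u v : V, Q (u + v) = Q u + Q v + B u v) (hN : B.Nondegenerate)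
    {t k : ℕ} {D : Fin t → Submodule F V} (hD : ODec Q B k D) : ThreeCycles Q D := by
  intro a b c hab hac hbc
  have hint := internal hD
  obtain ⟨e₁, he₁⟩ := hD.iso a c
  obtain ⟨e₂, he₂⟩ := hD.iso c b
  have hcb : c ≠ b := Ne.symm hbc
  have h1 : swapEquiv hD.sup hint a c hac e₁ ∈ oG Q := fun v =>
    swapLin_Q hQp hD hint a c hac e₁ he₁ v
  have h2 : swapEquiv hD.sup hint c b hcb e₂ ∈ oG Q := fun v =>
    swapLin_Q hQp hD hint c b hcb e₂ he₂ v
  have i1 := swapEquiv_ind hD.sup hint a c hac e₁
  have i2 := swapEquiv_ind hD.sup hint c b hcb e₂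
  refine ⟨⁅swapEquiv hD.sup hint a c hac e₁, swapEquiv hD.sup hint c b hcb e₂⁆,
    Subgroup.commutator_mem_commutator h1 h2,
    Equiv.swap a c * Equiv.swap c b * (Equiv.swap a c)⁻¹ * (Equiv.swap c b)⁻¹, ?_, ?_, ?_⟩
  · rw [commutatorElement_def]
    exact ((i1.mul i2).mul i1.inv).mul i2.inv
  · simp only [Equiv.swap_inv, Equiv.Perm.mul_apply]
    rw [Equiv.swap_apply_of_ne_of_ne hac hab, Equiv.swap_apply_left, Equiv.swap_apply_left,
      Equiv.swap_apply_of_ne_of_ne (Ne.symm hab) hbc]
  · simp only [Equiv.swap_inv, Equiv.Perm.mul_apply]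
    rw [Equiv.swap_apply_right, Equiv.swap_apply_right,
      Equiv.swap_apply_of_ne_of_ne hac hab, Equiv.swap_apply_left]

end Cfsg.Agent.Lib.Helper73_OD_3CYC
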