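import Mathlib
import Cfsg.Agent.Lib.Helper94_Symp
import Cfsg.Agent.Lib.Helper94_OrthSmall
import Cfsg.Agent.Lib.Helper94_OrthNondeg
import Cfsg.Agent.Lib.Helper94_OrthTS

set_option autoImplicit false

/-!
Hyperbolic pairs in nondegenerate quadratic spaces (any characteristic): splitting off a hyperbolic
plane, hyperbolic bases of nondegenerate spaces of dimension two and four containing enough
singular vectors (helper94).
-/

namespace Cfsg.Agent.Lib.Helper94_OrthHyp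

open Module Cfsg.Agent.Lib.Helper94_Symp Cfsg.Agent.Lib.Helper94_OrthSmall
  Cfsg.Agent.Lib.Helper94_OrthNondeg Cfsg.Agent.Lib.Helper94_OrthTS

variable {F V : Type*} [Field F] [AddCommGroup V] [Module F V]

section

variable [FiniteDimensional F V] {Q : V → F} {B : LinearMap.BilinForm F V}
  (hQs : ∀ (c : F) (v : V), Q (c • v) = c * c * Q v)
  (hQp : ∀ u v : V, Q (u + v) = Q u + Q v + B u v)

include hQs hQp in
/-- A singular vector of a nondegenerate subspace has a singular partner. -/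
lemma exists_partner (A : Submodule F V) (hAnd : ∀ a ∈ A, a ≠ 0 → ∃ x ∈ A, B x a ≠ 0)
    {e : V} (he : e ∈ A) (he0 : e ≠ 0) (hQe : Q e = 0) :
    ∃ f ∈ A, Q f = 0 ∧ B e f = 1 := by
  have hsymm := B_symm Q B hQp
  obtain ⟨x, hx, hxe⟩ := hAnd e he he0
  have hex : B e x ≠ 0 := by rw [hsymm]; exact hxe
  refine ⟨(B e x)⁻¹ • x - ((B e x)⁻¹ * (B e x)⁻¹ * Q x) • e,
    A.sub_mem (A.smul_mem _ hx) (A.smul_mem _ he), ?_, ?_⟩
  · rw [sub_eq_add_neg, ← neg_smul, Q_add_smul Q B hQs hQp, hQs, hQe, map_smul,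
      LinearMap.smul_apply, hsymm x e, smul_eq_mul]
    field_simp
    ring
  · rw [map_sub, map_smul, map_smul, B_self Q B hQs hQp, hQe, smul_eq_mul, smul_eq_mul,
      inv_mul_cancel₀ hex]
    ring

include hQs hQp in
/-- Splitting off a hyperbolic pair. -/
lemma hyp_step (A : Submodule F V) (hAnd : ∀ a ∈ A, a ≠ 0 → ∃ x ∈ A, B x a ≠ 0)
    {e f : V} (he : e ∈ A) (hf : f ∈ A) (hQe : Q e = 0) (hQf : Q f = 0) (hef : B e f = 1) :
    (∀ a ∈ ((A ⊓ LinearMap.ker (B.flip e)) ⊓ LinearMap.ker (B.flip f) : Submodule F V), a ≠ 0 →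
      ∃ x ∈ ((A ⊓ LinearMap.ker (B.flip e)) ⊓ LinearMap.ker (B.flip f) : Submodule F V),
        B x a ≠ 0) ∧
    finrank F ((A ⊓ LinearMap.ker (B.flip e)) ⊓ LinearMap.ker (B.flip f) : Submodule F V) + 2 =
      finrank F A ∧
    ∀ v ∈ A, v - B v f • e - B v e • f ∈
      ((A ⊓ LinearMap.ker (B.flip e)) ⊓ LinearMap.ker (B.flip f) : Submodule F V) := by
  have hsymm := B_symm Q B hQp
  have hee : B e e = 0 := by rw [B_self Q B hQs hQp, hQe, mul_zero]
  have hff : B f f = 0 := by rw [B_self Q B hQs hQp, hQf, mul_zero]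
  have hfe : B f e = 1 := by rw [hsymm]; exact hef
  have hproj : ∀ v ∈ A, v - B v f • e - B v e • f ∈
      ((A ⊓ LinearMap.ker (B.flip e)) ⊓ LinearMap.ker (B.flip f) : Submodule F V) := by
    intro v hv
    refine ⟨⟨A.sub_mem (A.sub_mem hv (A.smul_mem _ he)) (A.smul_mem _ hf), mem_ker_flip.mpr ?_⟩,
      mem_ker_flip.mpr ?_⟩
    · simp only [map_sub, map_smul, LinearMap.sub_apply, LinearMap.smul_apply, hee, hfe,
        smul_eq_mul, mul_zero, mul_one, sub_zero, sub_self]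
    · simp only [map_sub, map_smul, LinearMap.sub_apply, LinearMap.smul_apply, hff, hef,
        smul_eq_mul, mul_zero, mul_one, sub_zero, sub_self]
  refine ⟨?_, ?_, hproj⟩
  · intro a ha ha0
    obtain ⟨x, hx, hxa⟩ := hAnd a ha.1.1 ha0
    have hae : B a e = 0 := mem_ker_flip.mp ha.1.2
    have haf : B a f = 0 := mem_ker_flip.mp ha.2
    refine ⟨_, hproj x hx, ?_⟩
    simp only [map_sub, map_smul, LinearMap.sub_apply, LinearMap.smul_apply, hsymm e a, hsymm f a,
      hae, haf, smul_zero, sub_zero]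
    exact hxa
  · have h1 := finrank_inf_ker_add_one A (B.flip e) hf (by
      show B f e ≠ 0
      rw [hfe]; exact one_ne_zero)
    have he1 : e ∈ (A ⊓ LinearMap.ker (B.flip e) : Submodule F V) := ⟨he, mem_ker_flip.mpr hee⟩
    have h2 := finrank_inf_ker_add_one (A ⊓ LinearMap.ker (B.flip e)) (B.flip f) he1 (by
      show B e f ≠ 0
      rw [hef]; exact one_ne_zero)
    omega

include hQs hQp in
/-- **Hyperbolic basis of a nondegenerate plane** containing a nonzero singular vector. -/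
theorem exists_hyp_basis2 (A : Submodule F V) (hAnd : ∀ a ∈ A, a ≠ 0 → ∃ x ∈ A, B x a ≠ 0)
    (hA : finrank F A = 2) {e : V} (he : e ∈ A) (he0 : e ≠ 0) (hQe : Q e = 0) :
    ∃ f ∈ A, Q f = 0 ∧ B e f = 1 ∧ ∀ v ∈ A, v = B v f • e + B v e • f := by
  obtain ⟨f, hf, hQf, hef⟩ := exists_partner hQs hQp A hAnd he he0 hQe
  obtain ⟨-, hfr, hproj⟩ := hyp_step hQs hQp A hAnd he hf hQe hQf hef
  have hbot : ((A ⊓ LinearMap.ker (B.flip e)) ⊓ LinearMap.ker (B.flip f) : Submodule F V) = ⊥ := by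
    apply Submodule.finrank_eq_zero.mp
    omega
  refine ⟨f, hf, hQf, hef, fun v hv => ?_⟩
  have := hproj v hv
  rw [hbot, Submodule.mem_bot] at this
  calc v = (v - B v f • e - B v e • f) + (B v f • e + B v e • f) := by abel
    _ = B v f • e + B v e • f := by rw [this, zero_add]

include hQs hQp in
/-- **Hyperbolic basis of a nondegenerate space of dimension four** containing a totally singular
plane. -/
theorem exists_hyp_basis4 (A : Submodule F V) (hAnd : ∀ a ∈ A, a ≠ 0 → ∃ x ∈ A, B x a ≠ 0)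
    (hA : finrank F A = 4) (U : Submodule F V) (hUA : U ≤ A) (hU : ∀ u ∈ U, Q u = 0)
    (hU2 : finrank F U = 2) :
    ∃ e1 ∈ A, ∃ f1 ∈ A, ∃ e2 ∈ A, ∃ f2 ∈ A, Q e1 = 0 ∧ Q f1 = 0 ∧ Q e2 = 0 ∧ Q f2 = 0 ∧
      B e1 f1 = 1 ∧ B e2 f2 = 1 ∧ B e1 e2 = 0 ∧ B e1 f2 = 0 ∧ B f1 e2 = 0 ∧ B f1 f2 = 0 ∧
      ∀ v ∈ A, v = B v f1 • e1 + B v e1 • f1 + B v f2 • e2 + B v e2 • f2 := by
  have hsymm := B_symm Q B hQp
  have hUB : ∀ u ∈ U, ∀ u' ∈ U, B u u' = 0 := by
    intro u hu u' hu'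
    have := hQp u u'
    rw [hU u hu, hU u' hu', hU _ (U.add_mem hu hu')] at this
    linear_combination -this
  have hU0 : U ≠ ⊥ := by
    intro h
    rw [h, finrank_bot] at hU2
    omega
  obtain ⟨e1, he1U, he10⟩ := Submodule.exists_mem_ne_zero_of_ne_bot hU0
  have he1 : e1 ∈ A := hUA he1U
  have hQe1 := hU e1 he1U
  obtain ⟨f1, hf1, hQf1, hef1⟩ := exists_partner hQs hQp A hAnd he1 he10 hQe1
  obtain ⟨hnd', hfr', hproj⟩ := hyp_step hQs hQp A hAnd he1 hf1 hQe1 hQf1 hef1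
  -- a second singular vector
  obtain ⟨e2', he2'U, he2'⟩ : ∃ x ∈ U, x ∉ Submodule.span F {e1} := by
    by_contra hcon
    push Not at hcon
    have hle : U ≤ Submodule.span F {e1} := fun x hx => hcon x hx
    have h6 := Submodule.finrank_mono hle
    have h7 := finrank_span_singleton (K := F) he10
    omega
  have hB21 : B e2' e1 = 0 := hUB e2' he2'U e1 he1U
  have he2mem := hproj e2' (hUA he2'U)
  rw [hB21, zero_smul, sub_zero] at he2mem
  have he2U : e2' - B e2' f1 • e1 ∈ U := U.sub_mem he2'U (U.smul_mem _ he1U)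
  have he20 : e2' - B e2' f1 • e1 ≠ 0 := by
    intro h
    apply he2'
    rw [sub_eq_zero.mp h]
    exact Submodule.smul_mem _ _ (Submodule.mem_span_singleton_self e1)
  obtain ⟨e2, he2def⟩ : ∃ e2 : V, e2 = e2' - B e2' f1 • e1 := ⟨_, rfl⟩
  rw [← he2def] at he2mem he2U he20
  obtain ⟨f2, hf2, hQf2, hef2, hspan2⟩ := exists_hyp_basis2 hQs hQp _ hnd' (by omega) he2mem he20
    (hU _ he2U)
  have hf2e1 : B f2 e1 = 0 := mem_ker_flip.mp hf2.1.2
  have hf2f1 : B f2 f1 = 0 := mem_ker_flip.mp hf2.2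
  have he2e1 : B e2 e1 = 0 := mem_ker_flip.mp he2mem.1.2
  have he2f1 : B e2 f1 = 0 := mem_ker_flip.mp he2mem.2
  refine ⟨e1, he1, f1, hf1, e2, he2mem.1.1, f2, hf2.1.1, hQe1, hQf1, hU _ he2U, hQf2, hef1, hef2,
    ?_, ?_, ?_, ?_, ?_⟩
  · rw [hsymm]; exact he2e1
  · rw [hsymm]; exact hf2e1
  · rw [hsymm]; exact he2f1
  · rw [hsymm]; exact hf2f1
  · intro v hv
    have h1 := hspan2 _ (hproj v hv)
    have h2 : B (v - B v f1 • e1 - B v e1 • f1) f2 = B v f2 := by
      simp only [map_sub, map_smul, LinearMap.sub_apply, LinearMap.smul_apply, hsymm e1 f2,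
        hsymm f1 f2, hf2e1, hf2f1, smul_zero, sub_zero]
    have h3 : B (v - B v f1 • e1 - B v e1 • f1) e2 = B v e2 := by
      simp only [map_sub, map_smul, LinearMap.sub_apply, LinearMap.smul_apply, hsymm e1 e2,
        hsymm f1 e2, he2e1, he2f1, smul_zero, sub_zero]
    rw [h2, h3] at h1
    calc v = (v - B v f1 • e1 - B v e1 • f1) + (B v f1 • e1 + B v e1 • f1) := by abel
      _ = _ := by rw [h1]; abel

end

end Cfsg.Agent.Lib.Helper94_OrthHyp
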