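import Mathlib
import Cfsg.Agent.Lib.Helper29_ODDefs
import Cfsg.Agent.Lib.Helper94_OrthRefl
import Cfsg.Agent.Lib.Helper94_OrthHyp

/-!
Package OD-CONIC (architect helper29, row S5677): a conic is not contained in the union of two
lines (helper35).
-/

set_option autoImplicit false

namespace Cfsg.Agent.Lib.Helper35_OD_CONIC

open Module Cfsg.Agent.Lib.Helper94_Symp Cfsg.Agent.Lib.Helper94_OrthSmall
  Cfsg.Agent.Lib.Helper94_OrthSiegel Cfsg.Agent.Lib.Helper94_OrthSiegel2
  Cfsg.Agent.Lib.Helper94_OrthPara Cfsg.Agent.Lib.Helper94_OrthVec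
  Cfsg.Agent.Lib.Helper94_OrthNondeg Cfsg.Agent.Lib.Helper94_OrthRefl
  Cfsg.Agent.Lib.Helper29_ODDefs Cfsg.Agent.Lib.Helper94_OrthHyp

variable {F V : Type*} [Field F] [AddCommGroup V] [Module F V] [Finite F] [FiniteDimensional F V]
  {Q : V → F} {B : LinearMap.BilinForm F V}

/-- OD-CONIC -/
theorem conic (hQs : ∀ (c : F) (v : V), Q (c • v) = c * c * Q v)
    (hQp : ∀ u v : V, Q (u + v) = Q u + Q v + B u v) (h2 : (2 : F) ≠ 0)
    (hq : 4 ≤ Nat.card F) (A : Submodule F V) (hA : ∀ a ∈ A, a ≠ 0 → ∃ x ∈ A, B x a ≠ 0)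
    (h3 : finrank F A = 3) (p p' : V) (hp : ∃ x ∈ A, B x p ≠ 0) (hp' : ∃ x ∈ A, B x p' ≠ 0) :
    ∃ x ∈ A, Q x = 0 ∧ B x p ≠ 0 ∧ B x p' ≠ 0 := by
  classical
  have hsymm := B_symm Q B hQp
  obtain ⟨s, hsA, hQs0, hsp⟩ := exists_sing_not_orth Q B hQs hQp A hA (by omega) hp
  by_cases hsp' : B s p' = 0
  swap
  · exact ⟨s, hsA, hQs0, hsp, hsp'⟩
  have hs0 : s ≠ 0 := by
    intro h
    apply hsp
    rw [h, map_zero, LinearMap.zero_apply]
  obtain ⟨s', hs'A, hQs', hss'⟩ := exists_partner hQs hQp A hA hsA hs0 hQs0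
  obtain ⟨hWnd, hWfr, hproj⟩ := hyp_step hQs hQp A hA hsA hs'A hQs0 hQs' hss'
  set W : Submodule F V := (A ⊓ LinearMap.ker (B.flip s)) ⊓ LinearMap.ker (B.flip s') with hW
  have hW1 : finrank F W = 1 := by omega
  obtain ⟨⟨n, hnW⟩, hn0⟩ : ∃ n : W, n ≠ 0 := by
    have : 0 < finrank F W := by omega
    exact Module.finrank_pos_iff_exists_ne_zero.mp this
  have hn0' : n ≠ 0 := fun h => hn0 (Subtype.ext h)
  have hnA : n ∈ A := hnW.1.1
  have hns : B n s = 0 := mem_ker_flip.mp hnW.1.2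
  have hns' : B n s' = 0 := mem_ker_flip.mp hnW.2
  have hspan : ∀ w ∈ W, ∃ c : F, c • n = w := by
    intro w hw
    obtain ⟨c, hc⟩ := (finrank_eq_one_iff_of_nonzero' (⟨n, hnW⟩ : W) hn0).mp hW1 ⟨w, hw⟩
    exact ⟨c, congrArg Subtype.val hc⟩
  -- `n` is nonsingular
  have hQn : Q n ≠ 0 := by
    intro hQn
    obtain ⟨x, hxW, hxn⟩ := hWnd n hnW hn0'
    obtain ⟨c, hc⟩ := hspan x hxW
    apply hxn
    rw [← hc, map_smul, LinearMap.smul_apply, B_self Q B hQs hQp, hQn, mul_zero, smul_zero]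
  -- `p'` sees `s'` or `n`
  have hp'2 : B s' p' ≠ 0 ∨ B n p' ≠ 0 := by
    by_contra hcon
    push Not at hcon
    obtain ⟨x, hxA, hxp'⟩ := hp'
    obtain ⟨c, hc⟩ := hspan _ (hproj x hxA)
    apply hxp'
    have hx : x = c • n + B x s' • s + B x s • s' := by rw [hc]; abel
    rw [hx]
    simp only [map_add, map_smul, LinearMap.add_apply, LinearMap.smul_apply, hcon.1, hcon.2, hsp',
      smul_zero, add_zero]
  -- the polynomial
  set f1 : Polynomial F := Polynomial.C (-(Q n * B s p)) * Polynomial.X ^ 2 +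
    Polynomial.C (B n p) * Polynomial.X + Polynomial.C (B s' p) with hf1
  set f2 : Polynomial F := Polynomial.C (B n p') * Polynomial.X + Polynomial.C (B s' p') with hf2
  have hlead : -(Q n * B s p) ≠ 0 := neg_ne_zero.mpr (mul_ne_zero hQn hsp)
  have hdeg1 : f1.natDegree = 2 := by
    rw [hf1]
    exact Polynomial.natDegree_quadratic hlead
  have hf10 : f1 ≠ 0 := by
    intro h
    rw [h, Polynomial.natDegree_zero] at hdeg1
    omega
  have hf20 : f2 ≠ 0 := by
    intro h
    have h0 := congrArg (fun g : Polynomial F => g.coeff 0) h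
    have h1 := congrArg (fun g : Polynomial F => g.coeff 1) h
    simp only [hf2, Polynomial.coeff_add, Polynomial.coeff_C_mul, Polynomial.coeff_X_zero,
      Polynomial.coeff_C_zero, Polynomial.coeff_X_one, Polynomial.coeff_zero, mul_zero, mul_one,
      zero_add] at h0 h1
    rw [Polynomial.coeff_C_of_ne_zero one_ne_zero, add_zero] at h1
    rcases hp'2 with h | h
    · exact h h0
    · exact h h1
  have hdeg2 : f2.natDegree ≤ 1 := by
    rw [hf2]
    exact Polynomial.natDegree_linear_le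
  have hdeg : (f1 * f2).natDegree < Cardinal.mk F := by
    have h1 : (f1 * f2).natDegree ≤ 3 := by
      rw [Polynomial.natDegree_mul hf10 hf20]
      omega
    have : (4 : Cardinal) ≤ Cardinal.mk F := by
      have h4 : ((4 : ℕ) : Cardinal) ≤ ((Nat.card F : ℕ) : Cardinal) := by exact_mod_cast hq
      rw [Nat.cast_card] at h4
      exact_mod_cast h4
    refine lt_of_le_of_lt ?_ (lt_of_lt_of_le (by norm_num : (3 : Cardinal) < 4) this)
    exact_mod_cast h1
  obtain ⟨c, hc⟩ := Polynomial.exists_eval_ne_zero_of_natDegree_lt_card (f1 * f2)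
    (mul_ne_zero hf10 hf20) hdeg
  rw [Polynomial.eval_mul] at hc
  have hc1 : f1.eval c ≠ 0 := left_ne_zero_of_mul hc
  have hc2 : f2.eval c ≠ 0 := right_ne_zero_of_mul hc
  simp only [hf1, hf2, Polynomial.eval_add, Polynomial.eval_mul, Polynomial.eval_C,
    Polynomial.eval_pow, Polynomial.eval_X] at hc1 hc2
  -- the singular vector
  refine ⟨(s' + c • n) + (-(c * c * Q n)) • s, A.add_mem (A.add_mem hs'A (A.smul_mem _ hnA))
    (A.smul_mem _ hsA), ?_, ?_, ?_⟩
  · rw [Q_add_smul Q B hQs hQp, hQs0, Q_add_smul Q B hQs hQp, hQs', map_add, map_smul,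
      LinearMap.add_apply, LinearMap.smul_apply, hns, hsymm s' n, hns', hsymm s' s, hss']
    simp only [smul_eq_mul]
    ring
  · intro h
    apply hc1
    simp only [map_add, map_smul, LinearMap.add_apply, LinearMap.smul_apply, smul_eq_mul] at h
    linear_combination h
  · intro h
    apply hc2
    simp only [map_add, map_smul, LinearMap.add_apply, LinearMap.smul_apply, smul_eq_mul, hsp',
      mul_zero, add_zero] at h
    linear_combination h

end Cfsg.Agent.Lib.Helper35_OD_CONIC
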