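import Mathlib
import Cfsg.Agent.Lib.Helper29_ODDefs
import Cfsg.Agent.Lib.Helper94_OrthRefl
import Cfsg.Agent.Lib.Helper35_OD_CONIC
import Cfsg.Agent.Lib.Helper88_OD_STAR

/-!
OD-DICH (helper29's OD packages for S5677), `k = 3`: for a root pair `(y, n)` with `y` of minimal
support among admissible singular vectors of support ≥ 2, if `n ⟂ D j`, `y` not, and `n` is not
orthogonal to `D a`, then `n ∈ D a`.
-/

set_option autoImplicit false
set_option linter.unusedSectionVars false

namespace Cfsg.Agent.Lib.Helper88_OD_DICH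

open Module Cfsg.Agent.Lib.Helper94_Symp Cfsg.Agent.Lib.Helper94_OrthSmall
  Cfsg.Agent.Lib.Helper94_OrthSiegel Cfsg.Agent.Lib.Helper94_OrthSiegel2
  Cfsg.Agent.Lib.Helper94_OrthPara Cfsg.Agent.Lib.Helper94_OrthVec
  Cfsg.Agent.Lib.Helper94_OrthNondeg Cfsg.Agent.Lib.Helper94_OrthRefl
  Cfsg.Agent.Lib.Helper29_ODDefs

variable {F V : Type*} [Field F] [AddCommGroup V] [Module F V] [Finite F] [FiniteDimensional F V]
  {Q : V → F} {B : LinearMap.BilinForm F V}

theorem mem_supp {t : ℕ} {D : Fin t → Submodule F V} (y : V) (j : Fin t) :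
    j ∈ supp B D y ↔ ¬ Perp B D y j := by
  classical
  simp [supp]

/-- OD-DICH. -/
theorem dich {t k : ℕ} {D : Fin t → Submodule F V} {S M : Subgroup (V ≃ₗ[F] V)}
    (hC : Ctx Q B k D S M) (hk3 : k = 3) (hq : 5 ≤ Nat.card F) (hsb : StarB Q B D M)
    {y n : V} (hy : SingAdm Q D M y) (hp : RootPair Q B M y n)
    (hmin : ∀ y', SingAdm Q D M y' → (supp B D y').card < (supp B D y).card →
      (supp B D y').card ≤ 1)
    {a j : Fin t} (haj : a ≠ j) (hj : ¬ Perp B D y j) (hnj : Perp B D n j)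
    (hna : ¬ Perp B D n a) : n ∈ D a := by
  have hsymm := B_symm Q B hC.hQp
  have hinzn : InZ Q B M y n := (hp.inz n).mpr ⟨0, 1, by simp⟩
  have hya : ¬ Perp B D y a := fun h => hna (hsb y hy a h n hinzn)
  have hpy : ∃ x ∈ D a, B x y ≠ 0 := by
    unfold Perp at hya
    push Not at hya
    obtain ⟨d, hd, hne⟩ := hya
    exact ⟨d, hd, by rwa [hsymm]⟩
  have hpn : ∃ x ∈ D a, B x n ≠ 0 := by
    unfold Perp at hna
    push Not at hna
    obtain ⟨d, hd, hne⟩ := hna
    exact ⟨d, hd, by rwa [hsymm]⟩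
  obtain ⟨x, hxa, hQx, hβ, hν⟩ := Cfsg.Agent.Lib.Helper35_OD_CONIC.conic hC.hQs hC.hQp hC.h2 (by omega) (D a)
    (hC.hD.nd a) (by rw [hC.hD.fr, hk3]) y n hpy hpn
  have hQn := hp.Qn
  have hx0 : x ≠ 0 := by
    rintro rfl
    apply hβ
    simp
  set c : F := -(B x n) / (B x y * Q n) with hc
  have hhM : sieg Q B y (c • n) ∈ M := hinzn.2 c
  have hBycn : B y (c • n) = 0 := by rw [map_smul, hp.Byn, smul_zero]
  have hhO : sieg Q B y (c • n) ∈ oG Q := sieg_mem_oG Q B hC.hQs hC.hQp hp.Qy hBycn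
  have e1 : B x y * c = -(B x n / Q n) := by
    rw [hc]
    field_simp
  have e2 : c * B x n + c * c * Q n * B x y = 0 := by
    rw [hc]
    field_simp
    ring
  have hhx : sieg Q B y (c • n) x = x - (B x n / Q n) • n := by
    rw [sieg_apply Q B hC.hQs hC.hQp hp.Qy hBycn, hC.hQs, map_smul, smul_eq_mul]
    have : x + B x y • c • n - (c * B x n) • y - (c * c * Q n * B x y) • y =
        x + (B x y * c) • n - (c * B x n + c * c * Q n * B x y) • y := by module
    rw [this, e1, e2]
    module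
  set y' : V := x - (B x n / Q n) • n with hy'
  have hr0 : B x n / Q n ≠ 0 := div_ne_zero hν hQn
  -- y' is admissible
  have hy'adm : SingAdm Q D M y' := by
    refine ⟨?_, ?_, sieg Q B y (c • n), hhM, a, ⟨x, hxa, ?_⟩⟩
    · rw [← hhx]
      intro h0
      exact hx0 ((sieg Q B y (c • n)).injective (by rw [h0, map_zero]))
    · rw [← hhx, hhO x, hQx]
    · rw [LinearEquiv.coe_coe, hhx]
  -- perpendicularity of y'
  have hperp' : ∀ b, b ≠ a → Perp B D n b → Perp B D y' b := by
    intro b hba hnb d hd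
    rw [hy', map_sub, LinearMap.sub_apply, map_smul, LinearMap.smul_apply, hnb d hd,
      hC.hD.orth a b (Ne.symm hba) x hxa d hd, smul_zero, sub_zero]
  have hsub : supp B D y' ⊆ supp B D y := by
    intro b hb
    rw [mem_supp] at hb ⊢
    intro hyb
    apply hb
    have hba : b ≠ a := by
      rintro rfl
      exact hya hyb
    exact hperp' b hba (hsb y hy b hyb n hinzn)
  have hjy' : j ∉ supp B D y' := by
    rw [mem_supp, not_not]
    exact hperp' j (Ne.symm haj) hnj
  have hlt : (supp B D y').card < (supp B D y).card := by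
    apply Finset.card_lt_card
    refine ⟨hsub, fun h => hjy' (h ((mem_supp y j).mpr hj))⟩
  have hcard := hmin y' hy'adm hlt
  have hay' : a ∈ supp B D y' := by
    rw [mem_supp]
    intro h
    have h1 := h x hxa
    rw [hy', map_sub, LinearMap.sub_apply, map_smul, LinearMap.smul_apply,
      B_self Q B hC.hQs hC.hQp, hQx, mul_zero, zero_sub, neg_eq_zero, smul_eq_mul,
      hsymm n x] at h1
    rcases mul_eq_zero.mp h1 with h2 | h2
    · exact hr0 h2
    · exact hν h2
  apply Cfsg.Agent.Lib.Helper88_OD_STAR.mem_of_perp' hC.hQp hC.hD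
  intro b hba d hd
  have hby' : Perp B D y' b := by
    by_contra hb
    exact hba (Finset.card_le_one.mp hcard b ((mem_supp y' b).mpr hb) a hay')
  have h1 := hby' d hd
  rw [hy', map_sub, LinearMap.sub_apply, map_smul, LinearMap.smul_apply,
    hC.hD.orth a b (Ne.symm hba) x hxa d hd, zero_sub, neg_eq_zero, smul_eq_mul] at h1
  rcases mul_eq_zero.mp h1 with h2 | h2
  · exact absurd h2 hr0
  · exact h2

end Cfsg.Agent.Lib.Helper88_OD_DICH
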