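import Mathlib
import Cfsg.Agent.Lib.Helper29_ODDefs
import Cfsg.Agent.Lib.Helper94_OrthRefl

set_option autoImplicit false

/-!
Auxiliary lemmas for the packages OD-C1 and OD-C2 of helper29's S5677 market: coordinates in
nondegenerate spaces of dimension two and three, reflections in the blocks of an orthogonal
decomposition, and the action of elements fixing `y` on a root pair `(y, n)`.
-/

namespace Cfsg.Agent.Lib.Helper94_OD_Aux

open Module Cfsg.Agent.Lib.Helper94_Symp Cfsg.Agent.Lib.Helper94_OrthSmall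
  Cfsg.Agent.Lib.Helper94_OrthSiegel Cfsg.Agent.Lib.Helper94_OrthSiegel2
  Cfsg.Agent.Lib.Helper94_OrthPara Cfsg.Agent.Lib.Helper94_OrthVec
  Cfsg.Agent.Lib.Helper94_OrthNondeg Cfsg.Agent.Lib.Helper94_OrthRefl
  Cfsg.Agent.Lib.Helper29_ODDefs
open scoped commutatorElement

variable {F V : Type*} [Field F] [AddCommGroup V] [Module F V] [Finite F] [FiniteDimensional F V]
  {Q : V → F} {B : LinearMap.BilinForm F V}

/-- Coordinates with respect to `n` independent vectors of an `n`-dimensional subspace. -/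
lemma coords_of_li {n : ℕ} (A : Submodule F V) (hfr : finrank F A = n) (v : Fin n → V)
    (hv : ∀ i, v i ∈ A) (hli : LinearIndependent F v) :
    ∀ x ∈ A, ∃ c : Fin n → F, ∑ i, c i • v i = x := by
  have h1 : Submodule.span F (Set.range v) ≤ A := by
    rw [Submodule.span_le]
    rintro _ ⟨i, rfl⟩
    exact hv i
  have h2 : finrank F (Submodule.span F (Set.range v)) = finrank F A := by
    rw [finrank_span_eq_card hli, hfr, Fintype.card_fin]
  have h3 := Submodule.eq_of_le_of_finrank_eq h1 h2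
  intro x hx
  rw [← h3] at hx
  exact (Submodule.mem_span_range_iff_exists_fun F).mp hx

/-- Two independent vectors span a plane. -/
lemma span_pair (P : Submodule F V) (hP2 : finrank F P = 2) {u b : V} (hu : u ∈ P) (hb : b ∈ P)
    (hb0 : b ≠ 0) (hub : ∀ c : F, u ≠ c • b) : ∀ x ∈ P, ∃ α β : F, x = α • u + β • b := by
  have hli : LinearIndependent F ![u, b] := by
    rw [LinearIndependent.pair_iff]
    intro s t hst
    have hs : s = 0 := by
      by_contra hs
      apply hub (-(s⁻¹ * t))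
      have h1 : s • u = -(t • b) := eq_neg_of_add_eq_zero_left hst
      have h2 : u = s⁻¹ • (s • u) := by rw [smul_smul, inv_mul_cancel₀ hs, one_smul]
      rw [h2, h1]
      module
    refine ⟨hs, ?_⟩
    rw [hs, zero_smul, zero_add] at hst
    exact (smul_eq_zero.mp hst).resolve_right hb0
  intro x hx
  obtain ⟨c, hc⟩ := coords_of_li P hP2 ![u, b]
    (by intro i; fin_cases i <;> simp [hu, hb]) hli x hx
  refine ⟨c 0, c 1, ?_⟩
  rw [← hc, Fin.sum_univ_two]
  simp

/-- A nondegenerate plane (odd characteristic) has a nonsingular vector. -/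
lemma exists_nonsing_plane (hQs : ∀ (c : F) (v : V), Q (c • v) = c * c * Q v)
    (hQp : ∀ u v : V, Q (u + v) = Q u + Q v + B u v)
    (P : Submodule F V) (hP : ∀ a ∈ P, a ≠ 0 → ∃ x ∈ P, B x a ≠ 0) (hP2 : finrank F P = 2) :
    ∃ b ∈ P, Q b ≠ 0 := by
  have hpos : 0 < finrank F P := by omega
  obtain ⟨⟨a, haP⟩, ha0⟩ := Module.finrank_pos_iff_exists_ne_zero.mp hpos
  have ha0' : a ≠ 0 := fun h => ha0 (Subtype.ext h)
  obtain ⟨x, hxP, hx⟩ := hP a haP ha0'
  by_cases h1 : Q a = 0
  · by_cases h2 : Q x = 0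
    · refine ⟨x + a, P.add_mem hxP haP, ?_⟩
      rw [hQp, h1, h2, zero_add, zero_add]
      exact hx
    · exact ⟨x, hxP, h2⟩
  · exact ⟨a, haP, h1⟩

/-- Hyperbolic coordinates in a nondegenerate 3-space with a given singular vector. -/
lemma hyp_coords (hQs : ∀ (c : F) (v : V), Q (c • v) = c * c * Q v)
    (hQp : ∀ u v : V, Q (u + v) = Q u + Q v + B u v) (h2 : (2 : F) ≠ 0)
    (A : Submodule F V) (hA : ∀ a ∈ A, a ≠ 0 → ∃ x ∈ A, B x a ≠ 0) (h3 : finrank F A = 3)
    {e : V} (heA : e ∈ A) (he0 : e ≠ 0) (hQe : Q e = 0) :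
    ∃ f ∈ A, ∃ m ∈ A, Q f = 0 ∧ B e f = 1 ∧ B e m = 0 ∧ B f m = 0 ∧ Q m ≠ 0 ∧
      ∀ x ∈ A, x = B x f • e + B x e • f + ((2 * Q m)⁻¹ * B x m) • m := by
  have hsymm := B_symm Q B hQp
  have hee : B e e = 0 := by rw [B_self Q B hQs hQp, hQe, mul_zero]
  obtain ⟨x0, hx0A, hx0⟩ := hA e heA he0
  have hQf0 := sing_adjust Q B hQs hQp hQe hx0
  set f0 := x0 + (-(Q x0 / B x0 e)) • e with hf0
  have hf0A : f0 ∈ A := A.add_mem hx0A (A.smul_mem _ heA)
  have hf0e : B f0 e = B x0 e := by
    rw [hf0, map_add, LinearMap.add_apply, map_smul, LinearMap.smul_apply, hee, smul_zero,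
      add_zero]
  set f := (B x0 e)⁻¹ • f0 with hf
  have hfA : f ∈ A := A.smul_mem _ hf0A
  have hQf : Q f = 0 := by rw [hf, hQs, hQf0, mul_zero]
  have hfe : B f e = 1 := by
    rw [hf, map_smul, LinearMap.smul_apply, hf0e, smul_eq_mul, inv_mul_cancel₀ hx0]
  have hef : B e f = 1 := by rw [hsymm]; exact hfe
  have hff : B f f = 0 := by rw [B_self Q B hQs hQp, hQf, mul_zero]
  -- the vector m
  have h1 := finrank_le_inf_ker_add_one A (B.flip e)
  have h1' := finrank_le_inf_ker_add_one (A ⊓ LinearMap.ker (B.flip e)) (B.flip f)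
  have hpos : 0 < finrank F (A ⊓ LinearMap.ker (B.flip e) ⊓ LinearMap.ker (B.flip f) :
      Submodule F V) := by omega
  obtain ⟨⟨m, hmT⟩, hm0⟩ := Module.finrank_pos_iff_exists_ne_zero.mp hpos
  have hm0' : m ≠ 0 := fun h => hm0 (Subtype.ext h)
  have hmA : m ∈ A := hmT.1.1
  have hme : B m e = 0 := mem_ker_flip.mp hmT.1.2
  have hmf : B m f = 0 := mem_ker_flip.mp hmT.2
  have hem : B e m = 0 := by rw [hsymm]; exact hme
  have hfm : B f m = 0 := by rw [hsymm]; exact hmf
  have hmm : B m m = 2 * Q m := B_self Q B hQs hQp m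
  have hli : LinearIndependent F ![e, f, m] := by
    rw [Fintype.linearIndependent_iff]
    intro g hg
    rw [Fin.sum_univ_three] at hg
    simp only [Matrix.cons_val_zero, Matrix.cons_val_one, Matrix.cons_val_two,
      Matrix.head_cons, Matrix.tail_cons] at hg
    have e1 : g 0 = 0 := by
      have := congrArg (fun v => B v f) hg
      simpa [hef, hff, hmf] using this
    have e2 : g 1 = 0 := by
      have := congrArg (fun v => B v e) hg
      simpa [hee, hfe, hme] using this
    have e3 : g 2 = 0 := by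
      rw [e1, e2, zero_smul, zero_smul, zero_add, zero_add] at hg
      exact (smul_eq_zero.mp hg).resolve_right hm0'
    intro i
    fin_cases i
    · exact e1
    · exact e2
    · exact e3
  have hco := coords_of_li A h3 ![e, f, m]
    (by intro i; fin_cases i <;> simp [heA, hfA, hmA]) hli
  have hco' : ∀ x ∈ A, ∃ α β γ : F, x = α • e + β • f + γ • m := by
    intro x hx
    obtain ⟨c, hc⟩ := hco x hx
    refine ⟨c 0, c 1, c 2, ?_⟩
    rw [← hc, Fin.sum_univ_three]
    simp
  have hQm : Q m ≠ 0 := by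
    intro hQm
    obtain ⟨x, hxA, hx⟩ := hA m hmA hm0'
    obtain ⟨α, β, γ, rfl⟩ := hco' x hxA
    apply hx
    simp [hem, hfm, hmm, hQm]
  refine ⟨f, hfA, m, hmA, hQf, hef, hem, hfm, hQm, ?_⟩
  intro x hx
  obtain ⟨α, β, γ, rfl⟩ := hco' x hx
  have e1 : B (α • e + β • f + γ • m) f = α := by simp [hef, hff, hmf]
  have e2 : B (α • e + β • f + γ • m) e = β := by simp [hee, hfe, hme]
  have e3 : B (α • e + β • f + γ • m) m = γ * (2 * Q m) := by simp [hem, hfm, hmm]
  rw [e1, e2, e3]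
  have h2Qm : (2 * Q m) ≠ 0 := mul_ne_zero h2 hQm
  rw [show (2 * Q m)⁻¹ * (γ * (2 * Q m)) = γ by field_simp]

/-- An invertible map sending every block into itself lies in the decomposition stabiliser. -/
lemma mem_dstab_of_forall' {t k : ℕ} {D : Fin t → Submodule F V}
    (hfr : ∀ i, finrank F (D i) = k) {S : Subgroup (V ≃ₗ[F] V)} (hS : IsDStab D S)
    (g : V ≃ₗ[F] V) (hg : ∀ i, ∀ v ∈ D i, g v ∈ D i) : g ∈ S := by
  rw [hS]
  refine ⟨1, fun i => ?_⟩
  have hle : (D i).map (g : V →ₗ[F] V) ≤ D i := by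
    rintro _ ⟨v, hv, rfl⟩
    exact hg i v hv
  exact Submodule.eq_of_le_of_finrank_eq hle
    (by rw [LinearEquiv.finrank_map_eq, hfr, Equiv.Perm.coe_one, id_eq, hfr])

section Refl

variable (hQs : ∀ (c : F) (v : V), Q (c • v) = c * c * Q v)
  (hQp : ∀ u v : V, Q (u + v) = Q u + Q v + B u v)

lemma refl_congr {a a' : V} (h : a = a') (ha : Q a ≠ 0) (ha' : Q a' ≠ 0) :
    refl Q B hQs hQp ha = refl Q B hQs hQp ha' := by
  subst h
  rfl

lemma refl_fix {a x : V} (ha : Q a ≠ 0) (hx : B x a = 0) : refl Q B hQs hQp ha x = x := by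
  rw [refl_apply, hx, mul_zero, zero_smul, sub_zero]

/-- The product of two reflections in vectors of the same norm is in the commutator subgroup. -/
lemma refl_mul_refl_mem {a a' : V} (ha : Q a ≠ 0) (ha' : Q a' ≠ 0) (hQ : Q a = Q a')
    (hd : Q (a - a') ≠ 0) :
    refl Q B hQs hQp ha * refl Q B hQs hQp ha' ∈ ⁅oG Q, oG Q⁆ := by
  have hsymm := B_symm Q B hQp
  have hQd : Q (a - a') = 2 * Q a - B a a' := by
    have e : a - a' = a + (-1 : F) • a' := by module
    rw [e, Q_add_smul Q B hQs hQp, ← hQ]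
    ring
  have hBd : B a (a - a') = 2 * Q a - B a a' := by
    rw [map_sub, B_self Q B hQs hQp]
  have hga : refl Q B hQs hQp hd a = a' := by
    rw [refl_apply, hBd, ← hQd, inv_mul_cancel₀ hd, one_smul]
    abel
  have hgO := refl_mem Q B hQs hQp hd
  have h1 := conj_refl Q B hQs hQp hgO ha
  have h2 : refl Q B hQs hQp ha' =
      refl Q B hQs hQp hd * refl Q B hQs hQp ha * (refl Q B hQs hQp hd)⁻¹ := by
    rw [h1]
    exact refl_congr hQs hQp hga.symm _ _
  have h3 : refl Q B hQs hQp ha * refl Q B hQs hQp ha' =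
      ⁅refl Q B hQs hQp ha, refl Q B hQs hQp hd⁆ := by
    rw [h2, commutatorElement_def]
    rw [refl_inv Q B hQs hQp ha]
    group
  rw [h3]
  exact Subgroup.commutator_mem_commutator (refl_mem Q B hQs hQp ha) hgO

/-- Reflections in vectors of a block lie in the decomposition stabiliser. -/
lemma refl_mem_dstab {t k : ℕ} {D : Fin t → Submodule F V} (hD : ODec Q B k D)
    {S : Subgroup (V ≃ₗ[F] V)} (hS : IsDStab D S) {j : Fin t} {u : V} (hu : u ∈ D j)
    (hQu : Q u ≠ 0) : refl Q B hQs hQp hQu ∈ S := by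
  apply mem_dstab_of_forall' hD.fr hS
  intro i v hv
  by_cases hij : i = j
  · subst hij
    rw [refl_apply]
    exact (D i).sub_mem hv ((D i).smul_mem _ hu)
  · rw [refl_fix hQs hQp hQu (hD.orth i j hij v hv u hu)]
    exact hv

include hQs hQp in
/-- An element of `M` fixing `y` maps `n` into the plane `⟨y, n⟩` of a root pair. -/
lemma rootPair_fix {M : Subgroup (V ≃ₗ[F] V)} (hMO : M ≤ oG Q) {y n : V}
    (hp : RootPair Q B M y n) {l : V ≃ₗ[F] V} (hl : l ∈ M) (hy : l y = y) :
    ∃ a b : F, l n = a • y + b • n := by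
  have h1 : InZ Q B M y n := (hp.inz n).mpr ⟨0, 1, by simp⟩
  have h2 := InZ_map hQs hQp hl (hMO hl) hp.Qy h1
  rw [hy] at h2
  exact (hp.inz _).mp h2

end Refl

end Cfsg.Agent.Lib.Helper94_OD_Aux
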