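import Mathlib
import Cfsg.Agent.Lib.Helper29_ODDefs
import Cfsg.Agent.Lib.Helper94_OrthRefl
import Cfsg.Agent.Lib.Helper94_OD_Aux
import Cfsg.Agent.Lib.Helper74_OD_BASIC
import Cfsg.Agent.Lib.Helper35_OD_PLANE

set_option autoImplicit false

/-!
OD-C1 (helper29's S5677 market): for `k = 3`, if `y` is supported on two blocks `j ≠ j'` and
no vector `n - c • y` of the root pair `(y, n)` is orthogonal to `D j'`, then some `n - c • y` is
orthogonal to `D j`.
-/

namespace Cfsg.Agent.Lib.Helper94_OD_C1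

open Module Cfsg.Agent.Lib.Helper94_Symp Cfsg.Agent.Lib.Helper94_OrthSmall
  Cfsg.Agent.Lib.Helper94_OrthSiegel Cfsg.Agent.Lib.Helper94_OrthSiegel2
  Cfsg.Agent.Lib.Helper94_OrthPara Cfsg.Agent.Lib.Helper94_OrthVec
  Cfsg.Agent.Lib.Helper94_OrthNondeg Cfsg.Agent.Lib.Helper94_OrthRefl
  Cfsg.Agent.Lib.Helper29_ODDefs Cfsg.Agent.Lib.Helper94_OD_Aux
open Cfsg.Agent.Lib.Helper74_OD_BASIC Cfsg.Agent.Lib.Helper35_OD_PLANE
open scoped commutatorElement

variable {F V : Type*} [Field F] [AddCommGroup V] [Module F V] [Finite F] [FiniteDimensional F V]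
  {Q : V → F} {B : LinearMap.BilinForm F V}

theorem case1 {t k : ℕ} {D : Fin t → Submodule F V} {S M : Subgroup (V ≃ₗ[F] V)}
    (hC : Ctx Q B k D S M) (hk3 : k = 3) (hq : 5 ≤ Nat.card F)
    {y n : V} (hp : RootPair Q B M y n) {j j' : Fin t} (hjj' : j ≠ j')
    (hj : ¬ Perp B D y j) (hj' : ¬ Perp B D y j') (hnj' : ∀ c : F, ¬ Perp B D (n - c • y) j') :
    ∃ c : F, Perp B D (n - c • y) j := by
  have hC' := hC
  obtain ⟨hQs, hQp, h2, hN, hD, ht, hk, hS, hG2, hHM, hMO⟩ := hC
  have hsymm := B_symm Q B hQp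
  have hsapp := @sieg_apply F V _ _ _ Q B hQs hQp
  obtain ⟨π, hπ⟩ := exists_projs hQs hQp hN hD
  have hyj0 : π j y ≠ 0 := fun h => hj ((hπ.perp_iff y j).mpr h)
  have hyj'0 : π j' y ≠ 0 := fun h => hj' ((hπ.perp_iff y j').mpr h)
  have hyjA : π j y ∈ D j := hπ.mem j y
  have hfr3 : ∀ i, finrank F (D i) = 3 := fun i => by rw [hD.fr, hk3]
  -- Step 0
  have h0 : ∀ α β : F, α • y + β • n ∈ D j → α = 0 ∧ β = 0 := by
    intro α β hmem
    have h1 := hπ.zero_on j j' hjj' _ hmem
    rw [map_add, map_smul, map_smul] at h1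
    by_cases hβ : β = 0
    · rw [hβ, zero_smul, add_zero] at h1
      exact ⟨(smul_eq_zero.mp h1).resolve_right hyj'0, hβ⟩
    · exfalso
      apply hnj' (-(β⁻¹ * α))
      rw [hπ.perp_iff]
      have h2' : β • π j' n = -(α • π j' y) := eq_neg_of_add_eq_zero_right h1
      have h3 : π j' n = β⁻¹ • (β • π j' n) := by rw [smul_smul, inv_mul_cancel₀ hβ, one_smul]
      rw [h2'] at h3
      rw [map_sub, map_smul, h3]
      module
  -- Step 1
  have hfix : ∀ l ∈ S ⊓ ⁅oG Q, oG Q⁆, l y = y → l n - n ∈ D j → l n = n := by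
    intro l hl hly hln
    obtain ⟨α, β, hαβ⟩ := rootPair_fix hQs hQp hMO hp (hHM hl) hly
    have e : α • y + (β - 1) • n = l n - n := by
      rw [hαβ]
      module
    obtain ⟨h1, h2'⟩ := h0 α (β - 1) (e ▸ hln)
    rw [hαβ, h1, sub_eq_zero.mp h2']
    simp
  have hBy_j : ∀ d ∈ D j, B y d = B (π j y) d := fun d hd => hπ.B_left j y d hd
  have hBn_j : ∀ d ∈ D j, B n d = B (π j n) d := fun d hd => hπ.B_left j n d hd
  -- it suffices to show `π j n ∈ F (π j y)`
  suffices hsuff : ∃ c : F, π j n = c • π j y by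
    obtain ⟨c, hc⟩ := hsuff
    refine ⟨c, ?_⟩
    rw [hπ.perp_iff, map_sub, map_smul, hc, sub_self]
  by_cases hQyj : Q (π j y) = 0
  · -- singular case
    obtain ⟨f, hfA, m, hmA, hQf, hef, hem, hfm, hQm, hcoord⟩ :=
      hyp_coords hQs hQp h2 (D j) (hD.nd j) (hfr3 j) hyjA hyj0 hQyj
    have hl : sieg Q B (π j y) m ∈ S ⊓ ⁅oG Q, oG Q⁆ := sieg_mem_H hC' hyjA hmA hQyj hem
    have hyyj : B y (π j y) = 0 := by
      rw [hBy_j _ hyjA, B_self Q B hQs hQp, hQyj, mul_zero]
    have hym : B y m = 0 := by rw [hBy_j _ hmA]; exact hem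
    have hly : sieg Q B (π j y) m y = y := by
      rw [hsapp hQyj hem, hyyj, hym]
      simp
    have hln : sieg Q B (π j y) m n - n =
        B n (π j y) • m - (B n m + Q m * B n (π j y)) • π j y := by
      rw [hsapp hQyj hem]
      module
    have h1 := hfix _ hl hly
      (by rw [hln]; exact (D j).sub_mem ((D j).smul_mem _ hmA) ((D j).smul_mem _ hyjA))
    have h3 : B n (π j y) • m - (B n m + Q m * B n (π j y)) • π j y = 0 := by
      rw [← hln, h1, sub_self]
    have hmm : B m m = 2 * Q m := B_self Q B hQs hQp m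
    have h4 : B n (π j y) = 0 := by
      have := congrArg (fun v => B v m) h3
      simp only [map_sub, map_smul, LinearMap.sub_apply, LinearMap.smul_apply, hem, hmm,
        smul_eq_mul, mul_zero, sub_zero, LinearMap.zero_apply, map_zero] at this
      rcases mul_eq_zero.mp this with h | h
      · exact h
      · exact absurd h (mul_ne_zero h2 hQm)
    have h5 : B n m = 0 := by
      rw [h4, zero_smul, zero_sub, mul_zero, add_zero, neg_eq_zero] at h3
      exact (smul_eq_zero.mp h3).resolve_right hyj0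
    have h6 := hcoord (π j n) (hπ.mem j n)
    rw [← hBn_j _ hyjA, ← hBn_j _ hmA, h4, h5] at h6
    refine ⟨B (π j n) f, ?_⟩
    conv_lhs => rw [h6]
    simp
  · -- nonsingular case
    obtain ⟨P, hPA, hPmem, hP2, hPnd, hPdec⟩ :=
      plane_of_nonsing hQs hQp h2 (D j) (hD.nd j) (hfr3 j) hyjA hQyj
    obtain ⟨b, hbP, hQb⟩ := exists_nonsing_plane hQs hQp P hPnd hP2
    obtain ⟨u, huP, hQu, hub, hunb⟩ :=
      plane_generic hQs hQp h2 (by omega) P hPnd hP2 hbP hQb
    have huj : u ∈ D j := hPA huP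
    have hbj : b ∈ D j := hPA hbP
    have hb0 : b ≠ 0 := by
      rintro rfl
      exact hQb (Q_zero Q hQs)
    have hyu : B y u = 0 := by rw [hBy_j u huj]; exact ((hPmem u).mp huP).2
    have hyb : B y b = 0 := by rw [hBy_j b hbj]; exact ((hPmem b).mp hbP).2
    set ru := refl Q B hQs hQp hQu with hru
    set rb := refl Q B hQs hQp hQb with hrb
    have hruS : ru ∈ S := refl_mem_dstab hQs hQp hD hS huj hQu
    have hrbS : rb ∈ S := refl_mem_dstab hQs hQp hD hS hbj hQb
    have hruO : ru ∈ oG Q := refl_mem Q B hQs hQp hQu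
    have hrbO : rb ∈ oG Q := refl_mem Q B hQs hQp hQb
    have hruinv : ru⁻¹ = ru := refl_inv Q B hQs hQp hQu
    have hrbinv : rb⁻¹ = rb := refl_inv Q B hQs hQp hQb
    have hl : ⁅ru, rb⁆ ∈ S ⊓ ⁅oG Q, oG Q⁆ := by
      refine ⟨?_, Subgroup.commutator_mem_commutator hruO hrbO⟩
      rw [commutatorElement_def]
      exact S.mul_mem (S.mul_mem (S.mul_mem hruS hrbS) (S.inv_mem hruS)) (S.inv_mem hrbS)
    have hcomm : ∀ x, ⁅ru, rb⁆ x = ru (rb (ru (rb x))) := by
      intro x
      rw [commutatorElement_def, hruinv, hrbinv]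
      rfl
    have hruy : ru y = y := refl_fix hQs hQp hQu hyu
    have hrby : rb y = y := refl_fix hQs hQp hQb hyb
    have hly : ⁅ru, rb⁆ y = y := by rw [hcomm, hrby, hruy, hrby, hruy]
    have hrumem : ∀ x, ru x - x ∈ D j := by
      intro x
      rw [hru, refl_apply]
      have e : x - ((Q u)⁻¹ * B x u) • u - x = (-((Q u)⁻¹ * B x u)) • u := by module
      rw [e]
      exact (D j).smul_mem _ huj
    have hrbmem : ∀ x, rb x - x ∈ D j := by
      intro x
      rw [hrb, refl_apply]
      have e : x - ((Q b)⁻¹ * B x b) • b - x = (-((Q b)⁻¹ * B x b)) • b := by module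
      rw [e]
      exact (D j).smul_mem _ hbj
    have hln : ⁅ru, rb⁆ n - n ∈ D j := by
      rw [hcomm]
      have e : ru (rb (ru (rb n))) - n = (ru (rb (ru (rb n))) - rb (ru (rb n))) +
          (rb (ru (rb n)) - ru (rb n)) + (ru (rb n) - rb n) + (rb n - n) := by abel
      rw [e]
      exact (D j).add_mem ((D j).add_mem ((D j).add_mem (hrumem _) (hrbmem _)) (hrumem _))
        (hrbmem _)
    have h1 := hfix _ hl hly hln
    rw [hcomm] at h1
    -- `ru (rb n) = rb (ru n)`
    have hinv_u : ∀ x, ru (ru x) = x := by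
      intro x
      have := inv_apply_apply' ru x
      rwa [hruinv] at this
    have hinv_b : ∀ x, rb (rb x) = x := by
      intro x
      have := inv_apply_apply' rb x
      rwa [hrbinv] at this
    have h3 : ru (rb n) = rb (ru n) := by
      have h4 := congrArg (fun v => rb (ru v)) h1
      simp only [hinv_u, hinv_b] at h4
      exact h4
    rw [hru, hrb, refl_apply, refl_apply, refl_apply, refl_apply] at h3
    have hbu : B b u = B u b := hsymm b u
    have h5 : ((Q b)⁻¹ * B n b * ((Q u)⁻¹ * B u b)) • u =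
        ((Q u)⁻¹ * B n u * ((Q b)⁻¹ * B u b)) • b := by
      simp only [map_sub, map_smul, LinearMap.sub_apply, LinearMap.smul_apply, smul_eq_mul,
        hbu] at h3
      have h6 := sub_eq_zero.mpr h3
      have e : (n - ((Q b)⁻¹ * B n b) • b -
          ((Q u)⁻¹ * (B n u - (Q b)⁻¹ * B n b * B u b)) • u) -
          (n - ((Q u)⁻¹ * B n u) • u - ((Q b)⁻¹ * (B n b - (Q u)⁻¹ * B n u * B u b)) • b) =
          ((Q b)⁻¹ * B n b * ((Q u)⁻¹ * B u b)) • u -
            ((Q u)⁻¹ * B n u * ((Q b)⁻¹ * B u b)) • b := by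
        module
      rw [e] at h6
      exact sub_eq_zero.mp h6
    have hc1 : (Q b)⁻¹ * B n b * ((Q u)⁻¹ * B u b) = 0 := by
      by_contra hne
      apply hunb (((Q b)⁻¹ * B n b * ((Q u)⁻¹ * B u b))⁻¹ *
        ((Q u)⁻¹ * B n u * ((Q b)⁻¹ * B u b)))
      rw [mul_smul, ← h5, smul_smul, inv_mul_cancel₀ hne, one_smul]
    have hnb : B n b = 0 := by
      rcases mul_eq_zero.mp hc1 with h | h
      · rcases mul_eq_zero.mp h with h' | h'
        · exact absurd h' (inv_ne_zero hQb)
        · exact h'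
      · rcases mul_eq_zero.mp h with h' | h'
        · exact absurd h' (inv_ne_zero hQu)
        · exact absurd h' hub
    have hc2 : (Q u)⁻¹ * B n u * ((Q b)⁻¹ * B u b) = 0 := by
      rw [hc1, zero_smul] at h5
      exact (smul_eq_zero.mp h5.symm).resolve_right hb0
    have hnu : B n u = 0 := by
      rcases mul_eq_zero.mp hc2 with h | h
      · rcases mul_eq_zero.mp h with h' | h'
        · exact absurd h' (inv_ne_zero hQu)
        · exact h'
      · rcases mul_eq_zero.mp h with h' | h'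
        · exact absurd h' (inv_ne_zero hQb)
        · exact absurd h' hub
    obtain ⟨c, p', hp'P, hpn⟩ := hPdec (π j n) (hπ.mem j n)
    have hyju : B (π j y) u = 0 := ((hPmem u).mp huP).2
    have hyjb : B (π j y) b = 0 := ((hPmem b).mp hbP).2
    have hp'u : B p' u = 0 := by
      have e : p' = π j n - c • π j y := by rw [hpn]; abel
      rw [e, map_sub, LinearMap.sub_apply, map_smul, LinearMap.smul_apply, hyju,
        ← hBn_j u huj, hnu]
      simp
    have hp'b : B p' b = 0 := by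
      have e : p' = π j n - c • π j y := by rw [hpn]; abel
      rw [e, map_sub, LinearMap.sub_apply, map_smul, LinearMap.smul_apply, hyjb,
        ← hBn_j b hbj, hnb]
      simp
    have hp'0 : p' = 0 := by
      by_contra hne
      obtain ⟨x, hxP, hx⟩ := hPnd p' hp'P hne
      obtain ⟨α, β, rfl⟩ := span_pair P hP2 huP hbP hb0 hunb x hxP
      apply hx
      rw [map_add, LinearMap.add_apply, map_smul, map_smul, LinearMap.smul_apply,
        LinearMap.smul_apply, hsymm u p', hsymm b p', hp'u, hp'b]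
      simp
    refine ⟨c, ?_⟩
    rw [hpn, hp'0, add_zero]

end Cfsg.Agent.Lib.Helper94_OD_C1
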