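import Mathlib
import Cfsg.Agent.Lib.Helper29_ODDefs
import Cfsg.Agent.Lib.Helper94_OrthRefl
import Cfsg.Agent.Lib.Helper94_OD_Aux
import Cfsg.Agent.Lib.Helper74_OD_BASIC
import Cfsg.Agent.Lib.Helper35_OD_PLANE

set_option autoImplicit false

/-!
OD-C2 (helper29's S5677 market): for `k = 3`, a root pair `(y, n)` with `n` in a block `D a` and
`y` supported on `a` and another block is impossible.
-/

namespace Cfsg.Agent.Lib.Helper94_OD_C2

open Module Cfsg.Agent.Lib.Helper94_Symp Cfsg.Agent.Lib.Helper94_OrthSmall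
  Cfsg.Agent.Lib.Helper94_OrthSiegel Cfsg.Agent.Lib.Helper94_OrthSiegel2
  Cfsg.Agent.Lib.Helper94_OrthPara Cfsg.Agent.Lib.Helper94_OrthVec
  Cfsg.Agent.Lib.Helper94_OrthNondeg Cfsg.Agent.Lib.Helper94_OrthRefl
  Cfsg.Agent.Lib.Helper29_ODDefs Cfsg.Agent.Lib.Helper94_OD_Aux
open Cfsg.Agent.Lib.Helper74_OD_BASIC Cfsg.Agent.Lib.Helper35_OD_PLANE

variable {F V : Type*} [Field F] [AddCommGroup V] [Module F V] [Finite F] [FiniteDimensional F V]
  {Q : V → F} {B : LinearMap.BilinForm F V}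

theorem case2 {t k : ℕ} {D : Fin t → Submodule F V} {S M : Subgroup (V ≃ₗ[F] V)}
    (hC : Ctx Q B k D S M) (hk3 : k = 3) (hq : 5 ≤ Nat.card F)
    {y n : V} (hp : RootPair Q B M y n) {a b : Fin t} (hab : a ≠ b) (hna : n ∈ D a)
    (hya : ¬ Perp B D y a) (hyb : ¬ Perp B D y b) : False := by
  have hC' := hC
  obtain ⟨hQs, hQp, h2, hN, hD, ht, hk, hS, hG2, hHM, hMO⟩ := hC
  have hsymm := B_symm Q B hQp
  have hsapp := @sieg_apply F V _ _ _ Q B hQs hQp
  obtain ⟨π, hπ⟩ := exists_projs hQs hQp hN hD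
  have hya0 : π a y ≠ 0 := fun h => hya ((hπ.perp_iff y a).mpr h)
  have hyb0 : π b y ≠ 0 := fun h => hyb ((hπ.perp_iff y b).mpr h)
  have hyaA : π a y ∈ D a := hπ.mem a y
  have hπbn : π b n = 0 := hπ.zero_on a b hab n hna
  -- Step 0
  have h0 : ∀ α β : F, α • y + β • n ∈ D a → α = 0 := by
    intro α β hmem
    have h1 := hπ.zero_on a b hab _ hmem
    rw [map_add, map_smul, map_smul, hπbn, smul_zero, add_zero] at h1
    exact (smul_eq_zero.mp h1).resolve_right hyb0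
  -- Step 1
  have hfix : ∀ l ∈ S ⊓ ⁅oG Q, oG Q⁆, l y = y → l n ∈ D a → ∃ β : F, l n = β • n := by
    intro l hl hly hln
    obtain ⟨α, β, hαβ⟩ := rootPair_fix hQs hQp hMO hp (hHM hl) hly
    have h1 := h0 α β (hαβ ▸ hln)
    refine ⟨β, ?_⟩
    rw [hαβ, h1, zero_smul, zero_add]
  have hBy_a : ∀ d ∈ D a, B y d = B (π a y) d := fun d hd => hπ.B_left a y d hd
  have hByan : B (π a y) n = 0 := by rw [← hBy_a n hna]; exact hp.Byn
  by_cases hQya : Q (π a y) = 0
  · -- singular case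
    have hl : sieg Q B (π a y) n ∈ S ⊓ ⁅oG Q, oG Q⁆ := sieg_mem_H hC' hyaA hna hQya hByan
    have hyya : B y (π a y) = 0 := by
      rw [hBy_a _ hyaA, B_self Q B hQs hQp, hQya, mul_zero]
    have hly : sieg Q B (π a y) n y = y := by
      rw [hsapp hQya hByan, hyya, hp.Byn]
      simp
    have hnya : B n (π a y) = 0 := by rw [hsymm]; exact hByan
    have hln : sieg Q B (π a y) n n = n - (2 * Q n) • π a y := by
      rw [hsapp hQya hByan, hnya, B_self Q B hQs hQp]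
      simp
    obtain ⟨β, hβ⟩ := hfix _ hl hly
      (by rw [hln]; exact (D a).sub_mem hna ((D a).smul_mem _ hyaA))
    rw [hln] at hβ
    have h2Qn : 2 * Q n ≠ 0 := mul_ne_zero h2 hp.Qn
    have hya_eq : π a y = ((2 * Q n)⁻¹ * (1 - β)) • n := by
      have e : (2 * Q n) • π a y = (1 - β) • n := by
        rw [sub_smul, one_smul, ← hβ]
        abel
      rw [mul_smul, ← e, smul_smul, inv_mul_cancel₀ h2Qn, one_smul]
    have hQ1 : Q (π a y) = ((2 * Q n)⁻¹ * (1 - β)) * ((2 * Q n)⁻¹ * (1 - β)) * Q n := by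
      conv_lhs => rw [hya_eq, hQs]
    rw [hQya] at hQ1
    have hγ : (2 * Q n)⁻¹ * (1 - β) = 0 := by
      rcases mul_eq_zero.mp hQ1.symm with h | h
      · exact mul_self_eq_zero.mp h
      · exact absurd h hp.Qn
    rw [hγ, zero_smul] at hya_eq
    exact hya0 hya_eq
  · -- nonsingular case
    have hQsum := hπ.Q_sum y
    rw [hp.Qy] at hQsum
    obtain ⟨j, hja, hQj⟩ : ∃ j, j ≠ a ∧ Q (π j y) ≠ 0 := by
      by_contra hcon
      push Not at hcon
      rw [Finset.sum_eq_single a (fun j _ hj => hcon j hj)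
        (fun h => absurd (Finset.mem_univ a) h)] at hQsum
      exact hQya hQsum.symm
    have hfr3 : ∀ i, finrank F (D i) = 3 := fun i => by rw [hD.fr, hk3]
    obtain ⟨Pa, hPaA, hPamem, hPa2, hPand, -⟩ :=
      plane_of_nonsing hQs hQp h2 (D a) (hD.nd a) (hfr3 a) hyaA hQya
    obtain ⟨Pj, hPjA, hPjmem, hPj2, hPjnd, -⟩ :=
      plane_of_nonsing hQs hQp h2 (D j) (hD.nd j) (hfr3 j) (hπ.mem j y) hQj
    have hnPa : n ∈ Pa := (hPamem n).mpr ⟨hna, hByan⟩
    obtain ⟨u, huPa, hQu, hun, hunn⟩ :=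
      plane_generic hQs hQp h2 (by omega) Pa hPand hPa2 hnPa hp.Qn
    obtain ⟨u', hu'Pj, hQu'⟩ := plane_univ hQs hQp h2 Pj hPjnd hPj2 (Q u)
    have hua : u ∈ D a := hPaA huPa
    have hu'j : u' ∈ D j := hPjA hu'Pj
    have hQu'0 : Q u' ≠ 0 := by rw [hQu']; exact hQu
    have huu' : B u u' = 0 := hD.orth a j (Ne.symm hja) u hua u' hu'j
    have hQd : Q (u - u') ≠ 0 := by
      have e : u - u' = u + (-1 : F) • u' := by module
      rw [e, Q_add_smul Q B hQs hQp, hQu', huu']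
      have e2 : Q u + -1 * -1 * Q u + -1 * 0 = 2 * Q u := by ring
      rw [e2]
      exact mul_ne_zero h2 hQu
    have hlΩ := refl_mul_refl_mem hQs hQp hQu hQu'0 hQu'.symm hQd
    have hlS : refl Q B hQs hQp hQu * refl Q B hQs hQp hQu'0 ∈ S :=
      S.mul_mem (refl_mem_dstab hQs hQp hD hS hua hQu) (refl_mem_dstab hQs hQp hD hS hu'j hQu'0)
    have hyu : B y u = 0 := by rw [hBy_a u hua]; exact ((hPamem u).mp huPa).2
    have hyu' : B y u' = 0 := by rw [hπ.B_left j y u' hu'j]; exact ((hPjmem u').mp hu'Pj).2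
    have hly : (refl Q B hQs hQp hQu * refl Q B hQs hQp hQu'0) y = y := by
      rw [LinearEquiv.mul_apply, refl_fix hQs hQp hQu'0 hyu', refl_fix hQs hQp hQu hyu]
    have hnu' : B n u' = 0 := hD.orth a j (Ne.symm hja) n hna u' hu'j
    have hln : (refl Q B hQs hQp hQu * refl Q B hQs hQp hQu'0) n =
        n - ((Q u)⁻¹ * B n u) • u := by
      rw [LinearEquiv.mul_apply, refl_fix hQs hQp hQu'0 hnu', refl_apply]
    obtain ⟨β, hβ⟩ := hfix _ ⟨hlS, hlΩ⟩ hly
      (by rw [hln]; exact (D a).sub_mem hna ((D a).smul_mem _ hua))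
    rw [hln] at hβ
    have hnu : B n u ≠ 0 := by rw [hsymm]; exact hun
    have hc : (Q u)⁻¹ * B n u ≠ 0 := mul_ne_zero (inv_ne_zero hQu) hnu
    apply hunn (((Q u)⁻¹ * B n u)⁻¹ * (1 - β))
    have e : ((Q u)⁻¹ * B n u) • u = (1 - β) • n := by
      rw [sub_smul, one_smul, ← hβ]
      abel
    rw [mul_smul, ← e, smul_smul, inv_mul_cancel₀ hc, one_smul]

end Cfsg.Agent.Lib.Helper94_OD_C2
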