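import Mathlib
import Cfsg.Agent.Lib.Helper29_ODDefs
import Cfsg.Agent.Lib.Helper94_OrthRefl
import Cfsg.Agent.Lib.Helper10_OD_IRR3
import Cfsg.Agent.Lib.Helper10_OD_PAIR
import Cfsg.Agent.Lib.Helper50_OD_A1
import Cfsg.Agent.Lib.Helper50_OD_A2
import Cfsg.Agent.Lib.Helper73_OD_3CYC
import Cfsg.Agent.Lib.Helper74_OD_BASIC
import Cfsg.Agent.Lib.Helper10_OD_STRICT
import Cfsg.Agent.Lib.Helper88_OD_STAR
import Cfsg.Agent.Lib.Helper88_OD_DICH
import Cfsg.Agent.Lib.Helper94_OD_B5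
import Cfsg.Agent.Lib.Helper94_OD_C1
import Cfsg.Agent.Lib.Helper94_OD_C2

set_option autoImplicit false
set_option linter.unusedSectionVars false

/-!
Assembly of the OD packages: the stabiliser of an orthogonal decomposition into `t ≥ 3` isometric
nondegenerate blocks of dimension `k = 3` (`|F| ≥ 5`) or `k ≥ 5` is maximal in `Ω = [O, O]`
(odd characteristic), in helper94's abstract setting.  (helper29, row S5677)
-/

namespace Cfsg.Agent.Lib.Helper29_OD_Main

open Module Cfsg.Agent.Lib.Helper94_Symp Cfsg.Agent.Lib.Helper94_OrthSmall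
  Cfsg.Agent.Lib.Helper94_OrthSiegel Cfsg.Agent.Lib.Helper94_OrthSiegel2
  Cfsg.Agent.Lib.Helper94_OrthPara Cfsg.Agent.Lib.Helper94_OrthVec
  Cfsg.Agent.Lib.Helper94_OrthNondeg Cfsg.Agent.Lib.Helper94_OrthRefl
  Cfsg.Agent.Lib.Helper29_ODDefs

open Cfsg.Agent.Lib.Helper94_OD_B5 (caseB5)
open Cfsg.Agent.Lib.Helper94_OD_C1 (case1)
open Cfsg.Agent.Lib.Helper94_OD_C2 (case2)
open Cfsg.Agent.Lib.Helper88_OD_STAR (star)
open Cfsg.Agent.Lib.Helper88_OD_DICH (dich)
open Cfsg.Agent.Lib.Helper74_OD_BASIC (eq_zero_of_perp mem_of_perp)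
open Cfsg.Agent.Lib.Helper10_OD_STRICT (strict)
open Cfsg.Agent.Lib.Helper10_OD_IRR3 (irr3)
open Cfsg.Agent.Lib.Helper10_OD_PAIR (exists_rootPair rootPair_sub)
open Cfsg.Agent.Lib.Helper50_OD_A1 (edge_of_notMem)
open Cfsg.Agent.Lib.Helper50_OD_A2 (caseA_finish)
open Cfsg.Agent.Lib.Helper73_OD_3CYC (three_cycles)

variable {F V : Type*} [Field F] [AddCommGroup V] [Module F V] [Finite F] [FiniteDimensional F V]
  {Q : V → F} {B : LinearMap.BilinForm F V}

/-- membership in the support -/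
lemma mem_supp {t : ℕ} {D : Fin t → Submodule F V} {y : V} {j : Fin t} :
    j ∈ supp B D y ↔ ¬ Perp B D y j := by
  classical
  unfold supp
  simp

lemma perp_add {t : ℕ} {D : Fin t → Submodule F V} {y z : V} {j : Fin t}
    (hy : Perp B D y j) (hz : Perp B D z j) : Perp B D (y + z) j := by
  intro d hd
  rw [map_add, LinearMap.add_apply, hy d hd, hz d hd, add_zero]

lemma perp_smul {t : ℕ} {D : Fin t → Submodule F V} {y : V} {j : Fin t} (c : F)
    (hy : Perp B D y j) : Perp B D (c • y) j := by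
  intro d hd
  rw [map_smul, LinearMap.smul_apply, hy d hd, smul_zero]

lemma perp_of_mem {t k : ℕ} {D : Fin t → Submodule F V} (hD : ODec Q B k D) {y : V} {a j : Fin t}
    (hy : y ∈ D a) (hja : j ≠ a) : Perp B D y j :=
  fun d hd => hD.orth a j (Ne.symm hja) y hy d hd

/-- Every vector of a nondegenerate subspace of dimension at least three is a difference of two
singular vectors of the subspace. -/
lemma exists_sing_decomp (hQs : ∀ (c : F) (v : V), Q (c • v) = c * c * Q v)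
    (hQp : ∀ u v : V, Q (u + v) = Q u + Q v + B u v)
    (A : Submodule F V) (hA : ∀ a ∈ A, a ≠ 0 → ∃ x ∈ A, B x a ≠ 0) (h3 : 3 ≤ finrank F A)
    {v : V} (hv : v ∈ A) : ∃ s1 ∈ A, ∃ s2 ∈ A, Q s1 = 0 ∧ Q s2 = 0 ∧ v = s1 + s2 := by
  by_cases hv0 : v = 0
  · exact ⟨0, A.zero_mem, 0, A.zero_mem, Q_zero Q hQs, Q_zero Q hQs, by rw [hv0, add_zero]⟩
  obtain ⟨s, hsA, hQs', hsv⟩ := exists_sing_not_orth Q B hQs hQp A hA h3 (hA v hv hv0)
  have hvs : B v s ≠ 0 := by rw [B_symm Q B hQp]; exact hsv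
  refine ⟨v + (-(Q v / B v s)) • s, A.add_mem hv (A.smul_mem _ hsA), (Q v / B v s) • s,
    A.smul_mem _ hsA, sing_adjust Q B hQs hQp hQs' hvs, ?_, ?_⟩
  · rw [hQs, hQs', mul_zero]
  · module

/-- The image of a block under an isometry is nondegenerate. -/
lemma nd_map (hQp : ∀ u v : V, Q (u + v) = Q u + Q v + B u v) {t k : ℕ}
    {D : Fin t → Submodule F V} (hD : ODec Q B k D) {g : V ≃ₗ[F] V} (hg : g ∈ oG Q) (i : Fin t) :
    ∀ a ∈ (D i).map (g : V →ₗ[F] V), a ≠ 0 → ∃ x ∈ (D i).map (g : V →ₗ[F] V), B x a ≠ 0 := by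
  rintro _ ⟨a, ha, rfl⟩ ha0
  have ha0' : a ≠ 0 := by
    rintro rfl
    exact ha0 (map_zero _)
  obtain ⟨x, hx, hxa⟩ := hD.nd i a ha ha0'
  refine ⟨g x, ⟨x, hx, rfl⟩, ?_⟩
  have := oG_B Q B hQp hg x a
  simp only [LinearEquiv.coe_coe]
  rw [this]
  exact hxa

lemma finrank_map_eq {t k : ℕ} {D : Fin t → Submodule F V} (hD : ODec Q B k D) (g : V ≃ₗ[F] V)
    (i : Fin t) : finrank F ((D i).map (g : V →ₗ[F] V)) = k := by
  rw [← hD.fr i]
  exact LinearEquiv.finrank_map_eq g (D i)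

/-- **Case B for `k = 3`**: `M` permutes the blocks. -/
theorem caseB3 {t k : ℕ} {D : Fin t → Submodule F V} {S M : Subgroup (V ≃ₗ[F] V)}
    (hC : Ctx Q B k D S M) (hk3 : k = 3) (hq : 5 ≤ Nat.card F) (hirr : Irr3 Q B)
    (hB : CaseB Q B D M) :
    ∀ g ∈ M, ∀ i, ∃ j, (D i).map (g : V →ₗ[F] V) ≤ D j := by
  classical
  obtain ⟨hsa, hsb⟩ := star hC hirr hB
  have hQs := hC.hQs
  have hQp := hC.hQp
  have hsymm := B_symm Q B hQp
  by_contra hcon
  push Not at hcon
  obtain ⟨g, hgM, i, hgi⟩ := hcon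
  -- Step 1: a singular admissible vector with support of size ≥ 2
  have h1 : ∃ y, SingAdm Q D M y ∧ 2 ≤ (supp B D y).card := by
    by_contra h1
    push Not at h1
    have hU3 : 3 ≤ finrank F ((D i).map (g : V →ₗ[F] V)) := by
      rw [finrank_map_eq hC.hD g i, hk3]
    have hUnd := nd_map hQp hC.hD (hC.hMO hgM) i
    obtain ⟨y₀, hy₀U, hy₀0, hQy₀⟩ := exists_singular_in Q B hQs hQp _ hU3
    have hadm : ∀ y ∈ (D i).map (g : V →ₗ[F] V), y ≠ 0 → Q y = 0 → SingAdm Q D M y :=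
      fun y hy hy0 hQy => ⟨hy0, hQy, g, hgM, i, hy⟩
    -- a vector with support of size ≤ 1 lies in a block
    have hblock : ∀ y, SingAdm Q D M y → ∃ a, y ∈ D a ∧ ¬ Perp B D y a := by
      intro y hy
      have hc := h1 y hy
      have hne : (supp B D y).Nonempty := by
        rw [Finset.nonempty_iff_ne_empty]
        intro he
        apply hy.1
        apply eq_zero_of_perp hQp hC.hN hC.hD
        intro j
        by_contra hj
        have : j ∈ supp B D y := mem_supp.mpr hj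
        rw [he] at this
        exact absurd this (Finset.notMem_empty j)
      obtain ⟨a, ha⟩ := hne
      refine ⟨a, ?_, mem_supp.mp ha⟩
      apply mem_of_perp hQs hQp hC.hN hC.hD
      intro j hja
      by_contra hj
      have hj' : j ∈ supp B D y := mem_supp.mpr hj
      have : 1 < (supp B D y).card := Finset.one_lt_card.mpr ⟨j, hj', a, ha, hja⟩
      omega
    obtain ⟨a, hy₀a, hy₀a'⟩ := hblock y₀ (hadm y₀ hy₀U hy₀0 hQy₀)
    apply hgi a
    -- every singular vector of U lies in D a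
    have hsing : ∀ y ∈ (D i).map (g : V →ₗ[F] V), Q y = 0 → y ∈ D a := by
      intro y hyU hQy
      by_cases hy0 : y = 0
      · rw [hy0]; exact (D a).zero_mem
      by_cases hB0 : B y₀ y = 0
      · have hz : InZ Q B M y₀ y := (hsa g hgM i y₀ hy₀U hy₀0 hQy₀ y).mpr ⟨hyU, hB0⟩
        apply mem_of_perp hQs hQp hC.hN hC.hD
        intro j hja
        exact hsb y₀ (hadm y₀ hy₀U hy₀0 hQy₀) j (perp_of_mem hC.hD hy₀a hja) y hz
      · obtain ⟨b, hyb, -⟩ := hblock y (hadm y hyU hy0 hQy)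
        by_cases hba : b = a
        · rw [← hba]; exact hyb
        · exact absurd (hC.hD.orth a b (Ne.symm hba) y₀ hy₀a y hyb) hB0
    intro v hv
    obtain ⟨s1, hs1, s2, hs2, hQ1, hQ2, rfl⟩ := exists_sing_decomp hQs hQp _ hUnd hU3 hv
    exact (D a).add_mem (hsing s1 hs1 hQ1) (hsing s2 hs2 hQ2)
  -- Step 2: minimal support
  have h2 : ∃ s, ∃ y, SingAdm Q D M y ∧ 2 ≤ (supp B D y).card ∧ (supp B D y).card = s := by
    obtain ⟨y, hy, hc⟩ := h1
    exact ⟨_, y, hy, hc, rfl⟩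
  obtain ⟨y, hy, hyc, hys⟩ := Nat.find_spec h2
  have hmin : ∀ y', SingAdm Q D M y' → (supp B D y').card < (supp B D y).card →
      (supp B D y').card ≤ 1 := by
    intro y' hy' hlt
    by_contra hc
    push Not at hc
    have := Nat.find_min' h2 ⟨y', hy', hc, rfl⟩
    omega
  -- Step 3
  obtain ⟨n, hp⟩ := exists_rootPair hC hk3 hsa hy
  have hinz : ∀ n', RootPair Q B M y n' → InZ Q B M y n' := fun n' hp' =>
    (hp'.inz n').mpr ⟨0, 1, by rw [zero_smul, one_smul, zero_add]⟩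
  by_cases hcase : ∃ j ∈ supp B D y, ∃ c : F, Perp B D (n - c • y) j
  · obtain ⟨j, hj, c, hcj⟩ := hcase
    have hp' := rootPair_sub (M := M) hQs hQp hp c
    have hn0 : n - c • y ≠ 0 := by
      intro h
      apply hp'.Qn
      rw [h, Q_zero Q hQs]
    obtain ⟨a, ha⟩ : ∃ a, ¬ Perp B D (n - c • y) a := by
      by_contra hall
      push Not at hall
      exact hn0 (eq_zero_of_perp hQp hC.hN hC.hD hall)
    have haj : a ≠ j := by
      rintro rfl
      exact ha hcj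
    have hna := dich hC hk3 hq hsb hy hp' hmin haj (mem_supp.mp hj) hcj ha
    have hya : ¬ Perp B D y a := fun h => ha (hsb y hy a h _ (hinz _ hp'))
    obtain ⟨b, hb, hba⟩ : ∃ b ∈ supp B D y, b ≠ a := by
      obtain ⟨b1, hb1, b2, hb2, hne⟩ := Finset.one_lt_card.mp (by omega : 1 < (supp B D y).card)
      by_cases h : b1 = a
      · exact ⟨b2, hb2, fun h2 => hne (h.trans h2.symm)⟩
      · exact ⟨b1, hb1, h⟩
    exact case2 hC hk3 hq hp' (Ne.symm hba) hna hya (mem_supp.mp hb)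
  · push Not at hcase
    obtain ⟨j, hj, j', hj', hne⟩ := Finset.one_lt_card.mp (by omega : 1 < (supp B D y).card)
    obtain ⟨c, hc⟩ := case1 hC hk3 hq hp hne (mem_supp.mp hj) (mem_supp.mp hj')
      (fun c => hcase j' hj' c)
    exact hcase j hj c hc

/-- If `g` maps every block into a block, it lies in the decomposition stabiliser. -/
lemma mem_dstab_of_le {t k : ℕ} {D : Fin t → Submodule F V} (hD : ODec Q B k D) (hk : 0 < k)
    {S : Subgroup (V ≃ₗ[F] V)} (hS : IsDStab D S) (g : V ≃ₗ[F] V)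
    (hg : ∀ i, ∃ j, (D i).map (g : V →ₗ[F] V) ≤ D j) : g ∈ S := by
  classical
  choose f hf using hg
  have heq : ∀ i, (D i).map (g : V →ₗ[F] V) = D (f i) := by
    intro i
    apply Submodule.eq_of_le_of_finrank_eq (hf i)
    rw [finrank_map_eq hD g i, hD.fr]
  have hne : ∀ i i', D i = D i' → i = i' := by
    intro i i' h
    by_contra hii'
    have hpos : 0 < finrank F (D i) := by rw [hD.fr]; exact hk
    obtain ⟨x, hx, hx0⟩ := Submodule.exists_mem_ne_zero_of_ne_bot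
      (fun hbot => by rw [hbot, finrank_bot] at hpos; omega : D i ≠ ⊥)
    obtain ⟨x', hx', hx'x⟩ := hD.nd i x hx hx0
    exact hx'x (hD.orth i i' hii' x' hx' x (h ▸ hx))
  have hinj : Function.Injective f := by
    intro i i' h
    apply hne
    have h1 : (D i).map (g : V →ₗ[F] V) = (D i').map (g : V →ₗ[F] V) := by
      rw [heq, heq, h]
    exact Submodule.map_injective_of_injective (f := (g : V →ₗ[F] V)) g.injective h1
  have hbij : Function.Bijective f := Finite.injective_iff_bijective.mp hinj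
  exact (hS g).mpr ⟨Equiv.ofBijective f hbij, fun i => by rw [heq]; rfl⟩

/-- **Maximality of the stabiliser of an orthogonal decomposition** into `t ≥ 3` isometric
nondegenerate blocks of dimension `k = 3` (`|F| ≥ 5`) or `k ≥ 5`, in `Ω = [O, O]`
(odd characteristic). -/
theorem maximal_dstab_orth (hQs : ∀ (c : F) (v : V), Q (c • v) = c * c * Q v)
    (hQp : ∀ u v : V, Q (u + v) = Q u + Q v + B u v) (h2 : (2 : F) ≠ 0) (hN : B.Nondegenerate)
    (hG2 : ∀ u z, Q u = 0 → B u z = 0 → sieg Q B u z ∈ ⁅oG Q, oG Q⁆)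
    (hG3 : ∀ M : Subgroup (V ≃ₗ[F] V),
      (∀ u z, Q u = 0 → B u z = 0 → sieg Q B u z ∈ M) → ⁅oG Q, oG Q⁆ ≤ M)
    {t : ℕ} (k : ℕ) (D : Fin t → Submodule F V) (hD : ODec Q B k D) (ht : 3 ≤ t)
    (hk : k = 3 ∨ 5 ≤ k) (hq : k = 3 → 5 ≤ Nat.card F)
    (S : Subgroup (V ≃ₗ[F] V)) (hS : IsDStab D S) :
    (S ⊓ ⁅oG Q, oG Q⁆ < ⁅oG Q, oG Q⁆) ∧
      ∀ M : Subgroup (V ≃ₗ[F] V), S ⊓ ⁅oG Q, oG Q⁆ ≤ M → M ≤ ⁅oG Q, oG Q⁆ →
        M = S ⊓ ⁅oG Q, oG Q⁆ ∨ M = ⁅oG Q, oG Q⁆ := by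
  have hk3 : 3 ≤ k := by omega
  have hGO : ⁅oG Q, oG Q⁆ ≤ oG Q := Subgroup.commutator_le_self _
  have hirr : Irr3 Q B := irr3 hQs hQp h2
  have h3c : ThreeCycles Q D := three_cycles hQs hQp hN hD
  constructor
  · exact strict (M := ⁅oG Q, oG Q⁆)
      ⟨hQs, hQp, h2, hN, hD, ht, hk3, hS, hG2, inf_le_right, hGO⟩
  · intro M hHM hMG
    have hC : Ctx Q B k D S M := ⟨hQs, hQp, h2, hN, hD, ht, hk3, hS, hG2, hHM, hMG.trans hGO⟩
    by_cases hB : CaseB Q B D M
    · left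
      apply le_antisymm _ hHM
      intro g hgM
      refine ⟨?_, hMG hgM⟩
      apply mem_dstab_of_le hD (by omega) hS g
      intro i
      rcases hk with hk | hk
      · exact caseB3 hC hk (hq hk) hirr hB g hgM i
      · obtain ⟨hsa, hsb⟩ := star hC hirr hB
        exact caseB5 hC hk hsa hsb g hgM i
    · right
      apply le_antisymm hMG
      apply hG3
      unfold CaseB at hB
      push Not at hB
      obtain ⟨i, w, hw, hw0, hQw, z, hz, hzD⟩ := hB
      obtain ⟨j, hji, he, he'⟩ := edge_of_notMem hC hirr hw hw0 hQw hz hzD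
      exact caseA_finish hC h3c (Ne.symm hji) he he'

end Cfsg.Agent.Lib.Helper29_OD_Main
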