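/-
Vocabulary for the rows S5814 / S5835 / S5859 (maximal subgroups of Ω₇, Ω₉, Ω₁₁, q odd; helper29): the abstract
properties `QO N` of `N = Ω_{2m+1}(q) ≤ GL` used to show that `N` lies in no member of the geometric classes, and the
maximality glue.  (`QO` is helper39's `QS` with the transvection replaced by a long root group `1 + t X`, `X² = 0`,
`rank X ≤ 2`, and the commutant made explicit: Ω contains no transvection in odd characteristic.)
-/
import Mathlib
import Cfsg.Prelude.Def_GeometricClasses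

set_option autoImplicit false

namespace Cfsg.Agent.Lib.Helper29_OmegaMaxDefs

open Cfsg Cfsg.Geo Matrix
open scoped MatrixGroups

variable {ι : Type} [Fintype ι] [DecidableEq ι] {F : Type*} [Field F]

/-- the abstract properties of `Ω_{2m+1}(q)` (and of every quasisimple classical group containing long root groups)
inside `GL` used by the exclusion lemmas -/
structure QO (N : Subgroup (GL ι F)) : Prop where
  perf : ⁅N, N⁆ = N
  dich : ∀ K : Subgroup (GL ι F), K ≤ N → (∀ s ∈ N, ∀ x ∈ K, s * x * s⁻¹ ∈ K) → K ≤ scalars ι F ∨ K = N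
  irr : ActsIrreducibly (matrixSet N)
  comm : ∀ A : Matrix ι ι F, (∀ s ∈ N, (s : Matrix ι ι F) * A = A * (s : Matrix ι ι F)) →
    ∃ c : F, A = c • (1 : Matrix ι ι F)
  root : ∃ X : Matrix ι ι F, X ≠ 0 ∧ X * X = 0 ∧ X.rank ≤ 2 ∧ ∀ t : F, ∃ g ∈ N, (g : Matrix ι ι F) = 1 + t • X

/-- the glue: a maximal subgroup of `Ω` contained in `M` is `M ⊓ Ω` as soon as `Ω ≰ M` -/
theorem eq_inf_of_maximal {G : Type*} [Group G] {Ω H M : Subgroup G} (hH : IsMaximalIn Ω H) (hHM : H ≤ M)
    (hM : ¬ Ω ≤ M) : H = M ⊓ Ω := by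
  rcases hH.2 (M ⊓ Ω) (le_inf hHM hH.1.le) inf_le_right with h | h
  · exact h.symm
  · exact absurd (h ▸ inf_le_left) hM

/-- X1: class 1 -/
theorem not_le_subspaceStabilizer {N : Subgroup (GL ι F)} (hN : QO N) (W : Submodule F (ι → F)) (hW0 : W ≠ ⊥)
    (hW1 : W ≠ ⊤) : ¬ N ≤ subspaceStabilizer W := by
  intro hle
  have hinv : ∀ s ∈ matrixSet N, W.map (Matrix.toLin' s) ≤ W := by
    rintro _ ⟨g, hg, rfl⟩
    rintro _ ⟨w, hw, rfl⟩
    have h1 := (hle hg w).mp hw
    simpa [Matrix.toLin'_apply] using h1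
  rcases hN.irr W hinv with h | h
  · exact hW0 h
  · exact hW1 h

end Cfsg.Agent.Lib.Helper29_OmegaMaxDefs
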