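/-
OMX package OMc (helper29): `Ω_{2m+1}(q)` contains a long root group `{1 + t X}`, `X ≠ 0`, `X² = 0`, `rank X ≤ 2`
(the Siegel transformations attached to two orthogonal singular basis vectors).
-/
import Mathlib
import Cfsg.Agent.Lib.Helper29_OrthOddDefs
import Cfsg.Agent.Lib.Helper29_OmegaMaxDefs
import Cfsg.Agent.Lib.Helper29_OrthOdd_Glue
import Cfsg.Agent.Lib.Helper14_Siegel
import Cfsg.Agent.Lib.Helper14_SiegelAll
import Cfsg.Agent.Lib.Helper14_POmegaSimple
import Cfsg.Agent.Lib.Helper44_StdForms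

set_option autoImplicit false

namespace Cfsg.Agent.Lib.Helper29_OMX_OMc

open Cfsg Cfsg.Geo Matrix Cfsg.Agent.Lib.Helper29_OrthOddDefs Cfsg.Agent.Lib.Helper29_OmegaMaxDefs
open Cfsg.Agent.Lib.Helper44_StdForms Cfsg.Agent.Lib.Helper14_Siegel
open scoped MatrixGroups

variable {F : Type*} [Field F]

/-- the root matrix attached to `u, v` -/
noncomputable def rootMat {ι : Type} [Fintype ι] [DecidableEq ι] (Q : (ι → F) → F) (u v : ι → F) : Matrix ι ι F :=
  Matrix.vecMulVec v (polarVec Q u) - Matrix.vecMulVec u (polarVec Q v)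

theorem siegelMatrix_eq {ι : Type} [Fintype ι] [DecidableEq ι] (Q : (ι → F) → F) (u v : ι → F) (c : F) :
    Cfsg.siegelMatrix Q u v c = 1 + c • rootMat Q u v := rfl

theorem rootMat_mulVec {ι : Type} [Fintype ι] [DecidableEq ι] (Q : QuadraticForm F (ι → F)) (u v x : ι → F) :
    rootMat (⇑Q) u v *ᵥ x = QuadraticMap.polar (⇑Q) u x • v - QuadraticMap.polar (⇑Q) v x • u := by
  have h := siegelMatrix_mulVec Q u v 1 x
  rw [siegelMatrix_eq, one_smul, Matrix.add_mulVec, Matrix.one_mulVec, one_mul, one_mul] at h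
  have h2 : x + rootMat (⇑Q) u v *ᵥ x = x + (QuadraticMap.polar (⇑Q) u x • v - QuadraticMap.polar (⇑Q) v x • u) := by
    rw [h]; abel
  exact add_left_cancel h2

/-- OMc: Ω_{2m+1}(q) contains a long root group -/
theorem OMc [Fintype F] (hodd : Odd (Fintype.card F)) (m : ℕ) (hm : 3 ≤ m) :
    ∃ X : Matrix (OI m) (OI m) F, X ≠ 0 ∧ X * X = 0 ∧ X.rank ≤ 2 ∧
      ∀ t : F, ∃ g ∈ omegaGL (quadFormOdd m F), (g : Matrix (OI m) (OI m) F) = 1 + t • X := by
  classical
  have h2 : (2 : F) ≠ 0 := Cfsg.Agent.Lib.Helper29_OrthOdd_Glue.two_ne_zero_of_odd_card hodd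
  let Q : QuadraticForm F (OI m → F) := qfOdd m F
  have hQc : ⇑Q = quadFormOdd m F := coe_qfOdd m F
  have hQnd : (QuadraticMap.polarBilin Q).Nondegenerate :=
    Cfsg.Agent.Lib.Helper14_POmegaSimple.nondegenerate_qfOdd h2 m
  have hn : 5 ≤ Fintype.card (OI m) := by
    have : Fintype.card (OI m) = 2 * m + 1 := by simp [OI]; ring
    omega
  let i0 : Fin m := ⟨0, by omega⟩
  let i1 : Fin m := ⟨1, by omega⟩
  have hi01 : i0 ≠ i1 := by
    intro h
    have := congrArg Fin.val h
    simp [i0, i1] at this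
  let u : OI m → F := Pi.single (Sum.inr (Sum.inl i0)) 1
  let v : OI m → F := Pi.single (Sum.inr (Sum.inl i1)) 1
  let w : OI m → F := Pi.single (Sum.inr (Sum.inr i0)) 1
  have hu : Q u = 0 := by
    rw [hQc]
    simp [quadFormOdd, u]
  have hv : Q v = 0 := by
    rw [hQc]
    simp [quadFormOdd, v]
  have huv : QuadraticMap.polar (⇑Q) u v = 0 := by
    rw [hQc, polar_quadFormOdd]
    simp [u, v]
  have huw : QuadraticMap.polar (⇑Q) u w = 1 := by
    rw [hQc, polar_quadFormOdd]
    simp [u, w, Pi.single_apply]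
  have hvw : QuadraticMap.polar (⇑Q) v w = 0 := by
    rw [hQc, polar_quadFormOdd]
    simp [v, w, Pi.single_apply, hi01]
  have huu : QuadraticMap.polar (⇑Q) u u = 0 := polar_self_of_singular Q hu
  have hvv : QuadraticMap.polar (⇑Q) v v = 0 := polar_self_of_singular Q hv
  have hvu : QuadraticMap.polar (⇑Q) v u = 0 := by rw [QuadraticMap.polar_comm]; exact huv
  refine ⟨rootMat (⇑Q) u v, ?_, ?_, ?_, ?_⟩
  · -- non-zero
    intro h0
    have h1 := rootMat_mulVec Q u v w
    rw [h0, Matrix.zero_mulVec, huw, hvw, one_smul, zero_smul, sub_zero] at h1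
    have h3 := congrFun h1 (Sum.inr (Sum.inl i1))
    simp [v] at h3
  · -- square zero
    apply Cfsg.Agent.Lib.Helper44_Refl.matrix_ext_mulVec
    intro x
    rw [← Matrix.mulVec_mulVec, rootMat_mulVec, rootMat_mulVec, Matrix.zero_mulVec]
    simp only [QuadraticMap.polar_sub_right, QuadraticMap.polar_smul_right, huu, hvv, huv, hvu,
      smul_eq_mul, mul_zero, sub_zero, zero_smul]
  · -- rank at most two
    have hrange : LinearMap.range (rootMat (⇑Q) u v).mulVecLin ≤ Submodule.span F ({u, v} : Set (OI m → F)) := by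
      rintro _ ⟨x, rfl⟩
      rw [Matrix.mulVecLin_apply, rootMat_mulVec]
      apply Submodule.sub_mem
      · exact Submodule.smul_mem _ _ (Submodule.subset_span (by simp))
      · exact Submodule.smul_mem _ _ (Submodule.subset_span (by simp))
    have h1 : Module.finrank F (Submodule.span F ({u, v} : Set (OI m → F))) ≤ 2 := by
      have := finrank_span_finset_le_card (R := F) ({u, v} : Finset (OI m → F))
      have h2' : ({u, v} : Finset (OI m → F)).card ≤ 2 := Finset.card_le_two
      have h3 : ((({u, v} : Finset (OI m → F)) : Set (OI m → F))) = {u, v} := by simp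
      rw [h3] at this
      exact this.trans h2'
    unfold Matrix.rank
    exact (Submodule.finrank_mono hrange).trans h1
  · intro t
    have hmem := Cfsg.Agent.Lib.Helper14_SiegelAll.siegel_mem_omega Q hQnd hn u v t hu hv huv
    refine ⟨((siegel Q u v t hu hv huv : ↥(Cfsg.isometryGroup F (⇑Q))) : GL (OI m) F), ?_, ?_⟩
    · rw [← hQc]
      unfold omegaGL
      exact ⟨siegel Q u v t hu hv huv, hmem, rfl⟩
    · rw [siegel_coe, siegelMatrix_eq]

end Cfsg.Agent.Lib.Helper29_OMX_OMc
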