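import Mathlib
import Cfsg.Agent.Lib.Helper95_OPDefs
import Cfsg.Agent.Lib.Helper95_OPBasic
import Cfsg.Agent.Lib.Helper48_OODefs
import Cfsg.Agent.Lib.Helper87_OO2Defs
import Cfsg.Agent.Lib.Helper87_OO2Defs2
import Cfsg.Agent.Lib.Helper85_OO2_ELT
import Cfsg.Agent.Lib.Helper12_OO2_HEIS

set_option autoImplicit false
set_option linter.unusedSectionVars false

/-!
S2344 wave 2, package OO2-M0 (cutter helper87; formalised by helper29): the space
`M_0 = (X^{U_Π})^{L''}` is stable under `x_1(s) = E(v, s w0')`, `n_1`, `h_12(a)`, `h_23(a)`; it contains `Y_2`;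
its `x_1`-fixed vectors are `Y_2`; its `x_1`-eigenvectors of weight `c ≠ 0` lie on the line `X_{c w0}`.
-/

namespace Cfsg.Agent.Lib.Helper29_OO2_M0

open Module Cfsg.Agent.Lib.Helper94_OrthSmall Cfsg.Agent.Lib.Helper44_QuadClass
  Cfsg.Agent.Lib.Helper14_OmegaSimple Cfsg.Agent.Lib.Helper38_MIODefs
  Cfsg.Agent.Lib.Helper95_OPDefs Cfsg.Agent.Lib.Helper95_OPBasic Cfsg.Agent.Lib.Helper48_OODefs
  Cfsg.Agent.Lib.Helper87_OO2Defs

section aux

variable {F V : Type*} [Field F] [AddCommGroup V] [Module F V]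
  {X : Type*} [AddCommGroup X] [Module ℂ X]

/-- `repE` of a product applied to a vector. -/
theorem repE_mul_apply (Q : QuadraticForm F V) (ρ : Representation ℂ ↥(T Q) X) {g k : V ≃ₗ[F] V}
    (hg : g ∈ T Q) (hk : k ∈ T Q) (x : X) :
    repE Q ρ (g * k) x = repE Q ρ g (repE Q ρ k x) := by
  rw [repE_mul Q ρ hg hk, Module.End.mul_apply]

/-- If the conjugate `g⁻¹ E(u,z) g = E(g⁻¹ u, g⁻¹ z)` fixes `x`, then `E(u,z)` fixes `g x`. -/
theorem fix_of_conj (Q : QuadraticForm F V) (ρ : Representation ℂ ↥(T Q) X) {g : V ≃ₗ[F] V}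
    (hg : g ∈ T Q) {u z : V} (hu : Q u = 0) (huz : QuadraticMap.polar (⇑Q) u z = 0)
    (hk : E Q u z ∈ T Q) (x : X) (h : repE Q ρ (E Q (g⁻¹ u) (g⁻¹ z)) x = x) :
    repE Q ρ (E Q u z) (repE Q ρ g x) = repE Q ρ g x := by
  have hgi : g⁻¹ ∈ T Q := Subgroup.inv_mem _ hg
  have hgiO := T_le_oG Q hgi
  have hconj := conj_E Q hgiO hu huz
  rw [inv_inv] at hconj
  -- `g⁻¹ * E u z * g = E (g⁻¹ u) (g⁻¹ z)`
  have hk' : E Q (g⁻¹ u) (g⁻¹ z) ∈ T Q := by
    rw [← hconj]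
    exact Subgroup.mul_mem _ (Subgroup.mul_mem _ hgi hk) hg
  have h1 : E Q u z * g = g * E Q (g⁻¹ u) (g⁻¹ z) := by
    rw [← hconj]
    group
  rw [← repE_mul_apply Q ρ hk hg, h1, repE_mul_apply Q ρ hg hk', h]

end aux

section main

variable {F V : Type*} [Field F] [Fintype F] [AddCommGroup V] [Module F V] [FiniteDimensional F V]
  {X : Type*} [AddCommGroup X] [Module ℂ X] [FiniteDimensional ℂ X]

omit [Fintype F] [FiniteDimensional F V] in
theorem mem_W1 (Q : QuadraticForm F V) (v v' w0 w0' u : V) :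
    u ∈ W1 Q v v' w0 w0' ↔
      (QuadraticMap.polar (⇑Q) v u = 0 ∧ QuadraticMap.polar (⇑Q) v' u = 0) ∧
      (QuadraticMap.polar (⇑Q) w0 u = 0 ∧ QuadraticMap.polar (⇑Q) w0' u = 0) := by
  unfold W1
  rw [Submodule.mem_inf, mem_perp, mem_perp]

omit [Fintype F] [FiniteDimensional F V] in
theorem mem_S (Q : QuadraticForm F V) (v v' w0 w0' w : V) :
    w ∈ W1 Q v v' w0 w0' ⊔ Submodule.span F {w0} ↔
      ∃ u ∈ W1 Q v v' w0 w0', ∃ c : F, w = u + c • w0 := by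
  rw [Submodule.mem_sup]
  constructor
  · rintro ⟨u, hu, z, hz, rfl⟩
    obtain ⟨c, rfl⟩ := Submodule.mem_span_singleton.mp hz
    exact ⟨u, hu, c, rfl⟩
  · rintro ⟨u, hu, c, rfl⟩
    exact ⟨u, hu, c • w0, Submodule.mem_span_singleton.mpr ⟨c, rfl⟩, rfl⟩

omit [Fintype F] [FiniteDimensional F V] [FiniteDimensional ℂ X] in
theorem mem_M0 (Q : QuadraticForm F V) (ρ : Representation ℂ ↥(T Q) X) (v v' w0 w0' : V) (x : X) :
    x ∈ M0sp Q ρ v v' w0 w0' ↔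
      ((∀ w ∈ W1 Q v v' w0 w0' ⊔ Submodule.span F {w0}, repE Q ρ (E Q v w) x = x) ∧
        (∀ w ∈ W1 Q v v' w0 w0', repE Q ρ (E Q w0 w) x = x)) ∧
      (∀ a ∈ W1 Q v v' w0 w0', ∀ b ∈ W1 Q v v' w0 w0', Q a = 0 → Q b = 0 →
        QuadraticMap.polar (⇑Q) a b = 0 → repE Q ρ (E Q a b) x = x) := by
  unfold M0sp
  rw [Submodule.mem_inf, Submodule.mem_inf]
  rfl

omit [FiniteDimensional ℂ X] in
/-- stability criterion for `M_0` -/
theorem M0_stable (Q : QuadraticForm F V) (hQ : (QuadraticMap.polarBilin Q).Nondegenerate)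
    (hdim : 5 ≤ finrank F V) {v v' w0 w0' : V} (h : HQuad Q v v' w0 w0')
    (ρ : Representation ℂ ↥(T Q) X) (g : V ≃ₗ[F] V) (hg : g ∈ T Q) (x : X)
    (h1 : ∀ w ∈ W1 Q v v' w0 w0' ⊔ Submodule.span F {w0},
      repE Q ρ (E Q (g⁻¹ v) (g⁻¹ w)) x = x)
    (h2 : ∀ w ∈ W1 Q v v' w0 w0', repE Q ρ (E Q (g⁻¹ w0) (g⁻¹ w)) x = x)
    (h3 : ∀ a ∈ W1 Q v v' w0 w0', ∀ b ∈ W1 Q v v' w0 w0', Q a = 0 → Q b = 0 →
      QuadraticMap.polar (⇑Q) a b = 0 → repE Q ρ (E Q (g⁻¹ a) (g⁻¹ b)) x = x) :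
    repE Q ρ g x ∈ M0sp Q ρ v v' w0 w0' := by
  rw [mem_M0]
  refine ⟨⟨?_, ?_⟩, ?_⟩
  · intro w hw
    obtain ⟨u, hu, c, rfl⟩ := (mem_S Q v v' w0 w0' _).mp hw
    have hvw : QuadraticMap.polar (⇑Q) v (u + c • w0) = 0 := by
      rw [QuadraticMap.polar_add_right, QuadraticMap.polar_smul_right,
        ((mem_W1 Q v v' w0 w0' u).mp hu).1.1, h.ab]
      simp
    exact fix_of_conj Q ρ hg h.pa.qa hvw (E_mem_T Q hQ hdim h.pa.qa hvw) x (h1 _ hw)
  · intro w hw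
    have hw0w := ((mem_W1 Q v v' w0 w0' w).mp hw).2.1
    exact fix_of_conj Q ρ hg h.pb.qa hw0w (E_mem_T Q hQ hdim h.pb.qa hw0w) x (h2 _ hw)
  · intro a ha b hb hQa hQb hab
    exact fix_of_conj Q ρ hg hQa hab (E_mem_T Q hQ hdim hQa hab) x (h3 a ha b hb hQa hQb hab)

end main

section thms

open Cfsg.Agent.Lib.Helper85_OO2_ELT Cfsg.Agent.Lib.Helper12_OO2_HEIS

variable {F V : Type*} [Field F] [Fintype F] [AddCommGroup V] [Module F V] [FiniteDimensional F V]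
  {X : Type*} [AddCommGroup X] [Module ℂ X] [FiniteDimensional ℂ X]

omit [Fintype F] [FiniteDimensional F V] in
theorem xr_inv (Q : QuadraticForm F V) {a b' : V} (ha : Q a = 0)
    (hab' : QuadraticMap.polar (⇑Q) a b' = 0) (s : F) : (xr Q a b' s)⁻¹ = xr Q a b' (-s) := by
  unfold xr
  rw [E_inv Q ha (by rw [QuadraticMap.polar_smul_right, hab', smul_zero]), neg_smul]

omit [FiniteDimensional ℂ X] in
/-- a product of three elements of `T Q` fixing `x` fixes `x` -/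
theorem fix_mul3 (Q : QuadraticForm F V) (ρ : Representation ℂ ↥(T Q) X) {g₁ g₂ g₃ : V ≃ₗ[F] V}
    (h₁ : g₁ ∈ T Q) (h₂ : g₂ ∈ T Q) (h₃ : g₃ ∈ T Q) (x : X) (e₁ : repE Q ρ g₁ x = x)
    (e₂ : repE Q ρ g₂ x = x) (e₃ : repE Q ρ g₃ x = x) : repE Q ρ (g₁ * g₂ * g₃) x = x := by
  rw [repE_mul_apply Q ρ (Subgroup.mul_mem _ h₁ h₂) h₃, e₃, repE_mul_apply Q ρ h₁ h₂, e₂, e₁]

theorem M0_x1 (Q : QuadraticForm F V) (hQ : (QuadraticMap.polarBilin Q).Nondegenerate)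
    (hdim : 5 ≤ finrank F V) {v v' w0 w0' : V} (h : HQuad Q v v' w0 w0')
    (ρ : Representation ℂ ↥(T Q) X) (s : F) (x : X) (hx : x ∈ M0sp Q ρ v v' w0 w0') :
    repE Q ρ (xr Q v w0' s) x ∈ M0sp Q ρ v v' w0 w0' := by
  have hx' := (mem_M0 Q ρ v v' w0 w0' x).mp hx
  have hinv := xr_inv Q h.pa.qa h.ab' s
  have hperp : ∀ u ∈ W1 Q v v' w0 w0', xr Q v w0' (-s) u = u := by
    intro u hu
    have hu' := (mem_W1 Q v v' w0 w0' u).mp hu
    exact xr_perp h.pa.qa h.pb.qa' h.ab' (-s)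
      (by rw [QuadraticMap.polar_comm]; exact hu'.1.1)
      (by rw [QuadraticMap.polar_comm]; exact hu'.2.2)
  apply M0_stable Q hQ hdim h ρ _ (xr_mem_T h.pa.qa h.pb.qa' h.ab' s) x
  · intro w hw
    obtain ⟨u, hu, c, rfl⟩ := (mem_S Q v v' w0 w0' _).mp hw
    have hu' := (mem_W1 Q v v' w0 w0' u).mp hu
    have hvw : QuadraticMap.polar (⇑Q) v (u + c • w0) = 0 := by
      rw [QuadraticMap.polar_add_right, QuadraticMap.polar_smul_right, hu'.1.1, h.ab]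
      simp
    rw [hinv, xr_a h, map_add, map_smul, hperp u hu, xr_b h]
    have h5 : u + c • (w0 - -s • v) = (u + c • w0) + (c * s) • v := by
      module
    rw [h5, E_add_smul Q h.pa.qa hvw]
    exact hx'.1.1 _ hw
  · intro w hw
    have hw' := (mem_W1 Q v v' w0 w0' w).mp hw
    rw [hinv, xr_b h, hperp w hw]
    have h5 : w0 - -s • v = w0 + s • v := by module
    rw [h5, E_add_left h.pa.qa h.pb.qa h.ab hw'.1.1 hw'.2.1 s]
    have hm1 : E Q w0 w ∈ T Q := E_mem_T Q hQ hdim h.pb.qa hw'.2.1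
    have hvsw : QuadraticMap.polar (⇑Q) v (s • w) = 0 := by
      rw [QuadraticMap.polar_smul_right, hw'.1.1, smul_zero]
    have hm2 : E Q v (s • w) ∈ T Q := E_mem_T Q hQ hdim h.pa.qa hvsw
    have hvw0 : QuadraticMap.polar (⇑Q) v ((s * Q w) • w0) = 0 := by
      rw [QuadraticMap.polar_smul_right, h.ab, smul_zero]
    have hm3 : E Q v ((s * Q w) • w0) ∈ T Q := E_mem_T Q hQ hdim h.pa.qa hvw0
    apply fix_mul3 Q ρ hm1 hm2 hm3 x (hx'.1.2 w hw)
    · apply hx'.1.1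
      exact Submodule.mem_sup_left (Submodule.smul_mem _ _ hw)
    · apply hx'.1.1
      exact Submodule.mem_sup_right (Submodule.mem_span_singleton.mpr ⟨_, rfl⟩)
  · intro a ha b hb hQa hQb hab
    rw [hinv, hperp a ha, hperp b hb]
    exact hx'.2 a ha b hb hQa hQb hab

end thms

section thms2

open Cfsg.Agent.Lib.Helper85_OO2_ELT Cfsg.Agent.Lib.Helper12_OO2_HEIS

variable {F V : Type*} [Field F] [Fintype F] [AddCommGroup V] [Module F V] [FiniteDimensional F V]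
  {X : Type*} [AddCommGroup X] [Module ℂ X] [FiniteDimensional ℂ X]

/-- a product of two elements of `T Q` fixing `x` fixes `x` -/
theorem fix_mul2 (Q : QuadraticForm F V) (ρ : Representation ℂ ↥(T Q) X) {g₁ g₂ : V ≃ₗ[F] V}
    (h₁ : g₁ ∈ T Q) (h₂ : g₂ ∈ T Q) (x : X) (e₁ : repE Q ρ g₁ x = x)
    (e₂ : repE Q ρ g₂ x = x) : repE Q ρ (g₁ * g₂) x = x := by
  rw [repE_mul_apply Q ρ h₁ h₂, e₂, e₁]

theorem M0_n1 (Q : QuadraticForm F V) (hQ : (QuadraticMap.polarBilin Q).Nondegenerate)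
    (hdim : 5 ≤ finrank F V) {v v' w0 w0' : V} (h : HQuad Q v v' w0 w0')
    (ρ : Representation ℂ ↥(T Q) X) (x : X) (hx : x ∈ M0sp Q ρ v v' w0 w0') :
    repE Q ρ (nw Q v v' w0 w0' 1) x ∈ M0sp Q ρ v v' w0 w0' := by
  have hx' := (mem_M0 Q ρ v v' w0 w0' x).mp hx
  have hperp : ∀ u ∈ W1 Q v v' w0 w0', (nw Q v v' w0 w0' 1)⁻¹ u = u := by
    intro u hu
    have hu' := (mem_W1 Q v v' w0 w0' u).mp hu
    exact nwinv_perp h (by rw [QuadraticMap.polar_comm]; exact hu'.1.1)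
      (by rw [QuadraticMap.polar_comm]; exact hu'.1.2)
      (by rw [QuadraticMap.polar_comm]; exact hu'.2.1)
      (by rw [QuadraticMap.polar_comm]; exact hu'.2.2)
  have hw0v : QuadraticMap.polar (⇑Q) w0 v = 0 := by rw [QuadraticMap.polar_comm]; exact h.ab
  apply M0_stable Q hQ hdim h ρ _ (nw_mem_T h 1) x
  · intro w hw
    obtain ⟨u, hu, c, rfl⟩ := (mem_S Q v v' w0 w0' _).mp hw
    have hu' := (mem_W1 Q v v' w0 w0' u).mp hu
    rw [nwinv_a h, map_add, map_smul, hperp u hu, nwinv_b h]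
    have h6 : QuadraticMap.polar (⇑Q) w0 (u + c • v) = 0 := by
      rw [QuadraticMap.polar_add_right, QuadraticMap.polar_smul_right, hu'.2.1, hw0v]
      simp
    have h7 : QuadraticMap.polar (⇑Q) w0 (-u) = 0 := by
      rw [QuadraticMap.polar_neg_right, hu'.2.1, neg_zero]
    have h8 : QuadraticMap.polar (⇑Q) w0 ((-c) • v) = 0 := by
      rw [QuadraticMap.polar_smul_right, hw0v, smul_zero]
    have h9 : Q ((-c) • v) = 0 := by
      rw [QuadraticMap.map_smul, h.pa.qa, smul_zero]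
    have h10 : E Q w0 ((-c) • v) = E Q v (c • w0) := by
      rw [E_swap h.pb.qa h9 h8, E_smul_left Q h.pa.qa
        (by rw [QuadraticMap.polar_neg_right, h.ab, neg_zero])]
      congr 1
      module
    rw [← neg_one_smul F w0, E_smul_left Q h.pb.qa h6]
    have h11 : (-1 : F) • (u + c • v) = -u + (-c) • v := by module
    rw [h11, ← E_mul Q h.pb.qa h7 h8, h10]
    have hvw0 : QuadraticMap.polar (⇑Q) v (c • w0) = 0 := by
      rw [QuadraticMap.polar_smul_right, h.ab, smul_zero]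
    apply fix_mul2 Q ρ (E_mem_T Q hQ hdim h.pb.qa h7) (E_mem_T Q hQ hdim h.pa.qa hvw0) x
    · exact hx'.1.2 _ (Submodule.neg_mem _ hu)
    · apply hx'.1.1
      exact Submodule.mem_sup_right (Submodule.mem_span_singleton.mpr ⟨_, rfl⟩)
  · intro w hw
    rw [nwinv_b h, hperp w hw]
    exact hx'.1.1 _ (Submodule.mem_sup_left hw)
  · intro a ha b hb hQa hQb hab
    rw [hperp a ha, hperp b hb]
    exact hx'.2 a ha b hb hQa hQb hab

end thms2

section thms3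

open Cfsg.Agent.Lib.Helper85_OO2_ELT Cfsg.Agent.Lib.Helper12_OO2_HEIS

variable {F V : Type*} [Field F] [Fintype F] [AddCommGroup V] [Module F V] [FiniteDimensional F V]
  {X : Type*} [AddCommGroup X] [Module ℂ X] [FiniteDimensional ℂ X]

theorem inv_apply_of_apply (g : V ≃ₗ[F] V) {x y : V} (h : g x = y) : g⁻¹ y = x := by
  show g.symm y = x
  rw [LinearEquiv.symm_apply_eq]
  exact h.symm

/-- an isometry fixing `v, v'` and scaling `w0, w0'` preserves `W_1` -/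
theorem W1_map (Q : QuadraticForm F V) {v v' w0 w0' : V} {k : V ≃ₗ[F] V} (hk : k ∈ oG (⇑Q))
    (h1 : k v = v) (h2 : k v' = v') {l m : F} (hl : l ≠ 0) (hm : m ≠ 0) (h3 : k w0 = l • w0)
    (h4 : k w0' = m • w0') (u : V) (hu : u ∈ W1 Q v v' w0 w0') : k u ∈ W1 Q v v' w0 w0' := by
  have hu' := (mem_W1 Q v v' w0 w0' u).mp hu
  rw [mem_W1]
  refine ⟨⟨?_, ?_⟩, ?_, ?_⟩
  · have := oG_polar Q hk v u
    rw [h1] at this
    rw [this]; exact hu'.1.1
  · have := oG_polar Q hk v' u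
    rw [h2] at this
    rw [this]; exact hu'.1.2
  · have := oG_polar Q hk w0 u
    rw [h3, QuadraticMap.polar_smul_left, hu'.2.1, smul_eq_mul] at this
    rcases mul_eq_zero.mp this with h5 | h5
    · exact absurd h5 hl
    · exact h5
  · have := oG_polar Q hk w0' u
    rw [h4, QuadraticMap.polar_smul_left, hu'.2.2, smul_eq_mul] at this
    rcases mul_eq_zero.mp this with h5 | h5
    · exact absurd h5 hm
    · exact h5

theorem M0_h12 (Q : QuadraticForm F V) (hQ : (QuadraticMap.polarBilin Q).Nondegenerate)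
    (hdim : 5 ≤ finrank F V) {v v' w0 w0' : V} (h : HQuad Q v v' w0 w0')
    (ρ : Representation ℂ ↥(T Q) X) (a : F) (ha : a ≠ 0) (x : X)
    (hx : x ∈ M0sp Q ρ v v' w0 w0') :
    repE Q ρ (hh Q v v' w0 w0' a) x ∈ M0sp Q ρ v v' w0 w0' := by
  have hx' := (mem_M0 Q ρ v v' w0 w0' x).mp hx
  have hperp : ∀ u ∈ W1 Q v v' w0 w0', (hh Q v v' w0 w0' a)⁻¹ u = u := by
    intro u hu
    have hu' := (mem_W1 Q v v' w0 w0' u).mp hu
    apply inv_apply_of_apply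
    exact hh_perp h a (by rw [QuadraticMap.polar_comm]; exact hu'.1.1)
      (by rw [QuadraticMap.polar_comm]; exact hu'.1.2)
      (by rw [QuadraticMap.polar_comm]; exact hu'.2.1)
      (by rw [QuadraticMap.polar_comm]; exact hu'.2.2)
  have hgv : (hh Q v v' w0 w0' a)⁻¹ v = a⁻¹ • v := by
    apply inv_apply_of_apply
    rw [map_smul, hh_a h ha, smul_smul, inv_mul_cancel₀ ha, one_smul]
  have hgw0 : (hh Q v v' w0 w0' a)⁻¹ w0 = a • w0 := by
    apply inv_apply_of_apply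
    rw [map_smul, hh_b h ha, smul_smul, mul_inv_cancel₀ ha, one_smul]
  apply M0_stable Q hQ hdim h ρ _ (hh_mem_T h a) x
  · intro w hw
    obtain ⟨u, hu, c, rfl⟩ := (mem_S Q v v' w0 w0' _).mp hw
    have hu' := (mem_W1 Q v v' w0 w0' u).mp hu
    rw [hgv, map_add, map_smul, hperp u hu, hgw0]
    have h6 : QuadraticMap.polar (⇑Q) v (u + c • a • w0) = 0 := by
      rw [QuadraticMap.polar_add_right, QuadraticMap.polar_smul_right,
        QuadraticMap.polar_smul_right, hu'.1.1, h.ab]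
      simp
    rw [E_smul_left Q h.pa.qa h6]
    apply hx'.1.1
    apply Submodule.smul_mem
    rw [mem_S]
    exact ⟨u, hu, c * a, by rw [smul_smul]⟩
  · intro w hw
    have hw' := (mem_W1 Q v v' w0 w0' w).mp hw
    rw [hgw0, hperp w hw, E_smul_left Q h.pb.qa hw'.2.1]
    exact hx'.1.2 _ (Submodule.smul_mem _ _ hw)
  · intro p hp r hr hQp hQr hpr
    rw [hperp p hp, hperp r hr]
    exact hx'.2 p hp r hr hQp hQr hpr

theorem M0_h23 (Q : QuadraticForm F V) (hQ : (QuadraticMap.polarBilin Q).Nondegenerate)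
    (hdim : 5 ≤ finrank F V) {v v' w0 w0' w1 w1' : V} (h : HQuad Q v v' w0 w0')
    (h1 : HQuad Q v v' w1 w1') (h2 : HQuad Q w0 w0' w1 w1')
    (ρ : Representation ℂ ↥(T Q) X) (a : F) (ha : a ≠ 0) (x : X)
    (hx : x ∈ M0sp Q ρ v v' w0 w0') :
    repE Q ρ (hh Q w0 w0' w1 w1' a) x ∈ M0sp Q ρ v v' w0 w0' := by
  have hx' := (mem_M0 Q ρ v v' w0 w0' x).mp hx
  have hgT : hh Q w0 w0' w1 w1' a ∈ T Q := hh_mem_T h2 a
  have hgiO : (hh Q w0 w0' w1 w1' a)⁻¹ ∈ oG (⇑Q) := T_le_oG Q (Subgroup.inv_mem _ hgT)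
  have hgv : (hh Q w0 w0' w1 w1' a)⁻¹ v = v := by
    apply inv_apply_of_apply
    exact hh_perp h2 a h.ab h.ab' h1.ab h1.ab'
  have hgv' : (hh Q w0 w0' w1 w1' a)⁻¹ v' = v' := by
    apply inv_apply_of_apply
    exact hh_perp h2 a h.a'b h.a'b' h1.a'b h1.a'b'
  have hgw0 : (hh Q w0 w0' w1 w1' a)⁻¹ w0 = a⁻¹ • w0 := by
    apply inv_apply_of_apply
    rw [map_smul, hh_a h2 ha, smul_smul, inv_mul_cancel₀ ha, one_smul]
  have hgw0' : (hh Q w0 w0' w1 w1' a)⁻¹ w0' = a • w0' := by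
    apply inv_apply_of_apply
    rw [map_smul, hh_a' h2 ha, smul_smul, mul_inv_cancel₀ ha, one_smul]
  have hmap : ∀ u ∈ W1 Q v v' w0 w0', (hh Q w0 w0' w1 w1' a)⁻¹ u ∈ W1 Q v v' w0 w0' :=
    W1_map Q hgiO hgv hgv' (inv_ne_zero ha) ha hgw0 hgw0'
  apply M0_stable Q hQ hdim h ρ _ hgT x
  · intro w hw
    obtain ⟨u, hu, c, rfl⟩ := (mem_S Q v v' w0 w0' _).mp hw
    rw [hgv, map_add, map_smul, hgw0]
    apply hx'.1.1
    rw [mem_S]
    exact ⟨_, hmap u hu, c * a⁻¹, by rw [smul_smul]⟩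
  · intro w hw
    have hw' := (mem_W1 Q v v' w0 w0' _).mp (hmap w hw)
    rw [hgw0, E_smul_left Q h.pb.qa hw'.2.1]
    exact hx'.1.2 _ (Submodule.smul_mem _ _ (hmap w hw))
  · intro p hp r hr hQp hQr hpr
    apply hx'.2 _ (hmap p hp) _ (hmap r hr)
    · rw [mem_oG.mp hgiO, hQp]
    · rw [mem_oG.mp hgiO, hQr]
    · rw [oG_polar Q hgiO, hpr]

end thms3

section thms4

open Cfsg.Agent.Lib.Helper85_OO2_ELT Cfsg.Agent.Lib.Helper12_OO2_HEIS

variable {F V : Type*} [Field F] [Fintype F] [AddCommGroup V] [Module F V] [FiniteDimensional F V]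
  {X : Type*} [AddCommGroup X] [Module ℂ X] [FiniteDimensional ℂ X]

theorem Y2_le_M0 (Q : QuadraticForm F V) {v v' w0 w0' : V} (h : HQuad Q v v' w0 w0')
    (ρ : Representation ℂ ↥(T Q) X) : Y2sp Q ρ v v' w0 w0' ≤ M0sp Q ρ v v' w0 w0' := by
  intro x hx
  unfold Y2sp F2sp at hx
  rw [Submodule.mem_inf, Submodule.mem_inf] at hx
  rw [mem_M0]
  refine ⟨⟨?_, hx.1.2⟩, hx.2⟩
  intro w hw
  apply hx.1.1
  have hle : W1 Q v v' w0 w0' ⊔ Submodule.span F {w0} ≤ perp Q v v' := by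
    apply sup_le
    · exact inf_le_left
    · rw [Submodule.span_singleton_le_iff_mem]
      exact h.mem_perp.1
  exact hle hw

/-- decomposition of `W = W_1 ⊕ F w0 ⊕ F w0'` -/
theorem decomp_W (Q : QuadraticForm F V) {v v' w0 w0' : V} (h : HQuad Q v v' w0 w0') (w : V)
    (hw : w ∈ perp Q v v') :
    ∃ u ∈ W1 Q v v' w0 w0', w = (u + QuadraticMap.polar (⇑Q) w0' w • w0) +
      QuadraticMap.polar (⇑Q) w0 w • w0' := by
  have hw' := (mem_perp Q v v').mp hw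
  refine ⟨w - QuadraticMap.polar (⇑Q) w0' w • w0 - QuadraticMap.polar (⇑Q) w0 w • w0', ?_, by abel⟩
  rw [mem_W1]
  have e1 : QuadraticMap.polar (⇑Q) w0 w0 = 0 := pol_aa h.symm
  have e2 : QuadraticMap.polar (⇑Q) w0' w0' = 0 := pol_a'a' h.symm
  have e3 : QuadraticMap.polar (⇑Q) w0' w0 = 1 := pol_a'a h.symm
  refine ⟨⟨?_, ?_⟩, ?_, ?_⟩
  · rw [QuadraticMap.polar_sub_right, QuadraticMap.polar_sub_right, QuadraticMap.polar_smul_right,
      QuadraticMap.polar_smul_right, hw'.1, h.ab, h.ab']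
    simp
  · rw [QuadraticMap.polar_sub_right, QuadraticMap.polar_sub_right, QuadraticMap.polar_smul_right,
      QuadraticMap.polar_smul_right, hw'.2, h.a'b, h.a'b']
    simp
  · rw [QuadraticMap.polar_sub_right, QuadraticMap.polar_sub_right, QuadraticMap.polar_smul_right,
      QuadraticMap.polar_smul_right, e1, h.pb.aa']
    simp
  · rw [QuadraticMap.polar_sub_right, QuadraticMap.polar_sub_right, QuadraticMap.polar_smul_right,
      QuadraticMap.polar_smul_right, e2, e3]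
    simp

theorem M0_fix (Q : QuadraticForm F V) (hQ : (QuadraticMap.polarBilin Q).Nondegenerate)
    (hdim : 5 ≤ finrank F V) {v v' w0 w0' : V} (h : HQuad Q v v' w0 w0')
    (ρ : Representation ℂ ↥(T Q) X) (x : X) (hx : x ∈ M0sp Q ρ v v' w0 w0')
    (hfix : ∀ s : F, repE Q ρ (xr Q v w0' s) x = x) : x ∈ Y2sp Q ρ v v' w0 w0' := by
  have hx' := (mem_M0 Q ρ v v' w0 w0' x).mp hx
  unfold Y2sp F2sp
  rw [Submodule.mem_inf, Submodule.mem_inf]
  refine ⟨⟨?_, hx'.1.2⟩, hx'.2⟩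
  intro w hw
  obtain ⟨u, hu, hdec⟩ := decomp_W Q h w hw
  have hu' := (mem_W1 Q v v' w0 w0' u).mp hu
  have h6 : QuadraticMap.polar (⇑Q) v (u + QuadraticMap.polar (⇑Q) w0' w • w0) = 0 := by
    rw [QuadraticMap.polar_add_right, QuadraticMap.polar_smul_right, hu'.1.1, h.ab]
    simp
  have h7 : QuadraticMap.polar (⇑Q) v (QuadraticMap.polar (⇑Q) w0 w • w0') = 0 := by
    rw [QuadraticMap.polar_smul_right, h.ab', smul_zero]
  rw [hdec, ← E_mul Q h.pa.qa h6 h7]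
  apply fix_mul2 Q ρ (E_mem_T Q hQ hdim h.pa.qa h6) (E_mem_T Q hQ hdim h.pa.qa h7) x
  · apply hx'.1.1
    rw [mem_S]
    exact ⟨u, hu, _, rfl⟩
  · exact hfix _

theorem M0_line (Q : QuadraticForm F V) (hQ : (QuadraticMap.polarBilin Q).Nondegenerate)
    (hdim : 5 ≤ finrank F V) {v v' w0 w0' : V} (h : HQuad Q v v' w0 w0')
    [DecidableEq ↥(perp Q v v')] (ρ : Representation ℂ ↥(T Q) X) (ψ : AddChar F ℂ)
    (f : ℕ) (hW : WData Q ρ ψ v v' 1 f) (c : F) (hc : c ≠ 0) (m m' : X)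
    (hm : m ∈ M0sp Q ρ v v' w0 w0') (hm' : m' ∈ M0sp Q ρ v v' w0 w0')
    (he : ∀ s : F, repE Q ρ (xr Q v w0' s) m = ψ (c * s) • m)
    (he' : ∀ s : F, repE Q ρ (xr Q v w0' s) m' = ψ (c * s) • m') (hm'0 : m' ≠ 0) :
    ∃ a : ℂ, m = a • m' := by
  have hw0W : w0 ∈ perp Q v v' := h.mem_perp.1
  -- the label `c • w0`
  obtain ⟨lab, hlab⟩ : ∃ lab : ↥(perp Q v v'), (lab : V) = c • w0 :=
    ⟨⟨c • w0, Submodule.smul_mem _ _ hw0W⟩, rfl⟩
  have key : ∀ y : X, y ∈ M0sp Q ρ v v' w0 w0' →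
      (∀ s : F, repE Q ρ (xr Q v w0' s) y = ψ (c * s) • y) → y ∈ wsp Q ρ ψ v v' lab := by
    intro y hy hey w
    have hy' := (mem_M0 Q ρ v v' w0 w0' y).mp hy
    obtain ⟨u, hu, hdec⟩ := decomp_W Q h (w : V) w.2
    have hu' := (mem_W1 Q v v' w0 w0' u).mp hu
    have h6 : QuadraticMap.polar (⇑Q) v (u + QuadraticMap.polar (⇑Q) w0' (w : V) • w0) = 0 := by
      rw [QuadraticMap.polar_add_right, QuadraticMap.polar_smul_right, hu'.1.1, h.ab]
      simp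
    have h7 : QuadraticMap.polar (⇑Q) v (QuadraticMap.polar (⇑Q) w0 (w : V) • w0') = 0 := by
      rw [QuadraticMap.polar_smul_right, h.ab', smul_zero]
    have h8 : repE Q ρ (E Q v (QuadraticMap.polar (⇑Q) w0 (w : V) • w0')) y =
        ψ (c * QuadraticMap.polar (⇑Q) w0 (w : V)) • y := hey _
    have h9 : repE Q ρ (E Q v (u + QuadraticMap.polar (⇑Q) w0' (w : V) • w0)) y = y := by
      apply hy'.1.1
      rw [mem_S]
      exact ⟨u, hu, _, rfl⟩
    have h10 : repE Q ρ (E Q v (w : V)) y = ψ (c * QuadraticMap.polar (⇑Q) w0 (w : V)) • y := by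
      conv_lhs => rw [hdec]
      rw [← E_mul Q h.pa.qa h6 h7,
        repE_mul_apply Q ρ (E_mem_T Q hQ hdim h.pa.qa h6) (E_mem_T Q hQ hdim h.pa.qa h7), h8,
        map_smul, h9]
    rw [h10, hlab, QuadraticMap.polar_smul_left, smul_eq_mul]
  have hlab0 : lab ≠ 0 := by
    intro h0
    have h11 : c • w0 = 0 := by
      rw [← hlab, h0]
      rfl
    have h12 := congrArg (fun t => QuadraticMap.polar (⇑Q) t w0') h11
    simp only [QuadraticMap.polar_smul_left, h.pb.aa', smul_eq_mul, mul_one] at h12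
    rw [h12] at hc
    simp [QuadraticMap.polar] at hc
  have hQlab : Qp Q v v' lab = 0 := by
    show Q (lab : V) = 0
    rw [hlab, QuadraticMap.map_smul, h.pb.qa, smul_zero]
  have hfr : finrank ℂ ↥(wsp Q ρ ψ v v' lab) = 1 := hW.he lab hlab0 hQlab
  have hm'1 : (⟨m', key m' hm' he'⟩ : ↥(wsp Q ρ ψ v v' lab)) ≠ 0 := by
    intro h0
    exact hm'0 (congrArg Subtype.val h0)
  obtain ⟨a, ha⟩ := (finrank_eq_one_iff_of_nonzero' _ hm'1).mp hfr ⟨m, key m hm he⟩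
  exact ⟨a, (congrArg Subtype.val ha).symm⟩

end thms4

end Cfsg.Agent.Lib.Helper29_OO2_M0
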