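import Mathlib
import Cfsg.Agent.Lib.Helper48_OODefs
import Cfsg.Agent.Lib.Helper77_OP_TRACER
import Cfsg.Agent.Lib.Helper78_OO_CNTA

set_option autoImplicit false

/-!
helper29: the Fourier lemma ("Lemma NS" / PERMKILL) for S2344.  `W` an odd-type quadratic space of rank `m ≥ 1`,
`S u := ∑_{Q w = 0} ψ (B(u,w))`.  Then `S 0 = q^(2m)`, `S u = 0` for singular `u ≠ 0`, `∑_u S u = |W|`,
`∑_u S u * conj (S u) = |W| q^(2m)`; hence `S` is not constant on the non-singular vectors, and a function
`f = (1, α on singular ≠ 0, β on non-singular)` all of whose non-singular Fourier coefficients vanish is `≡ 1`.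
-/

namespace Cfsg.Agent.Lib.Helper29_OO_NS

open Module Cfsg.Agent.Lib.Helper48_OODefs

variable {F W : Type*} [Field F] [Fintype F] [AddCommGroup W] [Module F W] [FiniteDimensional F W]

/-- The additive character `w ↦ ψ (B(u,w))` of `W`. -/
noncomputable def pairChar (Qw : QuadraticForm F W) (ψ : AddChar F ℂ) (u : W) : AddChar W ℂ where
  toFun w := ψ (QuadraticMap.polar (⇑Qw) u w)
  map_zero_eq_one' := by simp [QuadraticMap.polar]
  map_add_eq_mul' a b := by
    rw [QuadraticMap.polar_add_right, AddChar.map_add_eq_mul]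

theorem pairChar_apply (Qw : QuadraticForm F W) (ψ : AddChar F ℂ) (u w : W) :
    pairChar Qw ψ u w = ψ (QuadraticMap.polar (⇑Qw) u w) := rfl

/-- Orthogonality: `∑_w ψ (B(u,w)) = 0` for `u ≠ 0`. -/
theorem sum_pair_eq_zero [Fintype W] (Qw : QuadraticForm F W)
    (hQ : (QuadraticMap.polarBilin Qw).Nondegenerate) (ψ : AddChar F ℂ) (hψ : ψ ≠ 1) (u : W)
    (hu : u ≠ 0) : ∑ w : W, ψ (QuadraticMap.polar (⇑Qw) u w) = 0 := by
  have hne : pairChar Qw ψ u ≠ 1 := by
    intro h
    -- `B(u, ·)` is onto `F`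
    have hex : ∃ w : W, QuadraticMap.polar (⇑Qw) u w ≠ 0 := by
      by_contra hcon
      push_neg at hcon
      apply hu
      apply hQ.1
      intro w
      exact hcon w
    obtain ⟨w, hw⟩ := hex
    obtain ⟨a, ha⟩ : ∃ a : F, ψ a ≠ 1 := by
      by_contra hcon
      push_neg at hcon
      apply hψ
      ext a
      simpa using hcon a
    have h1 := congrArg (fun χ : AddChar W ℂ => χ ((a / QuadraticMap.polar (⇑Qw) u w) • w)) h
    simp only [pairChar_apply, AddChar.one_apply, QuadraticMap.polar_smul_right, smul_eq_mul] at h1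
    rw [div_mul_cancel₀ _ hw] at h1
    exact ha h1
  have := AddChar.sum_eq_zero_of_ne_one hne
  simpa [pairChar_apply] using this


/-- The same with the arguments swapped. -/
theorem sum_pair_eq_zero' [Fintype W] (Qw : QuadraticForm F W)
    (hQ : (QuadraticMap.polarBilin Qw).Nondegenerate) (ψ : AddChar F ℂ) (hψ : ψ ≠ 1) (w : W)
    (hw : w ≠ 0) : ∑ u : W, ψ (QuadraticMap.polar (⇑Qw) u w) = 0 := by
  rw [← sum_pair_eq_zero Qw hQ ψ hψ w hw]
  refine Finset.sum_congr rfl (fun u _ => ?_)
  rw [QuadraticMap.polar_comm]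

section S

variable [Fintype W] [DecidableEq F]

/-- `S u = ∑_{Q w = 0} ψ (B(u,w))`. -/
noncomputable def S (Qw : QuadraticForm F W) (ψ : AddChar F ℂ) (u : W) : ℂ :=
  ∑ w ∈ Finset.univ.filter (fun w : W => Qw w = 0), ψ (QuadraticMap.polar (⇑Qw) u w)

theorem card_zeros (Qw : QuadraticForm F W) (m : ℕ) (hP : IsOddT Qw m) :
    (Finset.univ.filter (fun w : W => Qw w = 0)).card = Fintype.card F ^ (2 * m) := by
  rw [← hP.zeros, Nat.card_eq_fintype_card, Fintype.card_subtype]

theorem card_W (Qw : QuadraticForm F W) (m : ℕ) (hP : IsOddT Qw m) :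
    Fintype.card W = Fintype.card F ^ (2 * m + 1) := by
  rw [← hP.dim]
  exact Module.card_eq_pow_finrank

theorem S_zero (Qw : QuadraticForm F W) (m : ℕ) (hP : IsOddT Qw m) (ψ : AddChar F ℂ) :
    S Qw ψ 0 = (Fintype.card F : ℂ) ^ (2 * m) := by
  unfold S
  have : ∀ w ∈ Finset.univ.filter (fun w : W => Qw w = 0),
      ψ (QuadraticMap.polar (⇑Qw) 0 w) = 1 := by
    intro w _
    simp [QuadraticMap.polar]
  rw [Finset.sum_congr rfl this, Finset.sum_const, card_zeros Qw m hP, nsmul_eq_mul, mul_one]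
  push_cast
  rfl

theorem S_sing (Qw : QuadraticForm F W) (m : ℕ) (hm : 1 ≤ m) (hP : IsOddT Qw m) (ψ : AddChar F ℂ)
    (hψ : ψ ≠ 1) (u : W) (hu0 : u ≠ 0) (hu : Qw u = 0) : S Qw ψ u = 0 := by
  classical
  have hq2 : 2 ≤ Fintype.card F := by
    have := Fintype.one_lt_card (α := F)
    omega
  have h := Cfsg.Agent.Lib.Helper77_OP_TRACER.cone_sum ψ hψ (fun w : W => Qw w = 0)
    (by
      intro t w ht
      rw [QuadraticMap.map_smul, smul_eq_mul]
      constructor
      · intro h
        rcases mul_eq_zero.mp h with h | h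
        · exact absurd (mul_self_eq_zero.mp h) ht
        · exact h
      · intro h
        rw [h, mul_zero])
    (fun w : W => QuadraticMap.polar (⇑Qw) u w)
    (by
      intro t w
      rw [QuadraticMap.polar_smul_right, smul_eq_mul])
  have hc1 : (Finset.univ.filter (fun w : W => Qw w = 0 ∧ QuadraticMap.polar (⇑Qw) u w = 0)).card =
      Fintype.card F ^ (2 * m - 1) := by
    rw [← Cfsg.Agent.Lib.Helper78_OO_CNTA.card_sing_perp_one_zero Qw m hm hP u hu0 hu,
      Nat.card_eq_fintype_card, Fintype.card_subtype]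
    congr 1
    ext w
    simp only [Finset.mem_filter, Finset.mem_univ, true_and]
    rw [QuadraticMap.polar_comm]
  rw [hc1, card_zeros Qw m hP] at h
  have hpow : (Fintype.card F : ℂ) * ((Fintype.card F ^ (2 * m - 1) : ℕ) : ℂ) -
      ((Fintype.card F ^ (2 * m) : ℕ) : ℂ) = 0 := by
    have : 2 * m = (2 * m - 1) + 1 := by omega
    push_cast
    rw [this, pow_succ]
    simp
    ring
  rw [hpow] at h
  have hq1 : ((Fintype.card F : ℂ) - 1) ≠ 0 := by
    intro h0
    have : (Fintype.card F : ℂ) = 1 := by linear_combination h0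
    have h1 : Fintype.card F = 1 := by exact_mod_cast this
    omega
  unfold S
  exact (mul_eq_zero.mp h).resolve_left hq1

theorem sum_S (Qw : QuadraticForm F W) (hQ : (QuadraticMap.polarBilin Qw).Nondegenerate)
    (ψ : AddChar F ℂ) (hψ : ψ ≠ 1) : ∑ u : W, S Qw ψ u = (Fintype.card W : ℂ) := by
  classical
  unfold S
  rw [Finset.sum_comm]
  rw [Finset.sum_eq_single (0 : W)]
  · have : ∀ u ∈ (Finset.univ : Finset W), ψ (QuadraticMap.polar (⇑Qw) u 0) = 1 := by
      intro u _
      simp [QuadraticMap.polar]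
    rw [Finset.sum_congr rfl this, Finset.sum_const, Finset.card_univ, nsmul_eq_mul, mul_one]
  · intro w _ hw
    exact sum_pair_eq_zero' Qw hQ ψ hψ w hw
  · intro h
    exfalso
    apply h
    simp

theorem sum_S_mul_conj (Qw : QuadraticForm F W) (hQ : (QuadraticMap.polarBilin Qw).Nondegenerate)
    (ψ : AddChar F ℂ) (hψ : ψ ≠ 1) :
    ∑ u : W, S Qw ψ u * (starRingEnd ℂ) (S Qw ψ u) =
      (Fintype.card W : ℂ) * ((Finset.univ.filter (fun w : W => Qw w = 0)).card : ℂ) := by
  classical
  have hfin : Finite F := inferInstance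
  unfold S
  simp_rw [map_sum, Finset.sum_mul_sum]
  rw [Finset.sum_comm]
  have h1 : ∀ w ∈ Finset.univ.filter (fun w : W => Qw w = 0),
      ∑ u : W, ∑ w' ∈ Finset.univ.filter (fun w : W => Qw w = 0),
        ψ (QuadraticMap.polar (⇑Qw) u w) * (starRingEnd ℂ) (ψ (QuadraticMap.polar (⇑Qw) u w')) =
      (Fintype.card W : ℂ) := by
    intro w hw
    rw [Finset.sum_comm]
    rw [Finset.sum_eq_single w]
    · have : ∀ u ∈ (Finset.univ : Finset W),
          ψ (QuadraticMap.polar (⇑Qw) u w) * (starRingEnd ℂ) (ψ (QuadraticMap.polar (⇑Qw) u w)) = 1 := by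
        intro u _
        rw [← AddChar.map_neg_eq_conj, ← AddChar.map_add_eq_mul, add_neg_cancel,
          AddChar.map_zero_eq_one]
      rw [Finset.sum_congr rfl this, Finset.sum_const, Finset.card_univ, nsmul_eq_mul, mul_one]
    · intro w' _ hne
      have : ∀ u ∈ (Finset.univ : Finset W),
          ψ (QuadraticMap.polar (⇑Qw) u w) * (starRingEnd ℂ) (ψ (QuadraticMap.polar (⇑Qw) u w')) =
            ψ (QuadraticMap.polar (⇑Qw) u (w - w')) := by
        intro u _
        rw [← AddChar.map_neg_eq_conj, ← AddChar.map_add_eq_mul, QuadraticMap.polar_sub_right,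
          sub_eq_add_neg]
      rw [Finset.sum_congr rfl this]
      exact sum_pair_eq_zero' Qw hQ ψ hψ (w - w') (sub_ne_zero.mpr (Ne.symm hne))
    · intro h
      exact absurd hw h
  rw [Finset.sum_congr rfl h1, Finset.sum_const, nsmul_eq_mul, mul_comm]


/-- `S` is even. -/
theorem S_neg (Qw : QuadraticForm F W) (ψ : AddChar F ℂ) (u : W) : S Qw ψ (-u) = S Qw ψ u := by
  unfold S
  refine Finset.sum_nbij' (fun w => -w) (fun w => -w) ?_ ?_ ?_ ?_ ?_
  · intro w hw
    rw [Finset.mem_filter] at hw ⊢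
    exact ⟨Finset.mem_univ _, by rw [QuadraticMap.map_neg]; exact hw.2⟩
  · intro w hw
    rw [Finset.mem_filter] at hw ⊢
    exact ⟨Finset.mem_univ _, by rw [QuadraticMap.map_neg]; exact hw.2⟩
  · intro w _
    simp
  · intro w _
    simp
  · intro w _
    rw [QuadraticMap.polar_neg_left, QuadraticMap.polar_neg_right]

/-- `S` is not constant on the non-singular vectors (first and second moment). -/
theorem S_not_const (Qw : QuadraticForm F W) (m : ℕ) (hm : 1 ≤ m) (hP : IsOddT Qw m)
    (ψ : AddChar F ℂ) (hψ : ψ ≠ 1) (κ : ℂ) (hκ : ∀ u : W, Qw u ≠ 0 → S Qw ψ u = κ) : False := by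
  classical
  have hq2 : 2 ≤ Fintype.card F := by
    have := Fintype.one_lt_card (α := F)
    omega
  set q : ℕ := Fintype.card F with hq
  have hZ := card_zeros Qw m hP
  have hW := card_W Qw m hP
  -- split of the sums over `u`
  have hsplit : ∀ g : W → ℂ, ∑ u : W, g u =
      ∑ u ∈ Finset.univ.filter (fun u : W => Qw u = 0), g u +
        ∑ u ∈ Finset.univ.filter (fun u : W => ¬ Qw u = 0), g u := by
    intro g
    rw [Finset.sum_filter_add_sum_filter_not]
  have hzero : ∀ g : ℂ → ℂ, g 0 = 0 →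
      ∑ u ∈ Finset.univ.filter (fun u : W => Qw u = 0), g (S Qw ψ u) = g (S Qw ψ 0) := by
    intro g hg
    rw [Finset.sum_eq_single (0 : W)]
    · intro u hu hu0
      rw [S_sing Qw m hm hP ψ hψ u hu0 (Finset.mem_filter.mp hu).2, hg]
    · intro h
      exfalso
      apply h
      simp
  have hns : ∀ g : ℂ → ℂ, ∑ u ∈ Finset.univ.filter (fun u : W => ¬ Qw u = 0), g (S Qw ψ u) =
      ((Finset.univ.filter (fun u : W => ¬ Qw u = 0)).card : ℂ) * g κ := by
    intro g
    have : ∀ u ∈ Finset.univ.filter (fun u : W => ¬ Qw u = 0), g (S Qw ψ u) = g κ := by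
      intro u hu
      rw [hκ u (Finset.mem_filter.mp hu).2]
    rw [Finset.sum_congr rfl this, Finset.sum_const, nsmul_eq_mul]
  -- the number of non-singular vectors
  have hN : (Finset.univ.filter (fun u : W => ¬ Qw u = 0)).card + q ^ (2 * m) = q ^ (2 * m + 1) := by
    rw [← hZ, ← hW, ← Finset.card_univ (α := W), add_comm]
    exact Finset.card_filter_add_card_filter_not _
  set N : ℕ := (Finset.univ.filter (fun u : W => ¬ Qw u = 0)).card with hNdef
  have hNpos : 0 < N := by
    have : q ^ (2 * m) < q ^ (2 * m + 1) := Nat.pow_lt_pow_right (by omega) (by omega)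
    omega
  -- first moment
  have h1 := sum_S Qw hP.nondeg ψ hψ
  rw [hsplit (fun u => S Qw ψ u), hzero (fun z => z) rfl, hns (fun z => z), S_zero Qw m hP ψ, hW] at h1
  -- second moment
  have h2 := sum_S_mul_conj Qw hP.nondeg ψ hψ
  rw [hsplit (fun u => S Qw ψ u * (starRingEnd ℂ) (S Qw ψ u)),
    hzero (fun z => z * (starRingEnd ℂ) z) (by simp),
    hns (fun z => z * (starRingEnd ℂ) z), S_zero Qw m hP ψ, hW, hZ] at h2
  have hNc : (N : ℂ) + (q : ℂ) ^ (2 * m) = (q : ℂ) ^ (2 * m + 1) := by exact_mod_cast hN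
  have hN0 : (N : ℂ) ≠ 0 := by exact_mod_cast hNpos.ne'
  push_cast at h1 h2
  -- `κ = 1`
  have hk1 : κ = 1 := by
    have : (N : ℂ) * κ = (N : ℂ) * 1 := by rw [mul_one]; linear_combination h1 - hNc
    exact mul_left_cancel₀ hN0 this
  rw [hk1] at h2
  simp only [map_one, mul_one, map_pow, map_natCast] at h2
  -- numbers
  have hnat : q ^ (2 * m) * q ^ (2 * m) + N = q ^ (2 * m + 1) * q ^ (2 * m) := by exact_mod_cast h2
  have hqm : 2 ≤ q ^ (2 * m) := by
    calc 2 ≤ q := hq2
      _ = q ^ 1 := (pow_one q).symm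
      _ ≤ q ^ (2 * m) := Nat.pow_le_pow_right (by omega) (by omega)
  have hsucc : q ^ (2 * m + 1) = q ^ (2 * m) * q := pow_succ q (2 * m)
  -- `N = q^(2m) (q - 1)`, so `q^(2m) * q^(2m) + q^(2m)(q-1) = q^(2m) q q^(2m)`
  have hN' : N = q ^ (2 * m) * q - q ^ (2 * m) := by omega
  rw [hsucc, hN'] at hnat
  set A : ℕ := q ^ (2 * m) with hA
  -- A*A + (A*q - A) = A*q*A  with A ≥ 2, q ≥ 2 : impossible
  have h3 : A * A + A * q = A * q * A + A := by
    have : A ≤ A * q := Nat.le_mul_of_pos_right A (by omega)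
    omega
  -- divide by A
  have h4 : A + q = q * A + 1 := by
    have hA0 : 0 < A := by omega
    have : A * (A + q) = A * (q * A + 1) := by ring_nf; ring_nf at h3; linarith
    exact Nat.eq_of_mul_eq_mul_left hA0 this
  -- (A - 1)(q - 1) = 0
  have : (A - 1) * (q - 1) = 0 := by
    obtain ⟨a, ha⟩ : ∃ a, A = a + 1 := ⟨A - 1, by omega⟩
    obtain ⟨b, hb⟩ : ∃ b, q = b + 1 := ⟨q - 1, by omega⟩
    rw [ha, hb] at h4 ⊢
    simp only [Nat.add_sub_cancel]
    nlinarith
  rcases Nat.mul_eq_zero.mp this with h | h <;> omega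

/-- **Lemma NS** (Fourier lemma).  `f 0 = 1`, `f = α` on the non-zero singular vectors, `f = β` on the
non-singular vectors, and all the Fourier coefficients of `f` at non-singular `u` vanish.  Then `α = β = 1`. -/
theorem lemma_NS (Qw : QuadraticForm F W) (m : ℕ) (hm : 1 ≤ m) (hP : IsOddT Qw m)
    (ψ : AddChar F ℂ) (hψ : ψ ≠ 1) (f : W → ℂ) (α β : ℂ) (h0 : f 0 = 1)
    (hα : ∀ w : W, w ≠ 0 → Qw w = 0 → f w = α) (hβ : ∀ w : W, Qw w ≠ 0 → f w = β)
    (hF : ∀ u : W, Qw u ≠ 0 → ∑ w : W, ψ (-(QuadraticMap.polar (⇑Qw) u w)) * f w = 0) :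
    α = 1 ∧ β = 1 := by
  classical
  -- for every non-singular `u`: `(1 - α) + (α - β) S u = 0`
  have key : ∀ u : W, Qw u ≠ 0 → (1 - α) + (α - β) * S Qw ψ u = 0 := by
    intro u hu
    have hu0 : u ≠ 0 := by
      rintro rfl
      exact hu (map_zero _)
    have hnu : Qw (-u) ≠ 0 := by rw [QuadraticMap.map_neg]; exact hu
    have h := hF (-u) hnu
    have hψu : ∀ w : W, ψ (-(QuadraticMap.polar (⇑Qw) (-u) w)) = ψ (QuadraticMap.polar (⇑Qw) u w) := by
      intro w
      rw [QuadraticMap.polar_neg_left, neg_neg]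
    simp_rw [hψu] at h
    -- `f w = β + (α - β) [Q w = 0] + (1 - α) [w = 0]`
    have hf : ∀ w : W, f w = β + (α - β) * (if Qw w = 0 then 1 else 0) + (1 - α) * (if w = 0 then 1 else 0) := by
      intro w
      by_cases hw0 : w = 0
      · subst hw0
        rw [h0]
        simp
      · by_cases hw : Qw w = 0
        · rw [hα w hw0 hw]
          simp [hw, hw0]
        · rw [hβ w hw]
          simp [hw, hw0]
    have hsum : ∑ w : W, ψ (QuadraticMap.polar (⇑Qw) u w) * f w =
        β * ∑ w : W, ψ (QuadraticMap.polar (⇑Qw) u w) + (α - β) * S Qw ψ u + (1 - α) := by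
      simp_rw [hf, mul_add, Finset.sum_add_distrib]
      congr 1
      · congr 1
        · rw [Finset.mul_sum]
          refine Finset.sum_congr rfl (fun w _ => by ring)
        · unfold S
          rw [Finset.mul_sum, Finset.sum_filter]
          refine Finset.sum_congr rfl (fun w _ => ?_)
          split_ifs <;> ring
      · rw [Finset.sum_eq_single (0 : W)]
        · simp [QuadraticMap.polar]
        · intro w _ hw
          simp [hw]
        · intro hh
          exact absurd (Finset.mem_univ _) hh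
    rw [hsum, sum_pair_eq_zero Qw hP.nondeg ψ hψ u hu0, mul_zero, zero_add] at h
    linear_combination h
  -- a non-singular vector exists
  have hex : ∃ u : W, Qw u ≠ 0 := by
    by_contra hcon
    push_neg at hcon
    exact S_not_const Qw m hm hP ψ hψ 0 (fun u hu => absurd (hcon u) hu)
  by_cases hab : α = β
  · obtain ⟨u, hu⟩ := hex
    have h := key u hu
    rw [hab, sub_self, zero_mul, add_zero] at h
    have hβ1 : β = 1 := by linear_combination -h
    exact ⟨hab.trans hβ1, hβ1⟩
  · exfalso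
    have hne : α - β ≠ 0 := sub_ne_zero.mpr hab
    refine S_not_const Qw m hm hP ψ hψ ((α - 1) / (α - β)) (fun u hu => ?_)
    have h := key u hu
    field_simp
    linear_combination h

end S

end Cfsg.Agent.Lib.Helper29_OO_NS
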