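import Mathlib

set_option autoImplicit false

/-!
S2344 (market `oo_packages`, package OO2-HERM; section 2.3 of `pending/helper87/S2344_proof.md`):
every finite-dimensional complex representation of a finite group carries an invariant positive definite
hermitian form `B`, and `B (ρ g y) y = B y y` forces `ρ g y = y`.  Mathlib only.

Convention: `B` is LINEAR in the FIRST argument and conjugate-linear in the second.
-/

namespace Cfsg.Agent.Lib.Helper48_OO2_HERM

open Module

variable {G : Type*} [Group G] {X : Type*} [AddCommGroup X] [Module ℂ X]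

/-- An invariant positive definite hermitian form for the representation `ρ`. -/
structure InvForm (ρ : Representation ℂ G X) where
  /-- the form -/
  B : X → X → ℂ
  add_left : ∀ x x' y : X, B (x + x') y = B x y + B x' y
  smul_left : ∀ (c : ℂ) (x y : X), B (c • x) y = c * B x y
  conj_symm : ∀ x y : X, (starRingEnd ℂ) (B x y) = B y x
  pos : ∀ x : X, x ≠ 0 → 0 < (B x x).re
  inv : ∀ (g : G) (x y : X), B (ρ g x) (ρ g y) = B x y

namespace InvForm

variable {ρ : Representation ℂ G X} (Φ : InvForm ρ)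

theorem add_right (x y y' : X) : Φ.B x (y + y') = Φ.B x y + Φ.B x y' := by
  rw [← Φ.conj_symm, Φ.add_left, map_add, Φ.conj_symm, Φ.conj_symm]

theorem smul_right (c : ℂ) (x y : X) : Φ.B x (c • y) = (starRingEnd ℂ) c * Φ.B x y := by
  rw [← Φ.conj_symm, Φ.smul_left, map_mul, Φ.conj_symm]

theorem zero_left (y : X) : Φ.B 0 y = 0 := by
  have := Φ.smul_left 0 0 y
  simpa using this

theorem zero_right (x : X) : Φ.B x 0 = 0 := by
  rw [← Φ.conj_symm, Φ.zero_left, map_zero]

theorem neg_left (x y : X) : Φ.B (-x) y = -Φ.B x y := by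
  have := Φ.smul_left (-1) x y
  simpa using this

theorem neg_right (x y : X) : Φ.B x (-y) = -Φ.B x y := by
  rw [← Φ.conj_symm, Φ.neg_left, map_neg, Φ.conj_symm]

theorem sub_left (x x' y : X) : Φ.B (x - x') y = Φ.B x y - Φ.B x' y := by
  rw [sub_eq_add_neg, Φ.add_left, Φ.neg_left, sub_eq_add_neg]

theorem sub_right (x y y' : X) : Φ.B x (y - y') = Φ.B x y - Φ.B x y' := by
  rw [sub_eq_add_neg, Φ.add_right, Φ.neg_right, sub_eq_add_neg]

/-- `B · y` as a linear map. -/
def linLeft (y : X) : X →ₗ[ℂ] ℂ where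
  toFun x := Φ.B x y
  map_add' x x' := Φ.add_left x x' y
  map_smul' c x := by simp [Φ.smul_left]

@[simp] theorem linLeft_apply (x y : X) : Φ.linLeft y x = Φ.B x y := rfl

theorem sum_left {ι : Type*} (s : Finset ι) (f : ι → X) (y : X) :
    Φ.B (∑ i ∈ s, f i) y = ∑ i ∈ s, Φ.B (f i) y := by
  have := map_sum (Φ.linLeft y) f s
  simp only [linLeft_apply] at this
  exact this

theorem sum_smul_left {ι : Type*} (s : Finset ι) (c : ι → ℂ) (f : ι → X) (y : X) :
    Φ.B (∑ i ∈ s, c i • f i) y = ∑ i ∈ s, c i * Φ.B (f i) y := by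
  rw [Φ.sum_left]
  exact Finset.sum_congr rfl (fun i _ => Φ.smul_left _ _ _)

theorem self_im (x : X) : (Φ.B x x).im = 0 := by
  have h := Φ.conj_symm x x
  have := congrArg Complex.im h
  rw [Complex.conj_im] at this
  linarith

theorem self_eq_zero_iff (x : X) : Φ.B x x = 0 ↔ x = 0 := by
  constructor
  · intro h
    by_contra hx
    have := Φ.pos x hx
    rw [h] at this
    simp at this
  · rintro rfl
    exact Φ.zero_left 0

/-- **Equality in Cauchy–Schwarz** for a unitary operator: `⟨g y, y⟩ = ⟨y, y⟩` forces `g y = y`. -/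
theorem fixed_of_form_eq (g : G) (y : X) (h : Φ.B (ρ g y) y = Φ.B y y) : ρ g y = y := by
  have h' : Φ.B y (ρ g y) = Φ.B y y := by
    rw [← Φ.conj_symm, h, Φ.conj_symm]
  have hz : Φ.B (ρ g y - y) (ρ g y - y) = 0 := by
    rw [Φ.sub_left, Φ.sub_right, Φ.sub_right, Φ.inv, h, h']
    ring
  have := (Φ.self_eq_zero_iff _).mp hz
  exact sub_eq_zero.mp this

/-- the value `⟨g y, y⟩` only depends on ... : invariance in the adjoint form -/
theorem inv_left (g : G) (x y : X) : Φ.B (ρ g x) y = Φ.B x (ρ g⁻¹ y) := by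
  have := Φ.inv g x (ρ g⁻¹ y)
  rw [← this]
  congr 1
  have h1 : ρ g (ρ g⁻¹ y) = (ρ g * ρ g⁻¹) y := rfl
  rw [h1, ← map_mul, mul_inv_cancel, map_one]
  rfl

end InvForm

/-- the standard form attached to a basis -/
theorem std_pos {ι : Type*} [Fintype ι] (b : Basis ι ℂ X) (x : X) (hx : x ≠ 0) :
    0 < (∑ i, b.repr x i * (starRingEnd ℂ) (b.repr x i)).re := by
  rw [Complex.re_sum]
  have hne : b.repr x ≠ 0 := fun h => hx (by simpa using h)
  obtain ⟨i, hi⟩ : ∃ i, b.repr x i ≠ 0 := by
    by_contra hcon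
    push Not at hcon
    exact hne (Finsupp.ext hcon)
  have hterm : ∀ j, 0 ≤ (b.repr x j * (starRingEnd ℂ) (b.repr x j)).re := by
    intro j
    rw [Complex.mul_conj]
    simp [Complex.normSq_nonneg]
  have hi' : 0 < (b.repr x i * (starRingEnd ℂ) (b.repr x i)).re := by
    rw [Complex.mul_conj]
    simp only [Complex.ofReal_re]
    exact Complex.normSq_pos.mpr hi
  exact lt_of_lt_of_le hi' (Finset.single_le_sum (fun j _ => hterm j) (Finset.mem_univ i))

/-- **Weyl's unitary trick.** -/
theorem exists_invForm [Finite G] [FiniteDimensional ℂ X] (ρ : Representation ℂ G X) :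
    Nonempty (InvForm ρ) := by
  classical
  have : Fintype G := Fintype.ofFinite G
  let b := Module.finBasis ℂ X
  let B0 : X → X → ℂ := fun x y => ∑ i, b.repr x i * (starRingEnd ℂ) (b.repr y i)
  have hpos0 : ∀ x : X, x ≠ 0 → 0 < (B0 x x).re := fun x hx => std_pos b x hx
  have hnn0 : ∀ x : X, 0 ≤ (B0 x x).re := by
    intro x
    by_cases hx : x = 0
    · subst hx; simp [B0]
    · exact (hpos0 x hx).le
  refine ⟨{ B := fun x y => ∑ g : G, B0 (ρ g x) (ρ g y)
            add_left := ?_
            smul_left := ?_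
            conj_symm := ?_
            pos := ?_
            inv := ?_ }⟩
  · intro x x' y
    simp only [B0, map_add, Finsupp.coe_add, Pi.add_apply, add_mul, Finset.sum_add_distrib]
  · intro c x y
    simp only [B0, map_smul, Finsupp.coe_smul, Pi.smul_apply, smul_eq_mul, Finset.mul_sum, mul_assoc]
  · intro x y
    simp only [B0, map_sum, map_mul, Complex.conj_conj]
    refine Finset.sum_congr rfl (fun g _ => Finset.sum_congr rfl (fun i _ => ?_))
    ring
  · intro x hx
    rw [Complex.re_sum]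
    have h1 : 0 < (B0 (ρ 1 x) (ρ 1 x)).re := by
      rw [map_one]; exact hpos0 x hx
    exact lt_of_lt_of_le h1
      (Finset.single_le_sum (f := fun g => (B0 (ρ g x) (ρ g x)).re) (fun g _ => hnn0 _)
        (Finset.mem_univ (1 : G)))
  · intro h x y
    show ∑ g : G, B0 (ρ g (ρ h x)) (ρ g (ρ h y)) = ∑ g : G, B0 (ρ g x) (ρ g y)
    have : ∀ g : G, B0 (ρ g (ρ h x)) (ρ g (ρ h y)) = B0 (ρ (g * h) x) (ρ (g * h) y) := by
      intro g
      rw [map_mul]
      rfl
    simp only [this]
    exact Fintype.sum_equiv (Equiv.mulRight h) _ _ (fun g => rfl)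

/-- The cutter's form of OO2-HERM (`pending/helper87/S2344_packages.lean.txt`), VERBATIM. -/
theorem exists_inv_form {G : Type*} [Group G] [Finite G] {X : Type*} [AddCommGroup X] [Module ℂ X]
    [FiniteDimensional ℂ X] (ρ : Representation ℂ G X) :
    ∃ ip : X → X → ℂ, (∀ y : X, IsLinearMap ℂ (fun x => ip x y)) ∧
      (∀ (g : G) (x y : X), ip (ρ g x) (ρ g y) = ip x y) ∧
      (∀ x : X, ip x x = 0 → x = 0) ∧
      (∀ (g : G) (x : X), ip (ρ g x) x = ip x x → ρ g x = x) := by
  obtain ⟨Φ⟩ := exists_invForm ρ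
  refine ⟨Φ.B, fun y => ⟨fun x x' => Φ.add_left x x' y, fun c x => ?_⟩, Φ.inv,
    fun x hx => (Φ.self_eq_zero_iff x).mp hx, fun g x h => Φ.fixed_of_form_eq g x h⟩
  rw [Φ.smul_left, smul_eq_mul]

end Cfsg.Agent.Lib.Helper48_OO2_HERM
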