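import Mathlib
import Cfsg.Agent.Lib.Helper95_OPDefs
import Cfsg.Agent.Lib.Helper95_OPBasic
import Cfsg.Agent.Lib.Helper48_OODefs
import Cfsg.Agent.Lib.Helper48_OO2_HERM
import Cfsg.Agent.Lib.Helper29_OO_NS
import Cfsg.Agent.Lib.Helper17_MIO_TR
import Cfsg.Agent.Lib.Helper73_OP_EXT
import Cfsg.Agent.Lib.Helper95_OM_GEN
import Cfsg.Agent.Lib.Helper8_OM_OPP

set_option autoImplicit false

/-!
S2344 (market `oo_packages`, package OO2-NSG; section 2.4 of `pending/helper87/S2344_proof.md`):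
the GROUP FORM of Lemma NS.  `Q` of odd type of rank `n ≥ 3`, `v, v'` a hyperbolic pair, `W = perp Q v v'`,
`ρ` a complex representation of `T Q` WITHOUT non-singular weights for the radical `R = {E(v,w)}`.
A vector `y` fixed by `R`, by all Siegel elements `E(a,b)` with `a, b ∈ W`, and by the torus elements
`h(a) : v ↦ a v, v' ↦ a⁻¹ v', w₀ ↦ a w₀, w₀' ↦ a⁻¹ w₀'` (identity on `⟨v,v',w₀,w₀'⟩^⊥`) is fixed by all of `T Q`.

Proof: `c(w) := ⟨E(v',w) y, y⟩` is constant on the non-zero singular vectors and on the vectors of each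
non-zero norm (`tr_const`); `c(w) = ⟨n(w) y, y⟩` with `n(w) = E(v,z) E(v',w) E(v,z)`, `z = Q(w)⁻¹ w`, and
`n(w₀ + a w₀') = n(w₀ + w₀') h(a)` makes `c` constant on ALL non-singular vectors; the opposite radical has no
non-singular weights either (conjugate by `n`), so the non-singular Fourier coefficients of `c` vanish;
Lemma NS gives `c ≡ ⟨y,y⟩`, hence `E(v',w) y = y`; `T Q` is generated by the two opposite radicals.
-/

namespace Cfsg.Agent.Lib.Helper29_OO2_NSG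

open Module Cfsg.Agent.Lib.Helper94_OrthSmall Cfsg.Agent.Lib.Helper44_QuadClass
  Cfsg.Agent.Lib.Helper14_OmegaSimple Cfsg.Agent.Lib.Helper38_MIODefs
  Cfsg.Agent.Lib.Helper95_OPDefs Cfsg.Agent.Lib.Helper95_OPBasic Cfsg.Agent.Lib.Helper48_OODefs
  Cfsg.Agent.Lib.Helper48_OO2_HERM

section geom

variable {F V : Type*} [Field F] [AddCommGroup V] [Module F V] (Q : QuadraticForm F V)

/-- the Weyl-type element `n(w) = E(v,z) E(v',w) E(v,z)`, `z = Q(w)⁻¹ w` -/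
noncomputable def nW (v v' w : V) : V ≃ₗ[F] V :=
  E Q v ((Q w)⁻¹ • w) * E Q v' w * E Q v ((Q w)⁻¹ • w)

/-- `n(w)` interchanges `v` and `v'` up to scalars and induces the reflection in `w` on `⟨v,v'⟩^⊥`. -/
theorem nW_apply {v v' w : V} (hv : Q v = 0) (hv' : Q v' = 0)
    (hvv' : QuadraticMap.polar (⇑Q) v v' = 1) (hvw : QuadraticMap.polar (⇑Q) v w = 0)
    (hv'w : QuadraticMap.polar (⇑Q) v' w = 0) (hw : Q w ≠ 0) (x : V) :
    nW Q v v' w x = x - (QuadraticMap.polar (⇑Q) x v' + (Q w)⁻¹ * QuadraticMap.polar (⇑Q) x v) • v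
      - (QuadraticMap.polar (⇑Q) x v + Q w * QuadraticMap.polar (⇑Q) x v') • v'
      - ((Q w)⁻¹ * QuadraticMap.polar (⇑Q) x w) • w := by
  have hv'v : QuadraticMap.polar (⇑Q) v' v = 1 := by rw [QuadraticMap.polar_comm, hvv']
  have hwv : QuadraticMap.polar (⇑Q) w v = 0 := by rw [QuadraticMap.polar_comm, hvw]
  have hwv' : QuadraticMap.polar (⇑Q) w v' = 0 := by rw [QuadraticMap.polar_comm, hv'w]
  have hvv : QuadraticMap.polar (⇑Q) v v = 0 := by rw [polar_self', hv, mul_zero]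
  have hww : QuadraticMap.polar (⇑Q) w w = 2 * Q w := polar_self' Q w
  have hvz : QuadraticMap.polar (⇑Q) v ((Q w)⁻¹ • w) = 0 := by
    rw [QuadraticMap.polar_smul_right, hvw, smul_zero]
  have hQz : Q ((Q w)⁻¹ • w) = (Q w)⁻¹ := by
    rw [QuadraticMap.map_smul, smul_eq_mul]
    field_simp
  unfold nW
  rw [LinearEquiv.mul_apply, LinearEquiv.mul_apply, E_apply Q hv hvz, E_apply Q hv' hv'w,
    E_apply Q hv hvz, hQz]
  simp only [QuadraticMap.polar_add_left, QuadraticMap.polar_sub_left,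
    QuadraticMap.polar_smul_left, QuadraticMap.polar_smul_right, hvv', hv'v, hvw, hwv, hv'w, hwv',
    hvv, hww, smul_eq_mul]
  match_scalars <;> field_simp <;> ring

/-- the torus relation: `n(w₀ + a w₀') = n(w₀ + w₀') h(a)` -/
theorem nW_torus {v v' w0 w0' : V} (hv : Q v = 0) (hv' : Q v' = 0)
    (hvv' : QuadraticMap.polar (⇑Q) v v' = 1)
    (hw0 : Q w0 = 0) (hw0' : Q w0' = 0) (hww' : QuadraticMap.polar (⇑Q) w0 w0' = 1)
    (h1 : QuadraticMap.polar (⇑Q) v w0 = 0) (h2 : QuadraticMap.polar (⇑Q) v' w0 = 0)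
    (h3 : QuadraticMap.polar (⇑Q) v w0' = 0) (h4 : QuadraticMap.polar (⇑Q) v' w0' = 0)
    {a : F} (ha : a ≠ 0) (g : V ≃ₗ[F] V)
    (gv : g v = a • v) (gv' : g v' = a⁻¹ • v') (gw0 : g w0 = a • w0) (gw0' : g w0' = a⁻¹ • w0')
    (gfix : ∀ x ∈ perp Q v v', QuadraticMap.polar (⇑Q) x w0 = 0 →
      QuadraticMap.polar (⇑Q) x w0' = 0 → g x = x) :
    nW Q v v' (w0 + a • w0') = nW Q v v' (w0 + w0') * g := by
  have hv'v : QuadraticMap.polar (⇑Q) v' v = 1 := by rw [QuadraticMap.polar_comm, hvv']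
  have hw'w : QuadraticMap.polar (⇑Q) w0' w0 = 1 := by rw [QuadraticMap.polar_comm, hww']
  have h1' : QuadraticMap.polar (⇑Q) w0 v = 0 := by rw [QuadraticMap.polar_comm, h1]
  have h2' : QuadraticMap.polar (⇑Q) w0 v' = 0 := by rw [QuadraticMap.polar_comm, h2]
  have h3' : QuadraticMap.polar (⇑Q) w0' v = 0 := by rw [QuadraticMap.polar_comm, h3]
  have h4' : QuadraticMap.polar (⇑Q) w0' v' = 0 := by rw [QuadraticMap.polar_comm, h4]
  have hvv : QuadraticMap.polar (⇑Q) v v = 0 := by rw [polar_self', hv, mul_zero]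
  have hv'v'0 : QuadraticMap.polar (⇑Q) v' v' = 0 := by rw [polar_self', hv', mul_zero]
  have hw0w0 : QuadraticMap.polar (⇑Q) w0 w0 = 0 := by rw [polar_self', hw0, mul_zero]
  have hw0'w0' : QuadraticMap.polar (⇑Q) w0' w0' = 0 := by rw [polar_self', hw0', mul_zero]
  have hQa : Q (w0 + a • w0') = a := by
    rw [hQp, QuadraticMap.map_smul, hw0, hw0', QuadraticMap.polarBilin_apply_apply,
      QuadraticMap.polar_smul_right, hww']
    simp
  have hQ1 : Q (w0 + w0') = 1 := by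
    rw [hQp, hw0, hw0', QuadraticMap.polarBilin_apply_apply, hww']
    simp
  apply LinearEquiv.ext
  intro x
  -- the decomposition of `x`
  obtain ⟨xp, hxp⟩ : ∃ xp : V, xp = x - QuadraticMap.polar (⇑Q) x v' • v
      - QuadraticMap.polar (⇑Q) x v • v' - QuadraticMap.polar (⇑Q) x w0' • w0
      - QuadraticMap.polar (⇑Q) x w0 • w0' := ⟨_, rfl⟩
  have hxpv : QuadraticMap.polar (⇑Q) xp v = 0 := by
    rw [hxp]
    simp only [QuadraticMap.polar_sub_left, QuadraticMap.polar_smul_left, hvv, hv'v, h1', h3',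
      smul_eq_mul]
    ring
  have hxpv' : QuadraticMap.polar (⇑Q) xp v' = 0 := by
    rw [hxp]
    simp only [QuadraticMap.polar_sub_left, QuadraticMap.polar_smul_left, hvv', hv'v'0, h2', h4',
      smul_eq_mul]
    ring
  have hxpw0 : QuadraticMap.polar (⇑Q) xp w0 = 0 := by
    rw [hxp]
    simp only [QuadraticMap.polar_sub_left, QuadraticMap.polar_smul_left, h1, h2, hw0w0, hw'w,
      smul_eq_mul]
    ring
  have hxpw0' : QuadraticMap.polar (⇑Q) xp w0' = 0 := by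
    rw [hxp]
    simp only [QuadraticMap.polar_sub_left, QuadraticMap.polar_smul_left, h3, h4, hw0'w0', hww',
      smul_eq_mul]
    ring
  have hxpW : xp ∈ perp Q v v' := by
    rw [mem_perp, QuadraticMap.polar_comm, hxpv, QuadraticMap.polar_comm, hxpv']
    exact ⟨rfl, rfl⟩
  have hgxp : g xp = xp := gfix xp hxpW hxpw0 hxpw0'
  have hx : x = xp + QuadraticMap.polar (⇑Q) x v' • v
      + QuadraticMap.polar (⇑Q) x v • v' + QuadraticMap.polar (⇑Q) x w0' • w0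
      + QuadraticMap.polar (⇑Q) x w0 • w0' := by
    rw [hxp]; abel
  have hgx : g x = xp + (a * QuadraticMap.polar (⇑Q) x v') • v
      + (a⁻¹ * QuadraticMap.polar (⇑Q) x v) • v' + (a * QuadraticMap.polar (⇑Q) x w0') • w0
      + (a⁻¹ * QuadraticMap.polar (⇑Q) x w0) • w0' := by
    have h5 := congrArg g hx
    rw [h5]
    simp only [map_add, map_smul, hgxp, gv, gv', gw0, gw0']
    module
  rw [LinearEquiv.mul_apply,
    nW_apply Q hv hv' hvv'
      (by rw [QuadraticMap.polar_add_right, QuadraticMap.polar_smul_right, h1, h3]; simp)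
      (by rw [QuadraticMap.polar_add_right, QuadraticMap.polar_smul_right, h2, h4]; simp)
      (by rw [hQa]; exact ha),
    nW_apply Q hv hv' hvv' (by rw [QuadraticMap.polar_add_right, h1, h3]; simp)
      (by rw [QuadraticMap.polar_add_right, h2, h4]; simp)
      (by rw [hQ1]; exact one_ne_zero), hQa, hQ1, hgx]
  simp only [QuadraticMap.polar_add_left, QuadraticMap.polar_add_right,
    QuadraticMap.polar_smul_left, QuadraticMap.polar_smul_right, hvv', hv'v, h1, h2, h3, h4, h1',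
    h2', h3', h4', hvv, hv'v'0, hw0w0, hw0'w0', hww', hw'w, hxpv, hxpv', hxpw0, hxpw0', smul_eq_mul]
  rw [hxp]
  match_scalars <;> field_simp <;> ring

end geom

section rep

variable {F V : Type*} [Field F] [Fintype F] [AddCommGroup V] [Module F V] [FiniteDimensional F V]
  {X : Type*} [AddCommGroup X] [Module ℂ X]

omit [Fintype F] [FiniteDimensional F V] in
theorem pv (Q : QuadraticForm F V) {v v' : V} (w : ↥(perp Q v v')) :
    QuadraticMap.polar (⇑Q) v (w : V) = 0 := ((mem_perp Q v v').1 w.2).1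

omit [Fintype F] [FiniteDimensional F V] in
theorem pv' (Q : QuadraticForm F V) {v v' : V} (w : ↥(perp Q v v')) :
    QuadraticMap.polar (⇑Q) v' (w : V) = 0 := ((mem_perp Q v v').1 w.2).2

omit [Fintype F] [FiniteDimensional F V] in
/-- a unitary operator fixing `y` can be dropped on the left -/
theorem B_fix {G : Type*} [Group G] {ρ : Representation ℂ G X} (Φ : InvForm ρ) (g : G) (x y : X)
    (h : ρ g y = y) : Φ.B (ρ g x) y = Φ.B x y := by
  calc Φ.B (ρ g x) y = Φ.B (ρ g x) (ρ g y) := by rw [h]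
    _ = Φ.B x y := Φ.inv g x y

omit [Fintype F] [FiniteDimensional F V] in
theorem B_fix_repE (Q : QuadraticForm F V) {ρ : Representation ℂ ↥(T Q) X} (Φ : InvForm ρ)
    {g : V ≃ₗ[F] V} (hg : g ∈ T Q) (x y : X) (h : repE Q ρ g y = y) :
    Φ.B (repE Q ρ g x) y = Φ.B x y := by
  rw [repE_of_mem Q ρ hg] at h ⊢
  exact B_fix Φ _ x y h

/-- **Fourier kill**: if the weight `u` of the radical `{E(v,w)}` does not occur, the `u`-isotypic
projection vanishes. -/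
theorem fourier_kill (Q : QuadraticForm F V) (hQ : (QuadraticMap.polarBilin Q).Nondegenerate)
    (hdim : 5 ≤ finrank F V) {v v' : V} (hv : Q v = 0)
    (ρ : Representation ℂ ↥(T Q) X) (ψ : AddChar F ℂ) (u : ↥(perp Q v v'))
    (hu : wsp Q ρ ψ v v' u = ⊥) (y' : X) [Fintype ↥(perp Q v v')] :
    ∑ w : ↥(perp Q v v'), ψ (-(QuadraticMap.polar (⇑Q) (u : V) (w : V))) •
      repE Q ρ (E Q v (w : V)) y' = 0 := by
  have hmem : (∑ w : ↥(perp Q v v'), ψ (-(QuadraticMap.polar (⇑Q) (u : V) (w : V))) •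
      repE Q ρ (E Q v (w : V)) y') ∈ wsp Q ρ ψ v v' u := by
    intro w₁
    rw [map_sum, Finset.smul_sum]
    apply Fintype.sum_equiv (Equiv.addLeft w₁)
    intro w
    have h1 : repE Q ρ (E Q v (w₁ : V)) (repE Q ρ (E Q v (w : V)) y') =
        repE Q ρ (E Q v (((w₁ + w : ↥(perp Q v v')) : V))) y' := by
      rw [← Module.End.mul_apply, ← repE_mul Q ρ (rad_mem Q hQ hdim hv w₁) (rad_mem Q hQ hdim hv w),
        E_mul Q hv (pv Q w₁) (pv Q w)]
      rfl
    rw [map_smul, h1, Equiv.coe_addLeft, smul_smul]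
    congr 1
    rw [← AddChar.map_add_eq_mul]
    congr 1
    rw [Submodule.coe_add, QuadraticMap.polar_add_right]
    ring
  rw [hu] at hmem
  exact (Submodule.mem_bot ℂ).mp hmem

end rep
section main

variable {F V : Type*} [Field F] [Fintype F] [AddCommGroup V] [Module F V] [FiniteDimensional F V]
  {X : Type*} [AddCommGroup X] [Module ℂ X] [FiniteDimensional ℂ X]

/-- **Group form of Lemma NS** (section 2.4). -/
theorem ns_group (Q : QuadraticForm F V) (n : ℕ) (hn : 3 ≤ n) (hP : IsOddT Q n)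
    {v v' : V} (hv : Q v = 0) (hv' : Q v' = 0) (hvv' : QuadraticMap.polar (⇑Q) v v' = 1)
    (ρ : Representation ℂ ↥(T Q) X) (ψ : AddChar F ℂ) (hψ : ψ ≠ 1)
    (hns : ∀ u : ↥(perp Q v v'), Qp Q v v' u ≠ 0 → wsp Q ρ ψ v v' u = ⊥)
    (y : X) (hR : y ∈ wsp Q ρ ψ v v' 0)
    (hL : ∀ a b : V, a ∈ perp Q v v' → b ∈ perp Q v v' → Q a = 0 →
      QuadraticMap.polar (⇑Q) a b = 0 → repE Q ρ (E Q a b) y = y)
    {w0 w0' : V} (hw0 : w0 ∈ perp Q v v') (hw0' : w0' ∈ perp Q v v')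
    (hQw0 : Q w0 = 0) (hQw0' : Q w0' = 0) (hww' : QuadraticMap.polar (⇑Q) w0 w0' = 1)
    (htor : ∀ a : F, a ≠ 0 → ∃ g : ↥(T Q), (g : V ≃ₗ[F] V) v = a • v ∧
      (g : V ≃ₗ[F] V) v' = a⁻¹ • v' ∧ (g : V ≃ₗ[F] V) w0 = a • w0 ∧
      (g : V ≃ₗ[F] V) w0' = a⁻¹ • w0' ∧
      (∀ x ∈ perp Q v v', QuadraticMap.polar (⇑Q) x w0 = 0 → QuadraticMap.polar (⇑Q) x w0' = 0 →
        (g : V ≃ₗ[F] V) x = x) ∧ ρ g y = y) :
    ∀ g : ↥(T Q), ρ g y = y := by
  classical
  have hQ := hP.nondeg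
  have hdimV : finrank F V = 2 * n + 1 := hP.dim
  have hdim5 : 5 ≤ finrank F V := by omega
  have hPW : IsOddT (Qp Q v v') (n - 1) := isOddT_perp Q n (by omega) hP hv hv' hvv'
  have hQW := hPW.nondeg
  have hdimW : 5 ≤ finrank F ↥(perp Q v v') := by rw [hPW.dim]; omega
  have hfinV : Finite V := Module.finite_of_finite F
  have hfinLE : Finite (V ≃ₗ[F] V) :=
    Finite.of_injective (fun e : V ≃ₗ[F] V => (e : V → V)) DFunLike.coe_injective
  have hfinW : Finite ↥(perp Q v v') := inferInstance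
  have hftW := Fintype.ofFinite ↥(perp Q v v')
  obtain ⟨Φ⟩ := exists_invForm ρ
  by_cases hy0 : y = 0
  · intro g; rw [hy0, map_zero]
  have hByy : Φ.B y y ≠ 0 := fun h => hy0 ((Φ.self_eq_zero_iff y).mp h)
  have hmemv : ∀ w : V, QuadraticMap.polar (⇑Q) v w = 0 → E Q v w ∈ T Q :=
    fun w hw => E_mem_T Q hQ hdim5 hv hw
  have hmemv' : ∀ w : V, QuadraticMap.polar (⇑Q) v' w = 0 → E Q v' w ∈ T Q :=
    fun w hw => E_mem_T Q hQ hdim5 hv' hw
  -- `y` is fixed by `R`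
  have hfixR : ∀ w : V, w ∈ perp Q v v' → repE Q ρ (E Q v w) y = y := by
    intro w hw
    have h1 := hR ⟨w, hw⟩
    have h0 : QuadraticMap.polar (⇑Q) (((0 : ↥(perp Q v v')) : V)) w = 0 := by
      simp [QuadraticMap.polar]
    rw [h0, AddChar.map_zero_eq_one, one_smul] at h1
    exact h1
  -- the matrix coefficient
  obtain ⟨c, hc⟩ : ∃ c : ↥(perp Q v v') → ℂ,
      ∀ w, c w = Φ.B (repE Q ρ (E Q v' (w : V)) y) y := ⟨_, fun _ => rfl⟩
  have hc0 : c 0 = Φ.B y y := by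
    rw [hc, ZeroMemClass.coe_zero, E_zero_right Q hv', repE_one]
    rfl
  -- (B) invariance under the Siegel elements of `W`
  have hinv : ∀ u z : ↥(perp Q v v'), Qp Q v v' u = 0 →
      QuadraticMap.polar (⇑(Qp Q v v')) u z = 0 → ∀ x, c (E (Qp Q v v') u z x) = c x := by
    intro u z hu huz x
    have huV : Q (u : V) = 0 := hu
    have huzV : QuadraticMap.polar (⇑Q) (u : V) (z : V) = 0 := by
      rw [← polar_comp_subtype]; exact huz
    have hg : E Q (u : V) (z : V) ∈ T Q := E_mem_T Q hQ hdim5 huV huzV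
    have hgO := T_le_oG Q hg
    have hgi : (E Q (u : V) (z : V))⁻¹ ∈ T Q := Subgroup.inv_mem _ hg
    have hconj := conj_E Q hgO hv' (pv' Q x)
    rw [(Cfsg.Agent.Lib.Helper73_OP_EXT.E_fix u z huV huzV).2,
      ← Cfsg.Agent.Lib.Helper73_OP_EXT.restr' u z x huV huzV] at hconj
    have hgy : repE Q ρ (E Q (u : V) (z : V)) y = y := hL u z u.2 z.2 huV huzV
    have hgiy : repE Q ρ (E Q (u : V) (z : V))⁻¹ y = y := by
      rw [E_inv Q huV huzV]
      apply hL u (-z) u.2 (Submodule.neg_mem _ z.2) huV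
      rw [QuadraticMap.polar_neg_right, huzV, neg_zero]
    rw [hc, hc, ← hconj, repE_mul Q ρ (Subgroup.mul_mem _ hg (hmemv' _ (pv' Q x))) hgi,
      repE_mul Q ρ hg (hmemv' _ (pv' Q x)), Module.End.mul_apply, Module.End.mul_apply, hgiy,
      B_fix_repE Q Φ hg _ _ hgy]
  have htr : ∀ x x' : ↥(perp Q v v'), x ≠ 0 → x' ≠ 0 → Qp Q v v' x = Qp Q v v' x' → c x = c x' :=
    fun x x' hx hx' hxx' =>
      Cfsg.Agent.Lib.Helper17_MIO_TR.tr_const (Qp Q v v') hQW hdimW c hinv hx hx' hxx'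
  -- (C) `c w = ⟨n(w) y, y⟩` for non-singular `w`
  have hnWmem : ∀ w : V, w ∈ perp Q v v' → nW Q v v' w ∈ T Q := by
    intro w hw
    have hz : ((Q w)⁻¹ • w) ∈ perp Q v v' := Submodule.smul_mem _ _ hw
    have h1 := hmemv _ ((mem_perp Q v v').1 hz).1
    have h2 := hmemv' _ ((mem_perp Q v v').1 hw).2
    exact Subgroup.mul_mem _ (Subgroup.mul_mem _ h1 h2) h1
  have hcn : ∀ w : ↥(perp Q v v'),
      c w = Φ.B (repE Q ρ (nW Q v v' (w : V)) y) y := by
    intro w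
    have hz : ((Q (w : V))⁻¹ • (w : V)) ∈ perp Q v v' := Submodule.smul_mem _ _ w.2
    have h1 := hmemv _ ((mem_perp Q v v').1 hz).1
    have h2 := hmemv' _ (pv' Q w)
    unfold nW
    rw [repE_mul Q ρ (Subgroup.mul_mem _ h1 h2) h1, repE_mul Q ρ h1 h2, Module.End.mul_apply,
      Module.End.mul_apply, hfixR _ hz, B_fix_repE Q Φ h1 _ _ (hfixR _ hz), hc]
  have h1 := ((mem_perp Q v v').1 hw0).1
  have h2 := ((mem_perp Q v v').1 hw0).2
  have h3 := ((mem_perp Q v v').1 hw0').1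
  have h4 := ((mem_perp Q v v').1 hw0').2
  have hwa : ∀ a : F, (w0 + a • w0') ∈ perp Q v v' :=
    fun a => Submodule.add_mem _ hw0 (Submodule.smul_mem _ _ hw0')
  have hQwa : ∀ a : F, Q (w0 + a • w0') = a := by
    intro a
    rw [hQp, QuadraticMap.map_smul, hQw0, hQw0', QuadraticMap.polarBilin_apply_apply,
      QuadraticMap.polar_smul_right, hww']
    simp
  have hw1 : (w0 + w0') ∈ perp Q v v' := Submodule.add_mem _ hw0 hw0'
  have hQw1 : Q (w0 + w0') = 1 := by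
    rw [hQp, hQw0, hQw0', QuadraticMap.polarBilin_apply_apply, hww']
    simp
  have hca : ∀ a : F, a ≠ 0 → c ⟨w0 + a • w0', hwa a⟩ = c ⟨w0 + w0', hw1⟩ := by
    intro a ha
    obtain ⟨g, g1, g2, g3, g4, g5, g6⟩ := htor a ha
    have hrel := nW_torus Q hv hv' hvv' hQw0 hQw0' hww' h1 h2 h3 h4 ha (g : V ≃ₗ[F] V)
      g1 g2 g3 g4 g5
    rw [hcn, hcn]
    show Φ.B (repE Q ρ (nW Q v v' (w0 + a • w0')) y) y =
      Φ.B (repE Q ρ (nW Q v v' (w0 + w0')) y) y
    rw [hrel, repE_mul Q ρ (hnWmem _ hw1) g.2, Module.End.mul_apply, repE_coe, g6]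
  -- (D) the opposite radical has no non-singular weights: conjugate by `nn = n(w₀ + w₀')`
  obtain ⟨nn, hnn⟩ : ∃ nn : V ≃ₗ[F] V, nn = nW Q v v' (w0 + w0') := ⟨_, rfl⟩
  have hnnT : nn ∈ T Q := hnn ▸ hnWmem _ hw1
  have hnnO := T_le_oG Q hnnT
  have hnn_apply : ∀ x : V, nn x = x - (QuadraticMap.polar (⇑Q) x v' + QuadraticMap.polar (⇑Q) x v) • v
      - (QuadraticMap.polar (⇑Q) x v + QuadraticMap.polar (⇑Q) x v') • v'
      - (QuadraticMap.polar (⇑Q) x (w0 + w0')) • (w0 + w0') := by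
    intro x
    rw [hnn, nW_apply Q hv hv' hvv' ((mem_perp Q v v').1 hw1).1 ((mem_perp Q v v').1 hw1).2
      (by rw [hQw1]; exact one_ne_zero), hQw1]
    simp
  have hnnv' : nn v' = -v := by
    rw [hnn_apply, polar_self', hv', QuadraticMap.polar_comm (⇑Q) v' v, hvv',
      ((mem_perp Q v v').1 hw1).2]
    simp
  have hnnW : ∀ w : ↥(perp Q v v'), nn (w : V) ∈ perp Q v v' := by
    intro w
    rw [hnn_apply, QuadraticMap.polar_comm (⇑Q) (w : V) v', QuadraticMap.polar_comm (⇑Q) (w : V) v,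
      pv Q w, pv' Q w]
    simp only [add_zero, zero_smul, sub_zero]
    exact Submodule.sub_mem _ w.2 (Submodule.smul_mem _ _ hw1)
  obtain ⟨φ, hφ⟩ : ∃ φ : ↥(perp Q v v') → ↥(perp Q v v'), ∀ w, ((φ w : ↥(perp Q v v')) : V) = -(nn (w : V)) :=
    ⟨fun w => ⟨-(nn (w : V)), Submodule.neg_mem _ (hnnW w)⟩, fun _ => rfl⟩
  have hφbij : Function.Bijective φ := by
    rw [← Finite.injective_iff_bijective]
    intro a b hab
    have h5 := congrArg (fun t : ↥(perp Q v v') => (t : V)) hab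
    simp only [hφ, neg_inj] at h5
    exact Subtype.ext (nn.injective h5)
  have hconj : ∀ w : ↥(perp Q v v'), nn * E Q v' (w : V) = E Q v ((φ w : ↥(perp Q v v')) : V) * nn := by
    intro w
    have h5 := conj_E Q hnnO hv' (pv' Q w)
    have h6 : QuadraticMap.polar (⇑Q) v (nn (w : V)) = 0 := ((mem_perp Q v v').1 (hnnW w)).1
    rw [hnnv', ← neg_one_smul F v, E_smul_left Q hv h6, neg_one_smul, ← hφ,
      mul_inv_eq_iff_eq_mul] at h5
    exact h5
  have hfour : ∀ u : ↥(perp Q v v'), Qp Q v v' u ≠ 0 →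
      ∑ w : ↥(perp Q v v'), ψ (-(QuadraticMap.polar (⇑(Qp Q v v')) u w)) * c w = 0 := by
    intro u hu
    have hu' : Qp Q v v' (φ u) ≠ 0 := by
      show Q ((φ u : ↥(perp Q v v')) : V) ≠ 0
      rw [hφ, QuadraticMap.map_neg, mem_oG.mp hnnO]
      exact hu
    have hkill := fourier_kill Q hQ hdim5 hv ρ ψ (φ u) (hns _ hu') (repE Q ρ nn y)
    have hsum : ∑ w : ↥(perp Q v v'), ψ (-(QuadraticMap.polar (⇑Q) (u : V) (w : V))) •
        repE Q ρ nn (repE Q ρ (E Q v' (w : V)) y) = 0 := by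
      rw [← hkill, ← Function.Bijective.sum_comp hφbij
        (fun w : ↥(perp Q v v') => ψ (-(QuadraticMap.polar (⇑Q) ((φ u : ↥(perp Q v v')) : V) (w : V))) •
          repE Q ρ (E Q v (w : V)) (repE Q ρ nn y))]
      apply Finset.sum_congr rfl
      intro w _
      have h7 : QuadraticMap.polar (⇑Q) ((φ u : ↥(perp Q v v')) : V) ((φ w : ↥(perp Q v v')) : V) =
          QuadraticMap.polar (⇑Q) (u : V) (w : V) := by
        rw [hφ, hφ, QuadraticMap.polar_neg_left, QuadraticMap.polar_neg_right, neg_neg,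
          oG_polar Q hnnO]
      have h8 : repE Q ρ nn (repE Q ρ (E Q v' (w : V)) y) =
          repE Q ρ (E Q v ((φ w : ↥(perp Q v v')) : V)) (repE Q ρ nn y) := by
        rw [← Module.End.mul_apply, ← Module.End.mul_apply,
          ← repE_mul Q ρ hnnT (hmemv' _ (pv' Q w)),
          ← repE_mul Q ρ (hmemv _ (pv Q (φ w))) hnnT, hconj w]
      rw [h7, h8]
    have h9 : Φ.B (∑ w : ↥(perp Q v v'), ψ (-(QuadraticMap.polar (⇑Q) (u : V) (w : V))) •
        repE Q ρ (E Q v' (w : V)) y) y = 0 := by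
      rw [← Φ.inv ⟨nn, hnnT⟩, map_sum]
      simp only [map_smul]
      rw [← repE_of_mem Q ρ hnnT, hsum]
      exact Φ.zero_left _
    rw [Φ.sum_smul_left] at h9
    rw [← h9]
    apply Finset.sum_congr rfl
    intro w _
    rw [polar_comp_subtype, hc]
  -- (E) Lemma NS
  have hw0ne : (⟨w0, hw0⟩ : ↥(perp Q v v')) ≠ 0 := by
    intro h
    have h5 : w0 = 0 := congrArg (fun t : ↥(perp Q v v') => (t : V)) h
    rw [h5] at hww'
    simp [QuadraticMap.polar] at hww'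
  have hQw0s : Qp Q v v' (⟨w0, hw0⟩ : ↥(perp Q v v')) = 0 := hQw0
  have hβc : ∀ w : ↥(perp Q v v'), Qp Q v v' w ≠ 0 → c w = c ⟨w0 + w0', hw1⟩ := by
    intro w hQw
    have hκ : Q (w : V) ≠ 0 := hQw
    have hwne : w ≠ 0 := by
      rintro rfl
      exact hQw (map_zero _)
    have hQκ : Qp Q v v' (⟨w0 + Q (w : V) • w0', hwa _⟩ : ↥(perp Q v v')) = Q (w : V) := hQwa _
    have hwκne : (⟨w0 + Q (w : V) • w0', hwa _⟩ : ↥(perp Q v v')) ≠ 0 := by
      intro h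
      rw [h, map_zero] at hQκ
      exact hκ hQκ.symm
    rw [htr w ⟨w0 + Q (w : V) • w0', hwa _⟩ hwne hwκne hQκ.symm, hca _ hκ]
  obtain ⟨hα, hβ⟩ := Cfsg.Agent.Lib.Helper29_OO_NS.lemma_NS (Qp Q v v') (n - 1) (by omega) hPW ψ hψ
    (fun w => c w / Φ.B y y) (c ⟨w0, hw0⟩ / Φ.B y y) (c ⟨w0 + w0', hw1⟩ / Φ.B y y)
    (by
      rw [hc0, div_self hByy])
    (by
      intro w hw hQw
      rw [htr w ⟨w0, hw0⟩ hw hw0ne (by rw [hQw, hQw0s])])
    (by
      intro w hQw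
      rw [hβc w hQw])
    (by
      intro u hu
      simp only [mul_div_assoc']
      rw [← Finset.sum_div, hfour u hu, zero_div])
  have hα' : c ⟨w0, hw0⟩ = Φ.B y y := (div_eq_one_iff_eq hByy).mp hα
  have hβ' : c ⟨w0 + w0', hw1⟩ = Φ.B y y := (div_eq_one_iff_eq hByy).mp hβ
  have hcall : ∀ w : ↥(perp Q v v'), c w = Φ.B y y := by
    intro w
    by_cases hw : w = 0
    · rw [hw, hc0]
    by_cases hQw : Qp Q v v' w = 0
    · rw [htr w ⟨w0, hw0⟩ hw hw0ne (by rw [hQw, hQw0s]), hα']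
    · rw [hβc w hQw, hβ']
  -- (F) `y` is fixed by the opposite radical, hence by `T Q`
  have hfixR' : ∀ w : ↥(perp Q v v'), repE Q ρ (E Q v' (w : V)) y = y := by
    intro w
    have hm := hmemv' _ (pv' Q w)
    rw [repE_of_mem Q ρ hm]
    apply Φ.fixed_of_form_eq
    rw [← repE_of_mem Q ρ hm, ← hc, hcall]
  have hgen := Cfsg.Agent.Lib.Helper95_OM_GEN.T_le_closure_rad_opp Q hQ hdim5 hv hv' hvv'
  have hle : Subgroup.closure ({g : V ≃ₗ[F] V | ∃ w : ↥(perp Q v v'), g = E Q v (w : V)} ∪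
      {g : V ≃ₗ[F] V | ∃ w : ↥(perp Q v v'), g = E Q v' (w : V)}) ≤
      Cfsg.Agent.Lib.Helper8_OM_OPP.fixer Q ρ y := by
    rw [Subgroup.closure_le]
    rintro g (⟨w, rfl⟩ | ⟨w, rfl⟩)
    · exact ⟨hmemv _ (pv Q w), hfixR _ w.2⟩
    · exact ⟨hmemv' _ (pv' Q w), hfixR' w⟩
  intro g
  have h5 := (hle (hgen g.2)).2
  rw [repE_coe] at h5
  exact h5

end main
section cor

variable {F V : Type*} [Field F] [Fintype F] [AddCommGroup V] [Module F V] [FiniteDimensional F V]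
  {X : Type*} [AddCommGroup X] [Module ℂ X] [FiniteDimensional ℂ X]

/-- **Group form of Lemma NS**, with the Levi factor given by a `LeviHom`. -/
theorem ns_group_levi (Q : QuadraticForm F V) (n : ℕ) (hn : 3 ≤ n) (hP : IsOddT Q n)
    {v v' : V} (hv : Q v = 0) (hv' : Q v' = 0) (hvv' : QuadraticMap.polar (⇑Q) v v' = 1)
    (ρ : Representation ℂ ↥(T Q) X) (ψ : AddChar F ℂ) (hψ : ψ ≠ 1)
    (hns : ∀ u : ↥(perp Q v v'), Qp Q v v' u ≠ 0 → wsp Q ρ ψ v v' u = ⊥)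
    (y : X) (hR : y ∈ wsp Q ρ ψ v v' 0)
    (L : LeviHom Q v v') (hLy : ∀ g : ↥(T (Qp Q v v')), ρ (L.ι g) y = y)
    {w0 w0' : V} (hw0 : w0 ∈ perp Q v v') (hw0' : w0' ∈ perp Q v v')
    (hQw0 : Q w0 = 0) (hQw0' : Q w0' = 0) (hww' : QuadraticMap.polar (⇑Q) w0 w0' = 1)
    (htor : ∀ a : F, a ≠ 0 → ∃ g : ↥(T Q), (g : V ≃ₗ[F] V) v = a • v ∧
      (g : V ≃ₗ[F] V) v' = a⁻¹ • v' ∧ (g : V ≃ₗ[F] V) w0 = a • w0 ∧
      (g : V ≃ₗ[F] V) w0' = a⁻¹ • w0' ∧
      (∀ x ∈ perp Q v v', QuadraticMap.polar (⇑Q) x w0 = 0 → QuadraticMap.polar (⇑Q) x w0' = 0 →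
        (g : V ≃ₗ[F] V) x = x) ∧ ρ g y = y) :
    ∀ g : ↥(T Q), ρ g y = y := by
  have hQ := hP.nondeg
  have hPW : IsOddT (Qp Q v v') (n - 1) := isOddT_perp Q n (by omega) hP hv hv' hvv'
  have hQW := hPW.nondeg
  have hdimW : 5 ≤ finrank F ↥(perp Q v v') := by rw [hPW.dim]; omega
  apply ns_group Q n hn hP hv hv' hvv' ρ ψ hψ hns y hR _ hw0 hw0' hQw0 hQw0' hww' htor
  intro a b ha hb hQa hab
  have ha' : Qp Q v v' (⟨a, ha⟩ : ↥(perp Q v v')) = 0 := hQa
  have hab' : QuadraticMap.polar (⇑(Qp Q v v')) (⟨a, ha⟩ : ↥(perp Q v v')) ⟨b, hb⟩ = 0 := by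
    rw [polar_comp_subtype]; exact hab
  have hmem : E (Qp Q v v') (⟨a, ha⟩ : ↥(perp Q v v')) ⟨b, hb⟩ ∈ T (Qp Q v v') :=
    E_mem_T (Qp Q v v') hQW hdimW ha' hab'
  have hLE := Cfsg.Agent.Lib.Helper73_OP_EXT.leviHom_E Q hQ hv hv' hvv' L ⟨a, ha⟩ ⟨b, hb⟩ ha' hab'
    hmem
  have h1 := hLy ⟨_, hmem⟩
  rw [← repE_coe, hLE] at h1
  exact h1

/-- In an irreducible representation of degree at least two such a vector vanishes. -/
theorem ns_group_zero (Q : QuadraticForm F V) (n : ℕ) (hn : 3 ≤ n) (hP : IsOddT Q n)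
    {v v' : V} (hv : Q v = 0) (hv' : Q v' = 0) (hvv' : QuadraticMap.polar (⇑Q) v v' = 1)
    (ρ : Representation ℂ ↥(T Q) X) (hirr : ρ.IsIrreducible) (h2 : 2 ≤ finrank ℂ X)
    (ψ : AddChar F ℂ) (hψ : ψ ≠ 1)
    (hns : ∀ u : ↥(perp Q v v'), Qp Q v v' u ≠ 0 → wsp Q ρ ψ v v' u = ⊥)
    (y : X) (hR : y ∈ wsp Q ρ ψ v v' 0)
    (L : LeviHom Q v v') (hLy : ∀ g : ↥(T (Qp Q v v')), ρ (L.ι g) y = y)
    {w0 w0' : V} (hw0 : w0 ∈ perp Q v v') (hw0' : w0' ∈ perp Q v v')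
    (hQw0 : Q w0 = 0) (hQw0' : Q w0' = 0) (hww' : QuadraticMap.polar (⇑Q) w0 w0' = 1)
    (htor : ∀ a : F, a ≠ 0 → ∃ g : ↥(T Q), (g : V ≃ₗ[F] V) v = a • v ∧
      (g : V ≃ₗ[F] V) v' = a⁻¹ • v' ∧ (g : V ≃ₗ[F] V) w0 = a • w0 ∧
      (g : V ≃ₗ[F] V) w0' = a⁻¹ • w0' ∧
      (∀ x ∈ perp Q v v', QuadraticMap.polar (⇑Q) x w0 = 0 → QuadraticMap.polar (⇑Q) x w0' = 0 →
        (g : V ≃ₗ[F] V) x = x) ∧ ρ g y = y) :
    y = 0 := by
  have hall := ns_group_levi Q n hn hP hv hv' hvv' ρ ψ hψ hns y hR L hLy hw0 hw0' hQw0 hQw0' hww'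
    htor
  by_contra hy0
  let τ : Subrepresentation ρ :=
    ⟨Submodule.span ℂ {y}, fun g z hz => by
      obtain ⟨c, rfl⟩ := Submodule.mem_span_singleton.mp hz
      rw [map_smul, hall g]
      exact Submodule.smul_mem _ _ (Submodule.mem_span_singleton_self _)⟩
  rcases hirr.eq_bot_or_eq_top τ with h | h
  · have h1 : y ∈ τ.toSubmodule := Submodule.mem_span_singleton_self _
    rw [h] at h1
    exact hy0 ((Submodule.mem_bot ℂ).mp h1)
  · have h1 : τ.toSubmodule = ⊤ := by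
      rw [h]
      rfl
    have h4 : Module.finrank ℂ (Submodule.span ℂ {y}) = Module.finrank ℂ X := by
      have h5 : Submodule.span ℂ {y} = ⊤ := h1
      rw [h5, finrank_top]
    rw [finrank_span_singleton hy0] at h4
    omega

end cor

end Cfsg.Agent.Lib.Helper29_OO2_NSG
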