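import Mathlib
import Cfsg.Agent.Lib.Helper95_OPDefs
import Cfsg.Agent.Lib.Helper95_OPBasic
import Cfsg.Agent.Lib.Helper48_OODefs
import Cfsg.Agent.Lib.Helper87_OO2Defs

/-!
# OO2-FIXLALL (cutter helper87, S2344): a vector fixed by the long root elements with entries in a
non-degenerate subspace `S` of dimension at least five is fixed by all Siegel elements `E Q u z`,
`u, z ∈ S`, `u` singular, `z ⊥ u`.
-/

set_option autoImplicit false
set_option linter.unusedSectionVars false

namespace Cfsg.Agent.Lib.Helper44_OO2_FIXLALL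

open Module Cfsg.Agent.Lib.Helper94_OrthSmall Cfsg.Agent.Lib.Helper44_QuadClass
  Cfsg.Agent.Lib.Helper14_OmegaSimple Cfsg.Agent.Lib.Helper38_MIODefs
  Cfsg.Agent.Lib.Helper95_OPDefs Cfsg.Agent.Lib.Helper95_OPBasic Cfsg.Agent.Lib.Helper48_OODefs
  Cfsg.Agent.Lib.Helper87_OO2Defs

variable {F V : Type*} [Field F] [Fintype F] [AddCommGroup V] [Module F V] [FiniteDimensional F V]
  {X : Type*} [AddCommGroup X] [Module ℂ X] [FiniteDimensional ℂ X]

theorem polar_comp_subtype (Q : QuadraticForm F V) (S : Submodule F V) (a b : ↥S) :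
    QuadraticMap.polar (⇑(Q.comp S.subtype)) a b = QuadraticMap.polar (⇑Q) (a : V) (b : V) := by
  simp [QuadraticMap.polar]

theorem fixL_all (Q : QuadraticForm F V) (S : Submodule F V)
    (hS : (QuadraticMap.polarBilin (Q.comp S.subtype)).Nondegenerate) (hdim : 5 ≤ finrank F ↥S)
    (ρ : Representation ℂ ↥(T Q) X) (x : X) (hx : x ∈ fixL Q ρ S) (u z : V) (hu : u ∈ S)
    (hz : z ∈ S) (hQu : Q u = 0) (huz : QuadraticMap.polar (⇑Q) u z = 0) :
    repE Q ρ (E Q u z) x = x := by
  by_cases hu0 : u = 0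
  · rw [hu0, E_zero_left, repE_one]; rfl
  by_cases hzs : z ∈ Submodule.span F {u}
  · obtain ⟨a, rfl⟩ := Submodule.mem_span_singleton.mp hzs
    have h0 : QuadraticMap.polar (⇑Q) u 0 = 0 := by simp [QuadraticMap.polar]
    have := E_add_smul Q hQu h0 a
    rw [zero_add] at this
    rw [this, E_zero_right Q hQu, repE_one]; rfl
  -- work inside `S`
  have hu0' : (⟨u, hu⟩ : ↥S) ≠ 0 := by
    intro h
    exact hu0 (congrArg Subtype.val h)
  have hQu' : (Q.comp S.subtype) ⟨u, hu⟩ = 0 := by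
    rw [QuadraticMap.comp_apply]; exact hQu
  have huz' : QuadraticMap.polar (⇑(Q.comp S.subtype)) (⟨u, hu⟩ : ↥S) ⟨z, hz⟩ = 0 := by
    rw [polar_comp_subtype]; exact huz
  have hzs' : (⟨z, hz⟩ : ↥S) ∉ Submodule.span F {(⟨u, hu⟩ : ↥S)} := by
    intro h
    obtain ⟨a, ha⟩ := Submodule.mem_span_singleton.mp h
    apply hzs
    rw [Submodule.mem_span_singleton]
    refine ⟨a, ?_⟩
    have := congrArg Subtype.val ha
    simpa using this
  obtain ⟨s, hs, hus, hsz⟩ :=
    Cfsg.Agent.Lib.Helper14_Siegel.exists_singular_orth_polar (Q.comp S.subtype) hS hdim hu0' hQu' huz' hzs' (Q z)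
  have hs' : Q (s : V) = 0 := by
    have := hs
    rw [QuadraticMap.comp_apply] at this
    exact this
  have hus' : QuadraticMap.polar (⇑Q) u (s : V) = 0 := by
    have := hus
    rw [polar_comp_subtype] at this
    exact this
  have hsz' : QuadraticMap.polar (⇑Q) (s : V) z = Q z := by
    have := hsz
    rw [polar_comp_subtype] at this
    exact this
  have hzs2 : Q (z - (s : V)) = 0 := by
    rw [Cfsg.Agent.Lib.Helper14_OmegaSimple.map_sub', hs', QuadraticMap.polar_comm, hsz']; ring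
  have huzs : QuadraticMap.polar (⇑Q) u (z - (s : V)) = 0 := by
    rw [QuadraticMap.polar_sub_right, huz, hus', sub_zero]
  have hE : E Q u z = E Q u (s : V) * E Q u (z - (s : V)) := by
    rw [E_mul Q hQu hus' huzs]
    congr 1; abel
  rw [hE, repE_mul Q ρ (root_mem_T Q hQu hs' hus') (root_mem_T Q hQu hzs2 huzs)]
  rw [Module.End.mul_apply]
  rw [hx u hu (z - (s : V)) (S.sub_mem hz s.2) hQu hzs2 huzs]
  exact hx u hu (s : V) s.2 hQu hs' hus'

end Cfsg.Agent.Lib.Helper44_OO2_FIXLALL
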