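import Mathlib
import Cfsg.Agent.Lib.Helper29_OO2_NSG
import Cfsg.Agent.Lib.Helper87_OO2Defs
import Cfsg.Agent.Lib.Helper85_OO2_ELT
import Cfsg.Agent.Lib.Helper44_OO2_FIXLALL
import Cfsg.Agent.Lib.Helper58_MIO_ZEL
import Cfsg.Agent.Lib.Helper63_OP_HCOMM

set_option autoImplicit false
set_option linter.unusedSectionVars false

/-!
S2344: the group form of Lemma NS (`Helper29_OO2_NSG.ns_group`) in helper87's vocabulary (`HQuad`, `Ysp`, `hh`):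
a vector of `Y = X^{R L'}` which is fixed by the torus elements `h_12(a) = hh Q v v' w0 w0' a` is fixed by `T Q`,
provided `ρ` has no non-singular weights.  The second torus element `ζ_{w0}(a)` of the text lies in `L'`
(`Helper58_MIO_ZEL.exists_zel` inside `W`), so it fixes `Y` automatically.
-/

namespace Cfsg.Agent.Lib.Helper29_OO2_NSG2

open Module Cfsg.Agent.Lib.Helper94_OrthSmall Cfsg.Agent.Lib.Helper44_QuadClass
  Cfsg.Agent.Lib.Helper14_OmegaSimple Cfsg.Agent.Lib.Helper38_MIODefs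
  Cfsg.Agent.Lib.Helper95_OPDefs Cfsg.Agent.Lib.Helper95_OPBasic Cfsg.Agent.Lib.Helper48_OODefs
  Cfsg.Agent.Lib.Helper87_OO2Defs Cfsg.Agent.Lib.Helper29_OO2_NSG

variable {F V : Type*} [Field F] [Fintype F] [AddCommGroup V] [Module F V] [FiniteDimensional F V]
  {X : Type*} [AddCommGroup X] [Module ℂ X] [FiniteDimensional ℂ X]

/-- the vectors of `Y` lie in the zero weight space of `R` -/
theorem Ysp_le_wsp_zero (Q : QuadraticForm F V) {v v' : V} (ρ : Representation ℂ ↥(T Q) X)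
    (ψ : AddChar F ℂ) (y : X) (hY : y ∈ Ysp Q ρ v v') : y ∈ wsp Q ρ ψ v v' 0 := by
  intro w
  have h1 := (Submodule.mem_inf.mp hY).1 (w : V) w.2
  have h0 : QuadraticMap.polar (⇑Q) (((0 : ↥(perp Q v v')) : V)) (w : V) = 0 := by
    simp [QuadraticMap.polar]
  rw [h0, AddChar.map_zero_eq_one, one_smul]
  exact h1

/-- the vectors of `Y` are fixed by the whole Levi factor `L' = ι (T (Q|W))` -/
theorem Ysp_levi (Q : QuadraticForm F V) (hQ : (QuadraticMap.polarBilin Q).Nondegenerate)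
    {v v' : V} (hv : Q v = 0) (hv' : Q v' = 0) (hvv' : QuadraticMap.polar (⇑Q) v v' = 1)
    (ρ : Representation ℂ ↥(T Q) X) (L : LeviHom Q v v') (y : X) (hY : y ∈ Ysp Q ρ v v')
    (g : ↥(T (Qp Q v v'))) : ρ (L.ι g) y = y := by
  have hfL := (Submodule.mem_inf.mp hY).2
  obtain ⟨g, hg⟩ := g
  induction hg using Subgroup.closure_induction with
  | mem k hk =>
    obtain ⟨a, s, ha, hs, has, rfl⟩ := hk
    have hmem : E (Qp Q v v') a s ∈ T (Qp Q v v') := root_mem_T (Qp Q v v') ha hs has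
    have hLE := Cfsg.Agent.Lib.Helper73_OP_EXT.leviHom_E Q hQ hv hv' hvv' L a s ha has hmem
    have has' : QuadraticMap.polar (⇑Q) (a : V) (s : V) = 0 := by
      rw [← polar_comp_subtype]; exact has
    have h1 := hfL (a : V) a.2 (s : V) s.2 ha hs has'
    rw [← hLE, repE_coe] at h1
    exact h1
  | one =>
    have : (⟨1, Subgroup.one_mem _⟩ : ↥(T (Qp Q v v'))) = 1 := rfl
    rw [this, map_one, map_one]
    rfl
  | mul k k' hk hk' ih ih' =>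
    have : (⟨k * k', Subgroup.mul_mem _ hk hk'⟩ : ↥(T (Qp Q v v'))) =
        ⟨k, hk⟩ * ⟨k', hk'⟩ := rfl
    rw [this, map_mul, map_mul, Module.End.mul_apply, ih', ih]
  | inv k hk ih =>
    have : (⟨k⁻¹, Subgroup.inv_mem _ hk⟩ : ↥(T (Qp Q v v'))) = (⟨k, hk⟩ : ↥(T (Qp Q v v')))⁻¹ := rfl
    rw [this, map_inv]
    have h2 : ρ ((L.ι ⟨k, hk⟩)⁻¹) * ρ (L.ι ⟨k, hk⟩) = 1 := by
      rw [← map_mul, inv_mul_cancel, map_one]
    calc ρ ((L.ι ⟨k, hk⟩)⁻¹) y = ρ ((L.ι ⟨k, hk⟩)⁻¹) (ρ (L.ι ⟨k, hk⟩) y) := by rw [ih]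
      _ = (ρ ((L.ι ⟨k, hk⟩)⁻¹) * ρ (L.ι ⟨k, hk⟩)) y := rfl
      _ = y := by rw [h2]; rfl

/-- **Group form of Lemma NS in the `Ysp` vocabulary**: a vector of `Y = X^{R L'}` fixed by the torus elements
`h_12(a)` is fixed by `T Q` (if `ρ` has no non-singular weights). -/
theorem ns_group_Y (Q : QuadraticForm F V) (n : ℕ) (hn : 3 ≤ n) (hP : IsOddT Q n)
    {v v' w0 w0' : V} (h : HQuad Q v v' w0 w0')
    (ρ : Representation ℂ ↥(T Q) X) (ψ : AddChar F ℂ) (hψ : ψ ≠ 1)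
    (hns : ∀ u : ↥(perp Q v v'), Qp Q v v' u ≠ 0 → wsp Q ρ ψ v v' u = ⊥)
    (y : X) (hY : y ∈ Ysp Q ρ v v')
    (h12 : ∀ a : F, a ≠ 0 → repE Q ρ (hh Q v v' w0 w0' a) y = y) :
    ∀ g : ↥(T Q), ρ g y = y := by
  have hv := h.pa.qa
  have hv' := h.pa.qa'
  have hvv' := h.pa.aa'
  have hQ := hP.nondeg
  have hPW : IsOddT (Qp Q v v') (n - 1) := isOddT_perp Q n (by omega) hP hv hv' hvv'
  have hQW := hPW.nondeg
  have hdimW : 5 ≤ finrank F ↥(perp Q v v') := by rw [hPW.dim]; omega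
  obtain ⟨L⟩ := Cfsg.Agent.Lib.Helper73_OP_EXT.exists_leviHom Q hQ hv hv' hvv'
  have hLy := Ysp_levi Q hQ hv hv' hvv' ρ L y hY
  have hw0 : w0 ∈ perp Q v v' := h.mem_perp.1
  have hw0' : w0' ∈ perp Q v v' := h.mem_perp.2
  apply ns_group_levi Q n hn hP hv hv' hvv' ρ ψ hψ hns y (Ysp_le_wsp_zero Q ρ ψ y hY) L hLy hw0 hw0'
    h.pb.qa h.pb.qa' h.pb.aa'
  intro a ha
  have hcommW := Cfsg.Agent.Lib.Helper63_OP_HCOMM.comm_oG_le_T (Qp Q v v') hQW hdimW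
  have hs1 : Qp Q v v' (⟨w0, hw0⟩ : ↥(perp Q v v')) = 0 := h.pb.qa
  have hs2 : Qp Q v v' (⟨w0', hw0'⟩ : ↥(perp Q v v')) = 0 := h.pb.qa'
  have hs3 : QuadraticMap.polar (⇑(Qp Q v v')) (⟨w0, hw0⟩ : ↥(perp Q v v')) ⟨w0', hw0'⟩ = 1 := by
    rw [polar_comp_subtype]; exact h.pb.aa'
  obtain ⟨z, hzT, hz1, hz2, hz3⟩ :=
    Cfsg.Agent.Lib.Helper58_MIO_ZEL.exists_zel (Qp Q v v') hQW hdimW hcommW hs1 hs2 hs3 a ha
  have hhT : hh Q v v' w0 w0' a ∈ T Q := hh_mem_T h a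
  refine ⟨(⟨hh Q v v' w0 w0' a, hhT⟩ : ↥(T Q)) * L.ι ⟨z, hzT⟩, ?_, ?_, ?_, ?_, ?_, ?_⟩
  · rw [Subgroup.coe_mul, LinearEquiv.mul_apply, L.apply_v]
    exact Cfsg.Agent.Lib.Helper85_OO2_ELT.hh_a h ha
  · rw [Subgroup.coe_mul, LinearEquiv.mul_apply, L.apply_v']
    exact Cfsg.Agent.Lib.Helper85_OO2_ELT.hh_a' h ha
  · have h5 := L.apply_coe ⟨z, hzT⟩ ⟨w0, hw0⟩
    rw [Subgroup.coe_mul, LinearEquiv.mul_apply]
    show hh Q v v' w0 w0' a ((L.ι ⟨z, hzT⟩ : V ≃ₗ[F] V) w0) = a • w0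
    have h6 : ((L.ι ⟨z, hzT⟩ : ↥(T Q)) : V ≃ₗ[F] V) w0 = a ^ 2 • w0 := by
      have h7 : (((⟨z, hzT⟩ : ↥(T (Qp Q v v'))) : ↥(perp Q v v') ≃ₗ[F] ↥(perp Q v v'))
          ⟨w0, hw0⟩ : ↥(perp Q v v')) = a ^ 2 • (⟨w0, hw0⟩ : ↥(perp Q v v')) := hz1
      rw [h7] at h5
      exact h5
    rw [h6, map_smul, Cfsg.Agent.Lib.Helper85_OO2_ELT.hh_b h ha, smul_smul]
    congr 1
    field_simp
  · have h5 := L.apply_coe ⟨z, hzT⟩ ⟨w0', hw0'⟩
    rw [Subgroup.coe_mul, LinearEquiv.mul_apply]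
    show hh Q v v' w0 w0' a ((L.ι ⟨z, hzT⟩ : V ≃ₗ[F] V) w0') = a⁻¹ • w0'
    have h6 : ((L.ι ⟨z, hzT⟩ : ↥(T Q)) : V ≃ₗ[F] V) w0' = (a ^ 2)⁻¹ • w0' := by
      have h7 : (((⟨z, hzT⟩ : ↥(T (Qp Q v v'))) : ↥(perp Q v v') ≃ₗ[F] ↥(perp Q v v'))
          ⟨w0', hw0'⟩ : ↥(perp Q v v')) = (a ^ 2)⁻¹ • (⟨w0', hw0'⟩ : ↥(perp Q v v')) := hz2
      rw [h7] at h5
      exact h5
    rw [h6, map_smul, Cfsg.Agent.Lib.Helper85_OO2_ELT.hh_b' h ha, smul_smul]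
    congr 1
    field_simp
  · intro x hx hx1 hx2
    have hx' := (mem_perp Q v v').mp hx
    have h5 := L.apply_coe ⟨z, hzT⟩ ⟨x, hx⟩
    have hxp : (⟨x, hx⟩ : ↥(perp Q v v')) ∈
        perp (Qp Q v v') (⟨w0, hw0⟩ : ↥(perp Q v v')) ⟨w0', hw0'⟩ := by
      rw [mem_perp, polar_comp_subtype, polar_comp_subtype]
      constructor
      · show QuadraticMap.polar (⇑Q) w0 x = 0
        rw [QuadraticMap.polar_comm]; exact hx1
      · show QuadraticMap.polar (⇑Q) w0' x = 0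
        rw [QuadraticMap.polar_comm]; exact hx2
    have h7 : (((⟨z, hzT⟩ : ↥(T (Qp Q v v'))) : ↥(perp Q v v') ≃ₗ[F] ↥(perp Q v v'))
        ⟨x, hx⟩ : ↥(perp Q v v')) = ⟨x, hx⟩ := hz3 _ hxp
    rw [h7] at h5
    rw [Subgroup.coe_mul, LinearEquiv.mul_apply]
    show hh Q v v' w0 w0' a ((L.ι ⟨z, hzT⟩ : V ≃ₗ[F] V) x) = x
    have h8 : ((L.ι ⟨z, hzT⟩ : ↥(T Q)) : V ≃ₗ[F] V) x = x := h5
    rw [h8]
    exact Cfsg.Agent.Lib.Helper85_OO2_ELT.hh_perp h a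
      (by rw [QuadraticMap.polar_comm]; exact hx'.1)
      (by rw [QuadraticMap.polar_comm]; exact hx'.2) hx1 hx2
  · rw [map_mul, Module.End.mul_apply, hLy, ← repE_of_mem Q ρ hhT]
    exact h12 a ha

/-- ... hence it vanishes in an irreducible representation of degree at least two. -/
theorem ns_group_Y_zero (Q : QuadraticForm F V) (n : ℕ) (hn : 3 ≤ n) (hP : IsOddT Q n)
    {v v' w0 w0' : V} (h : HQuad Q v v' w0 w0')
    (ρ : Representation ℂ ↥(T Q) X) (hirr : ρ.IsIrreducible) (h2 : 2 ≤ finrank ℂ X)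
    (ψ : AddChar F ℂ) (hψ : ψ ≠ 1)
    (hns : ∀ u : ↥(perp Q v v'), Qp Q v v' u ≠ 0 → wsp Q ρ ψ v v' u = ⊥)
    (y : X) (hY : y ∈ Ysp Q ρ v v')
    (h12 : ∀ a : F, a ≠ 0 → repE Q ρ (hh Q v v' w0 w0' a) y = y) : y = 0 := by
  have hall := ns_group_Y Q n hn hP h ρ ψ hψ hns y hY h12
  by_contra hy0
  let τ : Subrepresentation ρ :=
    ⟨Submodule.span ℂ {y}, fun g z hz => by
      obtain ⟨c, rfl⟩ := Submodule.mem_span_singleton.mp hz
      rw [map_smul, hall g]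
      exact Submodule.smul_mem _ _ (Submodule.mem_span_singleton_self _)⟩
  rcases hirr.eq_bot_or_eq_top τ with h' | h'
  · have h1 : y ∈ τ.toSubmodule := Submodule.mem_span_singleton_self _
    rw [h'] at h1
    exact hy0 ((Submodule.mem_bot ℂ).mp h1)
  · have h1 : τ.toSubmodule = ⊤ := by
      rw [h']
      rfl
    have h4 : Module.finrank ℂ (Submodule.span ℂ {y}) = Module.finrank ℂ X := by
      have h5 : Submodule.span ℂ {y} = ⊤ := h1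
      rw [h5, finrank_top]
    rw [finrank_span_singleton hy0] at h4
    omega

end Cfsg.Agent.Lib.Helper29_OO2_NSG2
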