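import Mathlib
import Cfsg.Agent.Lib.Helper64_OOKDefs

/-!
# S2344 kill section, package OO-K-WLAB (architect helper64): the labels `wlab`
-/

set_option autoImplicit false
set_option linter.unusedVariables false

namespace Cfsg.Agent.Lib.Helper70_OO_K_WLAB

open Module Cfsg.Agent.Lib.Helper94_OrthSmall Cfsg.Agent.Lib.Helper44_QuadClass
  Cfsg.Agent.Lib.Helper14_OmegaSimple Cfsg.Agent.Lib.Helper38_MIODefs
  Cfsg.Agent.Lib.Helper95_OPDefs Cfsg.Agent.Lib.Helper95_OPBasic Cfsg.Agent.Lib.Helper48_OODefs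
  Cfsg.Agent.Lib.Helper64_OOKDefs

section general

variable {F W : Type*} [Field F] [AddCommGroup W] [Module F W] (Q : QuadraticForm F W)

/-- the label, for a general quadratic space -/
def wl (a a' : W) (β : F) (y : ↥(perp Q a a')) : W :=
  β • a' + β • (y : W) - (β * Q (y : W)) • a

theorem polar_y_a (a a' : W) (y : ↥(perp Q a a')) : QuadraticMap.polar (⇑Q) (y : W) a = 0 := by
  rw [QuadraticMap.polar_comm]
  exact ((mem_perp Q a a').mp y.2).1

theorem polar_y_a' (a a' : W) (y : ↥(perp Q a a')) : QuadraticMap.polar (⇑Q) (y : W) a' = 0 := by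
  rw [QuadraticMap.polar_comm]
  exact ((mem_perp Q a a').mp y.2).2

theorem polar_wl (a a' : W) (β : F) (y : ↥(perp Q a a')) (x : W) :
    QuadraticMap.polar (⇑Q) (wl Q a a' β y) x =
      β * QuadraticMap.polar (⇑Q) a' x + β * QuadraticMap.polar (⇑Q) (y : W) x -
        β * Q (y : W) * QuadraticMap.polar (⇑Q) a x := by
  unfold wl
  rw [QuadraticMap.polar_sub_left, QuadraticMap.polar_add_left, QuadraticMap.polar_smul_left,
    QuadraticMap.polar_smul_left, QuadraticMap.polar_smul_left]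
  simp only [smul_eq_mul]

theorem Q_wl (a a' : W) (ha : Q a = 0) (ha' : Q a' = 0)
    (haa' : QuadraticMap.polar (⇑Q) a a' = 1) (β : F) (y : ↥(perp Q a a')) :
    Q (wl Q a a' β y) = 0 := by
  have h1 : wl Q a a' β y = β • a' + (β • (y : W) + (-(β * Q (y : W))) • a) := by
    unfold wl
    rw [neg_smul]
    abel
  have ha'a : QuadraticMap.polar (⇑Q) a' a = 1 := by rw [QuadraticMap.polar_comm, haa']
  rw [h1, QuadraticMap.map_add Q (β • a'), QuadraticMap.map_add Q (β • (y : W)),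
    QuadraticMap.polar_add_right, QuadraticMap.map_smul, QuadraticMap.map_smul, QuadraticMap.map_smul,
    QuadraticMap.polar_smul_left, QuadraticMap.polar_smul_right, QuadraticMap.polar_smul_left,
    QuadraticMap.polar_smul_right, QuadraticMap.polar_smul_left, QuadraticMap.polar_smul_right, ha, ha',
    polar_y_a, ha'a, QuadraticMap.polar_comm (⇑Q) a' (y : W), polar_y_a']
  simp only [smul_eq_mul]
  ring

end general

variable {F V : Type*} [Field F] [AddCommGroup V] [Module F V]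

theorem wlab_eq_wl (Q : QuadraticForm F V) {v v' : V} (a a' : ↥(perp Q v v')) (β : F)
    (y : ↥(perp (Qp Q v v') a a')) : wlab Q a a' β y = wl (Qp Q v v') a a' β y := rfl

theorem wlab_props (Q : QuadraticForm F V) {v v' : V} (a a' : ↥(perp Q v v'))
    (ha : Qp Q v v' a = 0) (ha' : Qp Q v v' a' = 0)
    (haa' : QuadraticMap.polar (⇑(Qp Q v v')) a a' = 1) (β : F)
    (y : ↥(perp (Qp Q v v') a a')) :
    Qp Q v v' (wlab Q a a' β y) = 0 ∧
      QuadraticMap.polar (⇑(Qp Q v v')) (wlab Q a a' β y) a = β ∧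
      QuadraticMap.polar (⇑(Qp Q v v')) (wlab Q a a' β y) a' = -(β * Qp (Qp Q v v') a a' y) ∧
      ∀ y' : ↥(perp (Qp Q v v') a a'),
        QuadraticMap.polar (⇑(Qp Q v v')) (wlab Q a a' β y) (y' : ↥(perp Q v v')) =
          β * QuadraticMap.polar (⇑(Qp (Qp Q v v') a a')) y y' := by
  have ha'a : QuadraticMap.polar (⇑(Qp Q v v')) a' a = 1 := by rw [QuadraticMap.polar_comm, haa']
  refine ⟨?_, ?_, ?_, ?_⟩
  · rw [wlab_eq_wl]
    exact Q_wl (Qp Q v v') a a' ha ha' haa' β y
  · rw [wlab_eq_wl, polar_wl (Qp Q v v') a a', ha'a, polar_y_a, QuadraticMap.polar_self,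
      ha]
    ring
  · rw [wlab_eq_wl, polar_wl (Qp Q v v') a a', haa', polar_y_a', QuadraticMap.polar_self,
      ha']
    have : Qp (Qp Q v v') a a' y = Qp Q v v' (y : ↥(perp Q v v')) := rfl
    rw [this]
    ring
  · intro y'
    rw [wlab_eq_wl, polar_wl (Qp Q v v') a a',
      QuadraticMap.polar_comm (⇑(Qp Q v v')) a' (y' : ↥(perp Q v v')), polar_y_a',
      QuadraticMap.polar_comm (⇑(Qp Q v v')) a (y' : ↥(perp Q v v')), polar_y_a]
    have : QuadraticMap.polar (⇑(Qp (Qp Q v v') a a')) y y' =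
        QuadraticMap.polar (⇑(Qp Q v v')) (y : ↥(perp Q v v')) (y' : ↥(perp Q v v')) := rfl
    rw [this]
    ring

theorem wlab_eq_E (Q : QuadraticForm F V) {v v' : V} (a a' : ↥(perp Q v v'))
    (ha : Qp Q v v' a = 0) (ha' : Qp Q v v' a' = 0)
    (haa' : QuadraticMap.polar (⇑(Qp Q v v')) a a' = 1) (β : F)
    (y : ↥(perp (Qp Q v v') a a')) :
    wlab Q a a' β y = E (Qp Q v v') a (y : ↥(perp Q v v')) (β • a') := by
  have hay : QuadraticMap.polar (⇑(Qp Q v v')) a (y : ↥(perp Q v v')) = 0 :=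
    ((mem_perp (Qp Q v v') a a').mp y.2).1
  have ha'a : QuadraticMap.polar (⇑(Qp Q v v')) a' a = 1 := by rw [QuadraticMap.polar_comm, haa']
  rw [E_apply (Qp Q v v') ha hay, QuadraticMap.polar_smul_left, QuadraticMap.polar_smul_left, ha'a,
    QuadraticMap.polar_comm (⇑(Qp Q v v')) a' (y : ↥(perp Q v v')), polar_y_a', wlab_eq_wl]
  unfold wl
  simp only [smul_eq_mul, mul_one, mul_zero, zero_smul, sub_zero]
  rw [mul_comm]

theorem wlab_injective (Q : QuadraticForm F V) {v v' : V} (a a' : ↥(perp Q v v'))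
    (ha : Qp Q v v' a = 0) (ha' : Qp Q v v' a' = 0)
    (haa' : QuadraticMap.polar (⇑(Qp Q v v')) a a' = 1) (β : F) (hβ : β ≠ 0) :
    Function.Injective (wlab Q a a' β) := by
  intro y y' h
  have h1 := (wlab_props Q a a' ha ha' haa' β y).2.2.1
  have h2 := (wlab_props Q a a' ha ha' haa' β y').2.2.1
  rw [h] at h1
  have h3 : Qp (Qp Q v v') a a' y = Qp (Qp Q v v') a a' y' := by
    have := h1.symm.trans h2
    exact mul_left_cancel₀ hβ (neg_injective this)
  have h4 : β • (y : ↥(perp Q v v')) = β • (y' : ↥(perp Q v v')) := by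
    have h5 : wlab Q a a' β y = β • a' + β • (y : ↥(perp Q v v')) -
        (β * Qp (Qp Q v v') a a' y) • a := rfl
    have h6 : wlab Q a a' β y' = β • a' + β • (y' : ↥(perp Q v v')) -
        (β * Qp (Qp Q v v') a a' y') • a := rfl
    rw [h5, h6, h3] at h
    exact add_left_cancel (sub_left_injective h)
  apply Subtype.ext
  exact smul_right_injective _ hβ h4

theorem wlab_surj (Q : QuadraticForm F V) {v v' : V} (a a' : ↥(perp Q v v'))
    (ha : Qp Q v v' a = 0) (ha' : Qp Q v v' a' = 0)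
    (haa' : QuadraticMap.polar (⇑(Qp Q v v')) a a' = 1) (β : F) (hβ : β ≠ 0)
    (w : ↥(perp Q v v')) (hw : Qp Q v v' w = 0)
    (hwa : QuadraticMap.polar (⇑(Qp Q v v')) w a = β) :
    ∃ y : ↥(perp (Qp Q v v') a a'), w = wlab Q a a' β y := by
  have ha'a : QuadraticMap.polar (⇑(Qp Q v v')) a' a = 1 := by rw [QuadraticMap.polar_comm, haa']
  obtain ⟨lam, hlam⟩ : ∃ lam : F, lam = QuadraticMap.polar (⇑(Qp Q v v')) w a' := ⟨_, rfl⟩
  obtain ⟨y0, hy0⟩ : ∃ y0 : ↥(perp Q v v'), y0 = w - lam • a - β • a' := ⟨_, rfl⟩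
  have hy0mem : y0 ∈ perp (Qp Q v v') a a' := by
    rw [mem_perp, hy0]
    constructor
    · rw [QuadraticMap.polar_sub_right, QuadraticMap.polar_sub_right, QuadraticMap.polar_smul_right,
        QuadraticMap.polar_smul_right, QuadraticMap.polar_self, ha, haa',
        QuadraticMap.polar_comm (⇑(Qp Q v v')) a w, hwa]
      simp
    · rw [QuadraticMap.polar_sub_right, QuadraticMap.polar_sub_right, QuadraticMap.polar_smul_right,
        QuadraticMap.polar_smul_right, QuadraticMap.polar_self, ha', ha'a,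
        QuadraticMap.polar_comm (⇑(Qp Q v v')) a' w, ← hlam]
      simp
  -- the value of the form at `y0`
  have hQy0 : Qp Q v v' y0 = -(lam * β) := by
    have hw' : w = y0 + (lam • a + β • a') := by rw [hy0]; abel
    have hy0a : QuadraticMap.polar (⇑(Qp Q v v')) y0 a = 0 :=
      polar_y_a (Qp Q v v') a a' ⟨y0, hy0mem⟩
    have hy0a' : QuadraticMap.polar (⇑(Qp Q v v')) y0 a' = 0 :=
      polar_y_a' (Qp Q v v') a a' ⟨y0, hy0mem⟩
    have h := hw
    rw [hw', QuadraticMap.map_add (Qp Q v v') y0, QuadraticMap.map_add (Qp Q v v') (lam • a),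
      QuadraticMap.polar_add_right, QuadraticMap.map_smul, QuadraticMap.map_smul,
      QuadraticMap.polar_smul_left, QuadraticMap.polar_smul_right, QuadraticMap.polar_smul_right,
      QuadraticMap.polar_smul_right, ha, ha', haa', hy0a, hy0a'] at h
    simp only [smul_eq_mul, mul_zero, add_zero, mul_one, zero_add] at h
    linear_combination h
  refine ⟨⟨β⁻¹ • y0, Submodule.smul_mem _ _ hy0mem⟩, ?_⟩
  have h5 : wlab Q a a' β ⟨β⁻¹ • y0, Submodule.smul_mem _ _ hy0mem⟩ =
      β • a' + β • (β⁻¹ • y0) - (β * Qp Q v v' (β⁻¹ • y0)) • a := rfl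
  rw [h5, QuadraticMap.map_smul, hQy0, smul_smul, mul_inv_cancel₀ hβ, one_smul, hy0]
  have : β * ((β⁻¹ * β⁻¹) • -(lam * β)) = -lam := by
    simp only [smul_eq_mul]
    field_simp
  rw [this, neg_smul]
  abel

end Cfsg.Agent.Lib.Helper70_OO_K_WLAB
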