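import Mathlib
import Cfsg.Agent.Lib.Helper64_OOKDefs
import Cfsg.Agent.Lib.Helper52_MIO_RESTR

/-!
OO-K-BY (helper64's KILL market for S2344): the vectors `b_y = ρ(E(a,y)) e`.
`b_y ∈ wsp (wlab β y)`, `b_0 = e`, `E(a,y') b_y = b_(y+y')`, and the `b_y` are linearly independent.
-/

set_option autoImplicit false
set_option linter.unusedSectionVars false

namespace Cfsg.Agent.Lib.Helper95_OO_K_BY

open Module Cfsg.Agent.Lib.Helper94_OrthSmall Cfsg.Agent.Lib.Helper44_QuadClass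
  Cfsg.Agent.Lib.Helper14_OmegaSimple Cfsg.Agent.Lib.Helper38_MIODefs
  Cfsg.Agent.Lib.Helper95_OPDefs Cfsg.Agent.Lib.Helper95_OPBasic Cfsg.Agent.Lib.Helper48_OODefs
  Cfsg.Agent.Lib.Helper64_OOKDefs

section wl

variable {F V : Type*} [Field F] [AddCommGroup V] [Module F V]

/-- `a ⊥ y` inside `W = perp Q v v'` for `y ∈ W₂ = perp (Qp Q v v') a a'`. -/
theorem polar_a_y (Q : QuadraticForm F V) {v v' : V} (a a' : ↥(perp Q v v'))
    (y : ↥(perp (Qp Q v v') a a')) :
    QuadraticMap.polar (⇑(Qp Q v v')) a (y : ↥(perp Q v v')) = 0 :=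
  ((mem_perp (Qp Q v v') a a').1 y.2).1

theorem polar_a'_y (Q : QuadraticForm F V) {v v' : V} (a a' : ↥(perp Q v v'))
    (y : ↥(perp (Qp Q v v') a a')) :
    QuadraticMap.polar (⇑(Qp Q v v')) a' (y : ↥(perp Q v v')) = 0 :=
  ((mem_perp (Qp Q v v') a a').1 y.2).2

/-- the same in the big space -/
theorem polar_a_y_big (Q : QuadraticForm F V) {v v' : V} (a a' : ↥(perp Q v v'))
    (y : ↥(perp (Qp Q v v') a a')) :
    QuadraticMap.polar (⇑Q) (a : V) ((y : ↥(perp Q v v')) : V) = 0 := by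
  rw [← polar_comp_subtype]
  exact polar_a_y Q a a' y

/-- (local form of WLAB) `wlab β y = E_W(a, y) (β a')`. -/
theorem wlab_eq_E_loc (Q : QuadraticForm F V) {v v' : V} (a a' : ↥(perp Q v v'))
    (ha : Qp Q v v' a = 0)
    (haa' : QuadraticMap.polar (⇑(Qp Q v v')) a a' = 1) (β : F)
    (y : ↥(perp (Qp Q v v') a a')) :
    wlab Q a a' β y = E (Qp Q v v') a (y : ↥(perp Q v v')) (β • a') := by
  rw [E_apply (Qp Q v v') ha (polar_a_y Q a a' y)]
  have h1 : QuadraticMap.polar (⇑(Qp Q v v')) (β • a') a = β := by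
    rw [QuadraticMap.polar_smul_left, QuadraticMap.polar_comm, haa', smul_eq_mul, mul_one]
  have h2 : QuadraticMap.polar (⇑(Qp Q v v')) (β • a') (y : ↥(perp Q v v')) = 0 := by
    rw [QuadraticMap.polar_smul_left, polar_a'_y Q a a' y, smul_zero]
  rw [h1, h2, zero_smul, sub_zero]
  unfold wlab
  congr 2
  exact mul_comm _ _

/-- (local form of WLAB) `y ↦ wlab β y` is injective for `β ≠ 0`. -/
theorem wlab_injective_loc (Q : QuadraticForm F V) {v v' : V} (a a' : ↥(perp Q v v'))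
    (haa' : QuadraticMap.polar (⇑(Qp Q v v')) a a' = 1) (β : F) (hβ : β ≠ 0) :
    Function.Injective (wlab Q a a' β) := by
  intro y y' h
  unfold wlab at h
  -- pair with `a'`
  have h1 := congrArg (fun w => QuadraticMap.polar (⇑(Qp Q v v')) w a') h
  simp only [QuadraticMap.polar_sub_left, QuadraticMap.polar_add_left,
    QuadraticMap.polar_smul_left, haa', smul_eq_mul, mul_one] at h1
  rw [QuadraticMap.polar_comm _ (y : ↥(perp Q v v')) a', polar_a'_y Q a a' y,
    QuadraticMap.polar_comm _ (y' : ↥(perp Q v v')) a', polar_a'_y Q a a' y'] at h1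
  have h2 : β * Qp (Qp Q v v') a a' y = β * Qp (Qp Q v v') a a' y' := by
    have := h1
    simp only [mul_zero, add_zero] at this
    exact sub_right_injective this
  rw [h2] at h
  have h3 : β • (y : ↥(perp Q v v')) = β • (y' : ↥(perp Q v v')) := by
    have h4 := sub_left_injective h
    exact add_right_injective _ h4
  have h5 : (y : ↥(perp Q v v')) = (y' : ↥(perp Q v v')) := smul_right_injective _ hβ h3
  exact Subtype.ext h5

end wl

section main

variable {F V : Type*} [Field F] [Fintype F] [DecidableEq F] [AddCommGroup V] [Module F V]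
  [FiniteDimensional F V] {X : Type*} [AddCommGroup X] [Module ℂ X] [FiniteDimensional ℂ X]

/-- `E(a, y) ∈ T Q`. -/
theorem Eay_mem_T (Q : QuadraticForm F V) (hQ : (QuadraticMap.polarBilin Q).Nondegenerate)
    (hdim : 5 ≤ finrank F V) {v v' : V} (a a' : ↥(perp Q v v'))
    (ha : Qp Q v v' a = 0) (y : ↥(perp (Qp Q v v') a a')) :
    E Q (a : V) ((y : ↥(perp Q v v')) : V) ∈ T Q :=
  E_mem_T Q hQ hdim ha (polar_a_y_big Q a a' y)

/-- `E(a, y)` fixes `v`. -/
theorem Eay_v (Q : QuadraticForm F V) {v v' : V} (a a' : ↥(perp Q v v'))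
    (ha : Qp Q v v' a = 0) (y : ↥(perp (Qp Q v v') a a')) :
    E Q (a : V) ((y : ↥(perp Q v v')) : V) v = v := by
  have hQa : Q (a : V) = 0 := ha
  have h1 : QuadraticMap.polar (⇑Q) v (a : V) = 0 := ((mem_perp Q v v').1 a.2).1
  have h2 : QuadraticMap.polar (⇑Q) v ((y : ↥(perp Q v v')) : V) = 0 :=
    ((mem_perp Q v v').1 (y : ↥(perp Q v v')).2).1
  rw [E_apply Q hQa (polar_a_y_big Q a a' y), h1, h2]
  simp

theorem bvec_mem (Q : QuadraticForm F V) (hQ : (QuadraticMap.polarBilin Q).Nondegenerate)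
    (hdim : 9 ≤ finrank F V) {v v' : V} (hv : Q v = 0) (hv' : Q v' = 0)
    (hvv' : QuadraticMap.polar (⇑Q) v v' = 1) (a a' : ↥(perp Q v v'))
    (ha : Qp Q v v' a = 0) (ha' : Qp Q v v' a' = 0)
    (haa' : QuadraticMap.polar (⇑(Qp Q v v')) a a' = 1)
    (ρ : Representation ℂ ↥(T Q) X) (ψ : AddChar F ℂ) (β : F) (e : X)
    (he : e ∈ wsp Q ρ ψ v v' (β • a')) (y : ↥(perp (Qp Q v v') a a')) :
    bvec Q ρ a a' e y ∈ wsp Q ρ ψ v v' (wlab Q a a' β y) := by
  have hdim5 : 5 ≤ finrank F V := by omega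
  have hg := Eay_mem_T Q hQ hdim5 a a' ha y
  have hgv : E Q (a : V) ((y : ↥(perp Q v v')) : V) v = (1 : F) • v := by
    rw [one_smul, Eay_v Q a a' ha y]
  have hφ : ∀ w : ↥(perp Q v v'),
      ((E (Qp Q v v') a (y : ↥(perp Q v v')) w : ↥(perp Q v v')) : V) =
        E Q (a : V) ((y : ↥(perp Q v v')) : V) (w : V) := fun w =>
    Cfsg.Agent.Lib.Helper52_MIO_RESTR.restr Q v v' a (y : ↥(perp Q v v')) w ha
      (polar_a_y_big Q a a' y)
  have h := wsp_map Q hQ hdim5 hv ρ ψ (E Q (a : V) ((y : ↥(perp Q v v')) : V)) hg 1 one_ne_zero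
    hgv (E (Qp Q v v') a (y : ↥(perp Q v v'))) hφ (β • a') e he
  rw [inv_one, one_smul, ← wlab_eq_E_loc Q a a' ha haa' β y] at h
  exact h

theorem bvec_zero (Q : QuadraticForm F V) {v v' : V} (a a' : ↥(perp Q v v'))
    (ha : Qp Q v v' a = 0) (ρ : Representation ℂ ↥(T Q) X) (e : X) :
    bvec Q ρ a a' e 0 = e := by
  have hQa : Q (a : V) = 0 := ha
  unfold bvec
  rw [ZeroMemClass.coe_zero, ZeroMemClass.coe_zero, E_zero_right Q hQa, repE_one]
  rfl

theorem bvec_shift (Q : QuadraticForm F V) (hQ : (QuadraticMap.polarBilin Q).Nondegenerate)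
    (hdim : 9 ≤ finrank F V) {v v' : V} (a a' : ↥(perp Q v v'))
    (ha : Qp Q v v' a = 0) (ρ : Representation ℂ ↥(T Q) X) (e : X)
    (y y' : ↥(perp (Qp Q v v') a a')) :
    repE Q ρ (E Q (a : V) ((y' : ↥(perp Q v v')) : V)) (bvec Q ρ a a' e y) =
      bvec Q ρ a a' e (y + y') := by
  have hdim5 : 5 ≤ finrank F V := by omega
  have hQa : Q (a : V) = 0 := ha
  unfold bvec
  rw [← Module.End.mul_apply, ← repE_mul Q ρ (Eay_mem_T Q hQ hdim5 a a' ha y')
    (Eay_mem_T Q hQ hdim5 a a' ha y),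
    E_mul Q hQa (polar_a_y_big Q a a' y') (polar_a_y_big Q a a' y), add_comm]
  rfl

/-- the operators `ρ(g)`, `g ∈ T Q`, are injective -/
theorem repE_injective (Q : QuadraticForm F V) (ρ : Representation ℂ ↥(T Q) X)
    {g : V ≃ₗ[F] V} (hg : g ∈ T Q) : Function.Injective (repE Q ρ g) := by
  have h2 : repE Q ρ g⁻¹ * repE Q ρ g = 1 := by
    rw [← repE_mul Q ρ (Subgroup.inv_mem _ hg) hg, inv_mul_cancel, repE_one]
  intro x x' hxx
  have := congrArg (repE Q ρ g⁻¹) hxx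
  rw [← Module.End.mul_apply, ← Module.End.mul_apply, h2] at this
  exact this

theorem bvec_indep (Q : QuadraticForm F V) (hQ : (QuadraticMap.polarBilin Q).Nondegenerate)
    (hdim : 9 ≤ finrank F V) {v v' : V} (hv : Q v = 0) (hv' : Q v' = 0)
    (hvv' : QuadraticMap.polar (⇑Q) v v' = 1) (a a' : ↥(perp Q v v'))
    (ha : Qp Q v v' a = 0) (ha' : Qp Q v v' a' = 0)
    (haa' : QuadraticMap.polar (⇑(Qp Q v v')) a a' = 1)
    (ρ : Representation ℂ ↥(T Q) X) (ψ : AddChar F ℂ) (hψ : ψ ≠ 1)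
    [DecidableEq ↥(perp Q v v')]
    (hint : DirectSum.IsInternal (fun u : ↥(perp Q v v') => wsp Q ρ ψ v v' u))
    (β : F) (hβ : β ≠ 0) (e : X) (he : e ∈ wsp Q ρ ψ v v' (β • a')) (he0 : e ≠ 0) :
    LinearIndependent ℂ (fun y : ↥(perp (Qp Q v v') a a') => bvec Q ρ a a' e y) := by
  have hdim5 : 5 ≤ finrank F V := by omega
  have hind : iSupIndep (fun u : ↥(perp Q v v') => wsp Q ρ ψ v v' u) := hint.submodule_iSupIndep
  have hind2 := hind.comp (wlab_injective_loc Q a a' haa' β hβ)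
  refine iSupIndep.linearIndependent _ hind2 (fun y => ?_) (fun y => ?_)
  · exact bvec_mem Q hQ hdim hv hv' hvv' a a' ha ha' haa' ρ ψ β e he y
  · intro h0
    apply he0
    apply repE_injective Q ρ (Eay_mem_T Q hQ hdim5 a a' ha y)
    rw [map_zero]
    exact h0

end main

end Cfsg.Agent.Lib.Helper95_OO_K_BY
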