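import Mathlib
import Cfsg.Agent.Lib.Helper64_OOKDefs

set_option autoImplicit false

/-!
# S2344 kill section (architect helper64), package OO-K-COMM: the two long-root `SL_2` of a
hyperbolic quadruple commute.
-/

namespace Cfsg.Agent.Lib.Helper95_OO_K_COMM

open Module Cfsg.Agent.Lib.Helper94_OrthSmall Cfsg.Agent.Lib.Helper44_QuadClass
  Cfsg.Agent.Lib.Helper14_OmegaSimple Cfsg.Agent.Lib.Helper38_MIODefs
  Cfsg.Agent.Lib.Helper95_OPDefs Cfsg.Agent.Lib.Helper95_OPBasic Cfsg.Agent.Lib.Helper48_OODefs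
  Cfsg.Agent.Lib.Helper64_OOKDefs

section basic

variable {F V : Type*} [Field F] [AddCommGroup V] [Module F V] (Q : QuadraticForm F V)

/-- Two Siegel elements with the same singular vector commute. -/
theorem comm_same {u z z' : V} (hu : Q u = 0) (huz : QuadraticMap.polar (⇑Q) u z = 0)
    (huz' : QuadraticMap.polar (⇑Q) u z' = 0) : Commute (E Q u z) (E Q u z') := by
  show E Q u z * E Q u z' = E Q u z' * E Q u z
  rw [E_mul Q hu huz huz', E_mul Q hu huz' huz, add_comm]

/-- `E(a, c b) = E(b, -c a)` for orthogonal singular `a, b`. -/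
theorem E_flip {a b : V} (ha : Q a = 0) (hb : Q b = 0)
    (hab : QuadraticMap.polar (⇑Q) a b = 0) (c : F) : E Q a (c • b) = E Q b (c • (-a)) := by
  have hba : QuadraticMap.polar (⇑Q) b a = 0 := by rw [QuadraticMap.polar_comm, hab]
  have hbna : QuadraticMap.polar (⇑Q) b (-a) = 0 := by
    rw [QuadraticMap.polar_neg_right, hba, neg_zero]
  have hcb : Q (c • b) = 0 := by rw [QuadraticMap.map_smul, hb, smul_zero]
  have hacb : QuadraticMap.polar (⇑Q) a (c • b) = 0 := by
    rw [QuadraticMap.polar_smul_right, hab, smul_zero]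
  have hcbna : QuadraticMap.polar (⇑Q) (c • b) (-a) = 0 := by
    rw [QuadraticMap.polar_smul_left, hbna, smul_zero]
  rw [← E_smul_left Q hb hbna c]
  ext x
  rw [E_apply Q ha hacb, E_apply Q hcb hcbna, hcb, QuadraticMap.map_neg, ha,
    QuadraticMap.polar_neg_right]
  module

/-- Siegel elements `E(a, c b)`, `E(a', d b)` with a common second singular vector `b` commute. -/
theorem comm_flip {a a' b : V} (ha : Q a = 0) (ha' : Q a' = 0) (hb : Q b = 0)
    (hab : QuadraticMap.polar (⇑Q) a b = 0) (ha'b : QuadraticMap.polar (⇑Q) a' b = 0) (c d : F) :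
    Commute (E Q a (c • b)) (E Q a' (d • b)) := by
  have hba : QuadraticMap.polar (⇑Q) b a = 0 := by rw [QuadraticMap.polar_comm, hab]
  have hba' : QuadraticMap.polar (⇑Q) b a' = 0 := by rw [QuadraticMap.polar_comm, ha'b]
  rw [E_flip Q ha hb hab, E_flip Q ha' hb ha'b]
  apply comm_same Q hb
  · rw [QuadraticMap.polar_smul_right, QuadraticMap.polar_neg_right, hba, neg_zero, smul_zero]
  · rw [QuadraticMap.polar_smul_right, QuadraticMap.polar_neg_right, hba', neg_zero, smul_zero]

/-- The generators of the first `SL_2`. -/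
def gen1 (v v' a a' : V) : Set (V ≃ₗ[F] V) :=
  {g | ∃ c : F, g = E Q v (c • a') ∨ g = E Q a (c • v')}

/-- The generators of the second `SL_2`. -/
def gen2 (v v' a a' : V) : Set (V ≃ₗ[F] V) :=
  {g | ∃ c : F, g = E Q v (c • a) ∨ g = E Q a' (c • v')}

theorem gen_comm {v v' a a' : V} (h : HypQuad Q v v' a a') {g g' : V ≃ₗ[F] V}
    (hg : g ∈ gen1 Q v v' a a') (hg' : g' ∈ gen2 Q v v' a a') : Commute g g' := by
  have hav : QuadraticMap.polar (⇑Q) a v = 0 := by rw [QuadraticMap.polar_comm, h.va]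
  have ha'v : QuadraticMap.polar (⇑Q) a' v = 0 := by rw [QuadraticMap.polar_comm, h.va']
  have hav' : QuadraticMap.polar (⇑Q) a v' = 0 := by rw [QuadraticMap.polar_comm, h.v'a]
  have ha'v' : QuadraticMap.polar (⇑Q) a' v' = 0 := by rw [QuadraticMap.polar_comm, h.v'a']
  obtain ⟨c, rfl | rfl⟩ := hg <;> obtain ⟨d, rfl | rfl⟩ := hg'
  · apply comm_same Q h.qv
    · rw [QuadraticMap.polar_smul_right, h.va', smul_zero]
    · rw [QuadraticMap.polar_smul_right, h.va, smul_zero]
  · -- E(v, c a') and E(a', d v'): flip the first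
    rw [E_flip Q h.qv h.qa' h.va']
    apply comm_same Q h.qa'
    · rw [QuadraticMap.polar_smul_right, QuadraticMap.polar_neg_right, ha'v, neg_zero, smul_zero]
    · rw [QuadraticMap.polar_smul_right, ha'v', smul_zero]
  · -- E(a, c v') and E(v, d a): flip the second
    rw [E_flip Q h.qv h.qa h.va]
    apply comm_same Q h.qa
    · rw [QuadraticMap.polar_smul_right, hav', smul_zero]
    · rw [QuadraticMap.polar_smul_right, QuadraticMap.polar_neg_right, hav, neg_zero, smul_zero]
  · exact comm_flip Q h.qa h.qa' h.qv' hav' ha'v' c d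

/-- Elements of the two generated groups commute. -/
theorem closure_comm {v v' a a' : V} (h : HypQuad Q v v' a a') {g g' : V ≃ₗ[F] V}
    (hg : g ∈ Subgroup.closure (gen1 Q v v' a a'))
    (hg' : g' ∈ Subgroup.closure (gen2 Q v v' a a')) : Commute g g' := by
  have h1 : Subgroup.closure (gen1 Q v v' a a') ≤
      Subgroup.centralizer (Subgroup.closure (gen2 Q v v' a a') : Set (V ≃ₗ[F] V)) := by
    rw [Subgroup.closure_le]
    intro s hs
    have h2 : Subgroup.closure (gen2 Q v v' a a') ≤ Subgroup.centralizer {s} := by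
      rw [Subgroup.closure_le]
      intro t ht
      rw [SetLike.mem_coe, Subgroup.mem_centralizer_iff]
      intro x hx
      rw [Set.mem_singleton_iff] at hx
      subst hx
      exact (gen_comm Q h hs ht).eq
    rw [SetLike.mem_coe, Subgroup.mem_centralizer_iff]
    intro t ht
    have := h2 ht
    rw [Subgroup.mem_centralizer_iff] at this
    exact (this s rfl).symm
  have := h1 hg
  rw [Subgroup.mem_centralizer_iff] at this
  exact (this g' hg').symm

theorem E1_mem {v v' a a' : V} (c : F) :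
    E Q v (c • a') ∈ Subgroup.closure (gen1 Q v v' a a') :=
  Subgroup.subset_closure ⟨c, Or.inl rfl⟩

theorem E1'_mem {v v' a a' : V} (c : F) :
    E Q a (c • v') ∈ Subgroup.closure (gen1 Q v v' a a') :=
  Subgroup.subset_closure ⟨c, Or.inr rfl⟩

theorem E2_mem {v v' a a' : V} (c : F) :
    E Q v (c • a) ∈ Subgroup.closure (gen2 Q v v' a a') :=
  Subgroup.subset_closure ⟨c, Or.inl rfl⟩

theorem E2'_mem {v v' a a' : V} (c : F) :
    E Q a' (c • v') ∈ Subgroup.closure (gen2 Q v v' a a') :=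
  Subgroup.subset_closure ⟨c, Or.inr rfl⟩

theorem nn1_mem {v v' a a' : V} (t : F) :
    nn Q v v' a a' t ∈ Subgroup.closure (gen1 Q v v' a a') := by
  unfold nn
  exact Subgroup.mul_mem _ (Subgroup.mul_mem _ (E1_mem Q _) (E1'_mem Q _)) (E1_mem Q _)

theorem dd1_mem {v v' a a' : V} (t : F) :
    dd Q v v' a a' t ∈ Subgroup.closure (gen1 Q v v' a a') := by
  unfold dd
  exact Subgroup.mul_mem _ (nn1_mem Q t) (Subgroup.inv_mem _ (nn1_mem Q 1))

theorem nn2_mem {v v' a a' : V} (t : F) :
    nn Q v v' a' a t ∈ Subgroup.closure (gen2 Q v v' a a') := by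
  unfold nn
  exact Subgroup.mul_mem _ (Subgroup.mul_mem _ (E2_mem Q _) (E2'_mem Q _)) (E2_mem Q _)

theorem dd2_mem {v v' a a' : V} (t : F) :
    dd Q v v' a' a t ∈ Subgroup.closure (gen2 Q v v' a a') := by
  unfold dd
  exact Subgroup.mul_mem _ (nn2_mem Q t) (Subgroup.inv_mem _ (nn2_mem Q 1))

end basic

section main

variable {F V : Type*} [Field F] [Fintype F] [AddCommGroup V] [Module F V] [FiniteDimensional F V]
  {X : Type*} [AddCommGroup X] [Module ℂ X]

theorem closure1_le_T (Q : QuadraticForm F V) (hQ : (QuadraticMap.polarBilin Q).Nondegenerate)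
    (hdim : 5 ≤ finrank F V) {v v' a a' : V} (h : HypQuad Q v v' a a') :
    Subgroup.closure (gen1 Q v v' a a') ≤ T Q := by
  rw [Subgroup.closure_le]
  rintro g ⟨c, rfl | rfl⟩
  · exact E_mem_T Q hQ hdim h.qv (by rw [QuadraticMap.polar_smul_right, h.va', smul_zero])
  · exact E_mem_T Q hQ hdim h.qa (by
      rw [QuadraticMap.polar_smul_right, QuadraticMap.polar_comm, h.v'a, smul_zero])

theorem closure2_le_T (Q : QuadraticForm F V) (hQ : (QuadraticMap.polarBilin Q).Nondegenerate)
    (hdim : 5 ≤ finrank F V) {v v' a a' : V} (h : HypQuad Q v v' a a') :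
    Subgroup.closure (gen2 Q v v' a a') ≤ T Q := by
  rw [Subgroup.closure_le]
  rintro g ⟨c, rfl | rfl⟩
  · exact E_mem_T Q hQ hdim h.qv (by rw [QuadraticMap.polar_smul_right, h.va, smul_zero])
  · exact E_mem_T Q hQ hdim h.qa' (by
      rw [QuadraticMap.polar_smul_right, QuadraticMap.polar_comm, h.v'a', smul_zero])

/-- Commuting elements of `T Q` give commuting operators. -/
theorem repE_comm (Q : QuadraticForm F V) (ρ : Representation ℂ ↥(T Q) X) {g g' : V ≃ₗ[F] V}
    (hg : g ∈ T Q) (hg' : g' ∈ T Q) (hc : Commute g g') :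
    Commute (repE Q ρ g) (repE Q ρ g') := by
  show repE Q ρ g * repE Q ρ g' = repE Q ρ g' * repE Q ρ g
  rw [← repE_mul Q ρ hg hg', ← repE_mul Q ρ hg' hg, hc.eq]

/-- **OO-K-COMM** (verbatim). -/
theorem opsCommute (Q : QuadraticForm F V) (hQ : (QuadraticMap.polarBilin Q).Nondegenerate)
    (hdim : 5 ≤ finrank F V) {v v' a a' : V} (h : HypQuad Q v v' a a')
    (ρ : Representation ℂ ↥(T Q) X) :
    OpsCommute (opX Q ρ v a') (opS Q ρ v v' a a') (opD Q ρ v v' a a')
      (opX Q ρ v a) (opS Q ρ v v' a' a) (opD Q ρ v v' a' a) := by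
  have key : ∀ {g g' : V ≃ₗ[F] V}, g ∈ Subgroup.closure (gen1 Q v v' a a') →
      g' ∈ Subgroup.closure (gen2 Q v v' a a') → Commute (repE Q ρ g) (repE Q ρ g') :=
    fun hg hg' => repE_comm Q ρ (closure1_le_T Q hQ hdim h hg) (closure2_le_T Q hQ hdim h hg')
      (closure_comm Q h hg hg')
  exact
    { xz := fun u u' => key (E1_mem Q u) (E2_mem Q u')
      xs := fun u => key (E1_mem Q u) (nn2_mem Q 1)
      xd := fun u t => key (E1_mem Q u) (dd2_mem Q t)
      sz := fun u => key (nn1_mem Q 1) (E2_mem Q u)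
      ss := key (nn1_mem Q 1) (nn2_mem Q 1)
      sd := fun t => key (nn1_mem Q 1) (dd2_mem Q t)
      dz := fun t u => key (dd1_mem Q t) (E2_mem Q u)
      ds := fun t => key (dd1_mem Q t) (nn2_mem Q 1)
      dd := fun t t' => key (dd1_mem Q t) (dd2_mem Q t') }

end main

end Cfsg.Agent.Lib.Helper95_OO_K_COMM
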