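import Mathlib
import Cfsg.Agent.Lib.Helper64_OOKDefs
import Cfsg.Agent.Lib.Helper8_OM_OPP
import Cfsg.Agent.Lib.Helper95_OM_GEN
import Cfsg.Agent.Lib.Helper17_MIO_TR
import Cfsg.Agent.Lib.Helper95_OO_K_COMM
import Cfsg.Agent.Lib.Helper53_OO_K_NACT
import Cfsg.Agent.Lib.Helper63_OO_K_SL2RELaux
import Cfsg.Agent.Lib.Helper9_OO_K_COMP
import Cfsg.Agent.Lib.Helper70_OO_K_WLAB
import Cfsg.Agent.Lib.Helper86_OO_K_WSUPP
import Cfsg.Agent.Lib.Helper95_OO_K_BY
/-!
# S2344 kill section, package OO-K-SE (architect helper64)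

`s e = c ∑_y b_y` with `c ≠ 0`: the Weyl element `s = n(1)` of the long-root `SL_2` maps a generator `e` of the
weight line `wsp (β a')` to a non-zero multiple of the sum of all `b_y = ρ(E(a, y)) e`, `y ∈ W₂`.
-/

set_option autoImplicit false

namespace Cfsg.Agent.Lib.Helper55_OO_K_SE

open Module Cfsg.Agent.Lib.Helper94_OrthSmall Cfsg.Agent.Lib.Helper44_QuadClass
  Cfsg.Agent.Lib.Helper14_OmegaSimple Cfsg.Agent.Lib.Helper38_MIODefs
  Cfsg.Agent.Lib.Helper95_OPDefs Cfsg.Agent.Lib.Helper95_OPBasic Cfsg.Agent.Lib.Helper48_OODefs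
  Cfsg.Agent.Lib.Helper64_OOKDefs

section main

variable {F V : Type*} [Field F] [Fintype F] [DecidableEq F] [AddCommGroup V] [Module F V]
  [FiniteDimensional F V] {X : Type*} [AddCommGroup X] [Module ℂ X] [FiniteDimensional ℂ X]

/-! ## OO-K-SE (L) -/
theorem s_e (Q : QuadraticForm F V) (hQ : (QuadraticMap.polarBilin Q).Nondegenerate)
    (hdim : 9 ≤ finrank F V) {v v' : V} (hv : Q v = 0) (hv' : Q v' = 0)
    (hvv' : QuadraticMap.polar (⇑Q) v v' = 1) (a a' : ↥(perp Q v v'))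
    (ha : Qp Q v v' a = 0) (ha' : Qp Q v v' a' = 0)
    (haa' : QuadraticMap.polar (⇑(Qp Q v v')) a a' = 1)
    (ρ : Representation ℂ ↥(T Q) X) (ψ : AddChar F ℂ) (hψ : ψ ≠ 1)
    [DecidableEq ↥(perp Q v v')]
    (hint : DirectSum.IsInternal (fun u : ↥(perp Q v v') => wsp Q ρ ψ v v' u))
    (f : ℕ) (hW : WData Q ρ ψ v v' 1 f) [Fintype ↥(perp (Qp Q v v') a a')]
    (β : F) (hβ : β ≠ 0) (e : X) (he : e ∈ wsp Q ρ ψ v v' (β • a')) (he0 : e ≠ 0) :
    ∃ c : ℂ, c ≠ 0 ∧ opS Q ρ v v' (a : V) (a' : V) e =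
      c • ∑ y : ↥(perp (Qp Q v v') a a'), bvec Q ρ a a' e y := by
  classical
  have hdim5 : 5 ≤ finrank F V := by omega
  have hquad : HypQuad Q v v' (a : V) (a' : V) := hypQuad_of_perp Q hv hv' hvv' a a' ha ha' haa'
  have hfinV : Finite V := Module.finite_of_finite F
  have hfinW : Finite ↥(perp Q v v') := inferInstance
  let instW : Fintype ↥(perp Q v v') := Fintype.ofFinite _
  set s : V ≃ₗ[F] V := nn Q v v' (a : V) (a' : V) 1 with hs
  have hsT : s ∈ T Q := (Cfsg.Agent.Lib.Helper63_OO_K_SL2RELaux.nn_mem_T Q hQ hdim5 hquad 1).1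
  have hsiT : s⁻¹ ∈ T Q := Subgroup.inv_mem _ hsT
  set x : X := opS Q ρ v v' (a : V) (a' : V) e with hx
  have hxs : x = repE Q ρ s e := rfl
  have hpa'a : QuadraticMap.polar (⇑Q) (a' : V) (a : V) = 1 := by
    rw [QuadraticMap.polar_comm]; exact hquad.aa'
  -- Step 1: the `Z`-weight of `x`
  have hZ : ∀ u : F, repE Q ρ (E Q v (u • (a : V))) x = ψ (β * u) • x := by
    intro u
    have hc := (Cfsg.Agent.Lib.Helper95_OO_K_COMM.opsCommute Q hQ hdim5 hquad ρ).sz u
    have h1 : opX Q ρ v (a : V) u (opS Q ρ v v' (a : V) (a' : V) e) =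
        opS Q ρ v v' (a : V) (a' : V) (opX Q ρ v (a : V) u e) := by
      have := congrArg (fun T => T e) hc.eq
      simp only [Module.End.mul_apply] at this
      exact this.symm
    have h2 : opX Q ρ v (a : V) u e = ψ (β * u) • e := by
      have h3 := he (u • a)
      simp only [Submodule.coe_smul, QuadraticMap.polar_smul_left, QuadraticMap.polar_smul_right,
        smul_eq_mul, hpa'a, mul_one] at h3
      rw [mul_comm] at h3
      exact h3
    show opX Q ρ v (a : V) u x = _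
    rw [hx, h1, h2, map_smul]
  -- Step 2: the support of `x`
  have hsupp : ∀ w : ↥(perp Q v v'), comp Q ρ ψ hint x w ≠ 0 → ∃ y, w = wlab Q a a' β y := by
    intro w hw
    have h1 : QuadraticMap.polar (⇑(Qp Q v v')) w a = β := by
      by_contra hne
      exact hw (Cfsg.Agent.Lib.Helper86_OO_K_WSUPP.comp_eq_zero_of_eigen Q hQ hdim5 hv ρ ψ hψ hint a β x hZ w hne)
    have h2 : Qp Q v v' w = 0 := by
      by_contra hne
      have hbot := hW.hns w hne
      have hm := Cfsg.Agent.Lib.Helper9_OO_K_COMP.comp_mem Q ρ ψ hint x w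
      rw [hbot, Submodule.mem_bot] at hm
      exact hw hm
    exact Cfsg.Agent.Lib.Helper70_OO_K_WLAB.wlab_surj Q a a' ha ha' haa' β hβ w h2 h1
  -- Step 3: the components are multiples of the `b_y`
  have hb_mem : ∀ y, bvec Q ρ a a' e y ∈ wsp Q ρ ψ v v' (wlab Q a a' β y) := fun y =>
    Cfsg.Agent.Lib.Helper95_OO_K_BY.bvec_mem Q hQ hdim hv hv' hvv' a a' ha ha' haa' ρ ψ β e he y
  have hindep := Cfsg.Agent.Lib.Helper95_OO_K_BY.bvec_indep Q hQ hdim hv hv' hvv' a a' ha ha' haa' ρ ψ hψ hint β hβ e he he0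
  have hb_ne : ∀ y, bvec Q ρ a a' e y ≠ 0 := fun y => hindep.ne_zero y
  have hline : ∀ y, ∃ c : ℂ, comp Q ρ ψ hint x (wlab Q a a' β y) = c • bvec Q ρ a a' e y := by
    intro y
    obtain ⟨hq0, hpa, -, -⟩ := Cfsg.Agent.Lib.Helper70_OO_K_WLAB.wlab_props Q a a' ha ha' haa' β y
    have hne0 : wlab Q a a' β y ≠ 0 := by
      intro h0
      rw [h0] at hpa
      simp only [QuadraticMap.polar_zero_left] at hpa
      exact hβ hpa.symm
    have hfr := hW.he _ hne0 hq0
    have hbne : (⟨bvec Q ρ a a' e y, hb_mem y⟩ : ↥(wsp Q ρ ψ v v' (wlab Q a a' β y))) ≠ 0 := by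
      intro h
      exact hb_ne y (congrArg Subtype.val h)
    obtain ⟨c, hc⟩ := (finrank_eq_one_iff_of_nonzero' _ hbne).1 hfr
      ⟨comp Q ρ ψ hint x _, Cfsg.Agent.Lib.Helper9_OO_K_COMP.comp_mem Q ρ ψ hint x _⟩
    exact ⟨c, (congrArg Subtype.val hc).symm⟩
  choose c hc using hline
  -- Step 4: `x = ∑ c_y b_y`
  have hx_sum : x = ∑ y, c y • bvec Q ρ a a' e y := by
    calc x = ∑ w : ↥(perp Q v v'), comp Q ρ ψ hint x w := (Cfsg.Agent.Lib.Helper9_OO_K_COMP.sum_comp Q ρ ψ hint x).symm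
      _ = ∑ w ∈ Finset.univ.image (wlab Q a a' β), comp Q ρ ψ hint x w := by
          refine (Finset.sum_subset (Finset.subset_univ _) ?_).symm
          intro w _ hw
          by_contra h
          obtain ⟨y, rfl⟩ := hsupp w h
          exact hw (Finset.mem_image_of_mem _ (Finset.mem_univ y))
      _ = ∑ y, comp Q ρ ψ hint x (wlab Q a a' β y) :=
          Finset.sum_image (fun y _ y' _ h => Cfsg.Agent.Lib.Helper70_OO_K_WLAB.wlab_injective Q a a' ha ha' haa' β hβ h)
      _ = ∑ y, c y • bvec Q ρ a a' e y := Finset.sum_congr rfl (fun y _ => hc y)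
  -- Step 5: `x` is fixed by all `E(a, y')`
  have hinvt : ∀ y' : ↥(perp (Qp Q v v') a a'),
      repE Q ρ (E Q (a : V) ((y' : ↥(perp Q v v')) : V)) x = x := by
    intro y'
    have hy'W := (mem_perp Q v v').1 (y' : ↥(perp Q v v')).2
    have hy'2 := (mem_perp (Qp Q v v') a a').1 y'.2
    have hay' : QuadraticMap.polar (⇑Q) (a : V) ((y' : ↥(perp Q v v')) : V) = 0 := by
      rw [← polar_comp_subtype]; exact hy'2.1
    have ha'y' : QuadraticMap.polar (⇑Q) (a' : V) ((y' : ↥(perp Q v v')) : V) = 0 := by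
      rw [← polar_comp_subtype]; exact hy'2.2
    have hgT : E Q (a : V) ((y' : ↥(perp Q v v')) : V) ∈ T Q := E_mem_T Q hQ hdim5 hquad.qa hay'
    obtain ⟨hsv, hsa, -, -, hsw⟩ :=
      Cfsg.Agent.Lib.Helper53_OO_K_NACT.nn_apply Q hquad 1 one_ne_zero
    -- `s⁻¹ a = -v`, `s⁻¹ y' = y'`
    have h1 : s⁻¹ (a : V) = -v := by
      have : s (-v) = (a : V) := by
        rw [map_neg, hs, hsv, inv_one, one_smul, neg_neg]
      rw [← this]
      exact s.symm_apply_apply _
    have h2 : s⁻¹ ((y' : ↥(perp Q v v')) : V) = ((y' : ↥(perp Q v v')) : V) := by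
      have : s ((y' : ↥(perp Q v v')) : V) = ((y' : ↥(perp Q v v')) : V) := by
        apply hsw
        · rw [QuadraticMap.polar_comm]; exact hy'W.1
        · rw [QuadraticMap.polar_comm]; exact hy'W.2
        · rw [QuadraticMap.polar_comm]; exact hay'
        · rw [QuadraticMap.polar_comm]; exact ha'y'
      calc s⁻¹ ((y' : ↥(perp Q v v')) : V) = s⁻¹ (s ((y' : ↥(perp Q v v')) : V)) := by rw [this]
        _ = ((y' : ↥(perp Q v v')) : V) := s.symm_apply_apply _
    have hconj : s⁻¹ * E Q (a : V) ((y' : ↥(perp Q v v')) : V) * (s⁻¹)⁻¹ = E Q v (-((y' : ↥(perp Q v v')) : V)) := by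
      rw [conj_E Q (T_le_oG Q hsiT) hquad.qa hay', h1, h2]
      have hvy' : QuadraticMap.polar (⇑Q) v ((y' : ↥(perp Q v v')) : V) = 0 := hy'W.1
      have := E_smul_left Q hv hvy' (-1 : F)
      rw [neg_one_smul, neg_one_smul] at this
      exact this
    have hcomm : E Q (a : V) ((y' : ↥(perp Q v v')) : V) * s = s * E Q v (-((y' : ↥(perp Q v v')) : V)) := by
      rw [← hconj, inv_inv]
      group
    have hnegmem : E Q v (-((y' : ↥(perp Q v v')) : V)) ∈ T Q := by
      have := rad_mem Q hQ hdim5 hv (-(y' : ↥(perp Q v v')))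
      simpa using this
    have hfix : repE Q ρ (E Q v (-((y' : ↥(perp Q v v')) : V))) e = e := by
      have h3 := he (-(y' : ↥(perp Q v v')))
      simp only [Submodule.coe_smul, Submodule.coe_neg, QuadraticMap.polar_smul_left,
        QuadraticMap.polar_neg_right, ha'y', smul_eq_mul, mul_zero, neg_zero, AddChar.map_zero_eq_one,
        one_smul] at h3
      exact h3
    rw [hxs, ← Module.End.mul_apply, ← repE_mul Q ρ hgT hsT, hcomm, repE_mul Q ρ hsT hnegmem,
      Module.End.mul_apply, hfix]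
  -- Step 6: the coefficients are constant
  have hconst : ∀ y' y : ↥(perp (Qp Q v v') a a'), c (y - y') = c y := by
    intro y' y
    have h1 := hinvt y'
    rw [hx_sum] at h1
    rw [map_sum] at h1
    have h2 : ∑ y, repE Q ρ (E Q (a : V) ((y' : ↥(perp Q v v')) : V)) (c y • bvec Q ρ a a' e y) =
        ∑ y, c (y - y') • bvec Q ρ a a' e y := by
      have h3 : ∀ y, repE Q ρ (E Q (a : V) ((y' : ↥(perp Q v v')) : V)) (c y • bvec Q ρ a a' e y) =
          c y • bvec Q ρ a a' e (y + y') := by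
        intro y
        rw [map_smul, Cfsg.Agent.Lib.Helper95_OO_K_BY.bvec_shift Q hQ hdim a a' ha ρ e y y']
      rw [Finset.sum_congr rfl (fun y _ => h3 y)]
      exact Fintype.sum_equiv (Equiv.addRight y') _ _ (fun y => by simp)
    rw [h2] at h1
    have h4 : ∑ y, (c (y - y') - c y) • bvec Q ρ a a' e y = 0 := by
      simp only [sub_smul, Finset.sum_sub_distrib]
      rw [h1, sub_self]
    have h5 := Fintype.linearIndependent_iff.1 hindep _ h4 y
    exact sub_eq_zero.1 h5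
  have hc0 : ∀ y, c y = c 0 := by
    intro y
    have := hconst y y
    rw [sub_self] at this
    exact this.symm
  refine ⟨c 0, ?_, ?_⟩
  · intro h0
    have hx0 : x = 0 := by
      rw [hx_sum]
      apply Finset.sum_eq_zero
      intro y _
      rw [hc0 y, h0, zero_smul]
    have : e = 0 := by
      have h1 : repE Q ρ s⁻¹ (repE Q ρ s e) = e := by
        rw [← Module.End.mul_apply, ← repE_mul Q ρ hsiT hsT, inv_mul_cancel, repE_one]
        rfl
      rw [← h1, ← hxs, hx0, map_zero]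
    exact he0 this
  · show x = _
    rw [hx_sum, Finset.smul_sum]
    exact Finset.sum_congr rfl (fun y _ => by rw [hc0 y])

end main

end Cfsg.Agent.Lib.Helper55_OO_K_SE
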