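/-
S2344 kill section (architect helper64), package OO-K-SL2REL (proof helper63): `nn_mem_T` and `sl2rel`.
-/
import Mathlib
import Cfsg.Agent.Lib.Helper64_OOKDefs
import Cfsg.Agent.Lib.Helper8_OM_OPP
import Cfsg.Agent.Lib.Helper95_OM_GEN
import Cfsg.Agent.Lib.Helper17_MIO_TR
import Cfsg.Agent.Lib.Helper63_OO_K_SL2RELaux
import Cfsg.Agent.Lib.Helper52_OO_K_GREL

set_option autoImplicit false
set_option linter.unusedSectionVars false

namespace Cfsg.Agent.Lib.Helper63_OO_K_SL2REL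

open Module Cfsg.Agent.Lib.Helper94_OrthSmall Cfsg.Agent.Lib.Helper44_QuadClass
  Cfsg.Agent.Lib.Helper14_OmegaSimple Cfsg.Agent.Lib.Helper38_MIODefs
  Cfsg.Agent.Lib.Helper95_OPDefs Cfsg.Agent.Lib.Helper95_OPBasic Cfsg.Agent.Lib.Helper48_OODefs
  Cfsg.Agent.Lib.Helper64_OOKDefs

variable {F V : Type*} [Field F] [Fintype F] [AddCommGroup V] [Module F V] [FiniteDimensional F V]
  {X : Type*} [AddCommGroup X] [Module ℂ X]

/-! ## OO-K-SL2REL (M) -/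
theorem nn_mem_T (Q : QuadraticForm F V) (hQ : (QuadraticMap.polarBilin Q).Nondegenerate)
    (hdim : 5 ≤ finrank F V) {v v' a a' : V} (h : HypQuad Q v v' a a') (t : F) :
    nn Q v v' a a' t ∈ T Q ∧ dd Q v v' a a' t ∈ T Q :=
  Cfsg.Agent.Lib.Helper63_OO_K_SL2RELaux.nn_mem_T Q hQ hdim h t

theorem sl2rel (Q : QuadraticForm F V) (hQ : (QuadraticMap.polarBilin Q).Nondegenerate)
    (hdim : 5 ≤ finrank F V) {v v' a a' : V} (h : HypQuad Q v v' a a')
    (ρ : Representation ℂ ↥(T Q) X) :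
    SL2Rel (opX Q ρ v a') (opS Q ρ v v' a a') (opD Q ρ v v' a a') :=
  Cfsg.Agent.Lib.Helper63_OO_K_SL2RELaux.sl2rel_aux Q hQ hdim h
    (Cfsg.Agent.Lib.Helper52_OO_K_GREL.grel Q h) ρ

end Cfsg.Agent.Lib.Helper63_OO_K_SL2REL
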