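import Mathlib
import Cfsg.Agent.Lib.Helper48_OODefs

/-!
helper73 — package OO-K-GAUSS of helper64's kill section of S2344: the quadratic Gauss sums
`G(r) = ∑ y, ψ (r * Q y)` of an odd-type space satisfy `G(r) + G(t r) = 0` for a non-square `t`
(only the number of zeros of `Q` is used), and `G(s² r) = G(r)`.
-/

set_option autoImplicit false
set_option linter.unusedSectionVars false
set_option linter.unusedVariables false

namespace Cfsg.Agent.Lib.Helper73_OO_K_GAUSS

open Module Cfsg.Agent.Lib.Helper48_OODefs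

theorem gauss_sq_inv {F W₂ : Type*} [Field F] [AddCommGroup W₂] [Module F W₂]
    [Fintype W₂] (Q₂ : QuadraticForm F W₂) (ψ : AddChar F ℂ) (r s : F) (hs : s ≠ 0) :
    ∑ y : W₂, ψ (s ^ 2 * r * Q₂ y) = ∑ y : W₂, ψ (r * Q₂ y) := by
  rw [← Equiv.sum_comp (LinearEquiv.smulOfNeZero F W₂ s hs).toEquiv (fun y => ψ (r * Q₂ y))]
  refine Finset.sum_congr rfl (fun y _ => ?_)
  have h1 : (LinearEquiv.smulOfNeZero F W₂ s hs).toEquiv y = s • y := rfl
  rw [h1, QuadraticMap.map_smul, smul_eq_mul]
  congr 1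
  ring

/-- the sum of all the Gauss sums counts the zeros -/
lemma sum_gauss {F W₂ : Type*} [Field F] [Fintype F] [AddCommGroup W₂] [Module F W₂]
    [Fintype W₂] [DecidableEq F] (Q₂ : QuadraticForm F W₂) (ψ : AddChar F ℂ) (hψ : ψ ≠ 1) :
    ∑ s : F, ∑ y : W₂, ψ (s * Q₂ y) =
      (Fintype.card F : ℂ) * ((Finset.univ.filter (fun y : W₂ => Q₂ y = 0)).card : ℂ) := by
  rw [Finset.sum_comm]
  have h1 : ∀ y : W₂, ∑ s : F, ψ (s * Q₂ y) = if Q₂ y = 0 then (Fintype.card F : ℂ) else 0 := by
    intro y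
    have := AddChar.sum_mulShift (ψ := ψ) (Q₂ y) (AddChar.IsPrimitive.of_ne_one hψ)
    rw [this]
    split_ifs <;> simp
  rw [Finset.sum_congr rfl (fun y _ => h1 y), Finset.sum_ite, Finset.sum_const, Finset.sum_const_zero,
    add_zero, nsmul_eq_mul, mul_comm]

theorem gauss_odd {F W₂ : Type*} [Field F] [Fintype F] [AddCommGroup W₂] [Module F W₂]
    [FiniteDimensional F W₂] [Fintype W₂] (Q₂ : QuadraticForm F W₂) (m : ℕ) (hP : IsOddT Q₂ m)
    (hF : ringChar F ≠ 2) (ψ : AddChar F ℂ) (hψ : ψ ≠ 1) (r t : F) (hr : r ≠ 0)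
    (ht : ¬ IsSquare t) :
    (∑ y : W₂, ψ (r * Q₂ y)) + ∑ y : W₂, ψ (t * r * Q₂ y) = 0 := by
  classical
  set G : F → ℂ := fun s => ∑ y : W₂, ψ (s * Q₂ y) with hG
  have ht0 : t ≠ 0 := by
    rintro rfl
    exact ht ⟨0, by simp⟩
  -- invariance under squares
  have hsq : ∀ a s : F, a ≠ 0 → G (a ^ 2 * s) = G s := fun a s ha =>
    gauss_sq_inv Q₂ ψ s a ha
  -- the number of zeros and the cardinality of the space
  have hz : (Finset.univ.filter (fun y : W₂ => Q₂ y = 0)).card = Fintype.card F ^ (2 * m) := by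
    rw [← hP.zeros, Nat.card_eq_fintype_card, Fintype.card_subtype]
  have hW : Fintype.card W₂ = Fintype.card F ^ (2 * m + 1) := by
    rw [← hP.dim]
    exact Module.card_eq_pow_finrank
  have hG0 : G 0 = (Fintype.card F : ℂ) ^ (2 * m + 1) := by
    simp only [hG, zero_mul, AddChar.map_zero_eq_one, Finset.sum_const, Finset.card_univ,
      nsmul_eq_mul, mul_one, hW]
    push_cast
    rfl
  have htot : ∑ s : F, G s = (Fintype.card F : ℂ) ^ (2 * m + 1) := by
    rw [sum_gauss Q₂ ψ hψ, hz]
    push_cast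
    ring
  have hnz : ∑ s ∈ Finset.univ.erase (0 : F), G s = 0 := by
    have h1 := Finset.add_sum_erase Finset.univ G (Finset.mem_univ (0 : F))
    rw [htot, hG0] at h1
    linear_combination h1
  -- reindexing the sum over the non-zero scalars
  have hre : ∀ c : F, c ≠ 0 → ∑ s ∈ Finset.univ.erase (0 : F), G (s * c) = 0 := by
    intro c hc
    rw [← hnz]
    refine Finset.sum_equiv (Equiv.mulRight₀ c hc) ?_ ?_
    · intro s
      have e : (Equiv.mulRight₀ c hc) s = s * c := rfl
      simp only [Finset.mem_erase, Finset.mem_univ, and_true, e]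
      constructor
      · intro h; exact mul_ne_zero h hc
      · intro h h0; apply h; rw [h0, zero_mul]
    · intro s _
      rfl
  -- the value `G (s r) + G (t s r)` does not depend on `s ≠ 0`
  have hconst : ∀ s : F, s ≠ 0 → G (s * r) + G (s * (t * r)) = G r + G (t * r) := by
    intro s hs0
    by_cases hs : IsSquare s
    · obtain ⟨a, rfl⟩ := hs
      have ha : a ≠ 0 := by
        rintro rfl
        simp at hs0
      have e1 : a * a * r = a ^ 2 * r := by ring
      have e2 : a * a * (t * r) = a ^ 2 * (t * r) := by ring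
      rw [e1, e2, hsq a r ha, hsq a (t * r) ha]
    · -- `s * t` is a square
      have h1 : quadraticChar F (s * t) = 1 := by
        rw [map_mul, quadraticChar_neg_one_iff_not_isSquare.mpr hs,
          quadraticChar_neg_one_iff_not_isSquare.mpr ht]
        norm_num
      obtain ⟨b, hb⟩ := (quadraticChar_one_iff_isSquare (mul_ne_zero hs0 ht0)).mp h1
      have hb0 : b ≠ 0 := by
        rintro rfl
        rw [mul_zero] at hb
        exact mul_ne_zero hs0 ht0 hb
      have e1 : s * r = (b / t) ^ 2 * (t * r) := by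
        have h3 : (b / t) ^ 2 * (t * r) = (b * b) * r / t := by
          field_simp
        rw [h3, ← hb]
        field_simp
      have e2 : s * (t * r) = b ^ 2 * r := by
        linear_combination r * hb
      rw [e1, e2, hsq (b / t) (t * r) (div_ne_zero hb0 ht0), hsq b r hb0, add_comm]
  -- conclusion
  have hsum : ∑ s ∈ Finset.univ.erase (0 : F), (G (s * r) + G (s * (t * r))) =
      ((Finset.univ.erase (0 : F)).card : ℂ) * (G r + G (t * r)) := by
    rw [Finset.sum_congr rfl (fun s hs => hconst s (Finset.ne_of_mem_erase hs)), Finset.sum_const,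
      nsmul_eq_mul]
  rw [Finset.sum_add_distrib, hre r hr, hre (t * r) (mul_ne_zero ht0 hr), add_zero] at hsum
  have hcard : ((Finset.univ.erase (0 : F)).card : ℂ) ≠ 0 := by
    rw [Nat.cast_ne_zero]
    apply Finset.card_ne_zero.mpr
    exact ⟨1, Finset.mem_erase.mpr ⟨one_ne_zero, Finset.mem_univ _⟩⟩
  have h2 : G r + G (t * r) = 0 := by
    rcases mul_eq_zero.mp hsum.symm with h | h
    · exact absurd h hcard
    · exact h
  have e3 : ∀ y : W₂, ψ (t * r * Q₂ y) = ψ (t * r * Q₂ y) := fun _ => rfl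
  exact h2

end Cfsg.Agent.Lib.Helper73_OO_K_GAUSS
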