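import Mathlib
import Cfsg.Agent.Lib.Helper64_OOKDefs
import Cfsg.Agent.Lib.Helper53_OO_K_NACT

/-!
OO-K-SBY (S2344 kill section, architect helper64, owner helper48), hypothesis form:
`ρ(s) b_y = c ∑_{y'} ψ(β B(y',y)) b_{y'}` from `s E(a,y) = E(v,y) s` (`conj_E`, NACT),
with the two facts of OO-K-BY (`bvec_mem`) and OO-K-WLAB (`wlab_props`, last part) as hypotheses.
The verbatim statement `s_bvec` is in `Helper88_OO_K_SBY`.
-/

set_option autoImplicit false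

namespace Cfsg.Agent.Lib.Helper88_OO_K_SBYaux

open Module Cfsg.Agent.Lib.Helper94_OrthSmall Cfsg.Agent.Lib.Helper44_QuadClass
  Cfsg.Agent.Lib.Helper14_OmegaSimple Cfsg.Agent.Lib.Helper38_MIODefs
  Cfsg.Agent.Lib.Helper95_OPDefs Cfsg.Agent.Lib.Helper95_OPBasic Cfsg.Agent.Lib.Helper48_OODefs
  Cfsg.Agent.Lib.Helper64_OOKDefs

variable {F V : Type*} [Field F] [Fintype F] [AddCommGroup V] [Module F V]
  [FiniteDimensional F V] {X : Type*} [AddCommGroup X] [Module ℂ X]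

/-- the Weyl element `s = n(1)` lies in `T Q` -/
theorem nn_one_mem_T (Q : QuadraticForm F V) (hQ : (QuadraticMap.polarBilin Q).Nondegenerate)
    (hdim : 5 ≤ finrank F V) {v v' a a' : V} (hq : HypQuad Q v v' a a') (t : F) :
    nn Q v v' a a' t ∈ T Q := by
  have hx1 : E Q v ((-t) • a') ∈ T Q := by
    refine E_mem_T Q hQ hdim hq.qv ?_
    rw [QuadraticMap.polar_smul_right, hq.va', smul_zero]
  have hy1 : E Q a (t⁻¹ • v') ∈ T Q := by
    refine E_mem_T Q hQ hdim hq.qa ?_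
    rw [QuadraticMap.polar_smul_right, QuadraticMap.polar_comm, hq.v'a, smul_zero]
  exact Subgroup.mul_mem _ (Subgroup.mul_mem _ hx1 hy1) hx1

/-- `s E(a,y) = E(v,y) s` for `y` orthogonal to the quadruple -/
theorem nn_one_mul_E (Q : QuadraticForm F V) (hQ : (QuadraticMap.polarBilin Q).Nondegenerate)
    (hdim : 5 ≤ finrank F V) {v v' a a' : V} (hq : HypQuad Q v v' a a') (y : V)
    (h1 : QuadraticMap.polar (⇑Q) v y = 0) (h2 : QuadraticMap.polar (⇑Q) v' y = 0)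
    (h3 : QuadraticMap.polar (⇑Q) a y = 0) (h4 : QuadraticMap.polar (⇑Q) a' y = 0) :
    nn Q v v' a a' 1 * E Q a y = E Q v y * nn Q v v' a a' 1 := by
  obtain ⟨-, hsa, -, -, hsw⟩ :=
    Cfsg.Agent.Lib.Helper53_OO_K_NACT.nn_apply Q hq 1 one_ne_zero
  have hsy : nn Q v v' a a' 1 y = y := by
    apply hsw
    · rw [QuadraticMap.polar_comm]; exact h1
    · rw [QuadraticMap.polar_comm]; exact h2
    · rw [QuadraticMap.polar_comm]; exact h3
    · rw [QuadraticMap.polar_comm]; exact h4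
  have h := conj_E Q (T_le_oG Q (nn_one_mem_T Q hQ hdim hq 1)) hq.qa h3
  rw [hsa, hsy, one_smul, mul_inv_eq_iff_eq_mul] at h
  exact h

/-- `ρ(s) b_y = ρ(E(v,y)) (ρ(s) e)` -/
theorem opS_bvec (Q : QuadraticForm F V) (hQ : (QuadraticMap.polarBilin Q).Nondegenerate)
    (hdim : 5 ≤ finrank F V) {v v' : V} (hv : Q v = 0) (hv' : Q v' = 0)
    (hvv' : QuadraticMap.polar (⇑Q) v v' = 1) (a a' : ↥(perp Q v v'))
    (ha : Qp Q v v' a = 0) (ha' : Qp Q v v' a' = 0)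
    (haa' : QuadraticMap.polar (⇑(Qp Q v v')) a a' = 1)
    (ρ : Representation ℂ ↥(T Q) X) (e : X) (y : ↥(perp (Qp Q v v') a a')) :
    opS Q ρ v v' (a : V) (a' : V) (bvec Q ρ a a' e y) =
      repE Q ρ (E Q v ((y : ↥(perp Q v v')) : V)) (opS Q ρ v v' (a : V) (a' : V) e) := by
  have hq : HypQuad Q v v' (a : V) (a' : V) := hypQuad_of_perp Q hv hv' hvv' a a' ha ha' haa'
  have hyW : QuadraticMap.polar (⇑Q) v ((y : ↥(perp Q v v')) : V) = 0 ∧
      QuadraticMap.polar (⇑Q) v' ((y : ↥(perp Q v v')) : V) = 0 :=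
    (mem_perp Q v v').1 (y : ↥(perp Q v v')).2
  have hyW2 := (mem_perp (Qp Q v v') a a').1 y.2
  rw [polar_comp_subtype, polar_comp_subtype] at hyW2
  have hs : nn Q v v' (a : V) (a' : V) 1 ∈ T Q := nn_one_mem_T Q hQ hdim hq 1
  have hEa : E Q (a : V) ((y : ↥(perp Q v v')) : V) ∈ T Q := E_mem_T Q hQ hdim hq.qa hyW2.1
  have hEv : E Q v ((y : ↥(perp Q v v')) : V) ∈ T Q := E_mem_T Q hQ hdim hv hyW.1
  have hconj := nn_one_mul_E Q hQ hdim hq ((y : ↥(perp Q v v')) : V) hyW.1 hyW.2 hyW2.1 hyW2.2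
  unfold opS bvec
  rw [← Module.End.mul_apply, ← repE_mul Q ρ hs hEa, hconj, repE_mul Q ρ hEv hs,
    Module.End.mul_apply]

/-- OO-K-SBY, hypothesis form: `hmem` is OO-K-BY `bvec_mem`, `hlab` the last part of OO-K-WLAB
`wlab_props`. -/
theorem s_bvec_of (Q : QuadraticForm F V) (hQ : (QuadraticMap.polarBilin Q).Nondegenerate)
    (hdim : 5 ≤ finrank F V) {v v' : V} (hv : Q v = 0) (hv' : Q v' = 0)
    (hvv' : QuadraticMap.polar (⇑Q) v v' = 1) (a a' : ↥(perp Q v v'))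
    (ha : Qp Q v v' a = 0) (ha' : Qp Q v v' a' = 0)
    (haa' : QuadraticMap.polar (⇑(Qp Q v v')) a a' = 1)
    (ρ : Representation ℂ ↥(T Q) X) (ψ : AddChar F ℂ) [Fintype ↥(perp (Qp Q v v') a a')]
    (β : F) (e : X) (c : ℂ)
    (hc : opS Q ρ v v' (a : V) (a' : V) e = c • ∑ y : ↥(perp (Qp Q v v') a a'), bvec Q ρ a a' e y)
    (y : ↥(perp (Qp Q v v') a a'))
    (hmem : ∀ y' : ↥(perp (Qp Q v v') a a'),
      bvec Q ρ a a' e y' ∈ wsp Q ρ ψ v v' (wlab Q a a' β y'))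
    (hlab : ∀ y' : ↥(perp (Qp Q v v') a a'),
      QuadraticMap.polar (⇑(Qp Q v v')) (wlab Q a a' β y') (y : ↥(perp Q v v')) =
        β * QuadraticMap.polar (⇑(Qp (Qp Q v v') a a')) y' y) :
    opS Q ρ v v' (a : V) (a' : V) (bvec Q ρ a a' e y) =
      c • ∑ y' : ↥(perp (Qp Q v v') a a'),
        ψ (β * QuadraticMap.polar (⇑(Qp (Qp Q v v') a a')) y' y) • bvec Q ρ a a' e y' := by
  rw [opS_bvec Q hQ hdim hv hv' hvv' a a' ha ha' haa' ρ e y, hc, map_smul, map_sum]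
  congr 1
  refine Finset.sum_congr rfl fun y' _ => ?_
  have h := hmem y'
  rw [mem_wsp] at h
  rw [h (y : ↥(perp Q v v'))]
  congr 2
  have h4 := hlab y'
  rw [polar_comp_subtype] at h4
  exact h4

end Cfsg.Agent.Lib.Helper88_OO_K_SBYaux
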