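import Mathlib
import Cfsg.Agent.Lib.Helper64_OOKDefs
import Cfsg.Agent.Lib.Helper70_OO_K_WLAB
import Cfsg.Agent.Lib.Helper95_OO_K_BY
import Cfsg.Agent.Lib.Helper88_OO_K_SBYaux

/-!
OO-K-SBY (S2344 kill section, architect helper64, owner helper48), verbatim:
`ρ(s) b_y = c ∑_{y'} ψ(β B(y',y)) b_{y'}` = `Helper88_OO_K_SBYaux.s_bvec_of` fed with OO-K-BY `bvec_mem`
and OO-K-WLAB `wlab_props`.
-/

set_option autoImplicit false

namespace Cfsg.Agent.Lib.Helper88_OO_K_SBY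

open Module Cfsg.Agent.Lib.Helper94_OrthSmall Cfsg.Agent.Lib.Helper44_QuadClass
  Cfsg.Agent.Lib.Helper14_OmegaSimple Cfsg.Agent.Lib.Helper38_MIODefs
  Cfsg.Agent.Lib.Helper95_OPDefs Cfsg.Agent.Lib.Helper95_OPBasic Cfsg.Agent.Lib.Helper48_OODefs
  Cfsg.Agent.Lib.Helper64_OOKDefs

variable {F V : Type*} [Field F] [Fintype F] [DecidableEq F] [AddCommGroup V] [Module F V]
  [FiniteDimensional F V] {X : Type*} [AddCommGroup X] [Module ℂ X] [FiniteDimensional ℂ X]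

/-! ## OO-K-SBY (M) -/
theorem s_bvec (Q : QuadraticForm F V) (hQ : (QuadraticMap.polarBilin Q).Nondegenerate)
    (hdim : 9 ≤ finrank F V) {v v' : V} (hv : Q v = 0) (hv' : Q v' = 0)
    (hvv' : QuadraticMap.polar (⇑Q) v v' = 1) (a a' : ↥(perp Q v v'))
    (ha : Qp Q v v' a = 0) (ha' : Qp Q v v' a' = 0)
    (haa' : QuadraticMap.polar (⇑(Qp Q v v')) a a' = 1)
    (ρ : Representation ℂ ↥(T Q) X) (ψ : AddChar F ℂ) [Fintype ↥(perp (Qp Q v v') a a')]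
    (β : F) (e : X) (he : e ∈ wsp Q ρ ψ v v' (β • a')) (c : ℂ)
    (hc : opS Q ρ v v' (a : V) (a' : V) e = c • ∑ y : ↥(perp (Qp Q v v') a a'), bvec Q ρ a a' e y)
    (y : ↥(perp (Qp Q v v') a a')) :
    opS Q ρ v v' (a : V) (a' : V) (bvec Q ρ a a' e y) =
      c • ∑ y' : ↥(perp (Qp Q v v') a a'),
        ψ (β * QuadraticMap.polar (⇑(Qp (Qp Q v v') a a')) y' y) • bvec Q ρ a a' e y' :=
  Cfsg.Agent.Lib.Helper88_OO_K_SBYaux.s_bvec_of Q hQ (by omega) hv hv' hvv' a a' ha ha' haa' ρ ψ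
    β e c hc y
    (fun y' => Cfsg.Agent.Lib.Helper95_OO_K_BY.bvec_mem Q hQ hdim hv hv' hvv' a a' ha ha' haa' ρ ψ
      β e he y')
    (fun y' => (Cfsg.Agent.Lib.Helper70_OO_K_WLAB.wlab_props Q a a' ha ha' haa' β y').2.2.2 y)

end Cfsg.Agent.Lib.Helper88_OO_K_SBY
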