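import Mathlib

/-!
# S2344 kill market (architect helper64), package OO-K-SIGNCORE (proof helper9)

The Bruhat relation applied to `b 0`, comparing the coefficients of `b 0`.
-/

set_option autoImplicit false

namespace Cfsg.Agent.Lib.Helper9_OO_K_SIGNCORE

theorem sign_core {F W₂ X : Type*} [Field F] [AddCommGroup W₂] [Module F W₂] [Fintype W₂]
    [AddCommGroup X] [Module ℂ X] (Q₂ : QuadraticForm F W₂) (ψ : AddChar F ℂ) (β : F) (c : ℂ)
    (b : W₂ → X) (hb : LinearIndependent ℂ b) (Xo : F → Module.End ℂ X) (S : Module.End ℂ X)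
    (D : F → Module.End ℂ X) (ν : F → ℂ)
    (hX : ∀ (u : F) (y : W₂), Xo u (b y) = ψ (-(u * β * Q₂ y)) • b y)
    (hS0 : S (b 0) = c • ∑ y : W₂, b y)
    (hS : ∀ y : W₂, S (b y) = c • ∑ y' : W₂, ψ (β * QuadraticMap.polar (⇑Q₂) y' y) • b y')
    (hD : ∀ t : F, t ≠ 0 → ∀ y : W₂, D t (b y) = ν t • b (t⁻¹ • y))
    (u : F) (hu : u ≠ 0)
    (hbr : Xo u (S (b 0)) = S (Xo (-u⁻¹) (D (-u⁻¹) (S (Xo (-u⁻¹) (b 0)))))) :
    c = c * c * ν (-u⁻¹) * ∑ y : W₂, ψ (u⁻¹ * β * Q₂ y) := by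
  classical
  set w : F := -u⁻¹ with hw
  have hw0 : w ≠ 0 := neg_ne_zero.mpr (inv_ne_zero hu)
  -- the left side
  have hL : Xo u (S (b 0)) = ∑ y : W₂, (c * ψ (-(u * β * Q₂ y))) • b y := by
    rw [hS0, map_smul, map_sum, Finset.smul_sum]
    refine Finset.sum_congr rfl fun y _ => ?_
    rw [hX, smul_smul]
  -- the right side
  have h1 : Xo w (b 0) = b 0 := by
    rw [hX, map_zero, mul_zero, neg_zero, AddChar.map_zero_eq_one, one_smul]
  have hR : S (Xo w (D w (S (Xo w (b 0))))) =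
      ∑ y' : W₂, (c * c * ν w * ∑ y : W₂, ψ (-(w * β * Q₂ (w⁻¹ • y))) *
        ψ (β * QuadraticMap.polar (⇑Q₂) y' (w⁻¹ • y))) • b y' := by
    rw [h1, hS0, map_smul, map_sum]
    simp only [hD w hw0, map_smul, map_sum, hX, hS]
    simp only [Finset.smul_sum, smul_smul]
    rw [Finset.sum_comm]
    refine Finset.sum_congr rfl fun y' _ => ?_
    rw [Finset.mul_sum, Finset.sum_smul]
    refine Finset.sum_congr rfl fun y _ => ?_
    congr 1
    ring
  rw [hL, hR] at hbr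
  have hzero : ∑ y' : W₂, ((c * ψ (-(u * β * Q₂ y'))) - (c * c * ν w * ∑ y : W₂,
      ψ (-(w * β * Q₂ (w⁻¹ • y))) * ψ (β * QuadraticMap.polar (⇑Q₂) y' (w⁻¹ • y)))) • b y' = 0 := by
    simp only [sub_smul, Finset.sum_sub_distrib]
    rw [hbr, sub_self]
  have h0 := (Fintype.linearIndependent_iff.mp hb) _ hzero 0
  rw [sub_eq_zero] at h0
  simp only [map_zero, mul_zero, neg_zero, AddChar.map_zero_eq_one, mul_one,
    QuadraticMap.polar_zero_left] at h0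
  refine h0.trans ?_
  congr 1
  -- reindex
  let eqv : W₂ ≃ W₂ := ⟨fun y => w⁻¹ • y, fun y => w • y,
    fun y => by simp [smul_smul, mul_inv_cancel₀ hw0],
    fun y => by simp [smul_smul, inv_mul_cancel₀ hw0]⟩
  have hre : ∑ y : W₂, ψ (-(w * β * Q₂ (w⁻¹ • y))) = ∑ y : W₂, ψ (-(w * β * Q₂ y)) :=
    Fintype.sum_equiv eqv _ _ (fun y => rfl)
  rw [hre]
  refine Finset.sum_congr rfl fun y _ => ?_
  congr 1
  rw [hw]
  ring

end Cfsg.Agent.Lib.Helper9_OO_K_SIGNCORE
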