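import Mathlib
import Cfsg.Agent.Lib.Helper64_OOKDefs
import Cfsg.Agent.Lib.Helper55_OO_K_SE
import Cfsg.Agent.Lib.Helper95_OO_K_BY
import Cfsg.Agent.Lib.Helper63_OO_K_SL2REL
import Cfsg.Agent.Lib.Helper70_OO_K_WLAB
import Cfsg.Agent.Lib.Helper9_OO_K_SIGNCORE
import Cfsg.Agent.Lib.Helper73_OO_K_GAUSS
import Cfsg.Agent.Lib.Helper88_OO_K_SBY
import Cfsg.Agent.Lib.Helper20_OO_K_DBY

set_option autoImplicit false

/-!
S2344 KILL market (architect helper64), package OO-K-SIGN: the torus `d(t)` of the long-root `SL_2` acts on the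
weight line `X_{β a'}` by the quadratic character.  From SIGNCORE (`c = c² ν(-1/u) G₂(β/u)`), SE (`c ≠ 0`),
DBY (`ν` multiplicative, `ν 1 = 1`) and GAUSS (`G₂(t r) = ± G₂(r)` according to the square class of `t`).
-/

namespace Cfsg.Agent.Lib.Helper29_OO_K_SIGN

open Module Cfsg.Agent.Lib.Helper94_OrthSmall Cfsg.Agent.Lib.Helper44_QuadClass
  Cfsg.Agent.Lib.Helper14_OmegaSimple Cfsg.Agent.Lib.Helper38_MIODefs
  Cfsg.Agent.Lib.Helper95_OPDefs Cfsg.Agent.Lib.Helper95_OPBasic Cfsg.Agent.Lib.Helper48_OODefs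
  Cfsg.Agent.Lib.Helper64_OOKDefs


variable {F V : Type*} [Field F] [Fintype F] [DecidableEq F] [AddCommGroup V] [Module F V]
  [FiniteDimensional F V] {X : Type*} [AddCommGroup X] [Module ℂ X] [FiniteDimensional ℂ X]

/-! ## OO-K-SIGN (L) -/
theorem torus_sign (Q : QuadraticForm F V) (hQ : (QuadraticMap.polarBilin Q).Nondegenerate)
    (hdim : 9 ≤ finrank F V) (hF : ringChar F ≠ 2) {v v' : V} (hv : Q v = 0) (hv' : Q v' = 0)
    (hvv' : QuadraticMap.polar (⇑Q) v v' = 1) (a a' : ↥(perp Q v v'))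
    (ha : Qp Q v v' a = 0) (ha' : Qp Q v v' a' = 0)
    (haa' : QuadraticMap.polar (⇑(Qp Q v v')) a a' = 1)
    (ρ : Representation ℂ ↥(T Q) X) (ψ : AddChar F ℂ) (hψ : ψ ≠ 1)
    [DecidableEq ↥(perp Q v v')]
    (hint : DirectSum.IsInternal (fun u : ↥(perp Q v v') => wsp Q ρ ψ v v' u))
    (f : ℕ) (hW : WData Q ρ ψ v v' 1 f) (m : ℕ) (hP₂ : IsOddT (Qp (Qp Q v v') a a') m)
    (β : F) (hβ : β ≠ 0) (e : X) (he : e ∈ wsp Q ρ ψ v v' (β • a')) (t : F) (ht : t ≠ 0) :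
    opD Q ρ v v' (a : V) (a' : V) t e = chi2 t • e := by
  by_cases he0 : e = 0
  · rw [he0, map_zero, smul_zero]
  have hfinV : Finite V := Module.finite_of_finite F
  have hftW2 : Fintype ↥(perp (Qp Q v v') a a') := Fintype.ofFinite _
  obtain ⟨c, hc0, hSe⟩ := Cfsg.Agent.Lib.Helper55_OO_K_SE.s_e Q hQ hdim hv hv' hvv' a a' ha ha' haa' ρ ψ hψ hint f hW β hβ e he he0
  obtain ⟨ν, hν1, hνmul, hν_one, hν2⟩ :=
    Cfsg.Agent.Lib.Helper20_OO_K_DBY.d_bvec Q hQ hdim hv hv' hvv' a a' ha ha' haa' ρ ψ f hW β hβ e he he0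
  have hb := Cfsg.Agent.Lib.Helper95_OO_K_BY.bvec_indep Q hQ hdim hv hv' hvv' a a' ha ha' haa' ρ ψ hψ hint β hβ e he he0
  have hb0 := Cfsg.Agent.Lib.Helper95_OO_K_BY.bvec_zero Q a a' ha ρ e
  have hrel : SL2Rel (opX Q ρ v (a' : V)) (opS Q ρ v v' (a : V) (a' : V))
      (opD Q ρ v v' (a : V) (a' : V)) :=
    Cfsg.Agent.Lib.Helper63_OO_K_SL2REL.sl2rel Q hQ (by omega) (hypQuad_of_perp Q hv hv' hvv' a a' ha ha' haa') ρ
  have hX : ∀ (u : F) (y : ↥(perp (Qp Q v v') a a')),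
      opX Q ρ v (a' : V) u (bvec Q ρ a a' e y) =
        ψ (-(u * β * Qp (Qp Q v v') a a' y)) • bvec Q ρ a a' e y := by
    intro u y
    have hmem := Cfsg.Agent.Lib.Helper95_OO_K_BY.bvec_mem Q hQ hdim hv hv' hvv' a a' ha ha' haa' ρ ψ β e he y
    have h1 := hmem (u • a')
    have h2 := (Cfsg.Agent.Lib.Helper70_OO_K_WLAB.wlab_props Q a a' ha ha' haa' β y).2.2.1
    rw [polar_comp_subtype] at h2
    rw [Submodule.coe_smul, QuadraticMap.polar_smul_right, h2] at h1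
    unfold opX
    rw [h1]
    congr 2
    rw [smul_eq_mul]
    ring
  have key : ∀ u : F, u ≠ 0 → c = c * c * ν (-u⁻¹) *
      ∑ y : ↥(perp (Qp Q v v') a a'), ψ (u⁻¹ * β * Qp (Qp Q v v') a a' y) := by
    intro u hu
    apply Cfsg.Agent.Lib.Helper9_OO_K_SIGNCORE.sign_core (Qp (Qp Q v v') a a') ψ β c (bvec Q ρ a a' e) hb (opX Q ρ v (a' : V))
      (opS Q ρ v v' (a : V) (a' : V)) (opD Q ρ v v' (a : V) (a' : V)) ν hX
      (by rw [hb0]; exact hSe)
      (fun y => Cfsg.Agent.Lib.Helper88_OO_K_SBY.s_bvec Q hQ hdim hv hv' hvv' a a' ha ha' haa' ρ ψ β e he c hSe y)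
      hν2 u hu
    have h3 := LinearMap.congr_fun (hrel.bruhat u hu) (bvec Q ρ a a' e 0)
    simpa only [Module.End.mul_apply] using h3
  -- `A s := ∑_y ψ(s r Q₂ y)`, `r = -β`
  obtain ⟨A, hA⟩ : ∃ A : F → ℂ, ∀ s : F, A s =
      ∑ y : ↥(perp (Qp Q v v') a a'), ψ (s * (-β) * Qp (Qp Q v v') a a' y) := ⟨_, fun _ => rfl⟩
  have hkey2 : ∀ s : F, s ≠ 0 → c * ν s * A s = 1 := by
    intro s hs
    have h4 := key (-s⁻¹) (neg_ne_zero.mpr (inv_ne_zero hs))
    have h5 : -(-s⁻¹)⁻¹ = s := by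
      rw [inv_neg, inv_inv, neg_neg]
    have h6 : ∀ y : ↥(perp (Qp Q v v') a a'), (-s⁻¹)⁻¹ * β * Qp (Qp Q v v') a a' y =
        s * (-β) * Qp (Qp Q v v') a a' y := by
      intro y
      rw [inv_neg, inv_inv]
      ring
    rw [h5] at h4
    simp only [h6] at h4
    rw [← hA] at h4
    have h7 : c * (c * ν s * A s) = c * 1 := by
      rw [mul_one]
      linear_combination -h4
    exact mul_left_cancel₀ hc0 h7
  have hA1 : c * A 1 = 1 := by
    have := hkey2 1 one_ne_zero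
    rwa [hν_one, mul_one] at this
  have hA1ne : A 1 ≠ 0 := by
    intro h
    rw [h, mul_zero] at hA1
    exact zero_ne_one hA1
  have hνA : ν t * A t = A 1 := by
    have h8 := hkey2 t ht
    have h9 : c * (ν t * A t) = c * A 1 := by
      rw [hA1, ← h8]
      ring
    exact mul_left_cancel₀ hc0 h9
  have hA1' : A 1 = ∑ y : ↥(perp (Qp Q v v') a a'), ψ ((-β) * Qp (Qp Q v v') a a' y) := by
    rw [hA]
    simp only [one_mul]
  have hνt : ν t = chi2 t := by
    by_cases hsq : IsSquare t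
    · obtain ⟨z, hz⟩ := hsq
      have hz0 : z ≠ 0 := by
        rintro rfl
        rw [mul_zero] at hz
        exact ht hz
      have h10 := Cfsg.Agent.Lib.Helper73_OO_K_GAUSS.gauss_sq_inv (Qp (Qp Q v v') a a') ψ (-β) z hz0
      have h11 : A t = A 1 := by
        rw [hA1', hA, hz, ← h10]
        apply Finset.sum_congr rfl
        intro y _
        congr 1
        ring
      rw [h11] at hνA
      have h12 : ν t = 1 := by
        have : ν t * A 1 = 1 * A 1 := by rw [one_mul]; exact hνA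
        exact mul_right_cancel₀ hA1ne this
      have h13 : quadraticChar F t = 1 := (quadraticChar_one_iff_isSquare ht).mpr ⟨z, hz⟩
      rw [h12]
      unfold chi2
      rw [h13]
      simp
    · have h10 := Cfsg.Agent.Lib.Helper73_OO_K_GAUSS.gauss_odd (Qp (Qp Q v v') a a') m hP₂ hF ψ hψ (-β) t (neg_ne_zero.mpr hβ) hsq
      have h11 : A t = -A 1 := by
        rw [hA1', hA]
        linear_combination h10
      rw [h11] at hνA
      have h12 : ν t = -1 := by
        have : ν t * A 1 = (-1) * A 1 := by linear_combination -hνA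
        exact mul_right_cancel₀ hA1ne this
      have h13 : quadraticChar F t = -1 := quadraticChar_neg_one_iff_not_isSquare.mpr hsq
      rw [h12]
      unfold chi2
      rw [h13]
      simp
  rw [hν1 t ht, hνt]

end Cfsg.Agent.Lib.Helper29_OO_K_SIGN
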