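import Mathlib
import Cfsg.Agent.Lib.Helper98_ExtDefs

set_option autoImplicit false
set_option linter.unusedSectionVars false
set_option linter.unusedVariables false

/-!
# Generic extension-field bridge (helper29): an `F`-linear automorphism of the form
`x ↦ x + φ x • v` (`φ ≠ 0` an `F`-linear functional, `v ≠ 0`), e.g. a transvection, is never
semilinear over a proper extension field `L` of `F` when `3 ≤ dim_F V`.
-/

namespace Cfsg.Agent.Lib.Helper29_UXm_Semi

open Module Cfsg.Agent.Lib.Helper98_ExtDefs

variable {F L V : Type*} [Field F] [Field L] [Algebra F L] [AddCommGroup V] [Module F V]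
  [Module L V] [IsScalarTower F L V]

/-- `k • x = k' • x` with `x ≠ 0` forces `k = k'` -/
theorem smul_right_inj' {k k' : L} {x : V} (hx : x ≠ 0) (h : k • x = k' • x) : k = k' := by
  by_contra hne
  have h1 : (k - k') • x = 0 := by rw [sub_smul, h, sub_self]
  rcases smul_eq_zero.mp h1 with h2 | h2
  · exact hne (sub_eq_zero.mp h2)
  · exact hx h2

/-- a rank one perturbation of the identity is not semilinear over a proper extension field -/
theorem not_isSemilin_of_rank_one [FiniteDimensional F V] (hr : 2 ≤ finrank F L)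
    (h3 : 3 ≤ finrank F V) (t : V ≃ₗ[F] V) (φ : V →ₗ[F] F) (v : V) (hv : v ≠ 0) (hφ : φ ≠ 0)
    (ht : ∀ x, t x = x + φ x • v) : ¬ IsSemilin F L V t := by
  rintro ⟨ρ, hρ⟩
  -- an element of `L` outside `F`
  have hex : ∃ k : L, ∀ a : F, algebraMap F L a ≠ k := by
    by_contra hcon
    push Not at hcon
    have hsurj : Function.Surjective (Algebra.linearMap F L) := fun k => hcon k
    have hbij : Function.Bijective (Algebra.linearMap F L) :=
      ⟨(algebraMap F L).injective, hsurj⟩
    have hfr := (LinearEquiv.ofBijective (Algebra.linearMap F L) hbij).finrank_eq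
    rw [Module.finrank_self] at hfr
    omega
  obtain ⟨k, hk⟩ := hex
  -- a vector with `φ x₁ = 1`
  obtain ⟨x₀, hx₀⟩ : ∃ x₀, φ x₀ ≠ 0 := by
    by_contra hcon
    push Not at hcon
    exact hφ (LinearMap.ext hcon)
  set x₁ : V := (φ x₀)⁻¹ • x₀ with hx₁def
  have hx₁ : φ x₁ = 1 := by
    rw [hx₁def, map_smul, smul_eq_mul, inv_mul_cancel₀ hx₀]
  by_cases hid : ρ k = k
  · -- `ρ k = k`: compare `(t - 1) (k x₁)` and `k (t - 1) x₁`
    have h1 := hρ k x₁
    rw [ht, ht, hid, hx₁, one_smul, smul_add, add_right_inj] at h1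
    have h2 : (algebraMap F L (φ (k • x₁))) • v = k • v := by
      rw [algebraMap_smul]; exact h1
    exact hk _ (smul_right_inj' hv h2)
  · -- `ρ k ≠ k`: a nonzero `x` with `x, k x ∈ ker φ`
    set ψ : V →ₗ[F] F :=
      { toFun := fun x => φ (k • x)
        map_add' := fun x y => by rw [smul_add, map_add]
        map_smul' := fun a x => by
          rw [smul_comm, map_smul, RingHom.id_apply] } with hψ
    have hker : ∃ x : V, x ≠ 0 ∧ φ x = 0 ∧ ψ x = 0 := by
      have h1 : finrank F V ≤ finrank F ↥(LinearMap.ker φ) + 1 := by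
        have := LinearMap.finrank_range_add_finrank_ker φ
        have h2 : finrank F ↥(LinearMap.range φ) ≤ 1 := by
          have := Submodule.finrank_le (LinearMap.range φ)
          rwa [Module.finrank_self] at this
        omega
      have h2 : finrank F V ≤ finrank F ↥(LinearMap.ker ψ) + 1 := by
        have := LinearMap.finrank_range_add_finrank_ker ψ
        have h2 : finrank F ↥(LinearMap.range ψ) ≤ 1 := by
          have := Submodule.finrank_le (LinearMap.range ψ)
          rwa [Module.finrank_self] at this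
        omega
      have h4 := Submodule.finrank_sup_add_finrank_inf_eq (LinearMap.ker φ) (LinearMap.ker ψ)
      have h5 := Submodule.finrank_le (LinearMap.ker φ ⊔ LinearMap.ker ψ)
      have h6 : 0 < finrank F ↥(LinearMap.ker φ ⊓ LinearMap.ker ψ) := by omega
      obtain ⟨⟨x, hxW⟩, hx0⟩ := Module.finrank_pos_iff_exists_ne_zero.mp h6
      refine ⟨x, fun h0 => hx0 (Subtype.ext h0), ?_, ?_⟩
      · exact LinearMap.mem_ker.mp hxW.1
      · exact LinearMap.mem_ker.mp hxW.2
    obtain ⟨x, hx0, hφx, hψx⟩ := hker
    have h1 := hρ k x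
    have hψx' : φ (k • x) = 0 := hψx
    rw [ht, ht, hφx, hψx', zero_smul, add_zero, add_zero] at h1
    exact hid (smul_right_inj' hx0 h1).symm

end Cfsg.Agent.Lib.Helper29_UXm_Semi
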