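import Mathlib
import Cfsg.Agent.Lib.Helper98_ExtDefs
import Cfsg.Agent.Lib.Helper29_UXm_Semi

set_option autoImplicit false
set_option linter.unusedSectionVars false
set_option linter.unusedVariables false

/-!
# Orthogonal extension-field bridge (helper29): an `F`-linear automorphism of the form
`x ↦ x + φ x • u + ψ x • z` (e.g. a Siegel element) with `z ∉ L u` is never semilinear over a proper
extension field `L` of `F` when `5 ≤ dim_F V`.
-/

namespace Cfsg.Agent.Lib.Helper29_OX2_Semi

open Module Cfsg.Agent.Lib.Helper98_ExtDefs Cfsg.Agent.Lib.Helper29_UXm_Semi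

variable {F L V : Type*} [Field F] [Field L] [Algebra F L] [AddCommGroup V] [Module F V]
  [Module L V] [IsScalarTower F L V]

/-- a rank two perturbation of the identity whose image is not an `L`-line is not semilinear over a
proper extension field -/
theorem not_isSemilin_of_rank_two [FiniteDimensional F V] (hr : 2 ≤ finrank F L)
    (h5 : 5 ≤ finrank F V) (t : V ≃ₗ[F] V) (φ ψ : V →ₗ[F] F) (u z : V) (hu : u ≠ 0)
    (hz : ∀ k : L, z ≠ k • u) (x₀ : V) (hx₀ψ : ψ x₀ = 0) (hx₀φ : φ x₀ ≠ 0)
    (ht : ∀ x, t x = x + φ x • u + ψ x • z) : ¬ IsSemilin F L V t := by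
  rintro ⟨ρ, hρ⟩
  -- an element of `L` outside `F`
  have hex : ∃ k : L, ∀ a : F, algebraMap F L a ≠ k := by
    by_contra hcon
    push Not at hcon
    have hsurj : Function.Surjective (Algebra.linearMap F L) := fun k => hcon k
    have hbij : Function.Bijective (Algebra.linearMap F L) :=
      ⟨(algebraMap F L).injective, hsurj⟩
    have hfr := (LinearEquiv.ofBijective (Algebra.linearMap F L) hbij).finrank_eq
    rw [Module.finrank_self] at hfr
    omega
  obtain ⟨k, hk⟩ := hex
  set x₁ : V := (φ x₀)⁻¹ • x₀ with hx₁def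
  have hx₁ : φ x₁ = 1 := by
    rw [hx₁def, map_smul, smul_eq_mul, inv_mul_cancel₀ hx₀φ]
  have hx₁ψ : ψ x₁ = 0 := by
    rw [hx₁def, map_smul, hx₀ψ, smul_zero]
  by_cases hid : ρ k = k
  · have h1 := hρ k x₁
    rw [ht, ht, hid, hx₁, hx₁ψ, one_smul, zero_smul, add_zero, smul_add, add_assoc,
      add_right_inj] at h1
    by_cases hψk : ψ (k • x₁) = 0
    · rw [hψk, zero_smul, add_zero] at h1
      have h2 : (algebraMap F L (φ (k • x₁))) • u = k • u := by
        rw [algebraMap_smul]; exact h1
      exact hk _ (smul_right_inj' hu h2)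
    · apply hz (algebraMap F L (ψ (k • x₁))⁻¹ * (k - algebraMap F L (φ (k • x₁))))
      have h2 : ψ (k • x₁) • z = k • u - φ (k • x₁) • u := by
        rw [← h1]; abel
      have h3 : z = (ψ (k • x₁))⁻¹ • (ψ (k • x₁) • z) := by
        rw [smul_smul, inv_mul_cancel₀ hψk, one_smul]
      rw [h3, h2, mul_smul, sub_smul, algebraMap_smul, algebraMap_smul]
  · -- a nonzero `x` with `x, k x` in the kernel of `φ` and `ψ`
    set φk : V →ₗ[F] F :=
      { toFun := fun x => φ (k • x)
        map_add' := fun x y => by rw [smul_add, map_add]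
        map_smul' := fun a x => by
          rw [smul_comm, map_smul, RingHom.id_apply] } with hφk
    set ψk : V →ₗ[F] F :=
      { toFun := fun x => ψ (k • x)
        map_add' := fun x y => by rw [smul_add, map_add]
        map_smul' := fun a x => by
          rw [smul_comm, map_smul, RingHom.id_apply] } with hψk
    set Φ : V →ₗ[F] (Fin 4 → F) := LinearMap.pi ![φ, ψ, φk, ψk] with hΦ
    have hker : ∃ x : V, x ≠ 0 ∧ Φ x = 0 := by
      have h1 := LinearMap.finrank_range_add_finrank_ker Φ
      have h2 : finrank F ↥(LinearMap.range Φ) ≤ 4 := by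
        have := Submodule.finrank_le (LinearMap.range Φ)
        rwa [Module.finrank_fin_fun] at this
      have h6 : 0 < finrank F ↥(LinearMap.ker Φ) := by omega
      obtain ⟨⟨x, hxW⟩, hx0⟩ := Module.finrank_pos_iff_exists_ne_zero.mp h6
      exact ⟨x, fun h0 => hx0 (Subtype.ext h0), LinearMap.mem_ker.mp hxW⟩
    obtain ⟨x, hx0, hΦx⟩ := hker
    have e0 : φ x = 0 := by
      have := congrFun hΦx 0
      simpa [hΦ] using this
    have e1 : ψ x = 0 := by
      have := congrFun hΦx 1
      simpa [hΦ] using this
    have e2 : φ (k • x) = 0 := by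
      have : φk x = 0 := by
        have := congrFun hΦx 2
        simpa [hΦ] using this
      exact this
    have e3 : ψ (k • x) = 0 := by
      have : ψk x = 0 := by
        have := congrFun hΦx 3
        simpa [hΦ] using this
      exact this
    have h1 := hρ k x
    rw [ht, ht, e0, e1, e2, e3, zero_smul, zero_smul, add_zero, add_zero, add_zero, add_zero]
      at h1
    exact hid (smul_right_inj' hx0 h1).symm

end Cfsg.Agent.Lib.Helper29_OX2_Semi
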