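import Mathlib
import Cfsg.Prelude.Def_GeometricClasses
import Cfsg.Agent.Lib.Helper98_ExtDefs
import Cfsg.Agent.Lib.Helper29_SpExtDefs
import Cfsg.Agent.Lib.Helper94_Bridge
import Cfsg.Agent.Lib.Helper67_SpAschMax
import Cfsg.Agent.S0765

set_option autoImplicit false

/-!
# S5664: bridge between subgroups of `GL ι F` and subgroups of `(ι → F) ≃ₗ[F] (ι → F)`,
semilinear maps and the normaliser of a field subalgebra, generation of `spGL` by transvections.
(General index type; the first part follows `Helper98_ExtBridge`.)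
-/

namespace Cfsg.Agent.Lib.Helper29_SpExtBridge

open Matrix Cfsg.Geo Cfsg.Agent.Lib.Helper98_ExtDefs Cfsg.Agent.Lib.Helper94_Bridge

variable {F : Type*} [Field F] {ι : Type} [Fintype ι] [DecidableEq ι]

theorem hasMap_map_iff (M : Subgroup (GL ι F)) (φ : (ι → F) → (ι → F)) :
    HasMap (M.map (glEquiv ι F).toMonoidHom) φ ↔
      ∃ g ∈ M, ∀ x, (g : Matrix ι ι F) *ᵥ x = φ x := by
  constructor
  · rintro ⟨e, ⟨g, hg, rfl⟩, he⟩
    refine ⟨g, hg, fun x => ?_⟩
    rw [← he x]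
    exact (glEquiv_apply g x).symm
  · rintro ⟨g, hg, hgx⟩
    refine ⟨glEquiv ι F g, ⟨g, hg, rfl⟩, fun x => ?_⟩
    rw [glEquiv_apply, hgx]

theorem mem_map_glEquiv_iff (M : Subgroup (GL ι F)) (e : (ι → F) ≃ₗ[F] (ι → F)) :
    e ∈ M.map (glEquiv ι F).toMonoidHom ↔ (glEquiv ι F).symm e ∈ M := by
  constructor
  · rintro ⟨g, hg, rfl⟩
    have : (glEquiv ι F).symm ((glEquiv ι F).toMonoidHom g) = g := (glEquiv ι F).symm_apply_apply g
    rw [this]
    exact hg
  · intro h
    exact ⟨_, h, (glEquiv ι F).apply_symm_apply e⟩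

theorem glEquiv_symm_mulVec (e : (ι → F) ≃ₗ[F] (ι → F)) (v : ι → F) :
    (((glEquiv ι F).symm e : GL ι F) : Matrix ι ι F) *ᵥ v = e v := by
  rw [← glEquiv_apply, MulEquiv.apply_symm_apply]

section Semilinear

variable {L : Type*} [Field L] [Algebra F L] [Module L (ι → F)] [IsScalarTower F L (ι → F)]

/-- If `K` is the set of matrices acting as the scalars of `L`, then every matrix acting
`L`-semilinearly normalises `K`. -/
theorem mem_normalizer_of_isSemilin (K : Subalgebra F (Matrix ι ι F))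
    (hKL : ∀ k : Matrix ι ι F, k ∈ K ↔ ∃ x : L, ∀ v, k *ᵥ v = x • v)
    (g : GL ι F) (hg : IsSemilin F L (ι → F) (glEquiv ι F g)) :
    g ∈ subalgebraNormalizer K := by
  obtain ⟨σ, hσ⟩ := hg
  have hσ' : ∀ (x : L) (v : ι → F),
      (g : Matrix ι ι F) *ᵥ (x • v) = σ x • ((g : Matrix ι ι F) *ᵥ v) := by
    intro x v
    have := hσ x v
    rwa [glEquiv_apply, glEquiv_apply] at this
  have hginv : ∀ v, (g : Matrix ι ι F) *ᵥ (((g⁻¹ : GL ι F) : Matrix ι ι F) *ᵥ v) = v := by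
    intro v
    rw [Matrix.mulVec_mulVec, ← Units.val_mul, mul_inv_cancel, Units.val_one, Matrix.one_mulVec]
  have hinvg : ∀ v, ((g⁻¹ : GL ι F) : Matrix ι ι F) *ᵥ ((g : Matrix ι ι F) *ᵥ v) = v := by
    intro v
    rw [Matrix.mulVec_mulVec, ← Units.val_mul, inv_mul_cancel, Units.val_one, Matrix.one_mulVec]
  intro k
  rw [hKL, hKL]
  constructor
  · rintro ⟨x, hx⟩
    refine ⟨σ x, fun v => ?_⟩
    rw [← Matrix.mulVec_mulVec, ← Matrix.mulVec_mulVec, hx, hσ', hginv]
  · rintro ⟨x', hx'⟩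
    refine ⟨σ.symm x', fun v => ?_⟩
    have h1 := hx' ((g : Matrix ι ι F) *ᵥ v)
    rw [← Matrix.mulVec_mulVec, ← Matrix.mulVec_mulVec, hinvg] at h1
    have h2 := hσ' (σ.symm x') v
    rw [RingEquiv.apply_symm_apply] at h2
    rw [← h2] at h1
    have h3 := congrArg (fun w => ((g⁻¹ : GL ι F) : Matrix ι ι F) *ᵥ w) h1
    simp only [hinvg] at h3
    exact h3

end Semilinear

section Sp

open Cfsg.Agent.Lib.Helper67_SpAschMax Cfsg.Agent.Lib.Helper13_SympTrans

variable {m : ℕ}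

/-- a subgroup of `GL` containing all symplectic transvections contains `spGL` -/
theorem spGL_le_of_tv (M : Subgroup (GL (Fin m ⊕ Fin m) F))
    (h : ∀ (a : F) (v : Fin m ⊕ Fin m → F), ∃ g ∈ M, ∀ x,
      (g : Matrix (Fin m ⊕ Fin m) (Fin m ⊕ Fin m) F) *ᵥ x = x + (a * Cfsg.sympForm m F x v) • v) :
    Cfsg.spGL m F ≤ M := by
  have htv : ∀ (w : Fin m ⊕ Fin m → F) (c : F), tvSp w c ∈ M := by
    intro w c
    obtain ⟨g, hg, hgx⟩ := h c w
    have : g = tvSp w c := by
      apply Units.ext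
      rw [Matrix.ext_iff_mulVec]
      intro x
      rw [hgx x, tvSp_mulVec]
    rw [← this]
    exact hg
  rw [spGL_eq_range]
  rintro g ⟨A, rfl⟩
  have hA : A ∈ (⊤ : Subgroup (Matrix.symplecticGroup (Fin m) F)) := Subgroup.mem_top A
  rw [← Cfsg.Agent.S0765.result m] at hA
  induction hA using Subgroup.closure_induction with
  | mem x hx =>
    obtain ⟨w, c, hwc⟩ := hx
    have : x = transv m w c := Subtype.ext hwc
    rw [this]
    exact htv w c
  | one => rw [map_one]; exact M.one_mem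
  | mul x y _ _ hx hy => rw [map_mul]; exact M.mul_mem hx hy
  | inv x _ hx => rw [map_inv]; exact M.inv_mem hx

end Sp

end Cfsg.Agent.Lib.Helper29_SpExtBridge
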