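import Mathlib
import Cfsg.Agent.Lib.Helper98_ExtDefs

set_option autoImplicit false

/-!
# S5886: common toolkit for the packages TA, TB3, TB2, TC (helper2)

* `exists_dual_eq` : separating functionals over a field.
* `HasMap` calculus (`hasMap_id`, `HasMap_comp`, `HasMap_inv`, `HasMap_congr`, `conj_tv`).
* `Av M v` : the additive group of the functionals `f` with `f v = 0` and `1 + f ⊗ v ∈ M`;
  `As M v` : the largest subspace inside `Av M v`.
* `mem_of_coann` : double annihilator in finite dimension.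
* `stab` : `Av M v` is stable under `f ↦ f ∘ c` if `1 + c ∈ M` and `c v = 0`.
-/

open Cfsg.Agent.Lib.Helper98_ExtDefs

namespace Cfsg.Agent.Lib.Helper2_Ext_Common

section general

variable {k : Type*} {V : Type*} [Field k] [AddCommGroup V] [Module k V]

/-- separating functional with a prescribed value -/
theorem exists_dual_eq (W : Submodule k V) {x : V} (hx : x ∉ W) (c : k) :
    ∃ g : V →ₗ[k] k, g x = c ∧ ∀ w ∈ W, g w = 0 := by
  obtain ⟨f, hf, hW⟩ := Submodule.exists_dual_map_eq_bot_of_notMem hx inferInstance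
  refine ⟨(c * (f x)⁻¹) • f, ?_, ?_⟩
  · simp [hf]
  · intro w hw
    have h1 : f w ∈ W.map f := Submodule.mem_map_of_mem hw
    rw [hW] at h1
    simp [(Submodule.mem_bot k).mp h1]

variable {M : Subgroup (V ≃ₗ[k] V)}

theorem hasMap_id : HasMap M (fun x => x) := ⟨1, M.one_mem, fun _ => rfl⟩

theorem HasMap_comp {φ ψ : V → V} (h1 : HasMap M φ) (h2 : HasMap M ψ) :
    HasMap M (fun x => φ (ψ x)) := by
  obtain ⟨g, hg, hgφ⟩ := h1
  obtain ⟨h, hh, hhψ⟩ := h2
  exact ⟨g * h, M.mul_mem hg hh, fun x => by rw [LinearEquiv.mul_apply, hhψ, hgφ]⟩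

theorem HasMap_inv {φ ψ : V → V} (h1 : HasMap M φ) (h : ∀ x, φ (ψ x) = x) : HasMap M ψ := by
  obtain ⟨g, hg, hgφ⟩ := h1
  refine ⟨g⁻¹, M.inv_mem hg, fun x => ?_⟩
  apply g.injective
  rw [hgφ (ψ x), h]
  change g (g.symm x) = x
  simp

theorem HasMap_congr {φ ψ : V → V} (h1 : HasMap M φ) (h : ∀ x, φ x = ψ x) : HasMap M ψ := by
  obtain ⟨g, hg, hgφ⟩ := h1
  exact ⟨g, hg, fun x => by rw [hgφ, h]⟩

/-- conjugating a transvection -/
theorem conj_tv {g : V ≃ₗ[k] V} (hg : g ∈ M) {f : V →ₗ[k] k} {v : V}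
    (hf : HasMap M (fun x => x + f x • v)) :
    HasMap M (fun x => x + f (g.symm x) • g v) := by
  obtain ⟨t, ht, htf⟩ := hf
  refine ⟨g * t * g⁻¹, M.mul_mem (M.mul_mem hg ht) (M.inv_mem hg), fun x => ?_⟩
  rw [LinearEquiv.mul_apply, LinearEquiv.mul_apply]
  change g (t (g.symm x)) = _
  rw [htf]
  simp

/-- the additive group of the `f` with `f v = 0` and `1 + f ⊗ v ∈ M` -/
def Av (M : Subgroup (V ≃ₗ[k] V)) (v : V) : AddSubgroup (V →ₗ[k] k) where
  carrier := {f | f v = 0 ∧ HasMap M (fun x => x + f x • v)}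
  zero_mem' := ⟨rfl, HasMap_congr hasMap_id (by simp)⟩
  add_mem' := by
    rintro f g ⟨hf, hfM⟩ ⟨hg, hgM⟩
    refine ⟨by simp [hf, hg], HasMap_congr (HasMap_comp hfM hgM) ?_⟩
    intro x
    simp only [map_add, map_smul, hf, smul_eq_mul, mul_zero, add_zero, LinearMap.add_apply,
      add_smul]
    abel
  neg_mem' := by
    rintro f ⟨hf, hfM⟩
    refine ⟨by simp [hf], HasMap_inv hfM ?_⟩
    intro x
    simp [hf]

theorem mem_Av {v : V} {f : V →ₗ[k] k} :
    f ∈ Av M v ↔ f v = 0 ∧ HasMap M (fun x => x + f x • v) := Iff.rfl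

/-- the largest subspace inside `Av M v` -/
def As (M : Subgroup (V ≃ₗ[k] V)) (v : V) : Submodule k (V →ₗ[k] k) where
  carrier := {f | ∀ a : k, a • f ∈ Av M v}
  zero_mem' := fun a => by simp only [smul_zero]; exact (Av M v).zero_mem
  add_mem' := by
    intro f g hf hg a
    rw [smul_add]
    exact (Av M v).add_mem (hf a) (hg a)
  smul_mem' := by
    intro c f hf a
    rw [smul_smul]
    exact hf _

theorem mem_As {v : V} {f : V →ₗ[k] k} : f ∈ As M v ↔ ∀ a : k, a • f ∈ Av M v := Iff.rfl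

theorem As_le_Av {v : V} {f : V →ₗ[k] k} (h : f ∈ As M v) : f ∈ Av M v := by
  simpa using h 1

/-- double annihilator -/
theorem mem_of_coann [FiniteDimensional k V] (W : Submodule k (Module.Dual k V))
    (f : Module.Dual k V) (h : ∀ x, (∀ g ∈ W, g x = 0) → f x = 0) : f ∈ W := by
  rw [← Subspace.dualCoannihilator_dualAnnihilator_eq (W := W)]
  rw [Submodule.mem_dualAnnihilator]
  intro x hx
  exact h x (fun g hg => (Submodule.mem_dualCoannihilator _).mp hx g hg)

/-- `Av M v` is stable under `f ↦ f ∘ c` if `1 + c ∈ M` and `c v = 0` -/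
theorem stab_gen {v : V} {f : V →ₗ[k] k} (hf : f ∈ Av M v) (c : V →ₗ[k] V)
    (hc : HasMap M (fun x => x + c x)) (hcv : c v = 0) : f ∘ₗ c ∈ Av M v := by
  obtain ⟨h, hh, hhc⟩ := hc
  have hv : h v = v := by simp only [hhc, hcv, add_zero]
  have hv' : h.symm v = v := by
    apply h.injective
    simp [hv]
  have h1 : f ∘ₗ h.toLinearMap ∈ Av M v := by
    refine ⟨by simp [hv, hf.1], ?_⟩
    have := conj_tv (M.inv_mem hh) hf.2
    refine HasMap_congr this ?_
    intro x
    change x + f (h.symm.symm x) • h.symm v = _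
    simp [hv']
  have h2 : f ∘ₗ c = f ∘ₗ h.toLinearMap - f := by
    ext x
    simp [hhc]
  rw [h2]
  exact (Av M v).sub_mem h1 hf

theorem span_singleton_symm {a u : V} (ha : a ≠ 0) (hu : u ∉ Submodule.span k {a}) :
    a ∉ Submodule.span k {u} := by
  intro h
  obtain ⟨c, hc⟩ := Submodule.mem_span_singleton.mp h
  have hc0 : c ≠ 0 := by
    rintro rfl
    exact ha (by simpa using hc.symm)
  apply hu
  rw [Submodule.mem_span_singleton]
  exact ⟨c⁻¹, by rw [← hc, smul_smul, inv_mul_cancel₀ hc0, one_smul]⟩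

theorem exists_notMem_span_singleton (hm : 2 ≤ Module.finrank k V) (a : V) :
    ∃ u : V, u ∉ Submodule.span k {a} := by
  by_contra hcon
  push Not at hcon
  have htop : Submodule.span k {a} = ⊤ := by
    rw [eq_top_iff]
    intro x _
    exact hcon x
  have h1 : Module.finrank k (Submodule.span k ({a} : Set V)) ≤ 1 := by
    have := finrank_span_le_card (R := k) ({a} : Set V)
    simpa using this
  rw [htop, finrank_top] at h1
  omega

theorem exists_notMem_span_pair (hm : 3 ≤ Module.finrank k V) (a b : V) :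
    ∃ u : V, u ∉ Submodule.span k {a, b} := by
  by_contra hcon
  push Not at hcon
  have htop : Submodule.span k {a, b} = ⊤ := by
    rw [eq_top_iff]
    intro x _
    exact hcon x
  have h1 : Module.finrank k (Submodule.span k ({a, b} : Set V)) ≤ 2 := by
    classical
    have := finrank_span_le_card (R := k) ({a, b} : Set V)
    refine this.trans ?_
    rw [Set.toFinset_insert, Set.toFinset_singleton]
    exact Finset.card_insert_le _ _ |>.trans (by simp)
  rw [htop, finrank_top] at h1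
  omega

end general

section tower

variable {F K V : Type*} [Field F] [Field K] [Algebra F K] [AddCommGroup V] [Module F V]
  [Module K V] [IsScalarTower F K V]

/-- the `F`-endomorphism `x ↦ χ x • w` -/
def cmapK (F : Type*) {K V : Type*} [Field F] [Field K] [Algebra F K] [AddCommGroup V]
    [Module F V] [Module K V] [IsScalarTower F K V] (χ : V →ₗ[K] K) (w : V) : V →ₗ[F] V :=
  ((LinearMap.toSpanSingleton K V w) ∘ₗ χ).restrictScalars F

@[simp] theorem cmapK_apply (χ : V →ₗ[K] K) (w x : V) : cmapK F χ w x = χ x • w := rfl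

/-- the `F`-functional `x ↦ f (χ x • w)` -/
def phi (f : V →ₗ[F] F) (χ : V →ₗ[K] K) (w : V) : V →ₗ[F] F := f ∘ₗ cmapK F χ w

@[simp] theorem phi_apply (f : V →ₗ[F] F) (χ : V →ₗ[K] K) (w x : V) :
    phi f χ w x = f (χ x • w) := rfl

theorem smul_phi (a : F) (f : V →ₗ[F] F) (χ : V →ₗ[K] K) (w : V) :
    a • phi f χ w = phi f (algebraMap F K a • χ) w := by
  ext x
  rw [LinearMap.smul_apply, phi_apply, phi_apply, LinearMap.smul_apply, smul_eq_mul,
    smul_eq_mul, mul_smul, algebraMap_smul, LinearMap.map_smul f a (χ x • w), smul_eq_mul]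

variable {M : Subgroup (V ≃ₗ[F] V)}

/-- stability of `Av M v` under the `K`-transvections fixing `v` -/
theorem stab (hktv : KtvHyp F K V M) {v : V} {f : V →ₗ[F] F} (hf : f ∈ Av M v)
    (χ : V →ₗ[K] K) (w : V) (hw : χ w = 0) (hv : χ v = 0) : phi f χ w ∈ Av M v := by
  refine stab_gen hf (cmapK F χ w) ?_ (by simp [hv])
  exact hktv χ w hw

theorem stab_As (hktv : KtvHyp F K V M) {v : V} {f : V →ₗ[F] F} (hf : f ∈ Av M v)
    (χ : V →ₗ[K] K) (w : V) (hw : χ w = 0) (hv : χ v = 0) : phi f χ w ∈ As M v := by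
  intro a
  rw [smul_phi]
  exact stab hktv hf _ w (by simp [hw]) (by simp [hv])

theorem finiteDimensional_of_tower [Finite K] [Module.Finite K V] : FiniteDimensional F V := by
  have : Module.Finite F K := Module.Finite.of_finite
  exact Module.Finite.trans K V

end tower

end Cfsg.Agent.Lib.Helper2_Ext_Common
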