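import Mathlib
import Cfsg.Agent.Lib.Helper98_ExtDefs
import Cfsg.Agent.Lib.Helper29_SpExtDefs
import Cfsg.Agent.Lib.Helper2_Ext_Common

set_option autoImplicit false

/-!
# S5664: common toolkit (helper2) for the packages ALL, ROOT, LEMX

Calculus of the trace form `fF F B = Tr_{K/F} ∘ B`, non-degeneracy of the trace, representation of
`F`-functionals by `fF`, conjugation of `F`-transvections inside `M`.
-/

open Cfsg.Agent.Lib.Helper98_ExtDefs Cfsg.Agent.Lib.Helper29_SpExtDefs
  Cfsg.Agent.Lib.Helper2_Ext_Common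

namespace Cfsg.Agent.Lib.Helper2_SpExt_Common

variable {F K V : Type*} [Field F] [Field K] [Algebra F K] [AddCommGroup V] [Module F V]
  [Module K V] [IsScalarTower F K V]

section fFcalc

variable (B : LinearMap.BilinForm K V)

theorem fF_add_left (x x' y : V) : fF F B (x + x') y = fF F B x y + fF F B x' y := by
  unfold fF
  rw [map_add, LinearMap.add_apply, map_add]

theorem fF_add_right (x y y' : V) : fF F B x (y + y') = fF F B x y + fF F B x y' := by
  unfold fF
  rw [map_add, map_add]

theorem fF_ksmul_left (k : K) (x y : V) : fF F B (k • x) y = Algebra.trace F K (k * B x y) := by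
  unfold fF
  rw [map_smul, LinearMap.smul_apply, smul_eq_mul]

theorem fF_ksmul_right (k : K) (x y : V) : fF F B x (k • y) = Algebra.trace F K (k * B x y) := by
  unfold fF
  rw [map_smul, smul_eq_mul]

theorem fF_smul_left (a : F) (x y : V) : fF F B (a • x) y = a * fF F B x y := by
  rw [← algebraMap_smul K a x, fF_ksmul_left]
  unfold fF
  rw [← Algebra.smul_def, map_smul, smul_eq_mul]

theorem fF_smul_right (a : F) (x y : V) : fF F B x (a • y) = a * fF F B x y := by
  rw [← algebraMap_smul K a y, fF_ksmul_right]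
  unfold fF
  rw [← Algebra.smul_def, map_smul, smul_eq_mul]

theorem fF_zero_left (y : V) : fF F B 0 y = 0 := by
  unfold fF
  simp

theorem fF_zero_right (x : V) : fF F B x 0 = 0 := by
  unfold fF
  simp

theorem fF_neg_left (x y : V) : fF F B (-x) y = - fF F B x y := by
  unfold fF
  simp

theorem fF_neg_right (x y : V) : fF F B x (-y) = - fF F B x y := by
  unfold fF
  simp

theorem fF_sub_left (x x' y : V) : fF F B (x - x') y = fF F B x y - fF F B x' y := by
  rw [sub_eq_add_neg, fF_add_left, fF_neg_left, sub_eq_add_neg]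

theorem fF_sub_right (x y y' : V) : fF F B x (y - y') = fF F B x y - fF F B x y' := by
  rw [sub_eq_add_neg, fF_add_right, fF_neg_right, sub_eq_add_neg]

theorem fF_self (halt : B.IsAlt) (x : V) : fF F B x x = 0 := by
  unfold fF
  rw [halt x, map_zero]

theorem fF_swap (halt : B.IsAlt) (x y : V) : fF F B x y = - fF F B y x := by
  unfold fF
  rw [← LinearMap.BilinForm.IsAlt.neg_eq halt y x, map_neg]

/-- `fF F B` as an `F`-bilinear map -/
noncomputable def fFlin (F : Type*) {K V : Type*} [Field F] [Field K] [Algebra F K]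
    [AddCommGroup V] [Module F V] [Module K V] [IsScalarTower F K V]
    (B : LinearMap.BilinForm K V) : V →ₗ[F] V →ₗ[F] F :=
  LinearMap.mk₂ F (fF F B) (fF_add_left B) (fun c x y => by rw [fF_smul_left, smul_eq_mul])
    (fF_add_right B) (fun c x y => by rw [fF_smul_right, smul_eq_mul])

@[simp] theorem fFlin_apply (x y : V) : fFlin F B x y = fF F B x y := rfl

end fFcalc

section trace

variable [Finite F] [Finite K]

theorem exists_trace_ne {c : K} (hc : c ≠ 0) : ∃ k : K, Algebra.trace F K (k * c) ≠ 0 := by
  have : Module.Finite F K := Module.Finite.of_finite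
  have h0 : Algebra.trace F K ≠ 0 := Algebra.trace_ne_zero F K
  obtain ⟨z, hz⟩ : ∃ z : K, Algebra.trace F K z ≠ 0 := by
    by_contra hcon
    push Not at hcon
    apply h0
    ext z
    simpa using hcon z
  refine ⟨z * c⁻¹, ?_⟩
  rwa [mul_assoc, inv_mul_cancel₀ hc, mul_one]

variable (B : LinearMap.BilinForm K V)

/-- `f (x, K v) = 0` forces `B x v = 0` -/
theorem B_eq_zero_of_fF {x v : V} (h : ∀ k : K, fF F B x (k • v) = 0) : B x v = 0 := by
  by_contra hne
  obtain ⟨k, hk⟩ := exists_trace_ne (F := F) hne
  apply hk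
  rw [← fF_ksmul_right]
  exact h k

variable [Module.Finite K V]

/-- `fF F B` is left separating -/
theorem fF_separating (hnd : B.Nondegenerate) {x : V} (h : ∀ v : V, fF F B x v = 0) : x = 0 := by
  apply hnd.1
  intro v
  exact B_eq_zero_of_fF (F := F) B (fun k => h (k • v))

/-- every `F`-functional is `fF F B x₀ ·` -/
theorem exists_fF_repr (hnd : B.Nondegenerate) (φ : V →ₗ[F] F) :
    ∃ x₀ : V, ∀ v, fF F B x₀ v = φ v := by
  have hfin : FiniteDimensional F V := finiteDimensional_of_tower (K := K)
  have hinj : Function.Injective (fFlin F B) := by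
    rw [← LinearMap.ker_eq_bot, LinearMap.ker_eq_bot']
    intro x hx
    apply fF_separating (F := F) B hnd
    intro v
    have := LinearMap.congr_fun hx v
    simpa using this
  have hsurj : Function.Surjective (fFlin F B) :=
    (LinearMap.injective_iff_surjective_of_finrank_eq_finrank
      (Subspace.dual_finrank_eq (K := F) (V := V)).symm).mp hinj
  obtain ⟨x₀, hx₀⟩ := hsurj φ
  exact ⟨x₀, fun v => by rw [← hx₀]; rfl⟩

end trace

section conj

variable (B : LinearMap.BilinForm K V) {M : Subgroup (V ≃ₗ[F] V)}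

/-- elements of `M` preserve `fF`, inverse form -/
theorem fF_symm_left (hM : MSp F B M) {m : V ≃ₗ[F] V} (hm : m ∈ M) (x v : V) :
    fF F B (m.symm x) v = fF F B x (m v) := by
  have := hM m hm (m.symm x) v
  rw [LinearEquiv.apply_symm_apply] at this
  exact this.symm

/-- conjugating an `F`-transvection of `fF` by an element of `M` -/
theorem conj_ftv (hM : MSp F B M) {m : V ≃ₗ[F] V} (hm : m ∈ M) {a : F} {v : V}
    (h : HasMap M (fun x => x + (a * fF F B x v) • v)) :
    HasMap M (fun x => x + (a * fF F B x (m v)) • m v) := by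
  obtain ⟨t, ht, htf⟩ := h
  refine ⟨m * t * m⁻¹, M.mul_mem (M.mul_mem hm ht) (M.inv_mem hm), fun x => ?_⟩
  rw [LinearEquiv.mul_apply, LinearEquiv.mul_apply]
  change m (t (m.symm x)) = _
  rw [htf]
  simp only [map_add, map_smul, LinearEquiv.apply_symm_apply]
  rw [fF_symm_left B hM hm]

end conj

end Cfsg.Agent.Lib.Helper2_SpExt_Common
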