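import Mathlib
import Cfsg.Agent.Lib.Helper98_ExtDefs
import Cfsg.Agent.Lib.Helper29_SpExtDefs
import Cfsg.Agent.Lib.Helper2_Ext_Common
import Cfsg.Agent.Lib.Helper2_SpExt_Common

set_option autoImplicit false

/-!
# S5664 package ALL (helper2): one `F`-transvection of `fF` in `M` gives all of them
-/

open Cfsg.Agent.Lib.Helper98_ExtDefs Cfsg.Agent.Lib.Helper29_SpExtDefs
  Cfsg.Agent.Lib.Helper2_Ext_Common Cfsg.Agent.Lib.Helper2_SpExt_Common

namespace Cfsg.Agent.Lib.Helper2_SpExt_ALL

variable {F K V : Type*} [Field F] [Field K] [Algebra F K] [AddCommGroup V] [Module F V]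
  [Module K V] [IsScalarTower F K V] [Finite F] [Finite K] [Module.Finite K V]

omit [Finite K] [Module.Finite K V] [IsScalarTower F K V] [Algebra F K] [Field K] [AddCommGroup V]
  [Module F V] [Module K V] in
/-- in a finite field every element is a difference of two squares -/
theorem exists_sq_sub_sq (z : F) : ∃ c₁ c₂ : F, z = c₁ * c₁ - c₂ * c₂ := by
  by_cases h2 : (2 : F) = 0
  · have : Fintype F := Fintype.ofFinite F
    have hch : CharP F 2 := CharTwo.of_one_ne_zero_of_two_eq_zero one_ne_zero h2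
    have hr : ringChar F = 2 := ringChar.eq F 2
    obtain ⟨c, hc⟩ := FiniteField.isSquare_of_char_two hr z
    exact ⟨c, 0, by rw [hc]; ring⟩
  · refine ⟨(z + 1) / 2, (z - 1) / 2, ?_⟩
    field_simp
    ring

/-- **ALL** -/
theorem ALL (B : LinearMap.BilinForm K V) (halt : B.IsAlt)
    (M : Subgroup (V ≃ₗ[F] V)) (hM : MSp F B M) (hS : SpHyp F B M)
    (htrans : ∀ v v' : V, v ≠ 0 → v' ≠ 0 →
      ∃ g : V ≃ₗ[K] V, (∀ x y, B (g x) (g y) = B x y) ∧ g v = v')
    (h : HasFtv F B M) : AllFtv F B M := by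
  obtain ⟨a₀, v₀, ha₀, hv₀, h₀⟩ := h
  -- the good parameters
  have hA0 : ∀ v : V, HasMap M (fun x => x + (a₀ * fF F B x v) • v) := by
    intro v
    by_cases hv : v = 0
    · subst hv
      exact HasMap_congr hasMap_id (by simp)
    · obtain ⟨g, hg, hgv⟩ := htrans v₀ v hv₀ hv
      obtain ⟨m, hm, hmg⟩ := hS g hg
      have hmv : m v₀ = v := by rw [hmg v₀]; exact hgv
      have := conj_ftv B hM hm h₀
      rw [hmv] at this
      exact this
  have hAadd : ∀ a a' : F, (∀ v : V, HasMap M (fun x => x + (a * fF F B x v) • v)) →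
      (∀ v : V, HasMap M (fun x => x + (a' * fF F B x v) • v)) →
      ∀ v : V, HasMap M (fun x => x + ((a + a') * fF F B x v) • v) := by
    intro a a' h1 h2 v
    refine HasMap_congr (HasMap_comp (h1 v) (h2 v)) ?_
    intro x
    simp only [fF_add_left, fF_smul_left, fF_self B halt, mul_zero, add_zero]
    module
  have hAneg : ∀ a : F, (∀ v : V, HasMap M (fun x => x + (a * fF F B x v) • v)) →
      ∀ v : V, HasMap M (fun x => x + ((-a) * fF F B x v) • v) := by
    intro a h1 v
    refine HasMap_inv (h1 v) ?_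
    intro x
    simp only [fF_add_left, fF_smul_left, fF_self B halt, mul_zero, add_zero]
    module
  have hAsq : ∀ a c : F, (∀ v : V, HasMap M (fun x => x + (a * fF F B x v) • v)) →
      ∀ v : V, HasMap M (fun x => x + ((a * (c * c)) * fF F B x v) • v) := by
    intro a c h1 v
    refine HasMap_congr (h1 (c • v)) ?_
    intro x
    simp only [fF_smul_right]
    module
  intro a v
  obtain ⟨c₁, c₂, hc⟩ := exists_sq_sub_sq (a₀⁻¹ * a)
  have e : a = a₀ * (c₁ * c₁) + -(a₀ * (c₂ * c₂)) := by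
    have : a = a₀ * (a₀⁻¹ * a) := by field_simp
    rw [this, hc]
    ring
  rw [e]
  exact hAadd _ _ (hAsq a₀ c₁ hA0) (hAneg _ (hAsq a₀ c₂ hA0)) v

end Cfsg.Agent.Lib.Helper2_SpExt_ALL
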