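import Mathlib
import Cfsg.Agent.Lib.Helper98_ExtDefs
import Cfsg.Agent.Lib.Helper29_SpExtDefs

set_option autoImplicit false

/-!
# S5664 package COMM (architect helper29): the commutator formula

Pure `F`-linear algebra.  `t = D ⊔ F u₀` is totally isotropic for the alternating form `f`,
`g` preserves `f`, fixes `D` pointwise and maps `u₀ ↦ u₀ + e` (`e ∈ D`); `h = 1 + N` where `N`
has image in `t`, kills the `f`-orthogonal of `t` and is skew for `f`; `x₀` is `f`-dual to `u₀`
modulo `D`.  Then `g h g⁻¹ h⁻¹ = 1 + E` with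
`E x = f(x,ζ) e + f(x,e) ζ + f(x₀,ζ) f(x,e) e`, `ζ = N x₀`.
-/

open Cfsg.Agent.Lib.Helper98_ExtDefs Cfsg.Agent.Lib.Helper29_SpExtDefs

namespace Cfsg.Agent.Lib.Helper43_SpExt_COMM

variable {F K V : Type*} [Field F] [Field K] [Algebra F K] [AddCommGroup V] [Module F V]
  [Module K V] [IsScalarTower F K V] [Finite F] [Finite K] [Module.Finite K V]

/-- **COMM**: the commutator formula. -/
theorem COMM (f : V → V → F) (hfl : ∀ (a : F) (x x' y : V), f (a • x + x') y = a * f x y + f x' y)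
    (hfr : ∀ (a : F) (x y y' : V), f x (a • y + y') = a * f x y + f x y')
    (hfa : ∀ x, f x x = 0)
    (D : Submodule F V) (u₀ e x₀ : V) (he : e ∈ D)
    (hti : ∀ v ∈ D ⊔ Submodule.span F {u₀}, ∀ v' ∈ D ⊔ Submodule.span F {u₀}, f v v' = 0)
    (hx₀D : ∀ d ∈ D, f x₀ d = 0) (hx₀u : f x₀ u₀ = 1)
    (g h : V ≃ₗ[F] V) (hg : ∀ x y, f (g x) (g y) = f x y)
    (hgD : ∀ d ∈ D, g d = d) (hgu : g u₀ = u₀ + e)
    (N : V →ₗ[F] V) (hh : ∀ x, h x = x + N x)
    (hNt : ∀ x, N x ∈ D ⊔ Submodule.span F {u₀})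
    (hNk : ∀ x, (∀ v ∈ D ⊔ Submodule.span F {u₀}, f x v = 0) → N x = 0)
    (hNs : ∀ x x', f (N x) x' = - f x (N x')) :
    ∀ x, (g * h * g⁻¹ * h⁻¹) x
      = x + f x (N x₀) • e + f x e • N x₀ + (f x₀ (N x₀) * f x e) • e := by
  classical
  -- bilinearity in convenient form
  have f0l : ∀ y, f 0 y = 0 := by
    intro y
    have h0 := hfl 1 0 0 y
    simp only [smul_zero, add_zero, one_mul] at h0
    have : f 0 y + 0 = f 0 y + f 0 y := by rw [add_zero]; exact h0
    exact (add_left_cancel this).symm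
  have f0r : ∀ x, f x 0 = 0 := by
    intro x
    have h0 := hfr 1 x 0 0
    simp only [smul_zero, add_zero, one_mul] at h0
    have : f x 0 + 0 = f x 0 + f x 0 := by rw [add_zero]; exact h0
    exact (add_left_cancel this).symm
  have fal : ∀ x x' y, f (x + x') y = f x y + f x' y := by
    intro x x' y
    have h0 := hfl 1 x x' y
    rwa [one_smul, one_mul] at h0
  have far : ∀ x y y', f x (y + y') = f x y + f x y' := by
    intro x y y'
    have h0 := hfr 1 x y y'
    rwa [one_smul, one_mul] at h0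
  have fsl : ∀ (a : F) x y, f (a • x) y = a * f x y := by
    intro a x y
    have h0 := hfl a x 0 y
    rwa [add_zero, f0l, add_zero] at h0
  have fsr : ∀ (a : F) x y, f x (a • y) = a * f x y := by
    intro a x y
    have h0 := hfr a x y 0
    rwa [add_zero, f0r, add_zero] at h0
  have fnl : ∀ x y, f (-x) y = - f x y := by
    intro x y
    have h0 := fsl (-1) x y
    rwa [neg_one_smul, neg_one_mul] at h0
  have fsubl : ∀ x x' y, f (x - x') y = f x y - f x' y := by
    intro x x' y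
    rw [sub_eq_add_neg, fal, fnl, sub_eq_add_neg]
  have fanti : ∀ x y, f x y = - f y x := by
    intro x y
    have h0 := hfa (x + y)
    rw [fal, far, far, hfa, hfa] at h0
    linear_combination h0
  -- the subspace `t`
  set t : Submodule F V := D ⊔ Submodule.span F {u₀} with ht
  have hDt : D ≤ t := le_sup_left
  have het : e ∈ t := hDt he
  -- (1) `g` on `t`
  have h1 : ∀ v ∈ t, g v = v + f x₀ v • e := by
    intro v hv
    obtain ⟨d, hd, w, hw, rfl⟩ := Submodule.mem_sup.mp hv
    obtain ⟨a, rfl⟩ := Submodule.mem_span_singleton.mp hw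
    rw [map_add, map_smul, hgD d hd, hgu, far, fsr, hx₀D d hd, hx₀u]
    simp only [zero_add, mul_one, smul_add]
    abel
  -- (2) `N ∘ N = 0`, `h⁻¹ = 1 - N`
  have hNN : ∀ x, N (N x) = 0 := fun x => hNk (N x) (fun v hv => hti _ (hNt x) v hv)
  have hinv : ∀ x, h⁻¹ x = x - N x := by
    intro x
    show h.symm x = x - N x
    rw [LinearEquiv.symm_apply_eq, hh, map_sub, hNN]
    abel
  -- (3) `N g⁻¹ x = N x + f(x,e) ζ`
  have h3 : ∀ x, N (g⁻¹ x) = N x + f x e • N x₀ := by
    intro x
    have hz : N (g⁻¹ x - x - f x e • x₀) = 0 := by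
      apply hNk
      intro v hv
      have e1 : f (g⁻¹ x) v = f x (g v) := by
        have h0 := hg (g⁻¹ x) v
        rw [← h0]
        congr 1
        show g (g.symm x) = x
        exact g.apply_symm_apply x
      rw [fsubl, fsubl, fsl, e1, h1 v hv, far, fsr]
      ring
    rw [map_sub, map_sub, map_smul] at hz
    have h0 := sub_eq_zero.mp hz
    rw [← h0]
    abel
  -- (4) `f(x₀, N x) = f(x, ζ)`
  have h4 : ∀ x, f x₀ (N x) = f x (N x₀) := by
    intro x
    have h0 := hNs x₀ x
    rw [fanti x (N x₀), h0, neg_neg]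
  -- the computation
  intro x
  show g (h (g⁻¹ (h⁻¹ x))) = _
  rw [hinv, hh, map_add]
  have h5 : g (g⁻¹ (x - N x)) = x - N x := g.apply_symm_apply _
  rw [h5, h3, map_sub, hNN, sub_zero, fsubl, hti (N x) (hNt x) e het, sub_zero]
  have hmem : N x + f x e • N x₀ ∈ t := t.add_mem (hNt x) (t.smul_mem _ (hNt x₀))
  rw [h1 _ hmem, far, fsr, h4]
  module

end Cfsg.Agent.Lib.Helper43_SpExt_COMM
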