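import Mathlib
import Cfsg.Agent.Lib.Helper98_ExtDefs
import Cfsg.Agent.Lib.Helper29_SpExtDefs
import Cfsg.Agent.Lib.Helper2_Ext_Common
import Cfsg.Agent.Lib.Helper2_SpExt_Common
import Cfsg.Agent.Lib.Helper43_SpExt_COMM

set_option autoImplicit false

/-!
# S5664 package LEMX (helper2): assembly of SHIFT + ROOT + COMM
-/

open Cfsg.Agent.Lib.Helper98_ExtDefs Cfsg.Agent.Lib.Helper29_SpExtDefs
  Cfsg.Agent.Lib.Helper2_Ext_Common Cfsg.Agent.Lib.Helper2_SpExt_Common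

namespace Cfsg.Agent.Lib.Helper2_SpExt_LEMX

variable {F K V : Type*} [Field F] [Field K] [Algebra F K] [AddCommGroup V] [Module F V]
  [Module K V] [IsScalarTower F K V] [Finite F] [Finite K] [Module.Finite K V]

/-- **LEMX** -/
theorem LEMX (B : LinearMap.BilinForm K V) (halt : B.IsAlt) (hnd : B.Nondegenerate)
    (M : Subgroup (V ≃ₗ[F] V)) (hM : MSp F B M) (hS : SpHyp F B M)
    (y : V ≃ₗ[F] V) (v₁ δ u₀ : V) (hc : Config F K V M y v₁ δ u₀)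
    (hshift : ∀ c : K, ∃ g : V ≃ₗ[K] V, (∀ x y, B (g x) (g y) = B x y) ∧ g δ = δ ∧
      g u₀ = u₀ + c • δ)
    (hroot : ∀ x₀ : V, (∃ v ∈ tsp F K V y v₁, fF F B x₀ v ≠ 0) → ∀ ζ ∈ tsp F K V y v₁,
      ∃ N : V →ₗ[F] V, HasMap M (fun x => x + N x) ∧ (∀ x, N x ∈ tsp F K V y v₁) ∧
        (∀ x, (∀ v ∈ tsp F K V y v₁, fF F B x v = 0) → N x = 0) ∧
        (∀ x x', fF F B (N x) x' = - fF F B x (N x')) ∧ N x₀ = ζ) :
    LemX F B M y v₁ δ u₀ := by
  intro e d he hd s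
  -- `t' = D ⊔ F u₀`
  have hspan : Submodule.span F {u₀} ≤ tsp F K V y v₁ := by
    rw [Submodule.span_singleton_le_iff_mem]
    exact hc.hu₀t
  have ht'eq : tsp F K V y v₁ =
      (kline F K V δ ⊓ tsp F K V y v₁) ⊔ Submodule.span F {u₀} := by
    apply le_antisymm
    · intro u hu
      obtain ⟨a, ha, b, hb, rfl⟩ := Submodule.mem_sup.mp (hc.hle hu)
      have hbt : b ∈ tsp F K V y v₁ := hspan hb
      have hat : a ∈ tsp F K V y v₁ := by
        have := Submodule.sub_mem _ hu hbt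
        simpa using this
      exact Submodule.add_mem _ (Submodule.mem_sup_left ⟨ha, hat⟩) (Submodule.mem_sup_right hb)
    · exact sup_le inf_le_right hspan
  -- `t'` is totally isotropic
  have hiso : ∀ v ∈ tsp F K V y v₁, ∀ v' ∈ tsp F K V y v₁, fF F B v v' = 0 := by
    intro v hv v' hv'
    obtain ⟨k, rfl⟩ := mem_tsp.mp hv
    obtain ⟨k', rfl⟩ := mem_tsp.mp hv'
    rw [hM y hc.hy, fF_ksmul_left, map_smul, smul_eq_mul, halt v₁]
    simp
  -- the shift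
  obtain ⟨c, hce⟩ := mem_kline.mp he.1
  obtain ⟨g, hgB, hgδ, hgu⟩ := hshift c
  obtain ⟨m, hm, hmg⟩ := hS g hgB
  have hmD : ∀ d' ∈ kline F K V δ ⊓ tsp F K V y v₁, m d' = d' := by
    intro d' hd'
    obtain ⟨k, rfl⟩ := mem_kline.mp hd'.1
    rw [hmg]
    change g (k • δ) = k • δ
    rw [map_smul, hgδ]
  have hmu : m u₀ = u₀ + e := by
    rw [hmg]
    change g u₀ = u₀ + e
    rw [hgu, hce]
  -- the dual vector
  have hu₀D : u₀ ∉ kline F K V δ ⊓ tsp F K V y v₁ := fun h => hc.hu₀ h.1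
  obtain ⟨φ, hφ1, hφ0⟩ := exists_dual_eq (kline F K V δ ⊓ tsp F K V y v₁) hu₀D (1 : F)
  obtain ⟨x₀, hx₀⟩ := exists_fF_repr (F := F) B hnd φ
  have hx₀u : fF F B x₀ u₀ = 1 := by rw [hx₀, hφ1]
  have hx₀D : ∀ d' ∈ kline F K V δ ⊓ tsp F K V y v₁, fF F B x₀ d' = 0 := by
    intro d' hd'
    rw [hx₀, hφ0 d' hd']
  -- the root element
  have hζ : d + s • u₀ ∈ tsp F K V y v₁ :=
    Submodule.add_mem _ hd.2 (Submodule.smul_mem _ s hc.hu₀t)
  obtain ⟨N, hNM, hNt, hNk, hNs, hNx₀⟩ :=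
    hroot x₀ ⟨u₀, hc.hu₀t, by rw [hx₀u]; exact one_ne_zero⟩ (d + s • u₀) hζ
  obtain ⟨h, hh, hhN⟩ := hNM
  -- the commutator formula
  have hcomm := Cfsg.Agent.Lib.Helper43_SpExt_COMM.COMM (fF F B)
    (fun a x x' y => by rw [fF_add_left, fF_smul_left])
    (fun a x y y' => by rw [fF_add_right, fF_smul_right])
    (fF_self B halt)
    (kline F K V δ ⊓ tsp F K V y v₁) u₀ e x₀ he
    (fun v hv v' hv' => by
      rw [← ht'eq] at hv hv'
      exact hiso v hv v' hv')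
    hx₀D hx₀u m h (hM m hm) hmD hmu N hhN
    (fun x => by rw [← ht'eq]; exact hNt x)
    (fun x hx => hNk x (fun v hv => hx v (by rw [← ht'eq]; exact hv)))
    hNs
  refine ⟨m * h * m⁻¹ * h⁻¹,
    M.mul_mem (M.mul_mem (M.mul_mem hm hh) (M.inv_mem hm)) (M.inv_mem hh), fun x => ?_⟩
  rw [hcomm x, hNx₀]
  have hs : fF F B x₀ (d + s • u₀) = s := by
    rw [fF_add_right, fF_smul_right, hx₀D d hd, hx₀u, zero_add, mul_one]
  rw [hs]

end Cfsg.Agent.Lib.Helper2_SpExt_LEMX
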