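import Mathlib
import Cfsg.Agent.Lib.Helper98_ExtDefs
import Cfsg.Agent.Lib.Helper29_SpExtDefs
import Cfsg.Agent.Lib.Helper2_Ext_Common
import Cfsg.Agent.Lib.Helper2_SpExt_Common

set_option autoImplicit false

/-!
# S5664 package ROOT (helper2): the conjugate root group `y τ(κ, v₁) y⁻¹`
-/

open Cfsg.Agent.Lib.Helper98_ExtDefs Cfsg.Agent.Lib.Helper29_SpExtDefs
  Cfsg.Agent.Lib.Helper2_Ext_Common Cfsg.Agent.Lib.Helper2_SpExt_Common

namespace Cfsg.Agent.Lib.Helper2_SpExt_ROOT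

variable {F K V : Type*} [Field F] [Field K] [Algebra F K] [AddCommGroup V] [Module F V]
  [Module K V] [IsScalarTower F K V] [Finite F] [Finite K] [Module.Finite K V]

/-- the `F`-endomorphism `x ↦ y ((κ * B (y⁻¹ x) v₁) • v₁)` -/
noncomputable def rootN (B : LinearMap.BilinForm K V) (y : V ≃ₗ[F] V) (v₁ : V) (κ : K) :
    V →ₗ[F] V :=
  y.toLinearMap ∘ₗ cmapK F (κ • B.flip v₁) v₁ ∘ₗ y.symm.toLinearMap

omit [Finite F] [Finite K] [Module.Finite K V] in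
theorem rootN_apply (B : LinearMap.BilinForm K V) (y : V ≃ₗ[F] V) (v₁ : V) (κ : K) (x : V) :
    rootN B y v₁ κ x = y ((κ * B (y.symm x) v₁) • v₁) := rfl

/-- **ROOT** -/
theorem ROOT (B : LinearMap.BilinForm K V) (halt : B.IsAlt) (hnd : B.Nondegenerate)
    (M : Subgroup (V ≃ₗ[F] V)) (hM : MSp F B M) (hS : SpHyp F B M)
    (hktv : ∀ (κ : K) (w : V), ∃ g : V ≃ₗ[K] V, (∀ x, g x = x + (κ * B x w) • w) ∧
      ∀ x y, B (g x) (g y) = B x y)
    (y : V ≃ₗ[F] V) (hy : y ∈ M) (v₁ : V) (hv₁ : v₁ ≠ 0)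
    (x₀ : V) (hx₀ : ∃ v ∈ tsp F K V y v₁, fF F B x₀ v ≠ 0) (ζ : V) (hζ : ζ ∈ tsp F K V y v₁) :
    ∃ N : V →ₗ[F] V, HasMap M (fun x => x + N x) ∧ (∀ x, N x ∈ tsp F K V y v₁) ∧
      (∀ x, (∀ v ∈ tsp F K V y v₁, fF F B x v = 0) → N x = 0) ∧
      (∀ x x', fF F B (N x) x' = - fF F B x (N x')) ∧ N x₀ = ζ := by
  -- `f (x, y (k v₁)) = Tr (k * B (y⁻¹ x) v₁)`
  have key : ∀ (x : V) (k : K), fF F B x (y (k • v₁)) =
      Algebra.trace F K (k * B (y.symm x) v₁) := by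
    intro x k
    rw [← fF_symm_left B hM hy, fF_ksmul_right]
  have hc₀ : B (y.symm x₀) v₁ ≠ 0 := by
    intro h0
    obtain ⟨v, hv, hfv⟩ := hx₀
    obtain ⟨k, rfl⟩ := mem_tsp.mp hv
    apply hfv
    rw [key, h0, mul_zero, map_zero]
  obtain ⟨c, hcζ⟩ := mem_tsp.mp hζ
  set κ : K := c * (B (y.symm x₀) v₁)⁻¹ with hκ
  -- the element of `M`
  obtain ⟨g, hg1, hg2⟩ := hktv κ v₁
  obtain ⟨m, hm, hmg⟩ := hS g hg2
  have hmap : HasMap M (fun x => x + rootN B y v₁ κ x) := by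
    refine ⟨y * m * y⁻¹, M.mul_mem (M.mul_mem hy hm) (M.inv_mem hy), fun x => ?_⟩
    rw [LinearEquiv.mul_apply, LinearEquiv.mul_apply]
    change y (m (y.symm x)) = _
    rw [hmg]
    simp only [hg1, map_add, LinearEquiv.apply_symm_apply, rootN_apply]
  have hmem : ∀ x, rootN B y v₁ κ x ∈ tsp F K V y v₁ := by
    intro x
    rw [rootN_apply]
    exact mem_tsp.mpr ⟨_, rfl⟩
  refine ⟨rootN B y v₁ κ, hmap, hmem, ?_, ?_, ?_⟩
  · intro x hx
    have h0 : B (y.symm x) v₁ = 0 := by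
      apply B_eq_zero_of_fF (F := F) B
      intro k
      rw [fF_symm_left B hM hy]
      exact hx _ (mem_tsp.mpr ⟨k, rfl⟩)
    rw [rootN_apply, h0, mul_zero, zero_smul, map_zero]
  · intro x x'
    obtain ⟨h, hh, hhx⟩ := hmap
    have h1 := hM h hh x x'
    rw [hhx, hhx] at h1
    simp only [fF_add_left, fF_add_right] at h1
    have h2 : fF F B (rootN B y v₁ κ x) (rootN B y v₁ κ x') = 0 := by
      obtain ⟨k, hk⟩ := mem_tsp.mp (hmem x)
      obtain ⟨k', hk'⟩ := mem_tsp.mp (hmem x')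
      rw [← hk, ← hk', hM y hy, fF_ksmul_left, map_smul, smul_eq_mul, halt v₁]
      simp
    rw [h2] at h1
    linear_combination h1
  · rw [rootN_apply, hκ, mul_assoc, inv_mul_cancel₀ hc₀, mul_one]
    exact hcζ

end Cfsg.Agent.Lib.Helper2_SpExt_ROOT
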