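import Mathlib
import Cfsg.Agent.Lib.Helper98_ExtDefs

/-!
# S5886 package SK (helper43): a line-preserving `F`-linear automorphism is `K`-semilinear
-/

set_option autoImplicit false
set_option linter.unusedSectionVars false

open Cfsg.Agent.Lib.Helper98_ExtDefs

namespace Cfsg.Agent.Lib.Helper43_Ext_SK

variable {F K V : Type*} [Field F] [Field K] [Algebra F K] [AddCommGroup V] [Module F V]
  [Module K V] [IsScalarTower F K V] [Finite F] [Finite K] [Module.Finite K V]

/-- `K`-independence of a pair, in elementary form -/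
def Ind (K : Type*) {V : Type*} [Field K] [AddCommGroup V] [Module K V] (v w : V) : Prop :=
  ∀ a b : K, a • v + b • w = 0 → a = 0 ∧ b = 0

omit [Finite F] [Finite K] [Module.Finite K V] in
theorem fwd (g : V ≃ₗ[F] V)
    (h : ∀ v : V, (kline F K V v).map g.toLinearMap = kline F K V (g v)) (v : V) (k : K) :
    ∃ c : K, c • g v = g (k • v) := by
  have h1 : g (k • v) ∈ (kline F K V v).map g.toLinearMap :=
    Submodule.mem_map.mpr ⟨k • v, mem_kline.mpr ⟨k, rfl⟩, rfl⟩
  rw [h v] at h1
  exact mem_kline.mp h1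

omit [Finite F] [Finite K] [Module.Finite K V] in
theorem bwd (g : V ≃ₗ[F] V)
    (h : ∀ v : V, (kline F K V v).map g.toLinearMap = kline F K V (g v)) (v : V) (c : K) :
    ∃ k : K, g (k • v) = c • g v := by
  have h1 : c • g v ∈ kline F K V (g v) := mem_kline.mpr ⟨c, rfl⟩
  rw [← h v] at h1
  obtain ⟨z, hz, hz'⟩ := Submodule.mem_map.mp h1
  obtain ⟨k, rfl⟩ := mem_kline.mp hz
  exact ⟨k, hz'⟩

omit [Finite F] [Finite K] [Module.Finite K V] in
theorem ind_map (g : V ≃ₗ[F] V)
    (h : ∀ v : V, (kline F K V v).map g.toLinearMap = kline F K V (g v)) {v w : V}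
    (hvw : Ind K v w) : Ind K (g v) (g w) := by
  intro a b hab
  have hv : v ≠ 0 := by
    rintro rfl
    have := hvw 1 0 (by simp)
    exact one_ne_zero this.1
  have hw : w ≠ 0 := by
    rintro rfl
    have := hvw 0 1 (by simp)
    exact one_ne_zero this.2
  have hgv : g v ≠ 0 := fun h0 => hv (by simpa using h0)
  have hgw : g w ≠ 0 := fun h0 => hw (by simpa using h0)
  obtain ⟨a', ha'⟩ := bwd g h v a
  obtain ⟨b', hb'⟩ := bwd g h w b
  rw [← ha', ← hb', ← map_add] at hab
  have h0 : a' • v + b' • w = 0 := g.injective (hab.trans (map_zero g).symm)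
  obtain ⟨ha0, hb0⟩ := hvw a' b' h0
  rw [ha0, zero_smul, map_zero] at ha'
  rw [hb0, zero_smul, map_zero] at hb'
  constructor
  · rcases smul_eq_zero.mp ha'.symm with h1 | h1
    · exact h1
    · exact absurd h1 hgv
  · rcases smul_eq_zero.mp hb'.symm with h1 | h1
    · exact h1
    · exact absurd h1 hgw

omit [Finite F] [Finite K] [Module.Finite K V] in
/-- the multiplier is the same on independent vectors -/
theorem lam_eq (g : V ≃ₗ[F] V)
    (h : ∀ v : V, (kline F K V v).map g.toLinearMap = kline F K V (g v)) {v w : V}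
    (hvw : Ind K v w) (k c d : K) (hc : c • g v = g (k • v)) (hd : d • g w = g (k • w)) :
    c = d := by
  obtain ⟨e, he⟩ := fwd g h (v + w) k
  rw [smul_add, map_add, map_add, ← hc, ← hd, smul_add] at he
  have h0 : (e - c) • g v + (e - d) • g w = 0 := by
    rw [sub_smul, sub_smul]
    have : e • g v + e • g w - (c • g v + d • g w) = 0 := sub_eq_zero.mpr he
    rw [← this]
    abel
  obtain ⟨h1, h2⟩ := ind_map g h hvw _ _ h0
  rw [sub_eq_zero] at h1 h2
  rw [← h1, ← h2]

theorem SK (hm : 2 ≤ Module.finrank K V) (g : V ≃ₗ[F] V)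
    (h : ∀ v : V, (kline F K V v).map g.toLinearMap = kline F K V (g v)) :
    IsSemilin F K V g := by
  classical
  -- an independent pair
  have hpos : 0 < Module.finrank K V := by omega
  obtain ⟨v₀, hv₀⟩ : ∃ v₀ : V, v₀ ≠ 0 := by
    have : Nontrivial V := Module.nontrivial_of_finrank_pos (R := K) hpos
    exact exists_ne 0
  obtain ⟨u₀, hu₀⟩ := exists_linearIndependent_pair_of_one_lt_finrank (R := K)
    (by omega : 1 < Module.finrank K V) hv₀
  have hind : Ind K v₀ u₀ := LinearIndependent.pair_iff.mp hu₀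
  have hgv₀ : g v₀ ≠ 0 := fun h0 => hv₀ (by simpa using h0)
  -- the multiplier function
  choose lam hlam using fun (v : V) (k : K) => fwd g h v k
  -- it does not depend on the vector
  have hsame : ∀ w : V, w ≠ 0 → ∀ k : K, lam w k = lam v₀ k := by
    intro w hw k
    by_cases hdep : ∃ c : K, c • v₀ = w
    · obtain ⟨c, rfl⟩ := hdep
      have hc : c ≠ 0 := by
        rintro rfl
        exact hw (zero_smul K v₀)
      have hind2 : Ind K u₀ (c • v₀) := by
        intro a b hab
        rw [smul_smul, add_comm] at hab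
        obtain ⟨h1, h2⟩ := hind _ _ hab
        refine ⟨h2, ?_⟩
        rcases mul_eq_zero.mp h1 with h3 | h3
        · exact h3
        · exact absurd h3 hc
      have e1 : lam u₀ k = lam (c • v₀) k := lam_eq g h hind2 k _ _ (hlam _ _) (hlam _ _)
      have e2 : lam v₀ k = lam u₀ k := lam_eq g h hind k _ _ (hlam _ _) (hlam _ _)
      rw [e2, e1]
    · have hind2 : Ind K v₀ w := by
        intro a b hab
        have hb : b = 0 := by
          by_contra hb
          apply hdep
          refine ⟨-(b⁻¹ * a), ?_⟩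
          have : b • w = -(a • v₀) := eq_neg_of_add_eq_zero_right hab
          calc (-(b⁻¹ * a)) • v₀ = b⁻¹ • (-(a • v₀)) := by
                rw [neg_smul, mul_smul, smul_neg]
            _ = b⁻¹ • (b • w) := by rw [this]
            _ = w := by rw [smul_smul, inv_mul_cancel₀ hb, one_smul]
        refine ⟨?_, hb⟩
        rw [hb, zero_smul, add_zero] at hab
        rcases smul_eq_zero.mp hab with h1 | h1
        · exact h1
        · exact absurd h1 hv₀
      exact (lam_eq g h hind2 k _ _ (hlam _ _) (hlam _ _)).symm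
  have hmain : ∀ (k : K) (w : V), g (k • w) = lam v₀ k • g w := by
    intro k w
    by_cases hw : w = 0
    · subst hw
      simp
    · rw [← hsame w hw k, hlam]
  -- `lam v₀` is a ring homomorphism
  have hinj : Function.Injective fun c : K => c • g v₀ := smul_left_injective K hgv₀
  have h1 : lam v₀ 1 = 1 := by
    apply hinj
    show lam v₀ 1 • g v₀ = (1 : K) • g v₀
    rw [← hmain, one_smul, one_smul]
  have hmul : ∀ a b : K, lam v₀ (a * b) = lam v₀ a * lam v₀ b := by
    intro a b
    apply hinj
    show lam v₀ (a * b) • g v₀ = (lam v₀ a * lam v₀ b) • g v₀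
    rw [← hmain, mul_smul, hmain a, hmain b, smul_smul]
  have hadd : ∀ a b : K, lam v₀ (a + b) = lam v₀ a + lam v₀ b := by
    intro a b
    apply hinj
    show lam v₀ (a + b) • g v₀ = (lam v₀ a + lam v₀ b) • g v₀
    rw [← hmain, add_smul, map_add, hmain a, hmain b, add_smul]
  have h0 : lam v₀ 0 = 0 := by
    apply hinj
    show lam v₀ 0 • g v₀ = (0 : K) • g v₀
    rw [← hmain, zero_smul, zero_smul, map_zero]
  let σ₀ : K →+* K :=
    { toFun := lam v₀
      map_one' := h1
      map_mul' := hmul
      map_zero' := h0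
      map_add' := hadd }
  have hσinj : Function.Injective σ₀ := σ₀.injective
  have hσbij : Function.Bijective σ₀ := ⟨hσinj, Finite.injective_iff_surjective.mp hσinj⟩
  refine ⟨RingEquiv.ofBijective σ₀ hσbij, ?_⟩
  intro k v
  exact hmain k v

end Cfsg.Agent.Lib.Helper43_Ext_SK
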