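import Mathlib
import Cfsg.Agent.Lib.Helper98_ExtDefs
import Cfsg.Agent.Lib.Helper29_SpExtDefs

/-!
# S5664 package SHIFT (helper49; architect helper29)

`K`-transvections `tv B κ w : x ↦ x + (κ * B x w) • w` of an alternating form as linear
equivalences preserving the form, and the isometry fixing `δ` and shifting `u₀` by `c • δ`.
-/

set_option autoImplicit false
set_option linter.unusedVariables false
set_option linter.unusedSimpArgs false
set_option linter.unusedSectionVars false

open Cfsg.Agent.Lib.Helper98_ExtDefs Cfsg.Agent.Lib.Helper29_SpExtDefs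

namespace Cfsg.Agent.Lib.Helper49_SpExt_SHIFT

variable {F K V : Type*} [Field F] [Field K] [Algebra F K] [AddCommGroup V] [Module F V]
  [Module K V] [IsScalarTower F K V] [Finite F] [Finite K] [Module.Finite K V]

/-- the `K`-transvection as a linear map -/
noncomputable def tvLin (B : LinearMap.BilinForm K V) (κ : K) (w : V) : V →ₗ[K] V :=
  LinearMap.id + (κ • (B.flip w)).smulRight w

theorem tvLin_apply (B : LinearMap.BilinForm K V) (κ : K) (w x : V) :
    tvLin B κ w x = x + (κ * B x w) • w := by
  simp [tvLin, LinearMap.flip_apply]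

theorem tvLin_tvLin (B : LinearMap.BilinForm K V) (halt : B.IsAlt) (κ κ' : K) (w x : V) :
    tvLin B κ w (tvLin B κ' w x) = x + ((κ + κ') * B x w) • w := by
  rw [tvLin_apply, tvLin_apply, map_add, LinearMap.add_apply, map_smul, LinearMap.smul_apply,
    halt w, smul_zero, add_zero, add_assoc, ← add_smul]
  congr 2
  ring

/-- the `K`-transvection as a linear equivalence -/
noncomputable def tv (B : LinearMap.BilinForm K V) (halt : B.IsAlt) (κ : K) (w : V) :
    V ≃ₗ[K] V :=
  LinearEquiv.ofLinearMap (tvLin B κ w) (tvLin B (-κ) w)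
    (by
      ext x
      rw [LinearMap.comp_apply, tvLin_tvLin B halt, add_neg_cancel, zero_mul, zero_smul,
        add_zero, LinearMap.id_apply])
    (by
      ext x
      rw [LinearMap.comp_apply, tvLin_tvLin B halt, neg_add_cancel, zero_mul, zero_smul,
        add_zero, LinearMap.id_apply])

theorem tv_apply (B : LinearMap.BilinForm K V) (halt : B.IsAlt) (κ : K) (w x : V) :
    tv B halt κ w x = x + (κ * B x w) • w := tvLin_apply B κ w x

theorem tv_isometry (B : LinearMap.BilinForm K V) (halt : B.IsAlt) (κ : K) (w x y : V) :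
    B (tv B halt κ w x) (tv B halt κ w y) = B x y := by
  rw [tv_apply, tv_apply]
  have h1 : B w y = -B y w := (halt.neg_eq y w).symm
  simp only [map_add, LinearMap.add_apply, map_smul, LinearMap.smul_apply, smul_eq_mul, halt w,
    h1]
  ring

/-- **SHIFT**.  An isometry fixing `δ` and shifting `u₀` by `c δ`
(`δ, u₀` are `K`-independent). -/
theorem SHIFT (B : LinearMap.BilinForm K V) (halt : B.IsAlt) (hnd : B.Nondegenerate)
    (δ u₀ : V) (hδ : δ ≠ 0) (hu₀ : ∀ k : K, k • δ ≠ u₀) (c : K) :
    ∃ g : V ≃ₗ[K] V, (∀ x y, B (g x) (g y) = B x y) ∧ g δ = δ ∧ g u₀ = u₀ + c • δ := by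
  by_cases h0 : B u₀ δ = 0
  · -- a vector `u'` with `B u₀ u' = 1`, `B δ u' = 0`
    have hx : u₀ ∉ K ∙ δ := by
      intro h
      obtain ⟨k, hk⟩ := Submodule.mem_span_singleton.1 h
      exact hu₀ k hk
    obtain ⟨f, hfu, hf⟩ := Submodule.exists_dual_map_eq_bot_of_notMem hx inferInstance
    have hfδ : f δ = 0 := by
      have : f δ ∈ (K ∙ δ).map f := ⟨δ, Submodule.mem_span_singleton_self δ, rfl⟩
      rw [hf] at this
      exact (Submodule.mem_bot K).1 this
    set w : V := (B.toDual hnd).symm ((f u₀)⁻¹ • f) with hw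
    have hwv : ∀ v, B w v = (f u₀)⁻¹ * f v := by
      intro v
      rw [hw, LinearMap.BilinForm.apply_toDual_symm_apply, LinearMap.smul_apply, smul_eq_mul]
    have hwu : B w u₀ = 1 := by rw [hwv, inv_mul_cancel₀ hfu]
    have hwδ : B w δ = 0 := by rw [hwv, hfδ, mul_zero]
    have huw : B u₀ w = -1 := by rw [← halt.neg_eq w u₀, hwu]
    have hδw : B δ w = 0 := by rw [← halt.neg_eq w δ, hwδ, neg_zero]
    have hδu : B δ u₀ = 0 := by rw [← halt.neg_eq u₀ δ, h0, neg_zero]
    refine ⟨(tv B halt (-c) (-w)).trans ((tv B halt (-c) δ).trans (tv B halt c (δ + -w))),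
      ?_, ?_, ?_⟩
    · intro x y
      simp only [LinearEquiv.trans_apply]
      rw [tv_isometry, tv_isometry, tv_isometry]
    · simp only [LinearEquiv.trans_apply, tv_apply, map_add, map_neg, halt δ, hδw, neg_zero,
        mul_zero, zero_smul, add_zero]
    · simp only [LinearEquiv.trans_apply, tv_apply, map_add, map_neg, map_smul,
        LinearMap.add_apply, LinearMap.neg_apply, LinearMap.smul_apply, smul_eq_mul, halt δ,
        halt w, huw, hδw, hwδ, h0, hδu, neg_zero, mul_zero, zero_smul, add_zero, neg_neg, mul_one,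
        zero_add, mul_neg, smul_neg, neg_smul]
      module
  · refine ⟨tv B halt (c / B u₀ δ) δ, fun x y => tv_isometry B halt _ δ x y, ?_, ?_⟩
    · rw [tv_apply, halt δ, mul_zero, zero_smul, add_zero]
    · rw [tv_apply, div_mul_cancel₀ c h0]

end Cfsg.Agent.Lib.Helper49_SpExt_SHIFT
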