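import Mathlib

set_option autoImplicit false

/-!
# S5664-KTV: `K`-transvections are `K`-linear isometries of an alternating form
-/

namespace Cfsg.Agent.Lib.Helper54_SpExt_KTV

variable {K V : Type*} [Field K] [AddCommGroup V] [Module K V]

/-- the linear map `x ↦ x + (κ * B x w) • w` -/
def tvLin (B : LinearMap.BilinForm K V) (κ : K) (w : V) : V →ₗ[K] V where
  toFun x := x + (κ * B x w) • w
  map_add' x y := by
    simp only [map_add, LinearMap.add_apply, mul_add, add_smul]
    abel
  map_smul' c x := by
    simp only [map_smul, LinearMap.smul_apply, smul_eq_mul, RingHom.id_apply, smul_add, smul_smul]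
    congr 2
    ring

theorem tvLin_apply (B : LinearMap.BilinForm K V) (κ : K) (w x : V) :
    tvLin B κ w x = x + (κ * B x w) • w := rfl

theorem tvLin_comp (B : LinearMap.BilinForm K V) (halt : B.IsAlt) (κ κ' : K) (w x : V) :
    tvLin B κ w (tvLin B κ' w x) = x + ((κ + κ') * B x w) • w := by
  have h1 : B (x + (κ' * B x w) • w) w = B x w := by
    rw [map_add, LinearMap.add_apply, map_smul, LinearMap.smul_apply, halt w, smul_zero, add_zero]
  rw [tvLin_apply, tvLin_apply, h1, add_assoc, ← add_smul]
  congr 2
  ring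

/-- the transvection as a linear equivalence -/
def tvEquiv (B : LinearMap.BilinForm K V) (halt : B.IsAlt) (κ : K) (w : V) : V ≃ₗ[K] V :=
  LinearEquiv.ofLinearMap (tvLin B κ w) (tvLin B (-κ) w)
    (by
      apply LinearMap.ext
      intro x
      simp [tvLin_comp B halt])
    (by
      apply LinearMap.ext
      intro x
      simp [tvLin_comp B halt])

theorem tvEquiv_apply (B : LinearMap.BilinForm K V) (halt : B.IsAlt) (κ : K) (w x : V) :
    tvEquiv B halt κ w x = x + (κ * B x w) • w := rfl

theorem tvEquiv_isometry (B : LinearMap.BilinForm K V) (halt : B.IsAlt) (κ : K) (w x y : V) :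
    B (tvEquiv B halt κ w x) (tvEquiv B halt κ w y) = B x y := by
  have hwy : B w y = - B y w := by
    have := halt.neg_eq w y
    rw [← this]; simp
  simp only [tvEquiv_apply, map_add, LinearMap.add_apply, map_smul, LinearMap.smul_apply,
    halt w, smul_eq_mul, hwy]
  ring

/-- **KTV**.  `K`-transvections are `K`-linear isometries of `B`. -/
theorem KTV (B : LinearMap.BilinForm K V) (halt : B.IsAlt) (κ : K) (w : V) :
    ∃ g : V ≃ₗ[K] V, (∀ x, g x = x + (κ * B x w) • w) ∧ ∀ x y, B (g x) (g y) = B x y :=
  ⟨tvEquiv B halt κ w, fun x => tvEquiv_apply B halt κ w x, tvEquiv_isometry B halt κ w⟩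

end Cfsg.Agent.Lib.Helper54_SpExt_KTV
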