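import Mathlib
import Cfsg.Agent.Lib.Helper54_SpExt_KTV

set_option autoImplicit false

/-!
# S5664-TORUS: an isometry of a non-degenerate alternating form scaling a given vector
-/

namespace Cfsg.Agent.Lib.Helper54_SpExt_TORUS

open Cfsg.Agent.Lib.Helper54_SpExt_KTV

variable {K V : Type*} [Field K] [AddCommGroup V] [Module K V]

/-- a partner `v'` with `B v v' = 1` -/
theorem exists_partner (B : LinearMap.BilinForm K V) (hnd : B.Nondegenerate) (v : V) (hv : v ≠ 0) :
    ∃ v' : V, B v v' = 1 := by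
  have h1 : ∃ y, B v y ≠ 0 := by
    by_contra hcon
    push Not at hcon
    exact hv (hnd.1 v hcon)
  obtain ⟨y, hy⟩ := h1
  refine ⟨(B v y)⁻¹ • y, ?_⟩
  rw [map_smul, smul_eq_mul, inv_mul_cancel₀ hy]

/-- **TORUS**.  An isometry scaling `v₁` by `κ`. -/
theorem TORUS (B : LinearMap.BilinForm K V) (halt : B.IsAlt) (hnd : B.Nondegenerate)
    (v₁ : V) (hv₁ : v₁ ≠ 0) (κ : K) (hκ : κ ≠ 0) :
    ∃ g : V ≃ₗ[K] V, (∀ x y, B (g x) (g y) = B x y) ∧ g v₁ = κ • v₁ := by
  obtain ⟨v', hv'⟩ := exists_partner B hnd v₁ hv₁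
  have hv'1 : B v' v₁ = -1 := by
    have := halt.neg_eq v' v₁
    rw [hv'] at this
    rw [← this, neg_neg]
  refine ⟨(tvEquiv B halt 1 v').trans ((tvEquiv B halt (1 - κ) v₁).trans
    (tvEquiv B halt (-κ⁻¹) v')), ?_, ?_⟩
  · intro x y
    simp only [LinearEquiv.trans_apply, tvEquiv_isometry]
  · simp only [LinearEquiv.trans_apply]
    have e1 : tvEquiv B halt 1 v' v₁ = v₁ + v' := by
      rw [tvEquiv_apply, hv', mul_one, one_smul]
    have e2 : tvEquiv B halt (1 - κ) v₁ (v₁ + v') = κ • v₁ + v' := by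
      rw [tvEquiv_apply, map_add, LinearMap.add_apply, halt v₁, hv'1, zero_add, mul_neg, mul_one,
        neg_sub, sub_smul, one_smul]
      abel
    have e3 : tvEquiv B halt (-κ⁻¹) v' (κ • v₁ + v') = κ • v₁ := by
      rw [tvEquiv_apply, map_add, LinearMap.add_apply, halt v', add_zero, map_smul,
        LinearMap.smul_apply, hv', smul_eq_mul, mul_one, neg_mul, inv_mul_cancel₀ hκ, neg_smul,
        one_smul]
      abel
    rw [e1, e2, e3]

end Cfsg.Agent.Lib.Helper54_SpExt_TORUS
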