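import Mathlib
import Cfsg.Agent.Lib.Helper98_ExtDefs
import Cfsg.Agent.Lib.Helper29_SpExtDefs
import Cfsg.Agent.Lib.Helper59_Ext_S5a
import Cfsg.Agent.Lib.Helper59_Ext_S5b

/-!
S5664 package CFB (architect helper29): `t' ⊆ K δ + F u₀`, using that `[K : F]` is prime.
`D0 = {c : c δ ∈ t'}`; for `c ∈ D0` the shift `g_c` (fixing `K δ` pointwise, `u₀ ↦ u₀ + c δ`) lies in
`M` and sends `u₀` into `t' \ K δ`, so by `Dich` it stabilises `t'`; hence the `u₀`-coefficient of
every element of `t'` lies in the multiplier algebra of `D0`, which is `F` since the degree is prime.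
-/

set_option autoImplicit false

open Cfsg.Agent.Lib.Helper98_ExtDefs Cfsg.Agent.Lib.Helper29_SpExtDefs
open Cfsg.Agent.Lib.Helper59_Ext_S5a Cfsg.Agent.Lib.Helper59_Ext_S5b

namespace Cfsg.Agent.Lib.Helper59_SpExt_CFB

variable {F K V : Type*} [Field F] [Field K] [Algebra F K] [AddCommGroup V] [Module F V]
  [Module K V] [IsScalarTower F K V] [Finite F] [Finite K] [Module.Finite K V]

omit [Finite F] [Finite K] [Module.Finite K V] in
/-- `dim_F y (K v₁) = [K : F]` for `v₁ ≠ 0` -/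
theorem finrank_tsp (y : V ≃ₗ[F] V) {v₁ : V} (hv₁ : v₁ ≠ 0) :
    Module.finrank F (tsp F K V y v₁) = Module.finrank F K := by
  unfold tsp
  rw [LinearEquiv.finrank_map_eq y, finrank_kline hv₁]

theorem CFB (hr : (Module.finrank F K).Prime)
    (B : LinearMap.BilinForm K V) (M : Subgroup (V ≃ₗ[F] V)) (hS : SpHyp F B M)
    (y : V ≃ₗ[F] V) (v₁ δ u₀ : V) (hv₁ : v₁ ≠ 0) (hδ : δ ≠ 0) (hδt : δ ∈ tsp F K V y v₁)
    (hne : tsp F K V y v₁ ≠ kline F K V δ) (hd : Dich F K V M y v₁ δ)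
    (hu₀t : u₀ ∈ tsp F K V y v₁) (hu₀ : u₀ ∉ kline F K V δ)
    (hshift : ∀ c : K, ∃ g : V ≃ₗ[K] V, (∀ x y, B (g x) (g y) = B x y) ∧ g δ = δ ∧
      g u₀ = u₀ + c • δ)
    (hW : ∀ u ∈ tsp F K V y v₁, ∃ α γ : K, u = α • δ + γ • u₀) :
    tsp F K V y v₁ ≤ kline F K V δ ⊔ Submodule.span F {u₀} := by
  classical
  have hfinV : Finite V := Module.finite_of_finite K
  have hfin : Module.finrank F (tsp F K V y v₁) = Module.finrank F K := finrank_tsp y hv₁
  have hfinl : Module.finrank F (kline F K V δ) = Module.finrank F K := finrank_kline hδ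
  -- `K δ ⊄ t'`
  have hnge : ¬ kline F K V δ ≤ tsp F K V y v₁ := by
    intro hle
    exact hne (Submodule.eq_of_le_of_finrank_eq hle (hfinl.trans hfin.symm)).symm
  set D0 : Submodule F K := (tsp F K V y v₁).comap (smulMap F δ) with hD0
  have hD0mem : ∀ κ : K, κ ∈ D0 ↔ κ • δ ∈ tsp F K V y v₁ := fun κ => Iff.rfl
  have h1D0 : (1 : K) ∈ D0 := by
    rw [hD0mem, one_smul]; exact hδt
  obtain ⟨κ₀, hκ₀⟩ : ∃ κ : K, κ ∉ D0 := by
    by_contra hall
    push Not at hall
    apply hnge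
    intro x hx
    obtain ⟨k, rfl⟩ := mem_kline.1 hx
    exact (hD0mem k).1 (hall k)
  -- the `u₀`-coefficient multiplies `D0` into itself
  have hC : ∀ (α γ : K), α • δ + γ • u₀ ∈ tsp F K V y v₁ → γ ∈ multAlg D0 := by
    intro α γ hu c hc
    obtain ⟨g, hgB, hgδ, hgu⟩ := hshift c
    obtain ⟨x, hxM, hx'⟩ := hS g hgB
    have hx : ∀ a : V, x a = g a := hx'
    have hfix : ∀ u ∈ kline F K V δ ⊓ tsp F K V y v₁, x u = u := by
      intro u hu
      obtain ⟨k, rfl⟩ := mem_kline.1 (Submodule.mem_inf.1 hu).1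
      rw [hx, map_smul, hgδ]
    have hcδ : c • δ ∈ tsp F K V y v₁ := (hD0mem c).1 hc
    rcases hd x hxM hfix with h | h
    · have h1 := h _ hu
      rw [hx, map_add, map_smul, map_smul, hgδ, hgu, smul_add, ← add_assoc, smul_smul] at h1
      have h2 := Submodule.sub_mem _ h1 hu
      rw [add_sub_cancel_left] at h2
      exact (hD0mem _).2 h2
    · exfalso
      have h1 : x u₀ ∈ tsp F K V y v₁ := by
        rw [hx, hgu]
        exact Submodule.add_mem _ hu₀t hcδ
      have h2 := h u₀ hu₀t h1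
      rw [hx, hgu] at h2
      have h3 := Submodule.sub_mem _ h2 (mem_kline.2 ⟨c, rfl⟩)
      rw [add_sub_cancel_right] at h3
      exact hu₀ h3
  have hsimple := Subalgebra.isSimpleOrder_of_finrank_prime F K hr
  have hL : multAlg D0 = ⊥ := by
    rcases hsimple.eq_bot_or_eq_top (multAlg D0) with h | h
    · exact h
    · exfalso
      apply hκ₀
      have : κ₀ ∈ multAlg D0 := by rw [h]; exact Algebra.mem_top
      have h2 := this 1 h1D0
      rwa [mul_one] at h2
  intro u hu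
  obtain ⟨α, γ, rfl⟩ := hW u hu
  have hγ := hC α γ hu
  rw [hL, Algebra.mem_bot] at hγ
  obtain ⟨b, rfl⟩ := hγ
  rw [algebraMap_smul]
  exact Submodule.add_mem_sup (mem_kline.2 ⟨α, rfl⟩)
    (Submodule.smul_mem _ b (Submodule.mem_span_singleton_self u₀))

end Cfsg.Agent.Lib.Helper59_SpExt_CFB
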