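import Mathlib
import Cfsg.Agent.Lib.Helper98_ExtDefs
import Cfsg.Agent.Lib.Helper29_SpExtDefs
import Cfsg.Agent.Lib.Helper59_Ext_S5a

/-!
S5664 package S5A (architect helper29): the maximal-intersection argument, with the dichotomy
`Dich` as output (no form, no transvection hypothesis).
`𝒯 = { g (K w) : g ∈ M, w ≠ 0 }`; two distinct members with intersection of maximal dimension
give, after translation, a `K`-line `K δ` and `t' = y (K v₁)`; an element of `M` fixing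
`K δ ∩ t'` pointwise either stabilises `t'` or sends no vector of `t'` into `t' \ K δ`.
-/

set_option autoImplicit false

open Cfsg.Agent.Lib.Helper98_ExtDefs Cfsg.Agent.Lib.Helper29_SpExtDefs
open Cfsg.Agent.Lib.Helper59_Ext_S5a

namespace Cfsg.Agent.Lib.Helper59_SpExt_S5A

variable {F K V : Type*} [Field F] [Field K] [Algebra F K] [AddCommGroup V] [Module F V]
  [Module K V] [IsScalarTower F K V] [Finite F] [Finite K] [Module.Finite K V]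

theorem S5A (M : Subgroup (V ≃ₗ[F] V)) (g₀ : V ≃ₗ[F] V) (hg₀ : g₀ ∈ M) (v₀ : V)
    (hv₀ : (kline F K V v₀).map g₀.toLinearMap ≠ kline F K V (g₀ v₀)) :
    ∃ y ∈ M, ∃ v₁ δ : V, v₁ ≠ 0 ∧ δ ≠ 0 ∧ δ ∈ tsp F K V y v₁ ∧ tsp F K V y v₁ ≠ kline F K V δ ∧
      Dich F K V M y v₁ δ := by
  classical
  have hfinV : Finite V := Module.finite_of_finite K
  have hv₀0 : v₀ ≠ 0 := by
    rintro rfl
    apply hv₀
    rw [map_zero, kline_zero, Submodule.map_bot]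
  have hgv₀0 : g₀ v₀ ≠ 0 := by
    intro h
    exact hv₀0 (g₀.map_eq_zero_iff.1 h)
  set fam : Set (Submodule F V) := {s | ∃ g ∈ M, ∃ w : V, w ≠ 0 ∧ s = tsp F K V g w} with hfam
  set S : Set ℕ :=
    {d | ∃ s1 ∈ fam, ∃ s2 ∈ fam, s1 ≠ s2 ∧ Module.finrank F ↥(s1 ⊓ s2) = d} with hS
  have hbdd : BddAbove S := by
    refine ⟨Module.finrank F V, ?_⟩
    rintro d ⟨s1, -, s2, -, -, rfl⟩
    exact Submodule.finrank_le _
  -- the initial pair
  have h0 : ∃ d ∈ S, 1 ≤ d := by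
    refine ⟨_, ⟨tsp F K V g₀ v₀, ⟨g₀, hg₀, v₀, hv₀0, rfl⟩, kline F K V (g₀ v₀),
      ⟨1, M.one_mem, g₀ v₀, hgv₀0, (tsp_one _).symm⟩, hv₀, rfl⟩, ?_⟩
    rw [Nat.one_le_iff_ne_zero, ← Nat.pos_iff_ne_zero, Module.finrank_pos_iff_exists_ne_zero]
    refine ⟨⟨g₀ v₀, ?_, ?_⟩, ?_⟩
    · exact mem_tsp.2 ⟨1, by rw [one_smul]⟩
    · exact mem_kline.2 ⟨1, one_smul _ _⟩
    · intro h
      exact hgv₀0 (congrArg Subtype.val h)
  obtain ⟨d₀, hd₀S, hd₀⟩ := h0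
  have hdS : sSup S ∈ S := Nat.sSup_mem ⟨d₀, hd₀S⟩ hbdd
  have hmax : ∀ d' ∈ S, d' ≤ sSup S := fun d' h => le_csSup hbdd h
  obtain ⟨t1, ⟨g1, hg1, w1, hw1, rfl⟩, t2, ⟨g2, hg2, w2, hw2, rfl⟩, hne12, hd⟩ := hdS
  have hd1 : 0 < Module.finrank F ↥(tsp F K V g1 w1 ⊓ tsp F K V g2 w2) := by
    rw [hd]
    exact lt_of_lt_of_le (Nat.lt_of_lt_of_le Nat.zero_lt_one hd₀) (hmax d₀ hd₀S)
  obtain ⟨⟨z, hz⟩, hz0⟩ := Module.finrank_pos_iff_exists_ne_zero.1 hd1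
  have hz0' : z ≠ 0 := by
    intro h
    apply hz0
    exact Subtype.ext h
  obtain ⟨hz1, hz2⟩ := Submodule.mem_inf.1 hz
  obtain ⟨k1, hk1⟩ := mem_tsp.1 hz1
  obtain ⟨k2, hk2⟩ := mem_tsp.1 hz2
  have hyM : g2⁻¹ * g1 ∈ M := M.mul_mem (M.inv_mem hg2) hg1
  have hδ0 : g2⁻¹ z ≠ 0 := by
    intro h
    exact hz0' ((g2⁻¹).map_eq_zero_iff.1 h)
  have hδt : g2⁻¹ z ∈ tsp F K V (g2⁻¹ * g1) w1 := by
    refine mem_tsp.2 ⟨k1, ?_⟩
    rw [← hk1]
    rfl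
  have hδl : g2⁻¹ z ∈ kline F K V w2 := by
    refine mem_kline.2 ⟨k2, ?_⟩
    rw [← hk2]
    exact (g2.symm_apply_apply _).symm
  have hkl : kline F K V w2 = kline F K V (g2⁻¹ z) := kline_eq_of_mem hδ0 hδl
  -- images under `g2⁻¹`
  have hm1 : (tsp F K V g1 w1).map (g2⁻¹).toLinearMap = tsp F K V (g2⁻¹ * g1) w1 := map_tsp _ _ _
  have hm2 : (tsp F K V g2 w2).map (g2⁻¹).toLinearMap = kline F K V (g2⁻¹ z) := by
    rw [map_tsp, inv_mul_cancel, tsp_one, hkl]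
  have hD : Module.finrank F ↥(kline F K V (g2⁻¹ z) ⊓ tsp F K V (g2⁻¹ * g1) w1) = sSup S := by
    rw [← hd, ← hm1, ← hm2, inf_comm, ← Submodule.map_inf _ (g2⁻¹).injective]
    exact LinearEquiv.finrank_map_eq (g2⁻¹) _
  refine ⟨g2⁻¹ * g1, hyM, w1, g2⁻¹ z, hw1, hδ0, hδt, ?_, ?_⟩
  · intro h
    apply hne12
    have h2 := congrArg (Submodule.map g2.toLinearMap) h
    rw [map_tsp, mul_inv_cancel_left, ← hkl] at h2
    exact h2
  · intro x hxM hfix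
    have hxt : (tsp F K V (g2⁻¹ * g1) w1).map x.toLinearMap = tsp F K V (x * (g2⁻¹ * g1)) w1 :=
      map_tsp _ _ _
    by_cases heqt : tsp F K V (x * (g2⁻¹ * g1)) w1 = tsp F K V (g2⁻¹ * g1) w1
    · left
      intro u hu
      rw [← heqt, ← hxt]
      exact Submodule.mem_map_of_mem hu
    · right
      have hle : Module.finrank F ↥(tsp F K V (x * (g2⁻¹ * g1)) w1 ⊓ tsp F K V (g2⁻¹ * g1) w1) ≤
          sSup S := by
        apply hmax
        exact ⟨_, ⟨x * (g2⁻¹ * g1), M.mul_mem hxM hyM, w1, hw1, rfl⟩, _,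
          ⟨g2⁻¹ * g1, hyM, w1, hw1, rfl⟩, heqt, rfl⟩
      have hsub : kline F K V (g2⁻¹ z) ⊓ tsp F K V (g2⁻¹ * g1) w1 ≤
          tsp F K V (x * (g2⁻¹ * g1)) w1 ⊓ tsp F K V (g2⁻¹ * g1) w1 := by
        intro a ha
        have ha2 : a ∈ tsp F K V (g2⁻¹ * g1) w1 := (Submodule.mem_inf.1 ha).2
        refine Submodule.mem_inf.2 ⟨?_, ha2⟩
        have hxa : x a = a := hfix a ha
        rw [← hxt, ← hxa]
        exact Submodule.mem_map_of_mem ha2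
      have heq : kline F K V (g2⁻¹ z) ⊓ tsp F K V (g2⁻¹ * g1) w1 =
          tsp F K V (x * (g2⁻¹ * g1)) w1 ⊓ tsp F K V (g2⁻¹ * g1) w1 :=
        Submodule.eq_of_le_of_finrank_le hsub (hle.trans_eq hD.symm)
      intro u hut hxu
      have h1 : x u ∈ tsp F K V (x * (g2⁻¹ * g1)) w1 := by
        rw [← hxt]
        exact Submodule.mem_map_of_mem hut
      have h3 : x u ∈ kline F K V (g2⁻¹ z) ⊓ tsp F K V (g2⁻¹ * g1) w1 := by
        rw [heq]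
        exact Submodule.mem_inf.2 ⟨h1, hxu⟩
      exact (Submodule.mem_inf.1 h3).1

end Cfsg.Agent.Lib.Helper59_SpExt_S5A
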