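import Mathlib
import Cfsg.Agent.Lib.Helper98_ExtDefs
import Cfsg.Agent.Lib.Helper29_SpExtDefs

/-!
# S5664-Q2R2 (helper82, for helper29's S5664 market)

`|F| = 2`, `|K| = 4`, `dim_K V ≥ 3`: from the configuration and the pair-products of PAIR, the
seven-transvection relation on a totally isotropic `F₂`-3-space produces an `F`-transvection in `M`.
-/

set_option autoImplicit false
set_option linter.unusedSectionVars false

namespace Cfsg.Agent.Lib.Helper82_SpExt_Q2R2

open Cfsg.Agent.Lib.Helper98_ExtDefs Cfsg.Agent.Lib.Helper29_SpExtDefs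

variable {F K V : Type*} [Field F] [Field K] [Algebra F K] [AddCommGroup V] [Module F V]
  [Module K V] [IsScalarTower F K V]

section basic

variable (B : LinearMap.BilinForm K V)

theorem fF_add_left (x x' v : V) : fF F B (x + x') v = fF F B x v + fF F B x' v := by
  simp [fF]

theorem fF_add_right (x v v' : V) : fF F B x (v + v') = fF F B x v + fF F B x v' := by
  simp [fF]

theorem fF_zero_left (v : V) : fF F B 0 v = 0 := by
  simp [fF]

theorem fF_zero_right (x : V) : fF F B x 0 = 0 := by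
  simp [fF]

theorem fF_smul_left (s : F) (x v : V) : fF F B (s • x) v = s * fF F B x v := by
  unfold fF
  rw [← algebraMap_smul K s x, map_smul, LinearMap.smul_apply, algebraMap_smul, map_smul,
    smul_eq_mul]

theorem fF_smul_right (s : F) (x v : V) : fF F B x (s • v) = s * fF F B x v := by
  unfold fF
  rw [← algebraMap_smul K s v, map_smul, algebraMap_smul, map_smul, smul_eq_mul]

theorem fF_self (halt : B.IsAlt) (v : V) : fF F B v v = 0 := by
  simp [fF, halt v]

theorem fF_swap (halt : B.IsAlt) (u v : V) : fF F B v u = - fF F B u v := by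
  unfold fF
  rw [← halt.neg_eq u v, map_neg]

/-- `f` vanishes on the `F`-span of three pairwise `f`-orthogonal vectors -/
theorem fF_span_zero (halt : B.IsAlt) (a b c : V) (hab : fF F B a b = 0) (hac : fF F B a c = 0)
    (hbc : fF F B b c = 0) :
    ∀ u ∈ Submodule.span F ({a, b, c} : Set V), ∀ v ∈ Submodule.span F ({a, b, c} : Set V),
      fF F B u v = 0 := by
  intro u hu v hv
  induction hu, hv using Submodule.span_induction₂ with
  | mem_mem x y hx hy =>
    simp only [Set.mem_insert_iff, Set.mem_singleton_iff] at hx hy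
    rcases hx with rfl | rfl | rfl <;> rcases hy with rfl | rfl | rfl
    · exact fF_self B halt _
    · exact hab
    · exact hac
    · rw [fF_swap B halt, hab, neg_zero]
    · exact fF_self B halt _
    · exact hbc
    · rw [fF_swap B halt, hac, neg_zero]
    · rw [fF_swap B halt, hbc, neg_zero]
    · exact fF_self B halt _
  | zero_left y hy => exact fF_zero_left B y
  | zero_right x hx => exact fF_zero_right B x
  | add_left x y z hx hy hz h1 h2 => rw [fF_add_left, h1, h2, add_zero]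
  | add_right x y z hx hy hz h1 h2 => rw [fF_add_right, h1, h2, add_zero]
  | smul_left r x y hx hy h => rw [fF_smul_left, h, mul_zero]
  | smul_right r x y hx hy h => rw [fF_smul_right, h, mul_zero]

/-- the product of three commuting pair-products -/
theorem triple_prod (M : Subgroup (V ≃ₗ[F] V))
    (T : Submodule F V) (hT : ∀ u ∈ T, ∀ v ∈ T, fF F B u v = 0)
    (p1 q1 p2 q2 p3 q3 w : V) (hp1 : p1 ∈ T) (hq1 : q1 ∈ T) (hp2 : p2 ∈ T) (hq2 : q2 ∈ T)
    (hp3 : p3 ∈ T) (hq3 : q3 ∈ T)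
    (hseven : ∀ x, fF F B x p1 • p1 + fF F B x q1 • q1 + (fF F B x p2 • p2 + fF F B x q2 • q2)
       + (fF F B x p3 • p3 + fF F B x q3 • q3) = fF F B x w • w)
    (h1 : HasMap M (fun x => x + fF F B x p1 • p1 + fF F B x q1 • q1))
    (h2 : HasMap M (fun x => x + fF F B x p2 • p2 + fF F B x q2 • q2))
    (h3 : HasMap M (fun x => x + fF F B x p3 • p3 + fF F B x q3 • q3)) :
    HasMap M (fun x => x + fF F B x w • w) := by
  obtain ⟨g1, hg1, e1⟩ := h1
  obtain ⟨g2, hg2, e2⟩ := h2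
  obtain ⟨g3, hg3, e3⟩ := h3
  refine ⟨g1 * g2 * g3, M.mul_mem (M.mul_mem hg1 hg2) hg3, fun x => ?_⟩
  simp only [LinearEquiv.mul_apply]
  rw [e3, e2, e1]
  simp only [fF_add_left, fF_smul_left, hT _ hp3 _ hp2, hT _ hq3 _ hp2, hT _ hp3 _ hq2,
    hT _ hq3 _ hq2, hT _ hp3 _ hp1, hT _ hq3 _ hp1, hT _ hp3 _ hq1, hT _ hq3 _ hq1,
    hT _ hp2 _ hp1, hT _ hq2 _ hp1, hT _ hp2 _ hq1, hT _ hq2 _ hq1, mul_zero, add_zero]
  rw [← hseven x]
  abel

/-- the seven-vector relation, arrangement of three lines through `a` -/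
theorem seven1 (h2 : (2 : F) = 0) (a b c x : V) :
    fF F B x b • b + fF F B x (a + b) • (a + b) + (fF F B x c • c + fF F B x (a + c) • (a + c))
      + (fF F B x (c + b) • (c + b) + fF F B x (a + (c + b)) • (a + (c + b)))
      = fF F B x a • a := by
  simp only [fF_add_right]
  generalize fF F B x a = α
  generalize fF F B x b = β
  generalize fF F B x c = γ
  linear_combination (norm := module) (α + β + γ) • h2 • a + (α + 2 * β + γ) • h2 • b
    + (α + β + 2 * γ) • h2 • c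

/-- the seven-vector relation, triangle arrangement -/
theorem seven2 (h2 : (2 : F) = 0) (a b c x : V) :
    fF F B x a • a + fF F B x b • b + (fF F B x c • c + fF F B x (a + c) • (a + c))
      + (fF F B x (b + c) • (b + c) + fF F B x (a + b) • (a + b))
      = fF F B x (a + b + c) • (a + b + c) := by
  simp only [fF_add_right]
  generalize fF F B x a = α
  generalize fF F B x b = β
  generalize fF F B x c = γ
  linear_combination (norm := module) α • h2 • a + β • h2 • b + γ • h2 • c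

theorem mem_tsp_mul (m y : V ≃ₗ[F] V) (v₁ u : V) (hu : u ∈ tsp F K V y v₁) :
    m u ∈ tsp F K V (m * y) v₁ := by
  obtain ⟨k, rfl⟩ := mem_tsp.mp hu
  exact mem_tsp.mpr ⟨k, rfl⟩

end basic

section main

variable [Finite F] [Finite K] [Module.Finite K V]

/-- **Q2R2**.  `|F| = 2`, `|K| = 4`, `dim_K V ≥ 3`: the seven-transvection relation
on a totally isotropic `F₂`-3-space. -/
theorem Q2R2 (hq : Nat.card F = 2) (hr : Module.finrank F K = 2) (hm : 3 ≤ Module.finrank K V)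
    (B : LinearMap.BilinForm K V) (halt : B.IsAlt)
    (hnd : B.Nondegenerate) (M : Subgroup (V ≃ₗ[F] V)) (hM : MSp F B M) (hS : SpHyp F B M)
    (y : V ≃ₗ[F] V) (v₁ δ u₀ : V) (hc : Config F K V M y v₁ δ u₀)
    (hshift : ∀ c : K, ∃ g : V ≃ₗ[K] V, (∀ x y, B (g x) (g y) = B x y) ∧ g δ = δ ∧
      g u₀ = u₀ + c • δ)
    (hhyp : ∀ a b a' b' : V, B a b = 1 → B a' b' = 1 →
      ∃ g : V ≃ₗ[K] V, (∀ x y, B (g x) (g y) = B x y) ∧ g a = a' ∧ g b = b')
    (hpair : ∀ y' : V ≃ₗ[F] V, y' ∈ M → ∀ a b : V, a ∈ tsp F K V y' v₁ → b ∈ tsp F K V y' v₁ →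
      a ≠ 0 → b ≠ 0 → a ≠ b → HasMap M (fun x => x + fF F B x a • a + fF F B x b • b)) :
    HasFtv F B M := by
  classical
  -- characteristic 2
  have h2F : (2 : F) = 0 := by
    have := Fintype.ofFinite F
    have h := Nat.cast_card_eq_zero F
    rw [← Nat.card_eq_fintype_card, hq] at h
    exact_mod_cast h
  have h2K : (2 : K) = 0 := by
    have h : algebraMap F K 2 = algebraMap F K 0 := congrArg _ h2F
    rw [map_ofNat, map_zero] at h
    exact h
  have hVV : ∀ v : V, v + v = 0 := fun v => by rw [← two_smul F v, h2F, zero_smul]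
  have hneg1 : (-1 : K) = 1 := by
    rw [neg_eq_iff_add_eq_zero, one_add_one_eq_two]; exact h2K
  have htr1 : Algebra.trace F K (1 : K) = 0 := by
    have h := Algebra.trace_algebraMap (R := F) (S := K) (1 : F)
    rw [map_one, hr] at h
    rw [h, two_nsmul, one_add_one_eq_two]; exact h2F
  obtain ⟨hy, hv₁, hδ, hδt, hu₀t, hu₀, hle⟩ := hc
  -- total isotropy of `t'`
  have hiso : ∀ u ∈ tsp F K V y v₁, ∀ v ∈ tsp F K V y v₁, fF F B u v = 0 := by
    intro u hu v hv
    obtain ⟨k, rfl⟩ := mem_tsp.mp hu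
    obtain ⟨k', rfl⟩ := mem_tsp.mp hv
    rw [hM y hy]
    simp [fF, halt v₁]
  have hδu : fF F B δ u₀ = 0 := hiso δ hδt u₀ hu₀t
  have hβ : B δ u₀ = 0 ∨ B δ u₀ = 1 := by
    have h := FiniteField.algebraMap_trace_eq_sum_pow F K (B δ u₀)
    have h' : Algebra.trace F K (B δ u₀) = 0 := hδu
    rw [h', map_zero, hr, hq] at h
    simp only [Finset.sum_range_succ, Finset.sum_range_zero, pow_zero, pow_one, zero_add] at h
    have h3 : B δ u₀ * (B δ u₀ + 1) = 0 := by linear_combination -h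
    rcases mul_eq_zero.mp h3 with h0 | h1
    · exact Or.inl h0
    · right
      have : B δ u₀ = -1 := eq_neg_of_add_eq_zero_left h1
      rw [this, hneg1]
  have hu₀' : ∀ k : K, k • δ ≠ u₀ := fun k hk => hu₀ (mem_kline.mpr ⟨k, hk⟩)
  have hu₀0 : u₀ ≠ 0 := fun h => hu₀' 0 (by rw [zero_smul, h])
  have hδu_ne : δ ≠ u₀ := fun h => hu₀' 1 (by rw [one_smul, h])
  have hdual : ∀ v : V, v ≠ 0 → ∃ v' : V, B v v' = 1 := by
    intro v hv
    by_contra hcon
    push Not at hcon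
    apply hv
    apply hnd.1
    intro n
    by_contra hn
    exact hcon ((B v n)⁻¹ • n) (by rw [map_smul, smul_eq_mul, inv_mul_cancel₀ hn])
  have pairc : ∀ m ∈ M, ∀ a b : V, a ∈ tsp F K V y v₁ → b ∈ tsp F K V y v₁ → a ≠ 0 → b ≠ 0 →
      a ≠ b → HasMap M (fun x => x + fF F B x (m a) • m a + fF F B x (m b) • m b) := by
    intro m hm a b ha hb ha0 hb0 hab
    exact hpair (m * y) (M.mul_mem hm hy) (m a) (m b) (mem_tsp_mul m y v₁ a ha)
      (mem_tsp_mul m y v₁ b hb) ((LinearEquiv.map_ne_zero_iff m).mpr ha0)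
      ((LinearEquiv.map_ne_zero_iff m).mpr hb0) (fun h => hab (m.injective h))
  have hδu0 : δ + u₀ ≠ 0 := fun h => hu₀' (-1) (by
    rw [neg_smul, one_smul, eq_neg_of_add_eq_zero_right h])
  have hu_ne : u₀ ≠ δ + u₀ := fun h => hδ (by simpa using h)
  rcases hβ with hβ0 | hβ1
  · -- case `B δ u₀ = 0`
    obtain ⟨ω, hω0, hω1⟩ : ∃ ω : K, ω ≠ 0 ∧ ω ≠ 1 := by
      have hcard : Nat.card K = 4 := by
        rw [Module.natCard_eq_pow_finrank (K := F) (V := K), hq, hr]; norm_num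
      by_contra hcon
      push Not at hcon
      have := Fintype.ofFinite K
      have : Fintype.card K ≤ 2 := by
        calc Fintype.card K = (Finset.univ : Finset K).card := rfl
          _ ≤ ({0, 1} : Finset K).card := Finset.card_le_card (fun k _ => by
              by_cases h : k = 0
              · simp [h]
              · simp [hcon k h])
          _ ≤ 2 := Finset.card_le_two
      rw [Nat.card_eq_fintype_card] at hcard
      omega
    obtain ⟨v₁', hv₁'⟩ := hdual v₁ hv₁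
    obtain ⟨δ', hδ'⟩ := hdual δ hδ
    obtain ⟨g₁, hg₁iso, hg₁v, -⟩ := hhyp v₁ v₁' δ δ' hv₁' hδ'
    obtain ⟨m₁, hm₁M, hm₁'⟩ := hS g₁ hg₁iso
    have hm₁ : ∀ x, m₁ x = g₁ x := hm₁'
    obtain ⟨g₃, hg₃iso, hg₃δ, hg₃u⟩ := hshift ω
    obtain ⟨m₃, hm₃M, hm₃'⟩ := hS g₃ hg₃iso
    have hm₃ : ∀ x, m₃ x = g₃ x := hm₃'
    have hT := fF_span_zero (F := F) B halt δ (ω • δ) u₀
      (by simp [fF, halt δ]) hδu (by simp [fF, hβ0])
    have h1ω : (1 : K) + ω ≠ 0 := by
      intro h
      apply hω1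
      have : ω = -1 := eq_neg_of_add_eq_zero_right h
      rw [this, hneg1]
    have P1 := hpair m₁ hm₁M (ω • δ) (δ + ω • δ)
      (mem_tsp.mpr ⟨ω, by rw [hm₁, map_smul, hg₁v]⟩)
      (mem_tsp.mpr ⟨1 + ω, by rw [hm₁, map_smul, hg₁v, add_smul, one_smul]⟩)
      (smul_ne_zero hω0 hδ)
      (by
        have : δ + ω • δ = (1 + ω) • δ := by rw [add_smul, one_smul]
        rw [this]; exact smul_ne_zero h1ω hδ)
      (fun h => hδ (by simpa using h))
    have P2 := hpair y hy u₀ (δ + u₀) hu₀t (add_mem hδt hu₀t) hu₀0 hδu0 hu_ne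
    have P3 := pairc m₃ hm₃M u₀ (δ + u₀) hu₀t (add_mem hδt hu₀t) hu₀0 hδu0 hu_ne
    simp only [hm₃, map_add, hg₃δ, hg₃u] at P3
    have hmδ : δ ∈ Submodule.span F ({δ, ω • δ, u₀} : Set V) :=
      Submodule.subset_span (by simp)
    have hmω : ω • δ ∈ Submodule.span F ({δ, ω • δ, u₀} : Set V) :=
      Submodule.subset_span (by simp)
    have hmu : u₀ ∈ Submodule.span F ({δ, ω • δ, u₀} : Set V) :=
      Submodule.subset_span (by simp)
    obtain ⟨g, hgM, hg⟩ := triple_prod B M _ hT (ω • δ) (δ + ω • δ) u₀ (δ + u₀) (u₀ + ω • δ)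
      (δ + (u₀ + ω • δ)) δ hmω (add_mem hmδ hmω) hmu (add_mem hmδ hmu) (add_mem hmu hmω)
      (add_mem hmδ (add_mem hmu hmω)) (seven1 B h2F δ (ω • δ) u₀) P1 P2 P3
    exact ⟨1, δ, one_ne_zero, hδ, g, hgM, fun x => by simp only [hg x, one_mul]⟩
  · -- case `B δ u₀ = 1`
    obtain ⟨w', hw'0, hw'δ, hw'u⟩ : ∃ w' : V, w' ≠ 0 ∧ B δ w' = 0 ∧ B u₀ w' = 0 := by
      let L : V →ₗ[K] (K × K) := (B δ).prod (B u₀)
      have hker : LinearMap.ker L ≠ ⊥ := by
        apply LinearMap.ker_ne_bot_of_finrank_lt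
        rw [Module.finrank_prod, Module.finrank_self]; omega
      obtain ⟨w', hw'mem, hw'0⟩ := Submodule.exists_mem_ne_zero_of_ne_bot hker
      rw [LinearMap.mem_ker] at hw'mem
      have h1 : B δ w' = 0 := congrArg Prod.fst hw'mem
      have h2 : B u₀ w' = 0 := congrArg Prod.snd hw'mem
      exact ⟨w', hw'0, h1, h2⟩
    obtain ⟨c, hcdef⟩ : ∃ c : V, c = δ + u₀ + w' := ⟨_, rfl⟩
    have hBuδ : B u₀ δ = 1 := by rw [← halt.neg_eq δ u₀, hβ1, hneg1]
    have hBδc : B δ c = 1 := by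
      rw [hcdef, map_add, map_add, halt δ, hβ1, hw'δ, zero_add, add_zero]
    have hBu₀c : B u₀ c = 1 := by
      rw [hcdef, map_add, map_add, halt u₀, hBuδ, hw'u, add_zero, add_zero]
    have hBcδ : B c δ = 1 := by rw [← halt.neg_eq δ c, hBδc, hneg1]
    have hBcu : B c u₀ = 1 := by rw [← halt.neg_eq u₀ c, hBu₀c, hneg1]
    have hB2 : B c (δ + c) = 1 := by rw [map_add, hBcδ, halt c, add_zero]
    have hB3 : B (u₀ + c) (δ + u₀) = 1 := by
      simp only [map_add, LinearMap.add_apply]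
      rw [hBuδ, halt u₀, hBcδ, hBcu]
      linear_combination h2K
    obtain ⟨g₂, hg₂iso, hg₂δ, hg₂u⟩ := hhyp δ u₀ c (δ + c) hβ1 hB2
    obtain ⟨m₂, hm₂M, hm₂'⟩ := hS g₂ hg₂iso
    have hm₂ : ∀ x, m₂ x = g₂ x := hm₂'
    obtain ⟨g₃, hg₃iso, hg₃δ, hg₃u⟩ := hhyp δ u₀ (u₀ + c) (δ + u₀) hβ1 hB3
    obtain ⟨m₃, hm₃M, hm₃'⟩ := hS g₃ hg₃iso
    have hm₃ : ∀ x, m₃ x = g₃ x := hm₃'
    have P1 := hpair y hy δ u₀ hδt hu₀t hδ hu₀0 hδu_ne
    have P2 := pairc m₂ hm₂M δ u₀ hδt hu₀t hδ hu₀0 hδu_ne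
    simp only [hm₂, hg₂δ, hg₂u] at P2
    have P3 := pairc m₃ hm₃M δ u₀ hδt hu₀t hδ hu₀0 hδu_ne
    simp only [hm₃, hg₃δ, hg₃u] at P3
    have hT := fF_span_zero (F := F) B halt δ u₀ c hδu
      (by unfold fF; rw [hBδc, htr1]) (by unfold fF; rw [hBu₀c, htr1])
    have hmδ : δ ∈ Submodule.span F ({δ, u₀, c} : Set V) := Submodule.subset_span (by simp)
    have hmu : u₀ ∈ Submodule.span F ({δ, u₀, c} : Set V) := Submodule.subset_span (by simp)
    have hmc : c ∈ Submodule.span F ({δ, u₀, c} : Set V) := Submodule.subset_span (by simp)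
    obtain ⟨g, hgM, hg⟩ := triple_prod B M _ hT δ u₀ c (δ + c) (u₀ + c) (δ + u₀) (δ + u₀ + c)
      hmδ hmu hmc (add_mem hmδ hmc) (add_mem hmu hmc) (add_mem hmδ hmu)
      (seven2 B h2F δ u₀ c) P1 P2 P3
    have hw : δ + u₀ + c = w' := by
      rw [hcdef]
      calc δ + u₀ + (δ + u₀ + w') = ((δ + u₀) + (δ + u₀)) + w' := by abel
        _ = w' := by rw [hVV, zero_add]
    refine ⟨1, δ + u₀ + c, one_ne_zero, ?_, g, hgM, fun x => by simp only [hg x, one_mul]⟩
    rw [hw]; exact hw'0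

end main

end Cfsg.Agent.Lib.Helper82_SpExt_Q2R2
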