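import Mathlib
import Cfsg.Agent.Lib.Helper98_ExtDefs
import Cfsg.Agent.Lib.Helper29_SpExtDefs

/-!
# S5664: basic lemmas on the trace form `fF F B` (helper86)
-/

set_option autoImplicit false
set_option linter.unusedSectionVars false

namespace Cfsg.Agent.Lib.Helper86_SpExt_Basic

open Cfsg.Agent.Lib.Helper98_ExtDefs Cfsg.Agent.Lib.Helper29_SpExtDefs

variable {F K V : Type*} [Field F] [Field K] [Algebra F K] [AddCommGroup V] [Module F V]
  [Module K V] [IsScalarTower F K V]

theorem fF_add_left (B : LinearMap.BilinForm K V) (x x' y : V) :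
    fF F B (x + x') y = fF F B x y + fF F B x' y := by
  unfold fF
  rw [map_add, LinearMap.add_apply, map_add]

theorem fF_add_right (B : LinearMap.BilinForm K V) (x y y' : V) :
    fF F B x (y + y') = fF F B x y + fF F B x y' := by
  unfold fF
  rw [map_add, map_add]

theorem fF_ksmul_left (B : LinearMap.BilinForm K V) (c : K) (x y : V) :
    fF F B (c • x) y = Algebra.trace F K (c * B x y) := by
  unfold fF
  rw [map_smul, LinearMap.smul_apply, smul_eq_mul]

theorem fF_ksmul_right (B : LinearMap.BilinForm K V) (c : K) (x y : V) :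
    fF F B x (c • y) = Algebra.trace F K (c * B x y) := by
  unfold fF
  rw [map_smul, smul_eq_mul]

theorem fF_smul_left (B : LinearMap.BilinForm K V) (a : F) (x y : V) :
    fF F B (a • x) y = a * fF F B x y := by
  rw [← algebraMap_smul K a x, fF_ksmul_left]
  unfold fF
  rw [← Algebra.smul_def, map_smul, smul_eq_mul]

theorem fF_smul_right (B : LinearMap.BilinForm K V) (a : F) (x y : V) :
    fF F B x (a • y) = a * fF F B x y := by
  rw [← algebraMap_smul K a y, fF_ksmul_right]
  unfold fF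
  rw [← Algebra.smul_def, map_smul, smul_eq_mul]

theorem fF_zero_left (B : LinearMap.BilinForm K V) (y : V) : fF F B 0 y = 0 := by
  unfold fF
  rw [map_zero, LinearMap.zero_apply, map_zero]

theorem fF_zero_right (B : LinearMap.BilinForm K V) (x : V) : fF F B x 0 = 0 := by
  unfold fF
  rw [map_zero, map_zero]

theorem fF_neg_left (B : LinearMap.BilinForm K V) (x y : V) : fF F B (-x) y = - fF F B x y := by
  unfold fF
  rw [map_neg, LinearMap.neg_apply, map_neg]

theorem fF_neg_right (B : LinearMap.BilinForm K V) (x y : V) : fF F B x (-y) = - fF F B x y := by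
  unfold fF
  rw [map_neg, map_neg]

theorem fF_self (B : LinearMap.BilinForm K V) (halt : B.IsAlt) (x : V) : fF F B x x = 0 := by
  unfold fF
  rw [halt x, map_zero]

theorem fF_swap (B : LinearMap.BilinForm K V) (halt : B.IsAlt) (x y : V) :
    fF F B x y = - fF F B y x := by
  unfold fF
  rw [← map_neg, halt.neg_eq]

/-- a `K`-line is totally isotropic for the trace form -/
theorem fF_kline (B : LinearMap.BilinForm K V) (halt : B.IsAlt) (v : V) (c c' : K) :
    fF F B (c • v) (c' • v) = 0 := by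
  unfold fF
  have h : B (c • v) (c' • v) = 0 := by
    simp only [map_smul, LinearMap.smul_apply, smul_eq_mul, halt v, mul_zero]
  rw [h, map_zero]

/-- `t' = y (K v₁)` is totally isotropic for the trace form when `y` preserves it -/
theorem fF_tsp (B : LinearMap.BilinForm K V) (halt : B.IsAlt) (M : Subgroup (V ≃ₗ[F] V))
    (hM : MSp F B M) (y : V ≃ₗ[F] V) (hy : y ∈ M) (v₁ : V) (u u' : V)
    (hu : u ∈ tsp F K V y v₁) (hu' : u' ∈ tsp F K V y v₁) : fF F B u u' = 0 := by
  obtain ⟨c, rfl⟩ := mem_tsp.mp hu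
  obtain ⟨c', rfl⟩ := mem_tsp.mp hu'
  rw [hM y hy, fF_kline B halt]

/-- composition of two induced maps -/
theorem hasMap_comp (M : Subgroup (V ≃ₗ[F] V)) {φ ψ : V → V} (hφ : HasMap M φ)
    (hψ : HasMap M ψ) : HasMap M (fun x => φ (ψ x)) := by
  obtain ⟨g, hg, hgφ⟩ := hφ
  obtain ⟨h, hh, hhψ⟩ := hψ
  refine ⟨g * h, M.mul_mem hg hh, fun x => ?_⟩
  rw [LinearEquiv.mul_apply, hhψ, hgφ]

theorem inv_apply_apply (g : V ≃ₗ[F] V) (x : V) : g⁻¹ (g x) = x := by
  rw [← LinearEquiv.mul_apply, inv_mul_cancel]; rfl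

theorem apply_inv_apply (g : V ≃ₗ[F] V) (x : V) : g (g⁻¹ x) = x := by
  rw [← LinearEquiv.mul_apply, mul_inv_cancel]; rfl

/-- if `g₁ z = φ (g₂ z)` for all `z` then `g₁ g₂⁻¹` induces `φ` -/
theorem hasMap_quot (M : Subgroup (V ≃ₗ[F] V)) {φ : V → V} (g₁ g₂ : V ≃ₗ[F] V) (h₁ : g₁ ∈ M)
    (h₂ : g₂ ∈ M) (h : ∀ z, g₁ z = φ (g₂ z)) : HasMap M φ := by
  refine ⟨g₁ * g₂⁻¹, M.mul_mem h₁ (M.inv_mem h₂), fun x => ?_⟩
  rw [LinearEquiv.mul_apply, h, apply_inv_apply]

end Cfsg.Agent.Lib.Helper86_SpExt_Basic
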