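import Mathlib
import Cfsg.Agent.Lib.Helper98_ExtDefs
import Cfsg.Agent.Lib.Helper29_SpExtDefs
import Cfsg.Agent.Lib.Helper86_SpExt_Basic

/-!
# S5664 package PAIR (helper86, for architect helper29)

`|F| = 2`, `|K| = 4`: a `K`-transvection is a product of two `F`-transvections with centres on the
`K`-line.
-/

set_option autoImplicit false
set_option linter.unusedSectionVars false
set_option linter.unusedVariables false

namespace Cfsg.Agent.Lib.Helper86_SpExt_PAIR

open Cfsg.Agent.Lib.Helper98_ExtDefs Cfsg.Agent.Lib.Helper29_SpExtDefs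
  Cfsg.Agent.Lib.Helper86_SpExt_Basic

variable {F K V : Type*} [Field F] [Field K] [Algebra F K] [AddCommGroup V] [Module F V]
  [Module K V] [IsScalarTower F K V] [Finite F] [Finite K] [Module.Finite K V]

/-- the arithmetic of `F₄` over `F₂` -/
theorem key_identity (hq : Nat.card F = 2) (hr : Module.finrank F K = 2) (α β c : K)
    (hα : α ≠ 0) (hβ : β ≠ 0) :
    algebraMap F K (Algebra.trace F K (α * c)) * α + algebraMap F K (Algebra.trace F K (β * c)) * β
      = (α + β) ^ 2 * c := by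
  classical
  have : Fintype F := Fintype.ofFinite F
  have : Fintype K := Fintype.ofFinite K
  have hK4 : Fintype.card K = 4 := by
    rw [← Nat.card_eq_fintype_card, Module.natCard_eq_pow_finrank (K := F) (V := K), hq, hr]
    rfl
  have h2F : (2 : F) = 0 := by
    have h := FiniteField.cast_card_eq_zero F
    rw [← Nat.card_eq_fintype_card, hq] at h
    exact_mod_cast h
  have h2K : (2 : K) = 0 := by
    have h := congrArg (algebraMap F K) h2F
    rw [map_ofNat, map_zero] at h
    exact h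
  have hcube : ∀ z : K, z ≠ 0 → z ^ 3 = 1 := by
    intro z hz
    have := FiniteField.pow_card_sub_one_eq_one z hz
    rwa [hK4] at this
  have htr : ∀ z : K, algebraMap F K (Algebra.trace F K z) = z + z ^ 2 := by
    intro z
    rw [FiniteField.algebraMap_trace_eq_sum_pow, hr, hq, Finset.sum_range_succ,
      Finset.sum_range_one]
    norm_num
  rw [htr, htr]
  have hα3 := hcube α hα
  have hβ3 := hcube β hβ
  linear_combination (c ^ 2) * hα3 + (c ^ 2) * hβ3 + (c ^ 2 - α * β * c) * h2K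

theorem PAIR (hq : Nat.card F = 2) (hr : Module.finrank F K = 2)
    (B : LinearMap.BilinForm K V) (halt : B.IsAlt)
    (M : Subgroup (V ≃ₗ[F] V)) (hM : MSp F B M) (hS : SpHyp F B M)
    (hktv : ∀ (κ : K) (w : V), ∃ g : V ≃ₗ[K] V, (∀ x, g x = x + (κ * B x w) • w) ∧
      ∀ x y, B (g x) (g y) = B x y)
    (y : V ≃ₗ[F] V) (hy : y ∈ M) (v₁ : V) (a b : V) (ha : a ∈ tsp F K V y v₁)
    (hb : b ∈ tsp F K V y v₁) (ha0 : a ≠ 0) (hb0 : b ≠ 0) (hab : a ≠ b) :
    HasMap M (fun x => x + fF F B x a • a + fF F B x b • b) := by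
  obtain ⟨α, rfl⟩ := mem_tsp.mp ha
  obtain ⟨β, rfl⟩ := mem_tsp.mp hb
  have hα : α ≠ 0 := by
    rintro rfl
    apply ha0
    rw [zero_smul, map_zero]
  have hβ : β ≠ 0 := by
    rintro rfl
    apply hb0
    rw [zero_smul, map_zero]
  obtain ⟨g, hg, hgiso⟩ := hktv ((α + β) ^ 2) v₁
  obtain ⟨m, hmM, hm⟩ := hS g hgiso
  refine ⟨y * m * y⁻¹, M.mul_mem (M.mul_mem hy hmM) (M.inv_mem hy), fun x => ?_⟩
  rw [LinearEquiv.mul_apply, LinearEquiv.mul_apply]
  set x' := y⁻¹ x with hx'
  have hyx' : y x' = x := apply_inv_apply y x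
  have h1 : fF F B x (y (α • v₁)) = fF F B x' (α • v₁) := by
    rw [← hyx', hM y hy]
  have h2 : fF F B x (y (β • v₁)) = fF F B x' (β • v₁) := by
    rw [← hyx', hM y hy]
  have hkey : ((α + β) ^ 2 * B x' v₁) • v₁
      = fF F B x' (α • v₁) • (α • v₁) + fF F B x' (β • v₁) • (β • v₁) := by
    rw [fF_ksmul_right, fF_ksmul_right, ← algebraMap_smul K (Algebra.trace F K (α * B x' v₁)),
      ← algebraMap_smul K (Algebra.trace F K (β * B x' v₁)), smul_smul, smul_smul, ← add_smul,
      key_identity hq hr α β (B x' v₁) hα hβ]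
  have hmx : m x' = g x' := hm x'
  show y (m x') = x + fF F B x (y (α • v₁)) • y (α • v₁) + fF F B x (y (β • v₁)) • y (β • v₁)
  rw [hmx, hg, hkey, map_add, map_add, hyx', LinearEquiv.map_smul y (fF F B x' (α • v₁)) (α • v₁),
    LinearEquiv.map_smul y (fF F B x' (β • v₁)) (β • v₁), h1, h2, add_assoc]

end Cfsg.Agent.Lib.Helper86_SpExt_PAIR
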