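import Mathlib
import Cfsg.Agent.Lib.Helper98_ExtDefs
import Cfsg.Agent.Lib.Helper29_SpExtDefs
import Cfsg.Agent.Lib.Helper86_SpExt_Basic

/-!
# S5664 package Q3 (helper86, for architect helper29): `|F| ≥ 3` gives an `F`-transvection
-/

set_option autoImplicit false
set_option linter.unusedSectionVars false

namespace Cfsg.Agent.Lib.Helper86_SpExt_Q3

open Cfsg.Agent.Lib.Helper98_ExtDefs Cfsg.Agent.Lib.Helper29_SpExtDefs
  Cfsg.Agent.Lib.Helper86_SpExt_Basic

variable {F K V : Type*} [Field F] [Field K] [Algebra F K] [AddCommGroup V] [Module F V]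
  [Module K V] [IsScalarTower F K V] [Finite F] [Finite K] [Module.Finite K V]

theorem Q3 (hq : 3 ≤ Nat.card F) (B : LinearMap.BilinForm K V) (halt : B.IsAlt)
    (M : Subgroup (V ≃ₗ[F] V)) (hM : MSp F B M)
    (y : V ≃ₗ[F] V) (v₁ δ u₀ : V) (hc : Config F K V M y v₁ δ u₀)
    (hX : LemX F B M y v₁ δ u₀) : HasFtv F B M := by
  classical
  -- an element `a ≠ 0, 1`
  obtain ⟨a, ha0, ha1⟩ : ∃ a : F, a ≠ 0 ∧ a ≠ 1 := by
    by_contra hno
    push Not at hno
    have hsub : ∀ a : F, a ∈ ({0, 1} : Finset F) := by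
      intro a
      by_cases h : a = 0
      · simp [h]
      · simp [hno a h]
    have : Fintype F := Fintype.ofFinite F
    have h1 : Fintype.card F ≤ ({0, 1} : Finset F).card :=
      Finset.card_le_card_of_surjOn (fun x => x) (fun x _ => ⟨x, hsub x, rfl⟩) |>.trans' (by
        rw [Finset.card_univ])
    have h2 : ({0, 1} : Finset F).card ≤ 2 := Finset.card_le_two
    rw [Nat.card_eq_fintype_card] at hq
    omega
  have hδk : δ ∈ kline F K V δ := mem_kline.mpr ⟨1, one_smul _ _⟩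
  have hδD : δ ∈ kline F K V δ ⊓ tsp F K V y v₁ := ⟨hδk, hc.hδt⟩
  have h0D : (0 : V) ∈ kline F K V δ ⊓ tsp F K V y v₁ := Submodule.zero_mem _
  have haδD : a • δ ∈ kline F K V δ ⊓ tsp F K V y v₁ := Submodule.smul_mem _ a hδD
  obtain ⟨g1, hg1M, hg1⟩ := hX δ 0 hδD h0D a
  obtain ⟨g2, hg2M, hg2⟩ := hX (a • δ) 0 haδD h0D 1
  have hδδ : fF F B δ δ = 0 := fF_self B halt δ
  have hu₀δ : fF F B u₀ δ = 0 := fF_tsp B halt M hM y hc.hy v₁ u₀ δ hc.hu₀t hc.hδt
  refine ⟨a - a ^ 2, δ, ?_, hc.hδ, ?_⟩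
  · intro h
    have : a * (1 - a) = 0 := by rw [← h]; ring
    rcases mul_eq_zero.mp this with h' | h'
    · exact ha0 h'
    · exact ha1 (sub_eq_zero.mp h').symm
  · apply hasMap_quot M g1 g2 hg1M hg2M
    intro z
    rw [hg1 z, hg2 z]
    simp only [zero_add, one_smul, one_mul, fF_smul_right, fF_add_left, fF_smul_left, hδδ, hu₀δ,
      mul_zero, add_zero]
    module

end Cfsg.Agent.Lib.Helper86_SpExt_Q3
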