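import Mathlib
import Cfsg.Agent.Lib.Helper98_ExtDefs
import Cfsg.Agent.Lib.Helper29_SpExtDefs
import Cfsg.Agent.Lib.Helper86_SpExt_Basic

/-!
# S5664 package R3 (helper86, for architect helper29): `[K : F] ≥ 3` gives an `F`-transvection
-/

set_option autoImplicit false
set_option linter.unusedSectionVars false
set_option linter.unusedVariables false

namespace Cfsg.Agent.Lib.Helper86_SpExt_R3

open Cfsg.Agent.Lib.Helper98_ExtDefs Cfsg.Agent.Lib.Helper29_SpExtDefs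
  Cfsg.Agent.Lib.Helper86_SpExt_Basic

variable {F K V : Type*} [Field F] [Field K] [Algebra F K] [AddCommGroup V] [Module F V]
  [Module K V] [IsScalarTower F K V] [Finite F] [Finite K] [Module.Finite K V]

/-- the `F`-linear map `μ ↦ y ((μ * c) • v₁)` -/
def iotaMul (y : V ≃ₗ[F] V) (v₁ : V) (c : K) : K →ₗ[F] V where
  toFun μ := y ((μ * c) • v₁)
  map_add' μ ν := by rw [add_mul, add_smul, map_add]
  map_smul' a μ := by
    rw [RingHom.id_apply, smul_mul_assoc, smul_assoc, LinearEquiv.map_smul]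

theorem iotaMul_apply (y : V ≃ₗ[F] V) (v₁ : V) (c μ : K) :
    iotaMul (F := F) y v₁ c μ = y ((μ * c) • v₁) := rfl

theorem R3 (hr : 3 ≤ Module.finrank F K)
    (B : LinearMap.BilinForm K V) (halt : B.IsAlt)
    (M : Subgroup (V ≃ₗ[F] V)) (hM : MSp F B M) (hS : SpHyp F B M)
    (y : V ≃ₗ[F] V) (v₁ δ u₀ : V) (hc : Config F K V M y v₁ δ u₀)
    (htorus : ∀ κ : K, κ ≠ 0 → ∃ g : V ≃ₗ[K] V, (∀ x y, B (g x) (g y) = B x y) ∧ g v₁ = κ • v₁)
    (hX : LemX F B M y v₁ δ u₀) : HasFtv F B M := by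
  classical
  obtain ⟨c1, hc1⟩ := mem_tsp.mp hc.hδt
  obtain ⟨c2, hc2⟩ := mem_tsp.mp hc.hu₀t
  -- a functional detecting `K δ` inside `t'`
  obtain ⟨ψ, hψu, hψk⟩ := Submodule.exists_le_ker_of_notMem hc.hu₀
  have hdetect : ∀ u ∈ tsp F K V y v₁, ψ u = 0 → u ∈ kline F K V δ := by
    intro u hu hψ
    obtain ⟨p, hp, q, hq, rfl⟩ := Submodule.mem_sup.mp (hc.hle hu)
    obtain ⟨a, rfl⟩ := Submodule.mem_span_singleton.mp hq
    have hp0 : ψ p = 0 := hψk hp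
    rw [map_add, hp0, zero_add, map_smul, smul_eq_mul] at hψ
    have ha : a = 0 := (mul_eq_zero.mp hψ).resolve_right hψu
    rw [ha, zero_smul, add_zero]
    exact hp
  -- a nonzero `μ` with `ι (μ c1), ι (μ c2) ∈ K δ`
  obtain ⟨μ, hμ0, hμ1, hμ2⟩ : ∃ μ : K, μ ≠ 0 ∧ ψ (y ((μ * c1) • v₁)) = 0 ∧
      ψ (y ((μ * c2) • v₁)) = 0 := by
    let Φ : K →ₗ[F] (F × F) :=
      (ψ ∘ₗ iotaMul (F := F) y v₁ c1).prod (ψ ∘ₗ iotaMul (F := F) y v₁ c2)
    have hnot : ¬ Function.Injective Φ := by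
      intro hf
      have := LinearMap.finrank_le_finrank_of_injective hf
      rw [Module.finrank_prod, Module.finrank_self] at this
      omega
    rw [← LinearMap.ker_eq_bot] at hnot
    obtain ⟨μ, hμ, hμ0⟩ := (Submodule.ne_bot_iff _).mp hnot
    have hΦ : Φ μ = 0 := hμ
    exact ⟨μ, hμ0, congrArg Prod.fst hΦ, congrArg Prod.snd hΦ⟩
  set e1 : V := y ((μ * c1) • v₁) with he1
  set e2 : V := y ((μ * c2) • v₁) with he2
  have he1t : e1 ∈ tsp F K V y v₁ := mem_tsp.mpr ⟨μ * c1, rfl⟩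
  have he2t : e2 ∈ tsp F K V y v₁ := mem_tsp.mpr ⟨μ * c2, rfl⟩
  have he1D : e1 ∈ kline F K V δ ⊓ tsp F K V y v₁ := ⟨hdetect e1 he1t hμ1, he1t⟩
  have he2D : e2 ∈ kline F K V δ ⊓ tsp F K V y v₁ := ⟨hdetect e2 he2t hμ2, he2t⟩
  have hδk : δ ∈ kline F K V δ := mem_kline.mpr ⟨1, one_smul _ _⟩
  have hδD : δ ∈ kline F K V δ ⊓ tsp F K V y v₁ := ⟨hδk, hc.hδt⟩
  have h0D : (0 : V) ∈ kline F K V δ ⊓ tsp F K V y v₁ := Submodule.zero_mem _
  -- the conjugate torus element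
  obtain ⟨T, hTiso, hTv⟩ := htorus μ⁻¹ (inv_ne_zero hμ0)
  obtain ⟨mT, hmTM, hmT⟩ := hS T hTiso
  have hmT' : ∀ x, mT x = T x := hmT
  set k : V ≃ₗ[F] V := y * mT * y⁻¹ with hk
  have hkM : k ∈ M := M.mul_mem (M.mul_mem hc.hy hmTM) (M.inv_mem hc.hy)
  have hkι : ∀ c : K, k (y (c • v₁)) = y ((c * μ⁻¹) • v₁) := by
    intro c
    rw [hk, LinearEquiv.mul_apply, LinearEquiv.mul_apply, inv_apply_apply, hmT', map_smul, hTv,
      smul_smul]
  have hke1 : k e1 = δ := by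
    rw [he1, hkι, ← hc1]
    congr 2
    field_simp
  have hke2 : k e2 = u₀ := by
    rw [he2, hkι, ← hc2]
    congr 2
    field_simp
  -- the three elements of `M`
  obtain ⟨m0, hm0M, hm0⟩ := hX e1 e2 he1D he2D 0
  obtain ⟨m1, hm1M, hm1⟩ := hX δ 0 hδD h0D 1
  set n : V ≃ₗ[F] V := k * m0 * k⁻¹ with hn
  have hnM : n ∈ M := M.mul_mem (M.mul_mem hkM hm0M) (M.inv_mem hkM)
  have hnz : ∀ z, n z = z + fF F B z u₀ • δ + fF F B z δ • u₀ := by
    intro z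
    set w := k⁻¹ z with hw
    have hkw : k w = z := apply_inv_apply k z
    have h1 : fF F B w e2 = fF F B z u₀ := by rw [← hkw, ← hke2, hM k hkM]
    have h2 : fF F B w e1 = fF F B z δ := by rw [← hkw, ← hke1, hM k hkM]
    have hm0w : m0 w = w + fF F B w e2 • e1 + fF F B w e1 • e2 := by
      rw [hm0 w]
      simp only [zero_smul, add_zero, zero_mul]
    rw [hn, LinearEquiv.mul_apply, LinearEquiv.mul_apply, ← hw, hm0w, map_add, map_add,
      LinearEquiv.map_smul, LinearEquiv.map_smul, hkw, hke1, hke2, h1, h2]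
  have hδδ : fF F B δ δ = 0 := fF_self B halt δ
  have hu₀δ : fF F B u₀ δ = 0 := fF_tsp B halt M hM y hc.hy v₁ u₀ δ hc.hu₀t hc.hδt
  refine ⟨1, δ, one_ne_zero, hc.hδ, ?_⟩
  apply hasMap_quot M m1 n hm1M hnM
  intro z
  rw [hm1 z, hnz z]
  simp only [zero_add, one_smul, one_mul, fF_add_left, fF_smul_left, hδδ, hu₀δ, mul_zero, add_zero]

end Cfsg.Agent.Lib.Helper86_SpExt_R3
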