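import Mathlib
import Cfsg.Agent.Lib.Helper98_ExtDefs
import Cfsg.Agent.Lib.Helper29_SpExtDefs

/-!
# S5664 package TRANS (architect helper29): `Sp(V, B)` is transitive on non-zero vectors

Symplectic transvections `x ↦ x + κ B(x, w) w` are isometries (`tv_isom`); one transvection moves
`c` to `d` while fixing a prescribed `a` as soon as `B c d ≠ 0` and `B a c = B a d` (`tv_move`);
`TRANS` uses one or two of them.
-/

open Cfsg.Agent.Lib.Helper98_ExtDefs Cfsg.Agent.Lib.Helper29_SpExtDefs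

namespace Cfsg.Agent.Lib.Helper87_SpExt_TRANS

variable {F K V : Type*} [Field F] [Field K] [Algebra F K] [AddCommGroup V] [Module F V]
  [Module K V] [IsScalarTower F K V] [Finite F] [Finite K] [Module.Finite K V]

omit [Finite K] [Module.Finite K V] in
/-- Symplectic transvections are isometries. -/
theorem tv_isom (B : LinearMap.BilinForm K V) (halt : B.IsAlt) (κ : K) (w : V) :
    ∃ g : V ≃ₗ[K] V, (∀ x, g x = x + (κ * B x w) • w) ∧ ∀ x y, B (g x) (g y) = B x y := by
  have h0 : (κ • B.flip w) w = 0 := by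
    simp [halt w]
  refine ⟨LinearEquiv.transvection h0, ?_, ?_⟩
  · intro x
    rw [LinearEquiv.transvection.apply]
    simp
  · intro x y
    rw [LinearEquiv.transvection.apply, LinearEquiv.transvection.apply]
    have hwy : B w y = - B y w := (halt.neg_eq y w).symm
    simp only [LinearMap.smul_apply, LinearMap.BilinForm.flip_apply, smul_eq_mul, map_add,
      map_smul, LinearMap.add_apply, halt w, hwy]
    ring

omit [Finite K] [Module.Finite K V] in
/-- One transvection moves `c` to `d` and fixes `a`, if `B c d ≠ 0` and `B a c = B a d`. -/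
theorem tv_move (B : LinearMap.BilinForm K V) (halt : B.IsAlt) (a c d : V) (hcd : B c d ≠ 0)
    (ha : B a c = B a d) :
    ∃ g : V ≃ₗ[K] V, (∀ x y, B (g x) (g y) = B x y) ∧ g a = a ∧ g c = d := by
  obtain ⟨g, hg, hiso⟩ := tv_isom B halt (B c d)⁻¹ (d - c)
  refine ⟨g, hiso, ?_, ?_⟩
  · rw [hg, map_sub, ha, sub_self, mul_zero, zero_smul, add_zero]
  · rw [hg, map_sub, halt c, sub_zero, inv_mul_cancel₀ hcd, one_smul]
    abel

/-- **TRANS**.  The isometry group is transitive on non-zero vectors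
(one or two transvections). -/
theorem TRANS (B : LinearMap.BilinForm K V) (halt : B.IsAlt) (hnd : B.Nondegenerate)
    (v v' : V) (hv : v ≠ 0) (hv' : v' ≠ 0) :
    ∃ g : V ≃ₗ[K] V, (∀ x y, B (g x) (g y) = B x y) ∧ g v = v' := by
  by_cases h : B v v' = 0
  · -- find `z` with `B v z ≠ 0 ≠ B v' z`
    have hex : ∀ u : V, u ≠ 0 → ∃ z, B u z ≠ 0 := by
      intro u hu
      by_contra hno
      exact hu (hnd.1 u fun y => by
        by_contra hy
        exact hno ⟨y, hy⟩)
    obtain ⟨z₁, hz₁⟩ := hex v hv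
    obtain ⟨z₂, hz₂⟩ := hex v' hv'
    obtain ⟨z, hvz, hv'z⟩ : ∃ z, B v z ≠ 0 ∧ B v' z ≠ 0 := by
      by_cases h1 : B v' z₁ = 0
      · by_cases h2 : B v z₂ = 0
        · refine ⟨z₁ + z₂, ?_, ?_⟩
          · rw [map_add, h2, add_zero]; exact hz₁
          · rw [map_add, h1, zero_add]; exact hz₂
        · exact ⟨z₂, h2, hz₂⟩
      · exact ⟨z₁, hz₁, h1⟩
    have hzv' : B z v' ≠ 0 := by
      rw [← halt.neg_eq v' z]
      exact neg_ne_zero.mpr hv'z
    obtain ⟨g₁, hg₁, -, hg₁v⟩ := tv_move B halt 0 v z hvz (by simp)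
    obtain ⟨g₂, hg₂, -, hg₂z⟩ := tv_move B halt 0 z v' hzv' (by simp)
    refine ⟨g₁.trans g₂, ?_, ?_⟩
    · intro x y
      rw [LinearEquiv.trans_apply, LinearEquiv.trans_apply, hg₂, hg₁]
    · rw [LinearEquiv.trans_apply, hg₁v, hg₂z]
  · obtain ⟨g, hg, -, hgv⟩ := tv_move B halt 0 v v' h (by simp)
    exact ⟨g, hg, hgv⟩

end Cfsg.Agent.Lib.Helper87_SpExt_TRANS
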