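import Mathlib
import Cfsg.Agent.Lib.Helper98_ExtDefs
import Cfsg.Agent.Lib.Helper29_SpExtDefs
import Cfsg.Agent.Lib.Helper87_SpExt_TRANS

/-!
# S5664 package HYP (architect helper29): `Sp(V, B)` is transitive on hyperbolic pairs

`TRANS` moves `a` to `a'`; then one or two transvections fixing `a'` (`tv_move`) move the image of
`b` to `b'`.
-/

open Cfsg.Agent.Lib.Helper98_ExtDefs Cfsg.Agent.Lib.Helper29_SpExtDefs

namespace Cfsg.Agent.Lib.Helper87_SpExt_HYP

open Cfsg.Agent.Lib.Helper87_SpExt_TRANS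

variable {F K V : Type*} [Field F] [Field K] [Algebra F K] [AddCommGroup V] [Module F V]
  [Module K V] [IsScalarTower F K V] [Finite F] [Finite K] [Module.Finite K V]

/-- **HYP**.  The isometry group is transitive on hyperbolic pairs. -/
theorem HYP (B : LinearMap.BilinForm K V) (halt : B.IsAlt) (hnd : B.Nondegenerate)
    (a b a' b' : V) (hab : B a b = 1) (hab' : B a' b' = 1) :
    ∃ g : V ≃ₗ[K] V, (∀ x y, B (g x) (g y) = B x y) ∧ g a = a' ∧ g b = b' := by
  have ha : a ≠ 0 := by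
    rintro rfl
    simp at hab
  have ha' : a' ≠ 0 := by
    rintro rfl
    simp at hab'
  obtain ⟨g₁, hg₁, hg₁a⟩ := TRANS B halt hnd a a' ha ha'
  have hb₁ : B a' (g₁ b) = 1 := by rw [← hg₁a, hg₁, hab]
  -- an isometry fixing `a'` and moving `g₁ b` to `b'`
  obtain ⟨h, hh, hha, hhb⟩ : ∃ h : V ≃ₗ[K] V, (∀ x y, B (h x) (h y) = B x y) ∧ h a' = a' ∧
      h (g₁ b) = b' := by
    by_cases h0 : B (g₁ b) b' = 0
    · have h1 : B (g₁ b) (g₁ b + a') ≠ 0 := by
        rw [map_add, halt (g₁ b), zero_add, ← halt.neg_eq a' (g₁ b), hb₁]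
        exact neg_ne_zero.mpr one_ne_zero
      have h2 : B a' (g₁ b) = B a' (g₁ b + a') := by
        rw [map_add, halt a', add_zero]
      have h3 : B (g₁ b + a') b' ≠ 0 := by
        rw [map_add, LinearMap.add_apply, h0, zero_add, hab']
        exact one_ne_zero
      have h4 : B a' (g₁ b + a') = B a' b' := by rw [← h2, hb₁, hab']
      obtain ⟨k₁, hk₁, hk₁a, hk₁b⟩ := tv_move B halt a' (g₁ b) (g₁ b + a') h1 h2
      obtain ⟨k₂, hk₂, hk₂a, hk₂b⟩ := tv_move B halt a' (g₁ b + a') b' h3 h4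
      refine ⟨k₁.trans k₂, ?_, ?_, ?_⟩
      · intro x y
        rw [LinearEquiv.trans_apply, LinearEquiv.trans_apply, hk₂, hk₁]
      · rw [LinearEquiv.trans_apply, hk₁a, hk₂a]
      · rw [LinearEquiv.trans_apply, hk₁b, hk₂b]
    · exact tv_move B halt a' (g₁ b) b' h0 (by rw [hb₁, hab'])
  refine ⟨g₁.trans h, ?_, ?_, ?_⟩
  · intro x y
    rw [LinearEquiv.trans_apply, LinearEquiv.trans_apply, hh, hg₁]
  · rw [LinearEquiv.trans_apply, hg₁a, hha]
  · rw [LinearEquiv.trans_apply, hhb]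

end Cfsg.Agent.Lib.Helper87_SpExt_HYP
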