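import Mathlib
import Cfsg.Agent.Lib.Helper98_ExtDefs
import Cfsg.Agent.Lib.Helper2_Ext_Common

set_option autoImplicit false

/-!
# S5886 package TA (helper2)

If `M` contains all `K`-transvections and one nontrivial `F`-transvection, then for every `v ≠ 0`
it contains a nontrivial `F`-transvection `1 + f ⊗ v` with `f (K v) = 0`.
-/

open Cfsg.Agent.Lib.Helper98_ExtDefs Cfsg.Agent.Lib.Helper2_Ext_Common

namespace Cfsg.Agent.Lib.Helper2_Ext_TA

variable {F K V : Type*} [Field F] [Field K] [Algebra F K] [AddCommGroup V] [Module F V]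
  [Module K V] [IsScalarTower F K V] [Finite F] [Finite K] [Module.Finite K V]

omit [Finite F] [Finite K] [Module.Finite K V] in
/-- one `K`-transvection moves `a` to `b` if they are `K`-independent -/
theorem exists_move_indep {M : Subgroup (V ≃ₗ[F] V)} (hktv : KtvHyp F K V M) (a b : V)
    (hab : a ∉ Submodule.span K {b}) (hba : b ∉ Submodule.span K {a}) :
    ∃ g ∈ M, g a = b := by
  obtain ⟨χ₁, h11, h12⟩ := exists_dual_eq (Submodule.span K {b}) hab (1 : K)
  obtain ⟨χ₂, h21, h22⟩ := exists_dual_eq (Submodule.span K {a}) hba (1 : K)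
  have h12' : χ₁ b = 0 := h12 b (Submodule.mem_span_singleton_self b)
  have h22' : χ₂ a = 0 := h22 a (Submodule.mem_span_singleton_self a)
  obtain ⟨g, hg, hgx⟩ := hktv (χ₁ + χ₂) (b - a) (by simp [h11, h12', h21, h22'])
  refine ⟨g, hg, ?_⟩
  rw [hgx]
  simp [h11, h22']

omit [Finite F] [Finite K] [Module.Finite K V] in
/-- the group generated by the `K`-transvections is transitive on the nonzero vectors -/
theorem exists_move (hm : 2 ≤ Module.finrank K V) {M : Subgroup (V ≃ₗ[F] V)}
    (hktv : KtvHyp F K V M) (a b : V) (ha : a ≠ 0) (hb : b ≠ 0) : ∃ g ∈ M, g a = b := by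
  by_cases h : b ∈ Submodule.span K {a}
  · obtain ⟨u, hu⟩ := exists_notMem_span_singleton hm a
    have hub : u ∉ Submodule.span K {b} := by
      intro hub
      apply hu
      have : Submodule.span K {b} ≤ Submodule.span K {a} := by
        rw [Submodule.span_le]
        intro x hx
        rw [Set.mem_singleton_iff] at hx
        rw [hx]
        exact h
      exact this hub
    obtain ⟨g₁, hg₁, h1⟩ := exists_move_indep hktv a u (span_singleton_symm ha hu) hu
    obtain ⟨g₂, hg₂, h2⟩ := exists_move_indep hktv u b hub (span_singleton_symm hb hub)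
    exact ⟨g₂ * g₁, M.mul_mem hg₂ hg₁, by rw [LinearEquiv.mul_apply, h1, h2]⟩
  · exact exists_move_indep hktv a b (span_singleton_symm ha h) h

/-- **TA** -/
theorem TA (hm : 2 ≤ Module.finrank K V) (M : Subgroup (V ≃ₗ[F] V)) (hktv : KtvHyp F K V M)
    (h : HasTv M) (v : V) (hv : v ≠ 0) :
    ∃ f : V →ₗ[F] F, f ≠ 0 ∧ (∀ k : K, f (k • v) = 0) ∧ HasMap M (fun x => x + f x • v) := by
  obtain ⟨f₀, v₀, hf₀, hv₀, hfv₀, hM₀⟩ := h
  obtain ⟨g, hg, hgv⟩ := exists_move hm hktv v₀ v hv₀ hv
  have h1 : HasMap M (fun x => x + (f₀ ∘ₗ g.symm.toLinearMap) x • v) := by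
    have := conj_tv hg hM₀
    rw [hgv] at this
    exact this
  have hf₁ : f₀ ∘ₗ g.symm.toLinearMap ≠ 0 := by
    intro h0
    apply hf₀
    ext x
    have := LinearMap.congr_fun h0 (g x)
    simpa using this
  have hf₁v : (f₀ ∘ₗ g.symm.toLinearMap) v = 0 := by
    rw [← hgv]
    simp [hfv₀]
  generalize f₀ ∘ₗ g.symm.toLinearMap = f₁ at h1 hf₁ hf₁v
  by_cases hK : ∀ k : K, f₁ (k • v) = 0
  · exact ⟨f₁, hf₁, hK, h1⟩
  · push Not at hK
    obtain ⟨k, hk⟩ := hK
    obtain ⟨u, hu⟩ := exists_notMem_span_singleton hm v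
    obtain ⟨χ, hχu, hχv⟩ := exists_dual_eq (Submodule.span K {v}) hu k
    have hχv0 : χ v = 0 := hχv v (Submodule.mem_span_singleton_self v)
    have hA : f₁ ∈ Av M v := ⟨hf₁v, h1⟩
    have hphi := stab hktv hA χ v hχv0 hχv0
    refine ⟨phi f₁ χ v, ?_, ?_, hphi.2⟩
    · intro h0
      apply hk
      have := LinearMap.congr_fun h0 u
      simpa [hχu] using this
    · intro k'
      simp [hχv0]

end Cfsg.Agent.Lib.Helper2_Ext_TA
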