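import Mathlib
import Cfsg.Agent.Lib.Helper98_ExtDefs
import Cfsg.Agent.Lib.Helper2_Ext_Common

set_option autoImplicit false

/-!
# S5886 package TB3 (helper2)

`dim_K V ≥ 3`: if `M` contains all `K`-transvections and one nontrivial `1 + f₀ ⊗ v` with
`f₀ (K v) = 0`, then it contains `1 + f ⊗ v` for every `f` with `f (K v) = 0`.
-/

open Cfsg.Agent.Lib.Helper98_ExtDefs Cfsg.Agent.Lib.Helper2_Ext_Common

namespace Cfsg.Agent.Lib.Helper2_Ext_TB3

variable {F K V : Type*} [Field F] [Field K] [Algebra F K] [AddCommGroup V] [Module F V]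
  [Module K V] [IsScalarTower F K V] [Finite F] [Finite K] [Module.Finite K V]

/-- **TB3** -/
theorem TB3 (hm : 3 ≤ Module.finrank K V) (M : Subgroup (V ≃ₗ[F] V)) (hktv : KtvHyp F K V M)
    (v : V) (hv : v ≠ 0) (f₀ : V →ₗ[F] F) (hf₀ : f₀ ≠ 0) (hf₀v : ∀ k : K, f₀ (k • v) = 0)
    (hf₀M : HasMap M (fun x => x + f₀ x • v))
    (f : V →ₗ[F] F) (hf : ∀ k : K, f (k • v) = 0) : HasMap M (fun x => x + f x • v) := by
  have hf₀A : f₀ ∈ Av M v := ⟨by simpa using hf₀v 1, hf₀M⟩
  have hfin : FiniteDimensional F V := finiteDimensional_of_tower (K := K)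
  have hfAs : f ∈ As M v := by
    apply mem_of_coann
    intro x₀ hx₀
    by_contra hfx
    have hx₀v : x₀ ∉ Submodule.span K {v} := by
      intro hmem
      obtain ⟨c, rfl⟩ := Submodule.mem_span_singleton.mp hmem
      exact hfx (hf c)
    obtain ⟨w₀, hw₀⟩ := exists_notMem_span_pair hm v x₀
    have key : ∀ w, w ∉ Submodule.span K {v, x₀} → ∀ κ : K, f₀ (κ • w) = 0 := by
      intro w hw κ
      have hx₀' : x₀ ∉ Submodule.span K {v, w} := by
        intro hmem
        obtain ⟨a, b, hab⟩ := Submodule.mem_span_pair.mp hmem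
        by_cases hb : b = 0
        · apply hx₀v
          rw [Submodule.mem_span_singleton]
          exact ⟨a, by rw [← hab, hb, zero_smul, add_zero]⟩
        · apply hw
          rw [Submodule.mem_span_pair]
          refine ⟨-(b⁻¹ * a), b⁻¹, ?_⟩
          rw [← hab, smul_add, smul_smul, smul_smul, inv_mul_cancel₀ hb, one_smul, neg_smul]
          abel
      obtain ⟨χ, hχ1, hχ2⟩ := exists_dual_eq (Submodule.span K {v, w}) hx₀' κ
      have hχv : χ v = 0 := hχ2 v (Submodule.subset_span (by simp))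
      have hχw : χ w = 0 := hχ2 w (Submodule.subset_span (by simp))
      have := hx₀ (phi f₀ χ w) (stab_As hktv hf₀A χ w hχw hχv)
      simpa [hχ1] using this
    apply hf₀
    ext u
    by_cases hu : u ∈ Submodule.span K {v, x₀}
    · have h1 := key (u + w₀) (fun h => hw₀ (by simpa using sub_mem h hu)) 1
      have h2 := key w₀ hw₀ 1
      rw [one_smul] at h1 h2
      rw [map_add, h2, add_zero] at h1
      simpa using h1
    · simpa using key u hu 1
  exact (As_le_Av hfAs).2

end Cfsg.Agent.Lib.Helper2_Ext_TB3
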