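import Mathlib
import Cfsg.Agent.Lib.Helper98_ExtDefs
import Cfsg.Agent.Lib.Helper98_ExtMult

/-! S5886 package B (architect helper98): `dim_K V ≥ 3`, a transvection from a commutator. -/

set_option autoImplicit false

open Cfsg.Agent.Lib.Helper98_ExtDefs Cfsg.Agent.Lib.Helper98_ExtMult

namespace Cfsg.Agent.Lib.Helper31_Ext_B

variable {F K V : Type*} [Field F] [Field K] [Algebra F K] [AddCommGroup V] [Module F V]
  [Module K V] [IsScalarTower F K V] [Finite F] [Finite K] [Module.Finite K V]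

omit [Finite F] [Finite K] [Module.Finite K V] in
/-- `K`-lines through nonzero vectors have `F`-dimension `[K : F]`. -/
theorem finrank_kline {v : V} (hv : v ≠ 0) :
    Module.finrank F (kline F K V v) = Module.finrank F K := by
  unfold kline
  have e1 : ((Submodule.span K {v}).restrictScalars F) ≃ₗ[F] (Submodule.span K {v}) :=
    (Submodule.restrictScalarsEquiv F K V (Submodule.span K {v})).restrictScalars F
  have e2 : K ≃ₗ[F] (Submodule.span K {v}) :=
    (LinearEquiv.toSpanNonzeroSingleton K V v hv).restrictScalars F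
  rw [e1.finrank_eq, ← e2.finrank_eq]

omit [Finite F] [Finite K] [Module.Finite K V] in
theorem smul_mem_kline {v x : V} (k : K) (hx : x ∈ kline F K V v) : k • x ∈ kline F K V v := by
  obtain ⟨k', rfl⟩ := mem_kline.mp hx
  exact mem_kline.mpr ⟨k * k', by rw [mul_smul]⟩

omit [Finite F] in
/-- The hyperplane property: if `t' ⊆ Kδ + F u₀`, `u₀ ∈ t' \ Kδ`, then there is `z ∈ Kδ \ t'` with
`Kδ ⊆ t' + F z`. -/
theorem exists_z (M : Subgroup (V ≃ₗ[F] V)) (y : V ≃ₗ[F] V) (v₁ δ u₀ : V)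
    (hc : Config F K V M y v₁ δ u₀) :
    ∃ z ∈ kline F K V δ, z ∉ tsp F K V y v₁ ∧
      kline F K V δ ≤ tsp F K V y v₁ ⊔ Submodule.span F {z} := by
  have : Module.Finite F K := Module.Finite.of_finite
  have : Module.Finite F V := Module.Finite.trans K V
  set A := kline F K V δ with hA
  set T := tsp F K V y v₁ with hT
  have hfA : Module.finrank F A = Module.finrank F K := finrank_kline hc.hδ
  have hfT : Module.finrank F T = Module.finrank F K := by
    rw [hT]
    unfold tsp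
    rw [LinearEquiv.finrank_map_eq]
    exact finrank_kline hc.hv₁
  have hnle : ¬ A ≤ T := by
    intro hle
    have heq : A = T := Submodule.eq_of_le_of_finrank_le hle (by rw [hfA, hfT])
    apply hc.hu₀
    rw [← hA, heq]
    exact hc.hu₀t
  obtain ⟨z, hzA, hzT⟩ := SetLike.not_le_iff_exists.mp hnle
  refine ⟨z, hzA, hzT, ?_⟩
  -- dimension count inside `E = A ⊔ F u₀`
  have hle1 : T ⊔ Submodule.span F {z} ≤ A ⊔ Submodule.span F {u₀} := by
    apply sup_le hc.hle
    rw [Submodule.span_singleton_le_iff_mem]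
    exact Submodule.mem_sup_left hzA
  have hlt : T < T ⊔ Submodule.span F {z} := by
    apply lt_of_le_of_ne le_sup_left
    intro heq
    apply hzT
    rw [heq]
    exact Submodule.mem_sup_right (Submodule.mem_span_singleton_self z)
  have h1 : Module.finrank F T < Module.finrank F ↥(T ⊔ Submodule.span F {z}) :=
    Submodule.finrank_lt_finrank_of_lt hlt
  have h2 : Module.finrank F ↥(A ⊔ Submodule.span F {u₀}) ≤
      Module.finrank F A + Module.finrank F ↥(Submodule.span F {u₀}) :=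
    Submodule.finrank_add_le_finrank_add_finrank A _
  have h3 : Module.finrank F ↥(Submodule.span F {u₀}) ≤ 1 := by
    have := finrank_span_le_card (R := F) ({u₀} : Set V)
    simpa using this
  have heq : T ⊔ Submodule.span F {z} = A ⊔ Submodule.span F {u₀} :=
    Submodule.eq_of_le_of_finrank_le hle1 (by omega)
  rw [heq]
  exact le_sup_left

set_option linter.unusedSectionVars false in
theorem caseB (hm : 3 ≤ Module.finrank K V) (M : Subgroup (V ≃ₗ[F] V)) (hktv : KtvHyp F K V M)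
    (y : V ≃ₗ[F] V) (v₁ δ u₀ : V) (hc : Config F K V M y v₁ δ u₀) : HasTv M := by
  classical
  obtain ⟨z, hzA, hzT, hAle⟩ := exists_z M y v₁ δ u₀ hc
  -- `ψ` vanishing on `Kδ + Ku₀`
  have hW : Submodule.span K ({δ, u₀} : Set V) < ⊤ := by
    rw [lt_top_iff_ne_top]
    intro htop
    have h1 : Module.finrank K ↥(Submodule.span K ({δ, u₀} : Set V)) ≤ 2 := by
      have h2 := finrank_span_finset_le_card (R := K) ({δ, u₀} : Finset V)
      have h3 : (({δ, u₀} : Finset V) : Set V) = ({δ, u₀} : Set V) := by simp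
      rw [h3] at h2
      exact h2.trans Finset.card_le_two
    rw [htop, finrank_top] at h1
    omega
  obtain ⟨ψ, hψ0, hψW⟩ := Submodule.exists_le_ker_of_lt_top _ hW
  have hψδ : ψ δ = 0 := hψW (Submodule.subset_span (by simp))
  have hψu : ψ u₀ = 0 := hψW (Submodule.subset_span (by simp))
  have hψA : ∀ w ∈ kline F K V δ, ψ w = 0 := by
    intro w hw
    obtain ⟨k, rfl⟩ := mem_kline.mp hw
    rw [map_smul, hψδ, smul_zero]
  have hψT : ∀ u ∈ tsp F K V y v₁, ψ u = 0 := by
    intro u hu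
    obtain ⟨a, ha, b, hb, rfl⟩ := Submodule.mem_sup.mp (hc.hle hu)
    obtain ⟨c, rfl⟩ := Submodule.mem_span_singleton.mp hb
    rw [map_add, hψA a ha, zero_add, ← algebraMap_smul K c u₀, map_smul, hψu, smul_zero]
  -- `χ` with `χ v₁ = 0`, `χ (y⁻¹ z) = 1`
  have hyz : y.symm z ∉ Submodule.span K ({v₁} : Set V) := by
    intro hmem
    apply hzT
    obtain ⟨k, hk⟩ := Submodule.mem_span_singleton.mp hmem
    refine mem_tsp.mpr ⟨k, ?_⟩
    rw [hk, LinearEquiv.apply_symm_apply]
  obtain ⟨χ₀, hχ₀z, hχ₀v⟩ := Submodule.exists_le_ker_of_notMem hyz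
  set χ : V →ₗ[K] K := (χ₀ (y.symm z))⁻¹ • χ₀ with hχdef
  have hχv : χ v₁ = 0 := by
    have : χ₀ v₁ = 0 := hχ₀v (Submodule.mem_span_singleton_self v₁)
    rw [hχdef, LinearMap.smul_apply, this, smul_zero]
  have hχz : χ (y.symm z) = 1 := by
    rw [hχdef, LinearMap.smul_apply, smul_eq_mul, inv_mul_cancel₀ hχ₀z]
  -- the conjugated transvection direction
  set c' := cmap F K V y χ v₁ with hc'def
  have hc'mem : c' ∈ cSet M (tsp F K V y v₁) := cmap_mem_cSet hktv hc.hy v₁ χ hχv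
  obtain ⟨hc'im, hc'ker, hc'M⟩ := hc'mem
  have hc'z : c' z = y v₁ := by
    rw [hc'def, cmap_apply, hχz, one_smul]
  -- the functional `Λ` on `V` with `Λ(t') = 0`, `Λ z = 1`
  obtain ⟨Λ₀, hΛ₀z, hΛ₀T⟩ := Submodule.exists_le_ker_of_notMem hzT
  set Λ : V →ₗ[F] F := (Λ₀ z)⁻¹ • Λ₀ with hΛdef
  have hΛT : ∀ u ∈ tsp F K V y v₁, Λ u = 0 := by
    intro u hu
    have : Λ₀ u = 0 := hΛ₀T hu
    rw [hΛdef, LinearMap.smul_apply, this, smul_zero]
  have hΛz : Λ z = 1 := by
    rw [hΛdef, LinearMap.smul_apply, smul_eq_mul, inv_mul_cancel₀ hΛ₀z]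
  have hdecomp : ∀ w ∈ kline F K V δ, c' w = Λ w • y v₁ := by
    intro w hw
    obtain ⟨u, hu, b, hb, rfl⟩ := Submodule.mem_sup.mp (hAle hw)
    obtain ⟨a, rfl⟩ := Submodule.mem_span_singleton.mp hb
    rw [map_add, map_add, hc'ker u hu, hΛT u hu, zero_add, zero_add, map_smul, map_smul, hc'z,
      hΛz, smul_eq_mul, mul_one]
  -- the functional `f`
  set f : V →ₗ[F] F :=
    Λ ∘ₗ ((LinearMap.toSpanSingleton K V δ ∘ₗ ψ).restrictScalars F) with hfdef
  have hfapp : ∀ x, f x = Λ (ψ x • δ) := fun x => rfl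
  have hkey : ∀ x, c' (ψ x • δ) = f x • y v₁ := by
    intro x
    rw [hfapp]
    exact hdecomp _ (mem_kline.mpr ⟨ψ x, rfl⟩)
  -- the two transvections and their inverses
  have hg : HasMap M (fun x => x + ψ x • δ) := hktv ψ δ hψδ
  have hginv : HasMap M (fun x => x - ψ x • δ) := by
    refine hasMap_inv hg (fun x => ?_)
    show (x - ψ x • δ) + ψ (x - ψ x • δ) • δ = x
    rw [map_sub, map_smul, hψδ, smul_zero, sub_zero]
    abel
  have hc'c' : ∀ x, c' (c' x) = 0 := fun x => hc'ker _ (hc'im x)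
  have hhinv : HasMap M (fun x => x - c' x) := by
    refine hasMap_inv hc'M (fun x => ?_)
    show (x - c' x) + c' (x - c' x) = x
    rw [map_sub, hc'c', sub_zero]
    abel
  have hcomm : HasMap M (fun x => x + (-f) x • y v₁) := by
    refine hasMap_congr (hasMap_comp hhinv (hasMap_comp hg (hasMap_comp hc'M hginv))) (fun x => ?_)
    show ((x - ψ x • δ) + c' (x - ψ x • δ) + ψ ((x - ψ x • δ) + c' (x - ψ x • δ)) • δ) -
        c' ((x - ψ x • δ) + c' (x - ψ x • δ) + ψ ((x - ψ x • δ) + c' (x - ψ x • δ)) • δ) =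
      x + (-f) x • y v₁
    have e1 : ψ ((x - ψ x • δ) + c' (x - ψ x • δ)) = ψ x := by
      rw [map_add, hψT _ (hc'im _), add_zero, map_sub, map_smul, hψδ, smul_zero, sub_zero]
    rw [e1]
    have e2 : (x - ψ x • δ) + c' (x - ψ x • δ) + ψ x • δ = x + c' (x - ψ x • δ) := by abel
    rw [e2, map_add, hc'c', add_zero, map_sub, hkey, LinearMap.neg_apply, neg_smul]
    abel
  refine ⟨-f, y v₁, ?_, ?_, ?_, hcomm⟩
  · -- `f ≠ 0`
    intro hf0
    have hψx : ∃ x₀, ψ x₀ ≠ 0 := by
      by_contra hcon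
      push Not at hcon
      exact hψ0 (LinearMap.ext hcon)
    obtain ⟨x₀, hx₀⟩ := hψx
    obtain ⟨kz, hkz⟩ := mem_kline.mp hzA
    have hψval : ψ ((kz * (ψ x₀)⁻¹) • x₀) = kz := by
      rw [map_smul, smul_eq_mul, mul_assoc, inv_mul_cancel₀ hx₀, mul_one]
    have h1 : f ((kz * (ψ x₀)⁻¹) • x₀) = 1 := by
      rw [hfapp, hψval, hkz, hΛz]
    have h2 : (-f) ((kz * (ψ x₀)⁻¹) • x₀) = 0 := by rw [hf0]; rfl
    rw [LinearMap.neg_apply, h1] at h2
    exact one_ne_zero (neg_eq_zero.mp h2)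
  · intro h0
    apply hc.hv₁
    have : y v₁ = y 0 := by rw [h0, map_zero]
    exact y.injective this
  · have hyT : y v₁ ∈ tsp F K V y v₁ := mem_tsp.mpr ⟨1, by rw [one_smul]⟩
    rw [LinearMap.neg_apply, hfapp, hψT _ hyT, zero_smul, map_zero, neg_zero]

end Cfsg.Agent.Lib.Helper31_Ext_B
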