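import Mathlib
import Cfsg.Agent.Lib.Helper98_ExtDefs

/-!
# S5886 package N1 (helper43): the elements of norm one generate `K` additively
-/

set_option autoImplicit false

open Cfsg.Agent.Lib.Helper98_ExtDefs

namespace Cfsg.Agent.Lib.Helper43_Ext_N1

variable {F K V : Type*} [Field F] [Field K] [Algebra F K] [AddCommGroup V] [Module F V]
  [Module K V] [IsScalarTower F K V] [Finite F] [Finite K] [Module.Finite K V]

/-- the number of elements of norm one, times `|F| - 1`, is at least `|K| - 1` -/
theorem card_norm_one_mul :
    Nat.card K - 1 ≤ Set.ncard {κ : K | Algebra.norm F κ = 1} * (Nat.card F - 1) := by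
  classical
  let f : Kˣ →* Fˣ := Units.map (Algebra.norm F : K →* F)
  have h1 : Nat.card f.ker * f.ker.index = Nat.card Kˣ := Subgroup.card_mul_index f.ker
  have h2 : f.ker.index = Nat.card f.range := Subgroup.index_ker f
  have h3 : Nat.card f.range ≤ Nat.card Fˣ := Nat.card_le_card_of_injective _ Subtype.val_injective
  have h4 : Nat.card f.ker ≤ Set.ncard {κ : K | Algebra.norm F κ = 1} := by
    have hfin : ({κ : K | Algebra.norm F κ = 1} : Set K).Finite := Set.toFinite _
    rw [← Nat.card_coe_set_eq]
    refine Nat.card_le_card_of_injective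
      (fun u : f.ker => (⟨((u : Kˣ) : K), ?_⟩ : {κ : K | Algebra.norm F κ = 1})) ?_
    · have hu := u.2
      rw [MonoidHom.mem_ker] at hu
      have := congrArg Units.val hu
      simpa [f] using this
    · intro u v huv
      have : ((u : Kˣ) : K) = ((v : Kˣ) : K) := congrArg Subtype.val huv
      exact Subtype.ext (Units.ext this)
  rw [Nat.card_units K] at h1
  rw [Nat.card_units F] at h3
  calc Nat.card K - 1 = Nat.card f.ker * f.ker.index := h1.symm
    _ ≤ Set.ncard {κ : K | Algebra.norm F κ = 1} * (Nat.card F - 1) := by
        rw [h2]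
        exact Nat.mul_le_mul h4 h3

theorem N1 (hr : 2 ≤ Module.finrank F K) :
    AddSubgroup.closure {κ : K | Algebra.norm F κ = 1} = ⊤ := by
  classical
  set S : Set K := {κ : K | Algebra.norm F κ = 1} with hS
  -- `S` is (the carrier of) a submonoid
  let S' : Submonoid K := MonoidHom.mker (Algebra.norm F : K →* F)
  have hS' : (S' : Set K) = S := by
    ext x
    simp [S', hS, MonoidHom.mem_mker]
  have hcl : ∀ x : K, x ∈ Subring.closure S ↔ x ∈ AddSubgroup.closure S := by
    intro x
    rw [Subring.mem_closure_iff, ← hS', Submonoid.closure_eq]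
  -- the ring closure is a subfield
  let L : Subfield K :=
    { Subring.closure S with
      inv_mem' := by
        intro x hx
        by_cases h0 : x = 0
        · subst h0
          rw [inv_zero]
          exact hx
        · obtain ⟨n, hn, hxn⟩ := (isOfFinOrder_of_finite (Units.mk0 x h0)).exists_pow_eq_one
          have hxn' : x ^ n = 1 := by
            have := congrArg Units.val hxn
            simpa using this
          have hinv : x⁻¹ = x ^ (n - 1) := by
            apply inv_eq_of_mul_eq_one_right
            rw [← pow_succ', Nat.sub_add_cancel hn, hxn']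
          rw [hinv]
          exact (Subring.closure S).pow_mem hx _ }
  have hL : ∀ x : K, x ∈ L ↔ x ∈ Subring.closure S := fun x => Iff.rfl
  -- cardinalities
  have hq : 2 ≤ Nat.card F := by
    have : 1 < Nat.card F := Finite.one_lt_card
    omega
  have hKF : Nat.card K = Nat.card F ^ Module.finrank F K := Module.natCard_eq_pow_finrank
  have hKL : Nat.card K = Nat.card L ^ Module.finrank L K := Module.natCard_eq_pow_finrank
  have hsS := card_norm_one_mul (F := F) (K := K)
  have hSfin : S.Finite := Set.toFinite _
  have h0S : (0 : K) ∉ S := by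
    simp [hS]
  have hSL : Set.ncard S + 1 ≤ Nat.card L := by
    rw [← Set.ncard_insert_of_notMem h0S hSfin, ← Nat.card_coe_set_eq]
    refine Nat.card_le_card_of_injective
      (fun u : (insert (0 : K) S : Set K) => (⟨(u : K), ?_⟩ : L)) ?_
    · rcases u.2 with h | h
      · rw [h]; exact zero_mem L
      · exact (hL _).mpr (Subring.subset_closure h)
    · intro u v huv
      simp only [Subtype.mk.injEq] at huv
      exact Subtype.ext huv
  -- `finrank L K = 1`
  have hd1 : Module.finrank L K = 1 := by
    have hdpos : 0 < Module.finrank L K := Module.finrank_pos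
    by_contra hne
    have hd2 : 2 ≤ Module.finrank L K := by omega
    have hLpos : 1 ≤ Nat.card L := Nat.card_pos
    have hsq : Nat.card L ^ 2 ≤ Nat.card K := by
      rw [hKL]
      exact Nat.pow_le_pow_right hLpos hd2
    have hq2 : Nat.card F ^ 2 ≤ Nat.card K := by
      rw [hKF]
      exact Nat.pow_le_pow_right (by omega) hr
    generalize Set.ncard S = s at hsS hSL
    generalize Nat.card F = q at hq hsS hq2
    generalize Nat.card K = Q at hsS hq2 hsq
    generalize Nat.card L = l at hSL hsq
    -- s (q-1) ≥ Q - 1 ≥ q^2 - 1
    obtain ⟨q', rfl⟩ : ∃ q', q = q' + 1 := ⟨q - 1, by omega⟩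
    simp only [Nat.add_sub_cancel] at hsS
    have hQ1 : 1 ≤ Q := by
      have : 0 < (q' + 1) ^ 2 := by positivity
      omega
    have h5 : Q ≤ s * q' + 1 := by omega
    have h6 : (s + 1) ^ 2 ≤ l ^ 2 := Nat.pow_le_pow_left hSL 2
    nlinarith
  -- conclude
  rw [eq_top_iff]
  intro x _
  rw [← hcl, ← hL]
  have hbij : Function.Bijective (Subtype.val : L → K) := by
    apply Function.Injective.bijective_of_nat_card_le Subtype.val_injective
    rw [hKL, hd1, pow_one]
  obtain ⟨y, rfl⟩ := hbij.2 x
  exact y.2

end Cfsg.Agent.Lib.Helper43_Ext_N1
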