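import Mathlib
import Cfsg.Agent.Lib.Helper98_ExtDefs

set_option autoImplicit false

/-!
# S5886-M2a (architect helper98): left multiplication by the conjugate field preserves `cSet`

`M2a_core` takes the additive generation of `K` by the norm-one elements (package N1) as a
hypothesis; `M2a` (verbatim package statement) is in `Helper53_Ext_M2aMain`.
-/

open Cfsg.Agent.Lib.Helper98_ExtDefs

namespace Cfsg.Agent.Lib.Helper53_Ext_M2a

variable {F K V : Type*} [Field F] [Field K] [Algebra F K] [AddCommGroup V] [Module F V]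
  [Module K V] [IsScalarTower F K V]

theorem kconj_mem_tsp (y : V ≃ₗ[F] V) (v₁ : V) (k : K) (x : V) (hx : x ∈ tsp F K V y v₁) :
    kconj F K V y k x ∈ tsp F K V y v₁ := by
  obtain ⟨k', rfl⟩ := mem_tsp.mp hx
  rw [kconj_apply, LinearEquiv.symm_apply_apply, smul_smul]
  exact mem_tsp.mpr ⟨k * k', rfl⟩

theorem kconj_add (y : V ≃ₗ[F] V) (k₁ k₂ : K) (x : V) :
    kconj F K V y (k₁ + k₂) x = kconj F K V y k₁ x + kconj F K V y k₂ x := by
  simp only [kconj_apply, add_smul, map_add]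

theorem kconj_zero (y : V ≃ₗ[F] V) (x : V) : kconj F K V y (0 : K) x = 0 := by
  simp only [kconj_apply, zero_smul, map_zero]

theorem kconj_neg (y : V ≃ₗ[F] V) (k : K) (x : V) :
    kconj F K V y (-k) x = - kconj F K V y k x := by
  simp only [kconj_apply, neg_smul, map_neg]

/-- the zero multiplier -/
theorem hasMap_zero (M : Subgroup (V ≃ₗ[F] V)) (y : V ≃ₗ[F] V) (c : V →ₗ[F] V) :
    HasMap M (fun x => x + kconj F K V y (0 : K) (c x)) :=
  ⟨1, M.one_mem, fun x => by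
    show x = x + kconj F K V y (0 : K) (c x)
    rw [kconj_zero, add_zero]⟩

/-- sums of multipliers -/
theorem hasMap_add (M : Subgroup (V ≃ₗ[F] V)) (y : V ≃ₗ[F] V) (v₁ : V) (c : V →ₗ[F] V)
    (hc1 : ∀ x, c x ∈ tsp F K V y v₁) (hc2 : ∀ x ∈ tsp F K V y v₁, c x = 0) (k₁ k₂ : K)
    (h1 : HasMap M (fun x => x + kconj F K V y k₁ (c x)))
    (h2 : HasMap M (fun x => x + kconj F K V y k₂ (c x))) :
    HasMap M (fun x => x + kconj F K V y (k₁ + k₂) (c x)) := by
  obtain ⟨e1, he1, h1⟩ := h1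
  obtain ⟨e2, he2, h2⟩ := h2
  have h1' : ∀ x, e1 x = x + kconj F K V y k₁ (c x) := h1
  have h2' : ∀ x, e2 x = x + kconj F K V y k₂ (c x) := h2
  refine ⟨e1 * e2, M.mul_mem he1 he2, fun x => ?_⟩
  have hz : c (kconj F K V y k₂ (c x)) = 0 := hc2 _ (kconj_mem_tsp y v₁ k₂ _ (hc1 x))
  show e1 (e2 x) = x + kconj F K V y (k₁ + k₂) (c x)
  rw [h2' x, h1', map_add, hz, add_zero, kconj_add]
  abel

/-- negatives of multipliers -/
theorem hasMap_neg (M : Subgroup (V ≃ₗ[F] V)) (y : V ≃ₗ[F] V) (v₁ : V) (c : V →ₗ[F] V)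
    (hc1 : ∀ x, c x ∈ tsp F K V y v₁) (hc2 : ∀ x ∈ tsp F K V y v₁, c x = 0) (k : K)
    (h : HasMap M (fun x => x + kconj F K V y k (c x))) :
    HasMap M (fun x => x + kconj F K V y (-k) (c x)) := by
  obtain ⟨e, he, h⟩ := h
  have h' : ∀ x, e x = x + kconj F K V y k (c x) := h
  refine ⟨e⁻¹, M.inv_mem he, fun x => ?_⟩
  have hz : c (kconj F K V y k (c x)) = 0 := hc2 _ (kconj_mem_tsp y v₁ k _ (hc1 x))
  have key : e (x + kconj F K V y (-k) (c x)) = x := by
    rw [h', map_add, kconj_neg, map_neg, hz, neg_zero, add_zero]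
    abel
  show e.symm x = x + kconj F K V y (-k) (c x)
  rw [LinearEquiv.symm_apply_eq, key]

/-- norm-one multipliers: conjugate by `y d y⁻¹`, `d` the `K`-dilation by `κ` along `K v₁` -/
theorem hasMap_norm_one (M : Subgroup (V ≃ₗ[F] V)) (hkdil : KdilHyp F K V M)
    (y : V ≃ₗ[F] V) (hy : y ∈ M) (v₁ : V) (hv₁ : v₁ ≠ 0) (c : V →ₗ[F] V)
    (hc1 : ∀ x, c x ∈ tsp F K V y v₁) (hc2 : ∀ x ∈ tsp F K V y v₁, c x = 0)
    (hc3 : HasMap M (fun x => x + c x)) (κ : K) (hκ : Algebra.norm F κ = 1) :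
    HasMap M (fun x => x + kconj F K V y κ (c x)) := by
  -- a functional with χ₁ v₁ = 1
  have hinj : LinearMap.ker (LinearMap.toSpanSingleton K V v₁) = ⊥ :=
    LinearMap.ker_toSpanSingleton K hv₁
  obtain ⟨χ₁, hχ₁⟩ := LinearMap.exists_leftInverse_of_injective _ hinj
  have hχ₁v : χ₁ v₁ = 1 := by
    have := LinearMap.congr_fun hχ₁ (1 : K)
    simpa using this
  obtain ⟨d, hd, hdx'⟩ := hkdil χ₁ v₁ κ hχ₁v hκ
  obtain ⟨e, he, hex'⟩ := hc3
  have hdx : ∀ x, d x = x + ((κ - 1) * χ₁ x) • v₁ := hdx'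
  have hex : ∀ x, e x = x + c x := hex'
  set g : V ≃ₗ[F] V := y * d * y⁻¹ with hg
  have hgM : g ∈ M := M.mul_mem (M.mul_mem hy hd) (M.inv_mem hy)
  refine ⟨g * e * g⁻¹, M.mul_mem (M.mul_mem hgM he) (M.inv_mem hgM), fun x => ?_⟩
  -- g acts as kconj y κ on t'
  have hgt : ∀ u ∈ tsp F K V y v₁, g u = kconj F K V y κ u := by
    intro u hu
    obtain ⟨k', rfl⟩ := mem_tsp.mp hu
    show y (d (y.symm (y (k' • v₁)))) = _
    rw [kconj_apply, LinearEquiv.symm_apply_apply, hdx, map_smul, hχ₁v, smul_eq_mul, mul_one,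
      ← add_smul, smul_smul]
    congr 2
    ring
  -- g⁻¹ x - x ∈ t'
  have hginv : ∀ x, g.symm x - x ∈ tsp F K V y v₁ := by
    intro x
    have h1 : g.symm x = y (d.symm (y.symm x)) := rfl
    set z := y.symm x with hz
    set w := d.symm z with hw
    have h2 : d w = z := by rw [hw, LinearEquiv.apply_symm_apply]
    have h3 : w - z = (-((κ - 1) * χ₁ w)) • v₁ := by
      rw [← h2, hdx]
      rw [neg_smul]
      abel
    have h4 : g.symm x - x = y (w - z) := by
      rw [h1, map_sub, hz, LinearEquiv.apply_symm_apply]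
    rw [h4, h3]
    exact mem_tsp.mpr ⟨_, rfl⟩
  have hcg : c (g.symm x) = c x := by
    have : g.symm x = x + (g.symm x - x) := by abel
    rw [this, map_add, hc2 _ (hginv x), add_zero]
  show g (e (g.symm x)) = x + kconj F K V y κ (c x)
  rw [hex, map_add, LinearEquiv.apply_symm_apply, hcg, hgt _ (hc1 x)]

/-- **M2a** with the additive generation by norm-one elements (package N1) as a hypothesis. -/
theorem M2a_core (hN1 : AddSubgroup.closure {κ : K | Algebra.norm F κ = 1} = ⊤)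
    (M : Subgroup (V ≃ₗ[F] V)) (hkdil : KdilHyp F K V M)
    (y : V ≃ₗ[F] V) (hy : y ∈ M) (v₁ : V) (hv₁ : v₁ ≠ 0) (k : K) :
    kconj F K V y k ∈ bSet M (tsp F K V y v₁) := by
  refine ⟨fun x hx => kconj_mem_tsp y v₁ k x hx, ?_⟩
  rintro c ⟨hc1, hc2, hc3⟩
  refine ⟨fun x => kconj_mem_tsp y v₁ k _ (hc1 x), fun x hx => ?_, ?_⟩
  · show kconj F K V y k (c x) = 0
    rw [hc2 x hx, map_zero]
  · show HasMap M (fun x => x + kconj F K V y k (c x))
    have hk : k ∈ AddSubgroup.closure {κ : K | Algebra.norm F κ = 1} := by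
      rw [hN1]; exact AddSubgroup.mem_top k
    induction hk using AddSubgroup.closure_induction with
    | mem κ hκ => exact hasMap_norm_one M hkdil y hy v₁ hv₁ c hc1 hc2 hc3 κ hκ
    | zero => exact hasMap_zero M y c
    | add k₁ k₂ _ _ h1 h2 => exact hasMap_add M y v₁ c hc1 hc2 k₁ k₂ h1 h2
    | neg k₁ _ h1 => exact hasMap_neg M y v₁ c hc1 hc2 k₁ h1

end Cfsg.Agent.Lib.Helper53_Ext_M2a
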