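import Mathlib
import Cfsg.Agent.Lib.Helper98_ExtDefs
import Cfsg.Agent.Lib.Helper43_Ext_N1
import Cfsg.Agent.Lib.Helper53_Ext_M2a

set_option autoImplicit false

/-!
# S5886-M2a (architect helper98), verbatim package statement
-/

open Cfsg.Agent.Lib.Helper98_ExtDefs

namespace Cfsg.Agent.Lib.Helper53_Ext_M2a

variable {F K V : Type*} [Field F] [Field K] [Algebra F K] [AddCommGroup V] [Module F V]
  [Module K V] [IsScalarTower F K V] [Finite F] [Finite K] [Module.Finite K V]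

/-- **M2a** (M, ~250 lines).  Left multiplication by the conjugate field preserves `cSet`. -/
theorem M2a (hr : 2 ≤ Module.finrank F K) (M : Subgroup (V ≃ₗ[F] V)) (hkdil : KdilHyp F K V M)
    (y : V ≃ₗ[F] V) (hy : y ∈ M) (v₁ : V) (hv₁ : v₁ ≠ 0) (k : K) :
    kconj F K V y k ∈ bSet M (tsp F K V y v₁) :=
  M2a_core (Cfsg.Agent.Lib.Helper43_Ext_N1.N1 hr) M hkdil y hy v₁ hv₁ k

end Cfsg.Agent.Lib.Helper53_Ext_M2a
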