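import Mathlib
import Cfsg.Agent.Lib.Helper98_ExtDefs
import Cfsg.Agent.Lib.Helper2_Ext_Common
import Cfsg.Agent.Lib.Helper43_Ext_N1

/-!
S5886 package TB2 (architect helper98): `dim_K V = 2`.  If `M` contains all `K`-dilations of norm
one and one nontrivial transvection `1 + f₀ ⊗ v` with `f₀ (K v) = 0`, then it contains all
transvections `1 + f ⊗ v` with `f (K v) = 0`.
-/

set_option autoImplicit false

open Cfsg.Agent.Lib.Helper98_ExtDefs Cfsg.Agent.Lib.Helper2_Ext_Common

namespace Cfsg.Agent.Lib.Helper59_Ext_TB2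

variable {F K V : Type*} [Field F] [Field K] [Algebra F K] [AddCommGroup V] [Module F V]
  [Module K V] [IsScalarTower F K V] [Finite F] [Finite K] [Module.Finite K V]

omit [Finite F] [Finite K] [Module.Finite K V] in
theorem phi_add (f : V →ₗ[F] F) (χ χ' : V →ₗ[K] K) (w : V) :
    phi f (χ + χ') w = phi f χ w + phi f χ' w := by
  ext x
  rw [LinearMap.add_apply, phi_apply, phi_apply, phi_apply, LinearMap.add_apply, add_smul,
    map_add]

/-- `κ ↦ (x ↦ f₀ ((κ * χ x) • w))` as an `F`-linear map -/
def Tmap (f₀ : V →ₗ[F] F) (χ : V →ₗ[K] K) (w : V) : K →ₗ[F] (V →ₗ[F] F) where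
  toFun κ := phi f₀ (κ • χ) w
  map_add' a b := by rw [add_smul, phi_add]
  map_smul' a κ := by
    rw [RingHom.id_apply, smul_phi, smul_smul, ← Algebra.smul_def]

omit [Finite F] [Finite K] [Module.Finite K V] in
theorem Tmap_apply (f₀ : V →ₗ[F] F) (χ : V →ₗ[K] K) (w : V) (κ : K) (x : V) :
    Tmap f₀ χ w κ x = f₀ ((κ * χ x) • w) := rfl

theorem TB2 (hm : Module.finrank K V = 2) (hr : 2 ≤ Module.finrank F K)
    (M : Subgroup (V ≃ₗ[F] V)) (hkdil : KdilHyp F K V M)
    (v : V) (hv : v ≠ 0) (f₀ : V →ₗ[F] F) (hf₀ : f₀ ≠ 0) (hf₀v : ∀ k : K, f₀ (k • v) = 0)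
    (hf₀M : HasMap M (fun x => x + f₀ x • v))
    (f : V →ₗ[F] F) (hf : ∀ k : K, f (k • v) = 0) : HasMap M (fun x => x + f x • v) := by
  classical
  have hfinV : Finite V := Module.finite_of_finite K
  have hFK : Module.Finite F K := Module.Finite.of_finite
  have hFV : Module.Finite F V := Module.Finite.of_finite
  -- a complement `K w` of `K v` and the coordinate `χ`
  obtain ⟨w, hw⟩ : ∃ w : V, w ∉ Submodule.span K {v} := by
    by_contra hcon
    push Not at hcon
    have htop : Submodule.span K {v} = ⊤ := by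
      rw [eq_top_iff]
      intro x _
      exact hcon x
    have h1 := finrank_span_singleton (K := K) hv
    rw [htop, finrank_top] at h1
    omega
  obtain ⟨χ, hχw, hχ0⟩ := exists_dual_eq (Submodule.span K {v}) hw (1 : K)
  have hχv : χ v = 0 := hχ0 v (Submodule.mem_span_singleton_self v)
  have hχne : χ ≠ 0 := by
    rintro rfl
    rw [LinearMap.zero_apply] at hχw
    exact zero_ne_one hχw
  have hker : LinearMap.ker χ = Submodule.span K {v} := by
    symm
    apply Submodule.eq_of_le_of_finrank_eq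
    · rw [Submodule.span_singleton_le_iff_mem]
      exact LinearMap.mem_ker.2 hχv
    · have h1 := Module.Dual.finrank_ker_add_one_of_ne_zero hχne
      have h2 := finrank_span_singleton (K := K) hv
      omega
  -- functionals vanishing on `K v` only see the `w`-coordinate
  have hcoord : ∀ g : V →ₗ[F] F, (∀ k : K, g (k • v) = 0) → ∀ y : V, g y = g (χ y • w) := by
    intro g hg y
    have h1 : y - χ y • w ∈ LinearMap.ker χ := by
      rw [LinearMap.mem_ker, map_sub, LinearMap.map_smul χ, hχw, smul_eq_mul, mul_one, sub_self]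
    rw [hker] at h1
    obtain ⟨k, hk⟩ := Submodule.mem_span_singleton.1 h1
    have h2 : y = k • v + χ y • w := by rw [hk]; abel
    conv_lhs => rw [h2]
    rw [map_add, hg, zero_add]
  have hf₀Av : f₀ ∈ Av M v := ⟨by simpa using hf₀v 1, hf₀M⟩
  -- `Av` contains `Tmap κ` for `κ` of norm one
  have hgen : ∀ κ : K, Algebra.norm F κ = 1 → Tmap f₀ χ w κ ∈ Av M v := by
    intro κ hκ
    have h1 : HasMap M (fun x => x + (cmapK F ((κ - 1) • χ) w) x) := by
      refine HasMap_congr (hkdil χ w κ hχw hκ) ?_
      intro x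
      rw [cmapK_apply, LinearMap.smul_apply, smul_eq_mul]
    have h2 : f₀ ∘ₗ cmapK F ((κ - 1) • χ) w ∈ Av M v :=
      stab_gen hf₀Av _ h1 (by rw [cmapK_apply, LinearMap.smul_apply, hχv, smul_zero, zero_smul])
    have h3 : Tmap f₀ χ w κ = f₀ ∘ₗ cmapK F ((κ - 1) • χ) w + f₀ := by
      ext x
      rw [Tmap_apply, LinearMap.add_apply, LinearMap.comp_apply, cmapK_apply,
        LinearMap.smul_apply, smul_eq_mul, hcoord f₀ hf₀v x, ← map_add, ← add_smul]
      congr 2
      ring
    rw [h3]
    exact (Av M v).add_mem h2 hf₀Av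
  have hall : ∀ κ : K, Tmap f₀ χ w κ ∈ Av M v := by
    have hle : AddSubgroup.closure {κ : K | Algebra.norm F κ = 1} ≤
        (Av M v).comap (Tmap f₀ χ w).toAddMonoidHom := by
      rw [AddSubgroup.closure_le]
      intro κ hκ
      exact hgen κ hκ
    rw [Cfsg.Agent.Lib.Helper43_Ext_N1.N1 (F := F) (K := K) hr] at hle
    intro κ
    exact hle (AddSubgroup.mem_top κ)
  -- `Tmap` is injective
  have hinj : Function.Injective (Tmap f₀ χ w) := by
    rw [← LinearMap.ker_eq_bot, LinearMap.ker_eq_bot']
    intro κ hκ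
    by_contra hκ0
    apply hf₀
    ext y
    rw [LinearMap.zero_apply, hcoord f₀ hf₀v y]
    have h1 := congrArg (fun g : V →ₗ[F] F => g ((κ⁻¹ * χ y) • w)) hκ
    simp only [LinearMap.zero_apply] at h1
    rw [Tmap_apply, LinearMap.map_smul χ, hχw, smul_eq_mul, mul_one, ← mul_assoc, mul_inv_cancel₀ hκ0,
      one_mul] at h1
    exact h1
  -- dimension count
  set B : Submodule F (Module.Dual F V) := (kline F K V v).dualAnnihilator with hB
  have hrange : LinearMap.range (Tmap f₀ χ w) ≤ B := by
    rintro _ ⟨κ, rfl⟩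
    rw [hB, Submodule.mem_dualAnnihilator]
    intro x hx
    obtain ⟨k, rfl⟩ := mem_kline.1 hx
    rw [Tmap_apply, LinearMap.map_smul χ, hχv, smul_zero, mul_zero, zero_smul, map_zero]
  have hfinB : Module.finrank F B = Module.finrank F K := by
    have h1 := Subspace.finrank_add_finrank_dualAnnihilator_eq (kline F K V v)
    have h2 : Module.finrank F (kline F K V v) = Module.finrank F K := by
      have hrange' : kline F K V v =
          LinearMap.range ((LinearMap.toSpanSingleton K V v).restrictScalars F) := by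
        ext x
        rw [mem_kline, LinearMap.mem_range]
        rfl
      rw [hrange']
      apply LinearMap.finrank_range_of_inj
      intro a b hab
      exact smul_left_injective K hv hab
    have h3 := Module.finrank_mul_finrank F K V
    rw [hm] at h3
    rw [← hB] at h1
    omega
  have heq : LinearMap.range (Tmap f₀ χ w) = B := by
    apply Submodule.eq_of_le_of_finrank_eq hrange
    rw [LinearMap.finrank_range_of_inj hinj, hfinB]
  have hfB : f ∈ B := by
    rw [hB, Submodule.mem_dualAnnihilator]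
    intro x hx
    obtain ⟨k, rfl⟩ := mem_kline.1 hx
    exact hf k
  rw [← heq] at hfB
  obtain ⟨κ, rfl⟩ := hfB
  exact (hall κ).2

end Cfsg.Agent.Lib.Helper59_Ext_TB2
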