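import Mathlib
import Cfsg.Agent.Lib.Helper98_ExtDefs

/-!
# S5886 package `E` (helper70, for helper98): `ΓL₂(4) < GL₄(2)`

`dim_K V = 2`, `[K:F] = 2`, `|F| = 2`.  After normalising the element `y` of `M` by a `K`-linear map,
its matrix in the `F`-basis `δ, ωδ, u₀, ωu₀` is `Yq q` for one of eight vectors `q`; for each of them a
table gives `K`-linear matrices `h, h₂` such that `Yq q * h * (Yq q)⁻¹ * h₂⁻¹` is a transvection
(checked by `decide`).
-/

set_option autoImplicit false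
set_option linter.unusedSectionVars false

open Cfsg.Agent.Lib.Helper98_ExtDefs Module

namespace Cfsg.Agent.Lib.Helper70_Ext_E

/-! ## The concrete computation in `GL₄(2)` -/

/-- `4 × 4` matrices over `F₂` -/
abbrev Mat := Matrix (Fin 4) (Fin 4) (ZMod 2)

/-- multiplication by `ω` in the basis `δ, ωδ, u₀, ωu₀` -/
def Om : Mat := !![0, 1, 0, 0; 1, 1, 0, 0; 0, 0, 0, 1; 0, 0, 1, 1]

/-- the normalised element: `δ ↦ δ`, `ωδ ↦ u₀`, `u₀ ↦ ωδ`, `ωu₀ ↦ q` -/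
def Yq (q : Fin 4 → ZMod 2) : Mat :=
  !![1, 0, 0, q 0; 0, 0, 1, q 1; 0, 1, 0, q 2; 0, 0, 0, q 3]

/-- a witness: two `K`-linear matrices with their inverses and a transvection `1 + uc vrᵀ` -/
structure Wit where
  /-- first `K`-linear matrix -/
  h : Mat
  /-- its inverse -/
  hi : Mat
  /-- second `K`-linear matrix -/
  h2 : Mat
  /-- its inverse -/
  h2i : Mat
  /-- centre of the transvection -/
  uc : Fin 4 → ZMod 2
  /-- linear form of the transvection -/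
  vr : Fin 4 → ZMod 2

/-- the table of witnesses -/
def tbl : List Wit := [
  ⟨!![0, 1, 1, 0; 1, 1, 0, 1; 0, 0, 1, 0; 0, 0, 0, 1], !![1, 1, 1, 1; 1, 0, 1, 0; 0, 0, 1, 0; 0, 0, 0, 1], !![0, 1, 1, 0; 1, 1, 0, 1; 0, 0, 1, 0; 0, 0, 0, 1], !![1, 1, 1, 1; 1, 0, 1, 0; 0, 0, 1, 0; 0, 0, 0, 1], ![0, 1, 1, 0], ![1, 1, 1, 0]⟩,
  ⟨!![0, 1, 1, 0; 1, 1, 0, 1; 0, 0, 0, 1; 0, 0, 1, 1], !![1, 1, 0, 1; 1, 0, 1, 1; 0, 0, 1, 1; 0, 0, 1, 0], !![0, 0, 1, 0; 0, 0, 0, 1; 1, 0, 1, 0; 0, 1, 0, 1], !![1, 0, 1, 0; 0, 1, 0, 1; 1, 0, 0, 0; 0, 1, 0, 0], ![1, 0, 0, 0], ![0, 1, 0, 0]⟩,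
  ⟨!![0, 0, 1, 0; 0, 0, 0, 1; 1, 0, 1, 0; 0, 1, 0, 1], !![1, 0, 1, 0; 0, 1, 0, 1; 1, 0, 0, 0; 0, 1, 0, 0], !![0, 1, 1, 0; 1, 1, 0, 1; 0, 0, 0, 1; 0, 0, 1, 1], !![1, 1, 0, 1; 1, 0, 1, 1; 0, 0, 1, 1; 0, 0, 1, 0], ![1, 1, 0, 0], ![0, 0, 0, 1]⟩,
  ⟨!![0, 0, 1, 0; 0, 0, 0, 1; 1, 0, 1, 0; 0, 1, 0, 1], !![1, 0, 1, 0; 0, 1, 0, 1; 1, 0, 0, 0; 0, 1, 0, 0], !![0, 1, 1, 0; 1, 1, 0, 1; 0, 0, 0, 1; 0, 0, 1, 1], !![1, 1, 0, 1; 1, 0, 1, 1; 0, 0, 1, 1; 0, 0, 1, 0], ![0, 1, 0, 0], ![0, 0, 1, 1]⟩,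
  ⟨!![0, 1, 1, 0; 1, 1, 0, 1; 0, 0, 0, 1; 0, 0, 1, 1], !![1, 1, 0, 1; 1, 0, 1, 1; 0, 0, 1, 1; 0, 0, 1, 0], !![0, 0, 1, 0; 0, 0, 0, 1; 1, 0, 1, 0; 0, 1, 0, 1], !![1, 0, 1, 0; 0, 1, 0, 1; 1, 0, 0, 0; 0, 1, 0, 0], ![1, 0, 1, 0], ![0, 0, 0, 1]⟩,
  ⟨!![0, 1, 1, 0; 1, 1, 0, 1; 0, 0, 0, 1; 0, 0, 1, 1], !![1, 1, 0, 1; 1, 0, 1, 1; 0, 0, 1, 1; 0, 0, 1, 0], !![0, 0, 1, 0; 0, 0, 0, 1; 1, 0, 1, 0; 0, 1, 0, 1], !![1, 0, 1, 0; 0, 1, 0, 1; 1, 0, 0, 0; 0, 1, 0, 0], ![0, 0, 1, 0], ![0, 1, 0, 1]⟩,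
  ⟨!![0, 1, 1, 0; 1, 1, 0, 1; 0, 0, 1, 0; 0, 0, 0, 1], !![1, 1, 1, 1; 1, 0, 1, 0; 0, 0, 1, 0; 0, 0, 0, 1], !![0, 1, 1, 0; 1, 1, 0, 1; 0, 0, 1, 0; 0, 0, 0, 1], !![1, 1, 1, 1; 1, 0, 1, 0; 0, 0, 1, 0; 0, 0, 0, 1], ![0, 1, 1, 0], ![1, 1, 1, 0]⟩,
  ⟨!![0, 1, 0, 1; 1, 1, 1, 1; 0, 0, 1, 0; 0, 0, 0, 1], !![1, 1, 1, 0; 1, 0, 0, 1; 0, 0, 1, 0; 0, 0, 0, 1], !![1, 1, 1, 0; 1, 0, 0, 1; 0, 0, 1, 0; 0, 0, 0, 1], !![0, 1, 0, 1; 1, 1, 1, 1; 0, 0, 1, 0; 0, 0, 0, 1], ![1, 1, 1, 0], ![1, 0, 1, 1]⟩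
]

/-- the witness for `q` -/
def wit (q : Fin 4 → ZMod 2) : Wit :=
  tbl.getD ((q 0).val + 2 * (q 1).val + 4 * (q 2).val) ⟨1, 1, 1, 1, 0, 0⟩

/-- the witness works -/
def WitOK (q : Fin 4 → ZMod 2) (w : Wit) : Prop :=
  w.h * Om = Om * w.h ∧ w.h2 * Om = Om * w.h2 ∧ w.h * w.hi = 1 ∧ w.hi * w.h = 1 ∧
    w.h2 * w.h2i = 1 ∧ w.h2i * w.h2 = 1 ∧
    Yq q * w.h = (1 + Matrix.vecMulVec w.uc w.vr) * w.h2 * Yq q ∧
    w.vr ⬝ᵥ w.uc = 0 ∧ w.uc ≠ 0 ∧ w.vr ≠ 0

instance (q : Fin 4 → ZMod 2) (w : Wit) : Decidable (WitOK q w) := by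
  unfold WitOK; infer_instance

theorem table_ok : ∀ q : Fin 4 → ZMod 2, (Yq q).det = 0 ∨ WitOK q (wit q) := by
  decide +kernel



section bridge

variable {F V : Type*} [Field F] [AddCommGroup V] [Module F V] (e : ZMod 2 →+* F)
  (b : Basis (Fin 4) F V)

/-- the `F`-endomorphism with matrix `A` -/
noncomputable def L (A : Mat) : V →ₗ[F] V := Matrix.toLin b b (e.mapMatrix A)

theorem L_mul (A B : Mat) : L e b (A * B) = L e b A ∘ₗ L e b B := by
  unfold L; rw [map_mul, Matrix.toLin_mul b b b]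

theorem L_one : L e b 1 = LinearMap.id := by
  unfold L; rw [map_one, Matrix.toLin_one]

theorem L_add (A B : Mat) : L e b (A + B) = L e b A + L e b B := by
  unfold L; rw [map_add, map_add]

theorem L_basis (A : Mat) (j : Fin 4) : L e b A (b j) = ∑ i, e (A i j) • b i := by
  unfold L; rw [Matrix.toLin_self]; rfl

/-- the `F`-automorphism with matrix `A` -/
noncomputable def LE (A Ai : Mat) (h1 : A * Ai = 1) (h2 : Ai * A = 1) : V ≃ₗ[F] V :=
  LinearEquiv.ofLinearMap (L e b A) (L e b Ai) (by rw [← L_mul, h1, L_one])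
    (by rw [← L_mul, h2, L_one])

theorem LE_apply (A Ai : Mat) (h1 : A * Ai = 1) (h2 : Ai * A = 1) (x : V) :
    LE e b A Ai h1 h2 x = L e b A x := rfl

theorem coord_sum (vr : Fin 4 → ZMod 2) (j : Fin 4) :
    (∑ i, e (vr i) • b.coord i) (b j) = e (vr j) := by
  rw [LinearMap.sum_apply, Finset.sum_eq_single j]
  · rw [LinearMap.smul_apply, Basis.coord_apply, Basis.repr_self, Finsupp.single_eq_same,
      smul_eq_mul, mul_one]
  · intro i _ hij
    rw [LinearMap.smul_apply, Basis.coord_apply, Basis.repr_self, Finsupp.single_eq_of_ne hij,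
      smul_zero]
  · intro h; exact absurd (Finset.mem_univ j) h

theorem L_transv (uc vr : Fin 4 → ZMod 2) (x : V) :
    L e b (1 + Matrix.vecMulVec uc vr) x =
      x + (∑ i, e (vr i) • b.coord i) x • (∑ i, e (uc i) • b i) := by
  rw [L_add, L_one, LinearMap.add_apply, LinearMap.id_apply]
  congr 1
  have : L e b (Matrix.vecMulVec uc vr) =
      (∑ i, e (vr i) • b.coord i).smulRight (∑ i, e (uc i) • b i) := by
    apply b.ext
    intro j
    rw [L_basis, LinearMap.smulRight_apply, coord_sum, Finset.smul_sum]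
    apply Finset.sum_congr rfl
    intro i _
    rw [Matrix.vecMulVec_apply, map_mul, smul_smul, mul_comm]
  rw [this, LinearMap.smulRight_apply]

variable {K : Type*} [Field K] [Algebra F K] [Module K V] [IsScalarTower F K V] (ω : K)

theorem L_klin (hΩ : ∀ v, L e b Om v = ω • v)
    (hK : ∀ k : K, ∃ α β : F, k = α • (1 : K) + β • ω) (A : Mat) (hA : A * Om = Om * A) (k : K)
    (v : V) : L e b A (k • v) = k • L e b A v := by
  have hω : ∀ v, L e b A (ω • v) = ω • L e b A v := fun v => by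
    rw [← hΩ, ← LinearMap.comp_apply, ← L_mul, hA, L_mul, LinearMap.comp_apply, hΩ]
  obtain ⟨α, β, rfl⟩ := hK k
  have e1 : ∀ w : V, (α • (1 : K) + β • ω) • w = α • w + β • ω • w := fun w => by
    rw [add_smul, smul_assoc, smul_assoc, one_smul]
  rw [e1, e1, map_add, map_smul, map_smul, hω]

end bridge


section fields

variable {F K : Type*} [Field F] [Field K] [Algebra F K] [Finite F] [Finite K]

omit [Finite F] in
/-- a field with two elements is `ZMod 2` -/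
theorem exists_e [Finite F] (hq : Nat.card F = 2) : ∃ e : ZMod 2 →+* F, Function.Bijective e := by
  classical
  have : Fintype F := Fintype.ofFinite F
  have hF : Fintype.card F = 2 := by rw [← Nat.card_eq_fintype_card]; exact hq
  exact ⟨(ZMod.ringEquivOfPrime F Nat.prime_two hF : ZMod 2 →+* F),
    (ZMod.ringEquivOfPrime F Nat.prime_two hF).bijective⟩

omit [Finite F] in
theorem zero_or_one (e : ZMod 2 →+* F) (he : Function.Bijective e) (α : F) : α = 0 ∨ α = 1 := by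
  obtain ⟨z, rfl⟩ := he.2 α
  have : z = 0 ∨ z = 1 := by revert z; decide
  rcases this with rfl | rfl
  · exact Or.inl (map_zero e)
  · exact Or.inr (map_one e)

omit [Finite F] in
theorem two_eq_zero (e : ZMod 2 →+* F) : (1 + 1 : F) = 0 := by
  have : (1 + 1 : ZMod 2) = 0 := by decide
  rw [← map_one e, ← map_add, this, map_zero]

omit [Finite F] in
theorem pair_indep (ω : K) (hω : ω ∉ Set.range (algebraMap F K)) :
    LinearIndependent F ![(1 : K), ω] := by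
  rw [LinearIndependent.pair_iff' one_ne_zero]
  intro a ha
  apply hω
  exact ⟨a, by rw [← ha, Algebra.algebraMap_eq_smul_one]⟩

omit [Finite F] in
theorem exists_coeffs (hr : Module.finrank F K = 2) (ω : K)
    (hω : ω ∉ Set.range (algebraMap F K)) (k : K) : ∃ α β : F, k = α • (1 : K) + β • ω := by
  have hli := pair_indep ω hω
  have hspan := hli.span_eq_top_of_card_eq_finrank' (by rw [hr]; rfl)
  have hk : k ∈ Submodule.span F (Set.range ![(1 : K), ω]) := by rw [hspan]; trivial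
  have hrange : Set.range ![(1 : K), ω] = {1, ω} := by
    ext x
    simp only [Set.mem_range, Set.mem_insert_iff, Set.mem_singleton_iff]
    constructor
    · rintro ⟨i, rfl⟩
      fin_cases i
      · exact Or.inl rfl
      · exact Or.inr rfl
    · rintro (rfl | rfl)
      · exact ⟨0, rfl⟩
      · exact ⟨1, rfl⟩
  rw [hrange, Submodule.mem_span_pair] at hk
  obtain ⟨α, β, h⟩ := hk
  exact ⟨α, β, h.symm⟩

omit [Finite F] in
theorem omega_sq (e : ZMod 2 →+* F) (he : Function.Bijective e) (hr : Module.finrank F K = 2)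
    (ω : K) (hω : ω ∉ Set.range (algebraMap F K)) : ω * ω = ω + 1 := by
  have h2 : (1 + 1 : K) = 0 := by
    have := congrArg (algebraMap F K) (two_eq_zero e)
    simpa using this
  have hω0 : ω ≠ 0 := fun h => hω ⟨0, by rw [h, map_zero]⟩
  have hω1 : ω ≠ 1 := fun h => hω ⟨1, by rw [h, map_one]⟩
  obtain ⟨α, β, h⟩ := exists_coeffs hr ω hω (ω * ω)
  rcases zero_or_one e he α with rfl | rfl <;> rcases zero_or_one e he β with rfl | rfl
  · rw [zero_smul, zero_smul, add_zero] at h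
    exact absurd (mul_self_eq_zero.mp h) hω0
  · rw [zero_smul, one_smul, zero_add] at h
    have : ω * (ω - 1) = 0 := by rw [mul_sub, h, mul_one, sub_self]
    rcases mul_eq_zero.mp this with h' | h'
    · exact absurd h' hω0
    · exact absurd (sub_eq_zero.mp h') hω1
  · rw [one_smul, zero_smul, add_zero] at h
    have : (ω - 1) * (ω - 1) = 0 := by
      have : (ω - 1) * (ω - 1) = ω * ω - (1 + 1) * ω + 1 := by ring
      rw [this, h, h2, zero_mul, sub_zero, h2]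
    exact absurd (sub_eq_zero.mp (mul_self_eq_zero.mp this)) hω1
  · rw [one_smul, one_smul] at h
    rw [h, add_comm]

end fields


section main

variable {F K V : Type*} [Field F] [Field K] [Algebra F K] [AddCommGroup V] [Module F V]
  [Module K V] [IsScalarTower F K V] [Finite F] [Finite K] [Module.Finite K V]

theorem four_indep (ω : K) (hω : ω ∉ Set.range (algebraMap F K)) (δ u₀ : V)
    (hK : LinearIndependent K ![δ, u₀]) : LinearIndependent F ![δ, ω • δ, u₀, ω • u₀] := by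
  rw [Fintype.linearIndependent_iff]
  intro g hg
  rw [Fin.sum_univ_four] at hg
  have h1 : (g 0 • (1 : K) + g 1 • ω) • δ + (g 2 • (1 : K) + g 3 • ω) • u₀ = 0 := by
    rw [add_smul, add_smul, smul_assoc, smul_assoc, smul_assoc, smul_assoc, one_smul, one_smul,
      ← hg]
    simp only [Matrix.cons_val_zero, Matrix.cons_val_one, Matrix.cons_val]
    abel
  obtain ⟨h2, h3⟩ := LinearIndependent.pair_iff.mp hK _ _ h1
  obtain ⟨h4, h5⟩ := LinearIndependent.pair_iff.mp (pair_indep ω hω) _ _ h2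
  obtain ⟨h6, h7⟩ := LinearIndependent.pair_iff.mp (pair_indep ω hω) _ _ h3
  intro i
  fin_cases i <;> assumption

/-- **E** (L, ~500 lines).  `dim_K V = 2`, `[K:F] = 2`, `|F| = 2`  (`ΓL_2(4) < GL_4(2)`). -/
theorem caseE (hm : Module.finrank K V = 2) (hr : Module.finrank F K = 2) (hq : Nat.card F = 2)
    (M : Subgroup (V ≃ₗ[F] V)) (hsemi : SemiHyp F K V M)
    (y : V ≃ₗ[F] V) (v₁ δ u₀ : V) (hc : Config F K V M y v₁ δ u₀) : HasTv M := by
  classical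
  obtain ⟨e, he⟩ := exists_e (F := F) hq
  obtain ⟨k₁, hk₁⟩ := mem_tsp.mp hc.hδt
  obtain ⟨k₂, hk₂⟩ := mem_tsp.mp hc.hu₀t
  have hk₁0 : k₁ ≠ 0 := by
    rintro rfl
    rw [zero_smul, map_zero] at hk₁
    exact hc.hδ hk₁.symm
  obtain ⟨a₁, ha₁⟩ : ∃ a, a = k₁ • v₁ := ⟨_, rfl⟩
  obtain ⟨ω, hωdef⟩ : ∃ w, w = k₂ * k₁⁻¹ := ⟨_, rfl⟩
  have hya₁ : y a₁ = δ := by rw [ha₁]; exact hk₁
  have hyωa₁ : y (ω • a₁) = u₀ := by
    rw [← hk₂, ha₁, smul_smul, hωdef, mul_assoc, inv_mul_cancel₀ hk₁0, mul_one]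
  have hω : ω ∉ Set.range (algebraMap F K) := by
    rintro ⟨α, hα⟩
    apply hc.hu₀
    rw [mem_kline]
    refine ⟨algebraMap F K α, ?_⟩
    rw [← hyωa₁, ← hα, algebraMap_smul, algebraMap_smul, map_smul, hya₁]
  have hω2 := omega_sq e he hr ω hω
  have hKc := exists_coeffs hr ω hω
  -- `K`-independence of `δ, u₀`
  have hKind : LinearIndependent K ![δ, u₀] := by
    rw [LinearIndependent.pair_iff' hc.hδ]
    intro a ha
    exact hc.hu₀ (mem_kline.mpr ⟨a, ha⟩)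
  -- the `F`-basis
  have hfr : Module.finrank F V = 4 := by rw [← Module.finrank_mul_finrank F K V, hr, hm]
  have hFK : Module.Finite F K := Module.Finite.of_finite
  have hFV : Module.Finite F V := Module.Finite.trans K V
  obtain ⟨b, hb⟩ : ∃ b : Basis (Fin 4) F V, ⇑b = ![δ, ω • δ, u₀, ω • u₀] :=
    ⟨basisOfLinearIndependentOfCardEqFinrank (four_indep ω hω δ u₀ hKind) (by rw [hfr]; rfl),
      coe_basisOfLinearIndependentOfCardEqFinrank _ _⟩
  have hb0 : b 0 = δ := by rw [hb]; rfl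
  have hb1 : b 1 = ω • δ := by rw [hb]; rfl
  have hb2 : b 2 = u₀ := by rw [hb]; rfl
  have hb3 : b 3 = ω • u₀ := by rw [hb]; rfl
  -- multiplication by `ω` has matrix `Om`
  have hΩ : ∀ v, L e b Om v = ω • v := by
    have : L e b Om = (LinearMap.lsmul K V ω).restrictScalars F := by
      apply b.ext
      intro j
      rw [L_basis, Fin.sum_univ_four, LinearMap.restrictScalars_apply, LinearMap.lsmul_apply]
      fin_cases j
      · simp [Om, hb0, hb1]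
      · simp [Om, hb0, hb1, smul_smul, hω2, add_smul, add_comm]
      · simp [Om, hb2, hb3]
      · simp [Om, hb2, hb3, smul_smul, hω2, add_smul, add_comm]
    intro v
    rw [this, LinearMap.restrictScalars_apply, LinearMap.lsmul_apply]
  -- the normalising `K`-linear map `h₀ : δ ↦ a₁, u₀ ↦ c`
  obtain ⟨c, hcdef⟩ : ∃ c, c = y.symm (ω • δ) := ⟨_, rfl⟩
  have hyc : y c = ω • δ := by rw [hcdef, LinearEquiv.apply_symm_apply]
  have ha₁0 : a₁ ≠ 0 := by
    rintro rfl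
    rw [map_zero] at hya₁
    exact hc.hδ hya₁.symm
  have hKind' : LinearIndependent K ![a₁, c] := by
    rw [LinearIndependent.pair_iff' ha₁0]
    intro k hk
    obtain ⟨α, β, rfl⟩ := hKc k
    have h1 : y ((α • (1 : K) + β • ω) • a₁) = α • δ + β • u₀ := by
      rw [add_smul, smul_assoc, smul_assoc, one_smul, map_add, map_smul, map_smul, hya₁, hyωa₁]
    rw [hk, hyc] at h1
    have h2 : (ω - α • (1 : K)) • δ + (-(β • (1 : K))) • u₀ = 0 := by
      rw [sub_smul, neg_smul, smul_assoc, smul_assoc, one_smul, one_smul, h1]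
      abel
    obtain ⟨h3, -⟩ := LinearIndependent.pair_iff.mp hKind _ _ h2
    apply hω
    exact ⟨α, by rw [Algebra.algebraMap_eq_smul_one]; exact (sub_eq_zero.mp h3).symm⟩
  obtain ⟨bK, hbK⟩ : ∃ bK : Basis (Fin 2) K V, ⇑bK = ![δ, u₀] :=
    ⟨basisOfLinearIndependentOfCardEqFinrank hKind (by rw [hm]; rfl),
      coe_basisOfLinearIndependentOfCardEqFinrank _ _⟩
  obtain ⟨bK', hbK'⟩ : ∃ bK' : Basis (Fin 2) K V, ⇑bK' = ![a₁, c] :=
    ⟨basisOfLinearIndependentOfCardEqFinrank hKind' (by rw [hm]; rfl),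
      coe_basisOfLinearIndependentOfCardEqFinrank _ _⟩
  obtain ⟨h₀, hh₀def⟩ : ∃ h₀ : V ≃ₗ[K] V, h₀ = bK.equiv bK' (Equiv.refl _) := ⟨_, rfl⟩
  have hh₀δ : h₀ δ = a₁ := by
    have := bK.equiv_apply 0 bK' (Equiv.refl _)
    rw [hbK, hbK'] at this
    rw [hh₀def]; exact this
  have hh₀u : h₀ u₀ = c := by
    have := bK.equiv_apply 1 bK' (Equiv.refl _)
    rw [hbK, hbK'] at this
    rw [hh₀def]; exact this
  have hh₀M : h₀.restrictScalars F ∈ M :=
    hsemi _ ⟨RingEquiv.refl K, fun k v => by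
      rw [LinearEquiv.restrictScalars_apply, LinearEquiv.restrictScalars_apply, map_smul]; rfl⟩
  obtain ⟨y', hy'def⟩ : ∃ y' : V ≃ₗ[F] V, y' = y * h₀.restrictScalars F := ⟨_, rfl⟩
  have hy'M : y' ∈ M := by rw [hy'def]; exact M.mul_mem hc.hy hh₀M
  have hy'app : ∀ x, y' x = y (h₀ x) := fun x => by rw [hy'def]; rfl
  have hy'0 : y' (b 0) = b 0 := by rw [hb0, hy'app, hh₀δ, hya₁]
  have hy'1 : y' (b 1) = b 2 := by rw [hb1, hb2, hy'app, map_smul, hh₀δ, hyωa₁]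
  have hy'2 : y' (b 2) = b 1 := by rw [hb1, hb2, hy'app, hh₀u, hyc]
  -- the matrix of `y'`
  obtain ⟨q, hq'⟩ : ∃ q : Fin 4 → ZMod 2, ∀ i, e (q i) = b.repr (y' (b 3)) i :=
    ⟨fun i => (Equiv.ofBijective e he).symm (b.repr (y' (b 3)) i), fun i =>
      (Equiv.ofBijective e he).apply_symm_apply _⟩
  have hY : (y' : V →ₗ[F] V) = L e b (Yq q) := by
    apply b.ext
    intro j
    rw [L_basis, Fin.sum_univ_four]
    fin_cases j
    · simp [Yq, hy'0]
    · simp [Yq, hy'1]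
    · simp [Yq, hy'2]
    · have := b.sum_repr (y' (b 3))
      rw [Fin.sum_univ_four] at this
      simp [Yq, hq', this]
  have hYapp : ∀ x, y' x = L e b (Yq q) x := fun x => by rw [← hY]; rfl
  have hdet : (Yq q).det ≠ 0 := by
    intro h0
    have h1 := LinearEquiv.isUnit_det' y'
    rw [hY] at h1
    unfold L at h1
    rw [LinearMap.det_toLin, ← RingHom.map_det, h0, map_zero] at h1
    exact not_isUnit_zero h1
  rcases table_ok q with h0 | ⟨hh, hh2, h1, h2, h3, h4, heq, hdot, huc, hvr⟩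
  · exact absurd h0 hdet
  obtain ⟨w, hw⟩ : ∃ w, w = wit q := ⟨_, rfl⟩
  rw [← hw] at hh hh2 h1 h2 h3 h4 heq hdot huc hvr
  -- the two `K`-linear elements
  have hg₁M : LE e b w.h w.hi h1 h2 ∈ M :=
    hsemi _ ⟨RingEquiv.refl K, fun k v => by
      rw [LE_apply, LE_apply, L_klin e b ω hΩ hKc w.h hh]; rfl⟩
  have hg₂M : LE e b w.h2 w.h2i h3 h4 ∈ M :=
    hsemi _ ⟨RingEquiv.refl K, fun k v => by
      rw [LE_apply, LE_apply, L_klin e b ω hΩ hKc w.h2 hh2]; rfl⟩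
  obtain ⟨g₁, hg₁⟩ : ∃ g, g = LE e b w.h w.hi h1 h2 := ⟨_, rfl⟩
  obtain ⟨g₂, hg₂⟩ : ∃ g, g = LE e b w.h2 w.h2i h3 h4 := ⟨_, rfl⟩
  rw [← hg₁] at hg₁M
  rw [← hg₂] at hg₂M
  have hg₁app : ∀ x, g₁ x = L e b w.h x := fun x => by rw [hg₁]; rfl
  have hg₂app : ∀ x, g₂ x = L e b w.h2 x := fun x => by rw [hg₂]; rfl
  refine ⟨∑ i, e (w.vr i) • b.coord i, ∑ i, e (w.uc i) • b i, ?_, ?_, ?_,
    y' * g₁ * y'⁻¹ * g₂⁻¹, ?_, fun x => ?_⟩
  · -- the form is nonzero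
    intro hf
    apply hvr
    funext j
    have := congrArg (fun f : V →ₗ[F] F => f (b j)) hf
    simp only [coord_sum, LinearMap.zero_apply] at this
    exact he.1 (by show e (w.vr j) = e 0; rw [map_zero]; exact this)
  · -- the vector is nonzero
    intro hv
    apply huc
    funext j
    have := congrArg (fun v : V => b.repr v j) hv
    simp only [map_sum, map_smul, Basis.repr_self, Finsupp.coe_finsetSum, Finset.sum_apply,
      Finsupp.smul_apply, Finsupp.single_apply, map_zero, Finsupp.coe_zero, Pi.zero_apply] at this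
    simp only [smul_eq_mul, mul_ite, mul_one, mul_zero, Finset.sum_ite_eq', Finset.mem_univ,
      if_true] at this
    exact he.1 (by show e (w.uc j) = e 0; rw [map_zero]; exact this)
  · -- `f v = 0`
    rw [map_sum]
    have : ∀ j ∈ Finset.univ, (∑ i, e (w.vr i) • b.coord i) (e (w.uc j) • b j)
        = e (w.vr j * w.uc j) := fun j _ => by
      rw [map_smul, coord_sum, smul_eq_mul, map_mul, mul_comm]
    rw [Finset.sum_congr rfl this, ← map_sum]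
    have : ∑ j, w.vr j * w.uc j = w.vr ⬝ᵥ w.uc := rfl
    rw [this, hdot, map_zero]
  · exact M.mul_mem (M.mul_mem (M.mul_mem hy'M hg₁M) (M.inv_mem hy'M)) (M.inv_mem hg₂M)
  · obtain ⟨z, rfl⟩ : ∃ z, (g₂ * y') z = x := ⟨(g₂ * y')⁻¹ x, by
      rw [← LinearEquiv.mul_apply, mul_inv_cancel]; rfl⟩
    beta_reduce
    rw [← LinearEquiv.mul_apply]
    have hgrp : y' * g₁ * y'⁻¹ * g₂⁻¹ * (g₂ * y') = y' * g₁ := by group
    rw [hgrp, LinearEquiv.mul_apply, LinearEquiv.mul_apply, hYapp, hg₁app, hg₂app, hYapp,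
      ← L_transv, ← LinearMap.comp_apply, ← LinearMap.comp_apply, ← LinearMap.comp_apply, ← L_mul,
      ← L_mul, ← L_mul, heq, mul_assoc]

end main

end Cfsg.Agent.Lib.Helper70_Ext_E
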