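import Mathlib
import Cfsg.Agent.Lib.Helper98_ExtDefs
import Cfsg.Agent.Lib.Helper98_ExtMult

set_option autoImplicit false

/-!
# S5886 (helper98's market): shared core of the packages M2b and M2c

Setting of `Config`: `t' = y (K v₁)`, `δ, u₀ ∈ t'`, `u₀ ∉ K δ`, `t' ≤ K δ + F u₀`.
We parametrise `t'` by `e : K → V`, `e k = y (k • y⁻¹ δ)` (the conjugate field acting on `δ`),
put `φt k = ν (e k)` where `ν` is the `u₀`-coordinate, and compute, for `a : F` and `k : K`, the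
multiplier `B_a(k) = x_a k' x_a⁻¹ - k'` on `t'`:
`B_a(k) (e l) = e ((a φt(k l) - a φt(k) a φt(l)) • 1 - (a φt(l)) • k)`.
-/

namespace Cfsg.Agent.Lib.Helper75_Ext_M2Core

open Cfsg.Agent.Lib.Helper98_ExtDefs Cfsg.Agent.Lib.Helper98_ExtMult

variable {F K V : Type*} [Field F] [Field K] [Algebra F K] [AddCommGroup V] [Module F V]
  [Module K V] [IsScalarTower F K V]

/-- a `K`-linear functional with `φ1 δ = 0`, `φ1 u₀ = 1` -/
theorem exists_phi1 {δ u₀ : V} (hu₀ : u₀ ∉ kline F K V δ) :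
    ∃ φ1 : V →ₗ[K] K, φ1 δ = 0 ∧ φ1 u₀ = 1 := by
  have h1 : u₀ ∉ Submodule.span K {δ} := by
    intro h
    apply hu₀
    unfold kline
    rwa [Submodule.restrictScalars_mem]
  obtain ⟨f, hf, hle⟩ := Submodule.exists_le_ker_of_notMem h1
  refine ⟨(f u₀)⁻¹ • f, ?_, ?_⟩
  · have : f δ = 0 := hle (Submodule.mem_span_singleton_self δ)
    simp [this]
  · simp [hf]

/-- an `F`-linear retraction `K → F` -/
theorem exists_rho : ∃ ρ : K →ₗ[F] F, ∀ a : F, ρ (algebraMap F K a) = a := by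
  have hinj : LinearMap.ker (Algebra.linearMap F K) = ⊥ :=
    LinearMap.ker_eq_bot.mpr (algebraMap F K).injective
  obtain ⟨ρ, hρ⟩ := (Algebra.linearMap F K).exists_leftInverse_of_injective hinj
  refine ⟨ρ, fun a => ?_⟩
  have := congrArg (fun f => f a) hρ
  simpa using this

/-- the `u₀`-coordinate on `t' ≤ K δ + F u₀` -/
theorem coord_eq {δ u₀ : V} {t : Submodule F V}
    (hle : t ≤ kline F K V δ ⊔ Submodule.span F {u₀}) (φ1 : V →ₗ[K] K) (hφδ : φ1 δ = 0)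
    (hφu : φ1 u₀ = 1) (ρ : K →ₗ[F] F) (hρ : ∀ a : F, ρ (algebraMap F K a) = a) :
    ∀ u ∈ t, φ1 u = algebraMap F K (ρ (φ1 u)) := by
  intro u hu
  obtain ⟨a, ha, b, hb, rfl⟩ := Submodule.mem_sup.mp (hle hu)
  obtain ⟨α, rfl⟩ := mem_kline.mp ha
  obtain ⟨β, rfl⟩ := Submodule.mem_span_singleton.mp hb
  have h1 : φ1 (α • δ + β • u₀) = algebraMap F K β := by
    rw [map_add, map_smul, hφδ, smul_zero, zero_add, ← algebraMap_smul K β u₀, map_smul, hφu,
      smul_eq_mul, mul_one]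
  rw [h1, hρ]

/-- The core computation. -/
theorem core (hm : Module.finrank K V = 2) (M : Subgroup (V ≃ₗ[F] V)) (hktv : KtvHyp F K V M)
    (y : V ≃ₗ[F] V) (v₁ δ u₀ : V) (hc : Config F K V M y v₁ δ u₀)
    (hK : ∀ k : K, kconj F K V y k ∈ bSet M (tsp F K V y v₁)) :
    ∃ (e : K →ₗ[F] V) (φt : K →ₗ[F] F) (c0 : V →ₗ[F] V) (ν : V →ₗ[F] F),
      Function.Injective e ∧ (∀ k, ν (e k) = φt k) ∧ φt 1 = 0 ∧ (∃ k, φt k = 1) ∧
      c0 ∈ cSet M (tsp F K V y v₁) ∧ (∀ x, ∃ l, c0 x = e l) ∧ (∃ x, ν (c0 x) ≠ 0) ∧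
      (∀ (a : F) (k : K), ∃ B ∈ bSet M (tsp F K V y v₁), ∀ l : K,
        B (e l) = e ((a * φt (k * l) - a * φt k * (a * φt l)) • (1 : K) - (a * φt l) • k)) := by
  classical
  obtain ⟨φ1, hφδ, hφu⟩ := exists_phi1 (F := F) (K := K) hc.hu₀
  obtain ⟨ρ, hρ⟩ := exists_rho (F := F) (K := K)
  obtain ⟨t, ht⟩ : ∃ t, t = tsp F K V y v₁ := ⟨_, rfl⟩
  have hδt : δ ∈ t := ht ▸ hc.hδt
  have hu₀t : u₀ ∈ t := ht ▸ hc.hu₀t
  have hle : t ≤ kline F K V δ ⊔ Submodule.span F {u₀} := ht ▸ hc.hle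
  -- the coordinate functional
  obtain ⟨ν, hνdef⟩ : ∃ ν : V →ₗ[F] F, ∀ x, ν x = ρ (φ1 x) :=
    ⟨ρ ∘ₗ (φ1.restrictScalars F), fun x => rfl⟩
  have hν : ∀ u ∈ t, φ1 u = algebraMap F K (ν u) := by
    intro u hu
    rw [hνdef]
    exact coord_eq hle φ1 hφδ hφu ρ hρ u hu
  have hνδ : ν δ = 0 := by rw [hνdef, hφδ, map_zero]
  have hνu₀ : ν u₀ = 1 := by
    rw [hνdef, hφu, ← map_one (algebraMap F K), hρ]
  -- parametrisation of t
  have hyδ : y.symm δ ≠ 0 := by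
    intro h
    apply hc.hδ
    have := congrArg y h
    simpa using this
  obtain ⟨e, hedef⟩ : ∃ e : K →ₗ[F] V, ∀ k, e k = y (k • y.symm δ) :=
    ⟨y.toLinearMap ∘ₗ ((LinearMap.toSpanSingleton K V (y.symm δ)).restrictScalars F),
      fun k => rfl⟩
  have he1 : e 1 = δ := by rw [hedef, one_smul, LinearEquiv.apply_symm_apply]
  have hekc : ∀ k l, kconj F K V y k (e l) = e (k * l) := by
    intro k l
    rw [kconj_apply, hedef, hedef, LinearEquiv.symm_apply_apply, mul_smul]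
  have hekδ : ∀ k, kconj F K V y k δ = e k := by
    intro k
    rw [kconj_apply, hedef]
  have hinj : Function.Injective e := by
    intro k k' h
    rw [hedef, hedef] at h
    exact smul_left_injective K hyδ (y.injective h)
  have het : ∀ k, e k ∈ t := by
    intro k
    rw [← hekδ, ht]
    exact kconj_mem_tsp y v₁ k hc.hδt
  have hsurj : ∀ u ∈ t, ∃ l, e l = u := by
    intro u hu
    rw [ht] at hu
    obtain ⟨k, rfl⟩ := mem_tsp.mp hu
    obtain ⟨k₀, hk₀⟩ := mem_tsp.mp hc.hδt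
    have hk₀0 : k₀ ≠ 0 := by
      rintro rfl
      apply hc.hδ
      rw [← hk₀, zero_smul, map_zero]
    refine ⟨k * k₀⁻¹, ?_⟩
    rw [hedef, ← hk₀, LinearEquiv.symm_apply_apply, smul_smul, mul_assoc, inv_mul_cancel₀ hk₀0,
      mul_one]
  -- φt
  obtain ⟨φt, hφt⟩ : ∃ φt : K →ₗ[F] F, ∀ k, φt k = ν (e k) := ⟨ν ∘ₗ e, fun k => rfl⟩
  have hφt1 : φt 1 = 0 := by rw [hφt, he1, hνδ]
  have hφtex : ∃ k, φt k = 1 := by
    obtain ⟨k, hk⟩ := hsurj u₀ hu₀t
    exact ⟨k, by rw [hφt, hk, hνu₀]⟩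
  -- c0
  obtain ⟨χ, hχv, hχ0⟩ : ∃ χ : V →ₗ[K] K, χ v₁ = 0 ∧ χ ≠ 0 := by
    have hlt : Submodule.span K {v₁} < ⊤ := by
      rw [lt_top_iff_ne_top]
      intro htop
      have h1 : Module.finrank K (Submodule.span K {v₁}) = 1 := finrank_span_singleton hc.hv₁
      have h2 : Module.finrank K (Submodule.span K {v₁}) = 2 := by
        rw [htop, finrank_top, hm]
      omega
    obtain ⟨χ, hχ0, hχle⟩ := Submodule.exists_le_ker_of_lt_top _ hlt
    exact ⟨χ, hχle (Submodule.mem_span_singleton_self v₁), hχ0⟩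
  have hc0 : cmap F K V y χ v₁ ∈ cSet M t := ht ▸ cmap_mem_cSet hktv hc.hy v₁ χ hχv
  have hc0e : ∀ x, ∃ l, cmap F K V y χ v₁ x = e l := by
    intro x
    obtain ⟨l, hl⟩ := hsurj _ (hc0.1 x)
    exact ⟨l, hl.symm⟩
  have hc0ne : ∃ x, ν (cmap F K V y χ v₁ x) ≠ 0 := by
    obtain ⟨x₀, hx₀⟩ : ∃ x₀, χ x₀ ≠ 0 := by
      by_contra hcon
      push Not at hcon
      exact hχ0 (LinearMap.ext hcon)
    have hu := hu₀t
    rw [ht] at hu
    obtain ⟨k, hk⟩ := mem_tsp.mp hu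
    refine ⟨y ((k / χ x₀) • x₀), ?_⟩
    have hχk : χ ((k / χ x₀) • x₀) = k := by
      rw [map_smul, smul_eq_mul, div_mul_cancel₀ _ hx₀]
    rw [cmap_apply, LinearEquiv.symm_apply_apply, hχk, hk, hνu₀]
    exact one_ne_zero
  refine ⟨e, φt, cmap F K V y χ v₁, ν, hinj, fun k => (hφt k).symm, hφt1, hφtex,
    ht ▸ hc0, hc0e, hc0ne, ?_⟩
  rw [← ht]
  rw [← ht] at hK
  intro a k
  -- the transvection x_a
  have hχa : ((algebraMap F K a) • φ1) δ = 0 := by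
    rw [LinearMap.smul_apply, hφδ, smul_zero]
  obtain ⟨g, hgM, hg'⟩ := hktv ((algebraMap F K a) • φ1) δ hχa
  have hg : ∀ x, g x = x + ((algebraMap F K a) • φ1) x • δ := hg'
  have hgt : ∀ u ∈ t, g u = u + (a * ν u) • δ := by
    intro u hu
    rw [hg, LinearMap.smul_apply, hν u hu, smul_eq_mul, ← map_mul, algebraMap_smul]
  have hgδ : g δ = δ := by rw [hg, hχa, zero_smul, add_zero]
  have hgs : ∀ u ∈ t, g.symm u = u - (a * ν u) • δ := by
    intro u hu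
    rw [LinearEquiv.symm_apply_eq, map_sub, map_smul, hgδ, hgt u hu, add_sub_cancel_right]
  have hgtt : ∀ u ∈ t, g u ∈ t := by
    intro u hu
    rw [hgt u hu]
    exact t.add_mem hu (t.smul_mem _ hδt)
  have hgst : ∀ u ∈ t, g.symm u ∈ t := by
    intro u hu
    rw [hgs u hu]
    exact t.sub_mem hu (t.smul_mem _ hδt)
  refine ⟨g.toLinearMap ∘ₗ kconj F K V y k ∘ₗ g.symm.toLinearMap - kconj F K V y k,
    sub_mem_bSet (conj_mem_bSet (hK k) hgM hgtt hgst) (hK k), fun l => ?_⟩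
  have hφt' : ∀ k, ν (e k) = φt k := fun k => (hφt k).symm
  have h1 : g.symm (e l) = e l - (a * φt l) • e 1 := by
    rw [hgs _ (het l), he1, hφt']
  have h2 : kconj F K V y k (g.symm (e l)) = e (k * l) - (a * φt l) • e k := by
    rw [h1, map_sub, map_smul, hekc, hekc, mul_one]
  have h3 : g (e (k * l) - (a * φt l) • e k)
      = e (k * l) + (a * φt (k * l)) • e 1 - (a * φt l) • (e k + (a * φt k) • e 1) := by
    rw [map_sub, map_smul, hgt _ (het _), hgt _ (het _), hφt', hφt', he1]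
  simp only [LinearMap.sub_apply, LinearMap.comp_apply, LinearEquiv.coe_coe]
  rw [h2, h3, hekc]
  simp only [map_sub, map_smul]
  module

end Cfsg.Agent.Lib.Helper75_Ext_M2Core
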