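import Mathlib
import Cfsg.Agent.Lib.Helper98_ExtDefs
import Cfsg.Agent.Lib.Helper98_ExtMult
import Cfsg.Agent.Lib.Helper75_Ext_M2Core

set_option autoImplicit false

/-!
# S5886-M2b (helper98's market): `dim_K V = 2`, `[K : F] ≥ 3`

With `k1 ∉ F`, `φt k1 = 0` and `φt k2 = 1` the product `B_1(k1) B_1(k2)` acts on `t'` as
`u ↦ ν(u) • e (k1 - φt(k1 k2))`, a rank one map; composing with `c0` gives a transvection in `M`.
-/

open Cfsg.Agent.Lib.Helper98_ExtDefs Cfsg.Agent.Lib.Helper98_ExtMult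
  Cfsg.Agent.Lib.Helper75_Ext_M2Core

namespace Cfsg.Agent.Lib.Helper75_Ext_M2b

variable {F K V : Type*} [Field F] [Field K] [Algebra F K] [AddCommGroup V] [Module F V]
  [Module K V] [IsScalarTower F K V] [Finite F] [Finite K] [Module.Finite K V]

/-- a functional `K → F` over `F` has a kernel element outside `F` when `[K : F] ≥ 3` -/
theorem exists_ker_not_base (hr : 3 ≤ Module.finrank F K) (φt : K →ₗ[F] F) :
    ∃ k1 : K, φt k1 = 0 ∧ k1 ∉ Submodule.span F {(1 : K)} := by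
  have hfin : Module.Finite F K := Module.finite_of_finrank_pos (by omega)
  by_contra hcon
  push Not at hcon
  have hle : LinearMap.ker φt ≤ Submodule.span F {(1 : K)} := fun k hk => hcon k hk
  have h1 : Module.finrank F (LinearMap.ker φt) ≤ 1 :=
    (Submodule.finrank_mono hle).trans (finrank_span_singleton (one_ne_zero)).le
  have h2 : Module.finrank F (LinearMap.range φt) ≤ 1 := by
    have := Submodule.finrank_le (LinearMap.range φt)
    rwa [Module.finrank_self] at this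
  have h3 := LinearMap.finrank_range_add_finrank_ker φt
  omega

/-- **M2b** (L, ~400 lines).  `dim_K V = 2`, `[K:F] ≥ 3`. -/
theorem M2b (hm : Module.finrank K V = 2) (hr : 3 ≤ Module.finrank F K)
    (M : Subgroup (V ≃ₗ[F] V)) (hktv : KtvHyp F K V M)
    (y : V ≃ₗ[F] V) (v₁ δ u₀ : V) (hc : Config F K V M y v₁ δ u₀)
    (hK : ∀ k : K, kconj F K V y k ∈ bSet M (tsp F K V y v₁)) : HasTv M := by
  obtain ⟨e, φt, c0, ν, hinj, hνe, hφt1, ⟨k2, hk2⟩, hc0, hc0e, ⟨x₁, hx₁⟩, hB⟩ :=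
    core hm M hktv y v₁ δ u₀ hc hK
  obtain ⟨k1, hk1, hk1F⟩ := exists_ker_not_base hr φt
  obtain ⟨B1, hB1, hB1f⟩ := hB 1 k1
  obtain ⟨B2, hB2, hB2f⟩ := hB 1 k2
  have hcc := (comp_mem_bSet hB1 hB2).2 c0 hc0
  refine hasTv_of_rank_one hcc (ν ∘ₗ c0) (e (k1 - φt (k1 * k2) • (1 : K))) ?_ ?_ ?_
  · intro h
    apply hx₁
    have := congrArg (fun f => f x₁) h
    simpa using this
  · intro h
    have h0 : k1 - φt (k1 * k2) • (1 : K) = 0 := hinj (by rw [h, map_zero])
    apply hk1F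
    rw [sub_eq_zero] at h0
    rw [h0]
    exact Submodule.smul_mem _ _ (Submodule.mem_span_singleton_self 1)
  · intro x
    obtain ⟨l, hl⟩ := hc0e x
    simp only [LinearMap.comp_apply]
    rw [hl, hB2f, hνe]
    obtain ⟨m, hmdef⟩ : ∃ m : K, m = (1 * φt (k2 * l) - 1 * φt k2 * (1 * φt l)) • (1 : K)
        - (1 * φt l) • k2 := ⟨_, rfl⟩
    rw [← hmdef, hB1f, ← map_smul]
    congr 1
    have h1 : φt m = - φt l := by
      rw [hmdef, map_sub, map_smul, map_smul, hφt1, hk2]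
      simp
    have h2 : φt (k1 * m) = - (φt l * φt (k1 * k2)) := by
      rw [hmdef, mul_sub, mul_smul_comm, mul_smul_comm, mul_one, map_sub, map_smul, map_smul, hk1]
      simp
    rw [h1, h2, hk1]
    module

end Cfsg.Agent.Lib.Helper75_Ext_M2b
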