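import Mathlib
import Cfsg.Agent.Lib.Helper98_ExtDefs
import Cfsg.Agent.Lib.Helper98_ExtMult
import Cfsg.Agent.Lib.Helper75_Ext_M2Core

set_option autoImplicit false

/-!
# S5886-M2c (helper98's market): `dim_K V = 2`, `[K : F] = 2`, `|F| ≥ 3`

With `φt k = 1` and `a ∉ {0, φt(k²)}` the multiplier `B_a(k)² - a B_a(k)` acts on `t'` as
`u ↦ a ν(u) • e ((a² - a φt(k²)) + 2 a k)`, a rank one map; composing with `c0` gives a
transvection in `M`.  (The hypothesis `[K : F] = 2` is not used.)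
-/

open Cfsg.Agent.Lib.Helper98_ExtDefs Cfsg.Agent.Lib.Helper98_ExtMult
  Cfsg.Agent.Lib.Helper75_Ext_M2Core

namespace Cfsg.Agent.Lib.Helper75_Ext_M2c

variable {F K V : Type*} [Field F] [Field K] [Algebra F K] [AddCommGroup V] [Module F V]
  [Module K V] [IsScalarTower F K V] [Finite F] [Finite K] [Module.Finite K V]

theorem exists_avoid (hq : 3 ≤ Nat.card F) (c : F) : ∃ a : F, a ≠ 0 ∧ a ≠ c := by
  classical
  by_contra hcon
  push Not at hcon
  have _inst : Fintype F := Fintype.ofFinite F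
  have h1 : (Finset.univ : Finset F) ⊆ {0, c} := by
    intro a _
    by_cases h : a = 0
    · simp [h]
    · simp [hcon a h]
  have h2 := Finset.card_le_card h1
  have h3 : ({0, c} : Finset F).card ≤ 2 := Finset.card_le_two
  rw [Finset.card_univ, ← Nat.card_eq_fintype_card] at h2
  omega

/-- **M2c** (L, ~400 lines).  `dim_K V = 2`, `[K:F] = 2`, `|F| ≥ 3`. -/
theorem M2c (hm : Module.finrank K V = 2) (hr : Module.finrank F K = 2) (hq : 3 ≤ Nat.card F)
    (M : Subgroup (V ≃ₗ[F] V)) (hktv : KtvHyp F K V M)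
    (y : V ≃ₗ[F] V) (v₁ δ u₀ : V) (hc : Config F K V M y v₁ δ u₀)
    (hK : ∀ k : K, kconj F K V y k ∈ bSet M (tsp F K V y v₁)) : HasTv M := by
  obtain ⟨e, φt, c0, ν, hinj, hνe, hφt1, ⟨k, hk⟩, hc0, hc0e, ⟨x₁, hx₁⟩, hB⟩ :=
    core hm M hktv y v₁ δ u₀ hc hK
  obtain ⟨a, ha0, ha1⟩ := exists_avoid hq (φt (k * k))
  obtain ⟨B, hBm, hBf⟩ := hB a k
  have hb : B ∘ₗ B - a • B ∈ bSet M (tsp F K V y v₁) :=
    sub_mem_bSet (comp_mem_bSet hBm hBm) (smul_mem_bSet hK a hBm)
  have hcc := hb.2 c0 hc0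
  refine hasTv_of_rank_one hcc (a • (ν ∘ₗ c0))
    (e ((a * a - a * φt (k * k)) • (1 : K) + (2 * a) • k)) ?_ ?_ ?_
  · intro h
    apply hx₁
    have := congrArg (fun f => f x₁) h
    simp only [LinearMap.smul_apply, LinearMap.comp_apply, LinearMap.zero_apply, smul_eq_mul,
      mul_eq_zero] at this
    rcases this with h | h
    · exact absurd h ha0
    · exact h
  · intro h
    have h0 : (a * a - a * φt (k * k)) • (1 : K) + (2 * a) • k = 0 := hinj (by rw [h, map_zero])
    have h1 := congrArg φt h0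
    rw [map_add, map_smul, map_smul, hφt1, hk, map_zero, smul_eq_mul, smul_eq_mul, mul_zero,
      zero_add, mul_one] at h1
    rw [h1, zero_smul, add_zero] at h0
    rcases smul_eq_zero.mp h0 with h2 | h2
    · have h3 : a * (a - φt (k * k)) = 0 := by rw [mul_sub]; exact h2
      rcases mul_eq_zero.mp h3 with h4 | h4
      · exact ha0 h4
      · exact ha1 (sub_eq_zero.mp h4)
    · exact one_ne_zero h2
  · intro x
    obtain ⟨l, hl⟩ := hc0e x
    simp only [LinearMap.comp_apply, LinearMap.sub_apply, LinearMap.smul_apply]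
    rw [hl, hBf, hνe]
    obtain ⟨m, hmdef⟩ : ∃ m : K, m = (a * φt (k * l) - a * φt k * (a * φt l)) • (1 : K)
        - (a * φt l) • k := ⟨_, rfl⟩
    rw [← hmdef, hBf, ← map_smul, ← map_smul, ← map_sub]
    congr 1
    have h1 : φt m = - (a * φt l) := by
      rw [hmdef, map_sub, map_smul, map_smul, hφt1, hk]
      simp
    have h2 : φt (k * m) = a * φt (k * l) - a * (a * φt l) - a * φt l * φt (k * k) := by
      rw [hmdef, mul_sub, mul_smul_comm, mul_smul_comm, mul_one, map_sub, map_smul, map_smul, hk]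
      simp
    rw [h1, h2, hmdef, hk]
    module

end Cfsg.Agent.Lib.Helper75_Ext_M2c
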