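import Mathlib
import Cfsg.Agent.Lib.Helper98_ExtDefs
import Cfsg.Agent.Lib.Helper43_Ext_SK
import Cfsg.Agent.Lib.Helper59_Ext_S5a
import Cfsg.Agent.Lib.Helper59_Ext_S5b
import Cfsg.Agent.Lib.Helper53_Ext_M2aMain
import Cfsg.Agent.Lib.Helper31_Ext_B
import Cfsg.Agent.Lib.Helper75_Ext_M2b
import Cfsg.Agent.Lib.Helper75_Ext_M2c
import Cfsg.Agent.Lib.Helper2_Ext_TA
import Cfsg.Agent.Lib.Helper2_Ext_TB3
import Cfsg.Agent.Lib.Helper59_Ext_TB2
import Cfsg.Agent.Lib.Helper2_Ext_TC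
import Cfsg.Agent.Lib.Helper70_Ext_E

set_option autoImplicit false

namespace Cfsg.Agent.Lib.Helper98_ExtMain

open Cfsg.Agent.Lib.Helper98_ExtDefs

variable {F K V : Type*} [Field F] [Field K] [Algebra F K] [AddCommGroup V] [Module F V]
  [Module K V] [IsScalarTower F K V] [Finite F] [Finite K] [Module.Finite K V]

theorem finrank_kline {v : V} (hv : v ≠ 0) :
    Module.finrank F (kline F K V v) = Module.finrank F K := by
  have h1 : Module.finrank K (Submodule.span K {v}) = 1 := finrank_span_singleton hv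
  have h2 := Module.finrank_mul_finrank F K (Submodule.span K {v})
  rw [h1, mul_one] at h2
  rw [h2]
  rfl

theorem finrank_tsp (y : V ≃ₗ[F] V) {v₁ : V} (hv₁ : v₁ ≠ 0) :
    Module.finrank F (tsp F K V y v₁) = Module.finrank F K := by
  unfold tsp
  rw [← finrank_kline (F := F) (K := K) hv₁]
  exact LinearEquiv.finrank_map_eq y (kline F K V v₁)

/-- **Main lemma**: an overgroup of `N(K) ∩ SL` containing a non-semilinear element contains all
transvections. -/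
theorem main_abstract (hr : (Module.finrank F K).Prime) (hm : 2 ≤ Module.finrank K V)
    (M : Subgroup (V ≃ₗ[F] V)) (hktv : KtvHyp F K V M) (hkdil : KdilHyp F K V M)
    (hsemi : Nat.card F = 2 → SemiHyp F K V M)
    (g₀ : V ≃ₗ[F] V) (hg₀ : g₀ ∈ M) (hns : ¬ IsSemilin F K V g₀) : AllTv M := by
  have hr2 : 2 ≤ Module.finrank F K := hr.two_le
  -- a non-preserved line
  obtain ⟨v₀, hv₀⟩ : ∃ v₀ : V, (kline F K V v₀).map g₀.toLinearMap ≠ kline F K V (g₀ v₀) := by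
    by_contra hcon
    push Not at hcon
    exact hns (Cfsg.Agent.Lib.Helper43_Ext_SK.SK hm g₀ hcon)
  obtain ⟨y, hy, v₁, δ, hv₁, hδ, hδt, hne, hdich⟩ := Cfsg.Agent.Lib.Helper59_Ext_S5a.S5a M hktv g₀ hg₀ v₀ hv₀
  obtain ⟨u₀, hu₀t, hu₀, hle⟩ := Cfsg.Agent.Lib.Helper59_Ext_S5b.S5b hr δ hδ (tsp F K V y v₁) (finrank_tsp y hv₁) hδt hne hdich
  have hc : Config F K V M y v₁ δ u₀ := ⟨hy, hv₁, hδ, hδt, hu₀t, hu₀, hle⟩
  -- a transvection
  have htv : HasTv M := by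
    rcases Nat.lt_or_ge 2 (Module.finrank K V) with h3 | h2
    · exact Cfsg.Agent.Lib.Helper31_Ext_B.caseB h3 M hktv y v₁ δ u₀ hc
    · have hm2 : Module.finrank K V = 2 := le_antisymm h2 hm
      have hK : ∀ k : K, kconj F K V y k ∈ bSet M (tsp F K V y v₁) :=
        fun k => Cfsg.Agent.Lib.Helper53_Ext_M2a.M2a hr2 M hkdil y hy v₁ hv₁ k
      rcases Nat.lt_or_ge 2 (Module.finrank F K) with hr3 | hr2'
      · exact Cfsg.Agent.Lib.Helper75_Ext_M2b.M2b hm2 hr3 M hktv y v₁ δ u₀ hc hK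
      · have hreq : Module.finrank F K = 2 := le_antisymm hr2' hr2
        rcases Nat.lt_or_ge 2 (Nat.card F) with hq3 | hq2
        · exact Cfsg.Agent.Lib.Helper75_Ext_M2c.M2c hm2 hreq hq3 M hktv y v₁ δ u₀ hc hK
        · have hq : Nat.card F = 2 := by
            have : 1 < Nat.card F := Finite.one_lt_card
            omega
          exact Cfsg.Agent.Lib.Helper70_Ext_E.caseE hm2 hreq hq M (hsemi hq) y v₁ δ u₀ hc
  -- all transvections
  apply Cfsg.Agent.Lib.Helper2_Ext_TC.TC hm hr2 M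
  intro v hv f hf
  obtain ⟨f₀, hf₀, hf₀v, hf₀M⟩ := Cfsg.Agent.Lib.Helper2_Ext_TA.TA hm M hktv htv v hv
  rcases Nat.lt_or_ge 2 (Module.finrank K V) with h3 | h2
  · exact Cfsg.Agent.Lib.Helper2_Ext_TB3.TB3 h3 M hktv v hv f₀ hf₀ hf₀v hf₀M f hf
  · have hm2 : Module.finrank K V = 2 := le_antisymm h2 hm
    exact Cfsg.Agent.Lib.Helper59_Ext_TB2.TB2 hm2 hr2 M hkdil v hv f₀ hf₀ hf₀v hf₀M f hf

end Cfsg.Agent.Lib.Helper98_ExtMain
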