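import Mathlib
import Cfsg.Agent.Lib.Helper98_ExtDefs
import Cfsg.Agent.Lib.Helper98_ExtMain
import Cfsg.Agent.Lib.Helper29_SpExtDefs
import Cfsg.Agent.Lib.Helper43_Ext_SK
import Cfsg.Agent.Lib.Helper54_SpExt_KTV
import Cfsg.Agent.Lib.Helper49_SpExt_SHIFT
import Cfsg.Agent.Lib.Helper54_SpExt_TORUS
import Cfsg.Agent.Lib.Helper87_SpExt_TRANS
import Cfsg.Agent.Lib.Helper87_SpExt_HYP
import Cfsg.Agent.Lib.Helper59_SpExt_S5A
import Cfsg.Agent.Lib.Helper59_SpExt_CFA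
import Cfsg.Agent.Lib.Helper59_SpExt_CFB
import Cfsg.Agent.Lib.Helper2_SpExt_ROOT
import Cfsg.Agent.Lib.Helper2_SpExt_LEMX
import Cfsg.Agent.Lib.Helper86_SpExt_Q3
import Cfsg.Agent.Lib.Helper86_SpExt_R3
import Cfsg.Agent.Lib.Helper86_SpExt_PAIR
import Cfsg.Agent.Lib.Helper82_SpExt_Q2R2
import Cfsg.Agent.Lib.Helper2_SpExt_ALL

set_option autoImplicit false

/-!
# S5664: the abstract main lemma

`F ⊆ K` finite fields of prime degree, `V` a `K`-space with a non-degenerate alternating `K`-form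
`B`; a group `M` of `F`-isometries of `Tr ∘ B` containing `Sp(V, B)` and a non-semilinear element
contains all `F`-transvections.
-/

namespace Cfsg.Agent.Lib.Helper29_SpExtMain

open Cfsg.Agent.Lib.Helper98_ExtDefs Cfsg.Agent.Lib.Helper29_SpExtDefs

variable {F K V : Type*} [Field F] [Field K] [Algebra F K] [AddCommGroup V] [Module F V]
  [Module K V] [IsScalarTower F K V] [Finite F] [Finite K] [Module.Finite K V]

theorem main_abstract (hr : (Module.finrank F K).Prime) (hm : 2 ≤ Module.finrank K V)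
    (h22 : Nat.card F = 2 → Module.finrank F K = 2 → 3 ≤ Module.finrank K V)
    (B : LinearMap.BilinForm K V) (halt : B.IsAlt) (hnd : B.Nondegenerate)
    (M : Subgroup (V ≃ₗ[F] V)) (hM : MSp F B M) (hS : SpHyp F B M)
    (g₀ : V ≃ₗ[F] V) (hg₀ : g₀ ∈ M) (hns : ¬ IsSemilin F K V g₀) : AllFtv F B M := by
  have hr2 : 2 ≤ Module.finrank F K := hr.two_le
  have hktv := fun (κ : K) (w : V) => Cfsg.Agent.Lib.Helper54_SpExt_KTV.KTV B halt κ w
  -- a non-preserved line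
  obtain ⟨v₀, hv₀⟩ : ∃ v₀ : V, (kline F K V v₀).map g₀.toLinearMap ≠ kline F K V (g₀ v₀) := by
    by_contra hcon
    push Not at hcon
    exact hns (Cfsg.Agent.Lib.Helper43_Ext_SK.SK hm g₀ hcon)
  obtain ⟨y, hy, v₁, δ, hv₁, hδ, hδt, hne, hdich⟩ :=
    Cfsg.Agent.Lib.Helper59_SpExt_S5A.S5A M g₀ hg₀ v₀ hv₀
  -- a vector of `t'` outside `K δ`
  obtain ⟨u₀, hu₀t, hu₀⟩ : ∃ u₀ ∈ tsp F K V y v₁, u₀ ∉ kline F K V δ := by
    by_contra hcon
    push Not at hcon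
    have hle : tsp F K V y v₁ ≤ kline F K V δ := hcon
    apply hne
    haveI : Module.Finite F K := Module.Finite.of_finite
    haveI : Module.Finite F V := Module.Finite.trans K V
    apply Submodule.eq_of_le_of_finrank_eq hle
    rw [Cfsg.Agent.Lib.Helper98_ExtMain.finrank_tsp y hv₁,
      Cfsg.Agent.Lib.Helper98_ExtMain.finrank_kline hδ]
  have hu₀' : ∀ k : K, k • δ ≠ u₀ := fun k hk => hu₀ (mem_kline.mpr ⟨k, hk⟩)
  have hshift := fun c : K => Cfsg.Agent.Lib.Helper49_SpExt_SHIFT.SHIFT B halt hnd δ u₀ hδ hu₀' c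
  have hW := Cfsg.Agent.Lib.Helper59_SpExt_CFA.CFA B halt hnd M hS hktv y v₁ δ u₀ hv₁ hδ hδt hne
    hdich hu₀t hu₀
  have hle := Cfsg.Agent.Lib.Helper59_SpExt_CFB.CFB hr B M hS y v₁ δ u₀ hv₁ hδ hδt hne hdich hu₀t
    hu₀ hshift hW
  have hc : Config F K V M y v₁ δ u₀ := ⟨hy, hv₁, hδ, hδt, hu₀t, hu₀, hle⟩
  have hroot := fun (x₀ : V) (hx₀ : ∃ v ∈ tsp F K V y v₁, fF F B x₀ v ≠ 0) (ζ : V)
      (hζ : ζ ∈ tsp F K V y v₁) =>
    Cfsg.Agent.Lib.Helper2_SpExt_ROOT.ROOT B halt hnd M hM hS hktv y hy v₁ hv₁ x₀ hx₀ ζ hζ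
  have hX : LemX F B M y v₁ δ u₀ :=
    Cfsg.Agent.Lib.Helper2_SpExt_LEMX.LEMX B halt hnd M hM hS y v₁ δ u₀ hc hshift hroot
  -- a transvection
  have htv : HasFtv F B M := by
    rcases Nat.lt_or_ge 2 (Module.finrank F K) with hr3 | hr2'
    · exact Cfsg.Agent.Lib.Helper86_SpExt_R3.R3 hr3 B halt M hM hS y v₁ δ u₀ hc
        (fun κ hκ => Cfsg.Agent.Lib.Helper54_SpExt_TORUS.TORUS B halt hnd v₁ hv₁ κ hκ) hX
    · have hreq : Module.finrank F K = 2 := le_antisymm hr2' hr2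
      rcases Nat.lt_or_ge 2 (Nat.card F) with hq3 | hq2
      · exact Cfsg.Agent.Lib.Helper86_SpExt_Q3.Q3 hq3 B halt M hM y v₁ δ u₀ hc hX
      · have hq : Nat.card F = 2 := by
          have : 1 < Nat.card F := Finite.one_lt_card
          omega
        exact Cfsg.Agent.Lib.Helper82_SpExt_Q2R2.Q2R2 hq hreq (h22 hq hreq) B halt hnd M hM hS y v₁
          δ u₀ hc hshift
          (fun a b a' b' hab hab' => Cfsg.Agent.Lib.Helper87_SpExt_HYP.HYP B halt hnd a b a' b' hab hab')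
          (fun y' hy' a b ha hb ha0 hb0 hab =>
            Cfsg.Agent.Lib.Helper86_SpExt_PAIR.PAIR hq hreq B halt M hM hS hktv y' hy' v₁ a b ha hb
              ha0 hb0 hab)
  -- all transvections
  exact Cfsg.Agent.Lib.Helper2_SpExt_ALL.ALL B halt M hM hS
    (fun v v' hv hv' => Cfsg.Agent.Lib.Helper87_SpExt_TRANS.TRANS B halt hnd v v' hv hv') htv

end Cfsg.Agent.Lib.Helper29_SpExtMain
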