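import Mathlib
import Cfsg.Agent.Lib.Helper29_SpExtDefs

set_option autoImplicit false

/-!
# S5664: the `L`-bilinear form `B` with `Tr_{L/F} ∘ B = f`

`F ⊆ L` a finite separable extension, `V` an `L`-space, `f` an `F`-bilinear form on `V` for which
the scalars of `L` are self-adjoint.  Then `trB f hsa : LinearMap.BilinForm L V` is the unique
`L`-bilinear form with `Tr (k * B u v) = f (k u) v`.
-/

namespace Cfsg.Agent.Lib.Helper29_SpExtTrace

open Cfsg.Agent.Lib.Helper29_SpExtDefs

variable {F L V : Type*} [Field F] [Field L] [Algebra F L] [FiniteDimensional F L]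
  [Algebra.IsSeparable F L] [AddCommGroup V] [Module F V] [Module L V] [IsScalarTower F L V]

/-- the functional `k ↦ f (k u) v` on `L` -/
def phi (f : LinearMap.BilinForm F V) (u v : V) : Module.Dual F L where
  toFun k := f (k • u) v
  map_add' k k' := by rw [add_smul, map_add, LinearMap.add_apply]
  map_smul' a k := by
    rw [smul_assoc, map_smul, LinearMap.smul_apply, RingHom.id_apply]

/-- the element `c` of `L` with `Tr (c k) = f (k u) v` -/
noncomputable def trBfun (f : LinearMap.BilinForm F V) (u v : V) : L :=
  ((Algebra.traceForm F L).toDual (traceForm_nondegenerate F L)).symm (phi f u v)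

theorem trBfun_spec (f : LinearMap.BilinForm F V) (u v : V) (k : L) :
    Algebra.trace F L (trBfun f u v * k) = f (k • u) v := by
  have h := LinearMap.BilinForm.toDual_def (B := Algebra.traceForm F L)
    (traceForm_nondegenerate F L) (m := trBfun f u v) (n := k)
  rw [Algebra.traceForm_apply] at h
  rw [← h]
  unfold trBfun
  rw [LinearEquiv.apply_symm_apply]
  rfl

theorem eq_of_trace_mul_eq {c c' : L}
    (h : ∀ k : L, Algebra.trace F L (c * k) = Algebra.trace F L (c' * k)) : c = c' := by
  have hnd := (traceForm_nondegenerate F L).1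
  have : c - c' = 0 := by
    apply hnd
    intro k
    rw [Algebra.traceForm_apply, sub_mul, map_sub, h k, sub_self]
  exact sub_eq_zero.mp this

variable (f : LinearMap.BilinForm F V)
  (hsa : ∀ (k : L) (u v : V), f (k • u) v = f u (k • v))

/-- the `L`-bilinear form with `Tr ∘ B = f` -/
noncomputable def trB (f : LinearMap.BilinForm F V)
    (hsa : ∀ (k : L) (u v : V), f (k • u) v = f u (k • v)) : LinearMap.BilinForm L V :=
  LinearMap.mk₂ L (trBfun f)
    (fun u u' v => by
      apply eq_of_trace_mul_eq (F := F)
      intro k
      rw [add_mul, map_add, trBfun_spec, trBfun_spec, trBfun_spec, smul_add, map_add,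
        LinearMap.add_apply])
    (fun c u v => by
      apply eq_of_trace_mul_eq (F := F)
      intro k
      rw [trBfun_spec, smul_eq_mul, mul_comm c, mul_assoc, trBfun_spec, smul_smul, mul_comm])
    (fun u v v' => by
      apply eq_of_trace_mul_eq (F := F)
      intro k
      rw [add_mul, map_add, trBfun_spec, trBfun_spec, trBfun_spec, map_add])
    (fun c u v => by
      apply eq_of_trace_mul_eq (F := F)
      intro k
      rw [trBfun_spec, smul_eq_mul, mul_comm c, mul_assoc, trBfun_spec, ← hsa, smul_smul, mul_comm])

theorem trB_apply (u v : V) : trB f hsa u v = trBfun f u v := rfl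

theorem trB_spec (u v : V) (k : L) :
    Algebra.trace F L (trB f hsa u v * k) = f (k • u) v := trBfun_spec f u v k

theorem fF_trB (u v : V) : fF F (trB f hsa) u v = f u v := by
  unfold fF
  have := trB_spec f hsa u v 1
  rwa [mul_one, one_smul] at this

theorem trB_isAlt (halt : ∀ (k : L) (v : V), f (k • v) v = 0) : (trB f hsa).IsAlt := by
  intro v
  apply eq_of_trace_mul_eq (F := F)
  intro k
  rw [trB_spec, halt, zero_mul, map_zero]

theorem trB_nondegenerate (halt : ∀ (k : L) (v : V), f (k • v) v = 0)
    (hnd : ∀ u : V, (∀ v, f u v = 0) → u = 0) : (trB f hsa).Nondegenerate := by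
  have hl : (trB f hsa).SeparatingLeft := by
    intro u hu
    apply hnd
    intro v
    rw [← fF_trB f hsa, fF, hu v, map_zero]
  refine ⟨hl, ?_⟩
  intro v hv
  apply hl
  intro u
  have h := (trB_isAlt f hsa halt).neg_eq u v
  rw [← h, hv u, neg_zero]

end Cfsg.Agent.Lib.Helper29_SpExtTrace
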