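import Mathlib
import Cfsg.Prelude.Def_GeometricClasses
import Cfsg.Agent.Lib.Helper97_UExtDefs
import Cfsg.Agent.Lib.Helper94_Bridge
import Cfsg.Agent.Lib.Helper70_Tens_TP10b
import Cfsg.Agent.Lib.Helper14_PSULocal1
import Cfsg.Agent.Lib.Helper10_UX_THERM

set_option autoImplicit false
set_option linter.unusedSectionVars false
set_option linter.unusedVariables false

/-!
# UEXT2 bridge (helper29), part 5: semilinear maps and the normaliser of a field subalgebra
(both directions), transport of semilinearity along an `L`-linear identification, and a unitary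
transvection of `K × K` which is not `K`-semilinear (properness).
-/

namespace Cfsg.Agent.Lib.Helper29_UX_BrSemi

open Module Matrix Cfsg.Geo
open Cfsg.Agent.Lib.Helper94_Symp Cfsg.Agent.Lib.Helper94_Herm Cfsg.Agent.Lib.Helper13_PSUSimple
  Cfsg.Agent.Lib.Helper94_Bridge Cfsg.Agent.Lib.Helper70_Tens_TP10b
  Cfsg.Agent.Lib.Helper67_Tens2Defs Cfsg.Agent.Lib.Helper67_UT2Defs Cfsg.Agent.Lib.Helper98_ExtDefs
  Cfsg.Agent.Lib.Helper97_UExtDefs

section Conj

variable {F L V V' : Type*} [Field F] [Field L] [Algebra F L] [AddCommGroup V] [Module F V]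
  [Module L V] [IsScalarTower F L V] [AddCommGroup V'] [Module F V'] [Module L V']
  [IsScalarTower F L V']

/-- transport of semilinearity along an `L`-linear identification -/
theorem isSemilin_conjE (θ : V ≃ₗ[F] V') (hθ : ∀ (k : L) (v : V), θ (k • v) = k • θ v)
    (g : V ≃ₗ[F] V) : IsSemilin F L V' (conjE θ g) ↔ IsSemilin F L V g := by
  have hθs : ∀ (k : L) (x : V'), θ.symm (k • x) = k • θ.symm x := by
    intro k x
    apply θ.injective
    rw [hθ, LinearEquiv.apply_symm_apply, LinearEquiv.apply_symm_apply]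
  constructor
  · rintro ⟨ρ, hρ⟩
    refine ⟨ρ, fun k v => ?_⟩
    have h1 := hρ k (θ v)
    rw [conjE_apply, conjE_apply, hθs, LinearEquiv.symm_apply_apply, ← hθ] at h1
    exact θ.injective h1
  · rintro ⟨ρ, hρ⟩
    refine ⟨ρ, fun k x => ?_⟩
    rw [conjE_apply, conjE_apply, hθs, hρ, hθ]

end Conj

section Norm

variable {F : Type*} [Field F] {ι : Type} [Fintype ι] [DecidableEq ι]

/-- an element of the normaliser of a commutative subalgebra `K` (a field) acts `K`-semilinearly -/
theorem isSemilin_of_mem_normalizer (K : Subalgebra F (Matrix ι ι F)) [Field ↥K]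
    (hmul : ∀ a b : ↥K, ((a * b : ↥K) : Matrix ι ι F) = (a : Matrix ι ι F) * (b : Matrix ι ι F))
    (hadd : ∀ a b : ↥K, ((a + b : ↥K) : Matrix ι ι F) = (a : Matrix ι ι F) + (b : Matrix ι ι F))
    (g : GL ι F) (hg : g ∈ subalgebraNormalizer K) :
    ∃ ρ : ↥K ≃+* ↥K, ∀ (k : ↥K) (v : ι → F),
      (g : Matrix ι ι F) *ᵥ ((k : Matrix ι ι F) *ᵥ v) =
        ((ρ k : ↥K) : Matrix ι ι F) *ᵥ ((g : Matrix ι ι F) *ᵥ v) := by
  have hg' : g⁻¹ ∈ subalgebraNormalizer K := (subalgebraNormalizer K).inv_mem hg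
  have h1 : ∀ k : ↥K, (g : Matrix ι ι F) * (k : Matrix ι ι F) * ((g⁻¹ : GL ι F) : Matrix ι ι F) ∈ K :=
    fun k => (hg k.1).mp k.2
  have h2 : ∀ k : ↥K, ((g⁻¹ : GL ι F) : Matrix ι ι F) * (k : Matrix ι ι F) * (g : Matrix ι ι F) ∈ K := by
    intro k
    have := (hg' k.1).mp k.2
    rwa [inv_inv] at this
  have hgi : (g : Matrix ι ι F) * ((g⁻¹ : GL ι F) : Matrix ι ι F) = 1 := by
    rw [← Units.val_mul, mul_inv_cancel, Units.val_one]
  have hig : ((g⁻¹ : GL ι F) : Matrix ι ι F) * (g : Matrix ι ι F) = 1 := by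
    rw [← Units.val_mul, inv_mul_cancel, Units.val_one]
  let ρ : ↥K ≃+* ↥K :=
    { toFun := fun k => ⟨_, h1 k⟩
      invFun := fun k => ⟨_, h2 k⟩
      left_inv := fun k => by
        apply Subtype.ext
        show ((g⁻¹ : GL ι F) : Matrix ι ι F) * ((g : Matrix ι ι F) * (k : Matrix ι ι F) *
          ((g⁻¹ : GL ι F) : Matrix ι ι F)) * (g : Matrix ι ι F) = k
        calc _ = (((g⁻¹ : GL ι F) : Matrix ι ι F) * (g : Matrix ι ι F)) * (k : Matrix ι ι F) *
              (((g⁻¹ : GL ι F) : Matrix ι ι F) * (g : Matrix ι ι F)) := by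
              simp only [Matrix.mul_assoc]
          _ = k := by rw [hig, Matrix.one_mul, Matrix.mul_one]
      right_inv := fun k => by
        apply Subtype.ext
        show (g : Matrix ι ι F) * (((g⁻¹ : GL ι F) : Matrix ι ι F) * (k : Matrix ι ι F) *
          (g : Matrix ι ι F)) * ((g⁻¹ : GL ι F) : Matrix ι ι F) = k
        calc _ = ((g : Matrix ι ι F) * ((g⁻¹ : GL ι F) : Matrix ι ι F)) * (k : Matrix ι ι F) *
              ((g : Matrix ι ι F) * ((g⁻¹ : GL ι F) : Matrix ι ι F)) := by
              simp only [Matrix.mul_assoc]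
          _ = k := by rw [hgi, Matrix.one_mul, Matrix.mul_one]
      map_mul' := fun a b => by
        apply Subtype.ext
        have e1 := hmul ⟨_, h1 a⟩ ⟨_, h1 b⟩
        have e2 := hmul a b
        show (g : Matrix ι ι F) * ((a * b : ↥K) : Matrix ι ι F) * ((g⁻¹ : GL ι F) : Matrix ι ι F) = _
        rw [e1, e2]
        show _ = ((g : Matrix ι ι F) * (a : Matrix ι ι F) * ((g⁻¹ : GL ι F) : Matrix ι ι F)) *
          ((g : Matrix ι ι F) * (b : Matrix ι ι F) * ((g⁻¹ : GL ι F) : Matrix ι ι F))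
        calc _ = (g : Matrix ι ι F) * (a : Matrix ι ι F) * 1 * (b : Matrix ι ι F) *
              ((g⁻¹ : GL ι F) : Matrix ι ι F) := by
              simp only [Matrix.mul_one, Matrix.mul_assoc]
          _ = _ := by rw [← hig]; simp only [Matrix.mul_assoc]
      map_add' := fun a b => by
        apply Subtype.ext
        have e1 := hadd ⟨_, h1 a⟩ ⟨_, h1 b⟩
        have e2 := hadd a b
        show (g : Matrix ι ι F) * ((a + b : ↥K) : Matrix ι ι F) * ((g⁻¹ : GL ι F) : Matrix ι ι F) = _
        rw [e1, e2, Matrix.mul_add, Matrix.add_mul] }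
  refine ⟨ρ, fun k v => ?_⟩
  show _ = ((g : Matrix ι ι F) * (k : Matrix ι ι F) * ((g⁻¹ : GL ι F) : Matrix ι ι F)) *ᵥ
    ((g : Matrix ι ι F) *ᵥ v)
  rw [Matrix.mulVec_mulVec, Matrix.mulVec_mulVec, Matrix.mul_assoc, Matrix.mul_assoc, hig,
    Matrix.mul_one]

end Norm

section Proper

variable {F K : Type*} [Field F] [Field K] [Algebra F K] [Finite F] [Finite K]
  {σ : F →+* F} {τ : K →+* K}

/-- a unitary transvection with centre `(ε, 0)` is not `K`-semilinear when `K ≠ F` -/
theorem not_isSemilin_utv (h : TauExt σ τ) (hr : 2 ≤ finrank F K) (ε : K) (hε : ε ≠ 0) (c : F)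
    (hc : c ≠ 0) :
    ¬ IsSemilin F K (K × K) (utv (uf (trT h)) ((ε, 0) : K × K) c) := by
  have hiso : uf (trT h) ((ε, 0) : K × K) ((ε, 0) : K × K) = 0 := by
    simp [uf_apply]
  rintro ⟨ρ, hρ⟩
  have hτε : τ ε ≠ 0 := fun h0 => hε (by
    have := congrArg τ h0
    rwa [h.invol, map_zero] at this)
  -- `ρ = id`
  have hρid : ∀ k : K, ρ k = k := by
    intro k
    have h1 := hρ k ((0, 1) : K × K)
    rw [utv_apply _ hiso, utv_apply _ hiso] at h1
    have h2 := congrArg Prod.snd h1
    simp only [Prod.smul_snd, Prod.snd_add, smul_eq_mul, mul_one, Prod.smul_mk, smul_zero,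
      add_zero] at h2
    exact h2.symm
  -- an element of trace one
  obtain ⟨w, hw⟩ := Algebra.trace_surjective F K 1
  -- every `k` is in `F`
  have hall : ∀ k : K, ∃ a : F, algebraMap F K a = k := by
    intro k
    have h1 := hρ k ((0, w / τ ε) : K × K)
    rw [hρid, utv_apply _ hiso, utv_apply _ hiso] at h1
    have h2 := congrArg Prod.fst h1
    simp only [Prod.smul_fst, Prod.fst_add, smul_eq_mul, mul_zero, zero_add, Prod.smul_mk,
      uf_apply, trT_apply, map_zero, zero_mul, add_zero] at h2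
    have e1 : k * (w / τ ε) * τ ε = k * w := by field_simp
    have e2 : w / τ ε * τ ε = w := by field_simp
    rw [e1, e2, hw, mul_one] at h2
    refine ⟨Algebra.trace F K (k * w), ?_⟩
    have h3 : (c * Algebra.trace F K (k * w)) • ε = k * (c • ε) := h2
    rw [Algebra.smul_def, Algebra.smul_def, map_mul] at h3
    have hcK : algebraMap F K c ≠ 0 := fun h0 => hc ((algebraMap F K).injective (by rw [h0, map_zero]))
    have h4 : algebraMap F K c * ε * algebraMap F K (Algebra.trace F K (k * w)) =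
        algebraMap F K c * ε * k := by
      rw [mul_right_comm, h3]; ring
    exact mul_left_cancel₀ (mul_ne_zero hcK hε) h4
  have hsurj : Function.Surjective (Algebra.linearMap F K) := fun k => hall k
  have hbij : Function.Bijective (Algebra.linearMap F K) :=
    ⟨(algebraMap F K).injective, hsurj⟩
  have hfr := (LinearEquiv.ofBijective (Algebra.linearMap F K) hbij).finrank_eq
  rw [Module.finrank_self] at hfr
  omega

end Proper

end Cfsg.Agent.Lib.Helper29_UX_BrSemi
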