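import Mathlib
import Cfsg.Agent.Lib.Helper97_UExtDefs
import Cfsg.Agent.Lib.Helper10_UX_TRS

set_option autoImplicit false
set_option linter.unusedSectionVars false
set_option linter.unusedVariables false

/-!
# UEXT2 bridge (helper29), part 2: the `L`-hermitian form `B` with `Tr_{L/F} ∘ B = b`

`F ⊆ L` finite fields, `τ` an involution of `L` extending `σ`, `V` an `L`-space, `b` a `σ`-hermitian
`F`-form on `V` with `b (k u) v = b u (τ k v)`.  Then `trH` is the `τ`-hermitian `L`-form with
`Tr (B u v * k) = b (k u) v`.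
-/

namespace Cfsg.Agent.Lib.Helper29_UX_BrTrace

open Module
open Cfsg.Agent.Lib.Helper94_Herm Cfsg.Agent.Lib.Helper97_UExtDefs

variable {F L V : Type*} [Field F] [Field L] [Algebra F L] [Finite F] [Finite L]
  [AddCommGroup V] [Module F V] [Module L V] [IsScalarTower F L V]
  {σ : F →+* F} {τ : L →+* L}

/-- the functional `k ↦ b (k u) v` on `L` -/
def phi (b : V →ₗ[F] V →ₛₗ[σ] F) (u v : V) : Module.Dual F L where
  toFun k := b (k • u) v
  map_add' k k' := by rw [add_smul, map_add, LinearMap.add_apply]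
  map_smul' a k := by
    rw [smul_assoc, map_smul, LinearMap.smul_apply, RingHom.id_apply]

/-- the element `c` of `L` with `Tr (c k) = b (k u) v` -/
noncomputable def trHfun (b : V →ₗ[F] V →ₛₗ[σ] F) (u v : V) : L :=
  ((Algebra.traceForm F L).toDual (traceForm_nondegenerate F L)).symm (phi b u v)

theorem trHfun_spec (b : V →ₗ[F] V →ₛₗ[σ] F) (u v : V) (k : L) :
    Algebra.trace F L (trHfun b u v * k) = b (k • u) v := by
  have h := LinearMap.BilinForm.toDual_def (B := Algebra.traceForm F L)
    (traceForm_nondegenerate F L) (m := trHfun b u v) (n := k)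
  rw [Algebra.traceForm_apply] at h
  rw [← h]
  unfold trHfun
  rw [LinearEquiv.apply_symm_apply]
  rfl

theorem eq_of_trace_mul_eq {c c' : L}
    (h : ∀ k : L, Algebra.trace F L (c * k) = Algebra.trace F L (c' * k)) : c = c' := by
  have hnd := (traceForm_nondegenerate F L).1
  have : c - c' = 0 := by
    apply hnd
    intro k
    rw [Algebra.traceForm_apply, sub_mul, map_sub, h k, sub_self]
  exact sub_eq_zero.mp this

/-- the `τ`-sesquilinear `L`-form with `Tr ∘ B = b` -/
noncomputable def trH (h : TauExt σ τ) (b : V →ₗ[F] V →ₛₗ[σ] F)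
    (hadj : ∀ (k : L) (u v : V), b (k • u) v = b u (τ k • v)) : V →ₗ[L] V →ₛₗ[τ] L :=
  LinearMap.mk₂'ₛₗ (RingHom.id L) τ (trHfun b)
    (fun u u' v => by
      apply eq_of_trace_mul_eq (F := F)
      intro k
      rw [add_mul, map_add, trHfun_spec, trHfun_spec, trHfun_spec, smul_add, map_add,
        LinearMap.add_apply])
    (fun c u v => by
      apply eq_of_trace_mul_eq (F := F)
      intro k
      rw [RingHom.id_apply, trHfun_spec, smul_eq_mul, mul_comm c, mul_assoc, trHfun_spec,
        smul_smul, mul_comm])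
    (fun u v v' => by
      apply eq_of_trace_mul_eq (F := F)
      intro k
      rw [add_mul, map_add, trHfun_spec, trHfun_spec, trHfun_spec, map_add])
    (fun c u v => by
      apply eq_of_trace_mul_eq (F := F)
      intro k
      have h1 : b (k • u) (c • v) = b ((τ c * k) • u) v := by
        rw [mul_smul, hadj (τ c), h.invol]
      have h3 : τ c • trHfun b u v * k = trHfun b u v * (τ c * k) := by
        rw [smul_eq_mul]; ring
      rw [trHfun_spec, h1, h3, trHfun_spec])

theorem trH_spec (h : TauExt σ τ) (b : V →ₗ[F] V →ₛₗ[σ] F)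
    (hadj : ∀ (k : L) (u v : V), b (k • u) v = b u (τ k • v)) (u v : V) (k : L) :
    Algebra.trace F L (trH h b hadj u v * k) = b (k • u) v := trHfun_spec b u v k

theorem trace_trH (h : TauExt σ τ) (b : V →ₗ[F] V →ₛₗ[σ] F)
    (hadj : ∀ (k : L) (u v : V), b (k • u) v = b u (τ k • v)) (u v : V) :
    Algebra.trace F L (trH h b hadj u v) = b u v := by
  have := trH_spec h b hadj u v 1
  rwa [mul_one, one_smul] at this

theorem trH_isHerm (h : TauExt σ τ) (b : V →ₗ[F] V →ₛₗ[σ] F) (hb : IsHerm b)
    (hadj : ∀ (k : L) (u v : V), b (k • u) v = b u (τ k • v)) : IsHerm (trH h b hadj) := by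
  intro u v
  apply eq_of_trace_mul_eq (F := F)
  intro k
  have h2 : τ (trH h b hadj u v) * k = τ (trH h b hadj u v * τ k) := by
    rw [map_mul, h.invol]
  rw [trH_spec, h2, Cfsg.Agent.Lib.Helper10_UX_TRS.trace_tau h, trH_spec, hb, hadj (τ k),
    h.invol]

theorem trH_nondeg (h : TauExt σ τ) (b : V →ₗ[F] V →ₛₗ[σ] F) (hN : NondegOn b ⊤)
    (hadj : ∀ (k : L) (u v : V), b (k • u) v = b u (τ k • v)) : NondegOn (trH h b hadj) ⊤ := by
  intro x _ hx
  obtain ⟨y, -, hy⟩ := hN x trivial hx
  refine ⟨y, trivial, fun h0 => hy ?_⟩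
  rw [← trace_trH h b hadj, h0, map_zero]

end Cfsg.Agent.Lib.Helper29_UX_BrTrace
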