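import Mathlib
import Cfsg.Agent.Lib.Helper97_OX2Defs
import Cfsg.Agent.Lib.Helper94_OrthVec

set_option autoImplicit false
set_option linter.unusedSectionVars false
set_option linter.unusedVariables false

/-!
helper61: OEXT2 market (architect helper97), package BR_ABS in aux form: `oext2_abstract_of` is the statement of
`oext2_abstract` with the statements of BR_CTX (`exists_theta`), BR_SIEG (`ksieg_mem_commutator`), BR_IOTA2
(`krefl_mem_commutator`) and MAIN (`main_abstract`) as hypotheses.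

`τ := Tr/2`, `QK' := 2 QK`, `BK' := 2 BK`: then `τ ∘ QK' = Q`, `τ ∘ BK' = B`, `Ctx θ ε τ QK' BK'` holds, and `HypO τ QK' BK' M`
follows from `hsl` since the `K`-Siegel elements and the `K`-reflections are `K`-linear elements of `⁅oG Q, oG Q⁆`.
-/

namespace Cfsg.Agent.Lib.Helper61_OX2_BR_ABSaux

open Module Cfsg.Agent.Lib.Helper94_OrthSmall Cfsg.Agent.Lib.Helper94_OrthSiegel
  Cfsg.Agent.Lib.Helper98_ExtDefs Cfsg.Agent.Lib.Helper97_OX2Defs
open scoped commutatorElement

variable {F K V : Type*} [Field F] [Field K] [Algebra F K] [AddCommGroup V] [Module F V]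
  [Module K V] [IsScalarTower F K V]

/-- BR_ABS with the statements of BR_CTX, BR_SIEG, BR_IOTA2, MAIN as hypotheses -/
theorem oext2_abstract_of [Finite F] [Finite K] [Module.Finite F V] (h2 : (2 : F) ≠ 0)
    (hr : finrank F K = 2)
    (QK : V → K) (BK : LinearMap.BilinForm K V)
    (hQKs : ∀ (c : K) (v : V), QK (c • v) = c * c * QK v)
    (hQKp : ∀ u v : V, QK (u + v) = QK u + QK v + BK u v) (hNK : BK.Nondegenerate)
    (Q : V → F) (B : LinearMap.BilinForm F V)
    (hQs : ∀ (c : F) (v : V), Q (c • v) = c * c * Q v)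
    (hQp : ∀ u v : V, Q (u + v) = Q u + Q v + B u v)
    (htr : ∀ v : V, Algebra.trace F K (QK v) = Q v) (hm : 5 ≤ finrank K V)
    (M : Subgroup (V ≃ₗ[F] V)) (hM : M ≤ oG Q)
    (hsl : ∀ g ∈ ⁅oG Q, oG Q⁆, IsSemilin F K V g → g ∈ M)
    (hCTX : ∃ (θ : K) (ε : F), θ * θ = algebraMap F K ε ∧ (∀ x : F, algebraMap F K x ≠ θ) ∧
      (∀ k : K, ∃ x y : F, k = algebraMap F K x + y • θ) ∧ Algebra.trace F K θ = 0 ∧
      Algebra.trace F K (1 : K) = 2)
    (hSIEG : ∀ {θ : K} {ε : F} {τ : K →ₗ[F] F} {QK' : V → K} {BK' : LinearMap.BilinForm K V},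
      Ctx θ ε τ QK' BK' → ∀ {u w : V}, QK' u = 0 → BK' u w = 0 →
      ksieg F QK' BK' u w ∈ ⁅oG (trQ τ QK'), oG (trQ τ QK')⁆)
    (hIOTA : ∀ {θ : K} {ε : F} {τ : K →ₗ[F] F} {QK' : V → K} {BK' : LinearMap.BilinForm K V},
      Ctx θ ε τ QK' BK' → ∀ {u₀ : V}, τ (QK' u₀) ≠ 0 → ¬ IsSquare (QK' u₀) →
      ∃ g ∈ ⁅oG (trQ τ QK'), oG (trQ τ QK')⁆,
        (∀ x, g x = x - ((QK' u₀)⁻¹ * BK' x u₀) • u₀) ∧ ∀ (k : K) (x : V), g (k • x) = k • g x)
    (hMAIN : ∀ {θ : K} {ε : F} {τ : K →ₗ[F] F} {QK' : V → K} {BK' : LinearMap.BilinForm K V},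
      Ctx θ ε τ QK' BK' → ∀ M : Subgroup (V ≃ₗ[F] V), HypO τ QK' BK' M →
      (∀ g ∈ M, IsSemilin F K V g) ∨ AllSieg (trQ τ QK') (trB τ BK') M) :
    (∀ g ∈ M, IsSemilin F K V g) ∨ AllSieg Q B M := by
  obtain ⟨θ, ε, hθ, hθF, hdec, htrθ, htr1⟩ := hCTX
  -- `2 ≠ 0` in `K`
  have h2K : (2 : K) ≠ 0 := by
    intro h
    have : algebraMap F K 2 = 0 := by rw [map_ofNat]; exact h
    exact h2 ((map_eq_zero (algebraMap F K)).mp this)
  have h2smul : ∀ x : K, (2 : K) * x = (2 : F) • x := by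
    intro x
    rw [Algebra.smul_def, map_ofNat]
  set τ : K →ₗ[F] F := (2 : F)⁻¹ • Algebra.trace F K with hτ
  have hτa : ∀ x : K, τ x = (2 : F)⁻¹ * Algebra.trace F K x := fun x => by
    rw [hτ, LinearMap.smul_apply, smul_eq_mul]
  have hτ2 : ∀ x : K, τ ((2 : K) * x) = Algebra.trace F K x := by
    intro x
    rw [hτa, h2smul, map_smul, smul_eq_mul, ← mul_assoc, inv_mul_cancel₀ h2, one_mul]
  set QK' : V → K := fun v => (2 : K) * QK v with hQK'
  set BK' : LinearMap.BilinForm K V := (2 : K) • BK with hBK'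
  have hBK'a : ∀ u v : V, BK' u v = (2 : K) * BK u v := fun u v => by
    rw [hBK', LinearMap.smul_apply, LinearMap.smul_apply, smul_eq_mul]
  -- the `F`-forms
  have hQeq : trQ τ QK' = Q := by
    funext v
    rw [trQ_apply, hQK']
    show τ ((2 : K) * QK v) = Q v
    rw [hτ2, htr]
  have hBtr : ∀ u v : V, Algebra.trace F K (BK u v) = B u v := by
    intro u v
    have h1 := hQp u v
    rw [← htr, ← htr, ← htr, hQKp, map_add, map_add] at h1
    exact add_left_cancel h1
  have hBeq : trB τ BK' = B := by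
    apply LinearMap.ext
    intro u
    apply LinearMap.ext
    intro v
    rw [trB_apply, hBK'a, hτ2, hBtr]
  -- the context
  have C : Ctx θ ε τ QK' BK' := by
    refine ⟨h2, hθ, hθF, hdec, ?_, ?_, ?_, ?_, ?_, hm⟩
    · rw [hτa, htr1, inv_mul_cancel₀ h2]
    · rw [hτa, htrθ, mul_zero]
    · intro c v
      show (2 : K) * QK (c • v) = c * c * ((2 : K) * QK v)
      rw [hQKs]; ring
    · intro u v
      show (2 : K) * QK (u + v) = (2 : K) * QK u + (2 : K) * QK v + BK' u v
      rw [hBK'a, hQKp]; ring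
    · constructor
      · intro x hx
        apply hNK.1 x
        intro y
        have := hx y
        rw [hBK'a] at this
        exact (mul_eq_zero.1 this).resolve_left h2K
      · intro y hy
        apply hNK.2 y
        intro x
        have := hy x
        rw [hBK'a] at this
        exact (mul_eq_zero.1 this).resolve_left h2K
  -- `HypO`
  have hlin : ∀ g : V ≃ₗ[F] V, (∀ (k : K) (x : V), g (k • x) = k • g x) → IsSemilin F K V g :=
    fun g hg => ⟨RingEquiv.refl K, fun k v => by rw [hg]; rfl⟩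
  have hH : HypO τ QK' BK' M := by
    refine ⟨?_, ?_, ?_⟩
    · rw [hQeq]; exact hM
    · intro u w hu huw
      apply hsl
      · have := hSIEG C hu huw
        rw [hQeq] at this
        exact this
      · exact hlin _ (fun k x => ksieg_smul QK' BK' u w k x)
    · intro u₀ hτd hns
      obtain ⟨g, hg, hgx, hgk⟩ := hIOTA C hτd hns
      rw [hQeq] at hg
      exact ⟨g, hsl g hg (hlin g hgk), hgx⟩
  rcases hMAIN C M hH with h | h
  · exact Or.inl h
  · right
    rw [hQeq, hBeq] at h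
    exact h

end Cfsg.Agent.Lib.Helper61_OX2_BR_ABSaux
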