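import Mathlib
import Cfsg.Agent.Lib.Helper97_OX2Defs
import Cfsg.Agent.Lib.Helper94_OrthVec

set_option autoImplicit false
set_option linter.unusedSectionVars false
set_option linter.unusedVariables false

/-!
# OEXT2 package E_PAR (helper42, for helper97): a `K`-invariant `F`-subspace of codimension at most
one in a `4`-dimensional `t` is `t` (parity of the `F`-dimension of a `K`-invariant subspace).
-/

namespace Cfsg.Agent.Lib.Helper42_OX2_E_PAR

open Module Cfsg.Agent.Lib.Helper94_OrthSmall Cfsg.Agent.Lib.Helper94_OrthSiegel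
  Cfsg.Agent.Lib.Helper98_ExtDefs Cfsg.Agent.Lib.Helper97_OX2Defs
open scoped commutatorElement

variable {F K V : Type*} [Field F] [Field K] [Algebra F K] [AddCommGroup V] [Module F V]
  [Module K V] [IsScalarTower F K V]
variable {θ : K} {ε : F} {τ : K →ₗ[F] F} {QK : V → K} {BK : LinearMap.BilinForm K V}

/-- the `F`-dimension of a `K`-invariant `F`-subspace is even -/
theorem finrank_even_of_isKinv (C : Ctx θ ε τ QK BK) (R : Submodule F V) (hRK : IsKinv K R) :
    ∃ m : ℕ, finrank F R = 2 * m := by
  let RK : Submodule K V :=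
    { carrier := R
      add_mem' := fun ha hb => R.add_mem ha hb
      zero_mem' := R.zero_mem
      smul_mem' := fun k x hx => hRK k x hx }
  let e : R ≃ₗ[F] RK :=
    { toFun := fun x => ⟨x.1, x.2⟩
      invFun := fun x => ⟨x.1, x.2⟩
      map_add' := fun x y => rfl
      map_smul' := fun c x => rfl
      left_inv := fun x => rfl
      right_inv := fun x => rfl }
  refine ⟨finrank K RK, ?_⟩
  rw [e.finrank_eq, ← Module.finrank_mul_finrank F K RK, C.finrank_FK]

/-- E_PAR: a `K`-invariant subspace of codimension at most one in a `4`-dimensional `t` is `t` -/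
theorem eq_of_codim_one [Module.Finite F V] (C : Ctx θ ε τ QK BK) (t R : Submodule F V)
    (ht4 : finrank F t = 4) (hRt : R ≤ t) (hRK : IsKinv K R) {x₀ : V}
    (hx : ∀ y ∈ t, ∃ s : F, y - s • x₀ ∈ R) : R = t := by
  obtain ⟨m, hm⟩ := finrank_even_of_isKinv C R hRK
  have h1 : finrank F R ≤ 4 := ht4 ▸ Submodule.finrank_mono hRt
  have h2 : t ≤ R ⊔ Submodule.span F {x₀} := by
    intro y hy
    obtain ⟨s, hs⟩ := hx y hy
    have : y = (y - s • x₀) + s • x₀ := by abel
    rw [this]
    exact Submodule.add_mem_sup hs (Submodule.smul_mem _ _ (Submodule.mem_span_singleton_self x₀))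
  have h3 : finrank F t ≤ finrank F R + 1 := by
    calc finrank F t ≤ finrank F ↥(R ⊔ Submodule.span F {x₀}) := Submodule.finrank_mono h2
      _ ≤ finrank F R + finrank F (Submodule.span F {x₀}) :=
          Submodule.finrank_add_le_finrank_add_finrank _ _
      _ ≤ finrank F R + 1 := by
          have : finrank F (Submodule.span F {x₀}) ≤ 1 := by
            by_cases h0 : x₀ = 0
            · rw [h0, Submodule.span_zero_singleton, finrank_bot]
              exact Nat.zero_le 1
            · rw [finrank_span_singleton h0]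
          omega
  have h4 : finrank F R = 4 := by omega
  exact Submodule.eq_of_le_of_finrank_eq hRt (by rw [h4, ht4])

end Cfsg.Agent.Lib.Helper42_OX2_E_PAR
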