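import Mathlib
import Cfsg.Agent.Lib.Helper97_OX2Defs
import Cfsg.Agent.Lib.Helper94_OrthVec

set_option autoImplicit false
set_option linter.unusedSectionVars false
set_option linter.unusedVariables false

/-!
# OEXT2 package E_RANK (helper42, for helper97): if all `2 × 2` minors of `BK` on the totally
singular `F`-subspace `t` vanish, the radical of `BK` on `t` has codimension at most one in `t`.
-/

namespace Cfsg.Agent.Lib.Helper42_OX2_E_RANK

open Module Cfsg.Agent.Lib.Helper94_OrthSmall Cfsg.Agent.Lib.Helper94_OrthSiegel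
  Cfsg.Agent.Lib.Helper98_ExtDefs Cfsg.Agent.Lib.Helper97_OX2Defs
open scoped commutatorElement

variable {F K V : Type*} [Field F] [Field K] [Algebra F K] [AddCommGroup V] [Module F V]
  [Module K V] [IsScalarTower F K V]
variable {θ : K} {ε : F} {τ : K →ₗ[F] F} {QK : V → K} {BK : LinearMap.BilinForm K V}

/-- E_RANK: if all `2 × 2` minors of `BK` on the totally singular `t` vanish, the radical of
`BK` on `t` has codimension at most one in `t` -/
theorem rank_le_one (C : Ctx θ ε τ QK BK) (t : Submodule F V)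
    (hts : ∀ x ∈ t, trQ τ QK x = 0)
    (hmin : ∀ x ∈ t, ∀ y ∈ t, BK x x * BK y y - BK x y * BK x y = 0) :
    ∃ x₀ ∈ t, ∀ y ∈ t, ∃ s : F, ∀ z ∈ t, BK (y - s • x₀) z = 0 := by
  -- polarisation of the minor condition
  have hpol : ∀ x ∈ t, ∀ y ∈ t, ∀ z ∈ t, BK x x * BK y z = BK x y * BK x z := by
    intro x hx y hy z hz
    have h1 := hmin x hx (y + z) (t.add_mem hy hz)
    have h2 := hmin x hx y hy
    have h3 := hmin x hx z hz
    simp only [map_add, LinearMap.add_apply] at h1
    rw [C.BK_symm z y] at h1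
    have h4 : (2 : K) * (BK x x * BK y z - BK x y * BK x z) = 0 := by
      linear_combination h1 - h2 - h3
    rcases mul_eq_zero.mp h4 with h | h
    · exact absurd h C.two_ne_zero_K
    · exact sub_eq_zero.mp h
  -- `τ (BK x y) = 0` on `t`
  have htB : ∀ x ∈ t, ∀ y ∈ t, τ (BK x y) = 0 := by
    intro x hx y hy
    have h1 := hts (x + y) (t.add_mem hx hy)
    rw [C.trQ_add, hts x hx, hts y hy, zero_add, zero_add, trB_apply] at h1
    exact h1
  by_cases hex : ∃ x₀ ∈ t, BK x₀ x₀ ≠ 0
  · obtain ⟨x₀, hx₀, hne⟩ := hex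
    refine ⟨x₀, hx₀, ?_⟩
    intro y hy
    obtain ⟨a', a, ha⟩ := C.hdec (BK x₀ x₀)
    obtain ⟨b', b, hb⟩ := C.hdec (BK x₀ y)
    have ha' : a' = 0 := by
      have := htB x₀ hx₀ x₀ hx₀
      rw [ha, C.tau_dec] at this
      exact this
    have hb' : b' = 0 := by
      have := htB x₀ hx₀ y hy
      rw [hb, C.tau_dec] at this
      exact this
    subst ha' hb'
    rw [map_zero, zero_add] at ha hb
    have ha0 : a ≠ 0 := by
      rintro rfl
      rw [zero_smul] at ha
      exact hne ha
    refine ⟨b / a, ?_⟩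
    intro z hz
    rw [map_sub, LinearMap.sub_apply, ← algebraMap_smul K (b / a) x₀, map_smul,
      LinearMap.smul_apply, smul_eq_mul]
    have h5 := hpol x₀ hx₀ y hy z hz
    have h6 : BK x₀ y = algebraMap F K (b / a) * BK x₀ x₀ := by
      rw [ha, hb, Algebra.smul_def, Algebra.smul_def, ← mul_assoc, ← map_mul,
        div_mul_cancel₀ _ ha0]
    apply mul_left_cancel₀ hne
    rw [mul_zero, mul_sub, h5, h6]
    ring
  · push Not at hex
    refine ⟨0, t.zero_mem, fun y hy => ⟨0, fun z hz => ?_⟩⟩
    rw [smul_zero, sub_zero]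
    have h1 := hex (y + z) (t.add_mem hy hz)
    simp only [map_add, LinearMap.add_apply] at h1
    rw [hex y hy, hex z hz, C.BK_symm z y] at h1
    have h2 : (2 : K) * BK y z = 0 := by linear_combination h1
    rcases mul_eq_zero.mp h2 with h | h
    · exact absurd h C.two_ne_zero_K
    · exact h

end Cfsg.Agent.Lib.Helper42_OX2_E_RANK
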