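import Mathlib
import Cfsg.Agent.Lib.Helper97_OX2Defs
import Cfsg.Agent.Lib.Helper94_OrthVec

set_option autoImplicit false
set_option linter.unusedSectionVars false
set_option linter.unusedVariables false

/-!
# OEXT2 package BR_IOTA1 (helper53 for helper97): the `K`-reflection in a vector `u₀` with
`QK u₀` a nonsquare of `K` and `τ (QK u₀) ≠ 0` is the product of the two `F`-reflections in the
orthogonal vectors `u₀`, `μ • u₀` of the same `trQ`-value.
-/

namespace Cfsg.Agent.Lib.Helper53_OX2_BRIOTA1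

open Module Cfsg.Agent.Lib.Helper94_OrthSmall Cfsg.Agent.Lib.Helper94_OrthSiegel
  Cfsg.Agent.Lib.Helper98_ExtDefs Cfsg.Agent.Lib.Helper97_OX2Defs
open scoped commutatorElement

/-- in a finite field of odd characteristic, one of `u`, `v`, `u * v` is a square -/
theorem sq_trichotomy {F : Type*} [Field F] [Finite F] (h2 : (2 : F) ≠ 0) (u v : F) :
    IsSquare u ∨ IsSquare v ∨ IsSquare (u * v) := by
  classical
  have : Fintype F := Fintype.ofFinite F
  have hF : ringChar F ≠ 2 := by
    intro h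
    apply h2
    have h3 := ringChar.Nat.cast_ringChar (R := F)
    rw [h] at h3
    exact_mod_cast h3
  by_cases hu : u = 0
  · left; rw [hu]; exact IsSquare.zero
  by_cases hv : v = 0
  · right; left; rw [hv]; exact IsSquare.zero
  by_contra hcon
  rw [not_or, not_or] at hcon
  obtain ⟨h1, h2', h3⟩ := hcon
  rw [FiniteField.isSquare_iff hF hu] at h1
  rw [FiniteField.isSquare_iff hF hv] at h2'
  rw [FiniteField.isSquare_iff hF (mul_ne_zero hu hv)] at h3
  have e1 := (FiniteField.pow_dichotomy hF hu).resolve_left h1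
  have e2 := (FiniteField.pow_dichotomy hF hv).resolve_left h2'
  apply h3
  rw [mul_pow, e1, e2]
  ring

variable {F K V : Type*} [Field F] [Field K] [Algebra F K] [AddCommGroup V] [Module F V]
  [Module K V] [IsScalarTower F K V]
variable {θ : K} {ε : F} {τ : K →ₗ[F] F} {QK : V → K} {BK : LinearMap.BilinForm K V}

/-- the square of `x + y θ` -/
theorem dec_sq (C : Ctx θ ε τ QK BK) (x y : F) :
    (algebraMap F K x + y • θ) * (algebraMap F K x + y • θ)
      = algebraMap F K (x * x + ε * (y * y)) + (2 * x * y) • θ := by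
  have hθ := C.hθ
  simp only [Algebra.smul_def, map_add, map_mul, map_ofNat]
  linear_combination (algebraMap F K y * algebraMap F K y) * hθ

/-- the product of `x + y θ` and `x' + y' θ` -/
theorem dec_mul (C : Ctx θ ε τ QK BK) (x y x' y' : F) :
    (algebraMap F K x + y • θ) * (algebraMap F K x' + y' • θ)
      = algebraMap F K (x * x' + ε * (y * y')) + (x * y' + y * x') • θ := by
  have hθ := C.hθ
  simp only [Algebra.smul_def, map_add, map_mul]
  linear_combination (algebraMap F K y * algebraMap F K y') * hθ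

/-- if the norm `a² - ε b²` of `a + b θ` is a square of `F`, then `a + b θ` is a square of `K` -/
theorem isSquare_of_norm [Finite F] (C : Ctx θ ε τ QK BK) (a b t : F)
    (ht : t * t = a * a - ε * (b * b)) : IsSquare (algebraMap F K a + b • θ) := by
  have h2 := C.h2
  have hε := C.eps_ne_zero
  by_cases hb : b = 0
  · -- `d = a ∈ F`
    subst hb
    rcases sq_trichotomy h2 a ε with ⟨x, hx⟩ | ⟨x, hx⟩ | ⟨x, hx⟩
    · refine ⟨algebraMap F K x, ?_⟩
      rw [zero_smul, add_zero, hx, map_mul]
    · exact absurd hx.symm (C.eps_not_sq x)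
    · -- `a ε = x²`, so `a = ε (x/ε)²`
      refine ⟨algebraMap F K 0 + (x / ε) • θ, ?_⟩
      rw [dec_sq C, zero_smul, add_zero]
      have e1 : (0 : F) * 0 + ε * (x / ε * (x / ε)) = a := by
        field_simp
        linear_combination -hx
      rw [e1]
      simp
  · -- `b ≠ 0`
    have key : ∀ t' : F, t' * t' = a * a - ε * (b * b) → IsSquare ((a + t') / 2) →
        IsSquare (algebraMap F K a + b • θ) := by
      intro t' ht' hsq
      obtain ⟨x, hx⟩ := hsq
      have hx0 : x ≠ 0 := by
        intro h0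
        rw [h0, mul_zero] at hx
        have h3 : a + t' = 0 := by
          rcases div_eq_zero_iff.mp hx with h | h
          · exact h
          · exact absurd h h2
        have h4 : t' = -a := by linear_combination h3
        rw [h4] at ht'
        have h5 : ε * (b * b) = 0 := by linear_combination ht'
        rcases mul_eq_zero.mp h5 with h6 | h6
        · exact hε h6
        · exact hb (mul_self_eq_zero.mp h6)
      refine ⟨algebraMap F K x + (b / (2 * x)) • θ, ?_⟩
      rw [dec_sq C]
      have e1 : x * x + ε * (b / (2 * x) * (b / (2 * x))) = a := by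
        have hx' : 2 * (x * x) = a + t' := by
          rw [← hx]; field_simp
        field_simp
        linear_combination (2 * x ^ 2 + (t' - a)) * hx' + ht'
      have e2 : 2 * x * (b / (2 * x)) = b := by field_simp
      rw [e1, e2]
    rcases sq_trichotomy h2 ((a + t) / 2) ((a + -t) / 2) with h | h | ⟨w, hw⟩
    · exact key t ht h
    · exact key (-t) (by rw [neg_mul_neg]; exact ht) h
    · exfalso
      -- `(a+t)/2 (a-t)/2 = ε (b/2)²`
      apply C.eps_not_sq (2 * w / b)
      field_simp
      have hw' : (a + t) * (a + -t) = 4 * (w * w) := by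
        rw [← hw]; field_simp; ring
      linear_combination -hw' - ht

theorem krefl_eq [Finite F] (C : Ctx θ ε τ QK BK) {u₀ : V} (hτd : τ (QK u₀) ≠ 0)
    (hns : ¬ IsSquare (QK u₀)) :
    ∃ μ : K, trB τ BK u₀ (μ • u₀) = 0 ∧ trQ τ QK (μ • u₀) = trQ τ QK u₀ ∧
      ∀ x : V, x - ((QK u₀)⁻¹ * BK x u₀) • u₀ =
        x - ((trQ τ QK u₀)⁻¹ * trB τ BK x u₀) • u₀
          - ((trQ τ QK u₀)⁻¹ * trB τ BK x (μ • u₀)) • (μ • u₀) := by
  have h2 := C.h2
  have hε := C.eps_ne_zero
  obtain ⟨a, b, hd⟩ := C.hdec (QK u₀)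
  have ha : τ (QK u₀) = a := by rw [hd, C.tau_dec]
  have ha0 : a ≠ 0 := by rw [← ha]; exact hτd
  -- the norm is `ε` times a square
  obtain ⟨s, hs⟩ : ∃ s : F, s * s * ε = a * a - ε * (b * b) := by
    rcases sq_trichotomy h2 (a * a - ε * (b * b)) ε with ⟨t, ht⟩ | ⟨x, hx⟩ | ⟨w, hw⟩
    · exfalso
      apply hns
      rw [hd]
      exact isSquare_of_norm C a b t ht.symm
    · exact absurd hx.symm (C.eps_not_sq x)
    · refine ⟨w / ε, ?_⟩
      field_simp
      linear_combination -hw
  have hs0 : s ≠ 0 := by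
    intro h0
    rw [h0, mul_zero, zero_mul] at hs
    -- `a² = ε b²`
    by_cases hb : b = 0
    · rw [hb, mul_zero, mul_zero, sub_zero] at hs
      exact ha0 (mul_self_eq_zero.mp hs.symm)
    · apply C.eps_not_sq (a / b)
      field_simp
      linear_combination -hs
  -- `μ = m₁ + m₂ θ`
  obtain ⟨m₁, hm₁⟩ : ∃ m₁ : F, m₁ = -b / s := ⟨_, rfl⟩
  obtain ⟨m₂, hm₂⟩ : ∃ m₂ : F, m₂ = a / (s * ε) := ⟨_, rfl⟩
  obtain ⟨μ, hμ⟩ : ∃ μ : K, μ = algebraMap F K m₁ + m₂ • θ := ⟨_, rfl⟩
  have hBself : BK u₀ u₀ = 2 * QK u₀ := B_self QK BK C.hQs C.hQp u₀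
  -- `μ d = s θ`
  have hμd : μ * QK u₀ = algebraMap F K 0 + s • θ := by
    rw [hd, hμ, dec_mul C]
    have e1 : m₁ * a + ε * (m₂ * b) = 0 := by
      rw [hm₁, hm₂]; field_simp; ring
    have e2 : m₁ * b + m₂ * a = s := by
      rw [hm₁, hm₂]; field_simp
      linear_combination -hs
    rw [e1, e2]
  have hμμd : μ * μ * QK u₀ = algebraMap F K a + (-b) • θ := by
    rw [mul_assoc, hμd, hμ, dec_mul C]
    have e1 : m₁ * 0 + ε * (m₂ * s) = a := by
      rw [hm₂, mul_zero, zero_add]; field_simp
    have e2 : m₁ * s + m₂ * 0 = -b := by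
      rw [hm₁, mul_zero, add_zero]; field_simp
    rw [e1, e2]
  refine ⟨μ, ?_, ?_, ?_⟩
  · rw [trB_apply, map_smul, smul_eq_mul, hBself]
    have e : μ * (2 * QK u₀) = algebraMap F K 0 + (2 * s) • θ := by
      rw [mul_left_comm, hμd, map_zero, zero_add, zero_add, two_mul, two_mul, add_smul]
    rw [e, C.tau_dec]
  · rw [trQ_apply, trQ_apply, C.hQs, hμμd, C.tau_dec, ha]
  · intro x
    obtain ⟨p, r, hβ⟩ := C.hdec (BK x u₀)
    have hd0 : QK u₀ ≠ 0 := by
      intro h0
      rw [h0, map_zero] at hτd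
      exact hτd rfl
    have e1 : trB τ BK x u₀ = p := by rw [trB_apply, hβ, C.tau_dec]
    obtain ⟨c, hc⟩ : ∃ c : F, c = m₁ * p + ε * (m₂ * r) := ⟨_, rfl⟩
    have e2 : trB τ BK x (μ • u₀) = c := by
      rw [trB_apply, map_smul, smul_eq_mul, hβ, hμ, dec_mul C, C.tau_dec, hc]
    rw [e1, e2, trQ_apply, ha, sub_sub]
    congr 1
    rw [← algebraMap_smul K (a⁻¹ * p) u₀, ← algebraMap_smul K (a⁻¹ * c) (μ • u₀),
      smul_smul, ← add_smul]
    congr 1
    -- the identity in `K`
    have hA0 : algebraMap F K a ≠ 0 := by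
      rw [Ne, map_eq_zero]; exact ha0
    have key : algebraMap F K a * BK x u₀ =
        QK u₀ * (algebraMap F K p + algebraMap F K c * μ) := by
      rw [mul_add, mul_left_comm, mul_comm (QK u₀) μ, hμd, hβ, hd, map_zero, zero_add]
      have e3 : c = (a * r - b * p) / s := by
        rw [hc, hm₁, hm₂]; field_simp; ring
      rw [e3]
      have hS0 : algebraMap F K s ≠ 0 := by
        rw [Ne, map_eq_zero]; exact hs0
      simp only [Algebra.smul_def, map_div₀, map_sub, map_mul]
      field_simp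
      ring
    rw [map_mul, map_mul, map_inv₀]
    field_simp
    linear_combination key

end Cfsg.Agent.Lib.Helper53_OX2_BRIOTA1
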