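import Mathlib
import Cfsg.Agent.Lib.Helper97_OX2Defs
import Cfsg.Agent.Lib.Helper94_OrthVec
import Cfsg.Agent.Lib.Helper94_OrthRefl
import Cfsg.Agent.Lib.Helper53_OX2_BRIOTA1

set_option autoImplicit false
set_option linter.unusedSectionVars false
set_option linter.unusedVariables false

/-!
# OEXT2 (helper97), package BR_IOTA2: the `K`-reflections in vectors `u₀` with `τ (QK u₀) ≠ 0` and
`QK u₀` a nonsquare are products of commutators of isometries of `Q = τ ∘ QK`.  (helper43)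

`krefl_mem_commutator_of` takes the conclusion of BR_IOTA1 (`krefl_eq`) as a hypothesis.
-/

namespace Cfsg.Agent.Lib.Helper43_OX2_BR_IOTA2

open Module Cfsg.Agent.Lib.Helper94_OrthSmall Cfsg.Agent.Lib.Helper94_OrthSiegel
  Cfsg.Agent.Lib.Helper98_ExtDefs Cfsg.Agent.Lib.Helper97_OX2Defs
open scoped commutatorElement

variable {F K V : Type*} [Field F] [Field K] [Algebra F K] [AddCommGroup V] [Module F V]
  [Module K V] [IsScalarTower F K V]
variable {θ : K} {ε : F} {τ : K →ₗ[F] F} {QK : V → K} {BK : LinearMap.BilinForm K V}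

/-- `V` is finite dimensional over `F` -/
theorem finite_FV [Module.Finite K V] (C : Ctx θ ε τ QK BK) : Module.Finite F V := by
  have hK : Module.Finite F K := by
    apply Module.finite_of_finrank_pos
    rw [C.finrank_FK]
    norm_num
  exact Module.Finite.trans K V

/-- BR_IOTA2 with the conclusion of BR_IOTA1 as a hypothesis -/
theorem krefl_mem_commutator_of [Finite F] [Finite K] [Module.Finite K V] (C : Ctx θ ε τ QK BK)
    {u₀ : V} (hτd : τ (QK u₀) ≠ 0) (hns : ¬ IsSquare (QK u₀))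
    (hkr : ∃ μ : K, trB τ BK u₀ (μ • u₀) = 0 ∧ trQ τ QK (μ • u₀) = trQ τ QK u₀ ∧
      ∀ x : V, x - ((QK u₀)⁻¹ * BK x u₀) • u₀ =
        x - ((trQ τ QK u₀)⁻¹ * trB τ BK x u₀) • u₀
          - ((trQ τ QK u₀)⁻¹ * trB τ BK x (μ • u₀)) • (μ • u₀)) :
    ∃ g ∈ ⁅oG (trQ τ QK), oG (trQ τ QK)⁆, (∀ x, g x = x - ((QK u₀)⁻¹ * BK x u₀) • u₀) ∧
      ∀ (k : K) (x : V), g (k • x) = k • g x := by
  obtain ⟨μ, h1, h2, h3⟩ := hkr
  have hfin : Module.Finite F V := finite_FV C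
  have h21 : (2 : F) ≠ 1 := by
    intro h
    have : (1 : F) = 0 := by linear_combination h
    exact one_ne_zero this
  have hS : ∀ u z, trQ τ QK u = 0 → trB τ BK u z = 0 →
      sieg (trQ τ QK) (trB τ BK) u z ∈ ⁅oG (trQ τ QK), oG (trQ τ QK)⁆ := fun u z hu huz =>
    sieg_mem_commutator (trQ τ QK) (trB τ BK) C.trQ_smul C.trQ_add C.trB_nondeg C.h2 h21 hu huz
  have ha : trQ τ QK u₀ ≠ 0 := hτd
  obtain ⟨g, hg, hgx⟩ := Cfsg.Agent.Lib.Helper94_OrthRefl.refl_pair_mem C.trQ_smul C.trQ_add hS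
    ha h2 h1
  have hgx' : ∀ x, g x = x - ((QK u₀)⁻¹ * BK x u₀) • u₀ := fun x => by rw [hgx x, h3 x]
  refine ⟨g, hg, hgx', ?_⟩
  intro k x
  rw [hgx', hgx', map_smul, LinearMap.smul_apply, smul_eq_mul, smul_sub, smul_smul]
  have e : (QK u₀)⁻¹ * (k * BK x u₀) = k * ((QK u₀)⁻¹ * BK x u₀) := by ring
  rw [e]

/-- BR_IOTA2: such `K`-reflections are products of commutators of isometries of `Q = τ ∘ QK` -/
theorem krefl_mem_commutator [Finite F] [Finite K] [Module.Finite K V] (C : Ctx θ ε τ QK BK)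
    {u₀ : V} (hτd : τ (QK u₀) ≠ 0) (hns : ¬ IsSquare (QK u₀)) :
    ∃ g ∈ ⁅oG (trQ τ QK), oG (trQ τ QK)⁆, (∀ x, g x = x - ((QK u₀)⁻¹ * BK x u₀) • u₀) ∧
      ∀ (k : K) (x : V), g (k • x) = k • g x :=
  krefl_mem_commutator_of C hτd hns (Cfsg.Agent.Lib.Helper53_OX2_BRIOTA1.krefl_eq C hτd hns)

end Cfsg.Agent.Lib.Helper43_OX2_BR_IOTA2
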