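import Mathlib
import Cfsg.Agent.Lib.Helper97_OX2Defs
import Cfsg.Agent.Lib.Helper94_OrthVec

set_option autoImplicit false
set_option linter.unusedSectionVars false
set_option linter.unusedVariables false

/-!
# OEXT2 package E_ARITH (architect helper97; formalised by helper44)

For `a ∈ F*` and `b₀ ∈ F` there is `b ≠ b₀` with `a + bθ` a nonsquare of `K = F(θ)`.
-/

namespace Cfsg.Agent.Lib.Helper44_OX2_E_ARITH

open Module Cfsg.Agent.Lib.Helper94_OrthSmall Cfsg.Agent.Lib.Helper94_OrthSiegel
  Cfsg.Agent.Lib.Helper98_ExtDefs Cfsg.Agent.Lib.Helper97_OX2Defs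
open scoped commutatorElement

variable {F K V : Type*} [Field F] [Field K] [Algebra F K] [AddCommGroup V] [Module F V]
  [Module K V] [IsScalarTower F K V]
variable {θ : K} {ε : F} {τ : K →ₗ[F] F} {QK : V → K} {BK : LinearMap.BilinForm K V}

/-- sum of two squares in a finite field of odd characteristic -/
theorem h44_sq_add_sq [Finite F] (h2 : (2 : F) ≠ 0) (x : F) : ∃ b c : F, b * b + c * c = x := by
  classical
  have : Fintype F := Fintype.ofFinite F
  have hchar : ringChar F ≠ 2 := by
    intro h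
    have h3 := CharP.cast_eq_zero F (ringChar F)
    rw [h] at h3
    exact h2 (by exact_mod_cast h3)
  have hodd : Fintype.card F % 2 = 1 := FiniteField.odd_card_of_char_ne_two hchar
  obtain ⟨b, c, hbc⟩ : ∃ b c, (Polynomial.X ^ 2 : Polynomial F).eval b
      + (Polynomial.X ^ 2 - Polynomial.C x : Polynomial F).eval c = 0 :=
    FiniteField.exists_root_sum_quadratic (Polynomial.degree_X_pow 2)
      (Polynomial.degree_X_pow_sub_C (by decide) _) hodd
  refine ⟨b, c, ?_⟩
  simp only [Polynomial.eval_C, Polynomial.eval_X, Polynomial.eval_pow, Polynomial.eval_sub] at hbc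
  linear_combination hbc

/-- if `a + bθ` is a square in `K` then `a² - ε b²` is a square in `F` -/
theorem h44_norm_sq (C : Ctx θ ε τ QK BK) (a b : F)
    (h : IsSquare (algebraMap F K a + b • θ)) : ∃ n : F, a * a - ε * (b * b) = n * n := by
  obtain ⟨k, hk⟩ := h
  obtain ⟨x, y, rfl⟩ := C.hdec k
  have h1 : (algebraMap F K x + y • θ) * (algebraMap F K x + y • θ)
      = algebraMap F K (x * x + ε * (y * y)) + (2 * x * y) • θ := by
    have hθ := C.hθ
    simp only [Algebra.smul_def, map_add, map_mul, map_ofNat]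
    linear_combination (algebraMap F K y * algebraMap F K y) * hθ
  rw [h1] at hk
  obtain ⟨ha, hb⟩ := C.dec_inj hk
  refine ⟨x * x - ε * (y * y), ?_⟩
  rw [ha, hb]
  ring

/-- E_ARITH -/
theorem exists_nonsq [Finite F] (C : Ctx θ ε τ QK BK) (a b₀ : F) (ha : a ≠ 0) :
    ∃ b : F, b ≠ b₀ ∧ ¬ IsSquare (algebraMap F K a + b • θ) := by
  have hε := C.eps_ne_zero
  obtain ⟨b, c, hbc⟩ := h44_sq_add_sq C.h2 (a * a * ε⁻¹)
  have hkey : a * a - ε * (b * b) = ε * (c * c) := by
    have : ε * (b * b + c * c) = a * a := by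
      rw [hbc]; field_simp
    linear_combination -this
  have hc : c ≠ 0 := by
    intro hc0
    rw [hc0, mul_zero, mul_zero] at hkey
    have hb0 : b ≠ 0 := by
      intro hb0
      rw [hb0, mul_zero, mul_zero, sub_zero] at hkey
      exact ha (mul_self_eq_zero.mp hkey)
    apply C.eps_not_sq (a * b⁻¹)
    field_simp
    linear_combination hkey
  have hb : b ≠ 0 := by
    intro hb0
    rw [hb0, mul_zero, mul_zero, sub_zero] at hkey
    apply C.eps_not_sq (a * c⁻¹)
    field_simp
    linear_combination hkey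
  have hns : ∀ b' : F, b' * b' = b * b → ¬ IsSquare (algebraMap F K a + b' • θ) := by
    intro b' hb' hsq
    obtain ⟨n, hn⟩ := h44_norm_sq C a b' hsq
    rw [hb', hkey] at hn
    apply C.eps_not_sq (n * c⁻¹)
    field_simp
    linear_combination -hn
  by_cases hbb : b = b₀
  · refine ⟨-b, ?_, hns (-b) (by ring)⟩
    intro h
    rw [← hbb] at h
    have h3 : (2 : F) * b = 0 := by linear_combination -h
    rcases mul_eq_zero.mp h3 with h4 | h4
    · exact C.h2 h4
    · exact hb h4
  · exact ⟨b, hbb, hns b rfl⟩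

end Cfsg.Agent.Lib.Helper44_OX2_E_ARITH
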