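import Mathlib
import Cfsg.Agent.Lib.Helper97_OX2Defs
import Cfsg.Agent.Lib.Helper94_OrthVec

set_option autoImplicit false
set_option linter.unusedSectionVars false
set_option linter.unusedVariables false

/-!
helper51 — package E_PERP of helper97's OEXT2 market: double orthogonal complement and existence of
a nonsingular vector orthogonal to a small totally singular subspace, for a nondegenerate
quadratic space `(Q, B)` in helper94's style.
-/

namespace Cfsg.Agent.Lib.Helper51_OX2_E_PERP

open Module Cfsg.Agent.Lib.Helper94_OrthSmall Cfsg.Agent.Lib.Helper94_OrthSiegel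
  Cfsg.Agent.Lib.Helper98_ExtDefs Cfsg.Agent.Lib.Helper97_OX2Defs
open scoped commutatorElement

section GEO

variable {K V : Type*} [Field K] [AddCommGroup V] [Module K V]
  (Q : V → K) (B : LinearMap.BilinForm K V)
  (hQs : ∀ (c : K) (v : V), Q (c • v) = c * c * Q v)
  (hQp : ∀ u v : V, Q (u + v) = Q u + Q v + B u v)

include hQs hQp

theorem isRefl_B : B.IsRefl := by
  intro x y h
  rw [B_symm Q B hQp y x]
  exact h

/-- E_PERP (a): double orthogonal complement -/
theorem perp_perp [FiniteDimensional K V] (hN : B.Nondegenerate) (t : Submodule K V) (v : V)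
    (h : ∀ w : V, (∀ x ∈ t, B x w = 0) → B w v = 0) : v ∈ t := by
  have hrefl : B.IsRefl := isRefl_B Q B hQs hQp
  have hoo : B.orthogonal (B.orthogonal t) = t :=
    LinearMap.BilinForm.orthogonal_orthogonal hN hrefl t
  rw [← hoo]
  rw [LinearMap.BilinForm.mem_orthogonal_iff]
  intro w hw
  rw [LinearMap.BilinForm.mem_orthogonal_iff] at hw
  exact h w (fun x hx => hw x hx)

/-- E_PERP (b): the orthogonal complement of a small totally singular subspace contains a
nonsingular vector -/
theorem exists_nonsing_perp [FiniteDimensional K V] (hN : B.Nondegenerate) (t : Submodule K V)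
    (hts : ∀ x ∈ t, Q x = 0) (hdim : 2 * finrank K t < finrank K V) :
    ∃ u₁ : V, (∀ x ∈ t, B x u₁ = 0) ∧ Q u₁ ≠ 0 := by
  have hrefl : B.IsRefl := isRefl_B Q B hQs hQp
  by_contra hcon
  push Not at hcon
  -- `Q` vanishes on `W = t^⊥`
  have hW : ∀ u ∈ B.orthogonal t, Q u = 0 := by
    intro u hu
    rw [LinearMap.BilinForm.mem_orthogonal_iff] at hu
    exact hcon u (fun x hx => hu x hx)
  -- so `B` vanishes on `W`, i.e. `W ≤ W^⊥ = t`
  have hle : B.orthogonal t ≤ t := by
    intro u hu
    refine perp_perp Q B hQs hQp hN t u (fun w hw => ?_)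
    have hw' : w ∈ B.orthogonal t := by
      rw [LinearMap.BilinForm.mem_orthogonal_iff]
      exact fun x hx => hw x hx
    have h1 := hQp w u
    rw [hW _ (Submodule.add_mem _ hw' hu), hW w hw', hW u hu, zero_add, zero_add] at h1
    exact h1.symm
  have hfin := LinearMap.BilinForm.finrank_orthogonal hN t
  have hle' : finrank K (B.orthogonal t) ≤ finrank K t := Submodule.finrank_mono hle
  omega

end GEO

end Cfsg.Agent.Lib.Helper51_OX2_E_PERP
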