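import Mathlib
import Cfsg.Agent.Lib.Helper97_OX2Defs
import Cfsg.Agent.Lib.Helper94_OrthVec
import Cfsg.Agent.Lib.Helper94_OrthNondeg

set_option autoImplicit false
set_option linter.unusedSectionVars false
set_option linter.unusedVariables false

/-!
# OEXT2 package S_SCAL (helper97's market `oext_packages`): the conjugate scalar action is again scalar.
Self-contained: the needed forms of S_PLANE, G_LINES, G_PERP2, G_SPAN are proved inline (`h52_*`).
-/

namespace Cfsg.Agent.Lib.Helper52_OX2_S_SCAL

open Module Cfsg.Agent.Lib.Helper94_OrthSmall Cfsg.Agent.Lib.Helper94_OrthSiegel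
  Cfsg.Agent.Lib.Helper98_ExtDefs Cfsg.Agent.Lib.Helper97_OX2Defs
open scoped commutatorElement

variable {F K V : Type*} [Field F] [Field K] [Algebra F K] [AddCommGroup V] [Module F V]
  [Module K V] [IsScalarTower F K V]
variable {θ : K} {ε : F} {τ : K →ₗ[F] F} {QK : V → K} {BK : LinearMap.BilinForm K V}

/-- an `F`-linear map stabilising every `K`-point of a `K`-plane is a `K`-scalar on it -/
theorem h52_plane_scalar (A : V →ₗ[F] V) (u w : V)
    (hind : ∀ a b : K, a • u + b • w = 0 → a = 0 ∧ b = 0)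
    (hA : ∀ a b : K, ∃ c : K, A (a • u + b • w) = c • (a • u + b • w)) :
    ∃ c : K, ∀ a b : K, A (a • u + b • w) = c • (a • u + b • w) := by
  have hinj : ∀ a b a' b' : K, a • u + b • w = a' • u + b' • w → a = a' ∧ b = b' := by
    intro a b a' b' h
    have h0 : (a - a') • u + (b - b') • w = 0 := by
      rw [sub_smul, sub_smul]
      have : a • u - a' • u + (b • w - b' • w) = (a • u + b • w) - (a' • u + b' • w) := by abel
      rw [this, h, sub_self]
    obtain ⟨h1, h2⟩ := hind _ _ h0
    exact ⟨sub_eq_zero.mp h1, sub_eq_zero.mp h2⟩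
  choose cu hcu using fun a : K => hA a 0
  choose cw hcw using fun b : K => hA 0 b
  have hcu' : ∀ a, A (a • u) = (cu a * a) • u := by
    intro a
    have := hcu a
    rwa [zero_smul, add_zero, smul_smul] at this
  have hcw' : ∀ b, A (b • w) = (cw b * b) • w := by
    intro b
    have := hcw b
    rwa [zero_smul, zero_add, smul_smul] at this
  have hkey : ∀ a b : K, a ≠ 0 → b ≠ 0 → cu a = cw b := by
    intro a b ha hb
    obtain ⟨c', hc'⟩ := hA a b
    rw [map_add, hcu', hcw', smul_add, smul_smul, smul_smul] at hc'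
    obtain ⟨h1, h2⟩ := hinj _ _ _ _ hc'
    rw [mul_right_cancel₀ ha h1, mul_right_cancel₀ hb h2]
  refine ⟨cu 1, fun a b => ?_⟩
  rw [map_add, hcu', hcw', smul_add, smul_smul, smul_smul]
  congr 1
  · by_cases ha : a = 0
    · rw [ha, mul_zero, mul_zero]
    · rw [hkey a 1 ha one_ne_zero, ← hkey 1 1 one_ne_zero one_ne_zero]
  · by_cases hb : b = 0
    · rw [hb, mul_zero, mul_zero]
    · rw [← hkey 1 b one_ne_zero hb]

/-- a hyperbolic partner of a nonzero singular vector -/
theorem h52_partner (C : Ctx θ ε τ QK BK) {p : V} (hp0 : p ≠ 0) (hp : QK p = 0) :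
    ∃ p' : V, QK p' = 0 ∧ BK p p' = 1 := by
  have hex : ∃ x, BK p x ≠ 0 := by
    by_contra hcon
    push Not at hcon
    exact hp0 (C.hN.1 p hcon)
  obtain ⟨x, hx⟩ := hex
  have hxp : BK x p ≠ 0 := by rw [C.BK_symm]; exact hx
  have hpp : BK p p = 0 := by rw [B_self QK BK C.hQs C.hQp, hp, mul_zero]
  obtain ⟨x', hx'⟩ : ∃ x' : V, x' = x + (-(QK x / BK x p)) • p := ⟨_, rfl⟩
  have hQx' : QK x' = 0 := by
    rw [hx', Q_add_smul QK BK C.hQs C.hQp, hp]
    field_simp
    ring
  have hpx' : BK p x' = BK x p := by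
    rw [hx', map_add, map_smul, hpp, smul_zero, add_zero, C.BK_symm]
  refine ⟨(BK x p)⁻¹ • x', by rw [C.hQs, hQx', mul_zero], ?_⟩
  rw [map_smul, hpx', smul_eq_mul, inv_mul_cancel₀ hxp]

/-- every vector is a sum of three singular vectors -/
theorem h52_sum_sing (C : Ctx θ ε τ QK BK) {u u' : V} (hu : QK u = 0) (hu' : QK u' = 0)
    (huu' : BK u u' = 1) (v : V) :
    ∃ s1 s2 s3 : V, QK s1 = 0 ∧ QK s2 = 0 ∧ QK s3 = 0 ∧ v = s1 + s2 + s3 := by
  have hQs := C.hQs
  have hQp := C.hQp
  have hu'u : BK u' u = 1 := by rw [C.BK_symm, huu']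
  have huu : BK u u = 0 := by rw [B_self QK BK hQs hQp, hu, mul_zero]
  have hu'u'0 : BK u' u' = 0 := by rw [B_self QK BK hQs hQp, hu', mul_zero]
  obtain ⟨v1, hv1⟩ : ∃ v1 : V, v1 = v - BK v u' • u - BK v u • u' := ⟨_, rfl⟩
  have hv1u : BK v1 u = 0 := by
    rw [hv1, LinearMap.BilinForm.sub_left, LinearMap.BilinForm.sub_left,
      LinearMap.BilinForm.smul_left, LinearMap.BilinForm.smul_left, huu, hu'u]
    ring
  have hv1u' : BK v1 u' = 0 := by
    rw [hv1, LinearMap.BilinForm.sub_left, LinearMap.BilinForm.sub_left,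
      LinearMap.BilinForm.smul_left, LinearMap.BilinForm.smul_left, huu', hu'u'0]
    ring
  have huv1 : BK u v1 = 0 := by rw [C.BK_symm, hv1u]
  have hs : QK (u + v1 + (-(QK v1)) • u') = 0 := by
    rw [Q_add_smul QK BK hQs hQp, hQp, hu, hu', huv1, map_add, LinearMap.add_apply, huu', hv1u']
    ring
  refine ⟨(BK v u' - 1) • u, (BK v u + QK v1) • u', u + v1 + (-(QK v1)) • u',
    by rw [hQs, hu, mul_zero], by rw [hQs, hu', mul_zero], hs, ?_⟩
  rw [hv1]
  module

/-- a totally singular line: all its vectors are singular -/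
theorem h52_line_sing (C : Ctx θ ε τ QK BK) {u w : V} (hu : QK u = 0) (hw : QK w = 0)
    (huw : BK u w = 0) (a b : K) : QK (a • u + b • w) = 0 := by
  rw [C.hQp, C.hQs, C.hQs, hu, hw, map_smul, map_smul, LinearMap.smul_apply, huw]
  simp

/-- the scalar is constant along a totally singular line -/
theorem h52_step (C : Ctx θ ε τ QK BK) (A : V →ₗ[F] V)
    (hAp : ∀ p : V, QK p = 0 → ∃ c : K, A p = c • p) {q y : V} (hq : QK q = 0) (hy : QK y = 0)
    (hqy : BK q y = 0) (hind : ∀ a b : K, a • q + b • y = 0 → a = 0 ∧ b = 0) (hq0 : q ≠ 0)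
    {c : K} (hc : A q = c • q) : ∀ a b : K, A (a • q + b • y) = c • (a • q + b • y) := by
  obtain ⟨c', hc'⟩ := h52_plane_scalar A q y hind
    (fun a b => hAp _ (h52_line_sing C hq hy hqy a b))
  have h1 := hc' 1 0
  rw [one_smul, zero_smul, add_zero, hc] at h1
  have h2 : (c - c') • q = 0 := by rw [sub_smul, h1, sub_self]
  rcases smul_eq_zero.mp h2 with h3 | h3
  · rw [sub_eq_zero.mp h3]
    exact hc'
  · exact absurd h3 hq0

/-- S_SCAL: the conjugate scalar action is again scalar -/
theorem scalar_of_points [Finite F] [Finite K] [Module.Finite K V] (C : Ctx θ ε τ QK BK)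
    (g : V ≃ₗ[F] V) (h : ∀ p : V, QK p = 0 → ∀ k : K, ∃ c : K, k • g p = g (c • p)) :
    ∀ k : K, ∃ c : K, ∀ v : V, k • g v = g (c • v) := by
  intro k
  have hQs := C.hQs
  have hQp := C.hQp
  -- the conjugate of the scalar `k`
  obtain ⟨A, hA⟩ : ∃ A : V →ₗ[F] V, ∀ v, A v = g.symm (k • g v) := by
    refine ⟨{ toFun := fun v => g.symm (k • g v), map_add' := ?_, map_smul' := ?_ }, fun v => rfl⟩
    · intro x y
      rw [map_add, smul_add, map_add]
    · intro c x
      show g.symm (k • g (c • x)) = c • g.symm (k • g x)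
      rw [LinearEquiv.map_smul g c x, smul_comm k c (g x), LinearEquiv.map_smul g.symm c]
  have hAp : ∀ p : V, QK p = 0 → ∃ c : K, A p = c • p := by
    intro p hp
    obtain ⟨c, hc⟩ := h p hp k
    exact ⟨c, by rw [hA, hc, g.symm_apply_apply]⟩
  suffices hsc : ∃ c : K, ∀ v : V, A v = c • v by
    obtain ⟨c, hc⟩ := hsc
    refine ⟨c, fun v => ?_⟩
    rw [← hc v, hA, g.apply_symm_apply]
  -- a hyperbolic pair
  have h5 : 5 ≤ finrank K (⊤ : Submodule K V) := by rw [finrank_top]; exact C.hm
  obtain ⟨p0, -, hp00, hp0, -, -⟩ :=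
    Cfsg.Agent.Lib.Helper94_OrthNondeg.exists_sing_orth2 QK BK hQs hQp ⊤ h5 0 0
  obtain ⟨p0', hp0', hpp'⟩ := h52_partner C hp00 hp0
  obtain ⟨c0, hc0⟩ := hAp p0 hp0
  -- the scalar on every singular vector
  have key : ∀ p : V, QK p = 0 → A p = c0 • p := by
    intro p hp
    by_cases hpp0 : BK p0 p = 0
    · by_cases hind : ∀ a b : K, a • p0 + b • p = 0 → a = 0 ∧ b = 0
      · have := h52_step C A hAp hp0 hp hpp0 hind hp00 hc0 0 1
        rwa [zero_smul, zero_add, one_smul] at this
      · push Not at hind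
        obtain ⟨a, b, hab, hne⟩ := hind
        -- `p` is a multiple of `p0`
        have hb : b ≠ 0 := by
          intro hb
          rw [hb, zero_smul, add_zero] at hab
          rcases smul_eq_zero.mp hab with h1 | h1
          · exact hne h1 hb
          · exact hp00 h1
        have hpl : p = (-(a / b)) • p0 := by
          have h1 : b • p = -(a • p0) := eq_neg_of_add_eq_zero_right hab
          have h2 : p = b⁻¹ • (b • p) := by rw [smul_smul, inv_mul_cancel₀ hb, one_smul]
          rw [h2, h1, smul_neg, smul_smul, neg_smul]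
          congr 2
          field_simp
        -- a singular vector orthogonal to `p0` and `p0'`
        obtain ⟨y, -, hy0, hy, hyp0, hyp0'⟩ :=
          Cfsg.Agent.Lib.Helper94_OrthNondeg.exists_sing_orth2 QK BK hQs hQp ⊤ h5 p0 p0'
        have hindy : ∀ a b : K, a • p0 + b • y = 0 → a = 0 ∧ b = 0 := by
          intro a b hab'
          have h1 := congrArg (fun x => BK x p0') hab'
          simp only [LinearMap.BilinForm.add_left, LinearMap.BilinForm.smul_left, hpp', hyp0',
            mul_one, mul_zero, add_zero, map_zero, LinearMap.zero_apply] at h1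
          rw [h1, zero_smul, zero_add] at hab'
          rcases smul_eq_zero.mp hab' with h2 | h2
          · exact ⟨h1, h2⟩
          · exact absurd h2 hy0
        have := h52_step C A hAp hp0 hy (by rw [C.BK_symm]; exact hyp0) hindy hp00 hc0
          (-(a / b)) 0
        rwa [zero_smul, add_zero, ← hpl] at this
    · -- a common perpendicular
      obtain ⟨y, -, hy0, hy, hyp0, hyp⟩ :=
        Cfsg.Agent.Lib.Helper94_OrthNondeg.exists_sing_orth2 QK BK hQs hQp ⊤ h5 p0 p
      have hp0y : BK p0 y = 0 := by rw [C.BK_symm]; exact hyp0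
      have hind1 : ∀ a b : K, a • p0 + b • y = 0 → a = 0 ∧ b = 0 := by
        intro a b hab
        have h1 := congrArg (fun x => BK x p) hab
        simp only [LinearMap.BilinForm.add_left, LinearMap.BilinForm.smul_left, hyp,
          mul_zero, add_zero, map_zero, LinearMap.zero_apply] at h1
        have ha : a = 0 := by
          rcases mul_eq_zero.mp h1 with h2 | h2
          · exact h2
          · exact absurd h2 hpp0
        rw [ha, zero_smul, zero_add] at hab
        rcases smul_eq_zero.mp hab with h2 | h2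
        · exact ⟨ha, h2⟩
        · exact absurd h2 hy0
      have hind2 : ∀ a b : K, a • y + b • p = 0 → a = 0 ∧ b = 0 := by
        intro a b hab
        have h1 := congrArg (fun x => BK p0 x) hab
        simp only [map_add, map_smul, hp0y, smul_eq_mul, mul_zero, zero_add, map_zero] at h1
        have hb : b = 0 := by
          rcases mul_eq_zero.mp h1 with h2 | h2
          · exact h2
          · exact absurd h2 hpp0
        rw [hb, zero_smul, add_zero] at hab
        rcases smul_eq_zero.mp hab with h2 | h2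
        · exact ⟨h2, hb⟩
        · exact absurd h2 hy0
      have hAy : A y = c0 • y := by
        have := h52_step C A hAp hp0 hy hp0y hind1 hp00 hc0 0 1
        rwa [zero_smul, zero_add, one_smul] at this
      have := h52_step C A hAp hy hp hyp hind2 hy0 hAy 0 1
      rwa [zero_smul, zero_add, one_smul] at this
  refine ⟨c0, fun v => ?_⟩
  obtain ⟨s1, s2, s3, h1, h2, h3, rfl⟩ := h52_sum_sing C hp0 hp0' hpp' v
  rw [map_add, map_add, key s1 h1, key s2 h2, key s3 h3, smul_add, smul_add]

end Cfsg.Agent.Lib.Helper52_OX2_S_SCAL
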