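import Mathlib
import Cfsg.Agent.Lib.Helper97_OX2Defs
import Cfsg.Agent.Lib.Helper94_OrthVec
import Cfsg.Agent.Lib.Helper94_OrthNondeg

set_option autoImplicit false
set_option linter.unusedSectionVars false
set_option linter.unusedVariables false

/-!
# OEXT2 (helper97), package G_PERP2: a nonzero singular vector orthogonal to two given vectors
(dimension at least five, finite field).  (helper53)
-/

namespace Cfsg.Agent.Lib.Helper53_OX2_GPERP2

open Module Cfsg.Agent.Lib.Helper94_OrthSmall Cfsg.Agent.Lib.Helper94_OrthSiegel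
  Cfsg.Agent.Lib.Helper98_ExtDefs Cfsg.Agent.Lib.Helper97_OX2Defs
open scoped commutatorElement

section GEO

variable {K V : Type*} [Field K] [AddCommGroup V] [Module K V]
  (Q : V → K) (B : LinearMap.BilinForm K V)
  (hQs : ∀ (c : K) (v : V), Q (c • v) = c * c * Q v)
  (hQp : ∀ u v : V, Q (u + v) = Q u + Q v + B u v)

include hQs hQp

/-- G_PERP2: a nonzero singular vector orthogonal to two given vectors -/
theorem exists_sing_perp2 [Finite K] [FiniteDimensional K V] (hm : 5 ≤ finrank K V) (p p' : V) :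
    ∃ y : V, y ≠ 0 ∧ Q y = 0 ∧ B p y = 0 ∧ B p' y = 0 := by
  have h1 := Cfsg.Agent.Lib.Helper94_OrthNondeg.finrank_le_inf_ker_add_one
    (⊤ : Submodule K V) (B p)
  have h2 := Cfsg.Agent.Lib.Helper94_OrthNondeg.finrank_le_inf_ker_add_one
    ((⊤ : Submodule K V) ⊓ LinearMap.ker (B p)) (B p')
  rw [finrank_top] at h1
  obtain ⟨y, hy, hy0, hQy⟩ := Cfsg.Agent.Lib.Helper94_OrthSiegel2.exists_singular_in Q B hQs hQp
    ((⊤ : Submodule K V) ⊓ LinearMap.ker (B p) ⊓ LinearMap.ker (B p')) (by omega)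
  exact ⟨y, hy0, hQy, LinearMap.mem_ker.mp hy.1.2, LinearMap.mem_ker.mp hy.2⟩

end GEO

end Cfsg.Agent.Lib.Helper53_OX2_GPERP2
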