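import Mathlib
import Cfsg.Agent.Lib.Helper97_OX2Defs
import Cfsg.Agent.Lib.Helper94_OrthVec

set_option autoImplicit false
set_option linter.unusedSectionVars false
set_option linter.unusedVariables false

/-!
# OEXT2 package E_A (helper54), auxiliary form: the universality of binary forms (E_UNIV) and the
nonsquare lemma (E_ARITH) are hypotheses
-/

namespace Cfsg.Agent.Lib.Helper54_OX2_E_Aaux

open Module Cfsg.Agent.Lib.Helper94_OrthSmall Cfsg.Agent.Lib.Helper94_OrthSiegel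
  Cfsg.Agent.Lib.Helper98_ExtDefs Cfsg.Agent.Lib.Helper97_OX2Defs

variable {F K V : Type*} [Field F] [Field K] [Algebra F K] [AddCommGroup V] [Module F V]
  [Module K V] [IsScalarTower F K V]
variable {θ : K} {ε : F} {τ : K →ₗ[F] F} {QK : V → K} {BK : LinearMap.BilinForm K V}

/-- the second coordinate functional `k ↦ ε⁻¹ τ (θ k)` -/
def tau2 (θ : K) (ε : F) (τ : K →ₗ[F] F) : K →ₗ[F] F :=
  ε⁻¹ • (τ ∘ₗ LinearMap.mulLeft F θ)

theorem tau2_apply (θ : K) (ε : F) (τ : K →ₗ[F] F) (k : K) :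
    tau2 θ ε τ k = ε⁻¹ * τ (θ * k) := rfl

theorem recon2 (C : Ctx θ ε τ QK BK) (k : K) :
    k = algebraMap F K (τ k) + (tau2 θ ε τ k) • θ := C.recon k

theorem eq_smul_theta (C : Ctx θ ε τ QK BK) {k : K} (h : τ k = 0) : k = (tau2 θ ε τ k) • θ := by
  have := recon2 C k
  rwa [h, map_zero, zero_add] at this

/-- scalar rule of `trQ τ' QK` for any functional `τ'` -/
theorem trQ_smul' (C : Ctx θ ε τ QK BK) (τ' : K →ₗ[F] F) (c : F) (v : V) :
    trQ τ' QK (c • v) = c * c * trQ τ' QK v := by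
  rw [trQ_apply, ← algebraMap_smul K c v, C.hQs, ← map_mul, ← Algebra.smul_def, map_smul,
    smul_eq_mul, trQ_apply]

theorem trQ_add' (C : Ctx θ ε τ QK BK) (τ' : K →ₗ[F] F) (u v : V) :
    trQ τ' QK (u + v) = trQ τ' QK u + trQ τ' QK v + trB τ' BK u v := by
  simp only [trQ_apply, trB_apply, C.hQp, map_add]

/-- the core computation over `F` -/
theorem core (h2 : (2 : F) ≠ 0) (q : V → F) (β : LinearMap.BilinForm F V)
    (hQs : ∀ (c : F) (v : V), q (c • v) = c * c * q v)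
    (hQp : ∀ u v : V, q (u + v) = q u + q v + β u v)
    (huniv : ∀ x y : V, β x x * β y y - β x y * β x y ≠ 0 → ∀ c : F,
      ∃ s t : F, q (s • x + t • y) = c)
    (P : F → Prop) (hP : ∀ b₀ : F, ∃ b : F, b ≠ b₀ ∧ P b)
    {x y : V} (hd : β x x * β y y - β x y * β x y ≠ 0) (l : V →ₗ[F] F) (b₁ : F) :
    ∃ s t s₀ t₀ : F, P (b₁ + q ((s • x + t • y) - (s₀ • x + t₀ • y)) +
        l ((s • x + t • y) - (s₀ • x + t₀ • y))) ∧
      (l x + β x (s • x + t • y) - β x (s₀ • x + t₀ • y) ≠ 0 ∨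
        l y + β y (s • x + t • y) - β y (s₀ • x + t₀ • y) ≠ 0) := by
  have hsymm : ∀ u v : V, β u v = β v u := fun u v => B_symm q β hQp u v
  have hself : ∀ z : V, β z z = 2 * q z := by
    intro z
    have h1 := hQp z z
    have h3 : z + z = (2 : F) • z := (two_smul F z).symm
    rw [h3, hQs] at h1
    linear_combination -h1
  obtain ⟨D, hD⟩ : ∃ D : F, D = β x x * β y y - β x y * β x y := ⟨_, rfl⟩
  have hD0 : D ≠ 0 := by rw [hD]; exact hd
  obtain ⟨s₀, hs₀⟩ : ∃ s₀ : F, s₀ = (l x * β y y - l y * β x y) / D := ⟨_, rfl⟩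
  obtain ⟨t₀, ht₀⟩ : ∃ t₀ : F, t₀ = (l y * β x x - l x * β x y) / D := ⟨_, rfl⟩
  have hx0 : β x (s₀ • x + t₀ • y) = l x := by
    rw [map_add, map_smul, map_smul, smul_eq_mul, smul_eq_mul, hs₀, ht₀]
    field_simp
    rw [hD]; ring
  have hy0 : β y (s₀ • x + t₀ • y) = l y := by
    rw [map_add, map_smul, map_smul, smul_eq_mul, smul_eq_mul, hsymm y x, hs₀, ht₀]
    field_simp
    rw [hD]; ring
  obtain ⟨b, hb, hPb⟩ := hP (b₁ - q (s₀ • x + t₀ • y))
  obtain ⟨s, t, hst⟩ := huniv x y hd (b - (b₁ - q (s₀ • x + t₀ • y)))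
  refine ⟨s, t, s₀, t₀, ?_, ?_⟩
  · -- the value is `b`
    have hl : l (s • x + t • y) = β (s • x + t • y) (s₀ • x + t₀ • y) := by
      rw [map_add, map_smul, map_smul, LinearMap.map_add₂, LinearMap.map_smul₂,
        LinearMap.map_smul₂, hx0, hy0]
    have hl0 : l (s₀ • x + t₀ • y) = 2 * q (s₀ • x + t₀ • y) := by
      rw [← hself, map_add, map_smul, map_smul, LinearMap.map_add₂, LinearMap.map_smul₂,
        LinearMap.map_smul₂, hx0, hy0]
    have hq : q ((s • x + t • y) - (s₀ • x + t₀ • y)) = q (s • x + t • y) + q (s₀ • x + t₀ • y)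
        - β (s • x + t • y) (s₀ • x + t₀ • y) := by
      have h1 : (s • x + t • y) - (s₀ • x + t₀ • y) = (s • x + t • y) + (-1 : F) • (s₀ • x + t₀ • y) := by
        rw [neg_one_smul, sub_eq_add_neg]
      rw [h1, hQp, hQs, map_smul, smul_eq_mul]
      ring
    have hval : b₁ + q ((s • x + t • y) - (s₀ • x + t₀ • y)) +
        l ((s • x + t • y) - (s₀ • x + t₀ • y)) = b := by
      rw [hq, map_sub, hl, hl0, hst]
      ring
    rw [hval]
    exact hPb
  · by_contra hcon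
    push Not at hcon
    obtain ⟨h1, h3⟩ := hcon
    rw [hx0] at h1
    rw [hy0] at h3
    have hxσ : β x (s • x + t • y) = 0 := by linear_combination h1
    have hyσ : β y (s • x + t • y) = 0 := by linear_combination h3
    have hσσ : β (s • x + t • y) (s • x + t • y) = 0 := by
      rw [LinearMap.map_add₂, LinearMap.map_smul₂, LinearMap.map_smul₂, hxσ, hyσ, smul_zero,
        smul_zero, add_zero]
    rw [hself, hst] at hσσ
    rcases mul_eq_zero.mp hσσ with h4 | h4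
    · exact h2 h4
    · exact hb (by linear_combination h4)


/-- E_A with E_UNIV and E_ARITH as hypotheses -/
theorem caseA_aux (C : Ctx θ ε τ QK BK)
    (huniv : ∀ x y : V, trB (tau2 θ ε τ) BK x x * trB (tau2 θ ε τ) BK y y
        - trB (tau2 θ ε τ) BK x y * trB (tau2 θ ε τ) BK x y ≠ 0 → ∀ c : F,
      ∃ s t : F, trQ (tau2 θ ε τ) QK (s • x + t • y) = c)
    (harith : ∀ a b₀ : F, a ≠ 0 → ∃ b : F, b ≠ b₀ ∧ ¬ IsSquare (algebraMap F K a + b • θ))
    (t : Submodule F V)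
    (hts : ∀ x ∈ t, trQ τ QK x = 0) {x y : V} (hx : x ∈ t) (hy : y ∈ t)
    (hd : BK x x * BK y y - BK x y * BK x y ≠ 0) {u₁ : V}
    (hu₁ : ∀ z ∈ t, trB τ BK z u₁ = 0) (hQu₁ : trQ τ QK u₁ ≠ 0) :
    ∃ u₀ : V, GoodU τ QK BK t u₀ := by
  -- `t` is totally isotropic for `trB τ BK`
  have hiso : ∀ z ∈ t, ∀ z' ∈ t, τ (BK z z') = 0 := by
    intro z hz z' hz'
    have h1 := C.trQ_add z z'
    rw [hts z hz, hts z' hz', hts (z + z') (t.add_mem hz hz'), trB_apply] at h1
    linear_combination -h1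
  have hBt : ∀ z ∈ t, ∀ z' ∈ t, BK z z' = (trB (tau2 θ ε τ) BK z z') • θ := by
    intro z hz z' hz'
    exact eq_smul_theta C (hiso z hz z' hz')
  -- the discriminant
  have hd' : trB (tau2 θ ε τ) BK x x * trB (tau2 θ ε τ) BK y y
        - trB (tau2 θ ε τ) BK x y * trB (tau2 θ ε τ) BK x y ≠ 0 := by
    intro h0
    apply hd
    rw [hBt x hx x hx, hBt y hy y hy, hBt x hx y hy]
    have : ∀ a b : F, a • θ * b • θ = (a * b) • (θ * θ) := by
      intro a b
      rw [smul_mul_smul_comm]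
    rw [this, this, ← sub_smul, h0, zero_smul]
  obtain ⟨s, r, s₀, r₀, hP, hne⟩ := core C.h2 (trQ (tau2 θ ε τ) QK) (trB (tau2 θ ε τ) BK)
    (trQ_smul' C _) (trQ_add' C _) huniv
    (fun b => ¬ IsSquare (algebraMap F K (τ (QK u₁)) + b • θ))
    (fun b₀ => harith (τ (QK u₁)) b₀ hQu₁) hd' (trB (tau2 θ ε τ) BK u₁) (tau2 θ ε τ (QK u₁))
  obtain ⟨w, hw⟩ : ∃ w : V, w = (s • x + r • y) - (s₀ • x + r₀ • y) := ⟨_, rfl⟩
  have hwt : w ∈ t := by
    rw [hw]
    exact t.sub_mem (t.add_mem (t.smul_mem _ hx) (t.smul_mem _ hy))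
      (t.add_mem (t.smul_mem _ hx) (t.smul_mem _ hy))
  rw [← hw] at hP
  have hBsymm : ∀ u v : V, BK u v = BK v u := C.BK_symm
  have hu₁' : ∀ z ∈ t, τ (BK u₁ z) = 0 := by
    intro z hz
    rw [hBsymm]
    exact hu₁ z hz
  refine ⟨u₁ + w, ?_, ?_, ?_, ?_⟩
  · intro z hz
    rw [map_add, hu₁ z hz, trB_apply, hiso z hz w hwt, add_zero]
  · rw [C.hQp, map_add, map_add, hu₁' w hwt, add_zero]
    have := hts w hwt
    rw [trQ_apply] at this
    rw [this, add_zero]
    exact hQu₁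
  · have h1 : τ (QK (u₁ + w)) = τ (QK u₁) := by
      rw [C.hQp, map_add, map_add, hu₁' w hwt, add_zero]
      have := hts w hwt
      rw [trQ_apply] at this
      rw [this, add_zero]
    have h3 : tau2 θ ε τ (QK (u₁ + w)) = tau2 θ ε τ (QK u₁) + trQ (tau2 θ ε τ) QK w
        + trB (tau2 θ ε τ) BK u₁ w := by
      rw [C.hQp, map_add, map_add]
      rfl
    rw [recon2 C (QK (u₁ + w)), h1, h3]
    exact hP
  · rcases hne with hne | hne
    · refine ⟨x, hx, ?_⟩
      intro h0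
      apply hne
      have h1 : tau2 θ ε τ (BK x (u₁ + w)) = 0 := by rw [h0, map_zero]
      rw [hw, map_add, map_sub, map_add, map_sub] at h1
      rw [trB_apply, trB_apply, trB_apply, hBsymm u₁ x]
      linear_combination h1
    · refine ⟨y, hy, ?_⟩
      intro h0
      apply hne
      have h1 : tau2 θ ε τ (BK y (u₁ + w)) = 0 := by rw [h0, map_zero]
      rw [hw, map_add, map_sub, map_add, map_sub] at h1
      rw [trB_apply, trB_apply, trB_apply, hBsymm u₁ y]
      linear_combination h1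

end Cfsg.Agent.Lib.Helper54_OX2_E_Aaux
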