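import Mathlib
import Cfsg.Agent.Lib.Helper97_OX2Defs
import Cfsg.Agent.Lib.Helper94_OrthVec

set_option autoImplicit false
set_option linter.unusedSectionVars false
set_option linter.unusedVariables false

/-!
# OEXT2 market (helper97), package E_UNIV (helper78)

A binary quadratic form with nonzero discriminant over a finite field of odd characteristic is
universal.
-/

namespace Cfsg.Agent.Lib.Helper78_OX2_E_UNIV

open Module Cfsg.Agent.Lib.Helper94_OrthSmall Cfsg.Agent.Lib.Helper94_OrthSiegel
  Cfsg.Agent.Lib.Helper98_ExtDefs Cfsg.Agent.Lib.Helper97_OX2Defs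
open scoped commutatorElement

/-- the diagonal case: `a u² + d t² = c` is solvable over a finite field of odd order -/
theorem diag_universal {K : Type*} [Field K] [Finite K] (h2 : (2 : K) ≠ 0) (a d c : K)
    (ha : a ≠ 0) (hd : d ≠ 0) : ∃ u t : K, a * u ^ 2 + d * t ^ 2 = c := by
  classical
  have : Fintype K := Fintype.ofFinite K
  have hchar : ringChar K ≠ 2 := by
    intro h
    have : CharP K 2 := ringChar.of_eq h
    exact h2 (by exact_mod_cast CharP.cast_eq_zero K 2)
  have hodd : Fintype.card K % 2 = 1 := FiniteField.odd_card_of_char_ne_two hchar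
  have hf : (Polynomial.C a * Polynomial.X ^ 2 + Polynomial.C 0 * Polynomial.X +
      Polynomial.C (-c) : Polynomial K).degree = 2 := Polynomial.degree_quadratic ha
  have hg : (Polynomial.C d * Polynomial.X ^ 2 + Polynomial.C 0 * Polynomial.X +
      Polynomial.C 0 : Polynomial K).degree = 2 := Polynomial.degree_quadratic hd
  obtain ⟨u, t, hut⟩ := FiniteField.exists_root_sum_quadratic hf hg hodd
  refine ⟨u, t, ?_⟩
  simp only [Polynomial.eval_add, Polynomial.eval_mul, Polynomial.eval_C, Polynomial.eval_pow,
    Polynomial.eval_X] at hut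
  linear_combination hut

/-- a binary form `a s² + b s t + e t²` with `4 a e - b² ≠ 0` is universal -/
theorem form_universal {K : Type*} [Field K] [Finite K] (h2 : (2 : K) ≠ 0) (a b e c : K)
    (hdisc : 4 * a * e - b * b ≠ 0) : ∃ s t : K, a * s ^ 2 + b * s * t + e * t ^ 2 = c := by
  have h4 : (4 : K) ≠ 0 := by
    have : (4 : K) = 2 * 2 := by norm_num
    rw [this]
    exact mul_ne_zero h2 h2
  by_cases ha : a = 0
  · by_cases he : e = 0
    · -- `b ≠ 0`
      have hb : b ≠ 0 := by
        intro hb
        apply hdisc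
        rw [ha, he, hb]
        ring
      refine ⟨c / b, 1, ?_⟩
      rw [ha, he]
      field_simp
      ring
    · -- complete the square in `t`
      have hd : (4 * a * e - b * b) / (4 * e) ≠ 0 := div_ne_zero hdisc (mul_ne_zero h4 he)
      obtain ⟨u, s, hus⟩ := diag_universal h2 e ((4 * a * e - b * b) / (4 * e)) c he hd
      refine ⟨s, u - b * s / (2 * e), ?_⟩
      rw [← hus]
      field_simp
      ring
  · have hd : (4 * a * e - b * b) / (4 * a) ≠ 0 := div_ne_zero hdisc (mul_ne_zero h4 ha)
    obtain ⟨u, t, hut⟩ := diag_universal h2 a ((4 * a * e - b * b) / (4 * a)) c ha hd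
    refine ⟨u - b * t / (2 * a), t, ?_⟩
    rw [← hut]
    field_simp
    ring

section GEO

variable {K V : Type*} [Field K] [AddCommGroup V] [Module K V]
  (Q : V → K) (B : LinearMap.BilinForm K V)
  (hQs : ∀ (c : K) (v : V), Q (c • v) = c * c * Q v)
  (hQp : ∀ u v : V, Q (u + v) = Q u + Q v + B u v)

include hQs hQp

/-- E_UNIV: a binary quadratic form with nonzero discriminant over a finite field of odd
characteristic is universal -/
theorem binary_universal [Finite K] (h2 : (2 : K) ≠ 0) {x y : V}
    (hd : B x x * B y y - B x y * B x y ≠ 0) (c : K) : ∃ s t : K, Q (s • x + t • y) = c := by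
  have hdisc : 4 * Q x * Q y - B x y * B x y ≠ 0 := by
    rw [B_self Q B hQs hQp x, B_self Q B hQs hQp y] at hd
    intro h
    apply hd
    linear_combination h
  obtain ⟨s, t, hst⟩ := form_universal h2 (Q x) (B x y) (Q y) c hdisc
  refine ⟨s, t, ?_⟩
  have hB : B (s • x) (t • y) = s * t * B x y := by
    simp only [map_smul, LinearMap.smul_apply, smul_eq_mul]
    ring
  rw [hQp, hQs, hQs, hB, ← hst]
  ring

end GEO

end Cfsg.Agent.Lib.Helper78_OX2_E_UNIV
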