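import Mathlib
import Cfsg.Agent.Lib.Helper97_OX2Defs
import Cfsg.Agent.Lib.Helper94_OrthVec
import Cfsg.Agent.Lib.Helper54_OX2_E_Aaux
import Cfsg.Agent.Lib.Helper78_OX2_E_UNIV
import Cfsg.Agent.Lib.Helper44_OX2_E_ARITH

set_option autoImplicit false
set_option linter.unusedSectionVars false
set_option linter.unusedVariables false

/-!
# OEXT2 package E_A (helper54): rank at least two
-/

namespace Cfsg.Agent.Lib.Helper54_OX2_E_A

open Module Cfsg.Agent.Lib.Helper94_OrthSmall Cfsg.Agent.Lib.Helper94_OrthSiegel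
  Cfsg.Agent.Lib.Helper98_ExtDefs Cfsg.Agent.Lib.Helper97_OX2Defs

variable {F K V : Type*} [Field F] [Field K] [Algebra F K] [AddCommGroup V] [Module F V]
  [Module K V] [IsScalarTower F K V]
variable {θ : K} {ε : F} {τ : K →ₗ[F] F} {QK : V → K} {BK : LinearMap.BilinForm K V}

/-- E_A: rank at least two -/
theorem exists_u0_caseA [Finite F] (C : Ctx θ ε τ QK BK) (t : Submodule F V)
    (hts : ∀ x ∈ t, trQ τ QK x = 0) {x y : V} (hx : x ∈ t) (hy : y ∈ t)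
    (hd : BK x x * BK y y - BK x y * BK x y ≠ 0) {u₁ : V}
    (hu₁ : ∀ z ∈ t, trB τ BK z u₁ = 0) (hQu₁ : trQ τ QK u₁ ≠ 0) :
    ∃ u₀ : V, GoodU τ QK BK t u₀ :=
  Cfsg.Agent.Lib.Helper54_OX2_E_Aaux.caseA_aux C
    (fun x y hd c => Cfsg.Agent.Lib.Helper78_OX2_E_UNIV.binary_universal
      (trQ (Cfsg.Agent.Lib.Helper54_OX2_E_Aaux.tau2 θ ε τ) QK)
      (trB (Cfsg.Agent.Lib.Helper54_OX2_E_Aaux.tau2 θ ε τ) BK)
      (Cfsg.Agent.Lib.Helper54_OX2_E_Aaux.trQ_smul' C _)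
      (Cfsg.Agent.Lib.Helper54_OX2_E_Aaux.trQ_add' C _) C.h2 hd c)
    (fun a b₀ ha => Cfsg.Agent.Lib.Helper44_OX2_E_ARITH.exists_nonsq C a b₀ ha)
    t hts hx hy hd hu₁ hQu₁

end Cfsg.Agent.Lib.Helper54_OX2_E_A
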