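import Mathlib
import Cfsg.Agent.Lib.Helper97_OX2Defs
import Cfsg.Agent.Lib.Helper94_OrthVec

set_option autoImplicit false
set_option linter.unusedSectionVars false
set_option linter.unusedVariables false

/-!
# OEXT2 package E_MAIN (helper54), auxiliary form: the other Part E packages are hypotheses
-/

namespace Cfsg.Agent.Lib.Helper54_OX2_E_MAINaux

open Module Cfsg.Agent.Lib.Helper94_OrthSmall Cfsg.Agent.Lib.Helper94_OrthSiegel
  Cfsg.Agent.Lib.Helper98_ExtDefs Cfsg.Agent.Lib.Helper97_OX2Defs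

variable {F K V : Type*} [Field F] [Field K] [Algebra F K] [AddCommGroup V] [Module F V]
  [Module K V] [IsScalarTower F K V]
variable {θ : K} {ε : F} {τ : K →ₗ[F] F} {QK : V → K} {BK : LinearMap.BilinForm K V}

/-- E_MAIN, with the statements of E_PERP, E_A, E_RANK, E_B1, E_PAR (for the given `t`) as
hypotheses -/
theorem exists_u0_aux [Module.Finite F V] [Module.Finite K V]
    (C : Ctx θ ε τ QK BK) (t : Submodule F V)
    (hNP : 2 * finrank F t < finrank F V →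
      ∃ u₁ : V, (∀ x ∈ t, trB τ BK x u₁ = 0) ∧ trQ τ QK u₁ ≠ 0)
    (hPP : ∀ v : V, (∀ w : V, (∀ x ∈ t, trB τ BK x w = 0) → trB τ BK w v = 0) → v ∈ t)
    (hEA : ∀ {x y : V}, x ∈ t → y ∈ t → BK x x * BK y y - BK x y * BK x y ≠ 0 → ∀ {u₁ : V},
      (∀ z ∈ t, trB τ BK z u₁ = 0) → trQ τ QK u₁ ≠ 0 → ∃ u₀ : V, GoodU τ QK BK t u₀)
    (hRK1 : (∀ x ∈ t, ∀ y ∈ t, BK x x * BK y y - BK x y * BK x y = 0) →
      ∃ x₀ ∈ t, ∀ y ∈ t, ∃ s : F, ∀ z ∈ t, BK (y - s • x₀) z = 0)
    (hEB : ∀ {u₁ ρ : V}, (∀ z ∈ t, trB τ BK z u₁ = 0) → trQ τ QK u₁ ≠ 0 → ρ ∈ t →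
      (∀ z ∈ t, BK ρ z = 0) → BK u₁ ρ ≠ 0 → ∃ u₀ : V, GoodU τ QK BK t u₀)
    (hPAR : ∀ R : Submodule F V, R ≤ t → IsKinv K R → ∀ {x₀ : V},
      (∀ y ∈ t, ∃ s : F, y - s • x₀ ∈ R) → R = t)
    (ht4 : finrank F t = 4) (hts : ∀ x ∈ t, trQ τ QK x = 0) (hnK : ¬ IsKinv K t) :
    ∃ u₀ : V, GoodU τ QK BK t u₀ := by
  -- a nonsingular vector of `t^⊥`
  have hdim : 2 * finrank F t < finrank F V := by
    rw [ht4, C.finrank_FV]
    have := C.hm
    omega
  obtain ⟨u₁, hu₁, hQu₁⟩ := hNP hdim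
  by_cases hA : ∃ x ∈ t, ∃ y ∈ t, BK x x * BK y y - BK x y * BK x y ≠ 0
  · obtain ⟨x, hx, y, hy, hd⟩ := hA
    exact hEA hx hy hd hu₁ hQu₁
  · push Not at hA
    obtain ⟨x₀, hx₀, hrank⟩ := hRK1 hA
    by_cases hB : ∃ u : V, (∀ z ∈ t, trB τ BK z u = 0) ∧ trQ τ QK u ≠ 0 ∧
        ∃ ρ ∈ t, (∀ z ∈ t, BK ρ z = 0) ∧ BK u ρ ≠ 0
    · obtain ⟨u, hu, hQu, ρ, hρ, hρR, hne⟩ := hB
      exact hEB hu hQu hρ hρR hne
    · exfalso
      push Not at hB
      -- the radical
      let R : Submodule F V :=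
        { carrier := {ρ | ρ ∈ t ∧ ∀ z ∈ t, BK ρ z = 0}
          add_mem' := by
            rintro a b ⟨ha, ha'⟩ ⟨hb, hb'⟩
            refine ⟨t.add_mem ha hb, fun z hz => ?_⟩
            rw [LinearMap.map_add₂, ha' z hz, hb' z hz, add_zero]
          zero_mem' := ⟨t.zero_mem, fun z hz => by rw [LinearMap.map_zero₂]⟩
          smul_mem' := by
            rintro c a ⟨ha, ha'⟩
            refine ⟨t.smul_mem c ha, fun z hz => ?_⟩
            rw [← algebraMap_smul K c a, LinearMap.map_smul₂, ha' z hz, smul_zero] }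
      have hRmem : ∀ ρ : V, ρ ∈ R ↔ ρ ∈ t ∧ ∀ z ∈ t, BK ρ z = 0 := fun ρ => Iff.rfl
      have hRt : R ≤ t := fun ρ hρ => hρ.1
      -- every vector of `t^⊥` is `K`-orthogonal to `R`
      have hW : ∀ w : V, (∀ z ∈ t, trB τ BK z w = 0) → ∀ ρ ∈ R, BK w ρ = 0 := by
        intro w hw ρ hρ
        have hu₁ρ : BK u₁ ρ = 0 := hB u₁ hu₁ hQu₁ ρ hρ.1 hρ.2
        by_cases h0 : trQ τ QK w ≠ 0
        · exact hB w hw h0 ρ hρ.1 hρ.2
        push Not at h0
        by_cases h1 : trQ τ QK (w + u₁) ≠ 0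
        · have := hB (w + u₁) (fun z hz => by rw [map_add, hw z hz, hu₁ z hz, add_zero]) h1 ρ
            hρ.1 hρ.2
          rw [LinearMap.map_add₂, hu₁ρ, add_zero] at this
          exact this
        · by_cases h3 : trQ τ QK (w + (-1 : F) • u₁) ≠ 0
          · have := hB (w + (-1 : F) • u₁) (fun z hz => by
              rw [map_add, map_smul, hw z hz, hu₁ z hz, smul_zero, add_zero]) h3 ρ hρ.1 hρ.2
            rw [LinearMap.map_add₂, ← algebraMap_smul K (-1 : F) u₁, LinearMap.map_smul₂, hu₁ρ,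
              smul_zero, add_zero] at this
            exact this
          · exfalso
            push Not at h1 h3
            rw [C.trQ_add] at h1 h3
            rw [C.trQ_smul, map_smul, smul_eq_mul] at h3
            apply hQu₁
            have h2 := C.h2
            have : 2 * trQ τ QK u₁ = 0 := by linear_combination h1 + h3 - 2 * h0
            rcases mul_eq_zero.mp this with h4 | h4
            · exact absurd h4 h2
            · exact h4
      -- `R` is `θ`-invariant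
      have hθR : ∀ ρ ∈ R, θ • ρ ∈ R := by
        intro ρ hρ
        have hθt : θ • ρ ∈ t := by
          apply hPP (θ • ρ)
          intro w hw
          rw [trB_apply, map_smul, hW w hw ρ hρ, smul_zero, map_zero]
        refine ⟨hθt, fun z hz => ?_⟩
        rw [LinearMap.map_smul₂, hρ.2 z hz, smul_zero]
      have hRK : IsKinv K R := C.isKinv_of_theta hθR
      have hRt' : R = t := by
        apply hPAR R hRt hRK (x₀ := x₀)
        intro y hy
        obtain ⟨s, hs⟩ := hrank y hy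
        exact ⟨s, t.sub_mem hy (t.smul_mem s hx₀), hs⟩
      apply hnK
      rw [← hRt']
      exact hRK

end Cfsg.Agent.Lib.Helper54_OX2_E_MAINaux
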