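import Mathlib
import Cfsg.Agent.Lib.Helper97_OX2Defs
import Cfsg.Agent.Lib.Helper44_OX2_E_ARITH

set_option autoImplicit false
set_option linter.unusedSectionVars false
set_option linter.unusedVariables false

/-!
# OEXT2 package E_B1 (helper57): the vector `u₀` in the rank-one case

If `ρ` lies in the `BK`-radical of the totally singular `F`-subspace `t` and is not
`K`-orthogonal to a nonsingular vector `u₁` of `t^⊥`, a suitable `u₁ + s • ρ` is a good vector.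
-/

namespace Cfsg.Agent.Lib.Helper57_OX2_E_B1

open Module Cfsg.Agent.Lib.Helper94_OrthSmall Cfsg.Agent.Lib.Helper94_OrthSiegel
  Cfsg.Agent.Lib.Helper98_ExtDefs Cfsg.Agent.Lib.Helper97_OX2Defs

variable {F K V : Type*} [Field F] [Field K] [Algebra F K] [AddCommGroup V] [Module F V]
  [Module K V] [IsScalarTower F K V]
variable {θ : K} {ε : F} {τ : K →ₗ[F] F} {QK : V → K} {BK : LinearMap.BilinForm K V}

/-- E_B1: a radical vector not `K`-orthogonal to a nonsingular vector of `t^⊥` -/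
theorem exists_u0_caseB [Finite F] (C : Ctx θ ε τ QK BK) (t : Submodule F V)
    (hts : ∀ x ∈ t, trQ τ QK x = 0) {u₁ ρ : V}
    (hu₁ : ∀ z ∈ t, trB τ BK z u₁ = 0) (hQu₁ : trQ τ QK u₁ ≠ 0)
    (hρ : ρ ∈ t) (hρR : ∀ z ∈ t, BK ρ z = 0) (hne : BK u₁ ρ ≠ 0) :
    ∃ u₀ : V, GoodU τ QK BK t u₀ := by
  -- `QK ρ = 0`
  have hQρ : QK ρ = 0 := by
    have h1 : BK ρ ρ = 2 * QK ρ := B_self QK BK C.hQs C.hQp ρ
    rw [hρR ρ hρ] at h1
    rcases mul_eq_zero.mp h1.symm with h | h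
    · exact absurd h C.two_ne_zero_K
    · exact h
  -- `BK u₁ ρ = z • θ`, `z ≠ 0`
  have hτB : τ (BK u₁ ρ) = 0 := by
    have := hu₁ ρ hρ
    rwa [trB_apply, C.BK_symm] at this
  set z : F := ε⁻¹ * τ (θ * BK u₁ ρ) with hz
  have hBz : BK u₁ ρ = z • θ := by
    have := C.recon (BK u₁ ρ)
    rw [hτB, map_zero, zero_add] at this
    exact this
  have hz0 : z ≠ 0 := by
    intro h
    apply hne
    rw [hBz, h, zero_smul]
  -- `QK u₁ = a + b₁ θ`
  set a : F := τ (QK u₁) with ha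
  set b₁ : F := ε⁻¹ * τ (θ * QK u₁) with hb₁
  have hQu : QK u₁ = algebraMap F K a + b₁ • θ := C.recon (QK u₁)
  have ha0 : a ≠ 0 := hQu₁
  obtain ⟨b, hb, hns⟩ := Cfsg.Agent.Lib.Helper44_OX2_E_ARITH.exists_nonsq C a b₁ ha0
  set s : F := (b - b₁) * z⁻¹ with hs
  have hsz : s * z = b - b₁ := by
    rw [hs, mul_assoc, inv_mul_cancel₀ hz0, mul_one]
  -- the quadratic form at `u₀`
  have hQ0 : QK (u₁ + s • ρ) = algebraMap F K a + b • θ := by
    rw [C.hQp, ← algebraMap_smul K s ρ, C.hQs, hQρ, mul_zero, add_zero, map_smul, smul_eq_mul,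
      hBz, hQu, ← Algebra.smul_def, smul_smul, hsz, sub_smul]
    abel
  refine ⟨u₁ + s • ρ, ?_, ?_, ?_, ρ, hρ, ?_⟩
  · intro x hx
    rw [map_add, hu₁ x hx, zero_add, trB_apply, ← algebraMap_smul K s ρ, map_smul, C.BK_symm,
      hρR x hx, smul_zero, map_zero]
  · rw [hQ0, C.tau_dec]
    exact ha0
  · rw [hQ0]
    exact hns
  · rw [map_add, ← algebraMap_smul K s ρ, map_smul, hρR ρ hρ, smul_zero, add_zero, C.BK_symm]
    exact hne

end Cfsg.Agent.Lib.Helper57_OX2_E_B1
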