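import Mathlib
import Cfsg.Agent.Lib.Helper97_OX2Defs
import Cfsg.Agent.Lib.Helper94_OrthVec
import Cfsg.Agent.Lib.Helper54_OX2_E_MAINaux
import Cfsg.Agent.Lib.Helper54_OX2_E_A
import Cfsg.Agent.Lib.Helper51_OX2_E_PERP
import Cfsg.Agent.Lib.Helper42_OX2_E_RANK
import Cfsg.Agent.Lib.Helper42_OX2_E_PAR
import Cfsg.Agent.Lib.Helper57_OX2_E_B1

set_option autoImplicit false
set_option linter.unusedSectionVars false
set_option linter.unusedVariables false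

/-!
# OEXT2 package E_MAIN (helper54): the vector `u₀`
-/

namespace Cfsg.Agent.Lib.Helper54_OX2_E_MAIN

open Module Cfsg.Agent.Lib.Helper94_OrthSmall Cfsg.Agent.Lib.Helper94_OrthSiegel
  Cfsg.Agent.Lib.Helper98_ExtDefs Cfsg.Agent.Lib.Helper97_OX2Defs

variable {F K V : Type*} [Field F] [Field K] [Algebra F K] [AddCommGroup V] [Module F V]
  [Module K V] [IsScalarTower F K V]
variable {θ : K} {ε : F} {τ : K →ₗ[F] F} {QK : V → K} {BK : LinearMap.BilinForm K V}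

/-- E_MAIN -/
theorem exists_u0 [Finite F] [Finite K] [Module.Finite F V] [Module.Finite K V]
    (C : Ctx θ ε τ QK BK) (t : Submodule F V)
    (ht4 : finrank F t = 4) (hts : ∀ x ∈ t, trQ τ QK x = 0) (hnK : ¬ IsKinv K t) :
    ∃ u₀ : V, GoodU τ QK BK t u₀ :=
  Cfsg.Agent.Lib.Helper54_OX2_E_MAINaux.exists_u0_aux C t
    (fun hdim => Cfsg.Agent.Lib.Helper51_OX2_E_PERP.exists_nonsing_perp (trQ τ QK) (trB τ BK) C.trQ_smul
      C.trQ_add C.trB_nondeg t hts hdim)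
    (fun v h => Cfsg.Agent.Lib.Helper51_OX2_E_PERP.perp_perp (trQ τ QK) (trB τ BK) C.trQ_smul C.trQ_add C.trB_nondeg t v h)
    (fun hx hy hd _ hu₁ hQu₁ => Cfsg.Agent.Lib.Helper54_OX2_E_A.exists_u0_caseA C t hts hx hy hd hu₁ hQu₁)
    (fun hmin => Cfsg.Agent.Lib.Helper42_OX2_E_RANK.rank_le_one C t hts hmin)
    (fun hu hQu hρ hρR hne => Cfsg.Agent.Lib.Helper57_OX2_E_B1.exists_u0_caseB C t hts hu hQu hρ hρR hne)
    (fun R hRt hRK _ hx => Cfsg.Agent.Lib.Helper42_OX2_E_PAR.eq_of_codim_one C t R ht4 hRt hRK hx)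
    ht4 hts hnK

end Cfsg.Agent.Lib.Helper54_OX2_E_MAIN
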