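import Mathlib
import Cfsg.Agent.Lib.Helper97_OX2Defs
import Cfsg.Agent.Lib.Helper94_OrthVec

set_option autoImplicit false
set_option linter.unusedSectionVars false
set_option linter.unusedVariables false

/-!
helper61: OEXT2 market (architect helper97), package S_FIN: if every `K`-scalar is transported by `g` to a `K`-scalar, `g` is
`K`-semilinear (the transport `c` is an injective ring endomorphism of the finite field `K`).
-/

namespace Cfsg.Agent.Lib.Helper61_OX2_S_FIN

open Module Cfsg.Agent.Lib.Helper94_OrthSmall Cfsg.Agent.Lib.Helper94_OrthSiegel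
  Cfsg.Agent.Lib.Helper98_ExtDefs Cfsg.Agent.Lib.Helper97_OX2Defs
open scoped commutatorElement

variable {F K V : Type*} [Field F] [Field K] [Algebra F K] [AddCommGroup V] [Module F V]
  [Module K V] [IsScalarTower F K V]
variable {θ : K} {ε : F} {τ : K →ₗ[F] F} {QK : V → K} {BK : LinearMap.BilinForm K V}

/-- **S_FIN** -/
theorem semilin_of_scalar [Finite K] (hV : ∃ v : V, v ≠ 0) (g : V ≃ₗ[F] V)
    (h : ∀ k : K, ∃ c : K, ∀ v : V, k • g v = g (c • v)) : IsSemilin F K V g := by
  classical
  choose c hc using h
  obtain ⟨v₀, hv₀⟩ := hV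
  have hinj : ∀ a b : K, g (a • v₀) = g (b • v₀) → a = b := by
    intro a b hab
    exact smul_left_injective K hv₀ (g.injective hab)
  have hadd : ∀ k k' : K, c (k + k') = c k + c k' := by
    intro k k'
    apply hinj
    rw [← hc, add_smul, hc, hc, ← map_add, ← add_smul]
  have hmul : ∀ k k' : K, c (k * k') = c k * c k' := by
    intro k k'
    apply hinj
    rw [← hc, mul_smul, hc k', hc k, smul_smul]
  have hone : c 1 = 1 := by
    apply hinj
    rw [← hc, one_smul, one_smul]
  have hzero : c 0 = 0 := by
    have := hadd 0 0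
    rw [add_zero] at this
    exact left_eq_add.1 this
  let φ : K →+* K :=
    { toFun := c
      map_one' := hone
      map_mul' := hmul
      map_zero' := hzero
      map_add' := hadd }
  have hφinj : Function.Injective φ := φ.injective
  have hφbij : Function.Bijective φ := Finite.injective_iff_bijective.1 hφinj
  let σ : K ≃+* K := (RingEquiv.ofBijective φ hφbij).symm
  refine ⟨σ, ?_⟩
  intro k v
  have h1 : c (σ k) = k := (RingEquiv.ofBijective φ hφbij).apply_symm_apply k
  rw [hc (σ k) v, h1]

end Cfsg.Agent.Lib.Helper61_OX2_S_FIN
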