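import Mathlib
import Cfsg.Agent.Lib.Helper97_OX2Defs
import Cfsg.Agent.Lib.Helper94_OrthVec

set_option autoImplicit false
set_option linter.unusedSectionVars false
set_option linter.unusedVariables false

/-!
helper61: OEXT2 market (architect helper97), package S_PLANE: an `F`-linear map stabilising every `K`-point of a `K`-plane
is a `K`-scalar on it.
-/

namespace Cfsg.Agent.Lib.Helper61_OX2_S_PLANE

open Module Cfsg.Agent.Lib.Helper94_OrthSmall Cfsg.Agent.Lib.Helper94_OrthSiegel
  Cfsg.Agent.Lib.Helper98_ExtDefs Cfsg.Agent.Lib.Helper97_OX2Defs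
open scoped commutatorElement

variable {F K V : Type*} [Field F] [Field K] [Algebra F K] [AddCommGroup V] [Module F V]
  [Module K V] [IsScalarTower F K V]
variable {θ : K} {ε : F} {τ : K →ₗ[F] F} {QK : V → K} {BK : LinearMap.BilinForm K V}

/-- two `K`-independent vectors of the plane have the same scalar -/
theorem scalar_eq_of_indep (A : V →ₗ[F] V) (u w : V)
    (hind : ∀ a b : K, a • u + b • w = 0 → a = 0 ∧ b = 0)
    {a b a' b' cx cy cz : K} (hdet : a * b' - a' * b ≠ 0)
    (hx : A (a • u + b • w) = cx • (a • u + b • w))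
    (hy : A (a' • u + b' • w) = cy • (a' • u + b' • w))
    (hz : A ((a + a') • u + (b + b') • w) = cz • ((a + a') • u + (b + b') • w)) :
    cx = cy := by
  have hsum : (a + a') • u + (b + b') • w = (a • u + b • w) + (a' • u + b' • w) := by
    rw [add_smul, add_smul]; abel
  rw [hsum, map_add, hx, hy] at hz
  have h0 : ((cz - cx) * a + (cz - cy) * a') • u + ((cz - cx) * b + (cz - cy) * b') • w = 0 := by
    have h1 : ((cz - cx) * a + (cz - cy) * a') • u + ((cz - cx) * b + (cz - cy) * b') • w =
        cz • ((a • u + b • w) + (a' • u + b' • w)) -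
          (cx • (a • u + b • w) + cy • (a' • u + b' • w)) := by
      module
    rw [h1, ← hz, sub_self]
  obtain ⟨h1, h2⟩ := hind _ _ h0
  have e1 : (cz - cx) * (a * b' - a' * b) = 0 := by
    linear_combination b' * h1 - a' * h2
  have e2 : (cz - cy) * (a * b' - a' * b) = 0 := by
    linear_combination a * h2 - b * h1
  have e1' : cz - cx = 0 := (mul_eq_zero.1 e1).resolve_right hdet
  have e2' : cz - cy = 0 := (mul_eq_zero.1 e2).resolve_right hdet
  rw [← sub_eq_zero.1 e1', ← sub_eq_zero.1 e2']

/-- **S_PLANE**: an `F`-linear map stabilising every `K`-point of a `K`-plane is a `K`-scalar on it -/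
theorem plane_scalar (A : V →ₗ[F] V) (u w : V)
    (hind : ∀ a b : K, a • u + b • w = 0 → a = 0 ∧ b = 0)
    (hA : ∀ a b : K, ∃ c : K, A (a • u + b • w) = c • (a • u + b • w)) :
    ∃ c : K, ∀ a b : K, A (a • u + b • w) = c • (a • u + b • w) := by
  obtain ⟨cu, hcu⟩ := hA 1 0
  obtain ⟨cw, hcw⟩ := hA 0 1
  have huw : cu = cw := by
    obtain ⟨cz, hcz⟩ := hA (1 + 0) (0 + 1)
    exact scalar_eq_of_indep A u w hind (by simp) hcu hcw hcz
  refine ⟨cu, ?_⟩
  intro a b
  obtain ⟨cx, hcx⟩ := hA a b
  by_cases hb : b = 0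
  · by_cases ha : a = 0
    · rw [ha, hb, zero_smul, zero_smul, add_zero, map_zero, smul_zero]
    · -- `x = a u`, independent of `w`
      obtain ⟨cz, hcz⟩ := hA (a + 0) (b + 1)
      have h1 : cx = cw := by
        refine scalar_eq_of_indep A u w hind ?_ hcx hcw hcz
        rw [hb]
        simpa using ha
      rw [hcx, h1, huw]
  · -- independent of `u`
    obtain ⟨cz, hcz⟩ := hA (a + 1) (b + 0)
    have h1 : cx = cu := by
      refine scalar_eq_of_indep A u w hind ?_ hcx hcu hcz
      simpa using hb
    rw [hcx, h1]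

end Cfsg.Agent.Lib.Helper61_OX2_S_PLANE
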