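import Mathlib
import Cfsg.Agent.Lib.Helper97_OX2Defs

set_option autoImplicit false
set_option linter.unusedSectionVars false
set_option linter.unusedVariables false

/-!
# OEXT2 package BR_SIEG (helper80): the `K`-Siegel elements are commutators of isometries of
`Q = τ ∘ QK`.
-/

namespace Cfsg.Agent.Lib.Helper80_OX2_BR_SIEG

open Module Cfsg.Agent.Lib.Helper94_OrthSmall Cfsg.Agent.Lib.Helper94_OrthSiegel
  Cfsg.Agent.Lib.Helper98_ExtDefs Cfsg.Agent.Lib.Helper97_OX2Defs
open scoped commutatorElement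

variable {F K V : Type*} [Field F] [Field K] [Algebra F K] [AddCommGroup V] [Module F V]
  [Module K V] [IsScalarTower F K V]
variable {θ : K} {ε : F} {τ : K →ₗ[F] F} {QK : V → K} {BK : LinearMap.BilinForm K V}

/-- restriction of scalars as a group homomorphism -/
def rsHom (F K V : Type*) [Field F] [Field K] [Algebra F K] [AddCommGroup V] [Module F V]
    [Module K V] [IsScalarTower F K V] : (V ≃ₗ[K] V) →* (V ≃ₗ[F] V) where
  toFun g := g.restrictScalars F
  map_one' := rfl
  map_mul' _ _ := rfl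

theorem rsHom_apply (g : V ≃ₗ[K] V) : rsHom F K V g = g.restrictScalars F := rfl

theorem map_oG_le (τ : K →ₗ[F] F) (QK : V → K) :
    (oG QK).map (rsHom F K V) ≤ oG (trQ τ QK) := by
  rintro _ ⟨g, hg, rfl⟩
  intro v
  have h1 : (rsHom F K V g) v = g v := rfl
  rw [trQ_apply, trQ_apply, h1, hg v]

/-- BR_SIEG: the `K`-Siegel elements are commutators of isometries of `Q = τ ∘ QK` -/
theorem ksieg_mem_commutator [Finite F] [Finite K] [Module.Finite K V] (C : Ctx θ ε τ QK BK)
    {u w : V} (hu : QK u = 0) (huw : BK u w = 0) :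
    ksieg F QK BK u w ∈ ⁅oG (trQ τ QK), oG (trQ τ QK)⁆ := by
  have h2K : (2 : K) ≠ 0 := C.two_ne_zero_K
  have hl0 : (-1 : K) ≠ 0 := neg_ne_zero.mpr one_ne_zero
  have hl1 : (-1 : K) ≠ 1 := by
    intro h
    apply h2K
    have : (2 : K) = 1 - (-1) := by ring
    rw [this, h, sub_self]
  have h1 : sieg QK BK u w ∈ ⁅oG QK, oG QK⁆ :=
    sieg_mem_commutator QK BK C.hQs C.hQp C.hN hl0 hl1 hu huw
  have h3 : rsHom F K V (sieg QK BK u w) ∈ (⁅oG QK, oG QK⁆).map (rsHom F K V) :=
    Subgroup.mem_map_of_mem _ h1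
  rw [Subgroup.map_commutator] at h3
  exact Subgroup.commutator_mono (map_oG_le τ QK) (map_oG_le τ QK) h3

end Cfsg.Agent.Lib.Helper80_OX2_BR_SIEG
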