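import Mathlib
import Cfsg.Agent.Lib.Helper97_OX2Defs
import Cfsg.Agent.Lib.Helper94_OrthVec
import Cfsg.Agent.Lib.Helper24_OX2_G_SPAN

set_option autoImplicit false
set_option linter.unusedSectionVars false
set_option linter.unusedVariables false

/-!
# OEXT2 market (architect helper97), package ALL3: `sieg a f ∈ M` for singular `a` and all `f ∈ a^{⊥_K}`.
`perp_all_aux` takes the conclusion of G_SPAN (`sing_span_perp` for `(QK, BK)`) as a hypothesis;
`perp_all` is the verbatim package statement (G_SPAN = `Helper24_OX2_G_SPAN.sing_span_perp` plugged in).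
-/

namespace Cfsg.Agent.Lib.Helper82_OX2_ALL3

open Module Cfsg.Agent.Lib.Helper94_OrthSmall Cfsg.Agent.Lib.Helper94_OrthSiegel
  Cfsg.Agent.Lib.Helper98_ExtDefs Cfsg.Agent.Lib.Helper97_OX2Defs
open scoped commutatorElement

variable {F K V : Type*} [Field F] [Field K] [Algebra F K] [AddCommGroup V] [Module F V]
  [Module K V] [IsScalarTower F K V]
variable {θ : K} {ε : F} {τ : K →ₗ[F] F} {QK : V → K} {BK : LinearMap.BilinForm K V}

/-- ALL3 with the conclusion of G_SPAN as a hypothesis -/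
theorem perp_all_aux (C : Ctx θ ε τ QK BK)
    (M : Subgroup (V ≃ₗ[F] V))
    (hline : ∀ x y : V, QK x = 0 → QK y = 0 → BK x y = 0 → sieg (trQ τ QK) (trB τ BK) x y ∈ M)
    (hspan : ∀ {a : V}, a ≠ 0 → QK a = 0 → ∀ {f : V}, BK a f = 0 →
      f ∈ AddSubgroup.closure {p : V | QK p = 0 ∧ BK a p = 0})
    {a f : V} (ha : QK a = 0) (hf : BK a f = 0) : sieg (trQ τ QK) (trB τ BK) a f ∈ M := by
  by_cases ha0 : a = 0
  · rw [ha0, sieg_zero_left (trQ τ QK) (trB τ BK) C.trQ_smul C.trQ_add]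
    exact M.one_mem
  have hQa : trQ τ QK a = 0 := trQ_eq_zero ha
  have hmem := hspan ha0 ha hf
  clear hf
  have key : trB τ BK a f = 0 ∧ sieg (trQ τ QK) (trB τ BK) a f ∈ M := by
    induction hmem using AddSubgroup.closure_induction with
    | mem p hp => exact ⟨trB_eq_zero hp.2, hline a p ha hp.1 hp.2⟩
    | zero =>
      refine ⟨by rw [map_zero], ?_⟩
      rw [sieg_zero_right (trQ τ QK) (trB τ BK) C.trQ_smul C.trQ_add hQa]
      exact M.one_mem
    | add x y _ _ hx hy =>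
      refine ⟨by rw [map_add, hx.1, hy.1, add_zero], ?_⟩
      rw [← sieg_mul (trQ τ QK) (trB τ BK) C.trQ_smul C.trQ_add hQa hx.1 hy.1]
      exact M.mul_mem hx.2 hy.2
    | neg x _ hx =>
      refine ⟨by rw [map_neg, hx.1, neg_zero], ?_⟩
      rw [← sieg_inv (trQ τ QK) (trB τ BK) C.trQ_smul C.trQ_add hQa hx.1]
      exact M.inv_mem hx.2
  exact key.2

/-- ALL3 -/
theorem perp_all [Finite F] [Finite K] [Module.Finite K V] (C : Ctx θ ε τ QK BK)
    (M : Subgroup (V ≃ₗ[F] V)) (hM : HypO τ QK BK M)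
    (hline : ∀ x y : V, QK x = 0 → QK y = 0 → BK x y = 0 → sieg (trQ τ QK) (trB τ BK) x y ∈ M)
    {a f : V} (ha : QK a = 0) (hf : BK a f = 0) : sieg (trQ τ QK) (trB τ BK) a f ∈ M :=
  perp_all_aux C M hline
    (fun {_} ha0 ha {_} hf => Cfsg.Agent.Lib.Helper24_OX2_G_SPAN.sing_span_perp QK BK C.hQs C.hQp C.hN C.hm
      ha0 ha hf) ha hf

end Cfsg.Agent.Lib.Helper82_OX2_ALL3
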