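import Mathlib
import Cfsg.Agent.Lib.Helper97_OX2Defs
import Cfsg.Agent.Lib.Helper94_OrthVec
import Cfsg.Agent.Lib.Helper82_OX2_G_HYP
import Cfsg.Agent.Lib.Helper86_OX2_G_HYP2

set_option autoImplicit false
set_option linter.unusedSectionVars false
set_option linter.unusedVariables false

/-!
# OEXT2 market (architect helper97), package G_LINES: two totally singular lines through a singular point
meeting only in that point.  `exists_two_lines_aux` takes the conclusion of G_HYP2 (at the pair `(p, p')`) as a hypothesis;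
`exists_two_lines` uses helper86's G_HYP2.
-/

namespace Cfsg.Agent.Lib.Helper82_OX2_G_LINES

open Module Cfsg.Agent.Lib.Helper94_OrthSmall Cfsg.Agent.Lib.Helper94_OrthSiegel
  Cfsg.Agent.Lib.Helper98_ExtDefs Cfsg.Agent.Lib.Helper97_OX2Defs
open scoped commutatorElement

section GEO

variable {K V : Type*} [Field K] [AddCommGroup V] [Module K V]
  (Q : V → K) (B : LinearMap.BilinForm K V)
  (hQs : ∀ (c : K) (v : V), Q (c • v) = c * c * Q v)
  (hQp : ∀ u v : V, Q (u + v) = Q u + Q v + B u v)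

include hQs hQp

/-- the independence statement: `p`, `b`, `b'` with `B p p' = 1`, `B b b' = 1`, `b`, `b'` singular and
orthogonal to `p`, `p'` -/
theorem indep_of_hyp {p p' b b' : V} (hb : Q b = 0) (hb' : Q b' = 0) (hpp' : B p p' = 1)
    (hbb' : B b b' = 1) (hp'b : B p' b = 0) (hp'b' : B p' b' = 0) (hpb : B p b = 0)
    (hpb' : B p b' = 0) (x y z : K) (h : x • p + y • b + z • b' = 0) : x = 0 ∧ y = 0 ∧ z = 0 := by
  have hBbb : B b b = 0 := by rw [B_self Q B hQs hQp, hb, mul_zero]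
  have hBb'b' : B b' b' = 0 := by rw [B_self Q B hQs hQp, hb', mul_zero]
  have hb'b : B b' b = 1 := by rw [B_symm Q B hQp]; exact hbb'
  have hx : x = 0 := by
    have h1 := congrArg (fun v => B p' v) h
    simp only [map_add, map_smul, map_zero, smul_eq_mul] at h1
    rw [B_symm Q B hQp p' p, hpp', hp'b, hp'b'] at h1
    linear_combination h1
  have hy : y = 0 := by
    have h1 := congrArg (fun v => B b' v) h
    simp only [map_add, map_smul, map_zero, smul_eq_mul] at h1
    rw [B_symm Q B hQp b' p, hpb', hb'b, hBb'b'] at h1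
    linear_combination h1
  have hz : z = 0 := by
    have h1 := congrArg (fun v => B b v) h
    simp only [map_add, map_smul, map_zero, smul_eq_mul] at h1
    rw [B_symm Q B hQp b p, hpb, hBbb, hbb'] at h1
    linear_combination h1
  exact ⟨hx, hy, hz⟩

/-- G_LINES with the conclusion of G_HYP2 as a hypothesis -/
theorem exists_two_lines_aux (hN : B.Nondegenerate)
    (hyp2 : ∀ {a a' : V}, Q a = 0 → Q a' = 0 → B a a' = 1 →
      ∃ b b' : V, Q b = 0 ∧ Q b' = 0 ∧ B b b' = 1 ∧ B a b = 0 ∧ B a b' = 0 ∧ B a' b = 0 ∧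
        B a' b' = 0)
    {p : V} (hp0 : p ≠ 0) (hp : Q p = 0) :
    ∃ a b : V, Q a = 0 ∧ Q b = 0 ∧ B p a = 0 ∧ B p b = 0 ∧
      ∀ x y z : K, x • p + y • a + z • b = 0 → x = 0 ∧ y = 0 ∧ z = 0 := by
  obtain ⟨p', hp', hpp'⟩ := Cfsg.Agent.Lib.Helper82_OX2_G_HYP.exists_hyp Q B hQs hQp hN hp0 hp
  obtain ⟨b, b', hb, hb', hbb', hpb, hpb', hp'b, hp'b'⟩ := hyp2 hp hp' hpp'
  exact ⟨b, b', hb, hb', hpb, hpb',
    indep_of_hyp Q B hQs hQp hb hb' hpp' hbb' hp'b hp'b' hpb hpb'⟩

/-- G_LINES: two totally singular lines through a singular point meeting only in that point -/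
theorem exists_two_lines [Finite K] [FiniteDimensional K V] (hN : B.Nondegenerate)
    (hm : 5 ≤ finrank K V) {p : V} (hp0 : p ≠ 0) (hp : Q p = 0) :
    ∃ a b : V, Q a = 0 ∧ Q b = 0 ∧ B p a = 0 ∧ B p b = 0 ∧
      ∀ x y z : K, x • p + y • a + z • b = 0 → x = 0 ∧ y = 0 ∧ z = 0 :=
  exists_two_lines_aux Q B hQs hQp hN
    (fun ha ha' haa' => Cfsg.Agent.Lib.Helper86_OX2_G_HYP2.exists_hyp2 Q B hQs hQp hN hm ha ha' haa')
    hp0 hp

end GEO

end Cfsg.Agent.Lib.Helper82_OX2_G_LINES
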