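import Mathlib
import Cfsg.Agent.Lib.Helper97_OX2Defs
import Cfsg.Agent.Lib.Helper94_OrthVec

set_option autoImplicit false
set_option linter.unusedSectionVars false
set_option linter.unusedVariables false

/-!
OEXT2 market (helper97), package **LONGCOMM**: the commutator of two long root elements whose
planes pair with rank one.  (helper89)
-/

namespace Cfsg.Agent.Lib.Helper89_OX2_LONGCOMM

open Module Cfsg.Agent.Lib.Helper94_OrthSmall Cfsg.Agent.Lib.Helper94_OrthSiegel
  Cfsg.Agent.Lib.Helper98_ExtDefs Cfsg.Agent.Lib.Helper97_OX2Defs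
open scoped commutatorElement

variable {K V : Type*} [Field K] [AddCommGroup V] [Module K V]
  (Q : V → K) (B : LinearMap.BilinForm K V)
  (hQs : ∀ (c : K) (v : V), Q (c • v) = c * c * Q v)
  (hQp : ∀ u v : V, Q (u + v) = Q u + Q v + B u v)

include hQs hQp

/-- `g h = k (h g)` for `g = sieg a b`, `h = sieg c d`, `k = sieg a (B b d • c)`. -/
theorem long_comm2_aux {a b c d : V} (ha : Q a = 0) (hb : Q b = 0) (hc : Q c = 0) (hd : Q d = 0)
    (hab : B a b = 0) (hcd : B c d = 0) (hac : B a c = 0) (had : B a d = 0) (hbc : B b c = 0) :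
    sieg Q B a b * sieg Q B c d = sieg Q B a (B b d • c) * (sieg Q B c d * sieg Q B a b) := by
  have hsymm := B_symm Q B hQp
  have haa : B a a = 0 := by rw [B_self Q B hQs hQp, ha, mul_zero]
  have hcc : B c c = 0 := by rw [B_self Q B hQs hQp, hc, mul_zero]
  have hba : B b a = 0 := by rw [hsymm, hab]
  have hdc : B d c = 0 := by rw [hsymm, hcd]
  have hca : B c a = 0 := by rw [hsymm, hac]
  have hda : B d a = 0 := by rw [hsymm, had]
  have hcb : B c b = 0 := by rw [hsymm, hbc]
  have hdb : B d b = B b d := hsymm d b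
  have hk : B a (B b d • c) = 0 := by rw [map_smul, hac, smul_zero]
  have hQk : Q (B b d • c) = 0 := by rw [hQs, hc, mul_zero]
  ext x
  rw [LinearEquiv.mul_apply, LinearEquiv.mul_apply, LinearEquiv.mul_apply,
    sieg_apply Q B hQs hQp ha hk, sieg_apply Q B hQs hQp hc hcd (sieg Q B a b x),
    sieg_apply Q B hQs hQp ha hab x, sieg_apply Q B hQs hQp ha hab (sieg Q B c d x),
    sieg_apply Q B hQs hQp hc hcd x, hQk, hb, hd]
  simp only [map_add, map_sub, map_smul, LinearMap.add_apply, LinearMap.sub_apply,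
    LinearMap.smul_apply, smul_eq_mul, haa, hcc, hba, hdc, hac, hca, had, hda, hbc, hcb,
    hdb, mul_zero, zero_mul, sub_zero, add_zero, zero_smul]
  module

/-- LONGCOMM: the commutator of two long root elements whose planes pair with rank one -/
theorem long_comm2 {a b c d : V} (ha : Q a = 0) (hb : Q b = 0) (hc : Q c = 0) (hd : Q d = 0)
    (hab : B a b = 0) (hcd : B c d = 0) (hac : B a c = 0) (had : B a d = 0) (hbc : B b c = 0) :
    ⁅sieg Q B a b, sieg Q B c d⁆ = sieg Q B a (B b d • c) := by
  rw [commutatorElement_def, long_comm2_aux Q B hQs hQp ha hb hc hd hab hcd hac had hbc]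
  group

end Cfsg.Agent.Lib.Helper89_OX2_LONGCOMM
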