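import Mathlib
import Cfsg.Agent.Lib.Helper97_OX2Defs
import Cfsg.Agent.Lib.Helper94_OrthVec
import Cfsg.Agent.Lib.Helper82_OX2_G_HYP
import Cfsg.Agent.Lib.Helper86_OX2_G_HYP2
import Cfsg.Agent.Lib.Helper89_OX2_LONGCOMM

set_option autoImplicit false
set_option linter.unusedSectionVars false
set_option linter.unusedVariables false

/-!
OEXT2 market (helper97), package **ALL4**: if `M` contains the Siegel elements `sieg Q B a f` for
`a` `K`-singular and `f` `K`-orthogonal to `a`, it contains them for `f` `F`-orthogonal to `a`.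
(helper89)
-/

namespace Cfsg.Agent.Lib.Helper89_OX2_ALL4

open Module Cfsg.Agent.Lib.Helper94_OrthSmall Cfsg.Agent.Lib.Helper94_OrthSiegel
  Cfsg.Agent.Lib.Helper98_ExtDefs Cfsg.Agent.Lib.Helper97_OX2Defs
open scoped commutatorElement

variable {F K V : Type*} [Field F] [Field K] [Algebra F K] [AddCommGroup V] [Module F V]
  [Module K V] [IsScalarTower F K V]
variable {θ : K} {ε : F} {τ : K →ₗ[F] F} {QK : V → K} {BK : LinearMap.BilinForm K V}

/-- ALL4, with the output of G_HYP2 (`exists_hyp2`) as a hypothesis -/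
theorem full_of_perp_of (C : Ctx θ ε τ QK BK)
    (M : Subgroup (V ≃ₗ[F] V))
    (hperp : ∀ a f : V, QK a = 0 → BK a f = 0 → sieg (trQ τ QK) (trB τ BK) a f ∈ M)
    (hH2 : ∀ {a a' : V}, QK a = 0 → QK a' = 0 → BK a a' = 1 →
      ∃ b b' : V, QK b = 0 ∧ QK b' = 0 ∧ BK b b' = 1 ∧ BK a b = 0 ∧ BK a b' = 0 ∧ BK a' b = 0 ∧
        BK a' b' = 0)
    {a f : V} (ha : QK a = 0) (hf : trB τ BK a f = 0) : sieg (trQ τ QK) (trB τ BK) a f ∈ M := by
  have hQs := C.trQ_smul (θ := θ) (ε := ε) (τ := τ) (QK := QK) (BK := BK)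
  have hQp := C.trQ_add (θ := θ) (ε := ε) (τ := τ) (QK := QK) (BK := BK)
  by_cases ha0 : a = 0
  · rw [ha0, sieg_zero_left (trQ τ QK) (trB τ BK) hQs hQp]
    exact M.one_mem
  obtain ⟨a', ha', haa'⟩ :=
    Cfsg.Agent.Lib.Helper82_OX2_G_HYP.exists_hyp QK BK C.hQs C.hQp C.hN ha0 ha
  obtain ⟨b, b', hb, hb', hbb', hab, hab', ha'b, ha'b'⟩ := hH2 ha ha' haa'
  -- the `θ`-coordinate of `BK a f`
  set c : F := ε⁻¹ * τ (θ * BK a f) with hc
  have hτ0 : τ (BK a f) = 0 := hf
  have hBKaf : BK a f = c • θ := by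
    have := C.recon (BK a f)
    rw [hτ0, map_zero, zero_add] at this
    exact this
  -- the `K`-orthogonal part
  have hf' : BK a (f - (c • θ) • a') = 0 := by
    rw [map_sub, map_smul, haa', hBKaf, smul_eq_mul, mul_one, sub_self]
  have hQa : trQ τ QK a = 0 := trQ_eq_zero ha
  have hBf' : trB τ BK a (f - (c • θ) • a') = 0 := trB_eq_zero hf'
  have hBθ : trB τ BK a (c • θ • a') = 0 := by
    simp only [map_smul, trB_apply, haa', smul_eq_mul, mul_one, C.hτθ, mul_zero]
  have hsplit : f = (f - (c • θ) • a') + c • θ • a' := by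
    rw [smul_assoc]; abel
  have h1 : sieg (trQ τ QK) (trB τ BK) a (f - (c • θ) • a') ∈ M := hperp _ _ ha hf'
  -- the long root element
  have h2 : sieg (trQ τ QK) (trB τ BK) a (c • θ • a') ∈ M := by
    have hQlb : QK (algebraMap F K c • b) = 0 := by rw [C.hQs, hb, mul_zero]
    have hQθa' : QK (θ • a') = 0 := by rw [C.hQs, ha', mul_zero]
    have hKab : BK a (algebraMap F K c • b) = 0 := by rw [map_smul, hab, smul_zero]
    have hKθb' : BK (θ • a') b' = 0 := by
      rw [map_smul, LinearMap.smul_apply, ha'b', smul_zero]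
    have hKaθ : trB τ BK a (θ • a') = 0 := by
      rw [trB_apply, map_smul, haa', smul_eq_mul, mul_one, C.hτθ]
    have hKbθ : BK (algebraMap F K c • b) (θ • a') = 0 := by
      simp only [map_smul, LinearMap.smul_apply, C.BK_symm b a', ha'b, smul_zero]
    have hpair : trB τ BK (algebraMap F K c • b) b' = c := by
      rw [trB_apply, map_smul, LinearMap.smul_apply, hbb', smul_eq_mul, mul_one, C.tau_algebraMap]
    have hcomm := Cfsg.Agent.Lib.Helper89_OX2_LONGCOMM.long_comm2 (trQ τ QK) (trB τ BK) hQs hQp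
      (a := a) (b := algebraMap F K c • b) (c := θ • a') (d := b')
      hQa (trQ_eq_zero hQlb) (trQ_eq_zero hQθa') (trQ_eq_zero hb')
      (trB_eq_zero hKab) (trB_eq_zero hKθb') hKaθ (trB_eq_zero hab') (trB_eq_zero hKbθ)
    rw [hpair] at hcomm
    rw [← hcomm]
    exact Subgroup.commutator_le_self M (Subgroup.commutator_mem_commutator (H₁ := M) (H₂ := M)
      (hperp _ _ ha hKab) (hperp _ _ hQθa' hKθb'))
  rw [hsplit, ← sieg_mul (trQ τ QK) (trB τ BK) hQs hQp hQa hBf' hBθ]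
  exact M.mul_mem h1 h2

/-- ALL4 -/
theorem full_of_perp [Finite F] [Finite K] [Module.Finite K V] (C : Ctx θ ε τ QK BK)
    (M : Subgroup (V ≃ₗ[F] V)) (hM : HypO τ QK BK M)
    (hperp : ∀ a f : V, QK a = 0 → BK a f = 0 → sieg (trQ τ QK) (trB τ BK) a f ∈ M)
    {a f : V} (ha : QK a = 0) (hf : trB τ BK a f = 0) : sieg (trQ τ QK) (trB τ BK) a f ∈ M := by
  refine full_of_perp_of C M hperp ?_ ha hf
  intro a a' ha ha' haa'
  exact Cfsg.Agent.Lib.Helper86_OX2_G_HYP2.exists_hyp2 QK BK C.hQs C.hQp C.hN C.hm ha ha' haa'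

end Cfsg.Agent.Lib.Helper89_OX2_ALL4
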