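import Mathlib
import Cfsg.Agent.Lib.Helper97_OX2Defs
import Cfsg.Agent.Lib.Helper94_OrthVec

set_option autoImplicit false
set_option linter.unusedSectionVars false
set_option linter.unusedVariables false

/-!
OEXT2 market (helper97), package **T1**: the Siegel element `sieg Q B u (v - p)` maps `p` to `v`
when `B p u = B v u = 1`.  (helper89)
-/

namespace Cfsg.Agent.Lib.Helper89_OX2_T1

open Module Cfsg.Agent.Lib.Helper94_OrthSmall Cfsg.Agent.Lib.Helper94_OrthSiegel
  Cfsg.Agent.Lib.Helper98_ExtDefs Cfsg.Agent.Lib.Helper97_OX2Defs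
open scoped commutatorElement

variable {K V : Type*} [Field K] [AddCommGroup V] [Module K V]
  (Q : V → K) (B : LinearMap.BilinForm K V)
  (hQs : ∀ (c : K) (v : V), Q (c • v) = c * c * Q v)
  (hQp : ∀ u v : V, Q (u + v) = Q u + Q v + B u v)

include hQs hQp

/-- T1: the Siegel element `sieg Q B u (v - p)` maps `p` to `v` when `B p u = B v u = 1` -/
theorem sieg_trans {p v u : V} (hp : Q p = 0) (hv : Q v = 0) (hu : Q u = 0) (hpu : B p u = 1)
    (hvu : B v u = 1) : B u (v - p) = 0 ∧ sieg Q B u (v - p) p = v := by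
  have hsymm := B_symm Q B hQp
  have h0 : B u (v - p) = 0 := by
    rw [map_sub, hsymm u v, hsymm u p, hpu, hvu, sub_self]
  refine ⟨h0, ?_⟩
  have hpp : B p p = 0 := by rw [B_self Q B hQs hQp, hp, mul_zero]
  have hQz : Q (v - p) = -B v p := by
    have h1 : v - p = v + (-1 : K) • p := by module
    rw [h1, Q_add_smul Q B hQs hQp, hv, hp]
    ring
  rw [sieg_apply Q B hQs hQp hu h0, hpu, hQz, map_sub, hpp, sub_zero, hsymm v p]
  module

end Cfsg.Agent.Lib.Helper89_OX2_T1
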