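import Mathlib
import Cfsg.Agent.Lib.Helper97_OX2Defs
import Cfsg.Agent.Lib.Helper94_OrthVec
import Cfsg.Agent.Lib.Helper89_OX2_T1
import Cfsg.Agent.Lib.Helper24_OX2_T2

set_option autoImplicit false
set_option linter.unusedSectionVars false
set_option linter.unusedVariables false

/-!
OEXT2 market (helper97), package **TRANS**: the group generated by the `K`-Siegel elements is
transitive on singular `K`-points.  (helper89)
-/

namespace Cfsg.Agent.Lib.Helper89_OX2_TRANS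

open Module Cfsg.Agent.Lib.Helper94_OrthSmall Cfsg.Agent.Lib.Helper94_OrthSiegel
  Cfsg.Agent.Lib.Helper98_ExtDefs Cfsg.Agent.Lib.Helper97_OX2Defs
open scoped commutatorElement

variable {F K V : Type*} [Field F] [Field K] [Algebra F K] [AddCommGroup V] [Module F V]
  [Module K V] [IsScalarTower F K V]
variable {θ : K} {ε : F} {τ : K →ₗ[F] F} {QK : V → K} {BK : LinearMap.BilinForm K V}

/-- TRANS, with the output of T2 (`exists_common`) as a hypothesis -/
theorem ks_trans_of (C : Ctx θ ε τ QK BK) {p v : V}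
    (hp : QK p = 0) (hv : QK v = 0)
    (hT2 : ∃ u : V, QK u = 0 ∧ BK p u ≠ 0 ∧ BK v u ≠ 0) :
    ∃ h ∈ KS F QK BK, ∃ c : K, c ≠ 0 ∧ h p = c • v := by
  obtain ⟨u, hu, hα, hβ⟩ := hT2
  set α : K := BK p u with hαdef
  set β : K := BK v u with hβdef
  have hu' : QK (α⁻¹ • u) = 0 := by rw [C.hQs, hu, mul_zero]
  have hv' : QK ((α * β⁻¹) • v) = 0 := by rw [C.hQs, hv, mul_zero]
  have hpu' : BK p (α⁻¹ • u) = 1 := by
    rw [map_smul, smul_eq_mul, ← hαdef, inv_mul_cancel₀ hα]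
  have hvu' : BK ((α * β⁻¹) • v) (α⁻¹ • u) = 1 := by
    rw [map_smul, map_smul, LinearMap.smul_apply, smul_eq_mul, smul_eq_mul, ← hβdef]
    field_simp
  obtain ⟨h0, h1⟩ := Cfsg.Agent.Lib.Helper89_OX2_T1.sieg_trans QK BK C.hQs C.hQp hp hv' hu' hpu' hvu'
  refine ⟨ksieg F QK BK (α⁻¹ • u) ((α * β⁻¹) • v - p), ksieg_mem_KS hu' h0, α * β⁻¹,
    mul_ne_zero hα (inv_ne_zero hβ), ?_⟩
  rw [ksieg_apply', h1]

/-- TRANS: the group generated by the `K`-Siegel elements is transitive on singular `K`-points -/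
theorem ks_trans [Finite F] [Finite K] [Module.Finite K V] (C : Ctx θ ε τ QK BK) {p v : V}
    (hp0 : p ≠ 0) (hv0 : v ≠ 0) (hp : QK p = 0) (hv : QK v = 0) :
    ∃ h ∈ KS F QK BK, ∃ c : K, c ≠ 0 ∧ h p = c • v :=
  ks_trans_of C hp hv
    (Cfsg.Agent.Lib.Helper24_OX2_T2.exists_common QK BK C.hQs C.hQp C.hN C.hm hp0 hv0 hp hv)

end Cfsg.Agent.Lib.Helper89_OX2_TRANS
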