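import Mathlib

/-!
# OEXT2 (architect helper97, market `oext_packages`): package BR_CTX (helper99, parallel seat)

`exists_theta`: a quadratic extension `K / F` of finite fields of odd characteristic is `F(θ)` with
`θ² = ε ∈ F`, `θ ∉ F`, `K = F + F θ`, `Tr θ = 0`, `Tr 1 = 2`.
-/

set_option autoImplicit false
set_option linter.unusedSectionVars false
set_option linter.unusedVariables false

namespace Cfsg.Agent.Lib.Helper99_OX2_BR_CTX

open Module

variable {F K V : Type*} [Field F] [Field K] [Algebra F K] [AddCommGroup V] [Module F V]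
  [Module K V] [IsScalarTower F K V]

/-- for odd `q`: `q² / 2 = (q - 1) * ((q + 1) / 2)` -/
theorem sq_half (q : ℕ) (hq : Odd q) : q ^ 2 / 2 = (q - 1) * ((q + 1) / 2) := by
  obtain ⟨k, rfl⟩ := hq
  have h1 : (2 * k + 1) ^ 2 = 2 * (2 * k * (k + 1)) + 1 := by ring
  have h2 : (2 * k + 1 + 1) / 2 = k + 1 := by omega
  have h3 : 2 * k + 1 - 1 = 2 * k := by omega
  rw [h1, h2, h3]
  omega

/-- BR_CTX: a quadratic extension in odd characteristic is `F(θ)` with `θ² ∈ F` -/
theorem exists_theta [Finite F] [Finite K] (h2 : (2 : F) ≠ 0) (hr : finrank F K = 2) :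
    ∃ (θ : K) (ε : F), θ * θ = algebraMap F K ε ∧ (∀ x : F, algebraMap F K x ≠ θ) ∧
      (∀ k : K, ∃ x y : F, k = algebraMap F K x + y • θ) ∧ Algebra.trace F K θ = 0 ∧
      Algebra.trace F K (1 : K) = 2 := by
  classical
  have : Fintype F := Fintype.ofFinite F
  have : Fintype K := Fintype.ofFinite K
  have hinj : Function.Injective (algebraMap F K) := (algebraMap F K).injective
  have hcharF : ringChar F ≠ 2 := by
    intro h
    apply h2
    have := ringChar.Nat.cast_ringChar (R := F)
    rw [h] at this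
    exact_mod_cast this
  have h2K : (2 : K) ≠ 0 := by
    intro h
    apply h2
    apply hinj
    rw [map_zero, map_ofNat]
    exact h
  have hcharK : ringChar K ≠ 2 := by
    intro h
    apply h2K
    have := ringChar.Nat.cast_ringChar (R := K)
    rw [h] at this
    exact_mod_cast this
  obtain ⟨ε, hε⟩ := FiniteField.exists_nonsquare (F := F) hcharF
  have hε0 : ε ≠ 0 := by
    rintro rfl
    exact hε (IsSquare.zero)
  have hεK0 : algebraMap F K ε ≠ 0 := by
    intro h
    apply hε0
    apply hinj
    rw [h, map_zero]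
  -- `ε` is a square in `K`
  have hcardK : Fintype.card K = Fintype.card F ^ 2 := by
    rw [Module.card_eq_pow_finrank (K := F) (V := K), hr]
  have hoddF : Odd (Fintype.card F) :=
    Nat.odd_iff.mpr (FiniteField.odd_card_of_char_ne_two hcharF)
  have hsq : IsSquare (algebraMap F K ε) := by
    rw [FiniteField.isSquare_iff hcharK hεK0, hcardK, sq_half _ hoddF, ← map_pow, pow_mul,
      FiniteField.pow_card_sub_one_eq_one ε hε0, one_pow, map_one]
  obtain ⟨θ, hθ⟩ := hsq
  have hθF : ∀ x : F, algebraMap F K x ≠ θ := by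
    intro x hx
    apply hε
    refine ⟨x, ?_⟩
    apply hinj
    rw [hθ, ← hx, map_mul]
  -- the basis `1, θ`
  have hli : LinearIndependent F ![(1 : K), θ] := by
    rw [LinearIndependent.pair_iff]
    intro s t hst
    have ht : t = 0 := by
      by_contra ht
      apply hθF (-(s / t))
      have h1 : t • θ = -(s • (1 : K)) := by
        rw [eq_neg_iff_add_eq_zero, add_comm]
        exact hst
      have h3 : θ = t⁻¹ • (t • θ) := by
        rw [smul_smul, inv_mul_cancel₀ ht, one_smul]
      rw [h3, h1, smul_neg, smul_smul, Algebra.algebraMap_eq_smul_one, neg_smul, div_eq_inv_mul]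
    refine ⟨?_, ht⟩
    rw [ht, zero_smul, add_zero, ← Algebra.algebraMap_eq_smul_one] at hst
    apply hinj
    rw [hst, map_zero]
  let b : Basis (Fin 2) F K := basisOfLinearIndependentOfCardEqFinrank hli (by simp [hr])
  have hb : ⇑b = ![(1 : K), θ] := coe_basisOfLinearIndependentOfCardEqFinrank hli _
  have hb0 : b 0 = 1 := by rw [hb]; rfl
  have hb1 : b 1 = θ := by rw [hb]; rfl
  refine ⟨θ, ε, hθ.symm, hθF, ?_, ?_, ?_⟩
  · intro k
    refine ⟨b.repr k 0, b.repr k 1, ?_⟩
    have := b.sum_repr k
    rw [Fin.sum_univ_two, hb0, hb1, ← Algebra.algebraMap_eq_smul_one] at this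
    exact this.symm
  · rw [Algebra.trace_eq_matrix_trace b θ, Matrix.trace_fin_two, Algebra.leftMulMatrix_eq_repr_mul,
      Algebra.leftMulMatrix_eq_repr_mul, hb0, hb1, mul_one, ← hθ]
    have e1 : b.repr θ 0 = 0 := by
      rw [← hb1, b.repr_self, Finsupp.single_apply, if_neg (by decide)]
    have e2 : b.repr (algebraMap F K ε) 1 = 0 := by
      rw [Algebra.algebraMap_eq_smul_one, ← hb0, map_smul, b.repr_self, Finsupp.smul_apply,
        Finsupp.single_apply, if_neg (by decide), smul_zero]
    rw [e1, e2, add_zero]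
  · have := Algebra.trace_algebraMap (R := F) (S := K) (1 : F)
    rw [map_one, hr] at this
    rw [this]
    simp

end Cfsg.Agent.Lib.Helper99_OX2_BR_CTX
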