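import Mathlib
import Cfsg.Agent.Lib.Helper97_OX2Defs
import Cfsg.Agent.Lib.Helper94_OrthVec
import Cfsg.Agent.Lib.Helper12_OX2_COMM_APPaux
import Cfsg.Agent.Lib.Helper24_OX2_G_SPAN
import Cfsg.Agent.Lib.Helper24_OX2_T2
import Cfsg.Agent.Lib.Helper42_OX2_E_PAR
import Cfsg.Agent.Lib.Helper42_OX2_E_RANK
import Cfsg.Agent.Lib.Helper43_OX2_BR_IOTA2
import Cfsg.Agent.Lib.Helper44_OX2_E_ARITH
import Cfsg.Agent.Lib.Helper47_OX2_COMM_IOTA
import Cfsg.Agent.Lib.Helper48_OX2_COMM_N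
import Cfsg.Agent.Lib.Helper51_OX2_E_PERP
import Cfsg.Agent.Lib.Helper52_OX2_S_SCAL
import Cfsg.Agent.Lib.Helper53_OX2_BRIOTA1
import Cfsg.Agent.Lib.Helper53_OX2_GPERP2
import Cfsg.Agent.Lib.Helper54_OX2_E_A
import Cfsg.Agent.Lib.Helper54_OX2_E_MAIN
import Cfsg.Agent.Lib.Helper57_OX2_E_B1
import Cfsg.Agent.Lib.Helper61_OX2_S_FIN
import Cfsg.Agent.Lib.Helper61_OX2_S_PLANE
import Cfsg.Agent.Lib.Helper78_OX2_E_UNIV
import Cfsg.Agent.Lib.Helper78_OX2_S_POINTaux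
import Cfsg.Agent.Lib.Helper80_OX2_BR_SIEG
import Cfsg.Agent.Lib.Helper82_OX2_ALL3
import Cfsg.Agent.Lib.Helper82_OX2_G_HYP
import Cfsg.Agent.Lib.Helper82_OX2_G_LINES
import Cfsg.Agent.Lib.Helper86_OX2_G_HYP2
import Cfsg.Agent.Lib.Helper89_OX2_ALL4
import Cfsg.Agent.Lib.Helper89_OX2_LONGCOMM
import Cfsg.Agent.Lib.Helper89_OX2_T1
import Cfsg.Agent.Lib.Helper89_OX2_TRANS
import Cfsg.Agent.Lib.Helper90_OX2_ALL1aux
import Cfsg.Agent.Lib.Helper92_OX2_ALL2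
import Cfsg.Agent.Lib.Helper93_OX2_COMM_ABS
import Cfsg.Agent.Lib.Helper99_OX2_BR_CTX

set_option autoImplicit false
set_option linter.unusedSectionVars false
set_option linter.unusedVariables false

/-!
# OEXT2: the package theorems, collected under uniform names (helper97)
-/

namespace Cfsg.Agent.Lib.Helper97_OX2Deps

open Module Cfsg.Agent.Lib.Helper94_OrthSmall Cfsg.Agent.Lib.Helper94_OrthSiegel
  Cfsg.Agent.Lib.Helper98_ExtDefs Cfsg.Agent.Lib.Helper97_OX2Defs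
open scoped commutatorElement

/-! ## GEO: a nondegenerate quadratic space `(Q, B)` of dimension at least five over a finite field
(general field `K`, no subfield) -/

section GEO

variable {K V : Type*} [Field K] [AddCommGroup V] [Module K V]
  (Q : V → K) (B : LinearMap.BilinForm K V)
  (hQs : ∀ (c : K) (v : V), Q (c • v) = c * c * Q v)
  (hQp : ∀ u v : V, Q (u + v) = Q u + Q v + B u v)

include hQs hQp

/-- G_HYP: a singular vector has a singular partner -/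
theorem exists_hyp (hN : B.Nondegenerate) {p : V} (hp0 : p ≠ 0) (hp : Q p = 0) :
    ∃ p' : V, Q p' = 0 ∧ B p p' = 1 :=
  Cfsg.Agent.Lib.Helper82_OX2_G_HYP.exists_hyp Q B hQs hQp hN hp0 hp

/-- G_PERP2: a nonzero singular vector orthogonal to two given vectors -/
theorem exists_sing_perp2 [Finite K] [FiniteDimensional K V] (hm : 5 ≤ finrank K V) (p p' : V) :
    ∃ y : V, y ≠ 0 ∧ Q y = 0 ∧ B p y = 0 ∧ B p' y = 0 :=
  Cfsg.Agent.Lib.Helper53_OX2_GPERP2.exists_sing_perp2 Q B hQs hQp hm p p'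

/-- G_HYP2: a second hyperbolic pair orthogonal to a given one -/
theorem exists_hyp2 [Finite K] [FiniteDimensional K V] (hN : B.Nondegenerate)
    (hm : 5 ≤ finrank K V) {a a' : V} (ha : Q a = 0) (ha' : Q a' = 0) (haa' : B a a' = 1) :
    ∃ b b' : V, Q b = 0 ∧ Q b' = 0 ∧ B b b' = 1 ∧ B a b = 0 ∧ B a b' = 0 ∧ B a' b = 0 ∧
      B a' b' = 0 :=
  Cfsg.Agent.Lib.Helper86_OX2_G_HYP2.exists_hyp2 Q B hQs hQp hN hm ha ha' haa'

/-- G_SPAN: the singular vectors orthogonal to a nonzero singular `a` generate `a^⊥` additively -/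
theorem sing_span_perp [Finite K] [FiniteDimensional K V] (hN : B.Nondegenerate)
    (hm : 5 ≤ finrank K V) {a : V} (ha0 : a ≠ 0) (ha : Q a = 0) {f : V} (hf : B a f = 0) :
    f ∈ AddSubgroup.closure {p : V | Q p = 0 ∧ B a p = 0} :=
  Cfsg.Agent.Lib.Helper24_OX2_G_SPAN.sing_span_perp Q B hQs hQp hN hm ha0 ha hf

/-- G_SPAN (corollary): the singular vectors generate `V` additively -/
theorem sing_span [Finite K] [FiniteDimensional K V] (hN : B.Nondegenerate)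
    (hm : 5 ≤ finrank K V) (v : V) : v ∈ AddSubgroup.closure {p : V | Q p = 0} :=
  Cfsg.Agent.Lib.Helper24_OX2_G_SPAN.sing_span Q B hQs hQp hN hm v

/-- G_LINES: two totally singular lines through a singular point meeting only in that point -/
theorem exists_two_lines [Finite K] [FiniteDimensional K V] (hN : B.Nondegenerate)
    (hm : 5 ≤ finrank K V) {p : V} (hp0 : p ≠ 0) (hp : Q p = 0) :
    ∃ a b : V, Q a = 0 ∧ Q b = 0 ∧ B p a = 0 ∧ B p b = 0 ∧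
      ∀ x y z : K, x • p + y • a + z • b = 0 → x = 0 ∧ y = 0 ∧ z = 0 :=
  Cfsg.Agent.Lib.Helper82_OX2_G_LINES.exists_two_lines_aux Q B hQs hQp hN (fun ha ha' haa' => exists_hyp2 Q B hQs hQp hN hm ha ha' haa') hp0 hp

/-- T2: a singular vector orthogonal to neither of two given nonzero singular vectors -/
theorem exists_common [Finite K] [FiniteDimensional K V] (hN : B.Nondegenerate)
    (hm : 5 ≤ finrank K V) {p v : V} (hp0 : p ≠ 0) (hv0 : v ≠ 0) (hp : Q p = 0) (hv : Q v = 0) :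
    ∃ u : V, Q u = 0 ∧ B p u ≠ 0 ∧ B v u ≠ 0 :=
  Cfsg.Agent.Lib.Helper24_OX2_T2.exists_common Q B hQs hQp hN hm hp0 hv0 hp hv

/-- T1: the Siegel element `sieg Q B u (v - p)` maps `p` to `v` when `B p u = B v u = 1` -/
theorem sieg_trans {p v u : V} (hp : Q p = 0) (hv : Q v = 0) (hu : Q u = 0) (hpu : B p u = 1)
    (hvu : B v u = 1) : B u (v - p) = 0 ∧ sieg Q B u (v - p) p = v :=
  Cfsg.Agent.Lib.Helper89_OX2_T1.sieg_trans Q B hQs hQp hp hv hu hpu hvu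

/-- LONGCOMM: the commutator of two long root elements whose planes pair with rank one -/
theorem long_comm2 {a b c d : V} (ha : Q a = 0) (hb : Q b = 0) (hc : Q c = 0) (hd : Q d = 0)
    (hab : B a b = 0) (hcd : B c d = 0) (hac : B a c = 0) (had : B a d = 0) (hbc : B b c = 0) :
    ⁅sieg Q B a b, sieg Q B c d⁆ = sieg Q B a (B b d • c) :=
  Cfsg.Agent.Lib.Helper89_OX2_LONGCOMM.long_comm2 Q B hQs hQp ha hb hc hd hab hcd hac had hbc

/-- E_UNIV: a binary quadratic form with nonzero discriminant over a finite field of odd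
characteristic is universal -/
theorem binary_universal [Finite K] (h2 : (2 : K) ≠ 0) {x y : V}
    (hd : B x x * B y y - B x y * B x y ≠ 0) (c : K) : ∃ s t : K, Q (s • x + t • y) = c :=
  Cfsg.Agent.Lib.Helper78_OX2_E_UNIV.binary_universal Q B hQs hQp h2 hd c

/-- E_PERP (a): double orthogonal complement -/
theorem perp_perp [FiniteDimensional K V] (hN : B.Nondegenerate) (t : Submodule K V) (v : V)
    (h : ∀ w : V, (∀ x ∈ t, B x w = 0) → B w v = 0) : v ∈ t :=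
  Cfsg.Agent.Lib.Helper51_OX2_E_PERP.perp_perp Q B hQs hQp hN t v h

/-- E_PERP (b): the orthogonal complement of a small totally singular subspace contains a
nonsingular vector -/
theorem exists_nonsing_perp [FiniteDimensional K V] (hN : B.Nondegenerate) (t : Submodule K V)
    (hts : ∀ x ∈ t, Q x = 0) (hdim : 2 * finrank K t < finrank K V) :
    ∃ u₁ : V, (∀ x ∈ t, B x u₁ = 0) ∧ Q u₁ ≠ 0 :=
  Cfsg.Agent.Lib.Helper51_OX2_E_PERP.exists_nonsing_perp Q B hQs hQp hN t hts hdim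

/-- COMM_ABS: the commutator of `1 + N'` and `1 + N''` -/
theorem comm_abs (h2 : (2 : K) ≠ 0) (t' t'' : Submodule K V) (ht' : ∀ x ∈ t', Q x = 0)
    (ht'' : ∀ x ∈ t'', Q x = 0) (N' N'' : V →ₗ[K] V)
    (hs' : ∀ x y, B (N' x) y = -B x (N' y)) (hi' : ∀ x, N' x ∈ t')
    (hk' : ∀ x, (∀ y ∈ t', B x y = 0) → N' x = 0)
    (hs'' : ∀ x y, B (N'' x) y = -B x (N'' y)) (hi'' : ∀ x, N'' x ∈ t'')
    (hk'' : ∀ x, (∀ y ∈ t'', B x y = 0) → N'' x = 0)
    {a'' b' : V} (ha : a'' ∈ t'') (hb : b' ∈ t') (hβ : B a'' b' ≠ 0)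
    (h1 : ∀ x ∈ t'', ∃ s : K, x - s • a'' ∈ t') (h2' : ∀ x ∈ t', ∃ s : K, x - s • b' ∈ t'')
    (g₁ g₂ : V ≃ₗ[K] V) (hg₁ : ∀ x, g₁ x = x + N' x) (hg₂ : ∀ x, g₂ x = x + N'' x) :
    ⁅g₁, g₂⁆ = sieg Q B (N' a'') ((B a'' b')⁻¹ • N'' b') :=
  Cfsg.Agent.Lib.Helper93_OX2_COMM_ABS.comm_abs Q B hQs hQp h2 t' t'' ht' ht'' N' N'' hs' hi' hk' hs'' hi'' hk'' ha hb hβ h1 h2' g₁ g₂ hg₁ hg₂

end GEO

/-! ## The extension setting -/

variable {F K V : Type*} [Field F] [Field K] [Algebra F K] [AddCommGroup V] [Module F V]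
  [Module K V] [IsScalarTower F K V]
variable {θ : K} {ε : F} {τ : K →ₗ[F] F} {QK : V → K} {BK : LinearMap.BilinForm K V}

/-! ### Part S: the semilinearity criterion -/

/-- S_PLANE: an `F`-linear map stabilising every `K`-point of a `K`-plane is a `K`-scalar on it -/
theorem plane_scalar (A : V →ₗ[F] V) (u w : V)
    (hind : ∀ a b : K, a • u + b • w = 0 → a = 0 ∧ b = 0)
    (hA : ∀ a b : K, ∃ c : K, A (a • u + b • w) = c • (a • u + b • w)) :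
    ∃ c : K, ∀ a b : K, A (a • u + b • w) = c • (a • u + b • w) :=
  Cfsg.Agent.Lib.Helper61_OX2_S_PLANE.plane_scalar A u w hind hA

/-- S_POINT: if `g` maps the totally singular `K`-lines onto `K`-invariant subspaces, it maps the
singular `K`-points onto `K`-invariant subspaces -/
theorem point_of_lines [Finite F] [Finite K] [Module.Finite K V] (C : Ctx θ ε τ QK BK)
    (g : V ≃ₗ[F] V)
    (h : ∀ u w : V, QK u = 0 → QK w = 0 → BK u w = 0 →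
      (∀ x y : K, x • u + y • w = 0 → x = 0 ∧ y = 0) → ∀ k a b : K,
      ∃ a' b' : K, k • g (a • u + b • w) = g (a' • u + b' • w)) :
    ∀ p : V, QK p = 0 → ∀ k : K, ∃ c : K, k • g p = g (c • p) :=
  Cfsg.Agent.Lib.Helper78_OX2_S_POINTaux.point_of_lines_of (fun p hp0 hp => exists_two_lines QK BK C.hQs C.hQp C.hN C.hm hp0 hp) g h

/-- S_SCAL: the conjugate scalar action is again scalar -/
theorem scalar_of_points [Finite F] [Finite K] [Module.Finite K V] (C : Ctx θ ε τ QK BK)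
    (g : V ≃ₗ[F] V) (h : ∀ p : V, QK p = 0 → ∀ k : K, ∃ c : K, k • g p = g (c • p)) :
    ∀ k : K, ∃ c : K, ∀ v : V, k • g v = g (c • v) :=
  Cfsg.Agent.Lib.Helper52_OX2_S_SCAL.scalar_of_points C g h

/-- S_FIN -/
theorem semilin_of_scalar [Finite K] (hV : ∃ v : V, v ≠ 0) (g : V ≃ₗ[F] V)
    (h : ∀ k : K, ∃ c : K, ∀ v : V, k • g v = g (c • v)) : IsSemilin F K V g :=
  Cfsg.Agent.Lib.Helper61_OX2_S_FIN.semilin_of_scalar hV g h

/-! ### Part E: the vector `u₀` -/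

/-- E_ARITH -/
theorem exists_nonsq [Finite F] (C : Ctx θ ε τ QK BK) (a b₀ : F) (ha : a ≠ 0) :
    ∃ b : F, b ≠ b₀ ∧ ¬ IsSquare (algebraMap F K a + b • θ) :=
  Cfsg.Agent.Lib.Helper44_OX2_E_ARITH.exists_nonsq C a b₀ ha

/-- E_RANK: if all `2 × 2` minors of `BK` on the totally singular `t` vanish, the radical of
`BK` on `t` has codimension at most one in `t` -/
theorem rank_le_one (C : Ctx θ ε τ QK BK) (t : Submodule F V)
    (hts : ∀ x ∈ t, trQ τ QK x = 0)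
    (hmin : ∀ x ∈ t, ∀ y ∈ t, BK x x * BK y y - BK x y * BK x y = 0) :
    ∃ x₀ ∈ t, ∀ y ∈ t, ∃ s : F, ∀ z ∈ t, BK (y - s • x₀) z = 0 :=
  Cfsg.Agent.Lib.Helper42_OX2_E_RANK.rank_le_one C t hts hmin

/-- E_PAR: a `K`-invariant subspace of codimension at most one in a `4`-dimensional `t` is `t` -/
theorem eq_of_codim_one [Module.Finite F V] (C : Ctx θ ε τ QK BK) (t R : Submodule F V)
    (ht4 : finrank F t = 4) (hRt : R ≤ t) (hRK : IsKinv K R) {x₀ : V}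
    (hx : ∀ y ∈ t, ∃ s : F, y - s • x₀ ∈ R) : R = t :=
  Cfsg.Agent.Lib.Helper42_OX2_E_PAR.eq_of_codim_one C t R ht4 hRt hRK hx

/- `GoodU` is in Helper97_OX2Defs -/

/-- E_A: rank at least two -/
theorem exists_u0_caseA [Finite F] (C : Ctx θ ε τ QK BK) (t : Submodule F V)
    (hts : ∀ x ∈ t, trQ τ QK x = 0) {x y : V} (hx : x ∈ t) (hy : y ∈ t)
    (hd : BK x x * BK y y - BK x y * BK x y ≠ 0) {u₁ : V}
    (hu₁ : ∀ z ∈ t, trB τ BK z u₁ = 0) (hQu₁ : trQ τ QK u₁ ≠ 0) :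
    ∃ u₀ : V, GoodU τ QK BK t u₀ :=
  Cfsg.Agent.Lib.Helper54_OX2_E_A.exists_u0_caseA C t hts hx hy hd hu₁ hQu₁

/-- E_B1: a radical vector not `K`-orthogonal to a nonsingular vector of `t^⊥` -/
theorem exists_u0_caseB [Finite F] (C : Ctx θ ε τ QK BK) (t : Submodule F V)
    (hts : ∀ x ∈ t, trQ τ QK x = 0) {u₁ ρ : V}
    (hu₁ : ∀ z ∈ t, trB τ BK z u₁ = 0) (hQu₁ : trQ τ QK u₁ ≠ 0)
    (hρ : ρ ∈ t) (hρR : ∀ z ∈ t, BK ρ z = 0) (hne : BK u₁ ρ ≠ 0) :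
    ∃ u₀ : V, GoodU τ QK BK t u₀ :=
  Cfsg.Agent.Lib.Helper57_OX2_E_B1.exists_u0_caseB C t hts hu₁ hQu₁ hρ hρR hne

/-- E_MAIN -/
theorem exists_u0 [Finite F] [Finite K] [Module.Finite F V] [Module.Finite K V]
    (C : Ctx θ ε τ QK BK) (t : Submodule F V)
    (ht4 : finrank F t = 4) (hts : ∀ x ∈ t, trQ τ QK x = 0) (hnK : ¬ IsKinv K t) :
    ∃ u₀ : V, GoodU τ QK BK t u₀ :=
  Cfsg.Agent.Lib.Helper54_OX2_E_MAIN.exists_u0 C t ht4 hts hnK

/-! ### Part COMM -/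

/-- COMM_N: the nilpotent part of a `K`-Siegel element of a totally singular `K`-line -/
theorem nmap_props (C : Ctx θ ε τ QK BK) {u w : V} (hu : QK u = 0) (hw : QK w = 0)
    (huw : BK u w = 0) (κ : K) :
    (∀ x, ksieg F QK BK (κ • u) w x = x + nmap F BK κ u w x) ∧
    (∀ x y, trB τ BK (nmap F BK κ u w x) y = -trB τ BK x (nmap F BK κ u w y)) ∧
    (∀ x, (∀ a b : K, trB τ BK x (a • u + b • w) = 0) → nmap F BK κ u w x = 0) ∧
    (∀ x, nmap F BK κ u w x = κ • nmap F BK 1 u w x) ∧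
    (∀ x, ∃ a b : K, nmap F BK 1 u w x = a • u + b • w) :=
  Cfsg.Agent.Lib.Helper48_OX2_COMM_N.nmap_props C hu hw huw κ

/-- COMM_IOTA: the `K`-reflection in `u₀` against the totally singular `t ⊆ u₀^⊥` -/
theorem iota_props (C : Ctx θ ε τ QK BK) (t : Submodule F V) (hts : ∀ x ∈ t, trQ τ QK x = 0)
    {u₀ : V} (hperp : ∀ z ∈ t, trB τ BK z u₀ = 0) (hτd : τ (QK u₀) ≠ 0) {b' : V} (hb' : b' ∈ t)
    (hne : BK b' u₀ ≠ 0) (ι : V ≃ₗ[F] V) (hι : ∀ x, ι x = x - ((QK u₀)⁻¹ * BK x u₀) • u₀) :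
    (∀ x, ι (ι x) = x) ∧ ι ∈ oG (trQ τ QK) ∧
    (∀ x ∈ t, ∃ s : F, ι x = x - s • (b' - ι b')) ∧
    trB τ BK (ι b') b' ≠ 0 ∧
    (∀ e ∈ t, trB τ BK e (ι b') = 0 → ι e = e) :=
  Cfsg.Agent.Lib.Helper47_OX2_COMM_IOTA.iota_props C t hts hperp hτd hb' hne ι hι

/- `Root` is in Helper97_OX2Defs -/

/-- COMM_APP -/
theorem root_of_u0 (C : Ctx θ ε τ QK BK) (M : Subgroup (V ≃ₗ[F] V)) (hM : HypO τ QK BK M)
    {g : V ≃ₗ[F] V} (hg : g ∈ M) {u w : V} (hu : QK u = 0) (hw : QK w = 0) (huw : BK u w = 0)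
    (hind : ∀ x y : K, x • u + y • w = 0 → x = 0 ∧ y = 0)
    {u₀ : V} (hperp : ∀ a b : K, trB τ BK (g (a • u + b • w)) u₀ = 0) (hτd : τ (QK u₀) ≠ 0)
    (hns : ¬ IsSquare (QK u₀)) {a₀ b₀ : K} (hne : BK (g (a₀ • u + b₀ • w)) u₀ ≠ 0) :
    ∃ p₁ : V, p₁ ≠ 0 ∧ QK p₁ = 0 ∧ Root τ QK BK M p₁ :=
  Cfsg.Agent.Lib.Helper12_OX2_COMM_APPaux.root_of_u0_of C M hM (fun hu hw huw κ => nmap_props C hu hw huw κ) (fun t hts _ hperp hτd _ hb' hne ι hι => iota_props C t hts hperp hτd hb' hne ι hι) (fun t' t'' ht' ht'' N' N'' hs' hi' hk' hs'' hi'' hk'' _ _ ha hb hβ h1 h2' g₁ g₂ hg₁ hg₂ => comm_abs (trQ τ QK) (trB τ BK) C.trQ_smul C.trQ_add C.h2 t' t'' ht' ht'' N' N'' hs' hi' hk' hs'' hi'' hk'' ha hb hβ h1 h2' g₁ g₂ hg₁ hg₂) hg hu hw huw hind hperp hτd hns hne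

/-! ### Part ALL -/

/-- TRANS: the group generated by the `K`-Siegel elements is transitive on singular `K`-points -/
theorem ks_trans [Finite F] [Finite K] [Module.Finite K V] (C : Ctx θ ε τ QK BK) {p v : V}
    (hp0 : p ≠ 0) (hv0 : v ≠ 0) (hp : QK p = 0) (hv : QK v = 0) :
    ∃ h ∈ KS F QK BK, ∃ c : K, c ≠ 0 ∧ h p = c • v :=
  Cfsg.Agent.Lib.Helper89_OX2_TRANS.ks_trans C hp0 hv0 hp hv

/-- ALL1 -/
theorem root_all [Finite F] [Finite K] [Module.Finite K V] (C : Ctx θ ε τ QK BK)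
    (M : Subgroup (V ≃ₗ[F] V)) (hM : HypO τ QK BK M) {p₁ : V} (hp0 : p₁ ≠ 0) (hp : QK p₁ = 0)
    (hroot : Root τ QK BK M p₁) : ∀ v : V, QK v = 0 → Root τ QK BK M v :=
  Cfsg.Agent.Lib.Helper90_OX2_ALL1aux.root_all_of C (fun hp0 hv0 hp hv => ks_trans C hp0 hv0 hp hv) M hM hp0 hp hroot

/-- ALL2 -/
theorem line_all (C : Ctx θ ε τ QK BK) (M : Subgroup (V ≃ₗ[F] V)) (hM : HypO τ QK BK M)
    (hroot : ∀ v : V, QK v = 0 → sieg (trQ τ QK) (trB τ BK) v (θ • v) ∈ M) {x y : V}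
    (hx : QK x = 0) (hy : QK y = 0) (hxy : BK x y = 0) :
    sieg (trQ τ QK) (trB τ BK) x y ∈ M :=
  Cfsg.Agent.Lib.Helper92_OX2_ALL2.line_all C M hM hroot hx hy hxy

/-- ALL3 -/
theorem perp_all [Finite F] [Finite K] [Module.Finite K V] (C : Ctx θ ε τ QK BK)
    (M : Subgroup (V ≃ₗ[F] V)) (hM : HypO τ QK BK M)
    (hline : ∀ x y : V, QK x = 0 → QK y = 0 → BK x y = 0 → sieg (trQ τ QK) (trB τ BK) x y ∈ M)
    {a f : V} (ha : QK a = 0) (hf : BK a f = 0) : sieg (trQ τ QK) (trB τ BK) a f ∈ M :=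
  Cfsg.Agent.Lib.Helper82_OX2_ALL3.perp_all C M hM hline ha hf

/-- ALL4 -/
theorem full_of_perp [Finite F] [Finite K] [Module.Finite K V] (C : Ctx θ ε τ QK BK)
    (M : Subgroup (V ≃ₗ[F] V)) (hM : HypO τ QK BK M)
    (hperp : ∀ a f : V, QK a = 0 → BK a f = 0 → sieg (trQ τ QK) (trB τ BK) a f ∈ M)
    {a f : V} (ha : QK a = 0) (hf : trB τ BK a f = 0) : sieg (trQ τ QK) (trB τ BK) a f ∈ M :=
  Cfsg.Agent.Lib.Helper89_OX2_ALL4.full_of_perp C M hM hperp ha hf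

/-! ### The bridge form -/

/-- BR_CTX: a quadratic extension in odd characteristic is `F(θ)` with `θ² ∈ F` -/
theorem exists_theta [Finite F] [Finite K] (h2 : (2 : F) ≠ 0) (hr : finrank F K = 2) :
    ∃ (θ : K) (ε : F), θ * θ = algebraMap F K ε ∧ (∀ x : F, algebraMap F K x ≠ θ) ∧
      (∀ k : K, ∃ x y : F, k = algebraMap F K x + y • θ) ∧ Algebra.trace F K θ = 0 ∧
      Algebra.trace F K (1 : K) = 2 :=
  Cfsg.Agent.Lib.Helper99_OX2_BR_CTX.exists_theta h2 hr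

/-- BR_SIEG: the `K`-Siegel elements are commutators of isometries of `Q = τ ∘ QK` -/
theorem ksieg_mem_commutator [Finite F] [Finite K] [Module.Finite K V] (C : Ctx θ ε τ QK BK)
    {u w : V} (hu : QK u = 0) (huw : BK u w = 0) :
    ksieg F QK BK u w ∈ ⁅oG (trQ τ QK), oG (trQ τ QK)⁆ :=
  Cfsg.Agent.Lib.Helper80_OX2_BR_SIEG.ksieg_mem_commutator C hu huw

/-- BR_IOTA1: the `K`-reflection in `u₀` is the product of two `F`-reflections in orthogonal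
vectors of `K u₀` with the same value of `Q` -/
theorem krefl_eq [Finite F] (C : Ctx θ ε τ QK BK) {u₀ : V} (hτd : τ (QK u₀) ≠ 0)
    (hns : ¬ IsSquare (QK u₀)) :
    ∃ μ : K, trB τ BK u₀ (μ • u₀) = 0 ∧ trQ τ QK (μ • u₀) = trQ τ QK u₀ ∧
      ∀ x : V, x - ((QK u₀)⁻¹ * BK x u₀) • u₀ =
        x - ((trQ τ QK u₀)⁻¹ * trB τ BK x u₀) • u₀
          - ((trQ τ QK u₀)⁻¹ * trB τ BK x (μ • u₀)) • (μ • u₀) :=
  Cfsg.Agent.Lib.Helper53_OX2_BRIOTA1.krefl_eq C hτd hns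

/-- BR_IOTA2: such `K`-reflections are products of commutators of isometries of `Q = τ ∘ QK` -/
theorem krefl_mem_commutator [Finite F] [Finite K] [Module.Finite K V] (C : Ctx θ ε τ QK BK)
    {u₀ : V} (hτd : τ (QK u₀) ≠ 0) (hns : ¬ IsSquare (QK u₀)) :
    ∃ g ∈ ⁅oG (trQ τ QK), oG (trQ τ QK)⁆, (∀ x, g x = x - ((QK u₀)⁻¹ * BK x u₀) • u₀) ∧
      ∀ (k : K) (x : V), g (k • x) = k • g x :=
  Cfsg.Agent.Lib.Helper43_OX2_BR_IOTA2.krefl_mem_commutator_of C hτd hns (krefl_eq C hτd hns)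

end Cfsg.Agent.Lib.Helper97_OX2Deps
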