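import Mathlib
import Cfsg.Agent.Lib.Helper97_OX2Defs
import Cfsg.Agent.Lib.Helper94_OrthVec
import Cfsg.Agent.Lib.Helper97_OX2Deps

set_option autoImplicit false
set_option linter.unusedSectionVars false

/-!
# OEXT2: the abstract main theorem (helper97)

`HypO τ QK BK M` implies that every element of `M` is `K`-semilinear or that `M` contains all
Siegel elements of the `F`-quadratic form `τ ∘ QK`.  Proof: `pending/helper97/OEXT2_proof.md`.
-/

namespace Cfsg.Agent.Lib.Helper97_OX2Main

open Module Cfsg.Agent.Lib.Helper94_OrthSmall Cfsg.Agent.Lib.Helper94_OrthSiegel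
  Cfsg.Agent.Lib.Helper98_ExtDefs Cfsg.Agent.Lib.Helper97_OX2Defs
  Cfsg.Agent.Lib.Helper97_OX2Deps

variable {F K V : Type*} [Field F] [Field K] [Algebra F K] [AddCommGroup V] [Module F V]
  [Module K V] [IsScalarTower F K V]
variable {θ : K} {ε : F} {τ : K →ₗ[F] F} {QK : V → K} {BK : LinearMap.BilinForm K V}

/-- the `K`-line spanned by `u, w`, as an `F`-subspace -/
def kl (F : Type*) {K V : Type*} [Field F] [Field K] [Algebra F K] [AddCommGroup V] [Module F V]
    [Module K V] [IsScalarTower F K V] (u w : V) : Submodule F V :=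
  (Submodule.span K {u, w}).restrictScalars F

theorem mem_kl {u w x : V} : x ∈ kl F (K := K) u w ↔ ∃ a b : K, x = a • u + b • w := by
  unfold kl
  rw [Submodule.restrictScalars_mem, Submodule.mem_span_pair]
  constructor
  · rintro ⟨a, b, h⟩; exact ⟨a, b, h.symm⟩
  · rintro ⟨a, b, h⟩; exact ⟨a, b, h.symm⟩

theorem finrank_kl (C : Ctx θ ε τ QK BK) {u w : V}
    (hind : ∀ x y : K, x • u + y • w = 0 → x = 0 ∧ y = 0) :
    finrank F (kl F (K := K) u w) = 4 := by
  have hli : LinearIndependent K ![u, w] := LinearIndependent.pair_iff.mpr hind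
  have h1 : finrank K (Submodule.span K {u, w}) = 2 := by
    have := finrank_span_eq_card hli
    have hr : Set.range ![u, w] = {u, w} := by
      ext z
      simp only [Set.mem_range, Set.mem_insert_iff, Set.mem_singleton_iff]
      constructor
      · rintro ⟨i, rfl⟩
        fin_cases i
        · left; rfl
        · right; rfl
      · rintro (rfl | rfl)
        · exact ⟨0, rfl⟩
        · exact ⟨1, rfl⟩
    rw [hr] at this
    simpa using this
  have h2 : finrank F (kl F (K := K) u w) = finrank F (Submodule.span K {u, w}) := rfl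
  rw [h2, ← Module.finrank_mul_finrank F K (Submodule.span K {u, w}), h1, C.finrank_FK]

theorem main_abstract [Finite F] [Finite K] [Module.Finite F V] [Module.Finite K V]
    (C : Ctx θ ε τ QK BK) (M : Subgroup (V ≃ₗ[F] V)) (hM : HypO τ QK BK M) :
    (∀ g ∈ M, IsSemilin F K V g) ∨ AllSieg (trQ τ QK) (trB τ BK) M := by
  classical
  by_cases hall : ∀ g ∈ M, ∀ u w : V, QK u = 0 → QK w = 0 → BK u w = 0 →
      (∀ x y : K, x • u + y • w = 0 → x = 0 ∧ y = 0) → ∀ k a b : K,
      ∃ a' b' : K, k • g (a • u + b • w) = g (a' • u + b' • w)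
  · left
    intro g hg
    have hV : ∃ v : V, v ≠ 0 := by
      have hpos : 0 < finrank K V := lt_of_lt_of_le (by norm_num) C.hm
      have : Nontrivial V := Module.nontrivial_of_finrank_pos (R := K) hpos
      exact exists_ne 0
    exact semilin_of_scalar hV g (scalar_of_points C g (point_of_lines C g (hall g hg)))
  · right
    push Not at hall
    obtain ⟨g, hg, u, w, hu, hw, huw, hind, k, a, b, hbad⟩ := hall
    have hgO : g ∈ oG (trQ τ QK) := hM.le hg
    set t : Submodule F V := (kl F (K := K) u w).map g.toLinearMap with ht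
    have hmemt : ∀ x, x ∈ t ↔ ∃ a b : K, x = g (a • u + b • w) := by
      intro x
      rw [ht, Submodule.mem_map]
      constructor
      · rintro ⟨y, hy, rfl⟩
        obtain ⟨a, b, rfl⟩ := mem_kl.mp hy
        exact ⟨a, b, rfl⟩
      · rintro ⟨a, b, rfl⟩
        exact ⟨a • u + b • w, mem_kl.mpr ⟨a, b, rfl⟩, rfl⟩
    have ht4 : finrank F t = 4 := by
      rw [ht, LinearEquiv.finrank_map_eq, finrank_kl C hind]
    have hQl : ∀ a b : K, QK (a • u + b • w) = 0 := by
      intro a b
      rw [C.hQp, C.hQs, C.hQs, hu, hw, map_smul, map_smul, LinearMap.smul_apply, huw]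
      simp
    have hts : ∀ x ∈ t, trQ τ QK x = 0 := by
      intro x hx
      obtain ⟨a, b, rfl⟩ := (hmemt x).mp hx
      rw [hgO, trQ_eq_zero (hQl a b)]
    have hnK : ¬ IsKinv K t := by
      intro hK
      have h1 := hK k _ ((hmemt _).mpr ⟨a, b, rfl⟩)
      obtain ⟨a', b', h2⟩ := (hmemt _).mp h1
      exact hbad a' b' h2
    obtain ⟨u₀, h1, h2, h3, b', hb't, hb'⟩ := exists_u0 C t ht4 hts hnK
    obtain ⟨a₀, b₀, rfl⟩ := (hmemt b').mp hb't
    obtain ⟨p₁, hp0, hp, hroot⟩ := root_of_u0 C M hM hg hu hw huw hind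
      (fun a b => h1 _ ((hmemt _).mpr ⟨a, b, rfl⟩)) h2 h3 hb'
    have hrall := root_all C M hM hp0 hp hroot
    have hline : ∀ x y : V, QK x = 0 → QK y = 0 → BK x y = 0 →
        sieg (trQ τ QK) (trB τ BK) x y ∈ M := by
      intro x y hx hy hxy
      refine line_all C M hM (fun v hv => ?_) hx hy hxy
      have := hrall v hv 1 θ
      rwa [one_smul] at this
    have hperp : ∀ a f : V, QK a = 0 → BK a f = 0 → sieg (trQ τ QK) (trB τ BK) a f ∈ M :=
      fun a f ha hf => perp_all C M hM hline ha hf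
    have hfull : ∀ a f : V, QK a = 0 → trB τ BK a f = 0 → sieg (trQ τ QK) (trB τ BK) a f ∈ M :=
      fun a f ha hf => full_of_perp C M hM hperp ha hf
    obtain ⟨p', hp', hpp'⟩ := exists_hyp QK BK C.hQs C.hQp C.hN hp0 hp
    exact Cfsg.Agent.Lib.Helper94_OrthVec.all_of_pair (trQ τ QK) (trB τ BK) C.trQ_smul C.trQ_add
      C.trB_nondeg M hM.le ⟨trQ_eq_zero hp, fun z hz => hfull p₁ z hp hz⟩
      ⟨trQ_eq_zero hp', fun z hz => hfull p' z hp' hz⟩
      (by rw [trB_apply, hpp', C.hτ1]; exact one_ne_zero)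

end Cfsg.Agent.Lib.Helper97_OX2Main
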