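import Mathlib
import Cfsg.Agent.Lib.Helper97_OX2Defs
import Cfsg.Agent.Lib.Helper97_OX2Deps
import Cfsg.Agent.Lib.Helper97_OX2Main
import Cfsg.Agent.Lib.Helper61_OX2_BR_ABSaux

set_option autoImplicit false
set_option linter.unusedSectionVars false

/-!
# OEXT2: the abstract theorem in the form used by the Geo bridge (helper97)

`F ⊆ K` finite fields of odd characteristic, `[K : F] = 2`, `V` a `K`-space of dimension at least
five with a nondegenerate `K`-quadratic form `QK`, `Q = Tr_{K/F} ∘ QK`.  A subgroup `M` of `O(V, Q)`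
containing all `K`-semilinear elements of `Ω(V, Q) = ⁅oG Q, oG Q⁆` either consists of
`K`-semilinear maps or contains all Siegel elements of `Q`.
Assembly of `Helper61_OX2_BR_ABSaux.oext2_abstract_of` with `main_abstract`.
-/

namespace Cfsg.Agent.Lib.Helper97_OX2Final

open Module Cfsg.Agent.Lib.Helper94_OrthSmall Cfsg.Agent.Lib.Helper94_OrthSiegel
  Cfsg.Agent.Lib.Helper98_ExtDefs Cfsg.Agent.Lib.Helper97_OX2Defs
open scoped commutatorElement

variable {F K V : Type*} [Field F] [Field K] [Algebra F K] [AddCommGroup V] [Module F V]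
  [Module K V] [IsScalarTower F K V]

theorem oext2_abstract [Finite F] [Finite K] [Module.Finite F V] (h2 : (2 : F) ≠ 0)
    (hr : finrank F K = 2)
    (QK : V → K) (BK : LinearMap.BilinForm K V)
    (hQKs : ∀ (c : K) (v : V), QK (c • v) = c * c * QK v)
    (hQKp : ∀ u v : V, QK (u + v) = QK u + QK v + BK u v) (hNK : BK.Nondegenerate)
    (Q : V → F) (B : LinearMap.BilinForm F V)
    (hQs : ∀ (c : F) (v : V), Q (c • v) = c * c * Q v)
    (hQp : ∀ u v : V, Q (u + v) = Q u + Q v + B u v)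
    (htr : ∀ v : V, Algebra.trace F K (QK v) = Q v) (hm : 5 ≤ finrank K V)
    (M : Subgroup (V ≃ₗ[F] V)) (hM : M ≤ oG Q)
    (hsl : ∀ g ∈ ⁅oG Q, oG Q⁆, IsSemilin F K V g → g ∈ M) :
    (∀ g ∈ M, IsSemilin F K V g) ∨ AllSieg Q B M := by
  haveI : Module.Finite K V := Module.Finite.of_restrictScalars_finite F K V
  exact Cfsg.Agent.Lib.Helper61_OX2_BR_ABSaux.oext2_abstract_of h2 hr QK BK hQKs hQKp hNK Q B
    hQs hQp htr hm M hM hsl
    (Cfsg.Agent.Lib.Helper97_OX2Deps.exists_theta h2 hr)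
    (fun C _ _ hu huw => Cfsg.Agent.Lib.Helper97_OX2Deps.ksieg_mem_commutator C hu huw)
    (fun C _ hτd hns => Cfsg.Agent.Lib.Helper97_OX2Deps.krefl_mem_commutator C hτd hns)
    (fun C M hM => Cfsg.Agent.Lib.Helper97_OX2Main.main_abstract C M hM)

end Cfsg.Agent.Lib.Helper97_OX2Final
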