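import Mathlib
import Cfsg.Prelude.Def_GeometricClasses
import Cfsg.Agent.Lib.Helper29_OX2_Bridge
import Cfsg.Agent.Lib.Helper97_OX2Final

set_option autoImplicit false
set_option linter.unusedSectionVars false
set_option linter.unusedVariables false

/-!
# OEXT2, package BRIDGE (helper29): the normaliser of a self-adjoint field subalgebra of degree two is
maximal in `Ω_n(q)`, `q` odd, `n ≥ 10` (helper29's bridge + helper97's abstract theorem
`oext2_abstract`); verbatim conjuncts of omega10± (S5846, S5849) and omega12± (S5870, S5873).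
-/

open Module Matrix Cfsg.Geo

namespace Cfsg.Agent.Lib.Helper29_OX2_BRIDGE

universe u

/-- the maximality statement, general `n ≥ 10` -/
theorem oext2_maximal {F : Type u} [Field F] [Fintype F] (n : ℕ) (hn : 10 ≤ n)
    (Q : (Fin n → F) → F) (hQ : Cfsg.Geo.IsNondegenerateQuadraticForm Q)
    (hodd : Odd (Fintype.card F))
    (K : Subalgebra F (Matrix (Fin n) (Fin n) F)) (hK : Cfsg.Geo.IsFieldSubalgebra 2 K)
    (hsa : Cfsg.Geo.IsSelfAdjointFor (QuadraticMap.polar Q) K) :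
    Cfsg.Geo.IsMaximalIn (Cfsg.Geo.omegaGL Q)
      (Cfsg.Geo.subalgebraNormalizer K ⊓ Cfsg.Geo.omegaGL Q) := by
  refine Cfsg.Agent.Lib.Helper29_OX2_Bridge.bridge_orth2 n (by omega) Q hQ hodd K hK hsa ?_
  intro L _ _ _ V _ _ _ _ _ QK BK hQKs hQKp hNK Q' B' hQs hQp htr hfr hdim M hM hsl
  have h2 : (2 : F) ≠ 0 := Cfsg.Agent.Lib.Helper29_OX2_Bridge.two_ne_zero_of_odd' hodd
  haveI : Module.Finite F L := Module.Finite.of_finite
  have hmul := Module.finrank_mul_finrank F L V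
  have h5 : 5 ≤ finrank L V := by
    rw [hfr, hdim] at hmul
    omega
  exact Cfsg.Agent.Lib.Helper97_OX2Final.oext2_abstract h2 hfr QK BK hQKs hQKp hNK Q' B'
    hQs hQp htr h5 M hM hsl

/-- conjunct (11) of `S5846` / `S5849` (`Ω_10^±(q)`) -/
theorem omega10_ext2 {F : Type u} [Field F] [Fintype F] (Q : (Fin 10 → F) → F)
    (hQ : Cfsg.Geo.IsNondegenerateQuadraticForm Q) :
    Odd (Fintype.card F) → ∀ K : Subalgebra F (Matrix (Fin 10) (Fin 10) F),
      Cfsg.Geo.IsFieldSubalgebra 2 K → Cfsg.Geo.IsSelfAdjointFor (QuadraticMap.polar Q) K →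
      Cfsg.Geo.IsMaximalIn (Cfsg.Geo.omegaGL Q)
        (Cfsg.Geo.subalgebraNormalizer K ⊓ Cfsg.Geo.omegaGL Q) :=
  fun hodd K hK hsa => oext2_maximal 10 (by norm_num) Q hQ hodd K hK hsa

/-- the degree-two extension-field conjunct of `S5870` / `S5873` (`Ω_12^±(q)`) -/
theorem omega12_ext2 {F : Type u} [Field F] [Fintype F] (Q : (Fin 12 → F) → F)
    (hQ : Cfsg.Geo.IsNondegenerateQuadraticForm Q) :
    Odd (Fintype.card F) → ∀ K : Subalgebra F (Matrix (Fin 12) (Fin 12) F),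
      Cfsg.Geo.IsFieldSubalgebra 2 K → Cfsg.Geo.IsSelfAdjointFor (QuadraticMap.polar Q) K →
      Cfsg.Geo.IsMaximalIn (Cfsg.Geo.omegaGL Q)
        (Cfsg.Geo.subalgebraNormalizer K ⊓ Cfsg.Geo.omegaGL Q) :=
  fun hodd K hK hsa => oext2_maximal 12 (by norm_num) Q hQ hodd K hK hsa

end Cfsg.Agent.Lib.Helper29_OX2_BRIDGE
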