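import Mathlib
import Cfsg.Prelude.Def_GeometricClasses
import Cfsg.Agent.Lib.Helper29_OX2_Bridge

set_option autoImplicit false
set_option linter.unusedSectionVars false
set_option linter.unusedVariables false
set_option linter.style.haveILetI false

/-!
# Orthogonal extension-field bridge, degree three, `Ω_12^+(q)`, `q` odd (helper29, project OEXT3)

`Helper29_OX2_Bridge.bridge_orth2` for a field subalgebra of degree `3` of `M_12(F)`, self-adjoint
for the polar form of a nondegenerate quadratic form `Q` of PLUS type, in the shape requested by the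
OEXT3 architect (helper97): the abstract dichotomy `hmain` receives `finrank F L = 3`,
`finrank F V = 12` and a totally singular `F`-subspace of dimension six (from `IsPlusTypeOn Q ⊤`).
(helper59's `Helper59_OX3Bridge.bridge_orth3` is the same bridge handing over a hyperbolic `L`-basis
instead.)
-/

open Module Matrix Cfsg.Geo
open Cfsg.Agent.Lib.Helper94_Symp Cfsg.Agent.Lib.Helper94_Bridge
  Cfsg.Agent.Lib.Helper94_OrthSmall Cfsg.Agent.Lib.Helper94_OrthBridge
  Cfsg.Agent.Lib.Helper94_OrthSiegel Cfsg.Agent.Lib.Helper94_OrthSiegel2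
  Cfsg.Agent.Lib.Helper94_OrthGenBridge Cfsg.Agent.Lib.Helper94_OrthFinal
  Cfsg.Agent.Lib.Helper98_ExtDefs Cfsg.Agent.Lib.Helper97_OX2Defs
  Cfsg.Agent.Lib.Helper29_OX2_Bridge

namespace Cfsg.Agent.Lib.Helper29_OX3_Bridge

universe u

set_option maxHeartbeats 1600000 in
/-- the orthogonal extension-field bridge, degree three, `Ω_12^+(q)`, `q` odd -/
theorem bridge_orth3 {F : Type u} [Field F] [Fintype F]
    (Q : (Fin 12 → F) → F) (hQ : Cfsg.Geo.IsNondegenerateQuadraticForm Q)
    (hplus : Cfsg.Geo.IsPlusTypeOn Q ⊤)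
    (hodd : Odd (Fintype.card F))
    (K : Subalgebra F (Matrix (Fin 12) (Fin 12) F)) (hK : Cfsg.Geo.IsFieldSubalgebra 3 K)
    (hsa : Cfsg.Geo.IsSelfAdjointFor (QuadraticMap.polar Q) K)
    (hmain : ∀ (L : Type u) [Field L] [Algebra F L] [Finite L] (V : Type u) [AddCommGroup V]
        [Module F V] [Module L V] [IsScalarTower F L V] [Module.Finite F V]
        (QK : V → L) (BK : LinearMap.BilinForm L V),
        (∀ (c : L) (v : V), QK (c • v) = c * c * QK v) →
        (∀ u v : V, QK (u + v) = QK u + QK v + BK u v) → BK.Nondegenerate →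
        ∀ (Q' : V → F) (B' : LinearMap.BilinForm F V),
        (∀ (c : F) (v : V), Q' (c • v) = c * c * Q' v) →
        (∀ u v : V, Q' (u + v) = Q' u + Q' v + B' u v) →
        (∀ v : V, Algebra.trace F L (QK v) = Q' v) → finrank F L = 3 → finrank F V = 12 →
        (∃ W : Submodule F V, finrank F W = 6 ∧ ∀ x ∈ W, Q' x = 0) →
        ∀ M : Subgroup (V ≃ₗ[F] V), M ≤ oG Q' →
          (∀ g ∈ ⁅oG Q', oG Q'⁆, IsSemilin F L V g → g ∈ M) →
          (∀ g ∈ M, IsSemilin F L V g) ∨ AllSieg Q' B' M) :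
    Cfsg.Geo.IsMaximalIn (Cfsg.Geo.omegaGL Q)
      (Cfsg.Geo.subalgebraNormalizer K ⊓ Cfsg.Geo.omegaGL Q) := by
  classical
  obtain ⟨T, -, hTts, hT2⟩ := hplus
  have hT6 : finrank F T = 6 := by
    rw [finrank_top, Module.finrank_fintype_fun_eq_card, Fintype.card_fin] at hT2
    omega
  have h2 : (2 : F) ≠ 0 := two_ne_zero_of_odd' hodd
  haveI : Nonempty (Fin 12) := ⟨⟨0, by omega⟩⟩
  have hn : 7 ≤ 12 := by norm_num
  letI : Field ↥K := (Cfsg.Agent.Lib.Helper29_SpExtAll.isField_of' hK).toField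
  have hfr : finrank F ↥K = 3 := hK.finrank_eq
  haveI : Finite ↥K := Finite.of_injective (fun x : ↥K => x.1) Subtype.val_injective
  haveI : Nontrivial (Fin 12 → F) := Function.nontrivial
  set B₀ : LinearMap.BilinForm F (Fin 12 → F) := polarForm Q hQ with hB₀def
  have hQs := gen_hQs Q hQ
  have hQp : ∀ u v : Fin 12 → F, Q (u + v) = Q u + Q v + B₀ u v := gen_hQp Q hQ
  have hN₀ : B₀.Nondegenerate := gen_hN Q hQ
  have hsymm : ∀ u v : Fin 12 → F, B₀ u v = B₀ v u := B_symm Q B₀ hQp
  have hdimV : finrank F (Fin 12 → F) = 12 := by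
    rw [Module.finrank_fintype_fun_eq_card, Fintype.card_fin]
  -- the `K`-bilinear form with trace `B₀`
  have hτ : Cfsg.Agent.Lib.Helper97_UExtDefs.TauExt (RingHom.id F) (RingHom.id ↥K) :=
    ⟨fun _ => rfl, fun _ => rfl⟩
  have hadj : ∀ (k : ↥K) (u v : Fin 12 → F), B₀ (k • u) v = B₀ u ((RingHom.id ↥K) k • v) := by
    intro k u v
    exact hsa k.1 k.2 u v
  set BK : LinearMap.BilinForm ↥K (Fin 12 → F) :=
    Cfsg.Agent.Lib.Helper29_UX_BrTrace.trH hτ B₀ hadj with hBKdef
  have htrB : ∀ u v : Fin 12 → F, Algebra.trace F ↥K (BK u v) = B₀ u v :=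
    Cfsg.Agent.Lib.Helper29_UX_BrTrace.trace_trH hτ B₀ hadj
  have hBKsymm : ∀ u v : Fin 12 → F, BK u v = BK v u := by
    intro u v
    have hb : Cfsg.Agent.Lib.Helper94_Herm.IsHerm
        (B₀ : (Fin 12 → F) →ₗ[F] (Fin 12 → F) →ₛₗ[RingHom.id F] F) := fun a b => hsymm b a
    exact (Cfsg.Agent.Lib.Helper29_UX_BrTrace.trH_isHerm hτ B₀ hb hadj v u)
  have hBKN : BK.Nondegenerate := by
    have key : ∀ x : Fin 12 → F, (∀ y, BK x y = 0) → x = 0 := by
      intro x hx
      apply hN₀.1 x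
      intro y
      rw [← htrB, hx y, map_zero]
    refine ⟨key, fun y hy => key y (fun x => by rw [hBKsymm]; exact hy x)⟩
  -- the `K`-quadratic form
  set c2 : ↥K := algebraMap F ↥K (2 : F)⁻¹ with hc2
  have hc2' : c2 + c2 = 1 := by
    rw [hc2, ← map_add, ← two_mul, mul_inv_cancel₀ h2, map_one]
  set QK : (Fin 12 → F) → ↥K := fun v => c2 * BK v v with hQKdef
  have hQKs : ∀ (c : ↥K) (v : Fin 12 → F), QK (c • v) = c * c * QK v := by
    intro c v
    simp only [hQKdef, map_smul, LinearMap.smul_apply, smul_eq_mul]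
    ring
  have hQKp : ∀ u v : Fin 12 → F, QK (u + v) = QK u + QK v + BK u v := by
    intro u v
    simp only [hQKdef, map_add, LinearMap.add_apply]
    rw [hBKsymm v u]
    linear_combination (BK u v) * hc2'
  have htrQ : ∀ v : Fin 12 → F, Algebra.trace F ↥K (QK v) = Q v := by
    intro v
    simp only [hQKdef, hc2]
    rw [← Algebra.smul_def, map_smul, htrB, smul_eq_mul, B_self Q B₀ hQs hQp,
      ← mul_assoc, inv_mul_cancel₀ h2, one_mul]
  set Φ' : GL (Fin 12) F ≃* ((Fin 12 → F) ≃ₗ[F] (Fin 12 → F)) := glEquiv (Fin 12) F with hΦ'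
  -- membership in `Ω`
  have hOm : ∀ g : GL (Fin 12) F, g ∈ Cfsg.Geo.omegaGL Q ↔ Φ' g ∈ ⁅oG Q, oG Q⁆ := by
    intro g
    rw [omegaGL_eq, Subgroup.mem_comap]
    rfl
  -- membership in the normaliser
  have hKL : ∀ k : Matrix (Fin 12) (Fin 12) F,
      k ∈ K ↔ ∃ x : ↥K, ∀ v : Fin 12 → F, k *ᵥ v = x • v := by
    intro k
    constructor
    · intro hk
      exact ⟨⟨k, hk⟩, fun v => rfl⟩
    · rintro ⟨x, hx⟩
      have : k = x.1 := by
        rw [Matrix.ext_iff_mulVec]
        intro v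
        rw [hx v]
        rfl
      rw [this]
      exact x.2
  have hsemi : ∀ g : GL (Fin 12) F,
      g ∈ Cfsg.Geo.subalgebraNormalizer K ↔ IsSemilin F ↥K (Fin 12 → F) (Φ' g) := by
    intro g
    constructor
    · intro hg
      obtain ⟨ρ, hρ⟩ := Cfsg.Agent.Lib.Helper29_UX_BrSemi.isSemilin_of_mem_normalizer K
        (fun a b => rfl) (fun a b => rfl) g hg
      refine ⟨ρ, fun k v => ?_⟩
      rw [hΦ', glEquiv_apply, glEquiv_apply]
      exact hρ k v
    · intro hg
      exact Cfsg.Agent.Lib.Helper29_SpExtBridge.mem_normalizer_of_isSemilin K hKL g hg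
  refine ⟨?_, ?_⟩
  · -- properness
    refine lt_of_le_of_ne inf_le_right ?_
    intro heq
    -- a singular vector `u` and a partner `u'`
    obtain ⟨u, -, hu0, hu⟩ := exists_singular_in Q B₀ hQs hQp ⊤ (by rw [finrank_top, hdimV]; omega)
    obtain ⟨u', hu'⟩ : ∃ u', B₀ u' u ≠ 0 := by
      by_contra hcon
      push Not at hcon
      exact hu0 (hN₀.2 u hcon)
    -- `z` orthogonal to `u`, `u'`, outside `K u`
    set Ψ : (Fin 12 → F) →ₗ[F] (Fin 2 → F) := LinearMap.pi ![B₀.flip u, B₀.flip u'] with hΨ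
    set R : ↥K →ₗ[F] (Fin 12 → F) :=
      (LinearMap.toSpanSingleton ↥K (Fin 12 → F) u).restrictScalars F with hR
    obtain ⟨z, hzker, hzR⟩ : ∃ z, z ∈ LinearMap.ker Ψ ∧ z ∉ LinearMap.range R := by
      by_contra hcon
      push Not at hcon
      have hle : LinearMap.ker Ψ ≤ LinearMap.range R := fun z hz => hcon z hz
      have h1 := LinearMap.finrank_range_add_finrank_ker Ψ
      have h3 : finrank F ↥(LinearMap.range Ψ) ≤ 2 := by
        have := Submodule.finrank_le (LinearMap.range Ψ)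
        rwa [Module.finrank_fin_fun] at this
      have h4 : finrank F ↥(LinearMap.range R) ≤ 3 := by
        have := LinearMap.finrank_range_le R
        rwa [hfr] at this
      have h5 := Submodule.finrank_mono hle
      omega
    have hzu : B₀ z u = 0 := by
      have := congrFun (LinearMap.mem_ker.mp hzker) 0
      simpa [hΨ] using this
    have hzu' : B₀ z u' = 0 := by
      have := congrFun (LinearMap.mem_ker.mp hzker) 1
      simpa [hΨ] using this
    have huz : B₀ u z = 0 := by rw [hsymm, hzu]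
    set t : (Fin 12 → F) ≃ₗ[F] (Fin 12 → F) := sieg Q B₀ u z with ht
    have htS : t ∈ ⁅oG Q, oG Q⁆ :=
      sieg_mem_commutator' Q B₀ hQs hQp hN₀ (by rw [hdimV]; exact hn) hu huz
    -- a vector `x₀` with `B₀ x₀ z = 0`, `B₀ x₀ u ≠ 0`
    have htK : ¬ IsSemilin F ↥K (Fin 12 → F) t := by
      refine Cfsg.Agent.Lib.Helper29_OX2_Semi.not_isSemilin_of_rank_two (by rw [hfr]; norm_num)
        (by rw [hdimV]; omega) t (B₀.flip u) (-(B₀.flip z) - Q z • B₀.flip u) z u ?_ ?_
        (u' - (B₀ u' u * (2 : F)⁻¹) • z) ?_ ?_ ?_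
      · -- `z ≠ 0`
        intro hz0
        exact hzR (by rw [hz0]; exact Submodule.zero_mem _)
      · -- `u ∉ K z`
        intro k hk
        have hk0 : k ≠ 0 := by
          rintro rfl
          rw [zero_smul] at hk
          exact hu0 hk
        apply hzR
        refine ⟨k⁻¹, ?_⟩
        rw [hR, LinearMap.restrictScalars_apply, LinearMap.toSpanSingleton_apply, hk, smul_smul,
          inv_mul_cancel₀ hk0, one_smul]
      · -- `ψ x₀ = 0`
        simp only [LinearMap.sub_apply, LinearMap.neg_apply, LinearMap.smul_apply,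
          LinearMap.BilinForm.flip_apply, smul_eq_mul, map_sub, map_smul]
        rw [hsymm u' z, hzu', hzu, B_self Q B₀ hQs hQp z]
        field_simp
        ring
      · -- `φ x₀ ≠ 0`
        simp only [LinearMap.BilinForm.flip_apply, map_sub, map_smul, LinearMap.sub_apply,
          LinearMap.smul_apply, smul_eq_mul]
        rw [hzu, mul_zero, sub_zero]
        exact hu'
      · intro x
        rw [ht, sieg_apply Q B₀ hQs hQp hu huz]
        simp only [LinearMap.sub_apply, LinearMap.neg_apply, LinearMap.smul_apply,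
          LinearMap.BilinForm.flip_apply, smul_eq_mul]
        module
    have h1 : Φ'.symm t ∈ Cfsg.Geo.omegaGL Q := by
      rw [hOm, MulEquiv.apply_symm_apply]; exact htS
    rw [← heq] at h1
    have h3 := (hsemi _).mp h1.1
    rw [MulEquiv.apply_symm_apply] at h3
    exact htK h3
  · intro M hHM hMK
    set M' : Subgroup ((Fin 12 → F) ≃ₗ[F] (Fin 12 → F)) := M.map Φ'.toMonoidHom with hM'
    have hM'le : M' ≤ oG Q := by
      rintro x ⟨g, hg, rfl⟩
      exact Subgroup.commutator_le_self _ ((hOm g).mp (hMK hg))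
    have hmem : ∀ x ∈ ⁅oG Q, oG Q⁆, IsSemilin F ↥K (Fin 12 → F) x → x ∈ M' := by
      intro x hxS hxK
      refine ⟨Φ'.symm x, hHM ⟨(hsemi _).mpr ?_, (hOm _).mpr ?_⟩, ?_⟩
      · rwa [MulEquiv.apply_symm_apply]
      · rwa [MulEquiv.apply_symm_apply]
      · exact MulEquiv.apply_symm_apply Φ' x
    rcases hmain ↥K (Fin 12 → F) QK BK hQKs hQKp hBKN Q B₀ hQs hQp htrQ hfr hdimV
      ⟨T, hT6, fun x hx => hTts x hx⟩ M' hM'le hmem
      with hall | hsieg
    · left
      apply le_antisymm _ hHM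
      intro g hg
      exact ⟨(hsemi g).mpr (hall _ ⟨g, hg, rfl⟩), hMK hg⟩
    · right
      apply le_antisymm hMK
      intro g hg
      have hle : ⁅oG Q, oG Q⁆ ≤ M' :=
        gen_hG3 Q hQ (fun h => absurd h h2) (by rw [Fintype.card_fin]; omega) M' hsieg
      have h1 : Φ' g ∈ M' := hle ((hOm g).mp hg)
      obtain ⟨g', hg', hgg'⟩ := h1
      have : g' = g := Φ'.injective hgg'
      rwa [← this]

end Cfsg.Agent.Lib.Helper29_OX3_Bridge
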