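import Mathlib
import Cfsg.Agent.Lib.Helper29_OrthOddDefs
import Cfsg.Agent.Lib.Helper29_OmegaMaxDefs
import Cfsg.Agent.Lib.Helper14_CentOmega
import Cfsg.Agent.Lib.Helper44_StdForms
import Cfsg.Agent.Lib.Helper30_AschMax

/-!
# OMX package OMa (helper71 for helper29): `Ω_{2m+1}(q)` is perfect and its normal subgroups are
scalar or everything.  The general statement `omega_perf_dich` holds for every quadratic form
with nondegenerate polar form in dimension at least five.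
-/

set_option autoImplicit false

open Cfsg Cfsg.Geo Matrix Cfsg.Agent.Lib.Helper29_OrthOddDefs Cfsg.Agent.Lib.Helper29_OmegaMaxDefs
open scoped Kronecker MatrixGroups

namespace Cfsg.Agent.Lib.Helper71_OMX_OMa

section general

open Module Cfsg.Agent.Lib.Helper94_Symp Cfsg.Agent.Lib.Helper94_OrthSmall
  Cfsg.Agent.Lib.Helper94_OrthSiegel Cfsg.Agent.Lib.Helper94_OrthPara
  Cfsg.Agent.Lib.Helper44_QuadClass Cfsg.Agent.Lib.Helper14_Siegel
  Cfsg.Agent.Lib.Helper14_SiegelOmega2 Cfsg.Agent.Lib.Helper14_OmegaSimple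
  Cfsg.Agent.Lib.Helper14_CentOmega
open Cfsg.Agent.Lib.Helper94_Bridge Cfsg.Agent.Lib.Helper14_POmegaSimple
  Cfsg.Agent.Lib.Helper14_AutOmega Cfsg.Agent.Lib.Helper44_Orth

variable {ι : Type} [Fintype ι] [DecidableEq ι] {F : Type*} [Field F] [Fintype F]

/-- a matrix commuting with `Ω(Q)` is scalar -/
theorem scalar_of_comm_omega (Q : QuadraticForm F (ι → F))
    (hQ : (QuadraticMap.polarBilin Q).Nondegenerate) (hn : 5 ≤ Fintype.card ι)
    (g : GL ι F)
    (hcomm : ∀ s : ↥(Cfsg.Omega F (⇑Q)),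
      g * ((s : ↥(Cfsg.isometryGroup F (⇑Q))) : GL ι F) =
        ((s : ↥(Cfsg.isometryGroup F (⇑Q))) : GL ι F) * g) :
    g ∈ Cfsg.Geo.scalars ι F := by
  have hdim : 5 ≤ finrank F (ι → F) := by
    rw [Module.finrank_fintype_fun_eq_card]; exact hn
  have hE : ∀ u s : ι → F, Q u = 0 → Q s = 0 → QuadraticMap.polar (⇑Q) u s = 0 →
      glEquiv ι F g * E Q u s = E Q u s * glEquiv ι F g := by
    intro u s hu hs hus
    have hmem : siegel Q u s 1 hu hs hus ∈ Cfsg.Omega F (⇑Q) :=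
      Cfsg.Agent.Lib.Helper14_SiegelAll.siegelGroup_le_omega' Q hQ hn (siegel_mem Q u s 1 hu hs hus)
    have h1 := hcomm ⟨siegel Q u s 1 hu hs hus, hmem⟩
    have h2 := congrArg (glEquiv ι F) h1
    rw [map_mul, map_mul] at h2
    have h3 : glEquiv ι F ((siegel Q u s 1 hu hs hus : ↥(Cfsg.isometryGroup F (⇑Q))) : GL ι F) =
        E Q u s := by
      have := phi_siegel Q u s 1 hu hs hus
      rw [one_smul] at this
      exact this
    rw [h3] at h2
    exact h2
  obtain ⟨l, hl⟩ := exists_scalar_of_comm Q hQ hdim hE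
  have hl' : ∀ x : ι → F, (g : Matrix ι ι F) *ᵥ x = l • x := by
    intro x
    rw [← glEquiv_apply]; exact hl x
  have hl0 : l ≠ 0 := by
    rintro rfl
    have hne : Nonempty ι := by
      rw [← Fintype.card_pos_iff]; omega
    obtain ⟨i⟩ := hne
    have h1 := hl' (Pi.single i 1)
    rw [zero_smul] at h1
    have h2 := congrArg (fun y => ((g⁻¹ : GL ι F) : Matrix ι ι F) *ᵥ y) h1
    simp only [Matrix.mulVec_mulVec, Matrix.mulVec_zero] at h2
    rw [← Units.val_mul, inv_mul_cancel, Units.val_one, Matrix.one_mulVec] at h2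
    have h3 := congrFun h2 i
    simp at h3
  rw [Cfsg.Geo.mem_scalars_iff]
  refine ⟨Units.mk0 l hl0, ?_⟩
  ext i j
  have h1 := congrFun (hl' (Pi.single j 1)) i
  rw [Matrix.mulVec_single_one] at h1
  simp only [Matrix.col_apply, Pi.smul_apply, smul_eq_mul] at h1
  rw [h1, Units.val_mk0, Matrix.smul_apply, Matrix.one_apply, Pi.single_apply]
  simp

/-- `Ω(Q)` inside `GL` is perfect, and its normal subgroups are scalar or everything -/
theorem omega_perf_dich (Q : QuadraticForm F (ι → F))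
    (hQ : (QuadraticMap.polarBilin Q).Nondegenerate) (hn : 5 ≤ Fintype.card ι) :
    ⁅Cfsg.Geo.omegaGL (⇑Q), Cfsg.Geo.omegaGL (⇑Q)⁆ = Cfsg.Geo.omegaGL (⇑Q) ∧
    ∀ K : Subgroup (GL ι F), K ≤ Cfsg.Geo.omegaGL (⇑Q) →
      (∀ s ∈ Cfsg.Geo.omegaGL (⇑Q), ∀ x ∈ K, s * x * s⁻¹ ∈ K) →
      K ≤ scalars ι F ∨ K = Cfsg.Geo.omegaGL (⇑Q) := by
  have hperf : commutator ↥(Cfsg.Omega F (⇑Q)) = ⊤ := commutator_omega_eq_top Q hQ hn
  have hΩΩ : ⁅Cfsg.Omega F (⇑Q), Cfsg.Omega F (⇑Q)⁆ = Cfsg.Omega F (⇑Q) := by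
    rw [← Subgroup.map_subtype_commutator, hperf, ← MonoidHom.range_eq_map, Subgroup.range_subtype]
  have hdef : Cfsg.Geo.omegaGL (⇑Q) = (Cfsg.Omega F (⇑Q)).map (Cfsg.isometryGroup F (⇑Q)).subtype := rfl
  refine ⟨?_, ?_⟩
  · rw [hdef, ← Subgroup.map_commutator, hΩΩ]
  intro K hK hKn
  -- pull `K` back to `Ω`
  set φ : ↥(Cfsg.Omega F (⇑Q)) →* GL ι F :=
    (Cfsg.isometryGroup F (⇑Q)).subtype.comp (Cfsg.Omega F (⇑Q)).subtype with hφ
  have hφmem : ∀ s : ↥(Cfsg.Omega F (⇑Q)), φ s ∈ Cfsg.Geo.omegaGL (⇑Q) := by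
    intro s
    exact ⟨s.1, s.2, rfl⟩
  have hφsurj : ∀ y ∈ Cfsg.Geo.omegaGL (⇑Q), ∃ s : ↥(Cfsg.Omega F (⇑Q)), φ s = y := by
    rintro y ⟨s, hs, rfl⟩
    exact ⟨⟨s, hs⟩, rfl⟩
  set K' : Subgroup ↥(Cfsg.Omega F (⇑Q)) := K.comap φ with hK'
  have hK'n : K'.Normal := by
    constructor
    intro x hx s
    show φ (s * x * s⁻¹) ∈ K
    rw [map_mul, map_mul, map_inv]
    exact hKn _ (hφmem s) _ hx
  have hsimple : IsSimpleGroup (Cfsg.POmega F (⇑Q)) := isSimpleGroup_POmega Q hQ hn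
  set π : ↥(Cfsg.Omega F (⇑Q)) →* Cfsg.POmega F (⇑Q) :=
    QuotientGroup.mk' (Subgroup.center ↥(Cfsg.Omega F (⇑Q))) with hπ
  have hπsurj : Function.Surjective π := QuotientGroup.mk'_surjective _
  have hmapn : (K'.map π).Normal := hK'n.map π hπsurj
  rcases hmapn.eq_bot_or_eq_top with hbot | htop
  · left
    have hle : K' ≤ Subgroup.center ↥(Cfsg.Omega F (⇑Q)) := by
      have := (Subgroup.map_eq_bot_iff K').1 hbot
      rwa [hπ, QuotientGroup.ker_mk'] at this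
    intro x hx
    obtain ⟨s, rfl⟩ := hφsurj x (hK hx)
    have hs : s ∈ Subgroup.center ↥(Cfsg.Omega F (⇑Q)) := hle hx
    rw [Subgroup.mem_center_iff] at hs
    apply scalar_of_comm_omega Q hQ hn
    intro t
    have := congrArg φ (hs t)
    rw [map_mul, map_mul] at this
    exact this.symm
  · right
    have hsup : K' ⊔ Subgroup.center ↥(Cfsg.Omega F (⇑Q)) = ⊤ := by
      have := congrArg (Subgroup.comap π) htop
      rw [Subgroup.comap_map_eq, hπ, QuotientGroup.ker_mk', Subgroup.comap_top] at this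
      exact this
    have hcomm : ⁅(⊤ : Subgroup ↥(Cfsg.Omega F (⇑Q))), ⊤⁆ ≤ K' :=
      Cfsg.Agent.Lib.Helper30_AschMax.commutator_le_of_le_sup_central
        (Z := Subgroup.center ↥(Cfsg.Omega F (⇑Q)))
        (fun z hz g => ((Subgroup.mem_center_iff.1 hz) g).symm) hsup.ge
    have hK'top : K' = ⊤ := by
      rw [eq_top_iff]
      calc (⊤ : Subgroup ↥(Cfsg.Omega F (⇑Q))) = commutator ↥(Cfsg.Omega F (⇑Q)) := hperf.symm
        _ ≤ K' := hcomm
    apply le_antisymm hK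
    intro y hy
    obtain ⟨s, rfl⟩ := hφsurj y hy
    have : s ∈ K' := by rw [hK'top]; trivial
    exact this

end general

section omega
variable {F : Type*} [Field F]

/-- OMa: Ω_{2m+1}(q) is perfect and its normal subgroups are scalar or everything -/
theorem OMa [Fintype F] (hodd : Odd (Fintype.card F)) (m : ℕ) (hm : 3 ≤ m) :
    ⁅omegaGL (quadFormOdd m F), omegaGL (quadFormOdd m F)⁆ = omegaGL (quadFormOdd m F) ∧
    ∀ K : Subgroup (GL (OI m) F), K ≤ omegaGL (quadFormOdd m F) →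
      (∀ s ∈ omegaGL (quadFormOdd m F), ∀ x ∈ K, s * x * s⁻¹ ∈ K) →
      K ≤ scalars (OI m) F ∨ K = omegaGL (quadFormOdd m F) := by
  have h2 : (2 : F) ≠ 0 := by
    intro h
    have hchar : ringChar F = 2 := CharP.ringChar_of_prime_eq_zero Nat.prime_two h
    have := FiniteField.even_card_of_char_two hchar
    rw [Nat.odd_iff] at hodd
    omega
  have hQ := Cfsg.Agent.Lib.Helper14_POmegaSimple.nondegenerate_qfOdd (F := F) h2 m
  have hcard : 5 ≤ Fintype.card (OI m) := by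
    simp only [Fintype.card_sum, Fintype.card_unit, Fintype.card_fin]
    omega
  have := omega_perf_dich (Cfsg.Agent.Lib.Helper44_StdForms.qfOdd m F) hQ hcard
  rwa [Cfsg.Agent.Lib.Helper44_StdForms.coe_qfOdd] at this

end omega

end Cfsg.Agent.Lib.Helper71_OMX_OMa
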