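import Mathlib
import Cfsg.Agent.Lib.Helper29_OrthOddDefs
import Cfsg.Agent.Lib.Helper29_OmegaMaxDefs
import Cfsg.Agent.Lib.Helper71_OMX_OMa
import Cfsg.Agent.Lib.Helper94_OrthNondeg

/-!
# OMX package OMb (helper30 for helper29): `Ω_{2m+1}(q)` is irreducible with scalar commutant.
The general statements `omega_irr`, `omega_comm` hold for every quadratic form with nondegenerate polar form in
dimension at least five.
-/

set_option autoImplicit false

open Cfsg Cfsg.Geo Matrix Cfsg.Agent.Lib.Helper29_OrthOddDefs Cfsg.Agent.Lib.Helper29_OmegaMaxDefs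
open scoped Kronecker MatrixGroups

namespace Cfsg.Agent.Lib.Helper30_OMX_OMb

section general

open Module Cfsg.Agent.Lib.Helper94_Symp Cfsg.Agent.Lib.Helper94_OrthSmall
  Cfsg.Agent.Lib.Helper94_OrthSiegel Cfsg.Agent.Lib.Helper94_OrthPara
  Cfsg.Agent.Lib.Helper14_Siegel
  Cfsg.Agent.Lib.Helper14_SiegelOmega2 Cfsg.Agent.Lib.Helper14_OmegaSimple
open Cfsg.Agent.Lib.Helper94_Bridge Cfsg.Agent.Lib.Helper14_POmegaSimple

variable {ι : Type} [Fintype ι] [DecidableEq ι] {F : Type*} [Field F] [Fintype F]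

/-- every Eichler transformation is the matrix of an element of `Ω(Q)` -/
theorem exists_omega_eq_E (Q : QuadraticForm F (ι → F))
    (hQ : (QuadraticMap.polarBilin Q).Nondegenerate) (hn : 5 ≤ Fintype.card ι)
    {u z : ι → F} (hu : Q u = 0) (huz : QuadraticMap.polar (⇑Q) u z = 0) :
    ∃ g ∈ Cfsg.Geo.omegaGL (⇑Q), ∀ x : ι → F, (g : Matrix ι ι F) *ᵥ x = E Q u z x := by
  have hdim : 5 ≤ finrank F (ι → F) := by
    rw [Module.finrank_fintype_fun_eq_card]; exact hn
  have hmap : (Cfsg.Omega F (⇑Q)).map (phi Q) = T Q := by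
    rw [omega_eq_siegelGroup Q hQ hn, map_siegelGroup]
  have hE : E Q u z ∈ T Q := E_mem_T Q hQ hdim hu huz
  rw [← hmap] at hE
  obtain ⟨s, hs, hsE⟩ := hE
  refine ⟨(s : GL ι F), ⟨s, hs, rfl⟩, ?_⟩
  intro x
  rw [← hsE, ← glEquiv_apply]
  rfl

/-- `Ω(Q)` acts irreducibly -/
theorem omega_irr (Q : QuadraticForm F (ι → F))
    (hQ : (QuadraticMap.polarBilin Q).Nondegenerate) (hn : 5 ≤ Fintype.card ι) :
    ActsIrreducibly (matrixSet (Cfsg.Geo.omegaGL (⇑Q))) := by
  intro X hX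
  by_cases hX0 : X = ⊥
  · exact Or.inl hX0
  right
  obtain ⟨a, haX, ha0⟩ := Submodule.exists_mem_ne_zero_of_ne_bot hX0
  rw [eq_top_iff]
  have hdim : 5 ≤ finrank F (⊤ : Submodule F (ι → F)) := by
    rw [finrank_top, Module.finrank_fintype_fun_eq_card]; exact hn
  refine Cfsg.Agent.Lib.Helper94_OrthNondeg.irr (⇑Q) (QuadraticMap.polarBilin Q) (hQs Q) (hQp Q) ⊤ ?_ hdim X ?_
    (a := a) (a' := 0) (by rwa [add_zero]) Submodule.mem_top ha0 (fun y _ => by simp)
  · intro b _ hb0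
    by_contra hcon
    push Not at hcon
    apply hb0
    have h1 : ∀ x, QuadraticMap.polarBilin Q x b = 0 := fun x => hcon x Submodule.mem_top
    exact hQ.2 b h1
  · intro u _ v _ hu huv x hx
    obtain ⟨g, hg, hgE⟩ := exists_omega_eq_E Q hQ hn hu huv
    have h1 : (g : Matrix ι ι F) ∈ matrixSet (Cfsg.Geo.omegaGL (⇑Q)) := ⟨g, hg, rfl⟩
    have h2 := hX _ h1 ⟨x, hx, rfl⟩
    rw [Matrix.toLin'_apply, hgE] at h2
    exact h2

/-- the commutant of `Ω(Q)` consists of scalars -/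
theorem omega_comm (Q : QuadraticForm F (ι → F))
    (hQ : (QuadraticMap.polarBilin Q).Nondegenerate) (hn : 5 ≤ Fintype.card ι)
    (A : Matrix ι ι F)
    (hA : ∀ s ∈ Cfsg.Geo.omegaGL (⇑Q), (s : Matrix ι ι F) * A = A * (s : Matrix ι ι F)) :
    ∃ c : F, A = c • (1 : Matrix ι ι F) := by
  have hirr := omega_irr Q hQ hn
  have hker := hirr (LinearMap.ker (Matrix.toLin' A)) (by
    rintro _ ⟨g, hg, rfl⟩
    rintro _ ⟨w, hw, rfl⟩
    rw [SetLike.mem_coe, LinearMap.mem_ker, Matrix.toLin'_apply] at hw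
    rw [LinearMap.mem_ker, Matrix.toLin'_apply, Matrix.toLin'_apply, Matrix.mulVec_mulVec, ← hA g hg,
      ← Matrix.mulVec_mulVec, hw, Matrix.mulVec_zero])
  rcases hker with h | h
  · -- `A` is invertible
    have hinj : Function.Injective (Matrix.toLin' A) := LinearMap.ker_eq_bot.mp h
    have hinj' : Function.Injective A.mulVec := by
      intro x y hxy
      apply hinj
      rw [Matrix.toLin'_apply, Matrix.toLin'_apply]; exact hxy
    have hunit : IsUnit A := Matrix.mulVec_injective_iff_isUnit.mp hinj'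
    obtain ⟨g, hg⟩ := hunit
    have hgs : g ∈ Cfsg.Geo.scalars ι F := by
      apply Cfsg.Agent.Lib.Helper71_OMX_OMa.scalar_of_comm_omega Q hQ hn g
      intro s
      apply Units.ext
      rw [Units.val_mul, Units.val_mul, hg]
      exact (hA _ ⟨s.1, s.2, rfl⟩).symm
    rw [Cfsg.Geo.mem_scalars_iff] at hgs
    obtain ⟨c, hc⟩ := hgs
    exact ⟨(c : F), by rw [← hg, hc]⟩
  · refine ⟨0, ?_⟩
    rw [zero_smul]
    have h1 : Matrix.toLin' A = 0 := LinearMap.ker_eq_top.mp h
    have h2 := congrArg LinearMap.toMatrix' h1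
    rwa [LinearMap.toMatrix'_toLin', map_zero] at h2

end general

section omega
variable {F : Type*} [Field F]

/-- OMb: Ω_{2m+1}(q) is irreducible with scalar commutant -/
theorem OMb [Fintype F] (hodd : Odd (Fintype.card F)) (m : ℕ) (hm : 3 ≤ m) :
    ActsIrreducibly (matrixSet (omegaGL (quadFormOdd m F))) ∧
    ∀ A : Matrix (OI m) (OI m) F,
      (∀ s ∈ omegaGL (quadFormOdd m F), (s : Matrix (OI m) (OI m) F) * A = A * (s : Matrix (OI m) (OI m) F)) →
      ∃ c : F, A = c • (1 : Matrix (OI m) (OI m) F) := by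
  have h2 : (2 : F) ≠ 0 := by
    intro h
    have hchar : ringChar F = 2 := CharP.ringChar_of_prime_eq_zero Nat.prime_two h
    have := FiniteField.even_card_of_char_two hchar
    rw [Nat.odd_iff] at hodd
    omega
  have hQ := Cfsg.Agent.Lib.Helper14_POmegaSimple.nondegenerate_qfOdd (F := F) h2 m
  have hcard : 5 ≤ Fintype.card (OI m) := by
    simp only [Fintype.card_sum, Fintype.card_unit, Fintype.card_fin]
    omega
  have h1 := omega_irr (Cfsg.Agent.Lib.Helper44_StdForms.qfOdd m F) hQ hcard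
  have h3 := omega_comm (Cfsg.Agent.Lib.Helper44_StdForms.qfOdd m F) hQ hcard
  rw [Cfsg.Agent.Lib.Helper44_StdForms.coe_qfOdd] at h1 h3
  exact ⟨h1, h3⟩

end omega

end Cfsg.Agent.Lib.Helper30_OMX_OMb
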