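import Mathlib
import Cfsg.Agent.Lib.Helper29_OmegaMaxDefs
import Cfsg.Agent.Lib.Helper63_SpExt_QB1

/-!
helper30: package OMX-X3 (helper29's market for S5814 / S5835 / S5859): a perfect group with scalar commutant normalises
no proper extension field.
-/

set_option autoImplicit false

namespace Cfsg.Agent.Lib.Helper30_OMX_X3

open Cfsg Cfsg.Geo Matrix Cfsg.Agent.Lib.Helper29_OmegaMaxDefs
open scoped MatrixGroups commutatorElement

variable {ι : Type} [Fintype ι] [DecidableEq ι] {F : Type*} [Field F]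

/-- conjugation of a matrix by an invertible matrix -/
def cj (g : GL ι F) (k : Matrix ι ι F) : Matrix ι ι F :=
  (g : Matrix ι ι F) * k * ((g⁻¹ : GL ι F) : Matrix ι ι F)

lemma cj_mul (g h : GL ι F) (k : Matrix ι ι F) : cj (g * h) k = cj g (cj h k) := by
  unfold cj
  rw [_root_.mul_inv_rev, Units.val_mul, Units.val_mul]
  simp only [mul_assoc]

lemma cj_one (k : Matrix ι ι F) : cj (1 : GL ι F) k = k := by
  unfold cj
  simp

lemma cj_pow (g : GL ι F) (k : Matrix ι ι F) (m : ℕ) : cj g (k ^ m) = (cj g k) ^ m := by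
  have hgi : ((g⁻¹ : GL ι F) : Matrix ι ι F) * (g : Matrix ι ι F) = 1 := by
    rw [← Units.val_mul, inv_mul_cancel, Units.val_one]
  have hig : (g : Matrix ι ι F) * ((g⁻¹ : GL ι F) : Matrix ι ι F) = 1 := by
    rw [← Units.val_mul, mul_inv_cancel, Units.val_one]
  induction m with
  | zero => simp [cj]
  | succ m ih =>
    rw [pow_succ, pow_succ, ← ih]
    unfold cj
    calc (g : Matrix ι ι F) * (k ^ m * k) * ((g⁻¹ : GL ι F) : Matrix ι ι F)
        = (g : Matrix ι ι F) * k ^ m * 1 * k * ((g⁻¹ : GL ι F) : Matrix ι ι F) := by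
          simp only [mul_assoc, one_mul]
      _ = (g : Matrix ι ι F) * k ^ m * ((g⁻¹ : GL ι F) : Matrix ι ι F) *
            ((g : Matrix ι ι F) * k * ((g⁻¹ : GL ι F) : Matrix ι ι F)) := by
          rw [← hgi]
          simp only [mul_assoc]

lemma cj_eq_iff (g : GL ι F) (k : Matrix ι ι F) :
    cj g k = k ↔ (g : Matrix ι ι F) * k = k * (g : Matrix ι ι F) := by
  have hgi : ((g⁻¹ : GL ι F) : Matrix ι ι F) * (g : Matrix ι ι F) = 1 := by
    rw [← Units.val_mul, inv_mul_cancel, Units.val_one]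
  have hig : (g : Matrix ι ι F) * ((g⁻¹ : GL ι F) : Matrix ι ι F) = 1 := by
    rw [← Units.val_mul, mul_inv_cancel, Units.val_one]
  unfold cj
  constructor
  · intro h
    calc (g : Matrix ι ι F) * k = (g : Matrix ι ι F) * k * (((g⁻¹ : GL ι F) : Matrix ι ι F) * (g : Matrix ι ι F)) := by
          rw [hgi, mul_one]
      _ = ((g : Matrix ι ι F) * k * ((g⁻¹ : GL ι F) : Matrix ι ι F)) * (g : Matrix ι ι F) := by
          simp only [mul_assoc]
      _ = k * (g : Matrix ι ι F) := by rw [h]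
  · intro h
    rw [h, mul_assoc, hig, mul_one]

/-- X3: a perfect group with scalar commutant normalises no proper extension field -/
theorem X3 [Finite F] {N : Subgroup (GL ι F)} (hN : QO N) {r : ℕ} (hr : 1 < r)
    {K : Subalgebra F (Matrix ι ι F)} (hK : IsFieldSubalgebra r K) : ¬ N ≤ subalgebraNormalizer K := by
  classical
  intro hle
  rcases isEmpty_or_nonempty ι with hι | hι
  · have hs : Subsingleton K := ⟨fun a b => Subtype.ext (Subsingleton.elim _ _)⟩
    have h0 : Module.finrank F K = 0 := Module.finrank_zero_of_subsingleton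
    rw [hK.finrank_eq] at h0
    omega
  have hfield : IsField K := Cfsg.Agent.Lib.Helper63_SpExt_QB1.isField K hK
  let _ : Field K := hfield.toField
  have hfin : Finite K := inferInstance
  obtain ⟨θu, hθu⟩ := IsCyclic.exists_generator (α := Kˣ)
  set θ : Matrix ι ι F := ((θu : K) : Matrix ι ι F) with hθ
  have hθK : θ ∈ K := (θu : K).2
  have hθpow : ∀ m : ℕ, (((θu ^ m : Kˣ) : K) : Matrix ι ι F) = θ ^ m := by
    intro m
    rw [Units.val_pow_eq_pow_val]
    rfl
  have hpow : ∀ k ∈ K, k ≠ 0 → ∃ m : ℕ, k = θ ^ m := by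
    intro k hk hk0
    have hk0' : (⟨k, hk⟩ : K) ≠ 0 := fun h => hk0 (congrArg Subtype.val h)
    have h1 : Units.mk0 (⟨k, hk⟩ : K) hk0' ∈ Subgroup.zpowers θu := hθu _
    rw [← mem_powers_iff_mem_zpowers, Submonoid.mem_powers_iff] at h1
    obtain ⟨m, hm⟩ := h1
    refine ⟨m, ?_⟩
    rw [← hθpow m, hm]
    rfl
  -- conjugation by elements of `N` maps `θ` to a power of `θ`
  have hθ0 : θ ≠ 0 := by
    intro h
    have : ((θu : K) : Matrix ι ι F) = ((0 : K) : Matrix ι ι F) := h
    exact θu.ne_zero (Subtype.ext this)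
  have hcjK : ∀ s ∈ N, ∀ k ∈ K, cj s k ∈ K := fun s hs k hk => ((hle hs) k).mp hk
  have hcj0 : ∀ s : GL ι F, ∀ k : Matrix ι ι F, k ≠ 0 → cj s k ≠ 0 := by
    intro s k hk h
    apply hk
    have : cj s⁻¹ (cj s k) = k := by rw [← cj_mul, inv_mul_cancel, cj_one]
    rw [← this, h]
    simp [cj]
  have hexp : ∀ s ∈ N, ∃ a : ℕ, cj s θ = θ ^ a :=
    fun s hs => hpow _ (hcjK s hs θ hθK) (hcj0 s θ hθ0)
  -- the centraliser of `θ`
  let C : Subgroup (GL ι F) :=
    { carrier := {g | cj g θ = θ}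
      mul_mem' := by
        intro a b ha hb
        simp only [Set.mem_ofPred_eq] at ha hb ⊢
        rw [cj_mul, hb, ha]
      one_mem' := cj_one θ
      inv_mem' := by
        intro a ha
        simp only [Set.mem_ofPred_eq] at ha ⊢
        calc cj a⁻¹ θ = cj a⁻¹ (cj a θ) := by rw [ha]
          _ = θ := by rw [← cj_mul, inv_mul_cancel, cj_one] }
  have hcomm : ⁅N, N⁆ ≤ C := by
    rw [Subgroup.commutator_le]
    intro s hs t ht
    obtain ⟨a, ha⟩ := hexp s hs
    obtain ⟨b, hb⟩ := hexp t ht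
    obtain ⟨a', ha'⟩ := hexp s⁻¹ (N.inv_mem hs)
    obtain ⟨b', hb'⟩ := hexp t⁻¹ (N.inv_mem ht)
    have haa : θ ^ (a' * a) = θ := by
      have : cj s (cj s⁻¹ θ) = θ := by rw [← cj_mul, mul_inv_cancel, cj_one]
      rw [ha', cj_pow, ha, ← pow_mul, mul_comm] at this
      exact this
    have hbb : θ ^ (b' * b) = θ := by
      have : cj t (cj t⁻¹ θ) = θ := by rw [← cj_mul, mul_inv_cancel, cj_one]
      rw [hb', cj_pow, hb, ← pow_mul, mul_comm] at this
      exact this
    change cj ⁅s, t⁆ θ = θ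
    rw [commutatorElement_def, cj_mul, cj_mul, cj_mul, hb', cj_pow, ha', ← pow_mul, cj_pow, hb,
      ← pow_mul, cj_pow, ha, ← pow_mul]
    have e : a * (b * (a' * b')) = (a' * a) * (b' * b) := by ring
    rw [e, pow_mul, haa, hbb]
  rw [hN.perf] at hcomm
  -- every element of `K` commutes with `N`, hence is scalar
  have hscal : ∀ k ∈ K, ∃ c : F, k = c • (1 : Matrix ι ι F) := by
    intro k hk
    apply hN.comm
    intro s hs
    have hsθ : (s : Matrix ι ι F) * θ = θ * (s : Matrix ι ι F) := (cj_eq_iff s θ).mp (hcomm hs)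
    by_cases hk0 : k = 0
    · rw [hk0, mul_zero, zero_mul]
    · obtain ⟨m, rfl⟩ := hpow k hk hk0
      exact ((Commute.pow_right (show Commute (s : Matrix ι ι F) θ from hsθ) m)).eq
  have hbot : K = ⊥ := by
    rw [eq_bot_iff]
    intro k hk
    obtain ⟨c, rfl⟩ := hscal k hk
    rw [Algebra.mem_bot]
    exact ⟨c, by rw [Algebra.algebraMap_eq_smul_one]⟩
  have := hK.finrank_eq
  rw [hbot, Subalgebra.finrank_bot] at this
  omega

end Cfsg.Agent.Lib.Helper30_OMX_X3
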