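import Mathlib
import Cfsg.Agent.Lib.Helper29_OmegaMaxDefs
import Cfsg.Agent.Lib.Helper30_AschMax

/-!
helper30: package OMX-X5 (helper29's market for S5814 / S5835 / S5859): a perfect group containing a full root group
`1 + t X` (`t ∈ F`) lies in no subfield group.
-/

set_option autoImplicit false

namespace Cfsg.Agent.Lib.Helper30_OMX_X5

open Cfsg Cfsg.Geo Matrix Cfsg.Agent.Lib.Helper29_OmegaMaxDefs
open scoped MatrixGroups

variable {ι : Type} [Fintype ι] [DecidableEq ι] {F : Type*} [Field F]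

lemma scalars_central {z : GL ι F} (hz : z ∈ scalars ι F) (g : GL ι F) : z * g = g * z := by
  obtain ⟨c, hc⟩ := (mem_scalars_iff z).mp hz
  apply Units.ext
  rw [Units.val_mul, Units.val_mul, hc]
  simp

/-- X5: a perfect group containing a full root group `1 + t X` (t ∈ F) lies in no subfield group -/
theorem X5 {N : Subgroup (GL ι F)} (hN : QO N) (F₀ : Subfield F) (hF₀ : F₀ ≠ ⊤) (P : GL ι F) :
    ¬ N ≤ subfieldSubgroup F₀ P := by
  intro hle
  have h1 : N.map (MulAut.conj P⁻¹).toMonoidHom ≤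
      (Matrix.GeneralLinearGroup.map (F₀.subtype : F₀ →+* F)).range ⊔ scalars ι F := by
    rintro _ ⟨g, hg, rfl⟩
    obtain ⟨x, hx, hxe⟩ := Subgroup.mem_map.mp (hle hg)
    have : (MulAut.conj P⁻¹).toMonoidHom g = x := by
      rw [← hxe]
      simp [MulAut.conj_apply, mul_assoc]
    rw [this]
    exact hx
  have h2 : ⁅N.map (MulAut.conj P⁻¹).toMonoidHom, N.map (MulAut.conj P⁻¹).toMonoidHom⁆ ≤
      (Matrix.GeneralLinearGroup.map (F₀.subtype : F₀ →+* F)).range :=
    Cfsg.Agent.Lib.Helper30_AschMax.commutator_le_of_le_sup_central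
      (fun z hz g => scalars_central hz g) h1
  rw [← Subgroup.map_commutator, hN.perf] at h2
  obtain ⟨X, hX0, -, -, hroot⟩ := hN.root
  set Pi : Matrix ι ι F := ((P⁻¹ : GL ι F) : Matrix ι ι F) with hPi
  set Pm : Matrix ι ι F := (P : Matrix ι ι F) with hPm
  have hPiPm : Pi * Pm = 1 := by rw [hPi, hPm, ← Units.val_mul, inv_mul_cancel, Units.val_one]
  have hPmPi : Pm * Pi = 1 := by rw [hPi, hPm, ← Units.val_mul, mul_inv_cancel, Units.val_one]
  set X' : Matrix ι ι F := Pi * X * Pm with hX'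
  have hX'0 : X' ≠ 0 := by
    intro h
    apply hX0
    calc X = (Pm * Pi) * X * (Pm * Pi) := by rw [hPmPi, one_mul, mul_one]
      _ = Pm * X' * Pi := by rw [hX']; simp only [mul_assoc]
      _ = 0 := by rw [h, mul_zero, zero_mul]
  have hent : ∀ t : F, ∀ i j, ((1 : Matrix ι ι F) + t • X') i j ∈ F₀ := by
    intro t i j
    obtain ⟨g, hgN, hg⟩ := hroot t
    have hmem : (MulAut.conj P⁻¹).toMonoidHom g ∈
        (Matrix.GeneralLinearGroup.map (F₀.subtype : F₀ →+* F)).range :=
      h2 (Subgroup.mem_map_of_mem _ hgN)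
    obtain ⟨y, hy⟩ := hmem
    have hval : (((MulAut.conj P⁻¹).toMonoidHom g : GL ι F) : Matrix ι ι F) = 1 + t • X' := by
      rw [MulEquiv.coe_toMonoidHom, MulAut.conj_apply, inv_inv, Units.val_mul, Units.val_mul, hg, hX']
      change Pi * (1 + t • X) * Pm = _
      rw [mul_add, add_mul, mul_one, hPiPm, Matrix.mul_smul, Matrix.smul_mul]
    rw [← hval, ← hy]
    exact SetLike.coe_mem ((y : Matrix ι ι F₀) i j)
  obtain ⟨i, j, hij⟩ : ∃ i j, X' i j ≠ 0 := by
    by_contra hcon
    push Not at hcon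
    apply hX'0
    ext i j
    exact hcon i j
  have hone : ((1 : Matrix ι ι F) i j) ∈ F₀ := by
    by_cases h : i = j
    · rw [h, Matrix.one_apply_eq]; exact F₀.one_mem
    · rw [Matrix.one_apply_ne h]; exact F₀.zero_mem
  have hmul : ∀ t : F, t * X' i j ∈ F₀ := by
    intro t
    have h := hent t i j
    rw [Matrix.add_apply, Matrix.smul_apply, smul_eq_mul] at h
    have := F₀.sub_mem h hone
    rwa [add_sub_cancel_left] at this
  have hx : X' i j ∈ F₀ := by simpa using hmul 1
  apply hF₀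
  rw [eq_top_iff]
  intro a _
  have h := F₀.mul_mem (hmul a) (F₀.inv_mem hx)
  rwa [mul_assoc, mul_inv_cancel₀ hij, mul_one] at h

end Cfsg.Agent.Lib.Helper30_OMX_X5
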