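/-
S5673 package OP3 (helper29 architect; helper47): a normalised adjoint-closed subalgebra whose centre is a
proper extension field puts `H` into class 3 (normaliser of a self-adjoint field of prime degree).
-/
import Mathlib
import Cfsg.Agent.Lib.Helper98_AschDefs
import Cfsg.Agent.Lib.Helper29_OrthOddDefs
import Cfsg.Agent.Lib.Helper44_StdForms
import Cfsg.Agent.Lib.Helper35_Asch_PK5
import Cfsg.Agent.Lib.Helper63_SpExt_QB1

set_option autoImplicit false

namespace Cfsg.Agent.Lib.Helper47_OrthOdd_OP3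

open Cfsg Cfsg.Geo Matrix Cfsg.Agent.Lib.Helper98_AschDefs Cfsg.Agent.Lib.Helper29_OrthOddDefs
open scoped Kronecker MatrixGroups

variable {F : Type*} [Field F]

/-! ### the polar form of the standard odd-dimensional quadratic form -/

/-- the polar form of the standard form -/
abbrev pf (m : ℕ) (F : Type*) [Field F] : (OI m → F) → (OI m → F) → F :=
  QuadraticMap.polar (quadFormOdd m F)

lemma pf_eq (m : ℕ) :
    pf m F = QuadraticMap.polar ⇑(Cfsg.Agent.Lib.Helper44_StdForms.qfOdd m F) := by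
  unfold pf
  rw [Cfsg.Agent.Lib.Helper44_StdForms.coe_qfOdd]

lemma pf_comm (m : ℕ) (u v : OI m → F) : pf m F u v = pf m F v u :=
  QuadraticMap.polar_comm _ _ _

lemma pf_add_right (m : ℕ) (u v w : OI m → F) : pf m F u (v + w) = pf m F u v + pf m F u w := by
  rw [pf_eq]; exact QuadraticMap.polar_add_right (Cfsg.Agent.Lib.Helper44_StdForms.qfOdd m F) u v w

lemma pf_add_left (m : ℕ) (u v w : OI m → F) : pf m F (u + v) w = pf m F u w + pf m F v w := by
  rw [pf_eq]; exact QuadraticMap.polar_add_left (Cfsg.Agent.Lib.Helper44_StdForms.qfOdd m F) u v w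

lemma pf_smul_right (m : ℕ) (c : F) (u v : OI m → F) : pf m F u (c • v) = c * pf m F u v := by
  rw [pf_eq]
  exact QuadraticMap.polar_smul_right (Cfsg.Agent.Lib.Helper44_StdForms.qfOdd m F) c u v

lemma pf_smul_left (m : ℕ) (c : F) (u v : OI m → F) : pf m F (c • u) v = c * pf m F u v := by
  rw [pf_eq]
  exact QuadraticMap.polar_smul_left (Cfsg.Agent.Lib.Helper44_StdForms.qfOdd m F) c u v

lemma pf_sub_right (m : ℕ) (u v w : OI m → F) : pf m F u (v - w) = pf m F u v - pf m F u w := by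
  rw [sub_eq_add_neg, pf_add_right, ← neg_one_smul F w, pf_smul_right]; ring

lemma pf_zero_right (m : ℕ) (u : OI m → F) : pf m F u 0 = 0 := by
  have := pf_smul_right m (0 : F) u 0
  simpa using this

/-- non-degeneracy of the polar form in odd characteristic -/
lemma pf_nondeg (m : ℕ) (h2 : (2 : F) ≠ 0) (w : OI m → F) (hw : ∀ u, pf m F u w = 0) : w = 0 := by
  funext i
  rcases i with ⟨⟩ | i | i
  · have h := hw (Pi.single (Sum.inl ()) 1)
    rw [pf, Cfsg.Agent.Lib.Helper44_StdForms.polar_quadFormOdd] at h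
    simp at h
    rcases h with h | h
    · exact absurd h h2
    · exact h
  · have h := hw (Pi.single (Sum.inr (Sum.inr i)) 1)
    rw [pf, Cfsg.Agent.Lib.Helper44_StdForms.polar_quadFormOdd] at h
    simpa [Pi.single_apply] using h
  · have h := hw (Pi.single (Sum.inr (Sum.inl i)) 1)
    rw [pf, Cfsg.Agent.Lib.Helper44_StdForms.polar_quadFormOdd] at h
    simpa [Pi.single_apply] using h

/-! ### adjoints -/

/-- `a'` is an adjoint of `a` for the polar form -/
def IsAdj (m : ℕ) (a a' : Matrix (OI m) (OI m) F) : Prop :=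
  ∀ u v : OI m → F, pf m F (a *ᵥ u) v = pf m F u (a' *ᵥ v)

lemma IsAdj.unique {m : ℕ} (h2 : (2 : F) ≠ 0) {a b c : Matrix (OI m) (OI m) F}
    (hb : IsAdj m a b) (hc : IsAdj m a c) : b = c := by
  rw [Matrix.ext_iff_mulVec]
  intro v
  have : b *ᵥ v - c *ᵥ v = 0 := by
    apply pf_nondeg m h2
    intro u
    rw [pf_sub_right, ← hb u v, ← hc u v, sub_self]
  exact sub_eq_zero.1 this

lemma IsAdj.symm {m : ℕ} {a a' : Matrix (OI m) (OI m) F} (h : IsAdj m a a') : IsAdj m a' a := by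
  intro u v
  rw [pf_comm, ← h v u, pf_comm]

lemma IsAdj.mul {m : ℕ} {a a' b b' : Matrix (OI m) (OI m) F} (ha : IsAdj m a a') (hb : IsAdj m b b') :
    IsAdj m (a * b) (b' * a') := by
  intro u v
  rw [← Matrix.mulVec_mulVec, ha, hb, Matrix.mulVec_mulVec]

lemma IsAdj.add {m : ℕ} {a a' b b' : Matrix (OI m) (OI m) F} (ha : IsAdj m a a') (hb : IsAdj m b b') :
    IsAdj m (a + b) (a' + b') := by
  intro u v
  rw [Matrix.add_mulVec, Matrix.add_mulVec, pf_add_left, pf_add_right, ha, hb]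

lemma IsAdj.smul {m : ℕ} {a a' : Matrix (OI m) (OI m) F} (c : F) (ha : IsAdj m a a') :
    IsAdj m (c • a) (c • a') := by
  intro u v
  rw [Matrix.smul_mulVec, Matrix.smul_mulVec, pf_smul_left, pf_smul_right, ha]

lemma IsAdj.one (m : ℕ) : IsAdj m (1 : Matrix (OI m) (OI m) F) 1 := by
  intro u v
  rw [Matrix.one_mulVec, Matrix.one_mulVec]

lemma IsAdj.scalar (m : ℕ) (c : F) : IsAdj m (c • (1 : Matrix (OI m) (OI m) F)) (c • 1) :=
  (IsAdj.one m).smul c

/-- an isometry has its inverse as adjoint -/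
lemma IsAdj.of_isometry {m : ℕ} {g : GL (OI m) F} (hg : g ∈ isometryGroup F (quadFormOdd m F)) :
    IsAdj m (g : Matrix (OI m) (OI m) F) ((g⁻¹ : GL (OI m) F) : Matrix (OI m) (OI m) F) := by
  intro u v
  have h := polar_mulVec_of_mem (quadFormOdd m F) hg u (((g⁻¹ : GL (OI m) F) : Matrix (OI m) (OI m) F) *ᵥ v)
  rw [Matrix.mulVec_mulVec, ← Units.val_mul, mul_inv_cancel, Units.val_one, Matrix.one_mulVec] at h
  exact h

/-! ### a little field theory -/

/-- an involutive automorphism is trivial on a subfield of odd prime degree -/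
theorem invol_trivial_on_odd {F L : Type*} [Field F] [Field L] [Finite L] [Algebra F L]
    (σ : L ≃ₐ[F] L) (hσ : ∀ x, σ (σ x) = x) (r : ℕ) (hr : r.Prime) (hr2 : r ≠ 2)
    (E : IntermediateField F L) (hfr : Module.finrank F E = r) :
    ∀ x ∈ E, σ x = x := by
  classical
  have hcard : Nat.card (E ≃ₐ[F] E) = r := by
    rw [← hfr]; exact IsGalois.card_aut_eq_finrank F E
  set τ : E ≃ₐ[F] E := AlgEquiv.restrictNormalHom E σ with hτ
  have hτ2 : τ ^ 2 = 1 := by
    rw [hτ, ← map_pow]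
    have : σ ^ 2 = 1 := by
      ext x
      rw [pow_two]
      exact hσ x
    rw [this, map_one]
  have h1 : orderOf τ ∣ 2 := orderOf_dvd_of_pow_eq_one hτ2
  have h2 : orderOf τ ∣ r := by
    rw [← hcard]; exact orderOf_dvd_natCard τ
  have hcop : Nat.Coprime 2 r := by
    rw [Nat.coprime_primes Nat.prime_two hr]; exact fun h => hr2 h.symm
  have h3 : orderOf τ = 1 := Nat.eq_one_of_dvd_coprimes hcop h1 h2
  have hτ1 : τ = 1 := orderOf_eq_one_iff.1 h3
  intro x hx
  have := AlgEquiv.restrictNormal_commutes σ E ⟨x, hx⟩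
  change algebraMap E L (τ ⟨x, hx⟩) = σ x at this
  rw [hτ1] at this
  exact this.symm

/-! ### the centre of a subalgebra -/

/-- the centre of a subalgebra of the matrix algebra -/
def centreAlg {m : ℕ} (A : Subalgebra F (Matrix (OI m) (OI m) F)) : Subalgebra F (Matrix (OI m) (OI m) F) :=
  A ⊓ Subalgebra.centralizer F (A : Set (Matrix (OI m) (OI m) F))

lemma mem_centreAlg {m : ℕ} {A : Subalgebra F (Matrix (OI m) (OI m) F)} {x : Matrix (OI m) (OI m) F} :
    x ∈ centreAlg A ↔ x ∈ A ∧ ∀ a ∈ A, x * a = a * x := by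
  unfold centreAlg
  rw [Algebra.mem_inf, Subalgebra.mem_centralizer_iff]
  constructor
  · rintro ⟨h1, h2⟩; exact ⟨h1, fun a ha => (h2 a ha).symm⟩
  · rintro ⟨h1, h2⟩; exact ⟨h1, fun a ha => (h2 a ha).symm⟩

lemma centreAlg_comm {m : ℕ} (A : Subalgebra F (Matrix (OI m) (OI m) F)) :
    ∀ x ∈ centreAlg A, ∀ y ∈ centreAlg A, x * y = y * x :=
  fun _ hx y hy => (mem_centreAlg.1 hx).2 y (mem_centreAlg.1 hy).1

lemma centreAlg_normalizes {m : ℕ} {H : Subgroup (GL (OI m) F)} {A : Subalgebra F (Matrix (OI m) (OI m) F)}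
    (hA : NormalizesAlg H A) : NormalizesAlg H (centreAlg A) := by
  intro h hh x hx
  rw [mem_centreAlg] at hx ⊢
  refine ⟨hA h hh x hx.1, ?_⟩
  intro a ha
  have ha' : ((h⁻¹ : GL (OI m) F) : Matrix (OI m) (OI m) F) * a * (h : Matrix (OI m) (OI m) F) ∈ A := by
    have := hA h⁻¹ (H.inv_mem hh) a ha
    rwa [inv_inv] at this
  have hc := hx.2 _ ha'
  calc (h : Matrix (OI m) (OI m) F) * x * ((h⁻¹ : GL (OI m) F) : Matrix (OI m) (OI m) F) * a
      = (h : Matrix (OI m) (OI m) F) * (x * (((h⁻¹ : GL (OI m) F) : Matrix (OI m) (OI m) F) * a *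
          (h : Matrix (OI m) (OI m) F))) * ((h⁻¹ : GL (OI m) F) : Matrix (OI m) (OI m) F) := by
        simp [mul_assoc]
    _ = (h : Matrix (OI m) (OI m) F) * ((((h⁻¹ : GL (OI m) F) : Matrix (OI m) (OI m) F) * a *
          (h : Matrix (OI m) (OI m) F)) * x) * ((h⁻¹ : GL (OI m) F) : Matrix (OI m) (OI m) F) := by
        rw [hc]
    _ = a * ((h : Matrix (OI m) (OI m) F) * x * ((h⁻¹ : GL (OI m) F) : Matrix (OI m) (OI m) F)) := by
        simp [mul_assoc]

lemma centreAlg_adjClosed {m : ℕ} (h2 : (2 : F) ≠ 0) {A : Subalgebra F (Matrix (OI m) (OI m) F)}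
    (hAadj : IsAdjointClosedFor (pf m F) A) : IsAdjointClosedFor (pf m F) (centreAlg A) := by
  intro x hx
  rw [mem_centreAlg] at hx
  obtain ⟨x', hx'A, hx'⟩ := hAadj x hx.1
  refine ⟨x', mem_centreAlg.2 ⟨hx'A, ?_⟩, hx'⟩
  intro b hb
  obtain ⟨b', hb'A, hb'⟩ := hAadj b hb
  have hxa : IsAdj m x x' := hx'
  have hba : IsAdj m b b' := hb'
  have e1 : IsAdj m (b' * x) (x' * b) := hba.symm.mul hxa
  have e2 : IsAdj m (x * b') (b * x') := hxa.mul hba.symm
  rw [hx.2 b' hb'A] at e2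
  exact IsAdj.unique h2 e1 e2

/-! ### the adjoint as an automorphism of a commutative adjoint-closed subalgebra -/

/-- a chosen adjoint -/
noncomputable def adjFun {m : ℕ} (K : Subalgebra F (Matrix (OI m) (OI m) F))
    (hadj : IsAdjointClosedFor (pf m F) K) (x : K) : K :=
  ⟨Classical.choose (hadj x.1 x.2), (Classical.choose_spec (hadj x.1 x.2)).1⟩

lemma adjFun_spec {m : ℕ} (K : Subalgebra F (Matrix (OI m) (OI m) F))
    (hadj : IsAdjointClosedFor (pf m F) K) (x : K) :
    IsAdj m (x : Matrix (OI m) (OI m) F) (adjFun K hadj x : Matrix (OI m) (OI m) F) :=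
  (Classical.choose_spec (hadj x.1 x.2)).2

lemma adjFun_adjFun {m : ℕ} (h2 : (2 : F) ≠ 0) (K : Subalgebra F (Matrix (OI m) (OI m) F))
    (hadj : IsAdjointClosedFor (pf m F) K) (x : K) : adjFun K hadj (adjFun K hadj x) = x :=
  Subtype.ext (IsAdj.unique h2 (adjFun_spec K hadj (adjFun K hadj x)) (adjFun_spec K hadj x).symm)

lemma adjFun_mul {m : ℕ} (h2 : (2 : F) ≠ 0) (K : Subalgebra F (Matrix (OI m) (OI m) F))
    (hcomm : ∀ x ∈ K, ∀ y ∈ K, x * y = y * x)
    (hadj : IsAdjointClosedFor (pf m F) K) (x y : K) :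
    adjFun K hadj (x * y) = adjFun K hadj x * adjFun K hadj y := by
  apply Subtype.ext
  have e1 : IsAdj m ((x : Matrix (OI m) (OI m) F) * (y : Matrix (OI m) (OI m) F))
      (adjFun K hadj (x * y) : Matrix (OI m) (OI m) F) := adjFun_spec K hadj (x * y)
  have e2 := (adjFun_spec K hadj x).mul (adjFun_spec K hadj y)
  rw [hcomm _ (adjFun K hadj y).2 _ (adjFun K hadj x).2] at e2
  exact IsAdj.unique h2 e1 e2

lemma adjFun_add {m : ℕ} (h2 : (2 : F) ≠ 0) (K : Subalgebra F (Matrix (OI m) (OI m) F))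
    (hadj : IsAdjointClosedFor (pf m F) K) (x y : K) :
    adjFun K hadj (x + y) = adjFun K hadj x + adjFun K hadj y := by
  apply Subtype.ext
  have e1 : IsAdj m ((x : Matrix (OI m) (OI m) F) + (y : Matrix (OI m) (OI m) F))
      (adjFun K hadj (x + y) : Matrix (OI m) (OI m) F) := adjFun_spec K hadj (x + y)
  have e2 := (adjFun_spec K hadj x).add (adjFun_spec K hadj y)
  exact IsAdj.unique h2 e1 e2

lemma adjFun_algebraMap {m : ℕ} (h2 : (2 : F) ≠ 0) (K : Subalgebra F (Matrix (OI m) (OI m) F))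
    (hadj : IsAdjointClosedFor (pf m F) K) (c : F) :
    adjFun K hadj (algebraMap F K c) = algebraMap F K c := by
  apply Subtype.ext
  have e0 : ((algebraMap F K c : K) : Matrix (OI m) (OI m) F) = c • (1 : Matrix (OI m) (OI m) F) := by
    rw [Subalgebra.coe_algebraMap, Algebra.algebraMap_eq_smul_one]
  have e1 : IsAdj m (c • (1 : Matrix (OI m) (OI m) F))
      (adjFun K hadj (algebraMap F K c) : Matrix (OI m) (OI m) F) := by
    have := adjFun_spec K hadj (algebraMap F K c)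
    rwa [e0] at this
  have e2 := IsAdj.scalar (F := F) m c
  rw [e0]
  exact IsAdj.unique h2 e1 e2

/-- the adjoint, as an algebra automorphism -/
noncomputable def adjEquiv {m : ℕ} (h2 : (2 : F) ≠ 0) (K : Subalgebra F (Matrix (OI m) (OI m) F))
    (hcomm : ∀ x ∈ K, ∀ y ∈ K, x * y = y * x)
    (hadj : IsAdjointClosedFor (pf m F) K) : K ≃ₐ[F] K where
  toFun := adjFun K hadj
  invFun := adjFun K hadj
  left_inv x := adjFun_adjFun h2 K hadj x
  right_inv x := adjFun_adjFun h2 K hadj x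
  map_mul' x y := adjFun_mul h2 K hcomm hadj x y
  map_add' x y := adjFun_add h2 K hadj x y
  commutes' c := adjFun_algebraMap h2 K hadj c

lemma adjEquiv_spec {m : ℕ} (h2 : (2 : F) ≠ 0) (K : Subalgebra F (Matrix (OI m) (OI m) F))
    (hcomm : ∀ x ∈ K, ∀ y ∈ K, x * y = y * x)
    (hadj : IsAdjointClosedFor (pf m F) K) (x : K) :
    IsAdj m (x : Matrix (OI m) (OI m) F) (adjEquiv h2 K hcomm hadj x : Matrix (OI m) (OI m) F) :=
  adjFun_spec K hadj x

lemma adjEquiv_invol {m : ℕ} (h2 : (2 : F) ≠ 0) (K : Subalgebra F (Matrix (OI m) (OI m) F))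
    (hcomm : ∀ x ∈ K, ∀ y ∈ K, x * y = y * x)
    (hadj : IsAdjointClosedFor (pf m F) K) (x : K) :
    adjEquiv h2 K hcomm hadj (adjEquiv h2 K hcomm hadj x) = x :=
  (adjEquiv h2 K hcomm hadj).left_inv x

/-! ### the self-adjoint field of prime degree -/

/-- `2 ≠ 0` in a finite field of odd order -/
lemma two_ne_zero_of_odd [Fintype F] (hodd : Odd (Fintype.card F)) : (2 : F) ≠ 0 := by
  intro h
  have h1 : ringChar F = 2 := CharP.ringChar_of_prime_eq_zero Nat.prime_two (by exact_mod_cast h)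
  have h2 := FiniteField.even_card_iff_char_two.1 h1
  rw [Nat.odd_iff] at hodd
  omega

lemma finrank_OI (m : ℕ) : Module.finrank F (OI m → F) = 2 * m + 1 := by
  rw [Module.finrank_fintype_fun_eq_card]
  simp [OI]
  ring

theorem exists_selfadjoint_field [Fintype F] (hodd : Odd (Fintype.card F)) (m : ℕ)
    (H : Subgroup (GL (OI m) F))
    (A : Subalgebra F (Matrix (OI m) (OI m) F)) (hA : NormalizesAlg H A)
    (hAadj : IsAdjointClosedFor (pf m F) A)
    (hz : ∃ z ∈ A, (∀ a ∈ A, z * a = a * z) ∧ ∀ c : F, z ≠ c • (1 : Matrix (OI m) (OI m) F))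
    (hinv : ∀ x ∈ A, (∀ a ∈ A, x * a = a * x) → x ≠ 0 →
      ∃ y ∈ A, (∀ a ∈ A, y * a = a * y) ∧ x * y = 1) :
    ∃ (r : ℕ) (K' : Subalgebra F (Matrix (OI m) (OI m) F)), r.Prime ∧ IsFieldSubalgebra r K' ∧
      IsSelfAdjointFor (pf m F) K' ∧ H ≤ subalgebraNormalizer K' := by
  classical
  have h2 := two_ne_zero_of_odd hodd
  set K := centreAlg A with hKdef
  have hcomm := centreAlg_comm A
  have hnorm : NormalizesAlg H K := centreAlg_normalizes hA
  have hadj : IsAdjointClosedFor (pf m F) K := centreAlg_adjClosed h2 hAadj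
  obtain ⟨z, hzA, hzc, hz⟩ := hz
  have hzK : z ∈ K := mem_centreAlg.2 ⟨hzA, hzc⟩
  have hinvK : ∀ x ∈ K, x ≠ 0 → ∃ y ∈ K, x * y = 1 := by
    intro x hx hx0
    obtain ⟨y, hyA, hyc, hxy⟩ := hinv x (mem_centreAlg.1 hx).1 (mem_centreAlg.1 hx).2 hx0
    exact ⟨y, mem_centreAlg.2 ⟨hyA, hyc⟩, hxy⟩
  have hK : IsField K :=
    { exists_pair_ne := ⟨0, 1, fun h => zero_ne_one (α := Matrix (OI m) (OI m) F) (congrArg Subtype.val h)⟩
      mul_comm := fun x y => Subtype.ext (hcomm x x.2 y y.2)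
      mul_inv_cancel := fun {a} ha => by
        obtain ⟨y, hy, hxy⟩ := hinvK a a.2 (fun h => ha (Subtype.ext h))
        exact ⟨⟨y, hy⟩, Subtype.ext hxy⟩ }
  let _ : Field K := hK.toField
  have hd : Module.finrank F K ≠ 1 := by
    intro h1
    obtain ⟨c, hc⟩ := (finrank_eq_one_iff_of_nonzero' (1 : K) one_ne_zero).1 h1 ⟨z, hzK⟩
    apply hz c
    have := congrArg Subtype.val hc
    simpa using this.symm
  obtain ⟨r, E, hr, hfr, hE⟩ :=
    Cfsg.Agent.Lib.Helper35_Asch_PK5.exists_prime_degree_subfield (F := F) (L := K) hd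
  set K' : Subalgebra F (Matrix (OI m) (OI m) F) := E.toSubalgebra.map K.val with hK'
  have hmem : ∀ x, x ∈ K' ↔ ∃ e : K, e ∈ E ∧ (e : Matrix (OI m) (OI m) F) = x := by
    intro x
    rw [hK', Subalgebra.mem_map]
    rfl
  have hK'K : ∀ x ∈ K', x ∈ K := by
    intro x hx
    obtain ⟨e, _, rfl⟩ := (hmem x).1 hx
    exact e.2
  have hfs : IsFieldSubalgebra r K' := by
    refine ⟨?_, ?_, ?_⟩
    · intro x hx y hy
      exact hcomm x (hK'K x hx) y (hK'K y hy)
    · intro x hx hx0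
      obtain ⟨e, he, rfl⟩ := (hmem x).1 hx
      have he0 : e ≠ 0 := by
        intro h0; apply hx0; rw [h0]; rfl
      refine ⟨((e⁻¹ : K) : Matrix (OI m) (OI m) F), (hmem _).2 ⟨e⁻¹, E.inv_mem he, rfl⟩, ?_⟩
      have := mul_inv_cancel₀ he0
      exact congrArg Subtype.val this
    · rw [← hfr]
      have hinj : Function.Injective (K.val : K →ₐ[F] Matrix (OI m) (OI m) F) := Subtype.val_injective
      exact (LinearEquiv.finrank_eq (E.toSubalgebra.equivMapOfInjective K.val hinj).toLinearEquiv).symm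
  have hdvd : r ∣ 2 * m + 1 := by
    have := Cfsg.Agent.Lib.Helper63_SpExt_QB1.QB1 r K' hfs ⊤ (fun _ _ _ _ => Submodule.mem_top)
    rwa [finrank_top, finrank_OI] at this
  have hr2 : r ≠ 2 := by
    rintro rfl
    omega
  have hσE := invol_trivial_on_odd (F := F) (L := K) (adjEquiv h2 K hcomm hadj)
    (adjEquiv_invol h2 K hcomm hadj) r hr hr2 E hfr
  refine ⟨r, K', hr, hfs, ?_, ?_⟩
  · intro k hk u v
    obtain ⟨e, he, rfl⟩ := (hmem k).1 hk
    have h1 := adjEquiv_spec h2 K hcomm hadj e u v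
    have h3 : adjEquiv h2 K hcomm hadj e = e := hσE e he
    rw [h3] at h1
    exact h1
  · -- `H` normalizes `K'`
    have key : ∀ h ∈ H, ∀ k ∈ K', (h : Matrix (OI m) (OI m) F) * k *
        ((h⁻¹ : GL (OI m) F) : Matrix (OI m) (OI m) F) ∈ K' := by
      intro h hh k hk
      obtain ⟨e, he, rfl⟩ := (hmem k).1 hk
      have h1 : ∀ a ∈ K, (h : Matrix (OI m) (OI m) F) * a *
          ((h⁻¹ : GL (OI m) F) : Matrix (OI m) (OI m) F) ∈ K := hnorm h hh
      have h2 : ∀ a ∈ K, ((h⁻¹ : GL (OI m) F) : Matrix (OI m) (OI m) F) * a *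
          (h : Matrix (OI m) (OI m) F) ∈ K := by
        intro a ha
        have := hnorm h⁻¹ (H.inv_mem hh) a ha
        rwa [inv_inv] at this
      exact (hmem _).2 ⟨Cfsg.Agent.Lib.Helper35_Asch_PK5.conjAlgEquiv K h h1 h2 e,
        hE (Cfsg.Agent.Lib.Helper35_Asch_PK5.conjAlgEquiv K h h1 h2) e he, rfl⟩
    intro h hh k
    constructor
    · exact key h hh k
    · intro hk
      have := key h⁻¹ (H.inv_mem hh) _ hk
      rw [inv_inv] at this
      have h3 : ((h⁻¹ : GL (OI m) F) : Matrix (OI m) (OI m) F) *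
          ((h : Matrix (OI m) (OI m) F) * k * ((h⁻¹ : GL (OI m) F) : Matrix (OI m) (OI m) F)) *
          (h : Matrix (OI m) (OI m) F) = k := by
        simp [mul_assoc]
      rwa [h3] at this

/-! ### groups that are cyclic modulo signs are reducible -/

section generic

variable {ι : Type} [Fintype ι] [DecidableEq ι]

omit [DecidableEq ι] in
lemma sum_mulVec' (s : Finset ℕ) (f : ℕ → Matrix ι ι F) (v : ι → F) :
    (∑ i ∈ s, f i) *ᵥ v = ∑ i ∈ s, f i *ᵥ v :=
  map_sum (Matrix.mulVec.addMonoidHomLeft v) f s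

/-- the Krylov span of a vector -/
def krylov (b : Matrix ι ι F) (v : ι → F) (d : ℕ) : Submodule F (ι → F) :=
  Submodule.span F (Set.range (fun i : Fin d => b ^ (i : ℕ) *ᵥ v))

lemma krylov_invariant (b : Matrix ι ι F) (v : ι → F) (d : ℕ)
    (hd : b ^ d *ᵥ v ∈ krylov b v d) : ∀ w ∈ krylov b v d, b *ᵥ w ∈ krylov b v d := by
  intro w hw
  unfold krylov at hw
  induction hw using Submodule.span_induction with
  | mem x hx =>
    obtain ⟨i, rfl⟩ := hx
    rw [Matrix.mulVec_mulVec, ← pow_succ']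
    by_cases hi : (i : ℕ) + 1 < d
    · exact Submodule.subset_span ⟨⟨(i : ℕ) + 1, hi⟩, rfl⟩
    · have : (i : ℕ) + 1 = d := by omega
      rw [this]; exact hd
  | zero => rw [Matrix.mulVec_zero]; exact Submodule.zero_mem _
  | add x y _ _ hx hy => rw [Matrix.mulVec_add]; exact Submodule.add_mem _ hx hy
  | smul c x _ hx => rw [Matrix.mulVec_smul]; exact Submodule.smul_mem _ c hx

lemma krylov_invariant_pow (b : Matrix ι ι F) (v : ι → F) (d : ℕ)
    (hd : b ^ d *ᵥ v ∈ krylov b v d) (i : ℕ) : ∀ w ∈ krylov b v d, b ^ i *ᵥ w ∈ krylov b v d := by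
  induction i with
  | zero => intro w hw; rwa [pow_zero, Matrix.one_mulVec]
  | succ i ih =>
    intro w hw
    rw [pow_succ', ← Matrix.mulVec_mulVec]
    exact krylov_invariant b v d hd _ (ih w hw)

lemma krylov_finrank_le (b : Matrix ι ι F) (v : ι → F) (d : ℕ) :
    Module.finrank F (krylov b v d) ≤ d := by
  have := finrank_range_le_card (R := F) (fun i : Fin d => b ^ (i : ℕ) *ᵥ v)
  rw [Fintype.card_fin] at this
  exact this

/-- a group all of whose elements are `± b ^ i` with `b ^ n = 1`, `n = dim ≥ 2`, is reducible -/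
lemma reducible_core (H : Subgroup (GL ι F)) (b : Matrix ι ι F) (n : ℕ) (hn : Fintype.card ι = n)
    (hn2 : 2 ≤ n) (hbn : b ^ n = 1)
    (hH : ∀ g ∈ H, ∃ i : ℕ, (g : Matrix ι ι F) = b ^ i ∨ (g : Matrix ι ι F) = -(b ^ i)) :
    ¬ ActsIrreducibly (matrixSet H) := by
  classical
  intro hirr
  -- a nonzero vector with a short Krylov relation
  have hex : ∃ (v : ι → F) (d : ℕ), v ≠ 0 ∧ 1 ≤ d ∧ d < n ∧ b ^ d *ᵥ v ∈ krylov b v d := by
    by_cases hΨ : (∑ i ∈ Finset.range n, b ^ i) = 0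
    · have hne : Nonempty ι := by
        rw [← Fintype.card_pos_iff]; omega
      obtain ⟨i₀⟩ := hne
      refine ⟨Pi.single i₀ 1, n - 1, ?_, by omega, by omega, ?_⟩
      · intro h
        have := congrFun h i₀
        simp at this
      · have hn1 : n = (n - 1) + 1 := by omega
        rw [hn1, Finset.sum_range_succ] at hΨ
        have hb : b ^ (n - 1) = -(∑ i ∈ Finset.range (n - 1), b ^ i) := by
          rw [eq_neg_iff_add_eq_zero, add_comm]; exact hΨ
        rw [hb, Matrix.neg_mulVec, sum_mulVec']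
        apply Submodule.neg_mem
        apply Submodule.sum_mem
        intro i hi
        rw [Finset.mem_range] at hi
        exact Submodule.subset_span ⟨⟨i, hi⟩, rfl⟩
    · -- some `v = Ψ(b) w ≠ 0` is fixed by `b`
      have : ∃ w, (∑ i ∈ Finset.range n, b ^ i) *ᵥ w ≠ 0 := by
        by_contra hcon
        push Not at hcon
        apply hΨ
        rw [Matrix.ext_iff_mulVec]
        intro w
        rw [hcon w, Matrix.zero_mulVec]
      obtain ⟨w, hw⟩ := this
      refine ⟨(∑ i ∈ Finset.range n, b ^ i) *ᵥ w, 1, hw, le_refl 1, by omega, ?_⟩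
      have hfix : b * (∑ i ∈ Finset.range n, b ^ i) = ∑ i ∈ Finset.range n, b ^ i := by
        have h1 := mul_geom_sum b n
        rw [hbn, sub_self, sub_mul, one_mul, sub_eq_zero] at h1
        exact h1
      rw [pow_one, Matrix.mulVec_mulVec, hfix]
      exact Submodule.subset_span ⟨⟨0, by omega⟩, by simp⟩
  obtain ⟨v, d, hv, hd1, hdn, hrel⟩ := hex
  have hinv : ∀ s ∈ matrixSet H, (krylov b v d).map (Matrix.toLin' s) ≤ krylov b v d := by
    rintro s ⟨g, hg, rfl⟩ x hx
    obtain ⟨w, hw, rfl⟩ := Submodule.mem_map.1 hx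
    rw [Matrix.toLin'_apply]
    show (g : Matrix ι ι F) *ᵥ w ∈ krylov b v d
    obtain ⟨i, hi | hi⟩ := hH g hg
    · rw [hi]; exact krylov_invariant_pow b v d hrel i w hw
    · rw [hi, Matrix.neg_mulVec]
      exact Submodule.neg_mem _ (krylov_invariant_pow b v d hrel i w hw)
  rcases hirr _ hinv with h | h
  · apply hv
    have : v ∈ krylov b v d := Submodule.subset_span ⟨⟨0, by omega⟩, by simp⟩
    rw [h] at this
    exact (Submodule.mem_bot F).1 this
  · have h1 := krylov_finrank_le b v d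
    rw [h, finrank_top, Module.finrank_fintype_fun_eq_card, hn] at h1
    omega

/-- the same with `b ^ n = ± 1`, `n` odd -/
lemma reducible_of_cyclic_mod_sign (H : Subgroup (GL ι F)) (a : Matrix ι ι F) (n : ℕ)
    (hn : Fintype.card ι = n) (hn2 : 2 ≤ n) (hodd : Odd n) (han : a ^ n = 1 ∨ a ^ n = -1)
    (hH : ∀ g ∈ H, ∃ i : ℕ, (g : Matrix ι ι F) = a ^ i ∨ (g : Matrix ι ι F) = -(a ^ i)) :
    ¬ ActsIrreducibly (matrixSet H) := by
  rcases han with han | han
  · exact reducible_core H a n hn hn2 han hH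
  · apply reducible_core H (-a) n hn hn2
    · rw [Odd.neg_pow hodd, han, neg_neg]
    · intro g hg
      obtain ⟨i, hi⟩ := hH g hg
      refine ⟨i, ?_⟩
      rcases Nat.even_or_odd i with he | ho
      · rw [Even.neg_pow he]; exact hi
      · rw [Odd.neg_pow ho, neg_neg]; exact hi.symm


/-! ### conjugation on a normalised subalgebra -/

lemma normalizer_fwd {K : Subalgebra F (Matrix ι ι F)} {g : GL ι F} (hg : g ∈ subalgebraNormalizer K) :
    ∀ a ∈ K, (g : Matrix ι ι F) * a * ((g⁻¹ : GL ι F) : Matrix ι ι F) ∈ K :=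
  fun a ha => (hg a).1 ha

lemma normalizer_bwd {K : Subalgebra F (Matrix ι ι F)} {g : GL ι F} (hg : g ∈ subalgebraNormalizer K) :
    ∀ a ∈ K, ((g⁻¹ : GL ι F) : Matrix ι ι F) * a * (g : Matrix ι ι F) ∈ K := by
  intro a ha
  have := ((subalgebraNormalizer K).inv_mem hg a).1 ha
  rwa [inv_inv] at this

/-- conjugation, as a homomorphism from the normaliser of a subalgebra to its automorphism group -/
noncomputable def conjHom (K : Subalgebra F (Matrix ι ι F)) : subalgebraNormalizer K →* (K ≃ₐ[F] K) where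
  toFun g := Cfsg.Agent.Lib.Helper35_Asch_PK5.conjAlgEquiv K g.1 (normalizer_fwd g.2) (normalizer_bwd g.2)
  map_one' := by
    apply AlgEquiv.ext
    intro x
    apply Subtype.ext
    simp [Cfsg.Agent.Lib.Helper35_Asch_PK5.conjAlgEquiv]
  map_mul' g h := by
    apply AlgEquiv.ext
    intro x
    apply Subtype.ext
    simp [Cfsg.Agent.Lib.Helper35_Asch_PK5.conjAlgEquiv, mul_assoc]

lemma conjHom_apply (K : Subalgebra F (Matrix ι ι F)) (g : subalgebraNormalizer K) (x : K) :
    ((conjHom K g x : K) : Matrix ι ι F) =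
      (g.1 : Matrix ι ι F) * x * ((g.1⁻¹ : GL ι F) : Matrix ι ι F) := rfl

lemma commute_of_conjHom_eq_one (K : Subalgebra F (Matrix ι ι F)) (g : subalgebraNormalizer K)
    (hg : conjHom K g = 1) : ∀ k ∈ K, (g.1 : Matrix ι ι F) * k = k * (g.1 : Matrix ι ι F) := by
  intro k hk
  have h1 := conjHom_apply K g ⟨k, hk⟩
  rw [hg] at h1
  change k = _ at h1
  calc (g.1 : Matrix ι ι F) * k
      = (g.1 : Matrix ι ι F) * k * (((g.1⁻¹ : GL ι F) : Matrix ι ι F) * (g.1 : Matrix ι ι F)) := by simp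
    _ = ((g.1 : Matrix ι ι F) * k * ((g.1⁻¹ : GL ι F) : Matrix ι ι F)) * (g.1 : Matrix ι ι F) := by
        simp only [mul_assoc]
    _ = k * (g.1 : Matrix ι ι F) := by rw [← h1]

end generic

/-! ### a field of full degree -/

section full

/-- a matrix commuting with a field subalgebra of full degree lies in it -/
lemma mem_of_commute_full {ι : Type} [Fintype ι] [DecidableEq ι] [Nonempty ι]
    (K : Subalgebra F (Matrix ι ι F)) (n : ℕ) (hK : IsFieldSubalgebra n K)
    (hn : Fintype.card ι = n) (c : Matrix ι ι F) (hc : ∀ k ∈ K, c * k = k * c) : c ∈ K := by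
  classical
  obtain ⟨i₀⟩ := ‹Nonempty ι›
  set v : ι → F := Pi.single i₀ 1 with hv
  have hv0 : v ≠ 0 := by
    intro h
    have := congrFun h i₀
    simp [hv] at this
  let ev : K →ₗ[F] (ι → F) :=
    { toFun := fun k => (k : Matrix ι ι F) *ᵥ v
      map_add' := fun x y => Matrix.add_mulVec _ _ _
      map_smul' := fun c x => Matrix.smul_mulVec c _ _ }
  have hinj : Function.Injective ev := by
    rw [← LinearMap.ker_eq_bot, LinearMap.ker_eq_bot']
    intro k hk
    by_contra hk0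
    obtain ⟨y, hy, hxy⟩ := hK.inv k.1 k.2 (fun h => hk0 (Subtype.ext h))
    have hyx : y * k.1 = 1 := by rw [hK.comm y hy k.1 k.2]; exact hxy
    apply hv0
    have hk' : k.1 *ᵥ v = 0 := hk
    calc v = (y * k.1) *ᵥ v := by rw [hyx, Matrix.one_mulVec]
      _ = y *ᵥ (k.1 *ᵥ v) := (Matrix.mulVec_mulVec _ _ _).symm
      _ = 0 := by rw [hk', Matrix.mulVec_zero]
  have hsurj : Function.Surjective ev := by
    have hfr : Module.finrank F K = Module.finrank F (ι → F) := by
      rw [hK.finrank_eq, Module.finrank_fintype_fun_eq_card, hn]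
    exact (LinearMap.injective_iff_surjective_of_finrank_eq_finrank hfr).1 hinj
  obtain ⟨k₀, hk₀⟩ := hsurj (c *ᵥ v)
  have hk₀' : k₀.1 *ᵥ v = c *ᵥ v := hk₀
  have : c = k₀.1 := by
    rw [Matrix.ext_iff_mulVec]
    intro w
    obtain ⟨k, hk⟩ := hsurj w
    have hk' : k.1 *ᵥ v = w := hk
    rw [← hk', Matrix.mulVec_mulVec, hc k.1 k.2, ← Matrix.mulVec_mulVec, ← hk₀', Matrix.mulVec_mulVec,
      Matrix.mulVec_mulVec, hK.comm k.1 k.2 k₀.1 k₀.2]
  rw [this]; exact k₀.2

/-- a self-adjoint isometry in a field subalgebra is `± 1` -/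
lemma sign_of_mem {m : ℕ} (h2 : (2 : F) ≠ 0) (K : Subalgebra F (Matrix (OI m) (OI m) F)) (r : ℕ)
    (hK : IsFieldSubalgebra r K) (hsa : IsSelfAdjointFor (pf m F) K) (g : GL (OI m) F)
    (hgI : g ∈ isometryGroup F (quadFormOdd m F)) (hgK : (g : Matrix (OI m) (OI m) F) ∈ K) :
    (g : Matrix (OI m) (OI m) F) = 1 ∨ (g : Matrix (OI m) (OI m) F) = -1 := by
  have e1 : IsAdj m (g : Matrix (OI m) (OI m) F) (g : Matrix (OI m) (OI m) F) := hsa _ hgK
  have e2 := IsAdj.of_isometry hgI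
  have e3 : (g : Matrix (OI m) (OI m) F) = ((g⁻¹ : GL (OI m) F) : Matrix (OI m) (OI m) F) :=
    IsAdj.unique h2 e1 e2
  have e4 : (g : Matrix (OI m) (OI m) F) * (g : Matrix (OI m) (OI m) F) = 1 := by
    nth_rewrite 2 [e3]
    rw [← Units.val_mul, mul_inv_cancel, Units.val_one]
  by_cases h1 : (g : Matrix (OI m) (OI m) F) - 1 = 0
  · left; exact sub_eq_zero.1 h1
  · right
    have hmem : (g : Matrix (OI m) (OI m) F) - 1 ∈ K := K.sub_mem hgK K.one_mem
    obtain ⟨y, hy, hxy⟩ := hK.inv _ hmem h1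
    have hyx : y * ((g : Matrix (OI m) (OI m) F) - 1) = 1 := by
      rw [hK.comm y hy _ hmem]; exact hxy
    have h0 : ((g : Matrix (OI m) (OI m) F) - 1) * ((g : Matrix (OI m) (OI m) F) + 1) = 0 := by
      rw [sub_mul, mul_add, mul_one, one_mul, e4]; abel
    have : (g : Matrix (OI m) (OI m) F) + 1 = 0 := by
      calc (g : Matrix (OI m) (OI m) F) + 1
          = (y * ((g : Matrix (OI m) (OI m) F) - 1)) * ((g : Matrix (OI m) (OI m) F) + 1) := by
            rw [hyx, one_mul]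
        _ = y * (((g : Matrix (OI m) (OI m) F) - 1) * ((g : Matrix (OI m) (OI m) F) + 1)) :=
            mul_assoc _ _ _
        _ = 0 := by rw [h0, mul_zero]
    exact eq_neg_of_add_eq_zero_left this

/-- the degree of the field cannot be the full dimension -/
theorem full_field_false [Fintype F] (hodd : Odd (Fintype.card F)) (m : ℕ) (hm : 1 ≤ m)
    (H : Subgroup (GL (OI m) F)) (hHI : H ≤ isometryGroup F (quadFormOdd m F))
    (hirr : ActsIrreducibly (matrixSet H))
    (K : Subalgebra F (Matrix (OI m) (OI m) F)) (hp : (2 * m + 1).Prime)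
    (hK : IsFieldSubalgebra (2 * m + 1) K) (hsa : IsSelfAdjointFor (pf m F) K)
    (hHN : H ≤ subalgebraNormalizer K) : False := by
  classical
  have h2 := two_ne_zero_of_odd hodd
  have hcardι : Fintype.card (OI m) = 2 * m + 1 := by
    simp [OI]; ring
  have hcent := mem_of_commute_full K (2 * m + 1) hK hcardι
  have hsign : ∀ g ∈ H, (g : Matrix (OI m) (OI m) F) ∈ K →
      (g : Matrix (OI m) (OI m) F) = 1 ∨ (g : Matrix (OI m) (OI m) F) = -1 :=
    fun g hg hgK => sign_of_mem h2 K _ hK hsa g (hHI hg) hgK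
  have hf := Cfsg.Agent.Lib.Helper63_SpExt_QB1.isField K hK
  let _ : Field K := hf.toField
  have hcard : Nat.card (K ≃ₐ[F] K) = 2 * m + 1 := by
    rw [IsGalois.card_aut_eq_finrank F K, hK.finrank_eq]
  have : Fact (2 * m + 1).Prime := ⟨hp⟩
  by_cases hall : ∀ g ∈ H, (g : Matrix (OI m) (OI m) F) ∈ K
  · refine reducible_of_cyclic_mod_sign H 1 (2 * m + 1) hcardι (by omega) ⟨m, by ring⟩
      (Or.inl (one_pow _)) ?_ hirr
    intro g hg
    refine ⟨0, ?_⟩
    rw [pow_zero]; exact hsign g hg (hall g hg)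
  · push Not at hall
    obtain ⟨h, hh, hhK⟩ := hall
    set hN : subalgebraNormalizer K := ⟨h, hHN hh⟩ with hNdef
    set φ := conjHom K hN with hφdef
    have hφ : φ ≠ 1 := by
      intro h1
      exact hhK (hcent _ (commute_of_conjHom_eq_one K hN h1))
    have hker : ∀ x : subalgebraNormalizer K, x.1 ∈ H → conjHom K x = 1 →
        (x.1 : Matrix (OI m) (OI m) F) = 1 ∨ (x.1 : Matrix (OI m) (OI m) F) = -1 := by
      intro x hxH hx1
      exact hsign x.1 hxH (hcent _ (commute_of_conjHom_eq_one K x hx1))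
    refine reducible_of_cyclic_mod_sign H (h : Matrix (OI m) (OI m) F) (2 * m + 1) hcardι (by omega)
      ⟨m, by ring⟩ ?_ ?_ hirr
    · have h1 : conjHom K (hN ^ (2 * m + 1)) = 1 := by
        rw [map_pow, ← hcard]; exact pow_card_eq_one'
      have := hker (hN ^ (2 * m + 1)) (H.pow_mem hh _) h1
      simpa [hNdef] using this
    · intro g hg
      set gN : subalgebraNormalizer K := ⟨g, hHN hg⟩ with hgNdef
      have hmem : conjHom K gN ∈ Submonoid.powers φ := mem_powers_of_prime_card hcard hφ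
      obtain ⟨i, hi⟩ := hmem
      refine ⟨i, ?_⟩
      have h1 : conjHom K ((hN ^ i)⁻¹ * gN) = 1 := by
        rw [map_mul, map_inv, map_pow, ← hi]; exact inv_mul_cancel _
      have h3 := hker ((hN ^ i)⁻¹ * gN) (H.mul_mem (H.inv_mem (H.pow_mem hh i)) hg) h1
      have hg_eq : (g : Matrix (OI m) (OI m) F) = (h : Matrix (OI m) (OI m) F) ^ i *
          ((((hN ^ i)⁻¹ * gN : subalgebraNormalizer K) : GL (OI m) F) : Matrix (OI m) (OI m) F) := by
        have e : g = h ^ i * ((h ^ i)⁻¹ * g) := by group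
        conv_lhs => rw [e]
        simp [hNdef, hgNdef]
      rcases h3 with hc | hc
      · left; rw [hg_eq, hc, mul_one]
      · right; rw [hg_eq, hc, mul_neg, mul_one]

end full

/-! ### the package -/

/-- OP3: a normalised adjoint-closed subalgebra whose centre is a proper extension field puts `H` into
class 3 -/
theorem OP3 [Fintype F] (hodd : Odd (Fintype.card F)) (m : ℕ) (hm : 3 ≤ m) (H : Subgroup (GL (OI m) F))
    (hHI : H ≤ isometryGroup F (quadFormOdd m F)) (hirr : ActsIrreducibly (matrixSet H))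
    (A : Subalgebra F (Matrix (OI m) (OI m) F)) (hA : NormalizesAlg H A)
    (hAadj : IsAdjointClosedFor (QuadraticMap.polar (quadFormOdd m F)) A)
    (hz : ∃ z ∈ A, (∀ a ∈ A, z * a = a * z) ∧ ∀ c : F, z ≠ c • (1 : Matrix (OI m) (OI m) F))
    (hinv : ∀ x ∈ A, (∀ a ∈ A, x * a = a * x) → x ≠ 0 → ∃ y ∈ A, (∀ a ∈ A, y * a = a * y) ∧ x * y = 1) :
    InOClass m H := by
  obtain ⟨r, K', hr, hfs, hsa, hHN⟩ := exists_selfadjoint_field hodd m H A hA hAadj hz hinv
  have hne : 2 * m + 1 ≠ r := by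
    intro h
    subst h
    exact full_field_false hodd m (by omega) H hHI hirr K' hr hfs hsa hHN
  exact ⟨subalgebraNormalizer K' ⊓ isometryGroup F (quadFormOdd m F),
    Or.inr (Or.inr (Or.inr (Or.inr (Or.inl ⟨r, K', hr, hne, hfs, hsa, rfl⟩)))), le_inf hHN hHI⟩

end Cfsg.Agent.Lib.Helper47_OrthOdd_OP3
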