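import Mathlib
import Cfsg.Prelude.Def_GeometricClasses

/-!
# Package OND-PERP of helper68 (S5989 / S5991): the orthogonal complement of a nondegenerate subspace
-/

set_option autoImplicit false

open Module

namespace Cfsg.Agent.Lib.Helper73_OND_PERP

universe v

variable {F : Type v} [Field F] {ι : Type} [Fintype ι] [DecidableEq ι]

theorem PERP (Q : QuadraticForm F (ι → F)) (hQ : (QuadraticMap.polarBilin Q).Nondegenerate)
    (W : Submodule F (ι → F)) (hW : Cfsg.Geo.IsNondegenerateOn (QuadraticMap.polar ⇑Q) W) :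
    ∃ U : Submodule F (ι → F), IsCompl W U ∧ (∀ w ∈ W, ∀ u ∈ U, QuadraticMap.polar ⇑Q w u = 0) ∧
      (∀ u, (∀ w ∈ W, QuadraticMap.polar ⇑Q w u = 0) → u ∈ U) ∧
      Cfsg.Geo.IsNondegenerateOn (QuadraticMap.polar ⇑Q) U ∧
      finrank F W + finrank F U = Fintype.card ι := by
  set B : LinearMap.BilinForm F (ι → F) := QuadraticMap.polarBilin Q with hB
  have hBapp : ∀ x y, B x y = QuadraticMap.polar ⇑Q x y := fun x y => rfl
  have hsymm : ∀ x y, QuadraticMap.polar ⇑Q x y = QuadraticMap.polar ⇑Q y x :=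
    fun x y => QuadraticMap.polar_comm _ x y
  have hrefl : B.IsRefl := by
    intro x y h
    rw [hBapp] at h ⊢
    rw [hsymm, h]
  have hres : (LinearMap.BilinForm.restrict B W).Nondegenerate := by
    apply LinearMap.BilinForm.Nondegenerate.ofSeparatingLeft
    intro x hx
    by_contra hx0
    have hx0' : (x : ι → F) ≠ 0 := fun h => hx0 (Subtype.ext h)
    obtain ⟨_, ⟨y, hy, hne⟩⟩ := hW x x.2 hx0'
    exact hne (hx ⟨y, hy⟩)
  have hcompl : IsCompl W (B.orthogonal W) :=
    LinearMap.BilinForm.isCompl_orthogonal_of_restrict_nondegenerate hrefl hres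
  have hmem : ∀ u, u ∈ B.orthogonal W ↔ ∀ w ∈ W, QuadraticMap.polar ⇑Q w u = 0 := by
    intro u
    rw [LinearMap.BilinForm.mem_orthogonal_iff]
    rfl
  refine ⟨B.orthogonal W, hcompl, ?_, ?_, ?_, ?_⟩
  · intro w hw u hu
    exact (hmem u).mp hu w hw
  · intro u hu
    exact (hmem u).mpr hu
  · -- nondegeneracy of the complement
    intro u hu hu0
    have hex : ∃ x ∈ B.orthogonal W, QuadraticMap.polar ⇑Q x u ≠ 0 := by
      by_contra hcon
      push Not at hcon
      apply hu0
      apply hQ.1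
      intro v
      have hv : v ∈ W ⊔ B.orthogonal W := by rw [hcompl.sup_eq_top]; exact Submodule.mem_top
      obtain ⟨w, hw, x, hx, rfl⟩ := Submodule.mem_sup.1 hv
      rw [hBapp, QuadraticMap.polar_add_right, hsymm u w, (hmem u).mp hu w hw, hsymm u x,
        hcon x hx, add_zero]
    obtain ⟨x, hx, hne⟩ := hex
    exact ⟨⟨x, hx, hne⟩, ⟨x, hx, by rwa [hsymm]⟩⟩
  · have h1 := LinearMap.BilinForm.finrank_orthogonal hQ W
    have h2 : finrank F (ι → F) = Fintype.card ι := Module.finrank_fintype_fun_eq_card F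
    have h3 : finrank F W ≤ finrank F (ι → F) := Submodule.finrank_le W
    omega

end Cfsg.Agent.Lib.Helper73_OND_PERP
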