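/-
OMX package B1a (helper29 architect; helper47): the stabiliser of a non-degenerate subspace of the standard
odd-dimensional quadratic space is the stabiliser of a non-degenerate subspace of even dimension.
-/
import Mathlib
import Cfsg.Agent.Lib.Helper29_OrthOddDefs
import Cfsg.Agent.Lib.Helper29_OmegaMaxDefs
import Cfsg.Agent.Lib.Helper44_StdForms
import Cfsg.Agent.Lib.Helper73_OND_PERP
import Cfsg.Agent.Lib.Helper47_OrthOdd_OP3

set_option autoImplicit false

namespace Cfsg.Agent.Lib.Helper47_OMX_B1a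

open Cfsg Cfsg.Geo Matrix Cfsg.Agent.Lib.Helper29_OrthOddDefs Cfsg.Agent.Lib.Helper29_OmegaMaxDefs
open scoped Kronecker MatrixGroups

variable {F : Type*} [Field F]

/-- the polar form of the standard odd-dimensional form is non-degenerate (as a Mathlib bilinear form) -/
lemma nondegenerate_polarBilin_qfOdd (h2 : (2 : F) ≠ 0) (m : ℕ) :
    (QuadraticMap.polarBilin (Cfsg.Agent.Lib.Helper44_StdForms.qfOdd m F)).Nondegenerate := by
  apply LinearMap.BilinForm.Nondegenerate.ofSeparatingLeft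
  intro x hx
  apply Cfsg.Agent.Lib.Helper47_OrthOdd_OP3.pf_nondeg m h2
  intro u
  have h := hx u
  rw [Cfsg.Agent.Lib.Helper47_OrthOdd_OP3.pf_comm, Cfsg.Agent.Lib.Helper47_OrthOdd_OP3.pf_eq]
  exact h

lemma mem_subspaceStabilizer_iff {ι : Type} [Fintype ι] [DecidableEq ι] (W : Submodule F (ι → F))
    (g : GL ι F) : g ∈ subspaceStabilizer W ↔ ∀ v, v ∈ W ↔ (g : Matrix ι ι F) *ᵥ v ∈ W := Iff.rfl

/-- the orthogonal complement of a non-degenerate subspace, with the properties needed for `B1a` and `B1b` -/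
theorem exists_perp (h2 : (2 : F) ≠ 0) (m : ℕ) (W : Submodule F (OI m → F))
    (hW : IsNondegenerateOn (QuadraticMap.polar (quadFormOdd m F)) W) :
    ∃ U : Submodule F (OI m → F), IsCompl W U ∧
      (∀ u, u ∈ U ↔ ∀ w ∈ W, QuadraticMap.polar (quadFormOdd m F) w u = 0) ∧
      IsNondegenerateOn (QuadraticMap.polar (quadFormOdd m F)) U ∧
      Module.finrank F W + Module.finrank F U = 2 * m + 1 ∧
      subspaceStabilizer W ⊓ isometryGroup F (quadFormOdd m F) ≤ subspaceStabilizer U := by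
  classical
  have hcoe : ⇑(Cfsg.Agent.Lib.Helper44_StdForms.qfOdd m F) = quadFormOdd m F :=
    Cfsg.Agent.Lib.Helper44_StdForms.coe_qfOdd m F
  have hW' : IsNondegenerateOn
      (QuadraticMap.polar ⇑(Cfsg.Agent.Lib.Helper44_StdForms.qfOdd m F)) W := by
    rw [hcoe]; exact hW
  obtain ⟨U, hcompl, horth, hperp, hUnd, hdim⟩ := Cfsg.Agent.Lib.Helper73_OND_PERP.PERP
    (Cfsg.Agent.Lib.Helper44_StdForms.qfOdd m F) (nondegenerate_polarBilin_qfOdd h2 m) W hW'
  rw [hcoe] at horth hperp hUnd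
  have hmemU : ∀ u, u ∈ U ↔ ∀ w ∈ W, QuadraticMap.polar (quadFormOdd m F) w u = 0 :=
    fun u => ⟨fun hu w hw => horth w hw u hu, fun h => hperp u h⟩
  refine ⟨U, hcompl, hmemU, hUnd, ?_, ?_⟩
  · rw [hdim]; simp; ring
  · intro g hg
    obtain ⟨hgW, hgI⟩ := Subgroup.mem_inf.1 hg
    rw [mem_subspaceStabilizer_iff] at hgW ⊢
    have hginvW : ∀ w ∈ W, ((g⁻¹ : GL (OI m) F) : Matrix (OI m) (OI m) F) *ᵥ w ∈ W := by
      intro w hw
      rw [hgW, Matrix.mulVec_mulVec, ← Units.val_mul, mul_inv_cancel, Units.val_one, Matrix.one_mulVec]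
      exact hw
    intro v
    rw [hmemU, hmemU]
    constructor
    · intro hv w hw
      have h := polar_mulVec_of_mem (quadFormOdd m F) hgI
        (((g⁻¹ : GL (OI m) F) : Matrix (OI m) (OI m) F) *ᵥ w) v
      rw [Matrix.mulVec_mulVec, ← Units.val_mul, mul_inv_cancel, Units.val_one, Matrix.one_mulVec] at h
      rw [h]
      exact hv _ (hginvW w hw)
    · intro hv w hw
      rw [← polar_mulVec_of_mem (quadFormOdd m F) hgI w v]
      exact hv _ ((hgW w).1 hw)

/-- B1a: the stabiliser of a non-degenerate subspace is the stabiliser of one of even dimension -/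
theorem B1a (h2 : (2 : F) ≠ 0) (m : ℕ) (W : Submodule F (OI m → F)) (hW0 : W ≠ ⊥) (hW1 : W ≠ ⊤)
    (hW : IsNondegenerateOn (QuadraticMap.polar (quadFormOdd m F)) W) :
    ∃ W' : Submodule F (OI m → F), W' ≠ ⊥ ∧ W' ≠ ⊤ ∧ Even (Module.finrank F W') ∧
      IsNondegenerateOn (QuadraticMap.polar (quadFormOdd m F)) W' ∧
      subspaceStabilizer W ⊓ isometryGroup F (quadFormOdd m F) ≤ subspaceStabilizer W' := by
  obtain ⟨U, hcompl, _, hUnd, hdim, hstab⟩ := exists_perp h2 m W hW
  rcases Nat.even_or_odd (Module.finrank F W) with he | ho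
  · exact ⟨W, hW0, hW1, he, hW, inf_le_left⟩
  · refine ⟨U, ?_, ?_, ?_, hUnd, hstab⟩
    · intro h
      rw [h] at hcompl
      exact hW1 (eq_top_of_isCompl_bot hcompl)
    · intro h
      rw [h] at hcompl
      exact hW0 (eq_bot_of_isCompl_top hcompl)
    · obtain ⟨a, ha⟩ := ho
      exact ⟨m - a, by omega⟩

end Cfsg.Agent.Lib.Helper47_OMX_B1a
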