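/-
OMX package B1b (helper29 architect; helper47): over the field with three elements the stabiliser of a
hyperbolic plane of the standard odd-dimensional quadratic space stabilises a non-singular point, hence the
orthogonal complement of that point (a non-degenerate subspace of dimension `2m`).
-/
import Mathlib
import Cfsg.Agent.Lib.Helper29_OrthOddDefs
import Cfsg.Agent.Lib.Helper29_OmegaMaxDefs
import Cfsg.Agent.Lib.Helper44_StdForms
import Cfsg.Agent.Lib.Helper47_OrthOdd_OP3
import Cfsg.Agent.Lib.Helper47_OMX_B1a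

set_option autoImplicit false

namespace Cfsg.Agent.Lib.Helper47_OMX_B1b

open Cfsg Cfsg.Geo Matrix Cfsg.Agent.Lib.Helper29_OrthOddDefs Cfsg.Agent.Lib.Helper29_OmegaMaxDefs
open scoped Kronecker MatrixGroups

variable {F : Type*} [Field F]

/-- a field with three elements consists of `0`, `1`, `-1` -/
lemma three_field [Fintype F] (hq : Fintype.card F = 3) (c : F) : c = 0 ∨ c = 1 ∨ c = -1 := by
  by_cases hc : c = 0
  · exact Or.inl hc
  right
  have h1 := FiniteField.pow_card_sub_one_eq_one c hc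
  rw [hq] at h1
  have h4 : (c - 1) * (c + 1) = 0 := by
    have : (c - 1) * (c + 1) = c ^ (3 - 1) - 1 := by ring
    rw [this, h1, sub_self]
  rcases mul_eq_zero.1 h4 with h | h
  · left; exact sub_eq_zero.1 h
  · right; exact eq_neg_of_add_eq_zero_left h

/-- in a field with three elements, `x * y = 1` forces `x = y = ± 1` -/
lemma mul_eq_one_three [Fintype F] (hq : Fintype.card F = 3) (h2 : (2 : F) ≠ 0) (x y : F) (h : x * y = 1) :
    (x = 1 ∧ y = 1) ∨ (x = -1 ∧ y = -1) := by
  have hne : (-1 : F) ≠ 1 := by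
    intro h'
    apply h2
    have : (2 : F) = 1 - (-1) := by ring
    rw [this, h', sub_self]
  rcases three_field hq x with hx | hx | hx <;> rcases three_field hq y with hy | hy | hy <;>
    subst hx <;> subst hy
  · simp at h
  · simp at h
  · simp at h
  · simp at h
  · exact Or.inl ⟨rfl, rfl⟩
  · rw [one_mul] at h; exact absurd h hne
  · simp at h
  · rw [mul_one] at h; exact absurd h hne
  · exact Or.inr ⟨rfl, rfl⟩

/-- the vectors of norm `1` of a hyperbolic plane over the field with three elements are `± (e + f)` -/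
theorem norm_one_vectors [Fintype F] (hq : Fintype.card F = 3) (h2 : (2 : F) ≠ 0) (m : ℕ)
    (W : Submodule F (OI m → F))
    (hW : IsNondegenerateOn (QuadraticMap.polar (quadFormOdd m F)) W) (hW2 : Module.finrank F W = 2)
    (hplus : IsPlusTypeOn (quadFormOdd m F) W) :
    ∃ v ∈ W, quadFormOdd m F v = 1 ∧ ∀ u ∈ W, quadFormOdd m F u = 1 → u = v ∨ u = -v := by
  classical
  have hcoe : ⇑(Cfsg.Agent.Lib.Helper44_StdForms.qfOdd m F) = quadFormOdd m F :=
    Cfsg.Agent.Lib.Helper44_StdForms.coe_qfOdd m F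
  rw [← hcoe] at hW hplus ⊢
  set Q := Cfsg.Agent.Lib.Helper44_StdForms.qfOdd m F with hQ
  -- a singular vector
  obtain ⟨U, hUW, hUs, hUd⟩ := hplus
  have hU1 : Module.finrank F U = 1 := by
    rw [hW2] at hUd
    omega
  have hUne : U ≠ ⊥ := by
    intro h
    rw [h, finrank_bot] at hU1
    omega
  obtain ⟨e, heU, he0⟩ := Submodule.exists_mem_ne_zero_of_ne_bot hUne
  have heW : e ∈ W := hUW heU
  have hQe : Q e = 0 := hUs e heU
  -- a partner
  obtain ⟨_, ⟨f', hf'W, hef'⟩⟩ := hW e heW he0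
  obtain ⟨c, hc⟩ : ∃ c, c = QuadraticMap.polar ⇑Q e f' := ⟨_, rfl⟩
  rw [← hc] at hef'
  obtain ⟨a, ha⟩ : ∃ a, a = c⁻¹ • f' := ⟨_, rfl⟩
  have haW : a ∈ W := by rw [ha]; exact W.smul_mem _ hf'W
  have hea : QuadraticMap.polar ⇑Q e a = 1 := by
    rw [ha, QuadraticMap.polar_smul_right, ← hc, smul_eq_mul, inv_mul_cancel₀ hef']
  have hee : QuadraticMap.polar ⇑Q e e = 0 := by
    rw [QuadraticMap.polar_self, hQe, smul_zero]
  obtain ⟨f₁, hf₁⟩ : ∃ f₁, f₁ = a - Q a • e := ⟨_, rfl⟩
  have hf₁W : f₁ ∈ W := by rw [hf₁]; exact W.sub_mem haW (W.smul_mem _ heW)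
  have hef₁ : QuadraticMap.polar ⇑Q e f₁ = 1 := by
    rw [hf₁, QuadraticMap.polar_sub_right, QuadraticMap.polar_smul_right, hea, hee, smul_zero, sub_zero]
  have hQf₁ : Q f₁ = 0 := by
    have h1 : f₁ = a + (-(Q a)) • e := by rw [hf₁, neg_smul, sub_eq_add_neg]
    have h3 : QuadraticMap.polar ⇑Q a e = 1 := by rw [QuadraticMap.polar_comm]; exact hea
    have h4 : Q (a + (-(Q a)) • e) = Q a + Q ((-(Q a)) • e) + QuadraticMap.polar ⇑Q a ((-(Q a)) • e) := by
      rw [QuadraticMap.polar]; ring
    rw [h1, h4, QuadraticMap.map_smul, hQe, QuadraticMap.polar_smul_right, h3]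
    simp
  have hf₁f₁ : QuadraticMap.polar ⇑Q f₁ f₁ = 0 := by
    rw [QuadraticMap.polar_self, hQf₁, smul_zero]
  have hf₁e : QuadraticMap.polar ⇑Q f₁ e = 1 := by rw [QuadraticMap.polar_comm]; exact hef₁
  -- the value of `Q` on `x e + y f₁`
  have hQxy : ∀ x y : F, Q (x • e + y • f₁) = x * y := by
    intro x y
    have h4 : Q (x • e + y • f₁) = Q (x • e) + Q (y • f₁) + QuadraticMap.polar ⇑Q (x • e) (y • f₁) := by
      rw [QuadraticMap.polar]; ring
    rw [h4, QuadraticMap.map_smul, QuadraticMap.map_smul, hQe, hQf₁, QuadraticMap.polar_smul_left,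
      QuadraticMap.polar_smul_right, hef₁]
    simp
  -- `e`, `f₁` span `W`
  have hli : LinearIndependent F ![e, f₁] := by
    rw [LinearIndependent.pair_iff]
    intro s t hst
    have h5 : QuadraticMap.polar ⇑Q e (s • e + t • f₁) = t := by
      rw [QuadraticMap.polar_add_right, QuadraticMap.polar_smul_right, QuadraticMap.polar_smul_right,
        hee, hef₁]
      simp
    have h6 : QuadraticMap.polar ⇑Q f₁ (s • e + t • f₁) = s := by
      rw [QuadraticMap.polar_add_right, QuadraticMap.polar_smul_right, QuadraticMap.polar_smul_right,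
        hf₁e, hf₁f₁]
      simp
    rw [hst] at h5 h6
    have h7 : ∀ z : OI m → F, QuadraticMap.polar ⇑Q z 0 = 0 := by
      intro z
      simp
    rw [h7] at h5 h6
    exact ⟨h6.symm, h5.symm⟩
  have hspan : Submodule.span F {e, f₁} = W := by
    apply Submodule.eq_of_le_of_finrank_eq
    · rw [Submodule.span_le]
      intro z hz
      rcases hz with rfl | rfl
      · exact heW
      · exact hf₁W
    · have := finrank_span_eq_card hli
      rw [Fintype.card_fin] at this
      have hr : Set.range ![e, f₁] = {e, f₁} := by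
        ext z
        simp only [Matrix.range_cons, Matrix.range_empty, Set.union_empty, Set.mem_union,
          Set.mem_singleton_iff, Set.mem_insert_iff]
      rw [hr] at this
      rw [this, hW2]
  refine ⟨e + f₁, W.add_mem heW hf₁W, ?_, ?_⟩
  · have := hQxy 1 1
    rwa [one_smul, one_smul, mul_one] at this
  · intro u hu hQu
    rw [← hspan, Submodule.mem_span_pair] at hu
    obtain ⟨x, y, rfl⟩ := hu
    rw [hQxy] at hQu
    rcases mul_eq_one_three hq h2 x y hQu with ⟨rfl, rfl⟩ | ⟨rfl, rfl⟩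
    · left; rw [one_smul, one_smul]
    · right; rw [neg_one_smul, neg_one_smul, neg_add]

/-- B1b: over F_3 the stabiliser of a hyperbolic plane stabilises a non-singular point, hence its perp -/
theorem B1b [Fintype F] (hq : Fintype.card F = 3) (m : ℕ) (hm : 2 ≤ m) (W : Submodule F (OI m → F))
    (hW : IsNondegenerateOn (QuadraticMap.polar (quadFormOdd m F)) W) (hW2 : Module.finrank F W = 2)
    (hplus : IsPlusTypeOn (quadFormOdd m F) W) :
    ∃ W' : Submodule F (OI m → F), W' ≠ ⊥ ∧ W' ≠ ⊤ ∧ Module.finrank F W' = 2 * m ∧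
      IsNondegenerateOn (QuadraticMap.polar (quadFormOdd m F)) W' ∧
      subspaceStabilizer W ⊓ isometryGroup F (quadFormOdd m F) ≤ subspaceStabilizer W' := by
  classical
  have h2 : (2 : F) ≠ 0 :=
    Cfsg.Agent.Lib.Helper47_OrthOdd_OP3.two_ne_zero_of_odd (by rw [hq]; exact ⟨1, rfl⟩)
  obtain ⟨v, hvW, hQv, hvuniq⟩ := norm_one_vectors hq h2 m W hW hW2 hplus
  have hv0 : v ≠ 0 := by
    intro h
    rw [h] at hQv
    have h0 : quadFormOdd m F 0 = 0 := by
      unfold quadFormOdd; simp
    rw [h0] at hQv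
    exact zero_ne_one hQv
  have hvv : QuadraticMap.polar (quadFormOdd m F) v v = 2 := by
    rw [← Cfsg.Agent.Lib.Helper44_StdForms.coe_qfOdd m F, QuadraticMap.polar_self,
      Cfsg.Agent.Lib.Helper44_StdForms.coe_qfOdd m F, hQv]
    simp
  -- the point spanned by `v` is non-degenerate
  have hnd : IsNondegenerateOn (QuadraticMap.polar (quadFormOdd m F)) (Submodule.span F {v}) := by
    intro w hw hw0
    obtain ⟨c, rfl⟩ := Submodule.mem_span_singleton.1 hw
    have hc : c ≠ 0 := by
      intro h; apply hw0; rw [h, zero_smul]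
    have h1 : QuadraticMap.polar (quadFormOdd m F) v (c • v) ≠ 0 := by
      have := Cfsg.Agent.Lib.Helper47_OrthOdd_OP3.pf_smul_right m c v v
      unfold Cfsg.Agent.Lib.Helper47_OrthOdd_OP3.pf at this
      rw [this, hvv]
      exact mul_ne_zero hc h2
    refine ⟨⟨v, Submodule.mem_span_singleton_self v, h1⟩, ⟨v, Submodule.mem_span_singleton_self v, ?_⟩⟩
    rw [QuadraticMap.polar_comm]; exact h1
  obtain ⟨U, hcompl, _, hUnd, hdim, hstab⟩ :=
    Cfsg.Agent.Lib.Helper47_OMX_B1a.exists_perp h2 m (Submodule.span F {v}) hnd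
  rw [finrank_span_singleton hv0] at hdim
  have hUd : Module.finrank F U = 2 * m := by omega
  refine ⟨U, ?_, ?_, hUd, hUnd, ?_⟩
  · intro h
    rw [h, finrank_bot] at hUd
    omega
  · intro h
    rw [h, finrank_top, Cfsg.Agent.Lib.Helper47_OrthOdd_OP3.finrank_OI] at hUd
    omega
  · -- the stabiliser of `W` fixes the point `⟨v⟩`
    have key : ∀ g : GL (OI m) F, g ∈ subspaceStabilizer W ⊓ isometryGroup F (quadFormOdd m F) →
        ∀ x ∈ Submodule.span F {v}, (g : Matrix (OI m) (OI m) F) *ᵥ x ∈ Submodule.span F {v} := by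
      intro g hg x hx
      obtain ⟨hgW, hgI⟩ := Subgroup.mem_inf.1 hg
      rw [Cfsg.Agent.Lib.Helper47_OMX_B1a.mem_subspaceStabilizer_iff] at hgW
      rw [mem_isometryGroup_iff] at hgI
      obtain ⟨c, rfl⟩ := Submodule.mem_span_singleton.1 hx
      have h1 : (g : Matrix (OI m) (OI m) F) *ᵥ v ∈ W := (hgW v).1 hvW
      have h3 : quadFormOdd m F ((g : Matrix (OI m) (OI m) F) *ᵥ v) = 1 := by rw [hgI, hQv]
      rw [Matrix.mulVec_smul]
      apply Submodule.smul_mem
      rcases hvuniq _ h1 h3 with h | h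
      · rw [h]; exact Submodule.mem_span_singleton_self v
      · rw [h]; exact Submodule.neg_mem _ (Submodule.mem_span_singleton_self v)
    intro g hg
    apply hstab
    refine Subgroup.mem_inf.2 ⟨?_, (Subgroup.mem_inf.1 hg).2⟩
    rw [Cfsg.Agent.Lib.Helper47_OMX_B1a.mem_subspaceStabilizer_iff]
    intro x
    constructor
    · exact key g hg x
    · intro hx
      have := key g⁻¹ (Subgroup.inv_mem _ hg) _ hx
      rwa [Matrix.mulVec_mulVec, ← Units.val_mul, inv_mul_cancel, Units.val_one, Matrix.one_mulVec] at this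

end Cfsg.Agent.Lib.Helper47_OMX_B1b
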