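/-
OMX package X2 (helper29 architect; helper47): a group with a long root group, in characteristic not 2,
preserves no decomposition into blocks of equal dimension.
-/
import Mathlib
import Cfsg.Agent.Lib.Helper29_OrthOddDefs
import Cfsg.Agent.Lib.Helper29_OmegaMaxDefs
import Cfsg.Agent.Lib.Helper32_SUG_G3

set_option autoImplicit false

namespace Cfsg.Agent.Lib.Helper47_OMX_X2

open Cfsg Cfsg.Geo Matrix Cfsg.Agent.Lib.Helper29_OrthOddDefs Cfsg.Agent.Lib.Helper29_OmegaMaxDefs
open scoped Kronecker MatrixGroups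

variable {ι : Type} [Fintype ι] [DecidableEq ι] {F : Type*} [Field F]

/-- an element `g` with `(g - 1)² = 0`, in characteristic not 2, permuting the blocks of a decomposition fixes
every block -/
lemma fixes_blocks_of_sq (h2 : (2 : F) ≠ 0) {t k : ℕ} {D : Fin t → Submodule F (ι → F)}
    (hD : IsMDecomposition k D) (g : GL ι F)
    (hg : (g : Matrix ι ι F) * (g : Matrix ι ι F) = (2 : F) • (g : Matrix ι ι F) - 1)
    (σ : Equiv.Perm (Fin t)) (hσ : ∀ i, (D i).map (Matrix.toLin' (g : Matrix ι ι F)) = D (σ i)) :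
    ∀ i, σ i = i := by
  intro i
  by_contra hi
  have hne : D i ≠ ⊥ := by
    intro h0
    have := hD.finrank_eq i
    rw [h0, finrank_bot] at this
    have := hD.pos
    omega
  obtain ⟨x, hxD, hx0⟩ := Submodule.exists_mem_ne_zero_of_ne_bot hne
  have hmap : ∀ j, ∀ w ∈ D j, (g : Matrix ι ι F) *ᵥ w ∈ D (σ j) := by
    intro j w hw
    rw [← hσ j, ← Matrix.toLin'_apply]
    exact Submodule.mem_map_of_mem hw
  set y := (g : Matrix ι ι F) *ᵥ x with hy
  set z := (g : Matrix ι ι F) *ᵥ y with hz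
  have hyD : y ∈ D (σ i) := hmap i x hxD
  have hzD : z ∈ D (σ (σ i)) := hmap (σ i) y hyD
  have hrel : (2 : F) • y = x + z := by
    have : z = (2 : F) • y - x := by
      rw [hz, hy, Matrix.mulVec_mulVec, hg, Matrix.sub_mulVec, Matrix.smul_mulVec, Matrix.one_mulVec]
    rw [this]; abel
  have h1 : i ≠ σ i := fun h => hi h.symm
  have h3 : σ (σ i) ≠ σ i := fun h => hi (σ.injective h)
  have hx' : x ∈ ⨆ j, ⨆ (_ : j ≠ σ i), D j := by
    have : D i ≤ ⨆ j, ⨆ (_ : j ≠ σ i), D j := le_iSup₂_of_le i h1 le_rfl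
    exact this hxD
  have hz' : z ∈ ⨆ j, ⨆ (_ : j ≠ σ i), D j := by
    have : D (σ (σ i)) ≤ ⨆ j, ⨆ (_ : j ≠ σ i), D j := le_iSup₂_of_le (σ (σ i)) h3 le_rfl
    exact this hzD
  have hdis := hD.indep (σ i)
  rw [Submodule.disjoint_def] at hdis
  have h2y : (2 : F) • y = 0 := by
    apply hdis
    · exact Submodule.smul_mem _ _ hyD
    · rw [hrel]; exact Submodule.add_mem _ hx' hz'
  have hy0 : y = 0 := by
    rcases smul_eq_zero.1 h2y with h | h
    · exact absurd h h2
    · exact h
  apply hx0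
  have : ((g⁻¹ : GL ι F) : Matrix ι ι F) *ᵥ y = x := by
    rw [hy, Matrix.mulVec_mulVec, ← Units.val_mul, inv_mul_cancel, Units.val_one, Matrix.one_mulVec]
  rw [← this, hy0, Matrix.mulVec_zero]

/-- X2: a group with a long root group, in characteristic not 2, preserves no decomposition -/
theorem X2 (h2 : (2 : F) ≠ 0) {N : Subgroup (GL ι F)} (hN : QO N) {t k : ℕ} {D : Fin t → Submodule F (ι → F)}
    (hD : IsMDecomposition k D) : ¬ N ≤ decompositionStabilizer D := by
  classical
  intro hle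
  obtain ⟨X, hX0, hXX, _, hroot⟩ := hN.root
  obtain ⟨g₁, hg₁N, hg₁⟩ := hroot 1
  rw [one_smul] at hg₁
  -- the root element fixes every block
  have hsq : (g₁ : Matrix ι ι F) * (g₁ : Matrix ι ι F) = (2 : F) • (g₁ : Matrix ι ι F) - 1 := by
    rw [hg₁, mul_add, add_mul, add_mul, hXX, one_mul, mul_one, one_mul, add_zero, smul_add, two_smul, two_smul]
    abel
  have hfix : g₁ ∈ Cfsg.Agent.Lib.Helper32_SUG_G3.fixer N D := by
    obtain ⟨σ, hσ⟩ := hle hg₁N
    have hσi := fixes_blocks_of_sq h2 hD g₁ hsq σ hσ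
    refine ⟨hg₁N, fun i => ?_⟩
    rw [hσ i, hσi i]
  -- the root element is not a scalar
  have hns : g₁ ∉ scalars ι F := by
    intro hs
    rw [mem_scalars_iff] at hs
    obtain ⟨c, hc⟩ := hs
    have hXc : X = ((c : F) - 1) • (1 : Matrix ι ι F) := by
      have : X = (g₁ : Matrix ι ι F) - 1 := by rw [hg₁]; abel
      rw [this, hc, sub_smul, one_smul]
    have hne : Nonempty ι := by
      by_contra hcon
      rw [not_nonempty_iff] at hcon
      exact hX0 (Subsingleton.elim _ _)
    obtain ⟨i₀⟩ := hne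
    have h4 : ((c : F) - 1) * ((c : F) - 1) = 0 := by
      have := congrFun (congrFun hXX i₀) i₀
      rw [hXc] at this
      simpa using this
    have h5 : (c : F) - 1 = 0 := mul_self_eq_zero.1 h4
    apply hX0
    rw [hXc, h5, zero_smul]
  rcases hN.dich (Cfsg.Agent.Lib.Helper32_SUG_G3.fixer N D) (Cfsg.Agent.Lib.Helper32_SUG_G3.fixer_le N D)
      (fun s hs x hx => Cfsg.Agent.Lib.Helper32_SUG_G3.conj_mem_fixer hs (hle hs) hx) with h | h
  · exact hns (h hfix)
  · -- `N` fixes the first block, contradicting irreducibility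
    have ht := hD.two_le
    let i₀ : Fin t := ⟨0, by omega⟩
    let i₁ : Fin t := ⟨1, by omega⟩
    have h01 : i₀ ≠ i₁ := by simp [i₀, i₁, Fin.ext_iff]
    have hne : ∀ i, D i ≠ ⊥ := by
      intro i h0
      have := hD.finrank_eq i
      rw [h0, finrank_bot] at this
      have := hD.pos
      omega
    have hinv : ∀ s ∈ matrixSet N, (D i₀).map (Matrix.toLin' s) ≤ D i₀ := by
      rintro _ ⟨s, hs, rfl⟩
      have hs' : s ∈ Cfsg.Agent.Lib.Helper32_SUG_G3.fixer N D := by rw [h]; exact hs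
      exact le_of_eq (hs'.2 i₀)
    rcases hN.irr (D i₀) hinv with h0 | h0
    · exact hne i₀ h0
    · have hdis : Disjoint (D i₀) (D i₁) := hD.indep.pairwiseDisjoint h01
      rw [h0, top_disjoint] at hdis
      exact hne i₁ hdis

end Cfsg.Agent.Lib.Helper47_OMX_X2
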