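/-
S5814 / S5859 / S5835 (helper29): the maximal subgroups of Ω_{2m+1}(q), q odd, general part and the prime dimensions 7, 11.
`omega_max_cases`: a maximal subgroup of Ω is `M ⊓ Ω` for a refined class member `M`, or residual.
Packages (market OMX): X2, B1a, B1b (helper47), X3, X5, OMb (helper30), OMa (helper71), OMc, X1 (helper29).
-/
import Mathlib
import Cfsg.Agent.Lib.Helper29_OrthOddDefs
import Cfsg.Agent.Lib.Helper29_OmegaMaxDefs
import Cfsg.Agent.Lib.Helper29_OrthOddMain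
import Cfsg.Agent.Lib.Helper29_OMX_OMc
import Cfsg.Agent.Lib.Helper47_OMX_X2
import Cfsg.Agent.Lib.Helper30_OMX_X3
import Cfsg.Agent.Lib.Helper30_OMX_X5
import Cfsg.Agent.Lib.Helper47_OMX_B1a
import Cfsg.Agent.Lib.Helper47_OMX_B1b
import Cfsg.Agent.Lib.Helper63_SpExt_QB1
import Cfsg.Agent.Lib.Helper71_OMX_OMa
import Cfsg.Agent.Lib.Helper30_OMX_OMb

set_option autoImplicit false

namespace Cfsg.Agent.Lib.Helper29_OmegaMaxMain

open Cfsg Cfsg.Geo Matrix Cfsg.Agent.Lib.Helper29_OrthOddDefs Cfsg.Agent.Lib.Helper29_OmegaMaxDefs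
open scoped Kronecker MatrixGroups

section assembly
variable {F : Type*} [Field F]

/-- numerology: a decomposition into `t` subspaces of dimension `k` has `t * k = card ι` -/
theorem decomp_card {ι : Type} [Fintype ι] [DecidableEq ι] {t k : ℕ} {D : Fin t → Submodule F (ι → F)}
    (hD : IsMDecomposition k D) : t * k = Fintype.card ι := by
  classical
  have hint := DirectSum.isInternal_submodule_of_iSupIndep_of_iSup_eq_top hD.indep hD.iSup_eq_top
  have e := LinearEquiv.ofBijective (DirectSum.coeLinearMap D) hint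
  have h1 := e.finrank_eq
  rw [Module.finrank_directSum, Module.finrank_fintype_fun_eq_card] at h1
  rw [← h1]
  simp [hD.finrank_eq]

theorem card_OI (m : ℕ) : Fintype.card (OI m) = 2 * m + 1 := by
  simp [OI]; ring

theorem omega_le_iso {ι : Type} [Fintype ι] [DecidableEq ι] (Q : (ι → F) → F) : omegaGL Q ≤ isometryGroup F Q := by
  unfold omegaGL
  exact Subgroup.map_subtype_le _

/-- `Ω_{2m+1}(q)` has the abstract properties -/
theorem QO_omega [Fintype F] (hodd : Odd (Fintype.card F)) (m : ℕ) (hm : 3 ≤ m) :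
    QO (omegaGL (quadFormOdd m F)) where
  perf := (Cfsg.Agent.Lib.Helper71_OMX_OMa.OMa hodd m hm).1
  dich := (Cfsg.Agent.Lib.Helper71_OMX_OMa.OMa hodd m hm).2
  irr := (Cfsg.Agent.Lib.Helper30_OMX_OMb.OMb hodd m hm).1
  comm := (Cfsg.Agent.Lib.Helper30_OMX_OMb.OMb hodd m hm).2
  root := Cfsg.Agent.Lib.Helper29_OMX_OMc.OMc hodd m hm

/-- the refined list of class members for a maximal subgroup of Ω (before numerology) -/
theorem omega_max_cases [Fintype F] (hodd : Odd (Fintype.card F)) (m : ℕ) (hm : 3 ≤ m) (H : Subgroup (GL (OI m) F))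
    (hH : IsMaximalIn (omegaGL (quadFormOdd m F)) H) :
    (∃ W : Submodule F (OI m → F), W ≠ ⊥ ∧ IsTotallySingularQuad (quadFormOdd m F) W ∧
      H = subspaceStabilizer W ⊓ omegaGL (quadFormOdd m F)) ∨
    (∃ W : Submodule F (OI m → F), W ≠ ⊥ ∧ Even (Module.finrank F W) ∧
      IsNondegenerateOn (QuadraticMap.polar (quadFormOdd m F)) W ∧
      ¬ (Fintype.card F = 3 ∧ Module.finrank F W = 2 ∧ IsPlusTypeOn (quadFormOdd m F) W) ∧
      H = subspaceStabilizer W ⊓ omegaGL (quadFormOdd m F)) ∨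
    (∃ (t k : ℕ) (D : Fin t → Submodule F (OI m → F)), 1 < k ∧ IsOrthogonalMDecomposition (quadFormOdd m F) k D ∧
      H = decompositionStabilizer D ⊓ omegaGL (quadFormOdd m F)) ∨
    (∃ (t : ℕ) (D : Fin t → Submodule F (OI m → F)), (Fintype.card F).Prime ∧
      IsOrthogonalMDecomposition (quadFormOdd m F) 1 D ∧
      H = decompositionStabilizer D ⊓ omegaGL (quadFormOdd m F)) ∨
    (∃ (r : ℕ) (K : Subalgebra F (Matrix (OI m) (OI m) F)), r.Prime ∧ 2 * m + 1 ≠ r ∧ IsFieldSubalgebra r K ∧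
      IsSelfAdjointFor (QuadraticMap.polar (quadFormOdd m F)) K ∧
      H = subalgebraNormalizer K ⊓ omegaGL (quadFormOdd m F)) ∨
    (∃ (n₁ n₂ : ℕ) (_ : OI m ≃ Fin n₁ × Fin n₂), 3 ≤ n₁ ∧ n₁ < n₂) ∨
    (∃ (F₀ : Subfield F) (r : ℕ) (P : GL (OI m) F), r.Prime ∧ Fintype.card F = Nat.card F₀ ^ r ∧
      IsQuadFormRationalStructure (quadFormOdd m F) F₀ P ∧
      H = subfieldSubgroup F₀ P ⊓ omegaGL (quadFormOdd m F)) ∨
    (∃ (k t : ℕ) (e : OI m ≃ (Fin t → Fin k)) (P : GL (OI m) F) (f₁ : (Fin k → F) → (Fin k → F) → F),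
      3 ≤ k ∧ 2 ≤ t ∧ ¬ (Fintype.card F = 3 ∧ k = 3) ∧ IsSymmetricForm f₁ ∧
      IsTensorPowerFormStructure id (QuadraticMap.polar (quadFormOdd m F)) f₁ e P ∧
      H ≤ tensorWreathSubgroup k t e P) ∨
    InOrthogonalResidualClass H := by
  classical
  have h2 : (2 : F) ≠ 0 := Cfsg.Agent.Lib.Helper29_OrthOdd_Glue.two_ne_zero_of_odd_card hodd
  have hQO := QO_omega hodd m hm
  have hΩI := omega_le_iso (quadFormOdd m F)
  have hHΩ : H ≤ omegaGL (quadFormOdd m F) := hH.1.le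
  -- the key reduction
  have key : ∀ M : Subgroup (GL (OI m) F), H ≤ M → ¬ omegaGL (quadFormOdd m F) ≤ M →
      H = M ⊓ omegaGL (quadFormOdd m F) := fun M h1 h3 => eq_inf_of_maximal hH h1 h3
  rcases Cfsg.Agent.Lib.Helper29_OrthOddMain.main hodd m hm H (hHΩ.trans hΩI) with ⟨M, hM, hHM⟩ | hres
  swap
  · exact Or.inr (Or.inr (Or.inr (Or.inr (Or.inr (Or.inr (Or.inr (Or.inr hres)))))))
  rcases hM with ⟨W, hW0, hWts, rfl⟩ | ⟨W, hW0, hW1, hWnd, rfl⟩ | ⟨t, k, D, hk, hD, rfl⟩ | ⟨t, D, hp, hD, rfl⟩ |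
    ⟨r, K, hr, hrn, hK, hKsa, rfl⟩ | ⟨n₁, n₂, e, P, f₁, f₂, h1, h12, -, -, -, rfl⟩ |
    ⟨F₀, r, P, hr, hcard, hrat, rfl⟩ | ⟨k, t, e, P, f₁, hk, ht, hex, hf₁, hstr, rfl⟩
  · -- totally singular
    left
    have hW1 : W ≠ ⊤ := by
      rintro rfl
      have := hWts (Pi.single (Sum.inl ()) 1) trivial
      simp [quadFormOdd] at this
    exact ⟨W, hW0, hWts, key _ (hHM.trans inf_le_left) (not_le_subspaceStabilizer hQO W hW0 hW1)⟩
  · -- non-degenerate
    right; left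
    obtain ⟨W₁, h10, h11, hev, hnd, hle⟩ := Cfsg.Agent.Lib.Helper47_OMX_B1a.B1a h2 m W hW0 hW1 hWnd
    by_cases hex : Fintype.card F = 3 ∧ Module.finrank F W₁ = 2 ∧ IsPlusTypeOn (quadFormOdd m F) W₁
    · obtain ⟨W₂, h20, h21, hfr, hnd2, hle2⟩ := Cfsg.Agent.Lib.Helper47_OMX_B1b.B1b hex.1 m (by omega) W₁ hnd hex.2.1 hex.2.2
      have hHW₁ : H ≤ subspaceStabilizer W₁ := hHM.trans hle
      have hHW₂ : H ≤ subspaceStabilizer W₂ := (le_inf hHW₁ (hHΩ.trans hΩI)).trans hle2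
      refine ⟨W₂, h20, ?_, hnd2, ?_, key _ hHW₂ (not_le_subspaceStabilizer hQO W₂ h20 h21)⟩
      · rw [hfr]; exact even_two_mul m
      · rintro ⟨-, h, -⟩
        omega
    · exact ⟨W₁, h10, hev, hnd, hex, key _ (hHM.trans hle) (not_le_subspaceStabilizer hQO W₁ h10 h11)⟩
  · right; right; left
    exact ⟨t, k, D, hk, hD, key _ (hHM.trans inf_le_left) (Cfsg.Agent.Lib.Helper47_OMX_X2.X2 h2 hQO hD.decomp.decomp)⟩
  · right; right; right; left
    exact ⟨t, D, hp, hD, key _ (hHM.trans inf_le_left) (Cfsg.Agent.Lib.Helper47_OMX_X2.X2 h2 hQO hD.decomp.decomp)⟩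
  · right; right; right; right; left
    exact ⟨r, K, hr, hrn, hK, hKsa, key _ (hHM.trans inf_le_left) (Cfsg.Agent.Lib.Helper30_OMX_X3.X3 hQO hr.one_lt hK)⟩
  · right; right; right; right; right; left
    exact ⟨n₁, n₂, e, h1, h12⟩
  · right; right; right; right; right; right; left
    have hF₀ : F₀ ≠ ⊤ := by
      rintro rfl
      have h1 : Nat.card (⊤ : Subfield F) = Fintype.card F := by
        rw [Nat.card_congr (Subfield.topEquiv (K := F)).toEquiv, Nat.card_eq_fintype_card]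
      rw [h1] at hcard
      have hc1 : 1 < Fintype.card F := Fintype.one_lt_card
      have : Fintype.card F ^ 1 < Fintype.card F ^ r := Nat.pow_lt_pow_right hc1 hr.one_lt
      rw [pow_one] at this
      omega
    exact ⟨F₀, r, P, hr, hcard, hrat, key _ (hHM.trans inf_le_left) (Cfsg.Agent.Lib.Helper30_OMX_X5.X5 hQO F₀ hF₀ P)⟩
  · right; right; right; right; right; right; right; left
    exact ⟨k, t, e, P, f₁, hk, ht, hex, hf₁, hstr, hHM.trans inf_le_left⟩


theorem field_dvd {m r : ℕ} {K : Subalgebra F (Matrix (OI m) (OI m) F)} (hK : IsFieldSubalgebra r K) :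
    r ∣ 2 * m + 1 := by
  have : Nonempty (OI m) := ⟨Sum.inl ()⟩
  have h := Cfsg.Agent.Lib.Helper63_SpExt_QB1.QB1 r K hK ⊤ (fun _ _ _ _ => Submodule.mem_top)
  rwa [finrank_top, Module.finrank_fintype_fun_eq_card, card_OI] at h

theorem prod_card {m n₁ n₂ : ℕ} (e : OI m ≃ Fin n₁ × Fin n₂) : n₁ * n₂ = 2 * m + 1 := by
  have := Fintype.card_congr e
  rw [card_OI, Fintype.card_prod, Fintype.card_fin, Fintype.card_fin] at this
  exact this.symm

theorem pow_card {m k t : ℕ} (e : OI m ≃ (Fin t → Fin k)) : k ^ t = 2 * m + 1 := by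
  have := Fintype.card_congr e
  rw [card_OI, Fintype.card_fun, Fintype.card_fin, Fintype.card_fin] at this
  exact this.symm

theorem no_prod {n n₁ n₂ : ℕ} (hn : n < 12) (h : n₁ * n₂ = n) (h1 : 3 ≤ n₁) (h2 : n₁ < n₂) : False := by
  have : 3 * 4 ≤ n₁ * n₂ := Nat.mul_le_mul h1 (by omega)
  omega

/-- numerology for a prime dimension -/
theorem no_pow_prime {p k t : ℕ} (hp : p.Prime) (h : k ^ t = p) (hk : 3 ≤ k) (ht : 2 ≤ t) : False := by
  have hkp : k ∣ p := by
    rw [← h]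
    exact dvd_pow_self k (by omega)
  rcases (Nat.dvd_prime hp).mp hkp with h1 | h1
  · omega
  · subst h1
    have : k ^ 1 < k ^ t := Nat.pow_lt_pow_right (by omega) (by omega)
    rw [pow_one] at this
    omega

theorem decomp_prime {p t k : ℕ} (hp : p.Prime) (h : t * k = p) (ht : 2 ≤ t) : t = p ∧ k = 1 := by
  have htp : t ∣ p := ⟨k, h.symm⟩
  rcases (Nat.dvd_prime hp).mp htp with h1 | h1
  · omega
  · subst h1
    have ht0 : 0 < t := by omega
    refine ⟨rfl, ?_⟩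
    have : t * k = t * 1 := by rw [h, mul_one]
    exact Nat.eq_of_mul_eq_mul_left ht0 this

/-- the rows in prime dimension `2m+1` (7 and 11) -/
theorem omega_max_prime [Fintype F] (hodd : Odd (Fintype.card F)) (m : ℕ) (hm : 3 ≤ m) (hm12 : 2 * m + 1 < 12)
    (hp : (2 * m + 1).Prime)
    (H : Subgroup (GL (OI m) F)) (hH : IsMaximalIn (omegaGL (quadFormOdd m F)) H) :
    (∃ W : Submodule F (OI m → F), W ≠ ⊥ ∧ IsTotallySingularQuad (quadFormOdd m F) W ∧
      H = subspaceStabilizer W ⊓ omegaGL (quadFormOdd m F)) ∨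
    (∃ W : Submodule F (OI m → F), W ≠ ⊥ ∧ Even (Module.finrank F W) ∧
      IsNondegenerateOn (QuadraticMap.polar (quadFormOdd m F)) W ∧
      ¬ (Fintype.card F = 3 ∧ Module.finrank F W = 2 ∧ IsPlusTypeOn (quadFormOdd m F) W) ∧
      H = subspaceStabilizer W ⊓ omegaGL (quadFormOdd m F)) ∨
    ((Fintype.card F).Prime ∧ ∃ D : Fin (2 * m + 1) → Submodule F (OI m → F),
      IsOrthogonalMDecomposition (quadFormOdd m F) 1 D ∧
      H = decompositionStabilizer D ⊓ omegaGL (quadFormOdd m F)) ∨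
    (∃ (F₀ : Subfield F) (r : ℕ) (P : GL (OI m) F), r.Prime ∧ Fintype.card F = Nat.card F₀ ^ r ∧
      IsQuadFormRationalStructure (quadFormOdd m F) F₀ P ∧
      H = subfieldSubgroup F₀ P ⊓ omegaGL (quadFormOdd m F)) ∨
    InOrthogonalResidualClass H := by
  rcases omega_max_cases hodd m hm H hH with h | h | ⟨t, k, D, hk, hD, -⟩ | ⟨t, D, hq, hD, hHD⟩ |
    ⟨r, K, hr, hrn, hK, -, -⟩ | ⟨n₁, n₂, e, h1, h12⟩ | h | ⟨k, t, e, P, f₁, hk, ht, -, -, -, -⟩ | h
  · exact Or.inl h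
  · exact Or.inr (Or.inl h)
  · exfalso
    have h1 := decomp_card hD.decomp.decomp
    rw [card_OI] at h1
    have := (decomp_prime hp h1 hD.decomp.decomp.two_le).2
    omega
  · have h1 := decomp_card hD.decomp.decomp
    rw [card_OI] at h1
    obtain rfl : t = 2 * m + 1 := by omega
    exact Or.inr (Or.inr (Or.inl ⟨hq, D, hD, hHD⟩))
  · exfalso
    have h1 := field_dvd hK
    rcases (Nat.dvd_prime hp).mp h1 with h2 | h2
    · exact hr.one_lt.ne' h2
    · exact hrn h2.symm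
  · exact (no_prod hm12 (prod_card e) h1 h12).elim
  · exact Or.inr (Or.inr (Or.inr (Or.inl h)))
  · exact (no_pow_prime hp (pow_card e) hk ht).elim
  · exact Or.inr (Or.inr (Or.inr (Or.inr h)))



end assembly

end Cfsg.Agent.Lib.Helper29_OmegaMaxMain
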