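import Mathlib
import Cfsg.Agent.Lib.Helper88_OrthC8_RA
import Cfsg.Agent.S4337

/-!
# Ternary symmetric forms over the field with three elements

Every non-degenerate ternary symmetric form over `F₃` is `± (x² + y² + z²)` in a suitable basis,
the isometries of `x² + y² + z²` are the signed permutation matrices, and so the isometry group of
every non-degenerate ternary symmetric form over `F₃` is solvable.  (Shared by the packages OP4 and
OP6 of S5673.)
-/

set_option autoImplicit false
set_option linter.unusedVariables false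
set_option linter.unusedSectionVars false
set_option linter.unusedSimpArgs false
set_option linter.style.haveILetI false

namespace Cfsg.Agent.Lib.Helper54_OrthOdd_F3

open Matrix
open scoped MatrixGroups

variable {F : Type*} [Field F]

/-- the group of matrices preserving the Gram matrix `C` -/
def OC {ι : Type} [Fintype ι] [DecidableEq ι] (C : Matrix ι ι F) : Subgroup (GL ι F) where
  carrier := {M | (M : Matrix ι ι F)ᵀ * C * (M : Matrix ι ι F) = C}
  mul_mem' := by
    intro a b ha hb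
    simp only [Set.mem_setOf_eq] at ha hb ⊢
    rw [Units.val_mul, Matrix.transpose_mul]
    calc (b : Matrix ι ι F)ᵀ * (a : Matrix ι ι F)ᵀ * C * ((a : Matrix ι ι F) * (b : Matrix ι ι F))
        = (b : Matrix ι ι F)ᵀ * ((a : Matrix ι ι F)ᵀ * C * (a : Matrix ι ι F)) *
            (b : Matrix ι ι F) := by simp only [mul_assoc]
      _ = C := by rw [ha, hb]
  one_mem' := by simp
  inv_mem' := by
    intro x hx
    simp only [Set.mem_setOf_eq] at hx ⊢
    have hxx : (x : Matrix ι ι F) * ((x⁻¹ : GL ι F) : Matrix ι ι F) = 1 := by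
      rw [← Units.val_mul, mul_inv_cancel, Units.val_one]
    have hxt : ((x⁻¹ : GL ι F) : Matrix ι ι F)ᵀ * (x : Matrix ι ι F)ᵀ = 1 := by
      rw [← Matrix.transpose_mul, hxx, Matrix.transpose_one]
    calc ((x⁻¹ : GL ι F) : Matrix ι ι F)ᵀ * C * ((x⁻¹ : GL ι F) : Matrix ι ι F)
        = ((x⁻¹ : GL ι F) : Matrix ι ι F)ᵀ * ((x : Matrix ι ι F)ᵀ * C * (x : Matrix ι ι F)) *
            ((x⁻¹ : GL ι F) : Matrix ι ι F) := by rw [hx]
      _ = (((x⁻¹ : GL ι F) : Matrix ι ι F)ᵀ * (x : Matrix ι ι F)ᵀ) * C * ((x : Matrix ι ι F) *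
            ((x⁻¹ : GL ι F) : Matrix ι ι F)) := by simp only [mul_assoc]
      _ = C := by rw [hxt, hxx, one_mul, mul_one]

lemma mem_OC {ι : Type} [Fintype ι] [DecidableEq ι] (C : Matrix ι ι F) (M : GL ι F) :
    M ∈ OC C ↔ (M : Matrix ι ι F)ᵀ * C * (M : Matrix ι ι F) = C := Iff.rfl

variable [Fintype F]

lemma three_eq_zero (hF : Fintype.card F = 3) : (3 : F) = 0 := by
  have h := FiniteField.cast_card_eq_zero F
  rw [hF] at h
  exact_mod_cast h

lemma two_ne_zero (hF : Fintype.card F = 3) : (2 : F) ≠ 0 := by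
  intro h
  have h3 := three_eq_zero hF
  exact one_ne_zero (by linear_combination h3 - h : (1 : F) = 0)

lemma elt_cases (hF : Fintype.card F = 3) (a : F) : a = 0 ∨ a = 1 ∨ a = -1 := by
  have h := FiniteField.pow_card a
  rw [hF] at h
  have h1 : a * (a - 1) * (a + 1) = 0 := by linear_combination h
  rcases mul_eq_zero.1 h1 with h2 | h2
  · rcases mul_eq_zero.1 h2 with h3 | h3
    · exact Or.inl h3
    · exact Or.inr (Or.inl (by linear_combination h3))
  · exact Or.inr (Or.inr (by linear_combination h2))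

lemma sq_cases (hF : Fintype.card F = 3) (a : F) : (a = 0 ∧ a * a = 0) ∨ (a ≠ 0 ∧ a * a = 1) := by
  rcases elt_cases hF a with rfl | rfl | rfl
  · left; simp
  · right; simp
  · right; simp

/-- a vector of norm one for `x² + y² + z²` over `F₃` has exactly one non-zero coordinate -/
lemma unique_nonzero (hF : Fintype.card F = 3) (a b c : F) (h : a * a + b * b + c * c = 1) :
    (a ≠ 0 ∧ b = 0 ∧ c = 0) ∨ (a = 0 ∧ b ≠ 0 ∧ c = 0) ∨ (a = 0 ∧ b = 0 ∧ c ≠ 0) := by
  have h3 := three_eq_zero hF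
  rcases sq_cases hF a with ⟨ha, ha2⟩ | ⟨ha, ha2⟩ <;> rcases sq_cases hF b with ⟨hb, hb2⟩ | ⟨hb, hb2⟩ <;>
    rcases sq_cases hF c with ⟨hc, hc2⟩ | ⟨hc, hc2⟩ <;> rw [ha2, hb2, hc2] at h
  · exact absurd (by linear_combination -h : (1 : F) = 0) one_ne_zero
  · exact Or.inr (Or.inr ⟨ha, hb, hc⟩)
  · exact Or.inr (Or.inl ⟨ha, hb, hc⟩)
  · exact absurd (by linear_combination h : (1 : F) = 0) one_ne_zero
  · exact Or.inl ⟨ha, hb, hc⟩
  · exact absurd (by linear_combination h : (1 : F) = 0) one_ne_zero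
  · exact absurd (by linear_combination h : (1 : F) = 0) one_ne_zero
  · exact absurd (by linear_combination h3 - h : (1 : F) = 0) one_ne_zero

/-- every column of an isometry of `x² + y² + z²` over `F₃` has exactly one non-zero entry -/
lemma col_existsUnique (hF : Fintype.card F = 3) (M : GL (Fin 3) F)
    (hM : M ∈ OC (1 : Matrix (Fin 3) (Fin 3) F)) (j : Fin 3) :
    ∃! i, (M : Matrix (Fin 3) (Fin 3) F) i j ≠ 0 := by
  rw [mem_OC, mul_one] at hM
  have h := congrFun (congrFun hM j) j
  rw [Matrix.mul_apply, Fin.sum_univ_three, Matrix.one_apply_eq] at h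
  simp only [Matrix.transpose_apply] at h
  rcases unique_nonzero hF _ _ _ h with ⟨h0, h1, h2⟩ | ⟨h0, h1, h2⟩ | ⟨h0, h1, h2⟩
  · refine ⟨0, h0, ?_⟩
    intro i hi
    fin_cases i
    · rfl
    · exact absurd h1 hi
    · exact absurd h2 hi
  · refine ⟨1, h1, ?_⟩
    intro i hi
    fin_cases i
    · exact absurd h0 hi
    · rfl
    · exact absurd h2 hi
  · refine ⟨2, h2, ?_⟩
    intro i hi
    fin_cases i
    · exact absurd h0 hi
    · exact absurd h1 hi
    · rfl

/-- the row of the non-zero entry of the column `j` -/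
noncomputable def row (hF : Fintype.card F = 3) (M : OC (1 : Matrix (Fin 3) (Fin 3) F)) (j : Fin 3) :
    Fin 3 :=
  (col_existsUnique hF M.1 M.2 j).choose

lemma row_spec (hF : Fintype.card F = 3) (M : OC (1 : Matrix (Fin 3) (Fin 3) F)) (j : Fin 3) :
    ((M : GL (Fin 3) F) : Matrix (Fin 3) (Fin 3) F) (row hF M j) j ≠ 0 :=
  (col_existsUnique hF M.1 M.2 j).choose_spec.1

lemma row_unique (hF : Fintype.card F = 3) (M : OC (1 : Matrix (Fin 3) (Fin 3) F)) (j i : Fin 3)
    (h : ((M : GL (Fin 3) F) : Matrix (Fin 3) (Fin 3) F) i j ≠ 0) : i = row hF M j :=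
  (col_existsUnique hF M.1 M.2 j).choose_spec.2 i h

lemma eq_zero_of_ne_row (hF : Fintype.card F = 3) (M : OC (1 : Matrix (Fin 3) (Fin 3) F))
    (j i : Fin 3) (h : i ≠ row hF M j) :
    ((M : GL (Fin 3) F) : Matrix (Fin 3) (Fin 3) F) i j = 0 := by
  by_contra h0
  exact h (row_unique hF M j i h0)

lemma row_one (hF : Fintype.card F = 3) (j : Fin 3) :
    row hF (1 : OC (1 : Matrix (Fin 3) (Fin 3) F)) j = j := by
  symm
  apply row_unique
  simp

lemma row_mul (hF : Fintype.card F = 3) (M N : OC (1 : Matrix (Fin 3) (Fin 3) F)) (j : Fin 3) :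
    row hF (M * N) j = row hF M (row hF N j) := by
  symm
  apply row_unique
  show ((((M * N : OC (1 : Matrix (Fin 3) (Fin 3) F)) : GL (Fin 3) F)) :
    Matrix (Fin 3) (Fin 3) F) (row hF M (row hF N j)) j ≠ 0
  rw [Subgroup.coe_mul, Units.val_mul, Matrix.mul_apply,
    Finset.sum_eq_single (row hF N j)]
  · exact mul_ne_zero (row_spec hF M _) (row_spec hF N j)
  · intro b _ hb
    rw [eq_zero_of_ne_row hF N j b hb, mul_zero]
  · intro h
    exact absurd (Finset.mem_univ _) h

/-- the permutation part of a signed permutation matrix -/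
noncomputable def permHom (hF : Fintype.card F = 3) :
    OC (1 : Matrix (Fin 3) (Fin 3) F) →* Equiv.Perm (Fin 3) :=
  MonoidHom.toHomPerm
    { toFun := fun M => (row hF M : Function.End (Fin 3))
      map_one' := by
        funext j
        exact row_one hF j
      map_mul' := by
        intro M N
        funext j
        exact row_mul hF M N j }

lemma permHom_apply (hF : Fintype.card F = 3) (M : OC (1 : Matrix (Fin 3) (Fin 3) F)) (j : Fin 3) :
    permHom hF M j = row hF M j := rfl

/-- the isometry group of `x² + y² + z²` over `F₃` is solvable -/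
theorem isSolvable_OC_one (hF : Fintype.card F = 3) :
    Group.IsSolvable (OC (1 : Matrix (Fin 3) (Fin 3) F)) := by
  haveI : Group.IsSolvable (Equiv.Perm (Fin 3)) :=
    Cfsg.Agent.S4337.solvable_perm_of_card_le (by simp)
  have hdiag : ∀ M ∈ (permHom hF).ker, ((M : GL (Fin 3) F) : Matrix (Fin 3) (Fin 3) F) =
      Matrix.diagonal (fun i => ((M : GL (Fin 3) F) : Matrix (Fin 3) (Fin 3) F) i i) := by
    intro M hM
    rw [MonoidHom.mem_ker] at hM
    ext i j
    by_cases hij : i = j
    · subst hij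
      simp
    · rw [Matrix.diagonal_apply_ne _ hij]
      apply eq_zero_of_ne_row hF M j i
      have h1 : permHom hF M j = j := by rw [hM]; rfl
      rw [permHom_apply] at h1
      rw [h1]
      exact hij
  haveI : Group.IsSolvable (permHom hF).ker := by
    apply Group.isSolvable_of_comm
    intro a b
    apply Subtype.ext
    apply Subtype.ext
    apply Units.ext
    show (((a : OC (1 : Matrix (Fin 3) (Fin 3) F)) : GL (Fin 3) F) : Matrix (Fin 3) (Fin 3) F) *
        (((b : OC (1 : Matrix (Fin 3) (Fin 3) F)) : GL (Fin 3) F) : Matrix (Fin 3) (Fin 3) F) =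
      (((b : OC (1 : Matrix (Fin 3) (Fin 3) F)) : GL (Fin 3) F) : Matrix (Fin 3) (Fin 3) F) *
        (((a : OC (1 : Matrix (Fin 3) (Fin 3) F)) : GL (Fin 3) F) : Matrix (Fin 3) (Fin 3) F)
    rw [hdiag a.1 a.2, hdiag b.1 b.2, Matrix.diagonal_mul_diagonal, Matrix.diagonal_mul_diagonal]
    congr 1
    funext i
    exact mul_comm _ _
  exact Group.isSolvable_of_ker_le_range (permHom hF).ker.subtype (permHom hF)
    (by rw [Subgroup.range_subtype])

/-- a subgroup contained in the image of a solvable subgroup is solvable -/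
lemma isSolvable_of_le_map {G G' : Type*} [Group G] [Group G'] (f : G →* G') (K : Subgroup G)
    [Group.IsSolvable K] (L : Subgroup G') (h : L ≤ K.map f) : Group.IsSolvable L := by
  haveI : Group.IsSolvable (K.map f) :=
    Group.isSolvable_of_surjective (MonoidHom.subgroupMap_surjective f K)
  exact Group.isSolvable_of_isSolvable_injective (Subgroup.inclusion_injective h)

/-- every non-degenerate diagonal ternary form over `F₃` is `± (x² + y² + z²)` in a suitable basis -/
lemma exists_g (hF : Fintype.card F = 3) (w : Fin 3 → F) (hw : ∀ i, w i ≠ 0) :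
    ∃ (g g' : Matrix (Fin 3) (Fin 3) F) (ε : F), ε ≠ 0 ∧ g * g' = 1 ∧ g' * g = 1 ∧
      gᵀ * Matrix.diagonal w * g = ε • (1 : Matrix (Fin 3) (Fin 3) F) := by
  have h3 := three_eq_zero hF
  have hw' : ∀ i, w i = 1 ∨ w i = -1 := by
    intro i
    rcases elt_cases hF (w i) with h | h | h
    · exact absurd h (hw i)
    · exact Or.inl h
    · exact Or.inr h
  have hwe : w = ![w 0, w 1, w 2] := by
    funext i
    fin_cases i <;> rfl
  -- two of the three entries are equal
  have hcase : (w 0 = w 1 ∧ w 1 = w 2) ∨ (w 0 = w 1 ∧ w 2 = -w 0) ∨ (w 0 = w 2 ∧ w 1 = -w 0) ∨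
      (w 1 = w 2 ∧ w 0 = -w 1) := by
    rcases hw' 0 with h0 | h0 <;> rcases hw' 1 with h1 | h1 <;> rcases hw' 2 with h2 | h2 <;>
      rw [h0, h1, h2] <;> simp
  rcases hcase with ⟨h01, h12⟩ | ⟨h01, h2⟩ | ⟨h02, h1⟩ | ⟨h12, h0⟩
  · refine ⟨1, 1, w 0, hw 0, by simp, by simp, ?_⟩
    rw [hwe, ← h12, ← h01]
    ext i j
    fin_cases i <;> fin_cases j <;> simp [Matrix.diagonal_apply, Matrix.one_apply]
  · refine ⟨!![1,1,0;1,-1,0;0,0,1], !![-1,-1,0;-1,1,0;0,0,1], -w 0, neg_ne_zero.2 (hw 0), ?_, ?_, ?_⟩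
    · ext i j
      fin_cases i <;> fin_cases j <;>
        simp [Matrix.mul_apply, Fin.sum_univ_three, Matrix.one_apply] <;>
        linear_combination -h3
    · ext i j
      fin_cases i <;> fin_cases j <;>
        simp [Matrix.mul_apply, Fin.sum_univ_three, Matrix.one_apply] <;>
        linear_combination -h3
    · rw [hwe, h2, ← h01]
      ext i j
      fin_cases i <;> fin_cases j <;>
        simp [Matrix.mul_apply, Fin.sum_univ_three, Matrix.diagonal_apply, Matrix.one_apply] <;>
        linear_combination (w 0) * h3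
  · refine ⟨!![1,0,1;0,1,0;1,0,-1], !![-1,0,-1;0,1,0;-1,0,1], -w 0, neg_ne_zero.2 (hw 0), ?_, ?_, ?_⟩
    · ext i j
      fin_cases i <;> fin_cases j <;>
        simp [Matrix.mul_apply, Fin.sum_univ_three, Matrix.one_apply] <;>
        linear_combination -h3
    · ext i j
      fin_cases i <;> fin_cases j <;>
        simp [Matrix.mul_apply, Fin.sum_univ_three, Matrix.one_apply] <;>
        linear_combination -h3
    · rw [hwe, h1, ← h02]
      ext i j
      fin_cases i <;> fin_cases j <;>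
        simp [Matrix.mul_apply, Fin.sum_univ_three, Matrix.diagonal_apply, Matrix.one_apply] <;>
        linear_combination (w 0) * h3
  · refine ⟨!![1,0,0;0,1,1;0,1,-1], !![1,0,0;0,-1,-1;0,-1,1], -w 1, neg_ne_zero.2 (hw 1), ?_, ?_, ?_⟩
    · ext i j
      fin_cases i <;> fin_cases j <;>
        simp [Matrix.mul_apply, Fin.sum_univ_three, Matrix.one_apply] <;>
        linear_combination -h3
    · ext i j
      fin_cases i <;> fin_cases j <;>
        simp [Matrix.mul_apply, Fin.sum_univ_three, Matrix.one_apply] <;>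
        linear_combination -h3
    · rw [hwe, h0, ← h12]
      ext i j
      fin_cases i <;> fin_cases j <;>
        simp [Matrix.mul_apply, Fin.sum_univ_three, Matrix.diagonal_apply, Matrix.one_apply] <;>
        linear_combination (w 1) * h3

/-- every non-degenerate ternary symmetric form over `F₃` is `± (x² + y² + z²)` in a suitable basis -/
theorem exists_orthonormalising (hF : Fintype.card F = 3) (C : Matrix (Fin 3) (Fin 3) F)
    (hC : Cᵀ = C) (hdet : C.det ≠ 0) :
    ∃ (R R' : Matrix (Fin 3) (Fin 3) F) (ε : F), ε ≠ 0 ∧ R * R' = 1 ∧ R' * R = 1 ∧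
      Rᵀ * C * R = ε • (1 : Matrix (Fin 3) (Fin 3) F) := by
  obtain ⟨P, Q, w, hPQ, hQP, hdiag⟩ :=
    Cfsg.Agent.Lib.Helper88_OrthC8_RA.exists_diagonalising (two_ne_zero hF) C hC
  have hw : ∀ i, w i ≠ 0 := by
    have h1 : (Matrix.diagonal w).det ≠ 0 := by
      rw [← hdiag, Matrix.det_mul, Matrix.det_mul, Matrix.det_transpose]
      have hP : P.det ≠ 0 := by
        intro h0
        have h2 := congrArg Matrix.det hPQ
        rw [Matrix.det_mul, h0, zero_mul, Matrix.det_one] at h2
        exact zero_ne_one h2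
      exact mul_ne_zero (mul_ne_zero hP hdet) hP
    rw [Matrix.det_diagonal] at h1
    intro i hi
    exact h1 (Finset.prod_eq_zero (Finset.mem_univ i) hi)
  obtain ⟨g, g', ε, hε, hgg', hg'g, hg⟩ := exists_g hF w hw
  refine ⟨P * g, g' * Q, ε, hε, ?_, ?_, ?_⟩
  · calc P * g * (g' * Q) = P * (g * g') * Q := by simp only [mul_assoc]
      _ = 1 := by rw [hgg', mul_one, hPQ]
  · calc g' * Q * (P * g) = g' * (Q * P) * g := by simp only [mul_assoc]
      _ = 1 := by rw [hQP, mul_one, hg'g]
  · calc (P * g)ᵀ * C * (P * g) = gᵀ * (Pᵀ * C * P) * g := by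
          rw [Matrix.transpose_mul]; simp only [mul_assoc]
      _ = ε • (1 : Matrix (Fin 3) (Fin 3) F) := by rw [hdiag, hg]

/-- the isometry group of a non-degenerate ternary symmetric form over `F₃` is solvable -/
theorem isSolvable_OC (hF : Fintype.card F = 3) (C : Matrix (Fin 3) (Fin 3) F)
    (hC : Cᵀ = C) (hdet : C.det ≠ 0) : Group.IsSolvable (OC C) := by
  obtain ⟨R, R', ε, hε, hRR', hR'R, hR⟩ := exists_orthonormalising hF C hC hdet
  let Ru : GL (Fin 3) F := ⟨R, R', hRR', hR'R⟩
  haveI := isSolvable_OC_one (F := F) hF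
  apply isSolvable_of_le_map (MulAut.conj Ru).toMonoidHom (OC (1 : Matrix (Fin 3) (Fin 3) F)) (OC C)
  intro M hM
  rw [mem_OC] at hM
  have hRt : R'ᵀ * Rᵀ = 1 := by rw [← Matrix.transpose_mul, hRR', Matrix.transpose_one]
  have hCe : C = ε • (R'ᵀ * R') := by
    calc C = (R'ᵀ * Rᵀ) * C * (R * R') := by rw [hRR', hRt, one_mul, mul_one]
      _ = R'ᵀ * (Rᵀ * C * R) * R' := by simp only [mul_assoc]
      _ = ε • (R'ᵀ * R') := by rw [hR]; simp
  have hRR : R'ᵀ * R' = ε⁻¹ • C := by
    rw [hCe, smul_smul, inv_mul_cancel₀ hε, one_smul]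
  refine ⟨Ru⁻¹ * M * Ru, ?_, ?_⟩
  · rw [SetLike.mem_coe, mem_OC, mul_one]
    have hval : ((Ru⁻¹ * M * Ru : GL (Fin 3) F) : Matrix (Fin 3) (Fin 3) F) =
        R' * (M : Matrix (Fin 3) (Fin 3) F) * R := rfl
    rw [hval, Matrix.transpose_mul, Matrix.transpose_mul]
    calc Rᵀ * ((M : Matrix (Fin 3) (Fin 3) F)ᵀ * R'ᵀ) * (R' * (M : Matrix (Fin 3) (Fin 3) F) * R)
        = Rᵀ * ((M : Matrix (Fin 3) (Fin 3) F)ᵀ * (R'ᵀ * R') * (M : Matrix (Fin 3) (Fin 3) F)) * R := by
          simp only [mul_assoc]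
      _ = ε⁻¹ • (Rᵀ * ((M : Matrix (Fin 3) (Fin 3) F)ᵀ * C * (M : Matrix (Fin 3) (Fin 3) F)) * R) := by
          rw [hRR]; simp
      _ = ε⁻¹ • (Rᵀ * C * R) := by rw [hM]
      _ = 1 := by rw [hR, smul_smul, inv_mul_cancel₀ hε, one_smul]
  · show Ru * (Ru⁻¹ * M * Ru) * Ru⁻¹ = M
    group

end Cfsg.Agent.Lib.Helper54_OrthOdd_F3
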