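import Mathlib
import Cfsg.Agent.Lib.Helper29_OrthOddDefs
import Cfsg.Agent.Lib.Helper29_OmegaMaxDefs
import Cfsg.Agent.Lib.Helper44_StdForms
import Cfsg.Agent.Lib.Helper54_OrthOdd_F3

set_option autoImplicit false

/-!
OMX-B4 (helper29's package, row S5835): over `F₃` the stabiliser of an orthogonal decomposition into
3-spaces stabilises an orthogonal frame (helper60).

Abstract layer (any quadratic form `Q` on any `F₃`-space): `Fr Q W c x y z` (an orthogonal basis
`x, y, z` of `W` with `Q x = Q y = Q z = c ≠ 0`), `exists_fr` (every non-degenerate 3-space has one),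
`Fr.eq_smul` (the vectors of norm `c` of `W` are `± x, ± y, ± z`), `Fr.transport`.
-/

namespace Cfsg.Agent.Lib.Helper60_OMX_B4

open Cfsg Cfsg.Geo Matrix Module Cfsg.Agent.Lib.Helper29_OrthOddDefs
  Cfsg.Agent.Lib.Helper29_OmegaMaxDefs Cfsg.Agent.Lib.Helper54_OrthOdd_F3
open scoped MatrixGroups

section ternary

variable {F : Type*} [Field F] [Fintype F] {V : Type*} [AddCommGroup V] [Module F V]

/-- `x, y, z ∈ W` pairwise orthogonal and spanning `W` -/
structure Orth3 (Q : QuadraticForm F V) (W : Submodule F V) (x y z : V) : Prop where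
  hx : x ∈ W
  hy : y ∈ W
  hz : z ∈ W
  xy : QuadraticMap.polar Q x y = 0
  xz : QuadraticMap.polar Q x z = 0
  yz : QuadraticMap.polar Q y z = 0
  span : Submodule.span F {x, y, z} = W

/-- an orthogonal basis of `W` of constant norm `c ≠ 0` -/
structure Fr (Q : QuadraticForm F V) (W : Submodule F V) (c : F) (x y z : V) : Prop
    extends Orth3 Q W x y z where
  qx : Q x = c
  qy : Q y = c
  qz : Q z = c
  hc : c ≠ 0

omit [Fintype F] in
theorem Orth3.swap23 {Q : QuadraticForm F V} {W : Submodule F V} {x y z : V}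
    (h : Orth3 Q W x y z) : Orth3 Q W x z y where
  hx := h.hx
  hy := h.hz
  hz := h.hy
  xy := h.xz
  xz := h.xy
  yz := by rw [QuadraticMap.polar_comm]; exact h.yz
  span := by rw [← h.span, Set.pair_comm]

omit [Fintype F] in
theorem Orth3.rot {Q : QuadraticForm F V} {W : Submodule F V} {x y z : V}
    (h : Orth3 Q W x y z) : Orth3 Q W y z x where
  hx := h.hy
  hy := h.hz
  hz := h.hx
  xy := h.yz
  xz := by rw [QuadraticMap.polar_comm]; exact h.xy
  yz := by rw [QuadraticMap.polar_comm]; exact h.xz
  span := by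
    rw [← h.span]
    congr 1
    ext v
    simp only [Set.mem_insert_iff, Set.mem_singleton_iff]
    tauto

omit [Fintype F] in
/-- the norm of a combination of an orthogonal triple -/
theorem Orth3.norm {Q : QuadraticForm F V} {W : Submodule F V} {x y z : V}
    (h : Orth3 Q W x y z) (a b d : F) :
    Q (a • x + b • y + d • z) = a * a * Q x + b * b * Q y + d * d * Q z := by
  rw [QuadraticMap.map_add (⇑Q), QuadraticMap.map_add (⇑Q), QuadraticMap.map_smul,
    QuadraticMap.map_smul, QuadraticMap.map_smul, QuadraticMap.polar_add_left,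
    QuadraticMap.polar_smul_left, QuadraticMap.polar_smul_right, QuadraticMap.polar_smul_left,
    QuadraticMap.polar_smul_right, QuadraticMap.polar_smul_left, QuadraticMap.polar_smul_right,
    h.xy, h.xz, h.yz]
  simp only [smul_eq_mul, mul_zero, add_zero]

/-- normalisation: norms `(c, c, -c)` become `(-c, -c, -c)` -/
theorem Orth3.normalise (hF : Fintype.card F = 3) {Q : QuadraticForm F V} {W : Submodule F V}
    {x y z : V} (h : Orth3 Q W x y z) {c : F} (hc : c ≠ 0) (qx : Q x = c) (qy : Q y = c)
    (qz : Q z = -c) : Fr Q W (-c) (x + y) (x - y) z := by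
  have h3 : (3 : F) = 0 := three_eq_zero hF
  have h3V : ∀ v : V, v + v + v = 0 := by
    intro v
    have : (3 : F) • v = 0 := by rw [h3, zero_smul]
    rw [← this]
    module
  have hxy' : QuadraticMap.polar Q y x = 0 := by rw [QuadraticMap.polar_comm]; exact h.xy
  refine
    { hx := W.add_mem h.hx h.hy
      hy := W.sub_mem h.hx h.hy
      hz := h.hz
      xy := ?_
      xz := ?_
      yz := ?_
      span := ?_
      qx := ?_
      qy := ?_
      qz := qz
      hc := neg_ne_zero.2 hc }
  · rw [QuadraticMap.polar_add_left, QuadraticMap.polar_sub_right, QuadraticMap.polar_sub_right,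
      QuadraticMap.polar_self, QuadraticMap.polar_self, h.xy, hxy', qx, qy]
    simp
  · rw [QuadraticMap.polar_add_left, h.xz, h.yz, add_zero]
  · rw [QuadraticMap.polar_sub_left, h.xz, h.yz, sub_zero]
  · rw [← h.span]
    apply le_antisymm
    · rw [Submodule.span_le]
      rintro v (rfl | rfl | rfl)
      · exact Submodule.add_mem _ (Submodule.subset_span (by simp)) (Submodule.subset_span (by simp))
      · exact Submodule.sub_mem _ (Submodule.subset_span (by simp)) (Submodule.subset_span (by simp))
      · exact Submodule.subset_span (by simp)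
    · have m1 : x + y ∈ Submodule.span F ({x + y, x - y, z} : Set V) :=
        Submodule.subset_span (by simp)
      have m2 : x - y ∈ Submodule.span F ({x + y, x - y, z} : Set V) :=
        Submodule.subset_span (by simp)
      have m3 : z ∈ Submodule.span F ({x + y, x - y, z} : Set V) :=
        Submodule.subset_span (by simp)
      have ex : x = -((x + y) + (x - y)) := by
        have := h3V x
        rw [eq_neg_iff_add_eq_zero, ← this]
        abel
      have ey : y = -((x + y) - (x - y)) := by
        have := h3V y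
        rw [eq_neg_iff_add_eq_zero, ← this]
        abel
      have key : ∀ S : Submodule F V, x + y ∈ S → x - y ∈ S → x ∈ S ∧ y ∈ S := by
        intro S h1 h2
        constructor
        · have := S.neg_mem (S.add_mem h1 h2)
          rwa [← ex] at this
        · have := S.neg_mem (S.sub_mem h1 h2)
          rwa [← ey] at this
      obtain ⟨mx, my⟩ := key _ m1 m2
      rw [Submodule.span_le]
      intro v hv
      simp only [Set.mem_insert_iff, Set.mem_singleton_iff] at hv
      rcases hv with rfl | rfl | rfl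
      · exact mx
      · exact my
      · exact m3
  · rw [QuadraticMap.map_add (⇑Q), h.xy, qx, qy]
    linear_combination c * h3
  · have : x - y = x + (-1 : F) • y := by rw [neg_one_smul]; abel
    rw [this, QuadraticMap.map_add (⇑Q), QuadraticMap.map_smul, QuadraticMap.polar_smul_right,
      h.xy, qx, qy]
    simp only [smul_eq_mul, mul_zero, add_zero]
    linear_combination c * h3

/-- the vectors of norm `c` in `W` are the non-zero multiples of the frame vectors -/
theorem Fr.eq_smul (hF : Fintype.card F = 3) {Q : QuadraticForm F V} {W : Submodule F V} {c : F}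
    {x y z : V} (h : Fr Q W c x y z) {u : V} (hu : u ∈ W) (hq : Q u = c) :
    ∃ ε : F, ε ≠ 0 ∧ (u = ε • x ∨ u = ε • y ∨ u = ε • z) := by
  rw [← h.span, Submodule.mem_span_triple] at hu
  obtain ⟨a, b, d, rfl⟩ := hu
  rw [h.toOrth3.norm, h.qx, h.qy, h.qz] at hq
  have h1 : a * a + b * b + d * d = 1 := by
    have : (a * a + b * b + d * d - 1) * c = 0 := by linear_combination hq
    rcases mul_eq_zero.1 this with h0 | h0
    · linear_combination h0
    · exact absurd h0 h.hc
  rcases unique_nonzero hF a b d h1 with ⟨ha, hb, hd⟩ | ⟨ha, hb, hd⟩ | ⟨ha, hb, hd⟩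
  · exact ⟨a, ha, Or.inl (by rw [hb, hd]; simp)⟩
  · exact ⟨b, hb, Or.inr (Or.inl (by rw [ha, hd]; simp))⟩
  · exact ⟨d, hd, Or.inr (Or.inr (by rw [ha, hb]; simp))⟩

omit [Fintype F] in
/-- transport of a frame along an isometry -/
theorem Fr.transport {Q : QuadraticForm F V} {W W' : Submodule F V} {c : F} {x y z : V}
    (h : Fr Q W c x y z) (e : W ≃ₗ[F] W') (he : ∀ w : W, Q ((e w : W') : V) = Q (w : V)) :
    Fr Q W' c ((e ⟨x, h.hx⟩ : W') : V) ((e ⟨y, h.hy⟩ : W') : V) ((e ⟨z, h.hz⟩ : W') : V) := by
  have hpol : ∀ a b : W, QuadraticMap.polar Q ((e a : W') : V) ((e b : W') : V) =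
      QuadraticMap.polar Q (a : V) (b : V) := by
    intro a b
    unfold QuadraticMap.polar
    rw [← Submodule.coe_add, ← map_add, he, he, he, Submodule.coe_add]
  refine
    { hx := (e ⟨x, h.hx⟩).2
      hy := (e ⟨y, h.hy⟩).2
      hz := (e ⟨z, h.hz⟩).2
      xy := by rw [hpol]; exact h.xy
      xz := by rw [hpol]; exact h.xz
      yz := by rw [hpol]; exact h.yz
      span := ?_
      qx := by rw [he]; exact h.qx
      qy := by rw [he]; exact h.qy
      qz := by rw [he]; exact h.qz
      hc := h.hc }
  apply le_antisymm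
  · rw [Submodule.span_le]
    intro v hv
    simp only [Set.mem_insert_iff, Set.mem_singleton_iff] at hv
    rcases hv with rfl | rfl | rfl
    · exact (e ⟨x, h.hx⟩).2
    · exact (e ⟨y, h.hy⟩).2
    · exact (e ⟨z, h.hz⟩).2
  · intro w' hw'
    have h1 : ((e.symm ⟨w', hw'⟩ : W) : V) ∈ Submodule.span F ({x, y, z} : Set V) := by
      rw [h.span]
      exact (e.symm ⟨w', hw'⟩).2
    rw [Submodule.mem_span_triple] at h1
    obtain ⟨a, b, d, habd⟩ := h1
    have h2 : e.symm ⟨w', hw'⟩ = a • (⟨x, h.hx⟩ : W) + b • (⟨y, h.hy⟩ : W) + d • (⟨z, h.hz⟩ : W) := by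
      apply Subtype.ext
      rw [← habd]
      rfl
    have h3 : (⟨w', hw'⟩ : W') = a • e ⟨x, h.hx⟩ + b • e ⟨y, h.hy⟩ + d • e ⟨z, h.hz⟩ := by
      rw [← map_smul, ← map_smul, ← map_smul, ← map_add, ← map_add, ← h2, LinearEquiv.apply_symm_apply]
    have h4 : w' = a • ((e ⟨x, h.hx⟩ : W') : V) + b • ((e ⟨y, h.hy⟩ : W') : V) +
        d • ((e ⟨z, h.hz⟩ : W') : V) := by
      have := congrArg (fun t : W' => (t : V)) h3
      exact this
    rw [Submodule.mem_span_triple]
    exact ⟨a, b, d, h4.symm⟩

/-- every non-degenerate ternary quadratic space over `F₃` has an orthogonal basis of constant norm -/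
theorem exists_fr (hF : Fintype.card F = 3) (Q : QuadraticForm F V) (W : Submodule F V)
    (hW3 : finrank F W = 3)
    (hnd : ∀ w ∈ W, w ≠ 0 → ∃ x ∈ W, QuadraticMap.polar Q w x ≠ 0) :
    ∃ (c : F) (x y z : V), Fr Q W c x y z := by
  have : Invertible (2 : F) := invertibleOfNonzero (two_ne_zero hF)
  have : FiniteDimensional F W := Module.finite_of_finrank_pos (by rw [hW3]; norm_num)
  let B : LinearMap.BilinForm F W := LinearMap.BilinForm.restrict (QuadraticMap.polarBilin Q) W
  have hB : ∀ a b : W, B a b = QuadraticMap.polar Q (a : V) (b : V) := fun a b => rfl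
  have hsymm : LinearMap.IsSymm B := ⟨fun a b => by
    rw [hB, hB, QuadraticMap.polar_comm]
    rfl⟩
  obtain ⟨v, hv⟩ := LinearMap.BilinForm.exists_orthogonal_basis hsymm
  let b : Basis (Fin 3) F W := v.reindex (finCongr hW3)
  have hb : ∀ i j : Fin 3, i ≠ j → QuadraticMap.polar Q (b i : V) (b j : V) = 0 := by
    intro i j hij
    rw [← hB]
    show B (v.reindex (finCongr hW3) i) (v.reindex (finCongr hW3) j) = 0
    rw [Basis.reindex_apply, Basis.reindex_apply]
    apply hv
    intro h
    exact hij ((finCongr hW3).symm.injective h)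
  have hne : ∀ i : Fin 3, Q (b i : V) ≠ 0 := by
    intro i h0
    have hzero : B (b i) = 0 := by
      apply b.ext
      intro j
      rw [LinearMap.zero_apply, hB]
      by_cases hij : i = j
      · subst hij
        rw [QuadraticMap.polar_self, h0, smul_zero]
      · exact hb i j hij
    have hbi : ((b i : W) : V) ≠ 0 := fun h => b.ne_zero i (Subtype.ext h)
    obtain ⟨x, hx, hpx⟩ := hnd (b i : V) (b i).2 hbi
    apply hpx
    have := LinearMap.congr_fun hzero ⟨x, hx⟩
    rw [LinearMap.zero_apply, hB] at this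
    exact this
  have hpm : ∀ i : Fin 3, Q (b i : V) = 1 ∨ Q (b i : V) = -1 := by
    intro i
    rcases elt_cases hF (Q (b i : V)) with h | h | h
    · exact absurd h (hne i)
    · exact Or.inl h
    · exact Or.inr h
  have hO : Orth3 Q W (b 0 : V) (b 1 : V) (b 2 : V) :=
    { hx := (b 0).2
      hy := (b 1).2
      hz := (b 2).2
      xy := hb 0 1 (by decide)
      xz := hb 0 2 (by decide)
      yz := hb 1 2 (by decide)
      span := by
        have h1 := b.span_eq
        have h2 : Submodule.map W.subtype (Submodule.span F (Set.range b)) = W := by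
          rw [h1, Submodule.map_subtype_top]
        rw [Submodule.map_span] at h2
        have h3 : ({((b 0 : W) : V), ((b 1 : W) : V), ((b 2 : W) : V)} : Set V) =
            ⇑W.subtype '' Set.range ⇑b := by
          ext u
          simp only [Set.mem_insert_iff, Set.mem_singleton_iff, Set.mem_image, Set.mem_range,
            Submodule.subtype_apply, Fin.exists_fin_succ, Fin.succ_zero_eq_one,
            Fin.succ_one_eq_two, IsEmpty.exists_iff, or_false]
          constructor
          · rintro (rfl | rfl | rfl)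
            · exact ⟨b 0, Or.inl rfl, rfl⟩
            · exact ⟨b 1, Or.inr (Or.inl rfl), rfl⟩
            · exact ⟨b 2, Or.inr (Or.inr rfl), rfl⟩
          · rintro ⟨x, (rfl | rfl | rfl), rfl⟩
            · exact Or.inl rfl
            · exact Or.inr (Or.inl rfl)
            · exact Or.inr (Or.inr rfl)
        rw [h3]
        exact h2 }
  have hcases : ∀ a b : F, (a = 1 ∨ a = -1) → (b = 1 ∨ b = -1) → b = a ∨ b = -a := by
    rintro a b (rfl | rfl) (rfl | rfl) <;> simp
  have hx0 : Q (b 0 : V) ≠ 0 := hne 0
  have hy0 : Q (b 1 : V) ≠ 0 := hne 1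
  rcases hcases _ _ (hpm 0) (hpm 1) with h01 | h01
  · rcases hcases _ _ (hpm 0) (hpm 2) with h02 | h02
    · exact ⟨Q (b 0 : V), _, _, _, { toOrth3 := hO, qx := rfl, qy := h01, qz := h02, hc := hx0 }⟩
    · exact ⟨_, _, _, _, hO.normalise hF hx0 rfl h01 h02⟩
  · rcases hcases _ _ (hpm 0) (hpm 2) with h02 | h02
    · exact ⟨_, _, _, _, hO.swap23.normalise hF hx0 rfl h02 h01⟩
    · refine ⟨_, _, _, _, hO.rot.normalise hF hy0 rfl (by rw [h02, h01]) (by rw [h01, neg_neg])⟩

end ternary

section main

variable {F : Type*} [Field F]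

/-- B4: over F_3 the stabiliser of an orthogonal decomposition into 3-spaces stabilises an orthogonal frame -/
theorem B4 [Fintype F] (hq : Fintype.card F = 3) (m : ℕ) {t : ℕ} (D : Fin t → Submodule F (OI m → F))
    (hD : IsOrthogonalMDecomposition (quadFormOdd m F) 3 D) :
    ∃ (t' : ℕ) (D' : Fin t' → Submodule F (OI m → F)), IsOrthogonalMDecomposition (quadFormOdd m F) 1 D' ∧
      decompositionStabilizer D ⊓ isometryGroup F (quadFormOdd m F) ≤ decompositionStabilizer D' := by
  classical
  set Q : QuadraticForm F (OI m → F) := Cfsg.Agent.Lib.Helper44_StdForms.qfOdd m F with hQ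
  have hQc : ⇑Q = quadFormOdd m F := Cfsg.Agent.Lib.Helper44_StdForms.coe_qfOdd m F
  rw [← hQc] at hD ⊢
  have ht : 2 ≤ t := hD.decomp.decomp.two_le
  have i₀ : Fin t := ⟨0, by omega⟩
  obtain ⟨c, x₀, y₀, z₀, hfr₀⟩ := exists_fr hq Q (D i₀) (hD.decomp.decomp.finrank_eq i₀)
    (fun w hw hw0 => ((hD.decomp.nondegenerate i₀) w hw hw0).2)
  have hfr : ∀ i, ∃ x y z, Fr Q (D i) c x y z := fun i => by
    obtain ⟨e, he⟩ := hD.isometric i₀ i
    exact ⟨_, _, _, hfr₀.transport e he⟩
  choose X Y Z hXYZ using hfr
  have hc : c ≠ 0 := hfr₀.hc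
  let w : Fin t → Fin 3 → (OI m → F) := fun i => ![X i, Y i, Z i]
  have W1 : ∀ i j, w i j ∈ D i := by
    intro i j
    fin_cases j
    · exact (hXYZ i).hx
    · exact (hXYZ i).hy
    · exact (hXYZ i).hz
  have W2 : ∀ i j, Q (w i j) = c := by
    intro i j
    fin_cases j
    · exact (hXYZ i).qx
    · exact (hXYZ i).qy
    · exact (hXYZ i).qz
  have W3 : ∀ i j j', j ≠ j' → QuadraticMap.polar Q (w i j) (w i j') = 0 := by
    intro i j j' hjj'
    fin_cases j <;> fin_cases j'
    · exact absurd rfl hjj'
    · exact (hXYZ i).xy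
    · exact (hXYZ i).xz
    · exact (QuadraticMap.polar_comm _ _ _).trans (hXYZ i).xy
    · exact absurd rfl hjj'
    · exact (hXYZ i).yz
    · exact (QuadraticMap.polar_comm _ _ _).trans (hXYZ i).xz
    · exact (QuadraticMap.polar_comm _ _ _).trans (hXYZ i).yz
    · exact absurd rfl hjj'
  have W5 : ∀ i, ∀ u ∈ D i, Q u = c → ∃ (j : Fin 3) (ε : F), ε ≠ 0 ∧ u = ε • w i j := by
    intro i u hu hqu
    obtain ⟨ε, hε, h | h | h⟩ := (hXYZ i).eq_smul hq hu hqu
    · exact ⟨0, ε, hε, h⟩
    · exact ⟨1, ε, hε, h⟩
    · exact ⟨2, ε, hε, h⟩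
  have hw0 : ∀ i j, w i j ≠ 0 := by
    intro i j h0
    have := W2 i j
    rw [h0, map_zero] at this
    exact hc this.symm
  let e : Fin (t * 3) ≃ Fin t × Fin 3 := finProdFinEquiv.symm
  let v : Fin (t * 3) → (OI m → F) := fun x => w (e x).1 (e x).2
  have hve : ∀ i j, v (e.symm (i, j)) = w i j := by
    intro i j
    show w (e (e.symm (i, j))).1 (e (e.symm (i, j))).2 = w i j
    rw [Equiv.apply_symm_apply]
  let D' : Fin (t * 3) → Submodule F (OI m → F) := fun x => Submodule.span F {v x}
  have hvorth : ∀ x y, x ≠ y → QuadraticMap.polar Q (v x) (v y) = 0 := by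
    intro x y hxy
    by_cases h1 : (e x).1 = (e y).1
    · have h2 : (e x).2 ≠ (e y).2 := fun h2 => hxy (e.injective (Prod.ext h1 h2))
      show QuadraticMap.polar Q (w (e x).1 (e x).2) (w (e y).1 (e y).2) = 0
      rw [← h1]
      exact W3 _ _ _ h2
    · exact hD.decomp.orthogonal _ _ h1 _ (W1 _ _) _ (W1 _ _)
  have h2F : (2 : F) ≠ 0 := two_ne_zero hq
  have hvself : ∀ x, QuadraticMap.polar Q (v x) (v x) ≠ 0 := by
    intro x
    rw [QuadraticMap.polar_self, W2, two_smul, ← two_mul]
    exact mul_ne_zero h2F hc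
  have hvli : LinearIndependent F v := by
    apply LinearMap.BilinForm.linearIndependent_of_iIsOrtho (B := QuadraticMap.polarBilin Q)
    · intro x y hxy
      exact hvorth x y hxy
    · intro x
      exact hvself x
  have hindep : iSupIndep D' := hvli.iSupIndep_span_singleton
  have hD'ne : ∀ x, D' x ≠ ⊥ := fun x => by
    show Submodule.span F {v x} ≠ ⊥
    rw [Ne, Submodule.span_singleton_eq_bot]
    exact hw0 _ _
  have hinjD' : Function.Injective D' := hindep.injective hD'ne
  refine ⟨t * 3, D', ⟨⟨⟨by omega, one_pos, fun x => finrank_span_singleton (hw0 _ _), hindep, ?_⟩,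
    ?_, ?_⟩, ?_⟩, ?_⟩
  · -- the lines span everything
    rw [eq_top_iff, ← hD.decomp.decomp.iSup_eq_top]
    apply iSup_le
    intro i
    have hmem : ∀ j, w i j ∈ iSup D' := by
      intro j
      apply Submodule.mem_iSup_of_mem (e.symm (i, j))
      show w i j ∈ Submodule.span F {v (e.symm (i, j))}
      rw [hve]
      exact Submodule.mem_span_singleton_self _
    rw [← (hXYZ i).span, Submodule.span_le]
    intro u hu
    simp only [Set.mem_insert_iff, Set.mem_singleton_iff] at hu
    rcases hu with rfl | rfl | rfl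
    · exact hmem 0
    · exact hmem 1
    · exact hmem 2
  · -- nondegenerate
    intro x u hu hu0
    obtain ⟨a, rfl⟩ := Submodule.mem_span_singleton.1 hu
    have ha : a ≠ 0 := by
      rintro rfl
      exact hu0 (zero_smul _ _)
    refine ⟨⟨v x, Submodule.mem_span_singleton_self _, ?_⟩,
      ⟨v x, Submodule.mem_span_singleton_self _, ?_⟩⟩
    · rw [QuadraticMap.polar_smul_right]
      exact smul_ne_zero ha (hvself x)
    · rw [QuadraticMap.polar_smul_left]
      exact smul_ne_zero ha (hvself x)
  · -- orthogonal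
    intro x y hxy u hu u' hu'
    obtain ⟨a, rfl⟩ := Submodule.mem_span_singleton.1 hu
    obtain ⟨a', rfl⟩ := Submodule.mem_span_singleton.1 hu'
    rw [QuadraticMap.polar_smul_left, QuadraticMap.polar_smul_right, hvorth x y hxy, smul_zero,
      smul_zero]
  · -- isometric
    intro x y
    let ex := LinearEquiv.toSpanNonzeroSingleton F (OI m → F) (v x) (hw0 _ _)
    let ey := LinearEquiv.toSpanNonzeroSingleton F (OI m → F) (v y) (hw0 _ _)
    refine ⟨ex.symm.trans ey, fun u => ?_⟩
    have h1 : ((u : Submodule.span F {v x}) : OI m → F) = ex.symm u • v x :=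
      (LinearEquiv.toSpanNonzeroSingleton_symm_apply_smul F (OI m → F) (v x) (hw0 _ _) u).symm
    have h2 : (((ex.symm.trans ey) u : Submodule.span F {v y}) : OI m → F) = ex.symm u • v y := rfl
    rw [h2, h1, QuadraticMap.map_smul, QuadraticMap.map_smul]
    show _ • Q (w _ _) = _ • Q (w _ _)
    rw [W2, W2]
  · -- the stabiliser
    rintro g ⟨hgD, hgI⟩
    obtain ⟨σ, hσ⟩ := hgD
    have hgI' : ∀ u, Q ((g : Matrix (OI m) (OI m) F) *ᵥ u) = Q u :=
      (mem_isometryGroup_iff (⇑Q) g).1 hgI
    have key : ∀ x, ∃ y, (D' x).map (Matrix.toLin' (g : Matrix (OI m) (OI m) F)) = D' y := by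
      intro x
      have h1 : Matrix.toLin' (g : Matrix (OI m) (OI m) F) (v x) ∈ D (σ (e x).1) := by
        rw [← hσ (e x).1]
        exact Submodule.mem_map_of_mem (W1 _ _)
      have h2 : Q (Matrix.toLin' (g : Matrix (OI m) (OI m) F) (v x)) = c := by
        rw [Matrix.toLin'_apply, hgI']
        exact W2 _ _
      obtain ⟨j', ε, hε, hεq⟩ := W5 (σ (e x).1) _ h1 h2
      refine ⟨e.symm (σ (e x).1, j'), ?_⟩
      show (Submodule.span F {v x}).map _ = Submodule.span F {v (e.symm (σ (e x).1, j'))}
      rw [Submodule.map_span, Set.image_singleton, hεq, hve,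
        Submodule.span_singleton_smul_eq (IsUnit.mk0 ε hε)]
    choose φ hφ using key
    have hginj : Function.Injective (Matrix.toLin' (g : Matrix (OI m) (OI m) F)) := by
      have hleft : Function.LeftInverse (Matrix.toLin' ((g⁻¹ : GL (OI m) F) : Matrix (OI m) (OI m) F))
          (Matrix.toLin' (g : Matrix (OI m) (OI m) F)) := by
        intro u
        rw [← LinearMap.comp_apply, ← Matrix.toLin'_mul, ← Units.val_mul, inv_mul_cancel,
          Units.val_one, Matrix.toLin'_one]
        rfl
      exact hleft.injective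
    have hφinj : Function.Injective φ := by
      intro x x' h
      have h1 : (D' x).map (Matrix.toLin' (g : Matrix (OI m) (OI m) F)) =
          (D' x').map (Matrix.toLin' (g : Matrix (OI m) (OI m) F)) := by rw [hφ, hφ, h]
      exact hinjD' (Submodule.map_injective_of_injective hginj h1)
    exact ⟨Equiv.ofBijective φ (Finite.injective_iff_bijective.1 hφinj), hφ⟩

end main

end Cfsg.Agent.Lib.Helper60_OMX_B4
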