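import Mathlib
import Cfsg.Agent.Lib.Helper29_OmegaMaxDefs

set_option autoImplicit false

/-!
OMX-X7 (helper29's package, rows S5814 / S5859 / S5835): a group with a root element of rank at most 2
preserves no tensor square decomposition with factors of dimension at least 3 (helper60).

Reusable: `pureM`, `swM` (pure and twisted pure tensors on `Fin 2 → Fin k`) with their four
multiplication rules, `isPS_of_mem_standard` (every element of `tensorWreathStandard k 2 F` is a pure
or a twisted pure tensor, any field), `sq_pure_of_mem_standard`, `scalar_of_rank_lt` (a pure tensor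
`c` with `rank (c - 1) < k` is scalar).
-/

namespace Cfsg.Agent.Lib.Helper60_OMX_X7

open Cfsg Cfsg.Geo Matrix Cfsg.Agent.Lib.Helper29_OmegaMaxDefs
open scoped MatrixGroups

section tensor

variable {k : ℕ} {F : Type*} [Field F]

/-- the index type of the tensor square -/
abbrev T (k : ℕ) := Fin 2 → Fin k

/-- the pure vector `x ⊗ y` -/
def tens (x y : Fin k → F) : T k → F := fun z => x (z 0) * y (z 1)

/-- the pure tensor `a ⊗ b` -/
def pureM (a b : Matrix (Fin k) (Fin k) F) : Matrix (T k) (T k) F :=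
  Matrix.of fun x y => a (x 0) (y 0) * b (x 1) (y 1)

/-- the twisted pure tensor `(a ⊗ b) ∘ swap` -/
def swM (a b : Matrix (Fin k) (Fin k) F) : Matrix (T k) (T k) F :=
  Matrix.of fun x y => a (x 0) (y 1) * b (x 1) (y 0)

theorem sum_two (f g : Fin k → F) :
    ∑ z : T k, f (z 0) * g (z 1) = (∑ a, f a) * (∑ b, g b) := by
  rw [Fintype.sum_equiv (finTwoArrowEquiv (Fin k)) (fun z : T k => f (z 0) * g (z 1))
    (fun p : Fin k × Fin k => f p.1 * g p.2) (fun z => rfl), Fintype.sum_prod_type,
    Finset.sum_mul_sum]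

theorem sum_two' (f g : Fin k → F) :
    ∑ z : T k, f (z 1) * g (z 0) = (∑ a, f a) * (∑ b, g b) := by
  rw [mul_comm, ← sum_two]
  exact Finset.sum_congr rfl fun z _ => mul_comm _ _

theorem pureM_mul_pureM (a b c d : Matrix (Fin k) (Fin k) F) :
    pureM a b * pureM c d = pureM (a * c) (b * d) := by
  ext x y
  simp only [Matrix.mul_apply, pureM, Matrix.of_apply]
  rw [← sum_two]
  exact Finset.sum_congr rfl fun z _ => by ring

theorem pureM_mul_swM (a b c d : Matrix (Fin k) (Fin k) F) :
    pureM a b * swM c d = swM (a * c) (b * d) := by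
  ext x y
  simp only [Matrix.mul_apply, pureM, swM, Matrix.of_apply]
  rw [← sum_two]
  exact Finset.sum_congr rfl fun z _ => by ring

theorem swM_mul_pureM (a b c d : Matrix (Fin k) (Fin k) F) :
    swM a b * pureM c d = swM (a * d) (b * c) := by
  ext x y
  simp only [Matrix.mul_apply, pureM, swM, Matrix.of_apply]
  rw [← sum_two']
  exact Finset.sum_congr rfl fun z _ => by ring

theorem swM_mul_swM (a b c d : Matrix (Fin k) (Fin k) F) :
    swM a b * swM c d = pureM (a * d) (b * c) := by
  ext x y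
  simp only [Matrix.mul_apply, pureM, swM, Matrix.of_apply]
  rw [← sum_two']
  exact Finset.sum_congr rfl fun z _ => by ring

theorem pureM_one_one : pureM (1 : Matrix (Fin k) (Fin k) F) 1 = 1 := by
  ext x y
  simp only [pureM, Matrix.of_apply, Matrix.one_apply]
  by_cases h : x = y
  · subst h; simp
  · rw [if_neg h]
    have : ¬ (x 0 = y 0 ∧ x 1 = y 1) := by
      rintro ⟨h0, h1⟩
      apply h
      funext i
      fin_cases i
      · exact h0
      · exact h1
    by_cases h0 : x 0 = y 0
    · have h1 : x 1 ≠ y 1 := fun h1 => this ⟨h0, h1⟩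
      simp [h1]
    · simp [h0]

theorem pureM_smul_one (α β : F) :
    pureM (α • (1 : Matrix (Fin k) (Fin k) F)) (β • 1) = (α * β) • (1 : Matrix (T k) (T k) F) := by
  rw [← pureM_one_one]
  ext x y
  simp only [pureM, Matrix.of_apply, Matrix.smul_apply, smul_eq_mul]
  ring

theorem pureM_mulVec_tens (a b : Matrix (Fin k) (Fin k) F) (x y : Fin k → F) :
    (pureM a b).mulVec (tens x y) = tens (a.mulVec x) (b.mulVec y) := by
  funext z
  simp only [Matrix.mulVec, dotProduct, pureM, Matrix.of_apply, tens]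
  rw [← sum_two]
  exact Finset.sum_congr rfl fun w _ => by ring

/-- `y ↦ x ⊗ y` as a linear map -/
def tensR (x : Fin k → F) : (Fin k → F) →ₗ[F] (T k → F) where
  toFun y := tens x y
  map_add' y y' := by funext z; simp only [tens, Pi.add_apply]; ring
  map_smul' c y := by funext z; simp only [tens, Pi.smul_apply, smul_eq_mul, RingHom.id_apply]; ring

/-- `x ↦ x ⊗ y` as a linear map -/
def tensL (y : Fin k → F) : (Fin k → F) →ₗ[F] (T k → F) where
  toFun x := tens x y
  map_add' x x' := by funext z; simp only [tens, Pi.add_apply]; ring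
  map_smul' c x := by funext z; simp only [tens, Pi.smul_apply, smul_eq_mul, RingHom.id_apply]; ring

/-- if `u ⊗ v = x ⊗ y` with `x ≠ 0`, `y ≠ 0` then `u` is a multiple of `x` -/
theorem left_smul_of_tens_eq {u v x y : Fin k → F} (h : tens u v = tens x y) (hx : x ≠ 0)
    (hy : y ≠ 0) : ∃ μ : F, u = μ • x := by
  obtain ⟨i₀, hi₀⟩ : ∃ i, x i ≠ 0 := by
    by_contra hcon
    push Not at hcon
    exact hx (funext hcon)
  obtain ⟨j, hj⟩ : ∃ j, y j ≠ 0 := by
    by_contra hcon
    push Not at hcon
    exact hy (funext hcon)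
  have hz : ∀ i, u i * v j = x i * y j := fun i => by
    have := congrFun h ![i, j]
    simpa [tens] using this
  have hv : v j ≠ 0 := by
    intro h0
    have := hz i₀
    rw [h0, mul_zero] at this
    exact mul_ne_zero hi₀ hj this.symm
  refine ⟨y j / v j, ?_⟩
  funext i
  rw [Pi.smul_apply, smul_eq_mul]
  field_simp
  rw [hz i]
  ring

/-- if `u ⊗ v = x ⊗ y` with `x ≠ 0`, `y ≠ 0` then `v` is a multiple of `y` -/
theorem right_smul_of_tens_eq {u v x y : Fin k → F} (h : tens u v = tens x y) (hx : x ≠ 0)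
    (hy : y ≠ 0) : ∃ μ : F, v = μ • y := by
  obtain ⟨i, hi⟩ : ∃ i, x i ≠ 0 := by
    by_contra hcon
    push Not at hcon
    exact hx (funext hcon)
  obtain ⟨j₀, hj₀⟩ : ∃ j, y j ≠ 0 := by
    by_contra hcon
    push Not at hcon
    exact hy (funext hcon)
  have hz : ∀ j, u i * v j = x i * y j := fun j => by
    have := congrFun h ![i, j]
    simpa [tens] using this
  have hu : u i ≠ 0 := by
    intro h0
    have := hz j₀
    rw [h0, zero_mul] at this
    exact mul_ne_zero hi hj₀ this.symm
  refine ⟨x i / u i, ?_⟩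
  funext j
  rw [Pi.smul_apply, smul_eq_mul]
  field_simp
  rw [mul_comm, hz j]

/-- every vector is an eigenvector of the left factor of a pure tensor `c` with `rank (c - 1) < k` -/
theorem left_eig_of_rank_lt (a b : Matrix (Fin k) (Fin k) F) (h : (pureM a b - 1).rank < k) :
    ∀ x : Fin k → F, ∃ μ : F, a.mulVec x = μ • x := by
  by_contra hcon
  push Not at hcon
  obtain ⟨x₀, hx₀⟩ := hcon
  have hx₀0 : x₀ ≠ 0 := by
    rintro rfl
    exact hx₀ 0 (by simp)
  let φ : (Fin k → F) →ₗ[F] (T k → F) := (pureM a b - 1).mulVecLin ∘ₗ tensR x₀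
  have hφ : ∀ y, φ y = tens (a.mulVec x₀) (b.mulVec y) - tens x₀ y := by
    intro y
    show (pureM a b - 1).mulVec (tens x₀ y) = _
    rw [Matrix.sub_mulVec, pureM_mulVec_tens, Matrix.one_mulVec]
  have hinj : Function.Injective φ := by
    rw [← LinearMap.ker_eq_bot, LinearMap.ker_eq_bot']
    intro y hy
    by_contra hy0
    rw [hφ, sub_eq_zero] at hy
    obtain ⟨μ, hμ⟩ := left_smul_of_tens_eq hy hx₀0 hy0
    exact hx₀ μ hμ
  have h1 : Module.finrank F (LinearMap.range φ) = k := by
    rw [LinearMap.finrank_range_of_inj hinj, Module.finrank_fin_fun]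
  have h2 : LinearMap.range φ ≤ LinearMap.range (pureM a b - 1).mulVecLin :=
    LinearMap.range_comp_le_range _ _
  have h3 := Submodule.finrank_mono h2
  rw [h1] at h3
  unfold Matrix.rank at h
  omega

/-- every vector is an eigenvector of the right factor of a pure tensor `c` with `rank (c - 1) < k` -/
theorem right_eig_of_rank_lt (a b : Matrix (Fin k) (Fin k) F) (h : (pureM a b - 1).rank < k) :
    ∀ y : Fin k → F, ∃ μ : F, b.mulVec y = μ • y := by
  by_contra hcon
  push Not at hcon
  obtain ⟨y₀, hy₀⟩ := hcon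
  have hy₀0 : y₀ ≠ 0 := by
    rintro rfl
    exact hy₀ 0 (by simp)
  let φ : (Fin k → F) →ₗ[F] (T k → F) := (pureM a b - 1).mulVecLin ∘ₗ tensL y₀
  have hφ : ∀ x, φ x = tens (a.mulVec x) (b.mulVec y₀) - tens x y₀ := by
    intro x
    show (pureM a b - 1).mulVec (tens x y₀) = _
    rw [Matrix.sub_mulVec, pureM_mulVec_tens, Matrix.one_mulVec]
  have hinj : Function.Injective φ := by
    rw [← LinearMap.ker_eq_bot, LinearMap.ker_eq_bot']
    intro x hx
    by_contra hx0
    rw [hφ, sub_eq_zero] at hx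
    obtain ⟨μ, hμ⟩ := right_smul_of_tens_eq hx hx0 hy₀0
    exact hy₀ μ hμ
  have h1 : Module.finrank F (LinearMap.range φ) = k := by
    rw [LinearMap.finrank_range_of_inj hinj, Module.finrank_fin_fun]
  have h2 : LinearMap.range φ ≤ LinearMap.range (pureM a b - 1).mulVecLin :=
    LinearMap.range_comp_le_range _ _
  have h3 := Submodule.finrank_mono h2
  rw [h1] at h3
  unfold Matrix.rank at h
  omega

/-- a matrix all of whose vectors are eigenvectors is scalar -/
theorem scalar_of_all_eig (a : Matrix (Fin k) (Fin k) F)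
    (h : ∀ x : Fin k → F, ∃ μ : F, a.mulVec x = μ • x) : ∃ α : F, a = α • 1 := by
  have h1 : ∀ v, ¬ LinearIndependent F ![v, Matrix.toLin' a v] := by
    intro v hv
    obtain ⟨μ, hμ⟩ := h v
    rw [LinearIndependent.pair_iff] at hv
    have := hv (-μ) 1 (by rw [Matrix.toLin'_apply, hμ]; simp)
    exact one_ne_zero this.2
  obtain ⟨α, hα⟩ := LinearMap.exists_eq_smul_id_of_forall_notLinearIndependent h1
  refine ⟨α, ?_⟩
  apply Matrix.toLin'.injective
  rw [hα, map_smul, Matrix.toLin'_one]
  rfl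

/-- a pure tensor `c` with `rank (c - 1) < k` is scalar -/
theorem scalar_of_rank_lt (a b : Matrix (Fin k) (Fin k) F) (h : (pureM a b - 1).rank < k) :
    ∃ c : F, pureM a b = c • 1 := by
  obtain ⟨α, hα⟩ := scalar_of_all_eig a (left_eig_of_rank_lt a b h)
  obtain ⟨β, hβ⟩ := scalar_of_all_eig b (right_eig_of_rank_lt a b h)
  exact ⟨α * β, by rw [hα, hβ, pureM_smul_one]⟩

end tensor

section wreath

variable {k : ℕ} {F : Type*} [Field F]

/-- pure or twisted pure tensors of invertible matrices -/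
def IsPS (g : GL (T k) F) : Prop :=
  ∃ a b : GL (Fin k) F,
    (g : Matrix (T k) (T k) F) = pureM (a : Matrix (Fin k) (Fin k) F) (b : Matrix (Fin k) (Fin k) F) ∨
    (g : Matrix (T k) (T k) F) = swM (a : Matrix (Fin k) (Fin k) F) (b : Matrix (Fin k) (Fin k) F)

theorem swM_one_one_apply (x y : T k) :
    swM (1 : Matrix (Fin k) (Fin k) F) 1 x y = if y = x ∘ ⇑(Equiv.swap (0 : Fin 2) 1) then 1 else 0 := by
  simp only [swM, Matrix.of_apply, Matrix.one_apply]
  by_cases h : y = x ∘ ⇑(Equiv.swap (0 : Fin 2) 1)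
  · rw [if_pos h]
    have h0 : y 0 = x 1 := by rw [h]; simp
    have h1 : y 1 = x 0 := by rw [h]; simp
    simp [h0, h1]
  · rw [if_neg h]
    have : ¬ (x 0 = y 1 ∧ x 1 = y 0) := by
      rintro ⟨h0, h1⟩
      apply h
      funext i
      fin_cases i
      · simp [h1]
      · simp [h0]
    by_cases h0 : x 0 = y 1
    · have h1 : x 1 ≠ y 0 := fun h1 => this ⟨h0, h1⟩
      simp [h1]
    · simp [h0]

theorem isPS_of_isPureTensor {g : GL (T k) F} (hg : IsPureTensor k 2 g) : IsPS g := by
  obtain ⟨gs, hgs⟩ := hg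
  refine ⟨gs 0, gs 1, Or.inl ?_⟩
  ext x y
  rw [hgs x y, Fin.prod_univ_two]
  rfl

theorem isPS_of_isFactorPermutation {g : GL (T k) F} (hg : IsFactorPermutation k 2 g) :
    IsPS g := by
  obtain ⟨σ, hσ⟩ := hg
  refine ⟨1, 1, ?_⟩
  have hcases : σ = 1 ∨ σ = Equiv.swap 0 1 := by
    have h01 : σ 0 = 0 ∨ σ 0 = 1 := by omega
    rcases h01 with h0 | h0
    · left
      ext i
      fin_cases i
      · simp [h0]
      · have h1 : σ 1 ≠ 0 := fun h => by
          have := σ.injective (h.trans h0.symm)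
          exact absurd this (by decide)
        have : σ 1 = 1 := by omega
        simp [this]
    · right
      ext i
      fin_cases i
      · simp [h0]
      · have h1 : σ 1 ≠ 1 := fun h => by
          have := σ.injective (h.trans h0.symm)
          exact absurd this (by decide)
        have : σ 1 = 0 := by omega
        simp [this]
  rcases hcases with rfl | rfl
  · left
    simp only [Units.val_one]
    rw [pureM_one_one]
    ext x y
    rw [hσ x y, Matrix.one_apply]
    have hxy : (y = x ∘ ⇑(1 : Equiv.Perm (Fin 2))) ↔ x = y := by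
      simp only [Equiv.Perm.coe_one, Function.comp_id]
      exact eq_comm
    by_cases h : x = y
    · rw [if_pos (hxy.2 h), if_pos h]
    · rw [if_neg (fun h' => h (hxy.1 h')), if_neg h]
  · right
    simp only [Units.val_one]
    ext x y
    rw [hσ x y, swM_one_one_apply]

theorem isPS_one : IsPS (1 : GL (T k) F) :=
  ⟨1, 1, Or.inl (by simp only [Units.val_one]; rw [pureM_one_one])⟩

theorem isPS_mul {g h : GL (T k) F} (hg : IsPS g) (hh : IsPS h) : IsPS (g * h) := by
  obtain ⟨a, b, hg⟩ := hg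
  obtain ⟨c, d, hh⟩ := hh
  rcases hg with hg | hg <;> rcases hh with hh | hh
  · exact ⟨a * c, b * d, Or.inl (by rw [Units.val_mul, hg, hh, pureM_mul_pureM]; rfl)⟩
  · exact ⟨a * c, b * d, Or.inr (by rw [Units.val_mul, hg, hh, pureM_mul_swM]; rfl)⟩
  · exact ⟨a * d, b * c, Or.inr (by rw [Units.val_mul, hg, hh, swM_mul_pureM]; rfl)⟩
  · exact ⟨a * d, b * c, Or.inl (by rw [Units.val_mul, hg, hh, swM_mul_swM]; rfl)⟩

theorem isPS_inv {g : GL (T k) F} (hg : IsPS g) : IsPS g⁻¹ := by
  obtain ⟨a, b, hg⟩ := hg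
  rcases hg with hg | hg
  · refine ⟨a⁻¹, b⁻¹, Or.inl ?_⟩
    have h1 : (g : Matrix (T k) (T k) F) *
        pureM ((a⁻¹ : GL (Fin k) F) : Matrix (Fin k) (Fin k) F)
          ((b⁻¹ : GL (Fin k) F) : Matrix (Fin k) (Fin k) F) = 1 := by
      rw [hg, pureM_mul_pureM, ← Units.val_mul, ← Units.val_mul, mul_inv_cancel, mul_inv_cancel,
        Units.val_one, pureM_one_one]
    rw [Matrix.coe_units_inv]
    exact Matrix.inv_eq_right_inv h1
  · refine ⟨b⁻¹, a⁻¹, Or.inr ?_⟩
    have h1 : (g : Matrix (T k) (T k) F) *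
        swM ((b⁻¹ : GL (Fin k) F) : Matrix (Fin k) (Fin k) F)
          ((a⁻¹ : GL (Fin k) F) : Matrix (Fin k) (Fin k) F) = 1 := by
      rw [hg, swM_mul_swM, ← Units.val_mul, ← Units.val_mul, mul_inv_cancel, mul_inv_cancel,
        Units.val_one, pureM_one_one]
    rw [Matrix.coe_units_inv]
    exact Matrix.inv_eq_right_inv h1

/-- every element of the standard tensor wreath group with two factors is a pure or a twisted pure
tensor -/
theorem isPS_of_mem_standard {g : GL (T k) F} (hg : g ∈ tensorWreathStandard k 2 F) : IsPS g := by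
  unfold tensorWreathStandard at hg
  induction hg using Subgroup.closure_induction with
  | mem x hx =>
    rcases hx with hx | hx
    · exact isPS_of_isPureTensor hx
    · exact isPS_of_isFactorPermutation hx
  | one => exact isPS_one
  | mul x y _ _ hx hy => exact isPS_mul hx hy
  | inv x _ hx => exact isPS_inv hx

/-- the square of an element of the standard tensor wreath group with two factors is a pure tensor -/
theorem sq_pure_of_mem_standard {g : GL (T k) F} (hg : g ∈ tensorWreathStandard k 2 F) :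
    ∃ a b : GL (Fin k) F, ((g * g : GL (T k) F) : Matrix (T k) (T k) F) =
      pureM (a : Matrix (Fin k) (Fin k) F) (b : Matrix (Fin k) (Fin k) F) := by
  obtain ⟨a, b, h | h⟩ := isPS_of_mem_standard hg
  · exact ⟨a * a, b * b, by rw [Units.val_mul, h, pureM_mul_pureM]; rfl⟩
  · exact ⟨a * b, b * a, by rw [Units.val_mul, h, swM_mul_swM]; rfl⟩

end wreath

section generic

variable {ι : Type} [Fintype ι] [DecidableEq ι] {F : Type*} [Field F]

/-- X7: a group with a root element of rank at most 2 preserves no tensor square decomposition with factors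
of dimension ≥ 3 -/
theorem X7 (h2 : (2 : F) ≠ 0) {N : Subgroup (GL ι F)} (hN : QO N) (k : ℕ) (hk : 3 ≤ k)
    (e : ι ≃ (Fin 2 → Fin k)) (P : GL ι F) : ¬ N ≤ tensorWreathSubgroup k 2 e P := by
  intro hle
  obtain ⟨X, hX0, hXX, hXr, hroot⟩ := hN.root
  obtain ⟨g, hgN, hg⟩ := hroot 1
  rw [one_smul] at hg
  obtain ⟨_, ⟨s, hs, rfl⟩, hconj⟩ := hle hgN
  have hg' : g = P * glReindex e.symm s * P⁻¹ := hconj.symm
  obtain ⟨a, b, hab⟩ := sq_pure_of_mem_standard hs
  set r : GL ι F := glReindex e.symm s with hr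
  have hr2 : r * r = P⁻¹ * (g * g) * P := by
    rw [hg']
    group
  have hrval : ((r * r : GL ι F) : Matrix ι ι F) =
      Matrix.reindex e.symm e.symm ((s * s : GL (T k) F) : Matrix (T k) (T k) F) := by
    rw [hr, ← map_mul]
    rfl
  set X' : Matrix ι ι F := ((P⁻¹ : GL ι F) : Matrix ι ι F) * X * (P : Matrix ι ι F) with hX'
  have hPinvP : ((P⁻¹ : GL ι F) : Matrix ι ι F) * (P : Matrix ι ι F) = 1 := by
    rw [← Units.val_mul, inv_mul_cancel, Units.val_one]
  have hPPinv : (P : Matrix ι ι F) * ((P⁻¹ : GL ι F) : Matrix ι ι F) = 1 := by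
    rw [← Units.val_mul, mul_inv_cancel, Units.val_one]
  have hgg : ((g * g : GL ι F) : Matrix ι ι F) = 1 + (2 : F) • X := by
    rw [Units.val_mul, hg, add_mul, mul_add, mul_add, hXX, one_mul, mul_one, one_mul, add_zero,
      two_smul, add_assoc]
  have hrr : ((r * r : GL ι F) : Matrix ι ι F) = 1 + (2 : F) • X' := by
    rw [hr2, Units.val_mul, Units.val_mul, hgg, mul_add, add_mul, mul_one, hPinvP, hX',
      Matrix.mul_smul, Matrix.smul_mul]
  have hrr' : ((r * r : GL ι F) : Matrix ι ι F) =
      Matrix.reindex e.symm e.symm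
        (pureM (a : Matrix (Fin k) (Fin k) F) (b : Matrix (Fin k) (Fin k) F)) := by
    rw [hrval, hab]
  have hXrank : X'.rank = X.rank := by
    rw [hX', Matrix.rank_mul_eq_left_of_isUnit_det _ _
        ((Matrix.isUnit_iff_isUnit_det _).1 P.isUnit),
      Matrix.rank_mul_eq_right_of_isUnit_det _ _
        ((Matrix.isUnit_iff_isUnit_det _).1 (P⁻¹).isUnit)]
  have hrank : (pureM (a : Matrix (Fin k) (Fin k) F) (b : Matrix (Fin k) (Fin k) F) - 1).rank
      < k := by
    have e1 : Matrix.reindex e.symm e.symm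
        (pureM (a : Matrix (Fin k) (Fin k) F) (b : Matrix (Fin k) (Fin k) F) - 1)
        = (2 : F) • X' := by
      have e2 : Matrix.reindex e.symm e.symm
          (pureM (a : Matrix (Fin k) (Fin k) F) (b : Matrix (Fin k) (Fin k) F) - 1) =
          Matrix.reindex e.symm e.symm
            (pureM (a : Matrix (Fin k) (Fin k) F) (b : Matrix (Fin k) (Fin k) F)) - 1 := by
        ext i j
        simp [Matrix.one_apply]
      rw [e2, ← hrr', hrr, add_sub_cancel_left]
    rw [← Matrix.rank_reindex e.symm e.symm, e1]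
    have e3 : (2 : F) • X' = X' * ((2 : F) • (1 : Matrix ι ι F)) := by
      rw [Matrix.mul_smul, mul_one]
    calc ((2 : F) • X').rank ≤ X'.rank := by rw [e3]; exact Matrix.rank_mul_le_left _ _
      _ = X.rank := hXrank
      _ ≤ 2 := hXr
      _ < k := by omega
  obtain ⟨c, hc⟩ := scalar_of_rank_lt _ _ hrank
  have hcc : (1 : Matrix ι ι F) + (2 : F) • X' = c • (1 : Matrix ι ι F) := by
    rw [← hrr, hrr', hc]
    ext i j
    simp [Matrix.one_apply]
  have hX'X' : X' * X' = 0 := by
    rw [hX']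
    calc ((P⁻¹ : GL ι F) : Matrix ι ι F) * X * (P : Matrix ι ι F) *
          (((P⁻¹ : GL ι F) : Matrix ι ι F) * X * (P : Matrix ι ι F))
        = ((P⁻¹ : GL ι F) : Matrix ι ι F) * X *
            ((P : Matrix ι ι F) * ((P⁻¹ : GL ι F) : Matrix ι ι F)) * X * (P : Matrix ι ι F) := by
          simp only [Matrix.mul_assoc]
      _ = 0 := by
          rw [hPPinv, Matrix.mul_one, Matrix.mul_assoc ((P⁻¹ : GL ι F) : Matrix ι ι F), hXX,
            Matrix.mul_zero, Matrix.zero_mul]
  have h2X' : (2 : F) • X' = (c - 1) • (1 : Matrix ι ι F) := by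
    rw [sub_smul, one_smul, ← hcc, add_sub_cancel_left]
  have hsq : ((c - 1) * (c - 1)) • (1 : Matrix ι ι F) = 0 := by
    have : ((2 : F) • X') * ((2 : F) • X') = 0 := by
      rw [Matrix.smul_mul, Matrix.mul_smul, hX'X', smul_zero, smul_zero]
    rw [h2X', Matrix.smul_mul, Matrix.mul_smul, mul_one, smul_smul] at this
    exact this
  have i₀ : ι := e.symm (fun _ => ⟨0, by omega⟩)
  have hc1 : c - 1 = 0 := by
    have := congrFun (congrFun hsq i₀) i₀
    simp only [Matrix.smul_apply, Matrix.one_apply_eq, smul_eq_mul, mul_one,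
      Matrix.zero_apply] at this
    exact mul_self_eq_zero.1 this
  rw [hc1, zero_smul] at h2X'
  have hX'0 : X' = 0 := (smul_eq_zero.1 h2X').resolve_left h2
  apply hX0
  have : X = (P : Matrix ι ι F) * X' * ((P⁻¹ : GL ι F) : Matrix ι ι F) := by
    rw [hX']
    calc X = 1 * X * 1 := by rw [one_mul, mul_one]
      _ = (P : Matrix ι ι F) * ((P⁻¹ : GL ι F) : Matrix ι ι F) * X *
            ((P : Matrix ι ι F) * ((P⁻¹ : GL ι F) : Matrix ι ι F)) := by rw [hPPinv]
      _ = _ := by simp only [Matrix.mul_assoc]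
  rw [this, hX'0, Matrix.mul_zero, Matrix.zero_mul]

end generic

end Cfsg.Agent.Lib.Helper60_OMX_X7
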