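/-
S5835 (helper29): the maximal subgroups of Ω₉(q), q odd.  On top of Helper29_OmegaMaxMain; extra packages X7, B4 (helper60).
-/
import Mathlib
import Cfsg.Agent.Lib.Helper29_OmegaMaxMain
import Cfsg.Agent.Lib.Helper60_OMX_X7
import Cfsg.Agent.Lib.Helper60_OMX_B4

set_option autoImplicit false

namespace Cfsg.Agent.Lib.Helper29_OmegaMaxNine

open Cfsg Cfsg.Geo Matrix Cfsg.Agent.Lib.Helper29_OrthOddDefs Cfsg.Agent.Lib.Helper29_OmegaMaxDefs
  Cfsg.Agent.Lib.Helper29_OmegaMaxMain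
open scoped Kronecker MatrixGroups

section assembly
variable {F : Type*} [Field F]

/-- the row in dimension 9 -/
theorem omega_max_nine [Fintype F] (hodd : Odd (Fintype.card F))
    (H : Subgroup (GL (OI 4) F)) (hH : IsMaximalIn (omegaGL (quadFormOdd 4 F)) H) :
    (∃ W : Submodule F (OI 4 → F), W ≠ ⊥ ∧ IsTotallySingularQuad (quadFormOdd 4 F) W ∧
      H = subspaceStabilizer W ⊓ omegaGL (quadFormOdd 4 F)) ∨
    (∃ W : Submodule F (OI 4 → F), W ≠ ⊥ ∧ Even (Module.finrank F W) ∧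
      IsNondegenerateOn (QuadraticMap.polar (quadFormOdd 4 F)) W ∧
      ¬ (Fintype.card F = 3 ∧ Module.finrank F W = 2 ∧ IsPlusTypeOn (quadFormOdd 4 F) W) ∧
      H = subspaceStabilizer W ⊓ omegaGL (quadFormOdd 4 F)) ∨
    ((Fintype.card F).Prime ∧ ∃ D : Fin 9 → Submodule F (OI 4 → F),
      IsOrthogonalMDecomposition (quadFormOdd 4 F) 1 D ∧
      H = decompositionStabilizer D ⊓ omegaGL (quadFormOdd 4 F)) ∨
    (5 ≤ Fintype.card F ∧ ∃ D : Fin 3 → Submodule F (OI 4 → F),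
      IsOrthogonalMDecomposition (quadFormOdd 4 F) 3 D ∧
      H = decompositionStabilizer D ⊓ omegaGL (quadFormOdd 4 F)) ∨
    (∃ K : Subalgebra F (Matrix (OI 4) (OI 4) F), IsFieldSubalgebra 3 K ∧
      IsSelfAdjointFor (QuadraticMap.polar (quadFormOdd 4 F)) K ∧
      H = subalgebraNormalizer K ⊓ omegaGL (quadFormOdd 4 F)) ∨
    (∃ (F₀ : Subfield F) (r : ℕ) (P : GL (OI 4) F), r.Prime ∧ Fintype.card F = Nat.card F₀ ^ r ∧
      IsQuadFormRationalStructure (quadFormOdd 4 F) F₀ P ∧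
      H = subfieldSubgroup F₀ P ⊓ omegaGL (quadFormOdd 4 F)) ∨
    (5 ≤ Fintype.card F ∧ ∃ (e : OI 4 ≃ (Fin 2 → Fin 3)) (P : GL (OI 4) F) (f₁ : (Fin 3 → F) → (Fin 3 → F) → F),
      IsSymmetricForm f₁ ∧ IsTensorPowerFormStructure id (QuadraticMap.polar (quadFormOdd 4 F)) f₁ e P ∧
      H = tensorWreathSubgroup 3 2 e P ⊓ omegaGL (quadFormOdd 4 F)) ∨
    InOrthogonalResidualClass H := by
  have h2 : (2 : F) ≠ 0 := Cfsg.Agent.Lib.Helper29_OrthOdd_Glue.two_ne_zero_of_odd_card hodd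
  have hQO := QO_omega hodd 4 (by norm_num)
  have hΩI := omega_le_iso (quadFormOdd 4 F)
  have hc1 : 1 < Fintype.card F := Fintype.one_lt_card
  have hsmall : ¬ 5 ≤ Fintype.card F → Fintype.card F = 3 := by
    intro h
    obtain ⟨j, hj⟩ := hodd
    omega
  rcases omega_max_cases hodd 4 (by norm_num) H hH with h | h | ⟨t, k, D, hk, hD, hHD⟩ | ⟨t, D, hq, hD, hHD⟩ |
    ⟨r, K, hr, hrn, hK, hsa, hHK⟩ | ⟨n₁, n₂, e, h1, h12⟩ | h | ⟨k, t, e, P, f₁, hk, ht, hex, hf₁, hstr, hle⟩ | h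
  · exact Or.inl h
  · exact Or.inr (Or.inl h)
  · have h1 := decomp_card hD.decomp.decomp
    rw [card_OI] at h1
    have ht2 := hD.decomp.decomp.two_le
    have htk : t = 3 ∧ k = 3 := by
      have ht9 : t ∣ 9 := ⟨k, by omega⟩
      have : t ∈ Nat.divisors 9 := Nat.mem_divisors.mpr ⟨ht9, by norm_num⟩
      have hdiv : Nat.divisors 9 = {1, 3, 9} := by decide
      rw [hdiv] at this
      simp only [Finset.mem_insert, Finset.mem_singleton] at this
      rcases this with rfl | rfl | rfl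
      · omega
      · omega
      · omega
    obtain ⟨rfl, rfl⟩ := htk
    by_cases h5 : 5 ≤ Fintype.card F
    · exact Or.inr (Or.inr (Or.inr (Or.inl ⟨h5, D, hD, hHD⟩)))
    · have hq3 := hsmall h5
      obtain ⟨t', D', hD', hle⟩ := Cfsg.Agent.Lib.Helper60_OMX_B4.B4 hq3 4 D hD
      have h1' := decomp_card hD'.decomp.decomp
      rw [card_OI] at h1'
      obtain rfl : t' = 9 := by omega
      have hHD' : H ≤ decompositionStabilizer D' := by
        rw [hHD]
        exact (inf_le_inf_left _ hΩI).trans hle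
      refine Or.inr (Or.inr (Or.inl ⟨by rw [hq3]; norm_num, D', hD', ?_⟩))
      exact eq_inf_of_maximal hH hHD' (Cfsg.Agent.Lib.Helper47_OMX_X2.X2 h2 hQO hD'.decomp.decomp)
  · have h1 := decomp_card hD.decomp.decomp
    rw [card_OI] at h1
    obtain rfl : t = 9 := by omega
    exact Or.inr (Or.inr (Or.inl ⟨hq, D, hD, hHD⟩))
  · have h1 : r ∣ 9 := field_dvd hK
    have hr3 : r = 3 := by
      have h2 : r ∣ 3 ^ 2 := by simpa using h1
      exact (Nat.prime_dvd_prime_iff_eq hr Nat.prime_three).mp (hr.dvd_of_dvd_pow h2)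
    subst hr3
    exact Or.inr (Or.inr (Or.inr (Or.inr (Or.inl ⟨K, hK, hsa, hHK⟩))))
  · exact (no_prod (by norm_num) (prod_card e) h1 h12).elim
  · exact Or.inr (Or.inr (Or.inr (Or.inr (Or.inr (Or.inl h)))))
  · have h1 : k ^ t = 9 := pow_card e
    have hkt : k = 3 ∧ t = 2 := by
      have hk9 : k ∣ 9 := by
        rw [← h1]
        exact dvd_pow_self k (by omega)
      have : k ∈ Nat.divisors 9 := Nat.mem_divisors.mpr ⟨hk9, by norm_num⟩
      have hdiv : Nat.divisors 9 = {1, 3, 9} := by decide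
      rw [hdiv] at this
      simp only [Finset.mem_insert, Finset.mem_singleton] at this
      rcases this with rfl | rfl | rfl
      · omega
      · refine ⟨rfl, ?_⟩
        have h3 : (3 : ℕ) ^ t = 3 ^ 2 := by rw [h1]; norm_num
        exact Nat.pow_right_injective (show 2 ≤ 3 by norm_num) h3
      · exfalso
        have : (9 : ℕ) ^ 1 < 9 ^ t := Nat.pow_lt_pow_right (by norm_num) (by omega)
        omega
    obtain ⟨rfl, rfl⟩ := hkt
    have h5 : 5 ≤ Fintype.card F := by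
      by_contra h
      exact hex ⟨hsmall h, rfl⟩
    refine Or.inr (Or.inr (Or.inr (Or.inr (Or.inr (Or.inr (Or.inl ⟨h5, e, P, f₁, hf₁, hstr, ?_⟩))))))
    exact eq_inf_of_maximal hH hle (Cfsg.Agent.Lib.Helper60_OMX_X7.X7 h2 hQO 3 (le_refl _) e P)
  · exact Or.inr (Or.inr (Or.inr (Or.inr (Or.inr (Or.inr (Or.inr h))))))

end assembly

end Cfsg.Agent.Lib.Helper29_OmegaMaxNine
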