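/-
S5673 package OP4 (helper29 architect; proved by helper34): a normalised adjoint-closed tensor
algebra `M_d ⊗ 1` with `1 < d`, `1 < s` puts `H ≤ O_{2m+1}(F)` into class 4, 7 or 2.
Pieces: Helper34_OrthOdd_OP4a (gram_split: the Gram matrix splits as `G₁ ⊗ G₂`),
Helper34_OrthOdd_OP4b (normal form `TData`, change of basis, swap, similarity of odd-dimensional
symmetric forms), Helper34_OrthOdd_OP4c (the three cases and the exceptional case `|F| = 3 = d = s`).
-/
import Mathlib
import Cfsg.Agent.Lib.Helper98_AschDefs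
import Cfsg.Agent.Lib.Helper29_OrthOddDefs
import Cfsg.Agent.Lib.Helper34_OrthOdd_OP4c

set_option autoImplicit false

namespace Cfsg.Agent.Lib.Helper34_OrthOdd_OP4

open Cfsg Cfsg.Geo Matrix Cfsg.Agent.Lib.Helper98_AschDefs Cfsg.Agent.Lib.Helper29_OrthOddDefs
open scoped Kronecker MatrixGroups

variable {F : Type*} [Field F]

/-- OP4: a normalised adjoint-closed tensor algebra `M_d ⊗ 1` with `1 < d`, `1 < s` gives class 4, 7 or 2 -/
theorem OP4 [Fintype F] (hodd : Odd (Fintype.card F)) (m : ℕ) (hm : 3 ≤ m) (H : Subgroup (GL (OI m) F))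
    (hHI : H ≤ isometryGroup F (quadFormOdd m F))
    (A : Subalgebra F (Matrix (OI m) (OI m) F)) (hA : NormalizesAlg H A)
    (hAadj : IsAdjointClosedFor (QuadraticMap.polar (quadFormOdd m F)) A)
    (d s : ℕ) (e : OI m ≃ Fin d × Fin s) (P : GL (OI m) F) (hT : IsTensorAlg A d s e P)
    (hd : 1 < d) (hs : 1 < s) :
    InOClass m H :=
  Cfsg.Agent.Lib.Helper34_OrthOdd_OP4c.OP4_aux hodd m H hHI A hA hAadj d s e P hT hd hs

end Cfsg.Agent.Lib.Helper34_OrthOdd_OP4
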