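/-
S5673 package OP5 (helper29 architect; helper47): the nilpotent case does not occur in odd dimension.
-/
import Mathlib
import Cfsg.Agent.Lib.Helper98_AschDefs
import Cfsg.Agent.Lib.Helper29_OrthOddDefs

set_option autoImplicit false

namespace Cfsg.Agent.Lib.Helper47_OrthOdd_OP5

open Cfsg Cfsg.Geo Matrix Cfsg.Agent.Lib.Helper98_AschDefs Cfsg.Agent.Lib.Helper29_OrthOddDefs
open scoped Kronecker MatrixGroups commutatorElement

variable {F : Type*} [Field F]

/-- the value of the standard form at the first basis vector -/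
lemma quadFormOdd_single (m : ℕ) :
    quadFormOdd m F (Pi.single (Sum.inl ()) 1) = 1 := by
  unfold quadFormOdd
  simp

/-- a scalar isometry of the standard odd-dimensional form has square one -/
lemma scalar_sq_of_isometry (m : ℕ) (g : GL (OI m) F) (c : F)
    (hg : g ∈ isometryGroup F (quadFormOdd m F))
    (hc : (g : Matrix (OI m) (OI m) F) = c • (1 : Matrix (OI m) (OI m) F)) : c ^ 2 = 1 := by
  rw [mem_isometryGroup_iff] at hg
  have h := hg (Pi.single (Sum.inl ()) 1)
  rw [hc, Matrix.smul_mulVec, Matrix.one_mulVec, quadFormOdd_single] at h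
  unfold quadFormOdd at h
  simpa using h

/-- the span of a commutative group is commutative -/
lemma spanAlg_comm {ι : Type} [Fintype ι] [DecidableEq ι] (N : Subgroup (GL ι F))
    (hN : ∀ x ∈ N, ∀ y ∈ N, x * y = y * x) :
    ∀ a ∈ spanAlg N, ∀ b ∈ spanAlg N, a * b = b * a := by
  have key : ∀ a ∈ spanAlg N, ∀ y ∈ N, a * (y : Matrix ι ι F) = (y : Matrix ι ι F) * a := by
    intro a ha y hy
    rw [mem_spanAlg_iff] at ha
    induction ha using Submodule.span_induction with
    | mem x hx =>
      obtain ⟨g, hg, rfl⟩ := hx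
      have := hN g hg y hy
      rw [← Units.val_mul, ← Units.val_mul, this]
    | zero => simp
    | add u v _ _ hu hv => rw [add_mul, mul_add, hu, hv]
    | smul c u _ hu => rw [smul_mul_assoc, mul_smul_comm, hu]
  intro a ha b hb
  rw [mem_spanAlg_iff] at hb
  induction hb using Submodule.span_induction with
  | mem x hx =>
    obtain ⟨g, hg, rfl⟩ := hx
    exact key a ha g hg
  | zero => simp
  | add u v _ _ hu hv => rw [add_mul, mul_add, hu, hv]
  | smul c u _ hu => rw [smul_mul_assoc, mul_smul_comm, hu]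

/-- OP5: the nilpotent case does not occur in odd dimension -/
theorem OP5 (m : ℕ) (hm : 1 ≤ m) (N : Subgroup (GL (OI m) F))
    (hNI : N ≤ isometryGroup F (quadFormOdd m F)) (hspan : spanAlg N = ⊤)
    (hcomm : ⁅N, N⁆ ≤ scalars (OI m) F) (h2 : (2 : F) ≠ 0) : False := by
  -- `N` is commutative
  have hN : ∀ x ∈ N, ∀ y ∈ N, x * y = y * x := by
    intro x hx y hy
    have hxy : ⁅x, y⁆ ∈ ⁅N, N⁆ := Subgroup.commutator_mem_commutator hx hy
    have hsc := hcomm hxy
    rw [mem_scalars_iff] at hsc
    obtain ⟨c, hc⟩ := hsc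
    have hmemN : ⁅x, y⁆ ∈ N := by
      rw [commutatorElement_def]
      exact N.mul_mem (N.mul_mem (N.mul_mem hx hy) (N.inv_mem hx)) (N.inv_mem hy)
    have hc2 : (c : F) ^ 2 = 1 := scalar_sq_of_isometry m _ (c : F) (hNI hmemN) hc
    have hdet : Matrix.GeneralLinearGroup.det ⁅x, y⁆ = 1 := by
      rw [map_commutatorElement, commutatorElement_eq_one_iff_mul_comm, mul_comm]
    have hdet' : ((⁅x, y⁆ : GL (OI m) F) : Matrix (OI m) (OI m) F).det = 1 := by
      rw [← Matrix.GeneralLinearGroup.val_det_apply, hdet]; rfl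
    rw [hc, Matrix.det_smul, Matrix.det_one, mul_one] at hdet'
    have hcard : Fintype.card (OI m) = 2 * m + 1 := by
      simp [OI]; ring
    rw [hcard, pow_succ, pow_mul, hc2, one_pow, one_mul] at hdet'
    have h1 : (⁅x, y⁆ : GL (OI m) F) = 1 := by
      apply Units.ext
      rw [hc, hdet', one_smul]; rfl
    rw [commutatorElement_eq_one_iff_mul_comm] at h1
    exact h1
  have hcommAll := spanAlg_comm N hN
  rw [hspan] at hcommAll
  -- two non-commuting matrix units
  let a : OI m := Sum.inl ()
  let b : OI m := Sum.inr (Sum.inl ⟨0, hm⟩)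
  have hab : a ≠ b := by simp [a, b]
  have h := hcommAll (Matrix.single a b (1 : F)) trivial (Matrix.single b a (1 : F)) trivial
  have h' := congrFun (congrFun h a) a
  simp [hab] at h'

end Cfsg.Agent.Lib.Helper47_OrthOdd_OP5
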