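import Mathlib
import Cfsg.Agent.Lib.Helper98_AschDefs
import Cfsg.Agent.Lib.Helper29_OrthOddDefs
import Cfsg.Agent.Lib.Helper44_StdForms
import Cfsg.Agent.Lib.Helper54_OrthOdd_OP6a
import Cfsg.Agent.Lib.Helper54_OrthOdd_OP6b
import Cfsg.Agent.Lib.Helper54_OrthOdd_F3

/-!
# Package OP6 of S5673 (helper29's cut): at least two commuting conjugate factors give a tensor
power structure of the polar form (class 7 of the odd-dimensional orthogonal groups).
-/

set_option autoImplicit false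
set_option linter.unusedVariables false
set_option linter.unusedSectionVars false
set_option linter.style.haveILetI false

namespace Cfsg.Agent.Lib.Helper54_OrthOdd_OP6

open Cfsg Cfsg.Geo Matrix Cfsg.Agent.Lib.Helper98_AschDefs Cfsg.Agent.Lib.Helper29_OrthOddDefs
  Cfsg.Agent.Lib.Helper44_StdForms Cfsg.Agent.Lib.Helper10_Asch_PK4
  Cfsg.Agent.Lib.Helper54_OrthOdd_OP6a Cfsg.Agent.Lib.Helper54_OrthOdd_OP6b
  Cfsg.Agent.Lib.Helper54_OrthOdd_F3
open scoped Kronecker MatrixGroups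

variable {F : Type*} [Field F]

/-- the Gram matrix of the polar form of the standard odd-dimensional quadratic form -/
def Gm (m : ℕ) : Matrix (OI m) (OI m) F :=
  Matrix.of (fun i j : OI m =>
    QuadraticMap.polar (Cfsg.quadFormOdd m F) (Pi.single i 1) (Pi.single j 1))

lemma polar_eq (m : ℕ) (u v : OI m → F) :
    QuadraticMap.polar (Cfsg.quadFormOdd m F) u v = u ⬝ᵥ (Gm m : Matrix (OI m) (OI m) F) *ᵥ v := by
  have h1 : QuadraticMap.polar (Cfsg.quadFormOdd m F) u v =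
      QuadraticMap.polarBilin (qfOdd m F) u v := by
    rw [QuadraticMap.polarBilin_apply_apply, coe_qfOdd]
  rw [h1, ← Matrix.toBilin'_toMatrix' (QuadraticMap.polarBilin (qfOdd m F)), Matrix.toBilin'_apply']
  congr 2
  ext i j
  rw [LinearMap.BilinForm.toMatrix'_apply, QuadraticMap.polarBilin_apply_apply, coe_qfOdd]
  rfl

lemma Gm_transpose (m : ℕ) : (Gm m : Matrix (OI m) (OI m) F)ᵀ = Gm m := by
  ext i j
  simp only [Gm, Matrix.transpose_apply, Matrix.of_apply]
  exact QuadraticMap.polar_comm _ _ _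

lemma Gm_det (m : ℕ) (h2 : (2 : F) ≠ 0) : (Gm m : Matrix (OI m) (OI m) F).det ≠ 0 := by
  have h := det_gram_quadFormOdd (m := m) (F := F)
  unfold Gm
  rw [h]
  exact mul_ne_zero h2 (pow_ne_zero _ (neg_ne_zero.2 one_ne_zero))

lemma two_ne_zero_of_odd [Fintype F] (hodd : Odd (Fintype.card F)) : (2 : F) ≠ 0 := by
  intro h
  have h1 : ringChar F = 2 := CharP.ringChar_of_prime_eq_zero Nat.prime_two (by exact_mod_cast h)
  have h2 := FiniteField.even_card_of_char_two h1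
  rcases hodd with ⟨r, hr⟩
  omega

/-- two matrices inducing the same bilinear form are equal -/
lemma eq_of_forall_dot {ι : Type} [Fintype ι] [DecidableEq ι] (A B : Matrix ι ι F)
    (h : ∀ u v : ι → F, u ⬝ᵥ A *ᵥ v = u ⬝ᵥ B *ᵥ v) : A = B := by
  ext i j
  have := h (Pi.single i 1) (Pi.single j 1)
  simpa using this

lemma dot_mulVec_mulVec {ι : Type} [Fintype ι] [DecidableEq ι] (G h : Matrix ι ι F) (u v : ι → F) :
    (h *ᵥ u) ⬝ᵥ G *ᵥ (h *ᵥ v) = u ⬝ᵥ (hᵀ * G * h) *ᵥ v := by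
  rw [← Matrix.mulVec_mulVec, ← Matrix.mulVec_mulVec, dotProduct_comm (h *ᵥ u),
    Matrix.dotProduct_mulVec, ← Matrix.mulVec_transpose, dotProduct_comm]

/-- isometries of the quadratic form preserve the Gram matrix -/
lemma isom_gram (m : ℕ) (h : GL (OI m) F) (hh : h ∈ isometryGroup F (quadFormOdd m F)) :
    (h : Matrix (OI m) (OI m) F)ᵀ * Gm m * (h : Matrix (OI m) (OI m) F) = Gm m := by
  apply eq_of_forall_dot
  intro u v
  rw [← dot_mulVec_mulVec, ← polar_eq, ← polar_eq]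
  exact polar_mulVec_of_mem _ hh u v

lemma reindex_symm_eq {ι κ : Type} [Fintype ι] [DecidableEq ι] [Fintype κ] [DecidableEq κ]
    (e : ι ≃ κ) (X : Matrix κ κ F) : Matrix.reindex e.symm e.symm X = X.submatrix e e := by
  ext i j
  simp

/-- the bilinear form of a Gram matrix in a tensor basis -/
lemma dot_comp_equiv {ι κ : Type} [Fintype ι] [DecidableEq ι] [Fintype κ] [DecidableEq κ]
    (e : ι ≃ κ) (Γ : Matrix ι ι F) (x y : κ → F) :
    (x ∘ e) ⬝ᵥ Γ *ᵥ (y ∘ e) = ∑ a, ∑ b, x a * (Γ.submatrix e.symm e.symm) a b * y b := by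
  simp only [dotProduct, Matrix.mulVec, Function.comp_apply, Matrix.submatrix_apply]
  rw [← Fintype.sum_equiv e.symm (fun a => ∑ b, x a * Γ (e.symm a) (e.symm b) * y b)
    (fun i => x (e i) * ∑ j, Γ i j * y (e j))]
  intro a
  rw [Equiv.apply_symm_apply, Finset.mul_sum]
  rw [← Fintype.sum_equiv e.symm (fun b => x a * Γ (e.symm a) (e.symm b) * y b)
    (fun j => x a * (Γ (e.symm a) j * y (e j)))]
  intro b
  rw [Equiv.apply_symm_apply, mul_assoc]

/-- the symmetric form with Gram matrix `C` -/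
lemma isSymmetricForm_of_matrix {d : ℕ} (C : Matrix (Fin d) (Fin d) F) (hC : Cᵀ = C)
    (hdet : C.det ≠ 0) : IsSymmetricForm (fun u v : Fin d → F => u ⬝ᵥ C *ᵥ v) := by
  have hsymm : ∀ u v : Fin d → F, u ⬝ᵥ C *ᵥ v = v ⬝ᵥ C *ᵥ u := by
    intro u v
    rw [Matrix.dotProduct_mulVec, ← Matrix.mulVec_transpose, hC, dotProduct_comm]
  have hnd : ∀ v : Fin d → F, v ≠ 0 → ∃ x, x ⬝ᵥ C *ᵥ v ≠ 0 := by
    intro v hv
    by_contra hcon
    push Not at hcon
    apply hv
    have h1 : C *ᵥ v = 0 := by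
      ext i
      have := hcon (Pi.single i 1)
      simpa using this
    have h2 : C⁻¹ *ᵥ (C *ᵥ v) = v := by
      rw [Matrix.mulVec_mulVec, Matrix.nonsing_inv_mul _ (isUnit_iff_ne_zero.2 hdet),
        Matrix.one_mulVec]
    rw [← h2, h1, Matrix.mulVec_zero]
  refine ⟨⟨?_, ?_, ?_, ?_⟩, hsymm, ?_⟩
  · intro x y v; exact add_dotProduct _ _ _
  · intro c x v; simp [smul_dotProduct]
  · intro v x y; rw [Matrix.mulVec_add, dotProduct_add]
  · intro c v x; rw [Matrix.mulVec_smul, dotProduct_smul, smul_eq_mul]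
  · intro v hv
    obtain ⟨x, hx⟩ := hnd v hv
    exact ⟨⟨x, hx⟩, ⟨x, by show v ⬝ᵥ C *ᵥ x ≠ 0; rw [hsymm]; exact hx⟩⟩

lemma gramMatrix_of_matrix {d : ℕ} (C : Matrix (Fin d) (Fin d) F) :
    gramMatrix (fun u v : Fin d → F => u ⬝ᵥ C *ᵥ v) = C := by
  ext a b
  simp [gramMatrix]

/-- a finite product of solvable groups is solvable -/
lemma pi_isSolvable {η : Type*} [Finite η] {Gs : η → Type*} [∀ i, Group (Gs i)]
    (h : ∀ i, Group.IsSolvable (Gs i)) : Group.IsSolvable (∀ i, Gs i) := by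
  classical
  cases nonempty_fintype η
  have hn : ∀ i, ∃ n, derivedSeries (Gs i) n = ⊥ := fun i => (Group.isSolvable_def _).1 (h i)
  choose n hn using hn
  have key : ∀ r, derivedSeries (∀ i, Gs i) r ≤
      Subgroup.pi Set.univ (fun i => derivedSeries (Gs i) r) := by
    intro r
    induction r with
    | zero =>
      intro x _ i _
      show x i ∈ derivedSeries (Gs i) 0
      rw [derivedSeries_zero]
      exact Subgroup.mem_top _
    | succ r ih =>
      rw [derivedSeries_succ]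
      refine le_trans (Subgroup.commutator_mono ih ih) ?_
      refine le_trans (Subgroup.commutator_pi_pi_le _ _) ?_
      intro x hx i hi
      have h1 : x i ∈ ⁅derivedSeries (Gs i) r, derivedSeries (Gs i) r⁆ := hx i hi
      show x i ∈ derivedSeries (Gs i) (r + 1)
      rw [derivedSeries_succ]
      exact h1
  rw [Group.isSolvable_def]
  refine ⟨Finset.univ.sup n, ?_⟩
  rw [eq_bot_iff]
  intro x hx
  have h1 := key _ hx
  rw [Subgroup.mem_bot]
  funext i
  have h2 := h1 i (Set.mem_univ i)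
  have h3 : derivedSeries (Gs i) (Finset.univ.sup n) ≤ derivedSeries (Gs i) (n i) :=
    derivedSeries_antitone (Gs i) (Finset.le_sup (Finset.mem_univ i))
  have h4 := h3 h2
  rw [hn i, Subgroup.mem_bot] at h4
  exact h4

/-- the join of finitely many pairwise commuting solvable subgroups is solvable -/
lemma isSolvable_iSup {G : Type*} [Group G] {k : ℕ} (S : Fin k → Subgroup G)
    (hcomm : ∀ i j, i ≠ j → ∀ x ∈ S i, ∀ y ∈ S j, x * y = y * x)
    (hs : ∀ i, Group.IsSolvable (S i)) : Group.IsSolvable ↥(⨆ i, S i) := by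
  have hc : Pairwise fun i j => ∀ x y : G, x ∈ S i → y ∈ S j → Commute x y := by
    intro i j hij x y hx hy
    exact hcomm i j hij x hx y hy
  haveI := pi_isSolvable hs
  have hr := Subgroup.noncommPiCoprod_range (hcomm := hc)
  rw [← hr]
  exact Group.isSolvable_of_surjective (f := (Subgroup.noncommPiCoprod hc).rangeRestrict)
    (MonoidHom.rangeRestrict_surjective _)

/-- a perfect solvable subgroup is trivial -/
lemma eq_bot_of_perfect {G : Type*} [Group G] (N : Subgroup G) (hperf : ⁅N, N⁆ = N)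
    [Group.IsSolvable N] : N = ⊥ := by
  by_contra hN
  haveI : Nontrivial N := (Subgroup.nontrivial_iff_ne_bot N).2 hN
  have h1 := Group.IsSolvable.commutator_lt_top_of_nontrivial N
  have h2 : commutator N = ⊤ := by
    apply Subgroup.map_injective N.subtype_injective
    rw [Subgroup.map_subtype_commutator, hperf, ← MonoidHom.range_eq_map, Subgroup.range_subtype]
  exact (ne_of_lt h1) h2

/-- a group of isometries spanning an adjoint-closed copy of `M₃(F₃)` is solvable -/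
theorem factor_isSolvable {ι : Type} [Fintype ι] [DecidableEq ι] [Nonempty ι] [Fintype F]
    (hF : Fintype.card F = 3) (G Gi : Matrix ι ι F) (hiG : Gi * G = 1)
    (φ₀ : Matrix (Fin 3) (Fin 3) F →ₐ[F] Matrix ι ι F) (B : GL (Fin 3) F)
    (hB : ∀ M, adj G Gi (φ₀ M) =
      φ₀ ((B : Matrix (Fin 3) (Fin 3) F) * Mᵀ * ((B⁻¹ : GL (Fin 3) F) : Matrix (Fin 3) (Fin 3) F)))
    (hCs : ((B⁻¹ : GL (Fin 3) F) : Matrix (Fin 3) (Fin 3) F)ᵀ =
      ((B⁻¹ : GL (Fin 3) F) : Matrix (Fin 3) (Fin 3) F))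
    (S₀ : Subgroup (GL ι F))
    (hS : ∀ x ∈ S₀, (x : Matrix ι ι F)ᵀ * G * (x : Matrix ι ι F) = G)
    (hsurj : ∀ a ∈ spanAlg S₀, ∃ M, a = φ₀ M) : Group.IsSolvable S₀ := by
  obtain ⟨C, hCdef⟩ : ∃ C : Matrix (Fin 3) (Fin 3) F,
      C = ((B⁻¹ : GL (Fin 3) F) : Matrix (Fin 3) (Fin 3) F) := ⟨_, rfl⟩
  rw [← hCdef] at hCs hB
  have hCB : C * (B : Matrix (Fin 3) (Fin 3) F) = 1 := by
    rw [hCdef, ← Units.val_mul, inv_mul_cancel, Units.val_one]
  have hCdet : C.det ≠ 0 := by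
    intro h0
    have h1 := congrArg Matrix.det hCB
    rw [Matrix.det_mul, h0, zero_mul, Matrix.det_one] at h1
    exact zero_ne_one h1
  have hinj : Function.Injective φ₀ := (φ₀ : Matrix (Fin 3) (Fin 3) F →+* Matrix ι ι F).injective
  haveI := isSolvable_OC hF C hCs hCdet
  apply isSolvable_of_le_map (Units.map (φ₀ : Matrix (Fin 3) (Fin 3) F →* Matrix ι ι F)) (OC C) S₀
  intro x hx
  obtain ⟨M, hM⟩ := hsurj _ (coe_mem_spanAlg hx)
  obtain ⟨M', hM'⟩ := hsurj _ (coe_mem_spanAlg (S₀.inv_mem hx))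
  have hMM' : M * M' = 1 := by
    apply hinj
    rw [map_mul, ← hM, ← hM', ← Units.val_mul, mul_inv_cancel, Units.val_one, map_one]
  have hM'M : M' * M = 1 := by
    apply hinj
    rw [map_mul, ← hM, ← hM', ← Units.val_mul, inv_mul_cancel, Units.val_one, map_one]
  refine ⟨⟨M, M', hMM', hM'M⟩, ?_, ?_⟩
  · rw [SetLike.mem_coe, mem_OC]
    show Mᵀ * C * M = C
    have h1 := adj_isom G Gi hiG x (hS x hx)
    rw [hM, hB, hM'] at h1
    have h2 := hinj h1
    calc Mᵀ * C * M = (C * (B : Matrix (Fin 3) (Fin 3) F)) * Mᵀ * C * M := by rw [hCB, one_mul]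
      _ = C * ((B : Matrix (Fin 3) (Fin 3) F) * Mᵀ * C) * M := by simp only [mul_assoc]
      _ = C * (M' * M) := by rw [h2, mul_assoc]
      _ = C := by rw [hM'M, mul_one]
  · apply Units.ext
    show φ₀ M = (x : Matrix ι ι F)
    exact hM.symm

/-- OP6: at least two commuting conjugate factors give a tensor power structure of the form (class 7) -/
theorem OP6 [Fintype F] (hodd : Odd (Fintype.card F)) (m : ℕ) (hm : 3 ≤ m) (H N : Subgroup (GL (OI m) F))
    (hHI : H ≤ isometryGroup F (quadFormOdd m F)) (hperf : ⁅N, N⁆ = N) (hspan : spanAlg N = ⊤)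
    (k : ℕ) (hk : 2 ≤ k) (S : Fin k → Subgroup (GL (OI m) F)) (hSN : ∀ i, S i ≤ N)
    (hSH : ∀ i, S i ≤ H)
    (hSnorm : ∀ i, NormalizesGrp N (S i)) (hSZ : ∀ i, ¬ S i ≤ scalars (OI m) F)
    (hcomm : ∀ i j, i ≠ j → ∀ x ∈ S i, ∀ y ∈ S j, x * y = y * x) (hsup : ⨆ i, S i = N)
    (hperm : ∀ h ∈ H, ∃ π : Equiv.Perm (Fin k), ∀ i, ∀ x, x ∈ S i ↔ h * x * h⁻¹ ∈ S (π i))
    (htrans : ∀ i j, ∃ h ∈ H, ∀ x, x ∈ S i ↔ h * x * h⁻¹ ∈ S j) :
    InOClass m H := by
  classical
  haveI : Nonempty (OI m) := ⟨Sum.inl ()⟩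
  have h2 : (2 : F) ≠ 0 := two_ne_zero_of_odd hodd
  set i0 : Fin k := ⟨0, by omega⟩ with hi0
  obtain ⟨d, φ₀, g, e, P, hd2, hgH, hg, hφ0, hφ0', hφ, hle⟩ :=
    tensor_data H N hspan k hk S hSN hSnorm hSZ hcomm hsup hperm htrans i0
  obtain ⟨G, hGdef⟩ : ∃ G : Matrix (OI m) (OI m) F, G = Gm m := ⟨_, rfl⟩
  have hGs : Gᵀ = G := by rw [hGdef]; exact Gm_transpose m
  have hdet : G.det ≠ 0 := by rw [hGdef]; exact Gm_det m h2
  obtain ⟨Gi, hGidef⟩ : ∃ Gi : Matrix (OI m) (OI m) F, Gi = G⁻¹ := ⟨_, rfl⟩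
  have hGi : G * Gi = 1 := by rw [hGidef]; exact Matrix.mul_nonsing_inv _ (isUnit_iff_ne_zero.2 hdet)
  have hiG : Gi * G = 1 := by rw [hGidef]; exact Matrix.nonsing_inv_mul _ (isUnit_iff_ne_zero.2 hdet)
  have hisoH : ∀ h ∈ H, (h : Matrix (OI m) (OI m) F)ᵀ * G * (h : Matrix (OI m) (OI m) F) = G := by
    intro h hh
    rw [hGdef]
    exact isom_gram m h (hHI hh)
  -- the base factor algebra is closed under adjoints
  have hcl : ∀ M, ∃ M', adj G Gi (φ₀ M) = φ₀ M' := by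
    intro M
    have h1 := adj_mem_spanAlg G Gi hiG (S i0) (fun x hx => hisoH x (hSH i0 hx)) (hφ0 M)
    obtain ⟨M', hM'⟩ := hφ0' _ h1
    exact ⟨M', hM'⟩
  have hd0 : 0 < d := by omega
  obtain ⟨B, hB⟩ := exists_B hd0 G Gi hGi hiG φ₀ hcl
  -- the adjoint on every factor
  have hfac : ∀ j M, adj G Gi ((P : Matrix (OI m) (OI m) F) * (factorMat k d j M).submatrix e e *
        ((P⁻¹ : GL (OI m) F) : Matrix (OI m) (OI m) F)) =
      (P : Matrix (OI m) (OI m) F) * (factorMat k d j ((B : Matrix (Fin d) (Fin d) F) * Mᵀ *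
        ((B⁻¹ : GL (Fin d) F) : Matrix (Fin d) (Fin d) F))).submatrix e e *
        ((P⁻¹ : GL (OI m) F) : Matrix (OI m) (OI m) F) := by
    intro j M
    have h1 := hφ j M
    have h1' := hφ j ((B : Matrix (Fin d) (Fin d) F) * Mᵀ *
        ((B⁻¹ : GL (Fin d) F) : Matrix (Fin d) (Fin d) F))
    rw [reindex_symm_eq] at h1 h1'
    rw [← h1, adj_conj G Gi hGi hiG (g j) (hisoH _ (hgH j)), hB, h1']
  obtain ⟨c, hc⟩ := gram_eq_smul_pt hd0 G Gi hGi hiG e P B hfac
  obtain ⟨C, hCdef⟩ : ∃ C : Matrix (Fin d) (Fin d) F,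
      C = ((B⁻¹ : GL (Fin d) F) : Matrix (Fin d) (Fin d) F) := ⟨_, rfl⟩
  rw [← hCdef] at hc
  obtain ⟨Γ, hΓ⟩ : ∃ Γ : Matrix (OI m) (OI m) F,
      Γ = (P : Matrix (OI m) (OI m) F)ᵀ * G * (P : Matrix (OI m) (OI m) F) := ⟨_, rfl⟩
  rw [← hΓ] at hc
  have hΓs : Γᵀ = Γ := by
    rw [hΓ, Matrix.transpose_mul, Matrix.transpose_mul, Matrix.transpose_transpose, hGs, mul_assoc]
  have hΓdet : Γ.det ≠ 0 := by
    rw [hΓ, Matrix.det_mul, Matrix.det_mul, Matrix.det_transpose]
    have hP : (P : Matrix (OI m) (OI m) F).det ≠ 0 := by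
      have h1 : (P : Matrix (OI m) (OI m) F).det * ((P⁻¹ : GL (OI m) F) : Matrix (OI m) (OI m) F).det = 1 := by
        rw [← Matrix.det_mul, ← Units.val_mul, mul_inv_cancel, Units.val_one, Matrix.det_one]
      intro h0
      rw [h0, zero_mul] at h1
      exact zero_ne_one h1
    exact mul_ne_zero (mul_ne_zero hP hdet) hP
  have hc0 : c ≠ 0 := by
    rintro rfl
    rw [zero_smul] at hc
    apply hΓdet
    have h1 : Γ = 0 := by
      ext i j
      have := congrFun (congrFun hc (e i)) (e j)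
      simpa using this
    rw [h1]
    simp
  -- the pure tensor is symmetric
  have hpts : (pt k d (fun _ => C))ᵀ = pt k d (fun _ => C) := by
    have h1 : (Γ.submatrix e.symm e.symm)ᵀ = Γ.submatrix e.symm e.symm := by
      rw [Matrix.transpose_submatrix, hΓs]
    rw [hc, Matrix.transpose_smul] at h1
    ext a b
    have h3 := congrFun (congrFun h1 a) b
    rw [Matrix.smul_apply, Matrix.smul_apply, smul_eq_mul, smul_eq_mul] at h3
    exact mul_left_cancel₀ hc0 h3
  have hCB : C * (B : Matrix (Fin d) (Fin d) F) = 1 := by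
    rw [hCdef, ← Units.val_mul, inv_mul_cancel, Units.val_one]
  have hCdet : C.det ≠ 0 := by
    intro h0
    have h1 := congrArg Matrix.det hCB
    rw [Matrix.det_mul, h0, zero_mul, Matrix.det_one] at h1
    exact zero_ne_one h1
  have hC0 : C ≠ 0 := by
    rintro rfl
    apply hCdet
    haveI : Nonempty (Fin d) := ⟨⟨0, hd0⟩⟩
    simp
  -- the dimension `d` is odd
  have hcard : d ^ k = 2 * m + 1 := by
    have h1 := Fintype.card_congr e
    simp only [Fintype.card_sum, Fintype.card_unit, Fintype.card_fin, Fintype.card_pi,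
      Finset.prod_const, Finset.card_univ] at h1
    omega
  have hdodd : Odd d := by
    have h1 : Odd (d ^ k) := by rw [hcard]; exact ⟨m, rfl⟩
    exact (Nat.odd_pow_iff (by omega)).mp h1
  have h3d : 3 ≤ d := by
    rcases hdodd with ⟨r, hr⟩
    omega
  obtain ⟨l, hl⟩ := transpose_eq_smul_of_pt (by omega) C hC0 hpts
  have hCs : Cᵀ = C := transpose_eq_of_smul hdodd h2 C hCdet l hl
  -- the class 7 member
  have hexc : ¬ (Fintype.card F = 3 ∧ d = 3) := by
    rintro ⟨hF, rfl⟩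
    have hs0 : Group.IsSolvable (S i0) :=
      factor_isSolvable hF G Gi hiG φ₀ B hB (by rw [← hCdef]; exact hCs) (S i0)
        (fun x hx => hisoH x (hSH i0 hx)) hφ0'
    have hs : ∀ j, Group.IsSolvable (S j) := by
      intro j
      haveI := hs0
      apply isSolvable_of_le_map (MulAut.conj (g j)).toMonoidHom (S i0) (S j)
      intro y hy
      refine ⟨(g j)⁻¹ * y * g j, ?_, ?_⟩
      · apply (hg j _).2
        have h1 : g j * ((g j)⁻¹ * y * g j) * (g j)⁻¹ = y := by group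
        rw [h1]
        exact hy
      · show g j * ((g j)⁻¹ * y * g j) * (g j)⁻¹ = y
        group
    have hsN : Group.IsSolvable ↥(⨆ i, S i) := isSolvable_iSup S hcomm hs
    rw [hsup] at hsN
    haveI := hsN
    have hN := eq_bot_of_perfect N hperf
    apply hSZ i0
    intro x hx
    have h1 := hSN i0 hx
    rw [hN, Subgroup.mem_bot] at h1
    rw [h1]
    exact Subgroup.one_mem _
  refine ⟨tensorWreathSubgroup d k e P ⊓ isometryGroup F (quadFormOdd m F), ?_, le_inf hle hHI⟩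
  refine Or.inr (Or.inr (Or.inr (Or.inr (Or.inr (Or.inr (Or.inr
    ⟨d, k, e, P, fun u v => u ⬝ᵥ C *ᵥ v, h3d, hk, hexc, isSymmetricForm_of_matrix C hCs hCdet,
      ⟨c, hc0, ?_⟩, rfl⟩))))))
  intro x y
  rw [polar_eq, dot_mulVec_mulVec, ← hGdef, ← hΓ, dot_comp_equiv, hc, gramMatrix_of_matrix,
    Finset.mul_sum]
  apply Finset.sum_congr rfl
  intro a _
  rw [Finset.mul_sum]
  apply Finset.sum_congr rfl
  intro b _
  rw [Matrix.smul_apply, pt_apply, smul_eq_mul, id]
  ring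

end Cfsg.Agent.Lib.Helper54_OrthOdd_OP6
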