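import Mathlib
import Cfsg.Agent.Lib.Helper98_AschDefs
import Cfsg.Agent.Lib.Helper29_OrthOddDefs
import Cfsg.Agent.Lib.Helper35_Asch_PK11
import Cfsg.Agent.Lib.Helper44_StdForms

/-!
# S5673 package OP2b (helper64 for helper29)

An orthogonal frame of isometric points over a non-prime field lies in a subfield group (class 5).
The discriminant comparison shows that the common norm `c` of the frame vectors is `(-1)^m` times a square,
so after rescaling the frame the form is `(-1)^m * ∑ u_i^2` and the group consists of signed permutation matrices.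
-/

set_option autoImplicit false

namespace Cfsg.Agent.Lib.Helper64_OrthOdd_OP2b

open Cfsg Cfsg.Geo Matrix Module Cfsg.Agent.Lib.Helper98_AschDefs Cfsg.Agent.Lib.Helper29_OrthOddDefs
open scoped Kronecker MatrixGroups

variable {F : Type*} [Field F]

theorem two_ne_zero_of_odd [Fintype F] (hodd : Odd (Fintype.card F)) : (2 : F) ≠ 0 := by
  intro h2
  have hch : ringChar F = 2 := by
    have hdvd : ringChar F ∣ 2 := ringChar.dvd (by exact_mod_cast h2)
    have hp : (ringChar F).Prime := CharP.char_is_prime F (ringChar F)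
    exact (Nat.prime_dvd_prime_iff_eq hp Nat.prime_two).1 hdvd
  have := FiniteField.even_card_of_char_two hch
  rcases hodd with ⟨k, hk⟩
  omega

theorem bot_ne_top_of_not_prime [Fintype F] (hnp : ¬ (Fintype.card F).Prime) :
    (⊥ : Subfield F) ≠ ⊤ := by
  intro h
  apply hnp
  have hp : (ringChar F).Prime := CharP.char_is_prime F (ringChar F)
  have : Fact (ringChar F).Prime := ⟨hp⟩
  have h1 : Nat.card (⊥ : Subfield F) = ringChar F := Subfield.card_bot F (ringChar F)
  rw [h] at h1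
  have h2 : Nat.card (⊤ : Subfield F) = Nat.card F := Nat.card_congr (Subfield.topEquiv (K := F)).toEquiv
  rw [h2, Nat.card_eq_fintype_card] at h1
  rw [h1]; exact hp

/-- value of a quadratic form on a combination of pairwise orthogonal vectors of the same norm -/
theorem map_sum_orth {ι : Type} [Fintype ι] [DecidableEq ι] {V : Type*} [AddCommGroup V] [Module F V]
    (Qb : QuadraticForm F V) (h2 : (2 : F) ≠ 0)
    (b : ι → V) (c : F) (hc : ∀ j, Qb (b j) = c)
    (horth : ∀ j k, j ≠ k → QuadraticMap.polar Qb (b j) (b k) = 0) (u : ι → F) :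
    Qb (∑ j, u j • b j) = ∑ j, (u j) ^ 2 * c := by
  have hself : ∀ x, QuadraticMap.polar Qb x x = 2 * Qb x := fun x => by
    simp [QuadraticMap.polar_self Qb x]
  have key : QuadraticMap.polarBilin Qb (∑ j, u j • b j) (∑ k, u k • b k) = ∑ j, 2 * ((u j) ^ 2 * c) := by
    rw [map_sum]
    apply Finset.sum_congr rfl
    intro k _
    rw [map_sum, LinearMap.sum_apply]
    rw [Finset.sum_eq_single k]
    · rw [map_smul, map_smul, LinearMap.smul_apply, QuadraticMap.polarBilin_apply_apply, hself, hc]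
      simp only [smul_eq_mul]; ring
    · intro j _ hj
      rw [map_smul, map_smul, LinearMap.smul_apply, QuadraticMap.polarBilin_apply_apply,
        horth j k hj]
      simp
    · intro hj; exact absurd (Finset.mem_univ k) hj
  rw [QuadraticMap.polarBilin_apply_apply, hself, ← Finset.mul_sum] at key
  exact mul_left_cancel₀ h2 key

/-- discriminant comparison: an orthogonal basis of vectors of norm `c` -/
theorem det_gram_orth {ι : Type} [Fintype ι] [DecidableEq ι]
    (Qb : QuadraticForm F (ι → F))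
    (b : Basis ι F (ι → F)) (c : F) (hc : ∀ j, Qb (b j) = c)
    (horth : ∀ j k, j ≠ k → QuadraticMap.polar Qb (b j) (b k) = 0) :
    ∃ d : F, (2 * c) ^ (Fintype.card ι) = d ^ 2 *
      (Matrix.of fun i j : ι => QuadraticMap.polar Qb (Pi.single i 1) (Pi.single j 1)).det := by
  set L : (ι → F) →ₗ[F] (ι → F) := b.equivFun.symm.toLinearMap with hL
  have hLs : ∀ j, L (Pi.single j 1) = b j := by
    intro j
    simp [hL]
  set B : LinearMap.BilinForm F (ι → F) := QuadraticMap.polarBilin Qb with hB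
  have h1 : (B.comp L L).toMatrix' = (LinearMap.toMatrix' L)ᵀ * B.toMatrix' * LinearMap.toMatrix' L :=
    LinearMap.BilinForm.toMatrix'_comp B L L
  have h2 : (B.comp L L).toMatrix' = Matrix.diagonal (fun _ : ι => 2 * c) := by
    ext j k
    rw [LinearMap.BilinForm.toMatrix'_apply, LinearMap.BilinForm.comp_apply, hLs, hLs, hB,
      QuadraticMap.polarBilin_apply_apply]
    by_cases hjk : j = k
    · subst hjk
      rw [Matrix.diagonal_apply_eq, QuadraticMap.polar_self, hc]
      simp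
    · rw [Matrix.diagonal_apply_ne _ hjk, horth j k hjk]
  have h3 : B.toMatrix' = Matrix.of fun i j : ι => QuadraticMap.polar Qb (Pi.single i 1) (Pi.single j 1) := by
    ext i j
    rw [LinearMap.BilinForm.toMatrix'_apply, hB, QuadraticMap.polarBilin_apply_apply]
    rfl
  refine ⟨(LinearMap.toMatrix' L).det, ?_⟩
  have h4 := congrArg Matrix.det (h2.symm.trans h1)
  rw [Matrix.det_diagonal, Finset.prod_const, Finset.card_univ, Matrix.det_mul, Matrix.det_mul,
    Matrix.det_transpose, h3] at h4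
  rw [h4]; ring

theorem exists_mu (h2 : (2 : F) ≠ 0) (c d : F) (hc0 : c ≠ 0) (m : ℕ)
    (h : (2 * c) ^ (2 * m + 1) = d ^ 2 * (2 * (-1) ^ m)) :
    ∃ μ : F, μ ≠ 0 ∧ μ ^ 2 * c = (-1) ^ m := by
  have h2c : (2 * c) ≠ 0 := mul_ne_zero h2 hc0
  have hd : d ≠ 0 := by
    rintro rfl
    have : (2 * c) ^ (2 * m + 1) ≠ 0 := pow_ne_zero _ h2c
    apply this
    rw [h]; ring
  refine ⟨(2 * c) ^ m / d, div_ne_zero (pow_ne_zero _ h2c) hd, ?_⟩
  have h' : (2 * c) ^ (2 * m) * c = d ^ 2 * (-1) ^ m := by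
    have : 2 * ((2 * c) ^ (2 * m) * c) = 2 * (d ^ 2 * (-1) ^ m) := by
      rw [pow_succ] at h
      linear_combination h
    exact mul_left_cancel₀ h2 this
  rw [div_pow, div_mul_eq_mul_div, div_eq_iff (pow_ne_zero _ hd), ← pow_mul, mul_comm m 2, h']
  ring
theorem entries_mem_of_monomial {ι : Type} [Fintype ι] [DecidableEq ι]
    (Q : (ι → F) → F) (hsmul : ∀ (a : F) (v : ι → F), Q (a • v) = a ^ 2 * Q v)
    (P : GL ι F) (b : ι → (ι → F)) (hP : ∀ j, (P : Matrix ι ι F) *ᵥ Pi.single j 1 = b j)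
    (c : F) (hc0 : c ≠ 0) (hc : ∀ j, Q (b j) = c) (F₁ : Subfield F)
    (h : GL ι F) (hiso : ∀ v, Q ((h : Matrix ι ι F) *ᵥ v) = Q v)
    (hperm : ∀ j, ∃ (j' : ι) (l : F), (h : Matrix ι ι F) *ᵥ b j = l • b j') (k i : ι) :
    ((P⁻¹ * h * P : GL ι F) : Matrix ι ι F) k i ∈ F₁ := by
  obtain ⟨j', l, hl⟩ := hperm i
  have hl2 : l ^ 2 = 1 := by
    have h1 := hiso (b i)
    rw [hl, hsmul, hc, hc] at h1
    have : l ^ 2 * c = 1 * c := by rw [h1, one_mul]
    exact mul_right_cancel₀ hc0 this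
  have hl1 : l = 1 ∨ l = -1 := by
    have : (l - 1) * (l + 1) = 0 := by linear_combination hl2
    rcases mul_eq_zero.1 this with h | h
    · left; linear_combination h
    · right; linear_combination h
  have hcol : ((P⁻¹ * h * P : GL ι F) : Matrix ι ι F) *ᵥ Pi.single i 1 = l • Pi.single j' 1 := by
    have hPP : ((P⁻¹ : GL ι F) : Matrix ι ι F) * (P : Matrix ι ι F) = 1 := by
      rw [← Units.val_mul, inv_mul_cancel, Units.val_one]
    rw [Units.val_mul, Units.val_mul, ← Matrix.mulVec_mulVec, ← Matrix.mulVec_mulVec, hP, hl,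
      Matrix.mulVec_smul, ← hP j', Matrix.mulVec_mulVec, hPP, Matrix.one_mulVec]
  have hent : ((P⁻¹ * h * P : GL ι F) : Matrix ι ι F) k i = l * (Pi.single j' (1 : F) : ι → F) k := by
    have := congrFun hcol k
    rw [Matrix.mulVec_single_one] at this
    simpa using this
  rw [hent]
  have hlm : l ∈ F₁ := by
    rcases hl1 with rfl | rfl
    · exact one_mem _
    · exact neg_mem (one_mem _)
  apply mul_mem hlm
  by_cases hk : k = j'
  · subst hk; simp
  · rw [Pi.single_apply, if_neg hk]; exact zero_mem _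

theorem le_subfieldSubgroup_of_monomial {ι : Type} [Fintype ι] [DecidableEq ι]
    (Q : (ι → F) → F) (hsmul : ∀ (a : F) (v : ι → F), Q (a • v) = a ^ 2 * Q v)
    (P : GL ι F) (b : ι → (ι → F)) (hP : ∀ j, (P : Matrix ι ι F) *ᵥ Pi.single j 1 = b j)
    (c : F) (hc0 : c ≠ 0) (hc : ∀ j, Q (b j) = c) (F₁ : Subfield F)
    (H : Subgroup (GL ι F))
    (hiso : ∀ h ∈ H, ∀ v, Q ((h : Matrix ι ι F) *ᵥ v) = Q v)
    (hperm : ∀ h ∈ H, ∀ j, ∃ (j' : ι) (l : F), (h : Matrix ι ι F) *ᵥ b j = l • b j') :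
    H ≤ subfieldSubgroup F₁ P := by
  intro h hh
  have hent : ∀ g ∈ H, ∀ k i, ((P⁻¹ * g * P : GL ι F) : Matrix ι ι F) k i ∈ F₁ := fun g hg k i =>
    entries_mem_of_monomial Q hsmul P b hP c hc0 hc F₁ g (hiso g hg) (hperm g hg) k i
  have hmem : P⁻¹ * h * P ∈ (Matrix.GeneralLinearGroup.map (F₁.subtype : F₁ →+* F)).range ⊔ scalars ι F := by
    apply Cfsg.Agent.Lib.Helper35_Asch_PK11.mem_sup_of_entries
    intro i j k l
    have hinv : (P⁻¹ * h * P)⁻¹ = P⁻¹ * h⁻¹ * P := by group
    rw [hinv]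
    exact mul_mem (hent h hh k i) (hent h⁻¹ (inv_mem hh) j l)
  unfold subfieldSubgroup
  refine ⟨P⁻¹ * h * P, hmem, ?_⟩
  simp only [MulEquiv.coe_toMonoidHom, MulAut.conj_apply]
  group


/-- the invertible matrix of a linear automorphism of `ι → F` -/
def glOfLinearEquiv {ι : Type} [Fintype ι] [DecidableEq ι] (L : (ι → F) ≃ₗ[F] (ι → F)) : GL ι F :=
  ⟨LinearMap.toMatrix' L.toLinearMap, LinearMap.toMatrix' L.symm.toLinearMap,
    by rw [← LinearMap.toMatrix'_comp]; simp, by rw [← LinearMap.toMatrix'_comp]; simp⟩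

theorem glOfLinearEquiv_mulVec {ι : Type} [Fintype ι] [DecidableEq ι] (L : (ι → F) ≃ₗ[F] (ι → F))
    (v : ι → F) : ((glOfLinearEquiv L : GL ι F) : Matrix ι ι F) *ᵥ v = L v :=
  LinearMap.toMatrix'_mulVec _ _

/-- OP2b: an orthogonal frame of isometric points over a non-prime field lies in a subfield group (class 5) -/
theorem OP2b [Fintype F] (hodd : Odd (Fintype.card F)) (m : ℕ) (hm : 3 ≤ m) (H : Subgroup (GL (OI m) F))
    (hHI : H ≤ isometryGroup F (quadFormOdd m F))
    (t : ℕ) (D : Fin t → Submodule F (OI m → F)) (hD : IsOrthogonalMDecomposition (quadFormOdd m F) 1 D)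
    (hHD : H ≤ decompositionStabilizer D) (hnp : ¬ (Fintype.card F).Prime) :
    InOClass m H := by
  classical
  have h2 : (2 : F) ≠ 0 := two_ne_zero_of_odd hodd
  set Qb : QuadraticForm F (OI m → F) := Helper44_StdForms.qfOdd m F with hQb
  have hcoe : ⇑Qb = quadFormOdd m F := Helper44_StdForms.coe_qfOdd m F
  rw [← hcoe] at hD hHI
  have hdec := hD.decomp.decomp
  have ht : 2 ≤ t := hdec.two_le
  let i₀ : Fin t := ⟨0, by omega⟩
  have hpos : 0 < Module.finrank F (D i₀) := by rw [hdec.finrank_eq]; exact one_pos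
  obtain ⟨v₀, hv₀⟩ := Module.finrank_pos_iff_exists_ne_zero.1 hpos
  choose e he using fun i => hD.isometric i₀ i
  set w : Fin t → (OI m → F) := fun i => ((e i v₀ : D i) : OI m → F) with hw
  have hwmem : ∀ i, w i ∈ D i := fun i => (e i v₀).2
  have hwne' : ∀ i, (e i v₀ : D i) ≠ 0 := fun i h0 => hv₀ ((e i).map_eq_zero_iff.1 h0)
  have hwne : ∀ i, w i ≠ 0 := fun i h0 => hwne' i (Subtype.ext h0)
  set c : F := Qb (v₀ : OI m → F) with hc
  have hwQ : ∀ i, Qb (w i) = c := fun i => he i v₀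
  -- each `D i` is spanned by `w i`
  have hspan : ∀ i, ∀ x ∈ D i, ∃ a : F, x = a • w i := by
    intro i x hx
    obtain ⟨a, ha⟩ := (finrank_eq_one_iff_of_nonzero' (e i v₀ : D i) (hwne' i)).1 (hdec.finrank_eq i) ⟨x, hx⟩
    refine ⟨a, ?_⟩
    have := congrArg (Subtype.val) ha
    simpa using this.symm
  -- `c ≠ 0`
  have hc0 : c ≠ 0 := by
    intro h0
    obtain ⟨⟨x, hx, hxv⟩, -⟩ := hD.decomp.nondegenerate i₀ (v₀ : OI m → F) v₀.2
      (fun h0' => hv₀ (Subtype.ext h0'))
    obtain ⟨a, ha⟩ := (finrank_eq_one_iff_of_nonzero' v₀ hv₀).1 (hdec.finrank_eq i₀) ⟨x, hx⟩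
    have hxa : x = a • (v₀ : OI m → F) := by
      have := congrArg (Subtype.val) ha
      simpa using this.symm
    apply hxv
    rw [hxa, QuadraticMap.polar_smul_left, QuadraticMap.polar_self, ← hc, h0]
    simp
  have horth : ∀ i j, i ≠ j → QuadraticMap.polar Qb (w i) (w j) = 0 := fun i j hij =>
    hD.decomp.orthogonal i j hij _ (hwmem i) _ (hwmem j)
  -- the frame is a basis
  have hli : LinearIndependent F w := hdec.indep.linearIndependent D hwmem hwne
  have hsp : ⊤ ≤ Submodule.span F (Set.range w) := by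
    rw [← hdec.iSup_eq_top]
    apply iSup_le
    intro i x hx
    obtain ⟨a, rfl⟩ := hspan i x hx
    exact Submodule.smul_mem _ _ (Submodule.subset_span ⟨i, rfl⟩)
  set b₀ : Basis (Fin t) F (OI m → F) := Basis.mk hli hsp with hb₀
  have hcard : Fintype.card (OI m) = Fintype.card (Fin t) := by
    rw [← Module.finrank_eq_card_basis b₀, Module.finrank_fintype_fun_eq_card]
  set ε : OI m ≃ Fin t := Fintype.equivOfCardEq hcard with hε
  set b : Basis (OI m) F (OI m → F) := b₀.reindex ε.symm with hb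
  have hbw : ∀ j, b j = w (ε j) := by
    intro j
    rw [hb, Basis.reindex_apply, Equiv.symm_symm, hb₀, Basis.mk_apply]
  -- discriminant
  obtain ⟨d, hd⟩ := det_gram_orth Qb b c (fun j => by rw [hbw]; exact hwQ _)
    (fun j k hjk => by
      rw [hbw, hbw]
      exact horth _ _ (fun h => hjk (ε.injective h)))
  have hdet : (Matrix.of fun i j : OI m => QuadraticMap.polar Qb (Pi.single i 1) (Pi.single j 1)).det
      = 2 * (-1) ^ m := by
    rw [hcoe]; exact Helper44_StdForms.det_gram_quadFormOdd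
  have hcardOI : Fintype.card (OI m) = 2 * m + 1 := by
    simp [OI]; ring
  rw [hdet, hcardOI] at hd
  obtain ⟨μ, hμ0, hμ⟩ := exists_mu h2 c d hc0 m hd
  -- the rescaled frame
  set b' : Basis (OI m) F (OI m → F) := b.isUnitSMul (fun _ => (IsUnit.mk0 μ hμ0)) with hb'
  have hb'w : ∀ j, b' j = μ • w (ε j) := by
    intro j
    rw [hb', Basis.isUnitSMul_apply, hbw]
  have hb'Q : ∀ j, Qb (b' j) = (-1) ^ m := by
    intro j
    rw [hb'w, QuadraticMap.map_smul, hwQ, smul_eq_mul, ← hμ]; ring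
  have hb'orth : ∀ j k, j ≠ k → QuadraticMap.polar Qb (b' j) (b' k) = 0 := by
    intro j k hjk
    rw [hb'w, hb'w, QuadraticMap.polar_smul_left, QuadraticMap.polar_smul_right,
      horth _ _ (fun h => hjk (ε.injective h))]
    simp
  set P : GL (OI m) F := glOfLinearEquiv b'.equivFun.symm with hP
  have hPv : ∀ u : OI m → F, (P : Matrix (OI m) (OI m) F) *ᵥ u = ∑ j, u j • b' j := by
    intro u
    rw [hP, glOfLinearEquiv_mulVec, Basis.equivFun_symm_apply]
  have hPs : ∀ j, (P : Matrix (OI m) (OI m) F) *ᵥ Pi.single j 1 = b' j := by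
    intro j
    rw [hPv, Finset.sum_eq_single j]
    · simp
    · intro k _ hk
      rw [Pi.single_apply, if_neg hk, zero_smul]
    · intro hj; exact absurd (Finset.mem_univ j) hj
  -- the subfield
  obtain ⟨F₁, r, hr, -, hF₁⟩ := Helper35_Asch_PK11.exists_prime_index_subfield (⊥ : Subfield F)
    (bot_ne_top_of_not_prime hnp)
  have hm1 : ((-1 : F)) ^ m ≠ 0 := pow_ne_zero _ (neg_ne_zero.2 one_ne_zero)
  have hle : H ≤ subfieldSubgroup F₁ P := by
    apply le_subfieldSubgroup_of_monomial (⇑Qb) (fun a v => by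
        rw [QuadraticMap.map_smul, smul_eq_mul]; ring) P (fun j => b' j) hPs ((-1) ^ m) hm1 hb'Q F₁ H
    · intro h hh v
      exact (mem_isometryGroup_iff _ h).1 (hHI hh) v
    · intro h hh j
      obtain ⟨σ, hσ⟩ := hHD hh
      have hmem : (h : Matrix (OI m) (OI m) F) *ᵥ b' j ∈ D (σ (ε j)) := by
        rw [← hσ (ε j)]
        refine ⟨b' j, ?_, Matrix.toLin'_apply _ _⟩
        rw [hb'w]
        exact Submodule.smul_mem _ _ (hwmem _)
      obtain ⟨a, ha⟩ := hspan _ _ hmem
      refine ⟨ε.symm (σ (ε j)), a * μ⁻¹, ?_⟩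
      rw [ha, hb'w, Equiv.apply_symm_apply, smul_smul, mul_assoc, inv_mul_cancel₀ hμ0, mul_one]
  have hrat : IsQuadFormRationalStructure (quadFormOdd m F) F₁ P := by
    intro u hu
    rw [← hcoe, hPv, map_sum_orth Qb h2 (fun j => b' j) ((-1) ^ m) hb'Q hb'orth u]
    apply Subfield.sum_mem
    intro j _
    exact mul_mem (pow_mem (hu j) 2) (pow_mem (neg_mem (one_mem _)) m)
  rw [hcoe] at hHI
  refine ⟨subfieldSubgroup F₁ P ⊓ isometryGroup F (quadFormOdd m F), ?_, le_inf hle hHI⟩
  exact Or.inr (Or.inr (Or.inr (Or.inr (Or.inr (Or.inr (Or.inl ⟨F₁, r, P, hr, hF₁, hrat, rfl⟩))))))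

end Cfsg.Agent.Lib.Helper64_OrthOdd_OP2b
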