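/-
S5673 (helper29): Aschbacher's theorem for the odd-dimensional orthogonal groups, the assembly.
`main`: every subgroup `H` of the isometry group of `quadFormOdd m F` (`|F|` odd, `m ≥ 3`) lies in a member of a geometric
class or is in the residual class.  Packages: OP1, OP2a (helper10), OP2b (helper64), OP3, OP5 (helper47), OP4 (helper34),
OP6 (helper54), OP7a (helper24), OP7b (helper32), OG2, OG3 (helper7), OP8, OG1, OG4 (helper29); Clifford: helper98.
-/
import Mathlib
import Cfsg.Agent.Lib.Helper98_AschDefs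
import Cfsg.Agent.Lib.Helper98_AschCliff
import Cfsg.Agent.Lib.Helper29_OrthOddDefs
import Cfsg.Agent.Lib.Helper29_Asch_PKG0
import Cfsg.Agent.Lib.Helper29_Asch_PKP1
import Cfsg.Agent.Lib.Helper29_OrthOdd_Glue
import Cfsg.Agent.Lib.Helper10_OrthOdd_OP1
import Cfsg.Agent.Lib.Helper10_OrthOdd_OP2a
import Cfsg.Agent.Lib.Helper64_OrthOdd_OP2b
import Cfsg.Agent.Lib.Helper47_OrthOdd_OP3
import Cfsg.Agent.Lib.Helper34_OrthOdd_OP4
import Cfsg.Agent.Lib.Helper47_OrthOdd_OP5
import Cfsg.Agent.Lib.Helper24_OrthOdd_OP7a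
import Cfsg.Agent.Lib.Helper32_OrthOdd_OP7b
import Cfsg.Agent.Lib.Helper7_OrthOdd_OG2
import Cfsg.Agent.Lib.Helper7_OrthOdd_OG3
import Cfsg.Agent.Lib.Helper54_OrthOdd_OP6

set_option autoImplicit false

namespace Cfsg.Agent.Lib.Helper29_OrthOddMain

open Cfsg Cfsg.Geo Matrix Cfsg.Agent.Lib.Helper98_AschDefs Cfsg.Agent.Lib.Helper29_OrthOddDefs
open scoped Kronecker MatrixGroups

variable {F : Type*} [Field F]

/-- the assembly -/
theorem main [Fintype F] (hodd : Odd (Fintype.card F)) (m : ℕ) (hm : 3 ≤ m) (H : Subgroup (GL (OI m) F))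
    (hHI : H ≤ isometryGroup F (quadFormOdd m F)) :
    InOClass m H ∨ InOrthogonalResidualClass H := by
  classical
  have h2 : (2 : F) ≠ 0 := Cfsg.Agent.Lib.Helper29_OrthOdd_Glue.two_ne_zero_of_odd_card hodd
  have hcard : Fintype.card (OI m) = 2 * m + 1 := by
    simp [OI]; ring
  by_cases hirr : ActsIrreducibly (matrixSet H)
  swap
  · exact Or.inl (Cfsg.Agent.Lib.Helper10_OrthOdd_OP1.OP1 hodd m hm H hHI hirr)
  have hHZ : ¬ H ≤ scalars (OI m) F := Cfsg.Agent.Lib.Helper29_OrthOdd_Glue.OG1 H (by omega) hirr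
  obtain ⟨N, hNH, hnorm, hNZ, hmin⟩ := Cfsg.Agent.Lib.Helper29_Asch_PKG0.PKG0 H hHZ
  have hNI : N ≤ isometryGroup F (quadFormOdd m F) := hNH.trans hHI
  have hA : NormalizesAlg H (spanAlg N) := normalizesAlg_spanAlg hnorm
  have hAadj := Cfsg.Agent.Lib.Helper7_OrthOdd_OG2.OG2 (quadFormOdd m F) (Cfsg.Agent.Lib.Helper7_OrthOdd_OG3.OG3 m h2) N hNI
  have : Nonempty (OI m) := ⟨Sum.inl ()⟩
  rcases Cfsg.Agent.Lib.Helper98_AschCliff.clifford H hirr (spanAlg N) hA with
    ⟨t, k, D, hD, hHD, hAD, hCD⟩ | ⟨hz, hinv⟩ | ⟨d, s, e, P, hT⟩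
  · -- imprimitive
    left
    have hOD := Cfsg.Agent.Lib.Helper10_OrthOdd_OP2a.OP2a hodd m hm H hHI hirr (spanAlg N) hAadj t k D hD hHD hAD hCD
    by_cases hk : 1 < k
    · exact ⟨decompositionStabilizer D ⊓ isometryGroup F (quadFormOdd m F),
        Or.inr (Or.inr (Or.inl ⟨t, k, D, hk, hOD, rfl⟩)), le_inf hHD hHI⟩
    · have hk1 : k = 1 := by
        have := hD.pos
        omega
      subst hk1
      by_cases hp : (Fintype.card F).Prime
      · exact ⟨decompositionStabilizer D ⊓ isometryGroup F (quadFormOdd m F),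
          Or.inr (Or.inr (Or.inr (Or.inl ⟨t, D, hp, hOD, rfl⟩))), le_inf hHD hHI⟩
      · exact Cfsg.Agent.Lib.Helper64_OrthOdd_OP2b.OP2b hodd m hm H hHI t D hOD hHD hp
  · -- extension field
    exact Or.inl (Cfsg.Agent.Lib.Helper47_OrthOdd_OP3.OP3 hodd m hm H hHI hirr (spanAlg N) hA hAadj hz hinv)
  · -- tensor algebra
    have hds : d * s = 2 * m + 1 := by
      have := Fintype.card_congr e
      rw [hcard, Fintype.card_prod, Fintype.card_fin, Fintype.card_fin] at this
      exact this.symm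
    have hd0 : d ≠ 0 := by rintro rfl; omega
    have hs0 : s ≠ 0 := by rintro rfl; omega
    by_cases hd : 1 < d
    · by_cases hs : 1 < s
      · exact Or.inl (Cfsg.Agent.Lib.Helper34_OrthOdd_OP4.OP4 hodd m hm H hHI (spanAlg N) hA hAadj d s e P hT hd hs)
      · have hs1 : s = 1 := by omega
        have hspan : spanAlg N = ⊤ := (Cfsg.Agent.Lib.Helper29_OrthOdd_Glue.OG4 (spanAlg N) d s e P hT).1 hs1
        have hcn : NormalizesGrp H ⁅N, N⁆ :=
          Cfsg.Agent.Lib.Helper29_Asch_PKP1.NormBy.commutator hnorm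
        have hcle : ⁅N, N⁆ ≤ N := Cfsg.Agent.Lib.Helper29_Asch_PKP1.commutator_self_le N
        rcases hmin ⁅N, N⁆ hcle hcn with hperf | hnil
        · obtain ⟨k, S, hk0, hSN, hSnorm, hSZ, hcomm, hsup, hperm, htrans, hSmin⟩ :=
            Cfsg.Agent.Lib.Helper29_Asch_PKP1.PKP1 H N hNH hnorm hNZ hmin hperf
          by_cases hk : 2 ≤ k
          · exact Or.inl (Cfsg.Agent.Lib.Helper54_OrthOdd_OP6.OP6 hodd m hm H N hHI hperf hspan k hk S hSN (fun i => (hSN i).trans hNH)
              hSnorm hSZ hcomm hsup hperm htrans)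
          · have hk1 : k = 1 := by omega
            subst hk1
            have hS0 : S 0 = N := by
              rw [← hsup]
              apply le_antisymm
              · exact le_iSup S 0
              · apply iSup_le
                intro i
                rw [Subsingleton.elim i 0]
            have hsimple : ∀ T : Subgroup (GL (OI m) F), T ≤ N → NormalizesGrp N T →
                T = N ∨ T ≤ scalars (OI m) F := by
              intro T hT hTn
              have := hSmin 0 T (hS0 ▸ hT) hTn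
              rwa [hS0] at this
            by_cases hreal : ∃ F₀ : Subfield F, F₀ ≠ ⊤ ∧ RealisableOver F₀ (matrixSet N)
            · obtain ⟨F₀, hF₀, hr⟩ := hreal
              exact Or.inl (Cfsg.Agent.Lib.Helper24_OrthOdd_OP7a.OP7a hodd m hm H N hHI hNH hnorm hspan F₀ hF₀ hr)
            · right
              have hnr : ∀ F₀ : Subfield F, F₀ ≠ ⊤ → ¬ RealisableOver F₀ (matrixSet N) :=
                fun F₀ hF₀ hr => hreal ⟨F₀, hF₀, hr⟩
              refine ⟨N, Cfsg.Agent.Lib.Helper29_OrthOdd_Glue.OP8 H N hNH hnorm hNZ hperf hspan hsimple hnr, ?_⟩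
              rintro ⟨σ, f, hf, hNf⟩
              have hNQ : FixesQuadForm (matrixSet N) (quadFormOdd m F) := by
                rintro _ ⟨g, hg, rfl⟩ v
                exact (mem_isometryGroup_iff _ g).mp (hNI hg) v
              exact hreal (Cfsg.Agent.Lib.Helper32_OrthOdd_OP7b.OP7b h2 N hspan (quadFormOdd m F) (Cfsg.Agent.Lib.Helper7_OrthOdd_OG3.OG3 m h2) hNQ σ f hf hNf)
        · exact (Cfsg.Agent.Lib.Helper47_OrthOdd_OP5.OP5 m (by omega) N hNI hspan hnil h2).elim
    · have hd1 : d = 1 := by omega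
      exfalso
      apply hNZ
      intro g hg
      obtain ⟨c, hc⟩ := (Cfsg.Agent.Lib.Helper29_OrthOdd_Glue.OG4 (spanAlg N) d s e P hT).2 hd1 _ (coe_mem_spanAlg hg)
      rw [mem_scalars_iff]
      have hc0 : c ≠ 0 := by
        rintro rfl
        rw [zero_smul] at hc
        have h1 : ((g * g⁻¹ : GL (OI m) F) : Matrix (OI m) (OI m) F) = 0 := by
          rw [Units.val_mul, hc, zero_mul]
        rw [mul_inv_cancel, Units.val_one] at h1
        exact one_ne_zero h1
      exact ⟨Units.mk0 c hc0, hc⟩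

end Cfsg.Agent.Lib.Helper29_OrthOddMain
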