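import Mathlib
import Cfsg.Agent.Lib.Helper94_Symp

set_option autoImplicit false

/-!
The group of similarities of a nondegenerate alternating form (intersected with the group `K`
generated by all transvections, i.e. the special linear group) is maximal in `K`.
Abstract setting of `Helper94_Symp`.
-/

namespace Cfsg.Agent.Lib.Helper94_SympSim

open Module Cfsg.Agent.Lib.Helper94_Symp

variable {F V : Type*} [Field F] [AddCommGroup V] [Module F V]

section

variable (B : LinearMap.BilinForm F V) (hB : B.IsAlt)

/-- A variant of `exists_move` with the nondegeneracy assumptions stated for the two vectors only. -/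
theorem exists_move' {W : Submodule F V} {v v' : V} (hv : v ∈ W) (hv' : v' ∈ W)
    (h1 : ∃ x ∈ W, B x v ≠ 0) (h2 : ∃ x ∈ W, B x v' ≠ 0) :
    ∃ a ∈ W, ∃ c : F, ∃ a' ∈ W, ∃ c' : F, (stv B hB a' c' * stv B hB a c) v = v' := by
  by_cases h : B v v' = 0
  · obtain ⟨z, hzW, hz1, hz2⟩ := exists_both_ne_zero B W h1 h2
    have hvz : B v z ≠ 0 := alt_ne_zero_comm B hB hz1
    refine ⟨v - z, W.sub_mem hv hzW, (B v z)⁻¹, z - v', W.sub_mem hzW hv', (B z v')⁻¹, ?_⟩
    rw [LinearEquiv.mul_apply, stv_move B hB hvz, stv_move B hB hz2]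
  · refine ⟨v - v', W.sub_mem hv hv', (B v v')⁻¹, 0, W.zero_mem, 0, ?_⟩
    rw [LinearEquiv.mul_apply, stv_move B hB h, stv_zero]
    rfl

/-- The general transvection `x ↦ x + B x a • v`, for `B v a = 0`. -/
def gtv (a v : V) (h : B v a = 0) : V ≃ₗ[F] V :=
  LinearEquiv.transvection (f := B.flip a) (v := v) (by simpa using h)

@[simp] lemma gtv_apply (a v : V) (h : B v a = 0) (x : V) : gtv B a v h x = x + B x a • v := by
  simp [gtv, LinearMap.transvection.apply]

lemma stv_eq_gtv (v : V) (c : F) (h : B v (c • v) = 0) : stv B hB v c = gtv B (c • v) v h := by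
  ext x
  simp

lemma gtv_mul (a a' v : V) (h : B v a = 0) (h' : B v a' = 0) (h'' : B v (a + a') = 0) :
    gtv B a v h * gtv B a' v h' = gtv B (a + a') v h'' := by
  ext x
  simp only [LinearEquiv.mul_apply, gtv_apply, map_add, map_smul, h]
  module

lemma conj_gtv {g : V ≃ₗ[F] V} (hg : g ∈ isoGroup B) (a v : V) (h : B v a = 0)
    (h' : B (g v) (g a) = 0) : g * gtv B a v h * g⁻¹ = gtv B (g a) (g v) h' := by
  ext x
  simp only [LinearEquiv.mul_apply, gtv_apply, map_add, map_smul]
  rw [isoGroup_inv_apply hg, apply_inv_apply']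

variable [FiniteDimensional F V]

include hB in
theorem maximal_sim (hN : B.Nondegenerate) (hdim : 3 ≤ finrank F V)
    (S K : Subgroup (V ≃ₗ[F] V))
    (hS : ∀ g, g ∈ S ↔ ∃ c : Fˣ, ∀ u v, B (g u) (g v) = (c : F) * B u v)
    (hK1 : ∀ (φ : Dual F V) (v : V) (h : φ v = 0), LinearEquiv.transvection h ∈ K)
    (hK2 : ∀ M : Subgroup (V ≃ₗ[F] V),
      (∀ (φ : Dual F V) (v : V) (h : φ v = 0), LinearEquiv.transvection h ∈ M) → K ≤ M) :
    (S ⊓ K < K) ∧ ∀ M : Subgroup (V ≃ₗ[F] V), S ⊓ K ≤ M → M ≤ K → M = S ⊓ K ∨ M = K := by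
  have hR : B.IsRefl := hB.isRefl
  have hNf : B.flip.Nondegenerate := hN.flip
  have hntriv : Nontrivial V := by
    apply Module.nontrivial_of_finrank_pos (R := F)
    omega
  -- every functional is `B · a`
  have hrep : ∀ φ : Dual F V, ∃ a : V, ∀ x, B x a = φ x := by
    intro φ
    refine ⟨(B.flip.toDual hNf).symm φ, fun x => ?_⟩
    exact LinearMap.BilinForm.apply_toDual_symm_apply (B := B.flip) (hB := hNf) φ x
  have hisoS : ∀ g, g ∈ isoGroup B → g ∈ S := by
    intro g hg
    rw [hS]
    exact ⟨1, fun u v => by rw [hg u v]; simp⟩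
  have hstvK : ∀ v c, stv B hB v c ∈ K := fun v c => hK1 _ _ _
  have hstvH : ∀ v c, stv B hB v c ∈ S ⊓ K := fun v c =>
    ⟨hisoS _ (stv_mem_isoGroup B hB v c), hstvK v c⟩
  have hgtvK : ∀ a v h, gtv B a v h ∈ K := fun a v h => hK1 _ _ _
  have hsep : ∀ y : V, y ≠ 0 → ∃ x, B x y ≠ 0 := by
    intro y hy
    by_contra hcon
    push Not at hcon
    exact hy (hN.2 y hcon)
  have htopnd : NondegOn B ⊤ := fun y _ hy0 => by
    obtain ⟨x, hx⟩ := hsep y hy0
    exact ⟨x, trivial, hx⟩
  constructor
  · -- proper
    refine lt_of_le_of_ne inf_le_right ?_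
    intro heq
    obtain ⟨v, hv0⟩ := exists_ne (0 : V)
    -- a ∈ v^⊥ \ span v
    have hfr : finrank F (B.orthogonal (Submodule.span F {v})) = finrank F V - 1 := by
      rw [LinearMap.BilinForm.finrank_orthogonal hN, finrank_span_singleton hv0]
    have hnotle : ¬ (B.orthogonal (Submodule.span F {v}) ≤ Submodule.span F {v}) := by
      intro hle
      have := Submodule.finrank_mono hle
      rw [hfr, finrank_span_singleton hv0] at this
      omega
    obtain ⟨a, haorth, hanot⟩ := SetLike.not_le_iff_exists.mp hnotle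
    have hva : B v a = 0 := (mem_orth B).mp haorth v (Submodule.mem_span_singleton_self v)
    have ht : gtv B a v hva ∈ S := by
      have : gtv B a v hva ∈ S ⊓ K := by rw [heq]; exact hgtvK _ _ _
      exact this.1
    rw [hS] at ht
    obtain ⟨c, hc⟩ := ht
    obtain ⟨y0, hy0⟩ := hsep v hv0
    have hvy0 : B v y0 ≠ 0 := alt_ne_zero_comm B hB hy0
    have hc1 : (c : F) = 1 := by
      have := hc v y0
      simp only [gtv_apply, map_add, map_smul, LinearMap.add_apply, LinearMap.smul_apply,
        smul_eq_mul, hva, hB v, zero_mul, mul_zero, add_zero] at this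
      have h2 : ((c : F) - 1) * B v y0 = 0 := by rw [sub_mul, one_mul, ← this]; ring
      rcases mul_eq_zero.mp h2 with h3 | h3
      · exact sub_eq_zero.mp h3
      · exact absurd h3 hvy0
    apply hanot
    rw [Submodule.mem_span_singleton]
    refine ⟨-(B y0 a) * (B v y0)⁻¹, ?_⟩
    have hzero : ∀ x, B x (a - (-(B y0 a) * (B v y0)⁻¹) • v) = 0 := by
      intro x
      have := hc x y0
      simp only [gtv_apply, map_add, map_smul, LinearMap.add_apply, LinearMap.smul_apply,
        smul_eq_mul, hB v, mul_zero, add_zero, hc1, one_mul] at this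
      -- this : B x y0 + B y0 a * B x v + B x a * B v y0 = B x y0  (up to arrangement)
      have h3 : B x a * B v y0 = - (B y0 a * B x v) := by linear_combination this
      rw [map_sub, map_smul, smul_eq_mul]
      field_simp
      linear_combination h3
    have := hN.2 _ hzero
    rw [sub_eq_zero] at this
    exact this.symm
  · intro M hHM hMK
    by_cases hMS : M ≤ S
    · left
      exact le_antisymm (fun g hg => ⟨hMS hg, hMK hg⟩) hHM
    · right
      apply le_antisymm hMK
      obtain ⟨g, hgM, hgS⟩ := SetLike.not_le_iff_exists.mp hMS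
      -- the sets A_v
      let Aset : V → Set V := fun v => {a | ∃ h : B v a = 0, gtv B a v h ∈ M}
      have h3a : ∀ (v : V) (c : F), c • v ∈ Aset v := by
        intro v c
        have h0 : B v (c • v) = 0 := by rw [map_smul, hB v, smul_zero]
        refine ⟨h0, ?_⟩
        rw [← stv_eq_gtv B hB v c h0]
        exact hHM (hstvH v c)
      have h3b : ∀ v a a', a ∈ Aset v → a' ∈ Aset v → a + a' ∈ Aset v := by
        rintro v a a' ⟨h, hm⟩ ⟨h', hm'⟩
        have h'' : B v (a + a') = 0 := by rw [map_add, h, h', add_zero]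
        refine ⟨h'', ?_⟩
        rw [← gtv_mul B a a' v h h' h'']
        exact M.mul_mem hm hm'
      have h3c : ∀ (k : V ≃ₗ[F] V), k ∈ M → k ∈ isoGroup B → ∀ v a, a ∈ Aset v →
          k a ∈ Aset (k v) := by
        rintro k hkM hkI v a ⟨h, hm⟩
        have h' : B (k v) (k a) = 0 := by rw [hkI, h]
        refine ⟨h', ?_⟩
        rw [← conj_gtv B hkI a v h h']
        exact M.mul_mem (M.mul_mem hkM hm) (M.inv_mem hkM)
      -- the "adjoint" map attached to g
      let A : V →ₗ[F] V := (B.flip.toDual hNf).symm.toLinearMap ∘ₗ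
        ((g⁻¹ : V ≃ₗ[F] V).toLinearMap).dualMap ∘ₗ B.flip ∘ₗ (g⁻¹ : V ≃ₗ[F] V).toLinearMap
      have hA : ∀ x y, B x (A y) = B (g⁻¹ x) (g⁻¹ y) := by
        intro x y
        exact LinearMap.BilinForm.apply_toDual_symm_apply (B := B.flip) (hB := hNf)
          (((g⁻¹ : V ≃ₗ[F] V).toLinearMap).dualMap (B.flip (g⁻¹ y))) x
      have hLI : ∃ v, LinearIndependent F ![v, A v] := by
        by_contra hcon
        push Not at hcon
        obtain ⟨a, ha⟩ := LinearMap.exists_eq_smul_id_of_forall_notLinearIndependent hcon
        have hform : ∀ x y, B (g⁻¹ x) (g⁻¹ y) = a * B x y := by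
          intro x y
          rw [← hA, ha]
          simp
        have ha0 : a ≠ 0 := by
          rintro rfl
          obtain ⟨v, hv0⟩ := exists_ne (0 : V)
          obtain ⟨x, hx⟩ := hsep v hv0
          have := hform (g x) (g v)
          rw [inv_apply_apply', inv_apply_apply', zero_mul] at this
          exact hx this
        apply hgS
        have : g⁻¹ ∈ S := by
          rw [hS]
          exact ⟨Units.mk0 a ha0, fun u v => by rw [hform]; rfl⟩
        simpa using S.inv_mem this
      obtain ⟨v, hv⟩ := hLI
      rw [LinearIndependent.pair_iff] at hv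
      have hv0 : v ≠ 0 := by
        rintro rfl
        have := (hv 1 0 (by simp)).1
        exact one_ne_zero this
      set a0 := A v with ha0
      have ha0span : a0 ∉ Submodule.span F {v} := by
        intro hmem
        obtain ⟨c, hc⟩ := Submodule.mem_span_singleton.mp hmem
        have := (hv c (-1) (by rw [hc, neg_one_smul, add_neg_cancel])).2
        exact one_ne_zero (neg_eq_zero.mp this)
      have hva0 : B v a0 = 0 := by rw [ha0, hA, hB]
      have ha0A : a0 ∈ Aset v := by
        refine ⟨hva0, ?_⟩
        have : gtv B a0 v hva0 = g * stv B hB (g⁻¹ v) 1 * g⁻¹ := by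
          ext x
          simp only [gtv_apply, LinearEquiv.mul_apply, stv_apply, map_add, map_smul, one_mul,
            apply_inv_apply']
          rw [ha0, hA]
        rw [this]
        exact M.mul_mem (M.mul_mem hgM (hHM (hstvH _ _))) (M.inv_mem hgM)
      -- step 5: all of v^⊥ is in Aset v
      set Wv := B.orthogonal (Submodule.span F {v}) with hWv
      have hmemWv : ∀ a, a ∈ Wv ↔ B v a = 0 := by
        intro a
        rw [hWv, mem_orth]
        constructor
        · intro h; exact h v (Submodule.mem_span_singleton_self v)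
        · intro h n hn
          obtain ⟨c, rfl⟩ := Submodule.mem_span_singleton.mp hn
          rw [map_smul, LinearMap.smul_apply, h, smul_zero]
      have hexW : ∀ a, a ∉ Submodule.span F {v} → ∃ x ∈ Wv, B x a ≠ 0 := by
        intro a ha
        by_contra hcon
        push Not at hcon
        apply ha
        rw [← LinearMap.BilinForm.orthogonal_orthogonal hN hR (Submodule.span F {v})]
        exact (mem_orth B).mpr hcon
      have h5 : ∀ a, B v a = 0 → a ∈ Aset v := by
        intro a hva
        by_cases haspan : a ∈ Submodule.span F {v}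
        · obtain ⟨c, rfl⟩ := Submodule.mem_span_singleton.mp haspan
          exact h3a v c
        · obtain ⟨b1, hb1, c1, b2, hb2, c2, hmove⟩ :=
            exists_move' B hB ((hmemWv a0).mpr hva0) ((hmemWv a).mpr hva)
              (hexW a0 ha0span) (hexW a haspan)
          set k := stv B hB b2 c2 * stv B hB b1 c1 with hk
          have hkM : k ∈ M := M.mul_mem (hHM (hstvH _ _)) (hHM (hstvH _ _))
          have hkI : k ∈ isoGroup B :=
            (isoGroup B).mul_mem (stv_mem_isoGroup _ _ _ _) (stv_mem_isoGroup _ _ _ _)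
          have hkv : k v = v := by
            rw [hk, LinearEquiv.mul_apply, stv_fix B hB c1 ((hmemWv b1).mp hb1),
              stv_fix B hB c2 ((hmemWv b2).mp hb2)]
          have := h3c k hkM hkI v a0 ha0A
          rwa [hmove, hkv] at this
      -- step 6: all transvections
      apply hK2
      intro φ v' hφ
      obtain ⟨a', ha'⟩ := hrep φ
      have hv'a' : B v' a' = 0 := by rw [ha', hφ]
      have heq : LinearEquiv.transvection hφ = gtv B a' v' hv'a' := by
        ext x
        simp [LinearMap.transvection.apply, ha']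
      rw [heq]
      by_cases hv'0 : v' = 0
      · have : gtv B a' v' hv'a' = 1 := by
          ext x
          simp [hv'0]
        rw [this]; exact M.one_mem
      · obtain ⟨b1, -, c1, b2, -, c2, hmove⟩ :=
          exists_move B hB htopnd (Submodule.mem_top : v ∈ ⊤) (Submodule.mem_top : v' ∈ ⊤) hv0 hv'0
        set k := stv B hB b2 c2 * stv B hB b1 c1 with hk
        have hkM : k ∈ M := M.mul_mem (hHM (hstvH _ _)) (hHM (hstvH _ _))
        have hkI : k ∈ isoGroup B :=
          (isoGroup B).mul_mem (stv_mem_isoGroup _ _ _ _) (stv_mem_isoGroup _ _ _ _)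
        have h1 : B v (k⁻¹ a') = 0 := by
          have := hkI v (k⁻¹ a')
          rw [apply_inv_apply', hmove, hv'a'] at this
          exact this.symm
        have h2 := h3c k hkM hkI v _ (h5 _ h1)
        rw [apply_inv_apply', hmove] at h2
        obtain ⟨_, hm⟩ := h2
        exact hm

end

end Cfsg.Agent.Lib.Helper94_SympSim
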