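import Mathlib
import Cfsg.Agent.Lib.Helper94_Symp
import Cfsg.Agent.Lib.Helper94_SympSim
import Cfsg.Agent.Lib.Helper94_HermSim
import Cfsg.Agent.Lib.Helper94_OrthSmall
import Cfsg.Agent.Lib.Helper94_OrthSiegel
import Cfsg.Agent.Lib.Helper94_OrthSiegel2
import Cfsg.Agent.Lib.Helper94_OrthNondeg
import Cfsg.Agent.Lib.Helper94_OrthTS
import Cfsg.Agent.Lib.Helper94_OrthHyp

set_option autoImplicit false

/-!
The group of similarities of a nondegenerate quadratic form over a finite field of odd
characteristic, intersected with the group `K` generated by all transvections (the special linear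
group), is maximal in `K` (dimension at least thirteen).  The proof produces a transvection as a
commutator of Siegel elements of two non-proportional quadratic forms (helper94).
-/

namespace Cfsg.Agent.Lib.Helper94_OrthSim

open Module Cfsg.Agent.Lib.Helper94_Symp Cfsg.Agent.Lib.Helper94_SympSim
  Cfsg.Agent.Lib.Helper94_OrthSmall
  Cfsg.Agent.Lib.Helper94_OrthSiegel Cfsg.Agent.Lib.Helper94_OrthSiegel2
  Cfsg.Agent.Lib.Helper94_OrthNondeg Cfsg.Agent.Lib.Helper94_OrthTS
  Cfsg.Agent.Lib.Helper94_OrthHyp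

variable {F V : Type*} [Field F] [AddCommGroup V] [Module F V]

section

variable [Finite F] [FiniteDimensional F V]

/-- Every functional is represented by a vector. -/
lemma exists_rep' {B : LinearMap.BilinForm F V} (hsymm : ∀ u v : V, B u v = B v u)
    (hN : B.Nondegenerate) (φ : Dual F V) : ∃ a : V, ∀ x, B x a = φ x := by
  refine ⟨(B.toDual hN).symm φ, fun x => ?_⟩
  rw [hsymm]
  exact LinearMap.BilinForm.apply_toDual_symm_apply φ x

variable {Q Q' : V → F} {B B' : LinearMap.BilinForm F V}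
  (hQs : ∀ (c : F) (v : V), Q (c • v) = c * c * Q v)
  (hQp : ∀ u v : V, Q (u + v) = Q u + Q v + B u v)
  (hQs' : ∀ (c : F) (v : V), Q' (c • v) = c * c * Q' v)
  (hQp' : ∀ u v : V, Q' (u + v) = Q' u + Q' v + B' u v)

include hQs hQp hQs' hQp' in
/-- **Cone lemma**: a quadratic form vanishing on the singular vectors of a nondegenerate quadratic
form is proportional to it. -/
theorem quad_cone (h2 : (2 : F) ≠ 0) (hN' : B'.Nondegenerate) (h5 : 5 ≤ finrank F V)
    (hcone : ∀ v, Q' v = 0 → Q v = 0) : ∃ l : F, ∀ v, Q v = l * Q' v := by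
  have hsymm := B_symm Q B hQp
  have hsymm' := B_symm Q' B' hQp'
  have htopnd : ∀ a ∈ (⊤ : Submodule F V), a ≠ 0 → ∃ x ∈ (⊤ : Submodule F V), B' x a ≠ 0 := by
    intro a _ ha
    by_contra hcon
    push Not at hcon
    exact ha (hN'.2 a (fun x => hcon x trivial))
  obtain ⟨e, -, he0, hQ'e⟩ := exists_singular_in Q' B' hQs' hQp' ⊤ (by rw [finrank_top]; omega)
  obtain ⟨f, -, hQ'f, hef⟩ := exists_partner hQs' hQp' ⊤ htopnd trivial he0 hQ'e
  obtain ⟨hAnd, hAfr, hAproj⟩ := hyp_step hQs' hQp' ⊤ htopnd trivial trivial hQ'e hQ'f hef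
  rw [finrank_top] at hAfr
  have hfe : B' f e = 1 := by rw [hsymm']; exact hef
  have hQe : Q e = 0 := hcone e hQ'e
  have hQf : Q f = 0 := hcone f hQ'f
  obtain ⟨A, hAdef⟩ : ∃ A : Submodule F V, A = ((⊤ ⊓ LinearMap.ker (B'.flip e)) ⊓
      LinearMap.ker (B'.flip f) : Submodule F V) := ⟨_, rfl⟩
  rw [← hAdef] at hAnd hAfr hAproj
  have hAe : ∀ w ∈ A, B' w e = 0 := by
    intro w hw
    rw [hAdef] at hw
    exact mem_ker_flip.mp hw.1.2
  have hAf : ∀ w ∈ A, B' w f = 0 := by
    intro w hw
    rw [hAdef] at hw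
    exact mem_ker_flip.mp hw.2
  -- the key identity
  have key : ∀ w ∈ A, ∀ t : F, t ≠ 0 →
      Q w - B e f * Q' w + t * B w e - t⁻¹ * Q' w * B w f = 0 := by
    intro w hw t ht
    have h1 : Q' (w + (t • e + (-(t⁻¹ * Q' w)) • f)) = 0 := by
      rw [hQp', hQp', hQs', hQs', hQ'e, hQ'f]
      simp only [map_add, map_smul, LinearMap.add_apply, LinearMap.smul_apply, smul_eq_mul, hef,
        hsymm' w e, hsymm' w f]
      rw [hsymm' e w, hsymm' f w, hAe w hw, hAf w hw]
      field_simp
      ring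
    have h3 := hcone _ h1
    rw [hQp, hQp, hQs, hQs, hQe, hQf] at h3
    simp only [map_add, map_smul, LinearMap.add_apply, LinearMap.smul_apply, smul_eq_mul] at h3
    have h4 : t * (-(t⁻¹ * Q' w)) = -Q' w := by
      field_simp
    linear_combination h3 - (B e f) * h4
  have hQA : ∀ w ∈ A, Q w = B e f * Q' w := by
    intro w hw
    have h1 := key w hw 1 one_ne_zero
    have h3 := key w hw (-1) (neg_ne_zero.mpr one_ne_zero)
    have h4 : (2 : F) * (Q w - B e f * Q' w) = 0 := by
      have e1 : ((-1 : F))⁻¹ = -1 := by norm_num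
      rw [e1] at h3
      rw [inv_one] at h1
      linear_combination h1 + h3
    rcases mul_eq_zero.mp h4 with h | h
    · exact absurd h h2
    · linear_combination h
  have hBe : ∀ w ∈ A, Q' w = 0 → B w e = 0 := by
    intro w hw hQw
    have h1 := key w hw 1 one_ne_zero
    have h3 := hQA w hw
    rw [hQw] at h1 h3
    linear_combination h1 - h3
  have hBf : ∀ w ∈ A, Q' w = 0 → B w f = 0 := by
    intro w hw hQw
    have h0 := hQA w hw
    rw [hQw, mul_zero] at h0
    -- use the singular vector `w + f`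
    have h1 : Q' (w + f) = 0 := by rw [hQp', hQw, hQ'f, hAf w hw]; ring
    have h3 := hcone _ h1
    rw [hQp, h0, hQf] at h3
    linear_combination h3
  have hlin : ∀ (x0 : V), (∀ w ∈ A, Q' w = 0 → B w x0 = 0) → ∀ w ∈ A, B w x0 = 0 := by
    intro x0 hx0 w hw
    obtain ⟨a, ha⟩ := exists_rep' hsymm' hN' (B.flip x0)
    by_contra hne
    have hex : ∃ x ∈ A, B' x a ≠ 0 := ⟨w, hw, by rw [ha]; exact hne⟩
    obtain ⟨s, hsA, hQs0, hsa⟩ := exists_sing_not_orth Q' B' hQs' hQp' A hAnd (by omega) hex
    apply hsa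
    rw [ha]
    exact hx0 s hsA hQs0
  have hBeA := hlin e hBe
  have hBfA := hlin f hBf
  refine ⟨B e f, fun x => ?_⟩
  have hw := hAproj x trivial
  obtain ⟨w, hwdef⟩ : ∃ w : V, w = x - B' x f • e - B' x e • f := ⟨_, rfl⟩
  rw [← hwdef] at hw
  have hx : x = w + (B' x f • e + B' x e • f) := by rw [hwdef]; abel
  have h1 : Q x = Q w + B e f * (B' x f * B' x e) := by
    conv_lhs => rw [hx]
    rw [hQp, hQp, hQs, hQs, hQe, hQf]
    simp only [map_add, map_smul, LinearMap.add_apply, LinearMap.smul_apply, smul_eq_mul]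
    rw [hBeA w hw, hBfA w hw]
    ring
  have h3 : Q' x = Q' w + B' x f * B' x e := by
    conv_lhs => rw [hx]
    rw [hQp', hQp', hQs', hQs', hQ'e, hQ'f]
    simp only [map_add, map_smul, LinearMap.add_apply, LinearMap.smul_apply, smul_eq_mul, hef]
    rw [hAe w hw, hAf w hw]
    ring
  rw [h1, h3, hQA w hw]
  ring

include hQs hQp in
/-- **Centre lemma**: if `M` contains the Siegel elements of `Q` and one transvection with singular
centre `c` whose functional is not a multiple of `B(·, c)`, then `M` contains all transvections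
with centre `c`. -/
theorem centre_full (hN : B.Nondegenerate) (h7 : 7 ≤ finrank F V) (M : Subgroup (V ≃ₗ[F] V))
    (hM : ∀ u z, Q u = 0 → B u z = 0 → sieg Q B u z ∈ M)
    {c : V} (hc0 : c ≠ 0) (hQc : Q c = 0) {w₀ : V} (hw₀c : B c w₀ = 0)
    (hT : gtv B w₀ c hw₀c ∈ M) (hw₀ : w₀ ∉ Submodule.span F {c}) :
    ∀ w (h : B c w = 0), gtv B w c h ∈ M := by
  have hsymm := B_symm Q B hQp
  have htopnd : ∀ a ∈ (⊤ : Submodule F V), a ≠ 0 → ∃ x ∈ (⊤ : Submodule F V), B x a ≠ 0 := by
    intro a _ ha
    by_contra hcon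
    push Not at hcon
    exact ha (hN.2 a (fun x => hcon x trivial))
  have hcc : B c c = 0 := by rw [B_self Q B hQs hQp, hQc, mul_zero]
  obtain ⟨d, -, hQd, hcd⟩ := exists_partner hQs hQp ⊤ htopnd trivial hc0 hQc
  obtain ⟨hAnd, hAfr, hAproj⟩ := hyp_step hQs hQp ⊤ htopnd trivial trivial hQc hQd hcd
  rw [finrank_top] at hAfr
  obtain ⟨A, hAdef⟩ : ∃ A : Submodule F V, A = ((⊤ ⊓ LinearMap.ker (B.flip c)) ⊓
      LinearMap.ker (B.flip d) : Submodule F V) := ⟨_, rfl⟩
  rw [← hAdef] at hAnd hAfr hAproj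
  have hAc : ∀ w ∈ A, B w c = 0 := by
    intro w hw
    rw [hAdef] at hw
    exact mem_ker_flip.mp hw.1.2
  have hcA : ∀ w ∈ A, B c w = 0 := fun w hw => by rw [hsymm]; exact hAc w hw
  -- the additive group of admissible functionals
  let D : AddSubgroup V :=
    { carrier := {w | ∃ h : B c w = 0, gtv B w c h ∈ M}
      zero_mem' := by
        refine ⟨by simp, ?_⟩
        have : gtv B 0 c (by simp) = 1 := by
          ext x
          simp
        rw [this]
        exact M.one_mem
      add_mem' := by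
        rintro a b ⟨ha, ham⟩ ⟨hb, hbm⟩
        have hab : B c (a + b) = 0 := by rw [map_add, ha, hb, add_zero]
        refine ⟨hab, ?_⟩
        rw [← gtv_mul B a b c ha hb hab]
        exact M.mul_mem ham hbm
      neg_mem' := by
        rintro a ⟨ha, ham⟩
        have hna : B c (-a) = 0 := by rw [map_neg, ha, neg_zero]
        refine ⟨hna, ?_⟩
        have h1 : gtv B a c ha * gtv B (-a) c hna = 1 := by
          rw [gtv_mul B a (-a) c ha hna (by simp)]
          ext x
          simp
        have h3 : gtv B (-a) c hna = (gtv B a c ha)⁻¹ := eq_inv_of_mul_eq_one_right h1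
        rw [h3]
        exact M.inv_mem ham }
  have hDmem : ∀ w, w ∈ D ↔ ∃ h : B c w = 0, gtv B w c h ∈ M := fun w => Iff.rfl
  have hDinv : ∀ g ∈ M, g ∈ oG Q → g c = c → ∀ w ∈ D, g w ∈ D := by
    rintro g hgM hgO hgc w ⟨hw, hwm⟩
    have hgI : g ∈ isoGroup B := mem_isoGroup.mpr (fun x y => oG_B Q B hQp hgO x y)
    have h' : B (g c) (g w) = 0 := by rw [oG_B Q B hQp hgO, hw]
    have hcj := conj_gtv B hgI w c hw h'
    have hm : gtv B (g w) (g c) h' ∈ M := by
      rw [← hcj]
      exact M.mul_mem (M.mul_mem hgM hwm) (M.inv_mem hgM)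
    have h'' : B c (g w) = 0 := by rw [hgc] at h'; exact h'
    refine ⟨h'', ?_⟩
    have e : gtv B (g w) c h'' = gtv B (g w) (g c) h' := by
      ext y
      simp [hgc]
    rw [e]
    exact hm
  have hw₀D : w₀ ∈ D := ⟨hw₀c, hT⟩
  -- the component of `w₀` in `A`
  obtain ⟨a₀, ha₀def⟩ : ∃ a₀ : V, a₀ = w₀ - B w₀ d • c := ⟨_, rfl⟩
  have ha₀A : a₀ ∈ A := by
    have := hAproj w₀ trivial
    rw [hsymm w₀ c, hw₀c, zero_smul, sub_zero] at this
    rw [ha₀def]
    exact this
  have ha₀0 : a₀ ≠ 0 := by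
    intro h
    apply hw₀
    rw [ha₀def, sub_eq_zero] at h
    rw [h]
    exact Submodule.smul_mem _ _ (Submodule.mem_span_singleton_self c)
  have hw₀A : ∀ x ∈ A, B w₀ x = B a₀ x := by
    intro x hx
    rw [ha₀def, map_sub, map_smul, LinearMap.sub_apply, LinearMap.smul_apply, hcA x hx,
      smul_zero, sub_zero]
  -- the subspace of vectors all of whose multiples are admissible
  let X : Submodule F V :=
    { carrier := {x | ∀ t : F, t • x ∈ D}
      add_mem' := by
        intro x y hx hy t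
        rw [smul_add]
        exact D.add_mem (hx t) (hy t)
      zero_mem' := by
        intro t
        rw [smul_zero]
        exact D.zero_mem
      smul_mem' := by
        intro s x hx t
        rw [smul_smul]
        exact hx (t * s) }
  have hXmem : ∀ x, x ∈ X ↔ ∀ t : F, t • x ∈ D := fun x => Iff.rfl
  have hfixc : ∀ u z, B c u = 0 → B c z = 0 → Q u = 0 → B u z = 0 → sieg Q B u z c = c := by
    intro u z hcu hcz hQu huz
    rw [sieg_apply Q B hQs hQp hQu huz, hcu, hcz]
    simp
  have hXinv : ∀ u ∈ A, ∀ v ∈ A, Q u = 0 → B u v = 0 → ∀ x ∈ X, sieg Q B u v x ∈ X := by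
    intro u hu v hv hQu huv x hx t
    rw [← map_smul]
    exact hDinv _ (hM u v hQu huv) (sieg_mem_oG Q B hQs hQp hQu huv)
      (hfixc u v (hcA u hu) (hcA v hv) hQu huv) _ (hx t)
  -- (i) the centre itself
  have hcX : c ∈ X := by
    obtain ⟨b, hbA, hba₀⟩ := hAnd a₀ ha₀A ha₀0
    have hw₀b : B w₀ b ≠ 0 := by rw [hw₀A b hbA, hsymm]; exact hba₀
    intro t
    have hcz : B c ((-t / B w₀ b) • b) = 0 := by rw [map_smul, hcA b hbA, smul_zero]
    have h1 := hDinv _ (hM c _ hQc hcz) (sieg_mem_oG Q B hQs hQp hQc hcz)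
      (hfixc c _ hcc hcz hQc hcz) w₀ hw₀D
    rw [sieg_apply Q B hQs hQp hQc hcz, hsymm w₀ c, hw₀c, zero_smul, add_zero, mul_zero,
      zero_smul, sub_zero, map_smul, smul_eq_mul, div_mul_cancel₀ _ hw₀b] at h1
    have h3 := D.sub_mem hw₀D h1
    rw [sub_sub_cancel, neg_smul] at h3
    have h4 := D.neg_mem h3
    rwa [neg_neg] at h4
  -- (ii) a nonzero vector of `A`
  obtain ⟨b, hbA, hba₀⟩ := hAnd a₀ ha₀A ha₀0
  obtain ⟨a, haA, hQa, haa₀⟩ := exists_sing_not_orth Q B hQs hQp A hAnd (by omega)
    ⟨b, hbA, hba₀⟩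
  have ha0 : a ≠ 0 := by
    rintro rfl
    apply haa₀
    simp
  obtain ⟨a₁, ha₁A, ha₁a⟩ := hAnd a haA ha0
  obtain ⟨b₂, hb₂A, hb₂0, hQb₂, hb₂a, hb₂a₁⟩ := exists_sing_orth2 Q B hQs hQp A (by omega) a a₁
  have hab₂ : B a b₂ = 0 := by rw [hsymm]; exact hb₂a
  have hw₀a : B w₀ a ≠ 0 := by rw [hw₀A a haA, hsymm]; exact haa₀
  have hyX : B w₀ a • b₂ - B w₀ b₂ • a ∈ X := by
    intro t
    have haz : B a (t • b₂) = 0 := by rw [map_smul, hab₂, smul_zero]
    have h1 := hDinv _ (hM a _ hQa haz) (sieg_mem_oG Q B hQs hQp hQa haz)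
      (hfixc a _ (hcA a haA) (by rw [map_smul, hcA b₂ hb₂A, smul_zero]) hQa haz) w₀ hw₀D
    rw [sieg_apply Q B hQs hQp hQa haz, hQs, hQb₂, mul_zero, zero_mul, zero_smul, sub_zero] at h1
    have h3 := D.sub_mem h1 hw₀D
    have e : w₀ + B w₀ a • t • b₂ - B w₀ (t • b₂) • a - w₀ =
        t • (B w₀ a • b₂ - B w₀ b₂ • a) := by
      rw [map_smul, smul_eq_mul]
      module
    rwa [e] at h3
  have hyA : B w₀ a • b₂ - B w₀ b₂ • a ∈ A :=
    A.sub_mem (A.smul_mem _ hb₂A) (A.smul_mem _ haA)
  have hy0 : B w₀ a • b₂ - B w₀ b₂ • a ≠ 0 := by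
    intro h
    have h5 : b₂ = (B w₀ b₂ / B w₀ a) • a := by
      rw [sub_eq_zero] at h
      rw [div_eq_inv_mul, ← smul_smul, ← h, smul_smul, inv_mul_cancel₀ hw₀a, one_smul]
    apply hb₂0
    have h6 := hb₂a₁
    rw [h5, map_smul, LinearMap.smul_apply, smul_eq_mul] at h6
    rcases mul_eq_zero.mp h6 with h7 | h7
    · rw [h5, h7, zero_smul]
    · exfalso
      apply ha₁a
      rw [hsymm]
      exact h7
  have hAX : A ≤ X := irr Q B hQs hQp A hAnd (by omega) X hXinv
    (a := B w₀ a • b₂ - B w₀ b₂ • a) (a' := 0) (by rw [add_zero]; exact hyX) hyA hy0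
    (fun y _ => by simp)
  -- (iv) conclusion
  intro w hw
  have h1 := hAproj w trivial
  rw [hsymm w c, hw, zero_smul, sub_zero] at h1
  have h3 : w ∈ X := by
    have : w = (w - B w d • c) + B w d • c := by abel
    rw [this]
    exact X.add_mem (hAX h1) (X.smul_mem _ hcX)
  have h4 := h3 1
  rw [one_smul] at h4
  obtain ⟨_, h5⟩ := h4
  exact h5

include hQs hQp in
/-- Two hyperplane sections drop the dimension by at most two, etc.: a chain of kernels. -/
lemma finrank_ker_chain (X : Submodule F V) (p : V) (B₁ : LinearMap.BilinForm F V) :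
    finrank F X ≤ finrank F (X ⊓ LinearMap.ker (B₁.flip p) : Submodule F V) + 1 :=
  finrank_le_inf_ker_add_one X (B₁.flip p)

include hQs hQp in
/-- **Maximality of the similarity group of a quadratic form in the group generated by
transvections.** -/
theorem maximal_osim (h2 : (2 : F) ≠ 0) (hN : B.Nondegenerate) (hdim : 13 ≤ finrank F V)
    (S K : Subgroup (V ≃ₗ[F] V))
    (hS : ∀ g, g ∈ S ↔ ∃ c : Fˣ, ∀ v, Q (g v) = (c : F) * Q v)
    (hK1 : ∀ (φ : Dual F V) (v : V) (h : φ v = 0), LinearEquiv.transvection h ∈ K)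
    (hK2 : ∀ M : Subgroup (V ≃ₗ[F] V),
      (∀ (φ : Dual F V) (v : V) (h : φ v = 0), LinearEquiv.transvection h ∈ M) → K ≤ M) :
    (S ⊓ K < K) ∧ ∀ M : Subgroup (V ≃ₗ[F] V), S ⊓ K ≤ M → M ≤ K → M = S ⊓ K ∨ M = K := by
  have hsymm := B_symm Q B hQp
  have htopnd : ∀ a ∈ (⊤ : Submodule F V), a ≠ 0 → ∃ x ∈ (⊤ : Submodule F V), B x a ≠ 0 := by
    intro a _ ha
    by_contra hcon
    push Not at hcon
    exact ha (hN.2 a (fun x => hcon x trivial))
  have hsiegH : ∀ u z, Q u = 0 → B u z = 0 → sieg Q B u z ∈ S ⊓ K := by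
    intro u z hu huz
    refine ⟨(hS _).mpr ⟨1, fun v => ?_⟩, ?_⟩
    · rw [sieg_mem_oG Q B hQs hQp hu huz v, Units.val_one, one_mul]
    · unfold sieg
      split_ifs
      · exact K.mul_mem (hK1 _ _ _) (hK1 _ _ _)
      · exact K.one_mem
  constructor
  · -- proper
    refine lt_of_le_of_ne inf_le_right ?_
    intro heq
    obtain ⟨e, -, he0, hQe⟩ := exists_singular_in Q B hQs hQp ⊤ (by rw [finrank_top]; omega)
    obtain ⟨f, -, hQf, hef⟩ := exists_partner hQs hQp ⊤ htopnd trivial he0 hQe
    obtain ⟨hAnd, hAfr, -⟩ := hyp_step hQs hQp ⊤ htopnd trivial trivial hQe hQf hef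
    rw [finrank_top] at hAfr
    obtain ⟨A, hAdef⟩ : ∃ A : Submodule F V, A = ((⊤ ⊓ LinearMap.ker (B.flip e)) ⊓
        LinearMap.ker (B.flip f) : Submodule F V) := ⟨_, rfl⟩
    rw [← hAdef] at hAnd hAfr
    have hA0 : A ≠ ⊥ := by
      intro h
      rw [h, finrank_bot] at hAfr
      omega
    obtain ⟨a, haA, ha0⟩ := Submodule.exists_mem_ne_zero_of_ne_bot hA0
    obtain ⟨y, hyA, hya⟩ := hAnd a haA ha0
    have hAe : ∀ w ∈ A, B w e = 0 := by
      intro w hw
      rw [hAdef] at hw
      exact mem_ker_flip.mp hw.1.2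
    have hAf : ∀ w ∈ A, B w f = 0 := by
      intro w hw
      rw [hAdef] at hw
      exact mem_ker_flip.mp hw.2
    have hea : B e a = 0 := by rw [hsymm]; exact hAe a haA
    have ht : gtv B a e hea ∈ S := by
      have : gtv B a e hea ∈ S ⊓ K := by
        rw [heq]
        exact hK1 _ _ _
      exact this.1
    obtain ⟨c, hc⟩ := (hS _).mp ht
    have hee : B e e = 0 := by rw [B_self Q B hQs hQp, hQe, mul_zero]
    have h1 := hc y
    rw [gtv_apply, Q_add_smul Q B hQs hQp, hQe, hAe y hyA, mul_zero, mul_zero, add_zero,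
      add_zero] at h1
    have hfy : B f y = 0 := by rw [hsymm]; exact hAf y hyA
    have hfa : B f a = 0 := by rw [hsymm]; exact hAf a haA
    have hfe : B f e = 1 := by rw [hsymm]; exact hef
    have hB1 : B (f + y) a = B y a := by rw [map_add, LinearMap.add_apply, hfa, zero_add]
    have hB2 : B (f + y) e = 1 := by
      rw [map_add, LinearMap.add_apply, hfe, hAe y hyA, add_zero]
    have hQfy : Q (f + y) = Q y := by
      rw [hQp, hQf, hfy]
      ring
    have h3 := hc (f + y)
    rw [gtv_apply, Q_add_smul Q B hQs hQp, hQe, hB1, hB2, hQfy] at h3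
    by_cases hQy : Q y = 0
    · rw [hQy] at h3
      apply hya
      linear_combination h3
    · have hc1 : (c : F) = 1 := by
        have : ((c : F) - 1) * Q y = 0 := by linear_combination -h1
        rcases mul_eq_zero.mp this with h | h
        · linear_combination h
        · exact absurd h hQy
      rw [hc1] at h3
      apply hya
      linear_combination h3
  · intro M hHM hMK
    by_cases hMS : M ≤ S
    · left
      exact le_antisymm (fun g hg => ⟨hMS hg, hMK hg⟩) hHM
    · right
      apply le_antisymm hMK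
      obtain ⟨g, hgM, hgS⟩ := SetLike.not_le_iff_exists.mp hMS
      have hM : ∀ u z, Q u = 0 → B u z = 0 → sieg Q B u z ∈ M := fun u z hu huz =>
        hHM (hsiegH u z hu huz)
      -- the second quadratic form
      obtain ⟨Q', hQ'def⟩ : ∃ Q' : V → F, Q' = fun v => Q (g v) := ⟨_, rfl⟩
      obtain ⟨B', hB'def⟩ : ∃ B' : LinearMap.BilinForm F V,
          B' = LinearMap.BilinForm.comp B (g : V →ₗ[F] V) (g : V →ₗ[F] V) := ⟨_, rfl⟩
      have hB'app : ∀ x y, B' x y = B (g x) (g y) := by
        intro x y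
        rw [hB'def]
        simp
      have hQ'app : ∀ v, Q' v = Q (g v) := by
        intro v
        rw [hQ'def]
      have hQs' : ∀ (c : F) (v : V), Q' (c • v) = c * c * Q' v := by
        intro c v
        rw [hQ'app, hQ'app, map_smul, hQs]
      have hQp' : ∀ u v : V, Q' (u + v) = Q' u + Q' v + B' u v := by
        intro u v
        rw [hQ'app, hQ'app, hQ'app, hB'app, map_add, hQp]
      have hsymm' := B_symm Q' B' hQp'
      have hN' : B'.Nondegenerate := by
        constructor
        · intro x hx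
          have : g x = 0 := hN.1 (g x) (fun y => by
            have := hx (g⁻¹ y)
            rwa [hB'app, apply_inv_apply'] at this)
          exact g.injective (this.trans (map_zero g).symm)
        · intro y hy
          have : g y = 0 := hN.2 (g y) (fun x => by
            have := hy (g⁻¹ x)
            rwa [hB'app, apply_inv_apply'] at this)
          exact g.injective (this.trans (map_zero g).symm)
      have hM' : ∀ u z, Q' u = 0 → B' u z = 0 → sieg Q' B' u z ∈ M := by
        intro u z hu huz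
        have hu1 : Q (g u) = 0 := by rw [← hQ'app]; exact hu
        have huz1 : B (g u) (g z) = 0 := by rw [← hB'app]; exact huz
        have : sieg Q' B' u z = g⁻¹ * sieg Q B (g u) (g z) * g := by
          ext x
          rw [LinearEquiv.mul_apply, LinearEquiv.mul_apply, sieg_apply Q' B' hQs' hQp' hu huz,
            sieg_apply Q B hQs hQp hu1 huz1]
          simp only [map_add, map_sub, map_smul, inv_apply_apply', hB'app, hQ'app]
        rw [this]
        exact M.mul_mem (M.mul_mem (M.inv_mem hgM) (hM _ _ hu1 huz1)) hgM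
      -- a vector singular for the second form only
      obtain ⟨u', hQ'u', hQu'⟩ : ∃ u', Q' u' = 0 ∧ Q u' ≠ 0 := by
        by_contra hcon
        push Not at hcon
        obtain ⟨l, hl⟩ := quad_cone hQs hQp hQs' hQp' h2 hN' (by omega) hcon
        have hl0 : l ≠ 0 := by
          rintro rfl
          obtain ⟨e, -, he0, hQe⟩ := exists_singular_in Q B hQs hQp ⊤
            (by rw [finrank_top]; omega)
          obtain ⟨f, -, hQf, hef⟩ := exists_partner hQs hQp ⊤ htopnd trivial he0 hQe
          have h1 := hQp e f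
          rw [hl, hl e, hl f, hef] at h1
          simp at h1
        apply hgS
        rw [hS]
        refine ⟨Units.mk0 l⁻¹ (inv_ne_zero hl0), fun v => ?_⟩
        rw [Units.val_mk0, hl v, ← hQ'app, ← mul_assoc, inv_mul_cancel₀ hl0, one_mul]
      have hu'u' : B u' u' ≠ 0 := by
        rw [B_self Q B hQs hQp]
        exact mul_ne_zero h2 hQu'
      have hu'u'' : B' u' u' = 0 := by rw [B_self Q' B' hQs' hQp', hQ'u', mul_zero]
      have hu'0 : u' ≠ 0 := by
        rintro rfl
        apply hQu'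
        exact Q_zero Q hQs
      -- the vector `u`
      obtain ⟨a', ha'⟩ := exists_rep' hsymm hN (B'.flip u')
      have ha'app : ∀ x, B x a' = B' x u' := fun x => by rw [ha']; rfl
      obtain ⟨U₁, hU₁def⟩ : ∃ U₁ : Submodule F V, U₁ = LinearMap.ker (B.flip u') := ⟨_, rfl⟩
      have hU₁mem : ∀ x, x ∈ U₁ ↔ B x u' = 0 := by
        intro x
        rw [hU₁def]
        exact mem_ker_flip
      have hprojU : ∀ x : V, x - (B x u' / B u' u') • u' ∈ U₁ := by
        intro x
        rw [hU₁mem, map_sub, map_smul, LinearMap.sub_apply, LinearMap.smul_apply, smul_eq_mul,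
          div_mul_cancel₀ _ hu'u', sub_self]
      have hU₁nd : ∀ a ∈ U₁, a ≠ 0 → ∃ x ∈ U₁, B x a ≠ 0 := by
        intro a ha ha0
        obtain ⟨x, -, hxa⟩ := htopnd a trivial ha0
        refine ⟨_, hprojU x, ?_⟩
        rw [map_sub, map_smul, LinearMap.sub_apply, LinearMap.smul_apply,
          hsymm u' a, (hU₁mem a).mp ha, smul_zero, sub_zero]
        exact hxa
      have hU₁fr : finrank F V ≤ finrank F U₁ + 1 := by
        have := finrank_le_inf_ker_add_one (⊤ : Submodule F V) (B.flip u')
        rw [top_inf_eq, finrank_top, ← hU₁def] at this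
        exact this
      have hexU : ∃ x ∈ U₁, B x a' ≠ 0 := by
        by_contra hcon
        push Not at hcon
        apply hu'0
        apply hN'.2
        intro x
        have h1 := hcon _ (hprojU x)
        rw [ha'app, map_sub, map_smul, LinearMap.sub_apply, LinearMap.smul_apply, hu'u'',
          smul_zero, sub_zero] at h1
        exact h1
      obtain ⟨u, huU, hQu, hua'⟩ := exists_sing_not_orth Q B hQs hQp U₁ hU₁nd (by omega) hexU
      have huu' : B u u' = 0 := (hU₁mem u).mp huU
      have hB'uu' : B' u u' ≠ 0 := by rw [← ha'app]; exact hua'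
      -- the vector `z'`
      have hfr1 := finrank_le_inf_ker_add_one (⊤ : Submodule F V) (B.flip u)
      have hfr2 := finrank_le_inf_ker_add_one (⊤ ⊓ LinearMap.ker (B.flip u) : Submodule F V)
        (B.flip u')
      have hfr3 := finrank_le_inf_ker_add_one ((⊤ ⊓ LinearMap.ker (B.flip u)) ⊓
        LinearMap.ker (B.flip u') : Submodule F V) (B'.flip u')
      rw [finrank_top] at hfr1
      obtain ⟨z', hz'mem, hz'0, hQ'z'⟩ := exists_singular_in Q' B' hQs' hQp'
        (((⊤ ⊓ LinearMap.ker (B.flip u)) ⊓ LinearMap.ker (B.flip u')) ⊓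
          LinearMap.ker (B'.flip u') : Submodule F V) (by omega)
      have hz'u : B z' u = 0 := mem_ker_flip.mp hz'mem.1.1.2
      have hz'u' : B z' u' = 0 := mem_ker_flip.mp hz'mem.1.2
      have hB'z'u' : B' z' u' = 0 := mem_ker_flip.mp hz'mem.2
      have hB'u'z' : B' u' z' = 0 := by rw [hsymm']; exact hB'z'u'
      -- the centre `c`
      obtain ⟨c, hcdef⟩ : ∃ c : V, c = B' u u' • z' - B' u z' • u' := ⟨_, rfl⟩
      have hc0 : c ≠ 0 := by
        intro h
        have h1 : B c u' = 0 := by rw [h]; simp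
        rw [hcdef, map_sub, map_smul, map_smul, LinearMap.sub_apply, LinearMap.smul_apply,
          LinearMap.smul_apply, hz'u', smul_zero, zero_sub, neg_eq_zero, smul_eq_mul] at h1
        have h3 : B' u z' = 0 := by
          rcases mul_eq_zero.mp h1 with h3 | h3
          · exact h3
          · exact absurd h3 hu'u'
        rw [hcdef, h3, zero_smul, sub_zero] at h
        rcases smul_eq_zero.mp h with h4 | h4
        · exact hB'uu' h4
        · exact hz'0 h4
      have hQ'c : Q' c = 0 := by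
        rw [hcdef, sub_eq_add_neg, ← neg_smul, hQp', hQs', hQs', hQ'z', hQ'u', map_smul, map_smul,
          LinearMap.smul_apply, hB'z'u']
        simp
      obtain ⟨y₂, hy₂⟩ : ∃ y₂, B' y₂ c ≠ 0 := by
        by_contra hcon
        push Not at hcon
        exact hc0 (hN'.2 c hcon)
      -- the vector `z`
      have hfr4 := finrank_le_inf_ker_add_one ((⊤ ⊓ LinearMap.ker (B.flip u)) ⊓
        LinearMap.ker (B.flip u') : Submodule F V) (B.flip z')
      have hfr5 := finrank_le_inf_ker_add_one (((⊤ ⊓ LinearMap.ker (B.flip u)) ⊓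
        LinearMap.ker (B.flip u')) ⊓ LinearMap.ker (B.flip z') : Submodule F V) (B.flip y₂)
      have hfr6 := finrank_le_inf_ker_add_one ((((⊤ ⊓ LinearMap.ker (B.flip u)) ⊓
        LinearMap.ker (B.flip u')) ⊓ LinearMap.ker (B.flip z')) ⊓ LinearMap.ker (B.flip y₂) :
          Submodule F V) (B'.flip u')
      have hfr7 := finrank_le_inf_ker_add_one (((((⊤ ⊓ LinearMap.ker (B.flip u)) ⊓
        LinearMap.ker (B.flip u')) ⊓ LinearMap.ker (B.flip z')) ⊓ LinearMap.ker (B.flip y₂)) ⊓
          LinearMap.ker (B'.flip u') : Submodule F V) (B'.flip z')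
      obtain ⟨z, hzmem, hz0, hQz⟩ := exists_singular_in Q B hQs hQp
        ((((((⊤ ⊓ LinearMap.ker (B.flip u)) ⊓
        LinearMap.ker (B.flip u')) ⊓ LinearMap.ker (B.flip z')) ⊓ LinearMap.ker (B.flip y₂)) ⊓
          LinearMap.ker (B'.flip u')) ⊓ LinearMap.ker (B'.flip z') : Submodule F V) (by omega)
      have hzu : B z u = 0 := mem_ker_flip.mp hzmem.1.1.1.1.1.2
      have hzu' : B z u' = 0 := mem_ker_flip.mp hzmem.1.1.1.1.2
      have hzz' : B z z' = 0 := mem_ker_flip.mp hzmem.1.1.1.2
      have hzy₂ : B z y₂ = 0 := mem_ker_flip.mp hzmem.1.1.2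
      have hB'zu' : B' z u' = 0 := mem_ker_flip.mp hzmem.1.2
      have hB'zz' : B' z z' = 0 := mem_ker_flip.mp hzmem.2
      have huz : B u z = 0 := by rw [hsymm]; exact hzu
      have hcz : B c z = 0 := by
        rw [hcdef, map_sub, map_smul, map_smul, LinearMap.sub_apply, LinearMap.smul_apply,
          LinearMap.smul_apply, hsymm z' z, hzz', hsymm u' z, hzu', smul_zero, smul_zero,
          sub_zero]
      -- the commutator
      have hcomm : sieg Q B u z * sieg Q' B' u' z' =
          gtv B z c hcz * (sieg Q' B' u' z' * sieg Q B u z) := by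
        ext x
        simp only [LinearEquiv.mul_apply, gtv_apply]
        rw [sieg_apply Q' B' hQs' hQp' hQ'u' hB'u'z', sieg_apply Q B hQs hQp hQu huz,
          sieg_apply Q B hQs hQp hQu huz, sieg_apply Q' B' hQs' hQp' hQ'u' hB'u'z', hQz, hQ'z']
        have hu'u : B u' u = 0 := by rw [hsymm]; exact huu'
        have hz'z : B z' z = 0 := by rw [hsymm]; exact hzz'
        have hu'z : B u' z = 0 := by rw [hsymm]; exact hzu'
        have hzz0 : B z z = 0 := by rw [B_self Q B hQs hQp, hQz, mul_zero]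
        simp only [map_add, map_sub, map_smul, LinearMap.add_apply, LinearMap.sub_apply,
          LinearMap.smul_apply, smul_eq_mul, hz'u, hu'u, hz'z, hu'z, hB'zu', hB'zz', hzz0, huz,
          hcdef, zero_mul, mul_zero, zero_smul, sub_zero, add_zero]
        module
      have hTM : gtv B z c hcz ∈ M := by
        have h1 : gtv B z c hcz = sieg Q B u z * sieg Q' B' u' z' *
            (sieg Q' B' u' z' * sieg Q B u z)⁻¹ := by
          rw [hcomm, mul_inv_cancel_right]
        rw [h1]
        exact M.mul_mem (M.mul_mem (hM _ _ hQu huz) (hM' _ _ hQ'u' hB'u'z'))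
          (M.inv_mem (M.mul_mem (hM' _ _ hQ'u' hB'u'z') (hM _ _ hQu huz)))
      -- apply the centre lemma for the second form
      obtain ⟨w₀, hw₀⟩ := exists_rep' hsymm' hN' (B.flip z)
      have hw₀app : ∀ x, B' x w₀ = B x z := fun x => by rw [hw₀]; rfl
      have hcw₀ : B' c w₀ = 0 := by rw [hw₀app]; exact hcz
      have hT' : gtv B' w₀ c hcw₀ ∈ M := by
        have : gtv B' w₀ c hcw₀ = gtv B z c hcz := by
          ext x
          simp [hw₀app]
        rw [this]
        exact hTM
      have hw₀c : w₀ ∉ Submodule.span F {c} := by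
        intro h
        obtain ⟨μ, hμ⟩ := Submodule.mem_span_singleton.mp h
        have h1 := hw₀app y₂
        rw [← hμ, map_smul, smul_eq_mul, hsymm y₂ z, hzy₂] at h1
        have hμ0 : μ = 0 := by
          rcases mul_eq_zero.mp h1 with h3 | h3
          · exact h3
          · exact absurd h3 hy₂
        apply hz0
        apply hN.2
        intro x
        rw [← hw₀app, ← hμ, hμ0, zero_smul, map_zero]
      have hfull := centre_full hQs' hQp' hN' (by omega) M hM' hc0 hQ'c hcw₀ hT' hw₀c
      have hcD : c ∈ Cfsg.Agent.Lib.Helper94_HermSim.dirSub M := by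
        intro φ hφ
        obtain ⟨w, hw⟩ := exists_rep' hsymm' hN' φ
        have hcw : B' c w = 0 := by rw [hw]; exact hφ
        have : LinearEquiv.transvection hφ = gtv B' w c hcw := by
          ext x
          simp [LinearEquiv.transvection.apply, LinearMap.transvection.apply, hw]
        rw [this]
        exact hfull w hcw
      have hDtop : (⊤ : Submodule F V) ≤ Cfsg.Agent.Lib.Helper94_HermSim.dirSub M := by
        apply irr Q B hQs hQp ⊤ htopnd (by rw [finrank_top]; omega) _ _ (a := c) (a' := 0)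
          (by rw [add_zero]; exact hcD) trivial hc0 (fun y _ => by simp)
        intro a _ b _ hQa hab x hx
        exact Cfsg.Agent.Lib.Helper94_HermSim.dirSub_map (hM a b hQa hab) hx
      apply hK2
      intro φ w hφ
      exact hDtop (Submodule.mem_top : w ∈ ⊤) φ hφ

end

end Cfsg.Agent.Lib.Helper94_OrthSim
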