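import Cfsg.Agent.Lib.Helper37_RHDefs
import Cfsg.Agent.Lib.Helper31_RH_STAB2
import Cfsg.Agent.Lib.Helper55_RH_FIX2

/-!
# Helper29_RH_F2357Baux: REEHALL package F2357B, everything except the input from package INH

`2 · #{g : orderOf g = i} = φ(i) q^3 (q^3 + 1)` for `2 < i ∣ q - 1`, by double counting the triples
`(g, x, y)`, `x ≠ y` fixed by `g`, `orderOf g = i`.

The abstract double count is `count_core` (no Ree hypothesis).
-/

set_option autoImplicit false

namespace Cfsg.Agent.Lib.Helper29_RH_F2357Baux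

open MulAction Subgroup Cfsg.Agent.Lib.Helper37_RHDefs
open scoped Pointwise

/-- The number of elements of order `i` of `G` lying in a cyclic subgroup `H` whose order is divisible by `i`. -/
theorem card_orderOf_in_cyclic {G : Type*} [Group G] [Fintype G] [DecidableEq G] (H : Subgroup G)
    [DecidablePred (· ∈ H)] (hc : IsCyclic H) (i : ℕ) (hd : i ∣ Nat.card H) :
    ((Finset.univ : Finset G).filter (fun g => orderOf g = i ∧ g ∈ H)).card = Nat.totient i := by
  classical
  have : Fintype H := Fintype.ofFinite H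
  have h1 : ((Finset.univ : Finset H).filter (fun a => orderOf a = i)).card = Nat.totient i := by
    apply IsCyclic.card_orderOf_eq_totient
    rwa [← Nat.card_eq_fintype_card]
  rw [← h1]
  symm
  apply Finset.card_bij (fun (a : H) _ => (a : G))
  · intro a ha
    simp only [Finset.mem_filter, Finset.mem_univ, true_and] at ha ⊢
    exact ⟨by rw [Subgroup.orderOf_coe]; exact ha, a.2⟩
  · intro a _ b _ hab
    exact Subtype.ext hab
  · intro g hg
    simp only [Finset.mem_filter, Finset.mem_univ, true_and] at hg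
    refine ⟨⟨g, hg.2⟩, ?_, rfl⟩
    simp only [Finset.mem_filter, Finset.mem_univ, true_and]
    rw [← Subgroup.orderOf_coe]
    exact hg.1

/-- The abstract double count. -/
theorem count_core {G : Type*} [Group G] [Finite G] {Ω : Type*} [MulAction G Ω] [Finite Ω] (i n : ℕ)
    (hstab : ∀ x y : Ω, x ≠ y → IsCyclic ↥(stabilizer G x ⊓ stabilizer G y) ∧
      Nat.card ↥(stabilizer G x ⊓ stabilizer G y) = n)
    (hdvd : i ∣ n)
    (hfix : ∀ g : G, orderOf g = i → ∃ x y : Ω, x ≠ y ∧ ∀ z : Ω, g • z = z ↔ z = x ∨ z = y) :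
    2 * Nat.card {g : G // orderOf g = i} = Nat.totient i * (Nat.card Ω * (Nat.card Ω - 1)) := by
  classical
  have : Fintype G := Fintype.ofFinite G
  have : Fintype Ω := Fintype.ofFinite Ω
  set s : Finset G := Finset.univ.filter (fun g => orderOf g = i) with hs
  set t : Finset (Ω × Ω) := (Finset.univ : Finset Ω).offDiag with ht
  set r : G → Ω × Ω → Prop := fun g p => g • p.1 = p.1 ∧ g • p.2 = p.2 with hr
  have key := Finset.sum_card_bipartiteAbove_eq_sum_card_bipartiteBelow (s := s) (t := t) r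
  have hL : ∀ g ∈ s, (t.bipartiteAbove r g).card = 2 := by
    intro g hg
    have hgi : orderOf g = i := by simpa [hs] using hg
    obtain ⟨x, y, hxy, hz⟩ := hfix g hgi
    have : t.bipartiteAbove r g = {(x, y), (y, x)} := by
      ext ⟨a, b⟩
      simp only [Finset.bipartiteAbove, Finset.mem_filter, ht, Finset.mem_offDiag, Finset.mem_univ, true_and, hr,
        Finset.mem_insert, Finset.mem_singleton, Prod.mk.injEq, hz]
      constructor
      · rintro ⟨hab, ha | ha, hb | hb⟩
        · exact absurd (ha.trans hb.symm) hab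
        · exact Or.inl ⟨ha, hb⟩
        · exact Or.inr ⟨ha, hb⟩
        · exact absurd (ha.trans hb.symm) hab
      · rintro (⟨rfl, rfl⟩ | ⟨rfl, rfl⟩)
        · exact ⟨hxy, Or.inl rfl, Or.inr rfl⟩
        · exact ⟨hxy.symm, Or.inr rfl, Or.inl rfl⟩
    rw [this, Finset.card_pair]
    intro hh
    exact hxy (Prod.mk.inj hh).1
  have hR : ∀ p ∈ t, (s.bipartiteBelow r p).card = Nat.totient i := by
    rintro ⟨x, y⟩ hp
    have hxy : x ≠ y := by simpa [ht] using hp
    obtain ⟨hc, hn⟩ := hstab x y hxy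
    rw [← card_orderOf_in_cyclic (stabilizer G x ⊓ stabilizer G y) hc i (hn ▸ hdvd)]
    congr 1
    ext g
    simp only [Finset.bipartiteBelow, Finset.mem_filter, hs, Finset.mem_univ, true_and, hr, Subgroup.mem_inf,
      mem_stabilizer_iff]
  rw [Finset.sum_congr rfl hL, Finset.sum_congr rfl hR, Finset.sum_const, Finset.sum_const, smul_eq_mul,
    smul_eq_mul] at key
  have hscard : Nat.card {g : G // orderOf g = i} = s.card := by
    rw [Nat.card_eq_fintype_card, Fintype.card_subtype]
  have htcard : t.card = Nat.card Ω * (Nat.card Ω - 1) := by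
    rw [ht, Finset.offDiag_card, Finset.card_univ, Nat.card_eq_fintype_card, Nat.mul_sub, mul_one]
  rw [hscard, ← htcard, mul_comm 2, key, mul_comm]

/-- PK F2357B with the statement of package INH (`mem_stab2_of_order`) as a hypothesis. -/
theorem f2357b_of {G : Type*} [Group G] [Finite G] {Ω : Type*} [MulAction G Ω] {m : ℕ}
    (h : RH G Ω m)
    (hINH : ∀ g : G, orderOf g ∣ Q m - 1 → 2 < orderOf g → ∃ x y : Ω, x ≠ y ∧ g • x = x ∧ g • y = y)
    (i : ℕ) (hi : 2 < i) (hd : i ∣ 3 ^ (2 * m + 1) - 1) :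
    2 * Nat.card {g : G // orderOf g = i} =
      Nat.totient i * (3 ^ (2 * m + 1)) ^ 3 * ((3 ^ (2 * m + 1)) ^ 3 + 1) := by
  have : Finite Ω := by
    apply Nat.finite_of_card_ne_zero
    rw [h.card_Ω]
    exact Nat.succ_ne_zero _
  have hcore := count_core (G := G) (Ω := Ω) i (Q m - 1)
    (fun x y hxy => Helper31_RH_STAB2.stab2_all h x y hxy) hd
    (by
      intro g hg
      obtain ⟨x, y, hxy, hx, hy⟩ := hINH g (hg ▸ hd) (hg ▸ hi)
      have hgg : g * g ≠ 1 := by
        intro h1
        have : orderOf g ∣ 2 := orderOf_dvd_of_pow_eq_one (by rw [pow_two]; exact h1)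
        have := Nat.le_of_dvd (by norm_num) this
        omega
      exact ⟨x, y, hxy, (Helper55_RH_FIX2.fixedBy_of_stab2 h x y hxy g hx hy hgg).1⟩)
  rw [hcore, h.card_Ω]
  show Nat.totient i * (((3 ^ (2 * m + 1)) ^ 3 + 1) * ((3 ^ (2 * m + 1)) ^ 3 + 1 - 1)) = _
  rw [Nat.add_sub_cancel]
  ring

end Cfsg.Agent.Lib.Helper29_RH_F2357Baux
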