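import Mathlib
import Cfsg.Agent.Lib.Helper37_RHDefs
import Cfsg.Agent.Lib.Helper26_RHTorDefs
import Cfsg.Agent.Lib.Helper91_RH_SylConj
import Cfsg.Agent.Lib.Helper10_RH_ARITH

/-!
# REEHALL package INH, aux form (architect helper37): `mem_stab2_of_order` with the statement of
CENTH (`cent_of_stab2`) as a hypothesis
-/

set_option autoImplicit false

namespace Cfsg.Agent.Lib.Helper91_RH_INHaux

open MulAction Subgroup Cfsg.Agent.Lib.Helper37_RHDefs
open scoped Pointwise

variable {G : Type*} [Group G] [Finite G] {Ω : Type*} [MulAction G Ω] {m : ℕ}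

/-- PK INH (aux form).  An element whose order divides `q - 1` and is `> 2` lies in a two-point stabiliser. -/
theorem mem_stab2_of_order_of (h : RH G Ω m)
    (hC : ∀ (x y : Ω), x ≠ y → ∀ g : G, g • x = x → g • y = y → g * g ≠ 1 →
      centralizer ({g} : Set G) = stabilizer G x ⊓ stabilizer G y)
    (g : G) (hd : orderOf g ∣ Q m - 1) (hg : 2 < orderOf g) :
    ∃ x y : Ω, x ≠ y ∧ g • x = x ∧ g • y = y := by
  obtain ⟨-, -, -, -, -, -, -, h2, hodd, -, -, -, -, -⟩ :=
    Cfsg.Agent.Lib.Helper10_RH_ARITH.arith m h.hm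
  -- an odd prime divisor `p` of the order
  obtain ⟨p, hp, hpd, hpodd⟩ : ∃ p, p.Prime ∧ p ∣ orderOf g ∧ Odd p := by
    rcases Nat.eq_two_pow_or_exists_odd_prime_and_dvd (orderOf g) with ⟨k, hk⟩ | h'
    · exfalso
      have hk2 : 2 ≤ k := by
        by_contra hlt
        have : k = 0 ∨ k = 1 := by omega
        rcases this with rfl | rfl <;> omega
      have h4 : 4 ∣ orderOf g := by
        rw [hk]
        exact pow_dvd_pow 2 hk2
      have h4' : 4 ∣ Q m - 1 := h4.trans hd
      omega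
    · exact h'
  have hp2 : p ≠ 2 := by
    rintro rfl
    exact (Nat.not_even_iff_odd.mpr hpodd) even_two
  have hpq : p ∣ Q m - 1 := hpd.trans hd
  obtain ⟨-, hfac, -, -, -⟩ := Cfsg.Agent.Lib.Helper10_RH_ARITH.arith_primes m h.hm p hp
  have hfac := hfac hp2 hpq
  have : Fact p.Prime := ⟨hp⟩
  obtain ⟨x, y, hxy, -, hcard⟩ := h.stab2
  -- the element of order `p`
  set k := orderOf g / p with hk
  have hkp : k * p = orderOf g := Nat.div_mul_cancel hpd
  have hk0 : k ≠ 0 := by
    rintro h0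
    rw [h0, zero_mul] at hkp
    omega
  have hz : orderOf (g ^ k) = p ^ 1 := by
    rw [pow_one, orderOf_pow' g hk0, Nat.gcd_eq_right ⟨p, by rw [← hkp]⟩]
    exact Nat.div_eq_of_eq_mul_right (Nat.pos_of_ne_zero hk0) hkp.symm
  have hK : (Nat.card G).factorization p =
      (Nat.card ↥(stabilizer G x ⊓ stabilizer G y)).factorization p := by
    rw [h.card_G, hcard]
    exact hfac
  obtain ⟨c, hc⟩ := Cfsg.Agent.Lib.Helper91_RH_SylConj.exists_conj_mem
    (stabilizer G x ⊓ stabilizer G y) p hK (g ^ k) 1 hz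
  have hord : orderOf (c * g ^ k * c⁻¹) = p := by
    have := orderOf_injective (MulAut.conj c).toMonoidHom (MulAut.conj c).injective (g ^ k)
    rw [pow_one] at hz
    rw [← hz, ← this]
    simp [MulAut.conj_apply]
  have htt : c * g ^ k * c⁻¹ * (c * g ^ k * c⁻¹) ≠ 1 := by
    intro e
    have : orderOf (c * g ^ k * c⁻¹) ∣ 2 := by
      apply orderOf_dvd_of_pow_eq_one
      rw [pow_two]
      exact e
    rw [hord] at this
    exact hp2 ((Nat.prime_dvd_prime_iff_eq hp Nat.prime_two).mp this)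
  have hcx : (c * g ^ k * c⁻¹) • x = x := mem_stabilizer_iff.mp hc.1
  have hcy : (c * g ^ k * c⁻¹) • y = y := mem_stabilizer_iff.mp hc.2
  have hcent := hC x y hxy _ hcx hcy htt
  have hD : c * g * c⁻¹ ∈ stabilizer G x ⊓ stabilizer G y := by
    rw [← hcent, mem_centralizer_iff]
    intro z hz'
    rw [Set.mem_singleton_iff] at hz'
    subst hz'
    have e1 : c * g ^ k * c⁻¹ * (c * g * c⁻¹) = c * (g ^ k * g) * c⁻¹ := by group
    have e2 : c * g * c⁻¹ * (c * g ^ k * c⁻¹) = c * (g * g ^ k) * c⁻¹ := by group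
    rw [e1, e2, ← pow_succ, ← pow_succ']
  have hgx : (c * g * c⁻¹) • x = x := mem_stabilizer_iff.mp hD.1
  have hgy : (c * g * c⁻¹) • y = y := mem_stabilizer_iff.mp hD.2
  refine ⟨c⁻¹ • x, c⁻¹ • y, ?_, ?_, ?_⟩
  · intro e
    exact hxy (smul_left_cancel c⁻¹ e)
  · have := congrArg (fun w => c⁻¹ • w) hgx
    simpa [smul_smul, mul_assoc] using this
  · have := congrArg (fun w => c⁻¹ • w) hgy
    simpa [smul_smul, mul_assoc] using this

end Cfsg.Agent.Lib.Helper91_RH_INHaux
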