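import Cfsg.Agent.Lib.Helper37_RHDefs
import Cfsg.Agent.Lib.Helper29_RH_F2357Baux
import Cfsg.Agent.Lib.Helper60_RH_CENTH
import Cfsg.Agent.Lib.Helper91_RH_INHaux

/-!
# Helper29_RH_F2357B: REEHALL package F2357B (verbatim statement)

`2 · #{g : orderOf g = i} = φ(i) q^3 (q^3 + 1)` for `2 < i ∣ q - 1`.  The double count is in
`Helper29_RH_F2357Baux` (`count_core`, `f2357b_of`); here the input of package INH is plugged in
(`Helper91_RH_INHaux.mem_stab2_of_order_of` with `Helper60_RH_CENTH.cent_of_stab2`).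
-/

set_option autoImplicit false

namespace Cfsg.Agent.Lib.Helper29_RH_F2357B

open MulAction Subgroup Cfsg.Agent.Lib.Helper37_RHDefs
open scoped Pointwise

variable {G : Type*} [Group G] [Finite G] {Ω : Type*} [MulAction G Ω] {m : ℕ}

/-- PK F2357B.  The number of elements of order `i ∣ q - 1`, `i > 2`. -/
theorem f2357b (h : RH G Ω m) (i : ℕ) (hi : 2 < i) (hd : i ∣ 3 ^ (2 * m + 1) - 1) :
    2 * Nat.card {g : G // orderOf g = i} =
      Nat.totient i * (3 ^ (2 * m + 1)) ^ 3 * ((3 ^ (2 * m + 1)) ^ 3 + 1) :=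
  Helper29_RH_F2357Baux.f2357b_of h
    (Helper91_RH_INHaux.mem_stab2_of_order_of h (Helper60_RH_CENTH.cent_of_stab2 h)) i hi hd

end Cfsg.Agent.Lib.Helper29_RH_F2357B
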