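import Cfsg.Agent.Lib.Helper13_ROLin
import Cfsg.Agent.Lib.Helper1_Frattini

/-!
# S4581-P6 (helper15's real odd-degree characters project), formalised by helper29

For a finite `2`-group `Y`: `Y' = Φ(Y)` if and only if every linear character of `Y` is
real-valued.
-/

set_option autoImplicit false

namespace Cfsg.Agent.Lib.Helper29_ROFrat

open Cfsg
open scoped commutatorElement

universe u

variable {Y : Type u} [Group Y] [Finite Y]

/-- A complex number of norm one with vanishing imaginary part squares to one. -/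
theorem sq_eq_one_of_real_of_norm {z : ℂ} (him : z.im = 0) (hn : ‖z‖ = 1) : z ^ 2 = 1 := by
  have h1 : Complex.normSq z = 1 := by
    rw [Complex.normSq_eq_norm_sq, hn]; norm_num
  rw [Complex.normSq_apply, him] at h1
  apply Complex.ext
  · simp [pow_two, him]
    linarith
  · simp [pow_two, him]

/-- A complex number whose square is one has vanishing imaginary part. -/
theorem im_eq_zero_of_sq_eq_one {z : ℂ} (h : z ^ 2 = 1) : z.im = 0 := by
  have h2 : (z - 1) * (z + 1) = 0 := by ring_nf; rw [h]; ring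
  rcases mul_eq_zero.mp h2 with h3 | h3
  · have : z = 1 := by linear_combination h3
    rw [this]; simp
  · have : z = -1 := by linear_combination h3
    rw [this]; simp

theorem lin_real_of_comm_eq_frattini (hY : IsPGroup 2 Y) (h : commutator Y = frattini Y)
    (μ : IrrCharacter Y) (h1 : (μ : Y → ℂ) 1 = 1) : ∀ y, ((μ : Y → ℂ) y).im = 0 := by
  intro y
  have : Fact (Nat.Prime 2) := ⟨Nat.prime_two⟩
  apply im_eq_zero_of_sq_eq_one
  have hy2 : y ^ 2 ∈ commutator Y := by
    rw [h]
    exact Cfsg.Agent.Lib.Helper1_Frattini.pow_mem_frattini_of_isPGroup hY y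
  have h2 := Cfsg.Agent.Lib.Helper79_Linear.linear_commutator ⟨μ, h1⟩ hy2
  have h3 := Cfsg.Agent.Lib.Helper79_Linear.linear_mul' ⟨μ, h1⟩ y y
  rw [pow_two, ← h3, ← pow_two]
  exact h2

theorem comm_eq_frattini_of_lin_real (hY : IsPGroup 2 Y)
    (h : ∀ μ : IrrCharacter Y, (μ : Y → ℂ) 1 = 1 → ∀ y, ((μ : Y → ℂ) y).im = 0) :
    commutator Y = frattini Y := by
  have : Fact (Nat.Prime 2) := ⟨Nat.prime_two⟩
  apply le_antisymm (Cfsg.Agent.Lib.Helper1_Frattini.commutator_le_frattini_of_isPGroup hY)
  apply Cfsg.Agent.Lib.Helper1_Frattini.frattini_le_of_elementary_quotient (p := 2)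
    (commutator Y) le_rfl
  intro x
  by_contra hx
  have hcomm : ∀ a b : Y ⧸ commutator Y, a * b = b * a := by
    intro a b
    induction a using QuotientGroup.induction_on with
    | H a =>
      induction b using QuotientGroup.induction_on with
      | H b =>
        rw [← QuotientGroup.mk_mul, ← QuotientGroup.mk_mul, QuotientGroup.eq]
        have : (a * b)⁻¹ * (b * a) = ⁅b⁻¹, a⁻¹⁆ := by
          rw [commutatorElement_def]; group
        rw [this]
        exact Subgroup.commutator_mem_commutator (Subgroup.mem_top _) (Subgroup.mem_top _)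
  have hk1 : (QuotientGroup.mk' (commutator Y) (x ^ 2) : Y ⧸ commutator Y) ≠ 1 := by
    intro h'
    rw [QuotientGroup.mk'_apply, QuotientGroup.eq_one_iff] at h'
    exact hx h'
  obtain ⟨c, hc⟩ := Cfsg.Agent.Lib.Helper13_ROLin.exists_dual_ne_one' hcomm hk1
  let f : Y →* ℂˣ := c.comp (QuotientGroup.mk' (commutator Y))
  let μ : IrrCharacter Y :=
    ⟨fun y => ((f y : ℂˣ) : ℂ), Cfsg.Agent.Lib.Helper79_Linear.isIrrCharacter_of_hom f⟩
  have hμ1 : (μ : Y → ℂ) 1 = 1 := by
    show ((f 1 : ℂˣ) : ℂ) = 1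
    rw [map_one]; rfl
  have him := h μ hμ1 x
  have hnorm := Cfsg.Agent.Lib.Helper79_Linear.linear_norm ⟨μ, hμ1⟩ x
  have hsq := sq_eq_one_of_real_of_norm him hnorm
  apply hc
  apply Units.ext
  show ((f (x ^ 2) : ℂˣ) : ℂ) = 1
  rw [map_pow, Units.val_pow_eq_pow_val]
  exact hsq

end Cfsg.Agent.Lib.Helper29_ROFrat
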