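import Mathlib
import Cfsg.Prelude.Def_Classical
import Cfsg.Agent.Lib.Helper13_Herm
import Cfsg.Agent.Lib.Helper44_PSLnUT
import Cfsg.Agent.Lib.Helper88_PSLnFusDefs
import Cfsg.Agent.Lib.Helper88_PSUFusDefs
import Cfsg.Agent.Lib.Helper63_S5172_A1
import Cfsg.Agent.Lib.Helper26_S5172_A3
import Cfsg.Agent.S0754

/-!
S5172 package D2 (helper88's market): a strongly closed subgroup `T ≤ UJ` containing one corner
transvection `1 + c₀ E_{0, n-1}` contains all long root elements `1 + c E_{i, rev i}`, `i < n/2`.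
helper29.
-/

set_option autoImplicit false

namespace Cfsg.Agent.Lib.Helper29_S5172_D2

open Matrix Cfsg.Agent.Lib.Helper44_PSLnUT Cfsg.Agent.Lib.Helper88_PSLnFus
  Cfsg.Agent.Lib.Helper88_PSUFus Cfsg.Agent.Lib.Helper13_Herm

variable {F : Type*} [Field F]

section rk

variable {n : ℕ}

/-- conjugating a rank one perturbation of the identity -/
theorem conj_rk1 (M N : Matrix (Fin n) (Fin n) F) (hMN : M * N = 1) (c : F) (u v : Fin n → F) :
    M * (1 + c • vecMulVec u v) * N = 1 + c • vecMulVec (M *ᵥ u) (v ᵥ* N) := by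
  rw [mul_add, add_mul, mul_one, hMN, Matrix.mul_smul, Matrix.smul_mul, mul_vecMulVec,
    vecMulVec_mul]

theorem tv_coe_rk1 {a b : Fin n} (hab : a ≠ b) (x : F) :
    (SpecialLinearGroup.transvection hab x).1 =
      1 + x • vecMulVec (Pi.single a (1 : F)) (Pi.single b (1 : F)) := by
  rw [SpecialLinearGroup.transvection_coe, ← single_eq_single_vecMulVec_single, Matrix.smul_single,
    smul_eq_mul, mul_one]

theorem tv_mulVec {a b : Fin n} (hab : a ≠ b) (x : F) (u : Fin n → F) :
    (SpecialLinearGroup.transvection hab x).1 *ᵥ u = u + (x * u b) • Pi.single a (1 : F) := by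
  rw [SpecialLinearGroup.transvection_coe, Matrix.add_mulVec, Matrix.one_mulVec,
    Matrix.single_mulVec_eq]

theorem vecMul_tv {a b : Fin n} (hab : a ≠ b) (x : F) (u : Fin n → F) :
    u ᵥ* (SpecialLinearGroup.transvection hab x).1 = u + (u a * x) • Pi.single b (1 : F) := by
  rw [SpecialLinearGroup.transvection_coe, Matrix.vecMul_add, Matrix.vecMul_one]
  congr 1
  funext k
  simp only [Matrix.vecMul, dotProduct, Matrix.single, Matrix.of_apply, Pi.smul_apply,
    Pi.single_apply, smul_eq_mul]
  by_cases hk : k = b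
  · subst hk
    simp
  · have : ∀ t : Fin n, ¬ (a = t ∧ b = k) := fun t h => hk h.2.symm
    simp [this, hk]

/-- conjugation of `1 + c u vᵀ` by a transvection -/
theorem conj_tv {a b : Fin n} (hab : a ≠ b) (x c : F) (u v : Fin n → F) :
    (SpecialLinearGroup.transvection hab x).1 * (1 + c • vecMulVec u v) *
        (SpecialLinearGroup.transvection hab (-x)).1 =
      1 + c • vecMulVec (u + (x * u b) • Pi.single a (1 : F))
        (v + (v a * -x) • Pi.single b (1 : F)) := by
  have h1 : (SpecialLinearGroup.transvection hab x).1 *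
      (SpecialLinearGroup.transvection hab (-x)).1 = 1 := by
    have := congrArg Subtype.val (SpecialLinearGroup.transvection_mul_neg hab x)
    exact this
  rw [conj_rk1 _ _ h1, tv_mulVec, vecMul_tv]

end rk

section weyl

variable {n : ℕ}

/-- `S` is `1 + c u vᵀ` -/
def IsRk1 (S : SpecialLinearGroup (Fin n) F) (c : F) (u v : Fin n → F) : Prop :=
  S.1 = 1 + c • vecMulVec u v

theorem IsRk1.conj {S : SpecialLinearGroup (Fin n) F} {c : F} {u v : Fin n → F}
    (h : IsRk1 S c u v) {a b : Fin n} (hab : a ≠ b) (x : F) :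
    IsRk1 (SpecialLinearGroup.transvection hab x * S * (SpecialLinearGroup.transvection hab x)⁻¹) c
      (u + (x * u b) • Pi.single a (1 : F)) (v + (v a * -x) • Pi.single b (1 : F)) := by
  unfold IsRk1 at h ⊢
  rw [SpecialLinearGroup.transvection_inv]
  show (SpecialLinearGroup.transvection hab x).1 * S.1 *
    (SpecialLinearGroup.transvection hab (-x)).1 = _
  rw [h, conj_tv]

theorem isRk1_tv {a b : Fin n} (hab : a ≠ b) (c : F) :
    IsRk1 (SpecialLinearGroup.transvection hab c) c (Pi.single a 1) (Pi.single b 1) :=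
  tv_coe_rk1 hab c

/-- the Weyl element `xs(0,i,1) xs(i,0,-1) xs(0,i,1)` conjugates the long root element at `i0`
to the one at `i`. -/
theorem weyl_conj {q : ℕ} (hq : ((-1 : F)) ^ q = -1) {i0 i : Fin n} (h0i : i0 ≠ i)
    (h00 : i0 ≠ Fin.rev i0) (hii : i ≠ Fin.rev i) (h0i' : i0 ≠ Fin.rev i) (c : F) :
    (xs q h0i (1 : F) * xs q h0i.symm (-1 : F) * xs q h0i (1 : F)) *
        SpecialLinearGroup.transvection h00 c *
        (xs q h0i (1 : F) * xs q h0i.symm (-1 : F) * xs q h0i (1 : F))⁻¹ =
      SpecialLinearGroup.transvection hii c := by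
  have hi0' : i ≠ Fin.rev i0 := fun e => h0i' (by rw [e, Fin.rev_rev])
  have hr : Fin.rev i ≠ Fin.rev i0 := rev_ne h0i
  -- the six transvections
  set A := SpecialLinearGroup.transvection h0i (1 : F) with hA
  set B := SpecialLinearGroup.transvection (rev_ne h0i) (-((1 : F) ^ q)) with hB
  set A' := SpecialLinearGroup.transvection h0i.symm (-1 : F) with hA'
  set B' := SpecialLinearGroup.transvection (rev_ne h0i.symm) (-((-1 : F) ^ q)) with hB'
  have e1 : xs q h0i (1 : F) = A * B := rfl
  have e2 : xs q h0i.symm (-1 : F) = A' * B' := rfl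
  rw [e1, e2]
  have hgrp : (A * B * (A' * B') * (A * B)) * SpecialLinearGroup.transvection h00 c *
      (A * B * (A' * B') * (A * B))⁻¹ =
      A * (B * (A' * (B' * (A * (B * SpecialLinearGroup.transvection h00 c * B⁻¹) * A⁻¹) * B'⁻¹)
        * A'⁻¹) * B⁻¹) * A⁻¹ := by group
  rw [hgrp]
  have h1 := ((((((isRk1_tv h00 c).conj (rev_ne h0i) (-((1 : F) ^ q))).conj h0i (1 : F)).conj
    (rev_ne h0i.symm) (-((-1 : F) ^ q))).conj h0i.symm (-1 : F)).conj
    (rev_ne h0i) (-((1 : F) ^ q))).conj h0i (1 : F)
  apply Subtype.ext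
  rw [h1, tv_coe_rk1 hii c]
  congr 2
  funext k
  simp only [Pi.add_apply, Pi.smul_apply, Pi.single_apply, smul_eq_mul, hq, one_pow]
  by_cases k0 : k = i0
  · subst k0
    simp [h0i, h00, h0i', hi0', hr, h0i.symm, h00.symm, hi0'.symm, hr.symm, hii, hii.symm,
      h0i'.symm]
  · by_cases ki : k = i
    · subst ki
      simp [h0i, h00, h0i', hi0', hr, h0i.symm, h00.symm, hi0'.symm, hr.symm, hii, hii.symm,
        h0i'.symm]
    · simp [k0, ki, h0i, h00, h0i', hi0', hr, h0i.symm, h00.symm, hi0'.symm, hr.symm, hii,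
        hii.symm, h0i'.symm]

end weyl

section scale

variable {n : ℕ}

/-- a diagonal element with `d i = s`, `d j = t` conjugates `1 + c E_ij` to `1 + c s t⁻¹ E_ij` -/
theorem diag_conj_tv (D : SpecialLinearGroup (Fin n) F) (d : Fin n → F)
    (hD : D.1 = Matrix.diagonal d) {i j : Fin n} (hij : i ≠ j) (c c' : F)
    (h : c * d i = c' * d j) :
    D * SpecialLinearGroup.transvection hij c * D⁻¹ = SpecialLinearGroup.transvection hij c' := by
  rw [mul_inv_eq_iff_eq_mul]
  apply Subtype.ext
  show D.1 * (SpecialLinearGroup.transvection hij c).1 =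
    (SpecialLinearGroup.transvection hij c').1 * D.1
  rw [SpecialLinearGroup.transvection_coe, SpecialLinearGroup.transvection_coe, hD, mul_add,
    add_mul, mul_one, one_mul]
  congr 1
  ext a b
  rw [Matrix.diagonal_mul, Matrix.mul_diagonal]
  by_cases hab : i = a ∧ j = b
  · obtain ⟨rfl, rfl⟩ := hab
    rw [Matrix.single_apply_same, Matrix.single_apply_same, mul_comm, h]
  · rw [Matrix.single_apply_of_ne _ _ _ _ _ hab, Matrix.single_apply_of_ne _ _ _ _ _ hab,
      mul_zero, zero_mul]

end scale

variable [Fintype F] {q : ℕ}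

/-- **D2**  from one corner transvection to all long root elements `1 + c E_{i, rev i}`, `i < n/2`. -/
theorem D2 (hF : Fintype.card F = q ^ 2) (n : ℕ) (hn : 4 ≤ n)
    (T : Subgroup (SpecialLinearGroup (Fin n) F)) (hT : T ≤ UJ n F q)
    (hsc : ∀ t ∈ T, ∀ g ∈ GJ n F q, g * t * g⁻¹ ∈ UJ n F q → g * t * g⁻¹ ∈ T)
    (i0 : Fin n) (hi0 : i0 ≠ Fin.rev i0) (c0 : F) (h0 : i0.val = 0) (hc0 : c0 ≠ 0)
    (hc0' : c0 + c0 ^ q = 0) (hmem : SpecialLinearGroup.transvection hi0 c0 ∈ T) :
    ∀ (i : Fin n) (hi : i ≠ Fin.rev i) (c : F), i.val < n / 2 → c + c ^ q = 0 →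
      SpecialLinearGroup.transvection hi c ∈ T := by
  have hq2 : 2 ≤ q := two_le_q hF
  -- long root elements with `i < rev i` lie in `UJ`
  have hUJ : ∀ (i : Fin n) (hi : i ≠ Fin.rev i) (c : F), i.val < n / 2 → c + c ^ q = 0 →
      SpecialLinearGroup.transvection hi c ∈ UJ n F q := by
    intro i hi c hlt hc
    refine ⟨Cfsg.Agent.Lib.Helper63_S5172_A1.A1_long hF hi c hc, ?_⟩
    have hlt' : i < Fin.rev i := by
      rw [Fin.lt_def, Fin.val_rev]
      omega
    exact transvection_mem_UT hlt' c
  -- Step 1: all long root elements at `i0`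
  have step1 : ∀ c : F, c + c ^ q = 0 → SpecialLinearGroup.transvection hi0 c ∈ T := by
    intro c hc
    by_cases hcz : c = 0
    · subst hcz
      rw [SpecialLinearGroup.transvection_coeff_zero]
      exact T.one_mem
    · -- `μ = c / c0` is fixed by the Frobenius, hence a norm
      set μ : F := c / c0 with hμ
      have hμ0 : μ ≠ 0 := div_ne_zero hcz hc0
      have hcq : c ^ q = -c := by
        have := hc
        linear_combination this
      have hc0q : c0 ^ q = -c0 := by linear_combination hc0'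
      have hμq : μ ^ q = μ := by
        rw [hμ, div_pow, hcq, hc0q, neg_div_neg_eq]
      have hcard := Cfsg.Agent.S0754.result hF μ hμ0 hμq
      have hne : Nonempty {x : F // x ^ (q + 1) = μ} := by
        by_contra hemp
        rw [not_nonempty_iff] at hemp
        rw [Nat.card_of_isEmpty] at hcard
        omega
      obtain ⟨⟨s, hs⟩⟩ := hne
      have hs0 : s ≠ 0 := by
        rintro rfl
        rw [zero_pow (by omega)] at hs
        exact hμ0 hs.symm
      -- the index 1
      have h1n : 1 < n := by omega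
      set i1 : Fin n := ⟨1, h1n⟩ with hi1
      have h01 : i0 ≠ i1 := by
        intro e
        have := congrArg Fin.val e
        rw [h0, hi1] at this
        simp at this
      have h11 : i1 ≠ Fin.rev i1 := by
        intro e
        have := congrArg Fin.val e
        rw [Fin.val_rev, hi1] at this
        simp at this
        omega
      have h01' : i0 ≠ Fin.rev i1 := by
        intro e
        have := congrArg Fin.val e
        rw [Fin.val_rev, hi1, h0] at this
        simp at this
        omega
      have h10' : i1 ≠ Fin.rev i0 := fun e => h01' (by rw [e, Fin.rev_rev])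
      set su : Fˣ := Units.mk0 s hs0 with hsu
      have hmemh : hhJ q h01 su ∈ GJ n F q :=
        Cfsg.Agent.Lib.Helper26_S5172_A3.A3_hhJ hF h01 hi0 h11 h01' su
      have hcoe : (hhJ q h01 su).1 = Matrix.diagonal
          (fun k => hhFun i0 i1 su k * hhFun (Fin.rev i1) (Fin.rev i0) (su ^ q) k) := by
        show (hh h01 su).1 * (hh (rev_ne h01) (su ^ q)).1 = _
        rw [hh_coe, hh_coe, Matrix.diagonal_mul_diagonal]
      have hd0 : hhFun i0 i1 su i0 * hhFun (Fin.rev i1) (Fin.rev i0) (su ^ q) i0 = s := by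
        unfold hhFun
        rw [if_pos rfl, if_neg h01', if_neg hi0, mul_one]
        rfl
      have hd0' : hhFun i0 i1 su (Fin.rev i0) *
          hhFun (Fin.rev i1) (Fin.rev i0) (su ^ q) (Fin.rev i0) = (s ^ q)⁻¹ := by
        unfold hhFun
        rw [if_neg hi0.symm, if_neg h10'.symm, one_mul, if_neg (rev_ne h01).symm, if_pos rfl,
          Units.val_inv_eq_inv_val, Units.val_pow_eq_pow_val]
        rfl
      have hsq0 : s ^ q ≠ 0 := pow_ne_zero _ hs0
      have hconj : hhJ q h01 su * SpecialLinearGroup.transvection hi0 c0 * (hhJ q h01 su)⁻¹ =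
          SpecialLinearGroup.transvection hi0 c := by
        apply diag_conj_tv _ _ hcoe hi0 c0 c
        rw [hd0, hd0']
        have hc : c = c0 * s ^ (q + 1) := by
          rw [hs, hμ]
          field_simp
        rw [hc, pow_succ]
        field_simp
      rw [← hconj]
      apply hsc _ hmem _ hmemh
      rw [hconj]
      exact hUJ i0 hi0 c (by omega) hc
  -- Step 2: move to the index `i`
  intro i hi c hlt hc
  by_cases hii0 : i = i0
  · subst hii0
    exact step1 c hc
  · have h0i : i0 ≠ i := fun e => hii0 e.symm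
    have h0i' : i0 ≠ Fin.rev i := by
      intro e
      have := congrArg Fin.val e
      rw [Fin.val_rev, h0] at this
      omega
    have hq1 : ((-1 : F)) ^ q = -1 := by
      rw [neg_pow_q hF, one_pow]
    have hw : xs q h0i (1 : F) * xs q h0i.symm (-1 : F) * xs q h0i (1 : F) ∈ GJ n F q := by
      refine (GJ n F q).mul_mem ((GJ n F q).mul_mem ?_ ?_) ?_
      · exact Cfsg.Agent.Lib.Helper63_S5172_A1.A1_mem hF h0i hi0 hi 1
      · exact Cfsg.Agent.Lib.Helper63_S5172_A1.A1_mem hF h0i.symm hi hi0 (-1)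
      · exact Cfsg.Agent.Lib.Helper63_S5172_A1.A1_mem hF h0i hi0 hi 1
    have hconj := weyl_conj (q := q) hq1 h0i hi0 hi h0i' c
    rw [← hconj]
    apply hsc _ (step1 c hc) _ hw
    rw [hconj]
    exact hUJ i hi c hlt hc


end Cfsg.Agent.Lib.Helper29_S5172_D2
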