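import Mathlib
import Cfsg.Prelude.Def_GeometricClasses
import Cfsg.Agent.Lib.Helper97_TensDefs

/-!
# S5637 package TP10a (architect helper97): a transvection of `V = Matrix ι κ F` is not Kronecker.
-/

set_option autoImplicit false
set_option linter.unusedSectionVars false
set_option linter.unusedVariables false
set_option linter.unusedSimpArgs false

namespace Cfsg.Agent.Lib.Helper43_Tens_TP10a

open Matrix
open Cfsg.Agent.Lib.Helper98_ExtDefs Cfsg.Agent.Lib.Helper97_TensDefs

variable {F : Type*} [Field F] {ι κ : Type*} [Fintype ι] [Fintype κ] [DecidableEq ι] [DecidableEq κ]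

/-- entries of a Kronecker image of a matrix unit -/
theorem kron_single_apply (P : Matrix ι ι F) (Q : Matrix κ κ F) (i : ι) (j : κ) (r : ι) (s : κ) :
    (P * Matrix.single i j (1 : F) * Qᵀ) r s = P r i * Q s j := by
  rw [Matrix.mul_apply]
  have h1 : ∀ t : κ, (P * Matrix.single i j (1 : F)) r t = if j = t then P r i else 0 := by
    intro t
    rw [Matrix.mul_apply]
    simp only [Matrix.single_apply]
    by_cases hjt : j = t
    · subst hjt
      simp
    · simp [hjt]
  simp only [h1, Matrix.transpose_apply, ite_mul, zero_mul, Finset.sum_ite_eq, Finset.mem_univ,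
    if_true]

/-- **TP10a** (S).  A transvection of `V` is not Kronecker. -/
theorem exists_not_isKron (ha : 2 ≤ Fintype.card ι) (hab : Fintype.card ι < Fintype.card κ) :
    ∃ g : Matrix ι κ F ≃ₗ[F] Matrix ι κ F, LinearMap.det g.toLinearMap = 1 ∧ ¬ IsKron g := by
  obtain ⟨i₀, i₁, hi⟩ := Fintype.one_lt_card_iff.mp (show 1 < Fintype.card ι by omega)
  obtain ⟨j₀, j₁, hj⟩ := Fintype.one_lt_card_iff.mp (show 1 < Fintype.card κ by omega)
  set f : Matrix ι κ F →ₗ[F] F := Matrix.entryLinearMap F F i₁ j₀ with hf
  have hfX : ∀ X : Matrix ι κ F, f X = X i₁ j₀ := fun X => rfl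
  have hfv : f (Matrix.single i₀ j₀ (1 : F)) = 0 := by
    rw [hfX, Matrix.single_apply_of_row_ne hi]
  refine ⟨LinearEquiv.transvection hfv, ?_, ?_⟩
  · have h1 := LinearEquiv.transvection.det_eq_one hfv
    rw [← LinearEquiv.coe_det, h1, Units.val_one]
  · rintro ⟨P, Q, hPQ⟩
    have hg : ∀ X : Matrix ι κ F,
        P * X * Qᵀ = X + X i₁ j₀ • Matrix.single i₀ j₀ (1 : F) := by
      intro X
      rw [← hPQ X, LinearEquiv.transvection.apply, hfX]
    -- `X = E_{i₁ j₁}` is fixed
    have h1 := hg (Matrix.single i₁ j₁ (1 : F))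
    have h1a := congrFun (congrFun h1 i₁) j₁
    have h1b := congrFun (congrFun h1 i₀) j₁
    rw [kron_single_apply] at h1a h1b
    simp only [Matrix.add_apply, Matrix.smul_apply, Matrix.single_apply, smul_eq_mul] at h1a h1b
    have hj' : ¬ (j₁ = j₀) := fun h => hj h.symm
    have hi' : ¬ (i₁ = i₀) := fun h => hi h.symm
    simp only [hj', hi', hi, and_false, false_and, if_false, and_self, if_true, zero_mul,
      mul_zero, add_zero, zero_add] at h1a h1b
    have hQ : Q j₁ j₁ ≠ 0 := by
      intro h0
      rw [h0, mul_zero] at h1a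
      exact zero_ne_one h1a
    have hP : P i₀ i₁ = 0 := by
      rcases mul_eq_zero.mp h1b with h0 | h0
      · exact h0
      · exact absurd h0 hQ
    -- `X = E_{i₁ j₀}` is moved
    have h2 := congrFun (congrFun (hg (Matrix.single i₁ j₀ (1 : F))) i₀) j₀
    rw [kron_single_apply, hP, zero_mul] at h2
    simp only [Matrix.add_apply, Matrix.smul_apply, Matrix.single_apply, smul_eq_mul, hi', hi,
      and_self, and_true, false_and, if_false, if_true, zero_add, mul_one, true_and] at h2
    exact zero_ne_one h2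

end Cfsg.Agent.Lib.Helper43_Tens_TP10a
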