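import Mathlib
import Cfsg.Prelude.Def_GeometricClasses
import Cfsg.Agent.Lib.Helper94_Bridge
import Cfsg.Agent.Lib.Helper94_SLBridge
import Cfsg.Agent.Lib.Helper94_OrthSmall
import Cfsg.Agent.Lib.Helper94_OrthBridge
import Cfsg.Agent.Lib.Helper94_OrthSiegel
import Cfsg.Agent.Lib.Helper94_OrthSiegel2
import Cfsg.Agent.Lib.Helper94_OrthGenBridge
import Cfsg.Agent.Lib.Helper94_OrthFrame
import Cfsg.Agent.Lib.Helper94_OrthFrame3
import Cfsg.Agent.Lib.Helper94_OrthHyp
import Cfsg.Agent.Lib.Helper94_OrthC2Small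

set_option autoImplicit false

/-!
Prelude vocabulary: transfer of non-maximality statements for stabilisers of orthogonal
decompositions from the abstract setting to `Ω(Q) ≤ GL`, frame vectors in planes over the fields of
order three and five, and facts on the fields of order two, four and five (helper94).
-/

namespace Cfsg.Agent.Lib.Helper94_OrthC2Bridge

open Matrix Module Cfsg.Agent.Lib.Helper94_Symp Cfsg.Agent.Lib.Helper94_Bridge
  Cfsg.Agent.Lib.Helper94_SLBridge
  Cfsg.Agent.Lib.Helper94_OrthSmall Cfsg.Agent.Lib.Helper94_OrthBridge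
  Cfsg.Agent.Lib.Helper94_OrthSiegel Cfsg.Agent.Lib.Helper94_OrthSiegel2
  Cfsg.Agent.Lib.Helper94_OrthGenBridge Cfsg.Agent.Lib.Helper94_OrthFrame
  Cfsg.Agent.Lib.Helper94_OrthFrame3 Cfsg.Agent.Lib.Helper94_OrthHyp
  Cfsg.Agent.Lib.Helper94_OrthC2Small
open scoped commutatorElement

section Abstract

variable {F V : Type*} [Field F] [Fintype F] [AddCommGroup V] [Module F V]
  [FiniteDimensional F V] {Q : V → F} {B : LinearMap.BilinForm F V}
  (hQs : ∀ (c : F) (v : V), Q (c • v) = c * c * Q v)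
  (hQp : ∀ u v : V, Q (u + v) = Q u + Q v + B u v)

include hQs hQp in
/-- **Frame vectors in planes** over the field of order three (any type). -/
theorem exists_frameVec2_any (h2 : (2 : F) ≠ 0) (hsm : ∀ x : F, x = 0 ∨ x = 1 ∨ x = -1)
    (A : Submodule F V) (hAnd : ∀ a ∈ A, a ≠ 0 → ∃ x ∈ A, B x a ≠ 0) (hA : finrank F A = 2) :
    ∃ c : F, c ≠ 0 ∧ ∃ e : V, IsFrameVec Q B A c e := by
  have hsymm := B_symm Q B hQp
  obtain ⟨a1, ha1, a2, ha2, hq1, hq2, h12, hcompl⟩ := exists_orth2 hQs hQp h2 A hAnd hA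
  refine ⟨Q a1, hq1, a1, ha1, rfl, fun v hv' hQv => ?_⟩
  obtain ⟨x, y, rfl⟩ := span_orth2 hQs hQp h2 A ha1 ha2 hq1 hq2 h12 hcompl v hv'
  rw [Q_comb2 hQs hQp h12] at hQv
  rcases hsm x with rfl | hx | hx
  · right
    simp only [map_add, map_smul, LinearMap.add_apply, LinearMap.smul_apply, smul_eq_mul,
      hsymm a2 a1, h12]
    ring
  all_goals
    left
    have hxx : x * x = 1 := by rw [hx]; ring
    have hyy : y * y * Q a2 = 0 := by linear_combination hQv - Q a1 * hxx
    have hy0 : y = 0 := by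
      rcases mul_eq_zero.mp hyy with h | h
      · exact mul_self_eq_zero.mp h
      · exact absurd h hq2
    exact ⟨x, by rw [hy0, zero_smul, add_zero]⟩

include hQs hQp in
/-- **Frame vectors in hyperbolic planes** over the field of order five. -/
theorem frameVec_hyp_five (h4 : ∀ x : F, x ≠ 0 → x * x * x * x = 1)
    (A : Submodule F V) (hAnd : ∀ a ∈ A, a ≠ 0 → ∃ x ∈ A, B x a ≠ 0) (hA : finrank F A = 2)
    {e : V} (he : e ∈ A) (he0 : e ≠ 0) (hQe : Q e = 0) :
    ∃ e₀ : V, IsFrameVec Q B A 1 e₀ := by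
  have hsymm := B_symm Q B hQp
  obtain ⟨f, hf, hQf, hef, hspan⟩ := exists_hyp_basis2 hQs hQp A hAnd hA he he0 hQe
  have hee : B e e = 0 := by rw [B_self Q B hQs hQp, hQe, mul_zero]
  have hff : B f f = 0 := by rw [B_self Q B hQs hQp, hQf, mul_zero]
  have hfe : B f e = 1 := by rw [hsymm]; exact hef
  refine ⟨e + f, A.add_mem he hf, ?_, fun v hv hQv => ?_⟩
  · rw [hQp, hQe, hQf, hef]
    ring
  · have h1 := hspan v hv
    obtain ⟨x, hx⟩ : ∃ x : F, x = B v f := ⟨_, rfl⟩
    obtain ⟨y, hy⟩ : ∃ y : F, y = B v e := ⟨_, rfl⟩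
    rw [← hx, ← hy] at h1
    have hxy : x * y = 1 := by
      rw [← hQv, h1]
      exact (Q_hyp2 hQs hQp hQe hQf hef x y).symm
    have hx0 : x ≠ 0 := by
      intro h
      rw [h, zero_mul] at hxy
      exact zero_ne_one hxy
    have hx4 := h4 x hx0
    have hfac : (x * x - 1) * (x * x + 1) = 0 := by linear_combination hx4
    have hBv : B v (e + f) = x + y := by
      rw [map_add, ← hx, ← hy, add_comm]
    rcases mul_eq_zero.mp hfac with h | h
    · left
      have hyx : y = x := by linear_combination (-y) * h + x * hxy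
      exact ⟨x, by rw [h1, hyx, smul_add]⟩
    · right
      rw [hBv]
      linear_combination y * h - x * hxy

end Abstract

section Fields

variable {F : Type*} [Field F] [Fintype F]

lemma two_ne_zero_of_odd_card (hq : Fintype.card F % 2 = 1) : (2 : F) ≠ 0 := by
  intro h2
  have hc : ringChar F = 2 := by
    have : ringChar F ∣ 2 := by
      apply ringChar.dvd
      exact_mod_cast h2
    rcases (Nat.dvd_prime Nat.prime_two).mp this with h | h
    · exfalso
      have := CharP.ringChar_ne_one (R := F)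
      exact this h
    · exact h
  have := (FiniteField.even_card_iff_char_two (F := F)).mp hc
  omega

lemma two_eq_zero_of_even_card (hq : Fintype.card F % 2 = 0) : (2 : F) = 0 := by
  have hc : ringChar F = 2 := (FiniteField.even_card_iff_char_two (F := F)).mpr hq
  haveI : CharP F 2 := ringChar.of_eq hc
  exact_mod_cast CharP.cast_eq_zero F 2

lemma field_two (hq : Fintype.card F = 2) (x : F) : x = 0 ∨ x = 1 := by
  by_cases hx : x = 0
  · exact Or.inl hx
  right
  have h1 := FiniteField.pow_card_sub_one_eq_one x hx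
  rw [hq] at h1
  simpa using h1

lemma field_four_cube (hq : Fintype.card F = 4) (x : F) (hx : x ≠ 0) : x * x * x = 1 := by
  have h1 := FiniteField.pow_card_sub_one_eq_one x hx
  rw [hq] at h1
  rw [← h1]
  ring

lemma field_four_omega (hq : Fintype.card F = 4) : ∃ w : F, w * w + w + 1 = 0 := by
  classical
  obtain ⟨c, hc0, hc1⟩ : ∃ c : F, c ≠ 0 ∧ c ≠ 1 := by
    by_contra h
    push Not at h
    have hsub : (Finset.univ : Finset F) ⊆ {0, 1} := by
      intro x _
      by_cases hx : x = 0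
      · simp [hx]
      · simp [h x hx]
    have h5 := Finset.card_le_card hsub
    have h6 : ({0, 1} : Finset F).card ≤ 2 := Finset.card_le_two
    rw [Finset.card_univ, hq] at h5
    omega
  have h3 := field_four_cube hq c hc0
  have hfac : (c - 1) * (c * c + c + 1) = 0 := by linear_combination h3
  rcases mul_eq_zero.mp hfac with h | h
  · exact absurd (sub_eq_zero.mp h) hc1
  · exact ⟨c, h⟩

lemma field_five_fourth (hq : Fintype.card F = 5) (x : F) (hx : x ≠ 0) : x * x * x * x = 1 := by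
  have h1 := FiniteField.pow_card_sub_one_eq_one x hx
  rw [hq] at h1
  rw [← h1]
  ring

end Fields

section Transfer

variable {ι : Type} [Fintype ι] [DecidableEq ι] {F : Type*} [Field F] [Fintype F]

/-- **Transfer** of non-maximality of decomposition stabilisers from the abstract setting. -/
theorem c2_transfer (Q : (ι → F) → F) (hQ : Cfsg.Geo.IsNondegenerateQuadraticForm Q) {t : ℕ}
    (D : Fin t → Submodule F (ι → F))
    (h : ∀ S : Subgroup ((ι → F) ≃ₗ[F] (ι → F)),
      (∀ g, g ∈ S ↔ ∃ π : Equiv.Perm (Fin t),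
        ∀ i, (D i).map (g : (ι → F) →ₗ[F] (ι → F)) = D (π i)) →
      ∃ K : Subgroup ((ι → F) ≃ₗ[F] (ι → F)), S ⊓ ⁅oG Q, oG Q⁆ < K ∧ K < ⁅oG Q, oG Q⁆) :
    ∃ K : Subgroup (GL ι F),
      Cfsg.Geo.decompositionStabilizer D ⊓ Cfsg.Geo.omegaGL Q < K ∧ K < Cfsg.Geo.omegaGL Q := by
  classical
  let S : Subgroup ((ι → F) ≃ₗ[F] (ι → F)) :=
    (Cfsg.Geo.decompositionStabilizer D).comap (glEquiv ι F).symm.toMonoidHom
  have hSeq : Cfsg.Geo.decompositionStabilizer D = S.comap (glEquiv ι F).toMonoidHom :=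
    (comap_symm_comap (glEquiv ι F) _).symm
  have hSchar : ∀ g, g ∈ S ↔ ∃ π : Equiv.Perm (Fin t),
      ∀ i, (D i).map (g : (ι → F) →ₗ[F] (ι → F)) = D (π i) := by
    intro g
    have key : Matrix.toLin' (((glEquiv ι F).symm g :
        Matrix.GeneralLinearGroup ι F) : Matrix ι ι F) =
        (g : (ι → F) →ₗ[F] (ι → F)) := by
      refine LinearMap.ext fun x => ?_
      rw [Matrix.toLin'_apply, ← glEquiv_apply, MulEquiv.apply_symm_apply]
      rfl
    constructor
    · rintro ⟨π, hπ⟩
      refine ⟨π, fun i => ?_⟩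
      have := hπ i
      simp only [MulEquiv.toMonoidHom_eq_coe, MonoidHom.coe_coe] at this
      rw [key] at this
      exact this
    · rintro ⟨π, hπ⟩
      refine ⟨π, fun i => ?_⟩
      simp only [MulEquiv.toMonoidHom_eq_coe, MonoidHom.coe_coe]
      rw [key]
      exact hπ i
  obtain ⟨K, h1, h2'⟩ := h S hSchar
  have hsurj : Function.Surjective (glEquiv ι F).toMonoidHom := (glEquiv ι F).surjective
  refine ⟨K.comap (glEquiv ι F).toMonoidHom, ?_, ?_⟩
  · rw [hSeq, omegaGL_eq, ← Subgroup.comap_inf]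
    exact (Subgroup.comap_lt_comap_of_surjective hsurj).mpr h1
  · rw [omegaGL_eq]
    exact (Subgroup.comap_lt_comap_of_surjective hsurj).mpr h2'

end Transfer

end Cfsg.Agent.Lib.Helper94_OrthC2Bridge
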