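import Mathlib
import Cfsg.Prelude.Def_GeometricClasses
import Cfsg.Agent.Lib.Helper97_TensDefs

/-!
# S5637 package TP9 (architect helper97): centres of full transvection groups form a subspace;
pure tensors span.
-/

set_option autoImplicit false
set_option linter.unusedSectionVars false
set_option linter.unusedVariables false

namespace Cfsg.Agent.Lib.Helper43_Tens_TP9

open Matrix
open Cfsg.Agent.Lib.Helper98_ExtDefs Cfsg.Agent.Lib.Helper97_TensDefs

section abstract

variable {F : Type*} [Field F] {V : Type*} [AddCommGroup V] [Module F V]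

/-- `v` is the centre of a full group of transvections contained in `M` -/
def IsCentre (M : Subgroup (V ≃ₗ[F] V)) (v : V) : Prop :=
  ∀ f : V →ₗ[F] F, f v = 0 → HasMap M (fun x => x + f x • v)

theorem isCentre_zero (M : Subgroup (V ≃ₗ[F] V)) : IsCentre M (0 : V) := by
  intro f _
  exact ⟨1, M.one_mem, fun x => by simp⟩

/-- the centres are closed under addition -/
theorem isCentre_add (M : Subgroup (V ≃ₗ[F] V)) {v w : V} (hv : IsCentre M v)
    (hw : IsCentre M w) : IsCentre M (v + w) := by
  intro f hf
  rw [map_add] at hf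
  by_cases hfv : f v = 0
  · -- product of two transvections
    have hfw : f w = 0 := by rw [hfv, zero_add] at hf; exact hf
    obtain ⟨g1, hg1M, hg1⟩ := hv f hfv
    obtain ⟨g2, hg2M, hg2⟩ := hw f hfw
    have hg1' : ∀ x, g1 x = x + f x • v := hg1
    have hg2' : ∀ x, g2 x = x + f x • w := hg2
    refine ⟨g1 * g2, M.mul_mem hg1M hg2M, fun x => ?_⟩
    show g1 (g2 x) = x + f x • (v + w)
    rw [hg2', hg1', map_add, map_smul, hfw, smul_zero, add_zero, smul_add]
    abel
  · by_cases hvw : v + w = 0
    · exact ⟨1, M.one_mem, fun x => by simp [hvw]⟩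
    · -- `v ∉ F w`
      have hnot : v ∉ Submodule.span F {w} := by
        intro hmem
        obtain ⟨c, rfl⟩ := Submodule.mem_span_singleton.mp hmem
        rw [map_smul, smul_eq_mul] at hf hfv
        have hfw : f w ≠ 0 := fun h0 => hfv (by rw [h0, mul_zero])
        have hc : c = -1 := by
          have : (c + 1) * f w = 0 := by rw [add_mul, one_mul]; exact hf
          rcases mul_eq_zero.mp this with h1 | h1
          · exact eq_neg_of_add_eq_zero_left h1
          · exact absurd h1 hfw
        apply hvw
        rw [hc, neg_one_smul, neg_add_cancel]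
      obtain ⟨ψ, hψv, hψw⟩ : ∃ ψ : V →ₗ[F] F, ψ v = 1 ∧ ψ w = 0 := by
        obtain ⟨ψ₀, hψ₀v, hψ₀w⟩ :=
          Submodule.exists_dual_map_eq_bot_of_notMem hnot inferInstance
        have hψ₀w' : ψ₀ w = 0 := by
          have : ψ₀ w ∈ (Submodule.span F {w}).map ψ₀ :=
            Submodule.mem_map_of_mem (Submodule.mem_span_singleton_self w)
          rw [hψ₀w] at this
          exact (Submodule.mem_bot F).mp this
        refine ⟨(ψ₀ v)⁻¹ • ψ₀, ?_, ?_⟩
        · rw [LinearMap.smul_apply, smul_eq_mul, inv_mul_cancel₀ hψ₀v]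
        · rw [LinearMap.smul_apply, hψ₀w', smul_zero]
      -- `s = 1 + ψ ⊗ w`, `t = 1 + φ' ⊗ v`
      obtain ⟨s, hsM, hs⟩ := hw ψ hψw
      have hs' : ∀ x, s x = x + ψ x • w := hs
      have hφ'x : ∀ x, (f - f v • ψ) x = f x - f v * ψ x := by
        intro x
        rw [LinearMap.sub_apply, LinearMap.smul_apply, smul_eq_mul]
      have hφ'v : (f - f v • ψ) v = 0 := by
        rw [hφ'x, hψv, mul_one, sub_self]
      obtain ⟨t, htM, ht⟩ := hv (f - f v • ψ) hφ'v
      have ht' : ∀ x, t x = x + (f - f v • ψ) x • v := ht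
      have hsinv : ∀ x, s⁻¹ x = x - ψ x • w := by
        intro x
        show s.symm x = x - ψ x • w
        rw [LinearEquiv.symm_apply_eq, hs', map_sub, map_smul, hψw, smul_zero, sub_zero]
        abel
      refine ⟨s * t * s⁻¹, M.mul_mem (M.mul_mem hsM htM) (M.inv_mem hsM), fun x => ?_⟩
      show s (t (s⁻¹ x)) = x + f x • (v + w)
      rw [hsinv, ht', hs']
      have hfw : f w = - f v := eq_neg_of_add_eq_zero_right hf
      have e1 : (f - f v • ψ) (x - ψ x • w) = f x := by
        rw [hφ'x, map_sub, map_sub, map_smul, map_smul, hψw, hfw]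
        simp only [smul_eq_mul]
        ring
      rw [e1, map_add, map_sub, map_smul, map_smul, hψw, hψv]
      simp only [smul_eq_mul, mul_zero, sub_zero, mul_one]
      module

theorem isCentre_sum (M : Subgroup (V ≃ₗ[F] V)) {α : Type*} (s : Finset α) (v : α → V)
    (h : ∀ a ∈ s, IsCentre M (v a)) : IsCentre M (∑ a ∈ s, v a) :=
  Finset.sum_induction v (IsCentre M) (fun _ _ ha hb => isCentre_add M ha hb) (isCentre_zero M) h

end abstract

variable {F : Type*} [Field F] {ι κ : Type*} [Fintype ι] [Fintype κ] [DecidableEq ι] [DecidableEq κ]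

theorem single_eq_vecMulVec (i : ι) (j : κ) (c : F) :
    Matrix.single i j c = vecMulVec (Pi.single i c) (Pi.single j (1 : F)) := by
  ext a b
  simp only [Matrix.single_apply, vecMulVec_apply, Pi.single_apply]
  by_cases h1 : i = a <;> by_cases h2 : j = b <;> simp [h1, h2, eq_comm]

/-- **TP9** (M).  Centres of full transvection groups form a subspace; pure tensors span. -/
theorem allTv_of_pure (M : Subgroup (Matrix ι κ F ≃ₗ[F] Matrix ι κ F))
    (h : ∀ (x : ι → F) (y : κ → F) (f : Matrix ι κ F →ₗ[F] F), f (vecMulVec x y) = 0 →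
      HasMap M (fun X => X + f X • vecMulVec x y)) : AllTv M := by
  intro f v hfv
  have hc : IsCentre M v := by
    rw [Matrix.matrix_eq_sum_single v]
    apply isCentre_sum
    intro i _
    apply isCentre_sum
    intro j _
    rw [single_eq_vecMulVec]
    intro f' hf'
    exact h _ _ f' hf'
  exact hc f hfv

end Cfsg.Agent.Lib.Helper43_Tens_TP9
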