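import Mathlib
import Cfsg.Agent.Lib.Helper97_TensDefs

/-!
# S5637-TP6a (for helper97): `rad_isolate`

From a non-standard element `1 + N₀` of the radical of the stabiliser of `fiber y` in `M`, isolate
one component `T ⊗ (y γᵀ)` with `T` non-scalar.
-/

set_option autoImplicit false
set_option linter.unusedSectionVars false
set_option linter.unusedVariables false

namespace Cfsg.Agent.Lib.Helper69_Tens_TP6a

open Matrix
open Cfsg.Agent.Lib.Helper98_ExtDefs Cfsg.Agent.Lib.Helper97_TensDefs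

variable {F : Type*} [Field F] {ι κ : Type*} [Fintype ι] [Fintype κ] [DecidableEq ι] [DecidableEq κ]

/-- the linear map `x ↦ (column k of N (x ⊗ z)) / y k` -/
def colMap (N : Matrix ι κ F →ₗ[F] Matrix ι κ F) (z : κ → F) (k : κ) (d : F) :
    (ι → F) →ₗ[F] (ι → F) where
  toFun x := fun i => N (vecMulVec x z) i k * d
  map_add' x x' := by
    funext i
    simp only [add_vecMulVec, map_add, Matrix.add_apply, Pi.add_apply, add_mul]
  map_smul' c x := by
    funext i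
    simp only [smul_vecMulVec, map_smul, Matrix.smul_apply, Pi.smul_apply, smul_eq_mul,
      RingHom.id_apply, mul_assoc]

/-- the matrix `T_z` -/
def TT (N : Matrix ι κ F →ₗ[F] Matrix ι κ F) (z : κ → F) (k : κ) (d : F) : Matrix ι ι F :=
  LinearMap.toMatrix' (colMap N z k d)

theorem TT_spec (y : κ → F) (k : κ) (hk : y k ≠ 0) (N : Matrix ι κ F →ₗ[F] Matrix ι κ F)
    (hN : InRad y N) (z : κ → F) (x : ι → F) :
    N (vecMulVec x z) = vecMulVec (TT N z k (y k)⁻¹ *ᵥ x) y := by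
  obtain ⟨u, hu⟩ := hN.1 (vecMulVec x z)
  have : TT N z k (y k)⁻¹ *ᵥ x = u := by
    unfold TT
    rw [LinearMap.toMatrix'_mulVec]
    funext i
    show N (vecMulVec x z) i k * (y k)⁻¹ = u i
    rw [hu, vecMulVec_apply, mul_assoc, mul_inv_cancel₀ hk, mul_one]
  rw [this, hu]

theorem fiber_mulVec_eq_zero (y γ : κ → F) (hγ : γ ⬝ᵥ y = 0) (W : Matrix ι κ F)
    (hW : W ∈ fiber (ι := ι) y) : W *ᵥ γ = 0 := by
  obtain ⟨u, rfl⟩ := hW
  rw [vecMulVec_mulVec, dotProduct_comm, hγ, MulOpposite.op_zero, zero_smul]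

theorem mul_one_sub (z γ : κ → F) (X : Matrix ι κ F) :
    (1 : Matrix ι ι F) * X * (1 - vecMulVec z γ)ᵀ = X - vecMulVec (X *ᵥ γ) z := by
  rw [Matrix.one_mul, Matrix.transpose_sub, Matrix.transpose_one, Matrix.transpose_vecMulVec,
    Matrix.mul_sub, Matrix.mul_one, Matrix.mul_vecMulVec]

theorem mul_one_add (z γ : κ → F) (X : Matrix ι κ F) :
    (1 : Matrix ι ι F) * X * (1 + vecMulVec z γ)ᵀ = X + vecMulVec (X *ᵥ γ) z := by
  rw [Matrix.one_mul, Matrix.transpose_add, Matrix.transpose_one, Matrix.transpose_vecMulVec,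
    Matrix.mul_add, Matrix.mul_one, Matrix.mul_vecMulVec]

theorem det_one_add_vecMulVec (z γ : κ → F) : (1 + vecMulVec z γ).det = 1 + γ ⬝ᵥ z := by
  rw [Matrix.vecMulVec_eq Unit, Matrix.det_one_add_replicateCol_mul_replicateRow]

/-- **TP6a** (M).  Isolating one component `T ⊗ (y γᵀ)` with `T` non-scalar. -/
theorem rad_isolate (hb : 3 ≤ Fintype.card κ)
    (M : Subgroup (Matrix ι κ F ≃ₗ[F] Matrix ι κ F)) (hK : KronHyp M)
    (y : κ → F) (hy : y ≠ 0) (N₀ : Matrix ι κ F →ₗ[F] Matrix ι κ F) (hN₀ : InRad y N₀)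
    (hM : HasMap M (fun X => X + N₀ X)) (hns : ¬ ∃ β : κ → F, β ⬝ᵥ y = 0 ∧ N₀ = nB y β) :
    ∃ (T : Matrix ι ι F) (γ : κ → F), γ ≠ 0 ∧ γ ⬝ᵥ y = 0 ∧ (¬ ∃ c : F, T = c • (1 : Matrix ι ι F)) ∧
      HasMap M (fun X => X + nT T y γ X) := by
  -- `ι` is nonempty
  rcases isEmpty_or_nonempty ι with hι | hι
  · exfalso
    apply hns
    refine ⟨0, zero_dotProduct y, ?_⟩
    apply LinearMap.ext
    intro X
    exact Subsingleton.elim _ _
  obtain ⟨i₀⟩ := hι
  obtain ⟨k, hk⟩ : ∃ k, y k ≠ 0 := by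
    by_contra hcon
    push Not at hcon
    exact hy (funext hcon)
  -- some `T_{e_l}` is not scalar
  obtain ⟨l, hl⟩ : ∃ l : κ, ¬ ∃ c : F, TT N₀ (Pi.single l 1) k (y k)⁻¹ = c • (1 : Matrix ι ι F) := by
    by_contra hcon
    push Not at hcon
    choose c hc using hcon
    have hN : N₀ = nB y c := by
      apply Matrix.ext_linearMap
      intro j l'
      apply LinearMap.ext
      intro a
      show N₀ (Matrix.single j l' a) = nB y c (Matrix.single j l' a)
      have e1 : Matrix.single j l' a = vecMulVec (Pi.single j a) (Pi.single l' (1 : F)) := by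
        ext i m
        simp only [vecMulVec_apply, Matrix.single_apply, Pi.single_apply]
        by_cases h1 : j = i <;> by_cases h2 : l' = m <;> simp [h1, h2, eq_comm]
      rw [nB_apply, Matrix.single_mulVec, e1, TT_spec y k hk N₀ hN₀, hc, Matrix.smul_mulVec,
        Matrix.one_mulVec]
      congr 1
      funext i
      by_cases h1 : j = i
      · subst h1
        simp [mul_comm]
      · simp [Function.update_of_ne (Ne.symm h1), Pi.single_apply, h1, Ne.symm h1]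
    apply hns
    refine ⟨c, ?_, hN⟩
    have h0 := hN₀.2 (vecMulVec (Pi.single i₀ 1) y) ⟨_, rfl⟩
    rw [hN, nB_apply, vecMulVec_mulVec] at h0
    have h1 := congrFun (congrFun h0 i₀) k
    simp only [vecMulVec_apply, Pi.smul_apply, MulOpposite.smul_eq_mul_unop, MulOpposite.unop_op,
      Pi.single_eq_same, one_mul, Matrix.zero_apply] at h1
    rcases mul_eq_zero.mp h1 with h2 | h2
    · rw [dotProduct_comm]
      exact h2
    · exact absurd h2 hk
  set z : κ → F := Pi.single l 1 with hz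
  set T : Matrix ι ι F := TT N₀ z k (y k)⁻¹ with hTdef
  have hT : ∀ x : ι → F, N₀ (vecMulVec x z) = vecMulVec (T *ᵥ x) y :=
    fun x => TT_spec y k hk N₀ hN₀ z x
  -- `γ`
  let f : (κ → F) →ₗ[F] (F × F) :=
    { toFun := fun γ => (γ ⬝ᵥ y, γ ⬝ᵥ z)
      map_add' := fun a b => by simp [add_dotProduct]
      map_smul' := fun a b => by simp [smul_dotProduct] }
  have hker : LinearMap.ker f ≠ ⊥ := by
    apply LinearMap.ker_ne_bot_of_finrank_lt
    rw [Module.finrank_prod, Module.finrank_self, Module.finrank_fintype_fun_eq_card]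
    omega
  obtain ⟨γ, hγker, hγ0⟩ := Submodule.exists_mem_ne_zero_of_ne_bot hker
  have hγf : f γ = 0 := hγker
  have hγy : γ ⬝ᵥ y = 0 := congrArg Prod.fst hγf
  have hγz : γ ⬝ᵥ z = 0 := congrArg Prod.snd hγf
  refine ⟨T, γ, hγ0, hγy, hl, ?_⟩
  -- the four elements of `M`
  obtain ⟨g₁, hg₁M, hg₁⟩ := hM
  obtain ⟨gm, hgmM, hgm⟩ := hK 1 (1 - vecMulVec z γ) (by
    have : (1 - vecMulVec z γ).det = 1 := by
      have := det_one_add_vecMulVec (-z) γ
      rw [Matrix.neg_vecMulVec, ← sub_eq_add_neg, dotProduct_neg, hγz, neg_zero, add_zero] at this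
      exact this
    rw [this, Matrix.det_one, one_pow, one_pow, one_mul])
  obtain ⟨gp, hgpM, hgp⟩ := hK 1 (1 + vecMulVec z γ) (by
    have : (1 + vecMulVec z γ).det = 1 := by
      rw [det_one_add_vecMulVec, hγz, add_zero]
    rw [this, Matrix.det_one, one_pow, one_pow, one_mul])
  have hgm' : ∀ X, gm X = X - vecMulVec (X *ᵥ γ) z := fun X => (hgm X).trans (mul_one_sub z γ X)
  have hgp' : ∀ X, gp X = X + vecMulVec (X *ᵥ γ) z := fun X => (hgp X).trans (mul_one_add z γ X)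
  have hNN : ∀ X, N₀ (N₀ X) = 0 := fun X => hN₀.2 _ (hN₀.1 X)
  have hg₁inv : ∀ X, g₁⁻¹ X = X - N₀ X := by
    intro X
    have h1 : g₁ (X - N₀ X) = X := by
      have h0 : g₁ (X - N₀ X) = (X - N₀ X) + N₀ (X - N₀ X) := hg₁ _
      rw [h0, map_sub, hNN, sub_zero, sub_add_cancel]
    have h2 : g₁⁻¹ (g₁ (X - N₀ X)) = X - N₀ X := by
      rw [← LinearEquiv.mul_apply, inv_mul_cancel]
      rfl
    rw [h1] at h2
    exact h2
  refine ⟨gm * g₁ * gp * g₁⁻¹, M.mul_mem (M.mul_mem (M.mul_mem hgmM hg₁M) hgpM) (M.inv_mem hg₁M), ?_⟩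
  intro X
  have hg₁' : ∀ Y, g₁ Y = Y + N₀ Y := hg₁
  show (gm * g₁ * gp * g₁⁻¹) X = X + nT T y γ X
  rw [LinearEquiv.mul_apply, LinearEquiv.mul_apply, LinearEquiv.mul_apply, hg₁inv, hgp', hg₁', hgm']
  have hnγ : N₀ X *ᵥ γ = 0 := fiber_mulVec_eq_zero y γ hγy _ (hN₀.1 X)
  have hwγ : vecMulVec (T *ᵥ (X *ᵥ γ)) y *ᵥ γ = 0 :=
    fiber_mulVec_eq_zero y γ hγy _ ⟨_, rfl⟩
  have hvz : vecMulVec (X *ᵥ γ) z *ᵥ γ = 0 := by
    rw [vecMulVec_mulVec, dotProduct_comm, hγz, MulOpposite.op_zero, zero_smul]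
  have e1 : (X - N₀ X) *ᵥ γ = X *ᵥ γ := by
    rw [Matrix.sub_mulVec, hnγ, sub_zero]
  rw [e1]
  have e2 : N₀ (X - N₀ X + vecMulVec (X *ᵥ γ) z) = N₀ X + vecMulVec (T *ᵥ (X *ᵥ γ)) y := by
    rw [map_add, map_sub, hNN, sub_zero, hT]
  rw [e2, nT_apply]
  have e3 : (X - N₀ X + vecMulVec (X *ᵥ γ) z + (N₀ X + vecMulVec (T *ᵥ (X *ᵥ γ)) y)) *ᵥ γ =
      X *ᵥ γ := by
    rw [Matrix.add_mulVec, Matrix.add_mulVec, Matrix.add_mulVec, Matrix.sub_mulVec, hnγ, hvz, hwγ]
    simp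
  rw [e3]
  abel

end Cfsg.Agent.Lib.Helper69_Tens_TP6a
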