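import Mathlib

/-!
# S5637-TP5c (helper82, for helper97's S5637 market)

No `a`-dimensional space of invertible `a × a` matrices is normalised by `SL_a(F)` unless
`a = |F| = 2`.  Also shared matrix lemmas on the elementary matrices `1 + x αᵀ` (`α·x = 0`).
-/

set_option autoImplicit false
set_option linter.unusedSectionVars false

namespace Cfsg.Agent.Lib.Helper82_Tens_TP5c

open Matrix

variable {F : Type*} [Field F] {ι : Type*} [Fintype ι] [DecidableEq ι]

theorem det_one_add_vecMulVec (x α : ι → F) (h : α ⬝ᵥ x = 0) :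
    (1 + vecMulVec x α).det = 1 := by
  rw [vecMulVec_eq Unit, det_one_add_replicateCol_mul_replicateRow, h, add_zero]

theorem vecMulVec_mul_self (x α : ι → F) (h : α ⬝ᵥ x = 0) :
    vecMulVec x α * vecMulVec x α = 0 := by
  rw [vecMulVec_mul_vecMulVec, h, zero_smul, vecMulVec_zero]

theorem one_add_mul_one_sub (x α : ι → F) (h : α ⬝ᵥ x = 0) :
    (1 + vecMulVec x α) * (1 - vecMulVec x α) = 1 := by
  have := vecMulVec_mul_self x α h
  calc (1 + vecMulVec x α) * (1 - vecMulVec x α)
      = 1 - vecMulVec x α * vecMulVec x α := by noncomm_ring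
    _ = 1 := by rw [this, sub_zero]

theorem inv_one_add_vecMulVec (x α : ι → F) (h : α ⬝ᵥ x = 0) :
    (1 + vecMulVec x α)⁻¹ = 1 - vecMulVec x α :=
  Matrix.inv_eq_right_inv (one_add_mul_one_sub x α h)

theorem vecMulVec_mulVec' (x α v : ι → F) : vecMulVec x α *ᵥ v = (α ⬝ᵥ v) • x := by
  rw [vecMulVec_mulVec, op_smul_eq_smul]

/-- the conjugation difference applied to a vector -/
theorem D_mulVec (x α : ι → F) (k : Matrix ι ι F) (v : ι → F) :
    ((1 + vecMulVec x α) * k * (1 - vecMulVec x α) - k) *ᵥ v =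
      (α ⬝ᵥ (k *ᵥ v)) • x - (α ⬝ᵥ v) • (k *ᵥ x) - ((α ⬝ᵥ v) * (α ⬝ᵥ (k *ᵥ x))) • x := by
  rw [sub_mulVec, ← mulVec_mulVec, ← mulVec_mulVec, sub_mulVec, one_mulVec, vecMulVec_mulVec',
    add_mulVec, one_mulVec, vecMulVec_mulVec', mulVec_sub, mulVec_smul, dotProduct_sub,
    dotProduct_smul, smul_eq_mul]
  module

/-- the conjugation difference applied to a row vector -/
theorem D_vecMul (x α : ι → F) (k : Matrix ι ι F) (β : ι → F) :
    β ᵥ* ((1 + vecMulVec x α) * k * (1 - vecMulVec x α) - k) =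
      (β ⬝ᵥ x) • (α ᵥ* k) - (β ⬝ᵥ (k *ᵥ x)) • α - ((β ⬝ᵥ x) * (α ⬝ᵥ (k *ᵥ x))) • α := by
  rw [vecMul_sub, ← vecMul_vecMul, ← vecMul_vecMul, vecMul_sub, vecMul_one, vecMul_add, vecMul_one,
    vecMul_vecMulVec, add_vecMul, smul_vecMul, vecMul_vecMulVec, add_dotProduct, smul_dotProduct,
    smul_eq_mul, ← dotProduct_mulVec, ← dotProduct_mulVec]
  module

theorem not_isUnit_of_mulVec_eq_zero (A : Matrix ι ι F) (v : ι → F) (hv : v ≠ 0)
    (h : A *ᵥ v = 0) : ¬ IsUnit A := by
  intro hA
  obtain ⟨B, hB⟩ := hA.exists_left_inv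
  apply hv
  calc v = (B * A) *ᵥ v := by rw [hB, one_mulVec]
    _ = 0 := by rw [← mulVec_mulVec, h, mulVec_zero]

/-- two distinct indices give `x, α ≠ 0` with `α·x = 0` -/
theorem exists_orth (ha : 2 ≤ Fintype.card ι) :
    ∃ x α : ι → F, x ≠ 0 ∧ α ≠ 0 ∧ α ⬝ᵥ x = 0 := by
  obtain ⟨i, j, hij⟩ := Fintype.exists_pair_of_one_lt_card (show 1 < Fintype.card ι by omega)
  refine ⟨Pi.single i 1, Pi.single j 1, ?_, ?_, ?_⟩
  · intro h
    have := congrFun h i
    simp at this
  · intro h
    have := congrFun h j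
    simp at this
  · rw [single_dotProduct, one_mul, Pi.single_eq_of_ne hij.symm]

/-- **TP5c**.  No `a`-dimensional space of invertible matrices normalised by `SL_a(F)` unless
`a = |F| = 2`. -/
theorem no_division_space (ha : 2 ≤ Fintype.card ι) (K : Submodule F (Matrix ι ι F))
    (hdim : Module.finrank F K = Fintype.card ι)
    (hinv : ∀ T ∈ K, T ≠ 0 → IsUnit T)
    (hconj : ∀ P : Matrix ι ι F, P.det = 1 → ∀ T ∈ K, P * T * P⁻¹ ∈ K) :
    Fintype.card ι = 2 ∧ Nat.card F = 2 := by
  classical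
  obtain ⟨x, α, hx, hα, hαx⟩ := exists_orth (F := F) ha
  -- non-units of `K` vanish
  have hzero : ∀ T ∈ K, ¬ IsUnit T → T = 0 := by
    intro T hT hu
    by_contra h0
    exact hu (hinv T hT h0)
  -- the conjugation differences lie in `K`
  have hD : ∀ x' : ι → F, α ⬝ᵥ x' = 0 → ∀ k ∈ K,
      (1 + vecMulVec x' α) * k * (1 - vecMulVec x' α) - k ∈ K := by
    intro x' hx' k hk
    have h1 := hconj (1 + vecMulVec x' α) (det_one_add_vecMulVec x' α hx') k hk
    rw [inv_one_add_vecMulVec x' α hx'] at h1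
    exact K.sub_mem h1 hk
  -- `k ↦ k x` is onto
  let L : K →ₗ[F] (ι → F) :=
    { toFun := fun k => (k : Matrix ι ι F) *ᵥ x
      map_add' := fun k k' => by simp [add_mulVec]
      map_smul' := fun c k => by simp [smul_mulVec] }
  have hLinj : Function.Injective L := by
    rw [← LinearMap.ker_eq_bot, LinearMap.ker_eq_bot']
    intro k hk
    have hk' : (k : Matrix ι ι F) *ᵥ x = 0 := hk
    have := hzero k k.2 (not_isUnit_of_mulVec_eq_zero _ x hx hk')
    exact Subtype.ext this
  have hLsurj : Function.Surjective L := by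
    have hfin : Module.finrank F K = Module.finrank F (ι → F) := by
      rw [hdim, Module.finrank_fintype_fun_eq_card]
    exact (LinearMap.injective_iff_surjective_of_finrank_eq_finrank hfin).mp hLinj
  -- a vector `w` with `α·w = 1`
  obtain ⟨j, hj⟩ : ∃ j, α j ≠ 0 := by
    by_contra hcon
    push Not at hcon
    exact hα (funext hcon)
  obtain ⟨⟨k, hkK⟩, hk⟩ := hLsurj (Pi.single j (α j)⁻¹)
  have hkx : k *ᵥ x = Pi.single j (α j)⁻¹ := hk
  have hαkx : α ⬝ᵥ (k *ᵥ x) = 1 := by
    rw [hkx, dotProduct_single, mul_inv_cancel₀ hj]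
  constructor
  · -- `a = 2`
    by_contra hne
    have h3 : 3 ≤ Fintype.card ι := by omega
    -- a non-zero `v` with `α·v = 0` and `α·(k v) = 0`
    let Ψ : (ι → F) →ₗ[F] (F × F) :=
      { toFun := fun v => (α ⬝ᵥ v, α ⬝ᵥ (k *ᵥ v))
        map_add' := fun v v' => by simp [dotProduct_add, mulVec_add]
        map_smul' := fun c v => by simp [dotProduct_smul, mulVec_smul] }
    have hker : LinearMap.ker Ψ ≠ ⊥ := by
      apply LinearMap.ker_ne_bot_of_finrank_lt
      rw [Module.finrank_prod, Module.finrank_self, Module.finrank_fintype_fun_eq_card]; omega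
    obtain ⟨v, hvmem, hv0⟩ := Submodule.exists_mem_ne_zero_of_ne_bot hker
    rw [LinearMap.mem_ker] at hvmem
    have hv1 : α ⬝ᵥ v = 0 := congrArg Prod.fst hvmem
    have hv2 : α ⬝ᵥ (k *ᵥ v) = 0 := congrArg Prod.snd hvmem
    have hDK := hD x hαx k hkK
    have hDv : ((1 + vecMulVec x α) * k * (1 - vecMulVec x α) - k) *ᵥ v = 0 := by
      rw [D_mulVec, hv1, hv2]; simp
    have hD0 := hzero _ hDK (not_isUnit_of_mulVec_eq_zero _ v hv0 hDv)
    have hDx : ((1 + vecMulVec x α) * k * (1 - vecMulVec x α) - k) *ᵥ x = x := by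
      rw [D_mulVec, hαx, hαkx]; simp
    rw [hD0, zero_mulVec] at hDx
    exact hx hDx.symm
  · -- `|F| = 2`
    have hc01 : ∀ c : F, c = 0 ∨ c = 1 := by
      intro c
      have hcx : α ⬝ᵥ (c • x) = 0 := by rw [dotProduct_smul, hαx, smul_zero]
      have h1 := hD (c • x) hcx k hkK
      have h2 := hD x hαx k hkK
      have hZ := K.sub_mem h1 (K.smul_mem c h2)
      have hZx : (((1 + vecMulVec (c • x) α) * k * (1 - vecMulVec (c • x) α) - k)
          - c • ((1 + vecMulVec x α) * k * (1 - vecMulVec x α) - k)) *ᵥ x = 0 := by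
        rw [sub_mulVec, smul_mulVec, D_mulVec, D_mulVec, hαx]
        simp only [zero_smul, zero_mul, sub_zero]
        module
      have hZ0 := hzero _ hZ (not_isUnit_of_mulVec_eq_zero _ x hx hZx)
      have hZw := congrArg (fun A : Matrix ι ι F => A *ᵥ (k *ᵥ x)) hZ0
      simp only [zero_mulVec] at hZw
      rw [sub_mulVec, smul_mulVec, D_mulVec, D_mulVec, hαkx, mulVec_smul, dotProduct_smul, hαkx] at hZw
      -- hZw : ... = 0, a multiple of x
      have hfin : (c - c * c) • x = 0 := by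
        rw [← hZw]
        simp only [smul_eq_mul, mul_one, one_mul, one_smul]
        module
      rcases smul_eq_zero.mp hfin with h | h
      · have : c * (1 - c) = 0 := by linear_combination h
        rcases mul_eq_zero.mp this with h0 | h1
        · exact Or.inl h0
        · right; exact (sub_eq_zero.mp h1).symm
      · exact absurd h hx
    rw [Nat.card_eq_two_iff]
    refine ⟨0, 1, zero_ne_one, Set.eq_univ_of_forall (fun c => ?_)⟩
    rcases hc01 c with rfl | rfl <;> simp

end Cfsg.Agent.Lib.Helper82_Tens_TP5c
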