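import Mathlib
import Cfsg.Agent.Lib.Helper82_Tens_TP5c

/-!
# S5637-TP6b (helper82, for helper97's S5637 market)

An `SL_a`-stable additive group of matrices containing the scalars and a non-scalar matrix contains a
nilpotent matrix of rank one (unless `a = |F| = 2`).
-/

set_option autoImplicit false
set_option linter.unusedSectionVars false

namespace Cfsg.Agent.Lib.Helper82_Tens_TP6b

open Matrix Cfsg.Agent.Lib.Helper82_Tens_TP5c

variable {F : Type*} [Field F] {ι : Type*} [Fintype ι] [DecidableEq ι]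

/-- a non-scalar matrix moves some line -/
theorem exists_not_eigen (T : Matrix ι ι F) (hns : ¬ ∃ c : F, T = c • (1 : Matrix ι ι F)) :
    ∃ x : ι → F, ∀ c : F, c • x ≠ T *ᵥ x := by
  classical
  by_contra hcon
  push Not at hcon
  choose c hc using fun i : ι => hcon (Pi.single i 1)
  have hcij : ∀ i j : ι, c i = c j := by
    intro i j
    by_cases hij : i = j
    · rw [hij]
    obtain ⟨d, hd⟩ := hcon (Pi.single i 1 + Pi.single j 1)
    rw [mulVec_add, ← hc i, ← hc j] at hd
    have hi := congrFun hd i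
    have hj := congrFun hd j
    have hji : j ≠ i := fun h => hij h.symm
    simp [Pi.single_eq_of_ne hij, Pi.single_eq_of_ne hji] at hi hj
    rw [← hi, ← hj]
  apply hns
  by_cases hne : Nonempty ι
  · obtain ⟨i0⟩ := hne
    refine ⟨c i0, ?_⟩
    ext i j
    have h1 := congrFun (hc j) i
    rw [mulVec_single_one] at h1
    have h2 : T i j = c j * (Pi.single j 1 : ι → F) i := by
      rw [show T i j = T.col j i from rfl, ← h1]; rfl
    rw [h2, hcij j i0, Matrix.smul_apply, smul_eq_mul, one_apply, Pi.single_apply]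
  · refine ⟨0, ?_⟩
    ext i j
    exact absurd ⟨i⟩ hne

/-- a functional vanishing on `x` and taking the value `1` on `w ∉ F x` -/
theorem exists_dual_pair (x w : ι → F) (hxw : ∀ c : F, c • x ≠ w) :
    ∃ α : ι → F, α ⬝ᵥ x = 0 ∧ α ⬝ᵥ w = 1 := by
  classical
  by_cases hx : x = 0
  · subst hx
    have hw : w ≠ 0 := fun h => hxw 0 (by rw [h, smul_zero])
    obtain ⟨j, hj⟩ : ∃ j, w j ≠ 0 := by
      by_contra hcon
      push Not at hcon
      exact hw (funext hcon)
    exact ⟨Pi.single j (w j)⁻¹, by simp, by rw [single_dotProduct, inv_mul_cancel₀ hj]⟩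
  obtain ⟨i, hi⟩ : ∃ i, x i ≠ 0 := by
    by_contra hcon
    push Not at hcon
    exact hx (funext hcon)
  obtain ⟨j, hj⟩ : ∃ j, (w i / x i) * x j ≠ w j := by
    by_contra hcon
    push Not at hcon
    exact hxw (w i / x i) (funext hcon)
  have hΔ : x i * w j - x j * w i ≠ 0 := by
    intro h
    apply hj
    field_simp
    linear_combination -h
  refine ⟨Pi.single i (-x j / (x i * w j - x j * w i)) + Pi.single j (x i / (x i * w j - x j * w i)),
    ?_, ?_⟩
  · rw [add_dotProduct, single_dotProduct, single_dotProduct]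
    field_simp
    ring
  · rw [add_dotProduct, single_dotProduct, single_dotProduct]
    field_simp
    ring

/-- if `card ι = 2`, `x` and `w ∉ F x` span `F^ι` -/
theorem exists_decomp (hcard : Fintype.card ι = 2) (x w : ι → F) (hx : x ≠ 0)
    (hxw : ∀ c : F, c • x ≠ w) : ∀ v : ι → F, ∃ s t : F, v = s • x + t • w := by
  let φ : (F × F) →ₗ[F] (ι → F) :=
    LinearMap.coprod (LinearMap.toSpanSingleton F _ x) (LinearMap.toSpanSingleton F _ w)
  have hφ : ∀ p : F × F, φ p = p.1 • x + p.2 • w := fun p => by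
    simp [φ, LinearMap.coprod_apply, LinearMap.toSpanSingleton_apply]
  have hinj : Function.Injective φ := by
    rw [← LinearMap.ker_eq_bot, LinearMap.ker_eq_bot']
    rintro ⟨s, t⟩ hst
    rw [hφ] at hst
    simp only at hst
    have ht : t = 0 := by
      by_contra ht
      apply hxw (-(s / t))
      have h1 : t • w = -(s • x) := eq_neg_of_add_eq_zero_right hst
      have h2 : w = t⁻¹ • (t • w) := by rw [smul_smul, inv_mul_cancel₀ ht, one_smul]
      rw [h2, h1, smul_neg, smul_smul, neg_smul, div_eq_inv_mul, mul_comm]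
    rw [ht, zero_smul, add_zero] at hst
    have hs : s = 0 := by
      rcases smul_eq_zero.mp hst with h | h
      · exact h
      · exact absurd h hx
    rw [hs, ht]; rfl
  have hsurj : Function.Surjective φ := by
    have hfin : Module.finrank F (F × F) = Module.finrank F (ι → F) := by
      rw [Module.finrank_prod, Module.finrank_self, Module.finrank_fintype_fun_eq_card, hcard]
    exact (LinearMap.injective_iff_surjective_of_finrank_eq_finrank hfin).mp hinj
  intro v
  obtain ⟨⟨s, t⟩, hst⟩ := hsurj v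
  exact ⟨s, t, by rw [← hst, hφ]⟩

/-- **TP6b**.  An `SL_a`-stable additive group of matrices with scalars and a non-scalar contains a
nilpotent of rank one. -/
theorem alg_rank_one (ha : 2 ≤ Fintype.card ι) (hex : ¬ (Fintype.card ι = 2 ∧ Nat.card F = 2))
    (S : AddSubgroup (Matrix ι ι F)) (hsc : ∀ c : F, c • (1 : Matrix ι ι F) ∈ S)
    (hconj : ∀ x α : ι → F, α ⬝ᵥ x = 0 → ∀ T ∈ S,
      (1 + vecMulVec x α) * T * (1 - vecMulVec x α) ∈ S)
    (T : Matrix ι ι F) (hT : T ∈ S) (hns : ¬ ∃ c : F, T = c • (1 : Matrix ι ι F)) :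
    ∃ x α : ι → F, x ≠ 0 ∧ α ≠ 0 ∧ α ⬝ᵥ x = 0 ∧ vecMulVec x α ∈ S := by
  classical
  obtain ⟨x, hxw⟩ := exists_not_eigen T hns
  have hx : x ≠ 0 := by
    rintro rfl
    exact hxw 0 (by rw [smul_zero, mulVec_zero])
  obtain ⟨α, hαx, hαw⟩ := exists_dual_pair x (T *ᵥ x) hxw
  have hα : α ≠ 0 := by
    rintro rfl
    rw [zero_dotProduct] at hαw
    exact zero_ne_one hαw
  have hZTZ : vecMulVec x α * T * vecMulVec x α = vecMulVec x α := by
    rw [vecMulVec_mul, vecMulVec_mul_vecMulVec, ← dotProduct_mulVec, hαw, one_smul]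
  by_cases h2 : (2 : F) = 0
  swap
  · -- characteristic ≠ 2
    have h1 := hconj x α hαx T hT
    have h1' := hconj (-x) α (by rw [dotProduct_neg, hαx, neg_zero]) T hT
    rw [neg_vecMulVec] at h1'
    have hsum : T + T - (1 + vecMulVec x α) * T * (1 - vecMulVec x α)
        - (1 + -vecMulVec x α) * T * (1 - -vecMulVec x α)
        = vecMulVec x α * T * vecMulVec x α + vecMulVec x α * T * vecMulVec x α := by
      noncomm_ring
    have hmem : vecMulVec x α + vecMulVec x α ∈ S := by
      rw [← hZTZ, ← hsum]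
      exact S.sub_mem (S.sub_mem (S.add_mem hT hT) h1) h1'
    refine ⟨x + x, α, ?_, hα, by rw [dotProduct_add, hαx, add_zero], ?_⟩
    · rw [← two_smul F x]
      exact smul_ne_zero h2 hx
    · rw [add_vecMulVec]; exact hmem
  · by_cases h3 : 3 ≤ Fintype.card ι
    · -- characteristic 2, `a ≥ 3`
      let Ψ : (ι → F) →ₗ[F] (F × F) :=
        { toFun := fun β => (β ⬝ᵥ x, β ⬝ᵥ (T *ᵥ x))
          map_add' := fun β β' => by simp [add_dotProduct]
          map_smul' := fun c β => by simp [smul_dotProduct] }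
      have hker : LinearMap.ker Ψ ≠ ⊥ := by
        apply LinearMap.ker_ne_bot_of_finrank_lt
        rw [Module.finrank_prod, Module.finrank_self, Module.finrank_fintype_fun_eq_card]; omega
      obtain ⟨α', hmem, hα'0⟩ := Submodule.exists_mem_ne_zero_of_ne_bot hker
      rw [LinearMap.mem_ker] at hmem
      have hα'x : α' ⬝ᵥ x = 0 := congrArg Prod.fst hmem
      have hα'w : α' ⬝ᵥ (T *ᵥ x) = 0 := congrArg Prod.snd hmem
      have hT2 : (1 + vecMulVec x α) * T * (1 - vecMulVec x α) - T ∈ S :=
        S.sub_mem (hconj x α hαx T hT) hT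
      obtain ⟨T2, hT2def⟩ : ∃ T2, T2 = (1 + vecMulVec x α) * T * (1 - vecMulVec x α) - T := ⟨_, rfl⟩
      rw [← hT2def] at hT2
      have hZ'T2 : vecMulVec x α' * T2 = 0 := by
        rw [vecMulVec_mul, hT2def, D_vecMul, hα'x, hα'w]
        simp
      have hT2Z' : T2 * vecMulVec x α' = vecMulVec x α' := by
        rw [mul_vecMulVec, hT2def, D_mulVec, hαx, hαw]
        simp
      have h := hconj x α' hα'x T2 hT2
      have hid : (1 + vecMulVec x α') * T2 * (1 - vecMulVec x α') - T2
          = vecMulVec x α' * T2 - T2 * vecMulVec x α' - (vecMulVec x α' * T2) * vecMulVec x α' := by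
        noncomm_ring
      have hneg : -vecMulVec x α' ∈ S := by
        have h' := S.sub_mem h hT2
        rw [hid, hZ'T2, hT2Z'] at h'
        simpa using h'
      refine ⟨x, α', hx, hα'0, hα'x, ?_⟩
      have := S.neg_mem hneg
      rwa [neg_neg] at this
    · -- characteristic 2, `a = 2`, `|F| ≠ 2`
      have hcard : Fintype.card ι = 2 := by omega
      have hF : Nat.card F ≠ 2 := fun h => hex ⟨hcard, h⟩
      have hdecomp := exists_decomp hcard x (T *ᵥ x) hx hxw
      obtain ⟨t2, ht2⟩ : ∃ t2 : F, t2 = α ⬝ᵥ (T *ᵥ (T *ᵥ x)) := ⟨_, rfl⟩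
      -- a scalar `c ∉ {0, t2}`
      obtain ⟨c, hc0, hct⟩ : ∃ c : F, c ≠ 0 ∧ c ≠ t2 := by
        by_contra hcon
        push Not at hcon
        have h1 : (1 : F) = t2 := hcon 1 one_ne_zero
        apply hF
        rw [Nat.card_eq_two_iff]
        refine ⟨0, 1, zero_ne_one, Set.eq_univ_of_forall (fun c => ?_)⟩
        by_cases hc : c = 0
        · simp [hc]
        · have := hcon c hc
          rw [← h1] at this
          simp [this]
      have hcx : α ⬝ᵥ (c • x) = 0 := by rw [dotProduct_smul, hαx, smul_zero]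
      have hD : (1 + vecMulVec (c • x) α) * T * (1 - vecMulVec (c • x) α) - T ∈ S :=
        S.sub_mem (hconj (c • x) α hcx T hT) hT
      have hid : (1 + vecMulVec (c • x) α) * T * (1 - vecMulVec (c • x) α) - T - c • (1 : Matrix ι ι F)
          = vecMulVec ((c * t2 - c * c) • x) α := by
        rw [Matrix.ext_iff_mulVec]
        intro v
        obtain ⟨s, t, rfl⟩ := hdecomp v
        rw [sub_mulVec, D_mulVec, smul_mulVec, one_mulVec, vecMulVec_mulVec']
        simp only [mulVec_add, mulVec_smul, dotProduct_add, dotProduct_smul, hαx, hαw, ← ht2,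
          smul_eq_mul, mul_zero, mul_one, zero_add]
        linear_combination (norm := module) (-(t * c)) • h2 • (T *ᵥ x)
      refine ⟨(c * t2 - c * c) • x, α, smul_ne_zero ?_ hx, hα,
        by rw [dotProduct_smul, hαx, smul_zero], ?_⟩
      · have : c * t2 - c * c = c * (t2 - c) := by ring
        rw [this]
        exact mul_ne_zero hc0 (sub_ne_zero.mpr (Ne.symm hct))
      · rw [← hid]
        exact S.sub_mem hD (hsc c)

end Cfsg.Agent.Lib.Helper82_Tens_TP6b
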