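import Mathlib
import Cfsg.Agent.Lib.Helper97_TensDefs
import Cfsg.Agent.Lib.Helper69_Tens_TP6a
import Cfsg.Agent.Lib.Helper82_Tens_TP6b

set_option autoImplicit false
set_option linter.unusedSectionVars false
set_option linter.unusedVariables false

namespace Cfsg.Agent.Lib.Helper52_Tens_TP6

open Matrix
open Cfsg.Agent.Lib.Helper98_ExtDefs Cfsg.Agent.Lib.Helper97_TensDefs

variable {F : Type*} [Field F] {ι κ : Type*} [Fintype ι] [Fintype κ] [DecidableEq ι] [DecidableEq κ]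

theorem det_one_add_vecMulVec {n : Type*} [Fintype n] [DecidableEq n] (u v : n → F) :
    (1 + vecMulVec u v).det = 1 + v ⬝ᵥ u := by
  rw [vecMulVec_eq Unit, det_one_add_replicateCol_mul_replicateRow]

theorem transpose_vecMulVec' {m n : Type*} (u : m → F) (v : n → F) :
    (vecMulVec u v)ᵀ = vecMulVec v u := by
  ext i j
  rw [transpose_apply, vecMulVec_apply, vecMulVec_apply, mul_comm]

theorem vecMulVec_mulVec' {m n : Type*} [Fintype n] (u : m → F) (v w : n → F) :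
    vecMulVec u v *ᵥ w = (v ⬝ᵥ w) • u := by
  rw [vecMulVec_mulVec, op_smul_eq_smul]

/-- the root elements `1 ⊗ (1 + y βᵀ)` lie in `M` -/
theorem hasMap_nB (M : Subgroup (Matrix ι κ F ≃ₗ[F] Matrix ι κ F)) (hK : KronHyp M)
    (y β : κ → F) (hβy : β ⬝ᵥ y = 0) : HasMap M (fun X => X + nB (ι := ι) y β X) := by
  obtain ⟨g, hg, hgX⟩ := hK (1 : Matrix ι ι F) (1 + vecMulVec y β) (by
    rw [det_one, one_pow, one_mul, det_one_add_vecMulVec, hβy, add_zero, one_pow])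
  beta_reduce at hgX
  refine ⟨g, hg, fun X => ?_⟩
  beta_reduce
  rw [hgX, Matrix.one_mul, transpose_add, transpose_one, transpose_vecMulVec', Matrix.mul_add,
    Matrix.mul_one, mul_vecMulVec, nB_apply]

/-- the root elements `(1 + x αᵀ) ⊗ 1` lie in `M` -/
theorem hasMap_left (M : Subgroup (Matrix ι κ F ≃ₗ[F] Matrix ι κ F)) (hK : KronHyp M)
    (x α : ι → F) (hαx : α ⬝ᵥ x = 0) : HasMap M (fun X => (1 + vecMulVec x α) * X) := by
  obtain ⟨g, hg, hgX⟩ := hK (1 + vecMulVec x α) (1 : Matrix κ κ F) (by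
    rw [det_one, one_pow, mul_one, det_one_add_vecMulVec, hαx, add_zero, one_pow])
  beta_reduce at hgX
  refine ⟨g, hg, fun X => ?_⟩
  beta_reduce
  rw [hgX, transpose_one, Matrix.mul_one]

theorem nT_nT (T₁ T₂ : Matrix ι ι F) (y γ : κ → F) (hγy : γ ⬝ᵥ y = 0) (X : Matrix ι κ F) :
    nT T₁ y γ (nT T₂ y γ X) = 0 := by
  rw [nT_apply, nT_apply, vecMulVec_mulVec', dotProduct_comm, hγy, zero_smul, mulVec_zero,
    zero_vecMulVec]

theorem nT_add (T₁ T₂ : Matrix ι ι F) (y γ : κ → F) (X : Matrix ι κ F) :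
    nT (T₁ + T₂) y γ X = nT T₁ y γ X + nT T₂ y γ X := by
  rw [nT_apply, nT_apply, nT_apply, add_mulVec, add_vecMulVec]

theorem nT_neg (T : Matrix ι ι F) (y γ : κ → F) (X : Matrix ι κ F) :
    nT (-T) y γ X = - nT T y γ X := by
  rw [nT_apply, nT_apply, neg_mulVec, neg_vecMulVec]

/-- the additive group of the `T` with `1 + T ⊗ (y γᵀ) ∈ M` -/
def radGroup (M : Subgroup (Matrix ι κ F ≃ₗ[F] Matrix ι κ F)) (y γ : κ → F) (hγy : γ ⬝ᵥ y = 0) :
    AddSubgroup (Matrix ι ι F) where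
  carrier := {T | HasMap M (fun X => X + nT T y γ X)}
  zero_mem' := by
    refine ⟨1, M.one_mem, fun X => ?_⟩
    beta_reduce
    rw [nT_apply, zero_mulVec, zero_vecMulVec, add_zero]
    rfl
  add_mem' := by
    rintro T₁ T₂ ⟨g₁, hg₁, h₁⟩ ⟨g₂, hg₂, h₂⟩
    beta_reduce at h₁ h₂
    refine ⟨g₁ * g₂, M.mul_mem hg₁ hg₂, fun X => ?_⟩
    beta_reduce
    rw [LinearEquiv.mul_apply, h₂, h₁, map_add, nT_nT T₁ T₂ y γ hγy, add_zero, nT_add]
    abel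
  neg_mem' := by
    rintro T ⟨g, hg, h⟩
    beta_reduce at h
    refine ⟨g⁻¹, M.inv_mem hg, fun X => ?_⟩
    beta_reduce
    have h1 : g (X + nT (-T) y γ X) = X := by
      rw [h, map_add, nT_neg, map_neg, nT_nT T T y γ hγy, neg_zero, add_zero]
      abel
    have h2 : g⁻¹ (g (X + nT (-T) y γ X)) = X + nT (-T) y γ X := by
      show g.symm (g (X + nT (-T) y γ X)) = _
      exact g.symm_apply_apply _
    rw [h1] at h2
    exact h2

theorem mem_radGroup {M : Subgroup (Matrix ι κ F ≃ₗ[F] Matrix ι κ F)} {y γ : κ → F}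
    {hγy : γ ⬝ᵥ y = 0} {T : Matrix ι ι F} :
    T ∈ radGroup M y γ hγy ↔ HasMap M (fun X => X + nT T y γ X) := Iff.rfl

/-- **TP6**, as an assembly of the statements of TP6a and TP6b. -/
theorem tv_of_rad_of
    (h6a : ∀ (hb : 3 ≤ Fintype.card κ)
      (M : Subgroup (Matrix ι κ F ≃ₗ[F] Matrix ι κ F)) (hK : KronHyp M)
      (y : κ → F) (hy : y ≠ 0) (N₀ : Matrix ι κ F →ₗ[F] Matrix ι κ F) (hN₀ : InRad y N₀)
      (hM : HasMap M (fun X => X + N₀ X)) (hns : ¬ ∃ β : κ → F, β ⬝ᵥ y = 0 ∧ N₀ = nB y β),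
      ∃ (T : Matrix ι ι F) (γ : κ → F), γ ≠ 0 ∧ γ ⬝ᵥ y = 0 ∧
        (¬ ∃ c : F, T = c • (1 : Matrix ι ι F)) ∧ HasMap M (fun X => X + nT T y γ X))
    (h6b : ∀ (ha : 2 ≤ Fintype.card ι) (hex : ¬ (Fintype.card ι = 2 ∧ Nat.card F = 2))
      (S : AddSubgroup (Matrix ι ι F)) (hsc : ∀ c : F, c • (1 : Matrix ι ι F) ∈ S)
      (hconj : ∀ x α : ι → F, α ⬝ᵥ x = 0 → ∀ T ∈ S,
        (1 + vecMulVec x α) * T * (1 - vecMulVec x α) ∈ S)
      (T : Matrix ι ι F) (hT : T ∈ S) (hns : ¬ ∃ c : F, T = c • (1 : Matrix ι ι F)),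
      ∃ x α : ι → F, x ≠ 0 ∧ α ≠ 0 ∧ α ⬝ᵥ x = 0 ∧ vecMulVec x α ∈ S)
    (ha : 2 ≤ Fintype.card ι) (hb : 3 ≤ Fintype.card κ)
    (hex : ¬ (Fintype.card ι = 2 ∧ Nat.card F = 2))
    (M : Subgroup (Matrix ι κ F ≃ₗ[F] Matrix ι κ F)) (hK : KronHyp M)
    (y : κ → F) (hy : y ≠ 0) (hrad : ¬ RadStd M y) :
    ∃ (x α : ι → F) (γ : κ → F), x ≠ 0 ∧ α ≠ 0 ∧ γ ≠ 0 ∧ α ⬝ᵥ x = 0 ∧ γ ⬝ᵥ y = 0 ∧
      HasMap M (fun X => X + (α ⬝ᵥ (X *ᵥ γ)) • vecMulVec x y) := by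
  unfold RadStd at hrad
  push Not at hrad
  obtain ⟨N₀, hN₀, hM, hns⟩ := hrad
  obtain ⟨T, γ, hγ, hγy, hTns, hTM⟩ := h6a hb M hK y hy N₀ hN₀ hM (by
    rintro ⟨β, hβ, hN⟩
    exact hns β hβ hN)
  -- scalars
  have hsc : ∀ c : F, c • (1 : Matrix ι ι F) ∈ radGroup M y γ hγy := by
    intro c
    rw [mem_radGroup]
    obtain ⟨g, hg, hgX⟩ := hasMap_nB (ι := ι) M hK y (c • γ) (by rw [smul_dotProduct, hγy, smul_zero])
    beta_reduce at hgX
    refine ⟨g, hg, fun X => ?_⟩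
    beta_reduce
    rw [hgX, nB_apply, nT_apply, mulVec_smul, smul_mulVec, one_mulVec]
  -- conjugation
  have hconj : ∀ x α : ι → F, α ⬝ᵥ x = 0 → ∀ T' ∈ radGroup M y γ hγy,
      (1 + vecMulVec x α) * T' * (1 - vecMulVec x α) ∈ radGroup M y γ hγy := by
    intro x α hαx T' hT'
    rw [mem_radGroup] at hT' ⊢
    obtain ⟨g, hg, hgX⟩ := hT'
    obtain ⟨h, hh, hhX⟩ := hasMap_left M hK x α hαx
    beta_reduce at hgX hhX
    have hPP' : (1 + vecMulVec x α) * (1 - vecMulVec x α) = 1 := by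
      rw [mul_sub, mul_one, add_mul, one_mul, vecMulVec_mul_vecMulVec, hαx, zero_smul,
        vecMulVec_zero, add_zero]
      abel
    have hinv : ∀ X, h⁻¹ X = (1 - vecMulVec x α) * X := by
      intro X
      have h1 : h ((1 - vecMulVec x α) * X) = X := by
        rw [hhX, ← Matrix.mul_assoc, hPP', Matrix.one_mul]
      have h2 : h⁻¹ (h ((1 - vecMulVec x α) * X)) = (1 - vecMulVec x α) * X := by
        show h.symm (h _) = _
        exact h.symm_apply_apply _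
      rw [h1] at h2
      exact h2
    refine ⟨h * g * h⁻¹, M.mul_mem (M.mul_mem hh hg) (M.inv_mem hh), fun X => ?_⟩
    beta_reduce
    rw [LinearEquiv.mul_apply, LinearEquiv.mul_apply, hinv, hgX, hhX, Matrix.mul_add,
      ← Matrix.mul_assoc, hPP', Matrix.one_mul, nT_apply, nT_apply, mul_vecMulVec,
      ← mulVec_mulVec, mulVec_mulVec, mulVec_mulVec, mulVec_mulVec]
  obtain ⟨x, α, hx, hα, hαx, hxα⟩ := h6b ha hex (radGroup M y γ hγy) hsc hconj T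
    (mem_radGroup.mpr hTM) hTns
  refine ⟨x, α, γ, hx, hα, hγ, hαx, hγy, ?_⟩
  obtain ⟨g, hg, hgX⟩ := mem_radGroup.mp hxα
  beta_reduce at hgX
  refine ⟨g, hg, fun X => ?_⟩
  beta_reduce
  rw [hgX, nT_apply, vecMulVec_mulVec', smul_vecMulVec]

/-- **TP6** [asm of TP6a, TP6b] (M).  A transvection from a non-standard radical element. -/
theorem tv_of_rad (ha : 2 ≤ Fintype.card ι) (hb : 3 ≤ Fintype.card κ)
    (hex : ¬ (Fintype.card ι = 2 ∧ Nat.card F = 2))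
    (M : Subgroup (Matrix ι κ F ≃ₗ[F] Matrix ι κ F)) (hK : KronHyp M)
    (y : κ → F) (hy : y ≠ 0) (hrad : ¬ RadStd M y) :
    ∃ (x α : ι → F) (γ : κ → F), x ≠ 0 ∧ α ≠ 0 ∧ γ ≠ 0 ∧ α ⬝ᵥ x = 0 ∧ γ ⬝ᵥ y = 0 ∧
      HasMap M (fun X => X + (α ⬝ᵥ (X *ᵥ γ)) • vecMulVec x y) :=
  tv_of_rad_of
    (fun hb M hK y hy N₀ hN₀ hM hns =>
      Cfsg.Agent.Lib.Helper69_Tens_TP6a.rad_isolate hb M hK y hy N₀ hN₀ hM hns)
    (fun ha hex S hsc hconj T hT hns =>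
      Cfsg.Agent.Lib.Helper82_Tens_TP6b.alg_rank_one ha hex S hsc hconj T hT hns)
    ha hb hex M hK y hy hrad

end Cfsg.Agent.Lib.Helper52_Tens_TP6
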