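import Mathlib
import Cfsg.Prelude.Def_GeometricClasses
import Cfsg.Agent.Lib.Helper97_TensDefs

/-!
# S5637 package TP3a (architect helper97): Kronecker form modulo the fibre.
-/

set_option autoImplicit false
set_option linter.unusedSectionVars false
set_option linter.unusedVariables false

namespace Cfsg.Agent.Lib.Helper59_Tens_TP3a

open Matrix
open Cfsg.Agent.Lib.Helper98_ExtDefs Cfsg.Agent.Lib.Helper97_TensDefs

variable {F : Type*} [Field F] {ι κ : Type*} [Fintype ι] [Fintype κ] [DecidableEq ι] [DecidableEq κ]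

/-- `x ↦ x ⊗ y` is injective for `y ≠ 0` -/
theorem vecMulVec_left_inj {y : κ → F} {j₀ : κ} (hj : y j₀ ≠ 0) {x x' : ι → F}
    (h : vecMulVec x y = vecMulVec x' y) : x = x' := by
  funext i
  have h1 := congrFun (congrFun h i) j₀
  rw [vecMulVec_apply, vecMulVec_apply] at h1
  exact mul_right_cancel₀ hj h1

/-- the functional `v ↦ v ⬝ᵥ y` -/
def dy (y : κ → F) : (κ → F) →ₗ[F] F where
  toFun v := v ⬝ᵥ y
  map_add' v w := add_dotProduct v w y
  map_smul' c v := smul_dotProduct c v y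

theorem dy_apply (y v : κ → F) : dy y v = v ⬝ᵥ y := rfl

/-- a vector orthogonal to `y^⊥` is a multiple of `y` -/
theorem perp_perp {y : κ → F} {j₀ : κ} (hj : y j₀ ≠ 0) (r : κ → F)
    (h : ∀ β : κ → F, β ⬝ᵥ y = 0 → r ⬝ᵥ β = 0) (k : κ) : r k = r j₀ * (y j₀)⁻¹ * y k := by
  have h1 := h (Pi.single k (y j₀) - Pi.single j₀ (y k)) (by
    rw [sub_dotProduct, single_dotProduct, single_dotProduct, mul_comm, sub_self])
  rw [dotProduct_sub, dotProduct_single, dotProduct_single, sub_eq_zero] at h1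
  field_simp
  exact h1

/-- a matrix killing `y^⊥` lies in the fibre of `y` -/
theorem mem_fiber_of_kill {y : κ → F} {j₀ : κ} (hj : y j₀ ≠ 0) (D : Matrix ι κ F)
    (h : ∀ β : κ → F, β ⬝ᵥ y = 0 → D *ᵥ β = 0) : D ∈ fiber (ι := ι) y := by
  refine ⟨fun i => D i j₀ * (y j₀)⁻¹, ?_⟩
  ext i k
  rw [vecMulVec_apply]
  exact perp_perp hj (D i) (fun β hβ => congrFun (h β hβ) i) k

/-- **TP3a** (M, pure linear algebra).  Kronecker form modulo the fibre. -/
theorem kron_mod_fiber (hι : Nonempty ι) (y : κ → F) (hy : y ≠ 0) (g : Matrix ι κ F ≃ₗ[F] Matrix ι κ F)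
    (hgy : (fiber y).map g.toLinearMap = fiber (ι := ι) y)
    (hconj : ∀ β : κ → F, β ⬝ᵥ y = 0 → ∃ β' : κ → F, β' ⬝ᵥ y = 0 ∧
      ∀ X, g (nB y β (g.symm X)) = nB y β' X) :
    ∃ (P : Matrix ι ι F) (Q : Matrix κ κ F), Q *ᵥ y = y ∧
      (∀ x : ι → F, g (vecMulVec x y) = vecMulVec (P *ᵥ x) y) ∧
      ∀ X, g X - P * X * Qᵀ ∈ fiber (ι := ι) y := by
  classical
  obtain ⟨j₀, hj⟩ : ∃ j₀, y j₀ ≠ 0 := by
    by_contra hcon
    push Not at hcon
    exact hy (funext hcon)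
  obtain ⟨i₀⟩ := hι
  -- Step 1: the matrix `P`
  let p : (ι → F) →ₗ[F] (ι → F) :=
    { toFun := fun x i => (g (vecMulVec x y)) i j₀ * (y j₀)⁻¹
      map_add' := by
        intro x x'
        funext i
        simp only [add_vecMulVec, map_add, Matrix.add_apply, Pi.add_apply, add_mul]
      map_smul' := by
        intro c x
        funext i
        simp only [smul_vecMulVec, map_smul, Matrix.smul_apply, Pi.smul_apply, smul_eq_mul,
          RingHom.id_apply, mul_assoc] }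
  have hp : ∀ x, g (vecMulVec x y) = vecMulVec (p x) y := by
    intro x
    have h1 : g (vecMulVec x y) ∈ (fiber (ι := ι) y).map g.toLinearMap :=
      Submodule.mem_map_of_mem (f := g.toLinearMap) ⟨x, rfl⟩
    rw [hgy] at h1
    obtain ⟨x', hx'⟩ := h1
    rw [hx']
    congr 1
    funext i
    show x' i = (g (vecMulVec x y)) i j₀ * (y j₀)⁻¹
    rw [hx', vecMulVec_apply, mul_assoc, mul_inv_cancel₀ hj, mul_one]
  set P : Matrix ι ι F := LinearMap.toMatrix' p with hPdef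
  have hP : ∀ x, P *ᵥ x = p x := fun x => LinearMap.toMatrix'_mulVec p x
  have hgP : ∀ x, g (vecMulVec x y) = vecMulVec (P *ᵥ x) y := by
    intro x
    rw [hP, hp]
  have hPinj : ∀ x, P *ᵥ x = 0 → x = 0 := by
    intro x hx
    have h1 := hgP x
    rw [hx, zero_vecMulVec] at h1
    have h2 : vecMulVec x y = 0 := by
      have := g.injective (h1.trans (map_zero g).symm)
      exact this
    exact vecMulVec_left_inj hj (h2.trans (zero_vecMulVec y).symm)
  -- Step 2: the key relation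
  have key : ∀ β : κ → F, β ⬝ᵥ y = 0 → ∃ β' : κ → F, β' ⬝ᵥ y = 0 ∧
      ∀ Z : Matrix ι κ F, (P * Z) *ᵥ β = (g Z) *ᵥ β' := by
    intro β hβ
    obtain ⟨β', hβ', h⟩ := hconj β hβ
    refine ⟨β', hβ', fun Z => ?_⟩
    have h1 := h (g Z)
    rw [LinearEquiv.symm_apply_apply, nB_apply, nB_apply, hgP] at h1
    rw [← mulVec_mulVec]
    exact vecMulVec_left_inj hj h1
  -- a matrix killing a vector
  have hkill : ∀ β : κ → F, (∀ Z : Matrix ι κ F, Z *ᵥ β = 0) → β = 0 := by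
    intro β h
    funext k
    have h1 := congrFun (h (Matrix.single i₀ k (1 : F))) i₀
    rw [Matrix.single_mulVec] at h1
    simpa using h1
  -- Step 3: the two injective maps
  let W : Submodule F (κ → F) := LinearMap.ker (dy y)
  have hW : ∀ v : κ → F, v ∈ W ↔ v ⬝ᵥ y = 0 := fun v => LinearMap.mem_ker
  let Φ : W →ₗ[F] (Matrix ι κ F → (ι → F)) :=
    LinearMap.pi (fun Z => (Matrix.mulVecLin (P * Z)) ∘ₗ W.subtype)
  let Ψ : W →ₗ[F] (Matrix ι κ F → (ι → F)) :=
    LinearMap.pi (fun Z => (Matrix.mulVecLin (g Z)) ∘ₗ W.subtype)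
  have hΦ : ∀ (β : W) (Z : Matrix ι κ F), Φ β Z = (P * Z) *ᵥ (β : κ → F) := fun β Z => rfl
  have hΨ : ∀ (β : W) (Z : Matrix ι κ F), Ψ β Z = (g Z) *ᵥ (β : κ → F) := fun β Z => rfl
  have hΦinj : Function.Injective Φ := by
    rw [injective_iff_map_eq_zero]
    intro β h
    apply Subtype.ext
    apply hkill
    intro Z
    apply hPinj
    rw [mulVec_mulVec, ← hΦ, h]
    rfl
  have hΨinj : Function.Injective Ψ := by
    rw [injective_iff_map_eq_zero]
    intro β h
    apply Subtype.ext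
    apply hkill
    intro Z
    have h1 := hΨ β (g.symm Z)
    rw [LinearEquiv.apply_symm_apply, h] at h1
    exact h1.symm
  have hle : LinearMap.range Φ ≤ LinearMap.range Ψ := by
    rintro _ ⟨β, rfl⟩
    obtain ⟨β', hβ', h⟩ := key β.1 ((hW _).1 β.2)
    refine ⟨⟨β', (hW _).2 hβ'⟩, ?_⟩
    funext Z
    rw [hΨ, hΦ]
    exact (h Z).symm
  have heq : LinearMap.range Φ = LinearMap.range Ψ :=
    Submodule.eq_of_le_of_finrank_eq hle (by
      rw [LinearMap.finrank_range_of_inj hΦinj, LinearMap.finrank_range_of_inj hΨinj])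
  obtain ⟨L, hL⟩ := LinearMap.exists_leftInverse_of_injective Φ (LinearMap.ker_eq_bot.mpr hΦinj)
  let τ : W →ₗ[F] W := L ∘ₗ Ψ
  have hτ : ∀ (β' : W) (Z : Matrix ι κ F), (P * Z) *ᵥ ((τ β' : W) : κ → F) = (g Z) *ᵥ (β' : κ → F) := by
    intro β' Z
    have h1 : Ψ β' ∈ LinearMap.range Φ := by
      rw [heq]
      exact ⟨β', rfl⟩
    obtain ⟨β, hβ⟩ := h1
    have h2 : τ β' = β := by
      show L (Ψ β') = β
      rw [← hβ]
      exact LinearMap.congr_fun hL β
    rw [h2, ← hΦ, hβ, hΨ]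
  -- Step 4: the matrix `S`
  let η : κ → F := Pi.single j₀ (y j₀)⁻¹
  have hη : η ⬝ᵥ y = 1 := by
    show Pi.single j₀ (y j₀)⁻¹ ⬝ᵥ y = 1
    rw [single_dotProduct, inv_mul_cancel₀ hj]
  let π : (κ → F) →ₗ[F] W :=
    LinearMap.codRestrict W (LinearMap.id - (dy y).smulRight η) (by
      intro v
      rw [hW]
      show (v - (v ⬝ᵥ y) • η) ⬝ᵥ y = 0
      rw [sub_dotProduct, smul_dotProduct, hη, smul_eq_mul, mul_one, sub_self])
  have hπ : ∀ v : κ → F, ((π v : W) : κ → F) = v - (v ⬝ᵥ y) • η := fun v => rfl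
  let Slin : (κ → F) →ₗ[F] (κ → F) := W.subtype ∘ₗ τ ∘ₗ π + (dy y).smulRight η
  have hSlin : ∀ v : κ → F, Slin v = ((τ (π v) : W) : κ → F) + (v ⬝ᵥ y) • η := fun v => rfl
  set S : Matrix κ κ F := LinearMap.toMatrix' Slin with hSdef
  have hS : ∀ v, S *ᵥ v = Slin v := fun v => LinearMap.toMatrix'_mulVec Slin v
  -- (a) on `W`
  have hSa : ∀ (β' : κ → F) (hβ' : β' ⬝ᵥ y = 0) (Z : Matrix ι κ F),
      (P * Z * S) *ᵥ β' = (g Z) *ᵥ β' := by
    intro β' hβ' Z
    have hmem : β' ∈ W := (hW _).2 hβ'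
    have h1 : π β' = ⟨β', hmem⟩ := by
      apply Subtype.ext
      rw [hπ, hβ', zero_smul, sub_zero]
    rw [← mulVec_mulVec, hS, hSlin, h1, hβ', zero_smul, add_zero, hτ]
  -- (b) `y` is fixed by the transpose
  have hSb : ∀ v : κ → F, y ⬝ᵥ (S *ᵥ v) = y ⬝ᵥ v := by
    intro v
    rw [hS, hSlin, dotProduct_add, dotProduct_smul, dotProduct_comm y η, hη, smul_eq_mul, mul_one,
      dotProduct_comm y, (hW _).1 (τ (π v)).2, zero_add, dotProduct_comm]
  refine ⟨P, Sᵀ, ?_, hgP, ?_⟩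
  · rw [mulVec_transpose]
    apply dotProduct_eq
    intro v
    rw [← dotProduct_mulVec]
    exact hSb v
  · intro X
    rw [transpose_transpose]
    apply mem_fiber_of_kill hj
    intro β hβ
    rw [sub_mulVec, hSa β hβ, sub_self]

end Cfsg.Agent.Lib.Helper59_Tens_TP3a
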