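import Mathlib
import Cfsg.Prelude.Def_GeometricClasses
import Cfsg.Agent.Lib.Helper97_TensDefs

/-!
# S5637 package TP3d (architect helper97): `N² = 0 ⇒ det (1 + N) = 1` for `N` in the radical.
-/

set_option autoImplicit false
set_option linter.unusedSectionVars false
set_option linter.unusedVariables false

namespace Cfsg.Agent.Lib.Helper59_Tens_TP3d

open Matrix
open Cfsg.Agent.Lib.Helper98_ExtDefs Cfsg.Agent.Lib.Helper97_TensDefs

variable {F : Type*} [Field F] {ι κ : Type*} [Fintype ι] [Fintype κ] [DecidableEq ι] [DecidableEq κ]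

/-- a linear endomorphism of a finite free module with square zero has `det (1 + N) = 1` -/
theorem det_id_add_of_sq_zero {V : Type*} [AddCommGroup V] [Module F V] [Module.Finite F V]
    (N : V →ₗ[F] V) (hN : N ∘ₗ N = 0) : LinearMap.det (LinearMap.id + N) = 1 := by
  have hnil : IsNilpotent (-N) := by
    refine ⟨2, ?_⟩
    rw [pow_two, neg_mul_neg, Module.End.mul_eq_comp, hN]
  have hcp := IsNilpotent.charpoly_eq_X_pow_finrank hnil
  have hev := LinearMap.eval_charpoly (-N) (1 : F)
  rw [hcp, Polynomial.eval_pow, Polynomial.eval_X, one_pow, map_one, sub_neg_eq_add,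
    Module.End.one_eq_id] at hev
  exact hev.symm

/-- **TP3d** (S).  `N² = 0 ⇒ det (1 + N) = 1`. -/
theorem det_one_add_rad (y : κ → F) (N : Matrix ι κ F →ₗ[F] Matrix ι κ F) (hN : InRad y N) :
    LinearMap.det (LinearMap.id + N) = 1 := by
  apply det_id_add_of_sq_zero
  ext X : 1
  rw [LinearMap.comp_apply, LinearMap.zero_apply]
  exact hN.2 _ (hN.1 X)

end Cfsg.Agent.Lib.Helper59_Tens_TP3d
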