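import Mathlib
import Cfsg.Agent.Lib.Helper97_TensDefs
import Cfsg.Agent.Lib.Helper59_Tens_TP3a
import Cfsg.Agent.Lib.Helper59_Tens_TP3c
import Cfsg.Agent.Lib.Helper59_Tens_TP3d
import Cfsg.Agent.Lib.Helper52_Tens_TP6

set_option autoImplicit false
set_option linter.unusedSectionVars false
set_option linter.unusedVariables false

namespace Cfsg.Agent.Lib.Helper52_Tens_TP3

open Matrix
open Cfsg.Agent.Lib.Helper98_ExtDefs Cfsg.Agent.Lib.Helper97_TensDefs
open Cfsg.Agent.Lib.Helper52_Tens_TP6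

variable {F : Type*} [Field F] {ι κ : Type*} [Fintype ι] [Fintype κ] [DecidableEq ι] [DecidableEq κ]

/-- the Kronecker map `X ↦ P * X * Qᵀ` as a linear map -/
def kronMap (P : Matrix ι ι F) (Q : Matrix κ κ F) : Matrix ι κ F →ₗ[F] Matrix ι κ F where
  toFun X := P * X * Qᵀ
  map_add' X Y := by rw [Matrix.mul_add, Matrix.add_mul]
  map_smul' c X := by rw [Matrix.mul_smul, Matrix.smul_mul, RingHom.id_apply]

theorem kronMap_apply (P : Matrix ι ι F) (Q : Matrix κ κ F) (X : Matrix ι κ F) :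
    kronMap P Q X = P * X * Qᵀ := rfl

theorem nB_mem_fiber (y β : κ → F) (X : Matrix ι κ F) : nB y β X ∈ fiber (ι := ι) y :=
  ⟨_, rfl⟩

theorem nB_fiber (y β : κ → F) (hβy : β ⬝ᵥ y = 0) (X : Matrix ι κ F)
    (hX : X ∈ fiber (ι := ι) y) : nB y β X = 0 := by
  obtain ⟨x, rfl⟩ := hX
  rw [nB_apply, vecMulVec_mulVec', dotProduct_comm, hβy, zero_smul, zero_vecMulVec]

/-- **TP3**, as an assembly of the statement of TP3a with the landed TP3c, TP3d. -/
theorem stab_isKron_of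
    (h3a : ∀ (hι : Nonempty ι) (y : κ → F) (hy : y ≠ 0) (g : Matrix ι κ F ≃ₗ[F] Matrix ι κ F)
      (hgy : (fiber y).map g.toLinearMap = fiber (ι := ι) y)
      (hconj : ∀ β : κ → F, β ⬝ᵥ y = 0 → ∃ β' : κ → F, β' ⬝ᵥ y = 0 ∧
        ∀ X, g (nB y β (g.symm X)) = nB y β' X),
      ∃ (P : Matrix ι ι F) (Q : Matrix κ κ F), Q *ᵥ y = y ∧
        (∀ x : ι → F, g (vecMulVec x y) = vecMulVec (P *ᵥ x) y) ∧
        ∀ X, g X - P * X * Qᵀ ∈ fiber (ι := ι) y)
    (M : Subgroup (Matrix ι κ F ≃ₗ[F] Matrix ι κ F))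
    (hdet : ∀ g ∈ M, LinearMap.det g.toLinearMap = 1) (hK : KronHyp M)
    (y : κ → F) (hy : y ≠ 0) (hrad : RadStd M y)
    (g : Matrix ι κ F ≃ₗ[F] Matrix ι κ F) (hg : g ∈ M)
    (hgy : (fiber y).map g.toLinearMap = fiber (ι := ι) y) : IsKron g := by
  rcases isEmpty_or_nonempty ι with hι | hι
  · exact ⟨0, 0, fun X => Subsingleton.elim _ _⟩
  -- `g` and `g⁻¹` preserve the fibre
  have hg_fib : ∀ X ∈ fiber (ι := ι) y, g X ∈ fiber (ι := ι) y := by
    intro X hX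
    rw [← hgy]
    exact Submodule.mem_map_of_mem hX
  have hgs_fib : ∀ X ∈ fiber (ι := ι) y, g.symm X ∈ fiber (ι := ι) y := by
    intro X hX
    rw [← hgy] at hX
    obtain ⟨Z, hZ, rfl⟩ := hX
    have : g.symm (g.toLinearMap Z) = Z := g.symm_apply_apply Z
    rw [this]
    exact hZ
  -- the conjugation relation
  have hconj : ∀ β : κ → F, β ⬝ᵥ y = 0 → ∃ β' : κ → F, β' ⬝ᵥ y = 0 ∧
      ∀ X, g (nB y β (g.symm X)) = nB y β' X := by
    intro β hβy
    obtain ⟨u, hu, huX⟩ := hasMap_nB (ι := ι) M hK y β hβy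
    beta_reduce at huX
    obtain ⟨N', hN'⟩ : ∃ N' : Matrix ι κ F →ₗ[F] Matrix ι κ F,
        N' = g.toLinearMap ∘ₗ nB y β ∘ₗ g.symm.toLinearMap := ⟨_, rfl⟩
    have hN'X : ∀ X, N' X = g (nB y β (g.symm X)) := by
      intro X
      rw [hN']
      rfl
    have hIn : InRad y N' := by
      refine ⟨fun X => ?_, fun X hX => ?_⟩
      · rw [hN'X]
        exact hg_fib _ (nB_mem_fiber y β _)
      · rw [hN'X, nB_fiber y β hβy _ (hgs_fib X hX), map_zero]
    have hHas : HasMap M (fun X => X + N' X) := by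
      refine ⟨g * u * g⁻¹, M.mul_mem (M.mul_mem hg hu) (M.inv_mem hg), fun X => ?_⟩
      beta_reduce
      rw [LinearEquiv.mul_apply, LinearEquiv.mul_apply, hN'X]
      have h1 : g⁻¹ X = g.symm X := rfl
      rw [h1, huX, map_add, LinearEquiv.apply_symm_apply]
    obtain ⟨β', hβ'y, hβ'⟩ := hrad N' hIn hHas
    refine ⟨β', hβ'y, fun X => ?_⟩
    rw [← hN'X, hβ']
  obtain ⟨P, Q, hQy, hPx, hmod⟩ := h3a hι y hy g hgy hconj
  -- `k = kronMap P Q` agrees with `g` on the fibre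
  have hk_fib : ∀ x : ι → F, kronMap P Q (vecMulVec x y) = vecMulVec (P *ᵥ x) y := by
    intro x
    rw [kronMap_apply, mul_vecMulVec, vecMulVec_mul, vecMul_transpose, hQy]
  have hk_inj : Function.Injective (kronMap P Q) := by
    rw [← LinearMap.ker_eq_bot, LinearMap.ker_eq_bot']
    intro X hX
    have h1 := hmod X
    rw [← kronMap_apply, hX, sub_zero] at h1
    have h2 := hgs_fib _ h1
    rw [LinearEquiv.symm_apply_apply] at h2
    obtain ⟨x, rfl⟩ := h2
    have h3 : g (vecMulVec x y) = 0 := by rw [hPx, ← hk_fib, hX]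
    exact g.injective (by rw [h3, map_zero])
  obtain ⟨ke, hke⟩ : ∃ ke : Matrix ι κ F ≃ₗ[F] Matrix ι κ F, ∀ X, ke X = kronMap P Q X :=
    ⟨LinearEquiv.ofInjectiveEndo (kronMap P Q) hk_inj, fun X => by
      rw [LinearEquiv.coe_ofInjectiveEndo]⟩
  -- `N1 = (g - k) k⁻¹`
  obtain ⟨N1, hN1⟩ : ∃ N1 : Matrix ι κ F →ₗ[F] Matrix ι κ F,
      N1 = g.toLinearMap ∘ₗ ke.symm.toLinearMap - LinearMap.id := ⟨_, rfl⟩
  have hN1X : ∀ X, N1 X = g (ke.symm X) - X := by
    intro X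
    rw [hN1]
    rfl
  have hIn1 : InRad y N1 := by
    refine ⟨fun X => ?_, fun X hX => ?_⟩
    · rw [hN1X]
      have h1 := hmod (ke.symm X)
      rw [← kronMap_apply, ← hke, LinearEquiv.apply_symm_apply] at h1
      exact h1
    · rw [hN1X]
      obtain ⟨x', hx'⟩ := hgs_fib X hX
      have h1 : ke (g.symm X) = X := by
        rw [hke, hx', hk_fib, ← hPx, ← hx', LinearEquiv.apply_symm_apply]
      have h2 : ke.symm X = g.symm X := by
        rw [LinearEquiv.symm_apply_eq, h1]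
      rw [h2, LinearEquiv.apply_symm_apply, sub_self]
  -- determinants
  have hdetk : P.det ^ Fintype.card κ * Q.det ^ Fintype.card ι = 1 := by
    have h1 : g.toLinearMap = (LinearMap.id + N1) ∘ₗ kronMap P Q := by
      apply LinearMap.ext
      intro X
      rw [LinearMap.comp_apply, LinearMap.add_apply, LinearMap.id_apply, hN1X, ← hke,
        LinearEquiv.symm_apply_apply]
      simp
    have h2 := hdet g hg
    rw [h1, LinearMap.det_comp,
      Cfsg.Agent.Lib.Helper59_Tens_TP3d.det_one_add_rad y N1 hIn1, one_mul,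
      Cfsg.Agent.Lib.Helper59_Tens_TP3c.det_kron P Q (kronMap P Q) (fun X => rfl)] at h2
    exact h2
  obtain ⟨h0, hh0, hh0X⟩ := hK P Q hdetk
  beta_reduce at hh0X
  -- `g h0⁻¹ = 1 + N1`
  have hHas1 : HasMap M (fun X => X + N1 X) := by
    refine ⟨g * h0⁻¹, M.mul_mem hg (M.inv_mem hh0), fun X => ?_⟩
    beta_reduce
    rw [LinearEquiv.mul_apply, hN1X]
    have h1 : h0⁻¹ X = ke.symm X := by
      show h0.symm X = ke.symm X
      rw [LinearEquiv.symm_apply_eq, hh0X, ← kronMap_apply, ← hke, LinearEquiv.apply_symm_apply]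
    rw [h1]
    abel
  obtain ⟨β'', hβ''y, hβ''⟩ := hrad N1 hIn1 hHas1
  refine ⟨P, (Qᵀ * (1 + vecMulVec β'' y))ᵀ, fun X => ?_⟩
  have h1 : g X = kronMap P Q X + N1 (kronMap P Q X) := by
    rw [hN1X, ← hke, LinearEquiv.symm_apply_apply]
    abel
  rw [h1, hβ'', nB_apply, kronMap_apply, transpose_transpose, ← mul_vecMulVec,
    ← Matrix.mul_assoc (P * X), Matrix.mul_add, Matrix.mul_one]

/-- **TP3** [asm of TP3a, TP3c, TP3d] (M).  If the radical is standard, the stabiliser of a fibre is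
Kronecker. -/
theorem stab_isKron (M : Subgroup (Matrix ι κ F ≃ₗ[F] Matrix ι κ F))
    (hdet : ∀ g ∈ M, LinearMap.det g.toLinearMap = 1) (hK : KronHyp M)
    (y : κ → F) (hy : y ≠ 0) (hrad : RadStd M y)
    (g : Matrix ι κ F ≃ₗ[F] Matrix ι κ F) (hg : g ∈ M)
    (hgy : (fiber y).map g.toLinearMap = fiber (ι := ι) y) : IsKron g :=
  stab_isKron_of
    (fun hι y hy g hgy hconj =>
      Cfsg.Agent.Lib.Helper59_Tens_TP3a.kron_mod_fiber hι y hy g hgy hconj)
    M hdet hK y hy hrad g hg hgy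

end Cfsg.Agent.Lib.Helper52_Tens_TP3
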