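import Mathlib
import Cfsg.Agent.Lib.Helper97_TensDefs
import Cfsg.Agent.Lib.Helper5_Transv

set_option autoImplicit false
set_option linter.unusedSectionVars false
set_option linter.unusedVariables false
set_option linter.unusedSimpArgs false

/-!
# S5637 package TP7 (`all_pure_tv`), architect helper97

From one doubly orthogonal pure transvection `X ↦ X + (α₀ · X γ₀) x₀ y₀ᵀ` in `M ⊇ SL(A) ⊗ SL(B)`
all of them are in `M`.
-/

namespace Cfsg.Agent.Lib.Helper77_Tens_TP7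

open Matrix
open Cfsg.Agent.Lib.Helper98_ExtDefs Cfsg.Agent.Lib.Helper97_TensDefs
open Cfsg.Agent.Lib.Helper5_Transv

variable {F : Type*} [Field F] {ι κ : Type*} [Fintype ι] [Fintype κ] [DecidableEq ι] [DecidableEq κ]

/-- the pure transvection map `X ↦ X + (α · X β) x yᵀ` -/
def tau (x α : ι → F) (y β : κ → F) (X : Matrix ι κ F) : Matrix ι κ F :=
  X + (α ⬝ᵥ (X *ᵥ β)) • vecMulVec x y

theorem tau_smul_right (c : F) (x α : ι → F) (y β : κ → F) :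
    tau x (c • α) y β = tau x α (c • y) β := by
  funext X
  unfold tau
  rw [smul_dotProduct, vecMulVec_smul, smul_smul, smul_eq_mul, mul_comm]

/-- conjugation rule -/
theorem conj_rule (M : Subgroup (Matrix ι κ F ≃ₗ[F] Matrix ι κ F)) (hK : KronHyp M)
    (P : Matrix ι ι F) (Q : Matrix κ κ F) (hP : P.det = 1) (hQ : Q.det = 1)
    (x α α' : ι → F) (y β β' : κ → F) (hα : α' ᵥ* P = α) (hβ : β' ᵥ* Q = β)
    (h : HasMap M (tau x α y β)) : HasMap M (tau (P *ᵥ x) α' (Q *ᵥ y) β') := by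
  obtain ⟨k, hkM, hk0⟩ := hK P Q (by rw [hP, hQ, one_pow, one_pow, one_mul])
  have hk : ∀ X, k X = P * X * Qᵀ := hk0
  obtain ⟨g, hgM, hg⟩ := h
  refine ⟨k * g * k⁻¹, M.mul_mem (M.mul_mem hkM hgM) (M.inv_mem hkM), fun X => ?_⟩
  have hX : k (k⁻¹ X) = X := by
    have h1 : (k * k⁻¹) X = X := by rw [mul_inv_cancel]; rfl
    exact h1
  show k (g (k⁻¹ X)) = _
  rw [hg]
  generalize k⁻¹ X = Y at hX
  subst hX
  unfold tau
  rw [map_add, map_smul, hk (vecMulVec x y)]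
  have h2 : P * vecMulVec x y * Qᵀ = vecMulVec (P *ᵥ x) (Q *ᵥ y) := by
    rw [mul_vecMulVec, vecMulVec_mul, vecMul_transpose]
  have h3 : α ⬝ᵥ (Y *ᵥ β) = α' ⬝ᵥ (k Y *ᵥ β') := by
    rw [hk Y, ← mulVec_mulVec, ← mulVec_mulVec, mulVec_transpose, hβ, dotProduct_mulVec α' P, hα]
  rw [h2, h3]

/-- two-index normal form of covectors vanishing on `e i0`, up to a scalar -/
theorem exists_vecMul_smul {i0 i1 : ι} (h01 : i0 ≠ i1) (φ : ι → F) (hφ : φ ≠ 0) (hφ0 : φ i0 = 0) :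
    ∃ (m : Matrix.SpecialLinearGroup ι F) (c : F), c ≠ 0 ∧ m.1 *ᵥ (e i0 : ι → F) = e i0 ∧
      (e i1 : ι → F) ᵥ* m.1 = c • φ := by
  by_cases hA : ∃ j, j ≠ i1 ∧ φ j ≠ 0
  · obtain ⟨j, hj1, hφj⟩ := hA
    obtain ⟨m, hm, hm2⟩ := exists_comove (e i1 : ι → F) φ (e i1 + ((1 - φ i1) / φ j) • e j)
      (by
        rw [e_dot]
        simp [e, Pi.single_apply, hj1.symm])
      (by
        rw [dotProduct_add, dotProduct_smul, dot_e, dot_e, smul_eq_mul, div_mul_cancel₀ _ hφj]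
        ring)
    refine ⟨m, 1, one_ne_zero, hm2 _ ?_, by rw [one_smul]; exact hm⟩
    rw [e_dot, dot_e, hφ0]
    simp [e, Pi.single_apply, h01]
  · push Not at hA
    have hφ1 : φ i1 ≠ 0 := by
      obtain ⟨i, hi⟩ := exists_ne_zero_of_ne_zero φ hφ
      by_cases hii : i = i1
      · rw [← hii]; exact hi
      · exact absurd (hA i hii) hi
    refine ⟨1, (φ i1)⁻¹, inv_ne_zero hφ1, ?_, ?_⟩
    · show (1 : Matrix ι ι F) *ᵥ _ = _
      rw [one_mulVec]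
    · show _ ᵥ* (1 : Matrix ι ι F) = _
      rw [vecMul_one]
      funext i
      by_cases hii : i = i1
      · subst hii; simp [e, hφ1]
      · rw [Pi.smul_apply, hA i hii]; simp [e, Pi.single_apply, hii]

/-- normal form of an incident pair with two indices, up to a scalar on the covector -/
theorem normal_form {i0 i1 : ι} (h01 : i0 ≠ i1) (x α : ι → F) (hx : x ≠ 0) (hα : α ≠ 0)
    (h : α ⬝ᵥ x = 0) :
    ∃ (g : Matrix.SpecialLinearGroup ι F) (c : F), c ≠ 0 ∧ g.1 *ᵥ (e i0 : ι → F) = x ∧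
      (c • α) ᵥ* g.1 = e i1 := by
  obtain ⟨g1, hg1⟩ := exists_mulVec_eq h01 x hx
  have hinv : g1.1 * (g1⁻¹).1 = 1 := congrArg Subtype.val (mul_inv_cancel g1)
  have hφ' : α ᵥ* g1.1 ≠ 0 := by
    intro h0
    apply hα
    have : (α ᵥ* g1.1) ᵥ* (g1⁻¹).1 = 0 := by rw [h0, zero_vecMul]
    rw [vecMul_vecMul, hinv, vecMul_one] at this
    exact this
  have hφ0 : (α ᵥ* g1.1) i0 = 0 := by
    rw [← dot_e (k := F) i0 (α ᵥ* g1.1), ← dotProduct_mulVec, hg1, h]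
  obtain ⟨m, c, hc, hm1, hm2⟩ := exists_vecMul_smul h01 (α ᵥ* g1.1) hφ' hφ0
  have hmi : (m⁻¹).1 *ᵥ (e i0 : ι → F) = e i0 := by
    have h1 : (m⁻¹).1 * m.1 = 1 := congrArg Subtype.val (inv_mul_cancel m)
    calc (m⁻¹).1 *ᵥ (e i0 : ι → F) = (m⁻¹).1 *ᵥ (m.1 *ᵥ e i0) := by rw [hm1]
      _ = e i0 := by rw [mulVec_mulVec, h1, one_mulVec]
  refine ⟨g1 * m⁻¹, c, hc, ?_, ?_⟩
  · show (g1.1 * (m⁻¹).1) *ᵥ _ = _
    rw [← mulVec_mulVec, hmi, hg1]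
  · show _ ᵥ* (g1.1 * (m⁻¹).1) = _
    rw [← vecMul_vecMul, smul_vecMul, ← hm2, vecMul_vecMul]
    have h1 : m.1 * (m⁻¹).1 = 1 := congrArg Subtype.val (mul_inv_cancel m)
    rw [h1, vecMul_one]

theorem hasMap_id (M : Subgroup (Matrix ι κ F ≃ₗ[F] Matrix ι κ F)) (φ : Matrix ι κ F → Matrix ι κ F)
    (h : ∀ X, φ X = X) : HasMap M φ :=
  ⟨1, M.one_mem, fun X => (h X).symm⟩

/-- **TP7** -/
theorem all_pure_tv (ha : 2 ≤ Fintype.card ι) (hb : 3 ≤ Fintype.card κ)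
    (M : Subgroup (Matrix ι κ F ≃ₗ[F] Matrix ι κ F)) (hK : KronHyp M)
    (x₀ α₀ : ι → F) (y₀ γ₀ : κ → F) (hx₀ : x₀ ≠ 0) (hα₀ : α₀ ≠ 0) (hy₀ : y₀ ≠ 0) (hγ₀ : γ₀ ≠ 0)
    (hαx : α₀ ⬝ᵥ x₀ = 0) (hγy : γ₀ ⬝ᵥ y₀ = 0)
    (h₀ : HasMap M (fun X => X + (α₀ ⬝ᵥ (X *ᵥ γ₀)) • vecMulVec x₀ y₀)) :
    ∀ (x α : ι → F) (y β : κ → F), α ⬝ᵥ x = 0 → β ⬝ᵥ y = 0 →
      HasMap M (fun X => X + (α ⬝ᵥ (X *ᵥ β)) • vecMulVec x y) := by
  intro x α y β hax hby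
  by_cases hx : x = 0
  · exact hasMap_id M _ (fun X => by simp [hx, zero_vecMulVec])
  by_cases hα : α = 0
  · exact hasMap_id M _ (fun X => by simp [hα])
  by_cases hy : y = 0
  · exact hasMap_id M _ (fun X => by
      have h0 : vecMulVec x (0 : κ → F) = 0 := by
        ext i j; simp [vecMulVec_apply]
      simp [hy, h0])
  by_cases hβ : β = 0
  · exact hasMap_id M _ (fun X => by simp [hβ])
  obtain ⟨i0, i1, h01⟩ := Fintype.one_lt_card_iff.mp (by omega : 1 < Fintype.card ι)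
  obtain ⟨j0, j1, j2, hj01, hj02, hj12⟩ := Fintype.two_lt_card_iff.mp (by omega : 2 < Fintype.card κ)
  have h₀' : HasMap M (tau x₀ α₀ y₀ γ₀) := h₀
  show HasMap M (tau x α y β)
  -- the `A`-side
  obtain ⟨g₀, c₀, hc₀, hg₀x, hg₀α⟩ := normal_form h01 x₀ α₀ hx₀ hα₀ hαx
  obtain ⟨g, c, hc, hgx, hgα⟩ := normal_form h01 x α hx hα hax
  have hg₀inv : (g₀⁻¹).1 * g₀.1 = 1 := congrArg Subtype.val (inv_mul_cancel g₀)
  have hg₀inv' : g₀.1 * (g₀⁻¹).1 = 1 := congrArg Subtype.val (mul_inv_cancel g₀)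
  have s1 : HasMap M (tau (e i0) (c₀⁻¹ • e i1) y₀ γ₀) := by
    have := conj_rule M hK (g₀⁻¹).1 1 (g₀⁻¹).2 det_one x₀ α₀ (c₀⁻¹ • e i1) y₀ γ₀ γ₀ ?_
      (vecMul_one γ₀) h₀'
    · rw [one_mulVec, ← hg₀x, mulVec_mulVec, hg₀inv, one_mulVec] at this
      exact this
    · rw [← hg₀α, smul_vecMul, vecMul_vecMul, hg₀inv', vecMul_one, smul_smul,
        inv_mul_cancel₀ hc₀, one_smul]
  have s2 : HasMap M (tau x ((c₀⁻¹ * c) • α) y₀ γ₀) := by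
    have := conj_rule M hK g.1 1 g.2 det_one (e i0) (c₀⁻¹ • e i1) ((c₀⁻¹ * c) • α) y₀ γ₀ γ₀ ?_
      (vecMul_one γ₀) s1
    · rw [one_mulVec, hgx] at this
      exact this
    · rw [← smul_smul, smul_vecMul, hgα]
  rw [tau_smul_right] at s2
  -- the `B`-side
  have hd : c₀⁻¹ * c ≠ 0 := mul_ne_zero (inv_ne_zero hc₀) hc
  obtain ⟨k₀, hk₀y, hk₀γ⟩ := exists_conj hj01 hj02 hj12 ((c₀⁻¹ * c) • y₀) γ₀
    (smul_ne_zero hd hy₀) hγ₀ (by rw [dotProduct_smul, hγy, smul_zero])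
  obtain ⟨k, hky, hkβ⟩ := exists_conj hj01 hj02 hj12 y β hy hβ hby
  have hk₀inv : (k₀⁻¹).1 * k₀.1 = 1 := congrArg Subtype.val (inv_mul_cancel k₀)
  have hkinv : (k⁻¹).1 * k.1 = 1 := congrArg Subtype.val (inv_mul_cancel k)
  have s3 : HasMap M (tau x α (e j0) (e j1)) := by
    have := conj_rule M hK 1 (k₀⁻¹).1 det_one (k₀⁻¹).2 x α α ((c₀⁻¹ * c) • y₀) γ₀ (e j1)
      (vecMul_one α) hk₀γ s2
    rw [one_mulVec, ← hk₀y, mulVec_mulVec, hk₀inv, one_mulVec] at this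
    exact this
  have s4 := conj_rule M hK 1 k.1 det_one k.2 x α α (e j0) (e j1) β
    (vecMul_one α) (by rw [← hkβ, vecMul_vecMul, hkinv, vecMul_one]) s3
  rw [one_mulVec, hky] at s4
  exact s4

end Cfsg.Agent.Lib.Helper77_Tens_TP7
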