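import Mathlib
import Cfsg.Agent.Lib.Helper97_TensDefs

set_option autoImplicit false
set_option linter.unusedSectionVars false
set_option linter.unusedVariables false
set_option linter.unusedSimpArgs false

/-!
# S5637 package TP8 (`tv_pure_centre`), architect helper97

If `M` contains all doubly orthogonal pure transvections `X ↦ X + (α · X β) x yᵀ`
(`α · x = 0 = β · y`), then it contains every transvection whose centre is a pure tensor `x yᵀ`
(two rounds of the commutator rule, then a spanning argument).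
-/

namespace Cfsg.Agent.Lib.Helper77_Tens_TP8

open Matrix
open Cfsg.Agent.Lib.Helper98_ExtDefs Cfsg.Agent.Lib.Helper97_TensDefs

section general

variable {F : Type*} [Field F] {V : Type*} [AddCommGroup V] [Module F V]

/-- the transvection map `X ↦ X + f X • v` -/
def tvm (f : V →ₗ[F] F) (v : V) (X : V) : V := X + f X • v

theorem hasMap_id (M : Subgroup (V ≃ₗ[F] V)) (φ : V → V) (h : ∀ X, φ X = X) : HasMap M φ :=
  ⟨1, M.one_mem, fun X => (h X).symm⟩

theorem tvm_zero_right (f : V →ₗ[F] F) (X : V) : tvm f (0 : V) X = X := by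
  unfold tvm; rw [smul_zero, add_zero]

theorem tvm_zero_left (v : V) (X : V) : tvm (0 : V →ₗ[F] F) v X = X := by
  unfold tvm; rw [LinearMap.zero_apply, zero_smul, add_zero]

/-- the inverse of an element acting as a transvection -/
theorem inv_apply_of_tvm (g : V ≃ₗ[F] V) (f : V →ₗ[F] F) (v : V) (hfv : f v = 0)
    (hg : ∀ X, g X = tvm f v X) (X : V) : g⁻¹ X = X - f X • v := by
  have h1 : g (X - f X • v) = X := by
    rw [hg]; unfold tvm
    rw [map_sub, map_smul, hfv, smul_zero, sub_zero]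
    abel
  have h2 : (g⁻¹ * g) (X - f X • v) = X - f X • v := by rw [inv_mul_cancel]; rfl
  rw [← h2]
  show g⁻¹ X = g⁻¹ (g (X - f X • v))
  rw [h1]

theorem hasMap_add (M : Subgroup (V ≃ₗ[F] V)) (f f' : V →ₗ[F] F) (v : V) (hfv : f v = 0)
    (h : HasMap M (tvm f v)) (h' : HasMap M (tvm f' v)) : HasMap M (tvm (f + f') v) := by
  obtain ⟨g, hgM, hg⟩ := h
  obtain ⟨g', hgM', hg'⟩ := h'
  refine ⟨g * g', M.mul_mem hgM hgM', fun X => ?_⟩
  show g (g' X) = _
  rw [hg', hg]
  unfold tvm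
  rw [map_add, map_smul, hfv, smul_zero, add_zero, LinearMap.add_apply, add_smul]
  abel

theorem hasMap_sum (M : Subgroup (V ≃ₗ[F] V)) {J : Type*} (s : Finset J) (fam : J → (V →ₗ[F] F))
    (v : V) (h0 : ∀ j ∈ s, fam j v = 0) (h : ∀ j ∈ s, HasMap M (tvm (fam j) v)) :
    HasMap M (tvm (∑ j ∈ s, fam j) v) := by
  classical
  induction s using Finset.induction_on with
  | empty =>
    rw [Finset.sum_empty]
    exact hasMap_id M _ (tvm_zero_left v)
  | insert a s ha ih =>
    rw [Finset.sum_insert ha]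
    refine hasMap_add M _ _ v (h0 a (Finset.mem_insert_self a s)) (h a (Finset.mem_insert_self a s))
      (ih (fun j hj => h0 j (Finset.mem_insert_of_mem hj)) (fun j hj => h j (Finset.mem_insert_of_mem hj)))

/-- the commutator rule -/
theorem comm_rule (M : Subgroup (V ≃ₗ[F] V)) (f f' : V →ₗ[F] F) (v v' : V)
    (hfv : f v = 0) (hf'v' : f' v' = 0) (hf'v : f' v = 0)
    (h : HasMap M (tvm f v)) (h' : HasMap M (tvm f' v')) :
    HasMap M (tvm (-(f v') • f') v) := by
  obtain ⟨g, hgM, hg⟩ := h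
  obtain ⟨g', hgM', hg'⟩ := h'
  have hgi := inv_apply_of_tvm g f v hfv hg
  have hgi' := inv_apply_of_tvm g' f' v' hf'v' hg'
  refine ⟨g' * g * g'⁻¹ * g⁻¹,
    M.mul_mem (M.mul_mem (M.mul_mem hgM' hgM) (M.inv_mem hgM')) (M.inv_mem hgM), fun X => ?_⟩
  show g' (g (g'⁻¹ (g⁻¹ X))) = _
  rw [hgi, hgi', hg, hg']
  unfold tvm
  simp only [map_sub, map_smul, map_add, hfv, hf'v', hf'v, smul_eq_mul, mul_zero, sub_zero,
    add_zero, LinearMap.smul_apply, LinearMap.neg_apply]
  module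

end general

variable {F : Type*} [Field F] {ι κ : Type*} [Fintype ι] [Fintype κ] [DecidableEq ι] [DecidableEq κ]

/-! ### existence lemmas for the dot product pairing -/

theorem exists_dot_eq {n : Type*} [Fintype n] [DecidableEq n] (f : (n → F) →ₗ[F] F) :
    ∃ α : n → F, ∀ w, α ⬝ᵥ w = f w := by
  refine ⟨fun i => f (Pi.single i 1), fun w => ?_⟩
  rw [LinearMap.pi_apply_eq_sum_univ f w]
  unfold dotProduct
  refine Finset.sum_congr rfl (fun i _ => ?_)
  rw [smul_eq_mul, mul_comm]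
  show w i * f (Pi.single i 1) = _
  congr 2
  funext j
  rw [Pi.single_apply]
  simp only [eq_comm]

/-- a functional vanishing on `x` and equal to one on `z ∉ F x` -/
theorem exists_dual {n : Type*} [Fintype n] [DecidableEq n] (x z : n → F) (h : ∀ c : F, z ≠ c • x) :
    ∃ α : n → F, α ⬝ᵥ x = 0 ∧ α ⬝ᵥ z = 1 := by
  have hz : z ∉ Submodule.span F {x} := by
    intro hz
    obtain ⟨c, hc⟩ := Submodule.mem_span_singleton.mp hz
    exact h c hc.symm
  obtain ⟨f, hfz, hle⟩ := Submodule.exists_le_ker_of_notMem hz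
  obtain ⟨α, hα⟩ := exists_dot_eq ((f z)⁻¹ • f)
  refine ⟨α, ?_, ?_⟩
  · rw [hα, LinearMap.smul_apply]
    have : f x = 0 := hle (Submodule.mem_span_singleton_self x)
    rw [this, smul_zero]
  · rw [hα, LinearMap.smul_apply, smul_eq_mul, inv_mul_cancel₀ hfz]

theorem exists_dot_one {n : Type*} [Fintype n] [DecidableEq n] (x : n → F) (hx : x ≠ 0) :
    ∃ α : n → F, α ⬝ᵥ x = 1 := by
  obtain ⟨α, -, h⟩ := exists_dual (0 : n → F) x (fun c hc => hx (by rw [hc, smul_zero]))
  exact ⟨α, h⟩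

/-- a nonzero vector in the kernel of a linear map to a smaller space -/
theorem exists_ker_ne_zero {n : Type*} [Fintype n] [DecidableEq n] {W : Type*} [AddCommGroup W]
    [Module F W] [FiniteDimensional F W] (f : (n → F) →ₗ[F] W)
    (h : Module.finrank F W < Fintype.card n) : ∃ x : n → F, x ≠ 0 ∧ f x = 0 := by
  have h1 : LinearMap.ker f ≠ ⊥ := by
    apply LinearMap.ker_ne_bot_of_finrank_lt
    rw [Module.finrank_fintype_fun_eq_card]
    exact h
  obtain ⟨x, hx, hx0⟩ := (Submodule.ne_bot_iff _).mp h1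
  exact ⟨x, hx0, LinearMap.mem_ker.mp hx⟩

/-- `w ↦ α · w` as a linear map -/
def dotL {n : Type*} [Fintype n] (α : n → F) : (n → F) →ₗ[F] F where
  toFun w := α ⬝ᵥ w
  map_add' w w' := dotProduct_add α w w'
  map_smul' c w := by rw [dotProduct_smul, RingHom.id_apply]

theorem exists_ker1 {n : Type*} [Fintype n] [DecidableEq n] (hn : 2 ≤ Fintype.card n) (α : n → F) :
    ∃ x : n → F, x ≠ 0 ∧ α ⬝ᵥ x = 0 := by
  obtain ⟨x, hx, h⟩ := exists_ker_ne_zero (dotL α) (by rw [Module.finrank_self]; omega)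
  exact ⟨x, hx, h⟩

theorem exists_ker2 {n : Type*} [Fintype n] [DecidableEq n] (hn : 3 ≤ Fintype.card n) (α β : n → F) :
    ∃ x : n → F, x ≠ 0 ∧ α ⬝ᵥ x = 0 ∧ β ⬝ᵥ x = 0 := by
  obtain ⟨x, hx, h⟩ := exists_ker_ne_zero ((dotL α).prod (dotL β))
    (by rw [Module.finrank_prod, Module.finrank_self]; omega)
  rw [LinearMap.prod_apply] at h
  have h' : ((dotL α) x, (dotL β) x) = (0 : F × F) := h
  rw [Prod.mk_eq_zero] at h'
  exact ⟨x, hx, h'.1, h'.2⟩

/-! ### pure functionals -/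

/-- the pure functional `X ↦ α · X β` -/
def pf (α : ι → F) (β : κ → F) : Matrix ι κ F →ₗ[F] F where
  toFun X := α ⬝ᵥ (X *ᵥ β)
  map_add' X Y := by rw [add_mulVec, dotProduct_add]
  map_smul' c X := by rw [smul_mulVec, dotProduct_smul, RingHom.id_apply]

theorem pf_apply (α : ι → F) (β : κ → F) (X : Matrix ι κ F) : pf α β X = α ⬝ᵥ (X *ᵥ β) := rfl

theorem pf_vecMulVec (α : ι → F) (β : κ → F) (x : ι → F) (y : κ → F) :
    pf α β (vecMulVec x y) = (α ⬝ᵥ x) * (β ⬝ᵥ y) := by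
  rw [pf_apply]
  have h : vecMulVec x y *ᵥ β = (y ⬝ᵥ β) • x := by
    rw [vecMulVec_mulVec]
    ext i
    simp [mul_comm]
  rw [h, dotProduct_smul, smul_eq_mul, dotProduct_comm y β, mul_comm]

theorem vecMulVec_zero' (x : ι → F) : vecMulVec x (0 : κ → F) = 0 := by
  ext i j; simp [vecMulVec_apply]

theorem pf_zero_right (α : ι → F) : pf α (0 : κ → F) = 0 := by
  apply LinearMap.ext
  intro X
  rw [pf_apply, mulVec_zero, dotProduct_zero, LinearMap.zero_apply]

theorem pf_neg_left (α : ι → F) (β : κ → F) : pf (-α) β = -pf α β := by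
  apply LinearMap.ext
  intro X
  rw [pf_apply, neg_dotProduct, LinearMap.neg_apply, pf_apply]

section rounds

variable (M : Subgroup (Matrix ι κ F ≃ₗ[F] Matrix ι κ F))
  (hpure : ∀ (x α : ι → F) (y β : κ → F), α ⬝ᵥ x = 0 → β ⬝ᵥ y = 0 →
      HasMap M (fun X => X + (α ⬝ᵥ (X *ᵥ β)) • vecMulVec x y))

include hpure

theorem round0 (x α : ι → F) (y β : κ → F) (h1 : α ⬝ᵥ x = 0) (h2 : β ⬝ᵥ y = 0) :
    HasMap M (tvm (pf α β) (vecMulVec x y)) := hpure x α y β h1 h2

/-- Round 1 -/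
theorem round1 (ha : 2 ≤ Fintype.card ι) (hb : 3 ≤ Fintype.card κ)
    (x α' : ι → F) (y β' : κ → F) (h2 : β' ⬝ᵥ y = 0) :
    HasMap M (tvm (pf α' β') (vecMulVec x y)) := by
  by_cases h1 : α' ⬝ᵥ x = 0
  · exact round0 M hpure x α' y β' h1 h2
  by_cases hy : y = 0
  · rw [hy, vecMulVec_zero']
    exact hasMap_id M _ (tvm_zero_right _)
  obtain ⟨x', hx', hαx'⟩ := exists_ker1 ha α'
  obtain ⟨η, hη⟩ := exists_dot_one y hy
  obtain ⟨y', hy', hβy', hηy'⟩ := exists_ker2 hb β' η
  -- `x' ∉ F x`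
  have hxx' : ∀ c : F, x' ≠ c • x := by
    intro c hc
    rw [hc, dotProduct_smul, smul_eq_mul] at hαx'
    rcases mul_eq_zero.mp hαx' with h | h
    · exact hx' (by rw [hc, h, zero_smul])
    · exact h1 h
  have hyy' : ∀ c : F, y' ≠ c • y := by
    intro c hc
    rw [hc, dotProduct_smul, smul_eq_mul, hη, mul_one] at hηy'
    exact hy' (by rw [hc, hηy', zero_smul])
  obtain ⟨α, hαx, hαx1⟩ := exists_dual x x' hxx'
  obtain ⟨β, hβy, hβy1⟩ := exists_dual y y' hyy'
  have hf : HasMap M (tvm (pf (-α) β) (vecMulVec x y)) :=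
    round0 M hpure x (-α) y β (by rw [neg_dotProduct, hαx, neg_zero]) hβy
  have hf' : HasMap M (tvm (pf α' β') (vecMulVec x' y')) := round0 M hpure x' α' y' β' hαx' hβy'
  have hc := comm_rule M (pf (-α) β) (pf α' β') (vecMulVec x y) (vecMulVec x' y')
    (by rw [pf_vecMulVec, hβy, mul_zero]) (by rw [pf_vecMulVec, hαx', zero_mul])
    (by rw [pf_vecMulVec, h2, mul_zero]) hf hf'
  have h3 : -(pf (-α) β (vecMulVec x' y')) = 1 := by
    rw [pf_vecMulVec, neg_dotProduct, hαx1, hβy1]; ring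
  rw [h3, one_smul] at hc
  exact hc

/-- Round 2 -/
theorem round2 (ha : 2 ≤ Fintype.card ι) (hb : 3 ≤ Fintype.card κ)
    (x α' : ι → F) (y β' : κ → F) (h1 : α' ⬝ᵥ x = 0) :
    HasMap M (tvm (pf α' β') (vecMulVec x y)) := by
  by_cases h2 : β' ⬝ᵥ y = 0
  · exact round0 M hpure x α' y β' h1 h2
  by_cases hx : x = 0
  · rw [hx, zero_vecMulVec]
    exact hasMap_id M _ (tvm_zero_right _)
  obtain ⟨y', hy', hβy'⟩ := exists_ker1 (by omega : 2 ≤ Fintype.card κ) β'
  have hyy' : ∀ c : F, y' ≠ c • y := by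
    intro c hc
    rw [hc, dotProduct_smul, smul_eq_mul] at hβy'
    rcases mul_eq_zero.mp hβy' with h | h
    · exact hy' (by rw [hc, h, zero_smul])
    · exact h2 h
  obtain ⟨β, hβy, hβy1⟩ := exists_dual y y' hyy'
  obtain ⟨α, hαx⟩ := exists_dot_one x hx
  have hf : HasMap M (tvm (pf (-α) β) (vecMulVec x y)) := round1 M hpure ha hb x (-α) y β hβy
  have hf' : HasMap M (tvm (pf α' β') (vecMulVec x y')) := round1 M hpure ha hb x α' y' β' hβy'
  have hc := comm_rule M (pf (-α) β) (pf α' β') (vecMulVec x y) (vecMulVec x y')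
    (by rw [pf_vecMulVec, hβy, mul_zero]) (by rw [pf_vecMulVec, h1, zero_mul])
    (by rw [pf_vecMulVec, h1, zero_mul]) hf hf'
  have h3 : -(pf (-α) β (vecMulVec x y')) = 1 := by
    rw [pf_vecMulVec, neg_dotProduct, hαx, hβy1]; ring
  rw [h3, one_smul] at hc
  exact hc

end rounds

/-! ### the spanning argument -/

/-- decomposition of a functional killing `x yᵀ` -/
theorem exists_decomp (x : ι → F) (hx : x ≠ 0) (y : κ → F) (f : Matrix ι κ F →ₗ[F] F)
    (hf : f (vecMulVec x y) = 0) :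
    ∃ (col : κ → ι → F) (ξ : ι → F) (ρ : κ → F), (∀ j, col j ⬝ᵥ x = 0) ∧ ρ ⬝ᵥ y = 0 ∧
      f = ∑ j, pf (col j) (Pi.single j 1) + pf ξ ρ := by
  obtain ⟨ξ, hξ⟩ := exists_dot_one x hx
  set C : ι → κ → F := fun i j => f (single i j 1) with hC
  have hfX : ∀ X : Matrix ι κ F, f X = ∑ i, ∑ j, X i j * C i j := by
    intro X
    conv_lhs => rw [matrix_eq_sum_single X]
    rw [map_sum]
    refine Finset.sum_congr rfl (fun i _ => ?_)
    rw [map_sum]
    refine Finset.sum_congr rfl (fun j _ => ?_)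
    have : single i j (X i j) = X i j • single i j (1 : F) := by
      rw [smul_single, smul_eq_mul, mul_one]
    rw [this, map_smul, smul_eq_mul]
  set ρ : κ → F := fun j => ∑ i, x i * C i j with hρ
  have hρy : ρ ⬝ᵥ y = 0 := by
    rw [← hf, hfX]
    unfold dotProduct
    rw [Finset.sum_comm]
    refine Finset.sum_congr rfl (fun j _ => ?_)
    rw [hρ]
    simp only [Finset.sum_mul]
    refine Finset.sum_congr rfl (fun i _ => ?_)
    rw [vecMulVec_apply]; ring
  refine ⟨fun j i => C i j - ξ i * ρ j, ξ, ρ, ?_, hρy, ?_⟩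
  · intro j
    unfold dotProduct
    simp only [sub_mul, Finset.sum_sub_distrib]
    have h1 : ∑ i, C i j * x i = ρ j := by
      rw [hρ]; exact Finset.sum_congr rfl (fun i _ => mul_comm _ _)
    have h2 : ∑ i, ξ i * ρ j * x i = ρ j := by
      have : ∑ i, ξ i * ρ j * x i = (ξ ⬝ᵥ x) * ρ j := by
        unfold dotProduct
        rw [Finset.sum_mul]
        exact Finset.sum_congr rfl (fun i _ => by ring)
      rw [this, hξ, one_mul]
    rw [h1, h2, sub_self]
  · apply LinearMap.ext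
    intro X
    rw [LinearMap.add_apply, LinearMap.sum_apply, hfX]
    simp only [pf_apply, mulVec_single_one]
    unfold dotProduct mulVec dotProduct
    simp only [Matrix.col_apply, sub_mul, Finset.sum_sub_distrib, Finset.mul_sum]
    rw [Finset.sum_comm]
    have h1 : ∑ j, ∑ i, ξ i * ρ j * X i j = ∑ i, ∑ j, ξ i * (X i j * ρ j) := by
      rw [Finset.sum_comm]
      exact Finset.sum_congr rfl (fun i _ => Finset.sum_congr rfl (fun j _ => by ring))
    rw [h1, sub_add_cancel]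
    exact Finset.sum_congr rfl (fun j _ => Finset.sum_congr rfl (fun i _ => mul_comm _ _))

/-- **TP8** -/
theorem tv_pure_centre (ha : 2 ≤ Fintype.card ι) (hb : 3 ≤ Fintype.card κ)
    (M : Subgroup (Matrix ι κ F ≃ₗ[F] Matrix ι κ F))
    (hpure : ∀ (x α : ι → F) (y β : κ → F), α ⬝ᵥ x = 0 → β ⬝ᵥ y = 0 →
      HasMap M (fun X => X + (α ⬝ᵥ (X *ᵥ β)) • vecMulVec x y)) :
    ∀ (x : ι → F) (y : κ → F) (f : Matrix ι κ F →ₗ[F] F), f (vecMulVec x y) = 0 →
      HasMap M (fun X => X + f X • vecMulVec x y) := by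
  intro x y f hf
  show HasMap M (tvm f (vecMulVec x y))
  by_cases hx : x = 0
  · rw [hx, zero_vecMulVec]
    exact hasMap_id M _ (tvm_zero_right _)
  obtain ⟨col, ξ, ρ, hcol, hρ, hdec⟩ := exists_decomp x hx y f hf
  rw [hdec]
  have hs : HasMap M (tvm (∑ j, pf (col j) (Pi.single j 1)) (vecMulVec x y)) := by
    apply hasMap_sum
    · intro j _
      rw [pf_vecMulVec, hcol j, zero_mul]
    · intro j _
      exact round2 M hpure ha hb x (col j) y _ (hcol j)
  refine hasMap_add M _ _ _ ?_ hs (round1 M hpure ha hb x ξ y ρ hρ)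
  rw [LinearMap.sum_apply]
  refine Finset.sum_eq_zero (fun j _ => ?_)
  rw [pf_vecMulVec, hcol j, zero_mul]

end Cfsg.Agent.Lib.Helper77_Tens_TP8
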