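import Mathlib
import Cfsg.Agent.Lib.Helper97_TensBasic
import Cfsg.Agent.Lib.Helper73_Tens_TP2

set_option autoImplicit false
set_option linter.unusedSectionVars false
set_option linter.unusedVariables false

/-!
# S5637 packages TP4a, TP4 and the shortcut TP5' (`no_nonfiber`, idea of helper29)
-/

namespace Cfsg.Agent.Lib.Helper97_Tens_TP4

open Matrix
open Cfsg.Agent.Lib.Helper98_ExtDefs Cfsg.Agent.Lib.Helper97_TensDefs Cfsg.Agent.Lib.Helper97_TensBasic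
open Cfsg.Agent.Lib.Helper73_Tens_TP2 (fiber_of_kron_rank)

variable {F : Type*} [Field F] {ι κ : Type*} [Fintype ι] [Fintype κ] [DecidableEq ι] [DecidableEq κ]

/-- the conjugate `g₁ ∘ nB y₁ β₁ ∘ g₁⁻¹` -/
noncomputable def cconj (g₁ : Matrix ι κ F ≃ₗ[F] Matrix ι κ F) (y₁ β₁ : κ → F) :
    Matrix ι κ F →ₗ[F] Matrix ι κ F :=
  g₁.toLinearMap ∘ₗ nB y₁ β₁ ∘ₗ g₁.symm.toLinearMap

theorem cconj_apply (g₁ : Matrix ι κ F ≃ₗ[F] Matrix ι κ F) (y₁ β₁ : κ → F) (X : Matrix ι κ F) :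
    cconj g₁ y₁ β₁ X = g₁ (nB y₁ β₁ (g₁.symm X)) := rfl

theorem exists_mulVec_eq {β : κ → F} (hβ : β ≠ 0) (x : ι → F) (y : κ → F) :
    ∃ X : Matrix ι κ F, nB y β X = vecMulVec x y := by
  obtain ⟨k, hk⟩ : ∃ k, β k ≠ 0 := by
    by_contra hcon
    push Not at hcon
    exact hβ (funext hcon)
  refine ⟨vecMulVec x (Pi.single k (β k)⁻¹), ?_⟩
  rw [nB_vecMulVec]
  have : (Pi.single k (β k)⁻¹ : κ → F) ⬝ᵥ β = 1 := by
    rw [single_dotProduct, inv_mul_cancel₀ hk]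
  rw [this, one_smul]

theorem range_nB {y β : κ → F} (hβ : β ≠ 0) : LinearMap.range (nB (ι := ι) y β) = fiber y := by
  apply le_antisymm
  · rintro _ ⟨X, rfl⟩
    exact nB_mem_fiber y β X
  · rintro _ ⟨x, rfl⟩
    obtain ⟨X, hX⟩ := exists_mulVec_eq (ι := ι) hβ x y
    exact ⟨X, hX⟩

theorem range_cconj (g₁ : Matrix ι κ F ≃ₗ[F] Matrix ι κ F) (y₁ : κ → F) {β₁ : κ → F} (hβ₁ : β₁ ≠ 0) :
    LinearMap.range (cconj g₁ y₁ β₁) = (fiber (ι := ι) y₁).map g₁.toLinearMap := by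
  unfold cconj
  rw [LinearMap.range_comp, LinearMap.range_comp, LinearEquiv.range, Submodule.map_top, range_nB hβ₁]

/-- TP4a -/
theorem root_moves_fiber (hab : Fintype.card ι < Fintype.card κ)
    (M : Subgroup (Matrix ι κ F ≃ₗ[F] Matrix ι κ F))
    (hstab : ∀ y : κ → F, y ≠ 0 → ∀ g ∈ M, (fiber y).map g.toLinearMap = fiber (ι := ι) y → IsKron g)
    (g₁ : Matrix ι κ F ≃ₗ[F] Matrix ι κ F) (y₁ β₁ : κ → F) (hy₁ : y₁ ≠ 0) (hβ₁ : β₁ ≠ 0)
    (hβy : β₁ ⬝ᵥ y₁ = 0) (hnf : ¬ IsFiber ((fiber (ι := ι) y₁).map g₁.toLinearMap))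
    (u : Matrix ι κ F ≃ₗ[F] Matrix ι κ F) (hu : u ∈ M)
    (hux : ∀ X, u X = X + g₁ (nB y₁ β₁ (g₁.symm X)))
    (y : κ → F) (hy : y ≠ 0) : (fiber y).map u.toLinearMap ≠ fiber (ι := ι) y := by
  intro hfix
  have hk : IsKron u := hstab y hy u hu hfix
  have hr : LinearMap.range (cconj g₁ y₁ β₁) = (fiber (ι := ι) y₁).map g₁.toLinearMap :=
    range_cconj g₁ y₁ hβ₁
  have hrank : Module.finrank F (LinearMap.range (cconj g₁ y₁ β₁)) ≤ Fintype.card ι := by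
    rw [hr, finrank_map_fiber g₁ y₁ hy₁]
  rcases fiber_of_kron_rank hab u hk (cconj g₁ y₁ β₁) (fun X => by rw [hux, cconj_apply]) hrank
    with h0 | hfib
  · -- the range would be zero, but it has dimension `card ι`, and is not a fibre
    apply hnf
    have : (fiber (ι := ι) y₁).map g₁.toLinearMap = ⊥ := by
      rw [← hr, h0, LinearMap.range_zero]
    -- then `card ι = 0` and every fibre is `⊥`
    have hcard : Fintype.card ι = 0 := by
      rw [← finrank_map_fiber g₁ y₁ hy₁, this, finrank_bot]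
    refine ⟨y₁, hy₁, ?_⟩
    rw [this]
    symm
    apply Submodule.finrank_eq_zero.mp
    rw [finrank_fiber y₁ hy₁, hcard]
  · rw [hr] at hfib
    exact hnf hfib

/-- the functional `β ↦ β ⬝ᵥ y` -/
def dotL (y : κ → F) : (κ → F) →ₗ[F] F where
  toFun β := β ⬝ᵥ y
  map_add' β β' := add_dotProduct β β' y
  map_smul' c β := by rw [smul_dotProduct, RingHom.id_apply]

theorem dotL_apply (y β : κ → F) : dotL y β = β ⬝ᵥ y := rfl

theorem finrank_ker_dotL {y : κ → F} (hy : y ≠ 0) :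
    Module.finrank F (LinearMap.ker (dotL y)) + 1 = Fintype.card κ := by
  have h := LinearMap.finrank_range_add_finrank_ker (dotL y)
  rw [Module.finrank_fintype_fun_eq_card] at h
  have hr : LinearMap.range (dotL y) = ⊤ := by
    rw [LinearMap.range_eq_top]
    obtain ⟨k, hk⟩ : ∃ k, y k ≠ 0 := by
      by_contra hcon
      push Not at hcon
      exact hy (funext hcon)
    intro c
    refine ⟨Pi.single k (c * (y k)⁻¹), ?_⟩
    rw [dotL_apply, single_dotProduct, mul_assoc, inv_mul_cancel₀ hk, mul_one]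
  rw [hr, finrank_top, Module.finrank_self] at h
  omega

/-- `β ↦ g₂ (nB y₂ β (g₂⁻¹ w₀))`, linear in `β` -/
noncomputable def lam (g₂ : Matrix ι κ F ≃ₗ[F] Matrix ι κ F) (y₂ : κ → F) (w₀ : Matrix ι κ F) :
    (κ → F) →ₗ[F] Matrix ι κ F where
  toFun β := g₂ (nB y₂ β (g₂.symm w₀))
  map_add' β β' := by
    rw [nB_apply, nB_apply, nB_apply, mulVec_add, add_vecMulVec, map_add]
  map_smul' c β := by
    rw [nB_apply, nB_apply, mulVec_smul, smul_vecMulVec, map_smul, RingHom.id_apply]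

theorem lam_apply (g₂ : Matrix ι κ F ≃ₗ[F] Matrix ι κ F) (y₂ : κ → F) (w₀ : Matrix ι κ F) (β : κ → F) :
    lam g₂ y₂ w₀ β = g₂ (nB y₂ β (g₂.symm w₀)) := rfl

/-- core of TP4: a maximal pair with `d ≥ 1` is contradictory -/
theorem core (hab : Fintype.card ι < Fintype.card κ)
    (M : Subgroup (Matrix ι κ F ≃ₗ[F] Matrix ι κ F)) (hK : KronHyp M)
    (hstab : ∀ y : κ → F, y ≠ 0 → ∀ g ∈ M, (fiber y).map g.toLinearMap = fiber (ι := ι) y → IsKron g)
    (d : ℕ) (hd : 1 ≤ d)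
    (hmax : ∀ t₁ ∈ FibOrb M, ∀ t₂ ∈ FibOrb M, t₁ ≠ t₂ → Module.finrank F ↥(t₁ ⊓ t₂) ≤ d)
    (z : κ → F) (hz : z ≠ 0) (t' : Submodule F (Matrix ι κ F)) (ht' : t' ∈ FibOrb M)
    (hne : fiber (ι := ι) z ≠ t') (hdim : Module.finrank F ↥(fiber (ι := ι) z ⊓ t') = d) : False := by
  classical
  set ℓ : Submodule F (Matrix ι κ F) := fiber z with hℓ
  have hℓO : ℓ ∈ FibOrb M := fiber_mem_fibOrb M z hz
  obtain ⟨g₂, hg₂, y₂, hy₂, rfl⟩ := ht'
  set t' : Submodule F (Matrix ι κ F) := (fiber y₂).map g₂.toLinearMap with ht'def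
  have ht'O : t' ∈ FibOrb M := ⟨g₂, hg₂, y₂, hy₂, rfl⟩
  set I : Submodule F (Matrix ι κ F) := ℓ ⊓ t' with hI
  -- `t'` is not a fibre
  have hnf : ¬ IsFiber t' := by
    rintro ⟨y', hy', hty'⟩
    have : ℓ ⊓ t' = ⊥ := by
      rw [hty']
      apply fiber_inf_fiber
      rw [← hty']
      exact hne
    rw [← hI] at this
    rw [this, finrank_bot] at hdim
    omega
  -- the conjugated root elements
  have hroot : ∀ β : κ → F, β ⬝ᵥ y₂ = 0 → ∃ u ∈ M, ∀ X, u X = X + g₂ (nB y₂ β (g₂.symm X)) := by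
    intro β hβ
    obtain ⟨r, hr, hrx⟩ := hasMap_rootB hK y₂ β hβ
    refine ⟨g₂ * r * g₂⁻¹, M.mul_mem (M.mul_mem hg₂ hr) (M.inv_mem hg₂), fun X => ?_⟩
    have h1 : (g₂ * r * g₂⁻¹) X = g₂ (r (g₂.symm X)) := rfl
    rw [h1, hrx, map_add, LinearEquiv.apply_symm_apply]
  -- the key property
  have hkey : ∀ β : κ → F, β ≠ 0 → β ⬝ᵥ y₂ = 0 → ∀ w ∈ ℓ, g₂ (nB y₂ β (g₂.symm w)) ∈ I → w ∈ I := by
    intro β hβ0 hβ w hw hcw
    obtain ⟨u, hu, hux⟩ := hroot β hβ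
    have hmove : ℓ.map u.toLinearMap ≠ ℓ :=
      root_moves_fiber hab M hstab g₂ y₂ β hy₂ hβ0 hβ hnf u hu hux z hz
    have huO : ℓ.map u.toLinearMap ∈ FibOrb M := map_mem_fibOrb hℓO hu
    have hle : I ≤ ℓ ⊓ ℓ.map u.toLinearMap := by
      intro v hv
      refine ⟨hv.1, ⟨v, hv.1, ?_⟩⟩
      obtain ⟨v', hv', hv'eq⟩ := hv.2
      have hsymm : g₂.symm v = v' := by
        rw [← hv'eq]
        exact g₂.symm_apply_apply v'
      change u v = v
      rw [hux, hsymm, nB_fiber y₂ β hβ hv', map_zero, add_zero]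
    have hfin : Module.finrank F ↥(ℓ ⊓ ℓ.map u.toLinearMap) ≤ Module.finrank F ↥I := by
      rw [hdim]
      exact hmax ℓ hℓO _ huO (Ne.symm hmove)
    have heq : I = ℓ ⊓ ℓ.map u.toLinearMap := Submodule.eq_of_le_of_finrank_le hle hfin
    have h1 : u w ∈ ℓ ⊓ ℓ.map u.toLinearMap := by
      refine ⟨?_, ⟨w, hw, rfl⟩⟩
      rw [hux]
      exact ℓ.add_mem hw hcw.1
    rw [← heq] at h1
    have h2 : w = u w - g₂ (nB y₂ β (g₂.symm w)) := by rw [hux]; abel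
    rw [h2]
    exact I.sub_mem h1 hcw
  -- a vector of `ℓ` outside `I`
  obtain ⟨w₀, hw₀, hw₀I⟩ : ∃ w₀ ∈ ℓ, w₀ ∉ I := by
    by_contra hcon
    push Not at hcon
    have hle : ℓ ≤ t' := fun w hw => (hcon w hw).2
    have : ℓ = t' := Submodule.eq_of_le_of_finrank_le hle (by
      rw [finrank_of_mem_fibOrb ht'O, finrank_of_mem_fibOrb hℓO])
    exact hne this
  -- the linear map `Λ`
  set Λ : LinearMap.ker (dotL y₂) →ₗ[F] Matrix ι κ F := (lam g₂ y₂ w₀).domRestrict _ with hΛ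
  have hΛI : ∀ β : LinearMap.ker (dotL y₂), Λ β ∈ I → β = 0 := by
    intro β hβI
    by_contra hβ0
    have hβ0' : (β : κ → F) ≠ 0 := fun h => hβ0 (Subtype.ext h)
    have hβy : (β : κ → F) ⬝ᵥ y₂ = 0 := β.2
    exact hw₀I (hkey β hβ0' hβy w₀ hw₀ hβI)
  have hinj : Function.Injective Λ := by
    rw [← LinearMap.ker_eq_bot, eq_bot_iff]
    intro β hβ
    rw [LinearMap.mem_ker] at hβ
    rw [Submodule.mem_bot]
    apply hΛI
    rw [hβ]
    exact I.zero_mem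
  have hrange_le : LinearMap.range Λ ≤ t' := by
    rintro _ ⟨β, rfl⟩
    exact ⟨nB y₂ β (g₂.symm w₀), nB_mem_fiber y₂ β _, rfl⟩
  have hdisj : Disjoint (LinearMap.range Λ) I := by
    rw [Submodule.disjoint_def]
    rintro _ ⟨β, rfl⟩ hI'
    rw [hΛI β hI', map_zero]
  have hIle : I ≤ t' := inf_le_right
  -- dimension count inside `t'`
  have hsum : Module.finrank F ↥(LinearMap.range Λ) + Module.finrank F ↥I ≤ Module.finrank F ↥t' := by
    have h1 := Submodule.finrank_sup_add_finrank_inf_eq (LinearMap.range Λ) I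
    rw [hdisj.eq_bot, finrank_bot, add_zero] at h1
    rw [← h1]
    exact Submodule.finrank_mono (sup_le hrange_le hIle)
  have hrk : Module.finrank F ↥(LinearMap.range Λ) = Module.finrank F (LinearMap.ker (dotL y₂)) :=
    LinearMap.finrank_range_of_inj hinj
  have hker := finrank_ker_dotL hy₂
  rw [hrk, hdim, finrank_of_mem_fibOrb ht'O] at hsum
  omega

/-- TP4 -/
theorem disjoint_of_stab (hab : Fintype.card ι < Fintype.card κ)
    (M : Subgroup (Matrix ι κ F ≃ₗ[F] Matrix ι κ F)) (hK : KronHyp M)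
    (hstab : ∀ y : κ → F, y ≠ 0 → ∀ g ∈ M, (fiber y).map g.toLinearMap = fiber (ι := ι) y → IsKron g) :
    ∀ t₁ ∈ FibOrb M, ∀ t₂ ∈ FibOrb M, t₁ ≠ t₂ → t₁ ⊓ t₂ = ⊥ := by
  classical
  by_contra hcon
  push Not at hcon
  obtain ⟨s₁, hs₁, s₂, hs₂, hs12, hsne⟩ := hcon
  -- the property `P d`: some distinct pair meets in dimension `d ≥ 1`
  let P : ℕ → Prop := fun d => 1 ≤ d ∧ ∃ t₁ ∈ FibOrb M, ∃ t₂ ∈ FibOrb M, t₁ ≠ t₂ ∧
    Module.finrank F ↥(t₁ ⊓ t₂) = d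
  have hbound : ∀ d, P d → d ≤ Fintype.card ι := by
    rintro d ⟨_, t₁, ht₁, t₂, _, _, rfl⟩
    rw [← finrank_of_mem_fibOrb ht₁]
    exact Submodule.finrank_mono inf_le_left
  have hP0 : P (Module.finrank F ↥(s₁ ⊓ s₂)) := by
    refine ⟨?_, s₁, hs₁, s₂, hs₂, hs12, rfl⟩
    by_contra h0
    have : Module.finrank F ↥(s₁ ⊓ s₂) = 0 := by omega
    exact hsne (Submodule.finrank_eq_zero.mp this)
  set d := Nat.findGreatest P (Fintype.card ι) with hd
  have hPd : P d := Nat.findGreatest_spec (hbound _ hP0) hP0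
  have hmaxd : ∀ d', P d' → d' ≤ d := fun d' h => Nat.le_findGreatest (hbound d' h) h
  obtain ⟨hd1, t₁, ht₁, t₂, ht₂, ht12, hdim⟩ := hPd
  have hmax : ∀ r₁ ∈ FibOrb M, ∀ r₂ ∈ FibOrb M, r₁ ≠ r₂ → Module.finrank F ↥(r₁ ⊓ r₂) ≤ d := by
    intro r₁ hr₁ r₂ hr₂ hr12
    by_cases h0 : Module.finrank F ↥(r₁ ⊓ r₂) = 0
    · omega
    · exact hmaxd _ ⟨by omega, r₁, hr₁, r₂, hr₂, hr12, rfl⟩
  -- move `t₁` to a fibre
  obtain ⟨g, hg, z, hz, rfl⟩ := ht₁
  have hginv : g⁻¹ ∈ M := M.inv_mem hg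
  set t' := t₂.map (g⁻¹ : Matrix ι κ F ≃ₗ[F] Matrix ι κ F).toLinearMap with ht'
  have ht'O : t' ∈ FibOrb M := map_mem_fibOrb ht₂ hginv
  have hback : ((fiber (ι := ι) z).map g.toLinearMap).map
      (g⁻¹ : Matrix ι κ F ≃ₗ[F] Matrix ι κ F).toLinearMap = fiber z := by
    rw [← Submodule.map_comp]
    have : (g⁻¹ : Matrix ι κ F ≃ₗ[F] Matrix ι κ F).toLinearMap ∘ₗ g.toLinearMap = LinearMap.id := by
      ext X : 1
      exact g.symm_apply_apply X
    rw [this, Submodule.map_id]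
  have hinj : Function.Injective (Submodule.map (g⁻¹ : Matrix ι κ F ≃ₗ[F] Matrix ι κ F).toLinearMap) :=
    Submodule.map_injective_of_injective (g⁻¹ : Matrix ι κ F ≃ₗ[F] Matrix ι κ F).injective
  have hne : fiber (ι := ι) z ≠ t' := by
    intro h
    apply ht12
    apply hinj
    rw [hback, h]
  have hdim' : Module.finrank F ↥(fiber (ι := ι) z ⊓ t') = d := by
    have h1 : fiber (ι := ι) z ⊓ t' = ((fiber (ι := ι) z).map g.toLinearMap ⊓ t₂).map
        (g⁻¹ : Matrix ι κ F ≃ₗ[F] Matrix ι κ F).toLinearMap := by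
      rw [Submodule.map_inf _ (g⁻¹ : Matrix ι κ F ≃ₗ[F] Matrix ι κ F).injective, hback]
    rw [h1, ← hdim]
    exact LinearEquiv.finrank_map_eq (g⁻¹ : Matrix ι κ F ≃ₗ[F] Matrix ι κ F) _
  exact core hab M hK hstab d hd1 hmax z hz t' ht'O hne hdim'

/-- the `B`-fibre `x ⊗ B` as the range of `w ↦ vecMulVec x w` -/
def bfibL (x : ι → F) : (κ → F) →ₗ[F] Matrix ι κ F where
  toFun w := vecMulVec x w
  map_add' w w' := vecMulVec_add x w w'
  map_smul' c w := by rw [vecMulVec_smul, RingHom.id_apply]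

theorem bfibL_apply (x : ι → F) (w : κ → F) : bfibL x w = vecMulVec x w := rfl

theorem bfibL_injective {x : ι → F} (hx : x ≠ 0) : Function.Injective (bfibL (κ := κ) x) := by
  rw [← LinearMap.ker_eq_bot, eq_bot_iff]
  intro w hw
  rw [LinearMap.mem_ker, bfibL_apply] at hw
  rw [Submodule.mem_bot]
  obtain ⟨i, hi⟩ : ∃ i, x i ≠ 0 := by
    by_contra hcon
    push Not at hcon
    exact hx (funext hcon)
  ext k
  have := congrFun (congrFun hw i) k
  rw [vecMulVec_apply, Matrix.zero_apply] at this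
  rcases mul_eq_zero.mp this with h1 | h1
  · exact absurd h1 hi
  · exact h1

/-- **TP5'** (helper29's shortcut): in case (ii) a pairwise disjoint orbit contains only fibres. -/
theorem no_nonfiber (ha : 1 ≤ Fintype.card ι) (hab : Fintype.card ι < Fintype.card κ)
    (M : Subgroup (Matrix ι κ F ≃ₗ[F] Matrix ι κ F)) (hK : KronHyp M)
    (hstab : ∀ y : κ → F, y ≠ 0 → ∀ g ∈ M, (fiber y).map g.toLinearMap = fiber (ι := ι) y → IsKron g)
    (hdisj : ∀ t₁ ∈ FibOrb M, ∀ t₂ ∈ FibOrb M, t₁ ≠ t₂ → t₁ ⊓ t₂ = ⊥)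
    (t : Submodule F (Matrix ι κ F)) (ht : t ∈ FibOrb M) (hnf : ¬ IsFiber t) : False := by
  classical
  obtain ⟨g₁, hg₁, y₁, hy₁, rfl⟩ := ht
  -- a nonzero `β₁` orthogonal to `y₁`
  have hker := finrank_ker_dotL hy₁
  have hpos : 0 < Module.finrank F (LinearMap.ker (dotL y₁)) := by omega
  obtain ⟨β₁', hβ₁'⟩ := Module.finrank_pos_iff_exists_ne_zero.mp hpos
  set β₁ : κ → F := (β₁' : κ → F) with hβ₁def
  have hβ₁0 : β₁ ≠ 0 := fun h => hβ₁' (Subtype.ext h)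
  have hβ₁y : β₁ ⬝ᵥ y₁ = 0 := β₁'.2
  -- the conjugated root element
  obtain ⟨r, hr, hrx⟩ := hasMap_rootB hK y₁ β₁ hβ₁y
  set u : Matrix ι κ F ≃ₗ[F] Matrix ι κ F := g₁ * r * g₁⁻¹ with hu
  have huM : u ∈ M := M.mul_mem (M.mul_mem hg₁ hr) (M.inv_mem hg₁)
  have hux : ∀ X, u X = X + g₁ (nB y₁ β₁ (g₁.symm X)) := by
    intro X
    have h1 : u X = g₁ (r (g₁.symm X)) := rfl
    rw [h1, hrx, map_add, LinearEquiv.apply_symm_apply]
  -- a nonzero vector `x`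
  obtain ⟨i₀⟩ : Nonempty ι := Fintype.card_pos_iff.mp (by omega)
  set x : ι → F := Pi.single i₀ 1 with hx
  have hx0 : x ≠ 0 := by
    intro h
    have := congrFun h i₀
    rw [hx, Pi.single_eq_same, Pi.zero_apply] at this
    exact one_ne_zero this
  -- dimension count: `x ⊗ B` meets the kernel of `c'`
  set c' := cconj g₁ y₁ β₁ with hc'
  have hrange : Module.finrank F (LinearMap.range c') = Fintype.card ι := by
    rw [hc', range_cconj g₁ y₁ hβ₁0, finrank_map_fiber g₁ y₁ hy₁]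
  have hcomp : LinearMap.ker (c' ∘ₗ bfibL x) ≠ ⊥ := by
    intro hbot
    have hinj : Function.Injective (c' ∘ₗ bfibL x) := LinearMap.ker_eq_bot.mp hbot
    have h1 : Module.finrank F (κ → F) ≤ Module.finrank F (LinearMap.range c') := by
      rw [← LinearMap.finrank_range_of_inj hinj]
      apply Submodule.finrank_mono
      exact LinearMap.range_comp_le_range (bfibL x) c'
    rw [hrange, Module.finrank_fintype_fun_eq_card] at h1
    omega
  obtain ⟨w, hwker, hw0⟩ := (Submodule.ne_bot_iff _).mp hcomp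
  have hcw : c' (vecMulVec x w) = 0 := hwker
  set p : Matrix ι κ F := vecMulVec x w with hp
  have hp0 : p ≠ 0 := by
    intro h
    exact hx0 ((vecMulVec_eq_zero_iff hw0).mp h)
  have hup : u p = p := by
    rw [hux, ← cconj_apply, ← hc', hcw, add_zero]
  have hmove : (fiber (ι := ι) w).map u.toLinearMap ≠ fiber w :=
    root_moves_fiber hab M hstab g₁ y₁ β₁ hy₁ hβ₁0 hβ₁y hnf u huM hux w hw0
  have hbot := hdisj _ (map_mem_fibOrb (fiber_mem_fibOrb M w hw0) huM) _ (fiber_mem_fibOrb M w hw0) hmove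
  have hpin : p ∈ (fiber (ι := ι) w).map u.toLinearMap ⊓ fiber w :=
    ⟨⟨p, vecMulVec_mem_fiber x w, hup⟩, vecMulVec_mem_fiber x w⟩
  rw [hbot, Submodule.mem_bot] at hpin
  exact hp0 hpin

end Cfsg.Agent.Lib.Helper97_Tens_TP4
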