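import Mathlib
import Cfsg.Prelude.Def_GeometricClasses
import Cfsg.Agent.Lib.Helper97_TensDefs
import Cfsg.Agent.Lib.Helper97_Tens_TP4
import Cfsg.Agent.Lib.Helper73_Tens_TP1
import Cfsg.Agent.Lib.Helper52_Tens_TP3
import Cfsg.Agent.Lib.Helper52_Tens_TP6
import Cfsg.Agent.Lib.Helper77_Tens_TP7
import Cfsg.Agent.Lib.Helper77_Tens_TP8
import Cfsg.Agent.Lib.Helper43_Tens_TP9

/-!
# S5637: the abstract main theorem (assembly of the TP packages)

An overgroup `M ≤ SL(A ⊗ B)` of `(GL(A) ⊗ GL(B)) ∩ SL` that contains a non-Kronecker element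
contains every transvection of `A ⊗ B` (`2 ≤ a < b`, `(a, |F|) ≠ (2, 2)`).

Proof: dichotomy on the radical of the stabiliser of a fibre `A ⊗ y`.
* If every fibre stabiliser has standard radical, then every fibre stabiliser is Kronecker (TP3),
  the `M`-orbit of the fibres is a partial spread (TP4) and counting points rules out a non-fibre
  member (`no_nonfiber`); so every element of `M` maps fibres to fibres and is Kronecker (TP1).
* Otherwise a non-standard radical element yields a pure transvection in `M` (TP6), hence all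
  pure transvections (TP7), all transvections with pure centre (TP8), all transvections (TP9).
-/

set_option autoImplicit false
set_option linter.unusedSectionVars false
set_option linter.unusedVariables false

namespace Cfsg.Agent.Lib.Helper97_TensMain

open Matrix
open Cfsg.Agent.Lib.Helper98_ExtDefs Cfsg.Agent.Lib.Helper97_TensDefs

variable {F : Type*} [Field F] {ι κ : Type*} [Fintype ι] [Fintype κ] [DecidableEq ι] [DecidableEq κ]

/-- **Main abstract theorem**: an overgroup in `SL(A ⊗ B)` of `(GL(A) ⊗ GL(B)) ∩ SL` containing a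
non-Kronecker element contains all transvections (`2 ≤ a < b`, `(a, |F|) ≠ (2, 2)`). -/
theorem main_abstract (ha : 2 ≤ Fintype.card ι) (hab : Fintype.card ι < Fintype.card κ)
    (hb : 3 ≤ Fintype.card κ) (hex : ¬ (Fintype.card ι = 2 ∧ Nat.card F = 2))
    (M : Subgroup (Matrix ι κ F ≃ₗ[F] Matrix ι κ F))
    (hdet : ∀ g ∈ M, LinearMap.det g.toLinearMap = 1) (hK : KronHyp M)
    (g₀ : Matrix ι κ F ≃ₗ[F] Matrix ι κ F) (hg₀ : g₀ ∈ M) (hns : ¬ IsKron g₀) : AllTv M := by
  -- a fibre whose image is not a fibre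
  obtain ⟨y₀, hy₀, hnf⟩ :
      ∃ y₀ : κ → F, y₀ ≠ 0 ∧ ¬ IsFiber ((fiber (ι := ι) y₀).map g₀.toLinearMap) := by
    by_contra hcon
    push Not at hcon
    exact hns (Cfsg.Agent.Lib.Helper73_Tens_TP1.isKron_of_fibers g₀ hcon)
  have ht : (fiber (ι := ι) y₀).map g₀.toLinearMap ∈ FibOrb M := ⟨g₀, hg₀, y₀, hy₀, rfl⟩
  by_cases hrs : ∀ y : κ → F, y ≠ 0 → RadStd (ι := ι) M y
  · -- case (ii): the stabiliser of every fibre is Kronecker
    exfalso
    have hstab : ∀ y : κ → F, y ≠ 0 → ∀ g ∈ M,
        (fiber y).map g.toLinearMap = fiber (ι := ι) y → IsKron g :=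
      fun y hy g hg hgy =>
        Cfsg.Agent.Lib.Helper52_Tens_TP3.stab_isKron M hdet hK y hy (hrs y hy) g hg hgy
    have hdisj := Cfsg.Agent.Lib.Helper97_Tens_TP4.disjoint_of_stab hab M hK hstab
    exact Cfsg.Agent.Lib.Helper97_Tens_TP4.no_nonfiber (by omega) hab M hK hstab hdisj _ ht hnf
  · -- case (i): a non-standard element in the radical
    push Not at hrs
    obtain ⟨y, hy, hrad⟩ := hrs
    obtain ⟨x, α, γ, hx, hα, hγ, hαx, hγy, h₀⟩ :=
      Cfsg.Agent.Lib.Helper52_Tens_TP6.tv_of_rad ha hb hex M hK y hy hrad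
    exact Cfsg.Agent.Lib.Helper43_Tens_TP9.allTv_of_pure M
      (Cfsg.Agent.Lib.Helper77_Tens_TP8.tv_pure_centre ha hb M
        (Cfsg.Agent.Lib.Helper77_Tens_TP7.all_pure_tv ha hb M hK x α y γ hx hα hy hγ hαx hγy h₀))

end Cfsg.Agent.Lib.Helper97_TensMain
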