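import Mathlib
import Cfsg.Prelude.Def_GeometricClasses
import Cfsg.Agent.Lib.Helper98_Decomp
import Cfsg.Agent.Lib.Helper94_Bridge

set_option autoImplicit false
set_option linter.unusedSectionVars false
set_option linter.unusedSimpArgs false
set_option linter.unusedVariables false

/-!
Transport of the stabiliser of a decomposition of `F^n` to block-monomial matrices indexed by
`Fin t × Fin m`, via a basis adapted to the decomposition.
-/

namespace Cfsg.Agent.Lib.Helper98_DecompStd

open Matrix Cfsg.Agent.Lib.Helper98_Decomp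

variable {F : Type*} [Field F] {n t m : ℕ} {D : Fin t → Submodule F (Fin n → F)}

/-- block-monomial matrices -/
def BM (h : Matrix (Fin t × Fin m) (Fin t × Fin m) F) : Prop :=
  ∃ σ : Equiv.Perm (Fin t), ∀ c a, h c a ≠ 0 → c.1 = σ a.1

variable (hD : Cfsg.Geo.IsMDecomposition m D)

/-- the adapted basis, indexed by pairs -/
noncomputable def basP : Module.Basis (Fin t × Fin m) F (Fin n → F) :=
  (bas hD).reindex (Equiv.sigmaEquivProd (Fin t) (Fin m))

lemma basP_apply (a : Fin t × Fin m) : basP hD a = bas hD ⟨a.1, a.2⟩ := by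
  unfold basP
  rw [Module.Basis.reindex_apply]
  rfl

lemma basP_repr (x : Fin n → F) (c : Fin t × Fin m) :
    (basP hD).repr x c = co hD c.1 c.2 x := by
  unfold basP
  rw [Module.Basis.repr_reindex_apply]
  rfl

/-- change of basis on matrices -/
noncomputable def algE :
    Matrix (Fin n) (Fin n) F ≃ₐ[F] Matrix (Fin t × Fin m) (Fin t × Fin m) F :=
  (Matrix.toLinAlgEquiv' (R := F) (n := Fin n)).trans (LinearMap.toMatrixAlgEquiv (basP hD))

lemma algE_apply (M : Matrix (Fin n) (Fin n) F) (c a : Fin t × Fin m) :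
    algE hD M c a = co hD c.1 c.2 (M *ᵥ bas hD ⟨a.1, a.2⟩) := by
  unfold algE
  rw [AlgEquiv.trans_apply, LinearMap.toMatrixAlgEquiv_apply, basP_repr, basP_apply,
    Matrix.toLinAlgEquiv'_apply]

lemma det_algE (M : Matrix (Fin n) (Fin n) F) : (algE hD M).det = M.det := by
  have h : algE hD M = LinearMap.toMatrix (basP hD) (basP hD) (Matrix.toLin' M) := by
    ext c a
    rw [algE_apply, LinearMap.toMatrix_apply, basP_repr, basP_apply, Matrix.toLin'_apply]
  rw [h, LinearMap.det_toMatrix, LinearMap.det_toLin']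

/-- change of basis on `GL` -/
noncomputable def Phi : GL (Fin n) F ≃* GL (Fin t × Fin m) F :=
  Units.mapEquiv (algE hD).toMulEquiv

lemma Phi_val (g : GL (Fin n) F) :
    ((Phi hD g : GL (Fin t × Fin m) F) : Matrix (Fin t × Fin m) (Fin t × Fin m) F) =
      algE hD (g : Matrix (Fin n) (Fin n) F) := rfl

lemma mem_of_co {i₀ : Fin t} {y : Fin n → F} (h : ∀ k, k ≠ i₀ → ∀ j, co hD k j y = 0) :
    y ∈ D i₀ := by
  rw [← sum_part hD y, Finset.sum_eq_single i₀]
  · exact part_mem hD i₀ y
  · intro k _ hk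
    exact part_eq_zero hD (h k hk)
  · intro h'; exact absurd (Finset.mem_univ _) h'

lemma eq_sum_of_mem {i : Fin t} {x : Fin n → F} (hx : x ∈ D i) :
    x = ∑ j, co hD i j x • bas hD ⟨i, j⟩ := by
  conv_lhs => rw [← sum_part hD x]
  rw [Finset.sum_eq_single i]
  · rfl
  · intro k _ hk
    exact part_eq_zero hD (fun j => co_of_mem_ne hD hx (Ne.symm hk) j)
  · intro h'; exact absurd (Finset.mem_univ _) h'

theorem mem_stab_iff (g : GL (Fin n) F) :
    g ∈ Cfsg.Geo.decompositionStabilizer D ↔
      BM ((Phi hD g : GL (Fin t × Fin m) F) : Matrix (Fin t × Fin m) (Fin t × Fin m) F) := by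
  constructor
  · rintro ⟨σ, hσ⟩
    refine ⟨σ, fun c a hca => ?_⟩
    rw [Phi_val, algE_apply] at hca
    by_contra hne
    apply hca
    exact co_of_mem_ne hD (stab_mulVec_mem hσ (bas_mem hD a.1 a.2)) (Ne.symm hne) c.2
  · rintro ⟨σ, hσ⟩
    refine ⟨σ, fun i => ?_⟩
    have hb : ∀ j, (g : Matrix (Fin n) (Fin n) F) *ᵥ bas hD ⟨i, j⟩ ∈ D (σ i) := by
      intro j
      apply mem_of_co hD
      intro k hk j'
      by_contra hne
      have := hσ (k, j') (i, j) (by rw [Phi_val, algE_apply]; exact hne)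
      exact hk this
    have hle : (D i).map (Matrix.toLin' (g : Matrix (Fin n) (Fin n) F)) ≤ D (σ i) := by
      rintro y ⟨x, hx, rfl⟩
      rw [Matrix.toLin'_apply, eq_sum_of_mem hD hx, Matrix.mulVec_sum]
      apply Submodule.sum_mem
      intro j _
      rw [Matrix.mulVec_smul]
      exact Submodule.smul_mem _ _ (hb j)
    apply Submodule.eq_of_le_of_finrank_eq hle
    have e : (D i).map (Matrix.toLin' (g : Matrix (Fin n) (Fin n) F)) =
        (D i).map ((Cfsg.Agent.Lib.Helper94_Bridge.glEquiv (Fin n) F g :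
          (Fin n → F) ≃ₗ[F] (Fin n → F)) : (Fin n → F) →ₗ[F] (Fin n → F)) := by
      congr 1
    rw [e, LinearEquiv.finrank_map_eq, hD.finrank_eq, hD.finrank_eq]

lemma det_Phi (g : GL (Fin n) F) :
    ((Phi hD g : GL (Fin t × Fin m) F) : Matrix (Fin t × Fin m) (Fin t × Fin m) F).det =
      (g : Matrix (Fin n) (Fin n) F).det := by
  rw [Phi_val, det_algE]

end Cfsg.Agent.Lib.Helper98_DecompStd
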