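import Mathlib
import Cfsg.Prelude.Def_GeometricClasses
import Cfsg.Agent.Lib.Helper98_MonoBase
import Cfsg.Agent.Lib.Helper98_MonoG
import Cfsg.Agent.Lib.Helper98_MonoSL
import Cfsg.Agent.Lib.Helper98_MonoTop
import Cfsg.Agent.Lib.Helper98_DecompStd

set_option autoImplicit false
set_option linter.unusedSectionVars false
set_option linter.unusedSimpArgs false
set_option linter.unusedVariables false
set_option linter.style.haveILetI false

/-!
Overgroups in `SL` of the group of block-monomial matrices of determinant one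
(blocks of size `m ≥ 2`, indexed by `Fin t × Fin m`).
-/

namespace Cfsg.Agent.Lib.Helper98_BlockG

open Matrix Cfsg.Agent.Lib.Helper98_MonoBase Cfsg.Agent.Lib.Helper98_MonoG
  Cfsg.Agent.Lib.Helper98_DecompStd

variable {F : Type*} [Field F] [Fintype F] {t m : ℕ}

local notation "κ" => Fin t × Fin m

/-- The standing hypothesis on `K`. -/
structure HypB (K : Subgroup (GL (Fin t × Fin m) F)) : Prop where
  det_one : ∀ g ∈ K, (g : Matrix (Fin t × Fin m) (Fin t × Fin m) F).det = 1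
  bm_mem : ∀ h : GL (Fin t × Fin m) F, BM (h : Matrix (Fin t × Fin m) (Fin t × Fin m) F) →
    (h : Matrix (Fin t × Fin m) (Fin t × Fin m) F).det = 1 → h ∈ K

/-- supported in block `a` -/
def InB (a : Fin t) (x : κ → F) : Prop := ∀ c : κ, c.1 ≠ a → x c = 0

/-- the block `a` component -/
def blk (a : Fin t) (x : κ → F) : κ → F := fun c => if c.1 = a then x c else 0

lemma inB_blk (a : Fin t) (x : κ → F) : InB a (blk a x) := fun c hc => by
  unfold blk; rw [if_neg hc]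

lemma inB_single (r : κ) (c : F) : InB r.1 (Pi.single r c : κ → F) := by
  intro s hs
  rw [Pi.single_apply, if_neg]
  intro h
  exact hs (by rw [h])

lemma InB.smul {a : Fin t} {x : κ → F} (h : InB a x) (c : F) : InB a (c • x) := by
  intro s hs
  rw [Pi.smul_apply, h s hs, smul_zero]

lemma InB.sub {a : Fin t} {x y : κ → F} (h : InB a x) (h' : InB a y) : InB a (x - y) := by
  intro s hs
  rw [Pi.sub_apply, h s hs, h' s hs, sub_zero]

lemma dot_of_inB {a b : Fin t} (hab : a ≠ b) {x z : κ → F} (hx : InB a x) (hz : InB b z) :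
    z ⬝ᵥ x = 0 := by
  unfold dotProduct
  apply Finset.sum_eq_zero
  intro c _
  by_cases h : c.1 = a
  · rw [hz c (by rw [h]; exact hab), zero_mul]
  · rw [hx c h, mul_zero]

lemma dot_blk_right {a : Fin t} {z : κ → F} (hz : InB a z) (x : κ → F) :
    z ⬝ᵥ blk a x = z ⬝ᵥ x := by
  unfold dotProduct
  apply Finset.sum_congr rfl
  intro c _
  unfold blk
  by_cases h : c.1 = a
  · rw [if_pos h]
  · rw [if_neg h, hz c h, zero_mul, zero_mul]

lemma dot_blk_left {a : Fin t} {x : κ → F} (hx : InB a x) (z : κ → F) :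
    blk a z ⬝ᵥ x = z ⬝ᵥ x := by
  unfold dotProduct
  apply Finset.sum_congr rfl
  intro c _
  unfold blk
  by_cases h : c.1 = a
  · rw [if_pos h]
  · rw [if_neg h, hx c h, mul_zero, mul_zero]

lemma dot_blk_comm (a : Fin t) (x z : κ → F) : blk a z ⬝ᵥ x = z ⬝ᵥ blk a x := by
  unfold dotProduct
  apply Finset.sum_congr rfl
  intro c _
  unfold blk
  by_cases h : c.1 = a
  · rw [if_pos h, if_pos h]
  · rw [if_neg h, if_neg h, zero_mul, mul_zero]

/-! ### block-monomial matrices -/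

lemma bm_one : BM (1 : Matrix κ κ F) := by
  refine ⟨1, fun c a h => ?_⟩
  have : c = a := by
    by_contra hne
    exact h (Matrix.one_apply_ne hne)
  rw [this]; rfl

lemma bm_mul {A B : Matrix κ κ F} (hA : BM A) (hB : BM B) : BM (A * B) := by
  obtain ⟨σ, hσ⟩ := hA
  obtain ⟨τ, hτ⟩ := hB
  refine ⟨σ * τ, fun c a h => ?_⟩
  rw [Matrix.mul_apply] at h
  obtain ⟨r, -, hr⟩ := Finset.exists_ne_zero_of_sum_ne_zero h
  rw [hσ c r (left_ne_zero_of_mul hr), hτ r a (right_ne_zero_of_mul hr)]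
  rfl

lemma bm_r1 {a : Fin t} {x z : κ → F} (hx : InB a x) (hz : InB a z) (c : F) :
    BM (1 + c • vecMulVec x z) := by
  refine ⟨1, fun r s h => ?_⟩
  rw [Matrix.add_apply, Matrix.smul_apply, vecMulVec_apply] at h
  by_cases hrs : r = s
  · rw [hrs]; rfl
  · rw [Matrix.one_apply_ne hrs, zero_add] at h
    have h1 : x r ≠ 0 := fun h' => h (by rw [h']; simp)
    have h2 : z s ≠ 0 := fun h' => h (by rw [h']; simp)
    have hr : r.1 = a := by
      by_contra hne; exact h1 (hx r hne)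
    have hs : s.1 = a := by
      by_contra hne; exact h2 (hz s hne)
    rw [hr, ← hs]; rfl

lemma det_r1 (x z : κ → F) (c : F) : (1 + c • vecMulVec x z).det = 1 + c * (z ⬝ᵥ x) := by
  rw [← smul_vecMulVec, Matrix.vecMulVec_eq Unit, Matrix.det_one_add_replicateCol_mul_replicateRow,
    dotProduct_smul, smul_eq_mul]

/-- the rank one perturbation of the identity as a unit -/
noncomputable def r1U (x z : κ → F) (c : F) (h : 1 + c * (z ⬝ᵥ x) ≠ 0) : GL κ F :=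
  Matrix.GeneralLinearGroup.mkOfDetNeZero (1 + c • vecMulVec x z) (by rw [det_r1]; exact h)

lemma r1U_val (x z : κ → F) (c : F) (h : 1 + c * (z ⬝ᵥ x) ≠ 0) :
    ((r1U x z c h : GL κ F) : Matrix κ κ F) = 1 + c • vecMulVec x z := rfl

/-- pure pairs give transvections in `K` -/
lemma pure_tv {K : Subgroup (GL κ F)} (hK : HypB K) {a : Fin t} {x z : κ → F} (hx : InB a x)
    (hz : InB a z) (h0 : z ⬝ᵥ x = 0) : TV K x z := by
  intro c
  have hne : 1 + c * (z ⬝ᵥ x) ≠ 0 := by rw [h0, mul_zero, add_zero]; exact one_ne_zero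
  refine ⟨r1U x z c hne, hK.bm_mem _ ?_ ?_, rfl⟩
  · rw [r1U_val]; exact bm_r1 hx hz c
  · rw [r1U_val, det_r1, h0, mul_zero, add_zero]

/-- conjugating a transvection group by a transvection of `K` -/
lemma conj_tv {K : Subgroup (GL κ F)} {x ξ v ζ : κ → F} (hT : TV K x ξ) (hvζ : TV K v ζ)
    (hζv : ζ ⬝ᵥ v = 0) : TV K (x + (ζ ⬝ᵥ x) • v) (ξ - (ξ ⬝ᵥ v) • ζ) := by
  obtain ⟨h, hh, hhv⟩ := hvζ 1
  have hinv : ((h⁻¹ : GL κ F) : Matrix κ κ F) = 1 + (-1 : F) • vecMulVec v ζ := by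
    apply Units.inv_eq_of_mul_eq_one_right
    rw [hhv, T_mul, hζv]
    simp
  have := hT.conj hh
  rw [hhv, hinv, psr_mulVec, vecMul_psr] at this
  convert this using 2
  · rw [one_mul]
  · rw [neg_one_mul, neg_smul, sub_eq_add_neg]

lemma m1 {K : Subgroup (GL κ F)} (hK : HypB K) {x ξ : κ → F} (hT : TV K x ξ)
    (h0 : ξ ⬝ᵥ x = 0) {a : Fin t} {v ζ : κ → F} (hv : InB a v) (hζ : InB a ζ)
    (hζv : ζ ⬝ᵥ v = 0) (hζx : ζ ⬝ᵥ x = 0) (hξv : ξ ⬝ᵥ v ≠ 0) : TV K x ζ := by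
  have h1 := conj_tv hT (pure_tv hK hv hζ hζv) hζv
  rw [hζx, zero_smul, add_zero] at h1
  have h2 := hT.sub_axis h1 h0
  rw [sub_sub_cancel] at h2
  have h3 := h2.smul_axis (ξ ⬝ᵥ v)⁻¹
  rwa [smul_smul, inv_mul_cancel₀ hξv, one_smul] at h3

lemma m2 {K : Subgroup (GL κ F)} (hK : HypB K) {x ζ : κ → F} {a : Fin t} (hT : TV K x ζ)
    (hζ : InB a ζ) (hζx : ζ ⬝ᵥ x = 0) : TV K (x - blk a x) ζ := by
  have hp : ζ ⬝ᵥ blk a x = 0 := by rw [dot_blk_right hζ, hζx]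
  exact hT.sub_centre (pure_tv hK (inB_blk a x) hζ hp) hp

lemma exists_ne_fin (hm : 2 ≤ m) (j : Fin m) : ∃ j' : Fin m, j' ≠ j := by
  by_cases h : j = ⟨0, by omega⟩
  · exact ⟨⟨1, by omega⟩, by rw [h]; simp [Fin.ext_iff]⟩
  · exact ⟨⟨0, by omega⟩, fun h' => h h'.symm⟩

lemma m3 {K : Subgroup (GL κ F)} (hK : HypB K) (hm : 2 ≤ m) {x' ζ : κ → F} {a : Fin t}
    (hT : TV K x' ζ) (hζ : InB a ζ) {r : κ} (hr : r.1 ≠ a) (hxr : x' r ≠ 0)
    (hζx' : ζ ⬝ᵥ x' = 0) : ∃ j, TV K (Pi.single (r.1, j) 1) ζ := by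
  obtain ⟨j, hj⟩ := exists_ne_fin hm r.2
  refine ⟨j, ?_⟩
  have hne : (r.1, j) ≠ r := fun h => hj (by rw [← h])
  have hv : InB r.1 (Pi.single (r.1, j) (1 : F) : κ → F) := inB_single (r.1, j) 1
  have hζ' : InB r.1 (Pi.single r (1 : F) : κ → F) := inB_single r 1
  have hdot : (Pi.single r (1 : F) : κ → F) ⬝ᵥ Pi.single (r.1, j) 1 = 0 := by
    rw [dotProduct_single, mul_one, Pi.single_apply, if_neg hne]
  have h1 := conj_tv hT (pure_tv hK hv hζ' hdot) hdot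
  rw [dot_of_inB hr hv hζ, zero_smul, sub_zero, single_dotProduct, one_mul] at h1
  have h2 := h1.sub_centre hT hζx'
  rw [add_sub_cancel_left] at h2
  have h3 := h2.smul_centre (x' r)⁻¹
  rwa [smul_smul, inv_mul_cancel₀ hxr, one_smul] at h3

lemma m4 {K : Subgroup (GL κ F)} (hK : HypB K) (hm : 2 ≤ m) {v ζ : κ → F} {a b : Fin t}
    (hT : TV K v ζ) (hv : InB b v) (hζ : InB a ζ) (hab : a ≠ b) (hζ0 : ζ ≠ 0) :
    ∃ l, TV K v (Pi.single (a, l) 1) := by
  obtain ⟨s₀, hs₀⟩ : ∃ s, ζ s ≠ 0 := by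
    by_contra hcon
    push Not at hcon
    exact hζ0 (funext hcon)
  have hs₀a : s₀.1 = a := by
    by_contra hne; exact hs₀ (hζ s₀ hne)
  obtain ⟨l, hl⟩ := exists_ne_fin hm s₀.2
  refine ⟨l, ?_⟩
  have hne : (a, l) ≠ s₀ := fun h => hl (by rw [← h])
  have hv' : InB a (Pi.single s₀ (1 : F) : κ → F) := by rw [← hs₀a]; exact inB_single s₀ 1
  have hζ' : InB a (Pi.single (a, l) (1 : F) : κ → F) := inB_single (a, l) 1
  have hdot : (Pi.single (a, l) (1 : F) : κ → F) ⬝ᵥ Pi.single s₀ 1 = 0 := by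
    rw [dotProduct_single, mul_one, Pi.single_apply, if_neg (Ne.symm hne)]
  have h1 := conj_tv hT (pure_tv hK hv' hζ' hdot) hdot
  rw [dot_of_inB (Ne.symm hab) hv hζ', zero_smul, add_zero, dotProduct_single, mul_one] at h1
  have h2 := hT.sub_axis h1 (dot_of_inB (Ne.symm hab) hv hζ)
  rw [sub_sub_cancel] at h2
  have h3 := h2.smul_axis (ζ s₀)⁻¹
  rwa [smul_smul, inv_mul_cancel₀ hs₀, one_smul] at h3


/-! ### vectors orthogonal to a given one -/

lemma perp_of_two {r r' : κ} (hrr : r ≠ r') (x : κ → F) :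
    ∃ ζ : κ → F, ζ ≠ 0 ∧ ζ ⬝ᵥ x = 0 ∧ ∀ c, c ≠ r → c ≠ r' → ζ c = 0 := by
  by_cases h : x r = 0 ∧ x r' = 0
  · refine ⟨Pi.single r 1, ?_, ?_, ?_⟩
    · intro h0
      have := congrFun h0 r
      simp at this
    · rw [single_dotProduct, one_mul]; exact h.1
    · intro c hc _
      rw [Pi.single_apply, if_neg hc]
  · refine ⟨x r' • Pi.single r 1 - x r • Pi.single r' 1, ?_, ?_, ?_⟩
    · intro h0
      have h1 := congrFun h0 r
      have h2 := congrFun h0 r'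
      simp [Pi.single_apply, hrr, Ne.symm hrr] at h1 h2
      exact h ⟨h2, h1⟩
    · rw [sub_dotProduct, smul_dotProduct, smul_dotProduct, single_dotProduct, single_dotProduct]
      simp
      ring
    · intro c hc hc'
      simp [Pi.single_apply, hc, hc']

lemma exists_perp (hm : 2 ≤ m) (a : Fin t) (x : κ → F) :
    ∃ ζ : κ → F, InB a ζ ∧ ζ ≠ 0 ∧ ζ ⬝ᵥ x = 0 := by
  have hrr : ((a, ⟨0, by omega⟩) : κ) ≠ (a, ⟨1, by omega⟩) := by
    intro h
    have := congrArg (fun p : κ => (p.2 : ℕ)) h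
    simp at this
  obtain ⟨ζ, h0, h1, h2⟩ := perp_of_two hrr x
  refine ⟨ζ, ?_, h0, h1⟩
  intro c hc
  apply h2 c
  · intro h; exact hc (by rw [h])
  · intro h; exact hc (by rw [h])

lemma exists_two_ne (hm : 3 ≤ m) (j₀ : Fin m) : ∃ j j' : Fin m, j ≠ j₀ ∧ j' ≠ j₀ ∧ j ≠ j' := by
  classical
  have h : 1 < (Finset.univ.erase j₀).card := by
    rw [Finset.card_erase_of_mem (Finset.mem_univ _), Finset.card_univ, Fintype.card_fin]
    omega
  obtain ⟨j, hj, j', hj', hjj⟩ := Finset.one_lt_card.mp h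
  exact ⟨j, j', (Finset.mem_erase.mp hj).1, (Finset.mem_erase.mp hj').1, hjj⟩

lemma exists_perp_avoid (hm : 3 ≤ m) (s₀ : κ) (x : κ → F) :
    ∃ ζ : κ → F, InB s₀.1 ζ ∧ ζ ≠ 0 ∧ ζ ⬝ᵥ x = 0 ∧ ζ s₀ = 0 := by
  obtain ⟨j, j', hj, hj', hjj⟩ := exists_two_ne hm s₀.2
  have hrr : ((s₀.1, j) : κ) ≠ (s₀.1, j') := fun h => hjj (congrArg Prod.snd h)
  obtain ⟨ζ, h0, h1, h2⟩ := perp_of_two hrr x
  refine ⟨ζ, ?_, h0, h1, ?_⟩
  · intro c hc
    apply h2 c
    · intro h; exact hc (by rw [h])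
    · intro h; exact hc (by rw [h])
  · apply h2 s₀
    · intro h; exact hj (by rw [h])
    · intro h; exact hj' (by rw [h])

/-- dilation data in a block -/
lemma exists_dil (hm : 2 ≤ m) (e : Fin t) (x : κ → F) :
    ∃ p π : κ → F, InB e p ∧ InB e π ∧ π ⬝ᵥ p = 1 ∧ π ⬝ᵥ x = 0 := by
  obtain ⟨ζ, hζ, hζ0, hζx⟩ := exists_perp hm e x
  obtain ⟨s, hs⟩ : ∃ s, ζ s ≠ 0 := by
    by_contra hcon
    push Not at hcon
    exact hζ0 (funext hcon)
  have hse : s.1 = e := by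
    by_contra hne; exact hs (hζ s hne)
  refine ⟨(ζ s)⁻¹ • Pi.single s 1, ζ, ?_, hζ, ?_, hζx⟩
  · rw [← hse]; exact (inB_single s 1).smul _
  · rw [dotProduct_smul, dotProduct_single, mul_one, smul_eq_mul, inv_mul_cancel₀ hs]

/-! ### the compensation trick -/

lemma comp {K : Subgroup (GL κ F)} (hK : HypB K) {x ξ : κ → F} (hT : TV K x ξ) {a e : Fin t}
    (hae : a ≠ e) {pa πa pe πe : κ → F} (hpa : InB a pa) (hπa : InB a πa) (hpe : InB e pe)
    (hπe : InB e πe) (ha1 : πa ⬝ᵥ pa = 1) (he1 : πe ⬝ᵥ pe = 1) (hax : πa ⬝ᵥ x = 0)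
    (hex : πe ⬝ᵥ x = 0) {lam : F} (hl : lam ≠ 0) :
    TV K x (ξ + ((lam - 1) * (ξ ⬝ᵥ pe)) • πe + ((lam⁻¹ - 1) * (ξ ⬝ᵥ pa)) • πa) := by
  have hn1 : 1 + (lam - 1) * (πa ⬝ᵥ pa) ≠ 0 := by rw [ha1]; simpa using hl
  have hn2 : 1 + (lam⁻¹ - 1) * (πe ⬝ᵥ pe) ≠ 0 := by rw [he1]; simpa using hl
  set h₁ : GL κ F := r1U pa πa (lam - 1) hn1 with hh₁
  set h₂ : GL κ F := r1U pe πe (lam⁻¹ - 1) hn2 with hh₂
  have hv1 : (h₁ : Matrix κ κ F) = 1 + (lam - 1) • vecMulVec pa πa := rfl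
  have hv2 : (h₂ : Matrix κ κ F) = 1 + (lam⁻¹ - 1) • vecMulVec pe πe := rfl
  have hi1 : ((h₁⁻¹ : GL κ F) : Matrix κ κ F) = 1 + (lam⁻¹ - 1) • vecMulVec pa πa :=
    psr_inv_val hl ha1 hv1
  have hi2 : ((h₂⁻¹ : GL κ F) : Matrix κ κ F) = 1 + (lam - 1) • vecMulVec pe πe := by
    have := psr_inv_val (inv_ne_zero hl) he1 hv2
    rwa [inv_inv] at this
  have hhK : h₁ * h₂ ∈ K := by
    apply hK.bm_mem
    · rw [Units.val_mul, hv1, hv2]
      exact bm_mul (bm_r1 hpa hπa _) (bm_r1 hpe hπe _)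
    · rw [Units.val_mul, det_mul, hv1, hv2, det_r1, det_r1, ha1, he1]
      field_simp
      ring
  have e2 : (1 + (lam⁻¹ - 1) • vecMulVec pe πe) *ᵥ x = x := by
    rw [psr_mulVec, hex, mul_zero, zero_smul, add_zero]
  have e1 : (1 + (lam - 1) • vecMulVec pa πa) *ᵥ x = x := by
    rw [psr_mulVec, hax, mul_zero, zero_smul, add_zero]
  have e3 : ξ ᵥ* (1 + (lam - 1) • vecMulVec pe πe) = ξ + ((lam - 1) * (ξ ⬝ᵥ pe)) • πe :=
    vecMul_psr _ _ _ _
  have e4 : (ξ + ((lam - 1) * (ξ ⬝ᵥ pe)) • πe) ᵥ* (1 + (lam⁻¹ - 1) • vecMulVec pa πa) =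
      ξ + ((lam - 1) * (ξ ⬝ᵥ pe)) • πe + ((lam⁻¹ - 1) * (ξ ⬝ᵥ pa)) • πa := by
    rw [vecMul_psr, add_dotProduct, smul_dotProduct, dot_of_inB hae hpa hπe, smul_zero, add_zero]
  have := hT.conj hhK
  rw [_root_.mul_inv_rev, Units.val_mul, Units.val_mul, ← mulVec_mulVec, ← vecMul_vecMul, hv1, hv2,
    hi1, hi2, e2, e1, e3, e4] at this
  exact this

lemma d1 {K : Subgroup (GL κ F)} (hK : HypB K) (hm : 2 ≤ m) {lam : F} (hl0 : lam ≠ 0)
    (hl1 : lam ≠ 1) {x ξ : κ → F} (hT : TV K x ξ) (h0 : ξ ⬝ᵥ x = 0) {s₀ : κ} (hs₀ : ξ s₀ ≠ 0)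
    (hax : blk s₀.1 ξ ⬝ᵥ x = 0) {e : Fin t} (he : s₀.1 ≠ e)
    (hξe : ∀ c : κ, c.1 = e → ξ c = 0) : TV K x (blk s₀.1 ξ) := by
  obtain ⟨pe, πe, hpe, hπe, he1, hex⟩ := exists_dil hm e x
  have hpa : InB s₀.1 ((ξ s₀)⁻¹ • (Pi.single s₀ 1 : κ → F)) := (inB_single s₀ 1).smul _
  have hblk : blk s₀.1 ξ s₀ = ξ s₀ := by unfold blk; rw [if_pos rfl]
  have ha1 : blk s₀.1 ξ ⬝ᵥ ((ξ s₀)⁻¹ • (Pi.single s₀ 1 : κ → F)) = 1 := by
    rw [dotProduct_smul, dotProduct_single, mul_one, smul_eq_mul, hblk, inv_mul_cancel₀ hs₀]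
  have hξpa : ξ ⬝ᵥ ((ξ s₀)⁻¹ • (Pi.single s₀ 1 : κ → F)) = 1 := by
    rw [dotProduct_smul, dotProduct_single, mul_one, smul_eq_mul, inv_mul_cancel₀ hs₀]
  have hξpe : ξ ⬝ᵥ pe = 0 := by
    unfold dotProduct
    apply Finset.sum_eq_zero
    intro c _
    by_cases hc : c.1 = e
    · rw [hξe c hc, zero_mul]
    · rw [hpe c hc, mul_zero]
  have h1 := comp hK hT he hpa (inB_blk s₀.1 ξ) hpe hπe ha1 he1 hax hex hl0
  rw [hξpe, mul_zero, zero_smul, add_zero, hξpa, mul_one] at h1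
  have h2 := hT.sub_axis h1 h0
  rw [sub_add_cancel_left] at h2
  have hne : -(lam⁻¹ - 1) ≠ 0 := by
    intro h
    apply hl1
    have : lam⁻¹ = 1 := by linear_combination -h
    rw [← inv_inv lam, this, inv_one]
  have h3 := h2.smul_axis (-(lam⁻¹ - 1))⁻¹
  rwa [← neg_smul, smul_smul, inv_mul_cancel₀ hne, one_smul] at h3

lemma blk_blk_ne {a e : Fin t} (hae : a ≠ e) (ξ : κ → F) : blk a (blk e ξ) = 0 := by
  funext c
  unfold blk
  by_cases h : c.1 = a
  · rw [if_pos h, if_neg (by rw [h]; exact hae)]; rfl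
  · rw [if_neg h]; rfl

lemma blk_blk (a : Fin t) (ξ : κ → F) : blk a (blk a ξ) = blk a ξ := by
  funext c
  unfold blk
  by_cases h : c.1 = a
  · simp [h]
  · simp [h]

lemma blk_add (a : Fin t) (ξ η : κ → F) : blk a (ξ + η) = blk a ξ + blk a η := by
  funext c
  unfold blk
  by_cases h : c.1 = a
  · simp [h]
  · simp [h]

lemma blk_smul (a : Fin t) (c : F) (ξ : κ → F) : blk a (c • ξ) = c • blk a ξ := by
  funext r
  unfold blk
  by_cases h : r.1 = a
  · simp [h]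
  · simp [h]

lemma d2 {K : Subgroup (GL κ F)} (hK : HypB K) (hm : 2 ≤ m) {lam : F} (hl0 : lam ≠ 0)
    (hl1 : lam ≠ 1) {x ξ : κ → F} (hT : TV K x ξ) (h0 : ξ ⬝ᵥ x = 0) {s₀ s₁ : κ}
    (hs₀ : ξ s₀ ≠ 0) (hs₁ : ξ s₁ ≠ 0) (h01 : s₀.1 ≠ s₁.1)
    (hax : blk s₀.1 ξ ⬝ᵥ x = 0) (hex : blk s₁.1 ξ ⬝ᵥ x = 0) {e : Fin t} (he0 : s₀.1 ≠ e)
    (he1 : s₁.1 ≠ e) : TV K x (blk s₀.1 ξ) := by
  have hpa : InB s₀.1 ((ξ s₀)⁻¹ • (Pi.single s₀ 1 : κ → F)) := (inB_single s₀ 1).smul _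
  have hpe : InB s₁.1 ((ξ s₁)⁻¹ • (Pi.single s₁ 1 : κ → F)) := (inB_single s₁ 1).smul _
  have hblk0 : blk s₀.1 ξ s₀ = ξ s₀ := by unfold blk; rw [if_pos rfl]
  have hblk1 : blk s₁.1 ξ s₁ = ξ s₁ := by unfold blk; rw [if_pos rfl]
  have ha1 : blk s₀.1 ξ ⬝ᵥ ((ξ s₀)⁻¹ • (Pi.single s₀ 1 : κ → F)) = 1 := by
    rw [dotProduct_smul, dotProduct_single, mul_one, smul_eq_mul, hblk0, inv_mul_cancel₀ hs₀]
  have hb1 : blk s₁.1 ξ ⬝ᵥ ((ξ s₁)⁻¹ • (Pi.single s₁ 1 : κ → F)) = 1 := by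
    rw [dotProduct_smul, dotProduct_single, mul_one, smul_eq_mul, hblk1, inv_mul_cancel₀ hs₁]
  have hξpa : ξ ⬝ᵥ ((ξ s₀)⁻¹ • (Pi.single s₀ 1 : κ → F)) = 1 := by
    rw [dotProduct_smul, dotProduct_single, mul_one, smul_eq_mul, inv_mul_cancel₀ hs₀]
  have hξpe : ξ ⬝ᵥ ((ξ s₁)⁻¹ • (Pi.single s₁ 1 : κ → F)) = 1 := by
    rw [dotProduct_smul, dotProduct_single, mul_one, smul_eq_mul, inv_mul_cancel₀ hs₁]
  have h1 := comp hK hT h01 hpa (inB_blk s₀.1 ξ) hpe (inB_blk s₁.1 ξ) ha1 hb1 hax hex hl0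
  rw [hξpe, mul_one, hξpa, mul_one] at h1
  set A : κ → F := (lam - 1) • blk s₁.1 ξ + (lam⁻¹ - 1) • blk s₀.1 ξ with hA
  have hAx : A ⬝ᵥ x = 0 := by
    rw [hA, add_dotProduct, smul_dotProduct, smul_dotProduct, hax, hex]
    simp
  have h2 : TV K x A := by
    have := h1.sub_axis hT (by rw [add_assoc, add_dotProduct, h0, zero_add]; exact hAx)
    rwa [add_assoc, add_sub_cancel_left] at this
  have hne : lam⁻¹ - 1 ≠ 0 := by
    intro h
    apply hl1
    have : lam⁻¹ = 1 := by linear_combination h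
    rw [← inv_inv lam, this, inv_one]
  have hblkA : blk s₀.1 A = (lam⁻¹ - 1) • blk s₀.1 ξ := by
    rw [hA, blk_add, blk_smul, blk_smul, blk_blk_ne h01, blk_blk, smul_zero, zero_add]
  have hAs₀ : A s₀ ≠ 0 := by
    have : A s₀ = blk s₀.1 A s₀ := by unfold blk; rw [if_pos rfl]
    rw [this, hblkA, Pi.smul_apply, hblk0, smul_eq_mul]
    exact mul_ne_zero hne hs₀
  have hAe : ∀ c : κ, c.1 = e → A c = 0 := by
    intro c hc
    rw [hA]
    simp only [Pi.add_apply, Pi.smul_apply, smul_eq_mul]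
    rw [inB_blk s₁.1 ξ c (by rw [hc]; exact Ne.symm he1),
      inB_blk s₀.1 ξ c (by rw [hc]; exact Ne.symm he0)]
    simp
  have h3 := d1 hK hm hl0 hl1 h2 hAx hAs₀ (by rw [hblkA, smul_dotProduct, hax, smul_zero]) he0 hAe
  rw [hblkA] at h3
  have h4 := h3.smul_axis (lam⁻¹ - 1)⁻¹
  rwa [smul_smul, inv_mul_cancel₀ hne, one_smul] at h4

/-! ### reducing the axis to a block -/

lemma exists_ne_zero_apply {ξ : κ → F} (h : ξ ≠ 0) : ∃ s, ξ s ≠ 0 := by
  by_contra hcon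
  push Not at hcon
  exact h (funext hcon)

lemma exists_not_mem_card {α : Type*} [Fintype α] (s : Finset α) (h : s.card < Fintype.card α) :
    ∃ a, a ∉ s := by
  classical
  by_contra hcon
  push Not at hcon
  have : s = Finset.univ := Finset.eq_univ_iff_forall.mpr hcon
  rw [this, Finset.card_univ] at h
  omega

lemma exists_block_axis {K : Subgroup (GL κ F)} (hK : HypB K) (hm : 2 ≤ m)
    (hm2 : m = 2 → 3 ≤ Fintype.card F ∧ 3 ≤ t) {x ξ : κ → F} (hT : TV K x ξ)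
    (h0 : ξ ⬝ᵥ x = 0) (hξ : ξ ≠ 0) :
    ∃ (a : Fin t) (ζ : κ → F), InB a ζ ∧ ζ ≠ 0 ∧ ζ ⬝ᵥ x = 0 ∧ TV K x ζ := by
  classical
  obtain ⟨s₀, hs₀⟩ := exists_ne_zero_apply hξ
  by_cases hm3 : 3 ≤ m
  · obtain ⟨ζ, hζ, hζ0, hζx, hζs⟩ := exists_perp_avoid hm3 s₀ x
    refine ⟨s₀.1, ζ, hζ, hζ0, hζx, ?_⟩
    apply m1 hK hT h0 (inB_single s₀ 1) hζ _ hζx _
    · rw [dotProduct_single, mul_one]; exact hζs
    · rw [dotProduct_single, mul_one]; exact hs₀
  · have hm2' : m = 2 := by omega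
    obtain ⟨hq, ht⟩ := hm2 hm2'
    obtain ⟨lam, hlam⟩ := exists_not_mem_card ({0, 1} : Finset F) (by
      refine lt_of_le_of_lt (Finset.card_insert_le _ _) ?_
      simp only [Finset.card_singleton]
      omega)
    simp only [Finset.mem_insert, Finset.mem_singleton, not_or] at hlam
    obtain ⟨hl0, hl1⟩ := hlam
    by_cases hB : ∃ a, blk a ξ ⬝ᵥ x ≠ 0
    · obtain ⟨a, ha⟩ := hB
      obtain ⟨ζ, hζ, hζ0, hζx⟩ := exists_perp hm a x
      refine ⟨a, ζ, hζ, hζ0, hζx, ?_⟩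
      apply m1 hK hT h0 (inB_blk a x) hζ _ hζx _
      · rw [dot_blk_right hζ, hζx]
      · rw [← dot_blk_comm]; exact ha
    · push Not at hB
      have hζ0 : blk s₀.1 ξ ≠ 0 := by
        intro h
        have := congrFun h s₀
        unfold blk at this
        rw [if_pos rfl] at this
        exact hs₀ this
      refine ⟨s₀.1, blk s₀.1 ξ, inB_blk _ _, hζ0, hB _, ?_⟩
      by_cases hE : ∃ e, s₀.1 ≠ e ∧ ∀ c : κ, c.1 = e → ξ c = 0
      · obtain ⟨e, he, hξe⟩ := hE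
        exact d1 hK hm hl0 hl1 hT h0 hs₀ (hB _) he hξe
      · push Not at hE
        obtain ⟨b, hb⟩ := exists_not_mem_card ({s₀.1} : Finset (Fin t)) (by
          rw [Finset.card_singleton, Fintype.card_fin]; omega)
        rw [Finset.mem_singleton] at hb
        obtain ⟨s₁, hs₁b, hs₁⟩ := hE b (Ne.symm hb)
        obtain ⟨e, he⟩ := exists_not_mem_card ({s₀.1, s₁.1} : Finset (Fin t)) (by
          refine lt_of_le_of_lt (Finset.card_insert_le _ _) ?_
          rw [Finset.card_singleton, Fintype.card_fin]; omega)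
        simp only [Finset.mem_insert, Finset.mem_singleton, not_or] at he
        exact d2 hK hm hl0 hl1 hT h0 hs₀ hs₁ (by rw [hs₁b]; exact Ne.symm hb) (hB _) (hB _)
          (Ne.symm he.1) (Ne.symm he.2)

/-! ### a non-block-monomial element spreads some block -/

lemma exists_col_ne_zero (g : GL κ F) (a : κ) : ∃ c, (g : Matrix κ κ F) c a ≠ 0 := by
  by_contra hcon
  push Not at hcon
  have h1 := Cfsg.Agent.Lib.Helper98_MonoSL.inv_mul_apply g a a
  rw [Matrix.one_apply_eq, Finset.sum_eq_zero] at h1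
  · exact zero_ne_one h1
  · intro r _
    rw [hcon r, mul_zero]

lemma mulVec_single_one_apply (A : Matrix κ κ F) (a c : κ) :
    (A *ᵥ (Pi.single a 1 : κ → F)) c = A c a := by
  rw [Matrix.mulVec_single_one]
  rfl

lemma exists_spread (hm : 0 < m) (g : GL κ F) (hg : ¬ BM (g : Matrix κ κ F)) :
    ∃ (i : Fin t) (u : κ → F), InB i u ∧ ∃ c c' : κ, c.1 ≠ c'.1 ∧
      ((g : Matrix κ κ F) *ᵥ u) c ≠ 0 ∧ ((g : Matrix κ κ F) *ᵥ u) c' ≠ 0 := by
  classical
  by_contra hcon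
  push Not at hcon
  apply hg
  -- each column lives in one block
  choose f hf using exists_col_ne_zero g
  have hcol : ∀ a c : κ, (g : Matrix κ κ F) c a ≠ 0 → c.1 = (f a).1 := by
    intro a c hc
    by_contra hne
    have := hcon a.1 (Pi.single a 1) (inB_single a 1) c (f a) hne
      (by rw [mulVec_single_one_apply]; exact hc)
    rw [mulVec_single_one_apply] at this
    exact hf a this
  have hsame : ∀ a a' : κ, a.1 = a'.1 → (f a).1 = (f a').1 := by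
    intro a a' haa
    by_contra hne
    have hu : InB a.1 ((Pi.single a 1 : κ → F) + Pi.single a' 1) := by
      intro c hc
      rw [Pi.add_apply, inB_single a 1 c hc, inB_single a' 1 c (by rw [← haa]; exact hc),
        add_zero]
    have h1 : (g : Matrix κ κ F) (f a) a' = 0 := by
      by_contra h
      exact hne (hcol a' (f a) h)
    have h2 : (g : Matrix κ κ F) (f a') a = 0 := by
      by_contra h
      exact hne (hcol a (f a') h).symm
    have := hcon a.1 _ hu (f a) (f a') hne (by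
      rw [Matrix.mulVec_add, Pi.add_apply, mulVec_single_one_apply, mulVec_single_one_apply,
        h1, add_zero]
      exact hf a)
    rw [Matrix.mulVec_add, Pi.add_apply, mulVec_single_one_apply, mulVec_single_one_apply,
      h2, zero_add] at this
    exact hf a' this
  set j₀ : Fin m := ⟨0, hm⟩ with hj₀
  set σ' : Fin t → Fin t := fun i => (f (i, j₀)).1 with hσ'
  have hsurj : Function.Surjective σ' := by
    intro b
    obtain ⟨a, ha⟩ := Cfsg.Agent.Lib.Helper98_MonoSL.exists_row_ne_zero g (b, j₀)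
    refine ⟨a.1, ?_⟩
    have h1 := hcol a (b, j₀) ha
    rw [hσ']
    simp only
    rw [hsame (a.1, j₀) a rfl, ← h1]
  have hbij : Function.Bijective σ' := ⟨Finite.injective_iff_surjective.mpr hsurj, hsurj⟩
  refine ⟨Equiv.ofBijective σ' hbij, fun c a h => ?_⟩
  rw [Equiv.ofBijective_apply, hcol a c h]
  exact hsame a (a.1, j₀) rfl

/-! ### a mixed elementary transvection group -/

lemma exists_mixed {K : Subgroup (GL κ F)} (hK : HypB K) (hm : 2 ≤ m)
    (hm2 : m = 2 → 3 ≤ Fintype.card F ∧ 3 ≤ t) {g : GL κ F} (hg : g ∈ K)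
    (hgB : ¬ BM (g : Matrix κ κ F)) :
    ∃ r s : κ, r.1 ≠ s.1 ∧ TV K (Pi.single r 1) (Pi.single s 1) := by
  classical
  obtain ⟨i, u, hu, c, c', hcc, hc, hc'⟩ := exists_spread (by omega) g hgB
  obtain ⟨φ, hφ, hφ0, hφu⟩ := exists_perp hm i u
  have hT0 : TV K u φ := pure_tv hK hu hφ hφu
  have hT := hT0.conj hg
  have h0 : (φ ᵥ* ((g⁻¹ : GL κ F) : Matrix κ κ F)) ⬝ᵥ ((g : Matrix κ κ F) *ᵥ u) = 0 := by
    rw [dot_conj, hφu]
  have hξ0 : φ ᵥ* ((g⁻¹ : GL κ F) : Matrix κ κ F) ≠ 0 := by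
    intro h
    apply hφ0
    have : φ = (φ ᵥ* ((g⁻¹ : GL κ F) : Matrix κ κ F)) ᵥ* (g : Matrix κ κ F) := by
      rw [vecMul_vecMul, ← Units.val_mul, inv_mul_cancel, Units.val_one, vecMul_one]
    rw [this, h, zero_vecMul]
  obtain ⟨a, ζ, hζ, hζ0, hζx, hTζ⟩ := exists_block_axis hK hm hm2 hT h0 hξ0
  obtain ⟨r, hra, hxr⟩ : ∃ r : κ, r.1 ≠ a ∧ ((g : Matrix κ κ F) *ᵥ u) r ≠ 0 := by
    by_cases h : c.1 = a
    · exact ⟨c', fun h' => hcc (by rw [h, h']), hc'⟩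
    · exact ⟨c, h, hc⟩
  have h2 := m2 hK hTζ hζ hζx
  have hx'r : ((g : Matrix κ κ F) *ᵥ u - blk a ((g : Matrix κ κ F) *ᵥ u)) r ≠ 0 := by
    rw [Pi.sub_apply]
    unfold blk
    rw [if_neg hra, sub_zero]
    exact hxr
  have hζx' : ζ ⬝ᵥ ((g : Matrix κ κ F) *ᵥ u - blk a ((g : Matrix κ κ F) *ᵥ u)) = 0 := by
    rw [dotProduct_sub, dot_blk_right hζ, hζx, sub_zero]
  obtain ⟨j, h3⟩ := m3 hK hm h2 hζ hra hx'r hζx'
  obtain ⟨l, h4⟩ := m4 hK hm h3 (inB_single (r.1, j) 1) hζ (Ne.symm hra) hζ0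
  exact ⟨(r.1, j), (a, l), hra, h4⟩

/-! ### spreading with block-monomial matrices -/

lemma mono_mulVec_single (σ : Equiv.Perm κ) (d : κ → F) (r : κ) :
    mono σ d *ᵥ (Pi.single r 1 : κ → F) = d r • Pi.single (σ r) 1 := by
  funext c
  rw [mono_mulVec, Pi.smul_apply, smul_eq_mul]
  by_cases h : c = σ r
  · subst h; simp
  · have : σ.symm c ≠ r := fun h' => h (by rw [← h']; simp)
    rw [Pi.single_eq_of_ne this, Pi.single_eq_of_ne h, mul_zero, mul_zero]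

lemma single_vecMul_mono_inv (σ : Equiv.Perm κ) (d : κ → F) (s : κ) :
    (Pi.single s 1 : κ → F) ᵥ* mono σ⁻¹ (fun j => (d (σ⁻¹ j))⁻¹) =
      (d s)⁻¹ • Pi.single (σ s) 1 := by
  funext c
  rw [vecMul_mono, Pi.smul_apply, smul_eq_mul]
  by_cases h : c = σ s
  · subst h; simp
  · have : σ⁻¹ c ≠ s := fun h' => h (by rw [← h']; simp)
    rw [Pi.single_eq_of_ne this, Pi.single_eq_of_ne h]
    simp

lemma spread {K : Subgroup (GL κ F)} (hK : HypB K) {r s r' s' : κ} (hrs : r.1 ≠ s.1)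
    (hrs' : r'.1 ≠ s'.1) (hT : TV K (Pi.single r 1) (Pi.single s 1)) :
    TV K (Pi.single r' 1) (Pi.single s' 1) := by
  classical
  obtain ⟨τ, hτr, hτs⟩ := Cfsg.Agent.Lib.Helper98_MonoTop.exists_perm_two hrs hrs'
  set π : Fin t → Equiv.Perm (Fin m) := fun a =>
    if a = r.1 then Equiv.swap r.2 r'.2 else if a = s.1 then Equiv.swap s.2 s'.2 else 1 with hπ
  set ρ : Equiv.Perm κ := Equiv.prodShear τ π with hρ
  have hρ1 : ∀ c : κ, (ρ c).1 = τ c.1 := fun c => rfl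
  have hρr : ρ r = r' := by
    apply Prod.ext
    · exact hτr
    · show π r.1 r.2 = r'.2
      rw [hπ]
      simp
  have hρs : ρ s = s' := by
    apply Prod.ext
    · exact hτs
    · show π s.1 s.2 = s'.2
      rw [hπ]
      simp [Ne.symm hrs]
  set ε : F := ((Equiv.Perm.sign ρ : ℤ) : F) with hε
  have hε0 : ε ≠ 0 := by
    rcases Int.units_eq_one_or (Equiv.Perm.sign ρ) with h | h <;> simp [hε, h]
  set d : κ → F := fun l => if l = r then ε⁻¹ else 1 with hd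
  have hd0 : ∀ l, d l ≠ 0 := by
    intro l
    rw [hd]
    by_cases h : l = r
    · simp only [if_pos h]; exact inv_ne_zero hε0
    · simp only [if_neg h]; exact one_ne_zero
  have hμK : monoU ρ d hd0 ∈ K := by
    apply hK.bm_mem
    · refine ⟨τ, fun c a h => ?_⟩
      rw [monoU_val, mono_apply] at h
      have : c = ρ a := by
        by_contra hne
        exact h (if_neg hne)
      rw [this, hρ1]
    · rw [monoU_val, det_mono, ← hε, hd, Finset.prod_ite_eq' Finset.univ r (fun _ => ε⁻¹),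
        if_pos (Finset.mem_univ _), mul_inv_cancel₀ hε0]
  have h1 := hT.conj hμK
  rw [monoU_val, monoU_inv_val, mono_mulVec_single, single_vecMul_mono_inv, hρr, hρs] at h1
  have h2 := (h1.smul_centre (d r)⁻¹).smul_axis (d s)
  rwa [smul_smul, smul_smul, inv_mul_cancel₀ (hd0 r), mul_inv_cancel₀ (hd0 s), one_smul,
    one_smul] at h2

lemma single_eq_vmv (r s : κ) (c : F) :
    Matrix.single r s c = c • vecMulVec (Pi.single r 1 : κ → F) (Pi.single s 1) := by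
  rw [← Matrix.single_eq_single_vecMulVec_single, Matrix.smul_single, smul_eq_mul, mul_one]

/-- **Dichotomy for overgroups of the block-monomial group in `SL`.** -/
theorem block_dichotomy (ht : 2 ≤ t) (hm : 2 ≤ m)
    (hm2 : m = 2 → 3 ≤ Fintype.card F ∧ 3 ≤ t) {K : Subgroup (GL κ F)} (hK : HypB K) :
    (∀ g ∈ K, BM (g : Matrix κ κ F)) ∨ ∀ g : GL κ F, (g : Matrix κ κ F).det = 1 → g ∈ K := by
  classical
  by_cases h : ∀ g ∈ K, BM (g : Matrix κ κ F)
  · left; exact h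
  · right
    push Not at h
    obtain ⟨g, hg, hgB⟩ := h
    obtain ⟨r, s, hrs, hT⟩ := exists_mixed hK hm hm2 hg hgB
    haveI : Nontrivial κ := by
      apply Fintype.one_lt_card_iff_nontrivial.mp
      rw [Fintype.card_prod, Fintype.card_fin, Fintype.card_fin]
      nlinarith
    apply Cfsg.Agent.Lib.Helper98_MonoTop.sl_le_of_elem K
    intro r' s' hne c
    rw [single_eq_vmv]
    by_cases hb : r'.1 = s'.1
    · refine pure_tv hK (inB_single r' 1) (by rw [hb]; exact inB_single s' 1) ?_ c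
      rw [dotProduct_single, mul_one, Pi.single_apply, if_neg hne]
    · exact spread hK hrs hb hT c

/-- **The block-monomial subgroup of `SL` is maximal.** -/
theorem block_maximal (B : Subgroup (GL κ F))
    (hB : ∀ h : GL κ F, h ∈ B ↔ BM (h : Matrix κ κ F)) (ht : 2 ≤ t) (hm : 2 ≤ m)
    (hm2 : m = 2 → 3 ≤ Fintype.card F ∧ 3 ≤ t) :
    Cfsg.Geo.IsMaximalIn (Cfsg.Geo.specialLinear κ F) (B ⊓ Cfsg.Geo.specialLinear κ F) := by
  classical
  constructor
  · refine lt_of_le_of_ne inf_le_right ?_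
    intro heq
    set r : κ := (⟨0, by omega⟩, ⟨0, by omega⟩) with hr
    set s : κ := (⟨1, by omega⟩, ⟨0, by omega⟩) with hs
    have hrs : r ≠ s := by
      intro h
      have := congrArg (fun p : κ => (p.1 : ℕ)) h
      simp [hr, hs] at this
    have hrs1 : r.1 ≠ s.1 := by
      intro h
      have := congrArg (fun p : Fin t => (p : ℕ)) h
      simp [hr, hs] at this
    have hdetE : ((1 : Matrix κ κ F) + Matrix.single r s 1).det = 1 :=
      Matrix.det_transvection_of_ne r s hrs 1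
    set E : GL κ F := Matrix.GeneralLinearGroup.mkOfDetNeZero (1 + Matrix.single r s 1)
      (by rw [hdetE]; exact one_ne_zero) with hE
    have hEv : (E : Matrix κ κ F) = 1 + Matrix.single r s 1 := rfl
    have hE1 : E ∈ Cfsg.Geo.specialLinear κ F :=
      (Cfsg.Agent.Lib.Helper98_MonoTop.mem_SL_iff _).mpr (by rw [hEv, hdetE])
    rw [← heq] at hE1
    obtain ⟨σ, hσ⟩ := (hB E).mp hE1.1
    apply hrs1
    have h1 : r.1 = σ s.1 := by
      apply hσ r s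
      rw [hEv, Matrix.add_apply, Matrix.one_apply_ne hrs, Matrix.single_apply,
        if_pos ⟨rfl, rfl⟩, zero_add]
      exact one_ne_zero
    have h2 : s.1 = σ s.1 := by
      apply hσ s s
      rw [hEv, Matrix.add_apply, Matrix.one_apply_eq, Matrix.single_apply,
        if_neg (fun h => hrs h.1), add_zero]
      exact one_ne_zero
    exact h1.trans h2.symm
  · intro M hHM hMS
    have hKM : HypB M :=
      ⟨fun g hg => (Cfsg.Agent.Lib.Helper98_MonoTop.mem_SL_iff g).mp (hMS hg),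
        fun h hbm hdet => hHM ⟨(hB h).mpr hbm,
          (Cfsg.Agent.Lib.Helper98_MonoTop.mem_SL_iff h).mpr hdet⟩⟩
    rcases block_dichotomy ht hm hm2 hKM with h | h
    · left
      exact le_antisymm (fun g hg => ⟨(hB g).mpr (h g hg), hMS hg⟩) hHM
    · right
      exact le_antisymm hMS
        (fun g hg => h g ((Cfsg.Agent.Lib.Helper98_MonoTop.mem_SL_iff g).mp hg))

end Cfsg.Agent.Lib.Helper98_BlockG
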