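import Mathlib
import Cfsg.Prelude.Def_GeometricClasses
import Cfsg.Agent.Lib.Helper94_Bridge
import Cfsg.Agent.Lib.Helper98_MonoBase
import Cfsg.Agent.Lib.Helper98_MonoG
import Cfsg.Agent.Lib.Helper98_MonoTop

set_option autoImplicit false
set_option linter.unusedSectionVars false
set_option linter.unusedSimpArgs false
set_option linter.unusedVariables false
set_option linter.style.haveILetI false

/-!
Matrices and vectors with entries in a subfield `F₀` of `F`; the subfield subgroup of `GL ι F`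
as the group of projectively rational matrices.
-/

namespace Cfsg.Agent.Lib.Helper98_SubfBase

open Matrix

variable {F : Type*} [Field F] {ι : Type} [Fintype ι] [DecidableEq ι]

/-- a vector with entries in `F₀` -/
def RatV (F₀ : Subfield F) (x : ι → F) : Prop := ∀ i, x i ∈ F₀

/-- a matrix with entries in `F₀` -/
def RatM (F₀ : Subfield F) (A : Matrix ι ι F) : Prop := ∀ i j, A i j ∈ F₀

/-- a matrix which is a non-zero scalar multiple of a matrix with entries in `F₀` -/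
def PRat (F₀ : Subfield F) (A : Matrix ι ι F) : Prop := ∃ ν : F, ν ≠ 0 ∧ RatM F₀ (ν • A)

variable {F₀ : Subfield F}

lemma ratM_one : RatM F₀ (1 : Matrix ι ι F) := by
  intro i j
  by_cases h : i = j
  · rw [h, Matrix.one_apply_eq]; exact F₀.one_mem
  · rw [Matrix.one_apply_ne h]; exact F₀.zero_mem

lemma RatM.mul {A B : Matrix ι ι F} (hA : RatM F₀ A) (hB : RatM F₀ B) : RatM F₀ (A * B) := by
  intro i j
  rw [Matrix.mul_apply]
  exact F₀.sum_mem (fun l _ => F₀.mul_mem (hA i l) (hB l j))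

lemma RatM.add {A B : Matrix ι ι F} (hA : RatM F₀ A) (hB : RatM F₀ B) : RatM F₀ (A + B) :=
  fun i j => F₀.add_mem (hA i j) (hB i j)

lemma RatM.sub {A B : Matrix ι ι F} (hA : RatM F₀ A) (hB : RatM F₀ B) : RatM F₀ (A - B) :=
  fun i j => F₀.sub_mem (hA i j) (hB i j)

lemma RatM.neg {A : Matrix ι ι F} (hA : RatM F₀ A) : RatM F₀ (-A) :=
  fun i j => F₀.neg_mem (hA i j)

lemma RatM.smul {A : Matrix ι ι F} (hA : RatM F₀ A) {c : F} (hc : c ∈ F₀) : RatM F₀ (c • A) :=
  fun i j => F₀.mul_mem hc (hA i j)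

lemma RatV.add {x y : ι → F} (hx : RatV F₀ x) (hy : RatV F₀ y) : RatV F₀ (x + y) :=
  fun i => F₀.add_mem (hx i) (hy i)

lemma RatV.sub {x y : ι → F} (hx : RatV F₀ x) (hy : RatV F₀ y) : RatV F₀ (x - y) :=
  fun i => F₀.sub_mem (hx i) (hy i)

lemma RatV.smul {x : ι → F} (hx : RatV F₀ x) {c : F} (hc : c ∈ F₀) : RatV F₀ (c • x) :=
  fun i => F₀.mul_mem hc (hx i)

lemma ratV_single (i : ι) {c : F} (hc : c ∈ F₀) : RatV F₀ (Pi.single i c : ι → F) := by
  intro l
  by_cases h : l = i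
  · rw [h, Pi.single_eq_same]; exact hc
  · rw [Pi.single_eq_of_ne h]; exact F₀.zero_mem

lemma ratV_single_one (i : ι) : RatV F₀ (Pi.single i 1 : ι → F) := ratV_single i F₀.one_mem

lemma RatV.dot {x y : ι → F} (hx : RatV F₀ x) (hy : RatV F₀ y) : x ⬝ᵥ y ∈ F₀ :=
  F₀.sum_mem (fun l _ => F₀.mul_mem (hx l) (hy l))

lemma RatM.mulVec {A : Matrix ι ι F} (hA : RatM F₀ A) {x : ι → F} (hx : RatV F₀ x) :
    RatV F₀ (A *ᵥ x) :=
  fun i => F₀.sum_mem (fun l _ => F₀.mul_mem (hA i l) (hx l))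

lemma RatM.vecMul {A : Matrix ι ι F} (hA : RatM F₀ A) {x : ι → F} (hx : RatV F₀ x) :
    RatV F₀ (x ᵥ* A) :=
  fun i => F₀.sum_mem (fun l _ => F₀.mul_mem (hx l) (hA l i))

lemma ratM_vecMulVec {x y : ι → F} (hx : RatV F₀ x) (hy : RatV F₀ y) :
    RatM F₀ (vecMulVec x y) := by
  intro i j
  rw [vecMulVec_apply]
  exact F₀.mul_mem (hx i) (hy j)

lemma ratM_single (i j : ι) {c : F} (hc : c ∈ F₀) : RatM F₀ (Matrix.single i j c) := by
  intro a b
  rw [Matrix.single_apply]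
  split_ifs
  · exact hc
  · exact F₀.zero_mem

lemma ratM_diagonal {d : ι → F} (hd : RatV F₀ d) : RatM F₀ (Matrix.diagonal d) := by
  intro i j
  by_cases h : i = j
  · rw [h, Matrix.diagonal_apply_eq]; exact hd j
  · rw [Matrix.diagonal_apply_ne _ h]; exact F₀.zero_mem

lemma RatM.col {A : Matrix ι ι F} (hA : RatM F₀ A) (j : ι) : RatV F₀ (fun i => A i j) :=
  fun i => hA i j

lemma RatM.row {A : Matrix ι ι F} (hA : RatM F₀ A) (i : ι) : RatV F₀ (fun j => A i j) :=
  fun j => hA i j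

/-- a rational matrix is the image of a matrix over `F₀` -/
lemma RatM.exists_map {A : Matrix ι ι F} (hA : RatM F₀ A) :
    ∃ B : Matrix ι ι F₀, (F₀.subtype : F₀ →+* F).mapMatrix B = A :=
  ⟨fun i j => ⟨A i j, hA i j⟩, by ext i j; rfl⟩

lemma ratM_map (B : Matrix ι ι F₀) : RatM F₀ ((F₀.subtype : F₀ →+* F).mapMatrix B) :=
  fun i j => (B i j).2

lemma RatM.det_mem {A : Matrix ι ι F} (hA : RatM F₀ A) : A.det ∈ F₀ := by
  obtain ⟨B, rfl⟩ := hA.exists_map
  rw [← RingHom.map_det]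
  exact (B.det).2

lemma RatM.adjugate {A : Matrix ι ι F} (hA : RatM F₀ A) : RatM F₀ A.adjugate := by
  obtain ⟨B, rfl⟩ := hA.exists_map
  rw [← RingHom.map_adjugate]
  exact ratM_map _

lemma RatM.inv {g : GL ι F} (hg : RatM F₀ (g : Matrix ι ι F)) :
    RatM F₀ ((g⁻¹ : GL ι F) : Matrix ι ι F) := by
  rw [Matrix.coe_units_inv, Matrix.inv_def, Ring.inverse_eq_inv']
  exact hg.adjugate.smul (F₀.inv_mem hg.det_mem)

lemma RatM.prat {A : Matrix ι ι F} (hA : RatM F₀ A) : PRat F₀ A :=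
  ⟨1, one_ne_zero, by rw [one_smul]; exact hA⟩

lemma PRat.mul {A B : Matrix ι ι F} (hA : PRat F₀ A) (hB : PRat F₀ B) : PRat F₀ (A * B) := by
  obtain ⟨a, ha, hA⟩ := hA
  obtain ⟨b, hb, hB⟩ := hB
  refine ⟨a * b, mul_ne_zero ha hb, ?_⟩
  have : (a * b) • (A * B) = (a • A) * (b • B) := by
    rw [Matrix.smul_mul, Matrix.mul_smul, smul_smul]
  rw [this]
  exact hA.mul hB

lemma PRat.inv {g : GL ι F} (hg : PRat F₀ (g : Matrix ι ι F)) :
    PRat F₀ ((g⁻¹ : GL ι F) : Matrix ι ι F) := by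
  obtain ⟨a, ha, hA⟩ := hg
  refine ⟨a⁻¹, inv_ne_zero ha, ?_⟩
  -- the unit `a • g`
  have hdet : (a • (g : Matrix ι ι F)).det ≠ 0 := by
    rw [Matrix.det_smul]
    exact mul_ne_zero (pow_ne_zero _ ha) ((Matrix.isUnits_det_units g).ne_zero)
  set u : GL ι F := Matrix.GeneralLinearGroup.mkOfDetNeZero (a • (g : Matrix ι ι F)) hdet with hu
  have huv : (u : Matrix ι ι F) = a • (g : Matrix ι ι F) := rfl
  have hinv : ((u⁻¹ : GL ι F) : Matrix ι ι F) = a⁻¹ • ((g⁻¹ : GL ι F) : Matrix ι ι F) := by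
    apply Units.inv_eq_of_mul_eq_one_right
    rw [huv, Matrix.smul_mul, Matrix.mul_smul, smul_smul, mul_inv_cancel₀ ha, one_smul,
      ← Units.val_mul, mul_inv_cancel, Units.val_one]
  rw [← hinv]
  exact RatM.inv (by rw [huv]; exact hA)

/-- the group of projectively rational matrices -/
def PR (F₀ : Subfield F) (ι : Type) [Fintype ι] [DecidableEq ι] : Subgroup (GL ι F) where
  carrier := {g | PRat F₀ (g : Matrix ι ι F)}
  mul_mem' {a b} ha hb := by
    show PRat F₀ ((a * b : GL ι F) : Matrix ι ι F)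
    rw [Units.val_mul]
    exact PRat.mul ha hb
  one_mem' := by
    show PRat F₀ ((1 : GL ι F) : Matrix ι ι F)
    rw [Units.val_one]
    exact ratM_one.prat
  inv_mem' {a} ha := PRat.inv ha

lemma mem_PR (g : GL ι F) : g ∈ PR F₀ ι ↔ PRat F₀ (g : Matrix ι ι F) := Iff.rfl

/-- the generating subgroup in the definition of the subfield subgroup -/
lemma range_sup_scalars :
    (Matrix.GeneralLinearGroup.map (F₀.subtype : F₀ →+* F) :
      GL ι F₀ →* GL ι F).range ⊔ Cfsg.Geo.scalars ι F = PR F₀ ι := by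
  apply le_antisymm
  · apply sup_le
    · rintro g ⟨B, rfl⟩
      apply RatM.prat
      intro i j
      have := Matrix.GeneralLinearGroup.map_apply (F₀.subtype : F₀ →+* F) i j B
      rw [this]
      exact (B i j).2
    · intro g hg
      rw [Cfsg.Geo.mem_scalars_iff] at hg
      obtain ⟨c, hc⟩ := hg
      refine ⟨(c : F)⁻¹, inv_ne_zero c.ne_zero, ?_⟩
      rw [hc, smul_smul, inv_mul_cancel₀ c.ne_zero, one_smul]
      exact ratM_one
  · intro g hg
    obtain ⟨a, ha, hA⟩ := hg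
    obtain ⟨B₀, hB₀⟩ := hA.exists_map
    have hdet : B₀.det ≠ 0 := by
      intro h0
      have h1 : ((F₀.subtype : F₀ →+* F).mapMatrix B₀).det = 0 := by
        rw [← RingHom.map_det, h0, map_zero]
      rw [hB₀, Matrix.det_smul] at h1
      exact mul_ne_zero (pow_ne_zero _ ha) ((Matrix.isUnits_det_units g).ne_zero) h1
    set B : GL ι F₀ := Matrix.GeneralLinearGroup.mkOfDetNeZero B₀ hdet with hB
    -- the scalar `a⁻¹`
    set s : GL ι F := Units.map (Matrix.scalar ι : F →+* Matrix ι ι F).toMonoidHom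
      (Units.mk0 a⁻¹ (inv_ne_zero ha)) with hs
    have hsmem : s ∈ Cfsg.Geo.scalars ι F := ⟨_, rfl⟩
    have hsv : (s : Matrix ι ι F) = a⁻¹ • (1 : Matrix ι ι F) := by
      rw [hs]
      simp [Matrix.smul_one_eq_diagonal]
    have hBv : ((Matrix.GeneralLinearGroup.map (F₀.subtype : F₀ →+* F) B : GL ι F) :
        Matrix ι ι F) = a • (g : Matrix ι ι F) := by
      rw [← hB₀]
      rfl
    have hg' : g = s * Matrix.GeneralLinearGroup.map (F₀.subtype : F₀ →+* F) B := by
      apply Units.ext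
      rw [Units.val_mul, hsv, hBv, Matrix.smul_mul, Matrix.one_mul, smul_smul,
        inv_mul_cancel₀ ha, one_smul]
    rw [hg']
    exact Subgroup.mul_mem _ (Subgroup.mem_sup_right hsmem) (Subgroup.mem_sup_left ⟨B, rfl⟩)

lemma subfieldSubgroup_eq (P : GL ι F) :
    Cfsg.Geo.subfieldSubgroup F₀ P = (PR F₀ ι).map (MulAut.conj P).toMonoidHom := by
  unfold Cfsg.Geo.subfieldSubgroup
  rw [range_sup_scalars]

/-- reduction of the maximality statement to the standard position `P = 1` -/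
theorem maximal_of_standard (P : GL ι F)
    (h : Cfsg.Geo.IsMaximalIn (Cfsg.Geo.specialLinear ι F)
      (PR F₀ ι ⊓ Cfsg.Geo.specialLinear ι F)) :
    Cfsg.Geo.IsMaximalIn (Cfsg.Geo.specialLinear ι F)
      (Cfsg.Geo.subfieldSubgroup F₀ P ⊓ Cfsg.Geo.specialLinear ι F) := by
  rw [subfieldSubgroup_eq]
  have key := Cfsg.Agent.Lib.Helper94_Bridge.isMaximalIn_comap (MulAut.conj P).symm _ _ h
  have hSL : ∀ g : GL ι F, (MulAut.conj P).symm g ∈ Cfsg.Geo.specialLinear ι F ↔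
      g ∈ Cfsg.Geo.specialLinear ι F := by
    intro g
    rw [Cfsg.Agent.Lib.Helper98_MonoTop.mem_SL_iff, Cfsg.Agent.Lib.Helper98_MonoTop.mem_SL_iff,
      MulAut.conj_symm_apply, Units.val_mul, Units.val_mul, Matrix.det_mul, Matrix.det_mul,
      mul_right_comm, ← Matrix.det_mul, ← Units.val_mul, inv_mul_cancel, Units.val_one,
      Matrix.det_one, one_mul]
  convert key using 1
  · ext g
    rw [Subgroup.mem_comap]
    exact (hSL g).symm
  · ext g
    rw [Subgroup.mem_comap, Subgroup.mem_inf, Subgroup.mem_inf, Subgroup.mem_map_equiv]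
    exact and_congr Iff.rfl (hSL g).symm

end Cfsg.Agent.Lib.Helper98_SubfBase
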