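import Mathlib
import Cfsg.Prelude.Def_GeometricClasses
import Cfsg.Agent.Lib.Helper98_MonoBase
import Cfsg.Agent.Lib.Helper98_MonoG
import Cfsg.Agent.Lib.Helper98_MonoTop
import Cfsg.Agent.Lib.Helper98_SubfBase

set_option autoImplicit false
set_option linter.unusedSectionVars false
set_option linter.unusedSimpArgs false
set_option linter.unusedVariables false
set_option linter.style.haveILetI false

/-!
Overgroups of the rational special linear group: calculus of single transvections and the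
multiplier algebra of the elementary transvections contained in the overgroup.
-/

namespace Cfsg.Agent.Lib.Helper98_SubfU

open Matrix Cfsg.Agent.Lib.Helper98_MonoBase Cfsg.Agent.Lib.Helper98_MonoG
  Cfsg.Agent.Lib.Helper98_SubfBase

variable {F : Type*} [Field F] [Fintype F] {ι : Type} [Fintype ι] [DecidableEq ι]

/-- the transvection `1 + c x ξᵀ` lies in `K` -/
def Pc (K : Subgroup (GL ι F)) (c : F) (x ξ : ι → F) : Prop := InK K (1 + c • vecMulVec x ξ)

lemma Pc.conj {K : Subgroup (GL ι F)} {c : F} {x ξ : ι → F} (h : Pc K c x ξ) {k : GL ι F}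
    (hk : k ∈ K) :
    Pc K c ((k : Matrix ι ι F) *ᵥ x) (ξ ᵥ* ((k⁻¹ : GL ι F) : Matrix ι ι F)) := by
  unfold Pc
  rw [← conj_T]
  exact InK.conj h hk

lemma Pc.neg {K : Subgroup (GL ι F)} {c : F} {x ξ : ι → F} (h : Pc K c x ξ)
    (h0 : ξ ⬝ᵥ x = 0) : Pc K (-c) x ξ := by
  unfold Pc at h ⊢
  apply h.of_mul_eq_one
  rw [T_mul, h0, mul_zero, zero_smul, add_zero, neg_smul, add_assoc, add_neg_cancel, add_zero]

lemma Pc.add_coeff {K : Subgroup (GL ι F)} {c c' : F} {x ξ : ι → F} (h : Pc K c x ξ)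
    (h' : Pc K c' x ξ) (h0 : ξ ⬝ᵥ x = 0) : Pc K (c + c') x ξ := by
  unfold Pc at h h' ⊢
  have := h.mul h'
  rw [T_mul, h0, mul_zero, zero_smul, add_zero, add_assoc, ← add_smul] at this
  exact this

lemma Pc.sub_axis {K : Subgroup (GL ι F)} {c : F} {x ξ ξ' : ι → F} (h : Pc K c x ξ)
    (h' : Pc K c x ξ') (h0 : ξ ⬝ᵥ x = 0) (h0' : ξ' ⬝ᵥ x = 0) : Pc K c x (ξ - ξ') := by
  have h2 := h'.neg h0'
  unfold Pc at h h2 ⊢
  have := h.mul h2
  rw [T_mul, h0, mul_zero, zero_smul, add_zero] at this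
  convert this using 1
  rw [vecMulVec_sub, smul_sub, neg_smul, add_assoc, sub_eq_add_neg]

lemma Pc.sub_centre {K : Subgroup (GL ι F)} {c : F} {x x' ξ : ι → F} (h : Pc K c x ξ)
    (h' : Pc K c x' ξ) (h0 : ξ ⬝ᵥ x' = 0) : Pc K c (x - x') ξ := by
  have h2 := h'.neg h0
  unfold Pc at h h2 ⊢
  have := h.mul h2
  rw [T_mul, h0, mul_zero, zero_smul, add_zero] at this
  convert this using 1
  rw [sub_vecMulVec, smul_sub, neg_smul, add_assoc, sub_eq_add_neg]

lemma pc_smul_centre {K : Subgroup (GL ι F)} {c a : F} {x ξ : ι → F} :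
    Pc K c (a • x) ξ ↔ Pc K (c * a) x ξ := by
  unfold Pc
  rw [smul_vecMulVec, smul_smul]

lemma pc_smul_axis {K : Subgroup (GL ι F)} {c a : F} {x ξ : ι → F} :
    Pc K c x (a • ξ) ↔ Pc K (c * a) x ξ := by
  unfold Pc
  rw [vecMulVec_smul, smul_smul]

/-- conjugating a transvection of `K` by another one -/
lemma Pc.conj_by {K : Subgroup (GL ι F)} {a b : F} {x ξ v ζ : ι → F} (hT : Pc K b x ξ)
    (hv : Pc K a v ζ) (hζv : ζ ⬝ᵥ v = 0) :
    Pc K b (x + (a * (ζ ⬝ᵥ x)) • v) (ξ - (a * (ξ ⬝ᵥ v)) • ζ) := by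
  obtain ⟨h, hh, hhv⟩ := hv
  have hinv : ((h⁻¹ : GL ι F) : Matrix ι ι F) = 1 + (-a) • vecMulVec v ζ := by
    apply Units.inv_eq_of_mul_eq_one_right
    rw [hhv, T_mul, hζv, mul_zero, zero_smul, add_zero, neg_smul, add_assoc, add_neg_cancel,
      add_zero]
  have := hT.conj hh
  rw [hhv, hinv, psr_mulVec, vecMul_psr] at this
  convert this using 2
  rw [neg_mul, neg_smul, sub_eq_add_neg]

lemma conj_by_dot {a : F} {x ξ v ζ : ι → F} (hζv : ζ ⬝ᵥ v = 0) :
    (ξ - (a * (ξ ⬝ᵥ v)) • ζ) ⬝ᵥ (x + (a * (ζ ⬝ᵥ x)) • v) = ξ ⬝ᵥ x := by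
  rw [sub_dotProduct, dotProduct_add, dotProduct_add, smul_dotProduct, smul_dotProduct,
    dotProduct_smul, dotProduct_smul, hζv]
  simp only [smul_eq_mul, mul_zero, add_zero]
  ring

lemma single_eq_smul_vecMulVec (i j : ι) (c : F) :
    Matrix.single i j c = c • vecMulVec (Pi.single i 1 : ι → F) (Pi.single j 1) := by
  rw [← Matrix.single_eq_single_vecMulVec_single, Matrix.smul_single, smul_eq_mul, mul_one]

lemma pc_single {K : Subgroup (GL ι F)} {c : F} {i j : ι} :
    Pc K c (Pi.single i 1) (Pi.single j 1) ↔ InK K (1 + Matrix.single i j c) := by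
  unfold Pc
  rw [single_eq_smul_vecMulVec]

/-! ### the standing hypothesis -/

/-- `K` consists of matrices of determinant one and contains the rational ones -/
structure HypR (F₀ : Subfield F) (K : Subgroup (GL ι F)) : Prop where
  det_one : ∀ g ∈ K, (g : Matrix ι ι F).det = 1
  rat_mem : ∀ g : GL ι F, RatM F₀ (g : Matrix ι ι F) → (g : Matrix ι ι F).det = 1 → g ∈ K

variable {F₀ : Subfield F}

lemma det_tv (x ξ : ι → F) (c : F) : (1 + c • vecMulVec x ξ).det = 1 + c * (ξ ⬝ᵥ x) := by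
  rw [← smul_vecMulVec, Matrix.vecMulVec_eq Unit, Matrix.det_one_add_replicateCol_mul_replicateRow,
    dotProduct_smul, smul_eq_mul]

/-- rational transvections lie in `K` -/
lemma rat_pc {K : Subgroup (GL ι F)} (hK : HypR F₀ K) {c : F} (hc : c ∈ F₀) {x ξ : ι → F}
    (hx : RatV F₀ x) (hξ : RatV F₀ ξ) (h0 : ξ ⬝ᵥ x = 0) : Pc K c x ξ := by
  have hdet : (1 + c • vecMulVec x ξ).det = 1 := by rw [det_tv, h0, mul_zero, add_zero]
  refine ⟨Matrix.GeneralLinearGroup.mkOfDetNeZero (1 + c • vecMulVec x ξ)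
    (by rw [hdet]; exact one_ne_zero), hK.rat_mem _ ?_ hdet, rfl⟩
  exact ratM_one.add ((ratM_vecMulVec hx hξ).smul hc)

lemma single_dot_single {i j : ι} (hij : i ≠ j) :
    (Pi.single j (1 : F) : ι → F) ⬝ᵥ Pi.single i 1 = 0 := by
  rw [dotProduct_single, mul_one, Pi.single_apply, if_neg hij]

/-! ### the multiplier algebra -/

/-- the multipliers of the elementary transvections in `K` -/
def U (K : Subgroup (GL ι F)) : Set F :=
  {c | ∀ i j : ι, i ≠ j → Pc K c (Pi.single i 1) (Pi.single j 1)}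

lemma exists_third (hn : 3 ≤ Fintype.card ι) (i j : ι) : ∃ l : ι, l ≠ i ∧ l ≠ j := by
  classical
  by_contra hcon
  push Not at hcon
  have : (Finset.univ : Finset ι) ⊆ {i, j} := by
    intro r _
    by_cases h : r = i
    · simp [h]
    · simp [hcon r h]
  have := Finset.card_le_card this
  rw [Finset.card_univ] at this
  have : ({i, j} : Finset ι).card ≤ 2 := Finset.card_le_two
  omega

lemma mem_U_of_one {K : Subgroup (GL ι F)} (hK : HypR F₀ K) (hn : 3 ≤ Fintype.card ι)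
    {i₀ j₀ : ι} (h0 : i₀ ≠ j₀) {c : F} (h : Pc K c (Pi.single i₀ 1) (Pi.single j₀ 1)) :
    c ∈ U K := by
  classical
  intro i j hij
  rw [pc_single] at h ⊢
  obtain ⟨σ, hσi, hσj⟩ := Cfsg.Agent.Lib.Helper98_MonoTop.exists_perm_two h0 hij
  obtain ⟨l₀, hl₀i, hl₀j⟩ := exists_third hn i₀ j₀
  set ε : F := ((Equiv.Perm.sign σ : ℤ) : F) with hε
  have hε0 : ε ≠ 0 := by
    rcases Int.units_eq_one_or (Equiv.Perm.sign σ) with h | h <;> simp [hε, h]
  have hεmem : ε⁻¹ ∈ F₀ := F₀.inv_mem (intCast_mem F₀ _)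
  set d : ι → F := fun l => if l = l₀ then ε⁻¹ else 1 with hd
  have hd0 : ∀ l, d l ≠ 0 := by
    intro l
    rw [hd]
    by_cases h : l = l₀
    · simp only [if_pos h]; exact inv_ne_zero hε0
    · simp only [if_neg h]; exact one_ne_zero
  have hdi : d i₀ = 1 := by rw [hd]; simp only [if_neg (Ne.symm hl₀i)]
  have hdj : d j₀ = 1 := by rw [hd]; simp only [if_neg (Ne.symm hl₀j)]
  have hμK : monoU σ d hd0 ∈ K := by
    apply hK.rat_mem
    · intro r s
      rw [monoU_val, mono_apply]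
      split_ifs
      · rw [hd]
        by_cases h : s = l₀
        · simp only [if_pos h]; exact hεmem
        · simp only [if_neg h]; exact F₀.one_mem
      · exact F₀.zero_mem
    · rw [monoU_val, det_mono, ← hε, hd, Finset.prod_ite_eq' Finset.univ l₀ (fun _ => ε⁻¹),
        if_pos (Finset.mem_univ _), mul_inv_cancel₀ hε0]
  have := InK.conj h hμK
  rw [Cfsg.Agent.Lib.Helper98_MonoTop.conj_mono_single, hσi, hσj, hdi, hdj, one_mul, inv_one,
    mul_one] at this
  exact this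

lemma U_rat {K : Subgroup (GL ι F)} (hK : HypR F₀ K) {c : F} (hc : c ∈ F₀) : c ∈ U K :=
  fun i j hij => rat_pc hK hc (ratV_single_one i) (ratV_single_one j) (single_dot_single hij)

lemma U_add {K : Subgroup (GL ι F)} {c c' : F} (hc : c ∈ U K) (hc' : c' ∈ U K) :
    c + c' ∈ U K :=
  fun i j hij => (hc i j hij).add_coeff (hc' i j hij) (single_dot_single hij)

lemma U_mul {K : Subgroup (GL ι F)} (hn : 3 ≤ Fintype.card ι) {c c' : F} (hc : c ∈ U K)
    (hc' : c' ∈ U K) : c * c' ∈ U K := by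
  intro i j hij
  obtain ⟨l, hli, hlj⟩ := exists_third hn i j
  have h1 := hc i l (Ne.symm hli)
  have h2 := hc' l j hlj
  have h3 := h2.conj_by h1 (single_dot_single (Ne.symm hli))
  rw [single_dotProduct, one_mul, Pi.single_eq_same, mul_one, single_dot_single hij, mul_zero,
    zero_smul, sub_zero] at h3
  have h4 := h3.sub_centre h2 (single_dot_single hlj)
  rw [add_sub_cancel_left, pc_smul_centre, mul_comm] at h4
  exact h4

/-- the multiplier set as a subalgebra over `F₀` -/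
def Ualg {K : Subgroup (GL ι F)} (hK : HypR F₀ K) (hn : 3 ≤ Fintype.card ι) :
    Subalgebra F₀ F where
  carrier := U K
  mul_mem' := fun ha hb => U_mul hn ha hb
  add_mem' := fun ha hb => U_add ha hb
  algebraMap_mem' := fun r => U_rat hK r.2

/-- **If `K` contains an elementary transvection with irrational multiplier, it contains `SL`.** -/
theorem sl_le_of_irrational {K : Subgroup (GL ι F)} (hK : HypR F₀ K)
    (hn : 3 ≤ Fintype.card ι) (hp : (Module.finrank F₀ F).Prime) {i₀ j₀ : ι} (h0 : i₀ ≠ j₀)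
    {c : F} (hc : c ∉ F₀) (h : InK K (1 + Matrix.single i₀ j₀ c)) :
    ∀ g : GL ι F, (g : Matrix ι ι F).det = 1 → g ∈ K := by
  haveI : Nontrivial ι := Fintype.one_lt_card_iff_nontrivial.mp (by omega)
  haveI := Subalgebra.isSimpleOrder_of_finrank_prime F₀ F hp
  have hcU : c ∈ Ualg hK hn := mem_U_of_one hK hn h0 (pc_single.mpr h)
  have htop : Ualg hK hn = ⊤ := by
    rcases eq_bot_or_eq_top (Ualg hK hn) with hb | ht
    · exfalso
      rw [hb, Algebra.mem_bot] at hcU
      obtain ⟨r, hr⟩ := hcU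
      apply hc
      rw [← hr]
      exact r.2
    · exact ht
  apply Cfsg.Agent.Lib.Helper98_MonoTop.sl_le_of_elem K
  intro i j hij c'
  have : c' ∈ Ualg hK hn := by rw [htop]; exact Algebra.mem_top
  exact pc_single.mp (this i j hij)

end Cfsg.Agent.Lib.Helper98_SubfU
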