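import Mathlib
import Cfsg.Prelude.Def_GeometricClasses
import Cfsg.Agent.Lib.Helper98_MonoBase
import Cfsg.Agent.Lib.Helper98_MonoG
import Cfsg.Agent.Lib.Helper98_MonoTop
import Cfsg.Agent.Lib.Helper98_SubfBase
import Cfsg.Agent.Lib.Helper98_SubfU

set_option autoImplicit false
set_option linter.unusedSectionVars false
set_option linter.unusedSimpArgs false
set_option linter.unusedVariables false
set_option linter.style.haveILetI false

/-!
Overgroups `K` of the rational special linear group containing no elementary transvection with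
an irrational multiplier: an element of `K` which maps some rational vector into a rational
hyperplane is projectively rational ("total skewness").
-/

namespace Cfsg.Agent.Lib.Helper98_SubfTS

open Matrix Cfsg.Agent.Lib.Helper98_MonoBase Cfsg.Agent.Lib.Helper98_MonoG
  Cfsg.Agent.Lib.Helper98_SubfBase Cfsg.Agent.Lib.Helper98_SubfU

variable {F : Type*} [Field F] [Fintype F] {ι : Type} [Fintype ι] [DecidableEq ι]

/-- the standing hypothesis: no elementary transvection of `K` has an irrational multiplier -/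
structure HypS (F₀ : Subfield F) (K : Subgroup (GL ι F)) : Prop where
  toR : HypR F₀ K
  no_irr : ∀ i j : ι, i ≠ j → ∀ c : F, Pc K c (Pi.single i 1) (Pi.single j 1) → c ∈ F₀

variable {F₀ : Subfield F}

lemma exists_ne_zero_apply {x : ι → F} (h : x ≠ 0) : ∃ j, x j ≠ 0 := by
  by_contra hcon
  push Not at hcon
  exact h (funext hcon)

/-- isolating a coordinate of the axis -/
lemma axis_coeff {K : Subgroup (GL ι F)} (hK : HypS F₀ K) (hn : 3 ≤ Fintype.card ι) {j : ι}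
    {c : F} {ω : ι → F} (hωj : ω j = 0) (h : Pc K c (Pi.single j 1) ω) (k' : ι) :
    c * ω k' ∈ F₀ := by
  by_cases hk : k' = j
  · rw [hk, hωj, mul_zero]; exact F₀.zero_mem
  obtain ⟨l', hl'j, hl'k⟩ := exists_third hn j k'
  have hv : Pc K 1 (Pi.single k' 1) (Pi.single l' 1) :=
    rat_pc hK.toR F₀.one_mem (ratV_single_one _) (ratV_single_one _)
      (single_dot_single (Ne.symm hl'k))
  have h1 := h.conj_by hv (single_dot_single (Ne.symm hl'k))
  rw [single_dot_single (Ne.symm hl'j), mul_zero, zero_smul, add_zero, dotProduct_single, mul_one,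
    one_mul] at h1
  have hd0 : ω ⬝ᵥ (Pi.single j 1 : ι → F) = 0 := by rw [dotProduct_single, mul_one, hωj]
  have hd1 : (ω - ω k' • (Pi.single l' 1 : ι → F)) ⬝ᵥ (Pi.single j 1 : ι → F) = 0 := by
    rw [sub_dotProduct, hd0, smul_dotProduct, single_dot_single (Ne.symm hl'j), smul_zero,
      sub_zero]
  have h2 := h.sub_axis h1 hd0 hd1
  rw [sub_sub_cancel, pc_smul_axis] at h2
  exact hK.no_irr j l' (Ne.symm hl'j) _ h2

/-- isolating a coordinate of the centre -/
lemma centre_coeff {K : Subgroup (GL ι F)} (hK : HypS F₀ K) (hn : 3 ≤ Fintype.card ι) {j : ι}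
    {c : F} {x : ι → F} (hxj : x j = 0) (h : Pc K c x (Pi.single j 1)) (l : ι) :
    c * x l ∈ F₀ := by
  by_cases hl : l = j
  · rw [hl, hxj, mul_zero]; exact F₀.zero_mem
  obtain ⟨k, hkj, hkl⟩ := exists_third hn j l
  have hv : Pc K 1 (Pi.single k 1) (Pi.single l 1) :=
    rat_pc hK.toR F₀.one_mem (ratV_single_one _) (ratV_single_one _) (single_dot_single hkl)
  have h1 := h.conj_by hv (single_dot_single hkl)
  rw [single_dot_single hkj, mul_zero, zero_smul, sub_zero, single_dotProduct, one_mul,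
    one_mul] at h1
  have hd0 : (Pi.single j 1 : ι → F) ⬝ᵥ x = 0 := by rw [single_dotProduct, one_mul, hxj]
  have h2 := h1.sub_centre h hd0
  rw [add_sub_cancel_left, pc_smul_centre] at h2
  exact hK.no_irr k j hkj _ h2

/-- a transvection of `K` with rational centre has a rational axis -/
lemma axis_rat {K : Subgroup (GL ι F)} (hK : HypS F₀ K) (hn : 3 ≤ Fintype.card ι)
    {y₀ η : ι → F} (hy : RatV F₀ y₀) (hy0 : y₀ ≠ 0) (h0 : η ⬝ᵥ y₀ = 0) (h : Pc K 1 y₀ η) :
    RatV F₀ η := by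
  classical
  obtain ⟨j, hj⟩ := exists_ne_zero_apply hy0
  set w : ι → F := fun i => if i = j then 0 else -(y₀ i) / (y₀ j) with hw
  have hwj : w j = 0 := by rw [hw]; simp
  have hwr : RatV F₀ w := by
    intro i
    rw [hw]
    by_cases hi : i = j
    · simp only [if_pos hi]; exact F₀.zero_mem
    · simp only [if_neg hi]; exact F₀.div_mem (F₀.neg_mem (hy i)) (hy j)
  have hζv : (Pi.single j (1 : F) : ι → F) ⬝ᵥ w = 0 := by rw [single_dotProduct, one_mul, hwj]
  have hv : Pc K 1 w (Pi.single j 1) :=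
    rat_pc hK.toR F₀.one_mem hwr (ratV_single_one _) hζv
  have h1 := h.conj_by hv hζv
  have hdot := conj_by_dot (a := (1 : F)) (x := y₀) (ξ := η) hζv
  have hcen : y₀ + (1 * ((Pi.single j (1 : F) : ι → F) ⬝ᵥ y₀)) • w = y₀ j • Pi.single j 1 := by
    funext i
    rw [single_dotProduct, one_mul, one_mul]
    by_cases hi : i = j
    · subst hi
      simp [hwj]
    · simp only [Pi.add_apply, Pi.smul_apply, smul_eq_mul, Pi.single_eq_of_ne hi, mul_zero, hw,
        if_neg hi]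
      field_simp
      ring
  rw [hcen] at h1 hdot
  set η₁ : ι → F := η - (1 * (η ⬝ᵥ w)) • Pi.single j 1 with hη₁
  rw [pc_smul_centre] at h1
  have hη₁j : η₁ j = 0 := by
    rw [h0, dotProduct_smul, dotProduct_single, mul_one, smul_eq_mul] at hdot
    rcases mul_eq_zero.mp hdot with h' | h'
    · exact absurd h' hj
    · exact h'
  have hη₁r : RatV F₀ η₁ := by
    intro k'
    have := axis_coeff hK hn hη₁j h1 k'
    rw [one_mul] at this
    have h2 := F₀.mul_mem (F₀.inv_mem (hy j)) this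
    rwa [← mul_assoc, inv_mul_cancel₀ hj, one_mul] at h2
  have hηw : η ⬝ᵥ w = η₁ ⬝ᵥ w := by
    rw [hη₁, sub_dotProduct, smul_dotProduct, hζv, smul_zero, sub_zero]
  have hη : η = η₁ + (1 * (η ⬝ᵥ w)) • Pi.single j 1 := by rw [hη₁, sub_add_cancel]
  rw [hη]
  apply hη₁r.add
  apply (ratV_single_one j).smul
  rw [one_mul, hηw]
  exact hη₁r.dot hwr

/-- a transvection of `K` with rational axis has a rational centre -/
lemma centre_rat {K : Subgroup (GL ι F)} (hK : HypS F₀ K) (hn : 3 ≤ Fintype.card ι)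
    {x ζ : ι → F} (hζ : RatV F₀ ζ) (hζ0 : ζ ≠ 0) (h0 : ζ ⬝ᵥ x = 0) (h : Pc K 1 x ζ) :
    RatV F₀ x := by
  classical
  obtain ⟨j, hj⟩ := exists_ne_zero_apply hζ0
  set w : ι → F := fun i => if i = j then 0 else (ζ i) / (ζ j) with hw
  have hwj : w j = 0 := by rw [hw]; simp
  have hwr : RatV F₀ w := by
    intro i
    rw [hw]
    by_cases hi : i = j
    · simp only [if_pos hi]; exact F₀.zero_mem
    · simp only [if_neg hi]; exact F₀.div_mem (hζ i) (hζ j)
  have hζv : w ⬝ᵥ (Pi.single j (1 : F) : ι → F) = 0 := by rw [dotProduct_single, mul_one, hwj]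
  have hv : Pc K 1 (Pi.single j 1) w :=
    rat_pc hK.toR F₀.one_mem (ratV_single_one _) hwr hζv
  have h1 := h.conj_by hv hζv
  have hdot := conj_by_dot (a := (1 : F)) (x := x) (ξ := ζ) hζv
  have hax : ζ - (1 * (ζ ⬝ᵥ (Pi.single j (1 : F) : ι → F))) • w = ζ j • Pi.single j 1 := by
    funext i
    rw [dotProduct_single, mul_one, one_mul]
    by_cases hi : i = j
    · subst hi
      simp [hwj]
    · simp only [Pi.sub_apply, Pi.smul_apply, smul_eq_mul, Pi.single_eq_of_ne hi, mul_zero, hw,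
        if_neg hi]
      field_simp
      ring
  rw [hax] at h1 hdot
  set x₁ : ι → F := x + (1 * (w ⬝ᵥ x)) • Pi.single j 1 with hx₁
  rw [pc_smul_axis] at h1
  have hx₁j : x₁ j = 0 := by
    rw [h0, smul_dotProduct, single_dotProduct, one_mul, smul_eq_mul] at hdot
    rcases mul_eq_zero.mp hdot with h' | h'
    · exact absurd h' hj
    · exact h'
  have hx₁r : RatV F₀ x₁ := by
    intro l
    have := centre_coeff hK hn hx₁j h1 l
    rw [one_mul] at this
    have h2 := F₀.mul_mem (F₀.inv_mem (hζ j)) this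
    rwa [← mul_assoc, inv_mul_cancel₀ hj, one_mul] at h2
  have hwx : w ⬝ᵥ x₁ = w ⬝ᵥ x := by
    rw [hx₁, dotProduct_add, dotProduct_smul, hζv, smul_zero, add_zero]
  have hx : x = x₁ - (1 * (w ⬝ᵥ x)) • Pi.single j 1 := by rw [hx₁, add_sub_cancel_right]
  rw [hx]
  apply hx₁r.sub
  apply (ratV_single_one j).smul
  rw [one_mul, ← hwx]
  exact hwr.dot hx₁r

/-- a non-zero rational covector vanishing on a rational vector and at a given coordinate -/
lemma exists_perp2 (hn : 3 ≤ Fintype.card ι) {x₀ : ι → F} (hx : RatV F₀ x₀) (i : ι) :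
    ∃ ζ₀ : ι → F, RatV F₀ ζ₀ ∧ ζ₀ ≠ 0 ∧ ζ₀ ⬝ᵥ x₀ = 0 ∧ ζ₀ i = 0 := by
  obtain ⟨a, hai, -⟩ := exists_third hn i i
  obtain ⟨b, hbi, hba⟩ := exists_third hn i a
  by_cases h : x₀ a = 0
  · refine ⟨Pi.single a 1, ratV_single_one a, ?_, ?_, ?_⟩
    · intro h0
      have := congrFun h0 a
      simp at this
    · rw [single_dotProduct, one_mul, h]
    · rw [Pi.single_eq_of_ne (Ne.symm hai)]
  · refine ⟨x₀ b • Pi.single a 1 - x₀ a • Pi.single b 1,
      ((ratV_single_one a).smul (hx b)).sub ((ratV_single_one b).smul (hx a)), ?_, ?_, ?_⟩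
    · intro h0
      have := congrFun h0 b
      simp [Pi.single_apply, hba, Ne.symm hba] at this
      exact h this
    · rw [sub_dotProduct, smul_dotProduct, smul_dotProduct, single_dotProduct, single_dotProduct]
      simp
      ring
    · simp [Pi.single_apply, Ne.symm hai, Ne.symm hbi]

omit [Fintype F] in
lemma mulVec_single_one_apply (A : Matrix ι ι F) (a c : ι) :
    (A *ᵥ (Pi.single a 1 : ι → F)) c = A c a := by
  rw [Matrix.mulVec_single_one]
  rfl

lemma mulVec_ne_zero (k : GL ι F) {x : ι → F} (hx : x ≠ 0) : (k : Matrix ι ι F) *ᵥ x ≠ 0 := by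
  intro h
  apply hx
  have := inv_mulVec_mulVec k x
  rw [h, mulVec_zero] at this
  exact this.symm

omit [Fintype F] in
lemma vecMul_ne_zero (k : GL ι F) {x : ι → F} (hx : x ≠ 0) : x ᵥ* (k : Matrix ι ι F) ≠ 0 := by
  intro h
  apply hx
  have : (x ᵥ* (k : Matrix ι ι F)) ᵥ* ((k⁻¹ : GL ι F) : Matrix ι ι F) = x := by
    rw [vecMul_vecMul, ← Units.val_mul, mul_inv_cancel, Units.val_one, vecMul_one]
  rw [h, zero_vecMul] at this
  exact this.symm

/-- an element of `K` mapping a rational point to a rational point is projectively rational -/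
theorem prat_of_point {K : Subgroup (GL ι F)} (hK : HypS F₀ K) (hn : 3 ≤ Fintype.card ι)
    {k : GL ι F} (hk : k ∈ K) {x₀ y₀ : ι → F} (hx : RatV F₀ x₀) (hx0 : x₀ ≠ 0)
    (hy : RatV F₀ y₀) (hy0 : y₀ ≠ 0) {μ : F} (hμ : μ ≠ 0)
    (h : (k : Matrix ι ι F) *ᵥ x₀ = μ • y₀) : PRat F₀ (k : Matrix ι ι F) := by
  refine ⟨μ⁻¹, inv_ne_zero hμ, fun i' i => ?_⟩
  obtain ⟨ζ₀, hζ₀r, hζ₀0, hζ₀x, hζ₀i⟩ := exists_perp2 hn hx i
  have hkinv : ((k⁻¹)⁻¹ : GL ι F) = k := inv_inv k
  have hξ0 : ζ₀ ᵥ* ((k⁻¹ : GL ι F) : Matrix ι ι F) ≠ 0 := vecMul_ne_zero k⁻¹ hζ₀0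
  have h1 := (rat_pc hK.toR F₀.one_mem hx hζ₀r hζ₀x).conj hk
  rw [h, pc_smul_centre, ← pc_smul_axis] at h1
  have hρ0 : (μ • (ζ₀ ᵥ* ((k⁻¹ : GL ι F) : Matrix ι ι F))) ⬝ᵥ y₀ = 0 := by
    have := dot_conj k x₀ ζ₀
    rw [h, dotProduct_smul, hζ₀x] at this
    rw [smul_dotProduct]
    exact this
  have hρr := axis_rat hK hn hy hy0 hρ0 h1
  have hρne : μ • (ζ₀ ᵥ* ((k⁻¹ : GL ι F) : Matrix ι ι F)) ≠ 0 := by
    intro h0
    apply hξ0
    have := congrArg (fun v => μ⁻¹ • v) h0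
    simpa [smul_smul, inv_mul_cancel₀ hμ] using this
  have hζ₀e : ζ₀ ⬝ᵥ (Pi.single i (1 : F) : ι → F) = 0 := by
    rw [dotProduct_single, mul_one, hζ₀i]
  have h2 := (rat_pc hK.toR F₀.one_mem (ratV_single_one i) hζ₀r hζ₀e).conj hk
  have h3 : Pc K 1 (μ⁻¹ • ((k : Matrix ι ι F) *ᵥ (Pi.single i 1 : ι → F)))
      (μ • (ζ₀ ᵥ* ((k⁻¹ : GL ι F) : Matrix ι ι F))) := by
    rw [pc_smul_centre, pc_smul_axis, one_mul, inv_mul_cancel₀ hμ]
    exact h2
  have hd : (μ • (ζ₀ ᵥ* ((k⁻¹ : GL ι F) : Matrix ι ι F))) ⬝ᵥ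
      (μ⁻¹ • ((k : Matrix ι ι F) *ᵥ (Pi.single i 1 : ι → F))) = 0 := by
    rw [smul_dotProduct, dotProduct_smul, dot_conj, hζ₀e, smul_zero, smul_zero]
  have hr := centre_rat hK hn hρr hρne hd h3
  have := hr i'
  rw [Pi.smul_apply, mulVec_single_one_apply, smul_eq_mul] at this
  rw [Matrix.smul_apply, smul_eq_mul]
  exact this

/-- **Total skewness.** An element of `K` which maps some rational vector into a rational
hyperplane is projectively rational. -/
theorem ts {K : Subgroup (GL ι F)} (hK : HypS F₀ K) (hn : 3 ≤ Fintype.card ι)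
    {k : GL ι F} (hk : k ∈ K) {x₀ ζ : ι → F} (hx : RatV F₀ x₀) (hx0 : x₀ ≠ 0)
    (hζ : RatV F₀ ζ) (hζ0 : ζ ≠ 0) (h : ζ ⬝ᵥ ((k : Matrix ι ι F) *ᵥ x₀) = 0) :
    PRat F₀ (k : Matrix ι ι F) := by
  classical
  by_contra hnot
  have hkx0 : (k : Matrix ι ι F) *ᵥ x₀ ≠ 0 := mulVec_ne_zero k hx0
  -- step 1
  have key : ∀ v ζ₀' : ι → F, RatV F₀ v → RatV F₀ ζ₀' → ζ ⬝ᵥ v = 0 → ζ₀' ⬝ᵥ x₀ = 0 →
      ζ₀' ⬝ᵥ (((k⁻¹ : GL ι F) : Matrix ι ι F) *ᵥ v) = 0 := by
    intro v ζ₀' hv hζ₀' hζv hζ₀'x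
    by_contra hβ
    apply hnot
    have hT := (rat_pc hK.toR F₀.one_mem hx hζ₀' hζ₀'x).conj hk
    have hV : Pc K 1 v ζ := rat_pc hK.toR F₀.one_mem hv hζ hζv
    have h1 := hT.conj_by hV hζv
    have hξx : (ζ₀' ᵥ* ((k⁻¹ : GL ι F) : Matrix ι ι F)) ⬝ᵥ ((k : Matrix ι ι F) *ᵥ x₀) = 0 := by
      rw [dot_conj, hζ₀'x]
    have hξv : (ζ₀' ᵥ* ((k⁻¹ : GL ι F) : Matrix ι ι F)) ⬝ᵥ v =
        ζ₀' ⬝ᵥ (((k⁻¹ : GL ι F) : Matrix ι ι F) *ᵥ v) := (dotProduct_mulVec _ _ _).symm
    rw [h, mul_zero, zero_smul, add_zero, one_mul, hξv] at h1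
    have hd1 : (ζ₀' ᵥ* ((k⁻¹ : GL ι F) : Matrix ι ι F) -
        (ζ₀' ⬝ᵥ (((k⁻¹ : GL ι F) : Matrix ι ι F) *ᵥ v)) • ζ) ⬝ᵥ
          ((k : Matrix ι ι F) *ᵥ x₀) = 0 := by
      rw [sub_dotProduct, hξx, smul_dotProduct, h, smul_zero, sub_zero]
    have h2 := hT.sub_axis h1 hξx hd1
    rw [sub_sub_cancel, pc_smul_axis, ← pc_smul_centre] at h2
    have hd2 : ζ ⬝ᵥ ((ζ₀' ⬝ᵥ (((k⁻¹ : GL ι F) : Matrix ι ι F) *ᵥ v)) •
        ((k : Matrix ι ι F) *ᵥ x₀)) = 0 := by
      rw [dotProduct_smul, h, smul_zero]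
    have hr := centre_rat hK hn hζ hζ0 hd2 h2
    have hne : (ζ₀' ⬝ᵥ (((k⁻¹ : GL ι F) : Matrix ι ι F) *ᵥ v)) •
        ((k : Matrix ι ι F) *ᵥ x₀) ≠ 0 := by
      intro h0
      rcases smul_eq_zero.mp h0 with h' | h'
      · exact hβ h'
      · exact hkx0 h'
    refine prat_of_point hK hn hk hx hx0 hr hne (inv_ne_zero hβ) ?_
    rw [smul_smul, inv_mul_cancel₀ hβ, one_smul]
  -- step 2
  obtain ⟨j, hj⟩ := exists_ne_zero_apply hζ0
  obtain ⟨jx, hjx⟩ := exists_ne_zero_apply hx0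
  -- every rational vector in the kernel of `ζ` is mapped into the line of `x₀`
  have hline : ∀ v : ι → F, RatV F₀ v → ζ ⬝ᵥ v = 0 →
      ((k⁻¹ : GL ι F) : Matrix ι ι F) *ᵥ v =
        ((((k⁻¹ : GL ι F) : Matrix ι ι F) *ᵥ v) jx / x₀ jx) • x₀ := by
    intro v hv hζv
    funext m
    have hr : RatV F₀ (x₀ jx • (Pi.single m 1 : ι → F) - x₀ m • Pi.single jx 1) :=
      ((ratV_single_one m).smul (hx jx)).sub ((ratV_single_one jx).smul (hx m))
    have hperp : (x₀ jx • (Pi.single m 1 : ι → F) - x₀ m • Pi.single jx 1) ⬝ᵥ x₀ = 0 := by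
      rw [sub_dotProduct, smul_dotProduct, smul_dotProduct, single_dotProduct, single_dotProduct]
      simp
      ring
    have := key v _ hv hr hζv hperp
    rw [sub_dotProduct, smul_dotProduct, smul_dotProduct, single_dotProduct, single_dotProduct,
      one_mul, one_mul, smul_eq_mul, smul_eq_mul] at this
    rw [Pi.smul_apply, smul_eq_mul]
    field_simp
    linear_combination this
  obtain ⟨i₁, hi₁j, -⟩ := exists_third hn j j
  obtain ⟨i₂, hi₂j, hi₂i₁⟩ := exists_third hn j i₁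
  set vv : ι → ι → F := fun i => ζ j • (Pi.single i 1 : ι → F) - ζ i • Pi.single j 1 with hvv
  have hvr : ∀ i, RatV F₀ (vv i) := fun i =>
    ((ratV_single_one i).smul (hζ j)).sub ((ratV_single_one j).smul (hζ i))
  have hvperp : ∀ i, ζ ⬝ᵥ vv i = 0 := by
    intro i
    rw [hvv]
    simp only
    rw [dotProduct_sub, dotProduct_smul, dotProduct_smul, dotProduct_single, dotProduct_single]
    simp
    ring
  have hvii : ∀ i, i ≠ j → vv i i = ζ j := by
    intro i hi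
    rw [hvv]
    simp [Pi.single_apply, hi]
  have hv21 : vv i₂ i₁ = 0 := by
    rw [hvv]
    simp [Pi.single_apply, hi₁j, Ne.symm hi₂i₁]
  set lam : ι → F := fun i => (((k⁻¹ : GL ι F) : Matrix ι ι F) *ᵥ vv i) jx / x₀ jx with hlam
  have hA : ∀ i, ((k⁻¹ : GL ι F) : Matrix ι ι F) *ᵥ vv i = lam i • x₀ :=
    fun i => hline (vv i) (hvr i) (hvperp i)
  have hu : ((k⁻¹ : GL ι F) : Matrix ι ι F) *ᵥ (lam i₂ • vv i₁ - lam i₁ • vv i₂) = 0 := by
    rw [mulVec_sub, mulVec_smul, mulVec_smul, hA, hA, smul_smul, smul_smul, mul_comm, sub_self]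
  have hu0 : lam i₂ • vv i₁ - lam i₁ • vv i₂ = 0 := by
    by_contra hne
    exact mulVec_ne_zero k⁻¹ hne hu
  have hl2 : lam i₂ = 0 := by
    have := congrFun hu0 i₁
    rw [Pi.sub_apply, Pi.smul_apply, Pi.smul_apply, hvii i₁ hi₁j, hv21, smul_zero, sub_zero,
      Pi.zero_apply, smul_eq_mul] at this
    rcases mul_eq_zero.mp this with h' | h'
    · exact h'
    · exact absurd h' hj
  have hv2 : vv i₂ = 0 := by
    by_contra hne
    apply mulVec_ne_zero k⁻¹ hne
    rw [hA, hl2, zero_smul]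
  have := congrFun hv2 i₂
  rw [hvii i₂ hi₂j, Pi.zero_apply] at this
  exact hj this

/-- if the degree of `F` over `F₀` is smaller than the dimension, `K` is projectively rational -/
theorem prat_of_finrank_lt {K : Subgroup (GL ι F)} (hK : HypS F₀ K) (hn : 3 ≤ Fintype.card ι)
    (hr : Module.finrank F₀ F < Fintype.card ι) {k : GL ι F} (hk : k ∈ K) :
    PRat F₀ (k : Matrix ι ι F) := by
  classical
  obtain ⟨i₀⟩ : Nonempty ι := Fintype.card_pos_iff.mp (by omega)
  have hnli : ¬ LinearIndependent F₀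
      (fun i => ((k : Matrix ι ι F) *ᵥ (Pi.single i₀ 1 : ι → F)) i) := by
    intro hli
    have := hli.fintype_card_le_finrank
    omega
  rw [Fintype.not_linearIndependent_iff] at hnli
  obtain ⟨g, hg, i, hgi⟩ := hnli
  refine ts hK hn hk (ratV_single_one i₀) ?_ (ζ := fun i => (g i : F)) (fun i => (g i).2) ?_ ?_
  · intro h0
    have := congrFun h0 i₀
    simp at this
  · intro h0
    apply hgi
    have := congrFun h0 i
    exact Subtype.ext this
  · rw [← hg]
    rfl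

end Cfsg.Agent.Lib.Helper98_SubfTS
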