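import Mathlib
import Cfsg.Prelude.Def_GeometricClasses
import Cfsg.Agent.Lib.Helper98_MonoBase
import Cfsg.Agent.Lib.Helper98_MonoG
import Cfsg.Agent.Lib.Helper98_MonoTop
import Cfsg.Agent.Lib.Helper98_SubfBase
import Cfsg.Agent.Lib.Helper98_SubfU
import Cfsg.Agent.Lib.Helper98_SubfTS

set_option autoImplicit false
set_option linter.unusedSectionVars false
set_option linter.unusedSimpArgs false
set_option linter.unusedVariables false
set_option linter.style.haveILetI false

/-!
The dihedral argument: an overgroup of the rational special linear group without irrational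
elementary transvections consists of projectively rational matrices.
-/

namespace Cfsg.Agent.Lib.Helper98_SubfInv

open Matrix Cfsg.Agent.Lib.Helper98_MonoBase Cfsg.Agent.Lib.Helper98_MonoG
  Cfsg.Agent.Lib.Helper98_SubfBase Cfsg.Agent.Lib.Helper98_SubfU Cfsg.Agent.Lib.Helper98_SubfTS

/-! ### two involutions in a finite group -/

/-- **Dihedral lemma.** For two involutions `a`, `b` of a finite group and a central element `ε`
with `ε² = 1`: either `a` is conjugate to `b` or to `ε b`, or `a` is conjugate to `ε a` with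
`ε ≠ 1`, or some involution other than `ε` commutes with `a` and `b`; all conjugating elements
are powers of `a b`. -/
theorem dihedral {G : Type*} [Group G] [Finite G] (a b ε : G) (ha : a * a = 1) (hb : b * b = 1)
    (hε : ∀ g : G, ε * g = g * ε) (hε2 : ε * ε = 1) :
    (∃ g ∈ Subgroup.zpowers (a * b), g * a * g⁻¹ = b ∨ g * a * g⁻¹ = ε * b) ∨
    (ε ≠ 1 ∧ ∃ z ∈ Subgroup.zpowers (a * b), z * a * z⁻¹ = ε * a) ∨
    (∃ z ∈ Subgroup.zpowers (a * b), z ≠ 1 ∧ z ≠ ε ∧ z * z = 1 ∧ z * a = a * z ∧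
      z * b = b * z) := by
  set c : G := a * b with hc
  have hainv : a⁻¹ = a := inv_eq_of_mul_eq_one_right ha
  have hbinv : b⁻¹ = b := inv_eq_of_mul_eq_one_right hb
  have hcinv : c⁻¹ = b * a := by rw [hc, _root_.mul_inv_rev, hainv, hbinv]
  have haca : a * c * a⁻¹ = c⁻¹ := by
    rw [hcinv, hainv, hc, ← mul_assoc, ha, one_mul]
  -- `a` inverts the powers of `c`
  have hinvp : ∀ j : ℕ, a * c ^ j * a = (c ^ j)⁻¹ := by
    intro j
    have := conj_pow (i := j) (a := a) (b := c)
    rw [haca, hainv] at this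
    rw [← this, inv_pow]
  have hinvp' : ∀ j : ℕ, a * (c ^ j)⁻¹ = c ^ j * a := by
    intro j
    have h1 := hinvp j
    have h2 : (a * c ^ j * a)⁻¹ = c ^ j := by rw [h1, inv_inv]
    rw [_root_.mul_inv_rev, _root_.mul_inv_rev, hainv] at h2
    calc a * (c ^ j)⁻¹ = a * (c ^ j)⁻¹ * a * a := by rw [mul_assoc _ a a, ha, mul_one]
      _ = (a * ((c ^ j)⁻¹ * a)) * a := by rw [mul_assoc a]
      _ = c ^ j * a := by rw [h2]
  have hconj : ∀ j : ℕ, c ^ j * a * (c ^ j)⁻¹ = c ^ (2 * j) * a := by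
    intro j
    rw [mul_assoc, hinvp', ← mul_assoc, ← pow_add, two_mul]
  have hbc : b = c⁻¹ * a := by rw [hcinv, mul_assoc, ha, mul_one]
  have hbc' : b = a * c := by rw [hc, ← mul_assoc, ha, one_mul]
  have hm : 0 < orderOf c := orderOf_pos c
  obtain ⟨l, hl | hl⟩ := Nat.even_or_odd' (orderOf c)
  · -- even order
    have hl0 : l ≠ 0 := by omega
    have hz2 : c ^ l * c ^ l = 1 := by rw [← pow_add, ← two_mul, ← hl, pow_orderOf_eq_one]
    have hz1 : c ^ l ≠ 1 := pow_ne_one_of_lt_orderOf hl0 (by omega)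
    have hzinv : (c ^ l)⁻¹ = c ^ l := inv_eq_of_mul_eq_one_right hz2
    have hza : c ^ l * a = a * c ^ l := by
      have := hinvp' l
      rw [hzinv] at this
      exact this.symm
    have hzb : c ^ l * b = b * c ^ l := by
      rw [hbc', ← mul_assoc, hza, mul_assoc, mul_assoc, ← pow_succ', ← pow_succ]
    by_cases hzε : c ^ l = ε
    · have hε1 : ε ≠ 1 := by rw [← hzε]; exact hz1
      obtain ⟨j, hj | hj⟩ := Nat.even_or_odd' l
      · right; left
        refine ⟨hε1, c ^ j, Subgroup.npow_mem_zpowers c j, ?_⟩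
        rw [hconj, ← hj, hzε]
      · left
        refine ⟨c ^ j, Subgroup.npow_mem_zpowers c j, Or.inr ?_⟩
        rw [hconj, hbc, ← mul_assoc, ← hzε]
        congr 1
        rw [hj, pow_succ, mul_assoc, mul_inv_cancel, mul_one]
    · right; right
      exact ⟨c ^ l, Subgroup.npow_mem_zpowers c l, hz1, hzε, hz2, hza, hzb⟩
  · -- odd order
    left
    refine ⟨c ^ l, Subgroup.npow_mem_zpowers c l, Or.inl ?_⟩
    rw [hconj, hbc]
    congr 1
    have : c ^ (2 * l) * c = 1 := by rw [← pow_succ, ← hl, pow_orderOf_eq_one]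
    exact eq_inv_of_mul_eq_one_left this

variable {F : Type*} [Field F] [Fintype F] {ι : Type} [Fintype ι] [DecidableEq ι]
  {F₀ : Subfield F}

/-- an element of `K` commuting with a suitable element is projectively rational -/
lemma prat_of_comm {K : Subgroup (GL ι F)} (hK : HypS F₀ K) (hn : 3 ≤ Fintype.card ι)
    {z a : GL ι F} (hz : z ∈ K) (hcomm : z * a = a * z) {i₁ iₙ : ι} {w₀ : ι → F} {c : F}
    (hc : c ≠ 0) (h1 : ((a : Matrix ι ι F) - 1) *ᵥ w₀ = c • Pi.single i₁ 1)
    (h2 : (Pi.single iₙ 1 : ι → F) ᵥ* ((a : Matrix ι ι F) - 1) = 0) :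
    PRat F₀ (z : Matrix ι ι F) := by
  refine ts hK hn hz (ratV_single_one i₁) ?_ (ratV_single_one iₙ) ?_ ?_
  · intro h0
    have := congrFun h0 i₁
    simp at this
  · intro h0
    have := congrFun h0 iₙ
    simp at this
  · have hm : (z : Matrix ι ι F) * ((a : Matrix ι ι F) - 1) =
        ((a : Matrix ι ι F) - 1) * (z : Matrix ι ι F) := by
      rw [mul_sub, sub_mul, mul_one, one_mul, ← Units.val_mul, ← Units.val_mul, hcomm]
    have h3 : c • ((z : Matrix ι ι F) *ᵥ (Pi.single i₁ 1 : ι → F)) =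
        ((a : Matrix ι ι F) - 1) *ᵥ ((z : Matrix ι ι F) *ᵥ w₀) := by
      rw [← mulVec_smul, ← h1, mulVec_mulVec, mulVec_mulVec, hm]
    have h4 : c * ((Pi.single iₙ 1 : ι → F) ⬝ᵥ ((z : Matrix ι ι F) *ᵥ (Pi.single i₁ 1 : ι → F)))
        = 0 := by
      rw [← smul_eq_mul, ← dotProduct_smul, h3, dotProduct_mulVec, h2, zero_dotProduct]
    rcases mul_eq_zero.mp h4 with h' | h'
    · exact absurd h' hc
    · exact h'

/-- a projectively rational involution is rational -/
lemma rat_of_sq [Nonempty ι] (hsq : ∀ ν : F, ν * ν ∈ F₀ → ν ∈ F₀) {z : GL ι F}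
    (hz2 : z * z = 1) (hz : PRat F₀ (z : Matrix ι ι F)) : RatM F₀ (z : Matrix ι ι F) := by
  obtain ⟨ν, hν, hA⟩ := hz
  have h1 : (ν • (z : Matrix ι ι F)) * (ν • (z : Matrix ι ι F)) = (ν * ν) • (1 : Matrix ι ι F) := by
    rw [Matrix.smul_mul, Matrix.mul_smul, smul_smul, ← Units.val_mul, hz2, Units.val_one]
  have h2 := hA.mul hA
  rw [h1] at h2
  obtain ⟨i⟩ := ‹Nonempty ι›
  have h3 := h2 i i
  rw [Matrix.smul_apply, Matrix.one_apply_eq, smul_eq_mul, mul_one] at h3
  have hνm := hsq ν h3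
  have : (z : Matrix ι ι F) = ν⁻¹ • (ν • (z : Matrix ι ι F)) := by
    rw [smul_smul, inv_mul_cancel₀ hν, one_smul]
  rw [this]
  exact hA.smul (F₀.inv_mem hνm)

/-- the key contradiction -/
lemma gamma {K : Subgroup (GL ι F)} (hK : HypS F₀ K) (hn : 3 ≤ Fintype.card ι)
    (hsq : ∀ ν : F, ν * ν ∈ F₀ → ν ∈ F₀) {k z : GL ι F} (hk : k ∈ K)
    (hknot : ¬ PRat F₀ (k : Matrix ι ι F)) (hz2 : z * z = 1) (hz1 : z ≠ 1)
    (hzm : (z : Matrix ι ι F) ≠ -1) (hzH : PRat F₀ (z : Matrix ι ι F))
    (hz'H : PRat F₀ ((k⁻¹ * z * k : GL ι F) : Matrix ι ι F)) : False := by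
  haveI : Nonempty ι := Fintype.card_pos_iff.mp (by omega)
  have hz'2 : (k⁻¹ * z * k) * (k⁻¹ * z * k) = 1 := by
    calc (k⁻¹ * z * k) * (k⁻¹ * z * k) = k⁻¹ * (z * z) * k := by group
      _ = 1 := by rw [hz2]; group
  have hzr := rat_of_sq hsq hz2 hzH
  have hz'r := rat_of_sq hsq hz'2 hz'H
  set N : Matrix ι ι F := (z : Matrix ι ι F) - 1 with hN
  set N' : Matrix ι ι F := (z : Matrix ι ι F) + 1 with hN'
  set M' : Matrix ι ι F := ((k⁻¹ * z * k : GL ι F) : Matrix ι ι F) + 1 with hM'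
  have hNN' : N * N' = 0 := by
    rw [hN, hN', sub_mul, mul_add, mul_one, one_mul, ← Units.val_mul, hz2, Units.val_one]
    abel
  have hkM : (k : Matrix ι ι F) * M' = N' * (k : Matrix ι ι F) := by
    rw [hM', hN', mul_add, add_mul, mul_one, one_mul, ← Units.val_mul, ← Units.val_mul]
    congr 2
    group
  have hNr : RatM F₀ N := hzr.sub ratM_one
  have hM'r : RatM F₀ M' := hz'r.add ratM_one
  have hN0 : N ≠ 0 := by
    intro h0
    apply hz1
    apply Units.ext
    rw [Units.val_one]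
    exact sub_eq_zero.mp h0
  have hM'0 : M' ≠ 0 := by
    intro h0
    apply hzm
    have h1 : ((k⁻¹ * z * k : GL ι F) : Matrix ι ι F) = -1 := eq_neg_of_add_eq_zero_left h0
    have h2 : (z : Matrix ι ι F) = (k : Matrix ι ι F) *
        ((k⁻¹ * z * k : GL ι F) : Matrix ι ι F) * ((k⁻¹ : GL ι F) : Matrix ι ι F) := by
      rw [← Units.val_mul, ← Units.val_mul]
      congr 1
      group
    rw [h2, h1, mul_neg, mul_one, neg_mul, ← Units.val_mul, mul_inv_cancel, Units.val_one]
  obtain ⟨i, hi⟩ : ∃ i, (fun j => N i j) ≠ 0 := by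
    by_contra hcon
    push Not at hcon
    apply hN0
    ext i j
    exact congrFun (hcon i) j
  obtain ⟨j, hj⟩ : ∃ j, (fun i => M' i j) ≠ 0 := by
    by_contra hcon
    push Not at hcon
    apply hM'0
    ext i j
    exact congrFun (hcon j) i
  apply hknot
  refine ts hK hn hk (hM'r.col j) hj (hNr.row i) hi ?_
  have e1 : (fun i' => M' i' j) = M' *ᵥ (Pi.single j 1 : ι → F) := by
    funext i'
    rw [mulVec_single_one_apply]
  have e2 : (fun j' => N i j') = (Pi.single i 1 : ι → F) ᵥ* N := by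
    funext j'
    rw [Matrix.single_one_vecMul]
    rfl
  rw [e1, e2, mulVec_mulVec, hkM, ← mulVec_mulVec, dotProduct_mulVec, vecMul_vecMul, hNN',
    vecMul_zero, zero_dotProduct]

/-! ### invariance of the rank of `a - 1` under conjugation -/

omit [Fintype F] in
lemma rank_conj (g : GL ι F) (A : Matrix ι ι F) :
    ((g : Matrix ι ι F) * A * ((g⁻¹ : GL ι F) : Matrix ι ι F)).rank = A.rank := by
  rw [Matrix.rank_mul_eq_left_of_isUnit_det _ _ (Matrix.isUnits_det_units g⁻¹),
    Matrix.rank_mul_eq_right_of_isUnit_det _ _ (Matrix.isUnits_det_units g)]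

omit [Fintype F] in
lemma sub_one_conj {g a b : GL ι F} (h : g * a * g⁻¹ = b) :
    (b : Matrix ι ι F) - 1 =
      (g : Matrix ι ι F) * ((a : Matrix ι ι F) - 1) * ((g⁻¹ : GL ι F) : Matrix ι ι F) := by
  rw [← h]
  simp only [Units.val_mul]
  rw [mul_sub, sub_mul, mul_one, Units.mul_inv]

omit [Fintype F] in
lemma rank_sub_one_conj {g a b : GL ι F} (h : g * a * g⁻¹ = b) :
    ((b : Matrix ι ι F) - 1).rank = ((a : Matrix ι ι F) - 1).rank := by
  rw [sub_one_conj h, rank_conj]

/-! ### diagonal involutions (odd characteristic) -/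

/-- the diagonal matrix with `-1` on `S` and `1` elsewhere -/
def dS (S : Finset ι) : GL ι F where
  val := Matrix.diagonal (fun i => if i ∈ S then (-1 : F) else 1)
  inv := Matrix.diagonal (fun i => if i ∈ S then (-1 : F) else 1)
  val_inv := by
    rw [Matrix.diagonal_mul_diagonal, ← Matrix.diagonal_one]
    congr 1
    funext i
    split_ifs <;> simp
  inv_val := by
    rw [Matrix.diagonal_mul_diagonal, ← Matrix.diagonal_one]
    congr 1
    funext i
    split_ifs <;> simp

omit [Fintype F] in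
lemma dS_val (S : Finset ι) :
    ((dS S : GL ι F) : Matrix ι ι F) = Matrix.diagonal (fun i => if i ∈ S then (-1 : F) else 1) :=
  rfl

omit [Fintype F] in
lemma dS_mul_self (S : Finset ι) : (dS S : GL ι F) * dS S = 1 := by
  apply Units.ext
  exact (dS S : GL ι F).val_inv

omit [Fintype F] in
lemma det_dS (S : Finset ι) : ((dS S : GL ι F) : Matrix ι ι F).det = (-1) ^ S.card := by
  rw [dS_val, Matrix.det_diagonal, Finset.prod_ite_mem, Finset.univ_inter, Finset.prod_const]

omit [Fintype F] in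
lemma ratM_dS (S : Finset ι) : RatM F₀ ((dS S : GL ι F) : Matrix ι ι F) := by
  rw [dS_val]
  apply ratM_diagonal
  intro i
  dsimp only
  split_ifs
  · exact F₀.neg_mem F₀.one_mem
  · exact F₀.one_mem

omit [Fintype F] in
lemma rank_dS_sub_one (h2 : (2 : F) ≠ 0) (S : Finset ι) :
    (((dS S : GL ι F) : Matrix ι ι F) - 1).rank = S.card := by
  classical
  have e : ((dS S : GL ι F) : Matrix ι ι F) - 1 =
      Matrix.diagonal (fun i => if i ∈ S then (-2 : F) else 0) := by
    rw [dS_val, ← Matrix.diagonal_one, Matrix.diagonal_sub]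
    congr 1
    funext i
    split_ifs
    · norm_num
    · simp
  rw [e, Matrix.rank_diagonal, Fintype.card_subtype]
  congr 1
  ext i
  simp only [Finset.mem_filter, Finset.mem_univ, true_and]
  constructor
  · intro h
    by_contra hi
    exact h (if_neg hi)
  · intro hi
    rw [if_pos hi]
    exact neg_ne_zero.mpr h2

omit [Fintype F] in
lemma rank_neg_dS_sub_one (h2 : (2 : F) ≠ 0) (S : Finset ι) :
    (((-1 * dS S : GL ι F) : Matrix ι ι F) - 1).rank = Fintype.card ι - S.card := by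
  classical
  have e : ((-1 * dS S : GL ι F) : Matrix ι ι F) - 1 =
      Matrix.diagonal (fun i => if i ∈ S then (0 : F) else -2) := by
    rw [Units.val_mul, Units.val_neg, Units.val_one, neg_one_mul, dS_val, Matrix.diagonal_neg,
      ← Matrix.diagonal_one, Matrix.diagonal_sub]
    congr 1
    funext i
    split_ifs
    · simp
    · norm_num
  rw [e, Matrix.rank_diagonal, Fintype.card_subtype, ← Finset.card_compl]
  congr 1
  ext i
  simp only [Finset.mem_filter, Finset.mem_univ, true_and, Finset.mem_compl]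
  constructor
  · intro h hi
    exact h (if_pos hi)
  · intro hi
    rw [if_neg hi]
    exact neg_ne_zero.mpr h2

omit [Fintype F] in
lemma dS_data {S : Finset ι} {i₁ iₙ : ι} (h1 : i₁ ∈ S) (hn : iₙ ∉ S) :
    (((dS S : GL ι F) : Matrix ι ι F) - 1) *ᵥ (Pi.single i₁ 1 : ι → F) =
        (-2 : F) • Pi.single i₁ 1 ∧
      (Pi.single iₙ 1 : ι → F) ᵥ* (((dS S : GL ι F) : Matrix ι ι F) - 1) = 0 := by
  have e : ((dS S : GL ι F) : Matrix ι ι F) - 1 =
      Matrix.diagonal (fun i => if i ∈ S then (-2 : F) else 0) := by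
    rw [dS_val, ← Matrix.diagonal_one, Matrix.diagonal_sub]
    congr 1
    funext i
    split_ifs
    · norm_num
    · simp
  rw [e]
  constructor
  · rw [Matrix.mulVec_single_one]
    funext i
    rw [Matrix.col_apply, Pi.smul_apply, smul_eq_mul]
    by_cases hi : i = i₁
    · subst hi
      rw [Matrix.diagonal_apply_eq, if_pos h1, Pi.single_eq_same, mul_one]
    · rw [Matrix.diagonal_apply_ne _ hi, Pi.single_eq_of_ne hi, mul_zero]
  · rw [Matrix.single_one_vecMul]
    funext j
    rw [Matrix.row_apply, Pi.zero_apply]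
    by_cases hj : iₙ = j
    · subst hj
      rw [Matrix.diagonal_apply_eq, if_neg hn]
    · rw [Matrix.diagonal_apply_ne _ hj]

/-! ### transvection involutions (characteristic two) -/

/-- the transvection `1 + x ξᵀ` as a unit -/
def tvU (x ξ : ι → F) (h0 : ξ ⬝ᵥ x = 0) : GL ι F where
  val := 1 + vecMulVec x ξ
  inv := 1 - vecMulVec x ξ
  val_inv := by
    rw [add_mul, one_mul, mul_sub, mul_one, vecMulVec_mul_vecMulVec, h0, zero_smul,
      vecMulVec_zero]
    abel
  inv_val := by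
    rw [sub_mul, one_mul, mul_add, mul_one, vecMulVec_mul_vecMulVec, h0, zero_smul,
      vecMulVec_zero]
    abel

omit [Fintype F] in
lemma tvU_val (x ξ : ι → F) (h0 : ξ ⬝ᵥ x = 0) :
    ((tvU x ξ h0 : GL ι F) : Matrix ι ι F) = 1 + vecMulVec x ξ := rfl

omit [Fintype F] in
lemma tvU_mul_self (h2 : (2 : F) = 0) (x ξ : ι → F) (h0 : ξ ⬝ᵥ x = 0) :
    tvU x ξ h0 * tvU x ξ h0 = 1 := by
  apply Units.ext
  rw [Units.val_mul, tvU_val, Units.val_one, add_mul, one_mul, mul_add, mul_one,
    vecMulVec_mul_vecMulVec, h0, zero_smul, vecMulVec_zero, add_zero, add_assoc,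
    ← two_smul F (vecMulVec x ξ), h2, zero_smul, add_zero]

lemma tvU_mem {K : Subgroup (GL ι F)} (hK : HypR F₀ K) {x ξ : ι → F} (hx : RatV F₀ x)
    (hξ : RatV F₀ ξ) (h0 : ξ ⬝ᵥ x = 0) : tvU x ξ h0 ∈ K := by
  apply hK.rat_mem
  · rw [tvU_val]
    exact ratM_one.add (ratM_vecMulVec hx hξ)
  · have := det_tv x ξ (1 : F)
    rw [one_smul, one_mul, h0, add_zero] at this
    rw [tvU_val]
    exact this

omit [Fintype F] [DecidableEq ι] in
lemma vmv_mulVec (x ξ v : ι → F) : vecMulVec x ξ *ᵥ v = (ξ ⬝ᵥ v) • x := by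
  funext i
  simp only [mulVec, dotProduct, vecMulVec_apply, Pi.smul_apply, smul_eq_mul, Finset.sum_mul]
  apply Finset.sum_congr rfl
  intro j _
  ring

omit [Fintype F] [DecidableEq ι] in
lemma vecMul_vmv (x ξ v : ι → F) : v ᵥ* vecMulVec x ξ = (v ⬝ᵥ x) • ξ := by
  funext j
  simp only [vecMul, dotProduct, vecMulVec_apply, Pi.smul_apply, smul_eq_mul]
  rw [Finset.sum_mul]
  apply Finset.sum_congr rfl
  intro i _
  ring

omit [Fintype F] in
lemma conj_comm {k z a₂ : GL ι F} (h : z * (k * a₂ * k⁻¹) = (k * a₂ * k⁻¹) * z) :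
    (k⁻¹ * z * k) * a₂ = a₂ * (k⁻¹ * z * k) := by
  calc (k⁻¹ * z * k) * a₂ = k⁻¹ * (z * (k * a₂ * k⁻¹)) * k := by group
    _ = k⁻¹ * ((k * a₂ * k⁻¹) * z) * k := by rw [h]
    _ = a₂ * (k⁻¹ * z * k) := by group

/-- **Main theorem of the dihedral argument.** -/
theorem le_PR {n : ℕ} (hn : 7 ≤ n) {K : Subgroup (GL (Fin n) F)} (hK : HypS F₀ K)
    (hdeg : Module.finrank F₀ F < n ∨ ∀ ν : F, ν * ν ∈ F₀ → ν ∈ F₀) :
    ∀ k ∈ K, PRat F₀ (k : Matrix (Fin n) (Fin n) F) := by
  classical
  have hcard : Fintype.card (Fin n) = n := Fintype.card_fin n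
  have hn3 : 3 ≤ Fintype.card (Fin n) := by omega
  rcases hdeg with hdeg | hsq
  · intro k hk
    exact prat_of_finrank_lt hK hn3 (by rw [hcard]; exact hdeg) hk
  intro k hk
  by_contra hknot
  haveI : Finite (GL (Fin n) F) := Finite.of_injective Units.val Units.val_injective
  set i0 : Fin n := ⟨0, by omega⟩ with hi0
  set i1 : Fin n := ⟨1, by omega⟩ with hi1
  set i2 : Fin n := ⟨2, by omega⟩ with hi2
  set i3 : Fin n := ⟨3, by omega⟩ with hi3
  set i6 : Fin n := ⟨6, by omega⟩ with hi6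
  have h01 : i0 ≠ i1 := by simp [hi0, hi1, Fin.ext_iff]
  have h02 : i0 ≠ i2 := by simp [hi0, hi2, Fin.ext_iff]
  have h03 : i0 ≠ i3 := by simp [hi0, hi3, Fin.ext_iff]
  have h12 : i1 ≠ i2 := by simp [hi1, hi2, Fin.ext_iff]
  have h13 : i1 ≠ i3 := by simp [hi1, hi3, Fin.ext_iff]
  have h23 : i2 ≠ i3 := by simp [hi2, hi3, Fin.ext_iff]
  have h06 : i0 ≠ i6 := by simp [hi0, hi6, Fin.ext_iff]
  have h26 : i2 ≠ i6 := by simp [hi2, hi6, Fin.ext_iff]
  by_cases h2 : (2 : F) = 0
  · -- characteristic two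
    have hneg1 : (-1 : F) = 1 := by
      have : (1 : F) + 1 = 0 := by rw [one_add_one_eq_two]; exact h2
      exact neg_eq_of_add_eq_zero_left this
    set a : GL (Fin n) F := tvU (Pi.single i0 1) (Pi.single i1 1) (single_dot_single h01) with ha
    set a' : GL (Fin n) F := tvU (Pi.single i2 1) (Pi.single i3 1) (single_dot_single h23)
      with ha'
    have haa : a * a = 1 := tvU_mul_self h2 _ _ _
    have ha'a' : a' * a' = 1 := tvU_mul_self h2 _ _ _
    have hXX' : vecMulVec (Pi.single i0 (1 : F) : Fin n → F) (Pi.single i1 1) *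
        vecMulVec (Pi.single i2 (1 : F) : Fin n → F) (Pi.single i3 1) = 0 := by
      rw [vecMulVec_mul_vecMulVec, single_dot_single (Ne.symm h12), zero_smul, vecMulVec_zero]
    have hX'X : vecMulVec (Pi.single i2 (1 : F) : Fin n → F) (Pi.single i3 1) *
        vecMulVec (Pi.single i0 (1 : F) : Fin n → F) (Pi.single i1 1) = 0 := by
      rw [vecMulVec_mul_vecMulVec, single_dot_single h03, zero_smul, vecMulVec_zero]
    have hcomm : a * a' = a' * a := by
      apply Units.ext
      rw [Units.val_mul, Units.val_mul, ha, ha', tvU_val, tvU_val, add_mul, one_mul, mul_add,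
        mul_one, hXX', add_mul, one_mul, mul_add, mul_one, hX'X]
      abel
    have ha₂val : ((a * a' : GL (Fin n) F) : Matrix (Fin n) (Fin n) F) - 1 =
        vecMulVec (Pi.single i0 (1 : F) : Fin n → F) (Pi.single i1 1) +
          vecMulVec (Pi.single i2 (1 : F) : Fin n → F) (Pi.single i3 1) := by
      rw [Units.val_mul, ha, ha', tvU_val, tvU_val, add_mul, one_mul, mul_add, mul_one, hXX']
      abel
    have haval : (a : Matrix (Fin n) (Fin n) F) - 1 =
        vecMulVec (Pi.single i0 (1 : F) : Fin n → F) (Pi.single i1 1) := by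
      rw [ha, tvU_val, add_sub_cancel_left]
    have ha₂a₂ : (a * a') * (a * a') = 1 := by
      calc (a * a') * (a * a') = a * (a' * a) * a' := by group
        _ = a * (a * a') * a' := by rw [hcomm]
        _ = (a * a) * (a' * a') := by group
        _ = 1 := by rw [haa, ha'a', mul_one]
    have hbb : (k * (a * a') * k⁻¹) * (k * (a * a') * k⁻¹) = 1 := by
      calc (k * (a * a') * k⁻¹) * (k * (a * a') * k⁻¹)
          = k * ((a * a') * (a * a')) * k⁻¹ := by group
        _ = 1 := by rw [ha₂a₂]; group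
    have haK : a ∈ K := tvU_mem hK.toR (ratV_single_one _) (ratV_single_one _) _
    have ha'K : a' ∈ K := tvU_mem hK.toR (ratV_single_one _) (ratV_single_one _) _
    have hbK : k * (a * a') * k⁻¹ ∈ K :=
      K.mul_mem (K.mul_mem hk (K.mul_mem haK ha'K)) (K.inv_mem hk)
    have hzp : Subgroup.zpowers (a * (k * (a * a') * k⁻¹)) ≤ K :=
      Subgroup.zpowers_le.mpr (K.mul_mem haK hbK)
    -- data for `prat_of_comm`
    have hd1 : ((a : Matrix (Fin n) (Fin n) F) - 1) *ᵥ (Pi.single i1 1 : Fin n → F) =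
        (1 : F) • Pi.single i0 1 := by
      rw [haval, vmv_mulVec, single_dotProduct, one_mul, Pi.single_eq_same]
    have hd2 : (Pi.single i6 1 : Fin n → F) ᵥ* ((a : Matrix (Fin n) (Fin n) F) - 1) = 0 := by
      rw [haval, vecMul_vmv, single_dot_single h06, zero_smul]
    have hd3 : (((a * a' : GL (Fin n) F) : Matrix (Fin n) (Fin n) F) - 1) *ᵥ
        (Pi.single i1 1 : Fin n → F) = (1 : F) • Pi.single i0 1 := by
      rw [ha₂val, add_mulVec, vmv_mulVec, vmv_mulVec, single_dotProduct, one_mul,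
        Pi.single_eq_same, single_dot_single h13, zero_smul, add_zero]
    have hd4 : (Pi.single i6 1 : Fin n → F) ᵥ*
        (((a * a' : GL (Fin n) F) : Matrix (Fin n) (Fin n) F) - 1) = 0 := by
      rw [ha₂val, vecMul_add, vecMul_vmv, vecMul_vmv, single_dot_single h06,
        single_dot_single h26, zero_smul, zero_smul, add_zero]
    rcases dihedral a (k * (a * a') * k⁻¹) 1 haa hbb (fun g => by rw [one_mul, mul_one])
      (one_mul 1) with ⟨g, hg, hconj⟩ | ⟨hε, -⟩ | ⟨z, hz, hz1, -, hz2, hza, hzb⟩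
    · have hconj' : g * a * g⁻¹ = k * (a * a') * k⁻¹ := by
        rcases hconj with h | h
        · exact h
        · rw [h, one_mul]
      have hconj2 : (k⁻¹ * g) * a * (k⁻¹ * g)⁻¹ = a * a' := by
        calc (k⁻¹ * g) * a * (k⁻¹ * g)⁻¹ = k⁻¹ * (g * a * g⁻¹) * k := by group
          _ = a * a' := by rw [hconj']; group
      have h1 := sub_one_conj hconj2
      rw [ha₂val, haval, Matrix.mul_vecMulVec, Matrix.vecMulVec_mul] at h1
      have e1 := congrFun (congrFun h1 i0) i1
      have e2 := congrFun (congrFun h1 i2) i3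
      have e3 := congrFun (congrFun h1 i0) i3
      simp only [Matrix.add_apply, vecMulVec_apply, Pi.single_eq_same,
        Pi.single_eq_of_ne h02, Pi.single_eq_of_ne (Ne.symm h02), Pi.single_eq_of_ne h13,
        Pi.single_eq_of_ne (Ne.symm h13), mul_one, mul_zero, zero_mul, add_zero, zero_add]
        at e1 e2 e3
      have hu : ((((k⁻¹ * g : GL (Fin n) F)) : Matrix (Fin n) (Fin n) F) *ᵥ
          (Pi.single i0 1 : Fin n → F)) i0 ≠ 0 := by
        intro h0
        rw [h0, zero_mul] at e1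
        exact one_ne_zero e1
      have hw : ((Pi.single i1 1 : Fin n → F) ᵥ*
          ((((k⁻¹ * g)⁻¹ : GL (Fin n) F)) : Matrix (Fin n) (Fin n) F)) i3 ≠ 0 := by
        intro h0
        rw [h0, mul_zero] at e2
        exact one_ne_zero e2
      exact mul_ne_zero hu hw e3.symm
    · exact hε rfl
    · have hzK : z ∈ K := hzp hz
      have hzH := prat_of_comm hK hn3 hzK hza one_ne_zero hd1 hd2
      have hz'K : k⁻¹ * z * k ∈ K := K.mul_mem (K.mul_mem (K.inv_mem hk) hzK) hk
      have hz'H := prat_of_comm hK hn3 hz'K (conj_comm hzb) one_ne_zero hd3 hd4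
      have hzm : (z : Matrix (Fin n) (Fin n) F) ≠ -1 := by
        intro h0
        apply hz1
        apply Units.ext
        rw [h0, Units.val_one]
        have : (-1 : Matrix (Fin n) (Fin n) F) = (-1 : F) • 1 := by simp
        rw [this, hneg1, one_smul]
      exact gamma hK hn3 hsq hk hknot hz2 hz1 hzm hzH hz'H
  · -- odd characteristic
    set S₂ : Finset (Fin n) := Finset.univ.filter (fun i => i.val < 2) with hS₂
    set S₄ : Finset (Fin n) := Finset.univ.filter (fun i => i.val < 4) with hS₄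
    have hc2 : S₂.card = 2 := by rw [hS₂, Fin.card_filter_val_lt]; omega
    have hc4 : S₄.card = 4 := by rw [hS₄, Fin.card_filter_val_lt]; omega
    have h0S₂ : i0 ∈ S₂ := by simp [hS₂, hi0]
    have h0S₄ : i0 ∈ S₄ := by simp [hS₄, hi0]
    have h6S₂ : i6 ∉ S₂ := by simp [hS₂, hi6]
    have h6S₄ : i6 ∉ S₄ := by simp [hS₄, hi6]
    set a : GL (Fin n) F := dS S₂ with ha
    set a₂ : GL (Fin n) F := dS S₄ with ha₂
    have haa : a * a = 1 := dS_mul_self _
    have ha₂a₂ : a₂ * a₂ = 1 := dS_mul_self _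
    have hbb : (k * a₂ * k⁻¹) * (k * a₂ * k⁻¹) = 1 := by
      calc (k * a₂ * k⁻¹) * (k * a₂ * k⁻¹) = k * (a₂ * a₂) * k⁻¹ := by group
        _ = 1 := by rw [ha₂a₂]; group
    have haK : a ∈ K := hK.toR.rat_mem _ (ratM_dS _) (by rw [ha, det_dS, hc2]; norm_num)
    have ha₂K : a₂ ∈ K := hK.toR.rat_mem _ (ratM_dS _) (by rw [ha₂, det_dS, hc4]; norm_num)
    have hbK : k * a₂ * k⁻¹ ∈ K := K.mul_mem (K.mul_mem hk ha₂K) (K.inv_mem hk)
    have hzp : Subgroup.zpowers (a * (k * a₂ * k⁻¹)) ≤ K :=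
      Subgroup.zpowers_le.mpr (K.mul_mem haK hbK)
    have hra : ((a : Matrix (Fin n) (Fin n) F) - 1).rank = 2 := by
      rw [ha, rank_dS_sub_one h2, hc2]
    have hra₂ : ((a₂ : Matrix (Fin n) (Fin n) F) - 1).rank = 4 := by
      rw [ha₂, rank_dS_sub_one h2, hc4]
    have hrna : (((-1 * a : GL (Fin n) F) : Matrix (Fin n) (Fin n) F) - 1).rank = n - 2 := by
      rw [ha, rank_neg_dS_sub_one h2, hc2, hcard]
    have hrna₂ : (((-1 * a₂ : GL (Fin n) F) : Matrix (Fin n) (Fin n) F) - 1).rank = n - 4 := by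
      rw [ha₂, rank_neg_dS_sub_one h2, hc4, hcard]
    have hm2 : (-2 : F) ≠ 0 := neg_ne_zero.mpr h2
    obtain ⟨hd1, hd2⟩ := dS_data (F := F) h0S₂ h6S₂
    obtain ⟨hd3, hd4⟩ := dS_data (F := F) h0S₄ h6S₄
    rcases dihedral a (k * a₂ * k⁻¹) (-1) haa hbb
      (fun g => by rw [neg_one_mul, mul_neg_one]) (by rw [neg_one_mul, neg_neg])
      with ⟨g, hg, hconj | hconj⟩ | ⟨-, z, hz, hconj⟩ | ⟨z, hz, hz1, hzε, hz2, hza, hzb⟩
    · have h1 := rank_sub_one_conj hconj
      have h2' := rank_sub_one_conj (g := k) (a := a₂) (b := k * a₂ * k⁻¹) rfl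
      rw [h2', hra₂, hra] at h1
      omega
    · have h1 := rank_sub_one_conj hconj
      have e : -1 * (k * a₂ * k⁻¹) = k * (-1 * a₂) * k⁻¹ := by
        rw [neg_one_mul, neg_one_mul, mul_neg, neg_mul]
      have h2' := rank_sub_one_conj (g := k) (a := -1 * a₂) (b := -1 * (k * a₂ * k⁻¹)) e.symm
      rw [h2', hrna₂, hra] at h1
      omega
    · have h1 := rank_sub_one_conj hconj
      rw [hrna, hra] at h1
      omega
    · have hzK : z ∈ K := hzp hz
      have hzH := prat_of_comm hK hn3 hzK hza hm2 hd1 hd2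
      have hz'K : k⁻¹ * z * k ∈ K := K.mul_mem (K.mul_mem (K.inv_mem hk) hzK) hk
      have hz'H := prat_of_comm hK hn3 hz'K (conj_comm hzb) hm2 hd3 hd4
      have hzm : (z : Matrix (Fin n) (Fin n) F) ≠ -1 := by
        intro h0
        apply hzε
        apply Units.ext
        rw [h0, Units.val_neg, Units.val_one]
      exact gamma hK hn3 hsq hk hknot hz2 hz1 hzm hzH hz'H

end Cfsg.Agent.Lib.Helper98_SubfInv
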