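import Mathlib
import Cfsg.Agent.Lib.Helper98_ExtDefs

/-!
# S5886 package `DET` (helper70, for helper98)

Determinants over `F` of `K`-transvections and `K`-dilations, via `LinearMap.det_restrictScalars`
and `LinearMap.transvection.det`.
-/

set_option autoImplicit false
set_option linter.unusedSectionVars false

open Cfsg.Agent.Lib.Helper98_ExtDefs

namespace Cfsg.Agent.Lib.Helper70_Ext_DET

variable {F K V : Type*} [Field F] [Field K] [Algebra F K] [AddCommGroup V] [Module F V]
  [Module K V] [IsScalarTower F K V] [Finite F] [Finite K] [Module.Finite K V]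

omit [Finite F] [Finite K] [Module.Finite K V] in
/-- the `F`-determinant of the restriction of scalars of a `K`-linear automorphism -/
theorem det_restrict (e : V ≃ₗ[K] V) :
    ((LinearEquiv.det (e.restrictScalars F) : Fˣ) : F) =
      Algebra.norm F (LinearMap.det (e : V →ₗ[K] V)) := by
  rw [LinearEquiv.coe_det, ← LinearMap.det_restrictScalars]
  rfl

/-- **DET** (S/M, ~200 lines). Determinants over `F` of `K`-transvections and `K`-dilations. -/
theorem DET_ktv (χ : V →ₗ[K] K) (w : V) (h : χ w = 0) :
    ∃ g : V ≃ₗ[F] V, (∀ x, g x = x + χ x • w) ∧ LinearEquiv.det g = 1 ∧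
      (∀ (k : K) (x : V), g (k • x) = k • g x) := by
  refine ⟨(LinearEquiv.transvection h).restrictScalars F, fun x => ?_, ?_, fun k x => ?_⟩
  · exact LinearEquiv.transvection.apply h x
  · apply Units.ext
    rw [det_restrict, LinearEquiv.transvection.coe_toLinearMap h, LinearMap.transvection.det, h,
      add_zero, map_one, Units.val_one]
  · exact (LinearEquiv.transvection h).map_smul k x

theorem DET_kdil (χ : V →ₗ[K] K) (w : V) (κ : K) (h : χ w = 1) (hκ : κ ≠ 0) :
    ∃ g : V ≃ₗ[F] V, (∀ x, g x = x + ((κ - 1) * χ x) • w) ∧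
      ((LinearEquiv.det g : Fˣ) : F) = Algebra.norm F κ ∧
      (∀ (k : K) (x : V), g (k • x) = k • g x) := by
  have hval : 1 + ((κ - 1) • χ) w = κ := by
    rw [LinearMap.smul_apply, h, smul_eq_mul, mul_one]; ring
  have hu : IsUnit (1 + ((κ - 1) • χ) w) := by
    rw [hval]; exact hκ.isUnit
  refine ⟨(LinearEquiv.dilatransvection hu).restrictScalars F, fun x => ?_, ?_, fun k x => ?_⟩
  · show LinearEquiv.dilatransvection hu x = _
    rw [LinearEquiv.dilatransvection.apply, LinearMap.smul_apply, smul_eq_mul]
  · rw [det_restrict, LinearEquiv.dilatransvection.coe_toLinearMap, LinearMap.transvection.det,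
      hval]
  · exact (LinearEquiv.dilatransvection hu).map_smul k x

end Cfsg.Agent.Lib.Helper70_Ext_DET
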