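import Mathlib
import Cfsg.Prelude.Def_GeometricClasses
import Cfsg.Agent.Lib.Helper94_Bridge
import Cfsg.Agent.Lib.Helper94_SLBridge
import Cfsg.Agent.Lib.Helper94_LinStab
import Cfsg.Agent.Lib.Helper94_SympSim
import Cfsg.Agent.Lib.Helper94_HermSim
import Cfsg.Agent.Lib.Helper94_Herm
import Cfsg.Agent.Lib.Helper98_BlockG
import Cfsg.Agent.Lib.Helper98_MonoTop
import Cfsg.Agent.Lib.Helper98_DecompStd
import Cfsg.Agent.Lib.Helper98_MonoG
import Cfsg.Agent.Lib.Helper98_SubfBase
import Cfsg.Agent.Lib.Helper98_SubfU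
import Cfsg.Agent.Lib.Helper98_SubfTS
import Cfsg.Agent.Lib.Helper98_SubfInv
import Cfsg.Agent.Lib.Helper29_MonoSmall
import Cfsg.Agent.Lib.Helper94_OrthBridge
import Cfsg.Agent.Lib.Helper94_OrthGenBridge
import Cfsg.Agent.Lib.Helper94_OrthC2Bridge
import Cfsg.Agent.Lib.Helper94_OrthSim
import Cfsg.Agent.Lib.Helper29_OrthSimSmall
import Cfsg.Agent.Lib.Helper97_TensMain
import Cfsg.Agent.Lib.Helper43_Tens_TP10a
import Cfsg.Agent.Lib.Helper70_Tens_TP10b
import Cfsg.Agent.S5886
import Cfsg.Agent.S5634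
import Cfsg.Agent.S5639

set_option autoImplicit false
open Cfsg

/-!
# Small-dimension versions of the generic `SL_n` maximality rows (helper29)

The proofs are those of the rows S5631 (helper94), S5634 (helper98), S5639 (helper98), S5642, S5643 (helper94),
copied verbatim with the hypothesis `13 ≤ n` replaced by what the libraries really need.  They feed the
per-dimension rows S5798 (SL6), S5837 (SL10), S5861 (SL12).
-/

namespace Cfsg.Agent.Lib.Helper29_SLGeo

section Subspace
open Cfsg.Agent.Lib.Helper94_Symp Cfsg.Agent.Lib.Helper94_Bridge Cfsg.Agent.Lib.Helper94_SLBridge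
  Cfsg.Agent.Lib.Helper94_LinStab

theorem subspace_max {F : Type*} [Field F] [Fintype F] (n : ℕ) (hn : 2 ≤ n) (W : Submodule F (Fin n → F)) (hW0 : W ≠ ⊥) (hW1 : W ≠ ⊤) : Cfsg.Geo.IsMaximalIn (Cfsg.Geo.specialLinear (Fin n) F) (Cfsg.Geo.subspaceStabilizer W ⊓ Cfsg.Geo.specialLinear (Fin n) F) := by
  have hnt : Nontrivial (Fin n) := Fin.nontrivial_iff_two_le.mpr (by omega)
  rw [subspaceStabilizer_eq, specialLinear_eq, ← Subgroup.comap_inf]
  apply isMaximalIn_comap
  exact maximal_stab_subspace W hW0 hW1 (slK (Fin n) F) transvection_mem_slK slK_le_of_transvections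

end Subspace

section Symp
open Cfsg.Agent.Lib.Helper94_Symp Cfsg.Agent.Lib.Helper94_Bridge Cfsg.Agent.Lib.Helper94_SLBridge
  Cfsg.Agent.Lib.Helper94_SympSim

theorem symp_max {F : Type*} [Field F] [Fintype F] (n : ℕ) (hn : 3 ≤ n) (f : (Fin n → F) → (Fin n → F) → F) (hf : Cfsg.Geo.IsSymplecticForm f) : Cfsg.Geo.IsMaximalIn (Cfsg.Geo.specialLinear (Fin n) F) (Cfsg.Geo.similarityGroup f ⊓ Cfsg.Geo.specialLinear (Fin n) F) := by
  -- the bilinear form
  let B : LinearMap.BilinForm F (Fin n → F) :=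
    LinearMap.mk₂ F f hf.bilinear.add_left (fun c x v => by rw [hf.bilinear.smul_left]; rfl)
      hf.bilinear.add_right (fun c x v => by rw [hf.bilinear.smul_right]; rfl)
  have hBf : ∀ u v, B u v = f u v := fun u v => rfl
  have hBalt : B.IsAlt := fun v => hf.alternating v
  have hBN : B.Nondegenerate := by
    constructor
    · intro x hx
      by_contra hx0
      obtain ⟨y, hy⟩ := (hf.nondegenerate x hx0).2
      exact hy (hx y)
    · intro y hy
      by_contra hy0
      obtain ⟨x, hx⟩ := (hf.nondegenerate y hy0).1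
      exact hx (hy x)
  have hnt : Nontrivial (Fin n) := Fin.nontrivial_iff_two_le.mpr (by omega)
  let S : Subgroup ((Fin n → F) ≃ₗ[F] (Fin n → F)) :=
    (Cfsg.Geo.similarityGroup f).comap (glEquiv (Fin n) F).symm.toMonoidHom
  have hSeq : Cfsg.Geo.similarityGroup f = S.comap (glEquiv (Fin n) F).toMonoidHom :=
    (comap_symm_comap (glEquiv (Fin n) F) _).symm
  rw [hSeq, specialLinear_eq, ← Subgroup.comap_inf]
  apply isMaximalIn_comap
  have hdim : 3 ≤ Module.finrank F (Fin n → F) := by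
    rw [Module.finrank_fintype_fun_eq_card, Fintype.card_fin]; omega
  apply maximal_sim B hBalt hBN hdim S (slK (Fin n) F)
  · intro g
    have key : ∀ u, (((glEquiv (Fin n) F).symm g : Matrix.GeneralLinearGroup (Fin n) F) :
        Matrix (Fin n) (Fin n) F).mulVec u = g u := by
      intro u
      rw [← glEquiv_apply, MulEquiv.apply_symm_apply]
    constructor
    · rintro ⟨c, hc⟩
      refine ⟨c, fun u v => ?_⟩
      have := hc u v
      simp only [MulEquiv.toMonoidHom_eq_coe, MonoidHom.coe_coe] at this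
      rw [key, key] at this
      exact this
    · rintro ⟨c, hc⟩
      refine ⟨c, fun u v => ?_⟩
      simp only [MulEquiv.toMonoidHom_eq_coe, MonoidHom.coe_coe]
      rw [key, key]
      exact hc u v
  · exact transvection_mem_slK
  · exact slK_le_of_transvections

end Symp

section Herm
open Cfsg.Agent.Lib.Helper94_Symp Cfsg.Agent.Lib.Helper94_Bridge Cfsg.Agent.Lib.Helper94_SLBridge
  Cfsg.Agent.Lib.Helper94_Herm Cfsg.Agent.Lib.Helper94_HermSim

theorem unit_max {F : Type*} [Field F] [Fintype F] (n : ℕ) (hn : 5 ≤ n) (σ : F ≃+* F) (f : (Fin n → F) → (Fin n → F) → F) (hf : Cfsg.Geo.IsUnitaryForm σ f) : Cfsg.Geo.IsMaximalIn (Cfsg.Geo.specialLinear (Fin n) F) (Cfsg.Geo.similarityGroup f ⊓ Cfsg.Geo.specialLinear (Fin n) F) := by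
  have hfr : ∀ v x y, f v (x + y) = f v x + f v y := by
    intro v x y
    rw [hf.herm v (x + y), hf.add_left, map_add, ← hf.herm, ← hf.herm]
  have hsr : ∀ (c : F) (v x : Fin n → F), f v (c • x) = σ c * f v x := by
    intro c v x
    rw [hf.herm v (c • x), hf.smul_left, map_mul, ← hf.herm]
  let B : (Fin n → F) →ₗ[F] (Fin n → F) →ₛₗ[(σ : F →+* F)] F :=
    LinearMap.mk₂'ₛₗ (RingHom.id F) (σ : F →+* F) f hf.add_left
      (fun c x v => by rw [hf.smul_left]; rfl) hfr (fun c v x => by rw [hsr]; rfl)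
  have hBf : ∀ u v, B u v = f u v := fun u v => rfl
  have hσ : Invol (σ : F →+* F) := by
    refine ⟨fun a => hf.involutive a, ?_⟩
    by_contra hcon
    push Not at hcon
    exact hf.ne_refl (RingEquiv.ext hcon)
  have hBh : IsHerm B := fun x y => hf.herm y x
  have hBN : NondegOn B ⊤ := by
    intro x _ hx0
    obtain ⟨y, hy⟩ := (hf.nondegenerate x hx0).2
    exact ⟨y, trivial, hy⟩
  have hnt : Nontrivial (Fin n) := Fin.nontrivial_iff_two_le.mpr (by omega)
  let S : Subgroup ((Fin n → F) ≃ₗ[F] (Fin n → F)) :=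
    (Cfsg.Geo.similarityGroup f).comap (glEquiv (Fin n) F).symm.toMonoidHom
  have hSeq : Cfsg.Geo.similarityGroup f = S.comap (glEquiv (Fin n) F).toMonoidHom :=
    (comap_symm_comap (glEquiv (Fin n) F) _).symm
  rw [hSeq, specialLinear_eq, ← Subgroup.comap_inf]
  apply isMaximalIn_comap
  have hdim : 5 ≤ Module.finrank F (Fin n → F) := by
    rw [Module.finrank_fintype_fun_eq_card, Fintype.card_fin]; omega
  apply maximal_usim hσ hBh hBN hdim S (slK (Fin n) F)
  · intro g
    have key : ∀ u, (((glEquiv (Fin n) F).symm g : Matrix.GeneralLinearGroup (Fin n) F) :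
        Matrix (Fin n) (Fin n) F).mulVec u = g u := by
      intro u
      rw [← glEquiv_apply, MulEquiv.apply_symm_apply]
    constructor
    · rintro ⟨c, hc⟩
      refine ⟨c, fun u v => ?_⟩
      have := hc u v
      simp only [MulEquiv.toMonoidHom_eq_coe, MonoidHom.coe_coe] at this
      rw [key, key] at this
      exact this
    · rintro ⟨c, hc⟩
      refine ⟨c, fun u v => ?_⟩
      simp only [MulEquiv.toMonoidHom_eq_coe, MonoidHom.coe_coe]
      rw [key, key]
      exact hc u v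
  · exact transvection_mem_slK
  · exact slK_le_of_transvections

end Herm

section Decomp
open Cfsg.Agent.Lib.Helper98_DecompStd Cfsg.Agent.Lib.Helper98_MonoBase
open Cfsg.Agent.S5634

theorem decomp_max {F : Type*} [Field F] [Fintype F] (n : ℕ) (hn : 6 ≤ n) {t : ℕ} (m : ℕ) (D : Fin t → Submodule F (Fin n → F)) (hD : Cfsg.Geo.IsMDecomposition m D) (h1 : m = 1 → 5 ≤ Fintype.card F ∧ (Fintype.card F = 5 → 11 ≤ n)) (h2 : m = 2 → 3 ≤ Fintype.card F ∧ 3 ≤ t) : Cfsg.Geo.IsMaximalIn (Cfsg.Geo.specialLinear (Fin n) F) (Cfsg.Geo.decompositionStabilizer D ⊓ Cfsg.Geo.specialLinear (Fin n) F) := by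
  have hB : ∀ h : GL (Fin t × Fin m) F,
      h ∈ (Cfsg.Geo.decompositionStabilizer D).map (Phi hD).toMonoidHom ↔
        BM (h : Matrix (Fin t × Fin m) (Fin t × Fin m) F) := by
    intro h
    constructor
    · rintro ⟨g, hg, rfl⟩
      exact (mem_stab_iff hD g).mp hg
    · intro hbm
      refine ⟨(Phi hD).symm h, (mem_stab_iff hD _).mpr ?_, ?_⟩
      · rw [MulEquiv.apply_symm_apply]; exact hbm
      · exact (Phi hD).apply_symm_apply h
  have hcard : t * m = n := Cfsg.Agent.Lib.Helper98_Decomp.card_eq hD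
  have hq2 : 2 ≤ Fintype.card F := Fintype.one_lt_card
  have key : Cfsg.Geo.IsMaximalIn (Cfsg.Geo.specialLinear (Fin t × Fin m) F)
      ((Cfsg.Geo.decompositionStabilizer D).map (Phi hD).toMonoidHom ⊓
        Cfsg.Geo.specialLinear (Fin t × Fin m) F) := by
    by_cases hm1 : m = 1
    · have hq : 5 ≤ Fintype.card F := (h1 hm1).1
      have hBmono : (Cfsg.Geo.decompositionStabilizer D).map (Phi hD).toMonoidHom =
          monoGL (Fin t × Fin m) F := by
        ext h
        rw [hB, mem_monoGL, bm_iff_mono hm1]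
      rw [hBmono]
      apply Cfsg.Agent.Lib.Helper29_MonoSmall.mono_maximal hq
      · rw [Fintype.card_prod, Fintype.card_fin, Fintype.card_fin, hcard]
        exact hn
      · intro h5
        rw [Fintype.card_prod, Fintype.card_fin, Fintype.card_fin, hcard]
        exact (h1 hm1).2 h5
    · have hm : 2 ≤ m := by
        have := hD.pos
        omega
      apply Cfsg.Agent.Lib.Helper98_BlockG.block_maximal _ hB hD.two_le hm
      intro hm2
      exact h2 hm2
  have := Cfsg.Agent.Lib.Helper94_Bridge.isMaximalIn_comap (Phi hD) _ _ key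
  convert this using 1
  · ext g
    rw [Subgroup.mem_comap, Cfsg.Agent.Lib.Helper98_MonoTop.mem_SL_iff,
      Cfsg.Agent.Lib.Helper98_MonoTop.mem_SL_iff]
    exact (congrArg (· = 1) (det_Phi hD g)).to_iff.symm
  · ext g
    rw [Subgroup.mem_comap, Subgroup.mem_inf, Subgroup.mem_inf, hB,
      Cfsg.Agent.Lib.Helper98_MonoTop.mem_SL_iff, Cfsg.Agent.Lib.Helper98_MonoTop.mem_SL_iff]
    have e1 := mem_stab_iff hD g
    have e2 := det_Phi hD g
    constructor
    · rintro ⟨ha, hb⟩
      exact ⟨e1.mp ha, by rw [← hb]; exact e2⟩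
    · rintro ⟨ha, hb⟩
      exact ⟨e1.mpr ha, by rw [← hb]; exact e2.symm⟩

end Decomp

section Subfield
open Cfsg.Agent.Lib.Helper98_MonoG Cfsg.Agent.Lib.Helper98_MonoTop
  Cfsg.Agent.Lib.Helper98_SubfBase Cfsg.Agent.Lib.Helper98_SubfU
  Cfsg.Agent.Lib.Helper98_SubfTS Cfsg.Agent.Lib.Helper98_SubfInv Cfsg.Agent.S5639

theorem subfield_max {F : Type*} [Field F] [Fintype F] (n : ℕ) (hn : 3 ≤ n) (F₀ : Subfield F) (r : ℕ) (hr : r.Prime) (hn7 : n ≤ r → 7 ≤ n) (hcard : Fintype.card F = Nat.card F₀ ^ r) (P : Matrix.GeneralLinearGroup (Fin n) F) : Cfsg.Geo.IsMaximalIn (Cfsg.Geo.specialLinear (Fin n) F) (Cfsg.Geo.subfieldSubgroup F₀ P ⊓ Cfsg.Geo.specialLinear (Fin n) F) := by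
  classical
  apply maximal_of_standard P
  have hfin : Module.finrank F₀ F = r := finrank_eq F₀ r hcard
  have hp : (Module.finrank F₀ F).Prime := by rw [hfin]; exact hr
  have hn3 : 3 ≤ Fintype.card (Fin n) := by rw [Fintype.card_fin]; omega
  set i0 : Fin n := ⟨0, by omega⟩ with hi0
  set i1 : Fin n := ⟨1, by omega⟩ with hi1
  have h01 : i0 ≠ i1 := by simp [hi0, hi1, Fin.ext_iff]
  constructor
  · refine lt_of_le_of_ne inf_le_right ?_
    intro heq
    -- an element of `F` outside `F₀`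
    obtain ⟨c, hc⟩ : ∃ c : F, c ∉ F₀ := by
      by_contra hcon
      push Not at hcon
      have htop : F₀ = ⊤ := by
        ext x
        simp [hcon x]
      have h1 : Nat.card F₀ = Fintype.card F := by
        rw [htop, ← Nat.card_eq_fintype_card]
        exact Nat.card_congr Subfield.topEquiv.toEquiv
      have h2 : 2 ≤ Nat.card F₀ := by
        rw [h1]
        exact Fintype.one_lt_card
      rw [← h1] at hcard
      have h3 : Nat.card F₀ ^ 1 = Nat.card F₀ ^ r := by rw [pow_one]; exact hcard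
      have := Nat.pow_right_injective h2 h3
      exact hr.one_lt.ne this
    have hdetE : ((1 : Matrix (Fin n) (Fin n) F) + Matrix.single i0 i1 c).det = 1 :=
      Matrix.det_transvection_of_ne i0 i1 h01 c
    set E : GL (Fin n) F := Matrix.GeneralLinearGroup.mkOfDetNeZero (1 + Matrix.single i0 i1 c)
      (by rw [hdetE]; exact one_ne_zero) with hE
    have hEv : (E : Matrix (Fin n) (Fin n) F) = 1 + Matrix.single i0 i1 c := rfl
    have hE1 : E ∈ Cfsg.Geo.specialLinear (Fin n) F := (mem_SL_iff _).mpr (by rw [hEv, hdetE])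
    rw [← heq] at hE1
    obtain ⟨ν, hν, hA⟩ := hE1.1
    have e1 := hA i0 i0
    have e2 := hA i0 i1
    rw [hEv, Matrix.smul_apply, Matrix.add_apply, Matrix.one_apply_eq, Matrix.single_apply,
      if_neg (fun h => h01 h.2.symm), add_zero, smul_eq_mul, mul_one] at e1
    rw [hEv, Matrix.smul_apply, Matrix.add_apply, Matrix.one_apply_ne h01, Matrix.single_apply,
      if_pos ⟨rfl, rfl⟩, zero_add, smul_eq_mul] at e2
    apply hc
    have := F₀.mul_mem (F₀.inv_mem e1) e2
    rwa [← mul_assoc, inv_mul_cancel₀ hν, one_mul] at this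
  · intro M hHM hMS
    have hR : HypR F₀ M :=
      ⟨fun g hg => (mem_SL_iff g).mp (hMS hg),
        fun g hrat hdet => hHM ⟨hrat.prat, (mem_SL_iff g).mpr hdet⟩⟩
    by_cases hirr : ∃ i j : Fin n, i ≠ j ∧ ∃ c : F, c ∉ F₀ ∧ InK M (1 + Matrix.single i j c)
    · right
      obtain ⟨i, j, hij, c, hc, hE⟩ := hirr
      exact le_antisymm hMS
        (fun g hg => sl_le_of_irrational hR hn3 hp hij hc hE g ((mem_SL_iff g).mp hg))
    · left
      have hS : HypS F₀ M := by
        refine ⟨hR, fun i j hij c hpc => ?_⟩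
        by_contra hc
        exact hirr ⟨i, j, hij, c, hc, pc_single.mp hpc⟩
      have hle : ∀ k ∈ M, PRat F₀ (k : Matrix (Fin n) (Fin n) F) := by
        by_cases hlt : Module.finrank F₀ F < n
        · intro k hk
          exact prat_of_finrank_lt hS hn3 (by rw [Fintype.card_fin]; exact hlt) hk
        · have h2 : Module.finrank F₀ F ≠ 2 := by omega
          exact le_PR (hn7 (by rw [← hfin]; omega)) hS (Or.inr (sq_mem F₀ hp h2))
      exact le_antisymm (fun g hg => ⟨hle g hg, hMS hg⟩) hHM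

end Subfield

section Quad

theorem quad_max {F : Type*} [Field F] [Fintype F] (n : ℕ) (hn : 9 ≤ n) (hodd : Odd (Fintype.card F)) (Q : (Fin n → F) → F) (hQ : Cfsg.Geo.IsNondegenerateQuadraticForm Q) : Cfsg.Geo.IsMaximalIn (Cfsg.Geo.specialLinear (Fin n) F) (Cfsg.Geo.quadSimilarityGroup Q ⊓ Cfsg.Geo.specialLinear (Fin n) F) := by
  open Cfsg.Agent.Lib.Helper94_Symp Cfsg.Agent.Lib.Helper94_Bridge
    Cfsg.Agent.Lib.Helper94_SLBridge Cfsg.Agent.Lib.Helper94_OrthBridge
    Cfsg.Agent.Lib.Helper94_OrthGenBridge Cfsg.Agent.Lib.Helper94_OrthC2Bridge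
    Cfsg.Agent.Lib.Helper94_OrthSim in
  have h2 : (2 : F) ≠ 0 := two_ne_zero_of_odd_card (Nat.odd_iff.mp hodd)
  have hnt : Nontrivial (Fin n) := Fin.nontrivial_iff_two_le.mpr (by omega)
  let S : Subgroup ((Fin n → F) ≃ₗ[F] (Fin n → F)) :=
    (Cfsg.Geo.quadSimilarityGroup Q).comap (glEquiv (Fin n) F).symm.toMonoidHom
  have hSeq : Cfsg.Geo.quadSimilarityGroup Q = S.comap (glEquiv (Fin n) F).toMonoidHom :=
    (comap_symm_comap (glEquiv (Fin n) F) _).symm
  rw [hSeq, specialLinear_eq, ← Subgroup.comap_inf]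
  apply isMaximalIn_comap
  have hdim : 9 ≤ Module.finrank F (Fin n → F) := by
    rw [Module.finrank_fintype_fun_eq_card, Fintype.card_fin]; exact hn
  apply Cfsg.Agent.Lib.Helper29_OrthSimSmall.maximal_osim (gen_hQs Q hQ) (gen_hQp Q hQ) h2 (gen_hN Q hQ) hdim S (slK (Fin n) F)
  · intro g
    have key : ∀ u, (((glEquiv (Fin n) F).symm g : Matrix.GeneralLinearGroup (Fin n) F) :
        Matrix (Fin n) (Fin n) F).mulVec u = g u := by
      intro u
      rw [← glEquiv_apply, MulEquiv.apply_symm_apply]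
    constructor
    · rintro ⟨c, hc⟩
      refine ⟨c, fun v => ?_⟩
      have := hc v
      simp only [MulEquiv.toMonoidHom_eq_coe, MonoidHom.coe_coe] at this
      rw [key] at this
      exact this
    · rintro ⟨c, hc⟩
      refine ⟨c, fun v => ?_⟩
      simp only [MulEquiv.toMonoidHom_eq_coe, MonoidHom.coe_coe]
      rw [key]
      exact hc v
  · exact transvection_mem_slK
  · exact slK_le_of_transvections

end Quad

section Tensor

/-- helper97's S5637 without the (unused) hypothesis `13 ≤ n`. -/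
theorem tensor_max {F : Type*} [Field F] [Fintype F] (n : ℕ) (n₁ n₂ : ℕ) (h1 : 2 ≤ n₁) (h12 : n₁ < n₂) (hex : ¬ (n₁ = 2 ∧ Fintype.card F = 2)) (e : Fin n ≃ Fin n₁ × Fin n₂) (P : Matrix.GeneralLinearGroup (Fin n) F) : Cfsg.Geo.IsMaximalIn (Cfsg.Geo.specialLinear (Fin n) F) (Cfsg.Geo.tensorProductSubgroup n₁ n₂ e P ⊓ Cfsg.Geo.specialLinear (Fin n) F) := by
  have ha : 2 ≤ Fintype.card (Fin n₁) := by rw [Fintype.card_fin]; exact h1
  have hab : Fintype.card (Fin n₁) < Fintype.card (Fin n₂) := by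
    rw [Fintype.card_fin, Fintype.card_fin]; exact h12
  have hb : 3 ≤ Fintype.card (Fin n₂) := by rw [Fintype.card_fin]; omega
  have hex' : ¬ (Fintype.card (Fin n₁) = 2 ∧ Nat.card F = 2) := by
    rw [Fintype.card_fin, Nat.card_eq_fintype_card]; exact hex
  refine Cfsg.Agent.Lib.Helper70_Tens_TP10b.bridge n n₁ n₂ e P ?_
    (Cfsg.Agent.Lib.Helper43_Tens_TP10a.exists_not_isKron ha hab)
  rintro M hdet hK ⟨g₀, hg₀, hns⟩
  exact Cfsg.Agent.Lib.Helper97_TensMain.main_abstract ha hab hb hex' M hdet hK g₀ hg₀ hns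

end Tensor

section Ext

/-- helper98's S5886, second half. -/
theorem ext_max {F : Type*} [Field F] [Fintype F] (n r : ℕ) (hr : r.Prime) (hrn : r ∣ n) (hlt : r < n)
    (K : Subalgebra F (Matrix (Fin n) (Fin n) F)) (hK : Cfsg.Geo.IsFieldSubalgebra r K) :
    Cfsg.Geo.IsMaximalIn (Cfsg.Geo.specialLinear (Fin n) F)
      (Cfsg.Geo.subalgebraNormalizer K ⊓ Cfsg.Geo.specialLinear (Fin n) F) :=
  (Cfsg.Agent.S5886.result n r hr hrn hlt K hK).2

end Ext

end Cfsg.Agent.Lib.Helper29_SLGeo
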