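import Mathlib
import Cfsg.Prelude.Def_GeometricClasses
import Cfsg.Agent.Lib.Helper29_SLGeo
import Cfsg.Agent.Lib.Helper29_MonoSmall6

set_option autoImplicit false
open Cfsg

/-!
`decomp_max6`: as `Helper29_SLGeo.decomp_max`, with the `q = 5` restriction on monomial groups
removed (uses helper98's `Helper98_MonoSL6.five_contra6` through `Helper29_MonoSmall6`).
-/

namespace Cfsg.Agent.Lib.Helper29_SLGeo6

section Decomp
open Cfsg.Agent.Lib.Helper98_DecompStd Cfsg.Agent.Lib.Helper98_MonoBase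
open Cfsg.Agent.S5634

theorem decomp_max6 {F : Type*} [Field F] [Fintype F] (n : ℕ) (hn : 6 ≤ n) {t : ℕ} (m : ℕ) (D : Fin t → Submodule F (Fin n → F)) (hD : Cfsg.Geo.IsMDecomposition m D) (h1 : m = 1 → 5 ≤ Fintype.card F) (h2 : m = 2 → 3 ≤ Fintype.card F ∧ 3 ≤ t) : Cfsg.Geo.IsMaximalIn (Cfsg.Geo.specialLinear (Fin n) F) (Cfsg.Geo.decompositionStabilizer D ⊓ Cfsg.Geo.specialLinear (Fin n) F) := by
  have hB : ∀ h : GL (Fin t × Fin m) F,
      h ∈ (Cfsg.Geo.decompositionStabilizer D).map (Phi hD).toMonoidHom ↔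
        BM (h : Matrix (Fin t × Fin m) (Fin t × Fin m) F) := by
    intro h
    constructor
    · rintro ⟨g, hg, rfl⟩
      exact (mem_stab_iff hD g).mp hg
    · intro hbm
      refine ⟨(Phi hD).symm h, (mem_stab_iff hD _).mpr ?_, ?_⟩
      · rw [MulEquiv.apply_symm_apply]; exact hbm
      · exact (Phi hD).apply_symm_apply h
  have hcard : t * m = n := Cfsg.Agent.Lib.Helper98_Decomp.card_eq hD
  have hq2 : 2 ≤ Fintype.card F := Fintype.one_lt_card
  have key : Cfsg.Geo.IsMaximalIn (Cfsg.Geo.specialLinear (Fin t × Fin m) F)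
      ((Cfsg.Geo.decompositionStabilizer D).map (Phi hD).toMonoidHom ⊓
        Cfsg.Geo.specialLinear (Fin t × Fin m) F) := by
    by_cases hm1 : m = 1
    · have hq : 5 ≤ Fintype.card F := h1 hm1
      have hBmono : (Cfsg.Geo.decompositionStabilizer D).map (Phi hD).toMonoidHom =
          monoGL (Fin t × Fin m) F := by
        ext h
        rw [hB, mem_monoGL, bm_iff_mono hm1]
      rw [hBmono]
      apply Cfsg.Agent.Lib.Helper29_MonoSmall6.mono_maximal6 hq
      rw [Fintype.card_prod, Fintype.card_fin, Fintype.card_fin, hcard]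
      exact hn
    · have hm : 2 ≤ m := by
        have := hD.pos
        omega
      apply Cfsg.Agent.Lib.Helper98_BlockG.block_maximal _ hB hD.two_le hm
      intro hm2
      exact h2 hm2
  have := Cfsg.Agent.Lib.Helper94_Bridge.isMaximalIn_comap (Phi hD) _ _ key
  convert this using 1
  · ext g
    rw [Subgroup.mem_comap, Cfsg.Agent.Lib.Helper98_MonoTop.mem_SL_iff,
      Cfsg.Agent.Lib.Helper98_MonoTop.mem_SL_iff]
    exact (congrArg (· = 1) (det_Phi hD g)).to_iff.symm
  · ext g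
    rw [Subgroup.mem_comap, Subgroup.mem_inf, Subgroup.mem_inf, hB,
      Cfsg.Agent.Lib.Helper98_MonoTop.mem_SL_iff, Cfsg.Agent.Lib.Helper98_MonoTop.mem_SL_iff]
    have e1 := mem_stab_iff hD g
    have e2 := det_Phi hD g
    constructor
    · rintro ⟨ha, hb⟩
      exact ⟨e1.mp ha, by rw [← hb]; exact e2⟩
    · rintro ⟨ha, hb⟩
      exact ⟨e1.mpr ha, by rw [← hb]; exact e2.symm⟩

end Decomp

end Cfsg.Agent.Lib.Helper29_SLGeo6
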