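import Mathlib
import Cfsg.Prelude.Def_GeometricClasses
import Cfsg.Prelude.Def_LieClassical
import Cfsg.Agent.Lib.Helper94_Bridge
import Cfsg.Agent.Lib.Helper94_HermBridge
import Cfsg.Agent.Lib.Helper94_SLBridge
import Cfsg.Agent.Lib.Helper29_HermNondeg6

set_option autoImplicit false
set_option linter.style.haveILetI false

/-!
# `SU_n(q)`: the stabiliser of a nondegenerate subspace `W` with `2 dim W < n` is maximal as soon as
`dim W + 4 ≤ n` (copy of helper67's `Helper67_SURowsGen.R5654.gen` with the relaxed abstract theorem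
`Helper29_HermNondeg6.maximal_stab_nondeg6`).  Gives conjunct (2) of su6 `S5801` (and the
`dim W = 1` part for su5).
-/

open Cfsg

namespace Cfsg.Agent.Lib.Helper29_SUNondeg6Geo

open Cfsg.Agent.Lib.Helper94_Symp Cfsg.Agent.Lib.Helper94_Bridge Cfsg.Agent.Lib.Helper94_SLBridge
  Cfsg.Agent.Lib.Helper94_Herm Cfsg.Agent.Lib.Helper94_HermBridge
  Cfsg.Agent.Lib.Helper29_HermNondeg6

theorem nondeg_gen6 {F : Type*} [Field F] [Fintype F] (n q : ℕ) (hF : Fintype.card F = q ^ 2)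
    (W : Submodule F (Fin n → F)) (hW0 : W ≠ ⊥)
    (hW : Cfsg.Geo.IsNondegenerateOn (Cfsg.hermForm n F q) W)
    (hdim : 2 * Module.finrank F W < n) (h4 : Module.finrank F W + 4 ≤ n) :
    Cfsg.Geo.IsMaximalIn (Cfsg.GU n F q ⊓ Cfsg.Geo.specialLinear (Fin n) F)
      (Cfsg.Geo.subspaceStabilizer W ⊓ (Cfsg.GU n F q ⊓ Cfsg.Geo.specialLinear (Fin n) F)) := by
  obtain ⟨σ, hσq, hσ⟩ := exists_frob hF
  have hnt : Nontrivial (Fin n) := Fin.nontrivial_iff_two_le.mpr (by omega)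
  rw [subspaceStabilizer_eq, GU_eq σ hσq, specialLinear_eq, ← Subgroup.comap_inf,
    ← Subgroup.comap_inf]
  apply isMaximalIn_comap
  have hfr : Module.finrank F (Fin n → F) = n := by simp
  exact maximal_stab_nondeg6 hσ (hermB_isHerm σ hσq hσ) (hermB_nondeg σ hσq) (slK (Fin n) F)
    transvection_mem_slK W hW0
    (fun x hx hx0 => by
      obtain ⟨y, hy, hxy⟩ := (hW x hx hx0).2
      exact ⟨y, hy, by rw [hermB_apply]; exact hxy⟩)
    (by rw [hfr]; exact hdim) (by rw [hfr]; exact h4)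

/-- conjunct (2) of su6 `S5801` -/
theorem su6_nondeg {F : Type*} [Field F] [Fintype F] (q : ℕ) (hF : Fintype.card F = q ^ 2) :
    ∀ W : Submodule F (Fin 6 → F), W ≠ ⊥ → Cfsg.Geo.IsNondegenerateOn (Cfsg.hermForm 6 F q) W →
      2 * Module.finrank F W < 6 →
      Cfsg.Geo.IsMaximalIn (Cfsg.GU 6 F q ⊓ Cfsg.Geo.specialLinear (Fin 6) F)
        (Cfsg.Geo.subspaceStabilizer W ⊓ (Cfsg.GU 6 F q ⊓ Cfsg.Geo.specialLinear (Fin 6) F)) :=
  fun W hW0 hW hdim => nondeg_gen6 6 q hF W hW0 hW hdim (by omega)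

end Cfsg.Agent.Lib.Helper29_SUNondeg6Geo
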