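import Cfsg.Agent.Lib.Helper22_U1402d
import Cfsg.Agent.Lib.Helper29_U1402L2
import Cfsg.Agent.Lib.Helper49_U1402L3
import Cfsg.Agent.Lib.Helper23_BG95I
import Cfsg.Agent.Lib.Helper34_U1402

set_option autoImplicit false
open Cfsg Subgroup

namespace Cfsg.Agent.Lib.Helper29_U1402Final

open Cfsg.Agent.Lib.Helper22_U1402 Cfsg.Agent.Lib.Helper22_Uniq

/-- BG 9.5 from (L1) in the spec shape. -/
theorem result_of_L1 {G : Type*} [Group G] [Finite G] (hG : Cfsg.IsMinSimpleOddOrder G)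
    (L1 : ∀ (p : ℕ) [Fact p.Prime]
      (A : Subgroup G), IsPGroup p A → IsMulCommutative A →
      ∀ (B : Subgroup G), B ≤ A → Cfsg.IsElementaryAbelian p B → Nat.card B = p ^ 3 →
      ¬ Cfsg.InUniqueMaximal A →
      ∀ (H : Subgroup G), IsCoatom H → A ≤ H → ∀ (s : ℕ) [Fact s.Prime], s ≠ p →
      ¬ Cfsg.PRankLE s 2 ↥(Cfsg.fittingOf H) →
      ∃ E₁ E₂ : Subgroup G, IsLine A B H s E₁ ∧ IsLine A B H s E₂ ∧
        ∀ M : Subgroup G, IsCoatom M → E₁ ≤ M → E₂ ≤ M → M = H)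
    (p : ℕ) [Fact p.Prime] (P : Sylow p G) (A : Subgroup G) (hA : Cfsg.IsSCN (P : Subgroup G) A)
    (hA3 : ¬ Cfsg.PRankLE p 2 ↥A) :
    Cfsg.InUniqueMaximal A := by
  have hpp : p.Prime := Fact.out
  have hAc : IsMulCommutative ↥A := isMulCommutative_of_isSCN hA
  have hAp : IsPGroup p ↥A := P.isPGroup'.to_le hA.1
  have hA1 : A ≠ ⊥ := ne_bot_of_not_pRankLE hpp hA3
  have hpG : p ∣ Nat.card G := dvd_card_of_ne_bot hAp hA1
  have hTH : Cfsg.TransitivityHypothesis A :=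
    Cfsg.Agent.S1396.result hG p hpG A hAp hAc
      (Or.inr ⟨P, hA, fun h => hA3 (pRankLE_mono hpp (by norm_num) h)⟩)
  obtain ⟨B, hBA, hBe, hB3⟩ := exists_elemAb_card_cube hA3
  obtain ⟨z, hzA, hzD, hz1, -⟩ := Cfsg.Agent.Lib.Helper23_BG95.exists_scn_focal hG P A hA hA1
  have hL1 : ¬ Cfsg.InUniqueMaximal A → ∀ (H : Subgroup G) (s : ℕ) [Fact s.Prime], IsCoatom H → A ≤ H → s ≠ p →
      ¬ Cfsg.PRankLE s 2 ↥(Cfsg.fittingOf H) →
      ∃ E₁ E₂ : Subgroup G, IsLine A B H s E₁ ∧ IsLine A B H s E₂ ∧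
        ∀ M : Subgroup G, IsCoatom M → E₁ ≤ M → E₂ ≤ M → M = H :=
    fun hAU H s _ hH hAH hsp hF => L1 p A hAp hAc B hBA hBe hB3 hAU H hH hAH s hsp hF
  have hL1' : ¬ Cfsg.InUniqueMaximal A → ∀ (H : Subgroup G) (s : ℕ), IsCoatom H → A ≤ H → s.Prime → s ≠ p →
      ¬ Cfsg.PRankLE s 2 ↥(Cfsg.fittingOf H) →
      ∃ E₁ E₂ : Subgroup G, IsLine A B H s E₁ ∧ IsLine A B H s E₂ ∧
        ∀ M : Subgroup G, IsCoatom M → E₁ ≤ M → E₂ ≤ M → M = H := by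
    intro hAU H s hH hAH hs hsp hF
    have : Fact s.Prime := ⟨hs⟩
    exact hL1 hAU H s hH hAH hsp hF
  refine assembly hG p P A hA hA3 B hBA hBe hB3 hL1 ?_ ?_ ?_
  · intro hAU hNA hInv H H' s s' hH hAH hs hsp hF hH' hAH' hs' hsp' hF'
    exact Cfsg.Agent.Lib.Helper29_U1402L2.alpha_unique hG p A hAp hAc B hBA hBe hB3 hAU z hzA hz1 hzD
      hNA hInv (hL1' hAU)
      (fun M hM hr q _ X B' h1 h2 h3 h4 h5 =>
        Cfsg.Agent.Lib.Helper34_U1402.Bt1 hG M hM hr q X B' h1 h2 h3 h4 h5)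
      H H' s s' hH hAH hs hsp hF hH' hAH' hs' hsp' hF'
  · intro hAU H s hH hAH hs hsp hF huniq q hq hqp hqs Q hQ hAQ
    exact Cfsg.Agent.Lib.Helper49_U1402L3.L3 hG p A hAp hAc B hBA hBe hB3 hAU H s hH hAH hs hsp hF
      (hL1' hAU H s hH hAH hs hsp hF) huniq q hq hqp hqs Q hQ hAQ
  · intro hbeta
    exact Cfsg.Agent.Lib.Helper23_BG95I.caseI hG p A hAp hAc hA3 hTH z hzA hz1 hzD hbeta

end Cfsg.Agent.Lib.Helper29_U1402Final
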