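import Mathlib
import Cfsg.Agent.Lib.Helper56_U320Defs

set_option autoImplicit false
set_option linter.unusedSimpArgs false

/-!
# S1903 market, package STEPB (helper29): left multiplication by `y2`, `y3` on the normal form
`y0^β0 y1^β1 y2^β2 y3^β3 c1^γ1 c2^γ2`.
-/

open Cfsg.Agent.Lib.Helper56_U320Defs

namespace Cfsg.Agent.Lib.Helper29_U320_STEPB

section
variable {G : Type*} [Group G]

theorem step23 (y0 y1 y2 y3 c1 c2 : G)
    (hc1 : ∀ g : G, c1 * g = g * c1) (hc2 : ∀ g : G, c2 * g = g * c2)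
    (c1sq : c1 * c1 = 1) (c2sq : c2 * c2 = 1)
    (q2 : y2 * y2 = c1 * c2) (q3 : y3 * y3 = c1 * c2)
    (h20 : y2 * y0 = y0 * y2 * c2) (h30 : y3 * y0 = y0 * y3 * c2)
    (h21 : y2 * y1 = y1 * y2 * c1) (h31 : y3 * y1 = y1 * y3 * c2) (h32 : y3 * y2 = y2 * y3 * c1)
    (t : Bits × Gam) :
    y2 * (xpw y0 y1 y2 y3 t.1 * cpw c1 c2 t.2) = xpw y0 y1 y2 y3 (st2 t).1 * cpw c1 c2 (st2 t).2 ∧
    y3 * (xpw y0 y1 y2 y3 t.1 * cpw c1 c2 t.2) = xpw y0 y1 y2 y3 (st3 t).1 * cpw c1 c2 (st3 t).2 := by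
  have e20 : ∀ r, y2 * (y0 * r) = y0 * (y2 * (c2 * r)) := fun r => by
    rw [← mul_assoc, h20]; simp only [mul_assoc]
  have e21 : ∀ r, y2 * (y1 * r) = y1 * (y2 * (c1 * r)) := fun r => by
    rw [← mul_assoc, h21]; simp only [mul_assoc]
  have e30 : ∀ r, y3 * (y0 * r) = y0 * (y3 * (c2 * r)) := fun r => by
    rw [← mul_assoc, h30]; simp only [mul_assoc]
  have e31 : ∀ r, y3 * (y1 * r) = y1 * (y3 * (c2 * r)) := fun r => by
    rw [← mul_assoc, h31]; simp only [mul_assoc]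
  have e32 : ∀ r, y3 * (y2 * r) = y2 * (y3 * (c1 * r)) := fun r => by
    rw [← mul_assoc, h32]; simp only [mul_assoc]
  have e22 : ∀ r, y2 * (y2 * r) = c1 * (c2 * r) := fun r => by
    rw [← mul_assoc, q2]; simp only [mul_assoc]
  have e33 : ∀ r, y3 * (y3 * r) = c1 * (c2 * r) := fun r => by
    rw [← mul_assoc, q3]; simp only [mul_assoc]
  have k1 : ∀ g r, c1 * (g * r) = g * (c1 * r) := fun g r => by
    rw [← mul_assoc, hc1 g, mul_assoc]
  have k2 : ∀ g r, c2 * (g * r) = g * (c2 * r) := fun g r => by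
    rw [← mul_assoc, hc2 g, mul_assoc]
  have k10 := k1 y0
  have k11 := k1 y1
  have k12 := k1 y2
  have k13 := k1 y3
  have k20 := k2 y0
  have k21 := k2 y1
  have k22 := k2 y2
  have k23 := k2 y3
  have k2c := k2 c1
  have s1 : ∀ r, c1 * (c1 * r) = r := fun r => by rw [← mul_assoc, c1sq, one_mul]
  have s2 : ∀ r, c2 * (c2 * r) = r := fun r => by rw [← mul_assoc, c2sq, one_mul]
  suffices H : ∀ r : G,
      y2 * (xpw y0 y1 y2 y3 t.1 * cpw c1 c2 t.2) * r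
        = xpw y0 y1 y2 y3 (st2 t).1 * cpw c1 c2 (st2 t).2 * r ∧
      y3 * (xpw y0 y1 y2 y3 t.1 * cpw c1 c2 t.2) * r
        = xpw y0 y1 y2 y3 (st3 t).1 * cpw c1 c2 (st3 t).2 * r by
    have := H 1
    simpa only [mul_one] using this
  intro r
  obtain ⟨⟨b0, b1, b2, b3⟩, ⟨g1, g2⟩⟩ := t
  cases b0 <;> cases b1 <;> cases b2 <;> cases b3 <;> cases g1 <;> cases g2 <;>
    simp only [xpw, cpw, st2, st3, pw_true, pw_false, Bool.not_true, Bool.not_false, Bool.xor_true,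
      Bool.xor_false, Bool.true_xor, Bool.false_xor, mul_assoc, one_mul, mul_one,
      e20, e21, e30, e31, e32, e22, e33, k10, k11, k12, k13, k20, k21, k22, k23, k2c, s1, s2,
      and_self]
end

end Cfsg.Agent.Lib.Helper29_U320_STEPB
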