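import Mathlib
import Cfsg.Agent.Lib.Helper39_U4Defs
import Cfsg.Agent.Lib.Helper13_SUGen
import Cfsg.Agent.Lib.Helper94_HermTrans
import Cfsg.Agent.Lib.Helper94_HermWitt

/-!
# S2150 package G-GEN (helper29): generation of `SUg B` by the conjugates of a root group,
transitivity on nonzero isotropic vectors, normality of `Xg B u` in `Pg B u`.
-/

set_option autoImplicit false

namespace Cfsg.Agent.Lib.Helper29_U4_GGEN

open Module Cfsg.Agent.Lib.Helper94_Symp Cfsg.Agent.Lib.Helper94_Herm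
  Cfsg.Agent.Lib.Helper94_HermEich Cfsg.Agent.Lib.Helper94_HermOrth
  Cfsg.Agent.Lib.Helper13_SUGen Cfsg.Agent.Lib.Helper39_U4Defs
  Cfsg.Agent.Lib.Helper94_HermTrans Cfsg.Agent.Lib.Helper94_HermWitt

variable {F V : Type*} [Field F] [AddCommGroup V] [Module F V] {σ : F →+* F}
  {B : V →ₗ[F] V →ₛₗ[σ] F}

/-- the transvection group lies in `SUg B` -/
lemma tvGroup_le_SUg (hB : IsHerm B) (U : Submodule F V) : tvGroup B U ≤ SUg B := by
  intro t ht
  exact ⟨tvGroup_le_uG hB U ht, MonoidHom.mem_ker.mpr (det_tvGroup ht)⟩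

/-- a point stabilising isometry scales the vector -/
lemma exists_smul_of_mem_stab {u : V} {p : V ≃ₗ[F] V}
    (hp : p ∈ stab (Submodule.span F {u})) : ∃ a : F, p u = a • u := by
  have h1 : p u ∈ Submodule.span F {u} :=
    (mem_stab.mp hp u).mp (Submodule.mem_span_singleton_self u)
  obtain ⟨a, ha⟩ := Submodule.mem_span_singleton.mp h1
  exact ⟨a, ha.symm⟩

/-- conjugation by an isometry stabilising the point `F u` normalises the root group -/
lemma conj_mem_Xg (hσ : Invol σ) {u : V} {p : V ≃ₗ[F] V} (hpU : p ∈ uG B)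
    (hp : p ∈ stab (Submodule.span F {u})) {x : V ≃ₗ[F] V} (hx : x ∈ Xg B u) :
    p * x * p⁻¹ ∈ Xg B u := by
  obtain ⟨a, ha⟩ := exists_smul_of_mem_stab hp
  unfold Xg at hx
  induction hx using Subgroup.closure_induction with
  | mem y hy =>
    obtain ⟨c, hc, rfl⟩ := hy
    rw [conj_utv hpU, ha, utv_smul]
    refine Subgroup.subset_closure ⟨a * σ a * c, ?_, rfl⟩
    rw [map_mul, map_mul, hc, hσ.invol]
    ring
  | one => simp
  | mul y z _ _ hy hz =>
    have : p * (y * z) * p⁻¹ = (p * y * p⁻¹) * (p * z * p⁻¹) := by group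
    rw [this]
    exact mul_mem hy hz
  | inv y _ hy =>
    have : p * y⁻¹ * p⁻¹ = (p * y * p⁻¹)⁻¹ := by group
    rw [this]
    exact inv_mem hy

/-- the root group lies in the point stabiliser -/
lemma Xg_le_Pg [FiniteDimensional F V] (hB : IsHerm B) (u : V) : Xg B u ≤ Pg B u := by
  unfold Xg
  rw [Subgroup.closure_le]
  rintro g ⟨c, hc, rfl⟩
  refine ⟨⟨utv_mem_uG hB u hc, MonoidHom.mem_ker.mpr (det_utv u c)⟩, ?_⟩
  apply mem_stab_of_forall_mem
  intro v hv
  obtain ⟨a, rfl⟩ := Submodule.mem_span_singleton.mp hv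
  rw [map_smul, utv_self]
  exact Submodule.smul_mem _ _ (Submodule.mem_span_singleton_self u)

variable [Finite F] [FiniteDimensional F V]

/-- G-GEN: a subgroup containing all `SUg`-conjugates of a root group contains `SUg B`;
and `SUg B` is transitive on nonzero isotropic vectors. -/
theorem gen_conj {q : ℕ} (Hy : U4Hyp B q) {u : V} (hu0 : u ≠ 0) (hu : B u u = 0) :
    (∀ K : Subgroup (V ≃ₗ[F] V), (∀ g ∈ SUg B, ∀ x ∈ Xg B u, g * x * g⁻¹ ∈ K) → SUg B ≤ K) ∧
    (∀ v : V, v ≠ 0 → B v v = 0 → ∃ g ∈ SUg B, g u = v) ∧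
    (∀ p ∈ Pg B u, ∀ x ∈ Xg B u, p * x * p⁻¹ ∈ Xg B u) ∧ Xg B u ≤ Pg B u ∧ Pg B u ≤ SUg B := by
  have hσ := Hy.hσ
  have hB := Hy.hB
  have hN := Hy.hN
  have h4 := Hy.h4
  have htop : finrank F (⊤ : Submodule F V) = finrank F V := finrank_top F V
  have htrans : ∀ v : V, v ≠ 0 → B v v = 0 → ∃ g ∈ SUg B, g u = v := by
    intro v hv0 hv
    obtain ⟨t, ht, htu⟩ := exists_tv_iso hσ hB hN (by omega) (Submodule.mem_top (x := u))
      (Submodule.mem_top (x := v)) hu0 hv0 hu hv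
    exact ⟨t, tvGroup_le_SUg hB ⊤ ht, htu⟩
  refine ⟨?_, htrans, ?_, Xg_le_Pg hB u, inf_le_left⟩
  · intro K hK g hg
    have hle : tvGroup B ⊤ ≤ K := by
      apply tvGroup_le
      intro a _ ha c hc
      by_cases ha0 : a = 0
      · subst ha0
        have : utv B (0 : V) c = 1 := by
          ext z
          rw [utv_apply B ha]
          simp
        rw [this]
        exact K.one_mem
      · obtain ⟨g, hg, hga⟩ := htrans a ha0 ha
        have h1 := hK g hg (utv B u c) (Subgroup.subset_closure ⟨c, hc, rfl⟩)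
        rwa [conj_utv hg.1, hga] at h1
    exact hle (mem_tvGroup_of_four_le hσ hB hN (by omega) hg.1 (MonoidHom.mem_ker.mp hg.2))
  · intro p hp x hx
    exact conj_mem_Xg hσ hp.1.1 hp.2 hx

end Cfsg.Agent.Lib.Helper29_U4_GGEN
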