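import Mathlib
import Cfsg.Agent.Lib.Helper94_Herm
import Cfsg.Agent.Lib.Helper94_HermEich
import Cfsg.Agent.Lib.Helper94_HermPara
import Cfsg.Agent.Lib.Helper13_SUGen

/-!
# Chain bases of a hermitian space and the Eichler calculus (helper83)

A *chain basis* of a hermitian space of dimension `2m+1` is a basis `b 0, …, b (2m)` with
antidiagonal Gram matrix: `B (b i) (b j) = 1` if `i + j = 2m` and `0` otherwise.  It comes with
the flag `Fl k` (the span of `b 0, …, b (k-1)`, described by orthogonality conditions).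

We also collect the calculus of the Eichler elements `eich B w y c` with a fixed isotropic
vector `w`: additivity, inverses, commutators, conjugation, and the predicate `InQ H w y`
(“some Eichler element with isotropic vector `w` and vector `y` lies in the subgroup `H`”).
-/

set_option autoImplicit false
set_option linter.unusedSectionVars false
set_option linter.unusedVariables false
set_option linter.unusedSimpArgs false

namespace Cfsg.Agent.Lib.Helper83_SUChain

open Module Cfsg.Agent.Lib.Helper94_Herm Cfsg.Agent.Lib.Helper94_HermEich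
  Cfsg.Agent.Lib.Helper94_HermPara Cfsg.Agent.Lib.Helper13_SUGen

variable {F V : Type*} [Field F] [AddCommGroup V] [Module F V]
variable {σ : F →+* F} {B : V →ₗ[F] V →ₛₗ[σ] F}

/-! ### Chain bases -/

/-- a basis `b 0, …, b (2m)` with antidiagonal Gram matrix -/
structure Chain (B : V →ₗ[F] V →ₛₗ[σ] F) (m : ℕ) (b : ℕ → V) : Prop where
  gram : ∀ i j, i ≤ 2 * m → j ≤ 2 * m → B (b i) (b j) = if i + j = 2 * m then 1 else 0
  expand : ∀ x : V, x = ∑ i ∈ Finset.range (2 * m + 1), B x (b (2 * m - i)) • b i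

namespace Chain

variable {m : ℕ} {b : ℕ → V} (hb : Chain B m b)

include hb

theorem pair {i j : ℕ} (hi : i ≤ 2 * m) (hij : i + j = 2 * m) : B (b i) (b j) = 1 := by
  rw [hb.gram i j hi (by omega), if_pos hij]

theorem orth {i j : ℕ} (hi : i ≤ 2 * m) (hj : j ≤ 2 * m) (hij : i + j ≠ 2 * m) :
    B (b i) (b j) = 0 := by
  rw [hb.gram i j hi hj, if_neg hij]

theorem iso {i : ℕ} (hi : i ≤ 2 * m) (him : i ≠ m) : B (b i) (b i) = 0 :=
  hb.orth hi hi (by omega)

theorem mid : B (b m) (b m) = 1 := hb.pair (by omega) (by omega)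

/-- a vector orthogonal to the whole chain is zero -/
theorem eq_zero {x : V} (h : ∀ j, j ≤ 2 * m → B x (b j) = 0) : x = 0 := by
  rw [hb.expand x]
  apply Finset.sum_eq_zero
  intro i _
  rw [h (2 * m - i) (by omega), zero_smul]

end Chain

/-- the flag: `Fl b m k` is the span of `b 0, …, b (k-1)`, cut out by orthogonality -/
def Fl (B : V →ₗ[F] V →ₛₗ[σ] F) (b : ℕ → V) (m k : ℕ) : Submodule F V where
  carrier := {x | ∀ j, j + k ≤ 2 * m → B x (b j) = 0}
  add_mem' := by
    intro x y hx hy j hj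
    rw [map_add, LinearMap.add_apply, hx j hj, hy j hj, add_zero]
  zero_mem' := by
    intro j _
    rw [map_zero, LinearMap.zero_apply]
  smul_mem' := by
    intro c x hx j hj
    rw [map_smul, LinearMap.smul_apply, hx j hj, smul_zero]

theorem mem_Fl {b : ℕ → V} {m k : ℕ} {x : V} :
    x ∈ Fl B b m k ↔ ∀ j, j + k ≤ 2 * m → B x (b j) = 0 := Iff.rfl

theorem Fl_mono {b : ℕ → V} {m k l : ℕ} (h : k ≤ l) : Fl B b m k ≤ Fl B b m l := by
  intro x hx j hj
  exact hx j (by omega)

namespace Chain

variable {m : ℕ} {b : ℕ → V} (hb : Chain B m b)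

include hb

theorem Fl_zero : Fl B b m 0 = ⊥ := by
  rw [eq_bot_iff]
  intro x hx
  rw [Submodule.mem_bot]
  exact hb.eq_zero (fun j hj => hx j (by omega))

theorem mem_Fl_basis {i k : ℕ} (hi : i ≤ 2 * m) (hik : i < k) : b i ∈ Fl B b m k := by
  intro j hj
  exact hb.orth hi (by omega) (by omega)

/-- subtracting the top coefficient lowers the flag index -/
theorem sub_top_mem {k : ℕ} (hk : k ≤ 2 * m) {x : V} (hx : x ∈ Fl B b m (k + 1)) :
    x - B x (b (2 * m - k)) • b k ∈ Fl B b m k := by
  intro j hj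
  rw [map_sub, LinearMap.sub_apply, map_smul, LinearMap.smul_apply, smul_eq_mul]
  by_cases hjk : j + k = 2 * m
  · have : j = 2 * m - k := by omega
    rw [this, hb.pair hk (by omega), mul_one, sub_self]
  · rw [hx j (by omega), hb.orth hk (by omega) (by omega), mul_zero, sub_zero]

theorem mem_Fl_of_top {k : ℕ} (hk : k ≤ 2 * m) {x : V} (hx : x ∈ Fl B b m (k + 1))
    (h0 : B x (b (2 * m - k)) = 0) : x ∈ Fl B b m k := by
  have := hb.sub_top_mem hk hx
  rwa [h0, zero_smul, sub_zero] at this

end Chain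

/-! ### Flag-compatible operators -/

/-- `N` lowers the flag by one step, multiplying the top coefficient by `c k` -/
structure Lowers (B : V →ₗ[F] V →ₛₗ[σ] F) (b : ℕ → V) (m : ℕ) (N : V →ₗ[F] V) (c : ℕ → F) :
    Prop where
  zero : N (b 0) = 0
  mem : ∀ i, 1 ≤ i → i ≤ 2 * m → N (b i) ∈ Fl B b m i
  top : ∀ i, 1 ≤ i → i ≤ 2 * m → B (N (b i)) (b (2 * m + 1 - i)) = c i

namespace Lowers

variable {m : ℕ} {b : ℕ → V} (hb : Chain B m b) {N : V →ₗ[F] V} {c : ℕ → F}
  (hN : Lowers B b m N c)

include hb hN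

theorem map_mem : ∀ k, k ≤ 2 * m → ∀ x ∈ Fl B b m (k + 1),
    N x ∈ Fl B b m k ∧ (1 ≤ k → B (N x) (b (2 * m + 1 - k)) = c k * B x (b (2 * m - k))) := by
  intro k
  induction k with
  | zero =>
    intro _ x hx
    have h0 := hb.sub_top_mem (k := 0) (by omega) hx
    rw [hb.Fl_zero, Submodule.mem_bot, sub_eq_zero] at h0
    constructor
    · rw [h0, map_smul, hN.zero, smul_zero]
      exact Submodule.zero_mem _
    · intro h; omega
  | succ k ih =>
    intro hk x hx
    have hk' : k ≤ 2 * m := by omega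
    set x' := x - B x (b (2 * m - (k + 1))) • b (k + 1) with hx'
    have hx'mem : x' ∈ Fl B b m (k + 1) := hb.sub_top_mem hk hx
    obtain ⟨h1, h2⟩ := ih hk' x' hx'mem
    have hxe : x = x' + B x (b (2 * m - (k + 1))) • b (k + 1) := by rw [hx']; abel
    have hNx : N x = N x' + B x (b (2 * m - (k + 1))) • N (b (k + 1)) := by
      conv_lhs => rw [hxe]
      rw [map_add, map_smul]
    constructor
    · rw [hNx]
      exact Submodule.add_mem _ (Fl_mono (by omega) h1)
        (Submodule.smul_mem _ _ (hN.mem (k + 1) (by omega) hk))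
    · intro _
      rw [hNx, map_add, LinearMap.add_apply, map_smul, LinearMap.smul_apply, smul_eq_mul,
        hN.top (k + 1) (by omega) hk, h1 (2 * m + 1 - (k + 1)) (by omega), zero_add, mul_comm]

theorem map_mem' {k : ℕ} (hk : k ≤ 2 * m) {x : V} (hx : x ∈ Fl B b m (k + 1)) :
    N x ∈ Fl B b m k := (hN.map_mem hb k hk x hx).1

theorem map_top {k : ℕ} (hk1 : 1 ≤ k) (hk : k ≤ 2 * m) {x : V} (hx : x ∈ Fl B b m (k + 1)) :
    B (N x) (b (2 * m + 1 - k)) = c k * B x (b (2 * m - k)) := (hN.map_mem hb k hk x hx).2 hk1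

/-- **cyclicity**: an `N`-stable subspace containing a vector of `Fl (k+1)` with nonzero top
coefficient contains `Fl (k+1)` -/
theorem cyclic (hc : ∀ i, 1 ≤ i → i ≤ 2 * m → c i ≠ 0) (M : Submodule F V)
    (hM : ∀ x ∈ M, N x ∈ M) : ∀ k, k ≤ 2 * m → ∀ x ∈ M, x ∈ Fl B b m (k + 1) →
      B x (b (2 * m - k)) ≠ 0 → Fl B b m (k + 1) ≤ M := by
  intro k
  induction k with
  | zero =>
    intro _ x hxM hx htop y hy
    have h0 := hb.sub_top_mem (k := 0) (by omega) hx
    rw [hb.Fl_zero, Submodule.mem_bot, sub_eq_zero] at h0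
    have h1 := hb.sub_top_mem (k := 0) (by omega) hy
    rw [hb.Fl_zero, Submodule.mem_bot, sub_eq_zero] at h1
    have hb0 : b 0 ∈ M := by
      obtain ⟨κ, hκ⟩ : ∃ κ, κ = B x (b (2 * m - 0)) := ⟨_, rfl⟩
      rw [← hκ] at h0 htop
      have : b 0 = κ⁻¹ • x := by
        rw [h0, smul_smul, inv_mul_cancel₀ htop, one_smul]
      rw [this]
      exact M.smul_mem _ hxM
    rw [h1]
    exact M.smul_mem _ hb0
  | succ k ih =>
    intro hk x hxM hx htop y hy
    have hk' : k ≤ 2 * m := by omega
    have hNx : N x ∈ Fl B b m (k + 1) := hN.map_mem' hb hk hx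
    have hNtop : B (N x) (b (2 * m - k)) ≠ 0 := by
      have := hN.map_top hb (by omega) hk hx
      have e : 2 * m + 1 - (k + 1) = 2 * m - k := by omega
      rw [e] at this
      rw [this]
      exact mul_ne_zero (hc (k + 1) (by omega) hk) htop
    have hle := ih hk' (N x) (hM x hxM) hNx hNtop
    set t := B y (b (2 * m - (k + 1))) * (B x (b (2 * m - (k + 1))))⁻¹ with ht
    have hy' : y - t • x ∈ Fl B b m (k + 1) := by
      apply hb.mem_Fl_of_top hk (Submodule.sub_mem _ hy (Submodule.smul_mem _ _ hx))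
      rw [map_sub, LinearMap.sub_apply, map_smul, LinearMap.smul_apply, smul_eq_mul, ht,
        mul_assoc, inv_mul_cancel₀ htop, mul_one, sub_self]
    have : y = (y - t • x) + t • x := by abel
    rw [this]
    exact M.add_mem (hle hy') (M.smul_mem _ hxM)

/-- iterates of `N` -/
theorem pow_mem : ∀ j k, j ≤ k + 1 → k ≤ 2 * m → ∀ x ∈ Fl B b m (k + 1),
    (N ^ j) x ∈ Fl B b m (k + 1 - j) := by
  intro j
  induction j with
  | zero =>
    intro k _ _ x hx
    simpa using hx
  | succ j ih =>
    intro k hj hk x hx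
    have h1 := ih k (by omega) hk x hx
    rw [pow_succ', Module.End.mul_apply]
    have e : k + 1 - j = (k - j) + 1 := by omega
    rw [e] at h1
    have := hN.map_mem' hb (k := k - j) (by omega) h1
    have e2 : k + 1 - (j + 1) = k - j := by omega
    rw [e2]
    exact this

theorem pow_top (hc : ∀ i, 1 ≤ i → i ≤ 2 * m → c i ≠ 0) : ∀ j k, j ≤ k → k ≤ 2 * m →
    ∀ x ∈ Fl B b m (k + 1), B x (b (2 * m - k)) ≠ 0 →
      B ((N ^ j) x) (b (2 * m - (k - j))) ≠ 0 := by
  intro j
  induction j with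
  | zero =>
    intro k _ _ x _ hx
    simpa using hx
  | succ j ih =>
    intro k hj hk x hx htop
    have h1 := ih k (by omega) hk x hx htop
    have h2 := hN.pow_mem hb j k (by omega) hk x hx
    rw [pow_succ', Module.End.mul_apply]
    have e : k + 1 - j = (k - j) + 1 := by omega
    rw [e] at h2
    have h3 := hN.map_top hb (k := k - j) (by omega) (by omega) h2
    have e2 : 2 * m + 1 - (k - j) = 2 * m - (k - (j + 1)) := by omega
    rw [e2] at h3
    rw [h3]
    exact mul_ne_zero (hc (k - j) (by omega) (by omega)) h1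

/-- `N` is nilpotent of exact order `2m+1` -/
theorem pow_eq_zero : N ^ (2 * m + 1) = 0 := by
  apply LinearMap.ext
  intro x
  have hx : x ∈ Fl B b m (2 * m + 1) := by
    intro j hj; omega
  have := hN.pow_mem hb (2 * m + 1) (2 * m) (by omega) (by omega) x hx
  rw [Nat.sub_self, hb.Fl_zero, Submodule.mem_bot] at this
  rw [this, LinearMap.zero_apply]

theorem pow_ne_zero (hc : ∀ i, 1 ≤ i → i ≤ 2 * m → c i ≠ 0) : N ^ (2 * m) ≠ 0 := by
  intro h0
  have hx : b (2 * m) ∈ Fl B b m (2 * m + 1) := by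
    intro j hj; omega
  have htop : B (b (2 * m)) (b (2 * m - 2 * m)) ≠ 0 := by
    rw [hb.pair (by omega) (by omega)]
    exact one_ne_zero
  have := hN.pow_top hb hc (2 * m) (2 * m) (by omega) (by omega) (b (2 * m)) hx htop
  rw [h0, LinearMap.zero_apply, map_zero, LinearMap.zero_apply] at this
  exact this rfl

end Lowers

end Cfsg.Agent.Lib.Helper83_SUChain
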