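import Mathlib
import Cfsg.Agent.Lib.Helper83_SUChain

/-!
# Eichler calculus with a fixed isotropic vector (helper83)

Additivity, inverses, commutators and conjugation of the Eichler elements `eich B w y c`, and the
predicate `InQ H w y`: some Eichler element with isotropic vector `w` and vector `y` lies in `H`.
-/

set_option autoImplicit false
set_option linter.unusedSectionVars false
set_option linter.unusedVariables false
set_option linter.unusedSimpArgs false

namespace Cfsg.Agent.Lib.Helper83_SUEich

open Module Cfsg.Agent.Lib.Helper94_Herm Cfsg.Agent.Lib.Helper94_HermEich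
  Cfsg.Agent.Lib.Helper94_HermPara Cfsg.Agent.Lib.Helper13_SUGen

variable {F V : Type*} [Field F] [AddCommGroup V] [Module F V]
variable {σ : F →+* F} {B : V →ₗ[F] V →ₛₗ[σ] F}

theorem det_eich (w y : V) (c : F) : LinearEquiv.det (eich B w y c) = 1 := by
  unfold eich
  split_ifs with h
  · rw [map_mul, LinearEquiv.transvection.det_eq_one, LinearEquiv.transvection.det_eq_one,
      mul_one]
  · exact map_one _

theorem eich_zero_right {w : V} (hw : B w w = 0) (c : F) : eich B w 0 c = utv B w c := by
  ext x
  rw [eich_apply B hw (by simp) (by simp), utv_apply B hw]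
  simp

theorem eich_fix {w y : V} (hw : B w w = 0) (hyw : B y w = 0) (hwy : B w y = 0) (c : F) {x : V}
    (hxw : B x w = 0) (hxy : B x y = 0) : eich B w y c x = x := by
  rw [eich_apply B hw hyw hwy, hxw, hxy]
  simp

theorem eich_self {w y : V} (hw : B w w = 0) (hyw : B y w = 0) (hwy : B w y = 0) (c : F) :
    eich B w y c w = w := eich_fix hw hyw hwy c hw hwy

theorem eich_add_smul {w y : V} (hw : B w w = 0) (hyw : B y w = 0) (hwy : B w y = 0) (μ c : F) :
    eich B w (y + μ • w) c = eich B w y (c + μ - σ μ) := by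
  have h1 : B (y + μ • w) w = 0 := by
    rw [map_add, LinearMap.add_apply, map_smul, LinearMap.smul_apply, hyw, hw, smul_zero,
      add_zero]
  have h2 : B w (y + μ • w) = 0 := by
    rw [map_add, map_smulₛₗ, hwy, hw, smul_zero, add_zero]
  ext x
  rw [eich_apply B hw h1 h2, eich_apply B hw hyw hwy]
  simp only [map_add, map_smulₛₗ, smul_eq_mul]
  module

theorem eich_inv {w y : V} (hw : B w w = 0) (hyw : B y w = 0) (hwy : B w y = 0) (c : F) :
    (eich B w y c)⁻¹ = eich B w (-y) (-c - B y y) := by
  symm
  apply eq_inv_of_mul_eq_one_left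
  have h1 : B (-y) w = 0 := by rw [map_neg, LinearMap.neg_apply, hyw, neg_zero]
  have h2 : B w (-y) = 0 := by rw [map_neg, hwy, neg_zero]
  rw [eich_mul hw h1 h2 hyw hwy]
  have e1 : -y + y = 0 := by abel
  have e2 : -c - B y y + c - B y (-y) = 0 := by
    rw [map_neg]; ring
  rw [e1, e2, eich_zero_right hw]
  ext x
  rw [utv_apply B hw]
  simp

theorem eich_comm {w y y' : V} (hw : B w w = 0) (hyw : B y w = 0) (hwy : B w y = 0)
    (hyw' : B y' w = 0) (hwy' : B w y' = 0) (c c' : F) :
    eich B w y c * eich B w y' c' =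
      eich B w y' c' * eich B w y c * utv B w (B y y' - B y' y) := by
  have h1 : B (y' + y) w = 0 := by rw [map_add, LinearMap.add_apply, hyw, hyw', add_zero]
  have h2 : B w (y' + y) = 0 := by rw [map_add, hwy, hwy', add_zero]
  rw [eich_mul hw hyw hwy hyw' hwy', eich_mul hw hyw' hwy' hyw hwy, eich_mul_utv hw h1 h2,
    add_comm y y']
  congr 1
  ring

/-! ### The predicate `InQ` -/

/-- some Eichler element `eich B w y c` lies in `H` -/
def InQ (B : V →ₗ[F] V →ₛₗ[σ] F) (H : Subgroup (V ≃ₗ[F] V)) (w y : V) : Prop :=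
  B y w = 0 ∧ ∃ c, c + σ c = -(B y y) ∧ eich B w y c ∈ H

namespace InQ

variable {H : Subgroup (V ≃ₗ[F] V)} {w y y' : V} (hB : IsHerm B) (hw : B w w = 0)

include hw in
theorem zero : InQ B H w 0 := by
  refine ⟨by simp, 0, by simp, ?_⟩
  rw [eich_zero_right hw]
  have : utv B w 0 = 1 := by
    ext x; rw [utv_apply B hw]; simp
  rw [this]
  exact H.one_mem

include hB hw in
theorem add (h : InQ B H w y) (h' : InQ B H w y') : InQ B H w (y + y') := by
  obtain ⟨hyw, c, hc, hm⟩ := h
  obtain ⟨hyw', c', hc', hm'⟩ := h'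
  have hwy := herm_eq_zero hB hyw
  have hwy' := herm_eq_zero hB hyw'
  refine ⟨by rw [map_add, LinearMap.add_apply, hyw, hyw', add_zero], c + c' - B y' y, ?_, ?_⟩
  · have e : σ (B y' y) = B y y' := (hB y' y).symm
    simp only [map_add, map_sub, LinearMap.add_apply, e]
    linear_combination hc + hc'
  · rw [← eich_mul hw hyw hwy hyw' hwy']
    exact H.mul_mem hm hm'

include hB hw in
theorem neg (h : InQ B H w y) : InQ B H w (-y) := by
  obtain ⟨hyw, c, hc, hm⟩ := h
  have hwy := herm_eq_zero hB hyw
  refine ⟨by rw [map_neg, LinearMap.neg_apply, hyw, neg_zero], -c - B y y, ?_, ?_⟩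
  · have e : σ (B y y) = B y y := herm_self hB y
    simp only [map_neg, map_sub, LinearMap.neg_apply, e, neg_neg]
    linear_combination -hc
  · rw [← eich_inv hw hyw hwy]
    exact H.inv_mem hm

include hB hw in
theorem sub (h : InQ B H w y) (h' : InQ B H w y') : InQ B H w (y - y') := by
  rw [sub_eq_add_neg]
  exact add hB hw h (neg hB hw h')

include hB hw in
theorem add_smul_self (hσ : Invol σ) (h : InQ B H w y) (μ : F) : InQ B H w (y + μ • w) := by
  obtain ⟨hyw, c, hc, hm⟩ := h
  have hwy := herm_eq_zero hB hyw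
  refine ⟨by rw [map_add, LinearMap.add_apply, map_smul, LinearMap.smul_apply, hyw, hw,
    smul_zero, add_zero], c - μ + σ μ, ?_, ?_⟩
  · have e : B (y + μ • w) (y + μ • w) = B y y := by
      simp only [map_add, map_smul, map_smulₛₗ, LinearMap.add_apply, LinearMap.smul_apply, hyw,
        hwy, hw, smul_zero, add_zero]
    rw [e]
    simp only [map_add, map_sub, hσ.invol]
    linear_combination hc
  · rw [eich_add_smul hw hyw hwy]
    have : c - μ + σ μ + μ - σ μ = c := by ring
    rw [this]
    exact hm

/-- conjugation by an element of `H` fixing `w` -/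
theorem conj {g : V ≃ₗ[F] V} (hgH : g ∈ H) (hg : g ∈ uG B) (hgw : g w = w)
    (h : InQ B H w y) : InQ B H w (g y) := by
  obtain ⟨hyw, c, hc, hm⟩ := h
  refine ⟨?_, c, ?_, ?_⟩
  · have := hg y w
    rw [hgw] at this
    rw [this, hyw]
  · rw [hg y y]; exact hc
  · have := conj_eich hg w y c
    rw [hgw] at this
    rw [← this]
    exact H.mul_mem (H.mul_mem hgH hm) (H.inv_mem hgH)

include hB hw in
/-- the commutator of two Eichler elements in `H` -/
theorem comm (h : InQ B H w y) (h' : InQ B H w y') : utv B w (B y y' - B y' y) ∈ H := by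
  obtain ⟨hyw, c, hc, hm⟩ := h
  obtain ⟨hyw', c', hc', hm'⟩ := h'
  have hwy := herm_eq_zero hB hyw
  have hwy' := herm_eq_zero hB hyw'
  have e := eich_comm hw hyw hwy hyw' hwy' c c'
  have : utv B w (B y y' - B y' y) =
      (eich B w y' c' * eich B w y c)⁻¹ * (eich B w y c * eich B w y' c') := by
    rw [e]; group
  rw [this]
  exact H.mul_mem (H.inv_mem (H.mul_mem hm' hm)) (H.mul_mem hm hm')

include hB hw in
/-- moving by a transvection of `H` whose centre is orthogonal to `w` -/
theorem tv {r : V} {s : F} (hr : B r r = 0) (hrw : B r w = 0) (hs : σ s = -s)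
    (hT : utv B r s ∈ H) (h : InQ B H w y) : InQ B H w ((s * B y r) • r) := by
  have hwr := herm_eq_zero hB hrw
  have hfix : utv B r s w = w := utv_fix B r s hwr
  have h1 := conj hT (utv_mem_uG hB r hs) hfix h
  rw [utv_apply B hr] at h1
  have h2 := sub hB hw h1 h
  rwa [add_sub_cancel_left] at h2

include hB hw in
/-- if all the transvections with centre `w` lie in `H`, all admissible parameters occur -/
theorem all (hall : ∀ s, σ s = -s → utv B w s ∈ H) (h : InQ B H w y) {c : F}
    (hc : c + σ c = -(B y y)) : eich B w y c ∈ H := by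
  obtain ⟨hyw, c', hc', hm⟩ := h
  have hwy := herm_eq_zero hB hyw
  have hs : σ (c - c') = -(c - c') := by
    rw [map_sub]; linear_combination hc - hc'
  have := eich_mul_utv hw hyw hwy c' (c - c')
  have e : c' + (c - c') = c := by ring
  rw [e] at this
  rw [← this]
  exact H.mul_mem hm (hall _ hs)

end InQ

end Cfsg.Agent.Lib.Helper83_SUEich
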