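import Mathlib
import Cfsg.Agent.Lib.Helper83_SUEich

/-!
# Two opposite unipotent radicals generate the special unitary group (helper83)

`qcrit`: if a subgroup `H` contains all the Eichler elements `eich B x w c` (`w ⊥ x`) and all the
`eich B y w c` (`w ⊥ y`) for two isotropic vectors `x, y` with `B x y ≠ 0`, then `H` contains
every isometry of determinant one (dimension at least four).
-/

set_option autoImplicit false
set_option linter.unusedSectionVars false
set_option linter.unusedVariables false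
set_option linter.unusedSimpArgs false

namespace Cfsg.Agent.Lib.Helper83_SUCrit

open Module Cfsg.Agent.Lib.Helper94_Herm Cfsg.Agent.Lib.Helper94_HermEich
  Cfsg.Agent.Lib.Helper94_HermPara Cfsg.Agent.Lib.Helper94_HermTrans
  Cfsg.Agent.Lib.Helper13_SUGen Cfsg.Agent.Lib.Helper83_SUEich

variable {F V : Type*} [Field F] [AddCommGroup V] [Module F V]
variable {σ : F →+* F} {B : V →ₗ[F] V →ₛₗ[σ] F}

/-- an Eichler element with isotropic vector `x` moving `y` to `a` -/
theorem exists_move_eich (hσ : Invol σ) (hB : IsHerm B) {x y a : V} (hx : B x x = 0)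
    (hy : B y y = 0) (ha : B a a = 0) (hyx : B y x ≠ 0) (hax : B a x = B y x) :
    ∃ w c, B w x = 0 ∧ c + σ c = -(B w w) ∧ eich B x w c y = a := by
  set t := B y x with ht
  have hσt : σ t ≠ 0 := by
    intro h
    have := congrArg σ h
    rw [hσ.invol, map_zero] at this
    exact hyx this
  have hwx : B (t⁻¹ • (a - y)) x = 0 := by
    rw [map_smul, LinearMap.smul_apply, map_sub, LinearMap.sub_apply, hax, ← ht, sub_self,
      smul_zero]
  have hxw := herm_eq_zero hB hwx
  refine ⟨t⁻¹ • (a - y), B y a / (t * σ t), hwx, ?_, ?_⟩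
  · have e1 : σ (B y a) = B a y := (hB y a).symm
    simp only [map_smul, map_smulₛₗ, LinearMap.smul_apply, smul_eq_mul, map_sub,
      LinearMap.sub_apply, ha, hy, map_div₀, map_mul, hσ.invol, e1, map_inv₀]
    field_simp
    ring
  · rw [eich_apply B hx hwx hxw]
    have e2 : B y (t⁻¹ • (a - y)) = (σ t)⁻¹ * B y a := by
      rw [map_smulₛₗ, map_sub, hy, sub_zero, smul_eq_mul, map_inv₀]
    rw [e2, ← ht, smul_smul, mul_inv_cancel₀ hyx, one_smul]
    have e3 : B y a / (t * σ t) * t = (σ t)⁻¹ * B y a := by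
      field_simp
    rw [e3]
    abel

/-- the transvections centred at the isotropic vectors not orthogonal to `x` -/
theorem tv_of_not_orth (hσ : Invol σ) (hB : IsHerm B) (H : Subgroup (V ≃ₗ[F] V)) {x y : V}
    (hx : B x x = 0) (hy : B y y = 0) (hyx : B y x ≠ 0)
    (hQx : ∀ w c, B w x = 0 → c + σ c = -(B w w) → eich B x w c ∈ H)
    (hTy : ∀ s, σ s = -s → utv B y s ∈ H) {a : V} (ha : B a a = 0) (hax : B a x ≠ 0) :
    ∀ s, σ s = -s → utv B a s ∈ H := by
  intro s hs
  set μ := B y x / B a x with hμ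
  have hμ0 : μ ≠ 0 := div_ne_zero hyx hax
  have hσμ0 : σ μ ≠ 0 := by
    intro h
    have := congrArg σ h
    rw [hσ.invol, map_zero] at this
    exact hμ0 this
  have ha' : B (μ • a) (μ • a) = 0 := by rw [self_smul, ha, mul_zero]
  have hax' : B (μ • a) x = B y x := by
    rw [map_smul, LinearMap.smul_apply, smul_eq_mul, hμ, div_mul_cancel₀ _ hax]
  obtain ⟨w, c, hwx, hc, hmove⟩ := exists_move_eich hσ hB hx hy ha' hyx hax'
  have heH := hQx w c hwx hc
  have heU : eich B x w c ∈ uG B := eich_mem_uG hB hc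
  have hs' : σ (s / (μ * σ μ)) = -(s / (μ * σ μ)) := by
    rw [map_div₀, map_mul, hσ.invol, hs, mul_comm (σ μ) μ, neg_div]
  have h1 : utv B (μ • a) (s / (μ * σ μ)) ∈ H := by
    rw [← hmove, ← conj_utv heU]
    exact H.mul_mem (H.mul_mem heH (hTy _ hs')) (H.inv_mem heH)
  rw [utv_smul] at h1
  have e : μ * σ μ * (s / (μ * σ μ)) = s := by
    field_simp
  rwa [e] at h1

/-- **Q-criterion** -/
theorem qcrit [Finite F] [FiniteDimensional F V] (hσ : Invol σ) (hB : IsHerm B)
    (hN : NondegOn B ⊤) (h4 : 4 ≤ finrank F V) (H : Subgroup (V ≃ₗ[F] V)) {x y : V}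
    (hx : B x x = 0) (hy : B y y = 0) (hxy : B x y ≠ 0)
    (hQx : ∀ w c, B w x = 0 → c + σ c = -(B w w) → eich B x w c ∈ H)
    (hQy : ∀ w c, B w y = 0 → c + σ c = -(B w w) → eich B y w c ∈ H) :
    ∀ g ∈ uG B, LinearEquiv.det g = 1 → g ∈ H := by
  have hyx : B y x ≠ 0 := herm_ne_zero hσ hB hxy
  have hTx : ∀ s, σ s = -s → utv B x s ∈ H := by
    intro s hs
    rw [← eich_zero_right hx]
    refine hQx 0 s (by simp) ?_
    rw [hs]; simp
  have hTy : ∀ s, σ s = -s → utv B y s ∈ H := by
    intro s hs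
    rw [← eich_zero_right hy]
    refine hQy 0 s (by simp) ?_
    rw [hs]; simp
  have hX : ∀ a, B a a = 0 → B a x ≠ 0 → ∀ s, σ s = -s → utv B a s ∈ H :=
    fun a ha hax => tv_of_not_orth hσ hB H hx hy hyx hQx hTy ha hax
  have hY : ∀ a, B a a = 0 → B a y ≠ 0 → ∀ s, σ s = -s → utv B a s ∈ H :=
    fun a ha hay => tv_of_not_orth hσ hB H hy hx hxy hQy hTx ha hay
  have hall : ∀ a, B a a = 0 → ∀ s, σ s = -s → utv B a s ∈ H := by
    intro a ha s hs
    by_cases hax : B a x = 0
    swap
    · exact hX a ha hax s hs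
    by_cases hay : B a y = 0
    swap
    · exact hY a ha hay s hs
    by_cases ha0 : a = 0
    · subst ha0
      have : utv B (0 : V) s = 1 := by
        ext z
        rw [utv_apply B ha]
        simp
      rw [this]
      exact H.one_mem
    obtain ⟨w₀, -, hw₀⟩ := hN a Submodule.mem_top ha0
    set w := w₀ - (B w₀ y / B x y) • x with hw
    have hwy : B w y = 0 := by
      rw [hw, map_sub, LinearMap.sub_apply, map_smul, LinearMap.smul_apply, smul_eq_mul,
        div_mul_cancel₀ _ hxy, sub_self]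
    have haw : B a w ≠ 0 := by
      rw [hw, map_sub, map_smulₛₗ, hax, smul_zero, sub_zero]
      exact hw₀
    obtain ⟨c', hc'⟩ := tr_surj hσ (-(B w w)) (by rw [map_neg, herm_self hB])
    have hgH := hQy w c' hwy hc'
    have hgU : eich B y w c' ∈ uG B := eich_mem_uG hB hc'
    have hyw := herm_eq_zero hB hwy
    have hga : eich B y w c' a = a - B a w • y := by
      rw [eich_apply B hy hwy hyw, hay]
      simp
    have hga_iso : B (eich B y w c' a) (eich B y w c' a) = 0 := by rw [hgU, ha]
    have hgax : B (eich B y w c' a) x ≠ 0 := by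
      rw [hga, map_sub, LinearMap.sub_apply, map_smul, LinearMap.smul_apply, smul_eq_mul, hax,
        zero_sub]
      exact neg_ne_zero.mpr (mul_ne_zero haw hyx)
    have h1 := hX _ hga_iso hgax s hs
    rw [← conj_utv hgU] at h1
    have : utv B a s = (eich B y w c')⁻¹ * (eich B y w c' * utv B a s * (eich B y w c')⁻¹) *
        eich B y w c' := by group
    rw [this]
    exact H.mul_mem (H.mul_mem (H.inv_mem hgH) h1) hgH
  intro g hg hdet
  have hle : tvGroup B ⊤ ≤ H := tvGroup_le ⊤ H (fun a _ ha c hc => hall a ha c hc)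
  exact hle (mem_tvGroup_of_four_le hσ hB hN h4 hg hdet)

end Cfsg.Agent.Lib.Helper83_SUCrit
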