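import Mathlib
import Cfsg.Agent.Lib.Helper39_U4Defs
import Cfsg.Agent.Lib.Helper13_SUGen
import Cfsg.Agent.Lib.Helper94_HermTrans
import Cfsg.Agent.Lib.Helper83_SUCrit

/-!
# S2150 package G-OVER (helper29): the overgroup lemma.
A proper subgroup of `SUg B` containing the unipotent radical `Qg B u` stabilises the totally
isotropic subspace spanned by the orbit of `u`.
-/

set_option autoImplicit false

namespace Cfsg.Agent.Lib.Helper29_U4_GOVER

open Module Cfsg.Agent.Lib.Helper94_Symp Cfsg.Agent.Lib.Helper94_Herm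
  Cfsg.Agent.Lib.Helper94_HermEich Cfsg.Agent.Lib.Helper94_HermOrth
  Cfsg.Agent.Lib.Helper13_SUGen Cfsg.Agent.Lib.Helper39_U4Defs
  Cfsg.Agent.Lib.Helper94_HermTrans Cfsg.Agent.Lib.Helper83_SUCrit

variable {F V : Type*} [Field F] [AddCommGroup V] [Module F V] {σ : F →+* F}
  {B : V →ₗ[F] V →ₛₗ[σ] F}

/-- the conjugate of `Qg B u` by an isometry `k` contains all Eichler elements at `k u` -/
lemma eich_mem_of_conj {u : V} {K : Subgroup (V ≃ₗ[F] V)} (hQ : Qg B u ≤ K)
    {k : V ≃ₗ[F] V} (hk : k ∈ K) (hkU : k ∈ uG B) (w : V) (c : F) (hw : B w (k u) = 0)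
    (hc : c + σ c = -(B w w)) : eich B (k u) w c ∈ K := by
  have h1 : eich B u (k⁻¹ w) c ∈ Qg B u := by
    refine Subgroup.subset_closure ⟨k⁻¹ w, c, ?_, ?_, rfl⟩
    · rw [uG_inv_apply B hkU]; exact hw
    · have hkinv : k⁻¹ ∈ uG B := (uG B).inv_mem hkU
      rw [hkinv w w]; exact hc
  have h2 : k * eich B u (k⁻¹ w) c * k⁻¹ = eich B (k u) w c := by
    rw [conj_eich hkU, apply_inv_apply']
  rw [← h2]
  exact K.mul_mem (K.mul_mem hk (hQ h1)) (K.inv_mem hk)

variable [Finite F] [FiniteDimensional F V]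

/-- G-OVER (§3 overgroup lemma). -/
theorem overgroup {q : ℕ} (Hy : U4Hyp B q) {u : V} (hu0 : u ≠ 0) (hu : B u u = 0)
    (K : Subgroup (V ≃ₗ[F] V)) (hKG : K ≤ SUg B) (hne : K ≠ SUg B) (hQ : Qg B u ≤ K) :
    ∃ T : Submodule F V, T ≠ ⊥ ∧ (∀ x ∈ T, ∀ y ∈ T, B x y = 0) ∧ K ≤ stab T := by
  have hσ := Hy.hσ
  have hB := Hy.hB
  have hN := Hy.hN
  have h4 := Hy.h4
  -- any two vectors of the orbit of `u` are orthogonal
  have horb : ∀ k ∈ K, ∀ k' ∈ K, B (k u) (k' u) = 0 := by
    intro k hk k' hk'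
    by_contra hxy
    apply hne
    apply le_antisymm hKG
    intro g hg
    have hkU : k ∈ uG B := (hKG hk).1
    have hk'U : k' ∈ uG B := (hKG hk').1
    exact qcrit hσ hB hN (by omega) K (x := k u) (y := k' u) (by rw [hkU, hu])
      (by rw [hk'U, hu]) hxy
      (fun w c hw hc => eich_mem_of_conj hQ hk hkU w c hw hc)
      (fun w c hw hc => eich_mem_of_conj hQ hk' hk'U w c hw hc) g hg.1
      (MonoidHom.mem_ker.mp hg.2)
  refine ⟨Submodule.span F {v | ∃ k ∈ K, v = k u}, ?_, ?_, ?_⟩
  · intro h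
    have : u ∈ Submodule.span F {v | ∃ k ∈ K, v = k u} :=
      Submodule.subset_span ⟨1, K.one_mem, rfl⟩
    rw [h, Submodule.mem_bot] at this
    exact hu0 this
  · intro x hx y hy
    induction hx using Submodule.span_induction with
    | mem x hx =>
      obtain ⟨k, hk, rfl⟩ := hx
      induction hy using Submodule.span_induction with
      | mem y hy =>
        obtain ⟨k', hk', rfl⟩ := hy
        exact horb k hk k' hk'
      | zero => simp
      | add y z _ _ hy hz => rw [map_add, hy, hz, add_zero]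
      | smul a y _ hy => rw [map_smulₛₗ, hy, smul_zero]
    | zero => simp
    | add x z _ _ hx hz => rw [map_add, LinearMap.add_apply, hx, hz, add_zero]
    | smul a x _ hx => rw [map_smul, LinearMap.smul_apply, hx, smul_zero]
  · intro g hg
    apply mem_stab_of_forall_mem
    intro v hv
    induction hv using Submodule.span_induction with
    | mem x hx =>
      obtain ⟨k, hk, rfl⟩ := hx
      exact Submodule.subset_span ⟨g * k, K.mul_mem hg hk, rfl⟩
    | zero => simp
    | add x z _ _ hx hz => rw [map_add]; exact Submodule.add_mem _ hx hz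
    | smul a x _ hx => rw [map_smul]; exact Submodule.smul_mem _ _ hx

end Cfsg.Agent.Lib.Helper29_U4_GOVER
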