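import Mathlib
import Cfsg.Prelude.Def_GeometricClasses
import Cfsg.Prelude.Def_LieClassical
import Cfsg.Agent.Lib.Helper67_UT2Defs
import Cfsg.Agent.Lib.Helper9_T2_BR
import Cfsg.Agent.Lib.Helper94_TensorFrameU

set_option autoImplicit false

/-!
# UTENS2 bridge: shared definitions (helper67)

* `kA A A' h h'` : the Kronecker map `A ⊗ 1` on `W × W` (`A` an invertible 2 × 2 matrix).
* `gf G β` : the form on `W × W` with "Gram matrix" `G ⊗ β`.
-/

namespace Cfsg.Agent.Lib.Helper67_UT2BrDefs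

open Module
open Cfsg.Agent.Lib.Helper94_Symp Cfsg.Agent.Lib.Helper94_Herm Cfsg.Agent.Lib.Helper13_PSUSimple
  Cfsg.Agent.Lib.Helper67_Tens2Defs Cfsg.Agent.Lib.Helper67_UT2Defs

variable {F W : Type*} [Field F] [AddCommGroup W] [Module F W] {σ : F →+* F}

theorem mat2_mul_apply (A B : Matrix (Fin 2) (Fin 2) F) (i j : Fin 2) :
    (A * B) i j = A i 0 * B 0 j + A i 1 * B 1 j := by
  rw [Matrix.mul_apply, Fin.sum_univ_two]

/-- the Kronecker map `A ⊗ 1` on `W × W` -/
def kA (A A' : Matrix (Fin 2) (Fin 2) F) (h : A * A' = 1) (h' : A' * A = 1) :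
    (W × W) ≃ₗ[F] (W × W) where
  toFun x := (A 0 0 • x.1 + A 0 1 • x.2, A 1 0 • x.1 + A 1 1 • x.2)
  map_add' x y := by
    ext <;> simp only [Prod.fst_add, Prod.snd_add, smul_add] <;> abel
  map_smul' c x := by
    ext <;> simp only [Prod.smul_fst, Prod.smul_snd, RingHom.id_apply, smul_add, smul_comm c]
  invFun x := (A' 0 0 • x.1 + A' 0 1 • x.2, A' 1 0 • x.1 + A' 1 1 • x.2)
  left_inv x := by
    have h00 := congrFun (congrFun h' 0) 0
    have h01 := congrFun (congrFun h' 0) 1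
    have h10 := congrFun (congrFun h' 1) 0
    have h11 := congrFun (congrFun h' 1) 1
    rw [mat2_mul_apply] at h00 h01 h10 h11
    simp only [Matrix.one_apply_eq, Matrix.one_apply_ne, ne_eq, Fin.zero_eq_one_iff,
      Fin.one_eq_zero_iff, not_false_eq_true, OfNat.ofNat_ne_one] at h00 h01 h10 h11
    ext
    · simp only [smul_add, smul_smul]
      rw [add_add_add_comm, ← add_smul, ← add_smul, h00, h01, one_smul, zero_smul, add_zero]
    · simp only [smul_add, smul_smul]
      rw [add_add_add_comm, ← add_smul, ← add_smul, h10, h11, one_smul, zero_smul, zero_add]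
  right_inv x := by
    have h00 := congrFun (congrFun h 0) 0
    have h01 := congrFun (congrFun h 0) 1
    have h10 := congrFun (congrFun h 1) 0
    have h11 := congrFun (congrFun h 1) 1
    rw [mat2_mul_apply] at h00 h01 h10 h11
    simp only [Matrix.one_apply_eq, Matrix.one_apply_ne, ne_eq, Fin.zero_eq_one_iff,
      Fin.one_eq_zero_iff, not_false_eq_true, OfNat.ofNat_ne_one] at h00 h01 h10 h11
    ext
    · simp only [smul_add, smul_smul]
      rw [add_add_add_comm, ← add_smul, ← add_smul, h00, h01, one_smul, zero_smul, add_zero]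
    · simp only [smul_add, smul_smul]
      rw [add_add_add_comm, ← add_smul, ← add_smul, h10, h11, one_smul, zero_smul, zero_add]

@[simp] theorem kA_apply (A A' : Matrix (Fin 2) (Fin 2) F) (h : A * A' = 1) (h' : A' * A = 1)
    (x : W × W) :
    kA A A' h h' x = (A 0 0 • x.1 + A 0 1 • x.2, A 1 0 • x.1 + A 1 1 • x.2) := rfl

theorem kA_symm (A A' : Matrix (Fin 2) (Fin 2) F) (h : A * A' = 1) (h' : A' * A = 1) :
    ((kA A A' h h' : (W × W) ≃ₗ[F] (W × W)))⁻¹ = kA A' A h' h := by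
  apply LinearEquiv.ext
  intro x
  rfl

theorem isKron2_kA (A A' : Matrix (Fin 2) (Fin 2) F) (h : A * A' = 1) (h' : A' * A = 1) :
    IsKron2 (kA A A' h h' : (W × W) ≃ₗ[F] (W × W)) :=
  ⟨A, LinearMap.id, fun u u' => rfl⟩

/-- the form on `W × W` with Gram matrix `G ⊗ β` -/
def gf (G : Matrix (Fin 2) (Fin 2) F) (β : W →ₗ[F] W →ₛₗ[σ] F) (x y : W × W) : F :=
  G 0 0 * β x.1 y.1 + G 0 1 * β x.1 y.2 + G 1 0 * β x.2 y.1 + G 1 1 * β x.2 y.2

end Cfsg.Agent.Lib.Helper67_UT2BrDefs
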