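import Mathlib
import Cfsg.Agent.Lib.Helper67_UT2BrDefs
import Cfsg.Agent.Lib.Helper14_PSULocal1

set_option autoImplicit false
set_option linter.unusedSectionVars false
set_option linter.unusedVariables false

/-!
# UTENS2 bridge package BR-SUMEM (helper89, for helper67): the generators `ux S`, `lx S`, `hE a`, `jU s`,
# `oE Q` lie in `SUg (uf β)` (unitary and of determinant one).
-/

open Module Matrix
open scoped Kronecker
open Cfsg.Agent.Lib.Helper94_Symp Cfsg.Agent.Lib.Helper94_Herm Cfsg.Agent.Lib.Helper13_PSUSimple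
  Cfsg.Agent.Lib.Helper94_Bridge Cfsg.Agent.Lib.Helper94_SLBridge Cfsg.Agent.Lib.Helper94_HermBridge
  Cfsg.Agent.Lib.Helper94_TensorFrameU Cfsg.Agent.Lib.Helper70_Tens_TP10b
  Cfsg.Agent.Lib.Helper67_Tens2Defs Cfsg.Agent.Lib.Helper67_UT2Defs Cfsg.Agent.Lib.Helper67_UT2BrDefs
  Cfsg.Agent.Lib.Helper9_T2_BR

namespace Cfsg.Agent.Lib.Helper89_UT2_BRSUMEM

section dets

variable {F W : Type*} [Field F] [AddCommGroup W] [Module F W] [FiniteDimensional F W]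

theorem det_ux (S : W →ₗ[F] W) : LinearEquiv.det (ux S : (W × W) ≃ₗ[F] (W × W)) = 1 := by
  classical
  apply Units.ext
  rw [LinearEquiv.coe_det, Units.val_one]
  let b := Module.finBasis F W
  rw [← LinearMap.det_toMatrix (b.prod b)]
  have h : LinearMap.toMatrix (b.prod b) (b.prod b)
      ((ux S : (W × W) ≃ₗ[F] (W × W)) : (W × W) →ₗ[F] (W × W)) =
      Matrix.fromBlocks 1 (LinearMap.toMatrix b b S) 0 1 := by
    ext (i | i) (j | j) <;>
      simp [LinearMap.toMatrix_apply, Matrix.one_apply, Finsupp.single_apply, eq_comm]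
  rw [h, Matrix.det_fromBlocks_zero₂₁, Matrix.det_one, mul_one]

theorem det_lx (S : W →ₗ[F] W) : LinearEquiv.det (lx S : (W × W) ≃ₗ[F] (W × W)) = 1 := by
  classical
  apply Units.ext
  rw [LinearEquiv.coe_det, Units.val_one]
  let b := Module.finBasis F W
  rw [← LinearMap.det_toMatrix (b.prod b)]
  have h : LinearMap.toMatrix (b.prod b) (b.prod b)
      ((lx S : (W × W) ≃ₗ[F] (W × W)) : (W × W) →ₗ[F] (W × W)) =
      Matrix.fromBlocks 1 0 (LinearMap.toMatrix b b S) 1 := by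
    ext (i | i) (j | j) <;>
      simp [LinearMap.toMatrix_apply, Matrix.one_apply, Finsupp.single_apply, eq_comm]
  rw [h, Matrix.det_fromBlocks_zero₁₂, Matrix.det_one, mul_one]

theorem det_hE (a : Fˣ) : LinearEquiv.det (hE a : (W × W) ≃ₗ[F] (W × W)) = 1 := by
  apply Units.ext
  rw [LinearEquiv.coe_det, Units.val_one]
  have h : ((hE a : (W × W) ≃ₗ[F] (W × W)) : (W × W) →ₗ[F] (W × W)) =
      LinearMap.prodMap ((a : F) • (LinearMap.id : W →ₗ[F] W))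
        (((a⁻¹ : Fˣ) : F) • (LinearMap.id : W →ₗ[F] W)) := by
    apply LinearMap.ext
    intro x
    ext <;> simp [hE_apply]
  rw [h, LinearMap.det_prodMap, LinearMap.det_smul, LinearMap.det_smul, LinearMap.det_id, mul_one,
    mul_one, ← mul_pow, Units.mul_inv, one_pow]

theorem det_oE (Q : W ≃ₗ[F] W) (hQ : LinearEquiv.det Q = 1) :
    LinearEquiv.det (oE Q : (W × W) ≃ₗ[F] (W × W)) = 1 := by
  apply Units.ext
  rw [LinearEquiv.coe_det, Units.val_one]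
  have h : ((oE Q : (W × W) ≃ₗ[F] (W × W)) : (W × W) →ₗ[F] (W × W)) =
      LinearMap.prodMap (Q : W →ₗ[F] W) (Q : W →ₗ[F] W) := by
    apply LinearMap.ext
    intro x
    ext <;> simp [oE_apply]
  have hQ' : LinearMap.det (Q : W →ₗ[F] W) = 1 := by
    rw [← LinearEquiv.coe_det, hQ, Units.val_one]
  rw [h, LinearMap.det_prodMap, hQ', mul_one]

/-- `jU s = hE s * ux 1 * lx (-1) * ux 1` -/
theorem jU_eq (s : Fˣ) :
    (jU s : (W × W) ≃ₗ[F] (W × W)) =
      hE s * ux (LinearMap.id : W →ₗ[F] W) * lx (-(LinearMap.id : W →ₗ[F] W)) *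
        ux (LinearMap.id : W →ₗ[F] W) := by
  apply LinearEquiv.ext
  intro x
  simp only [LinearEquiv.mul_apply, jU_apply, hE_apply, ux_apply, lx_apply, LinearMap.id_apply,
    LinearMap.neg_apply]
  ext
  · simp
  · simp

theorem det_jU (s : Fˣ) : LinearEquiv.det (jU s : (W × W) ≃ₗ[F] (W × W)) = 1 := by
  rw [jU_eq, map_mul, map_mul, map_mul, det_hE, det_ux, det_lx, mul_one, mul_one, mul_one]

end dets

variable {F W : Type*} [Field F] [Finite F] [AddCommGroup W] [Module F W] [FiniteDimensional F W]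
variable {σ : F →+* F} {β : W →ₗ[F] W →ₛₗ[σ] F}

/-- BR-SUMEM -/
theorem ux_mem_SUg (hσ : Invol σ) (hβ : IsHerm β) (S : W →ₗ[F] W)
    (hS : ∀ u v, β (S u) v + β u (S v) = 0) : ux S ∈ SUg (uf β) :=
  mem_SUg.mpr ⟨ux_mem_uG S hS, det_ux S⟩

/-- BR-SUMEM -/
theorem lx_mem_SUg (hσ : Invol σ) (hβ : IsHerm β) (S : W →ₗ[F] W)
    (hS : ∀ u v, β (S u) v + β u (S v) = 0) : lx S ∈ SUg (uf β) :=
  mem_SUg.mpr ⟨lx_mem_uG S hS, det_lx S⟩

/-- BR-SUMEM -/
theorem hE_mem_SUg (hσ : Invol σ) (hβ : IsHerm β) (a : Fˣ) (ha : σ (a : F) = a) :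
    hE a ∈ SUg (uf β) := by
  refine mem_SUg.mpr ⟨?_, det_hE a⟩
  have ha' : σ (((a⁻¹ : Fˣ) : F)) = ((a⁻¹ : Fˣ) : F) := by
    rw [Units.val_inv_eq_inv_val, map_inv₀, ha]
  intro x y
  simp only [hE_apply, uf_apply, map_smul, map_smulₛₗ, LinearMap.smul_apply, smul_eq_mul, ha, ha']
  have h1 : (a : F) * ((a⁻¹ : Fˣ) : F) = 1 := Units.mul_inv a
  linear_combination (β x.1 y.2 + β x.2 y.1) * h1

/-- BR-SUMEM -/
theorem jU_mem_SUg (hσ : Invol σ) (hβ : IsHerm β) (s : Fˣ) (hs : σ (s : F) = -s) :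
    jU s ∈ SUg (uf β) := by
  refine mem_SUg.mpr ⟨?_, det_jU s⟩
  have hs' : σ (((s⁻¹ : Fˣ) : F)) = -((s⁻¹ : Fˣ) : F) := by
    rw [Units.val_inv_eq_inv_val, map_inv₀, hs, inv_neg]
  intro x y
  simp only [jU_apply, uf_apply, map_smul, map_smulₛₗ, LinearMap.smul_apply, smul_eq_mul, map_neg,
    LinearMap.neg_apply, hs, hs']
  have h1 : (s : F) * ((s⁻¹ : Fˣ) : F) = 1 := Units.mul_inv s
  linear_combination (β x.1 y.2 + β x.2 y.1) * h1

/-- BR-SUMEM -/
theorem oE_mem_SUg (hσ : Invol σ) (hβ : IsHerm β) (Q : W ≃ₗ[F] W) (hQ : Q ∈ SUg β) :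
    oE Q ∈ SUg (uf β) := by
  obtain ⟨h1, h2⟩ := mem_SUg.mp hQ
  exact mem_SUg.mpr ⟨oE_mem_uG Q h1, det_oE Q h2⟩

end Cfsg.Agent.Lib.Helper89_UT2_BRSUMEM
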