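import Mathlib
import Cfsg.Agent.Lib.Helper97_UExtDefs
import Cfsg.Agent.Lib.Helper10_UX_TRS
import Cfsg.Agent.Lib.Helper10_UX_THERM
import Cfsg.Agent.Lib.Helper89_UT2_BRSUMEM

set_option autoImplicit false
set_option linter.unusedSectionVars false
set_option linter.unusedVariables false

/-!
# UEXT2 bridge (helper29), part 4: the generators `ux (mK κ)`, `lx (mK κ)`, `hEK τ l` of `HypX` are
`K`-linear elements of `SUg (uf (trT h))`.
-/

namespace Cfsg.Agent.Lib.Helper29_UX_BrElts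

open Module
open Cfsg.Agent.Lib.Helper94_Symp Cfsg.Agent.Lib.Helper94_Herm Cfsg.Agent.Lib.Helper13_PSUSimple
  Cfsg.Agent.Lib.Helper67_Tens2Defs Cfsg.Agent.Lib.Helper67_UT2Defs Cfsg.Agent.Lib.Helper98_ExtDefs
  Cfsg.Agent.Lib.Helper97_UExtDefs

variable {F K : Type*} [Field F] [Field K] [Algebra F K] [Finite F] [Finite K]
  {σ : F →+* F} {τ : K →+* K}

theorem norm_tau (h : TauExt σ τ) (c : K) :
    Algebra.norm F (τ c) = σ (Algebra.norm F c) := by
  apply (algebraMap F K).injective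
  rw [← h.ext, FiniteField.algebraMap_norm_eq_prod_pow, FiniteField.algebraMap_norm_eq_prod_pow,
    map_prod]
  refine Finset.prod_congr rfl fun i _ => ?_
  rw [map_pow]

theorem mK_skew (h : TauExt σ τ) (κ : K) (hκ : τ κ = -κ) (u v : K) :
    trT h ((mK κ : K →ₗ[F] K) u) v + trT h u ((mK κ : K →ₗ[F] K) v) = 0 := by
  rw [trT_apply, trT_apply, mK_apply, mK_apply, map_mul τ κ v, hκ, ← map_add]
  have : κ * u * τ v + u * (-κ * τ v) = 0 := by ring
  rw [this, map_zero]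

theorem ux_mK_mem (h : TauExt σ τ) (hσ : Invol σ) (κ : K) (hκ : τ κ = -κ) :
    ux (mK κ : K →ₗ[F] K) ∈ SUg (uf (trT h)) :=
  Cfsg.Agent.Lib.Helper89_UT2_BRSUMEM.ux_mem_SUg hσ
    (Cfsg.Agent.Lib.Helper10_UX_THERM.trT_isHerm h) _ (mK_skew h κ hκ)

theorem lx_mK_mem (h : TauExt σ τ) (hσ : Invol σ) (κ : K) (hκ : τ κ = -κ) :
    lx (mK κ : K →ₗ[F] K) ∈ SUg (uf (trT h)) :=
  Cfsg.Agent.Lib.Helper89_UT2_BRSUMEM.lx_mem_SUg hσ
    (Cfsg.Agent.Lib.Helper10_UX_THERM.trT_isHerm h) _ (mK_skew h κ hκ)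

theorem det_dK (a b : Kˣ) :
    LinearMap.det ((dK a b : (K × K) ≃ₗ[F] (K × K)) : (K × K) →ₗ[F] (K × K)) =
      Algebra.norm F (a : K) * Algebra.norm F (b : K) := by
  have h : ((dK a b : (K × K) ≃ₗ[F] (K × K)) : (K × K) →ₗ[F] (K × K)) =
      LinearMap.prodMap (Algebra.lmul F K (a : K)) (Algebra.lmul F K (b : K)) := by
    apply LinearMap.ext
    intro x
    rfl
  rw [h, LinearMap.det_prodMap, Algebra.norm_apply, Algebra.norm_apply]

theorem hEK_mem (h : TauExt σ τ) (hσ : Invol σ) (l : Kˣ)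
    (hl : σ (Algebra.norm F (l : K)) = Algebra.norm F (l : K)) :
    hEK τ l ∈ SUg (uf (trT h)) := by
  have hl0 : (l : K) ≠ 0 := l.ne_zero
  have hτl0 : τ (l : K) ≠ 0 := fun h0 => hl0 (by
    have := congrArg τ h0
    rwa [h.invol, map_zero] at this)
  refine mem_SUg.mpr ⟨?_, ?_⟩
  · intro x y
    simp only [hEK_apply, uf_apply, trT_apply, map_mul, map_inv₀, h.invol]
    have e1 : (l : K) * x.1 * ((l : K)⁻¹ * τ y.2) = x.1 * τ y.2 := by
      field_simp
    have e2 : (τ (l : K))⁻¹ * x.2 * (τ (l : K) * τ y.1) = x.2 * τ y.1 := by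
      field_simp
    rw [e1, e2]
  · apply Units.ext
    rw [LinearEquiv.coe_det, Units.val_one]
    show LinearMap.det ((dK l (Units.map (τ : K →* K) l)⁻¹ : (K × K) ≃ₗ[F] (K × K)) :
      (K × K) →ₗ[F] (K × K)) = 1
    rw [det_dK]
    have h1 : (((Units.map (τ : K →* K) l)⁻¹ : Kˣ) : K) = (τ (l : K))⁻¹ := by
      rw [Units.val_inv_eq_inv_val]
      rfl
    have hprod : Algebra.norm F (τ (l : K))⁻¹ * Algebra.norm F (τ (l : K)) = 1 := by
      rw [← map_mul, inv_mul_cancel₀ hτl0, map_one]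
    rw [norm_tau h, hl] at hprod
    rw [h1, mul_comm]
    exact hprod

/-- `K`-linear maps are `K`-semilinear -/
theorem isSemilin_of_linear (g : (K × K) ≃ₗ[F] (K × K))
    (hg : ∀ (k : K) (x : K × K), g (k • x) = k • g x) : IsSemilin F K (K × K) g :=
  ⟨RingEquiv.refl K, fun k v => hg k v⟩

theorem ux_mK_linear (κ k : K) (x : K × K) :
    (ux (mK κ : K →ₗ[F] K)) (k • x) = k • (ux (mK κ : K →ₗ[F] K)) x := by
  ext
  · simp only [ux_apply, mK_apply, Prod.smul_fst, Prod.smul_snd, smul_eq_mul]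
    ring
  · simp only [ux_apply, Prod.smul_snd]

theorem lx_mK_linear (κ k : K) (x : K × K) :
    (lx (mK κ : K →ₗ[F] K)) (k • x) = k • (lx (mK κ : K →ₗ[F] K)) x := by
  ext
  · simp only [lx_apply, Prod.smul_fst]
  · simp only [lx_apply, mK_apply, Prod.smul_fst, Prod.smul_snd, smul_eq_mul]
    ring

theorem dK_linear (a b : Kˣ) (k : K) (x : K × K) :
    (dK a b : (K × K) ≃ₗ[F] (K × K)) (k • x) = k • (dK a b : (K × K) ≃ₗ[F] (K × K)) x := by
  ext
  · simp only [dK_apply, Prod.smul_fst, smul_eq_mul]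
    ring
  · simp only [dK_apply, Prod.smul_snd, smul_eq_mul]
    ring

end Cfsg.Agent.Lib.Helper29_UX_BrElts
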