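import Mathlib
import Cfsg.Agent.Lib.Helper97_UExtDefs
import Cfsg.Agent.Lib.Helper94_HermIrr

set_option autoImplicit false
set_option linter.unusedSectionVars false
set_option linter.unusedVariables false

/-!
# UEXT2 bridge (helper29), part 3: hyperbolic coordinates on a 2-dimensional hermitian space over
a finite field `L` with involution `τ`.
-/

namespace Cfsg.Agent.Lib.Helper29_UX_BrHyp

open Module
open Cfsg.Agent.Lib.Helper94_Herm Cfsg.Agent.Lib.Helper94_HermIrr

variable {L V : Type*} [Field L] [Finite L] [AddCommGroup V] [Module L V] {τ : L →+* L}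

theorem finrank_span_singleton_le_one (x : V) : finrank L (Submodule.span L {x}) ≤ 1 := by
  by_cases hx : x = 0
  · rw [hx, Submodule.span_zero_singleton, finrank_bot]
    exact Nat.zero_le 1
  · rw [finrank_span_singleton hx]

/-- hyperbolic coordinates -/
theorem exists_coords (hτ : Invol τ) (B : V →ₗ[L] V →ₛₗ[τ] L) (hB : IsHerm B)
    (hN : NondegOn B ⊤) (h2 : finrank L V = 2) :
    ∃ Ψ : (L × L) ≃ₗ[L] V, ∀ a c : L × L, B (Ψ a) (Ψ c) = a.1 * τ c.2 + a.2 * τ c.1 := by
  have : FiniteDimensional L V := Module.finite_of_finrank_pos (by omega)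
  have hout : ∀ x : V, ∃ z ∈ (⊤ : Submodule L V), z ∉ Submodule.span L {x} := by
    intro x
    by_contra hcon
    push Not at hcon
    have htop : Submodule.span L {x} = ⊤ := by
      rw [eq_top_iff]
      intro z hz
      exact hcon z hz
    have h1 := finrank_span_singleton_le_one (L := L) x
    rw [htop, finrank_top, h2] at h1
    omega
  obtain ⟨e, -, f, -, hee, hff, hef⟩ := exists_pair hτ hB hN hout
  have hfe : B f e = 1 := by rw [hB e f, hef, map_one]
  set Ψ₀ : (L × L) →ₗ[L] V :=
    (LinearMap.fst L L L).smulRight e + (LinearMap.snd L L L).smulRight f with hΨ₀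
  have hΨ₀a : ∀ a : L × L, Ψ₀ a = a.1 • e + a.2 • f := by
    intro a
    simp [hΨ₀]
  have hform : ∀ a c : L × L, B (Ψ₀ a) (Ψ₀ c) = a.1 * τ c.2 + a.2 * τ c.1 := by
    intro a c
    rw [hΨ₀a, hΨ₀a]
    simp only [map_add, map_smul, map_smulₛₗ, LinearMap.add_apply, LinearMap.smul_apply,
      smul_eq_mul, hee, hff, hef, hfe, mul_zero, mul_one, zero_add, add_zero]
    ring
  have hinj : Function.Injective Ψ₀ := by
    rw [← LinearMap.ker_eq_bot, LinearMap.ker_eq_bot']
    intro a ha
    have h1 := hform a (0, 1)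
    have h2' := hform a (1, 0)
    rw [ha] at h1 h2'
    simp only [LinearMap.zero_apply, map_one, map_zero, mul_one, mul_zero, add_zero,
      zero_add] at h1 h2'
    exact Prod.ext h1.symm h2'.symm
  have hfr : finrank L (L × L) = finrank L V := by
    rw [Module.finrank_prod, Module.finrank_self, h2]
  have hsurj : Function.Surjective Ψ₀ :=
    (LinearMap.injective_iff_surjective_of_finrank_eq_finrank hfr).mp hinj
  refine ⟨LinearEquiv.ofBijective Ψ₀ ⟨hinj, hsurj⟩, fun a c => ?_⟩
  exact hform a c

end Cfsg.Agent.Lib.Helper29_UX_BrHyp
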