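import Mathlib
import Cfsg.Agent.Lib.Helper97_UExtDefs

set_option autoImplicit false
set_option linter.unusedSectionVars false
set_option linter.unusedVariables false

/-!
# UEXT2 bridge (helper29), part 1: the adjoint involution `τ` of a field `L` acting on a hermitian
`F`-space `(V, b)` whose scalars are closed under adjoints for `b`.
-/

namespace Cfsg.Agent.Lib.Helper29_UX_BrTau

open Module
open Cfsg.Agent.Lib.Helper94_Herm Cfsg.Agent.Lib.Helper97_UExtDefs

variable {F L V : Type*} [Field F] [Field L] [Algebra F L] [AddCommGroup V] [Module F V]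
  [Module L V] [IsScalarTower F L V] {σ : F →+* F}

/-- nondegeneracy in the second variable -/
theorem eq_zero_of_right (b : V →ₗ[F] V →ₛₗ[σ] F) (hb : IsHerm b) (hN : NondegOn b ⊤) {w : V}
    (h : ∀ u : V, b u w = 0) : w = 0 := by
  by_contra hw
  obtain ⟨y, -, hy⟩ := hN w trivial hw
  apply hy
  rw [hb y w, h y, map_zero]

/-- uniqueness of adjoints -/
theorem adj_unique [Nontrivial V] (b : V →ₗ[F] V →ₛₗ[σ] F) (hb : IsHerm b) (hN : NondegOn b ⊤)
    {k₁ k₂ : L} (h : ∀ u v : V, b u (k₁ • v) = b u (k₂ • v)) : k₁ = k₂ := by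
  obtain ⟨v, hv⟩ := exists_ne (0 : V)
  have h1 : (k₁ - k₂) • v = 0 := by
    apply eq_zero_of_right b hb hN
    intro u
    rw [sub_smul, map_sub, h u v, sub_self]
  rcases smul_eq_zero.mp h1 with h2 | h2
  · exact sub_eq_zero.mp h2
  · exact absurd h2 hv

/-- the adjoint involution -/
theorem exists_tau [Nontrivial V] (hσ : Invol σ) (b : V →ₗ[F] V →ₛₗ[σ] F) (hb : IsHerm b)
    (hN : NondegOn b ⊤) (hac : ∀ k : L, ∃ k' : L, ∀ u v : V, b (k • u) v = b u (k' • v)) :
    ∃ τ : L →+* L, TauExt σ τ ∧ ∀ (k : L) (u v : V), b (k • u) v = b u (τ k • v) := by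
  classical
  choose t ht using hac
  have huniq : ∀ {k₁ k₂ : L}, (∀ u v : V, b u (k₁ • v) = b u (k₂ • v)) → k₁ = k₂ :=
    fun h => adj_unique b hb hN h
  have h1 : t 1 = 1 := by
    apply huniq
    intro u v
    rw [← ht 1 u v, one_smul, one_smul]
  have hmul : ∀ k l : L, t (k * l) = t k * t l := by
    intro k l
    apply huniq
    intro u v
    rw [← ht (k * l) u v, mul_comm k l, mul_smul, ht l, ht k, smul_smul]
  have h0 : t 0 = 0 := by
    apply huniq
    intro u v
    rw [← ht 0 u v, zero_smul, zero_smul, map_zero, LinearMap.zero_apply, map_zero]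
  have hadd : ∀ k l : L, t (k + l) = t k + t l := by
    intro k l
    apply huniq
    intro u v
    rw [← ht (k + l) u v, add_smul, add_smul, map_add, LinearMap.add_apply, map_add, ht k, ht l]
  refine ⟨{ toFun := t, map_one' := h1, map_mul' := hmul, map_zero' := h0, map_add' := hadd },
    ⟨?_, ?_⟩, ?_⟩
  · intro k
    apply huniq
    intro u v
    show b u (t (t k) • v) = b u (k • v)
    rw [← ht (t k) u v, hb, ← ht k v u, ← hb]
  · intro a
    apply huniq
    intro u v
    show b u (t (algebraMap F L a) • v) = b u (algebraMap F L (σ a) • v)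
    rw [← ht, algebraMap_smul, algebraMap_smul, map_smul, LinearMap.smul_apply, map_smulₛₗ,
      hσ.invol]
  · intro k u v
    exact ht k u v

end Cfsg.Agent.Lib.Helper29_UX_BrTau
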