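import Mathlib
import Cfsg.Agent.Lib.Helper67_UT2BrDefs
import Cfsg.Agent.Lib.Helper14_PSULocal1

set_option autoImplicit false
set_option linter.unusedSectionVars false
set_option linter.unusedVariables false

/-!
# UTENS2 bridge, package BR-TR (architect helper67): transport of `SUg` along a similitude, and
`GU ⊓ SL` as the pullback of `SUg (hermB)`.
-/

open Module Matrix
open scoped Kronecker
open Cfsg.Agent.Lib.Helper94_Symp Cfsg.Agent.Lib.Helper94_Herm Cfsg.Agent.Lib.Helper13_PSUSimple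
  Cfsg.Agent.Lib.Helper94_Bridge Cfsg.Agent.Lib.Helper94_SLBridge Cfsg.Agent.Lib.Helper94_HermBridge
  Cfsg.Agent.Lib.Helper94_TensorFrameU Cfsg.Agent.Lib.Helper70_Tens_TP10b
  Cfsg.Agent.Lib.Helper67_Tens2Defs Cfsg.Agent.Lib.Helper67_UT2Defs Cfsg.Agent.Lib.Helper67_UT2BrDefs
  Cfsg.Agent.Lib.Helper9_T2_BR

namespace Cfsg.Agent.Lib.Helper44_UT2_BR_TR

variable {F : Type*} [Field F]

/-- transport of the isometry group of a sesquilinear form along a similitude -/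
theorem conjE_mem_uG {V V' : Type*} [AddCommGroup V] [Module F V] [AddCommGroup V'] [Module F V']
    {σ : F →+* F} (θ : V ≃ₗ[F] V') (b : V →ₗ[F] V →ₛₗ[σ] F) (b' : V' →ₗ[F] V' →ₛₗ[σ] F)
    (κ : F) (hκ : κ ≠ 0) (h : ∀ u v, b u v = κ * b' (θ u) (θ v)) (g : V ≃ₗ[F] V) :
    conjE θ g ∈ uG b' ↔ g ∈ uG b := by
  constructor
  · intro hg u v
    have h1 := hg (θ u) (θ v)
    rw [conjE_apply, conjE_apply, LinearEquiv.symm_apply_apply, LinearEquiv.symm_apply_apply] at h1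
    rw [h, h, h1]
  · intro hg x y
    rw [conjE_apply, conjE_apply]
    have h1 := hg (θ.symm x) (θ.symm y)
    rw [h, h, LinearEquiv.apply_symm_apply, LinearEquiv.apply_symm_apply] at h1
    exact mul_left_cancel₀ hκ h1

theorem det_conjE {V V' : Type*} [AddCommGroup V] [Module F V] [AddCommGroup V'] [Module F V']
    (θ : V ≃ₗ[F] V') (g : V ≃ₗ[F] V) : LinearEquiv.det (conjE θ g) = LinearEquiv.det g :=
  LinearEquiv.det_conj g θ

/-- BR-TR : transport of `SUg` along a similitude -/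
theorem conjE_mem_SUg {V V' : Type*} [AddCommGroup V] [Module F V] [AddCommGroup V'] [Module F V']
    {σ : F →+* F} (θ : V ≃ₗ[F] V') (b : V →ₗ[F] V →ₛₗ[σ] F) (b' : V' →ₗ[F] V' →ₛₗ[σ] F)
    (κ : F) (hκ : κ ≠ 0) (h : ∀ u v, b u v = κ * b' (θ u) (θ v)) (g : V ≃ₗ[F] V) :
    conjE θ g ∈ SUg b' ↔ g ∈ SUg b := by
  rw [mem_SUg, mem_SUg, conjE_mem_uG θ b b' κ hκ h g, det_conjE]

/-- BR-TR : `GU ⊓ SL` is the pullback of `SUg (hermB)` -/
theorem SU_eq [Fintype F] {n q : ℕ} (σ : F →+* F) (hσq : ∀ x, σ x = x ^ q) :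
    Cfsg.GU n F q ⊓ Cfsg.Geo.specialLinear (Fin n) F =
      (SUg (hermB n σ hσq)).comap (glEquiv (Fin n) F).toMonoidHom := by
  ext g
  rw [Subgroup.mem_inf, GU_eq σ hσq, specialLinear_eq, Subgroup.mem_comap, Subgroup.mem_comap,
    Subgroup.mem_comap, mem_SUg, mem_slK]

end Cfsg.Agent.Lib.Helper44_UT2_BR_TR
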