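import Mathlib
import Cfsg.Prelude.Def_GeometricClasses
import Cfsg.Prelude.Def_LieClassical
import Cfsg.Agent.Lib.Helper97_UExtDefs
import Cfsg.Agent.Lib.Helper94_HermBridge
import Cfsg.Agent.Lib.Helper44_UT2_BR_TR
import Cfsg.Agent.Lib.Helper10_UX_THERM
import Cfsg.Agent.Lib.Helper29_SpExtBridge
import Cfsg.Agent.Lib.Helper29_SpExtAll
import Cfsg.Agent.Lib.Helper29_UX_BrTau
import Cfsg.Agent.Lib.Helper29_UX_BrTrace
import Cfsg.Agent.Lib.Helper29_UX_BrHyp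
import Cfsg.Agent.Lib.Helper29_UX_BrElts
import Cfsg.Agent.Lib.Helper29_UX_BrSemi

set_option autoImplicit false
set_option linter.unusedSectionVars false
set_option linter.unusedVariables false

/-!
# UEXT2 bridge (helper29 for helper97): from the abstract theorem on `K × K` to
`IsMaximalIn (GU ⊓ SL) (subalgebraNormalizer K ⊓ (GU ⊓ SL))` for a field subalgebra `K` of degree
`r = n / 2` of `M_n(F)` closed under adjoints for the standard unitary form.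
-/

open Module Matrix Cfsg.Geo
open Cfsg.Agent.Lib.Helper94_Symp Cfsg.Agent.Lib.Helper94_Herm Cfsg.Agent.Lib.Helper13_PSUSimple
  Cfsg.Agent.Lib.Helper94_Bridge Cfsg.Agent.Lib.Helper94_HermBridge
  Cfsg.Agent.Lib.Helper70_Tens_TP10b
  Cfsg.Agent.Lib.Helper67_Tens2Defs Cfsg.Agent.Lib.Helper67_UT2Defs Cfsg.Agent.Lib.Helper98_ExtDefs
  Cfsg.Agent.Lib.Helper97_UExtDefs

namespace Cfsg.Agent.Lib.Helper29_UX_Bridge

universe u

/-- the bridge -/
theorem bridge {F : Type u} [Field F] [Fintype F] (n q r : ℕ) (hF : Fintype.card F = q ^ 2)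
    (hn : n = 2 * r) (hr : 2 ≤ r)
    (K : Subalgebra F (Matrix (Fin n) (Fin n) F)) (hK : Cfsg.Geo.IsFieldSubalgebra r K)
    (hac : Cfsg.Geo.IsAdjointClosedFor (Cfsg.hermForm n F q) K)
    (hmain : ∀ (σ : F →+* F), (∀ x, σ x = x ^ q) → Invol σ →
      ∀ (L : Type u) [Field L] [Algebra F L] [Finite L] (τ : L →+* L) (h : TauExt σ τ),
      finrank F L = r → ∀ M : Subgroup ((L × L) ≃ₗ[F] (L × L)), HypX h M →
        (∀ g ∈ M, IsSemilin F L (L × L) g) ∨ SUg (uf (trT h)) ≤ M) :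
    Cfsg.Geo.IsMaximalIn (Cfsg.GU n F q ⊓ Cfsg.Geo.specialLinear (Fin n) F)
      (Cfsg.Geo.subalgebraNormalizer K ⊓
        (Cfsg.GU n F q ⊓ Cfsg.Geo.specialLinear (Fin n) F)) := by
  classical
  obtain ⟨σ, hσq, hσ⟩ := exists_frob hF
  haveI : Nonempty (Fin n) := ⟨⟨0, by omega⟩⟩
  letI : Field ↥K := (Cfsg.Agent.Lib.Helper29_SpExtAll.isField_of' hK).toField
  have hfr : finrank F ↥K = r := hK.finrank_eq
  haveI : Finite ↥K := Finite.of_injective (fun x : ↥K => x.1) Subtype.val_injective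
  haveI : Module.Finite ↥K (Fin n → F) := Module.Finite.of_restrictScalars_finite F ↥K _
  haveI : Nontrivial (Fin n → F) := Function.nontrivial
  set b₀ : (Fin n → F) →ₗ[F] (Fin n → F) →ₛₗ[σ] F := hermB n σ hσq with hb₀def
  have hb₀ : IsHerm b₀ := hermB_isHerm σ hσq hσ
  have hN₀ : NondegOn b₀ ⊤ := hermB_nondeg σ hσq
  have hac' : ∀ k : ↥K, ∃ k' : ↥K, ∀ u v : Fin n → F, b₀ (k • u) v = b₀ u (k' • v) := by
    intro k
    obtain ⟨k', hk', h⟩ := hac k.1 k.2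
    exact ⟨⟨k', hk'⟩, fun u v => h u v⟩
  obtain ⟨τ, hτ, hadj⟩ := Cfsg.Agent.Lib.Helper29_UX_BrTau.exists_tau hσ b₀ hb₀ hN₀ hac'
  set B : (Fin n → F) →ₗ[↥K] (Fin n → F) →ₛₗ[τ] ↥K :=
    Cfsg.Agent.Lib.Helper29_UX_BrTrace.trH hτ b₀ hadj with hBdef
  have hB : IsHerm B := Cfsg.Agent.Lib.Helper29_UX_BrTrace.trH_isHerm hτ b₀ hb₀ hadj
  have hBN : NondegOn B ⊤ := Cfsg.Agent.Lib.Helper29_UX_BrTrace.trH_nondeg hτ b₀ hN₀ hadj
  have hdim : finrank ↥K (Fin n → F) = 2 := by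
    have h3 := Module.finrank_mul_finrank F ↥K (Fin n → F)
    rw [hfr, Module.finrank_fintype_fun_eq_card, Fintype.card_fin] at h3
    have h4 : r * finrank ↥K (Fin n → F) = r * 2 := by omega
    exact Nat.eq_of_mul_eq_mul_left (by omega) h4
  obtain ⟨Ψ, hΨ⟩ := Cfsg.Agent.Lib.Helper29_UX_BrHyp.exists_coords (hτ.toInvol hσ) B hB hBN hdim
  set Θ' : (Fin n → F) ≃ₗ[F] (↥K × ↥K) := (Ψ.symm).restrictScalars F with hΘ'
  have hΘlin : ∀ (k : ↥K) (v : Fin n → F), Θ' (k • v) = k • Θ' v := fun k v => Ψ.symm.map_smul k v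
  have hΨΘ : ∀ v : Fin n → F, Ψ (Θ' v) = v := fun v => Ψ.apply_symm_apply v
  have hform : ∀ v w : Fin n → F, b₀ v w = 1 * uf (trT hτ) (Θ' v) (Θ' w) := by
    intro v w
    rw [one_mul, ← Cfsg.Agent.Lib.Helper29_UX_BrTrace.trace_trH hτ b₀ hadj v w]
    have h1 : Cfsg.Agent.Lib.Helper29_UX_BrTrace.trH hτ b₀ hadj v w =
        (Θ' v).1 * τ (Θ' w).2 + (Θ' v).2 * τ (Θ' w).1 := by
      rw [← hΨ (Θ' v) (Θ' w), hΨΘ, hΨΘ]
    rw [h1, map_add, uf_apply, trT_apply, trT_apply]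
  set Φ' : GL (Fin n) F ≃* ((↥K × ↥K) ≃ₗ[F] (↥K × ↥K)) :=
    (glEquiv (Fin n) F).trans (conjE Θ') with hΦ'
  have hΦ'app : ∀ g : GL (Fin n) F, Φ' g = conjE Θ' (glEquiv (Fin n) F g) := fun g => rfl
  -- membership in `SU`
  have hSU : ∀ g : GL (Fin n) F,
      g ∈ Cfsg.GU n F q ⊓ Cfsg.Geo.specialLinear (Fin n) F ↔ Φ' g ∈ SUg (uf (trT hτ)) := by
    intro g
    rw [Cfsg.Agent.Lib.Helper44_UT2_BR_TR.SU_eq σ hσq, Subgroup.mem_comap]
    exact (Cfsg.Agent.Lib.Helper44_UT2_BR_TR.conjE_mem_SUg Θ' b₀ (uf (trT hτ)) 1 one_ne_zero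
      hform _).symm
  -- membership in the normaliser
  have hKL : ∀ k : Matrix (Fin n) (Fin n) F,
      k ∈ K ↔ ∃ x : ↥K, ∀ v : Fin n → F, k *ᵥ v = x • v := by
    intro k
    constructor
    · intro hk
      exact ⟨⟨k, hk⟩, fun v => rfl⟩
    · rintro ⟨x, hx⟩
      have : k = x.1 := by
        rw [Matrix.ext_iff_mulVec]
        intro v
        rw [hx v]
        rfl
      rw [this]
      exact x.2
  have hsemi : ∀ g : GL (Fin n) F,
      g ∈ Cfsg.Geo.subalgebraNormalizer K ↔ IsSemilin F ↥K (↥K × ↥K) (Φ' g) := by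
    intro g
    rw [hΦ'app, Cfsg.Agent.Lib.Helper29_UX_BrSemi.isSemilin_conjE Θ' hΘlin]
    constructor
    · intro hg
      obtain ⟨ρ, hρ⟩ := Cfsg.Agent.Lib.Helper29_UX_BrSemi.isSemilin_of_mem_normalizer K
        (fun a b => rfl) (fun a b => rfl) g hg
      refine ⟨ρ, fun k v => ?_⟩
      rw [glEquiv_apply, glEquiv_apply]
      exact hρ k v
    · intro hg
      exact Cfsg.Agent.Lib.Helper29_SpExtBridge.mem_normalizer_of_isSemilin K hKL g hg
  refine ⟨?_, ?_⟩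
  · -- properness
    refine lt_of_le_of_ne inf_le_right ?_
    intro heq
    obtain ⟨ζ, hζ0, hζ⟩ := exists_skew hσ
    set t : (↥K × ↥K) ≃ₗ[F] (↥K × ↥K) := utv (uf (trT hτ)) ((1, 0) : ↥K × ↥K) ζ with ht
    have htS : t ∈ SUg (uf (trT hτ)) :=
      Cfsg.Agent.Lib.Helper14_PSULocal1.utv_mem_SUg
        (uf_isHerm (Cfsg.Agent.Lib.Helper10_UX_THERM.trT_isHerm hτ)) _ hζ
    have htK : ¬ IsSemilin F ↥K (↥K × ↥K) t :=
      Cfsg.Agent.Lib.Helper29_UX_BrSemi.not_isSemilin_utv hτ (by rw [hfr]; exact hr) 1 one_ne_zero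
        ζ hζ0
    have h1 : Φ'.symm t ∈ Cfsg.GU n F q ⊓ Cfsg.Geo.specialLinear (Fin n) F := by
      rw [hSU, MulEquiv.apply_symm_apply]; exact htS
    rw [← heq] at h1
    have h2 := (hsemi _).mp h1.1
    rw [MulEquiv.apply_symm_apply] at h2
    exact htK h2
  · intro M hHM hMK
    set M' : Subgroup ((↥K × ↥K) ≃ₗ[F] (↥K × ↥K)) := M.map Φ'.toMonoidHom with hM'
    have hmem : ∀ x : (↥K × ↥K) ≃ₗ[F] (↥K × ↥K), IsSemilin F ↥K (↥K × ↥K) x →
        x ∈ SUg (uf (trT hτ)) → x ∈ M' := by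
      intro x hxK hxS
      refine ⟨Φ'.symm x, hHM ⟨(hsemi _).mpr ?_, (hSU _).mpr ?_⟩, ?_⟩
      · rwa [MulEquiv.apply_symm_apply]
      · rwa [MulEquiv.apply_symm_apply]
      · exact MulEquiv.apply_symm_apply Φ' x
    have hHyp : HypX hτ M' := by
      refine ⟨?_, ?_, ?_, ?_⟩
      · rintro x ⟨g, hg, rfl⟩
        exact (mem_SUg.mp ((hSU g).mp (hMK hg))).1
      · intro κ hκ
        exact hmem _ (Cfsg.Agent.Lib.Helper29_UX_BrElts.isSemilin_of_linear _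
          (Cfsg.Agent.Lib.Helper29_UX_BrElts.ux_mK_linear κ))
          (Cfsg.Agent.Lib.Helper29_UX_BrElts.ux_mK_mem hτ hσ κ hκ)
      · intro κ hκ
        exact hmem _ (Cfsg.Agent.Lib.Helper29_UX_BrElts.isSemilin_of_linear _
          (Cfsg.Agent.Lib.Helper29_UX_BrElts.lx_mK_linear κ))
          (Cfsg.Agent.Lib.Helper29_UX_BrElts.lx_mK_mem hτ hσ κ hκ)
      · intro l hl
        exact hmem _ (Cfsg.Agent.Lib.Helper29_UX_BrElts.isSemilin_of_linear _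
          (Cfsg.Agent.Lib.Helper29_UX_BrElts.dK_linear _ _))
          (Cfsg.Agent.Lib.Helper29_UX_BrElts.hEK_mem hτ hσ l hl)
    rcases hmain σ hσq hσ ↥K τ hτ hfr M' hHyp with hall | htop
    · left
      apply le_antisymm _ hHM
      intro g hg
      exact ⟨(hsemi g).mpr (hall _ ⟨g, hg, rfl⟩), hMK hg⟩
    · right
      apply le_antisymm hMK
      intro g hg
      have h1 : Φ' g ∈ M' := htop ((hSU g).mp hg)
      obtain ⟨g', hg', hgg'⟩ := h1
      have : g' = g := Φ'.injective hgg'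
      rwa [← this]

end Cfsg.Agent.Lib.Helper29_UX_Bridge
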