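import Mathlib
import Cfsg.Agent.Lib.Helper97_UExtDefs
import Cfsg.Agent.Lib.Helper94_UDDefs
import Cfsg.Agent.Lib.Helper98_ExtMult

set_option autoImplicit false
set_option linter.unusedSectionVars false
set_option linter.unusedVariables false

/-!
# UEXT2 (architect helper97), package MAX: a pair of distinct members of the orbit of `G0`
with intersection of maximal dimension
-/

namespace Cfsg.Agent.Lib.Helper39_UX_MAX

open Module
open Cfsg.Agent.Lib.Helper94_Symp Cfsg.Agent.Lib.Helper94_Herm Cfsg.Agent.Lib.Helper13_PSUSimple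
  Cfsg.Agent.Lib.Helper67_Tens2Defs Cfsg.Agent.Lib.Helper67_UT2Defs Cfsg.Agent.Lib.Helper98_ExtDefs
  Cfsg.Agent.Lib.Helper94_FrmDefs Cfsg.Agent.Lib.Helper94_UDDefs Cfsg.Agent.Lib.Helper97_UExtDefs

variable {F K : Type*} [Field F] [Field K] [Algebra F K] [Finite F] [Finite K]
  {σ : F →+* F} {τ : K →+* K}

/-- `Lg (a * b) = a (Lg b)` (no finiteness needed) -/
theorem map_Lg {F B : Type*} [Field F] [AddCommGroup B] [Module F B]
    (a b : (B × B) ≃ₗ[F] (B × B)) :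
    (Lg b).map a.toLinearMap = Lg (a * b) := by
  ext x
  simp only [Submodule.mem_map, mem_Lg]
  constructor
  · rintro ⟨z, ⟨u, rfl⟩, rfl⟩
    exact ⟨u, rfl⟩
  · rintro ⟨u, rfl⟩
    exact ⟨b (u, 0), ⟨u, rfl⟩, rfl⟩

/-- `Lg 1 = G0` -/
theorem Lg_one {F B : Type*} [Field F] [AddCommGroup B] [Module F B] :
    Lg (1 : (B × B) ≃ₗ[F] (B × B)) = (G0 : Submodule F (B × B)) := by
  ext x
  rw [mem_Lg, mem_G0]
  constructor
  · rintro ⟨u, rfl⟩
    rfl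
  · intro hx
    exact ⟨x.1, Prod.ext rfl hx.symm⟩

variable {M : Subgroup ((K × K) ≃ₗ[F] (K × K))}

/-- PKG MAX (M; no form) -/
theorem exists_maxCfg (M : Subgroup ((K × K) ≃ₗ[F] (K × K)))
    (hex : ∃ g ∈ M, ∃ g' ∈ M, Lg g ≠ Lg g' ∧ Lg g ⊓ Lg g' ≠ ⊥) : ∃ y, MaxCfg M y := by
  classical
  haveI : Module.Finite F (K × K) := Module.Finite.of_finite
  -- the set of attained dimensions
  let S : Set ℕ := {d | ∃ g ∈ M, ∃ g' ∈ M, Lg g ≠ Lg g' ∧ finrank F ↥(Lg g ⊓ Lg g') = d}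
  have hne : S.Nonempty := by
    obtain ⟨g, hg, g', hg', hne, -⟩ := hex
    exact ⟨_, g, hg, g', hg', hne, rfl⟩
  have hbdd : BddAbove S := by
    refine ⟨finrank F (K × K), ?_⟩
    rintro d ⟨g, -, g', -, -, rfl⟩
    exact Submodule.finrank_le _
  obtain ⟨g, hg, g', hg', hgg', hd⟩ := Nat.sSup_mem hne hbdd
  have hmaxS : ∀ d ∈ S, d ≤ sSup S := fun d hd => le_csSup hbdd hd
  -- positivity
  have hpos : 0 < sSup S := by
    obtain ⟨g₁, hg₁, g₁', hg₁', hne₁, hmeet⟩ := hex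
    have h1 : finrank F ↥(Lg g₁ ⊓ Lg g₁') ≤ sSup S := hmaxS _ ⟨g₁, hg₁, g₁', hg₁', hne₁, rfl⟩
    have h2 : 0 < finrank F ↥(Lg g₁ ⊓ Lg g₁') := by
      rw [Nat.pos_iff_ne_zero]
      intro h0
      exact hmeet (Submodule.finrank_eq_zero.mp h0)
    omega
  -- the configuration
  have hG0 : (Lg g).map (g⁻¹ : (K × K) ≃ₗ[F] (K × K)).toLinearMap =
      (G0 : Submodule F (K × K)) := by
    rw [map_Lg, inv_mul_cancel, Lg_one]
  have hLy : (Lg g').map (g⁻¹ : (K × K) ≃ₗ[F] (K × K)).toLinearMap = Lg (g⁻¹ * g') := map_Lg _ _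
  have hinf : (Lg g ⊓ Lg g').map (g⁻¹ : (K × K) ≃ₗ[F] (K × K)).toLinearMap =
      (G0 : Submodule F (K × K)) ⊓ Lg (g⁻¹ * g') := by
    rw [Submodule.map_inf _ (g⁻¹ : (K × K) ≃ₗ[F] (K × K)).injective, hG0, hLy]
  have hfr : finrank F ↥((G0 : Submodule F (K × K)) ⊓ Lg (g⁻¹ * g')) = sSup S := by
    rw [← hinf, ← hd]
    exact LinearEquiv.finrank_map_eq (g⁻¹ : (K × K) ≃ₗ[F] (K × K)) _
  refine ⟨g⁻¹ * g', M.mul_mem (M.inv_mem hg) hg', ?_, ?_, ?_⟩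
  · intro heq
    apply hgg'
    rw [← hLy, ← hG0] at heq
    exact (Submodule.map_injective_of_injective
      (g⁻¹ : (K × K) ≃ₗ[F] (K × K)).injective heq).symm
  · intro hbot
    rw [hbot, finrank_bot] at hfr
    omega
  · intro g₁ hg₁ g₁' hg₁' hne₁
    rw [hfr]
    exact hmaxS _ ⟨g₁, hg₁, g₁', hg₁', hne₁, rfl⟩

end Cfsg.Agent.Lib.Helper39_UX_MAX
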