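import Mathlib
import Cfsg.Agent.Lib.Helper97_UExtDefs
import Cfsg.Agent.Lib.Helper94_UDDefs
import Cfsg.Agent.Lib.Helper98_ExtMult
import Cfsg.Agent.Lib.Helper91_UQ_FROB

set_option autoImplicit false
set_option linter.unusedSectionVars false
set_option linter.unusedVariables false

/-!
helper73 — package ARITH of helper97's UEXT2 market: for `q ^ r > q ^ 2 + 2 q` there is a torus element
`l` with `N(l) ∈ F₀` and `l ∉ F · K₀` (`l = g ^ (q + 1)`, `g` a generator of `Kˣ`: the elements of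
`Fˣ K₀ˣ` have order dividing `(q + 1) (q ^ r - 1)`).
-/

namespace Cfsg.Agent.Lib.Helper73_UX_ARITH

open Module
open Cfsg.Agent.Lib.Helper94_Symp Cfsg.Agent.Lib.Helper94_Herm Cfsg.Agent.Lib.Helper13_PSUSimple
  Cfsg.Agent.Lib.Helper67_Tens2Defs Cfsg.Agent.Lib.Helper67_UT2Defs Cfsg.Agent.Lib.Helper98_ExtDefs
  Cfsg.Agent.Lib.Helper94_FrmDefs Cfsg.Agent.Lib.Helper94_UDDefs Cfsg.Agent.Lib.Helper97_UExtDefs

variable {F K : Type*} [Field F] [Field K] [Algebra F K] [Finite F] [Finite K]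
  {σ : F →+* F} {τ : K →+* K}

/-- `x ^ (n + 1) = x`, `x ≠ 0` gives `x ^ n = 1` -/
theorem pow_eq_one_of_pow_succ_eq {L : Type*} [Field L] {x : L} (hx : x ≠ 0) {n : ℕ}
    (h : x ^ (n + 1) = x) : x ^ n = 1 := by
  have h1 : x ^ n * x = 1 * x := by rw [← pow_succ, h, one_mul]
  exact mul_right_cancel₀ hx h1

/-- PKG ARITH (M; for the bridge) -/
theorem arith_of_card (h : TauExt σ τ) (hσ : Invol σ) (q : ℕ) (hq : Nat.card F = q ^ 2)
    (hineq : q ^ 2 + 2 * q < q ^ finrank F K) : Arith σ τ := by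
  classical
  have hτ : Invol τ := h.toInvol hσ
  have hcardK : Nat.card K = (q ^ finrank F K) ^ 2 := by
    rw [Module.natCard_eq_pow_finrank (K := F) (V := K), hq, ← pow_mul, ← pow_mul, mul_comm]
  have hσq : ∀ x : F, σ x = x ^ q := Cfsg.Agent.Lib.Helper91_UQ_FROB.FROB hσ hq
  have hτQ : ∀ x : K, τ x = x ^ (q ^ finrank F K) :=
    Cfsg.Agent.Lib.Helper91_UQ_FROB.FROB hτ hcardK
  obtain ⟨Q, hQ⟩ : ∃ Q, Q = q ^ finrank F K := ⟨_, rfl⟩
  rw [← hQ] at hineq hcardK hτQ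
  have hFpow : ∀ x : F, x ^ (q ^ 2) = x := by
    intro x
    have : Fintype F := Fintype.ofFinite F
    have h1 := FiniteField.pow_card x
    rwa [← Nat.card_eq_fintype_card, hq] at h1
  have hq1 : 1 ≤ q := by
    rcases Nat.eq_zero_or_pos q with h0 | h0
    · exfalso
      rw [h0] at hq
      have : 0 < Nat.card F := Nat.card_pos
      omega
    · exact h0
  have hQ3 : 3 < Q := by nlinarith
  -- a generator of `Kˣ`
  obtain ⟨g, hg⟩ := IsCyclic.exists_generator (α := Kˣ)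
  have hord : orderOf g = Q ^ 2 - 1 := by
    rw [orderOf_eq_card_of_forall_mem_zpowers hg, Nat.card_units, hcardK]
  refine ⟨g ^ (q + 1), ?_, ?_⟩
  · rw [Units.val_pow_eq_pow_val, map_pow, hσq, ← pow_mul]
    have e : (q + 1) * q = q ^ 2 + q := by ring
    rw [e, pow_add, hFpow, pow_succ, mul_comm]
  · intro a k hk hl
    rw [Units.val_pow_eq_pow_val] at hl
    have hl0 : (g : K) ^ (q + 1) ≠ 0 := pow_ne_zero _ g.ne_zero
    have ha0 : a ≠ 0 := by
      intro h0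
      rw [h0, zero_smul] at hl
      exact hl0 hl
    have hk0 : k ≠ 0 := by
      intro h0
      rw [h0, smul_zero] at hl
      exact hl0 hl
    have ha1 : a ^ (q ^ 2 - 1) = 1 := by
      apply pow_eq_one_of_pow_succ_eq ha0
      have : q ^ 2 - 1 + 1 = q ^ 2 := Nat.sub_add_cancel (Nat.one_le_pow _ _ hq1)
      rw [this, hFpow]
    have hk1 : k ^ (Q - 1) = 1 := by
      apply pow_eq_one_of_pow_succ_eq hk0
      have : Q - 1 + 1 = Q := by omega
      rw [this, ← hτQ, hk]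
    -- `(q² - 1) ∣ (q + 1) (Q - 1)`
    have hdvd : q ^ 2 - 1 ∣ (q + 1) * (Q - 1) := by
      have e1 : q ^ 2 - 1 = (q + 1) * (q - 1) := by
        obtain ⟨p, rfl⟩ : ∃ p, q = p + 1 := ⟨q - 1, by omega⟩
        have : (p + 1) ^ 2 = (p + 1 + 1) * p + 1 := by ring
        rw [this]
        simp
      rw [e1]
      refine Nat.mul_dvd_mul_left _ ?_
      rw [hQ]
      exact Nat.sub_one_dvd_pow_sub_one q _
    have ham : a ^ ((q + 1) * (Q - 1)) = 1 := by
      obtain ⟨e, he⟩ := hdvd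
      rw [he, pow_mul, ha1, one_pow]
    have hkm : k ^ ((q + 1) * (Q - 1)) = 1 := by
      rw [mul_comm, pow_mul, hk1, one_pow]
    have hgK : (g : K) ^ ((q + 1) * ((q + 1) * (Q - 1))) = 1 := by
      rw [pow_mul, hl, smul_pow, ham, hkm, one_smul]
    have hgU : g ^ ((q + 1) * ((q + 1) * (Q - 1))) = 1 := by
      apply Units.ext
      rw [Units.val_pow_eq_pow_val, hgK, Units.val_one]
    have h1 : Q ^ 2 - 1 ∣ (q + 1) * ((q + 1) * (Q - 1)) := by
      rw [← hord]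
      exact orderOf_dvd_of_pow_eq_one hgU
    have e2 : Q ^ 2 - 1 = (Q - 1) * (Q + 1) := by
      obtain ⟨p, rfl⟩ : ∃ p, Q = p + 1 := ⟨Q - 1, by omega⟩
      have : (p + 1) ^ 2 = p * (p + 1 + 1) + 1 := by ring
      rw [this]
      simp
    have e3 : (q + 1) * ((q + 1) * (Q - 1)) = (Q - 1) * ((q + 1) * (q + 1)) := by ring
    rw [e2, e3] at h1
    have h2 : Q + 1 ∣ (q + 1) * (q + 1) := Nat.dvd_of_mul_dvd_mul_left (by omega) h1
    have h3 : Q + 1 ≤ (q + 1) * (q + 1) := Nat.le_of_dvd (by positivity) h2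
    nlinarith

end Cfsg.Agent.Lib.Helper73_UX_ARITH
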