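/-
UEXT2 market (architect helper97), package NTR: `M` is transitive on the vectors of a given
non-zero `K`-hermitian norm.
-/
import Mathlib
import Cfsg.Agent.Lib.Helper97_UExtDefs
import Cfsg.Agent.Lib.Helper94_UDDefs
import Cfsg.Agent.Lib.Helper98_ExtMult
import Cfsg.Agent.Lib.Helper10_UX_BASIC

set_option autoImplicit false
set_option linter.unusedSectionVars false
set_option linter.unusedVariables false

namespace Cfsg.Agent.Lib.Helper7_UX_NTR

open Module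
open Cfsg.Agent.Lib.Helper94_Symp Cfsg.Agent.Lib.Helper94_Herm Cfsg.Agent.Lib.Helper13_PSUSimple
  Cfsg.Agent.Lib.Helper67_Tens2Defs Cfsg.Agent.Lib.Helper67_UT2Defs Cfsg.Agent.Lib.Helper98_ExtDefs
  Cfsg.Agent.Lib.Helper94_FrmDefs Cfsg.Agent.Lib.Helper94_UDDefs Cfsg.Agent.Lib.Helper97_UExtDefs

variable {F K : Type*} [Field F] [Field K] [Algebra F K] [Finite F] [Finite K]
  {σ : F →+* F} {τ : K →+* K}

variable {M : Subgroup ((K × K) ≃ₗ[F] (K × K))}

theorem nu_mk (u u' : K) : nu τ ((u, u') : K × K) = u * τ u' + u' * τ u := rfl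

theorem tau_nu (h : TauExt σ τ) (x : K × K) : τ (nu τ x) = nu τ x := by
  unfold nu
  rw [map_add, map_mul, map_mul, h.invol, h.invol]
  ring

theorem nu_ux (κ : K) (hκ : τ κ = -κ) (x : K × K) :
    nu τ (ux (mK κ : K →ₗ[F] K) x) = nu τ x := by
  rw [ux_apply, mK_apply]
  unfold nu
  simp only [map_add, map_mul, hκ]
  ring

theorem nu_lx (κ : K) (hκ : τ κ = -κ) (x : K × K) :
    nu τ (lx (mK κ : K →ₗ[F] K) x) = nu τ x := by
  rw [lx_apply, mK_apply]
  unfold nu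
  simp only [map_add, map_mul, hκ]
  ring

theorem nu_dK (l : Kˣ) (hl : τ (l : K) = (l : K)) (x : K × K) :
    nu τ ((dK l l⁻¹ : (K × K) ≃ₗ[F] (K × K)) x) = nu τ x := by
  rw [dK_apply]
  unfold nu
  have h1 : τ ((l⁻¹ : Kˣ) : K) = ((l⁻¹ : Kˣ) : K) := by
    rw [Units.val_inv_eq_inv_val, map_inv₀, hl]
  simp only [map_mul, hl, h1]
  have h2 : (l : K) * ((l⁻¹ : Kˣ) : K) = 1 := by simp
  linear_combination (x.1 * τ x.2 + x.2 * τ x.1) * h2

/-- first step: make the second coordinate `1` -/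
theorem exists_snd_one (h : TauExt σ τ) (hM : HypX h M)
    (hd : ∀ l : Kˣ, τ (l : K) = (l : K) → dK l l⁻¹ ∈ M) (x : K × K) (h0 : nu τ x ≠ 0) :
    ∃ g ∈ M, (g x).2 = 1 ∧ nu τ (g x) = nu τ x := by
  obtain ⟨u, u'⟩ := x
  have hu' : u' ≠ 0 := by
    intro h'
    apply h0
    rw [nu_mk, h', map_zero, mul_zero, zero_mul, add_zero]
  have hτu' : τ u' ≠ 0 := fun h' => hu' ((map_eq_zero τ).mp h')
  by_cases hfix : τ u' = u'
  · refine ⟨dK (Units.mk0 u' hu') (Units.mk0 u' hu')⁻¹, hd _ hfix, ?_, nu_dK _ hfix _⟩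
    rw [dK_apply]
    simp [hu']
  · -- the generic case
    set δ : K := u'⁻¹ - 1 with hδ
    set ρ : K := u / u' with hρ
    set r : K := ρ + τ ρ with hr
    have hr0 : r ≠ 0 := by
      intro h'
      apply h0
      rw [nu_mk]
      have : r * (u' * τ u') = u * τ u' + u' * τ u := by
        rw [hr, hρ, map_div₀]
        field_simp
      rw [← this, h', zero_mul]
    have hτr : τ r = r := by
      rw [hr, map_add, h.invol]; ring
    have hd0 : δ - τ δ ≠ 0 := by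
      intro h'
      apply hfix
      have h1 : u'⁻¹ = (τ u')⁻¹ := by
        have : δ - τ δ = u'⁻¹ - (τ u')⁻¹ := by
          rw [hδ, map_sub, map_one, map_inv₀]; ring
        rw [this] at h'
        exact sub_eq_zero.mp h'
      exact (inv_injective h1).symm
    set μ : K := (δ - τ δ) / r with hμ
    have hμ0 : μ ≠ 0 := div_ne_zero hd0 hr0
    have hτμ : τ μ = -μ := by
      rw [hμ, map_div₀, map_sub, h.invol, hτr]
      field_simp
      ring
    set κ : K := δ / μ - ρ with hκ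
    have hτκ : τ κ = -κ := by
      rw [hκ, map_sub, map_div₀, hτμ]
      have h1 : (δ - τ δ) = μ * r := by
        rw [hμ]; field_simp
      have h2 : τ δ = δ - μ * r := by rw [← h1]; ring
      have h3 : τ ρ = r - ρ := by rw [hr]; ring
      rw [h2, h3]
      field_simp
      ring
    refine ⟨lx (mK μ : K →ₗ[F] K) * ux (mK κ : K →ₗ[F] K),
      M.mul_mem (hM.lx_mem μ hτμ) (hM.ux_mem κ hτκ), ?_, ?_⟩
    · rw [LinearEquiv.mul_apply, ux_apply, lx_apply, mK_apply, mK_apply]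
      show u' + μ * (u + κ * u') = 1
      have h1 : μ * κ = δ - μ * ρ := by
        rw [hκ]; field_simp
      have h2 : ρ * u' = u := by rw [hρ]; field_simp
      have h3 : δ * u' = 1 - u' := by rw [hδ]; field_simp
      linear_combination u' * h1 - μ * h2 + h3
    · rw [LinearEquiv.mul_apply, nu_lx μ hτμ, nu_ux κ hτκ]

/-- every vector of non-zero norm can be moved by `M` to the normal form `(ν c₀, 1)` -/
theorem to_normal (h : TauExt σ τ) (hM : HypX h M)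
    (hd : ∀ l : Kˣ, τ (l : K) = (l : K) → dK l l⁻¹ ∈ M)
    (c₀ : K) (hc₀ : c₀ + τ c₀ = 1) (x : K × K) (h0 : nu τ x ≠ 0) :
    ∃ g ∈ M, g x = (nu τ x * c₀, 1) := by
  obtain ⟨g₁, hg₁, h2, hν⟩ := exists_snd_one h hM hd x h0
  set y := g₁ x with hy
  set ν := nu τ x with hνdef
  have hy2 : y = (y.1, 1) := Prod.ext rfl h2
  have hνy : y.1 + τ y.1 = ν := by
    rw [← hν, hy2, nu_mk, map_one]; ring
  have hτν : τ ν = ν := tau_nu h x
  set κ : K := ν * c₀ - y.1 with hκ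
  have hτκ : τ κ = -κ := by
    rw [hκ, map_sub, map_mul, hτν]
    have h3 : τ c₀ = 1 - c₀ := by rw [← hc₀]; ring
    have h4 : τ y.1 = ν - y.1 := by rw [← hνy]; ring
    rw [h3, h4]; ring
  refine ⟨ux (mK κ : K →ₗ[F] K) * g₁, M.mul_mem (hM.ux_mem κ hτκ) hg₁, ?_⟩
  rw [LinearEquiv.mul_apply, ← hy, hy2, ux_apply, mK_apply]
  ext
  · show y.1 + κ * 1 = ν * c₀
    rw [hκ]; ring
  · rfl

theorem norm_trans_of (h : TauExt σ τ) (hσ : Invol σ) (hM : HypX h M)
    (hd : ∀ l : Kˣ, τ (l : K) = (l : K) → dK l l⁻¹ ∈ M) (x x' : K × K)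
    (hν : nu τ x = nu τ x') (h0 : nu τ x ≠ 0) : ∃ g ∈ M, g x = x' := by
  obtain ⟨c₀, hc₀⟩ := tr_surj (h.toInvol hσ) 1 (map_one τ)
  obtain ⟨g, hg, hgx⟩ := to_normal h hM hd c₀ hc₀ x h0
  obtain ⟨g', hg', hgx'⟩ := to_normal h hM hd c₀ hc₀ x' (hν ▸ h0)
  refine ⟨g'⁻¹ * g, M.mul_mem (M.inv_mem hg') hg, ?_⟩
  rw [LinearEquiv.mul_apply, hgx, hν, ← hgx']
  show g'⁻¹ (g' x') = x'
  rw [← LinearEquiv.mul_apply, inv_mul_cancel]
  rfl

/-- PKG NTR (M; uses BASIC) -/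
theorem norm_trans (h : TauExt σ τ) (hσ : Invol σ) (hM : HypX h M) (x x' : K × K)
    (hν : nu τ x = nu τ x') (h0 : nu τ x ≠ 0) : ∃ g ∈ M, g x = x' :=
  norm_trans_of h hσ hM (fun l hl => Cfsg.Agent.Lib.Helper10_UX_BASIC.dK_mem h hσ hM l hl) x x' hν h0

end Cfsg.Agent.Lib.Helper7_UX_NTR
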