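import Mathlib
import Cfsg.Agent.Lib.Helper97_UExtDefs
import Cfsg.Agent.Lib.Helper94_UDDefs
import Cfsg.Agent.Lib.Helper98_ExtMult
import Cfsg.Agent.Lib.Helper10_UX_BASIC
import Cfsg.Agent.Lib.Helper73_UX_FLD
import Cfsg.Agent.Lib.Helper10_UX_THERM
import Cfsg.Agent.Lib.Helper10_UX_TRS

set_option autoImplicit false
set_option linter.unusedSectionVars false
set_option linter.unusedVariables false

/-!
# UEXT2 package ISO (helper8 for helper97): a vector `v` of `K × K` with `K`-hermitian norm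
`nu τ v = 0` has its full root group in `M`, once all `f`-isotropic vectors of nonzero norm do.
Paper proof: pending/helper97/UEXT2_proof.md §11 ISO (with `z` skew, so `ρ₁ = 0`).
-/

namespace Cfsg.Agent.Lib.Helper8_UX_ISO

open Module
open Cfsg.Agent.Lib.Helper94_Symp Cfsg.Agent.Lib.Helper94_Herm Cfsg.Agent.Lib.Helper13_PSUSimple
  Cfsg.Agent.Lib.Helper67_Tens2Defs Cfsg.Agent.Lib.Helper67_UT2Defs Cfsg.Agent.Lib.Helper98_ExtDefs
  Cfsg.Agent.Lib.Helper94_FrmDefs Cfsg.Agent.Lib.Helper94_UDDefs Cfsg.Agent.Lib.Helper97_UExtDefs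

variable {F K : Type*} [Field F] [Field K] [Algebra F K] [Finite F] [Finite K]
  {σ : F →+* F} {τ : K →+* K}

/-- `f x x = Tr (ν x)` -/
theorem uf_self_eq (h : TauExt σ τ) (x : K × K) :
    uf (trT h) x x = Algebra.trace F K (nu τ x) := by
  simp only [uf_apply, trT_apply, nu, map_add]

/-- a skew element of `K` with nonzero trace -/
theorem exists_skew_trace_ne (h : TauExt σ τ) (hσ : Invol σ) :
    ∃ z : K, τ z = -z ∧ Algebra.trace F K z ≠ 0 := by
  obtain ⟨θ, hθ⟩ := hσ.ne_id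
  obtain ⟨ω, hω0, hω⟩ := exists_skew hσ
  obtain ⟨y, hy⟩ : ∃ y : K, Algebra.trace F K y ≠ 0 := by
    obtain ⟨y, hy⟩ := Algebra.trace_surjective F K 1
    exact ⟨y, by rw [hy]; exact one_ne_zero⟩
  obtain ⟨a, b, ha, hb, rfl⟩ := Cfsg.Agent.Lib.Helper73_UX_FLD.dec_K0 h hσ hθ y
  have hex : ∃ k : K, τ k = k ∧ Algebra.trace F K k ≠ 0 := by
    by_contra hcon
    push Not at hcon
    apply hy
    rw [map_add, map_smul, hcon a ha, hcon b hb, smul_zero, add_zero]
  obtain ⟨k, hk, hk0⟩ := hex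
  refine ⟨ω • k, ?_, ?_⟩
  · rw [h.map_smul, hω, hk, neg_smul]
  · rw [map_smul, smul_eq_mul]
    exact mul_ne_zero hω0 hk0

/-- a nonzero `τ`-fixed element of `K` of trace zero -/
theorem exists_fix_trace_zero (h : TauExt σ τ) (hσ : Invol σ) (hr : 2 ≤ finrank F K) :
    ∃ n : K, τ n = n ∧ n ≠ 0 ∧ Algebra.trace F K n = 0 := by
  by_contra hcon
  push Not at hcon
  have hinj : Function.Injective (fun k : {k : K // τ k = k} =>
      (⟨Algebra.trace F K k.1, by
        rw [← Cfsg.Agent.Lib.Helper10_UX_TRS.trace_tau h, k.2]⟩ : {c : F // σ c = c})) := by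
    intro k k' hkk
    have h1 : Algebra.trace F K (k.1 - k'.1) = 0 := by
      rw [map_sub, sub_eq_zero]
      exact congrArg Subtype.val hkk
    by_contra hne
    exact hcon (k.1 - k'.1) (by rw [map_sub, k.2, k'.2])
      (sub_ne_zero.mpr (fun e => hne (Subtype.ext e))) h1
  have hle := Nat.card_le_card_of_injective _ hinj
  have hK := Cfsg.Agent.Lib.Helper73_UX_FLD.card_fixF (h.toInvol hσ)
  have hF := Cfsg.Agent.Lib.Helper73_UX_FLD.card_fixF hσ
  have hKF : Nat.card K = Nat.card F ^ finrank F K := Module.natCard_eq_pow_finrank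
  have h2 : 2 ≤ Nat.card F := by
    have := Finite.one_lt_card (α := F)
    omega
  have h3 : Nat.card K ≤ Nat.card F := by
    rw [← hK, ← hF]
    exact Nat.pow_le_pow_left hle 2
  have h4 : Nat.card F ^ 2 ≤ Nat.card F ^ finrank F K := Nat.pow_le_pow_right (by omega) hr
  nlinarith

variable {M : Subgroup ((K × K) ≃ₗ[F] (K × K))}

/-- the case `v = (v₁, 0)` -/
theorem iso_G0 (h : TauExt σ τ) (hσ : Invol σ) (hr : 3 ≤ finrank F K) (hM : HypX h M)
    (han : ∀ v : K × K, uf (trT h) v v = 0 → nu τ v ≠ 0 → v ∈ UU (uf (trT h)) M)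
    (v1 : K) (hv1 : v1 ≠ 0) : ((v1, 0) : K × K) ∈ UU (uf (trT h)) M := by
  obtain ⟨z, hz, hz0⟩ := exists_skew_trace_ne h hσ
  obtain ⟨n, hn, hn0, hnt⟩ := exists_fix_trace_zero h hσ (by omega)
  obtain ⟨a, ha⟩ := tr_surj (h.toInvol hσ) n hn
  have hzne : z ≠ 0 := by
    rintro rfl
    exact hz0 (map_zero _)
  obtain ⟨t, ht⟩ : ∃ t : K, v1 * t = z := ⟨z / v1, by field_simp⟩
  have htne : t ≠ 0 := by
    rintro rfl
    exact hzne (by rw [← ht, mul_zero])
  have hτt : τ t ≠ 0 := (map_ne_zero τ).2 htne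
  have hvt : τ v1 * τ t = -z := by rw [← map_mul, ht, hz]
  have hxx : ((v1 - a / t, -τ t) : K × K) + ((a / t, τ t) : K × K) = (v1, 0) := by
    ext <;> simp
  have hνx' : nu τ ((a / t, τ t) : K × K) = n := by
    simp only [nu]
    rw [h.invol, map_div₀, ← ha]
    field_simp
  have hνx : nu τ ((v1 - a / t, -τ t) : K × K) = n := by
    simp only [nu]
    rw [map_neg, h.invol, map_sub, map_div₀, ← ha]
    field_simp
    linear_combination (-1 : K) * ht - hvt
  have hfx' : uf (trT h) ((a / t, τ t) : K × K) (a / t, τ t) = 0 := by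
    rw [uf_self_eq, hνx', hnt]
  have hfx : uf (trT h) ((v1 - a / t, -τ t) : K × K) (v1 - a / t, -τ t) = 0 := by
    rw [uf_self_eq, hνx, hnt]
  have hUx' := han _ hfx' (by rw [hνx']; exact hn0)
  have hUx := han _ hfx (by rw [hνx]; exact hn0)
  have hne : uf (trT h) ((v1 - a / t, -τ t) : K × K) (a / t, τ t) ≠ 0 := by
    have : uf (trT h) ((v1 - a / t, -τ t) : K × K) (a / t, τ t) = Algebra.trace F K z := by
      simp only [uf_apply, trT_apply]
      rw [← map_add, h.invol, map_div₀]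
      have : (v1 - a / t) * t + -τ t * (τ a / τ t) = z - n := by
        rw [← ha]
        field_simp
        linear_combination ht
      rw [this, map_sub, hnt, sub_zero]
    rw [this]
    exact hz0
  rw [← hxx]
  refine UU_add hσ (uf_isHerm (Cfsg.Agent.Lib.Helper10_UX_THERM.trT_isHerm h)) hM.le hUx hUx' hne ?_
  rw [hxx, uf_self_eq]
  simp [nu]

/-- PKG ISO (M; uses BASIC, TRM, FLD, THERM) -/
theorem iso_UU (h : TauExt σ τ) (hσ : Invol σ) (hr : 3 ≤ finrank F K) (hM : HypX h M)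
    (han : ∀ v : K × K, uf (trT h) v v = 0 → nu τ v ≠ 0 → v ∈ UU (uf (trT h)) M)
    (v : K × K) (hν : nu τ v = 0) : v ∈ UU (uf (trT h)) M := by
  obtain ⟨v1, v2⟩ := v
  by_cases hv2 : v2 = 0
  · subst hv2
    by_cases hv1 : v1 = 0
    · subst hv1
      exact UU_zero M
    · exact iso_G0 h hσ hr hM han v1 hv1
  · have hτv2 : τ v2 ≠ 0 := (map_ne_zero τ).2 hv2
    have hκ : τ (v1 / v2) = -(v1 / v2) := by
      rw [map_div₀]
      simp only [nu] at hν
      field_simp
      linear_combination hν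
    obtain ⟨ζ, hζ0, hζ⟩ := exists_skew (h.toInvol hσ)
    have hg : ux (mK (v1 / v2) : K →ₗ[F] K) * wK (Units.mk0 ζ hζ0) ∈ M :=
      M.mul_mem (hM.ux_mem _ hκ) (Cfsg.Agent.Lib.Helper10_UX_BASIC.wK_mem h hM _ hζ)
    have hval : (ux (mK (v1 / v2) : K →ₗ[F] K) * wK (Units.mk0 ζ hζ0) : (K × K) ≃ₗ[F] (K × K))
        ((-(ζ * v2), 0) : K × K) = (v1, v2) := by
      simp only [LinearEquiv.mul_apply, wK_apply, ux_apply, mK_apply, Units.val_mk0,
        Units.val_inv_eq_inv_val]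
      ext
      · simp only []
        field_simp
        ring
      · simp only []
        field_simp
    rw [← hval]
    exact UU_map hM.le hg (iso_G0 h hσ hr hM han _ (neg_ne_zero.mpr (mul_ne_zero hζ0 hv2)))

end Cfsg.Agent.Lib.Helper8_UX_ISO
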