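import Mathlib
import Cfsg.Agent.Lib.Helper97_UExtDefs
import Cfsg.Agent.Lib.Helper94_UDDefs
import Cfsg.Agent.Lib.Helper98_ExtMult
import Cfsg.Agent.Lib.Helper10_UX_THERM
import Cfsg.Agent.Lib.Helper7_UX_NTR
import Cfsg.Agent.Lib.Helper8_UX_ISO

set_option autoImplicit false
set_option linter.unusedSectionVars false
set_option linter.unusedVariables false

/-!
# UEXT2 package ANISO (helper78 for helper97): isotropic vectors of nonzero `K`-norm have their root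
group in `M`, given one such vector and one `(c, 0)`.

(Instead of TRM only the weak form `Helper8_UX_ISO.exists_skew_trace_ne` is needed.)
-/

namespace Cfsg.Agent.Lib.Helper78_UX_ANISO

open Module
open Cfsg.Agent.Lib.Helper94_Symp Cfsg.Agent.Lib.Helper94_Herm Cfsg.Agent.Lib.Helper13_PSUSimple
  Cfsg.Agent.Lib.Helper67_Tens2Defs Cfsg.Agent.Lib.Helper67_UT2Defs Cfsg.Agent.Lib.Helper98_ExtDefs
  Cfsg.Agent.Lib.Helper94_FrmDefs Cfsg.Agent.Lib.Helper94_UDDefs Cfsg.Agent.Lib.Helper97_UExtDefs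

variable {F K : Type*} [Field F] [Field K] [Algebra F K] [Finite F] [Finite K]
  {σ : F →+* F} {τ : K →+* K}

variable {M : Subgroup ((K × K) ≃ₗ[F] (K × K))}

/-- `f x x = Tr (ν x)` -/
theorem uf_self_eq_trace (h : TauExt σ τ) (x : K × K) :
    uf (trT h) x x = Algebra.trace F K (nu τ x) := by
  rw [uf_apply, trT_apply, trT_apply, nu, map_add]

/-- PKG ANISO (M; uses NTR, TRM, THERM) -/
theorem aniso_UU (h : TauExt σ τ) (hσ : Invol σ) (hM : HypX h M) (xs : K × K)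
    (hxs : xs ∈ UU (uf (trT h)) M) (hνs : nu τ xs ≠ 0) (c : K) (hc : c ≠ 0)
    (hcU : ((c, 0) : K × K) ∈ UU (uf (trT h)) M) (v : K × K) (hv : uf (trT h) v v = 0)
    (hν : nu τ v ≠ 0) : v ∈ UU (uf (trT h)) M := by
  have hT : IsHerm (trT h) := Cfsg.Agent.Lib.Helper10_UX_THERM.trT_isHerm h
  have hf : IsHerm (uf (trT h)) := uf_isHerm hT
  have hτ : Invol τ := h.toInvol hσ
  have hfix : ∀ x : K × K, τ (nu τ x) = nu τ x := Cfsg.Agent.Lib.Helper7_UX_NTR.tau_nu h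
  set νs := nu τ xs with hνsdef
  set ν' := nu τ v with hν'def
  have hρfix : τ (ν' - νs) = ν' - νs := by rw [map_sub, hfix, hfix]
  have hTrρ : Algebra.trace F K (ν' - νs) = 0 := by
    rw [map_sub, ← uf_self_eq_trace h, ← uf_self_eq_trace h, hv, hxs.1, sub_zero]
  by_cases hρ0 : ν' - νs = 0
  · -- equal norms
    obtain ⟨g, hg, hgx⟩ := Cfsg.Agent.Lib.Helper7_UX_NTR.norm_trans h hσ hM xs v
      (sub_eq_zero.mp hρ0).symm hνs
    rw [← hgx]
    exact UU_map hM.le hg hxs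
  -- `z + τ z = ρ`, `Tr z ≠ 0`
  obtain ⟨z0, hz0⟩ := tr_surj hτ (ν' - νs) hρfix
  obtain ⟨c0, hc0⟩ := tr_surj hτ (1 : K) (map_one τ)
  obtain ⟨z, hz, hTrz⟩ : ∃ z : K, z + τ z = ν' - νs ∧ Algebra.trace F K z ≠ 0 := by
    by_cases h0 : Algebra.trace F K z0 = 0
    · obtain ⟨κ, hκ, hTrκ⟩ := Cfsg.Agent.Lib.Helper8_UX_ISO.exists_skew_trace_ne h hσ
      refine ⟨z0 + κ, ?_, ?_⟩
      · rw [map_add, hκ]
        linear_combination hz0
      · rw [map_add, h0, zero_add]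
        exact hTrκ
    · exact ⟨z0, hz0, h0⟩
  have hz0' : z ≠ 0 := by
    rintro rfl
    exact hTrz (map_zero _)
  have hτνs : τ νs = νs := hfix xs
  obtain ⟨x2, hx2def⟩ : ∃ x2 : K, x2 = τ (z / c) := ⟨_, rfl⟩
  have hx2 : x2 ≠ 0 := by rw [hx2def]; exact (map_ne_zero τ).mpr (div_ne_zero hz0' hc)
  have ha : τ x2 = z / c := by rw [hx2def, h.invol]
  have hx2c : x2 * τ c = τ z := by rw [hx2def, ← map_mul, div_mul_cancel₀ z hc]
  obtain ⟨x1, hx1def⟩ : ∃ x1 : K, x1 = νs * c0 / (z / c) := ⟨_, rfl⟩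
  have hτx1 : τ x1 = νs * τ c0 / x2 := by
    rw [hx1def, map_div₀, map_mul, hτνs, ← ha, h.invol]
  have e1 : x1 * (z / c) = νs * c0 := by
    rw [hx1def]
    exact div_mul_cancel₀ _ (div_ne_zero hz0' hc)
  have e2 : x2 * (νs * τ c0 / x2) = νs * τ c0 := mul_div_cancel₀ _ hx2
  have hνx : nu τ ((x1, x2) : K × K) = νs := by
    rw [Cfsg.Agent.Lib.Helper7_UX_NTR.nu_mk, ha, hτx1, e1, e2]
    linear_combination νs * hc0
  obtain ⟨g, hg, hgx⟩ := Cfsg.Agent.Lib.Helper7_UX_NTR.norm_trans h hσ hM xs ((x1, x2) : K × K)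
    hνx.symm hνs
  have hxU : ((x1, x2) : K × K) ∈ UU (uf (trT h)) M := by
    rw [← hgx]
    exact UU_map hM.le hg hxs
  have hne : uf (trT h) ((c, 0) : K × K) ((x1, x2) : K × K) ≠ 0 := by
    rw [uf_apply]
    simp only [map_zero, LinearMap.zero_apply, add_zero, trT_apply]
    rw [ha, mul_div_cancel₀ z hc]
    exact hTrz
  have hνsum : nu τ (((c, 0) : K × K) + ((x1, x2) : K × K)) = ν' := by
    have e3 : ((c, 0) : K × K) + ((x1, x2) : K × K) = ((c + x1, x2) : K × K) := by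
      ext <;> simp
    rw [e3, Cfsg.Agent.Lib.Helper7_UX_NTR.nu_mk, map_add, hτx1, ha, add_mul, mul_add, e1, e2, hx2c,
      mul_div_cancel₀ z hc]
    linear_combination νs * hc0 + hz
  have hw : uf (trT h) (((c, 0) : K × K) + ((x1, x2) : K × K))
      (((c, 0) : K × K) + ((x1, x2) : K × K)) = 0 := by
    rw [uf_self_eq_trace h, hνsum, ← uf_self_eq_trace h]
    exact hv
  have hsum : ((c, 0) : K × K) + ((x1, x2) : K × K) ∈ UU (uf (trT h)) M :=
    UU_add hσ hf hM.le hcU hxU hne hw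
  obtain ⟨g', hg', hg'x⟩ := Cfsg.Agent.Lib.Helper7_UX_NTR.norm_trans h hσ hM
    (((c, 0) : K × K) + ((x1, x2) : K × K)) v hνsum (by rw [hνsum]; exact hν)
  rw [← hg'x]
  exact UU_map hM.le hg' hsum

end Cfsg.Agent.Lib.Helper78_UX_ANISO
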