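import Mathlib
import Cfsg.Agent.Lib.Helper97_UExtDefs
import Cfsg.Agent.Lib.Helper94_UDDefs
import Cfsg.Agent.Lib.Helper98_ExtMult
import Cfsg.Agent.Lib.Helper10_UX_THERM

set_option autoImplicit false
set_option linter.unusedSectionVars false
set_option linter.unusedVariables false

/-!
# UEXT2 package CFGP (architect helper97): for `y ∈ M` the Lagrangian `t' = Lg y` is its own
orthogonal, hence `P = π₂(t') = D₀^⊥` and `D₀ = {c | (c,0) ∈ t'} = P^⊥` for the trace form.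
-/

namespace Cfsg.Agent.Lib.Helper31_UX_CFGP

open Module
open Cfsg.Agent.Lib.Helper94_Symp Cfsg.Agent.Lib.Helper94_Herm Cfsg.Agent.Lib.Helper13_PSUSimple
  Cfsg.Agent.Lib.Helper67_Tens2Defs Cfsg.Agent.Lib.Helper67_UT2Defs Cfsg.Agent.Lib.Helper98_ExtDefs
  Cfsg.Agent.Lib.Helper94_FrmDefs Cfsg.Agent.Lib.Helper94_UDDefs Cfsg.Agent.Lib.Helper97_UExtDefs

open Cfsg.Agent.Lib.Helper94_HermOrth

variable {F K : Type*} [Field F] [Field K] [Algebra F K] [Finite F] [Finite K]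
  {σ : F →+* F} {τ : K →+* K}

theorem G0_eq_range : (G0 : Submodule F (K × K)) = LinearMap.range (LinearMap.inl F K K) := by
  ext x
  rw [mem_G0, LinearMap.mem_range]
  constructor
  · intro h; exact ⟨x.1, Prod.ext rfl h.symm⟩
  · rintro ⟨u, rfl⟩; rfl

theorem finrank_Lg (g : (K × K) ≃ₗ[F] (K × K)) : finrank F (Lg g) = finrank F K := by
  unfold Lg
  rw [LinearEquiv.finrank_map_eq, G0_eq_range]
  exact LinearMap.finrank_range_of_inj LinearMap.inl_injective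

/-- `Lg y` is totally isotropic for an isometry `y` -/
theorem Lg_isotropic (h : TauExt σ τ) {y : (K × K) ≃ₗ[F] (K × K)} (hy : y ∈ uG (uf (trT h))) :
    ∀ a ∈ Lg y, ∀ b ∈ Lg y, uf (trT h) a b = 0 := by
  intro a ha b hb
  obtain ⟨u, rfl⟩ := mem_Lg.mp ha
  obtain ⟨v, rfl⟩ := mem_Lg.mp hb
  rw [hy, uf_apply]
  simp

variable {M : Subgroup ((K × K) ≃ₗ[F] (K × K))}

/-- `Lg y` is its own orthogonal -/
theorem orthS_Lg (h : TauExt σ τ) {y : (K × K) ≃ₗ[F] (K × K)} (hy : y ∈ uG (uf (trT h))) :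
    orthS (uf (trT h)) (Lg y) = Lg y := by
  have : Module.Finite F K := Module.Finite.of_finite
  have hf : IsHerm (uf (trT h)) := uf_isHerm (Cfsg.Agent.Lib.Helper10_UX_THERM.trT_isHerm h)
  have hN : NondegOn (uf (trT h)) ⊤ := uf_nondeg (Cfsg.Agent.Lib.Helper10_UX_THERM.trT_nondeg h)
  symm
  apply Submodule.eq_of_le_of_finrank_le
  · intro a ha b hb
    exact Lg_isotropic h hy b hb a ha
  · have h1 := finrank_orthS hf hN (Lg y)
    rw [finrank_Lg, Module.finrank_prod] at h1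
    rw [finrank_Lg]
    omega

/-- PKG CFGP -/
theorem cfg_perp' (h : TauExt σ τ) (hσ : Invol σ) (hM : HypX h M) {y : (K × K) ≃ₗ[F] (K × K)}
    (hy : y ∈ M) (c : K) :
    ((c, 0) : K × K) ∈ Lg y ↔ ∀ x ∈ Lg y, trT h c x.2 = 0 := by
  have hyu : y ∈ uG (uf (trT h)) := hM.le hy
  have hT : IsHerm (trT h) := Cfsg.Agent.Lib.Helper10_UX_THERM.trT_isHerm h
  constructor
  · intro hc x hx
    have h1 := Lg_isotropic h hyu _ hc x hx
    rw [uf_apply] at h1
    simpa using h1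
  · intro hc
    rw [← orthS_Lg h hyu, mem_orthS]
    intro x hx
    rw [uf_apply]
    have h1 : trT h x.2 c = 0 := herm_eq_zero hT (hc x hx)
    simp [h1]

/-- PKG CFGP (M): `P = D₀^⊥` and `D₀ = P^⊥` (C2) -/
theorem cfg_perp (h : TauExt σ τ) (hσ : Invol σ) (hM : HypX h M) {y : (K × K) ≃ₗ[F] (K × K)}
    (hy : y ∈ M) (p : K) :
    (∃ x ∈ Lg y, x.2 = p) ↔ ∀ c : K, ((c, 0) : K × K) ∈ Lg y → trT h c p = 0 := by
  have : Module.Finite F K := Module.Finite.of_finite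
  have hyu : y ∈ uG (uf (trT h)) := hM.le hy
  have hT : IsHerm (trT h) := Cfsg.Agent.Lib.Helper10_UX_THERM.trT_isHerm h
  have hTN : NondegOn (trT h) ⊤ := Cfsg.Agent.Lib.Helper10_UX_THERM.trT_nondeg h
  constructor
  · rintro ⟨x, hx, rfl⟩ c hc
    exact (cfg_perp' h hσ hM hy c).mp hc x hx
  · intro hp
    -- `P = π₂(t')`, `D₀ = P^⊥`, so `P = D₀^⊥`
    have hD : orthS (trT h) ((Lg y).map (LinearMap.snd F K K)) = DI y := by
      ext c
      rw [mem_orthS' hT, mem_DI, cfg_perp' h hσ hM hy c]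
      constructor
      · intro h1 x hx
        exact h1 x.2 ⟨x, hx, rfl⟩
      · rintro h1 _ ⟨x, hx, rfl⟩
        exact h1 x hx
    have hP : p ∈ orthS (trT h) (DI y) := by
      rw [mem_orthS]
      intro c hc
      exact hp c (mem_DI.mp hc)
    rw [← hD, orthS_orthS hT hTN] at hP
    obtain ⟨x, hx, rfl⟩ := hP
    exact ⟨x, hx, rfl⟩

end Cfsg.Agent.Lib.Helper31_UX_CFGP
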