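import Mathlib
import Cfsg.Agent.Lib.Helper97_UExtDefs
import Cfsg.Agent.Lib.Helper94_UDDefs
import Cfsg.Agent.Lib.Helper98_ExtMult
import Cfsg.Agent.Lib.Helper10_UX_THERM
import Cfsg.Agent.Lib.Helper31_UX_CFGP

set_option autoImplicit false
set_option linter.unusedSectionVars false
set_option linter.unusedVariables false

/-!
# UEXT2 package FAM1, main part (architect helper97): the first commutator family, with the
commutator formula COMM (specialised to `V = K × K`) as a hypothesis `hcomm`.  The verbatim theorem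
`fam1` is in `Helper31_UX_FAM1`.
-/

namespace Cfsg.Agent.Lib.Helper31_UX_FAM1a

open Module
open Cfsg.Agent.Lib.Helper94_Symp Cfsg.Agent.Lib.Helper94_Herm Cfsg.Agent.Lib.Helper13_PSUSimple
  Cfsg.Agent.Lib.Helper67_Tens2Defs Cfsg.Agent.Lib.Helper67_UT2Defs Cfsg.Agent.Lib.Helper98_ExtDefs
  Cfsg.Agent.Lib.Helper94_FrmDefs Cfsg.Agent.Lib.Helper94_UDDefs Cfsg.Agent.Lib.Helper97_UExtDefs

open Cfsg.Agent.Lib.Helper94_HermOrth Cfsg.Agent.Lib.Helper31_UX_CFGP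

variable {F K : Type*} [Field F] [Field K] [Algebra F K] [Finite F] [Finite K]
  {σ : F →+* F} {τ : K →+* K}

variable {M : Subgroup ((K × K) ≃ₗ[F] (K × K))}

/-- the nilpotent part `x ↦ y (κ' * (y⁻¹ x).2, 0)` of `y * ux (mK κ') * y⁻¹` -/
def nY (y : (K × K) ≃ₗ[F] (K × K)) (κ' : K) : (K × K) →ₗ[F] (K × K) :=
  y.toLinearMap ∘ₗ LinearMap.inl F K K ∘ₗ (mK κ' : K →ₗ[F] K) ∘ₗ LinearMap.snd F K K ∘ₗ
    (y⁻¹ : (K × K) ≃ₗ[F] (K × K)).toLinearMap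

theorem nY_apply (y : (K × K) ≃ₗ[F] (K × K)) (κ' : K) (x : K × K) :
    nY y κ' x = y ((κ' * (y⁻¹ x).2, 0) : K × K) := rfl

theorem conj_ux_apply (y : (K × K) ≃ₗ[F] (K × K)) (κ' : K) (x : K × K) :
    (y * ux (mK κ' : K →ₗ[F] K) * y⁻¹) x = x + nY y κ' x := by
  rw [LinearEquiv.mul_apply, LinearEquiv.mul_apply, ux_apply, nY_apply, mK_apply]
  have e : (((y⁻¹ x).1 + κ' * (y⁻¹ x).2, (y⁻¹ x).2) : K × K)
      = y⁻¹ x + ((κ' * (y⁻¹ x).2, 0) : K × K) := by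
    ext <;> simp
  rw [e, map_add, apply_inv_apply']

/-- FAM1 with the commutator formula as a hypothesis -/
theorem fam1_of
    (hcomm : ∀ (f : (K × K) →ₗ[F] (K × K) →ₛₗ[σ] F) (hf : IsHerm f) (t D : Submodule F (K × K))
      (u₀ x₀ e : K × K) (g k : (K × K) ≃ₗ[F] (K × K)) (N : (K × K) →ₗ[F] (K × K))
      (hti : ∀ a ∈ t, ∀ b ∈ t, f a b = 0) (hD : D ≤ t) (hu₀ : u₀ ∈ t)
      (hspan : ∀ v ∈ t, ∃ d ∈ D, ∃ a : F, v = d + a • u₀)
      (hg : g ∈ uG f) (hgD : ∀ d ∈ D, g d = d) (he : e ∈ D) (hgu : g u₀ = u₀ + e)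
      (hx₀D : ∀ d ∈ D, f d x₀ = 0) (hx₀u : f u₀ x₀ = 1)
      (hk : k ∈ uG f) (hN : ∀ x, k x = x + N x) (hNt : ∀ x, N x ∈ t)
      (hNp : ∀ x, (∀ v ∈ t, f x v = 0) → N x = 0),
      ∀ x, (g * k * g⁻¹ * k⁻¹) x
        = x + f x e • N x₀ - f x (N x₀) • e + (f (N x₀) x₀ * f x e) • e)
    (h : TauExt σ τ) (hσ : Invol σ) (hM : HypX h M) {y : (K × K) ≃ₗ[F] (K × K)}
    {p₀ a₀ j : K} (hc : Cfg h M y p₀ a₀ j) (κ κ' : K) (hκ : τ κ = -κ) (hκ' : τ κ' = -κ')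
    (hs : tX h p₀ κ = 0) :
    HasMap M (famMap (uf (trT h)) (eX p₀ κ) (zX y j κ') (sX h y j κ')) := by
  have hT : IsHerm (trT h) := Cfsg.Agent.Lib.Helper10_UX_THERM.trT_isHerm h
  have hf : IsHerm (uf (trT h)) := uf_isHerm hT
  have hyM : y ∈ M := hc.hy
  have hyu : y ∈ uG (uf (trT h)) := hM.le hyM
  have hgM : ux (mK κ : K →ₗ[F] K) ∈ M := hM.ux_mem κ hκ
  have hkM : y * ux (mK κ' : K →ₗ[F] K) * y⁻¹ ∈ M :=
    M.mul_mem (M.mul_mem hyM (hM.ux_mem κ' hκ')) (M.inv_mem hyM)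
  -- `e ∈ I`
  have heL : eX p₀ κ ∈ Lg y := by
    unfold eX
    rw [hc.hD]
    exact hs
  have key := hcomm (uf (trT h)) hf (Lg y) ((G0 : Submodule F (K × K)) ⊓ Lg y) (a₀, p₀) (j, 0)
    (eX p₀ κ) (ux (mK κ : K →ₗ[F] K)) (y * ux (mK κ' : K →ₗ[F] K) * y⁻¹) (nY y κ')
    (Lg_isotropic h hyu) inf_le_right hc.hu₀ ?_ (hM.le hgM) ?_ ⟨rfl, heL⟩ ?_ ?_ ?_ (hM.le hkM)
    (conj_ux_apply y κ') ?_ ?_
  · -- conclusion
    refine ⟨ux (mK κ : K →ₗ[F] K) * (y * ux (mK κ' : K →ₗ[F] K) * y⁻¹)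
      * (ux (mK κ : K →ₗ[F] K))⁻¹ * (y * ux (mK κ' : K →ₗ[F] K) * y⁻¹)⁻¹, ?_, ?_⟩
    · exact M.mul_mem (M.mul_mem (M.mul_mem hgM hkM) (M.inv_mem hgM)) (M.inv_mem hkM)
    · intro x
      rw [key x]
      have hz : nY y κ' ((j, 0) : K × K) = zX y j κ' := rfl
      have hsx : uf (trT h) (nY y κ' ((j, 0) : K × K)) ((j, 0) : K × K) = sX h y j κ' := by
        have e1 : ((j, 0) : K × K) = y (y⁻¹ ((j, 0) : K × K)) := (apply_inv_apply' y _).symm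
        rw [nY_apply]
        conv_lhs => rw [e1]
        rw [inv_apply_apply', hyu, uf_apply]
        unfold sX
        simp
      unfold famMap
      rw [hsx, hz]
  · -- hspan
    intro v hv
    obtain ⟨a, ha⟩ := hc.hP v hv
    refine ⟨v - a • ((a₀, p₀) : K × K), ⟨?_, ?_⟩, a, by abel⟩
    · show (v - a • ((a₀, p₀) : K × K)).2 = 0
      simp [ha]
    · exact (Lg y).sub_mem hv ((Lg y).smul_mem a hc.hu₀)
  · -- hgD
    rintro d ⟨hd1, -⟩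
    have hd2 : d.2 = 0 := hd1
    rw [ux_apply, hd2, map_zero, add_zero]
    exact Prod.ext rfl hd2.symm
  · -- hgu
    rw [ux_apply, mK_apply]
    unfold eX
    ext <;> simp
  · -- hx₀D
    rintro d ⟨hd1, -⟩
    have hd2 : d.2 = 0 := hd1
    rw [uf_apply, hd2]
    simp
  · -- hx₀u
    rw [uf_apply]
    simp only [map_zero, zero_add]
    exact hc.hj
  · -- hNt
    intro x
    rw [nY_apply]
    exact mem_Lg.mpr ⟨_, rfl⟩
  · -- hNp
    intro x hx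
    have hxL : x ∈ Lg y := by
      rw [← orthS_Lg h hyu, mem_orthS]
      intro v hv
      exact herm_eq_zero hf (hx v hv)
    rw [nY_apply, mem_Lg'.mp hxL, mul_zero]
    exact map_zero y

end Cfsg.Agent.Lib.Helper31_UX_FAM1a
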