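import Mathlib
import Cfsg.Agent.Lib.Helper97_UExtDefs
import Cfsg.Agent.Lib.Helper94_UDDefs
import Cfsg.Agent.Lib.Helper98_ExtMult

set_option autoImplicit false
set_option linter.unusedSectionVars false
set_option linter.unusedVariables false

/-!
# UEXT2 package COMM: the commutator formula (pure linear algebra, hermitian version)
-/

namespace Cfsg.Agent.Lib.Helper45_UX_COMM

open Module
open Cfsg.Agent.Lib.Helper94_Symp Cfsg.Agent.Lib.Helper94_Herm Cfsg.Agent.Lib.Helper13_PSUSimple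
  Cfsg.Agent.Lib.Helper67_Tens2Defs Cfsg.Agent.Lib.Helper67_UT2Defs Cfsg.Agent.Lib.Helper98_ExtDefs
  Cfsg.Agent.Lib.Helper94_FrmDefs Cfsg.Agent.Lib.Helper94_UDDefs Cfsg.Agent.Lib.Helper97_UExtDefs

variable {F K : Type*} [Field F] [Field K] [Algebra F K] [Finite F] [Finite K]
  {σ : F →+* F} {τ : K →+* K}

/-- PKG COMM (M): the commutator formula (pure linear algebra) -/
theorem comm_formula {V : Type*} [AddCommGroup V] [Module F V] (hσ : Invol σ)
    (f : V →ₗ[F] V →ₛₗ[σ] F) (hf : IsHerm f) (t D : Submodule F V) (u₀ x₀ e : V)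
    (g k : V ≃ₗ[F] V) (N : V →ₗ[F] V)
    (hti : ∀ a ∈ t, ∀ b ∈ t, f a b = 0) (hD : D ≤ t) (hu₀ : u₀ ∈ t)
    (hspan : ∀ v ∈ t, ∃ d ∈ D, ∃ a : F, v = d + a • u₀)
    (hg : g ∈ uG f) (hgD : ∀ d ∈ D, g d = d) (he : e ∈ D) (hgu : g u₀ = u₀ + e)
    (hx₀D : ∀ d ∈ D, f d x₀ = 0) (hx₀u : f u₀ x₀ = 1)
    (hk : k ∈ uG f) (hN : ∀ x, k x = x + N x) (hNt : ∀ x, N x ∈ t)
    (hNp : ∀ x, (∀ v ∈ t, f x v = 0) → N x = 0) :
    ∀ x, (g * k * g⁻¹ * k⁻¹) x = x + f x e • N x₀ - f x (N x₀) • e + (f (N x₀) x₀ * f x e) • e := by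
  -- (0) `f (N x) x' = - f x (N x')`
  have h0 : ∀ x x', f (N x) x' = - f x (N x') := by
    intro x x'
    have h1 := hk x x'
    rw [hN x, hN x'] at h1
    simp only [map_add, LinearMap.add_apply] at h1
    have h2 : f (N x) (N x') = 0 := hti _ (hNt x) _ (hNt x')
    rw [h2] at h1
    linear_combination h1
  -- (1) `g v = v + f v x₀ • e` on `t`
  have h1 : ∀ v ∈ t, g v = v + f v x₀ • e := by
    intro v hv
    obtain ⟨d, hd, a, rfl⟩ := hspan v hv
    have ha : f (d + a • u₀) x₀ = a := by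
      simp only [map_add, LinearMap.add_apply, map_smul, LinearMap.smul_apply, hx₀D d hd, hx₀u,
        smul_eq_mul, mul_one, zero_add]
    rw [ha, map_add, map_smul, hgD d hd, hgu, smul_add]
    abel
  -- (2) `N ∘ N = 0`, `k⁻¹ = 1 - N`
  have h2 : ∀ x, N (N x) = 0 := fun x => hNp _ (fun v hv => hti _ (hNt x) _ hv)
  have hkinv : ∀ x, k⁻¹ x = x - N x := by
    intro x
    have : k (x - N x) = x := by
      rw [hN, map_sub, h2]
      abel
    calc k⁻¹ x = k⁻¹ (k (x - N x)) := by rw [this]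
      _ = x - N x := by
        change k.symm (k (x - N x)) = x - N x
        exact k.symm_apply_apply _
  -- (3) `N (g⁻¹ x) = N x + f x e • N x₀`
  have h3 : ∀ x, N (g⁻¹ x) = N x + f x e • N x₀ := by
    intro x
    have hz : N (g⁻¹ x - x - f x e • x₀) = 0 := by
      apply hNp
      intro v hv
      have hgi : f (g⁻¹ x) v = f x (g v) := uG_inv_apply f hg x v
      have hx0v : f x₀ v = σ (f v x₀) := hf v x₀
      simp only [map_sub, LinearMap.sub_apply, map_smul, LinearMap.smul_apply, smul_eq_mul]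
      rw [hgi, h1 v hv, map_add, LinearMap.map_smulₛₗ, hx0v, smul_eq_mul]
      ring
    simp only [map_sub, map_smul] at hz
    rw [sub_sub, sub_eq_zero] at hz
    exact hz
  intro x
  have hNxe : f (N x) e = 0 := hti _ (hNt x) _ (hD he)
  have hmem : N x + f x e • N x₀ ∈ t := t.add_mem (hNt x) (t.smul_mem _ (hNt x₀))
  have hgg : g (g⁻¹ (x - N x)) = x - N x := by
    change g (g.symm (x - N x)) = x - N x
    exact g.apply_symm_apply _
  have hNw : N (g⁻¹ (x - N x)) = N x + f x e • N x₀ := by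
    rw [h3, map_sub, h2, sub_zero, map_sub, LinearMap.sub_apply, hNxe, sub_zero]
  calc (g * k * g⁻¹ * k⁻¹) x = g (k (g⁻¹ (k⁻¹ x))) := rfl
    _ = g (k (g⁻¹ (x - N x))) := by rw [hkinv]
    _ = g (g⁻¹ (x - N x) + N (g⁻¹ (x - N x))) := by rw [hN]
    _ = (x - N x) + g (N x + f x e • N x₀) := by rw [map_add, hgg, hNw]
    _ = (x - N x) + (N x + f x e • N x₀ + f (N x + f x e • N x₀) x₀ • e) := by rw [h1 _ hmem]
    _ = x + f x e • N x₀ - f x (N x₀) • e + (f (N x₀) x₀ * f x e) • e := by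
        simp only [map_add, LinearMap.add_apply, map_smul, LinearMap.smul_apply, smul_eq_mul,
          h0 x x₀, add_smul, neg_smul, mul_comm (f x e)]
        abel

end Cfsg.Agent.Lib.Helper45_UX_COMM
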