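import Mathlib
import Cfsg.Agent.Lib.Helper97_UExtDefs
import Cfsg.Agent.Lib.Helper94_UDDefs
import Cfsg.Agent.Lib.Helper98_ExtMult
import Cfsg.Agent.Lib.Helper45_UX_COMM
import Cfsg.Agent.Lib.Helper31_UX_FAM1a

set_option autoImplicit false
set_option linter.unusedSectionVars false
set_option linter.unusedVariables false

/-!
# UEXT2 package FAM1 (architect helper97): the first commutator family
(`Helper31_UX_FAM1a.fam1_of` + the commutator formula COMM of helper45).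
-/

namespace Cfsg.Agent.Lib.Helper31_UX_FAM1

open Module
open Cfsg.Agent.Lib.Helper94_Symp Cfsg.Agent.Lib.Helper94_Herm Cfsg.Agent.Lib.Helper13_PSUSimple
  Cfsg.Agent.Lib.Helper67_Tens2Defs Cfsg.Agent.Lib.Helper67_UT2Defs Cfsg.Agent.Lib.Helper98_ExtDefs
  Cfsg.Agent.Lib.Helper94_FrmDefs Cfsg.Agent.Lib.Helper94_UDDefs Cfsg.Agent.Lib.Helper97_UExtDefs

variable {F K : Type*} [Field F] [Field K] [Algebra F K] [Finite F] [Finite K]
  {σ : F →+* F} {τ : K →+* K}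

variable {M : Subgroup ((K × K) ≃ₗ[F] (K × K))}

/-- PKG FAM1 (M; uses COMM, THERM) -/
theorem fam1 (h : TauExt σ τ) (hσ : Invol σ) (hM : HypX h M) {y : (K × K) ≃ₗ[F] (K × K)}
    {p₀ a₀ j : K} (hc : Cfg h M y p₀ a₀ j) (κ κ' : K) (hκ : τ κ = -κ) (hκ' : τ κ' = -κ')
    (hs : tX h p₀ κ = 0) :
    HasMap M (famMap (uf (trT h)) (eX p₀ κ) (zX y j κ') (sX h y j κ')) := by
  refine Cfsg.Agent.Lib.Helper31_UX_FAM1a.fam1_of ?_ h hσ hM hc κ κ' hκ hκ' hs
  intro f hf t D u₀ x₀ e g k N hti hD hu₀ hspan hg hgD he hgu hx₀D hx₀u hk hN hNt hNp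
  exact Cfsg.Agent.Lib.Helper45_UX_COMM.comm_formula hσ f hf t D u₀ x₀ e g k N hti hD hu₀ hspan hg
    hgD he hgu hx₀D hx₀u hk hN hNt hNp
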