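import Mathlib
import Cfsg.Agent.Lib.Helper97_UExtDefs
import Cfsg.Agent.Lib.Helper94_UDDefs
import Cfsg.Agent.Lib.Helper98_ExtMult
import Cfsg.Agent.Lib.Helper10_UX_TRS
import Cfsg.Agent.Lib.Helper10_UX_THERM
import Cfsg.Agent.Lib.Helper73_UX_FLD
import Cfsg.Agent.Lib.Helper31_UX_FAM1
import Cfsg.Agent.Lib.Helper90_UX_TRM

set_option autoImplicit false
set_option linter.unusedSectionVars false
set_option linter.unusedVariables false

/-!
# UEXT2 package Q3 (helper90): a unitary transvection in `M` when `F₀` has more than two elements.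
-/

namespace Cfsg.Agent.Lib.Helper90_UX_Q3

open Module
open Cfsg.Agent.Lib.Helper94_Symp Cfsg.Agent.Lib.Helper94_Herm Cfsg.Agent.Lib.Helper13_PSUSimple
  Cfsg.Agent.Lib.Helper67_Tens2Defs Cfsg.Agent.Lib.Helper67_UT2Defs Cfsg.Agent.Lib.Helper98_ExtDefs
  Cfsg.Agent.Lib.Helper94_FrmDefs Cfsg.Agent.Lib.Helper94_UDDefs Cfsg.Agent.Lib.Helper97_UExtDefs

variable {F K : Type*} [Field F] [Field K] [Algebra F K] [Finite F] [Finite K]
  {σ : F →+* F} {τ : K →+* K}

variable {M : Subgroup ((K × K) ≃ₗ[F] (K × K))}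

/-- the algebraic heart: two members of the commutator family multiply to a transvection -/
theorem tv_of_two_fam (f : (K × K) →ₗ[F] (K × K) →ₛₗ[σ] F) (e ζ : K × K) (a s : F)
    (ha : σ a = a) (hee : f e e = 0) (heζ : f e ζ = 0) (hζe : f ζ e = 0) (hζζ : f ζ ζ = 0)
    (h1 : HasMap M (famMap f (a • e) ζ s)) (h2 : HasMap M (famMap f e (a • ζ) (a * s))) :
    HasMap M (fun x => x + (((a ^ 2 - a) * s) * f x e) • e) := by
  -- the inverse of the second map
  have h3 : HasMap M (fun x => x - (a * f x e) • ζ + (a * f x ζ) • e - (a * s * f x e) • e) := by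
    refine Cfsg.Agent.Lib.Helper98_ExtMult.hasMap_inv h2 ?_
    intro x
    have e1 : f (x - (a * f x e) • ζ + (a * f x ζ) • e - (a * s * f x e) • e) e = f x e := by
      simp only [map_sub, map_add, map_smul, LinearMap.sub_apply, LinearMap.add_apply,
        LinearMap.smul_apply, smul_eq_mul, hζe, hee, mul_zero, sub_zero, add_zero]
    have e2 : f (x - (a * f x e) • ζ + (a * f x ζ) • e - (a * s * f x e) • e) (a • ζ)
        = a * f x ζ := by
      simp only [map_sub, map_add, map_smul, LinearMap.sub_apply, LinearMap.add_apply,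
        LinearMap.smul_apply, smul_eq_mul, LinearMap.map_smulₛₗ, ha, hζζ, heζ, mul_zero,
        sub_zero, add_zero]
    simp only [famMap]
    rw [e1, e2]
    module
  have h4 := Cfsg.Agent.Lib.Helper98_ExtMult.hasMap_comp h1 h3
  refine Cfsg.Agent.Lib.Helper98_ExtMult.hasMap_congr h4 ?_
  intro x
  have e1 : f (x - (a * f x e) • ζ + (a * f x ζ) • e - (a * s * f x e) • e) (a • e)
      = a * f x e := by
    simp only [map_sub, map_add, map_smul, LinearMap.sub_apply, LinearMap.add_apply,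
      LinearMap.smul_apply, smul_eq_mul, LinearMap.map_smulₛₗ, ha, hζe, hee, mul_zero,
      sub_zero, add_zero]
  have e2 : f (x - (a * f x e) • ζ + (a * f x ζ) • e - (a * s * f x e) • e) ζ = f x ζ := by
    simp only [map_sub, map_add, map_smul, LinearMap.sub_apply, LinearMap.add_apply,
      LinearMap.smul_apply, smul_eq_mul, hζζ, heζ, mul_zero, sub_zero, add_zero]
  simp only [famMap]
  rw [e1, e2]
  module

/-- for a `τ`-skew `κ` the value `T (κ b) b` is `σ`-skew -/
theorem skew_val (h : TauExt σ τ) (κ b : K) (hκ : τ κ = -κ) :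
    σ (trT h (κ * b) b) = -trT h (κ * b) b := by
  have herm := Cfsg.Agent.Lib.Helper10_UX_THERM.trT_isHerm h
  have e : b * τ (κ * b) = -(κ * b * τ b) := by rw [map_mul, hκ]; ring
  rw [← herm (κ * b) b, trT_apply, trT_apply, e, map_neg]

/-- the degenerate case `K = F`: `ux (mK κ)` is itself a transvection -/
theorem hasTvX_of_bijective (h : TauExt σ τ) (hσ : Invol σ) (hM : HypX h M)
    (hbij : Function.Bijective (algebraMap F K)) : HasTvX h M := by
  obtain ⟨c0, hc0, hc0s⟩ := exists_skew hσ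
  have hκ : τ (algebraMap F K c0) = -algebraMap F K c0 := by
    rw [h.ext, hc0s, map_neg]
  have hmem := hM.ux_mem (algebraMap F K c0) hκ
  have hiso : uf (trT h) (((1 : K), 0) : K × K) (((1 : K), 0) : K × K) = 0 := by
    simp [uf_apply]
  refine ⟨1, c0, one_ne_zero, hc0, hc0s, ?_⟩
  have heq : utv (uf (trT h)) (((1 : K), 0) : K × K) c0
      = ux (mK (algebraMap F K c0) : K →ₗ[F] K) := by
    apply LinearEquiv.ext
    intro x
    rw [utv_apply (uf (trT h)) hiso c0 x, ux_apply, mK_apply]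
    obtain ⟨b, hb⟩ := hbij.2 x.2
    have htr : Algebra.trace F K (algebraMap F K b) = b := by
      have h1 := Algebra.trace_eq_of_algEquiv (AlgEquiv.ofBijective (Algebra.ofId F K) hbij) b
      rw [Algebra.trace_self_apply] at h1
      have e2 : (AlgEquiv.ofBijective (Algebra.ofId F K) hbij) b = algebraMap F K b := rfl
      rw [e2] at h1
      exact h1
    have hf : uf (trT h) x (((1 : K), 0) : K × K) = b := by
      rw [uf_apply, trT_apply, trT_apply]
      simp only [map_zero, mul_zero, map_one, mul_one, zero_add]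
      rw [← hb, htr]
    rw [hf]
    apply Prod.ext
    · simp only [Prod.fst_add, Prod.smul_fst]
      rw [← hb, Algebra.smul_def, mul_one, map_mul]
    · simp
  rw [heq]
  exact hmem

/-- PKG Q3 (M; uses FAM1, TRM, FLD) -/
theorem q3_hasTv (h : TauExt σ τ) (hσ : Invol σ) (hM : HypX h M) {y : (K × K) ≃ₗ[F] (K × K)}
    {p₀ a₀ j : K} (hc : Cfg h M y p₀ a₀ j) (hq : ∃ a : F, σ a = a ∧ a ≠ 0 ∧ a ≠ 1) :
    HasTvX h M := by
  classical
  have herm := Cfsg.Agent.Lib.Helper10_UX_THERM.trT_isHerm h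
  by_cases hex : ∃ κ : K, κ ≠ 0 ∧ τ κ = -κ ∧ tX h p₀ κ = 0
  · obtain ⟨κ, hκ0, hκ, hs'⟩ := hex
    obtain ⟨a, haσ, ha0, ha1⟩ := hq
    -- `p₀ ≠ 0`
    have hp0 : p₀ ≠ 0 := by
      intro hp
      have := hc.hj
      rw [hp] at this
      simp at this
    -- the second coordinate of `y⁻¹ (j, 0)` is nonzero
    set a₁ : K := (y⁻¹ ((j, 0) : K × K)).2 with ha₁def
    have ha₁ : a₁ ≠ 0 := by
      intro h0
      have hmem : ((j, 0) : K × K) ∈ Lg y := by
        rw [mem_Lg]
        refine ⟨(y⁻¹ ((j, 0) : K × K)).1, ?_⟩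
        have : (((y⁻¹ ((j, 0) : K × K)).1, (0 : K)) : K × K) = y⁻¹ ((j, 0) : K × K) :=
          Prod.ext rfl h0.symm
        rw [this]
        exact y.apply_symm_apply _
      have h1 := (hc.hD j).mp hmem
      have h2 := herm p₀ j
      rw [hc.hj, h1, map_one] at h2
      exact zero_ne_one h2
    -- `κ'` with `s(κ') ≠ 0`
    obtain ⟨c0, hc0, hc0s⟩ := exists_skew hσ
    obtain ⟨κ'', hκ'', htr⟩ := Cfsg.Agent.Lib.Helper90_UX_TRM.trace_skew_onto h hσ c0 hc0s
    have hn : a₁ * τ a₁ ≠ 0 := mul_ne_zero ha₁ ((map_ne_zero τ).mpr ha₁)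
    have hτn : τ (a₁ * τ a₁) = a₁ * τ a₁ := by rw [map_mul, h.invol, mul_comm]
    set κ' : K := κ'' / (a₁ * τ a₁) with hκ'def
    have hκ' : τ κ' = -κ' := by
      rw [hκ'def, map_div₀, hτn, hκ'', neg_div]
    have hsval : sX h y j κ' = c0 := by
      have : sX h y j κ' = trT h (κ' * a₁) a₁ := rfl
      have e : κ' * a₁ * τ a₁ = κ'' := by rw [hκ'def, mul_assoc, div_mul_cancel₀ _ hn]
      rw [this, trT_apply, e, htr]
    have hs0 : sX h y j κ' ≠ 0 := by rw [hsval]; exact hc0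
    have hsσ : σ (sX h y j κ') = -sX h y j κ' := by rw [hsval]; exact hc0s
    -- the two family members
    have haκ : τ (a • κ) = -(a • κ) := by rw [h.map_smul, haσ, hκ, smul_neg]
    have haκ' : τ (a • κ') = -(a • κ') := by rw [h.map_smul, haσ, hκ', smul_neg]
    have htaκ : tX h p₀ (a • κ) = 0 := by
      have e1 : tX h p₀ (a • κ) = trT h ((a • κ) * p₀) p₀ := rfl
      have e2 : tX h p₀ κ = trT h (κ * p₀) p₀ := rfl
      rw [e1, smul_mul_assoc, map_smul, LinearMap.smul_apply, ← e2, hs', smul_zero]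
    have m1 := Cfsg.Agent.Lib.Helper31_UX_FAM1.fam1 h hσ hM hc (a • κ) κ' haκ hκ' htaκ
    have m2 := Cfsg.Agent.Lib.Helper31_UX_FAM1.fam1 h hσ hM hc κ (a • κ') hκ haκ' hs'
    have he1 : eX p₀ (a • κ) = a • eX p₀ κ := by
      simp only [eX]
      apply Prod.ext
      · simp
      · simp
    have hz1 : zX y j (a • κ') = a • zX y j κ' := by
      simp only [zX]
      rw [← map_smul]
      congr 1
      apply Prod.ext
      · simp
      · simp
    have hs1 : sX h y j (a • κ') = a * sX h y j κ' := by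
      have e1 : sX h y j (a • κ') = trT h ((a • κ') * a₁) a₁ := rfl
      have e2 : sX h y j κ' = trT h (κ' * a₁) a₁ := rfl
      rw [e1, e2, smul_mul_assoc, map_smul, LinearMap.smul_apply, smul_eq_mul]
    rw [he1] at m1
    rw [hz1, hs1] at m2
    -- isotropy
    have hyU : ∀ v w : K × K, uf (trT h) (y v) (y w) = uf (trT h) v w := hM.le hc.hy
    have hee : uf (trT h) (eX p₀ κ) (eX p₀ κ) = 0 := by simp [eX, uf_apply]
    have heL : eX p₀ κ ∈ Lg y := (hc.hD (κ * p₀)).mpr hs'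
    obtain ⟨u, hu⟩ := mem_Lg.mp heL
    have hζdef : zX y j κ' = y ((κ' * a₁, 0) : K × K) := rfl
    have heζ : uf (trT h) (eX p₀ κ) (zX y j κ') = 0 := by
      rw [← hu, hζdef, hyU]; simp [uf_apply]
    have hζe : uf (trT h) (zX y j κ') (eX p₀ κ) = 0 := by
      rw [← hu, hζdef, hyU]; simp [uf_apply]
    have hζζ : uf (trT h) (zX y j κ') (zX y j κ') = 0 := by
      rw [hζdef, hyU]; simp [uf_apply]
    obtain ⟨g, hgM, hg⟩ := tv_of_two_fam (uf (trT h)) (eX p₀ κ) (zX y j κ') a (sX h y j κ')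
      haσ hee heζ hζe hζζ m1 m2
    have hε : κ * p₀ ≠ 0 := mul_ne_zero hκ0 hp0
    have haa : a ^ 2 - a ≠ 0 := by
      have : a ^ 2 - a = a * (a - 1) := by ring
      rw [this]
      exact mul_ne_zero ha0 (sub_ne_zero.mpr ha1)
    refine ⟨κ * p₀, (a ^ 2 - a) * sX h y j κ', hε, mul_ne_zero haa hs0, ?_, ?_⟩
    · rw [map_mul, map_sub, map_pow, haσ, hsσ]; ring
    · have heq : utv (uf (trT h) ) ((κ * p₀, 0) : K × K) ((a ^ 2 - a) * sX h y j κ') = g := by
        apply LinearEquiv.ext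
        intro x
        have hee' : uf (trT h) ((κ * p₀, 0) : K × K) ((κ * p₀, 0) : K × K) = 0 := hee
        rw [utv_apply (uf (trT h)) hee' _ x, hg x]
        rfl
      rw [heq]
      exact hgM
  · -- degenerate case
    push Not at hex
    apply hasTvX_of_bijective h hσ hM
    have hinj : Function.Injective (algebraMap F K) := (algebraMap F K).injective
    refine hinj.bijective_of_nat_card_le ?_
    have hφ : ∀ κ : {κ : K // τ κ = -κ}, σ (tX h p₀ κ.1) = -tX h p₀ κ.1 := fun κ =>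
      skew_val h κ.1 p₀ κ.2
    have hφinj : Function.Injective
        (fun κ : {κ : K // τ κ = -κ} => (⟨tX h p₀ κ.1, hφ κ⟩ : {c : F // σ c = -c})) := by
      intro κ₁ κ₂ h12
      have h12' : tX h p₀ κ₁.1 = tX h p₀ κ₂.1 := congrArg Subtype.val h12
      have hsub : tX h p₀ (κ₁.1 - κ₂.1) = 0 := by
        have e1 : tX h p₀ (κ₁.1 - κ₂.1) = trT h ((κ₁.1 - κ₂.1) * p₀) p₀ := rfl
        have e2 : tX h p₀ κ₁.1 = trT h (κ₁.1 * p₀) p₀ := rfl
        have e3 : tX h p₀ κ₂.1 = trT h (κ₂.1 * p₀) p₀ := rfl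
        rw [e1, sub_mul, map_sub, LinearMap.sub_apply, ← e2, ← e3, h12', sub_self]
      have hsk : τ (κ₁.1 - κ₂.1) = -(κ₁.1 - κ₂.1) := by
        rw [map_sub, κ₁.2, κ₂.2]; ring
      have := hex (κ₁.1 - κ₂.1)
      by_contra hne
      have hne' : κ₁.1 - κ₂.1 ≠ 0 := fun h0 => hne (Subtype.ext (sub_eq_zero.mp h0))
      exact this hne' hsk hsub
    have hle := Nat.card_le_card_of_injective _ hφinj
    have hK := Cfsg.Agent.Lib.Helper73_UX_FLD.card_skewK h hσ
    have hF := Cfsg.Agent.Lib.Helper73_UX_FLD.card_skewF (F := F) hσ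
    rw [← hK, ← hF]
    exact Nat.pow_le_pow_left hle 2

end Cfsg.Agent.Lib.Helper90_UX_Q3
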