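import Mathlib
import Cfsg.Agent.Lib.Helper97_UExtDefs
import Cfsg.Agent.Lib.Helper94_UDDefs
import Cfsg.Agent.Lib.Helper98_ExtMult
import Cfsg.Agent.Lib.Helper73_UX_FLD
import Cfsg.Agent.Lib.Helper10_UX_BASIC

set_option autoImplicit false
set_option linter.unusedSectionVars false
set_option linter.unusedVariables false

namespace Cfsg.Agent.Lib.Helper92_UX_SKISO

open Module
open Cfsg.Agent.Lib.Helper94_Symp Cfsg.Agent.Lib.Helper94_Herm Cfsg.Agent.Lib.Helper13_PSUSimple
  Cfsg.Agent.Lib.Helper67_Tens2Defs Cfsg.Agent.Lib.Helper67_UT2Defs Cfsg.Agent.Lib.Helper98_ExtDefs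
  Cfsg.Agent.Lib.Helper94_FrmDefs Cfsg.Agent.Lib.Helper94_UDDefs Cfsg.Agent.Lib.Helper97_UExtDefs

variable {F K : Type*} [Field F] [Field K] [Algebra F K] [Finite F] [Finite K]
  {σ : F →+* F} {τ : K →+* K}


variable {M : Subgroup ((K × K) ≃ₗ[F] (K × K))}

/-- A proper `K`-invariant `F`-subspace of `K × K` is contained in the `K`-line of any of its
non-zero elements. -/
theorem exists_smul_of_kinv (t : Submodule F (K × K)) (ht : IsKinv t) {z : K × K} (hz : z ∉ t)
    {a : K × K} (ha : a ∈ t) (ha0 : a ≠ 0) {x : K × K} (hx : x ∈ t) : ∃ l : K, x = l • a := by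
  by_cases hD : x.1 * a.2 - x.2 * a.1 = 0
  · by_cases ha1 : a.1 = 0
    · have ha2 : a.2 ≠ 0 := by
        intro h2
        exact ha0 (Prod.ext ha1 h2)
      refine ⟨x.2 / a.2, ?_⟩
      rw [ha1, mul_zero, sub_zero] at hD
      have hx1 : x.1 = 0 := by
        rcases mul_eq_zero.1 hD with h1 | h1
        · exact h1
        · exact absurd h1 ha2
      ext
      · simp [hx1, ha1]
      · simp [ha2]
    · refine ⟨x.1 / a.1, ?_⟩
      ext
      · simp [ha1]
      · simp only [Prod.smul_snd, smul_eq_mul]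
        field_simp
        linear_combination -hD
  · exfalso
    apply hz
    have h1 := ht ((z.1 * a.2 - z.2 * a.1) / (x.1 * a.2 - x.2 * a.1)) x hx
    have h2 := ht ((x.1 * z.2 - x.2 * z.1) / (x.1 * a.2 - x.2 * a.1)) a ha
    have h3 := t.add_mem h1 h2
    have : z = ((z.1 * a.2 - z.2 * a.1) / (x.1 * a.2 - x.2 * a.1)) • x +
        ((x.1 * z.2 - x.2 * z.1) / (x.1 * a.2 - x.2 * a.1)) • a := by
      have hD' : x.1 * a.2 - x.2 * a.1 ≠ 0 := hD
      ext
      · simp only [Prod.fst_add, Prod.smul_fst, smul_eq_mul]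
        have e : (z.1 * a.2 - z.2 * a.1) / (x.1 * a.2 - x.2 * a.1) * x.1 +
            (x.1 * z.2 - x.2 * z.1) / (x.1 * a.2 - x.2 * a.1) * a.1 =
            ((z.1 * a.2 - z.2 * a.1) * x.1 + (x.1 * z.2 - x.2 * z.1) * a.1) /
              (x.1 * a.2 - x.2 * a.1) := by ring
        rw [e, eq_div_iff hD']
        ring
      · simp only [Prod.snd_add, Prod.smul_snd, smul_eq_mul]
        have e : (z.1 * a.2 - z.2 * a.1) / (x.1 * a.2 - x.2 * a.1) * x.2 +
            (x.1 * z.2 - x.2 * z.1) / (x.1 * a.2 - x.2 * a.1) * a.2 =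
            ((z.1 * a.2 - z.2 * a.1) * x.2 + (x.1 * z.2 - x.2 * z.1) * a.2) /
              (x.1 * a.2 - x.2 * a.1) := by ring
        rw [e, eq_div_iff hD']
        ring
    rw [this]
    exact h3

theorem smul_eq_zero_K {l : K} {a : K × K} (ha : a ≠ 0) (h : l • a = 0) : l = 0 := by
  by_contra hl
  apply ha
  have : a = l⁻¹ • (l • a) := by rw [smul_smul, inv_mul_cancel₀ hl, one_smul]
  rw [this, h, smul_zero]

theorem smul_left_inj_K {l l' : K} {a : K × K} (ha : a ≠ 0) (h : l • a = l' • a) : l = l' := by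
  have : (l - l') • a = 0 := by rw [sub_smul, h, sub_self]
  exact sub_eq_zero.1 (smul_eq_zero_K ha this)

theorem semilin_core (h : TauExt σ τ) (hσ : Invol σ) (g : (K × K) ≃ₗ[F] (K × K))
    (hA : ∀ c : K, ∃ l : K, g (c, 0) = l • g (1, 0))
    (hB : ∀ c : K, ∃ l : K, g (0, c) = l • g (0, 1))
    (hC : ∀ κ : K, τ κ = -κ → ∀ c : K, ∃ l : K, g (κ * c, c) = l • g (κ, 1))
    (hind : ∀ α β : K, α • g (1, 0) + β • g (0, 1) = 0 → α = 0 ∧ β = 0) :
    IsSemilin F K (K × K) g := by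
  choose φ hφ using hA
  choose ψ hψ using hB
  have ha0 : g ((1 : K), (0 : K)) ≠ 0 := by
    intro h0
    have := g.injective (h0.trans (map_zero g).symm)
    have h1 := congrArg Prod.fst this
    simp at h1
  have hb0 : g ((0 : K), (1 : K)) ≠ 0 := by
    intro h0
    have := g.injective (h0.trans (map_zero g).symm)
    have h1 := congrArg Prod.snd this
    simp at h1
  -- comparison of coefficients
  have hcmp : ∀ α β α' β' : K, α • g (1, 0) + β • g (0, 1) = α' • g (1, 0) + β' • g (0, 1) →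
      α = α' ∧ β = β' := by
    intro α β α' β' he
    have : (α - α') • g ((1 : K), (0 : K)) + (β - β') • g ((0 : K), (1 : K)) = 0 := by
      rw [sub_smul, sub_smul]
      have := sub_eq_zero.2 he
      rw [← this]
      abel
    obtain ⟨h1, h2⟩ := hind _ _ this
    exact ⟨sub_eq_zero.1 h1, sub_eq_zero.1 h2⟩
  have hsplit : ∀ u u' : K, g (u, u') = φ u • g (1, 0) + ψ u' • g (0, 1) := by
    intro u u'
    have : ((u, u') : K × K) = (u, 0) + (0, u') := by ext <;> simp
    rw [this, map_add, hφ u, hψ u']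
  have hψ1 : ψ 1 = 1 := by
    have := hψ 1
    have h1 : ψ 1 • g ((0 : K), (1 : K)) = (1 : K) • g ((0 : K), (1 : K)) := by
      rw [one_smul]; exact this.symm
    exact smul_left_inj_K hb0 h1
  have hψadd : ∀ c c' : K, ψ (c + c') = ψ c + ψ c' := by
    intro c c'
    apply smul_left_inj_K hb0
    rw [add_smul, ← hψ, ← hψ, ← hψ, ← map_add]
    congr 1
    ext <;> simp
  have hψsmul : ∀ (α : F) (c : K), ψ (α • c) = α • ψ c := by
    intro α c
    apply smul_left_inj_K hb0
    rw [smul_assoc, ← hψ, ← hψ, ← map_smul]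
    congr 1
    ext <;> simp
  -- the main relation
  have hR : ∀ κ : K, τ κ = -κ → ∀ c : K, φ (κ * c) = ψ c * φ κ := by
    intro κ hκ c
    obtain ⟨l, hl⟩ := hC κ hκ c
    rw [hsplit (κ * c) c, hsplit κ 1, hψ1, smul_add, smul_smul, smul_smul, mul_one] at hl
    obtain ⟨h1, h2⟩ := hcmp _ _ _ _ hl
    rw [h1, h2]
  -- a non-zero skew element
  obtain ⟨ζ, hζ0, hζ⟩ := exists_skew hσ
  have hω0 : algebraMap F K ζ ≠ 0 := by
    intro h0
    exact hζ0 ((algebraMap F K).injective (h0.trans (map_zero _).symm))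
  have hω : τ (algebraMap F K ζ) = -(algebraMap F K ζ) := by
    rw [h.ext, hζ, map_neg]
  have hφω : φ (algebraMap F K ζ) ≠ 0 := by
    intro h0
    have h1 := hφ (algebraMap F K ζ)
    rw [h0, zero_smul] at h1
    have := g.injective (h1.trans (map_zero g).symm)
    exact hω0 (congrArg Prod.fst this)
  -- multiplicativity on the fixed field
  have hmul0 : ∀ l : K, τ l = l → ∀ c : K, ψ (l * c) = ψ l * ψ c := by
    intro l hl c
    have hωl : τ (algebraMap F K ζ * l) = -(algebraMap F K ζ * l) := by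
      rw [map_mul, hω, hl, neg_mul]
    have e1 := hR _ hωl c
    have e2 := hR _ hω l
    have e3 := hR _ hω (l * c)
    rw [e2] at e1
    rw [mul_assoc, e3] at e1
    have : ψ (l * c) * φ (algebraMap F K ζ) = (ψ l * ψ c) * φ (algebraMap F K ζ) := by
      rw [e1]; ring
    exact mul_right_cancel₀ hφω this
  obtain ⟨θ, hθ⟩ := hσ.ne_id
  have hmul : ∀ x c : K, ψ (x * c) = ψ x * ψ c := by
    intro x c
    obtain ⟨a', b', ha', hb', rfl⟩ := Helper73_UX_FLD.dec_K0 h hσ hθ x
    rw [add_mul, smul_mul_assoc, hψadd, hψsmul, hψadd, hψsmul, hmul0 a' ha', hmul0 b' hb',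
      add_mul, smul_mul_assoc]
  have hψ0 : ψ 0 = 0 := by
    have := hψadd 0 0
    rw [add_zero] at this
    exact left_eq_add.1 this
  let ρ : K →+* K :=
    { toFun := ψ
      map_one' := hψ1
      map_mul' := hmul
      map_zero' := hψ0
      map_add' := hψadd }
  have hρinj : Function.Injective ρ := ρ.injective
  have hρbij : Function.Bijective ρ := ⟨hρinj, Finite.injective_iff_surjective.1 hρinj⟩
  refine ⟨RingEquiv.ofBijective ρ hρbij, ?_⟩
  intro k v
  have hφk : ∀ u : K, φ (k * u) = ψ k * φ u := by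
    intro u
    have e1 : k * u = algebraMap F K ζ * (u / algebraMap F K ζ * k) := by
      field_simp
    have e2 : u = algebraMap F K ζ * (u / algebraMap F K ζ) := by
      field_simp
    rw [e1, hR _ hω, hmul, mul_comm (ψ _) (ψ k), mul_assoc, ← hR _ hω, ← e2]
  have hv : k • v = (k * v.1, k * v.2) := by ext <;> simp
  have hv' : v = (v.1, v.2) := rfl
  rw [hv, hsplit (k * v.1) (k * v.2), hφk, hmul]
  conv_rhs => rw [hv', hsplit v.1 v.2]
  rw [smul_add, smul_smul, smul_smul]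
  rfl

/-- If `Lg g₁` is `K`-invariant then `g₁ (u, 0)` lies on the `K`-line of `g₁ (u₀, 0)`. -/
theorem exists_smul_Lg (g₁ : (K × K) ≃ₗ[F] (K × K)) (hk : IsKinv (Lg g₁)) (u₀ : K) (hu₀ : u₀ ≠ 0)
    (u : K) : ∃ l : K, g₁ (u, 0) = l • g₁ (u₀, 0) := by
  have hz : g₁ ((0 : K), (1 : K)) ∉ Lg g₁ := by
    rw [mem_Lg]
    rintro ⟨u', hu'⟩
    have := g₁.injective hu'
    have h1 := congrArg Prod.snd this
    simp at h1
  have ha : g₁ (u₀, 0) ∈ Lg g₁ := mem_Lg.2 ⟨u₀, rfl⟩
  have ha0 : g₁ (u₀, (0 : K)) ≠ 0 := by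
    intro h0
    have := g₁.injective (h0.trans (map_zero g₁).symm)
    exact hu₀ (congrArg Prod.fst this)
  exact exists_smul_of_kinv (Lg g₁) hk hz ha ha0 (mem_Lg.2 ⟨u, rfl⟩)

theorem semilin_of_kinv (h : TauExt σ τ) (hσ : Invol σ) (hM : HypX h M)
    (hinv : ∀ g ∈ M, IsKinv (Lg g)) : ∀ g ∈ M, IsSemilin F K (K × K) g := by
  intro g hg
  obtain ⟨ζ, hζ0, hζ⟩ := exists_skew hσ
  have hω0 : algebraMap F K ζ ≠ 0 := by
    intro h0
    exact hζ0 ((algebraMap F K).injective (h0.trans (map_zero _).symm))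
  have hω : τ (algebraMap F K ζ) = -(algebraMap F K ζ) := by
    rw [h.ext, hζ, map_neg]
  have hw : wK (Units.mk0 (algebraMap F K ζ) hω0) ∈ M :=
    Helper10_UX_BASIC.wK_mem h hM (Units.mk0 (algebraMap F K ζ) hω0) (by simpa using hω)
  have hgw : g * wK (Units.mk0 (algebraMap F K ζ) hω0) ∈ M := M.mul_mem hg hw
  have hinvmul : ((Units.mk0 (algebraMap F K ζ) hω0)⁻¹ : Kˣ).val * algebraMap F K ζ = 1 := by
    have := (Units.mk0 (algebraMap F K ζ) hω0).inv_mul
    simpa using this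
  apply semilin_core h hσ g
  · intro c
    exact exists_smul_Lg g (hinv g hg) 1 one_ne_zero c
  · intro c
    have key : ∀ u : K, (g * wK (Units.mk0 (algebraMap F K ζ) hω0) : (K × K) ≃ₗ[F] (K × K)) (u, 0) =
        g (0, -((((Units.mk0 (algebraMap F K ζ) hω0)⁻¹ : Kˣ) : K) * u)) := by
      intro u
      rw [LinearEquiv.mul_apply, wK_apply]
      simp
    obtain ⟨l, hl⟩ := exists_smul_Lg _ (hinv _ hgw) (-(algebraMap F K ζ)) (neg_ne_zero.2 hω0)
      (-(algebraMap F K ζ) * c)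
    rw [key, key] at hl
    refine ⟨l, ?_⟩
    have e1 : -((((Units.mk0 (algebraMap F K ζ) hω0)⁻¹ : Kˣ) : K) * (-(algebraMap F K ζ) * c)) = c := by
      rw [neg_mul, mul_neg, neg_neg, ← mul_assoc, hinvmul, one_mul]
    have e2 : -((((Units.mk0 (algebraMap F K ζ) hω0)⁻¹ : Kˣ) : K) * (-(algebraMap F K ζ))) = 1 := by
      rw [mul_neg, neg_neg, hinvmul]
    rw [e1, e2] at hl
    exact hl
  · intro κ hκ c
    have hux : ux (mK κ : K →ₗ[F] K) ∈ M := hM.ux_mem κ hκ
    have hmem : g * ux (mK κ : K →ₗ[F] K) * wK (Units.mk0 (algebraMap F K ζ) hω0) ∈ M :=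
      M.mul_mem (M.mul_mem hg hux) hw
    have key : ∀ u : K, (g * ux (mK κ : K →ₗ[F] K) * wK (Units.mk0 (algebraMap F K ζ) hω0) :
        (K × K) ≃ₗ[F] (K × K)) (u, 0) =
        g (κ * (-((((Units.mk0 (algebraMap F K ζ) hω0)⁻¹ : Kˣ) : K) * u)),
          -((((Units.mk0 (algebraMap F K ζ) hω0)⁻¹ : Kˣ) : K) * u)) := by
      intro u
      rw [LinearEquiv.mul_apply, LinearEquiv.mul_apply, wK_apply, ux_apply]
      simp
    obtain ⟨l, hl⟩ := exists_smul_Lg _ (hinv _ hmem) (-(algebraMap F K ζ)) (neg_ne_zero.2 hω0)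
      (-(algebraMap F K ζ) * c)
    rw [key, key] at hl
    refine ⟨l, ?_⟩
    have e1 : -((((Units.mk0 (algebraMap F K ζ) hω0)⁻¹ : Kˣ) : K) * (-(algebraMap F K ζ) * c)) = c := by
      rw [neg_mul, mul_neg, neg_neg, ← mul_assoc, hinvmul, one_mul]
    have e2 : -((((Units.mk0 (algebraMap F K ζ) hω0)⁻¹ : Kˣ) : K) * (-(algebraMap F K ζ))) = 1 := by
      rw [mul_neg, neg_neg, hinvmul]
    rw [e1, e2, mul_one] at hl
    exact hl
  · intro α β hαβ
    have ha0 : g ((1 : K), (0 : K)) ≠ 0 := by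
      intro h0
      have := g.injective (h0.trans (map_zero g).symm)
      have h1 := congrArg Prod.fst this
      simp at h1
    by_cases hβ : β = 0
    · subst hβ
      rw [zero_smul, add_zero] at hαβ
      exact ⟨smul_eq_zero_K ha0 hαβ, rfl⟩
    · exfalso
      have hb : g ((0 : K), (1 : K)) = (-(α / β)) • g ((1 : K), (0 : K)) := by
        have h1 : β • g ((0 : K), (1 : K)) = -(α • g ((1 : K), (0 : K))) :=
          eq_neg_of_add_eq_zero_right hαβ
        have h2 : g ((0 : K), (1 : K)) = β⁻¹ • (β • g ((0 : K), (1 : K))) := by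
          rw [smul_smul, inv_mul_cancel₀ hβ, one_smul]
        rw [h2, h1, smul_neg, smul_smul, neg_smul, div_eq_inv_mul]
      have hmem : g ((0 : K), (1 : K)) ∈ Lg g := by
        rw [hb]
        exact hinv g hg _ _ (mem_Lg.2 ⟨1, rfl⟩)
      obtain ⟨u, hu⟩ := mem_Lg.1 hmem
      have := g.injective hu
      have h1 := congrArg Prod.snd this
      simp at h1

end Cfsg.Agent.Lib.Helper92_UX_SKISO
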