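import Mathlib
import Cfsg.Prelude.Def_GeometricClasses
import Cfsg.Prelude.Def_LieClassical
import Cfsg.Agent.Lib.Helper97_UExtDefs
import Cfsg.Agent.Lib.Helper94_UDDefs
import Cfsg.Agent.Lib.Helper98_ExtMult
import Cfsg.Agent.Lib.Helper10_UX_THERM
import Cfsg.Agent.Lib.Helper73_UX_FLD
import Cfsg.Agent.Lib.Helper73_UX_ARITH
import Cfsg.Agent.Lib.Helper92_UX_SKISO
import Cfsg.Agent.Lib.Helper20_UX_MEET
import Cfsg.Agent.Lib.Helper39_UX_MAX
import Cfsg.Agent.Lib.Helper97_UX_CFGC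
import Cfsg.Agent.Lib.Helper90_UX_Q3
import Cfsg.Agent.Lib.Helper25_UX_SQ
import Cfsg.Agent.Lib.Helper25_UX_CLAIM1
import Cfsg.Agent.Lib.Helper78_UX_ANISO
import Cfsg.Agent.Lib.Helper8_UX_ISO
import Cfsg.Agent.Lib.Helper29_UX_Bridge

set_option autoImplicit false
set_option linter.unusedSectionVars false
set_option linter.unusedVariables false

/-!
# UEXT2, final statements (helper29 for helper97)

* `main_abstract_q3`: helper97's assembly of the abstract theorem when the fixed field of `σ` has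
  more than two elements (only packages that do not need the `q = 2` analysis).
* `uext2_maximal_of`: the maximality statement for a field subalgebra of degree `r = n / 2`, from
  the abstract theorem as a hypothesis.
* `uext2_maximal_q3`: the maximality statement for `3 ≤ q`.
-/

open Module Matrix Cfsg.Geo
open Cfsg.Agent.Lib.Helper94_Symp Cfsg.Agent.Lib.Helper94_Herm Cfsg.Agent.Lib.Helper13_PSUSimple
  Cfsg.Agent.Lib.Helper67_Tens2Defs Cfsg.Agent.Lib.Helper67_UT2Defs Cfsg.Agent.Lib.Helper98_ExtDefs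
  Cfsg.Agent.Lib.Helper94_FrmDefs Cfsg.Agent.Lib.Helper94_UDDefs Cfsg.Agent.Lib.Helper97_UExtDefs

namespace Cfsg.Agent.Lib.Helper29_UX_Final

section Abstract

variable {F K : Type*} [Field F] [Field K] [Algebra F K] [Finite F] [Finite K]
  {σ : F →+* F} {τ : K →+* K}

/-- helper97's assembly in the case where the fixed field of `σ` has more than two elements -/
theorem main_abstract_q3 (h : TauExt σ τ) (hσ : Invol σ) (hr : (finrank F K).Prime)
    (hr2 : finrank F K ≠ 2) (hA : Arith σ τ) (hq : ∃ a : F, σ a = a ∧ a ≠ 0 ∧ a ≠ 1)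
    (M : Subgroup ((K × K) ≃ₗ[F] (K × K))) (hM : HypX h M) :
    (∀ g ∈ M, IsSemilin F K (K × K) g) ∨ SUg (uf (trT h)) ≤ M := by
  by_cases hinv : ∀ g ∈ M, IsKinv (Lg g)
  · exact Or.inl (Cfsg.Agent.Lib.Helper92_UX_SKISO.semilin_of_kinv h hσ hM hinv)
  · right
    push Not at hinv
    obtain ⟨g, hg, hnk⟩ := hinv
    obtain ⟨g', hg', hne, hmeet⟩ := Cfsg.Agent.Lib.Helper20_UX_MEET.exists_meet h hσ hM g hg hnk
    obtain ⟨y, hy⟩ := Cfsg.Agent.Lib.Helper39_UX_MAX.exists_maxCfg M ⟨g', hg', g, hg, hne, hmeet⟩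
    obtain ⟨p₀, a₀, j, hc⟩ := Cfsg.Agent.Lib.Helper97_UX_CFGC.exists_cfg h hσ hr hM hy
    have htv : HasTvX h M := Cfsg.Agent.Lib.Helper90_UX_Q3.q3_hasTv h hσ hM hc hq
    obtain ⟨ε, c, hε, hc0, hcs, hmem⟩ := htv
    have hU := Cfsg.Agent.Lib.Helper25_UX_SQ.uu_of_tv h hσ hM ε c hε hc0 hcs hmem
    obtain ⟨xs, hxs, hνs⟩ := Cfsg.Agent.Lib.Helper25_UX_CLAIM1.exists_aniso_UU h hσ hM hA ε hε hU
    have han : ∀ v : K × K, uf (trT h) v v = 0 → nu τ v ≠ 0 → v ∈ UU (uf (trT h)) M :=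
      fun v hv hν => Cfsg.Agent.Lib.Helper78_UX_ANISO.aniso_UU h hσ hM xs hxs hνs ε hε hU v hv hν
    have h3 : 3 ≤ finrank F K := by
      have h2 := hr.two_le
      omega
    have hall : ∀ v : K × K, uf (trT h) v v = 0 → v ∈ UU (uf (trT h)) M := by
      intro v hv
      by_cases hν : nu τ v = 0
      · exact Cfsg.Agent.Lib.Helper8_UX_ISO.iso_UU h hσ h3 hM han v hν
      · exact han v hv hν
    have h4 : 4 ≤ finrank F (K × K) := by
      rw [Module.finrank_prod]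
      omega
    exact SUg_le_of_UU hσ (uf_isHerm (Cfsg.Agent.Lib.Helper10_UX_THERM.trT_isHerm h))
      (uf_nondeg (Cfsg.Agent.Lib.Helper10_UX_THERM.trT_nondeg h)) h4 hall

end Abstract

universe u

/-- the maximality statement from the abstract theorem (as a hypothesis) -/
theorem uext2_maximal_of {F : Type u} [Field F] [Fintype F] (q : ℕ)
    (hF : Fintype.card F = q ^ 2) (n r : ℕ) (hn : n = 2 * r) (hr : r.Prime) (hr2 : r ≠ 2)
    (hq : q ^ 2 + 2 * q < q ^ r)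
    (hmain : ∀ (σ : F →+* F), (∀ x, σ x = x ^ q) → Invol σ →
      ∀ (L : Type u) [Field L] [Algebra F L] [Finite L] (τ : L →+* L) (h : TauExt σ τ),
      (finrank F L).Prime → finrank F L ≠ 2 → Arith σ τ →
      ∀ M : Subgroup ((L × L) ≃ₗ[F] (L × L)), HypX h M →
        (∀ g ∈ M, IsSemilin F L (L × L) g) ∨ SUg (uf (trT h)) ≤ M)
    (K : Subalgebra F (Matrix (Fin n) (Fin n) F)) (hK : Cfsg.Geo.IsFieldSubalgebra r K)
    (hadj : Cfsg.Geo.IsAdjointClosedFor (Cfsg.hermForm n F q) K) :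
    Cfsg.Geo.IsMaximalIn (Cfsg.GU n F q ⊓ Cfsg.Geo.specialLinear (Fin n) F)
      (Cfsg.Geo.subalgebraNormalizer K ⊓
        (Cfsg.GU n F q ⊓ Cfsg.Geo.specialLinear (Fin n) F)) := by
  refine Cfsg.Agent.Lib.Helper29_UX_Bridge.bridge n q r hF hn hr.two_le K hK hadj ?_
  intro σ hσq hσ L _ _ _ τ h hfr M hM
  refine hmain σ hσq hσ L τ h (hfr ▸ hr) (hfr ▸ hr2) ?_ M hM
  refine Cfsg.Agent.Lib.Helper73_UX_ARITH.arith_of_card h hσ q ?_ (hfr ▸ hq)
  rw [Nat.card_eq_fintype_card, hF]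

/-- the maximality statement for `3 ≤ q` -/
theorem uext2_maximal_q3 {F : Type u} [Field F] [Fintype F] (q : ℕ)
    (hF : Fintype.card F = q ^ 2) (n r : ℕ) (hn : n = 2 * r) (hr : r.Prime) (hr2 : r ≠ 2)
    (hq : q ^ 2 + 2 * q < q ^ r) (hq3 : 3 ≤ q)
    (K : Subalgebra F (Matrix (Fin n) (Fin n) F)) (hK : Cfsg.Geo.IsFieldSubalgebra r K)
    (hadj : Cfsg.Geo.IsAdjointClosedFor (Cfsg.hermForm n F q) K) :
    Cfsg.Geo.IsMaximalIn (Cfsg.GU n F q ⊓ Cfsg.Geo.specialLinear (Fin n) F)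
      (Cfsg.Geo.subalgebraNormalizer K ⊓
        (Cfsg.GU n F q ⊓ Cfsg.Geo.specialLinear (Fin n) F)) := by
  refine uext2_maximal_of q hF n r hn hr hr2 hq ?_ K hK hadj
  intro σ hσq hσ L _ _ _ τ h hp hp2 hA M hM
  refine main_abstract_q3 h hσ hp hp2 hA ?_ M hM
  -- the fixed field of `σ` has `q ≥ 3` elements
  have hc := Cfsg.Agent.Lib.Helper73_UX_FLD.card_fixF hσ
  rw [Nat.card_eq_fintype_card (α := F), hF] at hc
  have hc' : Nat.card {c : F // σ c = c} = q := by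
    have := Nat.pow_left_injective (n := 2) (by norm_num) hc
    exact this
  by_contra hcon
  push Not at hcon
  have hle : Nat.card {c : F // σ c = c} ≤ 2 := by
    classical
    have hinj : Function.Injective (fun c : {c : F // σ c = c} => decide (c.1 = 0)) := by
      intro a b hab
      have ha := hcon a.1 a.2
      have hb := hcon b.1 b.2
      simp only [decide_eq_decide] at hab
      apply Subtype.ext
      by_cases h0 : a.1 = 0
      · rw [h0, hab.mp h0]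
      · have hb0 : b.1 ≠ 0 := fun hb0 => h0 (hab.mpr hb0)
        rw [ha h0, hb hb0]
    have := Nat.card_le_card_of_injective _ hinj
    simpa using this
  omega

/-- conjunct (7) of `S5801` (`SU_6(q)`, `q ≥ 3`, degree 3) -/
theorem su6_ext3 {F : Type u} [Field F] [Fintype F] (q : ℕ) (hF : Fintype.card F = q ^ 2) :
    3 ≤ q → ∀ K : Subalgebra F (Matrix (Fin 6) (Fin 6) F), Cfsg.Geo.IsFieldSubalgebra 3 K →
      Cfsg.Geo.IsAdjointClosedFor (Cfsg.hermForm 6 F q) K →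
      Cfsg.Geo.IsMaximalIn (Cfsg.GU 6 F q ⊓ Cfsg.Geo.specialLinear (Fin 6) F)
        (Cfsg.Geo.subalgebraNormalizer K ⊓
          (Cfsg.GU 6 F q ⊓ Cfsg.Geo.specialLinear (Fin 6) F)) := by
  intro h3 K hK hadj
  refine uext2_maximal_q3 q hF 6 3 rfl (by norm_num) (by norm_num) ?_ h3 K hK hadj
  have h1 : 3 * q ^ 2 ≤ q ^ 3 := by
    rw [pow_succ q 2, mul_comm]
    exact Nat.mul_le_mul_left _ h3
  nlinarith

/-- conjunct (7) of `S5840` (`SU_10(q)`, degree 5) for `q ≥ 3` -/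
theorem su10_ext5_q3 {F : Type u} [Field F] [Fintype F] (q : ℕ) (hF : Fintype.card F = q ^ 2)
    (h3 : 3 ≤ q) (K : Subalgebra F (Matrix (Fin 10) (Fin 10) F))
    (hK : Cfsg.Geo.IsFieldSubalgebra 5 K)
    (hadj : Cfsg.Geo.IsAdjointClosedFor (Cfsg.hermForm 10 F q) K) :
    Cfsg.Geo.IsMaximalIn (Cfsg.GU 10 F q ⊓ Cfsg.Geo.specialLinear (Fin 10) F)
      (Cfsg.Geo.subalgebraNormalizer K ⊓
        (Cfsg.GU 10 F q ⊓ Cfsg.Geo.specialLinear (Fin 10) F)) := by
  refine uext2_maximal_q3 q hF 10 5 rfl (by norm_num) (by norm_num) ?_ h3 K hK hadj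
  have h1 : 3 * q ^ 2 ≤ q ^ 3 := by
    rw [pow_succ q 2, mul_comm]
    exact Nat.mul_le_mul_left _ h3
  have h2 : q ^ 3 ≤ q ^ 5 := Nat.pow_le_pow_right (by omega) (by norm_num)
  nlinarith

end Cfsg.Agent.Lib.Helper29_UX_Final
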