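import Mathlib
import Cfsg.Agent.Lib.Helper97_UExtDefs
import Cfsg.Agent.Lib.Helper94_UDDefs
import Cfsg.Agent.Lib.Helper98_ExtMult
import Cfsg.Agent.Lib.Helper10_UX_BASIC
import Cfsg.Agent.Lib.Helper10_UX_TRS
import Cfsg.Agent.Lib.Helper73_UX_FLD

set_option autoImplicit false
set_option linter.unusedSectionVars false
set_option linter.unusedVariables false

/-!
# UEXT2 package Q2B, core (helper54 for helper97): the case `F₀ = {0, 1}` with `E₀ ⊆ E₀'`.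
The two inputs `fam2` (FAM2), `q2_phi` (Q2PHI) enter as hypotheses (TRM is only needed for the
value `1`, which is done directly in `exists_tr_one`).
-/

namespace Cfsg.Agent.Lib.Helper54_UX_Q2BCore

open Module
open Cfsg.Agent.Lib.Helper94_Symp Cfsg.Agent.Lib.Helper94_Herm Cfsg.Agent.Lib.Helper13_PSUSimple
  Cfsg.Agent.Lib.Helper67_Tens2Defs Cfsg.Agent.Lib.Helper67_UT2Defs Cfsg.Agent.Lib.Helper98_ExtDefs
  Cfsg.Agent.Lib.Helper94_FrmDefs Cfsg.Agent.Lib.Helper94_UDDefs Cfsg.Agent.Lib.Helper97_UExtDefs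
  Cfsg.Agent.Lib.Helper98_ExtMult

variable {F K : Type*} [Field F] [Field K] [Algebra F K] [Finite F] [Finite K]
  {σ : F →+* F} {τ : K →+* K}

/-- characteristic two from `F₀ = {0, 1}` -/
theorem two_eq_zero_F (hq : ∀ a : F, σ a = a → a = 0 ∨ a = 1) : (2 : F) = 0 := by
  rcases hq 2 (map_ofNat σ 2) with h2 | h2
  · exact h2
  · exfalso
    have h3 : (1 : F) + 1 = 2 := by norm_num
    rw [← h3] at h2
    have h4 : (1 : F) = 0 := by
      have := congrArg (fun t => t - 1) h2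
      simp at this
    exact one_ne_zero h4

theorem neg_eq_F (h2 : (2 : F) = 0) (a : F) : -a = a := by
  rw [neg_eq_iff_add_eq_zero, ← two_mul, h2, zero_mul]

theorem two_eq_zero_K (h2 : (2 : F) = 0) : (2 : K) = 0 := by
  have h3 : (2 : K) = algebraMap F K 2 := (map_ofNat (algebraMap F K) 2).symm
  rw [h3, h2, map_zero]

theorem neg_eq_K (h2 : (2 : F) = 0) (a : K) : -a = a := by
  rw [neg_eq_iff_add_eq_zero, ← two_mul, two_eq_zero_K h2, zero_mul]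

/-- the trace of a `τ`-fixed element is `0` or `1` -/
theorem trace_fix (h : TauExt σ τ) (hq : ∀ a : F, σ a = a → a = 0 ∨ a = 1) (κ : K) (hκ : τ κ = κ) :
    Algebra.trace F K κ = 0 ∨ Algebra.trace F K κ = 1 := by
  apply hq
  rw [← Cfsg.Agent.Lib.Helper10_UX_TRS.trace_tau h, hκ]

/-- `|K₀| > 4` -/
theorem card_K0_gt (h : TauExt σ τ) (hσ : Invol σ) (hr : (finrank F K).Prime)
    (hr2 : finrank F K ≠ 2) : 4 < Nat.card {κ : K // τ κ = -κ} := by
  have h1 := Cfsg.Agent.Lib.Helper73_UX_FLD.card_skewK h hσ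
  have h2 := Cfsg.Agent.Lib.Helper73_UX_FLD.card_fixF hσ
  have h3 : Nat.card K = Nat.card F ^ finrank F K := Module.natCard_eq_pow_finrank (K := F) (V := K)
  have h4 : 3 ≤ finrank F K := by
    have := hr.two_le
    omega
  have h5 : 1 < Nat.card F := Finite.one_lt_card
  have h6 : 2 ≤ Nat.card {c : F // σ c = c} := by
    by_contra hcon
    have : Nat.card {c : F // σ c = c} ≤ 1 := by omega
    have : Nat.card {c : F // σ c = c} ^ 2 ≤ 1 ^ 2 := Nat.pow_le_pow_left this 2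
    omega
  have h7 : 4 ≤ Nat.card F := by
    rw [← h2]
    have : 2 ^ 2 ≤ Nat.card {c : F // σ c = c} ^ 2 := Nat.pow_le_pow_left h6 2
    omega
  have h8 : 64 ≤ Nat.card K := by
    rw [h3]
    calc 64 = 4 ^ 3 := by norm_num
      _ ≤ Nat.card F ^ 3 := Nat.pow_le_pow_left h7 3
      _ ≤ Nat.card F ^ finrank F K := Nat.pow_le_pow_right (by omega) h4
  by_contra hcon
  have h9 : Nat.card {κ : K // τ κ = -κ} ≤ 4 := by omega
  have : Nat.card {κ : K // τ κ = -κ} ^ 2 ≤ 4 ^ 2 := Nat.pow_le_pow_left h9 2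
  omega

/-- an element of `K₀` other than `0`, `1` -/
theorem exists_lam (h2 : (2 : F) = 0) (hcard : 4 < Nat.card {κ : K // τ κ = -κ}) :
    ∃ l : K, τ l = l ∧ l ≠ 0 ∧ l ≠ 1 := by
  classical
  by_contra hcon
  push Not at hcon
  have hinj : Function.Injective (fun κ : {κ : K // τ κ = -κ} => decide ((κ : K) = 0)) := by
    intro a b hab
    have ha : τ (a : K) = (a : K) := by rw [a.2, neg_eq_K h2]
    have hb : τ (b : K) = (b : K) := by rw [b.2, neg_eq_K h2]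
    simp only [decide_eq_decide] at hab
    apply Subtype.ext
    by_cases ha0 : (a : K) = 0
    · rw [ha0, hab.1 ha0]
    · have hb0 : (b : K) ≠ 0 := fun hb0 => ha0 (hab.2 hb0)
      rw [hcon _ ha ha0, hcon _ hb hb0]
  have := Nat.card_le_card_of_injective _ hinj
  have hb : Nat.card Bool = 2 := by simp
  omega

/-- a nonzero element of `K₀` in the kernel of two `{0,1}`-valued additive functions -/
theorem exists_kz (h2 : (2 : F) = 0) (hcard : 4 < Nat.card {κ : K // τ κ = -κ})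
    (φ1 φ2 : K → F) (hs1 : ∀ a b, φ1 (a - b) = φ1 a - φ1 b) (hs2 : ∀ a b, φ2 (a - b) = φ2 a - φ2 b)
    (hv1 : ∀ κ, τ κ = κ → φ1 κ = 0 ∨ φ1 κ = 1) (hv2 : ∀ κ, τ κ = κ → φ2 κ = 0 ∨ φ2 κ = 1) :
    ∃ κ : K, τ κ = κ ∧ κ ≠ 0 ∧ φ1 κ = 0 ∧ φ2 κ = 0 := by
  classical
  have hninj : ¬ Function.Injective
      (fun κ : {κ : K // τ κ = -κ} => (decide (φ1 (κ : K) = 0), decide (φ2 (κ : K) = 0))) := by
    intro hinj
    have := Nat.card_le_card_of_injective _ hinj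
    have hb : Nat.card (Bool × Bool) = 4 := by simp
    omega
  rw [Function.Injective] at hninj
  push Not at hninj
  obtain ⟨a, b, hab, hne⟩ := hninj
  have ha : τ (a : K) = (a : K) := by rw [a.2, neg_eq_K h2]
  have hb : τ (b : K) = (b : K) := by rw [b.2, neg_eq_K h2]
  simp only [Prod.mk.injEq, decide_eq_decide] at hab
  have key : ∀ φ : K → F, (∀ κ, τ κ = κ → φ κ = 0 ∨ φ κ = 1) →
      (φ (a : K) = 0 ↔ φ (b : K) = 0) → φ (a : K) - φ (b : K) = 0 := by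
    intro φ hv hiff
    by_cases ha0 : φ (a : K) = 0
    · rw [ha0, hiff.1 ha0, sub_zero]
    · have hb0 : φ (b : K) ≠ 0 := fun hb0 => ha0 (hiff.2 hb0)
      rw [(hv _ ha).resolve_left ha0, (hv _ hb).resolve_left hb0, sub_self]
  refine ⟨(a : K) - (b : K), by rw [map_sub, ha, hb], ?_, ?_, ?_⟩
  · intro h0
    exact hne (Subtype.ext (sub_eq_zero.1 h0))
  · rw [hs1]
    exact key φ1 hv1 hab.1
  · rw [hs2]
    exact key φ2 hv2 hab.2

/-- an element of `K₀` of trace `1` -/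
theorem exists_tr_one (h : TauExt σ τ) (hσ : Invol σ) (hq : ∀ a : F, σ a = a → a = 0 ∨ a = 1) :
    ∃ κ : K, τ κ = κ ∧ Algebra.trace F K κ = 1 := by
  obtain ⟨θ, hθ⟩ := hσ.ne_id
  obtain ⟨x, hx⟩ := Algebra.trace_surjective F K 1
  obtain ⟨a, b, ha, hb, hxab⟩ := Cfsg.Agent.Lib.Helper73_UX_FLD.dec_K0 h hσ hθ x
  rw [hxab, map_add, map_smul, smul_eq_mul] at hx
  rcases trace_fix h hq b hb with hb0 | hb1
  · rw [hb0, mul_zero, add_zero] at hx
    exact ⟨a, ha, hx⟩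
  · exact ⟨b, hb, hb1⟩

/-- `μ ∈ K₀` with `Tr μ = 1`, `Tr (l⁻¹ μ) = 0` -/
theorem exists_mu (h : TauExt σ τ) (hσ : Invol σ) (hq : ∀ a : F, σ a = a → a = 0 ∨ a = 1)
    (l : K) (hl : τ l = l) (hl0 : l ≠ 0) (hl1 : l ≠ 1) :
    ∃ μ : K, τ μ = μ ∧ Algebra.trace F K μ = 1 ∧ Algebra.trace F K (l⁻¹ * μ) = 0 := by
  have h2 := two_eq_zero_F hq
  obtain ⟨κa, hκa, hta⟩ := exists_tr_one h hσ hq
  have hli : τ l⁻¹ = l⁻¹ := by rw [map_inv₀, hl]
  have hfix1 : τ (l⁻¹ * κa) = l⁻¹ * κa := by rw [map_mul, hli, hκa]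
  rcases trace_fix h hq _ hfix1 with h0 | h1
  · exact ⟨κa, hκa, hta, h0⟩
  · -- `m = 1 + l⁻¹ ≠ 0`
    have hm0 : (1 + l⁻¹ : K) ≠ 0 := by
      intro hm
      have h3 : l⁻¹ = -1 := by
        rw [eq_neg_iff_add_eq_zero, add_comm]
        exact hm
      rw [neg_eq_K h2] at h3
      apply hl1
      have := congrArg (fun t => t⁻¹) h3
      simpa using this
    have hmfix : τ (1 + l⁻¹ : K) = 1 + l⁻¹ := by rw [map_add, map_one, hli]
    set μ0 : K := (1 + l⁻¹)⁻¹ * κa with hμ0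
    have hμ0fix : τ μ0 = μ0 := by rw [hμ0, map_mul, map_inv₀, hmfix, hκa]
    have hsum : Algebra.trace F K μ0 + Algebra.trace F K (l⁻¹ * μ0) = 1 := by
      rw [← map_add, ← hta]
      congr 1
      calc μ0 + l⁻¹ * μ0 = (1 + l⁻¹) * μ0 := by ring
        _ = κa := by rw [hμ0, ← mul_assoc, mul_inv_cancel₀ hm0, one_mul]
    have hfix2 : τ (l⁻¹ * μ0) = l⁻¹ * μ0 := by rw [map_mul, hli, hμ0fix]
    rcases trace_fix h hq _ hμ0fix with h00 | h01
    · -- `Tr μ0 = 0`, `Tr (l⁻¹ μ0) = 1`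
      rw [h00, zero_add] at hsum
      refine ⟨μ0 + κa, by rw [map_add, hμ0fix, hκa], by rw [map_add, h00, hta, zero_add], ?_⟩
      rw [mul_add, map_add, hsum, h1, ← two_eq_zero_F hq]
      norm_num
    · rw [h01] at hsum
      refine ⟨μ0, hμ0fix, h01, ?_⟩
      have := congrArg (fun t => t - 1) hsum
      simpa using this

variable {M : Subgroup ((K × K) ≃ₗ[F] (K × K))}

/-- PKG Q2B with its three inputs as hypotheses -/
theorem q2_bad_core (h : TauExt σ τ) (hσ : Invol σ) (hr : (finrank F K).Prime)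
    (hr2 : finrank F K ≠ 2) (hM : HypX h M)
    {y : (K × K) ≃ₗ[F] (K × K)} {p₀ a₀ j : K} (hc : Cfg h M y p₀ a₀ j)
    (hq : ∀ a : F, σ a = a → a = 0 ∨ a = 1)
    (hbad : ∀ κ : K, τ κ = -κ → tX h p₀ κ = 0 →
      ∃ κ' : K, τ κ' = -κ' ∧ sX h y j κ' = 0 ∧ eX p₀ κ = zX y j κ')
    (hFAM2 : ∀ κ κ' : K, τ κ = -κ → τ κ' = -κ' → sX h y j κ' = 0 →
      HasMap M (famMap (uf (trT h)) (zX y j κ') (eX p₀ κ) (tX h p₀ κ)))
    (hPHI : ∀ κ₁ κ₁' κ₂ κ₂' : K, τ κ₁ = -κ₁ → τ κ₁' = -κ₁' → τ κ₂ = -κ₂ → τ κ₂' = -κ₂' →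
      tX h p₀ κ₁ = 0 → sX h y j κ₁' = 0 → tX h p₀ κ₂ = 0 → sX h y j κ₂' = 0 →
      HasMap M (PhiX (uf (trT h)) (eX p₀ κ₁ + zX y j κ₁') (eX p₀ κ₂ + zX y j κ₂'))) :
    HasTvX h M := by
  have h2 := two_eq_zero_F hq
  have hnF := neg_eq_F h2
  have hnK : ∀ a : K, -a = a := neg_eq_K h2
  -- `p₀ ≠ 0`, `n₀ = p₀ τ p₀`
  have hp0 : p₀ ≠ 0 := by
    intro hp
    have := hc.hj
    rw [hp, trT_apply, zero_mul, map_zero] at this
    exact zero_ne_one this
  set n0 : K := p₀ * τ p₀ with hn0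
  have hn0fix : τ n0 = n0 := by rw [hn0, map_mul, h.invol, mul_comm]
  have hn00 : n0 ≠ 0 := mul_ne_zero hp0 (by
    intro h0
    apply hp0
    have := congrArg τ h0
    rwa [h.invol, map_zero] at this)
  have htX : ∀ κ : K, tX h p₀ κ = Algebra.trace F K (κ * n0) := by
    intro κ
    rw [tX, trT_apply, hn0, mul_assoc]
  have hcard := card_K0_gt h hσ hr hr2
  obtain ⟨l, hl, hl0, hl1⟩ := exists_lam (τ := τ) h2 hcard
  have hli : τ l⁻¹ = l⁻¹ := by rw [map_inv₀, hl]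
  -- `κ₁`
  obtain ⟨μ, hμ, hμ1, hμ0⟩ := exists_mu h hσ hq l hl hl0 hl1
  set κ1 : K := μ * n0⁻¹ with hκ1
  have hκ1fix : τ κ1 = κ1 := by rw [hκ1, map_mul, map_inv₀, hμ, hn0fix]
  have hκ1n : κ1 * n0 = μ := by rw [hκ1, mul_assoc, inv_mul_cancel₀ hn00, mul_one]
  -- `κz`
  obtain ⟨κz, hκz, hκz0, hz1, hz2⟩ := exists_kz (τ := τ) h2 hcard
    (fun κ => Algebra.trace F K (κ * n0)) (fun κ => Algebra.trace F K (l⁻¹ * κ * n0))
    (fun a b => by simp only [sub_mul, map_sub])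
    (fun a b => by simp only [mul_sub, sub_mul, map_sub])
    (fun κ hκ => trace_fix h hq _ (by rw [map_mul, hκ, hn0fix]))
    (fun κ hκ => trace_fix h hq _ (by rw [map_mul, map_mul, hli, hκ, hn0fix]))
  -- the bad hypothesis
  obtain ⟨κz', hκz', hsz', hez⟩ := hbad κz (by rw [hκz, hnK]) (by rw [htX, hz1])
  -- FAM2
  have hfam := hFAM2 κ1 κz' (by rw [hκ1fix, hnK]) hκz' hsz'
  rw [← hez, htX, hκ1n, hμ1] at hfam
  -- Q2PHI
  have hzX0 : zX y j 0 = 0 := by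
    rw [zX, zero_mul]
    exact map_zero y
  have hphi := hPHI (l⁻¹ * κz) 0 (l⁻¹ * κ1) 0 (by rw [map_mul, hli, hκz, hnK])
    (by rw [map_zero, neg_zero]) (by rw [map_mul, hli, hκ1fix, hnK]) (by rw [map_zero, neg_zero])
    (by rw [htX, hz2]) (by rw [sX, zero_mul, map_zero, LinearMap.zero_apply])
    (by rw [htX, mul_assoc, hκ1n, hμ0]) (by rw [sX, zero_mul, map_zero, LinearMap.zero_apply])
  rw [hzX0, add_zero, add_zero] at hphi
  -- conjugate by `dK l l⁻¹`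
  set lu : Kˣ := Units.mk0 l hl0 with hlu
  have hdmem : dK lu lu⁻¹ ∈ M :=
    Cfsg.Agent.Lib.Helper10_UX_BASIC.dK_mem h hσ hM lu (by rw [hlu, Units.val_mk0, hl])
  have hdiso : ∀ x y', uf (trT h) (dK lu lu⁻¹ x) (dK lu lu⁻¹ y') = uf (trT h) x y' :=
    (mem_uG _).1 (hM.le hdmem)
  have hde : ∀ κ : K, (dK lu lu⁻¹ : (K × K) ≃ₗ[F] (K × K)) (eX p₀ (l⁻¹ * κ)) = eX p₀ κ := by
    intro κ
    rw [dK_apply, eX, eX]
    ext
    · simp only [hlu, Units.val_mk0]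
      field_simp
    · simp
  have hphi2 : HasMap M (PhiX (uf (trT h)) (eX p₀ κz) (eX p₀ κ1)) := by
    refine hasMap_congr (hasMap_conj hphi hdmem) (fun v => ?_)
    have hsymm : ∀ w, uf (trT h) ((dK lu lu⁻¹ : (K × K) ≃ₗ[F] (K × K)).symm v)
        (eX p₀ (l⁻¹ * w)) = uf (trT h) v (eX p₀ w) := by
      intro w
      rw [← hdiso, LinearEquiv.apply_symm_apply, hde]
    simp only [PhiX, map_add, map_smul, LinearEquiv.apply_symm_apply, hde, hsymm]
  -- isotropy of `K × 0`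
  have hiso : ∀ a b : K, uf (trT h) (eX p₀ a) (eX p₀ b) = 0 := by
    intro a b
    simp [eX]
  -- the product
  have hprod := hasMap_comp hfam hphi2
  obtain ⟨g, hg, hgx⟩ := hprod
  refine ⟨κz * p₀, 1, mul_ne_zero hκz0 hp0, one_ne_zero, by rw [map_one, hnF], ?_⟩
  have hgeq : g = utv (uf (trT h)) ((κz * p₀, 0) : K × K) 1 := by
    apply LinearEquiv.ext
    intro x
    have he : ((κz * p₀, 0) : K × K) = eX p₀ κz := rfl
    rw [hgx, he, utv_apply _ (hiso κz κz)]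
    simp only [famMap, PhiX, map_add, map_smul, LinearMap.add_apply, LinearMap.smul_apply, hiso,
      smul_eq_mul, mul_zero, add_zero, one_mul]
    have h2' : uf (trT h) x (eX p₀ κz) • eX p₀ κ1 + uf (trT h) x (eX p₀ κz) • eX p₀ κ1 = 0 := by
      rw [← add_smul, ← two_mul, h2, zero_mul, zero_smul]
    calc x + uf (trT h) x (eX p₀ κz) • eX p₀ κ1 + uf (trT h) x (eX p₀ κ1) • eX p₀ κz +
          uf (trT h) x (eX p₀ κz) • eX p₀ κ1 - uf (trT h) x (eX p₀ κ1) • eX p₀ κz +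
          uf (trT h) x (eX p₀ κz) • eX p₀ κz
        = x + (uf (trT h) x (eX p₀ κz) • eX p₀ κ1 + uf (trT h) x (eX p₀ κz) • eX p₀ κ1) +
          uf (trT h) x (eX p₀ κz) • eX p₀ κz := by abel
      _ = x + uf (trT h) x (eX p₀ κz) • eX p₀ κz := by rw [h2', add_zero]
  rw [← hgeq]
  exact hg

end Cfsg.Agent.Lib.Helper54_UX_Q2BCore
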