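import Mathlib
import Cfsg.Agent.Lib.Helper97_UExtDefs
import Cfsg.Agent.Lib.Helper94_UDDefs
import Cfsg.Agent.Lib.Helper98_ExtMult
import Cfsg.Agent.Lib.Helper10_UX_THERM
import Cfsg.Agent.Lib.Helper45_UX_COMM

set_option autoImplicit false
set_option linter.unusedSectionVars false
set_option linter.unusedVariables false

/-!
# UEXT2 package FAM2 (helper78 for helper97): the second commutator family.

`COMM` with `t = G0`, `D = G0 ⊓ Lg y`, `u₀ := (j, 0)`, `x₀ := (a₀, p₀)`, `g = y * ux κ' * y⁻¹`,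
`k = ux κ`, `N (u, u') = (κ u', 0)`.
-/

namespace Cfsg.Agent.Lib.Helper78_UX_FAM2

open Module
open Cfsg.Agent.Lib.Helper94_Symp Cfsg.Agent.Lib.Helper94_Herm Cfsg.Agent.Lib.Helper13_PSUSimple
  Cfsg.Agent.Lib.Helper67_Tens2Defs Cfsg.Agent.Lib.Helper67_UT2Defs Cfsg.Agent.Lib.Helper98_ExtDefs
  Cfsg.Agent.Lib.Helper94_FrmDefs Cfsg.Agent.Lib.Helper94_UDDefs Cfsg.Agent.Lib.Helper97_UExtDefs

variable {F K : Type*} [Field F] [Field K] [Algebra F K] [Finite F] [Finite K]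
  {σ : F →+* F} {τ : K →+* K}

variable {M : Subgroup ((K × K) ≃ₗ[F] (K × K))}

/-- the nilpotent part of `ux (mK κ)` -/
def nK (κ : K) : (K × K) →ₗ[F] (K × K) :=
  (LinearMap.inl F K K).comp ((mK κ : K →ₗ[F] K).comp (LinearMap.snd F K K))

@[simp] theorem nK_apply (κ : K) (x : K × K) :
    (nK κ : (K × K) →ₗ[F] (K × K)) x = (κ * x.2, 0) := rfl

/-- PKG FAM2 (M; uses COMM, THERM) -/
theorem fam2 (h : TauExt σ τ) (hσ : Invol σ) (hM : HypX h M) {y : (K × K) ≃ₗ[F] (K × K)}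
    {p₀ a₀ j : K} (hc : Cfg h M y p₀ a₀ j) (κ κ' : K) (hκ : τ κ = -κ) (hκ' : τ κ' = -κ')
    (hs : sX h y j κ' = 0) :
    HasMap M (famMap (uf (trT h)) (zX y j κ') (eX p₀ κ) (tX h p₀ κ)) := by
  have hT : IsHerm (trT h) := Cfsg.Agent.Lib.Helper10_UX_THERM.trT_isHerm h
  have hTn : NondegOn (trT h) ⊤ := Cfsg.Agent.Lib.Helper10_UX_THERM.trT_nondeg h
  have hf : IsHerm (uf (trT h)) := uf_isHerm hT
  have hyM : y ∈ M := hc.hy
  have hyU : y ∈ uG (uf (trT h)) := hM.le hyM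
  have hjp : trT h j p₀ = 1 := by rw [hT p₀ j, hc.hj, map_one]
  -- the elements
  set g : (K × K) ≃ₗ[F] (K × K) := y * ux (mK κ' : K →ₗ[F] K) * y⁻¹ with hgdef
  set k : (K × K) ≃ₗ[F] (K × K) := ux (mK κ : K →ₗ[F] K) with hkdef
  have hgM : g ∈ M := M.mul_mem (M.mul_mem hyM (hM.ux_mem κ' hκ')) (M.inv_mem hyM)
  have hkM : k ∈ M := hM.ux_mem κ hκ
  -- `a₁ = y⁻¹ (j, 0)`
  set a1 : K × K := y⁻¹ ((j, 0) : K × K) with ha1
  have hya1 : y a1 = (j, 0) := by rw [ha1]; exact LinearEquiv.apply_symm_apply y _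
  have hz : zX y j κ' = y ((κ' * a1.2, 0) : K × K) := rfl
  have hsval : trT h (κ' * a1.2) a1.2 = 0 := hs
  -- `g (j, 0) = (j, 0) + ζ`
  have hgu : g ((j, 0) : K × K) = ((j, 0) : K × K) + zX y j κ' := by
    rw [hgdef, LinearEquiv.mul_apply, LinearEquiv.mul_apply, ← ha1, ux_apply, mK_apply, hz,
      ← hya1, ← map_add]
    congr 1
    ext <;> simp
  -- `ζ ∈ G0`
  have hzL : zX y j κ' ∈ Lg y := mem_Lg.mpr ⟨κ' * a1.2, rfl⟩
  have hz2 : (zX y j κ').2 = 0 := by
    obtain ⟨a, ha⟩ := hc.hP _ hzL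
    have h1 : uf (trT h) (zX y j κ') ((j, 0) : K × K) = a := by
      rw [uf_apply, ha]
      simp only [map_zero, zero_add, map_smul, LinearMap.smul_apply, smul_eq_mul]
      rw [hc.hj, mul_one]
    have h2 : uf (trT h) (zX y j κ') ((j, 0) : K × K) = 0 := by
      rw [hz, ← hya1, hyU, uf_apply]
      simp only [map_zero, LinearMap.zero_apply, add_zero]
      exact hsval
    rw [ha, ← h1, h2, zero_smul]
  have hzG : zX y j κ' ∈ (G0 : Submodule F (K × K)) := mem_G0.mpr hz2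
  -- apply COMM
  have key := Cfsg.Agent.Lib.Helper45_UX_COMM.comm_formula hσ (uf (trT h)) hf
    (G0 : Submodule F (K × K)) ((G0 : Submodule F (K × K)) ⊓ Lg y) ((j, 0) : K × K)
    ((a₀, p₀) : K × K) (zX y j κ') g k (nK κ)
    (by
      intro a ha b hb
      rw [uf_apply, mem_G0.mp ha, mem_G0.mp hb]
      simp)
    inf_le_left
    (mem_G0.mpr rfl)
    (by
      intro v hv
      have hv2 : v.2 = 0 := mem_G0.mp hv
      refine ⟨((v.1 - trT h v.1 p₀ • j, 0) : K × K), ⟨mem_G0.mpr rfl, ?_⟩, trT h v.1 p₀, ?_⟩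
      · refine (hc.hD _).mpr ?_
        rw [map_sub, LinearMap.sub_apply, map_smul, LinearMap.smul_apply, hjp, smul_eq_mul,
          mul_one, sub_self]
      · ext
        · simp
        · simp [hv2])
    (hM.le hgM)
    (by
      rintro d ⟨hd0, hdL⟩
      obtain ⟨u, rfl⟩ := mem_Lg.mp hdL
      rw [hgdef, LinearEquiv.mul_apply, LinearEquiv.mul_apply]
      have : y⁻¹ (y ((u, 0) : K × K)) = ((u, 0) : K × K) := LinearEquiv.symm_apply_apply y _
      rw [this, ux_apply]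
      congr 1
      ext <;> simp)
    ⟨hzG, hzL⟩
    hgu
    (by
      rintro d ⟨hd0, hdL⟩
      have hd2 : d.2 = 0 := mem_G0.mp hd0
      have hd : d = ((d.1, 0) : K × K) := Prod.ext rfl hd2
      rw [hd] at hdL
      rw [uf_apply, hd2]
      simp only [map_zero, LinearMap.zero_apply, add_zero]
      exact (hc.hD d.1).mp hdL)
    (by
      rw [uf_apply]
      simp only [map_zero, LinearMap.zero_apply, add_zero]
      exact hjp)
    (hM.le hkM)
    (by
      intro x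
      rw [hkdef, ux_apply, nK_apply, mK_apply]
      ext <;> simp)
    (fun x => mem_G0.mpr rfl)
    (by
      intro x hx
      have hx2 : x.2 = 0 := by
        by_contra hne
        obtain ⟨w, -, hw⟩ := hTn x.2 trivial hne
        apply hw
        have := hx ((w, 0) : K × K) (mem_G0.mpr rfl)
        rw [uf_apply] at this
        simpa using this
      rw [nK_apply, hx2, mul_zero]
      rfl)
  refine ⟨g * k * g⁻¹ * k⁻¹, M.mul_mem (M.mul_mem (M.mul_mem hgM hkM) (M.inv_mem hgM))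
    (M.inv_mem hkM), ?_⟩
  intro x
  rw [key x]
  have hN0 : (nK κ : (K × K) →ₗ[F] (K × K)) ((a₀, p₀) : K × K) = eX p₀ κ := rfl
  have ht : uf (trT h) (eX p₀ κ) ((a₀, p₀) : K × K) = tX h p₀ κ := by
    rw [uf_apply]
    simp [eX, tX]
  rw [hN0, ht]
  rfl

end Cfsg.Agent.Lib.Helper78_UX_FAM2
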