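import Mathlib
import Cfsg.Agent.Lib.Helper97_UExtDefs
import Cfsg.Agent.Lib.Helper94_UDDefs
import Cfsg.Agent.Lib.Helper98_ExtMult
import Cfsg.Agent.Lib.Helper31_UX_FAM1
import Cfsg.Agent.Lib.Helper78_UX_FAM2
import Cfsg.Agent.Lib.Helper10_UX_TRS
import Cfsg.Agent.Lib.Helper73_UX_FLD

set_option autoImplicit false
set_option linter.unusedSectionVars false
set_option linter.unusedVariables false
set_option linter.unusedSimpArgs false

/-!
# UEXT2 package Q2PHI (architect helper97): for `q = 2`, the maps `Φ_{x,y}`, `x, y ∈ E0 + E0'`, lie in `M`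
-/

namespace Cfsg.Agent.Lib.Helper55_UX_Q2PHI

open Module
open Cfsg.Agent.Lib.Helper94_Symp Cfsg.Agent.Lib.Helper94_Herm Cfsg.Agent.Lib.Helper13_PSUSimple
  Cfsg.Agent.Lib.Helper67_Tens2Defs Cfsg.Agent.Lib.Helper67_UT2Defs Cfsg.Agent.Lib.Helper98_ExtDefs
  Cfsg.Agent.Lib.Helper94_FrmDefs Cfsg.Agent.Lib.Helper94_UDDefs Cfsg.Agent.Lib.Helper97_UExtDefs
open Cfsg.Agent.Lib.Helper98_ExtMult

variable {F K : Type*} [Field F] [Field K] [Algebra F K] [Finite F] [Finite K]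
  {σ : F →+* F} {τ : K →+* K}

variable {M : Subgroup ((K × K) ≃ₗ[F] (K × K))}


section Aux

variable (f : (K × K) →ₗ[F] (K × K) →ₛₗ[σ] F)

theorem phi_of_fam0 (h2 : (2 : F) = 0) (e ζ v : K × K) :
    famMap f e ζ 0 v = PhiX f e ζ v := by
  unfold famMap PhiX
  have key : (2 : F) • (f v ζ • e) = 0 := by rw [h2, zero_smul]
  linear_combination (norm := module) (-1 : F) • key

theorem phi_of_fam3 (h2 : (2 : F) = 0) (P : K × K → Prop)
    (hP : ∀ a b, P a → P b → f a b = 0) (e1 e2 ζ : K × K) (h1 : P e1) (h2' : P e2) (hζ : P ζ)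
    (v : K × K) :
    famMap f e1 ζ 1 (famMap f e2 ζ 1 (famMap f (e1 + e2) ζ 1 v)) = PhiX f e1 e2 v := by
  have o11 := hP e1 e1 h1 h1
  have o12 := hP e1 e2 h1 h2'
  have o21 := hP e2 e1 h2' h1
  have o22 := hP e2 e2 h2' h2'
  have o1z := hP e1 ζ h1 hζ
  have o2z := hP e2 ζ h2' hζ
  have oz1 := hP ζ e1 hζ h1
  have oz2 := hP ζ e2 hζ h2'
  have ozz := hP ζ ζ hζ hζ
  unfold famMap PhiX
  simp only [map_add, map_sub, map_smul, LinearMap.add_apply, LinearMap.sub_apply,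
    LinearMap.smul_apply, smul_eq_mul, o11, o12, o21, o22, o1z, o2z, oz1, oz2, ozz, mul_zero,
    add_zero, sub_zero, zero_add]
  have key : (2 : F) • ((f v e1 + f v e2) • ζ - f v ζ • e1 - f v ζ • e2 + f v e1 • e1
      + f v e2 • e2) = 0 := by rw [h2, zero_smul]
  linear_combination (norm := module) key

theorem phi_mul4 (P : K × K → Prop) (hP : ∀ a b, P a → P b → f a b = 0)
    (e1 e2 z1 z2 : K × K) (h1 : P e1) (h2' : P e2) (h3 : P z1) (h4 : P z2) (v : K × K) :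
    PhiX f e1 e2 (PhiX f e1 z2 (PhiX f e2 z1 (PhiX f z1 z2 v))) =
      PhiX f (e1 + z1) (e2 + z2) v := by
  have o11 := hP e1 e1 h1 h1
  have o12 := hP e1 e2 h1 h2'
  have o13 := hP e1 z1 h1 h3
  have o14 := hP e1 z2 h1 h4
  have o21 := hP e2 e1 h2' h1
  have o22 := hP e2 e2 h2' h2'
  have o23 := hP e2 z1 h2' h3
  have o24 := hP e2 z2 h2' h4
  have o31 := hP z1 e1 h3 h1
  have o32 := hP z1 e2 h3 h2'
  have o33 := hP z1 z1 h3 h3
  have o34 := hP z1 z2 h3 h4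
  have o41 := hP z2 e1 h4 h1
  have o42 := hP z2 e2 h4 h2'
  have o43 := hP z2 z1 h4 h3
  have o44 := hP z2 z2 h4 h4
  unfold PhiX
  simp only [map_add, map_smul, LinearMap.add_apply, LinearMap.smul_apply, smul_eq_mul,
    o11, o12, o13, o14, o21, o22, o23, o24, o31, o32, o33, o34, o41, o42, o43, o44, mul_zero,
    add_zero, zero_add]
  module

end Aux

theorem eX_add (p₀ κ κ' : K) : eX p₀ (κ + κ') = eX p₀ κ + eX p₀ κ' := by
  unfold eX
  ext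
  · simp [add_mul]
  · simp

theorem zX_add (y : (K × K) ≃ₗ[F] (K × K)) (j κ κ' : K) :
    zX y j (κ + κ') = zX y j κ + zX y j κ' := by
  unfold zX
  rw [← map_add]
  congr 1
  ext
  · simp [add_mul]
  · simp

theorem tX_add (h : TauExt σ τ) (p₀ κ κ' : K) : tX h p₀ (κ + κ') = tX h p₀ κ + tX h p₀ κ' := by
  unfold tX
  rw [add_mul, map_add, LinearMap.add_apply]

theorem sX_add (h : TauExt σ τ) (y : (K × K) ≃ₗ[F] (K × K)) (j κ κ' : K) :
    sX h y j (κ + κ') = sX h y j κ + sX h y j κ' := by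
  unfold sX
  rw [add_mul, map_add, LinearMap.add_apply]

/-- a `τ`-fixed `κ` of trace `1` (when the fixed field of `σ` is `{0, 1}`) -/
theorem exists_fixed_tr_one (h : TauExt σ τ) (hσ : Invol σ)
    (hq : ∀ a : F, σ a = a → a = 0 ∨ a = 1) :
    ∃ κ : K, τ κ = κ ∧ Algebra.trace F K κ = 1 := by
  obtain ⟨θ, hθ⟩ := hσ.ne_id
  by_contra hcon
  push Not at hcon
  have hz : ∀ κ : K, τ κ = κ → Algebra.trace F K κ = 0 := by
    intro κ hκ
    have hfix : σ (Algebra.trace F K κ) = Algebra.trace F K κ := by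
      rw [← Cfsg.Agent.Lib.Helper10_UX_TRS.trace_tau h, hκ]
    rcases hq _ hfix with h0 | h1
    · exact h0
    · exact absurd h1 (hcon κ hκ)
  have : Module.Finite F K := Module.Finite.of_finite
  obtain ⟨x, hx⟩ := Algebra.trace_surjective F K 1
  obtain ⟨a, b, ha, hb, rfl⟩ := Cfsg.Agent.Lib.Helper73_UX_FLD.dec_K0 h hσ hθ x
  rw [map_add, map_smul, hz a ha, hz b hb, smul_zero, add_zero] at hx
  exact zero_ne_one hx

/-- a skew `κ` with `T (κ a) a = 1` (characteristic 2) -/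
theorem exists_skew_tr_one (h : TauExt σ τ) (hσ : Invol σ) (h2 : (2 : F) = 0)
    (hq : ∀ a : F, σ a = a → a = 0 ∨ a = 1) (a : K)
    (ha : a ≠ 0) : ∃ κ : K, τ κ = -κ ∧ trT h (κ * a) a = 1 := by
  obtain ⟨κ0, hκ0', htr⟩ := exists_fixed_tr_one h hσ hq
  have h2K : (2 : K) = 0 := by
    have := congrArg (algebraMap F K) h2
    rw [map_ofNat, map_zero] at this
    exact this
  have hκ0 : τ κ0 = -κ0 := by
    rw [hκ0']
    linear_combination κ0 * h2K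
  have hτa : τ a ≠ 0 := (map_ne_zero τ).mpr ha
  have hN : a * τ a ≠ 0 := mul_ne_zero ha hτa
  refine ⟨κ0 * (a * τ a)⁻¹, ?_, ?_⟩
  · rw [map_mul, map_inv₀, map_mul, h.invol, hκ0, mul_comm (τ a) a, neg_mul]
  · rw [trT_apply]
    have : κ0 * (a * τ a)⁻¹ * a * τ a = κ0 := by
      field_simp
    rw [this, htr]

/-- PKG Q2PHI (L; uses FAM1, FAM2, TRM) -/
theorem q2_phi (h : TauExt σ τ) (hσ : Invol σ) (hM : HypX h M) {y : (K × K) ≃ₗ[F] (K × K)}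
    {p₀ a₀ j : K} (hc : Cfg h M y p₀ a₀ j) (hq : ∀ a : F, σ a = a → a = 0 ∨ a = 1)
    (κ₁ κ₁' κ₂ κ₂' : K) (h1 : τ κ₁ = -κ₁) (h1' : τ κ₁' = -κ₁') (h2 : τ κ₂ = -κ₂)
    (h2' : τ κ₂' = -κ₂') (ht1 : tX h p₀ κ₁ = 0) (hs1 : sX h y j κ₁' = 0) (ht2 : tX h p₀ κ₂ = 0)
    (hs2 : sX h y j κ₂' = 0) :
    HasMap M (PhiX (uf (trT h)) (eX p₀ κ₁ + zX y j κ₁') (eX p₀ κ₂ + zX y j κ₂')) := by
  -- characteristic 2
  have hF2 : (2 : F) = 0 := by
    rcases hq 2 (map_ofNat σ 2) with h0 | h1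
    · exact h0
    · exfalso
      have : (1 : F) = 0 := by linear_combination h1
      exact one_ne_zero this
  have hyuG : y ∈ uG (uf (trT h)) := hM.le hc.hy
  -- the two totally isotropic spaces
  have hLg0 : ∀ a b : K × K, a ∈ Lg y → b ∈ Lg y → uf (trT h) a b = 0 := by
    intro a b ha hb
    obtain ⟨u, rfl⟩ := mem_Lg.1 ha
    obtain ⟨u', rfl⟩ := mem_Lg.1 hb
    rw [hyuG (u, 0) (u', 0), uf_apply]
    simp
  have hG0 : ∀ a b : K × K, a ∈ (G0 : Submodule F (K × K)) → b ∈ (G0 : Submodule F (K × K)) →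
      uf (trT h) a b = 0 := by
    intro a b ha hb
    rw [mem_G0] at ha hb
    rw [uf_apply, ha, hb]
    simp
  -- memberships
  have heG0 : ∀ κ : K, eX p₀ κ ∈ (G0 : Submodule F (K × K)) := fun κ => rfl
  have heLg : ∀ κ : K, tX h p₀ κ = 0 → eX p₀ κ ∈ Lg y := fun κ hκ => (hc.hD (κ * p₀)).mpr hκ
  have hzLg : ∀ κ' : K, zX y j κ' ∈ Lg y := fun κ' => mem_Lg.2 ⟨_, rfl⟩
  have hzG0 : ∀ κ' : K, sX h y j κ' = 0 → zX y j κ' ∈ (G0 : Submodule F (K × K)) := by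
    intro κ' hs
    rw [mem_G0]
    obtain ⟨a, ha⟩ := hc.hP (zX y j κ') (hzLg κ')
    have e1 : uf (trT h) (zX y j κ') ((j, 0) : K × K) = a := by
      rw [uf_apply, ha]
      simp only [map_zero, zero_add, map_smul, LinearMap.smul_apply, hc.hj, smul_eq_mul, mul_one]
    have e2 : uf (trT h) (zX y j κ') ((j, 0) : K × K) = sX h y j κ' := by
      have := hyuG ((κ' * (y⁻¹ ((j, 0) : K × K)).2, 0) : K × K) (y⁻¹ ((j, 0) : K × K))
      rw [apply_inv_apply'] at this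
      unfold zX sX
      rw [this, uf_apply]
      simp
    rw [ha, ← e1, e2, hs, zero_smul]
  -- nonvanishing
  have hp0 : p₀ ≠ 0 := by
    intro h0
    have := hc.hj
    rw [h0, map_zero, LinearMap.zero_apply] at this
    exact zero_ne_one this
  have ha1 : (y⁻¹ ((j, 0) : K × K)).2 ≠ 0 := by
    intro h0
    have hmem : ((j, 0) : K × K) ∈ Lg y := mem_Lg'.2 h0
    have := hLg0 _ _ hc.hu₀ hmem
    rw [uf_apply] at this
    simp only [map_zero, zero_add, hc.hj] at this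
    exact one_ne_zero this
  obtain ⟨κs, hκs, hss⟩ := exists_skew_tr_one h hσ hF2 hq _ ha1
  obtain ⟨κt, hκt, htt⟩ := exists_skew_tr_one h hσ hF2 hq _ hp0
  have hss' : sX h y j κs = 1 := hss
  have htt' : tX h p₀ κt = 1 := htt
  -- (i) `Φ_{e₁,ζ₂}` and `Φ_{e₂,ζ₁}`
  have hΦ1 : HasMap M (PhiX (uf (trT h)) (eX p₀ κ₁) (zX y j κ₂')) := by
    have := Cfsg.Agent.Lib.Helper31_UX_FAM1.fam1 h hσ hM hc κ₁ κ₂' h1 h2' ht1
    rw [hs2] at this
    exact hasMap_congr this (fun v => phi_of_fam0 _ hF2 _ _ v)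
  have hΦ2 : HasMap M (PhiX (uf (trT h)) (eX p₀ κ₂) (zX y j κ₁')) := by
    have := Cfsg.Agent.Lib.Helper31_UX_FAM1.fam1 h hσ hM hc κ₂ κ₁' h2 h1' ht2
    rw [hs1] at this
    exact hasMap_congr this (fun v => phi_of_fam0 _ hF2 _ _ v)
  -- (ii) `Φ_{e₁,e₂}`
  have hΦ3 : HasMap M (PhiX (uf (trT h)) (eX p₀ κ₁) (eX p₀ κ₂)) := by
    have A1 := Cfsg.Agent.Lib.Helper31_UX_FAM1.fam1 h hσ hM hc κ₁ κs h1 hκs ht1
    have A2 := Cfsg.Agent.Lib.Helper31_UX_FAM1.fam1 h hσ hM hc κ₂ κs h2 hκs ht2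
    have h12 : τ (κ₁ + κ₂) = -(κ₁ + κ₂) := by rw [map_add, h1, h2, neg_add]
    have ht12 : tX h p₀ (κ₁ + κ₂) = 0 := by rw [tX_add, ht1, ht2, add_zero]
    have A12 := Cfsg.Agent.Lib.Helper31_UX_FAM1.fam1 h hσ hM hc (κ₁ + κ₂) κs h12 hκs ht12
    rw [hss'] at A1 A2 A12
    rw [eX_add] at A12
    refine hasMap_congr (hasMap_comp A1 (hasMap_comp A2 A12)) (fun v => ?_)
    exact phi_of_fam3 _ hF2 (fun a => a ∈ Lg y) hLg0 _ _ _ (heLg κ₁ ht1) (heLg κ₂ ht2)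
      (hzLg κs) v
  -- (iii) `Φ_{ζ₁,ζ₂}`
  have hΦ4 : HasMap M (PhiX (uf (trT h)) (zX y j κ₁') (zX y j κ₂')) := by
    have B1 := Cfsg.Agent.Lib.Helper78_UX_FAM2.fam2 h hσ hM hc κt κ₁' hκt h1' hs1
    have B2 := Cfsg.Agent.Lib.Helper78_UX_FAM2.fam2 h hσ hM hc κt κ₂' hκt h2' hs2
    have h12 : τ (κ₁' + κ₂') = -(κ₁' + κ₂') := by rw [map_add, h1', h2', neg_add]
    have hs12 : sX h y j (κ₁' + κ₂') = 0 := by rw [sX_add, hs1, hs2, add_zero]
    have B12 := Cfsg.Agent.Lib.Helper78_UX_FAM2.fam2 h hσ hM hc κt (κ₁' + κ₂') hκt h12 hs12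
    rw [htt'] at B1 B2 B12
    rw [zX_add] at B12
    refine hasMap_congr (hasMap_comp B1 (hasMap_comp B2 B12)) (fun v => ?_)
    exact phi_of_fam3 _ hF2 (fun a => a ∈ (G0 : Submodule F (K × K))) hG0 _ _ _
      (hzG0 κ₁' hs1) (hzG0 κ₂' hs2) (heG0 κt) v
  -- (iv) the product
  refine hasMap_congr (hasMap_comp hΦ3 (hasMap_comp hΦ1 (hasMap_comp hΦ2 hΦ4))) (fun v => ?_)
  exact phi_mul4 _ (fun a => a ∈ (G0 : Submodule F (K × K))) hG0 _ _ _ _ (heG0 κ₁) (heG0 κ₂)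
    (hzG0 κ₁' hs1) (hzG0 κ₂' hs2) v

end Cfsg.Agent.Lib.Helper55_UX_Q2PHI
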