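import Mathlib
import Cfsg.Agent.Lib.Helper97_UExtDefs
import Cfsg.Agent.Lib.Helper94_UDDefs
import Cfsg.Agent.Lib.Helper98_ExtMult
import Cfsg.Agent.Lib.Helper39_UX_MAX

set_option autoImplicit false
set_option linter.unusedSectionVars false
set_option linter.unusedVariables false

/-!
# UEXT2 (architect helper97), package CFGD: the dichotomy (C1)
-/

namespace Cfsg.Agent.Lib.Helper39_UX_CFGD

open Module
open Cfsg.Agent.Lib.Helper94_Symp Cfsg.Agent.Lib.Helper94_Herm Cfsg.Agent.Lib.Helper13_PSUSimple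
  Cfsg.Agent.Lib.Helper67_Tens2Defs Cfsg.Agent.Lib.Helper67_UT2Defs Cfsg.Agent.Lib.Helper98_ExtDefs
  Cfsg.Agent.Lib.Helper94_FrmDefs Cfsg.Agent.Lib.Helper94_UDDefs Cfsg.Agent.Lib.Helper97_UExtDefs

variable {F K : Type*} [Field F] [Field K] [Algebra F K] [Finite F] [Finite K]
  {σ : F →+* F} {τ : K →+* K}

variable {M : Subgroup ((K × K) ≃ₗ[F] (K × K))}

/-- PKG CFGD (M): the dichotomy (C1) -/
theorem cfg_dich (h : TauExt σ τ) (hM : HypX h M) {y : (K × K) ≃ₗ[F] (K × K)} (hy : MaxCfg M y)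
    (κ : K) (hκ : τ κ = -κ) :
    (∀ x ∈ Lg y, ((κ * x.2, 0) : K × K) ∈ Lg y) ∨
      (∀ x ∈ Lg y, ((κ * x.2, 0) : K × K) ∈ Lg y → x.2 = 0) := by
  classical
  haveI : Module.Finite F (K × K) := Module.Finite.of_finite
  have hxM : ux (mK κ : K →ₗ[F] K) ∈ M := hM.ux_mem κ hκ
  have hxy : ux (mK κ : K →ₗ[F] K) * y ∈ M := M.mul_mem hxM hy.hy
  have hmap : (Lg y).map (ux (mK κ : K →ₗ[F] K)).toLinearMap = Lg (ux (mK κ : K →ₗ[F] K) * y) :=
    Helper39_UX_MAX.map_Lg _ _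
  -- `x v ∈ Lg (x * y)` for `v ∈ Lg y`
  have himg : ∀ v ∈ Lg y, ux (mK κ : K →ₗ[F] K) v ∈ Lg (ux (mK κ : K →ₗ[F] K) * y) := by
    intro v hv
    rw [← hmap]
    exact ⟨v, hv, rfl⟩
  have hxv : ∀ v : K × K, ux (mK κ : K →ₗ[F] K) v = v + ((κ * v.2, 0) : K × K) := by
    intro v
    rw [ux_apply, mK_apply]
    ext <;> simp
  by_cases heq : Lg (ux (mK κ : K →ₗ[F] K) * y) = Lg y
  · left
    intro v hv
    have h1 := himg v hv
    rw [heq, hxv] at h1
    have h2 := (Lg y).sub_mem h1 hv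
    rwa [add_sub_cancel_left] at h2
  · right
    have hle : (G0 : Submodule F (K × K)) ⊓ Lg y ≤ Lg (ux (mK κ : K →ₗ[F] K) * y) ⊓ Lg y := by
      intro v hv
      refine ⟨?_, hv.2⟩
      have h1 := himg v hv.2
      have h0 : v.2 = 0 := mem_G0.mp hv.1
      rw [hxv, h0, mul_zero] at h1
      have : v + ((0, 0) : K × K) = v := by
        rw [show ((0, 0) : K × K) = 0 from rfl, add_zero]
      rwa [this] at h1
    have hfin := hy.hmax _ hxy _ hy.hy heq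
    have heq2 : (G0 : Submodule F (K × K)) ⊓ Lg y = Lg (ux (mK κ : K →ₗ[F] K) * y) ⊓ Lg y :=
      Submodule.eq_of_le_of_finrank_le hle hfin
    intro v hv hκv
    have h1 := himg v hv
    rw [hxv] at h1
    have h2 : v + ((κ * v.2, 0) : K × K) ∈ Lg y := (Lg y).add_mem hv hκv
    have h3 : v + ((κ * v.2, 0) : K × K) ∈ (G0 : Submodule F (K × K)) ⊓ Lg y := by
      rw [heq2]
      exact ⟨h1, h2⟩
    have h4 := mem_G0.mp h3.1
    simpa using h4

end Cfsg.Agent.Lib.Helper39_UX_CFGD
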