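import Mathlib
import Cfsg.Agent.Lib.Helper97_UExtDefs
import Cfsg.Agent.Lib.Helper94_UDDefs
import Cfsg.Agent.Lib.Helper98_ExtMult
import Cfsg.Agent.Lib.Helper10_UX_THERM
import Cfsg.Agent.Lib.Helper10_UX_MULT
import Cfsg.Agent.Lib.Helper73_UX_FLD
import Cfsg.Agent.Lib.Helper39_UX_CFGD
import Cfsg.Agent.Lib.Helper31_UX_CFGP
import Cfsg.Agent.Lib.Helper12_UX_HSING

set_option autoImplicit false
set_option linter.unusedSectionVars false
set_option linter.unusedVariables false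

/-!
# UEXT2 package CFGC: the configuration `t' = I ⊕ F u₀` (counting argument (C3)-(C6))
-/

namespace Cfsg.Agent.Lib.Helper97_UX_CFGC

open Module
open Cfsg.Agent.Lib.Helper94_Symp Cfsg.Agent.Lib.Helper94_Herm Cfsg.Agent.Lib.Helper13_PSUSimple
  Cfsg.Agent.Lib.Helper67_Tens2Defs Cfsg.Agent.Lib.Helper67_UT2Defs Cfsg.Agent.Lib.Helper98_ExtDefs
  Cfsg.Agent.Lib.Helper94_FrmDefs Cfsg.Agent.Lib.Helper94_UDDefs Cfsg.Agent.Lib.Helper97_UExtDefs
  Cfsg.Agent.Lib.Helper10_UX_THERM Cfsg.Agent.Lib.Helper10_UX_MULT Cfsg.Agent.Lib.Helper73_UX_FLD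
  Cfsg.Agent.Lib.Helper39_UX_CFGD Cfsg.Agent.Lib.Helper31_UX_CFGP Cfsg.Agent.Lib.Helper12_UX_HSING

variable {F K : Type*} [Field F] [Field K] [Algebra F K] [Finite F] [Finite K]
  {σ : F →+* F} {τ : K →+* K}


variable {M : Subgroup ((K × K) ≃ₗ[F] (K × K))}

/-- the skew elements of `K` -/
def Kminus (τ : K →+* K) : AddSubgroup K where
  carrier := {κ | τ κ = -κ}
  add_mem' := by
    intro a b ha hb
    simp only [Set.mem_ofPred_eq] at ha hb ⊢
    rw [map_add, ha, hb, neg_add]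
  zero_mem' := by simp
  neg_mem' := by
    intro a ha
    simp only [Set.mem_ofPred_eq] at ha ⊢
    rw [map_neg, ha]

theorem mem_Kminus {κ : K} : κ ∈ Kminus τ ↔ τ κ = -κ := Iff.rfl

/-- the form `s_κ (p, p') = T (κ p) p'` on a subspace `P` of `K` -/
noncomputable def sform (h : TauExt σ τ) (P : Submodule F K) (κ : K) : ↥P →ₗ[F] ↥P →ₛₗ[σ] F :=
  LinearMap.mk₂'ₛₗ (RingHom.id F) σ (fun p p' => trT h (κ * (p : K)) (p' : K))
    (by intro x x' y; simp only [Submodule.coe_add, mul_add, map_add, LinearMap.add_apply])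
    (by intro c x y
        simp only [Submodule.coe_smul, mul_smul_comm, map_smul, LinearMap.smul_apply,
          RingHom.id_apply])
    (by intro x y y'; simp only [Submodule.coe_add, map_add])
    (by intro c x y; simp only [Submodule.coe_smul, map_smulₛₗ])

@[simp] theorem sform_apply (h : TauExt σ τ) (P : Submodule F K) (κ : K) (p p' : ↥P) :
    sform h P κ p p' = trT h (κ * (p : K)) (p' : K) := rfl

/-- `κ ↦ s_κ` as an additive map on the skew elements -/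
noncomputable def sformHom (h : TauExt σ τ) (P : Submodule F K) :
    ↥(Kminus τ) →+ (↥P →ₗ[F] ↥P →ₛₗ[σ] F) :=
  AddMonoidHom.mk' (fun κ : ↥(Kminus τ) => sform h P (κ : K)) (by
    intro a b
    ext p p'
    simp [add_mul])

theorem trT_skew (h : TauExt σ τ) {κ : K} (hκ : τ κ = -κ) (p p' : K) :
    trT h p (κ * p') = -trT h (κ * p) p' := by
  rw [trT_apply, trT_apply, map_mul τ, hκ, ← map_neg]
  congr 1
  ring

/-- cardinality of `Lg y` -/
theorem card_Lg (y : (K × K) ≃ₗ[F] (K × K)) : Nat.card ↥(Lg y) = Nat.card K := by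
  symm
  apply Nat.card_eq_of_bijective (fun c : K => (⟨y ((c, 0) : K × K), mem_Lg.mpr ⟨c, rfl⟩⟩ : ↥(Lg y)))
  constructor
  · intro c c' hcc
    have h1 : y ((c, 0) : K × K) = y ((c', 0) : K × K) := congrArg Subtype.val hcc
    have h2 := y.injective h1
    exact (Prod.ext_iff.mp h2).1
  · rintro ⟨x, hx⟩
    obtain ⟨u, hu⟩ := mem_Lg.mp hx
    exact ⟨u, Subtype.ext hu⟩

/-- `|Lg y| = |DI y| * |π₂ (Lg y)|` -/
theorem card_Lg_split (y : (K × K) ≃ₗ[F] (K × K)) :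
    Nat.card ↥(Lg y) =
      Nat.card ↥(DI y) * Nat.card ↥((Lg y).map (LinearMap.snd F K K)) := by
  let φ : ↥(Lg y) →+ K :=
    { toFun := fun x => x.1.2
      map_zero' := rfl
      map_add' := fun _ _ => rfl }
  have h1 : Nat.card ↥φ.ker * Nat.card ↥φ.range = Nat.card ↥(Lg y) := by
    rw [← AddSubgroup.index_ker]
    exact AddSubgroup.card_mul_index _
  have h2 : Nat.card ↥φ.range = Nat.card ↥((Lg y).map (LinearMap.snd F K K)) := by
    apply Nat.card_congr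
    apply Equiv.subtypeEquivRight
    intro p
    rw [AddMonoidHom.mem_range, Submodule.mem_map]
    constructor
    · rintro ⟨x, hx⟩
      exact ⟨x.1, x.2, hx⟩
    · rintro ⟨x, hx, hxp⟩
      exact ⟨⟨x, hx⟩, hxp⟩
  have h3 : Nat.card ↥φ.ker = Nat.card ↥(DI y) := by
    apply Nat.card_eq_of_bijective
      (fun x : ↥φ.ker => (⟨x.1.1.1, by
        have hx : x.1.1.2 = 0 := AddMonoidHom.mem_ker.mp x.2
        rw [mem_DI]
        have : ((x.1.1.1, 0) : K × K) = x.1.1 := Prod.ext rfl hx.symm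
        rw [this]
        exact x.1.2⟩ : ↥(DI y)))
    constructor
    · intro x x' hxx
      have h1 : x.1.1.1 = x'.1.1.1 := congrArg Subtype.val hxx
      have hx : x.1.1.2 = 0 := AddMonoidHom.mem_ker.mp x.2
      have hx' : x'.1.1.2 = 0 := AddMonoidHom.mem_ker.mp x'.2
      apply Subtype.ext
      apply Subtype.ext
      exact Prod.ext h1 (hx.trans hx'.symm)
    · rintro ⟨c, hc⟩
      refine ⟨⟨⟨((c, 0) : K × K), mem_DI.mp hc⟩, ?_⟩, rfl⟩
      rw [AddMonoidHom.mem_ker]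
      rfl
  rw [← h1, h2, h3]

/-- PKG CFGC (L; uses CFGD, CFGP, HSING, MULT, FLD, THERM): (C3)-(C6) and the output -/
theorem exists_cfg (h : TauExt σ τ) (hσ : Invol σ) (hr : (finrank F K).Prime) (hM : HypX h M)
    {y : (K × K) ≃ₗ[F] (K × K)} (hy : MaxCfg M y) : ∃ p₀ a₀ j : K, Cfg h M y p₀ a₀ j := by
  classical
  have hyM := hy.hy
  set P : Submodule F K := (Lg y).map (LinearMap.snd F K K) with hP
  have memP : ∀ p : K, p ∈ P ↔ ∃ x ∈ Lg y, x.2 = p := by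
    intro p
    rw [hP, Submodule.mem_map]
    rfl
  have hfr : finrank F ↥(Lg y) = finrank F ↥(G0 : Submodule F (K × K)) :=
    LinearEquiv.finrank_map_eq y G0
  -- `D₀ ≠ ⊥`
  have hD0 : DI y ≠ ⊥ := by
    intro hbot
    apply hy.hpos
    rw [eq_bot_iff]
    intro x hx
    have hx2 : x.2 = 0 := mem_G0.mp hx.1
    have hx1 : x.1 ∈ DI y := by
      rw [mem_DI]
      have : ((x.1, 0) : K × K) = x := Prod.ext rfl hx2.symm
      rw [this]
      exact hx.2
    rw [hbot, Submodule.mem_bot] at hx1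
    rw [Submodule.mem_bot]
    exact Prod.ext hx1 hx2
  -- `D₀ ≠ ⊤`
  have hD1 : DI y ≠ ⊤ := by
    intro htop
    apply hy.hne
    symm
    apply Submodule.eq_of_le_of_finrank_eq
    · intro x hx
      have hx2 : x.2 = 0 := mem_G0.mp hx
      have hx1 : x.1 ∈ DI y := by rw [htop]; trivial
      rw [mem_DI] at hx1
      have : ((x.1, 0) : K × K) = x := Prod.ext rfl hx2.symm
      rwa [this] at hx1
    · exact hfr.symm
  -- some `x₀ ∈ Lg y` has `x₀.2 ≠ 0`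
  have hex : ∃ x₀ ∈ Lg y, x₀.2 ≠ 0 := by
    by_contra hcon
    push Not at hcon
    apply hy.hne
    apply Submodule.eq_of_le_of_finrank_eq
    · intro x hx
      exact mem_G0.mpr (hcon x hx)
    · exact hfr
  -- the kernel of `κ ↦ s_κ`
  set Ψ := sformHom h P with hΨ
  have hΨa : ∀ (κ : ↥(Kminus τ)) (p p' : ↥P), Ψ κ p p' = trT h ((κ : K) * (p : K)) (p' : K) :=
    fun κ p p' => rfl
  have hker : ∀ κ : ↥(Kminus τ), κ ∈ Ψ.ker ↔
      ∀ x ∈ Lg y, (((κ : K) * x.2, 0) : K × K) ∈ Lg y := by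
    intro κ
    rw [AddMonoidHom.mem_ker]
    constructor
    · intro h0 x hx
      rw [cfg_perp' h hσ hM hyM]
      intro x' hx'
      have := LinearMap.congr_fun (LinearMap.congr_fun h0 ⟨x.2, (memP _).2 ⟨x, hx, rfl⟩⟩)
        ⟨x'.2, (memP _).2 ⟨x', hx', rfl⟩⟩
      rw [hΨa] at this
      exact this
    · intro hall
      ext p p'
      obtain ⟨x, hx, hxp⟩ := (memP _).1 p.2
      obtain ⟨x', hx', hxp'⟩ := (memP _).1 p'.2
      have := (cfg_perp' h hσ hM hyM _).1 (hall x hx) x' hx'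
      rw [hΨa, ← hxp, ← hxp', this]
      rfl
  -- HSING: the image is small
  set R : AddSubgroup (↥P →ₗ[F] ↥P →ₛₗ[σ] F) :=
    AddMonoidHom.range (G := ↥(Kminus τ)) (N := ↥P →ₗ[F] ↥P →ₛₗ[σ] F) Ψ with hR
  have hA : Nat.card ↥R ^ 2 ≤ Nat.card F ^ finrank F ↥P := by
    by_contra hlt
    push Not at hlt
    have hsk : ∀ s ∈ R, ∀ x y, s y x = -σ (s x y) := by
      rintro s ⟨κ, rfl⟩ p p'
      rw [hΨa, hΨa, trT_isHerm h ((p : K)) ((κ : K) * (p' : K)), trT_skew h κ.2, map_neg]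
    have hsm : ∀ s ∈ R, ∀ c : F, σ c = c → c • s ∈ R := by
      rintro s ⟨κ, rfl⟩ c hc
      refine ⟨⟨c • (κ : K), ?_⟩, ?_⟩
      · rw [mem_Kminus, h.map_smul, hc, κ.2, smul_neg]
      · ext p p'
        rw [hΨa]
        simp only [LinearMap.smul_apply, smul_mul_assoc, map_smul]
        rw [hΨa]
    obtain ⟨s, hs, hs0, p, hp0, hdeg⟩ := hsing hσ R hsk hsm hlt
    obtain ⟨κ, rfl⟩ := AddMonoidHom.mem_range.mp hs
    have hκ : τ (κ : K) = -(κ : K) := κ.2
    rcases cfg_dich h hM hy (κ : K) hκ with h1 | h2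
    · exact hs0 (AddMonoidHom.mem_ker.mp ((hker κ).2 h1))
    · obtain ⟨x, hx, hxp⟩ := (memP _).1 p.2
      have hmem : (((κ : K) * x.2, 0) : K × K) ∈ Lg y := by
        rw [cfg_perp' h hσ hM hyM]
        intro x' hx'
        have := hdeg ⟨x'.2, (memP _).2 ⟨x', hx', rfl⟩⟩
        rw [hΨa, ← hxp] at this
        exact this
      have := h2 x hx hmem
      apply hp0
      apply Subtype.ext
      rw [← hxp, this]
      rfl
  -- counting
  have c1 : Nat.card ↥(Kminus τ) ^ 2 = Nat.card K := by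
    rw [← card_skewK h hσ]
    rfl
  have c2 : Nat.card ↥Ψ.ker * Nat.card ↥R = Nat.card ↥(Kminus τ) := by
    rw [hR, ← AddSubgroup.index_ker]
    exact AddSubgroup.card_mul_index _
  have c3 : Nat.card ↥(Lg y) = Nat.card K := card_Lg y
  have c4 : Nat.card ↥(Lg y) = Nat.card ↥(DI y) * Nat.card ↥P := card_Lg_split y
  have c5 : Nat.card ↥P = Nat.card F ^ finrank F ↥P := natCard_eq_pow_finrank
  have key : Nat.card ↥(DI y) ≤ Nat.card ↥Ψ.ker ^ 2 := by
    have hPpos : 0 < Nat.card ↥P := Nat.card_pos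
    have : Nat.card ↥(DI y) * Nat.card ↥P ≤ Nat.card ↥Ψ.ker ^ 2 * Nat.card ↥P := by
      rw [← c4, c3, ← c1, ← c2, mul_pow, c5]
      exact Nat.mul_le_mul_left _ hA
    exact Nat.le_of_mul_le_mul_right this hPpos
  -- the bijection `X⁰ × X⁰ → D₀`
  obtain ⟨θ, hθ⟩ := hσ.ne_id
  have kmem : ∀ (κ : ↥Ψ.ker) (p : K), p ∈ P → (κ.1 : K) * p ∈ DI y := by
    intro κ p hp
    obtain ⟨x, hx, hxp⟩ := (memP _).1 hp
    rw [mem_DI, ← hxp]
    exact (hker κ.1).1 κ.2 x hx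
  have surj : ∀ p ∈ P, p ≠ 0 → ∀ c ∈ DI y, ∃ κ₁ κ₂ : ↥Ψ.ker,
      c = p * ((κ₁.1 : K) + θ • (κ₂.1 : K)) := by
    intro p hpP hp0
    have gmem : ∀ k : ↥Ψ.ker × ↥Ψ.ker, p * ((k.1.1 : K) + θ • (k.2.1 : K)) ∈ DI y := by
      intro k
      have e : p * ((k.1.1 : K) + θ • (k.2.1 : K)) = (k.1.1 : K) * p + θ • ((k.2.1 : K) * p) := by
        rw [mul_add, mul_smul_comm, mul_comm p, mul_comm p]
      rw [e]
      exact (DI y).add_mem (kmem k.1 p hpP) ((DI y).smul_mem θ (kmem k.2 p hpP))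
    let g : ↥Ψ.ker × ↥Ψ.ker → ↥(DI y) := fun k => ⟨p * ((k.1.1 : K) + θ • (k.2.1 : K)), gmem k⟩
    have ginj : Function.Injective g := by
      intro k k' hkk
      have h1 : p * ((k.1.1 : K) + θ • (k.2.1 : K)) = p * ((k'.1.1 : K) + θ • (k'.2.1 : K)) :=
        congrArg Subtype.val hkk
      have h2 := mul_left_cancel₀ hp0 h1
      have ha : τ ((k.1.1 : K) - (k'.1.1 : K)) = -((k.1.1 : K) - (k'.1.1 : K)) := by
        rw [map_sub, k.1.1.2, k'.1.1.2]; ring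
      have hb : τ ((k'.2.1 : K) - (k.2.1 : K)) = -((k'.2.1 : K) - (k.2.1 : K)) := by
        rw [map_sub, k.2.1.2, k'.2.1.2]; ring
      have hab : (k.1.1 : K) - (k'.1.1 : K) = θ • ((k'.2.1 : K) - (k.2.1 : K)) := by
        rw [smul_sub]
        linear_combination h2
      have hab' : (k.1.1 : K) - (k'.1.1 : K) = σ θ • ((k'.2.1 : K) - (k.2.1 : K)) := by
        have := congrArg τ hab
        rw [h.map_smul, ha, hb, smul_neg, neg_inj] at this
        exact this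
      have hb0 : (k'.2.1 : K) - (k.2.1 : K) = 0 := by
        have : (θ - σ θ) • ((k'.2.1 : K) - (k.2.1 : K)) = 0 := by
          rw [sub_smul, ← hab, ← hab', sub_self]
        rcases smul_eq_zero.mp this with h0 | h0
        · exact absurd (sub_eq_zero.mp h0).symm hθ
        · exact h0
      have ha0 : (k.1.1 : K) - (k'.1.1 : K) = 0 := by rw [hab, hb0, smul_zero]
      apply Prod.ext
      · exact Subtype.ext (Subtype.ext (sub_eq_zero.mp ha0))
      · exact Subtype.ext (Subtype.ext (sub_eq_zero.mp hb0).symm)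
    have hbij := ginj.bijective_of_nat_card_le (by rw [Nat.card_prod, ← sq]; exact key)
    intro c hc
    obtain ⟨k, hk⟩ := hbij.2 ⟨c, hc⟩
    exact ⟨k.1, k.2, (congrArg Subtype.val hk).symm⟩
  -- `P` is a line
  have line : ∀ p₁ ∈ P, ∀ p₂ ∈ P, p₂ ≠ 0 → ∃ a : F, p₁ = a • p₂ := by
    intro p₁ hp₁ p₂ hp₂ hp₂0
    have hmul : ∀ c ∈ DI y, p₁ * p₂⁻¹ * c ∈ DI y := by
      intro c hc
      obtain ⟨κ₁, κ₂, rfl⟩ := surj p₂ hp₂ hp₂0 c hc
      have e : p₁ * p₂⁻¹ * (p₂ * ((κ₁.1 : K) + θ • (κ₂.1 : K)))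
          = (κ₁.1 : K) * p₁ + θ • ((κ₂.1 : K) * p₁) := by
        rw [mul_add, mul_smul_comm, mul_add, mul_smul_comm]
        have : ∀ z : K, p₁ * p₂⁻¹ * (p₂ * z) = z * p₁ := by
          intro z
          field_simp
        rw [this, this]
      rw [e]
      exact (DI y).add_mem (kmem κ₁ p₁ hp₁) ((DI y).smul_mem θ (kmem κ₂ p₁ hp₁))
    obtain ⟨a, ha⟩ := mult_mem_F hr (DI y) hD0 hD1 (p₁ * p₂⁻¹) hmul
    refine ⟨a, ?_⟩
    rw [Algebra.smul_def, ← ha]
    field_simp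
  -- the output
  obtain ⟨x₀, hx₀, hx₀2⟩ := hex
  obtain ⟨j', -, hj'⟩ := trT_nondeg h x₀.2 trivial hx₀2
  refine ⟨x₀.2, x₀.1, σ ((trT h x₀.2 j')⁻¹) • j', ?_⟩
  refine ⟨hyM, hx₀, ?_, ?_, ?_⟩
  · intro x hx
    exact line x.2 ((memP _).2 ⟨x, hx, rfl⟩) x₀.2 ((memP _).2 ⟨x₀, hx₀, rfl⟩) hx₀2
  · intro c
    rw [cfg_perp' h hσ hM hyM]
    constructor
    · intro hall
      exact hall x₀ hx₀
    · intro hc x hx
      obtain ⟨a, ha⟩ := line x.2 ((memP _).2 ⟨x, hx, rfl⟩) x₀.2 ((memP _).2 ⟨x₀, hx₀, rfl⟩) hx₀2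
      rw [ha, map_smulₛₗ, hc, smul_zero]
  · rw [map_smulₛₗ, hσ.invol, smul_eq_mul, inv_mul_cancel₀ hj']

end Cfsg.Agent.Lib.Helper97_UX_CFGC
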