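import Mathlib
import Cfsg.Agent.Lib.Helper97_UExtDefs
import Cfsg.Agent.Lib.Helper94_UDDefs
import Cfsg.Agent.Lib.Helper98_ExtMult
import Cfsg.Agent.Lib.Helper10_UX_THERM
import Cfsg.Agent.Lib.Helper39_UX_MAX
import Cfsg.Agent.Lib.Helper25_UX_SQ
import Cfsg.Agent.Lib.Helper25_UX_CLAIM1
import Cfsg.Agent.Lib.Helper8_UX_ISO
import Cfsg.Agent.Lib.Helper97_UX_CFGC
import Cfsg.Agent.Lib.Helper78_UX_ANISO
import Cfsg.Agent.Lib.Helper78_UX_FAM2
import Cfsg.Agent.Lib.Helper30_UX_Q2NCore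
import Cfsg.Agent.Lib.Helper54_UX_Q2BCore
import Cfsg.Agent.Lib.Helper55_UX_Q2PHI
import Cfsg.Agent.Lib.Helper90_UX_Q3
import Cfsg.Agent.Lib.Helper92_UX_SKISO
import Cfsg.Agent.Lib.Helper20_UX_MEET

set_option autoImplicit false
set_option linter.unusedSectionVars false
set_option linter.unusedVariables false

/-!
# UEXT2: the main abstract theorem (assembly of the packages; architect helper97)

`F` a finite field with involution `σ`, `K ⊇ F` a finite field of odd prime degree `r` with an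
involution `τ` extending `σ`; `V = K × K` with the hermitian form `uf (trT h)`.  If a subgroup `M`
of the isometry group contains the root elements `ux κ`, `lx κ` (`τ κ = -κ`) and the torus elements
`hEK τ l` (`N_{K/F} l` fixed by `σ`), and some torus element lies outside `F · K₀` (`Arith`),
then either every element of `M` is `K`-semilinear or `M` contains the special unitary group.
-/

namespace Cfsg.Agent.Lib.Helper97_UExtMain

open Module
open Cfsg.Agent.Lib.Helper94_Symp Cfsg.Agent.Lib.Helper94_Herm Cfsg.Agent.Lib.Helper13_PSUSimple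
  Cfsg.Agent.Lib.Helper67_Tens2Defs Cfsg.Agent.Lib.Helper67_UT2Defs Cfsg.Agent.Lib.Helper98_ExtDefs
  Cfsg.Agent.Lib.Helper94_FrmDefs Cfsg.Agent.Lib.Helper94_UDDefs Cfsg.Agent.Lib.Helper97_UExtDefs

variable {F K : Type*} [Field F] [Field K] [Algebra F K] [Finite F] [Finite K]
  {σ : F →+* F} {τ : K →+* K}

variable {M : Subgroup ((K × K) ≃ₗ[F] (K × K))}


open Cfsg.Agent.Lib.Helper10_UX_THERM Cfsg.Agent.Lib.Helper39_UX_MAX Cfsg.Agent.Lib.Helper25_UX_SQ
  Cfsg.Agent.Lib.Helper25_UX_CLAIM1 Cfsg.Agent.Lib.Helper8_UX_ISO Cfsg.Agent.Lib.Helper97_UX_CFGC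
  Cfsg.Agent.Lib.Helper78_UX_ANISO Cfsg.Agent.Lib.Helper78_UX_FAM2 Cfsg.Agent.Lib.Helper30_UX_Q2NCore
  Cfsg.Agent.Lib.Helper54_UX_Q2BCore Cfsg.Agent.Lib.Helper55_UX_Q2PHI Cfsg.Agent.Lib.Helper90_UX_Q3
  Cfsg.Agent.Lib.Helper92_UX_SKISO Cfsg.Agent.Lib.Helper20_UX_MEET

theorem main_abstract (h : TauExt σ τ) (hσ : Invol σ) (hr : (finrank F K).Prime)
    (hr2 : finrank F K ≠ 2) (hA : Arith σ τ) (M : Subgroup ((K × K) ≃ₗ[F] (K × K)))
    (hM : HypX h M) :
    (∀ g ∈ M, IsSemilin F K (K × K) g) ∨ SUg (uf (trT h)) ≤ M := by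
  by_cases hinv : ∀ g ∈ M, IsKinv (Lg g)
  · exact Or.inl (semilin_of_kinv h hσ hM hinv)
  · right
    push Not at hinv
    obtain ⟨g, hg, hnk⟩ := hinv
    obtain ⟨g', hg', hne, hmeet⟩ := exists_meet h hσ hM g hg hnk
    obtain ⟨y, hy⟩ := exists_maxCfg M ⟨g', hg', g, hg, hne, hmeet⟩
    obtain ⟨p₀, a₀, j, hc⟩ := exists_cfg h hσ hr hM hy
    have htv : HasTvX h M := by
      by_cases hq : ∃ a : F, σ a = a ∧ a ≠ 0 ∧ a ≠ 1
      · exact q3_hasTv h hσ hM hc hq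
      · have hq' : ∀ a : F, σ a = a → a = 0 ∨ a = 1 := by
          intro a ha
          by_contra hcon
          push Not at hcon
          exact hq ⟨a, ha, hcon.1, hcon.2⟩
        by_cases hbad : ∀ κ : K, τ κ = -κ → tX h p₀ κ = 0 →
            ∃ κ' : K, τ κ' = -κ' ∧ sX h y j κ' = 0 ∧ eX p₀ κ = zX y j κ'
        · exact q2_bad_core h hσ hr hr2 hM hc hq' hbad
            (fun κ κ' hκ hκ' hs => fam2 h hσ hM hc κ κ' hκ hκ' hs)
            (fun κ₁ κ₁' κ₂ κ₂' h1 h1' h2 h2' ht1 hs1 ht2 hs2 =>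
              q2_phi h hσ hM hc hq' κ₁ κ₁' κ₂ κ₂' h1 h1' h2 h2' ht1 hs1 ht2 hs2)
        · push Not at hbad
          obtain ⟨κ, hκ, htκ, hκne⟩ := hbad
          exact q2_nonbad_of_phi h hσ hM hc hq'
            (fun κ₁ κ₁' κ₂ κ₂' h1 h1' h2 h2' ht1 hs1 ht2 hs2 =>
              q2_phi h hσ hM hc hq' κ₁ κ₁' κ₂ κ₂' h1 h1' h2 h2' ht1 hs1 ht2 hs2)
            ⟨κ, hκ, htκ, hκne⟩
    obtain ⟨ε, c, hε, hc0, hcs, hmem⟩ := htv
    have hU := uu_of_tv h hσ hM ε c hε hc0 hcs hmem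
    obtain ⟨xs, hxs, hνs⟩ := exists_aniso_UU h hσ hM hA ε hε hU
    have han : ∀ v : K × K, uf (trT h) v v = 0 → nu τ v ≠ 0 → v ∈ UU (uf (trT h)) M :=
      fun v hv hν => aniso_UU h hσ hM xs hxs hνs ε hε hU v hv hν
    have h3 : 3 ≤ finrank F K := by
      have := hr.two_le
      omega
    have hall : ∀ v : K × K, uf (trT h) v v = 0 → v ∈ UU (uf (trT h)) M := by
      intro v hv
      by_cases hν : nu τ v = 0
      · exact iso_UU h hσ h3 hM han v hν
      · exact han v hv hν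
    have h4 : 4 ≤ finrank F (K × K) := by
      rw [Module.finrank_prod]
      omega
    exact SUg_le_of_UU hσ (uf_isHerm (trT_isHerm h)) (uf_nondeg (trT_nondeg h)) h4 hall

end Cfsg.Agent.Lib.Helper97_UExtMain
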