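import Mathlib
import Cfsg.Prelude.Def_GeometricClasses
import Cfsg.Prelude.Def_LieClassical
import Cfsg.Agent.Lib.Helper97_UExtMain
import Cfsg.Agent.Lib.Helper29_UX_Final

set_option autoImplicit false
set_option linter.unusedSectionVars false
set_option linter.unusedVariables false

/-!
# UEXT2: the normaliser of a field subalgebra of degree `r = n / 2` (`r` an odd prime) of `M_n(F)`,
closed under adjoints for the standard unitary form, is maximal in `SU_n(q)` as soon as
`q ^ 2 + 2 * q < q ^ r` (helper29's bridge + helper97's abstract theorem `main_abstract`).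
-/

open Module Matrix Cfsg.Geo

namespace Cfsg.Agent.Lib.Helper29_UX_Max

universe u

/-- the requested statement -/
theorem uext2_maximal {F : Type u} [Field F] [Fintype F] (q : ℕ)
    (hF : Fintype.card F = q ^ 2) (n r : ℕ) (hn : n = 2 * r) (hr : r.Prime) (hr2 : r ≠ 2)
    (hq : q ^ 2 + 2 * q < q ^ r)
    (K : Subalgebra F (Matrix (Fin n) (Fin n) F)) (hK : Cfsg.Geo.IsFieldSubalgebra r K)
    (hadj : Cfsg.Geo.IsAdjointClosedFor (Cfsg.hermForm n F q) K) :
    Cfsg.Geo.IsMaximalIn (Cfsg.GU n F q ⊓ Cfsg.Geo.specialLinear (Fin n) F)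
      (Cfsg.Geo.subalgebraNormalizer K ⊓
        (Cfsg.GU n F q ⊓ Cfsg.Geo.specialLinear (Fin n) F)) := by
  refine Cfsg.Agent.Lib.Helper29_UX_Final.uext2_maximal_of q hF n r hn hr hr2 hq ?_ K hK hadj
  intro σ hσq hσ L _ _ _ τ h hp hp2 hA M hM
  exact Cfsg.Agent.Lib.Helper97_UExtMain.main_abstract h hσ hp hp2 hA M hM

/-- conjunct (7) of `S5840` (`SU_10(q)`, degree 5, every `q`) -/
theorem su10_ext5 {F : Type u} [Field F] [Fintype F] (q : ℕ) (hF : Fintype.card F = q ^ 2) :
    ∀ K : Subalgebra F (Matrix (Fin 10) (Fin 10) F), Cfsg.Geo.IsFieldSubalgebra 5 K →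
      Cfsg.Geo.IsAdjointClosedFor (Cfsg.hermForm 10 F q) K →
      Cfsg.Geo.IsMaximalIn (Cfsg.GU 10 F q ⊓ Cfsg.Geo.specialLinear (Fin 10) F)
        (Cfsg.Geo.subalgebraNormalizer K ⊓
          (Cfsg.GU 10 F q ⊓ Cfsg.Geo.specialLinear (Fin 10) F)) := by
  intro K hK hadj
  have hq2 : 2 ≤ q := by
    have h1 : 1 < Fintype.card F := Fintype.one_lt_card
    rw [hF] at h1
    by_contra hcon
    have : q = 0 ∨ q = 1 := by omega
    rcases this with rfl | rfl <;> simp at h1
  refine uext2_maximal q hF 10 5 rfl (by norm_num) (by norm_num) ?_ K hK hadj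
  have h1 : 2 * q ^ 2 ≤ q ^ 3 := by
    rw [pow_succ q 2, mul_comm]
    exact Nat.mul_le_mul_left _ hq2
  have h2 : 4 * q ^ 3 ≤ q ^ 5 := by
    have : q ^ 5 = q ^ 2 * q ^ 3 := by ring
    rw [this]
    exact Nat.mul_le_mul_right _ (by nlinarith)
  have h3 : 0 < q ^ 2 := by positivity
  nlinarith

end Cfsg.Agent.Lib.Helper29_UX_Max
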