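import Mathlib
import Cfsg.Prelude.Def_GeometricClasses
import Cfsg.Prelude.Def_LieClassical
import Cfsg.Agent.Lib.Helper97_UExtDefs
import Cfsg.Agent.Lib.Helper94_HermBridge
import Cfsg.Agent.Lib.Helper44_UT2_BR_TR
import Cfsg.Agent.Lib.Helper29_SpExtBridge
import Cfsg.Agent.Lib.Helper29_SpExtAll
import Cfsg.Agent.Lib.Helper29_UX_BrTau
import Cfsg.Agent.Lib.Helper29_UX_BrTrace
import Cfsg.Agent.Lib.Helper29_UX_BrSemi
import Cfsg.Agent.Lib.Helper29_UXm_Semi

set_option autoImplicit false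
set_option linter.unusedSectionVars false
set_option linter.unusedVariables false

/-!
# Generic unitary extension-field bridge (helper29)

`K` a field subalgebra of degree `r ≥ 2` of `M_n(F)`, `|F| = q²`, closed under adjoints for the
standard unitary form; `3 ≤ n`.  From ANY abstract dichotomy
"a subgroup `M` of `SUg b` containing all `L`-semilinear elements of `SUg b` consists of
`L`-semilinear maps or is `SUg b`" (for an abstract `L`-space `V` carrying a nondegenerate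
`τ`-hermitian `L`-form `B` with `Tr_{L/F} ∘ B = b`) we get
`IsMaximalIn (GU ⊓ SL) (subalgebraNormalizer K ⊓ (GU ⊓ SL))`.
The abstract statement is applied to `V = F^n` itself with `L = ↥K`: no model is imposed.
-/

open Module Matrix Cfsg.Geo
open Cfsg.Agent.Lib.Helper94_Symp Cfsg.Agent.Lib.Helper94_Herm Cfsg.Agent.Lib.Helper13_PSUSimple
  Cfsg.Agent.Lib.Helper94_Bridge Cfsg.Agent.Lib.Helper94_HermBridge
  Cfsg.Agent.Lib.Helper67_Tens2Defs Cfsg.Agent.Lib.Helper67_UT2Defs Cfsg.Agent.Lib.Helper98_ExtDefs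
  Cfsg.Agent.Lib.Helper97_UExtDefs

namespace Cfsg.Agent.Lib.Helper29_UXm_Bridge

universe u

/-- the generic unitary extension-field bridge -/
theorem bridge_gen {F : Type u} [Field F] [Fintype F] (n q r : ℕ) (hF : Fintype.card F = q ^ 2)
    (hn : 3 ≤ n) (hr : 2 ≤ r)
    (K : Subalgebra F (Matrix (Fin n) (Fin n) F)) (hK : Cfsg.Geo.IsFieldSubalgebra r K)
    (hac : Cfsg.Geo.IsAdjointClosedFor (Cfsg.hermForm n F q) K)
    (hmain : ∀ (σ : F →+* F), (∀ x, σ x = x ^ q) → Invol σ →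
      ∀ (L : Type u) [Field L] [Algebra F L] [Finite L] (V : Type u) [AddCommGroup V]
        [Module F V] [Module L V] [IsScalarTower F L V] [Module.Finite F V]
        (τ : L →+* L) (h : TauExt σ τ) (B : V →ₗ[L] V →ₛₗ[τ] L) (b : V →ₗ[F] V →ₛₗ[σ] F),
        IsHerm B → NondegOn B ⊤ → IsHerm b → NondegOn b ⊤ →
        (∀ u v, Algebra.trace F L (B u v) = b u v) →
        finrank F L = r → finrank F V = n →
        ∀ M : Subgroup (V ≃ₗ[F] V), M ≤ SUg b → (∀ g ∈ SUg b, IsSemilin F L V g → g ∈ M) →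
          (∀ g ∈ M, IsSemilin F L V g) ∨ SUg b ≤ M) :
    Cfsg.Geo.IsMaximalIn (Cfsg.GU n F q ⊓ Cfsg.Geo.specialLinear (Fin n) F)
      (Cfsg.Geo.subalgebraNormalizer K ⊓
        (Cfsg.GU n F q ⊓ Cfsg.Geo.specialLinear (Fin n) F)) := by
  classical
  obtain ⟨σ, hσq, hσ⟩ := exists_frob hF
  haveI : Nonempty (Fin n) := ⟨⟨0, by omega⟩⟩
  letI : Field ↥K := (Cfsg.Agent.Lib.Helper29_SpExtAll.isField_of' hK).toField
  have hfr : finrank F ↥K = r := hK.finrank_eq
  haveI : Finite ↥K := Finite.of_injective (fun x : ↥K => x.1) Subtype.val_injective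
  haveI : Nontrivial (Fin n → F) := Function.nontrivial
  set b₀ : (Fin n → F) →ₗ[F] (Fin n → F) →ₛₗ[σ] F := hermB n σ hσq with hb₀def
  have hb₀ : IsHerm b₀ := hermB_isHerm σ hσq hσ
  have hN₀ : NondegOn b₀ ⊤ := hermB_nondeg σ hσq
  have hac' : ∀ k : ↥K, ∃ k' : ↥K, ∀ u v : Fin n → F, b₀ (k • u) v = b₀ u (k' • v) := by
    intro k
    obtain ⟨k', hk', h⟩ := hac k.1 k.2
    exact ⟨⟨k', hk'⟩, fun u v => h u v⟩
  obtain ⟨τ, hτ, hadj⟩ := Cfsg.Agent.Lib.Helper29_UX_BrTau.exists_tau hσ b₀ hb₀ hN₀ hac'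
  set B : (Fin n → F) →ₗ[↥K] (Fin n → F) →ₛₗ[τ] ↥K :=
    Cfsg.Agent.Lib.Helper29_UX_BrTrace.trH hτ b₀ hadj with hBdef
  have hB : IsHerm B := Cfsg.Agent.Lib.Helper29_UX_BrTrace.trH_isHerm hτ b₀ hb₀ hadj
  have hBN : NondegOn B ⊤ := Cfsg.Agent.Lib.Helper29_UX_BrTrace.trH_nondeg hτ b₀ hN₀ hadj
  have htr : ∀ u v : Fin n → F, Algebra.trace F ↥K (B u v) = b₀ u v :=
    Cfsg.Agent.Lib.Helper29_UX_BrTrace.trace_trH hτ b₀ hadj
  have hdimV : finrank F (Fin n → F) = n := by
    rw [Module.finrank_fintype_fun_eq_card, Fintype.card_fin]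
  set Φ' : GL (Fin n) F ≃* ((Fin n → F) ≃ₗ[F] (Fin n → F)) := glEquiv (Fin n) F with hΦ'
  -- membership in `SU`
  have hSU : ∀ g : GL (Fin n) F,
      g ∈ Cfsg.GU n F q ⊓ Cfsg.Geo.specialLinear (Fin n) F ↔ Φ' g ∈ SUg b₀ := by
    intro g
    rw [Cfsg.Agent.Lib.Helper44_UT2_BR_TR.SU_eq σ hσq, Subgroup.mem_comap]
    rfl
  -- membership in the normaliser
  have hKL : ∀ k : Matrix (Fin n) (Fin n) F,
      k ∈ K ↔ ∃ x : ↥K, ∀ v : Fin n → F, k *ᵥ v = x • v := by
    intro k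
    constructor
    · intro hk
      exact ⟨⟨k, hk⟩, fun v => rfl⟩
    · rintro ⟨x, hx⟩
      have : k = x.1 := by
        rw [Matrix.ext_iff_mulVec]
        intro v
        rw [hx v]
        rfl
      rw [this]
      exact x.2
  have hsemi : ∀ g : GL (Fin n) F,
      g ∈ Cfsg.Geo.subalgebraNormalizer K ↔ IsSemilin F ↥K (Fin n → F) (Φ' g) := by
    intro g
    constructor
    · intro hg
      obtain ⟨ρ, hρ⟩ := Cfsg.Agent.Lib.Helper29_UX_BrSemi.isSemilin_of_mem_normalizer K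
        (fun a b => rfl) (fun a b => rfl) g hg
      refine ⟨ρ, fun k v => ?_⟩
      rw [hΦ', glEquiv_apply, glEquiv_apply]
      exact hρ k v
    · intro hg
      exact Cfsg.Agent.Lib.Helper29_SpExtBridge.mem_normalizer_of_isSemilin K hKL g hg
  refine ⟨?_, ?_⟩
  · -- properness
    refine lt_of_le_of_ne inf_le_right ?_
    intro heq
    obtain ⟨ζ, hζ0, hζ⟩ := exists_skew hσ
    -- an isotropic vector
    obtain ⟨v, hv0, hviso⟩ : ∃ v : Fin n → F, v ≠ 0 ∧ b₀ v v = 0 := by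
      set x : Fin n → F := Pi.single ⟨0, by omega⟩ 1 with hx
      set y : Fin n → F := Pi.single ⟨1, by omega⟩ 1 with hy
      have hx0 : x ≠ 0 := by
        intro h0
        have := congrFun h0 ⟨0, by omega⟩
        simp [hx] at this
      have hyx : y ∉ Submodule.span F {x} := by
        intro hmem
        obtain ⟨a, ha⟩ := Submodule.mem_span_singleton.mp hmem
        have := congrFun ha ⟨1, by omega⟩
        simp [hx, hy, Fin.ext_iff] at this
      obtain ⟨a, c, hne, hiso⟩ := exists_iso hσ hb₀ hx0 hyx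
      exact ⟨_, hne, hiso⟩
    set t : (Fin n → F) ≃ₗ[F] (Fin n → F) := utv b₀ v ζ with ht
    have htS : t ∈ SUg b₀ := Cfsg.Agent.Lib.Helper14_PSULocal1.utv_mem_SUg hb₀ _ hζ
    have htK : ¬ IsSemilin F ↥K (Fin n → F) t := by
      refine Cfsg.Agent.Lib.Helper29_UXm_Semi.not_isSemilin_of_rank_one (by rw [hfr]; exact hr)
        (by rw [hdimV]; exact hn) t (ζ • (b₀.flip v)) v hv0 ?_ ?_
      · intro h0
        obtain ⟨w, -, hw⟩ := hN₀ v trivial hv0
        have h1 := LinearMap.congr_fun h0 w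
        simp only [LinearMap.smul_apply, LinearMap.flip_apply, LinearMap.zero_apply,
          smul_eq_mul] at h1
        rcases mul_eq_zero.mp h1 with h2 | h2
        · exact hζ0 h2
        · have h3 := hb₀ v w
          rw [h2] at h3
          exact hw (σ.injective (by rw [map_zero]; exact h3.symm))
      · intro x
        rw [ht, utv_apply b₀ hviso]
        simp only [LinearMap.smul_apply, LinearMap.flip_apply, smul_eq_mul]
    have h1 : Φ'.symm t ∈ Cfsg.GU n F q ⊓ Cfsg.Geo.specialLinear (Fin n) F := by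
      rw [hSU, MulEquiv.apply_symm_apply]; exact htS
    rw [← heq] at h1
    have h2 := (hsemi _).mp h1.1
    rw [MulEquiv.apply_symm_apply] at h2
    exact htK h2
  · intro M hHM hMK
    set M' : Subgroup ((Fin n → F) ≃ₗ[F] (Fin n → F)) := M.map Φ'.toMonoidHom with hM'
    have hM'le : M' ≤ SUg b₀ := by
      rintro x ⟨g, hg, rfl⟩
      exact (hSU g).mp (hMK hg)
    have hmem : ∀ x ∈ SUg b₀, IsSemilin F ↥K (Fin n → F) x → x ∈ M' := by
      intro x hxS hxK
      refine ⟨Φ'.symm x, hHM ⟨(hsemi _).mpr ?_, (hSU _).mpr ?_⟩, ?_⟩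
      · rwa [MulEquiv.apply_symm_apply]
      · rwa [MulEquiv.apply_symm_apply]
      · exact MulEquiv.apply_symm_apply Φ' x
    rcases hmain σ hσq hσ ↥K (Fin n → F) τ hτ B b₀ hB hBN hb₀ hN₀ htr hfr hdimV M' hM'le hmem
      with hall | htop
    · left
      apply le_antisymm _ hHM
      intro g hg
      exact ⟨(hsemi g).mpr (hall _ ⟨g, hg, rfl⟩), hMK hg⟩
    · right
      apply le_antisymm hMK
      intro g hg
      have h1 : Φ' g ∈ M' := htop ((hSU g).mp hg)
      obtain ⟨g', hg', hgg'⟩ := h1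
      have : g' = g := Φ'.injective hgg'
      rwa [← this]

end Cfsg.Agent.Lib.Helper29_UXm_Bridge
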