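import Mathlib
import Cfsg.Prelude.Def_GeometricClasses
import Cfsg.Prelude.Def_LieClassical
import Cfsg.Agent.Lib.Helper54_UXmDefs
import Cfsg.Agent.Lib.Helper54_UXm_Basic
import Cfsg.Agent.Lib.Helper29_UX_Bridge
import Cfsg.Agent.Lib.Helper29_UXm_Bridge

set_option autoImplicit false
set_option linter.unusedSectionVars false
set_option linter.unusedVariables false

/-!
# UEXTm, package BRIDGE (helper29): from the abstract dichotomy for `HypU h B M` to the maximality of
`N(K) ∩ SU_n(q)` in `SU_n(q)`, `K` an adjoint-closed field subalgebra of degree `r`, `3 r ≤ n`.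
Corollary of `Helper29_UXm_Bridge.bridge_gen`.
-/

open Module
open Cfsg.Agent.Lib.Helper94_Symp Cfsg.Agent.Lib.Helper94_Herm Cfsg.Agent.Lib.Helper13_PSUSimple
  Cfsg.Agent.Lib.Helper94_HermEich Cfsg.Agent.Lib.Helper98_ExtDefs Cfsg.Agent.Lib.Helper97_UExtDefs
  Cfsg.Agent.Lib.Helper29_SpExtDefs Cfsg.Agent.Lib.Helper94_FrmDefs Cfsg.Agent.Lib.Helper94_UDDefs
  Cfsg.Agent.Lib.Helper54_UXmDefs
open Matrix Cfsg.Geo

namespace Cfsg.Agent.Lib.Helper29_UXm_BRIDGE

universe u

/-- **BRIDGE** (L).  Generalise `Helper29_UX_Bridge.bridge` (no coordinates: `V := Fin n → F`). -/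
theorem bridgeM {F : Type u} [Field F] [Fintype F] (n q r : ℕ) (hF : Fintype.card F = q ^ 2)
    (hr : 2 ≤ r) (hn : 3 * r ≤ n)
    (K : Subalgebra F (Matrix (Fin n) (Fin n) F)) (hK : Cfsg.Geo.IsFieldSubalgebra r K)
    (hac : Cfsg.Geo.IsAdjointClosedFor (Cfsg.hermForm n F q) K)
    (hmain : ∀ (σ : F →+* F), (∀ x, σ x = x ^ q) → Invol σ →
      ∀ (L : Type u) [Field L] [Algebra F L] [Finite L] (V : Type u) [AddCommGroup V] [Module F V]
        [Module L V] [IsScalarTower F L V] [Module.Finite L V] (τ : L →+* L) (h : TauExt σ τ)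
        (B : V →ₗ[L] V →ₛₗ[τ] L), IsHerm B → NondegOn B ⊤ → finrank F L = r → 3 ≤ finrank L V →
        ∀ M : Subgroup (V ≃ₗ[F] V), HypU h B M →
          (∀ g ∈ M, IsSemilin F L V g) ∨ SUg (trF h B) ≤ M) :
    Cfsg.Geo.IsMaximalIn (Cfsg.GU n F q ⊓ Cfsg.Geo.specialLinear (Fin n) F)
      (Cfsg.Geo.subalgebraNormalizer K ⊓
        (Cfsg.GU n F q ⊓ Cfsg.Geo.specialLinear (Fin n) F)) := by
  refine Cfsg.Agent.Lib.Helper29_UXm_Bridge.bridge_gen n q r hF (by omega) hr K hK hac ?_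
  intro σ hσq hσ L _ _ _ V _ _ _ _ _ τ h B b hB hBN hb hbN htr hfr hdim M hM hsemi
  have hbeq : b = trF h B := by
    ext u v
    rw [trF_apply, htr]
  subst hbeq
  haveI : Module.Finite F L := Module.Finite.of_finite
  haveI : Module.Finite L V := Module.Finite.right F L V
  have hmul := Module.finrank_mul_finrank F L V
  have h3 : 3 ≤ finrank L V := by
    rw [hfr, hdim] at hmul
    by_contra hcon
    push Not at hcon
    have : r * finrank L V ≤ r * 2 := Nat.mul_le_mul_left _ (by omega)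
    omega
  refine hmain σ hσq hσ L V τ h B hB hBN hfr h3 M ⟨?_, ?_⟩
  · intro g hg
    exact (mem_SUg.mp (hM hg)).1
  · intro g hg
    have hg' := mem_SUg.mp hg
    refine hsemi _ (mem_SUg.mpr ⟨Cfsg.Agent.Lib.Helper54_UXm_Basic.mem_uG_restrict h hg'.1, ?_⟩) ⟨RingEquiv.refl L, fun k v => ?_⟩
    · have h1 : LinearMap.det (g : V →ₗ[L] V) = 1 := by
        have h2 := hg'.2
        have h3 := congrArg Units.val h2
        rwa [LinearEquiv.coe_det] at h3
      apply Units.ext
      rw [LinearEquiv.coe_det]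
      have h4 : ((g.restrictScalars F : V ≃ₗ[F] V) : V →ₗ[F] V)
          = (g : V →ₗ[L] V).restrictScalars F := rfl
      rw [h4, LinearMap.det_restrictScalars, h1, map_one, Units.val_one]
    · simp
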