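import Mathlib
import Cfsg.Prelude.Def_Characters
import Cfsg.Agent.Lib.Helper80_CharBasic
import Cfsg.Agent.Lib.Helper6_A6Defs

/-!
S3341-ORBCARD (helper6's market): the `G`-conjugates of `s ∈ S ∖ 1` inside `S` form one orbit of
`N_G(S)` with stabilizer `S`:  `#{u ∈ S | s ~ u} * 9 = |N_G(S)|`.
-/

set_option autoImplicit false
set_option linter.unusedVariables false
set_option linter.unusedSectionVars false
set_option linter.style.haveILetI false

open scoped ComplexConjugate

namespace Cfsg.Agent.Lib.Helper2_A6_ORBCARD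

open Cfsg Cfsg.Agent.Lib.Helper80_CharBasic Cfsg.Agent.Lib.Helper6_A6Defs

variable {G : Type*} [Group G] [Finite G] {S : Subgroup G}

/-- conjugation by `g` maps `S` into `S` as soon as it maps one nonidentity element of `S` into `S` -/
theorem conj_mem_of_conj_mem (h : Hyp G S) {s : G} (hs : s ∈ S) (hs1 : s ≠ 1) {g : G}
    (hg : g * s * g⁻¹ ∈ S) {x : G} (hx : x ∈ S) : g * x * g⁻¹ ∈ S := by
  have h1 : g * s * g⁻¹ ≠ 1 := by
    intro h0
    apply hs1
    have : s = g⁻¹ * (g * s * g⁻¹) * g := by group
    rw [this, h0]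
    group
  rw [← h.cent _ hg h1, Subgroup.mem_centralizer_iff]
  intro y hy
  rw [Set.mem_singleton_iff] at hy
  subst hy
  have hc := h.comm s hs x hx
  calc g * s * g⁻¹ * (g * x * g⁻¹) = g * (s * x) * g⁻¹ := by group
    _ = g * (x * s) * g⁻¹ := by rw [hc]
    _ = g * x * g⁻¹ * (g * s * g⁻¹) := by group

theorem mem_normalizer_of_conj' (h : Hyp G S) {s : G} (hs : s ∈ S) (hs1 : s ≠ 1) {g : G}
    (hg : g * s * g⁻¹ ∈ S) : g ∈ Subgroup.normalizer (S : Set G) := by
  rw [Subgroup.mem_normalizer_iff]
  intro x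
  constructor
  · exact fun hx => conj_mem_of_conj_mem h hs hs1 hg hx
  · intro hx
    have h1 : g * s * g⁻¹ ≠ 1 := by
      intro h0
      apply hs1
      have : s = g⁻¹ * (g * s * g⁻¹) * g := by group
      rw [this, h0]
      group
    have hg' : g⁻¹ * (g * s * g⁻¹) * g⁻¹⁻¹ ∈ S := by
      have : g⁻¹ * (g * s * g⁻¹) * g⁻¹⁻¹ = s := by group
      rw [this]
      exact hs
    have := conj_mem_of_conj_mem h hg h1 hg' hx
    have e : g⁻¹ * (g * x * g⁻¹) * g⁻¹⁻¹ = x := by group
    rwa [e] at this

theorem card_conj_in (h : Hyp G S) {s : G} (hs : s ∈ S) (hs1 : s ≠ 1) :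
    Nat.card {u : G // u ∈ S ∧ IsConj s u} * 9 = Nat.card (Subgroup.normalizer (S : Set G)) := by
  classical
  letI : MulAction (Subgroup.normalizer (S : Set G)) G :=
    MulAction.compHom G ((MulAut.conj : G →* MulAut G).comp (Subgroup.normalizer (S : Set G)).subtype)
  have hsmul : ∀ (n : Subgroup.normalizer (S : Set G)) (g : G),
      n • g = (n : G) * g * (n : G)⁻¹ := fun n g => rfl
  have h1 := Nat.card_congr
    (MulAction.orbitProdStabilizerEquivGroup (Subgroup.normalizer (S : Set G)) s)
  rw [Nat.card_prod] at h1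
  have horb : MulAction.orbit (Subgroup.normalizer (S : Set G)) s = {u | u ∈ S ∧ IsConj s u} := by
    ext u
    constructor
    · rintro ⟨n, rfl⟩
      change n • s ∈ S ∧ IsConj s (n • s)
      rw [hsmul]
      refine ⟨((Subgroup.mem_normalizer_iff.mp n.2) s).mp hs, ?_⟩
      exact isConj_iff.mpr ⟨n, rfl⟩
    · rintro ⟨huS, hu⟩
      obtain ⟨g, hg⟩ := isConj_iff.mp hu
      have hgN : g ∈ Subgroup.normalizer (S : Set G) := by
        apply mem_normalizer_of_conj' h hs hs1
        rw [hg]
        exact huS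
      exact ⟨⟨g, hgN⟩, hg⟩
  have hstab : Nat.card (MulAction.stabilizer (Subgroup.normalizer (S : Set G)) s) = 9 := by
    rw [← h.card]
    have hSN : S ≤ Subgroup.normalizer (S : Set G) := Subgroup.le_normalizer
    refine Nat.card_congr
      { toFun := fun n => ⟨(n : G), ?_⟩
        invFun := fun x => ⟨⟨(x : G), hSN x.2⟩, ?_⟩
        left_inv := fun n => rfl
        right_inv := fun x => rfl }
    · have hn := n.2
      rw [MulAction.mem_stabilizer_iff, hsmul] at hn
      have hc : ((n : Subgroup.normalizer (S : Set G)) : G) ∈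
          Subgroup.centralizer ({s} : Set G) := by
        rw [Subgroup.mem_centralizer_iff]
        intro y hy
        rw [Set.mem_singleton_iff] at hy
        subst hy
        have : ((n : Subgroup.normalizer (S : Set G)) : G) * y =
            ((n : Subgroup.normalizer (S : Set G)) : G) * y *
              ((n : Subgroup.normalizer (S : Set G)) : G)⁻¹ *
              ((n : Subgroup.normalizer (S : Set G)) : G) := by group
        rw [this, hn]
      rwa [h.cent s hs hs1] at hc
    · rw [MulAction.mem_stabilizer_iff, hsmul]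
      change (x : G) * s * (x : G)⁻¹ = s
      rw [h.comm x x.2 s hs]
      group
  rw [hstab] at h1
  rw [← h1]
  congr 1
  rw [horb]
  rfl

end Cfsg.Agent.Lib.Helper2_A6_ORBCARD
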