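import Mathlib
import Cfsg.Prelude.Def_Characters
import Cfsg.Agent.Lib.Helper80_CharBasic
import Cfsg.Agent.Lib.Helper6_A6Defs

/-!
S3341-ORBINV (helper6's market): an involution of `N(S)` inverts `S`.
-/

set_option autoImplicit false
set_option linter.unusedSectionVars false
open scoped ComplexConjugate

namespace Cfsg.Agent.Lib.Helper52_A6_ORBINV

open Cfsg Cfsg.Agent.Lib.Helper80_CharBasic Cfsg.Agent.Lib.Helper6_A6Defs

variable {G : Type*} [Group G] [Finite G] {S : Subgroup G}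

theorem inv_conj (h : Hyp G S) (heven : 2 ∣ Nat.card (Subgroup.normalizer (S : Set G))) :
    ∃ j ∈ Subgroup.normalizer (S : Set G), ∀ s ∈ S, j * s * j⁻¹ = s⁻¹ := by
  have : Fact (Nat.Prime 2) := ⟨Nat.prime_two⟩
  obtain ⟨j', hj'⟩ := exists_prime_orderOf_dvd_card' (G := ↥(Subgroup.normalizer (S : Set G))) 2 heven
  obtain ⟨j, hjN⟩ := j'
  have hj2 : orderOf j = 2 := by
    rw [← hj']
    exact (Subgroup.orderOf_mk j hjN).symm
  have hjj : j * j = 1 := by
    have := pow_orderOf_eq_one j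
    rwa [hj2, pow_two] at this
  have hjinv : j⁻¹ = j := inv_eq_of_mul_eq_one_left hjj
  have hjS : j ∉ S := by
    intro hjS
    have h3 : orderOf j ∣ 3 := orderOf_dvd_of_pow_eq_one (h.exp j hjS)
    rw [hj2] at h3
    norm_num at h3
  refine ⟨j, hjN, fun s hs => ?_⟩
  have hjs : j * s * j⁻¹ ∈ S := (Subgroup.mem_normalizer_iff.mp hjN s).mp hs
  have ht : s * (j * s * j⁻¹) ∈ S := S.mul_mem hs hjs
  by_cases ht1 : s * (j * s * j⁻¹) = 1
  · exact (inv_eq_of_mul_eq_one_right ht1).symm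
  · exfalso
    apply hjS
    rw [← h.cent _ ht ht1, Subgroup.mem_centralizer_iff]
    intro y hy
    rw [Set.mem_singleton_iff] at hy
    subst hy
    have hc := h.comm s hs _ hjs
    calc s * (j * s * j⁻¹) * j = j * s * j⁻¹ * s * j := by rw [hc]
      _ = j * (s * (j * s * j)) := by rw [hjinv]; group
      _ = j * (s * (j * s * j⁻¹)) := by rw [hjinv]

end Cfsg.Agent.Lib.Helper52_A6_ORBINV
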