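import Mathlib
import Cfsg.Prelude.Def_Characters
import Cfsg.Agent.Lib.Helper80_CharBasic
import Cfsg.Agent.Lib.Helper6_A6Defs
import Cfsg.Agent.Lib.Helper52_A6_ORBINV
import Cfsg.Agent.Lib.Helper2_A6_ORBCARD

/-!
S3341-ORB (helper6's market): the four fusion patterns of `S ∖ 1` under `N_G(S)`
(`|N_G(S) : S| ∈ {1, 2, 4, 8}`).
-/

set_option autoImplicit false
set_option linter.unusedVariables false
set_option linter.unusedSectionVars false
set_option linter.style.haveILetI false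
set_option linter.unusedSimpArgs false

open scoped ComplexConjugate

namespace Cfsg.Agent.Lib.Helper2_A6_ORB

open Cfsg Cfsg.Agent.Lib.Helper80_CharBasic Cfsg.Agent.Lib.Helper6_A6Defs

section elem

variable {G : Type*} [Group G] {S : Subgroup G}

theorem ne_inv_of_mem (h : Hyp G S) {a : G} (ha : a ∈ S) (ha1 : a ≠ 1) : a ≠ a⁻¹ := by
  intro e
  apply ha1
  have h3 := h.exp a ha
  have h2 : a * a = 1 := by
    have := mul_inv_cancel a
    rwa [← e] at this
  calc a = a ^ 3 * (a * a)⁻¹ := by group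
    _ = 1 := by rw [h3, h2]; group

theorem inv_sq_eq (h : Hyp G S) {a : G} (ha : a ∈ S) : a⁻¹ * a⁻¹ = a := by
  have h3 := h.exp a ha
  calc a⁻¹ * a⁻¹ = a ^ 3 * (a⁻¹ * a⁻¹ * a⁻¹) * a := by rw [h3]; group
    _ = a := by group

/-- two independent elements of `S` -/
structure Pair (S : Subgroup G) (x y : G) : Prop where
  hx : x ∈ S
  hy : y ∈ S
  hx1 : x ≠ 1
  hy1 : y ≠ 1
  hne : y ≠ x
  hne' : y ≠ x⁻¹

theorem Pair.inv_left {x y : G} (p : Pair S x y) : Pair S x⁻¹ y where
  hx := S.inv_mem p.hx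
  hy := p.hy
  hx1 := fun e => p.hx1 (inv_eq_one.mp e)
  hy1 := p.hy1
  hne := p.hne'
  hne' := by rw [inv_inv]; exact p.hne

theorem Pair.inv_right {x y : G} (p : Pair S x y) : Pair S x y⁻¹ where
  hx := p.hx
  hy := S.inv_mem p.hy
  hx1 := p.hx1
  hy1 := fun e => p.hy1 (inv_eq_one.mp e)
  hne := fun e => p.hne' (by rw [← e, inv_inv])
  hne' := fun e => p.hne (inv_injective e)

theorem Pair.mul_mem {x y : G} (p : Pair S x y) : x * y ∈ S := S.mul_mem p.hx p.hy

theorem Pair.mul_ne_one {x y : G} (p : Pair S x y) : x * y ≠ 1 := by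
  intro e
  exact p.hne' (eq_inv_of_mul_eq_one_right e)

theorem Pair.mul_ne_left {x y : G} (p : Pair S x y) : x * y ≠ x := by
  intro e
  exact p.hy1 (mul_eq_left.mp e)

theorem Pair.mul_ne_right {x y : G} (p : Pair S x y) : x * y ≠ y := by
  intro e
  exact p.hx1 (mul_eq_right.mp e)

theorem Pair.mul_ne_left_inv (h : Hyp G S) {x y : G} (p : Pair S x y) : x * y ≠ x⁻¹ := by
  intro e
  apply p.hne
  have : y = x⁻¹ * x⁻¹ := by
    calc y = x⁻¹ * (x * y) := by group
      _ = x⁻¹ * x⁻¹ := by rw [e]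
  rw [this, inv_sq_eq h p.hx]

theorem Pair.mul_ne_right_inv (h : Hyp G S) {x y : G} (p : Pair S x y) : x * y ≠ y⁻¹ := by
  intro e
  apply p.hne
  have : x = y⁻¹ * y⁻¹ := by
    calc x = (x * y) * y⁻¹ := by group
      _ = y⁻¹ * y⁻¹ := by rw [e]
  rw [this, inv_sq_eq h p.hy]

theorem Pair.mul_ne_mul_inv (h : Hyp G S) {x y : G} (p : Pair S x y) : x * y ≠ x * y⁻¹ := by
  intro e
  exact ne_inv_of_mem h p.hy p.hy1 (mul_left_cancel e)

theorem Pair.mul_ne_inv_mul (h : Hyp G S) {x y : G} (p : Pair S x y) : x * y ≠ x⁻¹ * y := by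
  intro e
  exact ne_inv_of_mem h p.hx p.hx1 (mul_right_cancel e)

theorem Pair.mul_ne_inv_mul_inv (h : Hyp G S) {x y : G} (p : Pair S x y) :
    x * y ≠ x⁻¹ * y⁻¹ := by
  intro e
  apply ne_inv_of_mem h p.mul_mem p.mul_ne_one
  rw [_root_.mul_inv_rev, ← h.comm x⁻¹ (S.inv_mem p.hx) y⁻¹ (S.inv_mem p.hy)]
  exact e

theorem card_four {a b c d : G} [DecidableEq G] (hab : a ≠ b) (hac : a ≠ c) (had : a ≠ d)
    (hbc : b ≠ c) (hbd : b ≠ d) (hcd : c ≠ d) : ({a, b, c, d} : Finset G).card = 4 := by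
  rw [Finset.card_insert_of_notMem, Finset.card_insert_of_notMem, Finset.card_insert_of_notMem,
    Finset.card_singleton]
  · simpa using hcd
  · simp [hbc, hbd]
  · simp [hab, hac, had]

end elem

theorem fusion_cases {G : Type*} [Group G] [Finite G] {S : Subgroup G} (h : Hyp G S) :
    Subgroup.normalizer (S : Set G) = S ∨ Fus2 G S ∨ (∃ s s' : G, Fus4 G S s s') ∨
      (∀ u ∈ S, u ≠ 1 → ∀ v ∈ S, v ≠ 1 → IsConj u v) := by
  classical
  haveI : Fintype G := Fintype.ofFinite G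
  obtain ⟨n, hn⟩ : ∃ n, n = Nat.card (Subgroup.normalizer (S : Set G)) := ⟨_, rfl⟩
  obtain ⟨cl, hmemcl⟩ : ∃ cl : G → Finset G, ∀ s u, u ∈ cl s ↔ u ∈ S ∧ IsConj s u :=
    ⟨fun s => Finset.univ.filter (fun u => u ∈ S ∧ IsConj s u), fun s u => by simp⟩
  obtain ⟨T, hmemT⟩ : ∃ T : Finset G, ∀ u, u ∈ T ↔ u ∈ S ∧ u ≠ 1 :=
    ⟨Finset.univ.filter (fun u => u ∈ S ∧ u ≠ 1), fun u => by simp⟩
  -- |T| = 8
  have hTcard : T.card = 8 := by
    have h9 : (Finset.univ.filter (fun u : G => u ∈ S)).card = 9 := by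
      rw [← h.card, Nat.card_eq_fintype_card, Fintype.card_subtype]
    have hT : T = (Finset.univ.filter (fun u : G => u ∈ S)).erase 1 := by
      ext u
      rw [hmemT, Finset.mem_erase, Finset.mem_filter]
      simp [and_comm]
    rw [hT, Finset.card_erase_of_mem (by simp [S.one_mem]), h9]
  -- class sizes
  have hclcard : ∀ s ∈ T, (cl s).card * 9 = n := by
    intro s hs
    obtain ⟨hsS, hs1⟩ := (hmemT s).mp hs
    rw [hn, ← Cfsg.Agent.Lib.Helper2_A6_ORBCARD.card_conj_in h hsS hs1]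
    congr 1
    rw [Nat.card_eq_fintype_card, Fintype.card_subtype]
    congr 1
    ext u
    rw [hmemcl, Finset.mem_filter]
    simp
  have hclT : ∀ s ∈ T, cl s ⊆ T := by
    intro s hs u hu
    obtain ⟨hsS, hs1⟩ := (hmemT s).mp hs
    obtain ⟨huS, hu⟩ := (hmemcl s u).mp hu
    refine (hmemT u).mpr ⟨huS, ?_⟩
    rintro rfl
    exact hs1 (isConj_one_left.mp hu)
  have hself : ∀ s ∈ T, s ∈ cl s := fun s hs => (hmemcl s s).mpr ⟨((hmemT s).mp hs).1, IsConj.refl s⟩
  obtain ⟨e, he⟩ : ∃ e, ∀ s ∈ T, (cl s).card = e := by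
    refine ⟨n / 9, fun s hs => ?_⟩
    have := hclcard s hs
    omega
  have hne : n = e * 9 := by
    obtain ⟨s, hs⟩ : T.Nonempty := Finset.card_pos.mp (by rw [hTcard]; norm_num)
    rw [← hclcard s hs, he s hs]
  -- e divides 8
  obtain ⟨k, hk⟩ : ∃ k, 8 = k * e := by
    refine ⟨(T.image ConjClasses.mk).card, ?_⟩
    have key := Finset.card_eq_sum_card_image (ConjClasses.mk : G → ConjClasses G) T
    have hfib : ∀ b ∈ T.image (ConjClasses.mk : G → ConjClasses G),
        (T.filter (fun a => ConjClasses.mk a = b)).card = e := by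
      intro b hb
      obtain ⟨u0, hu0, rfl⟩ := Finset.mem_image.mp hb
      rw [← he u0 hu0]
      congr 1
      ext a
      rw [Finset.mem_filter, hmemcl, ConjClasses.mk_eq_mk_iff_isConj]
      constructor
      · rintro ⟨haT, ha⟩
        exact ⟨((hmemT a).mp haT).1, ha.symm⟩
      · rintro ⟨haS, ha⟩
        exact ⟨hclT u0 hu0 ((hmemcl u0 a).mpr ⟨haS, ha⟩), ha.symm⟩
    rw [Finset.sum_congr rfl hfib, Finset.sum_const, smul_eq_mul, hTcard] at key
    exact key
  have he8 : e = 1 ∨ e = 2 ∨ e = 4 ∨ e = 8 := by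
    have hle : e ≤ 8 := by
      rcases Nat.eq_zero_or_pos k with hk0 | hk0
      · rw [hk0] at hk; omega
      · nlinarith
    have hpos : 0 < e := by
      rcases Nat.eq_zero_or_pos e with he0 | he0
      · rw [he0] at hk; omega
      · exact he0
    interval_cases e <;> omega
  -- inversion
  have hinvc : 2 ∣ n → ∀ s ∈ S, IsConj s s⁻¹ := by
    intro h2 s hs
    obtain ⟨j, hjN, hj⟩ := Cfsg.Agent.Lib.Helper52_A6_ORBINV.inv_conj h (hn ▸ h2)
    exact isConj_iff.mpr ⟨j, hj s hs⟩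
  have hpairsub : 2 ∣ n → ∀ s ∈ T, ({s, s⁻¹} : Finset G) ⊆ cl s := by
    intro h2 s hs u hu
    rw [Finset.mem_insert, Finset.mem_singleton] at hu
    rcases hu with rfl | rfl
    · exact hself u hs
    · exact (hmemcl s s⁻¹).mpr ⟨S.inv_mem ((hmemT s).mp hs).1, hinvc h2 s ((hmemT s).mp hs).1⟩
  have hpaircard : ∀ s ∈ T, ({s, s⁻¹} : Finset G).card = 2 := by
    intro s hs
    rw [Finset.card_pair]
    exact ne_inv_of_mem h ((hmemT s).mp hs).1 ((hmemT s).mp hs).2
  rcases he8 with rfl | rfl | rfl | rfl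
  · -- e = 1
    left
    symm
    apply Subgroup.eq_of_le_of_card_ge Subgroup.le_normalizer
    rw [← hn, hne, h.card]
  · -- e = 2
    right; left
    have h2 : 2 ∣ n := ⟨9, by omega⟩
    intro s hsS hs1 u huS
    have hsT : s ∈ T := (hmemT s).mpr ⟨hsS, hs1⟩
    have hcl : ({s, s⁻¹} : Finset G) = cl s :=
      Finset.eq_of_subset_of_card_le (hpairsub h2 s hsT) (by rw [he s hsT, hpaircard s hsT])
    constructor
    · intro hu
      have : u ∈ cl s := (hmemcl s u).mpr ⟨huS, hu⟩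
      rw [← hcl, Finset.mem_insert, Finset.mem_singleton] at this
      exact this
    · rintro (rfl | rfl)
      · exact IsConj.refl _
      · exact hinvc h2 s hsS
  · -- e = 4
    right; right; left
    have h2 : 2 ∣ n := ⟨18, by omega⟩
    obtain ⟨s, hsT⟩ : T.Nonempty := Finset.card_pos.mp (by rw [hTcard]; norm_num)
    obtain ⟨hsS, hs1⟩ := (hmemT s).mp hsT
    obtain ⟨s', hs'cl, hs'not⟩ : ∃ s' ∈ cl s, s' ∉ ({s, s⁻¹} : Finset G) :=
      Finset.exists_mem_notMem_of_card_lt_card (by rw [he s hsT, hpaircard s hsT]; norm_num)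
    have hs'T : s' ∈ T := hclT s hsT hs'cl
    obtain ⟨hs'S, hs'1⟩ := (hmemT s').mp hs'T
    have hconj : IsConj s s' := ((hmemcl s s').mp hs'cl).2
    rw [Finset.mem_insert, Finset.mem_singleton, not_or] at hs'not
    have p : Pair S s s' := ⟨hsS, hs'S, hs1, hs'1, hs'not.1, hs'not.2⟩
    -- the class of s
    have hcl1 : ({s, s⁻¹, s', s'⁻¹} : Finset G) = cl s := by
      apply Finset.eq_of_subset_of_card_le
      · intro u hu
        simp only [Finset.mem_insert, Finset.mem_singleton] at hu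
        rcases hu with rfl | rfl | rfl | rfl
        · exact hself _ hsT
        · exact hpairsub h2 _ hsT (by simp)
        · exact hs'cl
        · exact (hmemcl _ _).mpr ⟨S.inv_mem hs'S, hconj.trans (hinvc h2 _ hs'S)⟩
      · rw [he s hsT, card_four (ne_inv_of_mem h hsS hs1) (Ne.symm p.hne)
          (fun e => p.hne' (by rw [e, inv_inv]))
          (Ne.symm p.hne') (fun e => p.hne (inv_injective e).symm)
          (ne_inv_of_mem h hs'S hs'1)]
    -- the four products
    have hWsub : ({s * s', s * s'⁻¹, s⁻¹ * s', s⁻¹ * s'⁻¹} : Finset G) ⊆ T \ cl s := by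
      have aux : ∀ x y : G, Pair S x y → (x = s ∨ x = s⁻¹) → (y = s' ∨ y = s'⁻¹) →
          x * y ∈ T \ cl s := by
        intro x y q hx hy
        rw [Finset.mem_sdiff, hmemT, ← hcl1]
        refine ⟨⟨q.mul_mem, q.mul_ne_one⟩, ?_⟩
        simp only [Finset.mem_insert, Finset.mem_singleton, not_or]
        have a1 := q.mul_ne_left
        have a2 := q.mul_ne_left_inv h
        have a3 := q.mul_ne_right
        have a4 := q.mul_ne_right_inv h
        rcases hx with rfl | rfl <;> rcases hy with rfl | rfl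
        · exact ⟨a1, a2, a3, a4⟩
        · rw [inv_inv] at a4; exact ⟨a1, a2, a4, a3⟩
        · rw [inv_inv] at a2; exact ⟨a2, a1, a3, a4⟩
        · rw [inv_inv] at a2 a4; exact ⟨a2, a1, a4, a3⟩
      intro u hu
      simp only [Finset.mem_insert, Finset.mem_singleton] at hu
      rcases hu with rfl | rfl | rfl | rfl
      · exact aux _ _ p (Or.inl rfl) (Or.inl rfl)
      · exact aux _ _ p.inv_right (Or.inl rfl) (Or.inr rfl)
      · exact aux _ _ p.inv_left (Or.inr rfl) (Or.inl rfl)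
      · exact aux _ _ p.inv_left.inv_right (Or.inr rfl) (Or.inr rfl)
    have hWcard : ({s * s', s * s'⁻¹, s⁻¹ * s', s⁻¹ * s'⁻¹} : Finset G).card = 4 := by
      apply card_four
      · exact p.mul_ne_mul_inv h
      · exact p.mul_ne_inv_mul h
      · exact p.mul_ne_inv_mul_inv h
      · have := p.inv_right.mul_ne_inv_mul_inv h
        rwa [inv_inv] at this
      · exact p.inv_right.mul_ne_inv_mul h
      · exact p.inv_left.mul_ne_mul_inv h
    have hcompl : (T \ cl s).card = 4 := by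
      rw [Finset.card_sdiff_of_subset (hclT s hsT), hTcard, he s hsT]
    have hW : ({s * s', s * s'⁻¹, s⁻¹ * s', s⁻¹ * s'⁻¹} : Finset G) = T \ cl s :=
      Finset.eq_of_subset_of_card_le hWsub (by rw [hcompl, hWcard])
    have hssT : s * s' ∈ T \ cl s := hWsub (by simp)
    rw [Finset.mem_sdiff] at hssT
    have hcl2 : cl (s * s') = T \ cl s := by
      apply Finset.eq_of_subset_of_card_le
      · intro u hu
        rw [Finset.mem_sdiff]
        refine ⟨hclT _ hssT.1 hu, fun hu' => hssT.2 ?_⟩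
        obtain ⟨huS, hu1⟩ := (hmemcl _ _).mp hu
        obtain ⟨_, hu2⟩ := (hmemcl _ _).mp hu'
        exact (hmemcl _ _).mpr ⟨S.mul_mem hsS hs'S, hu2.trans hu1.symm⟩
      · rw [hcompl, he _ hssT.1]
    refine ⟨s, s', ⟨hsS, hs'S, hs1, hs'1, p.hne, p.hne', ?_, ?_, ?_⟩⟩
    · rw [← hn, hne]
    · intro u huS
      have hiff : u ∈ cl s ↔ IsConj s u := by rw [hmemcl]; exact and_iff_right huS
      rw [← hiff, ← hcl1]
      simp only [Finset.mem_insert, Finset.mem_singleton]
    · intro u huS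
      have hiff : u ∈ cl (s * s') ↔ IsConj (s * s') u := by
        rw [hmemcl]; exact and_iff_right huS
      rw [← hiff, hcl2, ← hW]
      simp only [Finset.mem_insert, Finset.mem_singleton]
  · -- e = 8
    right; right; right
    intro u huS hu1 v hvS hv1
    have huT : u ∈ T := (hmemT u).mpr ⟨huS, hu1⟩
    have hcl : cl u = T :=
      Finset.eq_of_subset_of_card_le (hclT u huT) (by rw [he u huT, hTcard])
    have : v ∈ cl u := by rw [hcl]; exact (hmemT v).mpr ⟨hvS, hv1⟩
    exact ((hmemcl u v).mp this).2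

end Cfsg.Agent.Lib.Helper2_A6_ORB
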