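import Mathlib
import Cfsg.Prelude.Def_Characters
import Cfsg.Prelude.Def_Blocks
import Cfsg.Agent.Lib.Helper80_CharBasic
import Cfsg.Agent.Lib.Helper17_Sylow
import Cfsg.Agent.Lib.Helper74_CharTools
import Cfsg.Agent.Lib.Helper77_BlockBasics
import Cfsg.Agent.Lib.Helper78_SO_BRINV

/-!
S0984 package L5-BRINV (helper62's market): in a simple group of order 2520 no involution
centralises a Sylow 5-subgroup.  Model: `Helper82_SO_N4200.main_case`.
-/

set_option autoImplicit false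
set_option linter.unusedVariables false
set_option linter.unusedSimpArgs false
set_option linter.unusedSectionVars false

open Cfsg Cfsg.Agent.Lib.Helper80_CharBasic

namespace Cfsg.Agent.Lib.Helper2_A7_L5BRINV

open Cfsg.Agent.Lib.Helper17_Sylow Subgroup

/-- fiberwise evaluation of a sum over a finset whose members have one of four "degrees" -/
theorem sum_four {α M : Type*} [DecidableEq α] [AddCommMonoid M] (S : Finset α) (d : α → ℕ)
    (F : α → M) (φ : ℕ → M) (hd : ∀ x ∈ S, d x = 14 ∨ d x = 21 ∨ d x = 24 ∨ d x = 36)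
    (hF : ∀ x ∈ S, F x = φ (d x)) :
    ∑ x ∈ S, F x = (S.filter (fun x => d x = 14)).card • φ 14 +
      (S.filter (fun x => d x = 21)).card • φ 21 + (S.filter (fun x => d x = 24)).card • φ 24 +
      (S.filter (fun x => d x = 36)).card • φ 36 := by
  have hmaps : ∀ x ∈ S, d x ∈ ({14, 21, 24, 36} : Finset ℕ) := by
    intro x hx
    rcases hd x hx with h | h | h | h <;> simp [h]
  rw [← Finset.sum_fiberwise_of_maps_to hmaps F]
  have hin : ∀ y : ℕ, ∑ x ∈ S.filter (fun x => d x = y), F x =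
      (S.filter (fun x => d x = y)).card • φ y := by
    intro y
    rw [← Finset.sum_const]
    apply Finset.sum_congr rfl
    intro x hx
    rw [Finset.mem_filter] at hx
    rw [hF x hx.1, hx.2]
  simp only [hin]
  rw [Finset.sum_insert (by decide), Finset.sum_insert (by decide), Finset.sum_insert (by decide),
    Finset.sum_singleton]
  abel

theorem card_four {α : Type*} [DecidableEq α] (S : Finset α) (d : α → ℕ)
    (hd : ∀ x ∈ S, d x = 14 ∨ d x = 21 ∨ d x = 24 ∨ d x = 36) :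
    (S.filter (fun x => d x = 14)).card + (S.filter (fun x => d x = 21)).card +
      (S.filter (fun x => d x = 24)).card + (S.filter (fun x => d x = 36)).card = S.card := by
  have := sum_four S d (fun _ => (1 : ℕ)) (fun _ => 1) hd (fun _ _ => rfl)
  simp only [Finset.sum_const, smul_eq_mul, mul_one] at this
  omega

/-- the final arithmetic, `1 ∈ X` -/
theorem arith (n14 n21 n24 n36 D : ℕ) (ε : ℤ) (hε : ε = 1 ∨ ε = -1) (e : ℕ)
    (he : e = 2 ∨ e = 4) (hn : n14 + n21 + n24 + n36 + 1 = e)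
    (hD : ε * (D : ℤ) = 1 - 14 * (n14 : ℤ) + 21 * (n21 : ℤ) - 24 * (n24 : ℤ) + 36 * (n36 : ℤ))
    (h10 : 10 < D) (hdvd : D ∣ 2520)
    (hsq : 1 + 196 * n14 + 441 * n21 + 576 * n24 + 1296 * n36 + D ^ 2 ≤ 2520) : False := by
  have hD50 : D ≤ 50 := by nlinarith
  have hDlist : D = 12 ∨ D = 14 ∨ D = 15 ∨ D = 18 ∨ D = 20 ∨ D = 21 ∨ D = 24 ∨ D = 28 ∨ D = 30 ∨
      D = 35 ∨ D = 36 ∨ D = 40 ∨ D = 42 ∨ D = 45 := by
    interval_cases D <;> omega
  clear hdvd hsq
  have b14 : n14 ≤ 3 := by omega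
  have b21 : n21 ≤ 3 := by omega
  have b24 : n24 ≤ 3 := by omega
  rcases hε with rfl | rfl <;> rcases he with rfl | rfl <;> interval_cases n14 <;>
    interval_cases n21 <;> interval_cases n24 <;> omega

/-- the final arithmetic, `θ = 1` -/
theorem arith' (n14 n21 n24 n36 : ℕ) (hn : n14 + n21 + n24 + n36 = 4)
    (hD : (-1 : ℤ) = - 14 * (n14 : ℤ) + 21 * (n21 : ℤ) - 24 * (n24 : ℤ) + 36 * (n36 : ℤ)) :
    False := by
  have b14 : n14 ≤ 4 := by omega
  have b21 : n21 ≤ 4 := by omega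
  have b24 : n24 ≤ 4 := by omega
  interval_cases n14 <;> interval_cases n21 <;> interval_cases n24 <;> omega

/-- the possible degrees and signs of a nontrivial member of `X` -/
theorem deg_list (d : ℕ) (s a : ℤ) (m : ℕ) (hs : s = 1 ∨ s = -1) (hmod : (d : ℤ) ≡ s [ZMOD 5])
    (hdvd : d ∣ 2520) (hsq : d ^ 2 ≤ 2520) (hm : 1 ≤ m) (ha : a = (d : ℤ) - 20 * (m : ℤ))
    (habs : |a| < (d : ℤ)) :
    (d = 14 ∧ s = -1) ∨ (d = 21 ∧ s = 1) ∨ (d = 24 ∧ s = -1) ∨ (d = 36 ∧ s = 1) := by
  have hd50 : d ≤ 50 := by nlinarith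
  rw [abs_lt] at habs
  have hd10 : 10 < d := by omega
  unfold Int.ModEq at hmod
  rcases hs with rfl | rfl <;> interval_cases d <;> omega

theorem charDegree_oneIrr {G : Type*} [Group G] [Finite G] :
    charDegree ((oneIrr G : IrrCharacter G) : G → ℂ) = 1 := by
  show ⌊((1 : ℂ)).re⌋₊ = 1
  simp

theorem no_even_cent5 {G : Type*} [Group G] [Finite G] [IsSimpleGroup G] [Fact (Nat.Prime 5)]
    (hG : Nat.card G = 2520) (P : Sylow 5 G) :
    ¬ 2 ∣ Nat.card (Subgroup.centralizer ((P : Subgroup G) : Set G)) := by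
  classical
  intro heven
  have hGc : ¬ IsMulCommutative G :=
    not_isMulCommutative_of_not_prime (by rw [hG]; norm_num)
  have hc : Nat.card G = 5 ^ 1 * 504 := by rw [hG]; norm_num
  have hm : ¬ 5 ∣ 504 := by norm_num
  have hP : Nat.card (P : Subgroup G) = 5 := by
    have := card_sylow_eq_pow hc hm P
    rwa [pow_one] at this
  obtain ⟨e, he⟩ : ∃ e, (centralizer ((P : Subgroup G) : Set G)).relIndex
      (normalizer ((P : Subgroup G) : Set G)) = e := ⟨_, rfl⟩
  have he4 : e ∣ 4 := by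
    have := relIndex_centralizer_normalizer_dvd_pred (P : Subgroup G) hP
    rwa [he] at this
  have he1 : e ≠ 1 := by
    intro h1
    have hNC : normalizer ((P : Subgroup G) : Set G) ≤ centralizer ((P : Subgroup G) : Set G) :=
      Subgroup.relIndex_eq_one.mp (he.trans h1)
    rcases sylow_eq_bot_or_top_of_normalizer_le_centralizer P hNC with hb | ht
    · rw [hb, Subgroup.card_bot] at hP
      omega
    · rw [ht, Subgroup.card_top, hG] at hP
      omega
  have he' : e = 2 ∨ e = 4 := by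
    have h4 : e ≤ 4 := Nat.le_of_dvd (by norm_num) he4
    interval_cases e <;> omega
  obtain ⟨X, εX, θ, ε, a, hXc, hθX, halt, hX, hε, hθmod, hrel, hsq, ha1, habs, hav, harel⟩ :=
    Cfsg.Agent.Lib.Helper78_SO_BRINV.brauer_inv_data hGc (by norm_num) P hP e he he1 heven
  -- the type of a nontrivial member of `X`
  have htype : ∀ χ ∈ X, χ ≠ oneIrr G →
      (charDegree (χ : G → ℂ) = 14 ∧ εX χ = -1) ∨ (charDegree (χ : G → ℂ) = 21 ∧ εX χ = 1) ∨
        (charDegree (χ : G → ℂ) = 24 ∧ εX χ = -1) ∨ (charDegree (χ : G → ℂ) = 36 ∧ εX χ = 1) := by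
    intro χ hχ hne
    obtain ⟨hs, hmod⟩ := hX χ hχ
    obtain ⟨m, hm, ham⟩ := hav χ hχ hne
    have hdvd : charDegree (χ : G → ℂ) ∣ 2520 := by
      rw [← hG]; exact Cfsg.Agent.Lib.Helper77_BlockBasics.charDegree_dvd_card χ
    have hsq' : charDegree (χ : G → ℂ) ^ 2 ≤ 2520 := by
      rw [← hG]; exact Cfsg.Agent.Lib.Helper74_CharTools.charDegree_sq_le χ
    refine deg_list _ _ (a χ) m hs (by exact_mod_cast hmod) hdvd hsq' hm ?_ (habs χ hne)
    rw [ham]; push_cast; ring
  -- `a χ ≡ χ(1) (mod 20)` on `X`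
  have hcong : ∀ χ ∈ X, (20 : ℤ) ∣ εX χ * a χ - εX χ * (charDegree (χ : G → ℂ) : ℤ) := by
    intro χ hχ
    by_cases hne : χ = oneIrr G
    · rw [hne, ha1, charDegree_oneIrr]; simp
    · obtain ⟨m, hm, ham⟩ := hav χ hχ hne
      rw [ham]
      refine ⟨-(εX χ * m), ?_⟩
      push_cast; ring
  have h20 : (20 : ℤ) ∣ ε * a θ - ε * (charDegree (θ : G → ℂ) : ℤ) := by
    rw [harel, hrel, ← Finset.sum_sub_distrib]
    exact Finset.dvd_sum hcong
  have hDdvd : charDegree (θ : G → ℂ) ∣ 2520 := by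
    rw [← hG]; exact Cfsg.Agent.Lib.Helper77_BlockBasics.charDegree_dvd_card θ
  have hXt : ∀ S : Finset (IrrCharacter G), S ⊆ X → oneIrr G ∉ S →
      ∀ χ ∈ S, charDegree (χ : G → ℂ) = 14 ∨ charDegree (χ : G → ℂ) = 21 ∨
        charDegree (χ : G → ℂ) = 24 ∨ charDegree (χ : G → ℂ) = 36 := by
    intro S hSX h1S χ hχ
    have hne : χ ≠ oneIrr G := fun hh => h1S (hh ▸ hχ)
    rcases htype χ (hSX hχ) hne with hh | hh | hh | hh
    · exact Or.inl hh.1
    · exact Or.inr (Or.inl hh.1)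
    · exact Or.inr (Or.inr (Or.inl hh.1))
    · exact Or.inr (Or.inr (Or.inr hh.1))
  have hXs : ∀ S : Finset (IrrCharacter G), S ⊆ X → oneIrr G ∉ S →
      ∀ χ ∈ S, εX χ * (charDegree (χ : G → ℂ) : ℤ) =
        (fun k : ℕ => if k = 14 then (-14 : ℤ) else if k = 24 then -24 else (k : ℤ))
          (charDegree (χ : G → ℂ)) := by
    intro S hSX h1S χ hχ
    have hne : χ ≠ oneIrr G := fun hh => h1S (hh ▸ hχ)
    rcases htype χ (hSX hχ) hne with hh | hh | hh | hh <;> simp [hh.1, hh.2]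
  rcases halt with ⟨h1X, hε1⟩ | ⟨hθ1, hεm, he6'⟩
  · -- the principal character lies in `X`
    have hθne : θ ≠ oneIrr G := fun hh => hθX (hh ▸ h1X)
    have hθabs := habs θ hθne
    have hD10 : 10 < charDegree (θ : G → ℂ) := by
      rw [abs_lt] at hθabs
      obtain ⟨k, hk⟩ := h20
      rcases hε with rfl | rfl <;> omega
    obtain ⟨S, hS⟩ : ∃ S, S = X.erase (oneIrr G) := ⟨_, rfl⟩
    have hSX : S ⊆ X := by rw [hS]; exact Finset.erase_subset _ _
    have h1S : oneIrr G ∉ S := by rw [hS]; exact Finset.notMem_erase _ _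
    have hSc : S.card + 1 = e := by
      rw [hS, Finset.card_erase_of_mem h1X, hXc]
      have : 0 < X.card := Finset.card_pos.mpr ⟨_, h1X⟩
      omega
    have hSt := hXt S hSX h1S
    have hsum1 := sum_four S (fun χ => charDegree (χ : G → ℂ))
      (fun χ => εX χ * (charDegree (χ : G → ℂ) : ℤ))
      (fun k => if k = 14 then (-14 : ℤ) else if k = 24 then -24 else (k : ℤ)) hSt
      (hXs S hSX h1S)
    have hsum2 := sum_four S (fun χ => charDegree (χ : G → ℂ))
      (fun χ => charDegree (χ : G → ℂ) ^ 2) (fun k => k ^ 2) hSt (fun _ _ => rfl)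
    have hcard := card_four S (fun χ => charDegree (χ : G → ℂ)) hSt
    have hrel' : ε * (charDegree (θ : G → ℂ) : ℤ) =
        1 + ∑ χ ∈ S, εX χ * (charDegree (χ : G → ℂ) : ℤ) := by
      rw [hrel, hS, ← Finset.add_sum_erase X _ h1X, hε1, charDegree_oneIrr]
      simp
    have hsq' : 1 + ∑ χ ∈ S, charDegree (χ : G → ℂ) ^ 2 + charDegree (θ : G → ℂ) ^ 2 ≤ 2520 := by
      have h1 : ∑ χ ∈ X, charDegree (χ : G → ℂ) ^ 2 =
          1 + ∑ χ ∈ S, charDegree (χ : G → ℂ) ^ 2 := by
        rw [hS, ← Finset.add_sum_erase X _ h1X, charDegree_oneIrr]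
        simp
      have h2 : 1 ≤ (5 - 1) / e := by
        rcases he' with rfl | rfl <;> norm_num
      rw [hG, h1] at hsq
      nlinarith
    rw [hsum1] at hrel'
    rw [hsum2] at hsq'
    simp only [smul_eq_mul, nsmul_eq_mul] at hrel' hsq'
    norm_num at hrel' hsq'
    exact arith _ _ _ _ _ ε hε e he' (by rw [hcard]; exact hSc) (by rw [hrel']; ring) hD10 hDdvd
      (by omega)
  · -- `θ = 1`
    have h1X : oneIrr G ∉ X := fun hh => hθX (hθ1 ▸ hh)
    have hSt := hXt X (Finset.Subset.refl _) h1X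
    have hsum1 := sum_four X (fun χ => charDegree (χ : G → ℂ))
      (fun χ => εX χ * (charDegree (χ : G → ℂ) : ℤ))
      (fun k => if k = 14 then (-14 : ℤ) else if k = 24 then -24 else (k : ℤ)) hSt
      (hXs X (Finset.Subset.refl _) h1X)
    have hcard := card_four X (fun χ => charDegree (χ : G → ℂ)) hSt
    rw [hsum1, hθ1, charDegree_oneIrr, hεm] at hrel
    simp only [smul_eq_mul, nsmul_eq_mul] at hrel
    norm_num at hrel
    have he4' : e = 4 := by omega
    exact arith' _ _ _ _ (by rw [hcard, hXc, he4']) (by rw [hrel]; ring)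

end Cfsg.Agent.Lib.Helper2_A7_L5BRINV
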