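import Mathlib

/-!
# S0984 (simple group of order 2520 is `A₇`): shared definitions (helper62)

`fixedSub ρ K`: the vectors of a representation fixed by every element of the subgroup `K`.
-/

set_option autoImplicit false

namespace Cfsg.Agent.Lib.Helper62_A7Defs

/-- The vectors fixed by every element of the subgroup `K`. -/
def fixedSub {G V : Type*} [Group G] [AddCommGroup V] [Module ℂ V]
    (ρ : Representation ℂ G V) (K : Subgroup G) : Submodule ℂ V where
  carrier := {v | ∀ k ∈ K, ρ k v = v}
  add_mem' := by
    intro a b ha hb k hk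
    rw [map_add, ha k hk, hb k hk]
  zero_mem' := by
    intro k _
    rw [map_zero]
  smul_mem' := by
    intro c v hv k hk
    rw [map_smul, hv k hk]

theorem mem_fixedSub {G V : Type*} [Group G] [AddCommGroup V] [Module ℂ V]
    (ρ : Representation ℂ G V) (K : Subgroup G) (v : V) :
    v ∈ fixedSub ρ K ↔ ∀ k ∈ K, ρ k v = v := Iff.rfl

theorem fixedSub_anti {G V : Type*} [Group G] [AddCommGroup V] [Module ℂ V]
    (ρ : Representation ℂ G V) {K L : Subgroup G} (h : K ≤ L) :
    fixedSub ρ L ≤ fixedSub ρ K := fun _ hv k hk => hv k (h hk)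

end Cfsg.Agent.Lib.Helper62_A7Defs
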