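import Mathlib
import Cfsg.Prelude.Def_Characters
import Cfsg.Prelude.Def_Blocks
import Cfsg.Agent.Lib.Helper62_A7Defs
import Cfsg.Agent.Lib.Helper80_CharBasic
import Cfsg.Agent.Lib.Helper80_CharComplete
import Cfsg.Agent.Lib.Helper10_N19_MULT
import Cfsg.Agent.Lib.Helper74_CharTools
import Cfsg.Agent.Lib.Helper15_B6Group
import Cfsg.Agent.Lib.Helper79_CharVals

/-!
S0984 package Z35-EIG (helper62's market): eigenvalue multiplicities of `ρ(xy)`, `xy` of order 35,
give a contradiction in the case `n₇ = 36`.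
-/

set_option autoImplicit false
set_option linter.unusedVariables false
set_option linter.unusedSectionVars false
set_option linter.style.haveILetI false
set_option linter.unusedSimpArgs false

open Cfsg Cfsg.Agent.Lib.Helper80_CharBasic Cfsg.Agent.Lib.Helper62_A7Defs
open scoped ComplexConjugate

namespace Cfsg.Agent.Lib.Helper2_A7_Z35EIG

/-- regrouping a sum over `range 35` by residues mod 5 and divisibility by 7 -/
theorem sum35 (u a : ℕ → ℂ) (s : ℂ) :
    ∑ k ∈ Finset.range 35, u (k % 5) * (if 7 ∣ k then a (k % 5) else s) =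
      (u 0 * a 0 + u 1 * a 1 + u 2 * a 2 + u 3 * a 3 + u 4 * a 4) +
        6 * s * (u 0 + u 1 + u 2 + u 3 + u 4) := by
  simp only [Finset.sum_range_succ, Finset.sum_range_zero]
  norm_num
  ring

/-- `‖ψ(g)‖² ≤ |C(g)|` for an irreducible character. -/
theorem norm_sq_le_card_centralizer {G : Type*} [Group G] [Finite G] (ψ : Cfsg.IrrCharacter G)
    (g : G) : ‖(ψ : G → ℂ) g‖ ^ 2 ≤ (Nat.card (Subgroup.centralizer ({g} : Set G)) : ℝ) := by
  classical
  haveI := Fintype.ofFinite G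
  haveI := Fintype.ofFinite (Cfsg.IrrCharacter G)
  have h := Cfsg.Agent.Lib.Helper80_CharComplete.second_orthogonality_sum g g
  rw [if_pos (IsConj.refl g)] at h
  have h2 : ∀ χ : Cfsg.IrrCharacter G, (χ : G → ℂ) g * conj ((χ : G → ℂ) g) =
      ((‖(χ : G → ℂ) g‖ ^ 2 : ℝ) : ℂ) := by
    intro χ
    rw [Complex.mul_conj, Complex.normSq_eq_norm_sq]
  rw [Finset.sum_congr rfl (fun χ _ => h2 χ), ← Complex.ofReal_sum] at h
  have h3 : ∑ χ : Cfsg.IrrCharacter G, ‖(χ : G → ℂ) g‖ ^ 2 =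
      (Nat.card (Subgroup.centralizer ({g} : Set G)) : ℝ) := by
    have : ((Nat.card (Subgroup.centralizer ({g} : Set G)) : ℝ) : ℂ) =
        (Nat.card (Subgroup.centralizer ({g} : Set G)) : ℂ) := by norm_cast
    rw [← this] at h
    exact Complex.ofReal_injective h
  rw [← h3]
  exact Finset.single_le_sum (f := fun χ : Cfsg.IrrCharacter G => ‖(χ : G → ℂ) g‖ ^ 2)
    (fun _ _ => by positivity) (Finset.mem_univ ψ)

theorem charDegree_oneIrr' {G : Type*} [Group G] [Finite G] :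
    charDegree ((oneIrr G : IrrCharacter G) : G → ℂ) = 1 := by
  apply Cfsg.Agent.Lib.Helper79_CharVals.charDegree_of_eq_natCast
  show (1 : ℂ) = ((1 : ℕ) : ℂ)
  simp

theorem z35_eig {G : Type*} [Group G] [Finite G] [IsSimpleGroup G]
    (hG : Nat.card G = 2520) (χ : Cfsg.IrrCharacter G) (s : ℤ)
    (hs : (Cfsg.charDegree (χ : G → ℂ) = 8 ∧ s = 1) ∨ (Cfsg.charDegree (χ : G → ℂ) = 6 ∧ s = -1))
    (x y : G) (hx : orderOf x = 7) (hy : orderOf y = 5) (hxy : x * y = y * x)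
    (hCy : Nat.card (Subgroup.centralizer ({y} : Set G)) = 35)
    (hval : ∀ i j : ℕ, ¬ 7 ∣ i → (χ : G → ℂ) (x ^ i * y ^ j) = (s : ℂ)) : False := by
  classical
  obtain ⟨n, ρ, hirr, hρ⟩ := χ.2
  have hone : ρ.character 1 = (n : ℂ) := by rw [Representation.char_one]; simp
  have hdn : Cfsg.charDegree (χ : G → ℂ) = n := by
    apply Cfsg.Agent.Lib.Helper79_CharVals.charDegree_of_eq_natCast
    rw [← hρ, hone]
  have hx7 : x ^ 7 = 1 := by rw [← hx, pow_orderOf_eq_one]
  have hy5 : y ^ 5 = 1 := by rw [← hy, pow_orderOf_eq_one]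
  have hcomm : Commute x y := hxy
  have hgk : ∀ k : ℕ, (x * y) ^ k = x ^ k * y ^ k := fun k => hcomm.mul_pow k
  have hg35 : (x * y) ^ 35 = 1 := by
    rw [hgk, show 35 = 7 * 5 from rfl, pow_mul, hx7, one_pow, one_mul, mul_comm 7 5, pow_mul, hy5,
      one_pow]
  obtain ⟨a, ha⟩ : ∃ a : ℕ → ℂ, ∀ t, a t = (χ : G → ℂ) (y ^ t) := ⟨_, fun t => rfl⟩
  have ha0 : a 0 = (n : ℂ) := by rw [ha, pow_zero, ← hρ, hone]
  have hyk : ∀ k : ℕ, y ^ k = y ^ (k % 5) := by
    intro k
    conv_lhs => rw [← Nat.div_add_mod k 5, pow_add, pow_mul, hy5, one_pow, one_mul]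
  have hvalg : ∀ k : ℕ, ρ.character ((x * y) ^ k) = if 7 ∣ k then a (k % 5) else (s : ℂ) := by
    intro k
    rw [hρ, hgk]
    split_ifs with h7
    · obtain ⟨q, rfl⟩ := h7
      rw [pow_mul, hx7, one_pow, one_mul, hyk, ha]
    · exact hval k k h7
  -- master identity
  have master : ∀ c : ℂ, c ^ 5 = 1 → ∃ m : ℕ,
      (a 0 + c * a 1 + c ^ 2 * a 2 + c ^ 3 * a 3 + c ^ 4 * a 4) +
        6 * (s : ℂ) * (1 + c + c ^ 2 + c ^ 3 + c ^ 4) = 35 * (m : ℂ) := by
    intro c hc5
    have hc35 : c ^ 35 = 1 := by rw [show 35 = 5 * 7 from rfl, pow_mul, hc5, one_pow]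
    have hck : ∀ k : ℕ, c ^ k = c ^ (k % 5) := by
      intro k
      conv_lhs => rw [← Nat.div_add_mod k 5, pow_add, pow_mul, hc5, one_pow, one_mul]
    have hsum := Cfsg.Agent.Lib.Helper10_N19_MULT.sum_twist_char_pow ρ (x * y) hg35 c hc35
      (by norm_num)
    refine ⟨Module.finrank ℂ (Module.End.eigenspace (ρ (x * y)) c⁻¹), ?_⟩
    rw [← show ((35 : ℕ) : ℂ) = 35 by norm_num, ← hsum]
    rw [Finset.sum_congr rfl (fun k _ => by rw [hvalg k, hck k])]
    rw [sum35 (fun t => c ^ t) a (s : ℂ)]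
    simp only [pow_zero, pow_one, one_mul]
  have hbound : ∀ t, ‖a t‖ ≤ (n : ℝ) := by
    intro t
    rw [ha, ← hρ]
    have := Cfsg.Agent.Lib.Helper3_CharEigen.norm_char_le ρ (y ^ t)
    rwa [Module.finrank_fin_fun] at this
  have hna : ¬ ∀ u v : G, u * v = v * u :=
    Cfsg.Agent.Lib.Helper15_B6Group.not_comm_of_simple (p := 7) (by norm_num)
      (by rw [hG]; norm_num) (by rw [hG]; norm_num)
  have hy1 : y ≠ 1 := by
    rintro rfl
    rw [orderOf_one] at hy
    omega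
  rcases hs with ⟨hd, hs1⟩ | ⟨hd, hs1⟩
  · -- degree 8
    have hn8 : n = 8 := by rw [← hdn, hd]
    subst hs1
    -- the centralizers of the powers of y
    have hcent : ∀ t : ℕ, (t = 1 ∨ t = 2 ∨ t = 3 ∨ t = 4) →
        Subgroup.centralizer ({y ^ t} : Set G) = Subgroup.centralizer ({y} : Set G) := by
      intro t ht
      obtain ⟨t', ht'⟩ : ∃ t' : ℕ, (y ^ t) ^ t' = y := by
        rcases ht with rfl | rfl | rfl | rfl
        · exact ⟨1, by rw [pow_one, pow_one]⟩
        · exact ⟨3, by rw [← pow_mul, hyk]; norm_num⟩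
        · exact ⟨2, by rw [← pow_mul, hyk]; norm_num⟩
        · exact ⟨4, by rw [← pow_mul, hyk]; norm_num⟩
      ext z
      simp only [Subgroup.mem_centralizer_iff, Set.mem_singleton_iff, forall_eq]
      constructor
      · intro hz
        have : Commute (y ^ t) z := hz
        have h2 := this.pow_left t'
        rw [ht'] at h2
        exact h2
      · intro hz
        have : Commute y z := hz
        exact this.pow_left t
    have hsq : ∀ t : ℕ, (t = 1 ∨ t = 2 ∨ t = 3 ∨ t = 4) → ‖a t‖ < 6 := by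
      intro t ht
      have h1 := norm_sq_le_card_centralizer χ (y ^ t)
      rw [hcent t ht, hCy, ← ha] at h1
      have h2 : ‖a t‖ ^ 2 < 6 ^ 2 := by
        have : ((35 : ℕ) : ℝ) = 35 := by norm_num
        rw [this] at h1
        linarith
      exact lt_of_pow_lt_pow_left₀ 2 (by norm_num) h2
    have h1 := hsq 1 (Or.inl rfl)
    have h2 := hsq 2 (Or.inr (Or.inl rfl))
    have h3 := hsq 3 (Or.inr (Or.inr (Or.inl rfl)))
    have h4 := hsq 4 (Or.inr (Or.inr (Or.inr rfl)))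
    have ha0' : a 0 = 8 := by rw [ha0, hn8]; norm_num
    -- vanishing at the primitive 5th roots of unity
    have vanish : ∀ c : ℂ, c ^ 5 = 1 → 1 + c + c ^ 2 + c ^ 3 + c ^ 4 = 0 →
        a 0 + c * a 1 + c ^ 2 * a 2 + c ^ 3 * a 3 + c ^ 4 * a 4 = 0 := by
      intro c hc5 hc0
      obtain ⟨m, hm⟩ := master c hc5
      rw [hc0, mul_zero, add_zero] at hm
      have hcn : ‖c‖ = 1 := by
        have : ‖c‖ ^ 5 = 1 := by rw [← norm_pow, hc5, norm_one]
        exact (pow_eq_one_iff_of_nonneg (norm_nonneg c) (by norm_num)).mp this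
      have hle : ‖a 0 + c * a 1 + c ^ 2 * a 2 + c ^ 3 * a 3 + c ^ 4 * a 4‖ < 35 := by
        have e1 : ‖c * a 1‖ = ‖a 1‖ := by rw [norm_mul, hcn, one_mul]
        have e2 : ‖c ^ 2 * a 2‖ = ‖a 2‖ := by rw [norm_mul, norm_pow, hcn, one_pow, one_mul]
        have e3 : ‖c ^ 3 * a 3‖ = ‖a 3‖ := by rw [norm_mul, norm_pow, hcn, one_pow, one_mul]
        have e4 : ‖c ^ 4 * a 4‖ = ‖a 4‖ := by rw [norm_mul, norm_pow, hcn, one_pow, one_mul]
        have e0 : ‖a 0‖ = 8 := by rw [ha0']; norm_num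
        calc ‖a 0 + c * a 1 + c ^ 2 * a 2 + c ^ 3 * a 3 + c ^ 4 * a 4‖
            ≤ ‖a 0‖ + ‖c * a 1‖ + ‖c ^ 2 * a 2‖ + ‖c ^ 3 * a 3‖ + ‖c ^ 4 * a 4‖ := by
              refine (norm_add_le _ _).trans ?_
              gcongr
              refine (norm_add_le _ _).trans ?_
              gcongr
              refine (norm_add_le _ _).trans ?_
              gcongr
              exact norm_add_le _ _
          _ < 35 := by rw [e0, e1, e2, e3, e4]; linarith
      rw [hm] at hle ⊢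
      have : (m : ℝ) < 1 := by
        have h35 : ‖(35 : ℂ) * (m : ℂ)‖ = 35 * (m : ℝ) := by
          rw [norm_mul, Complex.norm_natCast]; norm_num
        rw [h35] at hle
        linarith
      have hm0 : m = 0 := by
        have : m < 1 := by exact_mod_cast this
        omega
      rw [hm0]; simp
    obtain ⟨ζ, hζ⟩ : ∃ ζ : ℂ, IsPrimitiveRoot ζ 5 := ⟨_, Complex.isPrimitiveRoot_exp 5 (by norm_num)⟩
    have hζ5 : ζ ^ 5 = 1 := hζ.pow_eq_one
    have h0 : 1 + ζ + ζ ^ 2 + ζ ^ 3 + ζ ^ 4 = 0 := by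
      have := hζ.geom_sum_eq_zero (by norm_num)
      simpa [Finset.sum_range_succ] using this
    have hP1 := vanish ζ hζ5 h0
    have hP2 := vanish (ζ ^ 2) (by rw [← pow_mul, mul_comm, pow_mul, hζ5, one_pow])
      (by linear_combination h0 + (ζ + ζ ^ 3) * hζ5)
    have hP3 := vanish (ζ ^ 3) (by rw [← pow_mul, mul_comm, pow_mul, hζ5, one_pow])
      (by linear_combination h0 + (ζ + ζ ^ 4 + ζ ^ 2 * (ζ ^ 5 + 1)) * hζ5)
    have hP4 := vanish (ζ ^ 4) (by rw [← pow_mul, mul_comm, pow_mul, hζ5, one_pow])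
      (by linear_combination h0 + (ζ ^ 3 + ζ ^ 2 * (ζ ^ 5 + 1) + ζ * (ζ ^ 10 + ζ ^ 5 + 1)) * hζ5)
    have hS : a 1 + a 2 + a 3 + a 4 = 32 := by
      have key : a 0 + (a 1 + a 2 + a 3 + a 4) = 5 * a 0 := by
        linear_combination (a 1 + a 2 + a 3 + a 4) * h0 - hP1 - hP2 - hP3 - hP4 +
          (a 3 * ζ + a 4 * ζ ^ 3 + a 2 * ζ + a 4 * ζ ^ 2 * (ζ ^ 5 + 1) + a 3 * ζ ^ 4 +
            a 2 * ζ ^ 3 + a 3 * ζ ^ 2 * (ζ ^ 5 + 1) + a 4 * ζ * (ζ ^ 10 + ζ ^ 5 + 1)) * hζ5
      rw [ha0'] at key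
      linear_combination key
    have : ‖a 1 + a 2 + a 3 + a 4‖ < 24 := by
      calc ‖a 1 + a 2 + a 3 + a 4‖ ≤ ‖a 1‖ + ‖a 2‖ + ‖a 3‖ + ‖a 4‖ := by
            refine (norm_add_le _ _).trans ?_
            gcongr
            refine (norm_add_le _ _).trans ?_
            gcongr
            exact norm_add_le _ _
        _ < 24 := by linarith
    rw [hS] at this
    norm_num at this
  · -- degree 6
    have hn6 : n = 6 := by rw [← hdn, hd]
    subst hs1
    have hb : ∀ t, ‖a t‖ ≤ 6 := by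
      intro t
      have := hbound t
      rw [hn6] at this
      norm_num at this
      exact this
    obtain ⟨m, hm⟩ := master 1 (one_pow 5)
    have ha0' : a 0 = 6 := by rw [ha0, hn6]; norm_num
    have hS : a 1 + a 2 + a 3 + a 4 = ((24 + 35 * m : ℕ) : ℂ) := by
      push_cast
      rw [ha0'] at hm
      linear_combination hm
    have hle : ‖a 1 + a 2 + a 3 + a 4‖ ≤ ‖a 1‖ + ‖a 2‖ + ‖a 3‖ + ‖a 4‖ := by
      refine (norm_add_le _ _).trans ?_
      gcongr
      refine (norm_add_le _ _).trans ?_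
      gcongr
      exact norm_add_le _ _
    rw [hS, Complex.norm_natCast] at hle
    have h1 := hb 1
    have h2 := hb 2
    have h3 := hb 3
    have h4 := hb 4
    have hm0 : ((24 + 35 * m : ℕ) : ℝ) ≤ 24 := by linarith
    have hm0' : m = 0 := by
      have : 24 + 35 * m ≤ 24 := by exact_mod_cast hm0
      omega
    subst hm0'
    have h6 : ‖a 1‖ = 6 := by
      have : ((24 + 35 * 0 : ℕ) : ℝ) = 24 := by norm_num
      rw [this] at hle
      linarith
    have hχ1 : χ ≠ oneIrr G := by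
      intro h
      rw [h, charDegree_oneIrr'] at hd
      omega
    apply Cfsg.Agent.Lib.Helper74_CharTools.not_norm_eq hna χ hχ1 y hy1
    rw [hd]
    have : a 1 = (χ : G → ℂ) y := by rw [ha, pow_one]
    rw [← this, h6]
    norm_num

end Cfsg.Agent.Lib.Helper2_A7_Z35EIG
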