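import Mathlib
import Cfsg.Prelude.Def_GeometricClasses
import Cfsg.Agent.Lib.Helper30_AschMax

set_option autoImplicit false

/-!
The special linear group `SL_n(F)`, `n ≥ 3`, is not contained in the similarity group of a non-degenerate
symplectic form (the class-8 member missing from `Helper30_AschMax`, needed for even `n`).
-/

namespace Cfsg.Agent.Lib.Helper2_AschSymp

open Matrix Module Cfsg.Geo Cfsg.Agent.Lib.Helper30_AschMax

variable {F : Type*} [Field F] {n : ℕ}

theorem not_le_similarityGroup_symp (hn : 3 ≤ n) {f : (Fin n → F) → (Fin n → F) → F}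
    (hf : IsSymplecticForm f) : ¬ specialLinear (Fin n) F ≤ similarityGroup f := by
  classical
  intro hle
  obtain ⟨w, hw⟩ : ∃ w : Fin n → F, w ≠ 0 := by
    refine ⟨Pi.single ⟨0, by omega⟩ 1, ?_⟩
    intro h
    have := congrFun h ⟨0, by omega⟩
    simp at this
  obtain ⟨x₀, hx₀⟩ := (hf.nondegenerate w hw).1
  set S := Submodule.span F ({w, x₀} : Set (Fin n → F)) with hSdef
  have hS : S ≠ ⊤ := by
    intro h
    have h1 : finrank F S ≤ 2 := by
      have := finrank_span_finset_le_card (R := F) ({w, x₀} : Finset (Fin n → F))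
      have h2 : (({w, x₀} : Finset (Fin n → F)) : Set (Fin n → F)) = {w, x₀} := by simp
      rw [h2] at this
      exact this.trans (Finset.card_le_two)
    rw [h, finrank_top, Module.finrank_fin_fun] at h1
    omega
  obtain ⟨y, -, hy⟩ := SetLike.exists_of_lt (lt_top_iff_ne_top.mpr hS)
  obtain ⟨φ, hφy, hφS⟩ := Submodule.exists_le_ker_of_notMem hy
  have hφw : φ w = 0 := hφS (Submodule.subset_span (by simp))
  have hφx : φ x₀ = 0 := hφS (Submodule.subset_span (by simp))
  obtain ⟨c, hc⟩ := hle (tv_mem w φ hφw)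
  have h1 := hc w x₀
  rw [tv_mulVec, tv_mulVec, hφw, hφx, zero_smul, add_zero, add_zero] at h1
  have hwx : f w x₀ ≠ 0 := by
    rw [hf.skew]
    exact neg_ne_zero.2 hx₀
  have hc1 : (c : F) = 1 := by
    have : ((c : F) - 1) * f w x₀ = 0 := by linear_combination -h1
    rcases mul_eq_zero.1 this with h | h
    · exact sub_eq_zero.1 h
    · exact absurd h hwx
  have h2 := hc x₀ y
  rw [tv_mulVec, tv_mulVec, hφx, zero_smul, add_zero, hc1, one_mul, hf.bilinear.add_right,
    hf.bilinear.smul_right] at h2
  have h3 : φ y * f x₀ w = 0 := by linear_combination h2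
  rcases mul_eq_zero.1 h3 with h | h
  · exact hφy h
  · exact hx₀ h

end Cfsg.Agent.Lib.Helper2_AschSymp
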