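import Mathlib
import Cfsg.Prelude.Def_GeometricClasses
import Cfsg.Agent.Lib.Helper98_Decomp

/-!
helper30: the stabiliser of a decomposition of `F^n` into lines, for `|F| ≤ 4`, lies in the stabiliser of a
line (`|F| = 2`), in the similarity group of a non-degenerate quadratic form (`|F| = 3`) or of a non-degenerate
unitary form (`|F| = 4`).
-/

set_option autoImplicit false

namespace Cfsg.Agent.Lib.Helper30_AschDecomp

open Matrix Cfsg.Geo Cfsg.Agent.Lib.Helper98_Decomp

variable {F : Type*} [Field F] {n t : ℕ} {D : Fin t → Submodule F (Fin n → F)}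
  (hD : IsMDecomposition 1 D)

/-- the coordinate along the `i`-th line -/
noncomputable abbrev cx (i : Fin t) : (Fin n → F) →ₗ[F] F := co hD i 0

/-- the basis vector of the `i`-th line -/
noncomputable abbrev bx (i : Fin t) : Fin n → F := bas hD ⟨i, 0⟩

lemma cx_bx (i k : Fin t) : cx hD i (bx hD k) = if k = i then 1 else 0 := by
  rw [cx, bx, co_bas]
  simp

lemma eq_zero_of_cx (x : Fin n → F) (h : ∀ i, cx hD i x = 0) : x = 0 := by
  rw [← (bas hD).forall_coord_eq_zero_iff]
  rintro ⟨i, j⟩
  have hj : j = 0 := Subsingleton.elim _ _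
  subst hj
  exact h i

lemma ext_cx (x y : Fin n → F) (h : ∀ i, cx hD i x = cx hD i y) : x = y := by
  rw [← sub_eq_zero]
  apply eq_zero_of_cx hD
  intro i
  rw [map_sub, h i, sub_self]

lemma sum_cx (x : Fin n → F) : ∑ i, cx hD i x • bx hD i = x := by
  apply ext_cx hD
  intro k
  rw [map_sum]
  simp only [map_smul, smul_eq_mul, cx_bx]
  rw [Finset.sum_eq_single k]
  · simp
  · intro i _ hik
    rw [if_neg hik, mul_zero]
  · intro h
    exact absurd (Finset.mem_univ k) h

lemma exists_cx_ne {x : Fin n → F} (hx : x ≠ 0) : ∃ i, cx hD i x ≠ 0 := by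
  by_contra hcon
  push Not at hcon
  exact hx (eq_zero_of_cx hD x hcon)

/-- elements of the stabiliser act monomially -/
lemma stab_monomial {g : GL (Fin n) F} {σ : Equiv.Perm (Fin t)}
    (hσ : ∀ i, (D i).map (Matrix.toLin' (g : Matrix (Fin n) (Fin n) F)) = D (σ i)) :
    ∃ l : Fin t → F, (∀ i, l i ≠ 0) ∧
      ∀ x i, cx hD (σ i) ((g : Matrix (Fin n) (Fin n) F) *ᵥ x) = l i * cx hD i x := by
  refine ⟨fun i => cx hD (σ i) ((g : Matrix (Fin n) (Fin n) F) *ᵥ bx hD i), ?_, ?_⟩
  · intro i hi
    have hmem : (g : Matrix (Fin n) (Fin n) F) *ᵥ bx hD i ∈ D (σ i) :=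
      stab_mulVec_mem hσ (bas_mem hD i 0)
    have h0 : (g : Matrix (Fin n) (Fin n) F) *ᵥ bx hD i = 0 := by
      apply eq_zero_of_cx hD
      intro k
      by_cases hk : k = σ i
      · rw [hk]; exact hi
      · exact co_of_mem_ne hD hmem (fun h => hk h.symm) 0
    have h1 : bx hD i = 0 := by
      have := congrArg (fun v => ((g⁻¹ : GL (Fin n) F) : Matrix (Fin n) (Fin n) F) *ᵥ v) h0
      simpa [Matrix.mulVec_mulVec, ← Units.val_mul] using this
    have h2 := cx_bx hD i i
    rw [h1, map_zero, if_pos rfl] at h2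
    exact zero_ne_one h2
  · intro x i
    conv_lhs => rw [← sum_cx hD x]
    rw [Matrix.mulVec_sum]
    rw [map_sum]
    simp only [Matrix.mulVec_smul, map_smul, smul_eq_mul]
    rw [Finset.sum_eq_single i]
    · ring
    · intro k _ hki
      have hmem : (g : Matrix (Fin n) (Fin n) F) *ᵥ bx hD k ∈ D (σ k) :=
        stab_mulVec_mem hσ (bas_mem hD k 0)
      have : cx hD (σ i) ((g : Matrix (Fin n) (Fin n) F) *ᵥ bx hD k) = 0 :=
        co_of_mem_ne hD hmem (fun h => hki (σ.injective h)) 0
      rw [this, mul_zero]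
    · intro h
      exact absurd (Finset.mem_univ i) h


/-! ### `|F| = 2`: the sum of the basis vectors is fixed -/

section Two

variable [Fintype F]

include hD in
theorem case_two (hq : Fintype.card F = 2) :
    ∃ W : Submodule F (Fin n → F), W ≠ ⊥ ∧ W ≠ ⊤ ∧ decompositionStabilizer D ≤ subspaceStabilizer W := by
  have ht := hD.two_le
  have htn : t * 1 = n := card_eq hD
  have hone : ∀ a : F, a ≠ 0 → a = 1 := by
    intro a ha
    have := FiniteField.pow_card_sub_one_eq_one a ha
    rwa [hq, Nat.add_one_sub_one, pow_one] at this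
  set u : Fin n → F := ∑ i, bx hD i with hu
  have hcu : ∀ k, cx hD k u = 1 := by
    intro k
    rw [hu, map_sum]
    simp only [cx_bx]
    rw [Finset.sum_eq_single k]
    · simp
    · intro i _ hik
      rw [if_neg hik]
    · intro h
      exact absurd (Finset.mem_univ k) h
  have hu0 : u ≠ 0 := by
    intro h
    have := hcu ⟨0, by omega⟩
    rw [h, map_zero] at this
    exact zero_ne_one this
  refine ⟨Submodule.span F {u}, ?_, ?_, ?_⟩
  · intro h
    have : u ∈ Submodule.span F {u} := Submodule.mem_span_singleton_self u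
    rw [h, Submodule.mem_bot] at this
    exact hu0 this
  · intro h
    have h2 := finrank_span_singleton (K := F) hu0
    rw [h, finrank_top, Module.finrank_fin_fun] at h2
    omega
  · rintro g ⟨σ, hσ⟩
    obtain ⟨l, hl0, hl⟩ := stab_monomial hD hσ
    have hgu : (g : Matrix (Fin n) (Fin n) F) *ᵥ u = u := by
      apply ext_cx hD
      intro k
      have := hl u (σ.symm k)
      rw [Equiv.apply_symm_apply] at this
      rw [this, hcu, hcu, mul_one]
      exact hone _ (hl0 _)
    intro v
    show v ∈ Submodule.span F {u} ↔ (g : Matrix (Fin n) (Fin n) F) *ᵥ v ∈ Submodule.span F {u}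
    constructor
    · intro hv
      obtain ⟨a, rfl⟩ := Submodule.mem_span_singleton.mp hv
      rw [Matrix.mulVec_smul, hgu]
      exact Submodule.smul_mem _ _ (Submodule.mem_span_singleton_self u)
    · intro hv
      obtain ⟨a, ha⟩ := Submodule.mem_span_singleton.mp hv
      have h1 : (g : Matrix (Fin n) (Fin n) F) *ᵥ (a • u) = (g : Matrix (Fin n) (Fin n) F) *ᵥ v := by
        rw [Matrix.mulVec_smul, hgu, ha]
      have h2 := congrArg (fun w => ((g⁻¹ : GL (Fin n) F) : Matrix (Fin n) (Fin n) F) *ᵥ w) h1
      simp only [Matrix.mulVec_mulVec, ← Units.val_mul, inv_mul_cancel, Units.val_one,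
        Matrix.one_mulVec] at h2
      rw [← h2]
      exact Submodule.smul_mem _ _ (Submodule.mem_span_singleton_self u)

end Two

/-! ### `|F| = 3`: the sum of squares of the coordinates -/

section Three

variable [Fintype F]

/-- the sum of the squares of the coordinates -/
noncomputable def sqForm (x : Fin n → F) : F := ∑ i, (cx hD i x) ^ 2

omit [Fintype F] in
lemma polar_sqForm (x y : Fin n → F) :
    QuadraticMap.polar (sqForm hD) x y = 2 * ∑ i, cx hD i x * cx hD i y := by
  unfold QuadraticMap.polar sqForm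
  rw [Finset.mul_sum, ← Finset.sum_sub_distrib, ← Finset.sum_sub_distrib]
  apply Finset.sum_congr rfl
  intro i _
  rw [map_add]
  ring

omit [Fintype F] in
theorem sqForm_nondeg (h2 : (2 : F) ≠ 0) : IsNondegenerateQuadraticForm (sqForm hD) := by
  refine ⟨?_, ⟨?_, ?_, ?_, ?_⟩, ?_⟩
  · intro c v
    unfold sqForm
    rw [Finset.mul_sum]
    apply Finset.sum_congr rfl
    intro i _
    rw [map_smul, smul_eq_mul, mul_pow]
  · intro x y v
    rw [polar_sqForm, polar_sqForm, polar_sqForm, ← mul_add, ← Finset.sum_add_distrib]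
    congr 1
    apply Finset.sum_congr rfl
    intro i _
    rw [map_add]; ring
  · intro c x v
    rw [polar_sqForm, polar_sqForm, Finset.mul_sum, Finset.mul_sum, Finset.mul_sum]
    apply Finset.sum_congr rfl
    intro i _
    rw [map_smul, smul_eq_mul]; ring
  · intro v x y
    rw [polar_sqForm, polar_sqForm, polar_sqForm, ← mul_add, ← Finset.sum_add_distrib]
    congr 1
    apply Finset.sum_congr rfl
    intro i _
    rw [map_add]; ring
  · intro c v x
    rw [polar_sqForm, polar_sqForm, Finset.mul_sum, Finset.mul_sum, Finset.mul_sum]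
    apply Finset.sum_congr rfl
    intro i _
    rw [map_smul, smul_eq_mul]; ring
  · intro v hv
    obtain ⟨i₀, hi₀⟩ := exists_cx_ne hD hv
    have key : ∑ i, cx hD i (bx hD i₀) * cx hD i v = cx hD i₀ v := by
      simp only [cx_bx]
      rw [Finset.sum_eq_single i₀]
      · simp
      · intro i _ hi
        rw [if_neg (fun h => hi h.symm), zero_mul]
      · intro h
        exact absurd (Finset.mem_univ i₀) h
    constructor
    · refine ⟨bx hD i₀, ?_⟩
      rw [polar_sqForm, key]
      exact mul_ne_zero h2 hi₀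
    · refine ⟨bx hD i₀, ?_⟩
      rw [polar_sqForm]
      have : ∑ i, cx hD i v * cx hD i (bx hD i₀) = cx hD i₀ v := by
        rw [← key]
        apply Finset.sum_congr rfl
        intro i _
        ring
      rw [this]
      exact mul_ne_zero h2 hi₀

include hD in
theorem case_three (hq : Fintype.card F = 3) :
    Odd (Fintype.card F) ∧ ∃ Q : (Fin n → F) → F, IsNondegenerateQuadraticForm Q ∧
      decompositionStabilizer D ≤ quadSimilarityGroup Q := by
  have h3 : (3 : F) = 0 := by
    have := FiniteField.cast_card_eq_zero F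
    rw [hq] at this
    exact_mod_cast this
  have h2 : (2 : F) ≠ 0 := by
    intro h
    apply one_ne_zero (α := F)
    linear_combination h3 - h
  refine ⟨by rw [hq]; decide, sqForm hD, sqForm_nondeg hD h2, ?_⟩
  rintro g ⟨σ, hσ⟩
  obtain ⟨l, hl0, hl⟩ := stab_monomial hD hσ
  refine ⟨1, fun v => ?_⟩
  rw [Units.val_one, one_mul]
  unfold sqForm
  rw [← Equiv.sum_comp σ]
  apply Finset.sum_congr rfl
  intro i _
  rw [hl, mul_pow]
  have := FiniteField.pow_card_sub_one_eq_one (l i) (hl0 i)
  rw [hq] at this
  rw [show (3 - 1 : ℕ) = 2 from rfl] at this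
  rw [this, one_mul]

end Three

/-! ### `|F| = 4`: the standard hermitian form in the coordinates -/

section Four

variable [Fintype F]

/-- the squaring automorphism of a field with four elements -/
def sq4 (h2 : (2 : F) = 0) (h4 : ∀ a : F, a ^ 4 = a) : F ≃+* F where
  toFun a := a ^ 2
  invFun a := a ^ 2
  left_inv a := by
    show (a ^ 2) ^ 2 = a
    rw [← pow_mul]; exact h4 a
  right_inv a := by
    show (a ^ 2) ^ 2 = a
    rw [← pow_mul]; exact h4 a
  map_mul' a b := mul_pow a b 2
  map_add' a b := by
    have : (a + b) ^ 2 = a ^ 2 + b ^ 2 + 2 * (a * b) := by ring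
    rw [this, h2, zero_mul, add_zero]

omit [Fintype F] in
lemma sq4_apply (h2 : (2 : F) = 0) (h4 : ∀ a : F, a ^ 4 = a) (a : F) : sq4 h2 h4 a = a ^ 2 := rfl

/-- the hermitian form `∑ x_i y_i^2` in the coordinates -/
noncomputable def hForm (x y : Fin n → F) : F := ∑ i, cx hD i x * (cx hD i y) ^ 2

include hD in
theorem case_four (hq : Fintype.card F = 4) :
    ∃ (σ : F ≃+* F) (f : (Fin n → F) → (Fin n → F) → F), IsUnitaryForm σ f ∧
      decompositionStabilizer D ≤ similarityGroup f := by
  classical
  have h4c : (4 : F) = 0 := by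
    have := FiniteField.cast_card_eq_zero F
    rw [hq] at this
    exact_mod_cast this
  have h2 : (2 : F) = 0 := by
    have : (2 : F) * 2 = 0 := by linear_combination h4c
    exact mul_self_eq_zero.mp this
  have h4 : ∀ a : F, a ^ 4 = a := by
    intro a
    have := FiniteField.pow_card a
    rwa [hq] at this
  refine ⟨sq4 h2 h4, hForm hD, ⟨?_, ?_, ?_, ?_, ?_, ?_⟩, ?_⟩
  · intro hrefl
    have hall : ∀ a : F, a = 0 ∨ a = 1 := by
      intro a
      have h1 : sq4 h2 h4 a = a := by rw [hrefl]; rfl
      rw [sq4_apply] at h1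
      have h3 : a * (a - 1) = 0 := by linear_combination h1
      rcases mul_eq_zero.mp h3 with h | h
      · exact Or.inl h
      · exact Or.inr (sub_eq_zero.mp h)
    have hsub : (Finset.univ : Finset F) ⊆ {0, 1} := by
      intro a _
      rcases hall a with h | h
      · simp [h]
      · simp [h]
    have := Finset.card_le_card hsub
    rw [Finset.card_univ, hq] at this
    have h5 : ({0, 1} : Finset F).card ≤ 2 := Finset.card_le_two
    omega
  · intro a
    rw [sq4_apply, sq4_apply, ← pow_mul]
    exact h4 a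
  · intro x y v
    unfold hForm
    rw [← Finset.sum_add_distrib]
    apply Finset.sum_congr rfl
    intro i _
    rw [map_add]; ring
  · intro c x v
    unfold hForm
    rw [Finset.mul_sum]
    apply Finset.sum_congr rfl
    intro i _
    rw [map_smul, smul_eq_mul]; ring
  · intro v w
    unfold hForm
    rw [map_sum]
    apply Finset.sum_congr rfl
    intro i _
    rw [map_mul, map_pow, sq4_apply, sq4_apply, ← pow_mul, h4]
    ring
  · intro v hv
    obtain ⟨i₀, hi₀⟩ := exists_cx_ne hD hv
    constructor
    · refine ⟨bx hD i₀, ?_⟩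
      unfold hForm
      simp only [cx_bx]
      rw [Finset.sum_eq_single i₀]
      · simpa using hi₀
      · intro i _ hi
        rw [if_neg (fun h => hi h.symm), zero_mul]
      · intro h
        exact absurd (Finset.mem_univ i₀) h
    · refine ⟨bx hD i₀, ?_⟩
      unfold hForm
      simp only [cx_bx]
      rw [Finset.sum_eq_single i₀]
      · simpa using hi₀
      · intro i _ hi
        rw [if_neg (fun h => hi h.symm)]
        simp
      · intro h
        exact absurd (Finset.mem_univ i₀) h
  · rintro g ⟨σ, hσ⟩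
    obtain ⟨l, hl0, hl⟩ := stab_monomial hD hσ
    refine ⟨1, fun u v => ?_⟩
    rw [Units.val_one, one_mul]
    unfold hForm
    rw [← Equiv.sum_comp σ]
    apply Finset.sum_congr rfl
    intro i _
    rw [hl, hl, mul_pow]
    have := FiniteField.pow_card_sub_one_eq_one (l i) (hl0 i)
    rw [hq] at this
    rw [show (4 - 1 : ℕ) = 3 from rfl] at this
    calc l i * cx hD i u * (l i ^ 2 * cx hD i v ^ 2)
        = l i ^ 3 * (cx hD i u * cx hD i v ^ 2) := by ring
      _ = cx hD i u * cx hD i v ^ 2 := by rw [this, one_mul]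

end Four

/-! ### the three cases together -/

include hD in
theorem decomp_small [Fintype F] (hq : Fintype.card F ≤ 4) :
    (∃ W : Submodule F (Fin n → F), W ≠ ⊥ ∧ W ≠ ⊤ ∧ decompositionStabilizer D ≤ subspaceStabilizer W) ∨
    (Odd (Fintype.card F) ∧ ∃ Q : (Fin n → F) → F, IsNondegenerateQuadraticForm Q ∧
      decompositionStabilizer D ≤ quadSimilarityGroup Q) ∨
    (∃ (σ : F ≃+* F) (f : (Fin n → F) → (Fin n → F) → F), IsUnitaryForm σ f ∧
      decompositionStabilizer D ≤ similarityGroup f) := by
  have h2 : 2 ≤ Fintype.card F := Fintype.one_lt_card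
  obtain h | h | h : Fintype.card F = 2 ∨ Fintype.card F = 3 ∨ Fintype.card F = 4 := by omega
  · exact Or.inl (case_two hD h)
  · exact Or.inr (Or.inl (case_three hD h))
  · exact Or.inr (Or.inr (case_four hD h))

end Cfsg.Agent.Lib.Helper30_AschDecomp
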