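import Mathlib
import Cfsg.Prelude.Def_GeometricClasses
import Cfsg.Agent.Lib.Helper30_AschMax
import Cfsg.Agent.Lib.Helper30_AschDecomp

/-!
helper30: maximal subgroups of `SL_n(F)`, `n` an odd prime, from Aschbacher's theorem (frozen S5630, taken as a
hypothesis `AschHyp`).
-/

set_option autoImplicit false

namespace Cfsg.Agent.Lib.Helper30_AschPrime

open Matrix Cfsg.Geo Cfsg.Agent.Lib.Helper98_Decomp Cfsg.Agent.Lib.Helper30_AschMax
  Cfsg.Agent.Lib.Helper30_AschDecomp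

/-- the statement of Aschbacher's theorem for subgroups of `SL_n(F)` (frozen S5630) -/
def AschHyp (n : ℕ) (F : Type*) [Field F] [Fintype F] : Prop :=
  ∀ H : Subgroup (GL (Fin n) F), H ≤ specialLinear (Fin n) F →
    H ⊔ (scalars (Fin n) F ⊓ specialLinear (Fin n) F) ≠ specialLinear (Fin n) F →
    (∃ M : Subgroup (GL (Fin n) F), InLinearClass n F M ∧ H ≤ M) ∨ InLinearResidualClass H

variable {F : Type*} [Field F] [Fintype F] {n : ℕ}

lemma two_ne_zero_of_odd_card (hodd : Odd (Fintype.card F)) : (2 : F) ≠ 0 := by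
  intro h2
  have h : ringChar F = 2 := CharP.ringChar_of_prime_eq_zero Nat.prime_two (by exact_mod_cast h2)
  have := FiniteField.even_card_of_char_two h
  rw [Nat.odd_iff] at hodd
  omega

lemma eq_of_prime_dvd_prime {a b : ℕ} (ha : 2 ≤ a) (hb : b.Prime) (h : a ∣ b) : a = b := by
  rcases (Nat.dvd_prime hb).mp h with h1 | h1
  · omega
  · exact h1

theorem prime_cases (hnp : n.Prime) (hn : 3 ≤ n) (hA : AschHyp n F)
    (H : Subgroup (GL (Fin n) F)) (hH : IsMaximalIn (specialLinear (Fin n) F) H) :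
    (∃ W : Submodule F (Fin n → F), W ≠ ⊥ ∧ W ≠ ⊤ ∧
      H = subspaceStabilizer W ⊓ specialLinear (Fin n) F) ∨
    (5 ≤ Fintype.card F ∧ ∃ D : Fin n → Submodule F (Fin n → F), IsMDecomposition 1 D ∧
      H = decompositionStabilizer D ⊓ specialLinear (Fin n) F) ∨
    (∃ K : Subalgebra F (Matrix (Fin n) (Fin n) F), IsFieldSubalgebra n K ∧
      H = subalgebraNormalizer K ⊓ specialLinear (Fin n) F) ∨
    (∃ (F₀ : Subfield F) (r : ℕ) (P : GL (Fin n) F), r.Prime ∧ Fintype.card F = Nat.card F₀ ^ r ∧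
      H = subfieldSubgroup F₀ P ⊓ specialLinear (Fin n) F) ∨
    (∃ R : Subgroup (GL (Fin n) F), IsLinearSymplecticTypeData n R ∧
      H = subgroupNormalizer R ⊓ specialLinear (Fin n) F) ∨
    (Odd (Fintype.card F) ∧ ∃ Q : (Fin n → F) → F, IsNondegenerateQuadraticForm Q ∧
      H = quadSimilarityGroup Q ⊓ specialLinear (Fin n) F) ∨
    (∃ (σ : F ≃+* F) (f : (Fin n → F) → (Fin n → F) → F), IsUnitaryForm σ f ∧
      H = similarityGroup f ⊓ specialLinear (Fin n) F) ∨
    InLinearResidualClass H := by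
  have hn2 : 2 ≤ n := by omega
  rcases hA H hH.1.le (sup_scalars_ne hn hH) with ⟨M, hM, hHM⟩ | hres
  swap
  · exact Or.inr (Or.inr (Or.inr (Or.inr (Or.inr (Or.inr (Or.inr hres))))))
  -- the three recurring conclusions
  have cStab : ∀ W : Submodule F (Fin n → F), W ≠ ⊥ → W ≠ ⊤ → H ≤ subspaceStabilizer W →
      ∃ W : Submodule F (Fin n → F), W ≠ ⊥ ∧ W ≠ ⊤ ∧ H = subspaceStabilizer W ⊓ specialLinear (Fin n) F :=
    fun W h0 h1 hle => ⟨W, h0, h1, eq_inf_of_le hH hle (not_le_subspaceStabilizer W h0 h1)⟩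
  have cQuad : ∀ Q : (Fin n → F) → F, Odd (Fintype.card F) → IsNondegenerateQuadraticForm Q →
      H ≤ quadSimilarityGroup Q →
      (Odd (Fintype.card F) ∧ ∃ Q : (Fin n → F) → F, IsNondegenerateQuadraticForm Q ∧
        H = quadSimilarityGroup Q ⊓ specialLinear (Fin n) F) :=
    fun Q hodd hQ hle => ⟨hodd, Q, hQ, eq_inf_of_le hH hle
      (not_le_quadSimilarityGroup hn2 (two_ne_zero_of_odd_card hodd) hQ)⟩
  have cUni : ∀ (σ : F ≃+* F) (f : (Fin n → F) → (Fin n → F) → F), IsUnitaryForm σ f →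
      H ≤ similarityGroup f →
      ∃ (σ : F ≃+* F) (f : (Fin n → F) → (Fin n → F) → F), IsUnitaryForm σ f ∧
        H = similarityGroup f ⊓ specialLinear (Fin n) F :=
    fun σ f hf hle => ⟨σ, f, hf, eq_inf_of_le hH hle (not_le_similarityGroup_unitary hn2 hf)⟩
  rcases hM with ⟨W, hW0, hW1, rfl⟩ | ⟨W, U, hW0, hWU, -, rfl⟩ | ⟨W, U, hW0, hinf, hsup, hlt, rfl⟩ |
    ⟨t, m, D, hD, rfl⟩ | ⟨r, K, hr, hK, rfl⟩ | ⟨n₁, n₂, e, P, h1, h2, rfl⟩ |
    ⟨F₀, r, P, hr, hcard, rfl⟩ | ⟨r, R, hR, rfl⟩ | ⟨m, t, e, P, hm, ht, rfl⟩ |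
    ⟨f, hf, heven, h4, rfl⟩ | ⟨σ, f, hf, h3, rfl⟩ | ⟨Q, hQ, hodd, h3, rfl⟩
  · exact Or.inl (cStab W hW0 hW1 hHM)
  · exact Or.inl (cStab W hW0 (hWU.trans_le le_top).ne (hHM.trans inf_le_left))
  · refine Or.inl (cStab W hW0 ?_ (hHM.trans inf_le_left))
    rintro rfl
    rw [top_inf_eq] at hinf
    rw [hinf, finrank_bot] at hlt
    omega
  · -- decomposition
    have htm : t * m = n := card_eq hD
    have ht2 := hD.two_le
    have htn : t = n := eq_of_prime_dvd_prime ht2 hnp ⟨m, htm.symm⟩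
    subst htn
    have hm1 : m = 1 := by
      have : t * m = t * 1 := by rw [htm, mul_one]
      exact Nat.eq_of_mul_eq_mul_left (by omega) this
    subst hm1
    by_cases hq : 5 ≤ Fintype.card F
    · exact Or.inr (Or.inl ⟨hq, D, hD, eq_inf_of_le hH hHM (not_le_decompositionStabilizer hD)⟩)
    · rcases decomp_small hD (by omega) with ⟨W, hW0, hW1, hle⟩ | ⟨hodd, Q, hQ, hle⟩ | ⟨σ, f, hf, hle⟩
      · exact Or.inl (cStab W hW0 hW1 (hHM.trans hle))
      · exact Or.inr (Or.inr (Or.inr (Or.inr (Or.inr (Or.inl (cQuad Q hodd hQ (hHM.trans hle)))))))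
      · exact Or.inr (Or.inr (Or.inr (Or.inr (Or.inr (Or.inr (Or.inl (cUni σ f hf (hHM.trans hle))))))))
  · -- extension field
    have hrn : r = n := eq_of_prime_dvd_prime hr.two_le hnp (dvd_of_isFieldSubalgebra (by omega) hK)
    subst hrn
    exact Or.inr (Or.inr (Or.inl ⟨K, hK, eq_inf_of_le hH hHM
      (not_le_subalgebraNormalizer hn (by omega) hK)⟩))
  · -- tensor product: impossible
    exfalso
    have hcard : n = n₁ * n₂ := by
      have := Fintype.card_congr e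
      simpa using this
    have : n₁ = n := eq_of_prime_dvd_prime h1 hnp ⟨n₂, hcard⟩
    subst this
    have : n₁ * n₂ = n₁ * 1 := by rw [← hcard, mul_one]
    have := Nat.eq_of_mul_eq_mul_left (by omega) this
    omega
  · -- subfield
    exact Or.inr (Or.inr (Or.inr (Or.inl ⟨F₀, r, P, hr, hcard, eq_inf_of_le hH hHM
      (not_le_subfieldSubgroup hn2 F₀ (subfield_ne_top hr hcard) P)⟩)))
  · -- symplectic type
    have hrp := hR.symplecticType.prime
    have hrn : r = n := eq_of_prime_dvd_prime hrp.two_le hnp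
      (dvd_of_isPGroup_absIrr hn2 hrp hR.symplecticType.pGroup hR.absIrred)
    subst hrn
    obtain ⟨p, e, hne, hmin, -⟩ := hR.field
    obtain ⟨hp, hchar, -⟩ := hmin
    have := hchar
    exact Or.inr (Or.inr (Or.inr (Or.inr (Or.inl ⟨R, hR, eq_inf_of_le hH hHM
      (not_le_subgroupNormalizer hn hR.absIrred.1
        (not_le_of_isPGroup hn2 hp hrp hne hR.symplecticType.pGroup))⟩))))
  · -- tensor wreath: impossible
    exfalso
    have hcard : n = m ^ t := by
      have := Fintype.card_congr e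
      simpa using this
    have hmn : m = n := eq_of_prime_dvd_prime (by omega) hnp ⟨m ^ (t - 1), by
      rw [hcard, ← pow_succ']; congr 1; omega⟩
    subst hmn
    have : m ^ t = m ^ 1 := by rw [← hcard, pow_one]
    have := Nat.pow_right_injective (by omega : 2 ≤ m) this
    omega
  · -- symplectic: impossible
    exfalso
    rcases hnp.eq_one_or_self_of_dvd 2 heven.two_dvd with h | h <;> omega
  · exact Or.inr (Or.inr (Or.inr (Or.inr (Or.inr (Or.inr (Or.inl (cUni σ f hf hHM)))))))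
  · exact Or.inr (Or.inr (Or.inr (Or.inr (Or.inr (Or.inl (cQuad Q hodd hQ hHM))))))


/-- the field data of a class-6 group for an odd prime `r` -/
theorem symplecticType_field {r : ℕ} (hr2 : r ≠ 2) {R : Subgroup (GL (Fin n) F)}
    (hR : IsLinearSymplecticTypeData r R) :
    ∃ p e : ℕ, p.Prime ∧ CharP F p ∧ Fintype.card F = p ^ e ∧ Odd e ∧ e ∣ r - 1 ∧
      ((p : ZMod r) ^ e = 1) ∧ ∀ d, 0 < d → d < e → (p : ZMod r) ^ d ≠ 1 := by
  obtain ⟨p, e, hne, hmin, hcases⟩ := hR.field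
  rcases hcases with ⟨-, hoe, hZ, -⟩ | ⟨h2, -⟩ | ⟨h2, -⟩
  · rw [hZ] at hmin
    obtain ⟨-, hdvd, h1, h2⟩ := minimalField_order hR.symplecticType.prime hne hmin
    exact ⟨p, e, hmin.1, hmin.2.1, hmin.2.2.1, hoe, hdvd, h1, h2⟩
  · exact absurd h2 hr2
  · exact absurd h2 hr2

end Cfsg.Agent.Lib.Helper30_AschPrime
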