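import Mathlib
import Cfsg.Prelude.Def_GeometricClasses
import Cfsg.Agent.Lib.Helper30_AschMax
import Cfsg.Agent.Lib.Helper30_AschPrime
import Cfsg.Agent.Lib.Helper97_AschMaxC
import Cfsg.Agent.Lib.Helper97_AschC6
import Cfsg.Agent.Lib.Helper2_AschSymp

set_option autoImplicit false

/-!
Uniform interface (for the rows on maximal subgroups of `SL_6(q)`, `SL_8(q)`: S5799, S5817) to the facts
"`SL_n` lies in no member of a geometric class" and the arithmetic of the class data, proved in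
`Helper30_AschMax`, `Helper30_AschPrime`, `Helper97_AschMaxC`, `Helper97_AschC6`, `Helper2_AschSymp`.
-/

namespace Cfsg.Agent.Lib.Helper2_AschGlue

open Cfsg Cfsg.Geo
open scoped MatrixGroups

variable {F : Type*} [Field F] [Fintype F] {n : ℕ}

omit [Fintype F] in
theorem hproper_of_maximal (hn : 3 ≤ n) {H : Subgroup (GL (Fin n) F)}
    (hH : IsMaximalIn (specialLinear (Fin n) F) H) :
    H ⊔ (scalars (Fin n) F ⊓ specialLinear (Fin n) F) ≠ specialLinear (Fin n) F :=
  Cfsg.Agent.Lib.Helper30_AschMax.sup_scalars_ne hn hH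

omit [Fintype F] in
theorem not_le_subspaceStabilizer (_hn : 3 ≤ n) {W : Submodule F (Fin n → F)} (h0 : W ≠ ⊥)
    (h1 : W ≠ ⊤) : ¬ specialLinear (Fin n) F ≤ subspaceStabilizer W :=
  Cfsg.Agent.Lib.Helper30_AschMax.not_le_subspaceStabilizer W h0 h1

omit [Fintype F] in
theorem not_le_decompositionStabilizer (_hn : 3 ≤ n) {t m : ℕ} {D : Fin t → Submodule F (Fin n → F)}
    (hD : IsMDecomposition m D) : ¬ specialLinear (Fin n) F ≤ decompositionStabilizer D :=
  Cfsg.Agent.Lib.Helper30_AschMax.not_le_decompositionStabilizer hD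

omit [Fintype F] in
theorem not_le_subalgebraNormalizer (hn : 3 ≤ n) {r : ℕ} (hr : 2 ≤ r)
    {K : Subalgebra F (Matrix (Fin n) (Fin n) F)} (hK : IsFieldSubalgebra r K) :
    ¬ specialLinear (Fin n) F ≤ subalgebraNormalizer K :=
  Cfsg.Agent.Lib.Helper30_AschMax.not_le_subalgebraNormalizer hn hr hK

omit [Fintype F] in
theorem not_le_tensorProductSubgroup (_hn : 3 ≤ n) {n₁ n₂ : ℕ} (h1 : 2 ≤ n₁) (h2 : 2 ≤ n₂)
    (e : Fin n ≃ Fin n₁ × Fin n₂) (P : GL (Fin n) F) :
    ¬ specialLinear (Fin n) F ≤ tensorProductSubgroup n₁ n₂ e P :=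
  Cfsg.Agent.Lib.Helper97_AschMaxC.not_sl_le_tensorProduct n₁ n₂ h1 h2 e P

theorem not_le_subfieldSubgroup (hn : 3 ≤ n) {F₀ : Subfield F} {r : ℕ} (hr : r.Prime)
    (hc : Fintype.card F = Nat.card F₀ ^ r) (P : GL (Fin n) F) :
    ¬ specialLinear (Fin n) F ≤ subfieldSubgroup F₀ P :=
  Cfsg.Agent.Lib.Helper30_AschMax.not_le_subfieldSubgroup (by omega) F₀
    (Cfsg.Agent.Lib.Helper30_AschMax.subfield_ne_top hr hc) P

theorem not_le_subgroupNormalizer (hn : 3 ≤ n) {r : ℕ} {R : Subgroup (GL (Fin n) F)}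
    (hR : IsLinearSymplecticTypeData r R) : ¬ specialLinear (Fin n) F ≤ subgroupNormalizer R := by
  obtain ⟨p, e, hrp, hmin, -⟩ := hR.field
  obtain ⟨hp, hchar, -⟩ := hmin
  have := hchar
  exact Cfsg.Agent.Lib.Helper30_AschMax.not_le_subgroupNormalizer hn hR.absIrred.1
    (Cfsg.Agent.Lib.Helper30_AschMax.not_le_of_isPGroup (p := p) (by omega) hp
      hR.symplecticType.prime hrp hR.symplecticType.pGroup)

omit [Fintype F] in
theorem not_le_similarityGroup_symp (hn : 3 ≤ n) {f : (Fin n → F) → (Fin n → F) → F}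
    (hf : IsSymplecticForm f) : ¬ specialLinear (Fin n) F ≤ similarityGroup f :=
  Cfsg.Agent.Lib.Helper2_AschSymp.not_le_similarityGroup_symp hn hf

omit [Fintype F] in
theorem not_le_similarityGroup_unit (hn : 3 ≤ n) {σ : F ≃+* F} {f : (Fin n → F) → (Fin n → F) → F}
    (hf : IsUnitaryForm σ f) : ¬ specialLinear (Fin n) F ≤ similarityGroup f :=
  Cfsg.Agent.Lib.Helper30_AschMax.not_le_similarityGroup_unitary (by omega) hf

theorem not_le_quadSimilarityGroup (hn : 3 ≤ n) (hodd : Odd (Fintype.card F)) {Q : (Fin n → F) → F}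
    (hQ : IsNondegenerateQuadraticForm Q) : ¬ specialLinear (Fin n) F ≤ quadSimilarityGroup Q :=
  Cfsg.Agent.Lib.Helper30_AschMax.not_le_quadSimilarityGroup (by omega)
    (Cfsg.Agent.Lib.Helper30_AschPrime.two_ne_zero_of_odd_card hodd) hQ

omit [Fintype F] in
/-- class 2: `t * m = n` -/
theorem decomp_card {t m : ℕ} {D : Fin t → Submodule F (Fin n → F)} (hD : IsMDecomposition m D) :
    t * m = n :=
  Cfsg.Agent.Lib.Helper98_Decomp.card_eq hD

omit [Fintype F] in
/-- class 3: `r ∣ n` -/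
theorem fieldSubalgebra_dvd (hn : 0 < n) {r : ℕ} {K : Subalgebra F (Matrix (Fin n) (Fin n) F)}
    (hK : IsFieldSubalgebra r K) : r ∣ n :=
  Cfsg.Agent.Lib.Helper30_AschMax.dvd_of_isFieldSubalgebra hn hK

/-- class 6: `n` is a power of `r` -/
theorem symplecticType_pow (hn : 0 < n) {r : ℕ} {R : Subgroup (GL (Fin n) F)}
    (hR : IsLinearSymplecticTypeData r R) : ∃ m : ℕ, n = r ^ m := by
  have : Nonempty (Fin n) := ⟨⟨0, hn⟩⟩
  obtain ⟨m, hm⟩ := Cfsg.Agent.Lib.Helper97_AschC6.card_eq_pow_of_symplecticTypeData hR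
  rw [Fintype.card_fin] at hm
  exact ⟨m, hm⟩

end Cfsg.Agent.Lib.Helper2_AschGlue
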