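import Mathlib
import Cfsg.Prelude.Def_GeometricClasses
import Cfsg.Agent.Lib.Helper98_Decomp
import Cfsg.Agent.S5635
import Cfsg.Agent.S5638

set_option autoImplicit false

/-!
Row-specific lemmas for the maximal subgroups of `SL_6(q)` and `SL_8(q)` (S5799, S5817): maximality
bookkeeping, and the small-field members of classes 2 and 4 that are not maximal
(decompositions into lines for `q ≤ 4` with at least five lines, into planes for `q = 2` with at least three
planes, tensor decompositions `2 ⊗ n₂` for `q = 2`).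
-/

namespace Cfsg.Agent.Lib.Helper2_AschSL68

open Cfsg Cfsg.Geo Matrix Cfsg.Agent.Lib.Helper98_Decomp
open scoped MatrixGroups

section general

variable {G : Type*} [Group G]

theorem eq_inf_of_maximal {S H M : Subgroup G} (hH : IsMaximalIn S H) (hHM : H ≤ M)
    (hM : ¬ S ≤ M) : H = M ⊓ S := by
  have hHS : H ≤ S := hH.1.le
  rcases hH.2 (M ⊓ S) (le_inf hHM hHS) inf_le_right with h | h
  · exact h.symm
  · exfalso
    apply hM
    rw [← h]
    exact inf_le_left

theorem false_of_not_max {S H M K : Subgroup G} (hH : IsMaximalIn S H) (hHM : H ≤ M)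
    (h1 : M ⊓ S < K) (h2 : K < S) : False := by
  have hHS : H ≤ S := hH.1.le
  have hHK : H ≤ K := le_trans (le_inf hHM hHS) h1.le
  rcases hH.2 K hHK h2.le with h | h
  · rw [h] at h1
    exact absurd (le_inf hHM hHS) (not_le_of_gt h1)
  · exact h2.ne h

end general

section One

variable {F : Type*} [Field F] [Fintype F] {n t : ℕ} {D : Fin t → Submodule F (Fin n → F)}
  (hD : Cfsg.Geo.IsMDecomposition 1 D)

lemma three_eq_zero (hq : Fintype.card F = 3) : (3 : F) = 0 := by
  have := FiniteField.cast_card_eq_zero F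
  rw [hq] at this
  exact_mod_cast this

lemma two_eq_zero_of_ne_three (hq : Fintype.card F ≤ 4) (h3 : Fintype.card F ≠ 3) : (2 : F) = 0 := by
  have hq2 : 2 ≤ Fintype.card F := Fintype.one_lt_card
  have hcast := FiniteField.cast_card_eq_zero F
  obtain h | h : Fintype.card F = 2 ∨ Fintype.card F = 4 := by omega
  · rw [h] at hcast
    exact_mod_cast hcast
  · rw [h] at hcast
    have h4 : (4 : F) = 0 := by exact_mod_cast hcast
    have : (2 : F) * 2 = 0 := by linear_combination h4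
    exact mul_self_eq_zero.mp this

lemma T_single_preserves (hq : Fintype.card F = 3) (j₀ : Fin t)
    (hne : 1 + psiI hD {j₀} 0 (uI hD {j₀} 0) ≠ 0) :
    r1GL (uI hD {j₀} 0) (psiI hD {j₀} 0) hne ∈ preserver (wtF hD) := by
  rw [mem_preserver]
  intro x
  have h3 := three_eq_zero hq
  rw [r1GL_coe, r1_mulVec, Cfsg.Agent.S5635.wtF_one, Cfsg.Agent.S5635.wtF_one]
  simp only [map_add, map_smul, co_uI, smul_eq_mul]
  apply Finset.sum_congr rfl
  intro i _
  by_cases hi : i = j₀
  · subst hi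
    rw [if_pos ⟨Finset.mem_singleton_self _, trivial⟩, mul_one, psiI_apply, Finset.sum_singleton, hq]
    have : (co hD i 0 x + co hD i 0 x) ^ (3 - 1) = co hD i 0 x ^ (3 - 1) + 3 * co hD i 0 x ^ 2 := by
      ring
    rw [this, h3, zero_mul, add_zero]
  · rw [if_neg, mul_zero, add_zero]
    rintro ⟨h, -⟩
    exact hi (Finset.mem_singleton.1 h)

include hD in
/-- decompositions into at least five lines over a field with at most four elements are not maximal -/
theorem decomp_one_not_max (ht : 5 ≤ t) (hq : Fintype.card F ≤ 4) :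
    ∃ K : Subgroup (GL (Fin n) F),
      Cfsg.Geo.decompositionStabilizer D ⊓ Cfsg.Geo.specialLinear (Fin n) F < K ∧
        K < Cfsg.Geo.specialLinear (Fin n) F := by
  obtain ⟨I, -, hI⟩ := Finset.exists_subset_card_eq (s := (Finset.univ : Finset (Fin t))) (n := 4)
    (by rw [Finset.card_univ, Fintype.card_fin]; omega)
  obtain ⟨i₀, hi₀, i₁, hi₁, i₂, hi₂, h01, h02, h12⟩ :=
    Finset.two_lt_card.mp (by rw [hI]; norm_num : 2 < I.card)
  have hstab := stab_le_preserver hD
  have hK2 : preserver (wtF hD) ⊓ Cfsg.Geo.specialLinear (Fin n) F <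
      Cfsg.Geo.specialLinear (Fin n) F := by
    rw [SetLike.lt_iff_le_and_exists]
    refine ⟨inf_le_right, ?_⟩
    obtain ⟨h, hSL, hnot⟩ := exists_not_preserver hD h01 0
    exact ⟨h, hSL, fun hmem => hnot (Subgroup.mem_inf.mp hmem).1⟩
  refine ⟨preserver (wtF hD) ⊓ Cfsg.Geo.specialLinear (Fin n) F, ?_, hK2⟩
  rw [SetLike.lt_iff_le_and_exists]
  refine ⟨inf_le_inf_right _ hstab, ?_⟩
  by_cases h3 : Fintype.card F = 3
  · -- `q = 3`: the product of `T_I` and a reflection
    have h3F := three_eq_zero h3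
    obtain ⟨j₀, hj₀⟩ : ∃ j₀ : Fin t, j₀ ∉ I := by
      by_contra hcon
      push Not at hcon
      have : I = Finset.univ := Finset.eq_univ_iff_forall.2 hcon
      rw [this, Finset.card_univ, Fintype.card_fin] at hI
      omega
    have hIJ : Disjoint I {j₀} := Finset.disjoint_singleton_right.2 hj₀
    have hneI : 1 + psiI hD I 0 (uI hD I 0) ≠ 0 := by
      rw [psiI_uI, if_pos rfl, hI]
      push_cast
      exact Cfsg.Agent.S5635.five_ne_zero hq
    have hneJ : 1 + psiI hD {j₀} 0 (uI hD {j₀} 0) ≠ 0 := by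
      rw [psiI_uI, if_pos rfl, Finset.card_singleton]
      push_cast
      intro h
      apply one_ne_zero (α := F)
      linear_combination h3F - h
    refine ⟨r1GL (uI hD I 0) (psiI hD I 0) hneI * r1GL (uI hD {j₀} 0) (psiI hD {j₀} 0) hneJ, ?_, ?_⟩
    · refine Subgroup.mem_inf.mpr
        ⟨mul_mem (Cfsg.Agent.S5635.T_one_preserves hD hq I hI hneI)
          (T_single_preserves hD h3 j₀ hneJ), ?_⟩
      rw [mem_specialLinear_iff, Units.val_mul, Matrix.det_mul, r1GL_coe, r1GL_coe, r1_det, r1_det,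
        psiI_uI, psiI_uI, if_pos rfl, if_pos rfl, hI, Finset.card_singleton]
      push_cast
      linear_combination 3 * h3F
    · intro hmem
      refine not_mem_stab hD (bas_mem hD i₀ 0) (j₁ := 0) (j₂ := 0) h12 ?_ ?_
        (Subgroup.mem_inf.mp hmem).1
      · rw [Cfsg.Agent.S5635.kv_one hD I {j₀} hIJ hneI hneJ hi₀, map_add, co_bas, co_uI,
          if_neg (fun h => h01 h.1), if_pos ⟨hi₁, rfl⟩, zero_add]
        exact one_ne_zero
      · rw [Cfsg.Agent.S5635.kv_one hD I {j₀} hIJ hneI hneJ hi₀, map_add, co_bas, co_uI,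
          if_neg (fun h => h02 h.1), if_pos ⟨hi₂, rfl⟩, zero_add]
        exact one_ne_zero
  · -- characteristic `2`
    have h2F := two_eq_zero_of_ne_three hq h3
    have hneI : 1 + psiI hD I 0 (uI hD I 0) ≠ 0 := by
      rw [psiI_uI, if_pos rfl, hI]
      push_cast
      exact Cfsg.Agent.S5635.five_ne_zero hq
    have hkv : ((r1GL (uI hD I 0) (psiI hD I 0) hneI : GL (Fin n) F) : Matrix (Fin n) (Fin n) F) *ᵥ
        bas hD ⟨i₀, 0⟩ = bas hD ⟨i₀, 0⟩ + uI hD I 0 := by
      rw [r1GL_coe, r1_mulVec, psiI_bas, if_pos ⟨hi₀, rfl⟩, one_smul]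
    refine ⟨r1GL (uI hD I 0) (psiI hD I 0) hneI, ?_, ?_⟩
    · refine Subgroup.mem_inf.mpr ⟨Cfsg.Agent.S5635.T_one_preserves hD hq I hI hneI, ?_⟩
      rw [mem_specialLinear_iff, r1GL_coe, r1_det, psiI_uI, if_pos rfl, hI]
      push_cast
      linear_combination 2 * h2F
    · intro hmem
      refine not_mem_stab hD (bas_mem hD i₀ 0) (j₁ := 0) (j₂ := 0) h12 ?_ ?_
        (Subgroup.mem_inf.mp hmem).1
      · rw [hkv, map_add, co_bas, co_uI, if_neg (fun h => h01 h.1), if_pos ⟨hi₁, rfl⟩, zero_add]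
        exact one_ne_zero
      · rw [hkv, map_add, co_bas, co_uI, if_neg (fun h => h02 h.1), if_pos ⟨hi₂, rfl⟩, zero_add]
        exact one_ne_zero

end One

section Two

variable {F : Type*} [Field F] [Fintype F] {n t : ℕ} {D : Fin t → Submodule F (Fin n → F)}
  (hD : Cfsg.Geo.IsMDecomposition 2 D)

include hD in
/-- decompositions into at least three planes over the field with two elements are not maximal
(`S5635.case_two` with the bound it really uses) -/
theorem decomp_two_not_max (ht : 3 ≤ t) (hq : Fintype.card F = 2) :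
    ∃ K : Subgroup (GL (Fin n) F),
      Cfsg.Geo.decompositionStabilizer D ⊓ Cfsg.Geo.specialLinear (Fin n) F < K ∧
        K < Cfsg.Geo.specialLinear (Fin n) F := by
  obtain ⟨I, -, hI⟩ := Finset.exists_subset_card_eq (s := (Finset.univ : Finset (Fin t))) (n := 3)
    (by rw [Finset.card_univ, Fintype.card_fin]; omega)
  obtain ⟨i₁, hi₁, i₂, hi₂, h12⟩ := Finset.one_lt_card.mp (by rw [hI]; norm_num : 1 < I.card)
  have h01 : (0 : Fin 2) ≠ 1 := by decide
  have hpu : psiI hD I 1 (uI hD I 0) = 0 := by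
    rw [psiI_uI, if_neg h01]
  have hne : 1 + psiI hD I 1 (uI hD I 0) ≠ 0 := by
    rw [hpu, add_zero]
    exact one_ne_zero
  have hkv : ((r1GL (uI hD I 0) (psiI hD I 1) hne : GL (Fin n) F) : Matrix (Fin n) (Fin n) F) *ᵥ
      bas hD ⟨i₁, 1⟩ = bas hD ⟨i₁, 1⟩ + uI hD I 0 := by
    rw [r1GL_coe, r1_mulVec, psiI_bas, if_pos ⟨hi₁, rfl⟩, one_smul]
  refine ⟨preserver (wtF hD) ⊓ Cfsg.Geo.specialLinear (Fin n) F, ?_, ?_⟩
  · rw [SetLike.lt_iff_le_and_exists]
    refine ⟨inf_le_inf_right _ (stab_le_preserver hD), ?_⟩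
    refine ⟨r1GL (uI hD I 0) (psiI hD I 1) hne, ?_, ?_⟩
    · refine Subgroup.mem_inf.mpr ⟨Cfsg.Agent.S5635.T_two_preserves hD hq I hI hne, ?_⟩
      rw [mem_specialLinear_iff, r1GL_coe, r1_det, hpu, add_zero]
    · intro hmem
      refine not_mem_stab hD (bas_mem hD i₁ 1) (j₁ := 0) (j₂ := 0) h12 ?_ ?_
        (Subgroup.mem_inf.mp hmem).1
      · rw [hkv, map_add, co_bas, co_uI, if_neg (fun h => h01 h.2.symm),
          if_pos ⟨hi₁, rfl⟩, zero_add]
        exact one_ne_zero
      · rw [hkv, map_add, co_bas, co_uI, if_neg (fun h => h01 h.2.symm),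
          if_pos ⟨hi₂, rfl⟩, zero_add]
        exact one_ne_zero
  · rw [SetLike.lt_iff_le_and_exists]
    refine ⟨inf_le_right, ?_⟩
    obtain ⟨h, hSL, hnot⟩ := exists_not_preserver hD h12 0
    exact ⟨h, hSL, fun hmem => hnot (Subgroup.mem_inf.mp hmem).1⟩

end Two

section Tensor

variable {F : Type*} [Field F] [Fintype F]

/-- over the field with two elements the stabiliser of a tensor decomposition `2 ⊗ n₂`, `n₂ ≥ 2`, is not
maximal (`S5638` without its bound on `n`) -/
theorem tensor_two_not_max (n : ℕ) (hq : Fintype.card F = 2) (n₂ : ℕ) (hn₂ : 2 ≤ n₂)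
    (e : Fin n ≃ Fin 2 × Fin n₂) (P : GL (Fin n) F) :
    ∃ K : Subgroup (GL (Fin n) F),
      Cfsg.Geo.tensorProductSubgroup 2 n₂ e P ⊓ Cfsg.Geo.specialLinear (Fin n) F < K ∧
        K < Cfsg.Geo.specialLinear (Fin n) F := by
  obtain ⟨k, rfl⟩ : ∃ k, n₂ = k + 2 := ⟨n₂ - 2, by omega⟩
  rw [Cfsg.Agent.S5638.specialLinear_eq_top hq, inf_top_eq]
  let φ : GL (Fin 2 × Fin (k + 2)) F ≃* GL (Fin n) F :=
    (Cfsg.Geo.glReindex e.symm).trans (MulAut.conj P)
  have hT : Cfsg.Geo.tensorProductSubgroup 2 (k + 2) e P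
      = (Cfsg.Geo.kroneckerSubgroup 2 (k + 2) F).map φ.toMonoidHom := by
    unfold Cfsg.Geo.tensorProductSubgroup
    rw [Subgroup.map_map]
    rfl
  obtain ⟨K', h1, h2⟩ := Cfsg.Agent.S5638.key hq k
  refine ⟨K'.map φ.toMonoidHom, ?_, ?_⟩
  · rw [hT]
    exact (Subgroup.map_lt_map_iff_of_injective φ.injective).2 h1
  · have htop : (⊤ : Subgroup (GL (Fin n) F)) = (⊤ : Subgroup _).map φ.toMonoidHom :=
      (Subgroup.map_top_of_surjective φ.toMonoidHom φ.surjective).symm
    rw [htop]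
    exact (Subgroup.map_lt_map_iff_of_injective φ.injective).2 h2

end Tensor

end Cfsg.Agent.Lib.Helper2_AschSL68
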