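import Mathlib
import Cfsg.Prelude.Def_GeometricClasses
import Cfsg.Agent.Lib.Helper2_AschSL68
import Cfsg.Agent.Lib.Helper2_AschGlue

set_option autoImplicit false

/-!
The maximal subgroups of `SL_6(q)` (S5799): the case analysis, given the subgroup structure theorem
S5630 in dimension 6 as a hypothesis.
-/

namespace Cfsg.Agent.Lib.Helper2_AschSL6

open Cfsg Cfsg.Geo Cfsg.Agent.Lib.Helper2_AschSL68 Cfsg.Agent.Lib.Helper2_AschGlue
open scoped MatrixGroups

section core

variable {F : Type*} [Field F] [Fintype F]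

/-- the case analysis, given the subgroup structure theorem S5630 in dimension 6 -/
theorem main6
    (h5630 : ∀ H : Subgroup (GL (Fin 6) F), H ≤ specialLinear (Fin 6) F →
      H ⊔ (scalars (Fin 6) F ⊓ specialLinear (Fin 6) F) ≠ specialLinear (Fin 6) F →
      (∃ M : Subgroup (GL (Fin 6) F), InLinearClass 6 F M ∧ H ≤ M) ∨ InLinearResidualClass H)
    (H : Subgroup (GL (Fin 6) F)) (hH : IsMaximalIn (specialLinear (Fin 6) F) H) :
    (∃ W : Submodule F (Fin 6 → F), W ≠ ⊥ ∧ W ≠ ⊤ ∧ H = Cfsg.Geo.subspaceStabilizer W ⊓ Cfsg.Geo.specialLinear (Fin 6) F) ∨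
    (5 ≤ Fintype.card F ∧ ∃ D : Fin 6 → Submodule F (Fin 6 → F), Cfsg.Geo.IsMDecomposition 1 D ∧ H = Cfsg.Geo.decompositionStabilizer D ⊓ Cfsg.Geo.specialLinear (Fin 6) F) ∨
    (3 ≤ Fintype.card F ∧ ∃ D : Fin 3 → Submodule F (Fin 6 → F), Cfsg.Geo.IsMDecomposition 2 D ∧ H = Cfsg.Geo.decompositionStabilizer D ⊓ Cfsg.Geo.specialLinear (Fin 6) F) ∨
    (∃ D : Fin 2 → Submodule F (Fin 6 → F), Cfsg.Geo.IsMDecomposition 3 D ∧ H = Cfsg.Geo.decompositionStabilizer D ⊓ Cfsg.Geo.specialLinear (Fin 6) F) ∨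
    (∃ K : Subalgebra F (Matrix (Fin 6) (Fin 6) F), Cfsg.Geo.IsFieldSubalgebra 2 K ∧ H = Cfsg.Geo.subalgebraNormalizer K ⊓ Cfsg.Geo.specialLinear (Fin 6) F) ∨
    (∃ K : Subalgebra F (Matrix (Fin 6) (Fin 6) F), Cfsg.Geo.IsFieldSubalgebra 3 K ∧ H = Cfsg.Geo.subalgebraNormalizer K ⊓ Cfsg.Geo.specialLinear (Fin 6) F) ∨
    (3 ≤ Fintype.card F ∧ ∃ (e : Fin 6 ≃ Fin 2 × Fin 3) (P : Matrix.GeneralLinearGroup (Fin 6) F), H = Cfsg.Geo.tensorProductSubgroup 2 3 e P ⊓ Cfsg.Geo.specialLinear (Fin 6) F) ∨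
    (∃ (F₀ : Subfield F) (r : ℕ) (P : Matrix.GeneralLinearGroup (Fin 6) F), r.Prime ∧ Fintype.card F = Nat.card F₀ ^ r ∧ H = Cfsg.Geo.subfieldSubgroup F₀ P ⊓ Cfsg.Geo.specialLinear (Fin 6) F) ∨
    (Odd (Fintype.card F) ∧ ∃ Q : (Fin 6 → F) → F, Cfsg.Geo.IsNondegenerateQuadraticForm Q ∧ H = Cfsg.Geo.quadSimilarityGroup Q ⊓ Cfsg.Geo.specialLinear (Fin 6) F) ∨
    (∃ f : (Fin 6 → F) → (Fin 6 → F) → F, Cfsg.Geo.IsSymplecticForm f ∧ H = Cfsg.Geo.similarityGroup f ⊓ Cfsg.Geo.specialLinear (Fin 6) F) ∨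
    (∃ (σ : F ≃+* F) (f : (Fin 6 → F) → (Fin 6 → F) → F), Cfsg.Geo.IsUnitaryForm σ f ∧ H = Cfsg.Geo.similarityGroup f ⊓ Cfsg.Geo.specialLinear (Fin 6) F) ∨
    Cfsg.Geo.InLinearResidualClass H := by
  have hn : 3 ≤ 6 := by norm_num
  have hq2 : 2 ≤ Fintype.card F := Fintype.one_lt_card
  rcases h5630 H hH.1.le (hproper_of_maximal hn hH) with ⟨M, hM, hHM⟩ | hres
  swap
  · iterate 11 right
    exact hres
  rcases hM with ⟨W, h0, h1, rfl⟩ | ⟨W, U, h0, hWU, -, rfl⟩ | ⟨W, U, h0, hinf, hsup, hlt, rfl⟩ |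
    ⟨t, m, D, hD, rfl⟩ | ⟨r, K, hr, hK, rfl⟩ | ⟨n₁, n₂, e, P, h1, h12, rfl⟩ | ⟨F₀, r, P, hr, hc, rfl⟩ |
    ⟨r, R, hR, rfl⟩ | ⟨m, t, e, P, hm, ht, rfl⟩ | ⟨f, hf, -, -, rfl⟩ | ⟨σ, f, hf, -, rfl⟩ |
    ⟨Q, hQ, hodd, -, rfl⟩
  · -- subspace
    left
    exact ⟨W, h0, h1, eq_inf_of_maximal hH hHM (not_le_subspaceStabilizer hn h0 h1)⟩
  · -- flag
    left
    have h1 : W ≠ ⊤ := fun h => (lt_top_of_lt hWU).ne h
    exact ⟨W, h0, h1, eq_inf_of_maximal hH (le_trans hHM inf_le_left)
      (not_le_subspaceStabilizer hn h0 h1)⟩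
  · -- complementary pair
    left
    have h1 : W ≠ ⊤ := by
      rintro rfl
      rw [top_inf_eq] at hinf
      rw [hinf, finrank_bot] at hlt
      omega
    exact ⟨W, h0, h1, eq_inf_of_maximal hH (le_trans hHM inf_le_left)
      (not_le_subspaceStabilizer hn h0 h1)⟩
  · -- decompositions
    have hcard := decomp_card hD
    have ht2 := hD.two_le
    have hmpos := hD.pos
    have hnotle := not_le_decompositionStabilizer hn hD
    have hcases : (t = 6 ∧ m = 1) ∨ (t = 3 ∧ m = 2) ∨ (t = 2 ∧ m = 3) := by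
      have ht6 : t ≤ 6 := by nlinarith
      interval_cases t <;> omega
    rcases hcases with ⟨rfl, rfl⟩ | ⟨rfl, rfl⟩ | ⟨rfl, rfl⟩
    · by_cases hq : 5 ≤ Fintype.card F
      · right; left
        exact ⟨hq, D, hD, eq_inf_of_maximal hH hHM hnotle⟩
      · exfalso
        obtain ⟨K, hK1, hK2⟩ := decomp_one_not_max hD (by norm_num) (by omega)
        exact false_of_not_max hH hHM hK1 hK2
    · by_cases hq : 3 ≤ Fintype.card F
      · right; right; left
        exact ⟨hq, D, hD, eq_inf_of_maximal hH hHM hnotle⟩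
      · exfalso
        obtain ⟨K, hK1, hK2⟩ := decomp_two_not_max hD (by norm_num) (by omega)
        exact false_of_not_max hH hHM hK1 hK2
    · right; right; right; left
      exact ⟨D, hD, eq_inf_of_maximal hH hHM hnotle⟩
  · -- extension fields
    have hdvd := fieldSubalgebra_dvd (by norm_num) hK
    have hr2 := hr.two_le
    have hnotle := not_le_subalgebraNormalizer hn hr2 hK
    have hcases : r = 2 ∨ r = 3 := by
      have hr6 : r ≤ 6 := Nat.le_of_dvd (by norm_num) hdvd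
      interval_cases r <;> first | omega | (exfalso; revert hr; decide)
    rcases hcases with rfl | rfl
    · iterate 4 right
      left
      exact ⟨K, hK, eq_inf_of_maximal hH hHM hnotle⟩
    · iterate 5 right
      left
      exact ⟨K, hK, eq_inf_of_maximal hH hHM hnotle⟩
  · -- tensor products
    have hcard : 6 = n₁ * n₂ := by simpa using Fintype.card_congr e
    have hcases : n₁ = 2 ∧ n₂ = 3 := by
      have h1' : n₁ ≤ 6 := by nlinarith
      have h2' : n₂ ≤ 6 := by nlinarith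
      interval_cases n₁ <;> interval_cases n₂ <;> omega
    obtain ⟨rfl, rfl⟩ := hcases
    by_cases hq : 3 ≤ Fintype.card F
    · iterate 6 right
      left
      exact ⟨hq, e, P, eq_inf_of_maximal hH hHM
        (not_le_tensorProductSubgroup hn (by norm_num) (by norm_num) e P)⟩
    · exfalso
      obtain ⟨K, hK1, hK2⟩ := tensor_two_not_max 6 (by omega : Fintype.card F = 2) 3 (by norm_num) e P
      exact false_of_not_max hH hHM hK1 hK2
  · -- subfields
    iterate 7 right
    left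
    exact ⟨F₀, r, P, hr, hc, eq_inf_of_maximal hH hHM (not_le_subfieldSubgroup hn hr hc P)⟩
  · -- symplectic type: impossible in dimension 6
    exfalso
    obtain ⟨m, hm⟩ := symplecticType_pow (by norm_num) hR
    have hrp := hR.symplecticType.prime
    have hdvd : r ∣ 6 := by
      rcases Nat.eq_zero_or_pos m with rfl | hmpos
      · norm_num at hm
      · rw [hm]
        exact dvd_pow_self r hmpos.ne'
    have hr6 : r ≤ 6 := Nat.le_of_dvd (by norm_num) hdvd
    have hr2 := hrp.two_le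
    have hcases : r = 2 ∨ r = 3 := by
      interval_cases r <;> first | omega | (exfalso; revert hrp; decide)
    rcases hcases with rfl | rfl
    · have : m ≤ 2 := by
        by_contra hcon
        push Not at hcon
        have : 2 ^ 3 ≤ 2 ^ m := Nat.pow_le_pow_right (by norm_num) hcon
        omega
      interval_cases m <;> omega
    · have : m ≤ 1 := by
        by_contra hcon
        push Not at hcon
        have : 3 ^ 2 ≤ 3 ^ m := Nat.pow_le_pow_right (by norm_num) hcon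
        omega
      interval_cases m <;> omega
  · -- tensor powers: impossible in dimension 6
    exfalso
    have hcard : 6 = m ^ t := by simpa using Fintype.card_congr e
    have h1 : 3 ^ 2 ≤ m ^ t :=
      le_trans (Nat.pow_le_pow_left hm 2) (Nat.pow_le_pow_right (by omega) ht)
    omega
  · -- symplectic forms
    iterate 9 right
    left
    exact ⟨f, hf, eq_inf_of_maximal hH hHM (not_le_similarityGroup_symp hn hf)⟩
  · -- unitary forms
    iterate 10 right
    left
    exact ⟨σ, f, hf, eq_inf_of_maximal hH hHM (not_le_similarityGroup_unit hn hf)⟩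
  · -- quadratic forms
    iterate 8 right
    left
    exact ⟨hodd, Q, hQ, eq_inf_of_maximal hH hHM (not_le_quadSimilarityGroup hn hodd hQ)⟩

end core

end Cfsg.Agent.Lib.Helper2_AschSL6
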