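import Mathlib
import Cfsg.Agent.Lib.Helper98_AschDefs
import Cfsg.Agent.Lib.Helper23_FormDefs
import Cfsg.Agent.Lib.Helper97_SUDefs
import Cfsg.Agent.Lib.Helper13_HermBridge
import Cfsg.Agent.Lib.Helper44_HermOrtho

/-!
# Package UPH of S5663 (architect helper97): orthonormal bases of hermitian forms (helper87)

Every non-degenerate hermitian form (`IsUnitaryFormPow q`) on `F^d`, `|F| = q^2`, is carried to the
standard form `hermForm d F q` by a change of basis.  Proof: `Helper44_HermOrtho.exists_orthonormal`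
applied to the form as a sesquilinear map (`sesqOf`, as in `Helper94_TensorFrameU`).
-/

set_option autoImplicit false
set_option linter.unusedSectionVars false
set_option linter.unusedVariables false

namespace Cfsg.Agent.Lib.Helper87_AschSU_UPH

open Cfsg Cfsg.Geo Matrix Module Cfsg.Agent.Lib.Helper98_AschDefs Cfsg.Agent.Lib.Helper23_FormDefs
open Cfsg.Agent.Lib.Helper97_SUDefs
open Cfsg.Agent.Lib.Helper94_Herm Cfsg.Agent.Lib.Helper44_HermOrtho

variable {F : Type*} [Field F]

/-- the prelude's unitary form as a sesquilinear map (as in `Helper94_TensorFrameU.sesqOf`) -/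
def sesqOf {κ : Type} [Fintype κ] [DecidableEq κ] {q : ℕ} (σ : F →+* F) (hσq : ∀ x, σ x = x ^ q)
    (f : (κ → F) → (κ → F) → F) (hf : IsUnitaryFormPow q f) : (κ → F) →ₗ[F] (κ → F) →ₛₗ[σ] F :=
  LinearMap.mk₂'ₛₗ (RingHom.id F) σ f hf.add_left
    (fun c x v => by rw [hf.smul_left]; rfl)
    (fun v x y => by
      rw [hf.herm v (x + y), hf.add_left, ← hσq, map_add, hσq, hσq, ← hf.herm, ← hf.herm])
    (fun c v x => by
      rw [hf.herm v (c • x), hf.smul_left, ← hσq, map_mul, hσq (f x v), ← hf.herm]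
      rfl)

theorem sesqOf_apply {κ : Type} [Fintype κ] [DecidableEq κ] {q : ℕ} (σ : F →+* F)
    (hσq : ∀ x, σ x = x ^ q) (f : (κ → F) → (κ → F) → F) (hf : IsUnitaryFormPow q f)
    (u v : κ → F) : sesqOf σ hσq f hf u v = f u v := rfl

/-- UPH: every non-degenerate hermitian form over the field with `q ^ 2` elements has an orthonormal basis -/
theorem UPH [Fintype F] (q : ℕ) (hF : Fintype.card F = q ^ 2) (d : ℕ)
    (f₁ : (Fin d → F) → (Fin d → F) → F) (hf₁ : IsUnitaryFormPow q f₁) :
    ∃ B : GL (Fin d) F, ∀ x y : Fin d → F,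
      f₁ ((B : Matrix (Fin d) (Fin d) F) *ᵥ x) ((B : Matrix (Fin d) (Fin d) F) *ᵥ y) = hermForm d F q x y := by
  classical
  set ρ : F →+* F := Cfsg.Agent.Lib.Helper13_HermBridge.frobQ hF with hρdef
  have hρq : ∀ x, ρ x = x ^ q := fun x => rfl
  have hρ : Invol ρ := by
    refine ⟨Cfsg.Agent.Lib.Helper13_HermBridge.frobQ_frobQ hF, ?_⟩
    by_contra hcon
    apply Cfsg.Agent.Lib.Helper13_HermBridge.frobQ_ne_id hF
    ext x
    by_contra hx
    exact hcon ⟨x, hx⟩
  set Bf := sesqOf ρ hρq f₁ hf₁ with hBf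
  have hB : IsHerm Bf := by
    intro x y
    rw [hBf, sesqOf_apply, sesqOf_apply, hρq]
    exact hf₁.herm y x
  have hN : NondegOn Bf ⊤ := by
    intro x _ hx0
    obtain ⟨_, ⟨y, hy⟩⟩ := hf₁.nondegenerate x hx0
    exact ⟨y, trivial, hy⟩
  have hfr : finrank F (⊤ : Submodule F (Fin d → F)) = d := by
    rw [finrank_top, Module.finrank_fintype_fun_eq_card, Fintype.card_fin]
  obtain ⟨w, -, hw⟩ := exists_orthonormal hρ hB d ⊤ hN hfr
  set M : Matrix (Fin d) (Fin d) F := Matrix.of (fun i j => w j i) with hMdef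
  have hM : ∀ x : Fin d → F, M *ᵥ x = ∑ j, x j • w j := by
    intro x
    funext i
    rw [Matrix.mulVec, dotProduct, Finset.sum_apply]
    apply Finset.sum_congr rfl
    intro j _
    rw [hMdef, Matrix.of_apply, Pi.smul_apply, smul_eq_mul, mul_comm]
  have key : ∀ x y : Fin d → F, f₁ (M *ᵥ x) (M *ᵥ y) = hermForm d F q x y := by
    intro x y
    rw [hM, hM, ← sesqOf_apply ρ hρq f₁ hf₁, ← hBf]
    simp only [map_sum, LinearMap.sum_apply, map_smul, LinearMap.smul_apply, map_smulₛₗ,
      smul_eq_mul, hw]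
    unfold hermForm
    apply Finset.sum_congr rfl
    intro i _
    rw [Finset.sum_eq_single i]
    · rw [if_pos rfl, hρq, mul_one, mul_comm]
    · intro j _ hji
      rw [if_neg hji, mul_zero]
    · intro h
      exact absurd (Finset.mem_univ i) h
  have hinj : Function.Injective M.mulVec := by
    intro x y hxy
    have hq := Cfsg.Agent.Lib.Helper97_SUDefs.hermForm_nondegenerate d hF
    by_contra hne
    have hsub : x - y ≠ 0 := sub_ne_zero.mpr hne
    obtain ⟨_, ⟨z, hz⟩⟩ := hq (x - y) hsub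
    apply hz
    rw [← key, Matrix.mulVec_sub, hxy, sub_self]
    have h0 := hf₁.smul_left 0 0 (M *ᵥ z)
    rw [zero_smul, zero_mul] at h0
    exact h0
  have hunit : IsUnit M := Matrix.mulVec_injective_iff_isUnit.mp hinj
  obtain ⟨B, hBM⟩ := hunit
  refine ⟨B, fun x y => ?_⟩
  rw [hBM]
  exact key x y

end Cfsg.Agent.Lib.Helper87_AschSU_UPH
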