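import Mathlib
import Cfsg.Agent.Lib.Helper98_AschDefs
import Cfsg.Agent.Lib.Helper23_FormDefs
import Cfsg.Agent.Lib.Helper97_SUDefs
import Cfsg.Agent.Lib.Helper52_Asch_PK2
import Cfsg.Agent.Lib.Helper87_AschSU_UPH
import Cfsg.Agent.Lib.Helper94_TensorFrameU

/-!
# Package S5663-UP4G (helper4): a normalized tensor algebra with a tensor decomposition of the
hermitian form puts `H` into class 4 or class 7 of the unitary group.
-/

set_option autoImplicit false

namespace Cfsg.Agent.Lib.Helper4_AschSU_UP4G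

open Cfsg Cfsg.Geo Matrix Cfsg.Agent.Lib.Helper98_AschDefs Cfsg.Agent.Lib.Helper23_FormDefs
open Cfsg.Agent.Lib.Helper97_SUDefs
open scoped Kronecker

variable {F : Type*} [Field F]

section gram

variable {κ : Type} [Fintype κ]

/-- `formOfGram` as a dot product -/
lemma formOfGram_eq_dot (σ : F → F) (G : Matrix κ κ F) (x y : κ → F) :
    formOfGram σ G x y = x ⬝ᵥ (G *ᵥ (σ ∘ y)) := by
  unfold formOfGram
  simp only [dotProduct, Matrix.mulVec, Function.comp_apply, Finset.mul_sum, mul_assoc]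

variable [DecidableEq κ]

/-- change of basis in `formOfGram` -/
lemma formOfGram_mulVec (σ : F →+* F) (G K : Matrix κ κ F) (x y : κ → F) :
    formOfGram σ G (K *ᵥ x) (K *ᵥ y) = formOfGram σ (Kᵀ * G * K.map σ) x y := by
  rw [formOfGram_eq_dot, formOfGram_eq_dot]
  have h1 : (σ : F → F) ∘ (K *ᵥ y) = K.map σ *ᵥ ((σ : F → F) ∘ y) := by
    funext i
    show σ ((K *ᵥ y) i) = _
    exact RingHom.map_mulVec σ K y i
  rw [h1, ← Matrix.mulVec_mulVec, ← Matrix.mulVec_mulVec, Matrix.dotProduct_mulVec x Kᵀ,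
    Matrix.vecMul_transpose]

/-- `formOfGram` at the standard basis vectors -/
lemma formOfGram_single (σ : F →+* F) (G : Matrix κ κ F) (a b : κ) :
    formOfGram σ G (Pi.single a 1) (Pi.single b 1) = G a b := by
  unfold formOfGram
  rw [Finset.sum_eq_single a, Finset.sum_eq_single b]
  · simp
  · intro b' _ hb'
    simp [hb']
  · simp
  · intro a' _ ha'
    simp [Pi.single_apply, ha']
  · simp

/-- `formOfGram` of the identity matrix -/
lemma formOfGram_one (σ : F → F) (x y : κ → F) :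
    formOfGram σ (1 : Matrix κ κ F) x y = ∑ a, x a * σ (y a) := by
  unfold formOfGram
  refine Finset.sum_congr rfl fun a _ => ?_
  rw [Finset.sum_eq_single a]
  · simp
  · intro b _ hb
    simp [hb.symm]
  · simp

end gram

/-- the Kronecker product of two invertible matrices as an invertible matrix -/
def kronGL {d s : ℕ} (a : GL (Fin d) F) (c : GL (Fin s) F) : GL (Fin d × Fin s) F :=
  ⟨(a : Matrix (Fin d) (Fin d) F) ⊗ₖ (c : Matrix (Fin s) (Fin s) F),
    ((a⁻¹ : GL (Fin d) F) : Matrix (Fin d) (Fin d) F) ⊗ₖ ((c⁻¹ : GL (Fin s) F) : Matrix (Fin s) (Fin s) F),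
    by rw [← Matrix.mul_kronecker_mul]; simp,
    by rw [← Matrix.mul_kronecker_mul]; simp⟩

lemma kronGL_val {d s : ℕ} (a : GL (Fin d) F) (c : GL (Fin s) F) :
    ((kronGL a c : GL (Fin d × Fin s) F) : Matrix (Fin d × Fin s) (Fin d × Fin s) F)
      = (a : Matrix (Fin d) (Fin d) F) ⊗ₖ (c : Matrix (Fin s) (Fin s) F) := rfl

lemma kronGL_mem {d s : ℕ} (a : GL (Fin d) F) (c : GL (Fin s) F) :
    kronGL a c ∈ kroneckerSubgroup d s F := ⟨a, c, rfl⟩

/-- the Gram matrix of the standard hermitian form is the identity -/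
lemma gram_hermForm [Fintype F] {q : ℕ} (hF : Fintype.card F = q ^ 2) (d : ℕ) :
    gramMatrix (hermForm d F q) = 1 := by
  have hq : q ≠ 0 := q_ne_zero hF
  ext a b
  unfold gramMatrix hermForm
  rw [Finset.sum_eq_single a]
  · by_cases hab : a = b
    · subst hab; simp
    · simp [hab, hq]
  · intro i _ hi
    simp [Pi.single_apply, hi]
  · simp

/-- an orthonormalising matrix turns the Gram matrix into the identity -/
lemma gram_conj_eq_one [Fintype F] {q : ℕ} (hF : Fintype.card F = q ^ 2) {d : ℕ}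
    (f₁ : (Fin d → F) → (Fin d → F) → F) (hf₁ : IsUnitaryFormPow q f₁) (B : Matrix (Fin d) (Fin d) F)
    (hB : ∀ x y : Fin d → F, f₁ (B *ᵥ x) (B *ᵥ y) = hermForm d F q x y) :
    Bᵀ * gramMatrix f₁ * B.map (sigmaQ hF : F →+* F) = 1 := by
  set σ : F →+* F := (sigmaQ hF : F →+* F) with hσ
  have hσq : ∀ x, σ x = x ^ q := fun x => rfl
  have hcoe : (σ : F → F) = fun x => x ^ q := rfl
  ext a b
  rw [← formOfGram_single σ (Bᵀ * gramMatrix f₁ * B.map σ) a b, ← formOfGram_mulVec]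
  have h1 : formOfGram (σ : F → F) (gramMatrix f₁) (B *ᵥ Pi.single a 1) (B *ᵥ Pi.single b 1) =
      f₁ (B *ᵥ Pi.single a 1) (B *ᵥ Pi.single b 1) := by
    rw [Cfsg.Agent.Lib.Helper94_TensorFrameU.form_eq_gram_pow σ hσq f₁ hf₁]
    rfl
  rw [h1, hB]
  have := congrFun (congrFun (gram_hermForm hF d) a) b
  exact this

/-- swapping the two tensor factors of a tensor form structure -/
lemma tensorForm_swap {n d s : ℕ} (σ : F → F) (f : (Fin n → F) → (Fin n → F) → F)
    (f₁ : (Fin d → F) → (Fin d → F) → F) (f₂ : (Fin s → F) → (Fin s → F) → F)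
    (e : Fin n ≃ Fin d × Fin s) (P : GL (Fin n) F)
    (hten : IsTensorFormStructure σ f f₁ f₂ e P) :
    IsTensorFormStructure σ f f₂ f₁ (e.trans (Equiv.prodComm (Fin d) (Fin s))) P := by
  obtain ⟨c, hc, h⟩ := hten
  refine ⟨c, hc, fun x y => ?_⟩
  have hx : x ∘ (e.trans (Equiv.prodComm (Fin d) (Fin s))) = (x ∘ Prod.swap) ∘ e := by
    funext i; rfl
  have hy : y ∘ (e.trans (Equiv.prodComm (Fin d) (Fin s))) = (y ∘ Prod.swap) ∘ e := by
    funext i; rfl
  rw [hx, hy, h]
  congr 1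
  unfold formOfGram
  simp only [Fintype.sum_prod_type, Matrix.kroneckerMap_apply, Function.comp_apply, Prod.swap_prod_mk]
  rw [Finset.sum_comm]
  refine Finset.sum_congr rfl fun b _ => Finset.sum_congr rfl fun a _ => ?_
  rw [Finset.sum_comm]
  refine Finset.sum_congr rfl fun b' _ => Finset.sum_congr rfl fun a' _ => ?_
  ring

/-- the tensor power form structure obtained from a tensor form structure with two factors of the
same dimension, after orthonormalising both factors -/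
lemma tensorPower_of_tensor [Fintype F] {n q d : ℕ} (hF : Fintype.card F = q ^ 2)
    (e : Fin n ≃ Fin d × Fin d) (P : GL (Fin n) F)
    (f₁ f₂ : (Fin d → F) → (Fin d → F) → F)
    (hf₁ : IsUnitaryFormPow q f₁) (hf₂ : IsUnitaryFormPow q f₂)
    (hten : IsTensorFormStructure (fun a : F => a ^ q) (hermForm n F q) f₁ f₂ e P)
    (B₁ B₂ : GL (Fin d) F)
    (hB₁ : ∀ x y : Fin d → F, f₁ ((B₁ : Matrix (Fin d) (Fin d) F) *ᵥ x)
      ((B₁ : Matrix (Fin d) (Fin d) F) *ᵥ y) = hermForm d F q x y)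
    (hB₂ : ∀ x y : Fin d → F, f₂ ((B₂ : Matrix (Fin d) (Fin d) F) *ᵥ x)
      ((B₂ : Matrix (Fin d) (Fin d) F) *ᵥ y) = hermForm d F q x y) :
    IsTensorPowerFormStructure (fun a : F => a ^ q) (hermForm n F q) (hermForm d F q)
      (e.trans (finTwoArrowEquiv (Fin d)).symm) (P * glReindex e.symm (kronGL B₁ B₂)) := by
  classical
  obtain ⟨c, hc, h⟩ := hten
  refine ⟨c, hc, fun x y => ?_⟩
  set σ : F →+* F := (sigmaQ hF : F →+* F) with hσ
  have hcoe : (σ : F → F) = fun x => x ^ q := rfl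
  set φ : Fin d × Fin d ≃ (Fin 2 → Fin d) := (finTwoArrowEquiv (Fin d)).symm with hφ
  set K : Matrix (Fin d × Fin d) (Fin d × Fin d) F :=
    (B₁ : Matrix (Fin d) (Fin d) F) ⊗ₖ (B₂ : Matrix (Fin d) (Fin d) F) with hK
  -- the vectors
  have hvec : ∀ z : (Fin 2 → Fin d) → F,
      ((P * glReindex e.symm (kronGL B₁ B₂) : GL (Fin n) F) : Matrix (Fin n) (Fin n) F) *ᵥ
        (z ∘ (e.trans φ)) = (P : Matrix (Fin n) (Fin n) F) *ᵥ ((K *ᵥ (z ∘ φ)) ∘ e) := by
    intro z
    rw [Units.val_mul, ← Matrix.mulVec_mulVec]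
    congr 1
    have : ((glReindex e.symm (kronGL B₁ B₂) : GL (Fin n) F) : Matrix (Fin n) (Fin n) F) =
        K.submatrix e e := by
      ext i j
      rw [Cfsg.Agent.Lib.Helper52_Asch_PK2.glReindex_val]
      simp [kronGL_val, hK]
    rw [this]
    have hz : z ∘ (e.trans φ) = (z ∘ φ) ∘ e := by funext i; rfl
    rw [hz, Matrix.submatrix_mulVec_equiv]
    have hzz : ((z ∘ φ) ∘ e) ∘ e.symm = z ∘ φ := by
      funext i
      simp
    rw [hzz]
  rw [hvec, hvec, h, ← hcoe, formOfGram_mulVec σ]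
  -- the Gram matrix becomes the identity
  have hG : Kᵀ * (gramMatrix f₁ ⊗ₖ gramMatrix f₂) * K.map σ = 1 := by
    have hKt : Kᵀ = (B₁ : Matrix (Fin d) (Fin d) F)ᵀ ⊗ₖ (B₂ : Matrix (Fin d) (Fin d) F)ᵀ := by
      rw [hK]; exact Matrix.kroneckerMap_transpose _ _ _
    have hKm : K.map σ = (B₁ : Matrix (Fin d) (Fin d) F).map σ ⊗ₖ
        (B₂ : Matrix (Fin d) (Fin d) F).map σ := by
      ext ⟨i, j⟩ ⟨i', j'⟩
      simp [hK, Matrix.kroneckerMap_apply]
    rw [hKt, hKm, ← Matrix.mul_kronecker_mul, ← Matrix.mul_kronecker_mul,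
      gram_conj_eq_one hF f₁ hf₁ _ hB₁, gram_conj_eq_one hF f₂ hf₂ _ hB₂, Matrix.one_kronecker_one]
  rw [hG, formOfGram_one]
  congr 1
  -- reindex the sum along `φ`
  rw [← Equiv.sum_comp φ]
  refine Finset.sum_congr rfl fun p _ => ?_
  rw [Finset.sum_eq_single (φ p)]
  · have hprod : (∏ i, gramMatrix (hermForm d F q) ((φ p) i) ((φ p) i)) = 1 := by
      rw [gram_hermForm hF d]
      simp
    rw [hprod, mul_one]
    rfl
  · intro b _ hb
    have hprod : (∏ i, gramMatrix (hermForm d F q) ((φ p) i) (b i)) = 0 := by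
      rw [gram_hermForm hF d]
      have : ∃ i, (φ p) i ≠ b i := by
        by_contra hcon
        push Not at hcon
        exact hb (funext fun i => (hcon i).symm)
      obtain ⟨i, hi⟩ := this
      exact Finset.prod_eq_zero (Finset.mem_univ i) (by simp [hi])
    rw [hprod]; simp
  · simp

/-- UP4G: a normalized tensor algebra with a tensor decomposition of the form: classes 4 and 7 -/
theorem UP4G [Fintype F] (n q : ℕ) (hF : Fintype.card F = q ^ 2) (hn : 3 ≤ n)
    (H : Subgroup (GL (Fin n) F)) (hH : H ≤ GU n F q)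
    (A : Subalgebra F (Matrix (Fin n) (Fin n) F)) (hA : NormalizesAlg H A)
    (d s : ℕ) (e : Fin n ≃ Fin d × Fin s) (P : GL (Fin n) F) (hT : IsTensorAlg A d s e P)
    (hd : 1 < d) (hs : 1 < s)
    (f₁ : (Fin d → F) → (Fin d → F) → F) (f₂ : (Fin s → F) → (Fin s → F) → F)
    (hf₁ : IsUnitaryFormPow q f₁) (hf₂ : IsUnitaryFormPow q f₂)
    (hten : IsTensorFormStructure (fun a : F => a ^ q) (hermForm n F q) f₁ f₂ e P)
    (h22 : ¬ (d = 2 ∧ s = 2)) (h33 : ¬ (q = 2 ∧ d = 3 ∧ s = 3)) :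
    InSUClass n q H := by
  classical
  have key := Cfsg.Agent.Lib.Helper52_Asch_PK2.exists_kron H A hA d s e P hT (by omega) (by omega)
  rcases lt_trichotomy d s with hlt | heq | hgt
  · -- class 4 with (d, s)
    refine ⟨tensorProductSubgroup d s e P ⊓ GU n F q, ?_, le_inf ?_ hH⟩
    · right; right; left
      exact ⟨d, s, e, P, f₁, f₂, hd, hlt, hf₁, hf₂, hten, rfl⟩
    · intro h hh
      obtain ⟨g, hhg, a, c, hac⟩ := key h hh
      exact Cfsg.Agent.Lib.Helper52_Asch_PK2.mem_conj_reindex (kroneckerSubgroup d s F) e P h g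
        ⟨a, c, hac⟩ hhg
  · -- d = s: tensor wreath with two factors
    subst heq
    have h3 : 3 ≤ d := by
      by_contra hcon
      exact h22 ⟨by omega, by omega⟩
    obtain ⟨B₁, hB₁⟩ := Cfsg.Agent.Lib.Helper87_AschSU_UPH.UPH q hF d f₁ hf₁
    obtain ⟨B₂, hB₂⟩ := Cfsg.Agent.Lib.Helper87_AschSU_UPH.UPH q hF d f₂ hf₂
    set e'' : Fin n ≃ (Fin 2 → Fin d) := e.trans (finTwoArrowEquiv (Fin d)).symm with he''
    set KG : GL (Fin d × Fin d) F := kronGL B₁ B₂ with hKG
    set P'' : GL (Fin n) F := P * glReindex e.symm KG with hP''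
    have hHle : H ≤ tensorWreathSubgroup d 2 e'' P'' := by
      intro h hh
      obtain ⟨g, hhg, a, c, hac⟩ := key h hh
      -- conjugate `g` by the pure tensor `KG`
      have hg₂ : KG⁻¹ * g * KG ∈ kroneckerSubgroup d d F :=
        Subgroup.mul_mem _ (Subgroup.mul_mem _ (Subgroup.inv_mem _ (kronGL_mem B₁ B₂)) ⟨a, c, hac⟩)
          (kronGL_mem B₁ B₂)
      obtain ⟨a', c', hac'⟩ := hg₂
      set g₂ : GL (Fin d × Fin d) F := KG⁻¹ * g * KG with hg₂def
      set g'' : GL (Fin 2 → Fin d) F := glReindex (finTwoArrowEquiv (Fin d)).symm g₂ with hg''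
      have hpure : IsPureTensor d 2 g'' := by
        refine ⟨![a', c'], fun x y => ?_⟩
        rw [hg'', Cfsg.Agent.Lib.Helper52_Asch_PK2.glReindex_val, hac', Fin.prod_univ_two]
        simp [Matrix.kroneckerMap_apply]
      have hmem : g'' ∈ tensorWreathStandard d 2 F := Subgroup.subset_closure (Or.inl hpure)
      apply Cfsg.Agent.Lib.Helper52_Asch_PK2.mem_conj_reindex (tensorWreathStandard d 2 F) e'' P'' h g'' hmem
      rw [he'', hg'', Cfsg.Agent.Lib.Helper52_Asch_PK2.glReindex_trans, hhg, hP'', hg₂def]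
      simp only [map_mul, map_inv, _root_.mul_inv_rev]
      group
    refine ⟨tensorWreathSubgroup d 2 e'' P'' ⊓ GU n F q, ?_, le_inf hHle hH⟩
    right; right; right
    refine ⟨d, 2, e'', P'', hermForm d F q, h3, le_refl 2, ?_, isUnitaryFormPow_hermForm d hF, ?_, rfl⟩
    · rintro ⟨hq2, hd3⟩
      exact h33 ⟨hq2, hd3, hd3⟩
    · exact tensorPower_of_tensor hF e P f₁ f₂ hf₁ hf₂ hten B₁ B₂ hB₁ hB₂
  · -- class 4 with (s, d)
    set e' : Fin n ≃ Fin s × Fin d := e.trans (Equiv.prodComm (Fin d) (Fin s)) with he'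
    refine ⟨tensorProductSubgroup s d e' P ⊓ GU n F q, ?_, le_inf ?_ hH⟩
    · right; right; left
      exact ⟨s, d, e', P, f₂, f₁, hs, hgt, hf₂, hf₁, tensorForm_swap _ _ f₁ f₂ e P hten, rfl⟩
    · intro h hh
      obtain ⟨g, hhg, a, c, hac⟩ := key h hh
      set g' : GL (Fin s × Fin d) F := glReindex (Equiv.prodComm (Fin d) (Fin s)) g with hg'
      have hk : g' ∈ kroneckerSubgroup s d F := by
        refine ⟨c, a, ?_⟩
        ext x y
        rw [hg', Cfsg.Agent.Lib.Helper52_Asch_PK2.glReindex_val, hac]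
        simp [Matrix.kroneckerMap_apply, mul_comm]
      apply Cfsg.Agent.Lib.Helper52_Asch_PK2.mem_conj_reindex (kroneckerSubgroup s d F) e' P h g' hk
      rw [hhg, he', hg', Cfsg.Agent.Lib.Helper52_Asch_PK2.glReindex_trans]

end Cfsg.Agent.Lib.Helper4_AschSU_UP4G
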