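import Mathlib
import Cfsg.Agent.Lib.Helper98_AschDefs
import Cfsg.Agent.Lib.Helper23_FormDefs
import Cfsg.Agent.Lib.Helper97_SUDefs
import Cfsg.Agent.Lib.Helper5_GUOrder
import Cfsg.Agent.S0144

/-!
# S5663 package GU32 (helper59): `GU_3(2)` has no non-trivial perfect subgroup

`|GU_3(2)| = 2 ^ 3 * 3 ^ 4` (`Helper5_GUOrder.card_GU`), so the group is solvable by Burnside's two-prime theorem
(`S0144.result`); a perfect subgroup of a solvable group is trivial.
-/

set_option autoImplicit false

namespace Cfsg.Agent.Lib.Helper59_AschSU_GU32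

open Cfsg Cfsg.Geo Matrix Cfsg.Agent.Lib.Helper98_AschDefs Cfsg.Agent.Lib.Helper23_FormDefs
open Cfsg.Agent.Lib.Helper97_SUDefs
open scoped Kronecker

variable {F : Type*} [Field F]

/-- the order of `GU_3(2)` -/
theorem card_GU32 [Fintype F] (hF : Fintype.card F = 2 ^ 2) :
    Nat.card (GU 3 F 2) = 2 ^ 3 * 3 ^ 4 := by
  rw [Cfsg.Agent.Lib.Helper5_GUOrder.card_GU hF 3]
  simp [Finset.prod_range_succ]

/-- `GU_3(2)` is solvable -/
theorem isSolvable_GU32 [Fintype F] (hF : Fintype.card F = 2 ^ 2) :
    Group.IsSolvable (GU 3 F 2) := by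
  have hcard := card_GU32 hF
  have : Finite (GU 3 F 2) := Nat.finite_of_card_ne_zero (by rw [hcard]; norm_num)
  exact Cfsg.Agent.S0144.result 2 3 3 4 Nat.prime_two Nat.prime_three hcard

/-- a perfect subgroup contained in a solvable subgroup is trivial -/
theorem eq_bot_of_perfect_of_le_isSolvable {G : Type*} [Group G] (S K : Subgroup G) (hSK : S ≤ K)
    [Group.IsSolvable K] (hperf : ⁅S, S⁆ = S) : S = ⊥ := by
  have hsol : Group.IsSolvable S :=
    Group.isSolvable_of_isSolvable_injective (Subgroup.inclusion_injective hSK)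
  by_contra hne
  have : Nontrivial S := (Subgroup.nontrivial_iff_ne_bot S).2 hne
  have hlt : commutator S < ⊤ := Group.IsSolvable.commutator_lt_top_of_nontrivial S
  have hmap : (commutator S).map S.subtype = ⁅S, S⁆ := Subgroup.map_subtype_commutator S
  have htop : commutator S = ⊤ := by
    rw [eq_top_iff]
    intro x _
    have hx : (x : G) ∈ ⁅S, S⁆ := by rw [hperf]; exact x.2
    rw [← hmap] at hx
    obtain ⟨y, hy, hyx⟩ := hx
    have : y = x := Subtype.ext hyx
    rwa [← this]
  exact absurd htop hlt.ne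

/-- GU32: a perfect group of isometries of a hermitian form in dimension 3 over the field with 4 elements is trivial -/
theorem GU32 [Fintype F] (hF : Fintype.card F = 2 ^ 2) (S : Subgroup (GL (Fin 3) F)) (hS : S ≤ GU 3 F 2)
    (hperf : ⁅S, S⁆ = S) : S = ⊥ := by
  have := isSolvable_GU32 hF
  exact eq_bot_of_perfect_of_le_isSolvable S (GU 3 F 2) hS hperf

end Cfsg.Agent.Lib.Helper59_AschSU_GU32
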