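import Mathlib
import Cfsg.Agent.Lib.Helper98_AschDefs
import Cfsg.Agent.Lib.Helper23_FormDefs
import Cfsg.Agent.Lib.Helper97_SUDefs
import Cfsg.Agent.Lib.Helper52_Form_F4
import Cfsg.Agent.Lib.Helper52_Asch_PK7
import Cfsg.Agent.Lib.Helper54_Asch_PKP2
import Cfsg.Agent.Lib.Helper27_Asch_PKN1
import Cfsg.Agent.Lib.Helper10_AschSU_UP4F
import Cfsg.Agent.Lib.Helper59_AschSU_GU32
import Cfsg.Agent.Lib.Helper87_AschSU_UPH
import Cfsg.Agent.Lib.Helper94_TensorFrameU

/-!
# Package UP4fB of S5663 (architects helper97 / helper23; in support of helper2's UP4f) (helper87)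

Over the field with 4 elements, a minimal `H`-normalized non-scalar group `Y` of isometries of the
standard hermitian form whose span is a tensor algebra `M_3 ⊗ 1` has scalar commutators and
exponent 3.

* `Y` is isomorphic to a subgroup `Ȳ` of `GL_3(F)` (pull back along the injective algebra map
  `θ : M ↦ P ((B M B⁻¹) ⊗ₖ 1) P⁻¹`), which spans `M_3(F)`;
* the form is a tensor product `f₁ ⊗ f₂` of hermitian forms (F4 + UP4F), `Ȳ` consists of isometries
  of the standard form after the change of basis `B` of UPH, so `Ȳ ≤ GU_3(2)` is not perfect (GU32)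
  unless trivial; by minimality `⁅Y, Y⁆` is scalar;
* PK7 for `Ȳ` gives `|Y| = |Y ⊓ scalars| * 9` and `Helper27_Asch_PKN1.abstract_main` the exponent.
-/

set_option autoImplicit false
set_option linter.unusedSectionVars false
set_option linter.unusedVariables false
set_option linter.unusedSimpArgs false

namespace Cfsg.Agent.Lib.Helper87_AschSU_UP4fB

open Cfsg Cfsg.Geo Matrix Cfsg.Agent.Lib.Helper98_AschDefs Cfsg.Agent.Lib.Helper23_FormDefs
open Cfsg.Agent.Lib.Helper97_SUDefs Cfsg.Agent.Lib.Helper54_Asch_PKP2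
open Cfsg.Agent.Lib.Helper94_TensorVec
open scoped Kronecker commutatorElement

section transfer

variable {F : Type*} [Field F] {κ ι : Type} [Fintype κ] [DecidableEq κ] [Fintype ι] [DecidableEq ι]

/-- the group homomorphism on units induced by an algebra homomorphism of matrix algebras -/
def unitsHom (θ : Matrix κ κ F →ₐ[F] Matrix ι ι F) : GL κ F →* GL ι F :=
  Units.map (θ : Matrix κ κ F →* Matrix ι ι F)

theorem unitsHom_coe (θ : Matrix κ κ F →ₐ[F] Matrix ι ι F) (M : GL κ F) :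
    ((unitsHom θ M : GL ι F) : Matrix ι ι F) = θ (M : Matrix κ κ F) := rfl

theorem unitsHom_injective (θ : Matrix κ κ F →ₐ[F] Matrix ι ι F) (hθ : Function.Injective θ) :
    Function.Injective (unitsHom θ) := by
  intro M M' h
  apply Units.ext
  apply hθ
  have h1 := congrArg (fun g : GL ι F => (g : Matrix ι ι F)) h
  exact h1

/-- scalars go to scalars -/
theorem map_scalars (θ : Matrix κ κ F →ₐ[F] Matrix ι ι F) :
    (scalars κ F).map (unitsHom θ) = scalars ι F := by
  apply le_antisymm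
  · rintro _ ⟨g, hg, rfl⟩
    have hg' : g ∈ scalars κ F := hg
    rw [mem_scalars_iff] at hg' ⊢
    obtain ⟨c, hc⟩ := hg'
    exact ⟨c, by rw [unitsHom_coe, hc, map_smul, map_one]⟩
  · intro g hg
    rw [mem_scalars_iff] at hg
    obtain ⟨c, hc⟩ := hg
    have hmem : (Units.map (Matrix.scalar κ : F →+* Matrix κ κ F).toMonoidHom c : GL κ F) ∈
        scalars κ F := ⟨c, rfl⟩
    refine ⟨_, hmem, ?_⟩
    apply Units.ext
    rw [unitsHom_coe, hc]
    obtain ⟨c', hc'⟩ := (mem_scalars_iff _).mp hmem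
    have hcc : ((Units.map (Matrix.scalar κ : F →+* Matrix κ κ F).toMonoidHom c : GL κ F) :
        Matrix κ κ F) = (c : F) • (1 : Matrix κ κ F) := by
      show Matrix.scalar κ (c : F) = (c : F) • (1 : Matrix κ κ F)
      rw [Matrix.scalar_apply, Matrix.smul_one_eq_diagonal]
    rw [hcc, map_smul, map_one]

variable (θ : Matrix κ κ F →ₐ[F] Matrix ι ι F) (hθ : Function.Injective θ)
  (Y : Subgroup (GL ι F)) (hrange : ∀ a : Matrix ι ι F, a ∈ spanAlg Y ↔ ∃ M : Matrix κ κ F, a = θ M)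

include hθ hrange

/-- every element of `Y` comes from an invertible matrix -/
theorem le_range : Y ≤ (unitsHom θ).range := by
  intro y hy
  have h1 : (y : Matrix ι ι F) ∈ spanAlg Y := Algebra.subset_adjoin ⟨y, hy, rfl⟩
  have h2 : ((y⁻¹ : GL ι F) : Matrix ι ι F) ∈ spanAlg Y :=
    Algebra.subset_adjoin ⟨y⁻¹, Y.inv_mem hy, rfl⟩
  obtain ⟨M, hM⟩ := (hrange _).mp h1
  obtain ⟨M', hM'⟩ := (hrange _).mp h2
  have h3 : M * M' = 1 := by
    apply hθ
    rw [map_mul, map_one, ← hM, ← hM', ← Units.val_mul, mul_inv_cancel, Units.val_one]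
  have h4 : M' * M = 1 := by
    apply hθ
    rw [map_mul, map_one, ← hM, ← hM', ← Units.val_mul, inv_mul_cancel, Units.val_one]
  refine ⟨⟨M, M', h3, h4⟩, ?_⟩
  apply Units.ext
  rw [unitsHom_coe]
  exact hM.symm

/-- the pull-back of `Y` maps onto `Y` -/
theorem map_comap : (Y.comap (unitsHom θ)).map (unitsHom θ) = Y :=
  Subgroup.map_comap_eq_self (le_range θ hθ Y hrange)

/-- the pull-back of `Y` spans the whole matrix algebra -/
theorem spanAlg_comap : spanAlg (Y.comap (unitsHom θ)) = ⊤ := by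
  apply Subalgebra.map_injective hθ
  rw [Algebra.map_top]
  have h1 : (spanAlg (Y.comap (unitsHom θ))).map θ = spanAlg Y := by
    unfold spanAlg
    rw [AlgHom.map_adjoin]
    congr 1
    have h2 := congrArg (fun S : Subgroup (GL ι F) => (S : Set (GL ι F)))
      (map_comap θ hθ Y hrange)
    simp only [Subgroup.coe_map] at h2
    unfold matrixSet
    rw [← h2, Set.image_image, Set.image_image]
    rfl
  rw [h1]
  ext a
  rw [hrange, AlgHom.mem_range]
  constructor
  · rintro ⟨M, hM⟩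
    exact ⟨M, hM.symm⟩
  · rintro ⟨M, hM⟩
    exact ⟨M, hM.symm⟩

/-- scalar commutators are inherited by the pull-back -/
theorem commutator_comap_le (hcomm : ⁅Y, Y⁆ ≤ scalars ι F) :
    ⁅Y.comap (unitsHom θ), Y.comap (unitsHom θ)⁆ ≤ scalars κ F := by
  rw [← Subgroup.map_le_map_iff_of_injective (unitsHom_injective θ hθ), Subgroup.map_commutator,
    map_comap θ hθ Y hrange, map_scalars]
  exact hcomm

/-- the pull-back of `Y` meets the scalars in a group of the same order -/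
theorem card_comap_inf :
    Nat.card (Y.comap (unitsHom θ) ⊓ scalars κ F : Subgroup (GL κ F)) =
      Nat.card (Y ⊓ scalars ι F : Subgroup (GL ι F)) := by
  have h1 : (Y.comap (unitsHom θ) ⊓ scalars κ F).map (unitsHom θ) = Y ⊓ scalars ι F := by
    rw [Subgroup.map_inf _ _ _ (unitsHom_injective θ hθ), map_comap θ hθ Y hrange, map_scalars]
  rw [← h1]
  exact Nat.card_congr
    (Subgroup.equivMapOfInjective _ _ (unitsHom_injective θ hθ)).toEquiv

theorem card_comap : Nat.card (Y.comap (unitsHom θ)) = Nat.card Y := by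
  have h1 := map_comap θ hθ Y hrange
  conv_rhs => rw [← h1]
  exact Nat.card_congr
    (Subgroup.equivMapOfInjective _ _ (unitsHom_injective θ hθ)).toEquiv

/-- the order formula of PK7, transported to `Y` -/
theorem card_eq [Finite F] [Nonempty κ] (hcomm : ⁅Y, Y⁆ ≤ scalars ι F) :
    Nat.card Y = Nat.card (Y ⊓ scalars ι F : Subgroup (GL ι F)) * Fintype.card κ ^ 2 := by
  rw [← card_comap θ hθ Y hrange, ← card_comap_inf θ hθ Y hrange]
  exact Helper52_Asch_PK7.PK7 _ (spanAlg_comap θ hθ Y hrange)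
    (commutator_comap_le θ hθ Y hrange hcomm)

/-- a non-scalar `Y` with scalar commutators contains a non-trivial scalar -/
theorem exists_scalar_ne_one (hYZ : ¬ Y ≤ scalars ι F) (hcomm : ⁅Y, Y⁆ ≤ scalars ι F) :
    ∃ z ∈ (Y ⊓ scalars ι F : Subgroup (GL ι F)), z ≠ 1 := by
  by_contra hno
  apply hYZ
  rw [← map_comap θ hθ Y hrange, ← map_scalars θ]
  apply Subgroup.map_mono
  intro z hz
  apply Helper52_Asch_PK7.mem_scalars_of_commute _ (spanAlg_comap θ hθ Y hrange) z
  intro y hy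
  have hz' : unitsHom θ z ∈ Y := hz
  have hy' : unitsHom θ y ∈ Y := hy
  have h1 : ⁅unitsHom θ y, unitsHom θ z⁆ = 1 := by
    by_contra hne
    apply hno
    refine ⟨_, ⟨?_, hcomm (Subgroup.commutator_mem_commutator hy' hz')⟩, hne⟩
    rw [commutatorElement_def]
    exact Y.mul_mem (Y.mul_mem (Y.mul_mem hy' hz') (Y.inv_mem hy')) (Y.inv_mem hz')
  rw [commutatorElement_eq_one_iff_commute] at h1
  have h2 : unitsHom θ (y * z) = unitsHom θ (z * y) := by
    rw [map_mul, map_mul]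
    exact h1.eq
  have h3 := unitsHom_injective θ hθ h2
  have h4 := congrArg (fun g : GL κ F => (g : Matrix κ κ F)) h3
  simpa only [Units.val_mul] using h4

end transfer

section algebra

variable {F : Type*} [Field F] {ι : Type} [Fintype ι] [DecidableEq ι]

theorem conjHom_left_inv (h : GL ι F) (a : Matrix ι ι F) : conjHom h⁻¹ (conjHom h a) = a := by
  rw [conjHom_apply, conjHom_apply, inv_inv]
  have h1 : ((h⁻¹ : GL ι F) : Matrix ι ι F) * (h : Matrix ι ι F) = 1 := by
    rw [← Units.val_mul, inv_mul_cancel, Units.val_one]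
  calc ((h⁻¹ : GL ι F) : Matrix ι ι F) * ((h : Matrix ι ι F) * a * ((h⁻¹ : GL ι F) : Matrix ι ι F)) *
        (h : Matrix ι ι F)
      = (((h⁻¹ : GL ι F) : Matrix ι ι F) * (h : Matrix ι ι F)) * a *
          (((h⁻¹ : GL ι F) : Matrix ι ι F) * (h : Matrix ι ι F)) := by simp only [mul_assoc]
    _ = a := by rw [h1, one_mul, mul_one]

theorem conjHom_injective (h : GL ι F) : Function.Injective (conjHom h) :=
  Function.LeftInverse.injective (conjHom_left_inv h)

theorem conjHom_right_inv (h : GL ι F) (a : Matrix ι ι F) : conjHom h (conjHom h⁻¹ a) = a := by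
  have h1 := conjHom_left_inv h⁻¹ a
  rwa [inv_inv] at h1

theorem kronHom_injective (d s : ℕ) (hs : 0 < s) : Function.Injective (kronHom (F := F) d s) := by
  intro M M' h
  ext a b
  have h1 := congrFun (congrFun h (a, ⟨0, hs⟩)) (b, ⟨0, hs⟩)
  change (M ⊗ₖ (1 : Matrix (Fin s) (Fin s) F)) (a, ⟨0, hs⟩) (b, ⟨0, hs⟩) =
    (M' ⊗ₖ (1 : Matrix (Fin s) (Fin s) F)) (a, ⟨0, hs⟩) (b, ⟨0, hs⟩) at h1
  simpa [Matrix.kroneckerMap_apply] using h1

theorem tensorHom_injective (d s : ℕ) (hs : 0 < s) (e : ι ≃ Fin d × Fin s) (P : GL ι F) :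
    Function.Injective (tensorHom d s e P) := by
  intro M M' h
  have h1 : conjHom P (Matrix.reindexAlgEquiv F F e.symm (kronHom d s M)) =
      conjHom P (Matrix.reindexAlgEquiv F F e.symm (kronHom d s M')) := h
  exact kronHom_injective d s hs
    ((Matrix.reindexAlgEquiv F F e.symm).injective (conjHom_injective P h1))

/-- the action of `P (A ⊗ₖ 1) P⁻¹` in tensor coordinates -/
theorem tensorHom_mulVec (d s : ℕ) (e : ι ≃ Fin d × Fin s) (P : GL ι F)
    (A : Matrix (Fin d) (Fin d) F) (x : Fin d × Fin s → F) :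
    tensorHom d s e P A *ᵥ ((P : Matrix ι ι F) *ᵥ (x ∘ e)) =
      (P : Matrix ι ι F) *ᵥ (((A ⊗ₖ (1 : Matrix (Fin s) (Fin s) F)) *ᵥ x) ∘ e) := by
  have h1 : ((P⁻¹ : GL ι F) : Matrix ι ι F) * (P : Matrix ι ι F) = 1 := by
    rw [← Units.val_mul, inv_mul_cancel, Units.val_one]
  rw [tensorHom_apply, Matrix.mulVec_mulVec, Matrix.mul_assoc, h1, Matrix.mul_one,
    ← Matrix.mulVec_mulVec]
  congr 1
  rw [Matrix.reindex_apply, Matrix.submatrix_mulVec_equiv]
  simp only [Equiv.symm_symm, Function.comp_assoc, Equiv.self_comp_symm, Function.comp_id]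

end algebra

section unitary

variable {F : Type*} [Field F] [Fintype F]

/-- an isometry of the form `P (A ⊗ₖ 1) P⁻¹` of a tensor product form `f₁ ⊗ f₂` induces an isometry
`A` of `f₁` -/
theorem factor_isometry (n q : ℕ) (hF : Fintype.card F = q ^ 2) (d s : ℕ) (hs : 0 < s)
    (e : Fin n ≃ Fin d × Fin s) (P : GL (Fin n) F)
    (f₁ : (Fin d → F) → (Fin d → F) → F) (f₂ : (Fin s → F) → (Fin s → F) → F)
    (hf₁ : IsUnitaryFormPow q f₁) (hf₂ : IsUnitaryFormPow q f₂)
    (hten : IsTensorFormStructure (fun a : F => a ^ q) (hermForm n F q) f₁ f₂ e P)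
    (g : GL (Fin n) F) (hg : g ∈ GU n F q) (A : Matrix (Fin d) (Fin d) F)
    (hgA : (g : Matrix (Fin n) (Fin n) F) = tensorHom d s e P A) (a a' : Fin d → F) :
    f₁ (A *ᵥ a) (A *ᵥ a') = f₁ a a' := by
  obtain ⟨c, hc0, hc⟩ := hten
  have hne : (Pi.single (⟨0, hs⟩ : Fin s) (1 : F) : Fin s → F) ≠ 0 := by
    intro h
    have := congrFun h ⟨0, hs⟩
    simp at this
  obtain ⟨⟨b, hb⟩, _⟩ := hf₂.nondegenerate _ hne
  set b' : Fin s → F := Pi.single (⟨0, hs⟩ : Fin s) (1 : F) with hb'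
  have h1 := (Cfsg.Agent.Lib.Helper13_GU.mem_GU_iff g).1 hg
    ((P : Matrix (Fin n) (Fin n) F) *ᵥ (ten a b ∘ e)) ((P : Matrix (Fin n) (Fin n) F) *ᵥ (ten a' b' ∘ e))
  have hσ : ∀ x : F, Cfsg.Agent.Lib.Helper13_HermBridge.frobQ hF x = x ^ q := fun x => rfl
  rw [show g.1 = tensorHom d s e P A from hgA, tensorHom_mulVec, tensorHom_mulVec,
    kron_mulVec_ten, kron_mulVec_ten, Matrix.one_mulVec, Matrix.one_mulVec, hc, hc,
    Cfsg.Agent.Lib.Helper94_TensorFrameU.formOfGram_ten_pow _ hσ f₁ f₂ hf₁ hf₂,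
    Cfsg.Agent.Lib.Helper94_TensorFrameU.formOfGram_ten_pow _ hσ f₁ f₂ hf₁ hf₂] at h1
  have h2 := mul_left_cancel₀ hc0 h1
  exact mul_right_cancel₀ hb h2

end unitary

section main

variable {F : Type*} [Field F]

theorem normalizesGrp_commutator {ι : Type} [Fintype ι] [DecidableEq ι] {H N : Subgroup (GL ι F)}
    (hnorm : NormalizesGrp H N) : NormalizesGrp H ⁅N, N⁆ := by
  intro h hh x hx
  have h1 : (⁅N, N⁆).map (MulAut.conj h).toMonoidHom ≤ ⁅N, N⁆ := by
    rw [Subgroup.map_commutator]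
    have h2 : N.map (MulAut.conj h).toMonoidHom ≤ N := by
      rintro _ ⟨y, hy, rfl⟩
      exact hnorm h hh y hy
    exact Subgroup.commutator_mono h2 h2
  exact h1 ⟨x, hx, rfl⟩

/-- UP4fB: over the field with 4 elements, a minimal normalized group of isometries whose span is a tensor algebra
`M_3 ⊗ 1` has scalar commutators and exponent 3 -/
theorem UP4fB [Fintype F] (n : ℕ) (hF : Fintype.card F = 2 ^ 2)
    (H Y : Subgroup (GL (Fin n) F)) (hY : Y ≤ GU n F 2) (hnorm : NormalizesGrp H Y)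
    (hYZ : ¬ Y ≤ scalars (Fin n) F)
    (hmin : ∀ Y' : Subgroup (GL (Fin n) F), Y' ≤ Y → NormalizesGrp H Y' → Y' = Y ∨ Y' ≤ scalars (Fin n) F)
    (e : Fin n ≃ Fin 3 × Fin 3) (P : GL (Fin n) F) (hT : IsTensorAlg (spanAlg Y) 3 3 e P) :
    ⁅Y, Y⁆ ≤ scalars (Fin n) F ∧ ∀ y ∈ Y, y ^ 3 = 1 := by
  classical
  -- the forms
  have hadj := adjointClosed_spanAlg hF hY
  obtain ⟨G₁, G₂, h₁, h₂, hG⟩ := Cfsg.Agent.Lib.Helper52_Form_F4.F4 (sigmaQ hF) (hermForm n F 2)
    (isSesq_hermForm n hF) (hermForm_nondegenerate n hF) (spanAlg Y) hadj 3 3 e P hT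
  obtain ⟨f₁, f₂, hf₁, hf₂, hten⟩ := Cfsg.Agent.Lib.Helper10_AschSU_UP4F.UP4F n 2 hF 3 3
    (by norm_num) (by norm_num) e P G₁ G₂ h₁ h₂ hG
  obtain ⟨B, hB⟩ := Cfsg.Agent.Lib.Helper87_AschSU_UPH.UPH 2 hF 3 f₁ hf₁
  -- the algebra map
  set θ : Matrix (Fin 3) (Fin 3) F →ₐ[F] Matrix (Fin n) (Fin n) F :=
    (tensorHom 3 3 e P).comp (conjHom B) with hθdef
  have hθ : Function.Injective θ :=
    (tensorHom_injective 3 3 (by norm_num) e P).comp (conjHom_injective B)
  have hrange : ∀ a : Matrix (Fin n) (Fin n) F, a ∈ spanAlg Y ↔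
      ∃ M : Matrix (Fin 3) (Fin 3) F, a = θ M := by
    intro a
    rw [hT a]
    constructor
    · rintro ⟨M, hM⟩
      refine ⟨conjHom B⁻¹ M, ?_⟩
      rw [hθdef, AlgHom.comp_apply, conjHom_right_inv, tensorHom_apply]
      exact hM
    · rintro ⟨M, hM⟩
      exact ⟨conjHom B M, by rw [hM]; rfl⟩
  -- the pull-back consists of isometries of the standard form
  have hYbarGU : Y.comap (unitsHom θ) ≤ GU 3 F 2 := by
    intro M hM
    have hM' : unitsHom θ M ∈ Y := hM
    rw [Cfsg.Agent.Lib.Helper13_GU.mem_GU_iff]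
    intro u v
    have h1 := factor_isometry n 2 hF 3 3 (by norm_num) e P f₁ f₂ hf₁ hf₂ hten (unitsHom θ M)
      (hY hM') (conjHom B (M : Matrix (Fin 3) (Fin 3) F)) rfl
      ((B : Matrix (Fin 3) (Fin 3) F) *ᵥ u) ((B : Matrix (Fin 3) (Fin 3) F) *ᵥ v)
    have h2 : ∀ w : Fin 3 → F, conjHom B (M : Matrix (Fin 3) (Fin 3) F) *ᵥ
        ((B : Matrix (Fin 3) (Fin 3) F) *ᵥ w) =
          (B : Matrix (Fin 3) (Fin 3) F) *ᵥ ((M : Matrix (Fin 3) (Fin 3) F) *ᵥ w) := by
      intro w
      have hBB : ((B⁻¹ : GL (Fin 3) F) : Matrix (Fin 3) (Fin 3) F) * (B : Matrix (Fin 3) (Fin 3) F) = 1 := by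
        rw [← Units.val_mul, inv_mul_cancel, Units.val_one]
      rw [conjHom_apply, Matrix.mulVec_mulVec, Matrix.mul_assoc, hBB, Matrix.mul_one,
        Matrix.mulVec_mulVec]
    rw [h2, h2, hB, hB] at h1
    exact h1
  -- commutators are scalar
  have hcomm : ⁅Y, Y⁆ ≤ scalars (Fin n) F := by
    rcases hmin ⁅Y, Y⁆ (Subgroup.commutator_le_self Y) (normalizesGrp_commutator hnorm) with hperf | hc
    · exfalso
      apply hYZ
      have hmap := map_comap θ hθ Y hrange
      have hperf' : ⁅Y.comap (unitsHom θ), Y.comap (unitsHom θ)⁆ = Y.comap (unitsHom θ) := by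
        apply Subgroup.map_injective (unitsHom_injective θ hθ)
        rw [Subgroup.map_commutator, hmap, hperf]
      have hbot := Cfsg.Agent.Lib.Helper59_AschSU_GU32.GU32 hF _ hYbarGU hperf'
      rw [← hmap, hbot, Subgroup.map_bot]
      exact bot_le
    · exact hc
  refine ⟨hcomm, ?_⟩
  -- the exponent
  have hcard := card_eq θ hθ Y hrange hcomm
  rw [Fintype.card_fin] at hcard
  have hnt := exists_scalar_ne_one θ hθ Y hrange hYZ hcomm
  have : IsCyclic (scalars (Fin n) F) := Cfsg.Agent.Lib.Helper27_Asch_PKN1.isCyclic_scalars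
  obtain ⟨r, hr, hp, hexp⟩ := Cfsg.Agent.Lib.Helper27_Asch_PKN1.abstract_main (scalars (Fin n) F) H Y
    Cfsg.Agent.Lib.Helper27_Asch_PKN1.scalars_le_center hnorm hYZ hmin hcomm 3 le_rfl hcard hnt
  have hr3 : r = 3 := by
    have : Fact r.Prime := ⟨hr⟩
    obtain ⟨k, hk⟩ := IsPGroup.iff_card.mp hp
    have h3 : 3 ∣ r ^ k := by
      rw [← hk, hcard]
      exact Dvd.dvd.mul_left (by norm_num) _
    have h4 := Nat.prime_three.dvd_of_dvd_pow h3
    exact ((Nat.prime_dvd_prime_iff_eq Nat.prime_three hr).mp h4).symm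
  subst hr3
  rcases hexp with ⟨_, h⟩ | ⟨h2, _⟩
  · exact h
  · omega

end main

end Cfsg.Agent.Lib.Helper87_AschSU_UP4fB
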