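import Mathlib
import Cfsg.Agent.Lib.Helper98_AschDefs
import Cfsg.Agent.Lib.Helper23_FormDefs
import Cfsg.Agent.Lib.Helper7_AschSp_SP3
import Cfsg.Agent.Lib.Helper60_Asch_PK13

/-!
# S5663 package UP3 (helper31 for helper97)

A quadratic extension field inside the matrix algebra is never closed under the adjoints of a unitary
form: the adjoint map would be an involutive field automorphism of `K` (with `|K| = |F|²`) acting as
`σ ≠ 1` on the scalars, but the fixed field of an involution of `K` is the unique subfield with `|F|`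
elements, i.e. the scalars.
-/

set_option autoImplicit false
set_option linter.unusedSectionVars false

open Cfsg Cfsg.Geo Matrix Cfsg.Agent.Lib.Helper98_AschDefs Cfsg.Agent.Lib.Helper23_FormDefs
open Cfsg.Agent.Lib.Helper7_AschSp_SP3

namespace Cfsg.Agent.Lib.Helper31_AschSU_UP3

open Module in
/-- an involutive non-trivial ring automorphism of a finite field `E` with `q0 ^ 2` elements fixes
every root of `X ^ q0 - X` -/
theorem key_fix {E : Type*} [Field E] [Finite E] (τ : E ≃+* E)
    (hτ2 : ∀ x, τ (τ x) = x) (hτ1 : ∃ x, τ x ≠ x) (q0 : ℕ) (hcard : Nat.card E = q0 ^ 2) :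
    ∀ x : E, x ^ q0 = x → τ x = x := by
  classical
  have : Fintype E := Fintype.ofFinite E
  let G : Subgroup (RingAut E) := Subgroup.zpowers (τ : RingAut E)
  have hτG : (τ : RingAut E) ∈ G := Subgroup.mem_zpowers _
  have hord : orderOf (τ : RingAut E) = 2 := by
    apply orderOf_eq_prime
    · ext x
      rw [pow_two]
      exact hτ2 x
    · intro h1
      obtain ⟨x, hx⟩ := hτ1
      apply hx
      rw [h1]
      rfl
  have : Finite (RingAut E) :=
    Finite.of_injective (fun f : RingAut E => (f : E → E)) DFunLike.coe_injective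
  have : Fintype G := Fintype.ofFinite G
  have hGcard : Fintype.card G = 2 := by
    rw [← Nat.card_eq_fintype_card, Nat.card_zpowers, hord]
  have hfr := FixedPoints.finrank_eq_card G E
  rw [hGcard] at hfr
  set Fx : Subfield E := FixedPoints.subfield G E with hFx
  have : Fintype Fx := Fintype.ofFinite Fx
  have hcardE : Fintype.card E = Fintype.card Fx ^ 2 := by
    rw [← hfr]
    exact Module.card_eq_pow_finrank
  have hcardL : Nat.card Fx = q0 := by
    rw [Nat.card_eq_fintype_card (α := E)] at hcard
    rw [hcardE, ← Nat.card_eq_fintype_card] at hcard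
    exact Nat.pow_left_injective (n := 2) (by norm_num) hcard
  intro x hx
  have hxF : x ∈ Fx := by
    apply Cfsg.Agent.Lib.Helper60_Asch_PK13.mem_of_pow_card_eq_self Fx
    rw [hcardL]
    exact hx
  exact hxF ⟨τ, hτG⟩

variable {ι : Type} [Fintype ι] [DecidableEq ι] {F : Type*} [Field F]

section adj

variable {σ : F ≃+* F} {f : (ι → F) → (ι → F) → F}

theorem sesq_sub_right (hs : IsSesq σ f) (u x y : ι → F) : f u (x - y) = f u x - f u y := by
  have h := hs.add_right u (x - y) y
  rw [sub_add_cancel] at h
  rw [h]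
  ring

theorem adj_unique (hs : IsSesq σ f) (hnd : IsNondegenerateForm f) {a b b' : Matrix ι ι F}
    (h1 : IsAdj f a b) (h2 : IsAdj f a b') : b = b' := by
  apply Matrix.toLin'.injective
  apply LinearMap.ext
  intro v
  rw [Matrix.toLin'_apply, Matrix.toLin'_apply]
  by_contra hne
  have hne' : b *ᵥ v - b' *ᵥ v ≠ 0 := sub_ne_zero.2 hne
  obtain ⟨⟨x, hx⟩, -⟩ := hnd _ hne'
  apply hx
  rw [sesq_sub_right hs, ← h1 x v, ← h2 x v, sub_self]

theorem adj_add (hs : IsSesq σ f) {a b a' b' : Matrix ι ι F} (h1 : IsAdj f a b)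
    (h2 : IsAdj f a' b') : IsAdj f (a + a') (b + b') := by
  intro u v
  rw [Matrix.add_mulVec, Matrix.add_mulVec, hs.add_left, hs.add_right, h1, h2]

theorem adj_smul (hs : IsSesq σ f) (hinv : ∀ a : F, σ (σ a) = a) (c : F) {a b : Matrix ι ι F}
    (h1 : IsAdj f a b) : IsAdj f (c • a) (σ c • b) := by
  intro u v
  rw [Matrix.smul_mulVec, Matrix.smul_mulVec, hs.smul_left, hs.smul_right, hinv, h1]

theorem adj_symm (hherm : ∀ v w, f v w = σ (f w v)) {a b : Matrix ι ι F} (h1 : IsAdj f a b) :
    IsAdj f b a := by
  intro u v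
  rw [hherm, ← h1, ← hherm]

end adj

/-- UP3: a quadratic extension field inside the matrix algebra is not closed under the adjoints of a unitary form -/
theorem UP3 {ι : Type} [Fintype ι] [DecidableEq ι] [Fintype F] (σ : F ≃+* F)
    (f : (ι → F) → (ι → F) → F) (hf : IsUnitaryForm σ f)
    (K : Subalgebra F (Matrix ι ι F)) (hK : IsFieldSubalgebra 2 K) (hadj : IsAdjointClosedFor f K) : False := by
  classical
  have hs : IsSesq σ f := isSesq_of_unitary hf
  have hnd := hf.nondegenerate
  -- the adjoint map on `K`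
  have star_eq : ∀ (k : K) {b : Matrix ι ι F}, IsAdj f (k : Matrix ι ι F) b →
      (adjK hadj k : Matrix ι ι F) = b := fun k b h => adj_unique hs hnd (adjK_spec hadj k) h
  have star_add : ∀ k l : K, adjK hadj (k + l) = adjK hadj k + adjK hadj l := fun k l =>
    Subtype.ext (star_eq _ (adj_add hs (adjK_spec hadj k) (adjK_spec hadj l)))
  have star_mul : ∀ k l : K, adjK hadj (k * l) = adjK hadj k * adjK hadj l := by
    intro k l
    apply Subtype.ext
    rw [star_eq (k * l) ((adjK_spec hadj k).mul (adjK_spec hadj l))]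
    exact hK.comm _ (adjK hadj l).2 _ (adjK hadj k).2
  have star_star : ∀ k : K, adjK hadj (adjK hadj k) = k := fun k =>
    Subtype.ext (star_eq _ (adj_symm hf.herm (adjK_spec hadj k)))
  have star_smul_one : ∀ c : F, adjK hadj (c • (1 : K)) = σ c • (1 : K) := by
    intro c
    apply Subtype.ext
    have h1 : IsAdj f ((c • (1 : K) : K) : Matrix ι ι F) (σ c • (1 : Matrix ι ι F)) :=
      adj_smul hs hf.involutive c IsAdj.one
    rw [star_eq _ h1]
    rfl
  -- `K` is a field
  have hntK : Nontrivial K := by
    apply Module.nontrivial_of_finrank_pos (R := F)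
    rw [hK.finrank_eq]
    norm_num
  have hfield : IsField K :=
    { exists_pair_ne := ⟨0, 1, zero_ne_one⟩
      mul_comm := fun x y => Subtype.ext (hK.comm x x.2 y y.2)
      mul_inv_cancel := fun {a} ha => by
        obtain ⟨y, hy, hxy⟩ := hK.inv a a.2 (fun h => ha (Subtype.ext h))
        exact ⟨⟨y, hy⟩, Subtype.ext hxy⟩ }
  let _ : Field K := hfield.toField
  let τ : K ≃+* K :=
    { toFun := adjK hadj
      invFun := adjK hadj
      left_inv := star_star
      right_inv := star_star
      map_mul' := star_mul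
      map_add' := star_add }
  have hτ : ∀ k : K, τ k = adjK hadj k := fun k => rfl
  -- an element moved by `σ`
  obtain ⟨c, hc⟩ : ∃ c : F, σ c ≠ c := by
    by_contra hcon
    push Not at hcon
    apply hf.ne_refl
    ext a
    exact hcon a
  have hinj : ∀ a b : F, a • (1 : K) = b • (1 : K) → a = b := by
    intro a b hab
    by_contra hne
    have h1 : (a - b) • (1 : K) = 0 := by rw [sub_smul, hab, sub_self]
    rcases smul_eq_zero.1 h1 with h2 | h2
    · exact hne (sub_eq_zero.1 h2)
    · exact one_ne_zero h2
  have hτ1 : ∃ x : K, τ x ≠ x := by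
    refine ⟨c • (1 : K), ?_⟩
    rw [hτ, star_smul_one]
    exact fun h => hc (hinj _ _ h)
  -- cardinality
  have hcard : Nat.card K = Fintype.card F ^ 2 := by
    have : Fintype K := Fintype.ofFinite K
    rw [Nat.card_eq_fintype_card, ← hK.finrank_eq]
    exact Module.card_eq_pow_finrank
  have hfix := key_fix τ star_star hτ1 (Fintype.card F) hcard (c • (1 : K)) (by
    rw [smul_pow, one_pow, FiniteField.pow_card])
  rw [hτ, star_smul_one] at hfix
  exact hc (hinj _ _ hfix)

end Cfsg.Agent.Lib.Helper31_AschSU_UP3
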