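import Mathlib
import Cfsg.Agent.Lib.Helper98_AschDefs
import Cfsg.Agent.Lib.Helper98_AschMain
import Cfsg.Agent.Lib.Helper98_Decomp
import Cfsg.Agent.Lib.Helper23_FormDefs
import Cfsg.Agent.Lib.Helper97_SUDefs
import Cfsg.Agent.Lib.Helper98_Form_F2
import Cfsg.Agent.Lib.Helper71_Form_F3
import Cfsg.Agent.Lib.Helper31_AschSU_UP3
import Cfsg.Agent.Lib.Helper29_Asch_PKG0
import Cfsg.Agent.Lib.Helper52_Asch_PK7

/-!
# S5663, package UP4f, piece C (helper97): a second tensor factor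

Inside a non-scalar `H`-normalized subgroup `C` of `GU_9(2)` that commutes with a non-scalar matrix, a minimal
`H`-normalized non-scalar subgroup `X` has `spanAlg X` a tensor algebra `M_3 ⊗ 1` - unless `H` lies in a member of class 2 or 3.
Also: the two degenerate cases of a tensor algebra `M_d ⊗ 1` (`d = 1`: scalar group; `s = 1`: everything).
-/

set_option autoImplicit false
set_option linter.unusedVariables false
set_option linter.unusedSectionVars false
set_option linter.style.haveILetI false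

namespace Cfsg.Agent.Lib.Helper97_AschSU_UP4fC

open Cfsg Cfsg.Geo Matrix Cfsg.Agent.Lib.Helper98_AschDefs Cfsg.Agent.Lib.Helper23_FormDefs
open Cfsg.Agent.Lib.Helper97_SUDefs Cfsg.Agent.Lib Cfsg.Agent.Lib.Helper98_AschMain
open scoped Kronecker

variable {F : Type*} [Field F]

/-- a group whose span is a tensor algebra `M_1 ⊗ 1` is scalar -/
lemma le_scalars_of_tensorAlg_one {n s : ℕ} (N : Subgroup (GL (Fin n) F)) (e : Fin n ≃ Fin 1 × Fin s)
    (P : GL (Fin n) F) (hT : IsTensorAlg (spanAlg N) 1 s e P) : N ≤ scalars (Fin n) F := by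
  intro g hg
  rcases isEmpty_or_nonempty (Fin n) with hE | hE
  · rw [mem_scalars_iff]
    exact ⟨1, Subsingleton.elim _ _⟩
  obtain ⟨M, hM⟩ := (hT _).1 (coe_mem_spanAlg hg)
  have h1 : Matrix.reindex e.symm e.symm
      ((M 0 0) • (1 : Matrix (Fin 1 × Fin s) (Fin 1 × Fin s) F)) = (M 0 0) • 1 := by
    ext i j
    simp [Matrix.one_apply, Matrix.smul_apply]
  rw [kron_one_of_d_one, h1, Matrix.mul_smul, Matrix.smul_mul, mul_one, ← Units.val_mul,
    mul_inv_cancel, Units.val_one] at hM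
  have hc : M 0 0 ≠ 0 := by
    intro h0
    rw [h0, zero_smul] at hM
    have h2 : (g : Matrix (Fin n) (Fin n) F) * ((g⁻¹ : GL (Fin n) F) : Matrix (Fin n) (Fin n) F) = 1 := by
      rw [← Units.val_mul, mul_inv_cancel, Units.val_one]
    rw [hM, zero_mul] at h2
    exact zero_ne_one h2
  rw [mem_scalars_iff]
  exact ⟨Units.mk0 _ hc, hM⟩

/-- a tensor algebra `M_d ⊗ 1` with `s = 1` is the whole matrix algebra -/
lemma eq_top_of_tensorAlg_one {n d : ℕ} (A : Subalgebra F (Matrix (Fin n) (Fin n) F)) (e : Fin n ≃ Fin d × Fin 1)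
    (P : GL (Fin n) F) (hT : IsTensorAlg A d 1 e P) : A = ⊤ := by
  rw [eq_top_iff]
  intro a _
  rw [hT]
  obtain ⟨M, hM⟩ := exists_kron_of_s_one
    (Matrix.reindex e e (((P⁻¹ : GL (Fin n) F) : Matrix (Fin n) (Fin n) F) * a * (P : Matrix (Fin n) (Fin n) F)))
  refine ⟨M, ?_⟩
  rw [← hM, ← Matrix.reindex_symm, Equiv.symm_apply_apply]
  have e1 : (P : Matrix (Fin n) (Fin n) F) * ((P⁻¹ : GL (Fin n) F) : Matrix (Fin n) (Fin n) F) = 1 := by
    rw [← Units.val_mul, mul_inv_cancel, Units.val_one]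
  calc a = ((P : Matrix (Fin n) (Fin n) F) * ((P⁻¹ : GL (Fin n) F) : Matrix (Fin n) (Fin n) F)) * a *
        ((P : Matrix (Fin n) (Fin n) F) * ((P⁻¹ : GL (Fin n) F) : Matrix (Fin n) (Fin n) F)) := by
        rw [e1, one_mul, mul_one]
    _ = _ := by simp only [mul_assoc]

/-- **UP4fC**: a minimal normalized non-scalar subgroup of `C` spans a tensor algebra `M_3 ⊗ 1`, or `H` is in class 2 or 3 -/
theorem exists_factor [Fintype F] (n : ℕ) (hF : Fintype.card F = 2 ^ 2) (hn : 3 ≤ n)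
    (H : Subgroup (GL (Fin n) F)) (hH : H ≤ GU n F 2) (hirr : ActsIrreducibly (matrixSet H))
    (C : Subgroup (GL (Fin n) F)) (hC : C ≤ GU n F 2) (hCn : NormalizesGrp H C)
    (hCZ : ¬ C ≤ scalars (Fin n) F) (e : Fin n ≃ Fin 3 × Fin 3)
    (hCcomm : ∃ a : Matrix (Fin n) (Fin n) F,
      (∀ c ∈ C, (c : Matrix (Fin n) (Fin n) F) * a = a * (c : Matrix (Fin n) (Fin n) F)) ∧
      ∀ x : F, a ≠ x • (1 : Matrix (Fin n) (Fin n) F)) :
    InSUClass n 2 H ∨
    ∃ (X : Subgroup (GL (Fin n) F)) (e' : Fin n ≃ Fin 3 × Fin 3) (P' : GL (Fin n) F),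
      X ≤ C ∧ NormalizesGrp H X ∧ ¬ X ≤ scalars (Fin n) F ∧
      (∀ X' : Subgroup (GL (Fin n) F), X' ≤ X → NormalizesGrp H X' → X' = X ∨ X' ≤ scalars (Fin n) F) ∧
      IsTensorAlg (spanAlg X) 3 3 e' P' := by
  classical
  haveI : Nonempty (Fin n) := ⟨⟨0, by omega⟩⟩
  have hn9 : n = 9 := by
    have := Fintype.card_congr e
    simpa using this
  obtain ⟨X, ⟨hXC, hXn, hXZ⟩, hXmin⟩ := Helper29_Asch_PKG0.exists_minimal_subgroup
    (fun K : Subgroup (GL (Fin n) F) => K ≤ C ∧ NormalizesGrp H K ∧ ¬ K ≤ scalars (Fin n) F)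
    ⟨C, le_rfl, hCn, hCZ⟩
  have hmin : ∀ X' : Subgroup (GL (Fin n) F), X' ≤ X → NormalizesGrp H X' →
      X' = X ∨ X' ≤ scalars (Fin n) F := by
    intro X' hle hn'
    by_cases hZ : X' ≤ scalars (Fin n) F
    · exact Or.inr hZ
    · exact Or.inl (hXmin X' ⟨hle.trans hXC, hn', hZ⟩ hle)
  have hXGU : X ≤ GU n F 2 := hXC.trans hC
  have hA : NormalizesAlg H (spanAlg X) := normalizesAlg_spanAlg hXn
  have hadj := adjointClosed_spanAlg hF hXGU
  have hfU := isUnitaryForm_hermForm n hF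
  rcases Helper98_Form_F2.F2 (sigmaQ hF) (hermForm n F 2) (isSesq_hermForm n hF) (hermForm_nondegenerate n hF)
      (isRefl_hermForm n hF) H (fixesForm_of_le_GU hH) hirr (spanAlg X) hA hadj with
    ⟨t, k, D, hD, hle⟩ | ⟨k, D, hD, hts, hle⟩ | ⟨hz, hinv⟩ | ⟨d, s, e', P', hT⟩
  · exact Or.inl ⟨decompositionStabilizer D ⊓ GU n F 2,
      Or.inl (Or.inr (Or.inr (Or.inl ⟨t, k, D, hD, rfl⟩))), le_inf hle hH⟩
  · exfalso
    have h2k : 2 * k = n := Helper98_Decomp.card_eq hD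
    omega
  · obtain ⟨r, K, hr, hK, hleK, hKadj⟩ := Helper71_Form_F3.F3 (sigmaQ hF) (hermForm n F 2)
      (isSesq_hermForm n hF) (hermForm_nondegenerate n hF) H (spanAlg X) hA hadj hz hinv
    rcases hr.eq_two_or_odd' with h2 | hodd
    · subst h2
      exact (Helper31_AschSU_UP3.UP3 (sigmaQ hF) (hermForm n F 2) hfU K hK hKadj).elim
    · exact Or.inl ⟨subalgebraNormalizer K ⊓ GU n F 2,
        Or.inr (Or.inl ⟨r, K, hr, hodd, hK, hKadj, rfl⟩), le_inf hleK hH⟩
  · have hcard : n = d * s := by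
      have := Fintype.card_congr e'
      simpa using this
    have hd1 : d ≠ 1 := by
      rintro rfl
      exact hXZ (le_scalars_of_tensorAlg_one X e' P' hT)
    have hs1 : s ≠ 1 := by
      rintro rfl
      have htop := eq_top_of_tensorAlg_one (spanAlg X) e' P' hT
      obtain ⟨a, hac, has⟩ := hCcomm
      obtain ⟨c, hc⟩ := Helper52_Asch_PK7.exists_smul_one_of_commute X htop a
        (fun y hy => hac y (hXC hy))
      exact has c hc
    have hds : d = 3 ∧ s = 3 := by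
      have h9 : d * s = 9 := by omega
      have hd0 : d ≠ 0 := by rintro rfl; omega
      have hs0 : s ≠ 0 := by rintro rfl; omega
      have hd9 : d ≤ 9 := by
        calc d = d * 1 := (mul_one d).symm
          _ ≤ d * s := Nat.mul_le_mul_left d (by omega)
          _ = 9 := h9
      interval_cases d <;> omega
    obtain ⟨rfl, rfl⟩ := hds
    exact Or.inr ⟨X, e', P', hXC, hXn, hXZ, hmin, hT⟩

end Cfsg.Agent.Lib.Helper97_AschSU_UP4fC
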