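import Mathlib
import Cfsg.Agent.Lib.Helper98_AschDefs
import Cfsg.Agent.Lib.Helper60_Asch_PK1

set_option autoImplicit false

/-!
S5663 sub-package UP4fD: two commuting groups whose spans are the tensor algebras `M_d ⊗ 1` and
`M_s ⊗ 1` (in possibly different bases) span the full matrix algebra.
-/

namespace Cfsg.Agent.Lib.Helper8_AschSU_UP4fD

open Cfsg Cfsg.Geo Matrix Cfsg.Agent.Lib.Helper98_AschDefs Cfsg.Agent.Lib.Helper60_Asch_PK1
open scoped Kronecker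

variable {F : Type*} [Field F]

section conj

variable {ι : Type} [Fintype ι] [DecidableEq ι]

theorem inv_mul_coe (P : GL ι F) : ((P⁻¹ : GL ι F) : Matrix ι ι F) * (P : Matrix ι ι F) = 1 := by
  rw [← Units.val_mul, inv_mul_cancel, Units.val_one]

theorem mul_inv_coe (P : GL ι F) : (P : Matrix ι ι F) * ((P⁻¹ : GL ι F) : Matrix ι ι F) = 1 := by
  rw [← Units.val_mul, mul_inv_cancel, Units.val_one]

/-- conjugation by an invertible matrix as an algebra automorphism -/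
def conjAlg (P : GL ι F) : Matrix ι ι F ≃ₐ[F] Matrix ι ι F where
  toFun a := (P : Matrix ι ι F) * a * ((P⁻¹ : GL ι F) : Matrix ι ι F)
  invFun a := ((P⁻¹ : GL ι F) : Matrix ι ι F) * a * (P : Matrix ι ι F)
  left_inv a := by
    show ((P⁻¹ : GL ι F) : Matrix ι ι F) * ((P : Matrix ι ι F) * a *
      ((P⁻¹ : GL ι F) : Matrix ι ι F)) * (P : Matrix ι ι F) = a
    rw [Matrix.mul_assoc, Matrix.mul_assoc, inv_mul_coe, Matrix.mul_one, ← Matrix.mul_assoc,
      inv_mul_coe, Matrix.one_mul]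
  right_inv a := by
    show (P : Matrix ι ι F) * (((P⁻¹ : GL ι F) : Matrix ι ι F) * a * (P : Matrix ι ι F)) *
      ((P⁻¹ : GL ι F) : Matrix ι ι F) = a
    rw [Matrix.mul_assoc, Matrix.mul_assoc, mul_inv_coe, Matrix.mul_one, ← Matrix.mul_assoc,
      mul_inv_coe, Matrix.one_mul]
  map_mul' a b := by
    show (P : Matrix ι ι F) * (a * b) * ((P⁻¹ : GL ι F) : Matrix ι ι F) =
      (P : Matrix ι ι F) * a * ((P⁻¹ : GL ι F) : Matrix ι ι F) *
        ((P : Matrix ι ι F) * b * ((P⁻¹ : GL ι F) : Matrix ι ι F))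
    have h : (P : Matrix ι ι F) * a * ((P⁻¹ : GL ι F) : Matrix ι ι F) *
        ((P : Matrix ι ι F) * b * ((P⁻¹ : GL ι F) : Matrix ι ι F)) =
        (P : Matrix ι ι F) * a * (((P⁻¹ : GL ι F) : Matrix ι ι F) * (P : Matrix ι ι F)) * b *
          ((P⁻¹ : GL ι F) : Matrix ι ι F) := by
      simp only [Matrix.mul_assoc]
    rw [h, inv_mul_coe, Matrix.mul_one]
    simp only [Matrix.mul_assoc]
  map_add' a b := by
    show (P : Matrix ι ι F) * (a + b) * ((P⁻¹ : GL ι F) : Matrix ι ι F) =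
      (P : Matrix ι ι F) * a * ((P⁻¹ : GL ι F) : Matrix ι ι F) +
        (P : Matrix ι ι F) * b * ((P⁻¹ : GL ι F) : Matrix ι ι F)
    rw [Matrix.mul_add, Matrix.add_mul]
  commutes' r := by
    show (P : Matrix ι ι F) * (algebraMap F (Matrix ι ι F) r) * ((P⁻¹ : GL ι F) : Matrix ι ι F) =
      algebraMap F (Matrix ι ι F) r
    rw [Algebra.algebraMap_eq_smul_one, Matrix.mul_smul, Matrix.mul_one, Matrix.smul_mul,
      mul_inv_coe]

/-- the algebra isomorphism `Z ↦ P (reindex Z) P⁻¹` -/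
def Th {d s : ℕ} (e : ι ≃ Fin d × Fin s) (P : GL ι F) :
    Matrix (Fin d × Fin s) (Fin d × Fin s) F ≃ₐ[F] Matrix ι ι F :=
  (Matrix.reindexAlgEquiv F F e.symm).trans (conjAlg P)

theorem Th_apply {d s : ℕ} (e : ι ≃ Fin d × Fin s) (P : GL ι F)
    (Z : Matrix (Fin d × Fin s) (Fin d × Fin s) F) :
    Th e P Z = (P : Matrix ι ι F) * Matrix.reindex e.symm e.symm Z *
      ((P⁻¹ : GL ι F) : Matrix ι ι F) := rfl

end conj

/-- **S5663 sub-package UP4fD.** -/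
theorem UP4fD {ι : Type} [Fintype ι] [DecidableEq ι] (X₁ X₂ : Subgroup (GL ι F)) (d s : ℕ)
    (e₁ : ι ≃ Fin d × Fin s) (P₁ : GL ι F) (hT₁ : IsTensorAlg (spanAlg X₁) d s e₁ P₁)
    (e₂ : ι ≃ Fin s × Fin d) (P₂ : GL ι F) (hT₂ : IsTensorAlg (spanAlg X₂) s d e₂ P₂)
    (hcomm : ∀ x ∈ X₁, ∀ y ∈ X₂, x * y = y * x) : spanAlg (X₁ ⊔ X₂) = ⊤ := by
  rcases isEmpty_or_nonempty ι with hι | ⟨⟨i₀⟩⟩
  · rw [eq_top_iff]
    intro x _
    have hx : x = 0 := Subsingleton.elim _ _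
    rw [hx]
    exact Subalgebra.zero_mem _
  · obtain ⟨a0, ha0⟩ : ∃ a : Fin d, a = (e₁ i₀).1 := ⟨_, rfl⟩
    obtain ⟨Θ, hΘ⟩ : ∃ Θ : Matrix (Fin d × Fin s) (Fin d × Fin s) F ≃ₐ[F] Matrix ι ι F,
      Θ = Th e₁ P₁ := ⟨_, rfl⟩
    obtain ⟨Θ₂, hΘ₂⟩ : ∃ Θ₂ : Matrix (Fin s × Fin d) (Fin s × Fin d) F ≃ₐ[F] Matrix ι ι F,
      Θ₂ = Th e₂ P₂ := ⟨_, rfl⟩
    have hT₁' : ∀ a, a ∈ spanAlg X₁ ↔
        ∃ M : Matrix (Fin d) (Fin d) F, a = Θ (M ⊗ₖ (1 : Matrix (Fin s) (Fin s) F)) := by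
      rw [hΘ]
      exact hT₁
    have hT₂' : ∀ a, a ∈ spanAlg X₂ ↔
        ∃ N : Matrix (Fin s) (Fin s) F, a = Θ₂ (N ⊗ₖ (1 : Matrix (Fin d) (Fin d) F)) := by
      rw [hΘ₂]
      exact hT₂
    -- the two spans commute elementwise
    have hc1 : spanAlg X₂ ≤ Subalgebra.centralizer F (matrixSet X₁) := by
      apply Algebra.adjoin_le
      rintro _ ⟨y, hy, rfl⟩
      rw [SetLike.mem_coe, Subalgebra.mem_centralizer_iff]
      rintro _ ⟨x, hx, rfl⟩
      rw [← Units.val_mul, ← Units.val_mul, hcomm x hx y hy]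
    have hc2 : spanAlg X₁ ≤ Subalgebra.centralizer F (spanAlg X₂ : Set (Matrix ι ι F)) := by
      apply Algebra.adjoin_le
      intro g hg
      rw [SetLike.mem_coe, Subalgebra.mem_centralizer_iff]
      intro a₂ ha₂
      exact ((Subalgebra.mem_centralizer_iff F).1 (hc1 ha₂) g hg).symm
    have hcm : ∀ a₁ ∈ spanAlg X₁, ∀ a₂ ∈ spanAlg X₂, a₂ * a₁ = a₁ * a₂ :=
      fun a₁ h₁ a₂ h₂ => (Subalgebra.mem_centralizer_iff F).1 (hc2 h₁) a₂ h₂
    -- the second span lies in `1 ⊗ M_s`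
    have hstep2 : ∀ a₂ ∈ spanAlg X₂, ∃ N : Matrix (Fin s) (Fin s) F,
        a₂ = Θ ((1 : Matrix (Fin d) (Fin d) F) ⊗ₖ N) := by
      intro a₂ ha₂
      have hZ := eq_one_kron_of_comm a0 (Θ.symm a₂) (by
        intro M
        apply Θ.injective
        rw [map_mul, map_mul, AlgEquiv.apply_symm_apply]
        exact hcm _ ((hT₁' _).2 ⟨M, rfl⟩) a₂ ha₂)
      refine ⟨Matrix.of fun k l => Θ.symm a₂ (a0, k) (a0, l), ?_⟩
      rw [← hZ, AlgEquiv.apply_symm_apply]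
    -- dimension count
    let kL : Matrix (Fin s) (Fin s) F →ₗ[F] Matrix (Fin s × Fin d) (Fin s × Fin d) F :=
      { toFun := fun N => N ⊗ₖ (1 : Matrix (Fin d) (Fin d) F)
        map_add' := fun A B => Matrix.add_kronecker A B 1
        map_smul' := fun r A => Matrix.smul_kronecker r A 1 }
    let kR : Matrix (Fin s) (Fin s) F →ₗ[F] Matrix (Fin d × Fin s) (Fin d × Fin s) F :=
      { toFun := fun N => (1 : Matrix (Fin d) (Fin d) F) ⊗ₖ N
        map_add' := fun A B => Matrix.kronecker_add 1 A B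
        map_smul' := fun r A => Matrix.kronecker_smul r 1 A }
    let L₂ : Matrix (Fin s) (Fin s) F →ₗ[F] Matrix ι ι F := Θ₂.toLinearMap ∘ₗ kL
    let R₁ : Matrix (Fin s) (Fin s) F →ₗ[F] Matrix ι ι F := Θ.toLinearMap ∘ₗ kR
    have hL₂ : ∀ N, L₂ N = Θ₂ (N ⊗ₖ (1 : Matrix (Fin d) (Fin d) F)) := fun _ => rfl
    have hR₁ : ∀ N, R₁ N = Θ ((1 : Matrix (Fin d) (Fin d) F) ⊗ₖ N) := fun _ => rfl
    have hL₂inj : Function.Injective L₂ := by
      intro M N h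
      rw [hL₂, hL₂] at h
      exact kron_one_injective a0 (Θ₂.injective h)
    have hA₂ : ∀ a, a ∈ spanAlg X₂ ↔ a ∈ LinearMap.range L₂ := by
      intro a
      rw [hT₂', LinearMap.mem_range]
      constructor
      · rintro ⟨N, rfl⟩
        exact ⟨N, rfl⟩
      · rintro ⟨N, rfl⟩
        exact ⟨N, rfl⟩
    have hle : LinearMap.range L₂ ≤ LinearMap.range R₁ := by
      rintro _ ⟨N, rfl⟩
      obtain ⟨N', hN'⟩ := hstep2 (L₂ N) ((hA₂ _).2 ⟨N, rfl⟩)
      exact ⟨N', hN'.symm⟩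
    have heq : LinearMap.range L₂ = LinearMap.range R₁ := by
      apply Submodule.eq_of_le_of_finrank_le hle
      rw [LinearMap.finrank_range_of_inj hL₂inj]
      exact LinearMap.finrank_range_le R₁
    have hR : ∀ N : Matrix (Fin s) (Fin s) F,
        Θ ((1 : Matrix (Fin d) (Fin d) F) ⊗ₖ N) ∈ spanAlg X₂ := by
      intro N
      rw [hA₂, heq]
      exact ⟨N, rfl⟩
    -- all Kronecker products lie in the span of the join
    have h1C : spanAlg X₁ ≤ spanAlg (X₁ ⊔ X₂) := spanAlg_mono le_sup_left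
    have h2C : spanAlg X₂ ≤ spanAlg (X₁ ⊔ X₂) := spanAlg_mono le_sup_right
    have hkron : ∀ (M : Matrix (Fin d) (Fin d) F) (N : Matrix (Fin s) (Fin s) F),
        Θ (M ⊗ₖ N) ∈ spanAlg (X₁ ⊔ X₂) := by
      intro M N
      have h : M ⊗ₖ N = (M ⊗ₖ (1 : Matrix (Fin s) (Fin s) F)) *
          ((1 : Matrix (Fin d) (Fin d) F) ⊗ₖ N) := by
        rw [← Matrix.mul_kronecker_mul, Matrix.mul_one, Matrix.one_mul]
      rw [h, map_mul]
      exact Subalgebra.mul_mem _ (h1C ((hT₁' _).2 ⟨M, rfl⟩)) (h2C (hR N))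
    rw [eq_top_iff]
    intro Y _
    have hY : Y = Θ (Θ.symm Y) := (Θ.apply_symm_apply Y).symm
    rw [hY, Matrix.matrix_eq_sum_single (Θ.symm Y), map_sum]
    apply Subalgebra.sum_mem
    intro i _
    rw [map_sum]
    apply Subalgebra.sum_mem
    intro j _
    obtain ⟨a, c⟩ := i
    obtain ⟨b, c'⟩ := j
    have h := hkron (Matrix.single a b (Θ.symm Y (a, c) (b, c'))) (Matrix.single c c' 1)
    rw [Matrix.single_kronecker_single, mul_one] at h
    exact h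

end Cfsg.Agent.Lib.Helper8_AschSU_UP4fD
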