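import Mathlib

/-!
# Characteristic abelian subgroups of a class-two group of odd prime exponent with cyclic centre (helper97)

`charAbelian_isCyclic`: in a finite group `G` with `x ^ r = 1` for all `x` (`r` an odd prime), all commutators
central and cyclic centre, every characteristic commutative subgroup is cyclic (it lies in the centre).
The proof uses the transvection automorphisms `x ↦ x * b ^ λ(x) * z ^ (- λ(x)² / 2)`, where `⁅x, b⁆ = z ^ λ(x)`.
Used for the class-6 data of the non-minimal group `3^(1+4)` in S5663 (package UP4f).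
-/

set_option autoImplicit false
set_option linter.unusedSectionVars false
set_option linter.style.haveILetI false

namespace Cfsg.Agent.Lib.Helper97_AschSU_UP4fA

open scoped commutatorElement

variable {G : Type*} [Group G]

/-- `u ^ i` for `i : ZMod r` -/
def pw {r : ℕ} (u : G) (i : ZMod r) : G := u ^ i.val

section pw

variable {r : ℕ} [hr : Fact r.Prime]

lemma pw_zero (u : G) : pw u (0 : ZMod r) = 1 := by
  simp [pw]

lemma pw_one (u : G) : pw u (1 : ZMod r) = u := by
  haveI : Fact (1 < r) := ⟨hr.out.one_lt⟩
  simp [pw, ZMod.val_one]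

lemma pw_add {u : G} (hu : u ^ r = 1) (i j : ZMod r) : pw u (i + j) = pw u i * pw u j := by
  unfold pw
  rw [ZMod.val_add, ← pow_add, ← pow_eq_pow_mod _ hu]

lemma pw_mul {u : G} (hu : u ^ r = 1) (i j : ZMod r) : pw (pw u i) j = pw u (i * j) := by
  unfold pw
  rw [ZMod.val_mul, ← pow_mul, ← pow_eq_pow_mod _ hu]

lemma pw_neg {u : G} (hu : u ^ r = 1) (i : ZMod r) : pw u (-i) = (pw u i)⁻¹ := by
  have h := pw_add hu (-i) i
  rw [neg_add_cancel, pw_zero] at h
  exact eq_inv_of_mul_eq_one_left h.symm

lemma pw_pow_r {u : G} (hu : u ^ r = 1) (i : ZMod r) : (pw u i) ^ r = 1 := by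
  unfold pw
  rw [← pow_mul, mul_comm, pow_mul, hu, one_pow]

lemma map_pw (f : G →* G) (u : G) (i : ZMod r) : f (pw u i) = pw (f u) i := by
  unfold pw
  rw [map_pow]

lemma pw_inv_eq {u : G} (hu : u ^ r = 1) (i : ZMod r) : pw u⁻¹ i = pw u (-i) := by
  rw [pw_neg hu]
  unfold pw
  rw [inv_pow]

lemma pw_injective {z : G} (hz : z ^ r = 1) (hz1 : z ≠ 1) : Function.Injective (pw (r := r) z) := by
  have hord : orderOf z = r := by
    have h1 : orderOf z ∣ r := orderOf_dvd_of_pow_eq_one hz
    rcases (Nat.dvd_prime hr.out).1 h1 with h | h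
    · exact absurd (orderOf_eq_one_iff.1 h) hz1
    · exact h
  intro i j hij
  unfold pw at hij
  have h1 : i.val < orderOf z := by rw [hord]; exact ZMod.val_lt i
  have h2 : j.val < orderOf z := by rw [hord]; exact ZMod.val_lt j
  have := pow_injOn_Iio_orderOf h1 h2 hij
  exact ZMod.val_injective r this

end pw

/-- the commutator with a fixed element, as a homomorphism, in a group of class two -/
def commHom (hcl : ∀ x y : G, ⁅x, y⁆ ∈ Subgroup.center G) (b : G) : G →* G where
  toFun x := ⁅x, b⁆
  map_one' := by simp
  map_mul' x y := by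
    have hc := Subgroup.mem_center_iff.1 (hcl y b)
    rw [commutatorElement_def, commutatorElement_def, commutatorElement_def]
    have h1 := hc x
    rw [commutatorElement_def] at h1
    calc x * y * b * (x * y)⁻¹ * b⁻¹ = x * (y * b * y⁻¹ * b⁻¹) * b * x⁻¹ * b⁻¹ := by group
      _ = (y * b * y⁻¹ * b⁻¹) * x * b * x⁻¹ * b⁻¹ := by rw [h1]
      _ = x * b * x⁻¹ * b⁻¹ * (y * b * y⁻¹ * b⁻¹) := by
          have h2 := hc (x * b * x⁻¹ * b⁻¹)
          rw [commutatorElement_def] at h2
          calc (y * b * y⁻¹ * b⁻¹) * x * b * x⁻¹ * b⁻¹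
              = (y * b * y⁻¹ * b⁻¹) * (x * b * x⁻¹ * b⁻¹) := by group
            _ = _ := h2.symm

lemma commHom_apply (hcl : ∀ x y : G, ⁅x, y⁆ ∈ Subgroup.center G) (b x : G) :
    commHom hcl b x = ⁅x, b⁆ := rfl

/-- **characteristic abelian subgroups are cyclic** -/
theorem charAbelian_isCyclic [Finite G] (r : ℕ) (hr : r.Prime) (hr2 : r ≠ 2)
    (hexp : ∀ x : G, x ^ r = 1) (hcl : ∀ x y : G, ⁅x, y⁆ ∈ Subgroup.center G)
    (hcyc : IsCyclic (Subgroup.center G)) (A : Subgroup G) (hA : A.Characteristic)
    (hAc : IsMulCommutative A) : IsCyclic A := by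
  classical
  haveI : Fact r.Prime := ⟨hr⟩
  -- it suffices to show that `A` is central
  suffices hle : A ≤ Subgroup.center G by
    exact isCyclic_of_injective (Subgroup.inclusion hle) (Subgroup.inclusion_injective hle)
  by_contra hnot
  obtain ⟨a, haA, haZ⟩ := SetLike.not_le_iff_exists.1 hnot
  rw [Subgroup.mem_center_iff] at haZ
  push Not at haZ
  obtain ⟨b, hb⟩ := haZ
  -- `z := ⁅a, b⁆ ≠ 1`
  set z : G := ⁅a, b⁆ with hz
  have hzZ : z ∈ Subgroup.center G := hcl a b
  have hzc : ∀ g : G, g * z = z * g := fun g => Subgroup.mem_center_iff.1 hzZ g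
  have hz1 : z ≠ 1 := by
    intro h
    apply hb
    rw [hz, commutatorElement_eq_one_iff_mul_comm] at h
    exact h.symm
  have hzr : z ^ r = 1 := hexp z
  -- the centre is generated by `z`
  have hcardZ : Nat.card (Subgroup.center G) = r := by
    have h1 : Nat.card (Subgroup.center G) ∣ r := by
      rw [← IsCyclic.exponent_eq_card]
      apply Monoid.exponent_dvd_of_forall_pow_eq_one
      intro g
      apply Subtype.ext
      simpa using hexp g.1
    rcases (Nat.dvd_prime hr).1 h1 with h | h
    · exfalso
      have : Subsingleton (Subgroup.center G) := (Nat.card_eq_one_iff_unique.1 h).1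
      have h2 : (⟨z, hzZ⟩ : Subgroup.center G) = 1 := Subsingleton.elim _ _
      exact hz1 (congrArg Subtype.val h2)
    · exact h
  have hpwinj := pw_injective (r := r) hzr hz1
  have hsurj : ∀ c ∈ Subgroup.center G, ∃ i : ZMod r, pw z i = c := by
    -- the injective map `pw z : ZMod r → centre` is surjective by counting
    let f : ZMod r → Subgroup.center G := fun i => ⟨pw z i, by
      unfold pw
      exact Subgroup.pow_mem _ hzZ _⟩
    have hfinj : Function.Injective f := by
      intro i j hij
      exact hpwinj (congrArg Subtype.val hij)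
    have hfbij : Function.Bijective f := by
      rw [Nat.bijective_iff_injective_and_card]
      exact ⟨hfinj, by rw [Nat.card_zmod, hcardZ]⟩
    intro c hc
    obtain ⟨i, hi⟩ := hfbij.2 ⟨c, hc⟩
    exact ⟨i, congrArg Subtype.val hi⟩
  -- `λ`
  set φ := commHom hcl b with hφ
  have hφZ : ∀ x, φ x ∈ Subgroup.center G := fun x => hcl x b
  choose lam hlam using fun x => hsurj (φ x) (hφZ x)
  have hlam_mul : ∀ x y, lam (x * y) = lam x + lam y := by
    intro x y
    apply hpwinj
    rw [hlam, map_mul, pw_add hzr, hlam, hlam]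
  have hlam_a : lam a = 1 := by
    apply hpwinj
    rw [hlam, pw_one]
    rfl
  -- one half in `ZMod r`
  obtain ⟨h, hh⟩ : ∃ h : ZMod r, 2 * h = 1 := by
    have h2 : (2 : ZMod r) ≠ 0 := by
      intro h0
      have h3 : ((2 : ℕ) : ZMod r) = 0 := by exact_mod_cast h0
      rw [ZMod.natCast_eq_zero_iff] at h3
      exact hr2 ((Nat.prime_dvd_prime_iff_eq hr Nat.prime_two).1 h3)
    exact ⟨2⁻¹, mul_inv_cancel₀ h2⟩
  set mu : G → ZMod r := fun x => - (h * (lam x * lam x)) with hmu
  -- the transvection
  have hbr : b ^ r = 1 := hexp b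
  have hswap : ∀ (i : ZMod r) (y : G), pw b i * y = pw z (-(lam y * i)) * (y * pw b i) := by
    intro i y
    have h1 : ⁅pw b i, y⁆ = pw z (-(lam y * i)) := by
      have h2 : commHom hcl y (pw b i) = pw (commHom hcl y b) i := map_pw (commHom hcl y) b i
      rw [commHom_apply, commHom_apply] at h2
      rw [h2]
      have h3 : ⁅b, y⁆ = (φ y)⁻¹ := by
        rw [hφ, commHom_apply, commutatorElement_inv]
      rw [h3, ← hlam, ← pw_neg hzr, pw_mul hzr, neg_mul]
    rw [← h1, commutatorElement_def]
    group
  have hpwZ : ∀ i : ZMod r, ∀ g : G, g * pw z i = pw z i * g := by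
    intro i g
    unfold pw
    exact (Commute.pow_right (hzc g) _).eq
  let α : G →* G :=
    { toFun := fun x => x * pw b (lam x) * pw z (mu x)
      map_one' := by
        have h0 : lam 1 = 0 := by
          have := hlam_mul 1 1
          rw [mul_one] at this
          exact left_eq_add.mp this
        simp [hmu, h0, pw_zero]
      map_mul' := by
        intro x y
        have e1 : mu (x * y) = mu x + mu y + (-(lam y * lam x)) := by
          simp only [hmu, hlam_mul]
          have : h * ((lam x + lam y) * (lam x + lam y)) =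
              h * (lam x * lam x) + h * (lam y * lam y) + (2 * h) * (lam y * lam x) := by ring
          rw [this, hh]
          ring
        rw [hlam_mul, pw_add hbr, e1, pw_add hzr, pw_add hzr]
        have e2 := hswap (lam x) y
        generalize pw b (lam x) = Bx at e2 ⊢
        generalize pw b (lam y) = By
        have hC := hpwZ (-(lam y * lam x))
        have hZx := hpwZ (mu x)
        generalize pw z (-(lam y * lam x)) = C at e2 hC ⊢
        generalize pw z (mu x) = Zx at hZx ⊢
        generalize pw z (mu y) = Zy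
        have l1 : x * y * (Bx * By) * (Zx * Zy * C) = C * (x * y * (Bx * By) * (Zx * Zy)) := by
          rw [← hC (x * y * (Bx * By) * (Zx * Zy))]
          group
        have l2 : x * Bx * Zx * (y * By * Zy) = C * (x * y * (Bx * By) * (Zx * Zy)) := by
          calc x * Bx * Zx * (y * By * Zy) = x * Bx * (Zx * (y * By * Zy)) := by group
            _ = x * Bx * ((y * By * Zy) * Zx) := by rw [← hZx (y * By * Zy)]
            _ = x * (Bx * y) * By * (Zy * Zx) := by group
            _ = x * (C * (y * Bx)) * By * (Zy * Zx) := by rw [e2]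
            _ = x * C * (y * Bx * By * (Zy * Zx)) := by group
            _ = C * x * (y * Bx * By * (Zy * Zx)) := by rw [hC x]
            _ = C * (x * y * (Bx * By) * (Zy * Zx)) := by group
            _ = C * (x * y * (Bx * By) * (Zx * Zy)) := by rw [hZx Zy]
        rw [l1, l2] }
  have hα : ∀ x, α x = x * pw b (lam x) * pw z (mu x) := fun x => rfl
  have hαinj : Function.Injective α := by
    rw [injective_iff_map_eq_one]
    intro x hx
    rw [hα] at hx
    have h1 : φ (x * pw b (lam x) * pw z (mu x)) = 1 := by rw [hx, map_one]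
    have hφb : φ b = 1 := by
      rw [hφ, commHom_apply]
      exact commutatorElement_self b
    have hφz : φ z = 1 := by
      rw [hφ, commHom_apply, commutatorElement_eq_one_iff_mul_comm]
      exact (hzc b).symm
    rw [map_mul, map_mul, map_pw, map_pw, hφb, hφz] at h1
    have hone : ∀ i : ZMod r, pw (1 : G) i = 1 := fun i => by simp [pw]
    rw [hone, hone, mul_one, mul_one] at h1
    have hl0 : lam x = 0 := by
      apply hpwinj
      rw [hlam, h1, pw_zero]
    have hm0 : mu x = 0 := by simp [hmu, hl0]
    rw [hl0, hm0, pw_zero, pw_zero, mul_one, mul_one] at hx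
    exact hx
  have hαbij : Function.Bijective α := Finite.injective_iff_bijective.1 hαinj
  have hfix := hA.fixed (MulEquiv.ofBijective α hαbij)
  have hαa : α a ∈ A := by
    have : a ∈ A.comap (MulEquiv.ofBijective α hαbij).toMonoidHom := by rw [hfix]; exact haA
    exact this
  -- `α a` and `a` commute, which forces `a * b = b * a`
  have hcomm : α a * a = a * α a := by
    have := mul_comm' (⟨α a, hαa⟩ : A) ⟨a, haA⟩
    exact congrArg Subtype.val this
  rw [hα, hlam_a, pw_one] at hcomm
  apply hb
  have h1 : a * b * pw z (mu a) * a = a * (a * b * pw z (mu a)) := hcomm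
  have h2 : a * b * a * pw z (mu a) = a * a * b * pw z (mu a) := by
    calc a * b * a * pw z (mu a) = a * b * (a * pw z (mu a)) := by group
      _ = a * b * (pw z (mu a) * a) := by rw [hpwZ]
      _ = a * b * pw z (mu a) * a := by group
      _ = a * (a * b * pw z (mu a)) := h1
      _ = _ := by group
  have h3 : a * b * a = a * a * b := mul_right_cancel h2
  have h4 : a * (b * a) = a * (a * b) := by
    calc a * (b * a) = a * b * a := by group
      _ = a * a * b := h3
      _ = _ := by group
  exact mul_left_cancel h4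

end Cfsg.Agent.Lib.Helper97_AschSU_UP4fA
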