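import Mathlib
import Cfsg.Agent.Lib.Helper98_AschDefs
import Cfsg.Agent.Lib.Helper50_Asch_PKN2
import Cfsg.Agent.Lib.Helper97_AschSU_UP4fA

/-!
# `IsSymplecticTypeGroup` for a spanning class-two group of odd prime exponent, WITHOUT a minimality hypothesis (helper97)

`Helper50_Asch_PKN2.PKN2` proves "characteristic abelian subgroups are cyclic" from the minimality of `R` among the
subgroups normalized by `H`.  For the non-minimal group `3^(1+4) = X₁ ∘ X₂` of S5663 (package UP4f) we use the
transvection automorphisms of `Helper97_AschSU_UP4fA.charAbelian_isCyclic` instead.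
-/

set_option autoImplicit false
set_option linter.unusedSectionVars false
set_option linter.style.haveILetI false

namespace Cfsg.Agent.Lib.Helper97_AschSU_SympType

open Cfsg Cfsg.Geo Matrix Cfsg.Agent.Lib.Helper98_AschDefs Cfsg.Agent.Lib.Helper50_Asch_PKN2
open scoped commutatorElement

variable {ι : Type} [Fintype ι] [DecidableEq ι] {F : Type*} [Field F]

/-- a spanning non-scalar group with scalar commutators and odd prime exponent `r` is of symplectic type -/
theorem isSymplecticTypeGroup_of_exponent [Finite F] (R : Subgroup (GL ι F)) (hspan : spanAlg R = ⊤)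
    (hcomm : ⁅R, R⁆ ≤ scalars ι F) (hRZ : ¬ R ≤ scalars ι F)
    (r : ℕ) (hr : r.Prime) (hr2 : r ≠ 2) (hexp : ∀ x ∈ R, x ^ r = 1) :
    IsSymplecticTypeGroup r R := by
  classical
  haveI : Fact r.Prime := ⟨hr⟩
  have hexpR : ∀ x : R, x ^ r = 1 := by
    intro x
    apply Subtype.ext
    simpa using hexp x x.2
  have hcen := center_eq R hspan
  refine ⟨hr, ?_, ?_, ?_⟩
  · intro g
    exact ⟨1, by rw [pow_one]; exact hexpR g⟩
  · intro A hAchar hAcomm
    apply Cfsg.Agent.Lib.Helper97_AschSU_UP4fA.charAbelian_isCyclic r hr hr2 hexpR ?_ ?_ A hAchar hAcomm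
    · intro x y
      rw [hcen, Subgroup.mem_subgroupOf]
      apply hcomm
      have : ((⁅x, y⁆ : R) : GL ι F) = ⁅(x : GL ι F), (y : GL ι F)⁆ := by
        simp [commutatorElement_def]
      rw [this]
      exact Subgroup.commutator_mem_commutator x.2 y.2
    · rw [hcen]
      haveI : IsCyclic (scalars ι F) := scalars_isCyclic
      let f : (scalars ι F).subgroupOf R →* scalars ι F :=
        { toFun := fun a => ⟨((a : R) : GL ι F), a.2⟩
          map_one' := rfl
          map_mul' := fun a b => rfl }
      apply isCyclic_of_injective f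
      intro a b hab
      have := congrArg Subtype.val hab
      exact Subtype.ext (Subtype.ext this)
  · have hg : Nat.gcd 2 r = 1 := by
      rw [Nat.coprime_primes Nat.prime_two hr |>.mpr (Ne.symm hr2)]
    rw [hg, mul_one]
    have h1 : Monoid.exponent R ∣ r := Monoid.exponent_dvd_of_forall_pow_eq_one hexpR
    rcases (Nat.dvd_prime hr).mp h1 with h | h
    · exfalso
      rw [Monoid.exp_eq_one_iff] at h
      apply hRZ
      intro x hx
      have : (⟨x, hx⟩ : R) = 1 := Subsingleton.elim _ _
      have hx1 : x = 1 := congrArg Subtype.val this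
      rw [hx1]
      exact Subgroup.one_mem _
    · exact h

end Cfsg.Agent.Lib.Helper97_AschSU_SympType
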