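import Mathlib
import Cfsg.Agent.Lib.Helper98_AschDefs
import Cfsg.Agent.Lib.Helper98_AschMain
import Cfsg.Agent.Lib.Helper23_FormDefs
import Cfsg.Agent.Lib.Helper97_SUDefs
import Cfsg.Agent.Lib.Helper52_Asch_PK7
import Cfsg.Agent.Lib.Helper50_Asch_PKN2
import Cfsg.Agent.Lib.Helper8_AschSU_UP4fD
import Cfsg.Agent.Lib.Helper97_AschSU_SympType

/-!
# S5663, package UP4f, piece E (helper97): the class-6 member `N(3^(1+4))` of `GU_9(2)`

Two commuting normalized groups of isometries `X₁`, `X₂` over the field with 4 elements, each of class two and exponent 3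
with span a tensor algebra `M_3 ⊗ 1`: `R := X₁ ⊔ X₂` carries the class-6 data, and `H ≤ N(R) ⊓ GU`.
-/

set_option autoImplicit false
set_option linter.unusedVariables false
set_option linter.unusedSectionVars false
set_option linter.style.haveILetI false

namespace Cfsg.Agent.Lib.Helper97_AschSU_UP4fE

open Cfsg Cfsg.Geo Matrix Cfsg.Agent.Lib.Helper98_AschDefs Cfsg.Agent.Lib.Helper23_FormDefs
open Cfsg.Agent.Lib.Helper97_SUDefs Cfsg.Agent.Lib Cfsg.Agent.Lib.Helper98_AschMain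
open scoped Kronecker commutatorElement

variable {F : Type*} [Field F]

/-- elements of the join of two commuting subgroups are products -/
lemma exists_mul_of_mem_sup {G : Type*} [Group G] {X₁ X₂ : Subgroup G}
    (hcomm : ∀ x ∈ X₁, ∀ y ∈ X₂, x * y = y * x) {r : G} (hr : r ∈ X₁ ⊔ X₂) :
    ∃ x ∈ X₁, ∃ y ∈ X₂, r = x * y := by
  rw [Subgroup.sup_eq_closure] at hr
  induction hr using Subgroup.closure_induction with
  | mem g hg =>
    rcases hg with hg | hg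
    · exact ⟨g, hg, 1, X₂.one_mem, by rw [mul_one]⟩
    · exact ⟨1, X₁.one_mem, g, hg, by rw [one_mul]⟩
  | one => exact ⟨1, X₁.one_mem, 1, X₂.one_mem, by rw [mul_one]⟩
  | mul a b _ _ ha hb =>
    obtain ⟨x, hx, y, hy, rfl⟩ := ha
    obtain ⟨x', hx', y', hy', rfl⟩ := hb
    refine ⟨x * x', X₁.mul_mem hx hx', y * y', X₂.mul_mem hy hy', ?_⟩
    have h := hcomm x' hx' y hy
    calc x * y * (x' * y') = x * (y * x') * y' := by group
      _ = x * (x' * y) * y' := by rw [h]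
      _ = x * x' * (y * y') := by group
  | inv a _ ha =>
    obtain ⟨x, hx, y, hy, rfl⟩ := ha
    refine ⟨x⁻¹, X₁.inv_mem hx, y⁻¹, X₂.inv_mem hy, ?_⟩
    have h := hcomm x hx y hy
    rw [_root_.mul_inv_rev]
    have h2 : y⁻¹ * x⁻¹ = x⁻¹ * y⁻¹ := by
      rw [← _root_.mul_inv_rev, ← _root_.mul_inv_rev, h]
    exact h2

/-- **UP4fE** -/
theorem UP4fE [Fintype F] (n : ℕ) (hF : Fintype.card F = 2 ^ 2) (hn : 3 ≤ n)
    (H : Subgroup (GL (Fin n) F)) (hH : H ≤ GU n F 2)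
    (X₁ X₂ : Subgroup (GL (Fin n) F)) (hX₁ : X₁ ≤ GU n F 2) (hX₂ : X₂ ≤ GU n F 2)
    (hn₁ : NormalizesGrp H X₁) (hn₂ : NormalizesGrp H X₂) (hZ₁ : ¬ X₁ ≤ scalars (Fin n) F)
    (e₁ : Fin n ≃ Fin 3 × Fin 3) (P₁ : GL (Fin n) F) (hT₁ : IsTensorAlg (spanAlg X₁) 3 3 e₁ P₁)
    (e₂ : Fin n ≃ Fin 3 × Fin 3) (P₂ : GL (Fin n) F) (hT₂ : IsTensorAlg (spanAlg X₂) 3 3 e₂ P₂)
    (hcomm : ∀ x ∈ X₁, ∀ y ∈ X₂, x * y = y * x)
    (hc₁ : ⁅X₁, X₁⁆ ≤ scalars (Fin n) F) (hc₂ : ⁅X₂, X₂⁆ ≤ scalars (Fin n) F)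
    (hexp₁ : ∀ x ∈ X₁, x ^ 3 = 1) (hexp₂ : ∀ x ∈ X₂, x ^ 3 = 1) : InSUClass n 2 H := by
  classical
  haveI : Nonempty (Fin n) := ⟨⟨0, by omega⟩⟩
  have hn9 : n = 9 := by
    have := Fintype.card_congr e₁
    simpa using this
  set R : Subgroup (GL (Fin n) F) := X₁ ⊔ X₂ with hR
  have hspan : spanAlg R = ⊤ := Helper8_AschSU_UP4fD.UP4fD X₁ X₂ 3 3 e₁ P₁ hT₁ e₂ P₂ hT₂ hcomm
  have hRGU : R ≤ GU n F 2 := sup_le hX₁ hX₂
  have hRZ : ¬ R ≤ scalars (Fin n) F := fun h => hZ₁ (le_sup_left.trans h)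
  have hnorm : NormalizesGrp H R := by
    intro h hh r hr
    obtain ⟨x, hx, y, hy, rfl⟩ := exists_mul_of_mem_sup hcomm hr
    have : h * (x * y) * h⁻¹ = (h * x * h⁻¹) * (h * y * h⁻¹) := by group
    rw [this]
    exact R.mul_mem (le_sup_left (a := X₁) (hn₁ h hh x hx)) (le_sup_right (b := X₂) (hn₂ h hh y hy))
  have hscomm : ∀ {z : GL (Fin n) F}, z ∈ scalars (Fin n) F → ∀ g : GL (Fin n) F, g * z = z * g :=
    fun hz g => Helper50_Asch_PKN2.scalars_comm hz g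
  have hRcomm : ⁅R, R⁆ ≤ scalars (Fin n) F := by
    rw [Subgroup.commutator_le]
    intro a ha b hb
    obtain ⟨x, hx, y, hy, rfl⟩ := exists_mul_of_mem_sup hcomm ha
    obtain ⟨x', hx', y', hy', rfl⟩ := exists_mul_of_mem_sup hcomm hb
    have h1 : ⁅x, x'⁆ ∈ scalars (Fin n) F := hc₁ (Subgroup.commutator_mem_commutator hx hx')
    have h2 : ⁅y, y'⁆ ∈ scalars (Fin n) F := hc₂ (Subgroup.commutator_mem_commutator hy hy')
    have key : ⁅x * y, x' * y'⁆ = ⁅x, x'⁆ * ⁅y, y'⁆ := by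
      have a1 := hcomm x hx y' hy'
      have a2 := hcomm x' hx' y hy
      have a3 := hcomm x' hx' y' hy'
      have a4 := hcomm x hx y hy
      have b1 : y * x' = x' * y := a2.symm
      have b2 : y⁻¹ * x⁻¹ = x⁻¹ * y⁻¹ := by rw [← _root_.mul_inv_rev, ← _root_.mul_inv_rev, a4]
      have b3 : y'⁻¹ * x'⁻¹ = x'⁻¹ * y'⁻¹ := by rw [← _root_.mul_inv_rev, ← _root_.mul_inv_rev, a3]
      have b4 : y * x⁻¹ = x⁻¹ * y := by
        have := hcomm x⁻¹ (X₁.inv_mem hx) y hy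
        exact this.symm
      have b5 : y' * x⁻¹ = x⁻¹ * y' := (hcomm x⁻¹ (X₁.inv_mem hx) y' hy').symm
      have b6 : y * x'⁻¹ = x'⁻¹ * y := (hcomm x'⁻¹ (X₁.inv_mem hx') y hy).symm
      have b7 : y' * x'⁻¹ = x'⁻¹ * y' := (hcomm x'⁻¹ (X₁.inv_mem hx') y' hy').symm
      have b8 : y⁻¹ * x'⁻¹ = x'⁻¹ * y⁻¹ := (hcomm x'⁻¹ (X₁.inv_mem hx') y⁻¹ (X₂.inv_mem hy)).symm
      rw [commutatorElement_def, commutatorElement_def, commutatorElement_def, _root_.mul_inv_rev, _root_.mul_inv_rev]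
      calc x * y * (x' * y') * (y⁻¹ * x⁻¹) * (y'⁻¹ * x'⁻¹)
          = x * (y * x') * y' * (y⁻¹ * x⁻¹) * (y'⁻¹ * x'⁻¹) := by group
        _ = x * (x' * y) * y' * (x⁻¹ * y⁻¹) * (x'⁻¹ * y'⁻¹) := by rw [b1, b2, b3]
        _ = x * x' * (y * (y' * x⁻¹) * y⁻¹) * x'⁻¹ * y'⁻¹ := by group
        _ = x * x' * (y * (x⁻¹ * y') * y⁻¹) * x'⁻¹ * y'⁻¹ := by rw [b5]
        _ = x * x' * ((y * x⁻¹) * y' * y⁻¹) * x'⁻¹ * y'⁻¹ := by group
        _ = x * x' * ((x⁻¹ * y) * y' * y⁻¹) * x'⁻¹ * y'⁻¹ := by rw [b4]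
        _ = x * x' * x⁻¹ * (y * y' * (y⁻¹ * x'⁻¹)) * y'⁻¹ := by group
        _ = x * x' * x⁻¹ * (y * y' * (x'⁻¹ * y⁻¹)) * y'⁻¹ := by rw [b8]
        _ = x * x' * x⁻¹ * (y * (y' * x'⁻¹) * y⁻¹) * y'⁻¹ := by group
        _ = x * x' * x⁻¹ * (y * (x'⁻¹ * y') * y⁻¹) * y'⁻¹ := by rw [b7]
        _ = x * x' * x⁻¹ * ((y * x'⁻¹) * y' * y⁻¹) * y'⁻¹ := by group
        _ = x * x' * x⁻¹ * ((x'⁻¹ * y) * y' * y⁻¹) * y'⁻¹ := by rw [b6]
        _ = x * x' * x⁻¹ * x'⁻¹ * (y * y' * y⁻¹ * y'⁻¹) := by group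
    rw [key]
    exact (scalars (Fin n) F).mul_mem h1 h2
  have hexp : ∀ r ∈ R, r ^ 3 = 1 := by
    intro r hr
    obtain ⟨x, hx, y, hy, rfl⟩ := exists_mul_of_mem_sup hcomm hr
    have hc : Commute x y := hcomm x hx y hy
    rw [hc.mul_pow, hexp₁ x hx, hexp₂ y hy, one_mul]
  have hst := Helper97_AschSU_SympType.isSymplecticTypeGroup_of_exponent R hspan hRcomm hRZ 3
    Nat.prime_three (by norm_num) hexp
  have habs := Helper50_Asch_PKN2.actsAbsIrr_of_span R hspan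
  have hsim : R ≤ similarityGroup (hermForm n F 2) := hRGU.trans GU_le_similarityGroup
  -- the centre
  set z := Nat.card (R ⊓ scalars (Fin n) F : Subgroup (GL (Fin n) F)) with hz
  have hzc : Nat.card (Subgroup.center R) = z := Helper50_Asch_PKN2.card_center_eq R hspan
  have hz3 : z = 3 := by
    have h1 : z ∣ 3 := card_inf_scalars_dvd R 3 hexp
    rcases (Nat.dvd_prime Nat.prime_three).1 h1 with h | h
    · exfalso
      exact inf_scalars_ne_bot hRZ hspan hRcomm ((Subgroup.card_eq_one).1 h)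
    · exact h
  have hcard : Nat.card R = 3 ^ (1 + 2 * 2) := by
    have := Helper52_Asch_PK7.PK7 R hspan hRcomm
    have h81 : Fintype.card (Fin n) ^ 2 = 81 := by
      rw [Fintype.card_fin, hn9]
      norm_num
    rw [← hz, hz3, h81] at this
    rw [this]
    norm_num
  -- the field
  have hchar : CharP F 2 := by
    obtain ⟨p, j, hp, hcp, hpj⟩ := Cfsg.Agent.Lib.Helper13_Herm.exists_char_pow hF
    have hp2 : p = 2 := by
      have hj0 : j ≠ 0 := by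
        rintro rfl
        simp at hpj
      have : p ∣ 2 := by
        rw [hpj]
        exact dvd_pow_self p hj0
      exact (Nat.prime_dvd_prime_iff_eq hp Nat.prime_two).1 this
    rw [hp2] at hcp
    exact hcp
  have hmf : IsMinimalFieldFor (Nat.card (Subgroup.center R)) 2 2 F := by
    rw [hzc, hz3]
    refine ⟨Nat.prime_two, hchar, hF, by norm_num, ?_⟩
    intro d hd0 hd2
    have hd1 : d = 1 := by omega
    subst hd1
    norm_num
  refine ⟨subgroupNormalizer R ⊓ GU n F 2,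
    Or.inl (Or.inr (Or.inr (Or.inr (Or.inr (Or.inr (Or.inr (Or.inr
      ⟨3, R, 2, 2, 2, hst, habs, hsim, by norm_num, hmf,
        Or.inl ⟨by decide, by rw [hzc, hz3], by norm_num, hcard⟩, rfl⟩))))))),
    le_inf (le_subgroupNormalizer hnorm) hH⟩

end Cfsg.Agent.Lib.Helper97_AschSU_UP4fE
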