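import Mathlib
import Cfsg.Agent.Lib.Helper98_AschDefs
import Cfsg.Agent.Lib.Helper23_FormDefs
import Cfsg.Agent.Lib.Helper97_SUDefs
import Cfsg.Agent.Lib.Helper52_Form_F4
import Cfsg.Agent.Lib.Helper10_AschSU_UP4F
import Cfsg.Agent.Lib.Helper87_AschSU_UPH
import Cfsg.Agent.Lib.Helper4_AschSU_UP4G
import Cfsg.Agent.Lib.Helper87_AschSU_UP4fB
import Cfsg.Agent.Lib.Helper97_AschSU_UP4fC
import Cfsg.Agent.Lib.Helper97_AschSU_UP4fE
import Cfsg.Agent.Lib.Helper13_GU
import Cfsg.Agent.Lib.Helper13_HermBridge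

/-!
# Package S5663-UP4f (helper2): a normalized adjoint-closed tensor algebra `M_3 ⊗ 1` on `F_4^9`
puts `H` into one of the unitary classes (the extraspecial normalizer `3^{1+4}`).

Assembly of the sub-packages UP4fB (helper87), UP4fC / UP4fE (helper97), UP4fD (helper8):
the two groups `C₁ = GU ⊓ A^×` and `C₂ = GU ⊓ C(A)` are normalized by `H` and not scalar.
-/

set_option autoImplicit false
set_option linter.unusedSectionVars false
set_option linter.unusedVariables false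

namespace Cfsg.Agent.Lib.Helper2_AschSU_UP4f

open Cfsg Cfsg.Geo Matrix Cfsg.Agent.Lib.Helper98_AschDefs Cfsg.Agent.Lib.Helper23_FormDefs
open Cfsg.Agent.Lib.Helper97_SUDefs Cfsg.Agent.Lib.Helper54_Asch_PKP2
open Cfsg.Agent.Lib.Helper87_AschSU_UP4fB
open scoped Kronecker

variable {F : Type*} [Field F]

section groups

variable {ι : Type} [Fintype ι] [DecidableEq ι]

theorem val_inv_mul (P : GL ι F) :
    ((P⁻¹ : GL ι F) : Matrix ι ι F) * (P : Matrix ι ι F) = 1 := by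
  rw [← Units.val_mul, inv_mul_cancel, Units.val_one]

theorem val_mul_inv (P : GL ι F) :
    (P : Matrix ι ι F) * ((P⁻¹ : GL ι F) : Matrix ι ι F) = 1 := by
  rw [← Units.val_mul, mul_inv_cancel, Units.val_one]

/-- the units of a subalgebra of the matrix algebra, as a subgroup of `GL` -/
def unitsIn (A : Subalgebra F (Matrix ι ι F)) : Subgroup (GL ι F) where
  carrier := {g | (g : Matrix ι ι F) ∈ A ∧ ((g⁻¹ : GL ι F) : Matrix ι ι F) ∈ A}
  mul_mem' := by
    rintro g h ⟨hg, hg'⟩ ⟨hh, hh'⟩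
    refine ⟨?_, ?_⟩
    · rw [Units.val_mul]; exact A.mul_mem hg hh
    · rw [_root_.mul_inv_rev, Units.val_mul]; exact A.mul_mem hh' hg'
  one_mem' := by
    refine ⟨?_, ?_⟩
    · rw [Units.val_one]; exact A.one_mem
    · rw [inv_one, Units.val_one]; exact A.one_mem
  inv_mem' := by
    rintro g ⟨hg, hg'⟩
    exact ⟨hg', by rw [inv_inv]; exact hg⟩

theorem mem_unitsIn {A : Subalgebra F (Matrix ι ι F)} {g : GL ι F} :
    g ∈ unitsIn A ↔ (g : Matrix ι ι F) ∈ A ∧ ((g⁻¹ : GL ι F) : Matrix ι ι F) ∈ A := Iff.rfl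

/-- the invertible matrices commuting with a subalgebra -/
def commIn (A : Subalgebra F (Matrix ι ι F)) : Subgroup (GL ι F) where
  carrier := {g | ∀ a ∈ A, (g : Matrix ι ι F) * a = a * (g : Matrix ι ι F)}
  mul_mem' := by
    intro g h hg hh a ha
    rw [Units.val_mul, Matrix.mul_assoc, hh a ha, ← Matrix.mul_assoc, hg a ha, Matrix.mul_assoc]
  one_mem' := by
    intro a _
    rw [Units.val_one, Matrix.one_mul, Matrix.mul_one]
  inv_mem' := by
    intro g hg a ha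
    have h1 := hg a ha
    calc ((g⁻¹ : GL ι F) : Matrix ι ι F) * a
        = ((g⁻¹ : GL ι F) : Matrix ι ι F) * (a * (g : Matrix ι ι F)) *
            ((g⁻¹ : GL ι F) : Matrix ι ι F) := by
          rw [Matrix.mul_assoc, Matrix.mul_assoc, val_mul_inv, Matrix.mul_one]
      _ = ((g⁻¹ : GL ι F) : Matrix ι ι F) * ((g : Matrix ι ι F) * a) *
            ((g⁻¹ : GL ι F) : Matrix ι ι F) := by rw [h1]
      _ = a * ((g⁻¹ : GL ι F) : Matrix ι ι F) := by
          rw [← Matrix.mul_assoc, val_inv_mul, Matrix.one_mul]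

theorem mem_commIn {A : Subalgebra F (Matrix ι ι F)} {g : GL ι F} :
    g ∈ commIn A ↔ ∀ a ∈ A, (g : Matrix ι ι F) * a = a * (g : Matrix ι ι F) := Iff.rfl

theorem normalizes_unitsIn {H : Subgroup (GL ι F)} {A : Subalgebra F (Matrix ι ι F)}
    (hA : NormalizesAlg H A) : NormalizesGrp H (unitsIn A) := by
  intro h hh x hx
  refine ⟨?_, ?_⟩
  · rw [Units.val_mul, Units.val_mul]
    exact hA h hh _ hx.1
  · have : (h * x * h⁻¹)⁻¹ = h * x⁻¹ * h⁻¹ := by group
    rw [this, Units.val_mul, Units.val_mul]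
    exact hA h hh _ hx.2

theorem normalizes_commIn {H : Subgroup (GL ι F)} {A : Subalgebra F (Matrix ι ι F)}
    (hA : NormalizesAlg H A) : NormalizesGrp H (commIn A) := by
  intro h hh x hx a ha
  have h1 : ((h⁻¹ : GL ι F) : Matrix ι ι F) * a * (h : Matrix ι ι F) ∈ A := by
    have := hA h⁻¹ (H.inv_mem hh) a ha
    rwa [inv_inv] at this
  have h2 := hx _ h1
  rw [Units.val_mul, Units.val_mul]
  calc (h : Matrix ι ι F) * (x : Matrix ι ι F) * ((h⁻¹ : GL ι F) : Matrix ι ι F) * a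
      = (h : Matrix ι ι F) * ((x : Matrix ι ι F) *
          (((h⁻¹ : GL ι F) : Matrix ι ι F) * a * (h : Matrix ι ι F))) *
            ((h⁻¹ : GL ι F) : Matrix ι ι F) := by
        simp only [Matrix.mul_assoc]
        rw [val_mul_inv, Matrix.mul_one]
    _ = (h : Matrix ι ι F) * ((((h⁻¹ : GL ι F) : Matrix ι ι F) * a * (h : Matrix ι ι F)) *
          (x : Matrix ι ι F)) * ((h⁻¹ : GL ι F) : Matrix ι ι F) := by rw [h2]
    _ = a * ((h : Matrix ι ι F) * (x : Matrix ι ι F) * ((h⁻¹ : GL ι F) : Matrix ι ι F)) := by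
        simp only [← Matrix.mul_assoc]
        rw [val_mul_inv, Matrix.one_mul]

theorem normalizes_inf {H K S : Subgroup (GL ι F)} (hHK : H ≤ K) (hS : NormalizesGrp H S) :
    NormalizesGrp H (K ⊓ S) := by
  intro h hh x hx
  exact ⟨K.mul_mem (K.mul_mem (hHK hh) hx.1) (K.inv_mem (hHK hh)), hS h hh x hx.2⟩

end groups

section tensor

variable {n d s : ℕ}

/-- the second tensor factor, through the swapped bijection -/
abbrev swapE (e : Fin n ≃ Fin d × Fin s) : Fin n ≃ Fin s × Fin d :=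
  e.trans (Equiv.prodComm (Fin d) (Fin s))

theorem tensorHom_swap (e : Fin n ≃ Fin d × Fin s) (P : GL (Fin n) F) (M : Matrix (Fin s) (Fin s) F) :
    tensorHom s d (swapE e) P M = (P : Matrix (Fin n) (Fin n) F) *
      Matrix.reindex e.symm e.symm ((1 : Matrix (Fin d) (Fin d) F) ⊗ₖ M) *
        ((P⁻¹ : GL (Fin n) F) : Matrix (Fin n) (Fin n) F) := by
  rw [tensorHom_apply]
  congr 2
  ext i j
  simp only [Matrix.reindex_apply, Matrix.submatrix_apply, Equiv.symm_symm, Matrix.kroneckerMap_apply,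
    Equiv.trans_apply, Equiv.prodComm_apply, Prod.fst_swap]
  exact mul_comm _ _

theorem reindex_mul' (e : Fin n ≃ Fin d × Fin s) (X Y : Matrix (Fin d × Fin s) (Fin d × Fin s) F) :
    Matrix.reindex e.symm e.symm (X * Y) =
      Matrix.reindex e.symm e.symm X * Matrix.reindex e.symm e.symm Y :=
  map_mul (Matrix.reindexAlgEquiv F F e.symm) X Y

/-- the two tensor factors commute -/
theorem tensorHom_comm (e : Fin n ≃ Fin d × Fin s) (P : GL (Fin n) F)
    (M : Matrix (Fin d) (Fin d) F) (M' : Matrix (Fin s) (Fin s) F) :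
    tensorHom d s e P M * tensorHom s d (swapE e) P M' =
      tensorHom s d (swapE e) P M' * tensorHom d s e P M := by
  rw [tensorHom_swap, tensorHom_apply]
  have h1 : ∀ X Y : Matrix (Fin n) (Fin n) F,
      (P : Matrix (Fin n) (Fin n) F) * X * ((P⁻¹ : GL (Fin n) F) : Matrix (Fin n) (Fin n) F) *
        ((P : Matrix (Fin n) (Fin n) F) * Y * ((P⁻¹ : GL (Fin n) F) : Matrix (Fin n) (Fin n) F)) =
      (P : Matrix (Fin n) (Fin n) F) * (X * Y) * ((P⁻¹ : GL (Fin n) F) : Matrix (Fin n) (Fin n) F) := by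
    intro X Y
    simp only [Matrix.mul_assoc]
    rw [← Matrix.mul_assoc ((P⁻¹ : GL (Fin n) F) : Matrix (Fin n) (Fin n) F)
      (P : Matrix (Fin n) (Fin n) F), val_inv_mul, Matrix.one_mul]
  rw [h1, h1, ← reindex_mul', ← reindex_mul', ← Matrix.mul_kronecker_mul, ← Matrix.mul_kronecker_mul,
    Matrix.mul_one, Matrix.one_mul, Matrix.mul_one, Matrix.one_mul]

end tensor

section unitary

variable {n d s : ℕ} [Fintype F] {q : ℕ}

open Cfsg.Agent.Lib.Helper13_GU Cfsg.Agent.Lib.Helper13_HermBridge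
open Cfsg.Agent.Lib.Helper4_AschSU_UP4G

theorem map_pow_one' (hq : q ≠ 0) {κ : Type} [DecidableEq κ] :
    (1 : Matrix κ κ F).map (fun x => x ^ q) = 1 := by
  ext i j
  by_cases h : i = j
  · subst h; simp
  · simp [Matrix.one_apply_ne h, zero_pow hq]

/-- an isometry of the first factor of a tensor product form gives an isometry -/
theorem tensor_mem_GU (hF : Fintype.card F = q ^ 2)
    (e : Fin n ≃ Fin d × Fin s) (P : GL (Fin n) F) (Γ₁ : Matrix (Fin d) (Fin d) F)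
    (Γ₂ : Matrix (Fin s) (Fin s) F) (c : F)
    (hform : ∀ x y : Fin d × Fin s → F,
      hermForm n F q ((P : Matrix (Fin n) (Fin n) F) *ᵥ (x ∘ e)) ((P : Matrix (Fin n) (Fin n) F) *ᵥ (y ∘ e)) =
        c * formOfGram (fun a : F => a ^ q) (Γ₁ ⊗ₖ Γ₂) x y)
    (A : Matrix (Fin d) (Fin d) F) (hA : Aᵀ * Γ₁ * A.map (fun a : F => a ^ q) = Γ₁)
    (g : GL (Fin n) F) (hg : (g : Matrix (Fin n) (Fin n) F) = tensorHom d s e P A) :
    g ∈ GU n F q := by
  have hq : q ≠ 0 := q_ne_zero hF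
  rw [mem_GU_iff]
  have hrep : ∀ u : Fin n → F, ∃ x : Fin d × Fin s → F,
      u = (P : Matrix (Fin n) (Fin n) F) *ᵥ (x ∘ e) := by
    intro u
    refine ⟨(((P⁻¹ : GL (Fin n) F) : Matrix (Fin n) (Fin n) F) *ᵥ u) ∘ e.symm, ?_⟩
    have : ((((P⁻¹ : GL (Fin n) F) : Matrix (Fin n) (Fin n) F) *ᵥ u) ∘ e.symm) ∘ e =
        ((P⁻¹ : GL (Fin n) F) : Matrix (Fin n) (Fin n) F) *ᵥ u := by
      funext i; simp
    rw [this, Matrix.mulVec_mulVec, val_mul_inv, Matrix.one_mulVec]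
  intro u v
  obtain ⟨x, rfl⟩ := hrep u
  obtain ⟨y, rfl⟩ := hrep v
  have hg' : g.1 = tensorHom d s e P A := hg
  rw [hg', tensorHom_mulVec, tensorHom_mulVec, hform, hform]
  congr 1
  set σ : F →+* F := (sigmaQ hF : F →+* F) with hσ
  have hcoe : (σ : F → F) = fun a : F => a ^ q := rfl
  have h1 := formOfGram_mulVec σ (Γ₁ ⊗ₖ Γ₂) (A ⊗ₖ (1 : Matrix (Fin s) (Fin s) F)) x y
  rw [hcoe] at h1
  rw [h1]
  congr 1
  have h2 : (A ⊗ₖ (1 : Matrix (Fin s) (Fin s) F))ᵀ = Aᵀ ⊗ₖ (1 : Matrix (Fin s) (Fin s) F) := by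
    rw [← Matrix.kroneckerMap_transpose, Matrix.transpose_one]
  have h3 : (A ⊗ₖ (1 : Matrix (Fin s) (Fin s) F)).map (fun a : F => a ^ q) =
      A.map (fun a : F => a ^ q) ⊗ₖ (1 : Matrix (Fin s) (Fin s) F) := by
    ext i j
    simp only [Matrix.map_apply, Matrix.kroneckerMap_apply, mul_pow]
    congr 1
    have := congrFun (congrFun (map_pow_one' (F := F) (q := q) hq (κ := Fin s)) i.2) j.2
    rw [Matrix.map_apply] at this
    exact this
  rw [h2, h3, ← Matrix.mul_kronecker_mul, ← Matrix.mul_kronecker_mul, Matrix.one_mul, Matrix.mul_one, hA]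

/-- a non-scalar isometry in the first tensor factor -/
theorem exists_unitary_factor (hF : Fintype.card F = q ^ 2) (hd : 2 ≤ d) (hs : 0 < s)
    (e : Fin n ≃ Fin d × Fin s) (P : GL (Fin n) F)
    (f₁ : (Fin d → F) → (Fin d → F) → F) (f₂ : (Fin s → F) → (Fin s → F) → F)
    (hf₁ : IsUnitaryFormPow q f₁)
    (hten : IsTensorFormStructure (fun a : F => a ^ q) (hermForm n F q) f₁ f₂ e P) :
    ∃ A : GL (Fin d) F, unitsHom (tensorHom d s e P) A ∈ GU n F q ∧
      unitsHom (tensorHom d s e P) A ∉ scalars (Fin n) F := by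
  have hq : q ≠ 0 := q_ne_zero hF
  obtain ⟨c, hc0, hform⟩ := hten
  obtain ⟨B, hB⟩ := Cfsg.Agent.Lib.Helper87_AschSU_UPH.UPH q hF d f₁ hf₁
  have hgram := gram_conj_eq_one hF f₁ hf₁ (B : Matrix (Fin d) (Fin d) F) hB
  have hcoe : ((sigmaQ hF : F →+* F) : F → F) = fun a : F => a ^ q := rfl
  rw [hcoe] at hgram
  set i0 : Fin d := ⟨0, by omega⟩ with hi0
  set i1 : Fin d := ⟨1, by omega⟩ with hi1
  have h01 : i0 ≠ i1 := by
    intro h
    have := congrArg Fin.val h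
    simp [hi0, hi1] at this
  set a : GL (Fin d) F := permGL (Equiv.swap i0 i1) with ha
  have haU : a ∈ GU d F q := permGL_mem _
  have haG := (mem_GU_iff_gram hF a).1 haU
  refine ⟨B * a * B⁻¹, ?_, ?_⟩
  · apply tensor_mem_GU hF e P (gramMatrix f₁) (gramMatrix f₂) c hform
      ((B * a * B⁻¹ : GL (Fin d) F) : Matrix (Fin d) (Fin d) F) ?_ _ (unitsHom_coe _ _)
    set Bm : Matrix (Fin d) (Fin d) F := (B : Matrix (Fin d) (Fin d) F) with hBm
    set Bi : Matrix (Fin d) (Fin d) F := ((B⁻¹ : GL (Fin d) F) : Matrix (Fin d) (Fin d) F) with hBi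
    set am : Matrix (Fin d) (Fin d) F := (a : Matrix (Fin d) (Fin d) F) with ham
    have hBB : Bm * Bi = 1 := val_mul_inv B
    have hval : ((B * a * B⁻¹ : GL (Fin d) F) : Matrix (Fin d) (Fin d) F) = Bm * am * Bi := by
      rw [Units.val_mul, Units.val_mul]
    rw [hval]
    have hT : (Bm * am * Bi)ᵀ = Biᵀ * amᵀ * Bmᵀ := by
      rw [Matrix.transpose_mul, Matrix.transpose_mul, Matrix.mul_assoc]
    have hM : (Bm * am * Bi).map (fun x : F => x ^ q) =
        Bm.map (fun x : F => x ^ q) * am.map (fun x : F => x ^ q) * Bi.map (fun x : F => x ^ q) := by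
      have := Matrix.map_mul (L := Bm * am) (M := Bi) (f := (sigmaQ hF : F →+* F))
      have h2 := Matrix.map_mul (L := Bm) (M := am) (f := (sigmaQ hF : F →+* F))
      rw [hcoe] at this h2
      rw [this, h2]
    have hBit : Biᵀ * Bmᵀ = 1 := by
      rw [← Matrix.transpose_mul, hBB, Matrix.transpose_one]
    have hBiσ : Bm.map (fun x : F => x ^ q) * Bi.map (fun x : F => x ^ q) = 1 := by
      have := Matrix.map_mul (L := Bm) (M := Bi) (f := (sigmaQ hF : F →+* F))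
      rw [hcoe] at this
      rw [← this, hBB, map_pow_one' hq]
    have hΓ : gramMatrix f₁ = Biᵀ * Bi.map (fun x : F => x ^ q) := by
      calc gramMatrix f₁ = (Biᵀ * Bmᵀ) * gramMatrix f₁ *
            (Bm.map (fun x : F => x ^ q) * Bi.map (fun x : F => x ^ q)) := by
            rw [hBit, hBiσ, Matrix.one_mul, Matrix.mul_one]
        _ = Biᵀ * (Bmᵀ * gramMatrix f₁ * Bm.map (fun x : F => x ^ q)) *
              Bi.map (fun x : F => x ^ q) := by simp only [Matrix.mul_assoc]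
        _ = _ := by rw [hgram, Matrix.mul_one]
    rw [hT, hM]
    calc Biᵀ * amᵀ * Bmᵀ * gramMatrix f₁ *
          (Bm.map (fun x : F => x ^ q) * am.map (fun x : F => x ^ q) * Bi.map (fun x : F => x ^ q))
        = Biᵀ * (amᵀ * ((Bmᵀ * gramMatrix f₁ * Bm.map (fun x : F => x ^ q)) *
            am.map (fun x : F => x ^ q))) * Bi.map (fun x : F => x ^ q) := by
          simp only [Matrix.mul_assoc]
      _ = Biᵀ * (amᵀ * am.map (fun x : F => x ^ q)) * Bi.map (fun x : F => x ^ q) := by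
          rw [hgram, Matrix.one_mul]
      _ = gramMatrix f₁ := by
          rw [haG, Matrix.mul_one, ← hΓ]
  · intro hsc
    have hθ := tensorHom_injective (F := F) d s hs e P
    -- pull back scalars
    rw [mem_scalars_iff] at hsc
    obtain ⟨z, hz⟩ := hsc
    rw [unitsHom_coe] at hz
    have h1 : tensorHom d s e P ((B * a * B⁻¹ : GL (Fin d) F) : Matrix (Fin d) (Fin d) F) =
        tensorHom d s e P ((z : F) • (1 : Matrix (Fin d) (Fin d) F)) := by
      rw [hz, map_smul, map_one]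
    have h2 := hθ h1
    have h3 : (a : Matrix (Fin d) (Fin d) F) = (z : F) • (1 : Matrix (Fin d) (Fin d) F) := by
      have h4 : a = B⁻¹ * (B * a * B⁻¹) * B := by group
      rw [h4, Units.val_mul, Units.val_mul, h2, Matrix.mul_smul, Matrix.smul_mul, Matrix.mul_one,
        val_inv_mul]
    have h5 := congrFun (congrFun h3 i0) i1
    rw [ha, permGL_val] at h5
    simp only [Equiv.Perm.permMatrix, Matrix.smul_apply, Matrix.one_apply_ne h01, smul_eq_mul,
      mul_zero] at h5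
    rw [PEquiv.toMatrix_apply] at h5
    simp at h5

end unitary

section main

open Cfsg.Agent.Lib.Helper4_AschSU_UP4G

/-- **S5663 package UP4f.** -/
theorem UP4f [Fintype F] (n : ℕ) (hF : Fintype.card F = 2 ^ 2) (hn : 3 ≤ n)
    (H : Subgroup (GL (Fin n) F)) (hH : H ≤ GU n F 2) (hirr : ActsIrreducibly (matrixSet H))
    (A : Subalgebra F (Matrix (Fin n) (Fin n) F)) (hA : NormalizesAlg H A)
    (hadj : IsAdjointClosedFor (hermForm n F 2) A)
    (e : Fin n ≃ Fin 3 × Fin 3) (P : GL (Fin n) F) (hT : IsTensorAlg A 3 3 e P) :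
    InSUClass n 2 H := by
  classical
  -- the two forms
  obtain ⟨G₁, G₂, h₁, h₂, hG⟩ := Cfsg.Agent.Lib.Helper52_Form_F4.F4 (sigmaQ hF) (hermForm n F 2)
    (isSesq_hermForm n hF) (hermForm_nondegenerate n hF) A hadj 3 3 e P hT
  obtain ⟨f₁, f₂, hf₁, hf₂, hten⟩ := Cfsg.Agent.Lib.Helper10_AschSU_UP4F.UP4F n 2 hF 3 3
    (by norm_num) (by norm_num) e P G₁ G₂ h₁ h₂ hG
  have hten' := tensorForm_swap (fun a : F => a ^ 2) (hermForm n F 2) f₁ f₂ e P hten
  obtain ⟨a₁, ha₁U, ha₁Z⟩ := exists_unitary_factor hF (by norm_num) (by norm_num) e P f₁ f₂ hf₁ hten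
  obtain ⟨a₂, ha₂U, ha₂Z⟩ := exists_unitary_factor hF (by norm_num) (by norm_num) (swapE e) P f₂ f₁ hf₂ hten'
  -- membership in `A`
  have hmemA : ∀ M : Matrix (Fin 3) (Fin 3) F, tensorHom 3 3 e P M ∈ A := fun M =>
    (hT _).2 ⟨M, tensorHom_apply 3 3 e P M⟩
  have hofA : ∀ a ∈ A, ∃ M : Matrix (Fin 3) (Fin 3) F, a = tensorHom 3 3 e P M := fun a ha => by
    obtain ⟨M, hM⟩ := (hT a).1 ha
    exact ⟨M, hM⟩
  -- a non-scalar matrix
  set b : Matrix (Fin 3) (Fin 3) F := Matrix.single 0 1 1 with hb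
  have hbne : ∀ x : F, b ≠ x • (1 : Matrix (Fin 3) (Fin 3) F) := by
    intro x h
    have h1 := congrFun (congrFun h 0) 1
    simp [hb, Matrix.single] at h1
  -- the two groups
  set C₁ : Subgroup (GL (Fin n) F) := GU n F 2 ⊓ unitsIn A with hC₁
  set C₂ : Subgroup (GL (Fin n) F) := GU n F 2 ⊓ commIn A with hC₂
  have hC₁n : NormalizesGrp H C₁ := normalizes_inf hH (normalizes_unitsIn hA)
  have hC₂n : NormalizesGrp H C₂ := normalizes_inf hH (normalizes_commIn hA)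
  have hC₁Z : ¬ C₁ ≤ scalars (Fin n) F := by
    intro h
    apply ha₁Z
    apply h
    refine ⟨ha₁U, ?_, ?_⟩
    · rw [unitsHom_coe]; exact hmemA _
    · rw [← map_inv, unitsHom_coe]; exact hmemA _
  have hC₂Z : ¬ C₂ ≤ scalars (Fin n) F := by
    intro h
    apply ha₂Z
    apply h
    refine ⟨ha₂U, ?_⟩
    intro a ha
    obtain ⟨M, rfl⟩ := hofA a ha
    rw [unitsHom_coe]
    exact (tensorHom_comm e P M _).symm
  have hC₁comm : ∃ a : Matrix (Fin n) (Fin n) F,
      (∀ c ∈ C₁, (c : Matrix (Fin n) (Fin n) F) * a = a * (c : Matrix (Fin n) (Fin n) F)) ∧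
      ∀ x : F, a ≠ x • (1 : Matrix (Fin n) (Fin n) F) := by
    refine ⟨tensorHom 3 3 (swapE e) P b, ?_, ?_⟩
    · intro c hc
      obtain ⟨M, hM⟩ := hofA _ hc.2.1
      rw [hM]
      exact tensorHom_comm e P M b
    · intro x h
      have h1 : tensorHom 3 3 (swapE e) P b =
          tensorHom 3 3 (swapE e) P (x • (1 : Matrix (Fin 3) (Fin 3) F)) := by
        rw [h, map_smul, map_one]
      exact hbne x (tensorHom_injective (F := F) 3 3 (by norm_num) (swapE e) P h1)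
  have hC₂comm : ∃ a : Matrix (Fin n) (Fin n) F,
      (∀ c ∈ C₂, (c : Matrix (Fin n) (Fin n) F) * a = a * (c : Matrix (Fin n) (Fin n) F)) ∧
      ∀ x : F, a ≠ x • (1 : Matrix (Fin n) (Fin n) F) := by
    refine ⟨tensorHom 3 3 e P b, ?_, ?_⟩
    · intro c hc
      exact hc.2 _ (hmemA b)
    · intro x h
      have h1 : tensorHom 3 3 e P b = tensorHom 3 3 e P (x • (1 : Matrix (Fin 3) (Fin 3) F)) := by
        rw [h, map_smul, map_one]
      exact hbne x (tensorHom_injective (F := F) 3 3 (by norm_num) e P h1)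
  -- the two minimal factors
  rcases Cfsg.Agent.Lib.Helper97_AschSU_UP4fC.exists_factor n hF hn H hH hirr C₁ inf_le_left hC₁n hC₁Z e
    hC₁comm with hcl | ⟨X₁, e₁, P₁, hX₁C, hX₁n, hX₁Z, hX₁min, hT₁⟩
  · exact hcl
  rcases Cfsg.Agent.Lib.Helper97_AschSU_UP4fC.exists_factor n hF hn H hH hirr C₂ inf_le_left hC₂n hC₂Z e
    hC₂comm with hcl | ⟨X₂, e₂, P₂, hX₂C, hX₂n, hX₂Z, hX₂min, hT₂⟩
  · exact hcl
  have hX₁U : X₁ ≤ GU n F 2 := hX₁C.trans inf_le_left
  have hX₂U : X₂ ≤ GU n F 2 := hX₂C.trans inf_le_left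
  obtain ⟨hc₁, hexp₁⟩ := UP4fB n hF H X₁ hX₁U hX₁n hX₁Z hX₁min e₁ P₁ hT₁
  obtain ⟨hc₂, hexp₂⟩ := UP4fB n hF H X₂ hX₂U hX₂n hX₂Z hX₂min e₂ P₂ hT₂
  have hcomm : ∀ x ∈ X₁, ∀ y ∈ X₂, x * y = y * x := by
    intro x hx y hy
    apply Units.ext
    rw [Units.val_mul, Units.val_mul]
    exact ((hX₂C hy).2 _ (hX₁C hx).2.1).symm
  exact Cfsg.Agent.Lib.Helper97_AschSU_UP4fE.UP4fE n hF hn H hH X₁ X₂ hX₁U hX₂U hX₁n hX₂n hX₁Z
    e₁ P₁ hT₁ e₂ P₂ hT₂ hcomm hc₁ hc₂ hexp₁ hexp₂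

end main

end Cfsg.Agent.Lib.Helper2_AschSU_UP4f
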