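import Mathlib
import Cfsg.Agent.S1403
import Cfsg.Agent.S1415
import Cfsg.Agent.S1418
import Cfsg.Agent.S1420
import Cfsg.Agent.Lib.Helper23_BG13Hyp
import Cfsg.Agent.Lib.Helper24_CoprimeHall
import Cfsg.Agent.Lib.Helper52_FrobFormula
import Cfsg.Agent.Lib.Helper70_BG127
import Cfsg.Agent.Lib.Helper76_BG13a
import Cfsg.Agent.Lib.Helper76_BG13b
import Cfsg.Agent.Lib.Helper97_BG1211f
import Cfsg.Agent.Lib.Helper49_SigmaDisjoint

/-!
# Bender-Glauberman 14.2, Case A (piece PA of helper23's skeleton), second half (helper2)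

`M` maximal, `E` a complement of `M_σ`, `K ≤ E` a nontrivial Hall `κ(M)`-subgroup of `M`, not Case B.
Given that `K` is a Hall `τ₁(M)`-subgroup of `E` and that the subgroups of prime order of `K` are nonregular on
`M_σ`, we construct the abelian normal complement `U` of `K` in `E` with `C_U(k) = 1` for `k ∈ K#`, and show
`N_E(X) = K` for `1 ≠ X ≤ K`.
-/

set_option autoImplicit false

namespace Cfsg.Agent.Lib.Helper2_BG142a

open Subgroup Cfsg Cfsg.Agent.Lib.Helper23_BG13Hyp Cfsg.Agent.Lib.Helper24_CoprimeHall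
  Cfsg.Agent.Lib.Helper49_Sigma
open scoped commutatorElement

universe u
variable {G : Type u} [Group G]

/-- "Case B" for (M,E) (verbatim from helper23's skeleton): some subgroup of E of prime order in tau3(M) is
nonregular on M_sigma. -/
def CaseB (M E : Subgroup G) : Prop :=
  ∃ r ∈ tau3 M, ∃ R : Subgroup G, R ≤ E ∧ Nat.card R = r ∧ sigmaCore M ⊓ centralizer (R : Set G) ≠ ⊥

/-- a subgroup of `E` containing the derived subgroup of `E` is normal in `E` -/
theorem le_normalizer_of_commutator_le {E U : Subgroup G} (hUE : U ≤ E) (h : ⁅E, E⁆ ≤ U) :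
    E ≤ normalizer (U : Set G) := by
  intro e he
  rw [mem_normalizer_iff]
  intro u
  constructor
  · intro hu
    have h1 : ⁅e, u⁆ ∈ ⁅E, E⁆ := Subgroup.commutator_mem_commutator he (hUE hu)
    have h2 := U.mul_mem (h h1) hu
    have e1 : ⁅e, u⁆ * u = e * u * e⁻¹ := by
      rw [commutatorElement_def]; group
    rwa [e1] at h2
  · intro hu
    have hv : e * u * e⁻¹ ∈ E := hUE hu
    have h1 : ⁅e⁻¹, e * u * e⁻¹⁆ ∈ ⁅E, E⁆ := Subgroup.commutator_mem_commutator (E.inv_mem he) hv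
    have h2 := U.mul_mem (h h1) hu
    have e1 : ⁅e⁻¹, e * u * e⁻¹⁆ * (e * u * e⁻¹) = u := by
      rw [commutatorElement_def]; group
    rwa [e1] at h2

theorem isComplIn_swap' {A B S : Subgroup G} (h : IsComplIn A B S) : IsComplIn B A S := by
  obtain ⟨hA, hB, hAB, hprod⟩ := h
  refine ⟨hB, hA, by rw [inf_comm]; exact hAB, ?_⟩
  intro m hm
  obtain ⟨a, ha, b, hb, hab⟩ := hprod m⁻¹ (S.inv_mem hm)
  refine ⟨b⁻¹, B.inv_mem hb, a⁻¹, A.inv_mem ha, ?_⟩
  have : m = (a * b)⁻¹ := by rw [← hab, inv_inv]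
  rw [this, mul_inv_rev]

/-- a subgroup of prime order inside `zpowers x`, for `x ≠ 1` of finite order -/
theorem exists_prime_zpowers [Finite G] {x : G} (hx : x ≠ 1) :
    ∃ (p : ℕ) (n : ℕ), p.Prime ∧ p ∣ orderOf x ∧ orderOf (x ^ n) = p := by
  have h1 : orderOf x ≠ 1 := fun h => hx (orderOf_eq_one_iff.mp h)
  refine ⟨(orderOf x).minFac, orderOf x / (orderOf x).minFac, Nat.minFac_prime h1,
    Nat.minFac_dvd _, ?_⟩
  exact orderOf_pow_orderOf_div (orderOf_pos x).ne' (Nat.minFac_dvd _)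


variable [Finite G]

/-- **Key step**: no nonidentity element of `E` whose order involves no prime of `τ₁(M)` commutes with a
nonidentity element of `K`. -/
theorem eq_one_of_commute (hG : IsMinSimpleOddOrder G) (h28 : H1428 G) (hF1 : F1 G) {M E K : Subgroup G}
    (hM : IsCoatom M) (hE : IsComplIn E (sigmaCore M) M) (hKE : K ≤ E) (hA : ¬ CaseB M E)
    (hKτ : ∀ p : ℕ, p.Prime → p ∣ Nat.card K → p ∈ tau1 M)
    (hreg : ∀ P : Subgroup G, P ≤ K → (Nat.card P).Prime → sigmaCore M ⊓ centralizer (P : Set G) ≠ ⊥)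
    {k : G} (hk : k ∈ K) (hk1 : k ≠ 1) {u : G} (hu : u ∈ E)
    (huτ : ∀ r : ℕ, r.Prime → r ∣ orderOf u → r ∉ tau1 M) (hcomm : k * u = u * k) : u = 1 := by
  by_contra hu1
  have hU0 : UniqHyp G := Cfsg.Agent.Lib.Helper49_SigmaDisjoint.uniqHyp hG
  obtain ⟨r, a, hr, hru, hra⟩ := exists_prime_zpowers hu1
  obtain ⟨p, b, hp, hpk, hpb⟩ := exists_prime_zpowers hk1
  set R : Subgroup G := zpowers (u ^ a) with hRdef
  set P : Subgroup G := zpowers (k ^ b) with hPdef
  have hRcard : Nat.card R = r := by rw [hRdef, Nat.card_zpowers, hra]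
  have hPcard : Nat.card P = p := by rw [hPdef, Nat.card_zpowers, hpb]
  have hRE : R ≤ E := zpowers_le.mpr (E.pow_mem hu a)
  have hPK : P ≤ K := zpowers_le.mpr (K.pow_mem hk b)
  have hPE : P ≤ E := hPK.trans hKE
  have hc : Commute (k ^ b) (u ^ a) := Commute.pow_pow hcomm b a
  have hRP : R ≤ centralizer (P : Set G) := by
    rw [hRdef, zpowers_le, mem_centralizer_iff]
    intro y hy
    obtain ⟨n, rfl⟩ := mem_zpowers_iff.mp hy
    exact (hc.zpow_left n).eq
  have hpτ : p ∈ tau1 M := hKτ p hp (hpk.trans (Subgroup.orderOf_dvd_natCard K hk))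
  have hrτ : r ∉ tau1 M := huτ r hr hru
  have hrE : r ∣ Nat.card E := hru.trans (Subgroup.orderOf_dvd_natCard E hu)
  have hle := h28 M hM E hE p hpτ P hPE hPcard R (le_inf hRE hRP) (by rw [hRcard]; exact hr)
  have hPne : sigmaCore M ⊓ centralizer (P : Set G) ≠ ⊥ := hreg P hPK (by rw [hPcard]; exact hp)
  have hRne : sigmaCore M ⊓ centralizer (R : Set G) ≠ ⊥ := fun h => hPne (le_bot_iff.mp (h ▸ hle))
  rcases Cfsg.Agent.Lib.Helper97_BG1211f.mem_tau_of_dvd_card hG hU0 hM hE hr hrE with (h1 | h3) | h2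
  · exact hrτ h1
  · exact hA ⟨r, h3, R, hRE, hRcard, hRne⟩
  · have : Fact r.Prime := ⟨hr⟩
    obtain ⟨A, hAE, hAe, hA2⟩ :=
      Cfsg.Agent.Lib.Helper70_BG127.exists_elemAb_sq_le_compl hG hU0 hM hE h2
    have hRA : R ≤ A := (Cfsg.Agent.S1418.result hG M hM E hE r h2 A ⟨hAE, hAe, hA2⟩).1.2 R hRE hRcard
    have hbot := hF1 M hM E hE p hpτ P hPE hPcard hPne r h2 A hAE hAe hA2
    have hmem : u ^ a ∈ A ⊓ centralizer (P : Set G) :=
      Subgroup.mem_inf.mpr ⟨hRA (mem_zpowers _), hRP (mem_zpowers _)⟩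
    rw [hbot, mem_bot] at hmem
    rw [hmem, orderOf_one] at hra
    exact hr.one_lt.ne hra


/-- **B-G 14.2, Case A, the structure of `E`** (conjuncts 3 and 4 of helper23's `caseA_core`), from
`K` being a Hall `τ₁(M)`-subgroup of `E` all of whose subgroups of prime order are nonregular on `M_σ`. -/
theorem caseA_UX (hG : IsMinSimpleOddOrder G) (h28 : H1428 G) (hF1 : F1 G) {M E K : Subgroup G}
    (hM : IsCoatom M) (hE : IsComplIn E (sigmaCore M) M) (hK : IsPiHallOf (kappa M) K M) (hK1 : K ≠ ⊥)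
    (hKE : K ≤ E) (hA : ¬ CaseB M E) (hKτ : IsPiHallOf (tau1 M) K E)
    (hreg : ∀ P : Subgroup G, P ≤ K → (Nat.card P).Prime → sigmaCore M ⊓ centralizer (P : Set G) ≠ ⊥) :
    (∃ U : Subgroup G, U ≤ E ∧ IsMulCommutative U ∧ E ≤ normalizer (U : Set G) ∧
      IsPiHallOf {q | q.Prime ∧ q ∉ kappa M ∧ q ∉ sigma M} U M ∧ IsComplIn K U E ∧
      ∀ k ∈ K, k ≠ 1 → U ⊓ centralizer ({k} : Set G) = ⊥) ∧
    (∀ X : Subgroup G, X ≤ K → X ≠ ⊥ → E ⊓ normalizer (X : Set G) = K) := by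
  have hU0 : UniqHyp G := Cfsg.Agent.Lib.Helper49_SigmaDisjoint.uniqHyp hG
  have hEsolv : Group.IsSolvable ↥E := Cfsg.Agent.Lib.Helper76_BG13b.isSolvable_of_le hG hM hE.1
  -- the derived subgroup of `E` is a `τ₁'`-group
  have hDE : ⁅E, E⁆ ≤ E := Subgroup.commutator_le.mpr fun a ha b hb =>
    E.mul_mem (E.mul_mem (E.mul_mem ha hb) (E.inv_mem ha)) (E.inv_mem hb)
  have hDπ : ∀ q : ℕ, q.Prime → q ∣ Nat.card ↥⁅E, E⁆ → q ∈ {q | q ∉ tau1 M} := by
    intro q _ hqd hqτ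
    exact hqτ.2.2.2.1 (hqd.trans (Subgroup.card_dvd_of_le (Subgroup.commutator_mono hE.1 hE.1)))
  obtain ⟨U, hUH, hDU⟩ := exists_piHall_ge (π := {q | q ∉ tau1 M}) hEsolv hDE hDπ
  have hUE : U ≤ E := hUH.1
  have hEU : E ≤ normalizer (U : Set G) := le_normalizer_of_commutator_le hUE hDU
  have hcomplUK : IsComplIn U K E := Cfsg.Agent.Lib.Helper76_BG13a.isComplIn_of_piHall hKτ hUH
  have hcompl : IsComplIn K U E := isComplIn_swap' hcomplUK
  have hKU : K ⊓ U = ⊥ := hcompl.2.2.1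
  -- cardinalities
  have hcE : Nat.card K * Nat.card U = Nat.card E :=
    Cfsg.Agent.Lib.Helper76_BG13a.card_mul_of_isComplIn hcompl
  have hcM : Nat.card E * Nat.card ↥(sigmaCore M) = Nat.card M :=
    Cfsg.Agent.Lib.Helper76_BG13a.card_mul_of_isComplIn hE
  have hEσ : ∀ q : ℕ, q.Prime → q ∣ Nat.card E → q ∉ sigma M := fun q hq hqd =>
    ((Cfsg.Agent.Lib.Helper70_BG127.piHall_compl hG hU0 hM hE).2.1 q hq hqd).2
  -- centralizers in `U` of elements of `K#`
  have hUτ : ∀ u ∈ U, ∀ r : ℕ, r.Prime → r ∣ orderOf u → r ∉ tau1 M := fun u hu r hr hru =>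
    hUH.2.1 r hr (hru.trans (Subgroup.orderOf_dvd_natCard U hu))
  have hfree : ∀ k ∈ K, k ≠ 1 → ∀ u ∈ U, k * u = u * k → u = 1 := fun k hk hk1 u hu hc =>
    eq_one_of_commute hG h28 hF1 hM hE hKE hA hKτ.2.1 hreg hk hk1 (hUE hu) (hUτ u hu) hc
  have hCU : ∀ k ∈ K, k ≠ 1 → U ⊓ centralizer ({k} : Set G) = ⊥ := by
    intro k hk hk1
    rw [eq_bot_iff]
    intro u hu
    obtain ⟨hu1, hu2⟩ := Subgroup.mem_inf.mp hu
    rw [mem_bot]
    exact hfree k hk hk1 u hu1 (mem_centralizer_iff.mp hu2 k rfl)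
  -- `U` is nilpotent (Thompson), hence abelian (12.10)
  have hUnil : Group.IsNilpotent ↥U :=
    Cfsg.Agent.Lib.Helper52_FrobFormula.nilpotent_of_fpf U K hK1
      (fun e he u hu => (mem_normalizer_iff.mp (hEU (hKE he)) u).mp hu) hfree
  have hUσ : ∀ q : ℕ, q.Prime → q ∣ Nat.card U → q ∉ sigma M := fun q hq hqd =>
    hEσ q hq (hqd.trans (Subgroup.card_dvd_of_le hUE))
  have hUab : IsMulCommutative ↥U :=
    (Cfsg.Agent.S1420.result hG M hM E hE).1 U (hUE.trans hE.1) hUnil hUσ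
  -- `K` is cyclic
  have hKcyc : IsCyclic ↥K := (Cfsg.Agent.S1415.result hG M hM E hE).2.1 K hKτ
  have hKcomm : ∀ a ∈ K, ∀ b ∈ K, a * b = b * a := by
    intro a ha b hb
    have := (IsCyclic.commGroup (α := ↥K)).mul_comm ⟨a, ha⟩ ⟨b, hb⟩
    exact congrArg Subtype.val this
  -- `U` is a Hall subgroup of `M`
  have hUHall : IsPiHallOf {q | q.Prime ∧ q ∉ kappa M ∧ q ∉ sigma M} U M := by
    have hKrel : K.relIndex M * Nat.card K = Nat.card M :=
      Cfsg.Agent.Lib.Helper76_BG13a.relIndex_mul_card' hK.1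
    have hUrel : U.relIndex M * Nat.card U = Nat.card M :=
      Cfsg.Agent.Lib.Helper76_BG13a.relIndex_mul_card' (hUE.trans hE.1)
    have hKrel' : K.relIndex M = Nat.card U * Nat.card ↥(sigmaCore M) := by
      apply Nat.eq_of_mul_eq_mul_right (Nat.card_pos (α := ↥K))
      rw [hKrel, ← hcM, ← hcE]; ring
    have hUrel' : U.relIndex M = Nat.card K * Nat.card ↥(sigmaCore M) := by
      apply Nat.eq_of_mul_eq_mul_right (Nat.card_pos (α := ↥U))
      rw [hUrel, ← hcM, ← hcE]; ring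
    refine ⟨hUE.trans hE.1, ?_, ?_⟩
    · intro q hq hqd
      refine ⟨hq, ?_, hUσ q hq hqd⟩
      intro hqκ
      apply hK.2.2 q hq hqκ
      rw [hKrel']
      exact hqd.mul_right _
    · intro q hq hqπ hqd
      rw [hUrel'] at hqd
      rcases (Nat.Prime.dvd_mul hq).mp hqd with h | h
      · exact hqπ.2.1 (hK.2.1 q hq h)
      · exact hqπ.2.2 (Cfsg.Agent.Lib.Helper49_SigmaDisjoint.mem_sigma_of_dvd_card_sigmaCore M hq h)
  refine ⟨⟨U, hUE, hUab, hEU, hUHall, hcompl, hCU⟩, ?_⟩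
  -- normalizers in `E` of subgroups of `K`
  intro X hXK hX1
  have key : ∀ k ∈ K, ∀ y ∈ X, k * y * k⁻¹ = y := by
    intro k hk y hy
    rw [hKcomm k hk y (hXK hy)]; group
  have hKN : K ≤ normalizer (X : Set G) := by
    intro k hk
    rw [mem_normalizer_iff]
    intro x
    constructor
    · intro hx
      rw [key k hk x hx]; exact hx
    · intro hx
      have h2 := key k⁻¹ (K.inv_mem hk) _ hx
      have e1 : k⁻¹ * (k * x * k⁻¹) * k⁻¹⁻¹ = x := by group
      rw [e1] at h2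
      rw [h2]; exact hx
  apply le_antisymm
  · intro e he
    obtain ⟨heE, heN⟩ := Subgroup.mem_inf.mp he
    obtain ⟨k, hk, u, hu, rfl⟩ := hcompl.2.2.2 e heE
    have huN : u ∈ normalizer (X : Set G) := by
      have : u = k⁻¹ * (k * u) := by group
      rw [this]
      exact (normalizer (X : Set G)).mul_mem ((normalizer (X : Set G)).inv_mem (hKN hk)) heN
    obtain ⟨x, hx1⟩ := (Subgroup.ne_bot_iff_exists_ne_one).mp hX1
    have hx' : (x : G) ≠ 1 := fun h => hx1 (Subtype.ext h)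
    have hxX : (x : G) ∈ X := x.2
    have hxK : (x : G) ∈ K := hXK hxX
    have h1 : u * x * u⁻¹ ∈ X := (mem_normalizer_iff.mp huN x).mp hxX
    have h2 : u * x * u⁻¹ * (x : G)⁻¹ ∈ K := K.mul_mem (hXK h1) (K.inv_mem hxK)
    have h3 : u * x * u⁻¹ * (x : G)⁻¹ ∈ U := by
      have h4 : (x : G) * u⁻¹ * (x : G)⁻¹ ∈ U :=
        (mem_normalizer_iff.mp (hEU (hKE hxK)) u⁻¹).mp (U.inv_mem hu)
      have e1 : u * x * u⁻¹ * (x : G)⁻¹ = u * ((x : G) * u⁻¹ * (x : G)⁻¹) := by group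
      rw [e1]; exact U.mul_mem hu h4
    have h5 : u * x * u⁻¹ * (x : G)⁻¹ = 1 := by
      have : u * x * u⁻¹ * (x : G)⁻¹ ∈ K ⊓ U := Subgroup.mem_inf.mpr ⟨h2, h3⟩
      rw [hKU, mem_bot] at this
      exact this
    have h6 : (x : G) * u = u * x := by
      have e2 : u * ↑x * u⁻¹ * (x : G)⁻¹ * ↑x * u = u * x := by group
      rw [h5, one_mul] at e2
      exact e2
    have hu1 : u = 1 := hfree x hxK hx' u hu h6
    rw [hu1, mul_one]; exact hk
  · exact le_inf hKE hKN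

end Cfsg.Agent.Lib.Helper2_BG142a
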