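import Mathlib
import Cfsg.Prelude.Def_OddOrderLocal
import Cfsg.Agent.Lib.Helper2_BG147
import Cfsg.Agent.Lib.Helper4_BGConj

/-!
# Bender-Glauberman Theorem 14.7: the vertex step (helper2)

`IsVertex Z V T`: `V` is a maximal subgroup, `T ≠ 1` a Hall `κ(V)`-subgroup of `V`, `T* = C_{V_σ}(T) ≠ 1` and
`T T* = Z`.  No cyclicity of `T` is assumed.

`vertex_step`: if `(V, T)` is a vertex of `Z`, `X ≤ T` has prime order and `L` is a maximal subgroup containing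
`N_G(X)`, then `L` carries a vertex `(L, T')` of the same `Z`, with `T* ≤ T'`, `X ≤ L_σ`, `T'^* = T ∩ L_σ`,
`L` not conjugate to `V`, and `C_G(X) ≤ L`.

The frozen statements S1430, S1431, S1432 are explicit hypotheses.
-/

set_option autoImplicit false
set_option linter.unusedVariables false

namespace Cfsg.Agent.Lib.Helper2_BG147b

open Subgroup Cfsg Cfsg.Agent.Lib.Helper72_BG16 Cfsg.Agent.Lib.Helper22_Radical
  Cfsg.Agent.Lib.Helper2_BG147

/-- the frozen statement S1432, as a hypothesis -/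
def H1432 (G : Type*) [Group G] [Finite G] : Prop :=
  ∀ (M : Subgroup G) (hM : IsCoatom M) (x : G) (hx : x ∈ Cfsg.sigmaCore M) (hx1 : x ≠ 1) (x' : G)
    (hx' : x' ∈ M ⊓ Subgroup.centralizer ({x} : Set G)) (hx'1 : x' ≠ 1)
    (hσ : ∀ p : ℕ, p.Prime → p ∣ orderOf x' → p ∉ Cfsg.sigma M),
    ((∀ p : ℕ, p.Prime → p ∣ orderOf x' → p ∈ Cfsg.kappa M) ∧ Subgroup.centralizer ({x} : Set G) ≤ M) ∨
      ((∀ p : ℕ, p.Prime → p ∣ orderOf x' → p ∈ Cfsg.tau2 M) ∧
        (∃ L : Subgroup G, IsCoatom L ∧ ∀ p : ℕ, p.Prime → p ∣ orderOf x' → p ∈ Cfsg.sigma L) ∧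
        (Subgroup.centralizer ({x'} : Set G) ≤ M ∧ ∀ L : Subgroup G, IsCoatom L → Subgroup.centralizer ({x'} : Set G) ≤ L → L = M))

variable {G : Type*} [Group G] [Finite G]

/-- `(V, T)` is a vertex of `Z`: `V` maximal, `T ≠ 1` a Hall `κ(V)`-subgroup, `T* = C_{V_σ}(T) ≠ 1`, `T T* = Z` -/
def IsVertex (Z V T : Subgroup G) : Prop :=
  IsCoatom V ∧ IsPiHallOf (kappa V) T V ∧ T ≠ ⊥ ∧ kst V T ≠ ⊥ ∧ T ⊔ kst V T = Z

/-- elements conjugating a non-identity element of `T*` into `V` lie in `V` -/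
theorem mem_of_conj_mem (h31 : H1431 G) {V T : Subgroup G} (hV : IsCoatom V)
    (hT : IsPiHallOf (kappa V) T V) (hT1 : T ≠ ⊥) {y : G} (hy : y ∈ kst V T) (hy1 : y ≠ 1) {g : G}
    (hg : y ∈ cj g V) : g ∈ V := by
  by_contra hgV
  have h := (h31 V hV T hT hT1).1 g hgV
  have hmem : y ∈ kst V T ⊓ V.map (MulAut.conj g).toMonoidHom := ⟨hy, hg⟩
  rw [h] at hmem
  exact hy1 (mem_bot.mp hmem)

/-- `C_G(y) ≤ V` for `y ∈ T*#` -/
theorem centralizer_le_of_mem_kst (h31 : H1431 G) {V T : Subgroup G} (hV : IsCoatom V)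
    (hT : IsPiHallOf (kappa V) T V) (hT1 : T ≠ ⊥) {y : G} (hy : y ∈ kst V T) (hy1 : y ≠ 1) :
    centralizer ({y} : Set G) ≤ V := by
  intro g hg
  apply mem_of_conj_mem h31 hV hT hT1 hy hy1
  rw [mem_cj]
  have hgy : y * g = g * y := mem_centralizer_iff.mp hg y rfl
  have : g⁻¹ * y * g = y := by rw [mul_assoc, hgy]; group
  rw [this]; exact kst_le hy

/-- `N_G(Y) ≤ V` for `1 ≠ Y ≤ T*` -/
theorem normalizer_le_of_le_kst (h31 : H1431 G) {V T : Subgroup G} (hV : IsCoatom V)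
    (hT : IsPiHallOf (kappa V) T V) (hT1 : T ≠ ⊥) {Y : Subgroup G} (hY : Y ≤ kst V T) (hY1 : Y ≠ ⊥) :
    normalizer (Y : Set G) ≤ V := by
  intro g hg
  obtain ⟨y, hy, hy1⟩ := exists_ne_one_of_ne_bot hY1
  have hy' : g * y * g⁻¹ ∈ Y := (mem_normalizer_iff.mp hg y).mp hy
  have hy'1 : g * y * g⁻¹ ≠ 1 := by
    intro h
    apply hy1
    have : y = g⁻¹ * (g * y * g⁻¹) * g := by group
    rw [this, h]; group
  apply mem_of_conj_mem h31 hV hT hT1 (hY hy') hy'1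
  rw [mem_cj]
  have : g⁻¹ * (g * y * g⁻¹) * g = y := by group
  rw [this]; exact kst_le (hY hy)

/-- a maximal subgroup `L` with a prime of `|T*|` in `σ(L)` is conjugate to `V` -/
theorem conj_of_common_sigma (h31 : H1431 G) {V T : Subgroup G} (hV : IsCoatom V)
    (hT : IsPiHallOf (kappa V) T V) (hT1 : T ≠ ⊥) {q : ℕ} (hq : q.Prime)
    (hqd : q ∣ Nat.card ↥(kst V T)) {L : Subgroup G} (hL : IsCoatom L) (hqL : q ∈ sigma L) :
    ∃ g : G, L = cj g V := by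
  have hqf : Fact q.Prime := ⟨hq⟩
  obtain ⟨-, -, h31c, -⟩ := h31 V hV T hT hT1
  have S : Sylow q ↥(sigmaCore V) := default
  set Q : Subgroup G := (S : Subgroup ↥(sigmaCore V)).map (sigmaCore V).subtype with hQdef
  obtain ⟨hQU, hQM, -⟩ := h31c q hq hqd S
  have hQp : IsPGroup q Q := S.isPGroup'.map _
  have hQuniq : ∀ L' : Subgroup G, IsCoatom L' → Q ≤ L' → L' = V := by
    intro L' hL' hQL'
    obtain ⟨M', hM', huniq⟩ := hQU
    exact (huniq L' ⟨hL', hQL'⟩).trans (huniq V ⟨hV, hQM⟩).symm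
  obtain ⟨P, hP⟩ := Cfsg.Agent.Lib.Helper49_SigmaDisjoint.exists_sylM hqL
  have : Finite (⊤ : Subgroup G) := inferInstance
  obtain ⟨g, -, hg⟩ := Cfsg.Agent.Lib.Helper84_RelSylow.IsSylowIn.exists_conj_le hP.1 (K := Q) le_top hQp
  have hQL : Q ≤ cj g⁻¹ L := by
    intro y hy
    rw [mem_cj, inv_inv]
    exact hP.2.1 (hg y hy)
  have h1 : cj g⁻¹ L = V :=
    hQuniq _ (Cfsg.Agent.Lib.Helper22_Uniq.isCoatom_cj hL g⁻¹) hQL
  refine ⟨g, ?_⟩
  have := Cfsg.Agent.Lib.Helper22_BGTrans.cj_inv_cj g⁻¹ L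
  rw [inv_inv, h1] at this
  exact this.symm

omit [Finite G] in
/-- a maximal subgroup with a `σ`-prime in `κ(V)` is not conjugate to `V` -/
theorem not_conj_of_sigma_kappa {V L : Subgroup G} {p : ℕ} (hpL : p ∈ sigma L) (hpV : p ∈ kappa V) :
    ∀ g : G, L ≠ cj g V := by
  intro g h
  rw [h] at hpL
  rw [show cj g V = V.map (MulAut.conj g).toMonoidHom from rfl,
    Cfsg.Agent.Lib.Helper4_BGConj.sigma_conj] at hpL
  exact not_sigma_of_kappa hpV hpL

/-- **transfer of `κ`**: a non-identity element `y` of `T*` lying in a maximal subgroup `L` not conjugate to `V` and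
centralizing a non-identity element `x` of `L_σ` is a `κ(L)`-element, and `C_G(x) ≤ L`. -/
theorem kappa_transfer (h31 : H1431 G) (h32 : H1432 G) {V T L : Subgroup G} (hV : IsCoatom V)
    (hT : IsPiHallOf (kappa V) T V) (hT1 : T ≠ ⊥) (hL : IsCoatom L) (hne : ∀ g : G, L ≠ cj g V)
    {x y : G} (hx : x ∈ sigmaCore L) (hx1 : x ≠ 1) (hy : y ∈ kst V T) (hy1 : y ≠ 1) (hyL : y ∈ L)
    (hxy : x * y = y * x) :
    (∀ q : ℕ, q.Prime → q ∣ orderOf y → q ∈ kappa L) ∧ centralizer ({x} : Set G) ≤ L := by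
  have hσ : ∀ q : ℕ, q.Prime → q ∣ orderOf y → q ∉ sigma L := by
    intro q hq hqd hqL
    have hqd' : q ∣ Nat.card ↥(kst V T) := by
      have h1 : orderOf (⟨y, hy⟩ : ↥(kst V T)) ∣ Nat.card ↥(kst V T) := orderOf_dvd_natCard _
      rw [← Subgroup.orderOf_coe] at h1
      exact hqd.trans h1
    obtain ⟨g, hg⟩ := conj_of_common_sigma h31 hV hT hT1 hq hqd' hL hqL
    exact hne g hg
  have hmem : y ∈ L ⊓ centralizer ({x} : Set G) := by
    refine Subgroup.mem_inf.mpr ⟨hyL, ?_⟩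
    rw [mem_centralizer_iff]
    intro z hz
    rw [Set.mem_singleton_iff.mp hz]
    exact hxy
  rcases h32 L hL x hx hx1 y hmem hy1 hσ with h | h
  · exact h
  · exfalso
    have hCV := centralizer_le_of_mem_kst h31 hV hT hT1 hy hy1
    have := h.2.2.2 V hV hCV
    apply hne 1
    rw [cj_eq_of_mem_normalizer (one_mem _)]
    exact this.symm

/-- a `κ(L)`-subgroup of a maximal subgroup `L` lies in a Hall `κ(L)`-subgroup of `L` -/
theorem exists_kappaHall_ge (hG : IsMinSimpleOddOrder G) {L A : Subgroup G} (hL : IsCoatom L)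
    (hAL : A ≤ L) (hA : ∀ p : ℕ, p.Prime → p ∣ Nat.card A → p ∈ kappa L) :
    ∃ T' : Subgroup G, IsPiHallOf (kappa L) T' L ∧ A ≤ T' := by
  have hsolv : Group.IsSolvable ↥L := hG.2.2.2 L hL.1
  obtain ⟨E, hE, hAE⟩ := Cfsg.Agent.Lib.Helper24_CoprimeHall.exists_piHall_ge
    (π := kappa L) hsolv hAL hA
  exact ⟨E, (Cfsg.Agent.Lib.Helper24_CoprimeHall.isPiHallOf_iff _ _ _).mpr hE, hAE⟩

/-- a `κ(V)`-subgroup of a maximal subgroup `V` lies in a `V`-conjugate of a given Hall `κ(V)`-subgroup -/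
theorem exists_conj_ge_kappaHall (hG : IsMinSimpleOddOrder G) {V T A : Subgroup G} (hV : IsCoatom V)
    (hT : IsPiHallOf (kappa V) T V) (hAV : A ≤ V)
    (hA : ∀ p : ℕ, p.Prime → p ∣ Nat.card A → p ∈ kappa V) :
    ∃ v ∈ V, A ≤ cj v T := by
  have hsolv : Group.IsSolvable ↥V := hG.2.2.2 V hV.1
  obtain ⟨E, hE, hAE⟩ := Cfsg.Agent.Lib.Helper24_CoprimeHall.exists_piHall_ge
    (π := kappa V) hsolv hAV hA
  obtain ⟨v, hv, hvE⟩ := Cfsg.Agent.Lib.Helper24_CoprimeHall.piHall_conj hsolv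
    ((Cfsg.Agent.Lib.Helper24_CoprimeHall.isPiHallOf_iff _ _ _).mp hT) hE
  exact ⟨v, hv, by rw [show cj v T = T.map (MulAut.conj v).toMonoidHom from rfl, hvE]; exact hAE⟩

omit [Finite G] in
/-- the primes dividing the order of a subgroup all of whose elements have orders with primes in `π` -/
theorem primes_of_elements {A : Subgroup G} [Finite A] {π : Set ℕ}
    (h : ∀ a ∈ A, a ≠ 1 → ∀ q : ℕ, q.Prime → q ∣ orderOf a → q ∈ π) :
    ∀ q : ℕ, q.Prime → q ∣ Nat.card A → q ∈ π := by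
  intro q hq hqd
  have hqf : Fact q.Prime := ⟨hq⟩
  obtain ⟨a, ha⟩ := exists_prime_orderOf_dvd_card' q hqd
  have ha1 : (a : G) ≠ 1 := by
    intro h1
    have : a = 1 := Subtype.ext h1
    rw [this, orderOf_one] at ha
    exact hq.one_lt.ne ha
  exact h a a.2 ha1 q hq (by rw [Subgroup.orderOf_coe, ha])

/-- **the vertex step** -/
theorem vertex_step (hG : IsMinSimpleOddOrder G) (h30 : H1430 G) (h31 : H1431 G) (h32 : H1432 G)
    {Z V T X L : Subgroup G} (hV : IsVertex Z V T) (hX : X ≤ T) (hXp : (Nat.card X).Prime)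
    (hL : IsCoatom L) (hNL : normalizer (X : Set G) ≤ L) :
    ∃ T' : Subgroup G, IsVertex Z L T' ∧ kst V T ≤ T' ∧ X ≤ sigmaCore L ∧
      kst L T' = T ⊓ sigmaCore L ∧ (∀ g : G, L ≠ V.map (MulAut.conj g).toMonoidHom) ∧
      centralizer (X : Set G) ≤ L := by
  obtain ⟨hVc, hT, hT1, hTs1, hZ⟩ := hV
  obtain ⟨h30a, -, h30c⟩ := h30 V hVc T hT hT1
  obtain ⟨hNX, -, hXσ⟩ := h30c X hX hXp
  obtain ⟨-, h31b, -, -⟩ := h31 V hVc T hT hT1
  have hZL : Z ≤ L := by rw [← hZ, ← hNX]; exact inf_le_right.trans hNL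
  have hXL : X ≤ sigmaCore L := hXσ L hL hNL
  have hpL : Nat.card X ∈ sigma L :=
    Cfsg.Agent.Lib.Helper49_SigmaDisjoint.mem_sigma_of_dvd_card_sigmaCore L hXp
      (Subgroup.card_dvd_of_le hXL)
  have hpV : Nat.card X ∈ kappa V := hT.2.1 _ hXp (Subgroup.card_dvd_of_le hX)
  have hne : ∀ g : G, L ≠ cj g V := not_conj_of_sigma_kappa hpL hpV
  have hne' : ∀ g : G, V ≠ cj g L := by
    intro g h
    apply hne g⁻¹
    have := Cfsg.Agent.Lib.Helper22_BGTrans.cj_inv_cj g L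
    rw [← h] at this
    exact this.symm
  obtain ⟨x, hx, hx1⟩ := exists_ne_one_of_card_prime hXp
  have hTsZ : kst V T ≤ Z := hZ ▸ le_sup_right
  have hTZ : T ≤ Z := hZ ▸ le_sup_left
  -- `T*` is a `κ(L)`-group and `C_G(x) ≤ L`
  have hkt : ∀ y ∈ kst V T, y ≠ 1 →
      (∀ q : ℕ, q.Prime → q ∣ orderOf y → q ∈ kappa L) ∧ centralizer ({x} : Set G) ≤ L :=
    fun y hy hy1 => kappa_transfer h31 h32 hVc hT hT1 hL hne (hXL hx) hx1 hy hy1 (hZL (hTsZ hy))
      (comm_of_mem (hX hx) hy)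
  have hTsκ : ∀ q : ℕ, q.Prime → q ∣ Nat.card ↥(kst V T) → q ∈ kappa L :=
    primes_of_elements (fun a ha ha1 => (hkt a ha ha1).1)
  obtain ⟨y0, hy0, hy01⟩ := exists_ne_one_of_ne_bot hTs1
  have hCx : centralizer ({x} : Set G) ≤ L := (hkt y0 hy0 hy01).2
  have hCX : centralizer (X : Set G) ≤ L :=
    (Subgroup.centralizer_le (Set.singleton_subset_iff.mpr hx)).trans hCx
  -- the Hall `κ(L)`-subgroup `T'`
  obtain ⟨T', hT', hTsT'⟩ := exists_kappaHall_ge hG hL (hTsZ.trans hZL) hTsκ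
  have hT'1 : T' ≠ ⊥ := by
    intro h
    rw [h] at hTsT'
    exact hTs1 (eq_bot_iff.mpr hTsT')
  obtain ⟨h30a', -, h30c'⟩ := h30 L hL T' hT' hT'1
  have hS' : sigmaCore L ⊓ centralizer ({y0} : Set G) = kst L T' := h30a' y0 (hTsT' hy0) hy01
  have hXS' : X ≤ kst L T' := by
    rw [← hS']
    refine le_inf hXL ?_
    intro a ha
    rw [mem_centralizer_iff]
    intro z hz
    rw [Set.mem_singleton_iff.mp hz]
    exact (comm_of_mem (hX ha) hy0).symm
  have hS'1 : kst L T' ≠ ⊥ := by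
    intro h
    rw [h] at hXS'
    exact hx1 (mem_bot.mp (hXS' hx))
  -- a subgroup `Y ≤ T*` of prime order
  obtain ⟨Y, hYle, hYp⟩ := exists_prime_subgroup hTs1
  have hY1 : Y ≠ ⊥ := by
    rintro rfl
    rw [Subgroup.card_bot] at hYp
    exact Nat.not_prime_one hYp
  obtain ⟨hNY, -, -⟩ := h30c' Y (hYle.trans hTsT') hYp
  have hNYV : normalizer (Y : Set G) ≤ V := normalizer_le_of_le_kst h31 hVc hT hT1 hYle hY1
  have hZ'V : T' ⊔ kst L T' ≤ V := by rw [← hNY]; exact inf_le_right.trans hNYV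
  -- `T' ≤ Z`
  have hT'CX : T' ≤ centralizer (X : Set G) := by
    intro t ht
    rw [mem_centralizer_iff]
    intro a ha
    exact (comm_of_mem ht (hXS' ha)).symm
  have hT'Z : T' ≤ Z := by
    rw [← hZ, ← hNX]
    exact le_inf (le_sup_left.trans hZ'V) (hT'CX.trans (centralizer_le_normalizer _))
  -- `Z ≤ T' T'^*`
  have hZZ' : Z ≤ T' ⊔ kst L T' := by
    rw [← hNY]
    refine le_inf hZL ?_
    rw [← hZ]
    refine sup_le ?_ ?_
    · refine le_trans ?_ (centralizer_le_normalizer _)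
      intro t ht
      rw [mem_centralizer_iff]
      intro a ha
      exact (comm_of_mem ht (hYle ha)).symm
    · have : T' ≤ L ⊓ normalizer (Y : Set G) := by rw [hNY]; exact le_sup_left
      exact hTsT'.trans (this.trans inf_le_right)
  -- symmetric step: `T'^*` is a `κ(V)`-group
  obtain ⟨y1, hy1Y, hy11⟩ := exists_ne_one_of_card_prime hYp
  have hkt' : ∀ s ∈ kst L T', s ≠ 1 → ∀ q : ℕ, q.Prime → q ∣ orderOf s → q ∈ kappa V :=
    fun s hs hs1 => (kappa_transfer h31 h32 hL hT' hT'1 hVc hne' (kst_le_sigmaCore (hYle hy1Y)) hy11 hs hs1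
      (hZ'V (le_sup_right (a := T') hs)) (comm_of_mem (hTsT' (hYle hy1Y)) hs)).1
  have hS'κ : ∀ q : ℕ, q.Prime → q ∣ Nat.card ↥(kst L T') → q ∈ kappa V :=
    primes_of_elements hkt'
  obtain ⟨v, hv, hSv⟩ := exists_conj_ge_kappaHall hG hVc hT (le_sup_right.trans hZ'V) hS'κ
  have hvZ : v ∈ T ⊔ kst V T := by
    by_contra h
    have h0 := h31b v hv h
    have hxm : x ∈ T ⊓ T.map (MulAut.conj v).toMonoidHom := ⟨hX hx, hSv (hXS' hx)⟩
    rw [h0] at hxm
    exact hx1 (mem_bot.mp hxm)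
  have hZN : T ⊔ kst V T ≤ normalizer (T : Set G) := by
    refine sup_le le_normalizer ?_
    refine le_trans ?_ (centralizer_le_normalizer _)
    exact inf_le_right
  have hcjT : cj v T = T := cj_eq_of_mem_normalizer (hZN hvZ)
  rw [hcjT] at hSv
  have hS'eq : kst L T' = T ⊓ sigmaCore L := by
    apply le_antisymm
    · exact le_inf hSv kst_le_sigmaCore
    · rw [← hS']
      refine le_inf inf_le_right ?_
      intro t ht
      rw [mem_centralizer_iff]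
      intro z hz
      rw [Set.mem_singleton_iff.mp hz]
      exact (comm_of_mem ht.1 hy0).symm
  have hZeq : T' ⊔ kst L T' = Z := le_antisymm (sup_le hT'Z (hSv.trans hTZ)) hZZ'
  exact ⟨T', ⟨hL, hT', hT'1, hS'1, hZeq⟩, hTsT', hXL, hS'eq, hne, hCX⟩

end Cfsg.Agent.Lib.Helper2_BG147b
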