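import Mathlib
import Cfsg.Prelude.Def_OddOrderLocal
import Cfsg.Agent.Lib.Helper2_BG147b

/-!
# Bender-Glauberman Theorem 14.7: single-vertex facts and uniqueness of the partner (helper2)

Facts on the vertices `(V, T)` of a fixed `Z` (see `Helper2_BG147b.IsVertex`), and the uniqueness half of S1366.
The declarations of this file live in the namespace `Cfsg.Agent.Lib.Helper2_BG147b` (for dot notation on `IsVertex`).
-/

set_option autoImplicit false
set_option linter.unusedVariables false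

namespace Cfsg.Agent.Lib.Helper2_BG147b

open Subgroup Cfsg Cfsg.Agent.Lib.Helper72_BG16 Cfsg.Agent.Lib.Helper22_Radical
  Cfsg.Agent.Lib.Helper2_BG147

variable {G : Type*} [Group G] [Finite G]

omit [Finite G] in
theorem IsVertex.le {Z V T : Subgroup G} (h : IsVertex Z V T) : Z ≤ V := by
  rw [← h.2.2.2.2]
  exact sup_le h.2.1.1 kst_le

omit [Finite G] in
theorem IsVertex.T_le {Z V T : Subgroup G} (h : IsVertex Z V T) : T ≤ Z := h.2.2.2.2 ▸ le_sup_left

omit [Finite G] in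
theorem IsVertex.kst_le_Z {Z V T : Subgroup G} (h : IsVertex Z V T) : kst V T ≤ Z :=
  h.2.2.2.2 ▸ le_sup_right

theorem IsVertex.card {Z V T : Subgroup G} (h : IsVertex Z V T) :
    Nat.card Z = Nat.card T * Nat.card ↥(kst V T) := by
  rw [← h.2.2.2.2]
  exact card_Z h.2.1

/-- `Z ∩ V_σ = T*` -/
theorem IsVertex.inf_sigmaCore {Z V T : Subgroup G} (h : IsVertex Z V T) :
    Z ⊓ sigmaCore V = kst V T := by
  apply le_antisymm
  · intro z hz
    obtain ⟨hzZ, hzσ⟩ := Subgroup.mem_inf.mp hz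
    rw [← h.2.2.2.2] at hzZ
    obtain ⟨t, ht, s, hs, rfl⟩ := mem_Z_iff.mp hzZ
    have ht' : t ∈ sigmaCore V := by
      have : t = t * s * s⁻¹ := by group
      rw [this]
      exact (sigmaCore V).mul_mem hzσ ((sigmaCore V).inv_mem (kst_le_sigmaCore hs))
    have : t ∈ T ⊓ sigmaCore V := ⟨ht, ht'⟩
    rw [K_inf_sigmaCore h.2.1] at this
    rw [mem_bot.mp this, one_mul]
    exact hs
  · exact le_inf h.kst_le_Z kst_le_sigmaCore

/-- an element of `Z` all of whose prime divisors of the order lie in `σ(V)` is in `T*` -/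
theorem IsVertex.mem_kst_of_sigma {Z V T : Subgroup G} (h : IsVertex Z V T) {y : G} (hy : y ∈ Z)
    (hσ : ∀ q : ℕ, q.Prime → q ∣ orderOf y → q ∈ sigma V) : y ∈ kst V T := by
  rw [← h.2.2.2.2] at hy
  obtain ⟨t, ht, s, hs, rfl⟩ := mem_Z_iff.mp hy
  have hc : Commute t s := comm_of_mem ht hs
  set n := orderOf (t * s) with hn
  have h1 : t ^ n * s ^ n = 1 := by rw [← hc.mul_pow, hn, pow_orderOf_eq_one]
  have h2 : t ^ n ∈ T ⊓ kst V T := by
    refine Subgroup.mem_inf.mpr ⟨pow_mem ht n, ?_⟩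
    have : t ^ n = (s ^ n)⁻¹ := eq_inv_of_mul_eq_one_left h1
    rw [this]
    exact (kst V T).inv_mem ((kst V T).pow_mem hs n)
  rw [K_inf_kst h.2.1] at h2
  have h3 : t ^ n = 1 := mem_bot.mp h2
  have hcop : n.Coprime (Nat.card T) := by
    apply Nat.coprime_of_dvd
    intro q hq h1 h2
    exact not_sigma_of_kappa (h.2.1.2.1 q hq h2) (hσ q hq h1)
  have ht1 : t = 1 := eq_one_of_pow_coprime hcop h3 (pow_card_of_mem ht)
  rw [ht1, one_mul]
  exact hs

/-- the Hall `κ(V)`-subgroup of a vertex is determined by `Z` and `V` -/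
theorem IsVertex.T_unique {Z V T T₂ : Subgroup G} (h : IsVertex Z V T) (h₂ : IsVertex Z V T₂) :
    T₂ = T := by
  have hk : kst V T₂ = kst V T := by rw [← h.inf_sigmaCore, ← h₂.inf_sigmaCore]
  have hcard : Nat.card T₂ = Nat.card T := by
    have h1 := h.card
    have h2 := h₂.card
    rw [hk] at h2
    have hpos : 0 < Nat.card ↥(kst V T) := Nat.card_pos
    exact Nat.eq_of_mul_eq_mul_right hpos (h2.symm.trans h1)
  have hle : T₂ ≤ T := by
    intro t ht
    have htZ : t ∈ T ⊔ kst V T := by rw [h.2.2.2.2]; exact h₂.T_le ht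
    rw [mem_K_iff_pow h.2.1 htZ, ← hcard]
    exact pow_card_of_mem ht
  exact Subgroup.eq_of_le_of_card_ge hle (by rw [hcard])

/-- two conjugate maximal subgroups carrying vertices of the same `Z` are equal -/
theorem IsVertex.conj_eq (h31 : H1431 G) {Z V T T₂ : Subgroup G} {g : G} (h : IsVertex Z V T)
    (h₂ : IsVertex Z (cj g V) T₂) : cj g V = V := by
  obtain ⟨y, hy, hy1⟩ := exists_ne_one_of_ne_bot h₂.2.2.2.1
  have hyk : y ∈ kst V T := by
    apply h.mem_kst_of_sigma (h₂.kst_le_Z hy)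
    intro q hq hqd
    have h1 : orderOf (⟨y, hy⟩ : ↥(kst (cj g V) T₂)) ∣ Nat.card ↥(kst (cj g V) T₂) :=
      orderOf_dvd_natCard _
    rw [← Subgroup.orderOf_coe] at h1
    have := kst_primes hq (hqd.trans h1)
    rwa [show cj g V = V.map (MulAut.conj g).toMonoidHom from rfl,
      Cfsg.Agent.Lib.Helper4_BGConj.sigma_conj] at this
  have hg : g ∈ V := mem_of_conj_mem h31 h.1 h.2.1 h.2.2.1 hyk hy1 (kst_le hy)
  exact cj_eq_of_mem_normalizer (le_normalizer hg)

/-- distinct vertices of `Z` have coprime `T*`'s -/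
theorem IsVertex.coprime (h31 : H1431 G) {Z V T V' T' : Subgroup G} (h : IsVertex Z V T)
    (h' : IsVertex Z V' T') (hne : V' ≠ V) :
    (Nat.card ↥(kst V T)).Coprime (Nat.card ↥(kst V' T')) := by
  apply Nat.coprime_of_dvd
  intro q hq h1 h2
  obtain ⟨g, hg⟩ := conj_of_common_sigma h31 h.1 h.2.1 h.2.2.1 hq h1 h'.1 (kst_primes hq h2)
  rw [hg] at h'
  exact hne (hg.trans (h.conj_eq h31 h'))

/-- every prime divisor of `|Z|` divides `|T'^*|` for some vertex `(V', T')` of `Z` -/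
theorem IsVertex.exists_vertex_of_dvd (hG : IsMinSimpleOddOrder G) (h30 : H1430 G) (h31 : H1431 G)
    (h32 : H1432 G) {Z V T : Subgroup G} (h : IsVertex Z V T) {q : ℕ} (hq : q.Prime)
    (hqd : q ∣ Nat.card Z) :
    ∃ V' T' : Subgroup G, IsVertex Z V' T' ∧ q ∣ Nat.card ↥(kst V' T') := by
  rw [h.card] at hqd
  rcases (Nat.Prime.dvd_mul hq).mp hqd with h1 | h1
  · have hqf : Fact q.Prime := ⟨hq⟩
    obtain ⟨x, hx⟩ := exists_prime_orderOf_dvd_card' q h1
    set X : Subgroup G := zpowers (x : G) with hXdef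
    have hXT : X ≤ T := by rw [hXdef, zpowers_le]; exact x.2
    have hXc : Nat.card X = q := by rw [hXdef, Nat.card_zpowers, Subgroup.orderOf_coe, hx]
    have hXp : (Nat.card X).Prime := hXc ▸ hq
    have hX1 : X ≠ ⊥ := by
      intro h0
      rw [h0, Subgroup.card_bot] at hXc
      exact hq.one_lt.ne hXc
    have hXtop : X ≠ ⊤ := by
      intro h0
      have : V = ⊤ := top_le_iff.mp (h0 ▸ (hXT.trans h.2.1.1))
      exact h.1.1 this
    obtain ⟨L, hL, hNL⟩ := Cfsg.Agent.Lib.Helper22_Uniq.exists_isCoatom_ge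
      (Cfsg.Agent.Lib.Helper22_BGTrans.normalizer_ne_top hG hX1 hXtop)
    obtain ⟨T', hV', -, -, hk, -, -⟩ := vertex_step hG h30 h31 h32 h hXT hXp hL hNL
    refine ⟨L, T', hV', ?_⟩
    have hXk : X ≤ kst L T' := by
      rw [hk]
      exact le_inf hXT ((h30 V h.1 T h.2.1 h.2.2.1).2.2 X hXT hXp |>.2.2 L hL hNL)
    rw [← hXc]
    exact Subgroup.card_dvd_of_le hXk
  · exact ⟨V, T, h, h1⟩

/-- **uniqueness of the partner** (the uniqueness half of S1366) -/
theorem partner_unique (hG : IsMinSimpleOddOrder G) (h31 : H1431 G) (h17 : H1417 G) (h19 : H1419 G)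
    (h55 : H1355 G) {K Ks M₁ M₂ : Subgroup G} (hK1 : K ≠ ⊥) (hKs1 : Ks ≠ ⊥)
    (hM₁ : IsCoatom M₁) (hK₁ : K = sigmaCore M₁ ⊓ centralizer (Ks : Set G))
    (hH₁ : IsPiHallOf (kappa M₁) Ks M₁)
    (hM₂ : IsCoatom M₂) (hK₂ : K = sigmaCore M₂ ⊓ centralizer (Ks : Set G))
    (hH₂ : IsPiHallOf (kappa M₂) Ks M₂) : M₁ = M₂ := by
  obtain ⟨X, hXK, hXp⟩ := exists_prime_subgroup hK1
  have h1 := claimA hG h31 h17 h19 h55 hM₁ hH₁ hKs1 (X := X) (by rw [kst, ← hK₁]; exact hXK) hXp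
  have h2 := claimA hG h31 h17 h19 h55 hM₂ hH₂ hKs1 (X := X) (by rw [kst, ← hK₂]; exact hXK) hXp
  exact h2.2 M₁ hM₁ h1.1

end Cfsg.Agent.Lib.Helper2_BG147b
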