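import Mathlib
import Cfsg.Prelude.Def_OddOrderLocal
import Cfsg.Agent.Lib.Helper2_BG147c
import Cfsg.Agent.Lib.Helper79_BGConj

/-!
# Bender-Glauberman Theorem 14.7: the set `Ẑ` of a clique of vertices (helper2)

* `IsVertex.zhat_conj_mem`: for a vertex `(V, T)` of `Z`, `z ∈ Ẑ_V = Z ∖ (T ∪ T*)` and `g z g⁻¹ ∈ Z` force `g ∈ Z`.
* `zhatF Z`: the elements of `Z` lying in no `T*` of a vertex of `Z`; it is a TI-subset with normalizer `Z`
  (`zhatF_ti`, `zhatF_inv`), every element of it lies in some `Ẑ_V` (`exists_vertex_zhat`).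
* `IsVertex.tilde_disjoint`: the conjugates of `zhatF Z` do not meet `Ṽ = tildeOf V (V_σ ∖ 1)`.
* `IsVertex.card_of_P1`, `IsVertex.three_mul_card_kst_le`: orders for a vertex without `(σ ∪ κ)'`-part.

The declarations live in the namespace `Cfsg.Agent.Lib.Helper2_BG147b` (for dot notation on `IsVertex`).
-/

set_option autoImplicit false
set_option linter.unusedVariables false

namespace Cfsg.Agent.Lib.Helper2_BG147b

open Subgroup Cfsg Cfsg.Agent.Lib.Helper72_BG16 Cfsg.Agent.Lib.Helper22_Radical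
  Cfsg.Agent.Lib.Helper2_BG147

variable {G : Type*} [Group G] [Finite G]

/-- for a vertex `(V, T)` of `Z`: `z ∈ Ẑ_V` and `g z g⁻¹ ∈ Z` force `g ∈ Z` -/
theorem IsVertex.zhat_conj_mem (h31 : H1431 G) {Z V T : Subgroup G} (h : IsVertex Z V T) {z g : G}
    (hz : z ∈ zhat V T) (hgz : g * z * g⁻¹ ∈ Z) : g ∈ Z := by
  obtain ⟨hVc, hT, hT1, hTs1, hZ⟩ := h
  obtain ⟨x, hx, hx1, y, hy, hy1, rfl⟩ := (mem_zhat_iff hT).mp hz
  have hc : Commute x y := comm_of_mem hx hy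
  have hcop := coprime_K_kst hT
  set n := Nat.card T with hn
  set m := Nat.card ↥(kst V T) with hm
  set w := g * (x * y) * g⁻¹ with hw
  have hwZ : w ∈ T ⊔ kst V T := by rw [hZ]; exact hgz
  have hxn : x ^ n = 1 := pow_card_of_mem hx
  have hym : y ^ m = 1 := pow_card_of_mem hy
  have hwn : w ^ n = g * y ^ n * g⁻¹ := by rw [hw, conj_pow, hc.mul_pow, hxn, one_mul]
  have hwm : w ^ m = g * x ^ m * g⁻¹ := by rw [hw, conj_pow, hc.mul_pow, hym, mul_one]
  have hyn1 : y ^ n ≠ 1 := fun h0 => hy1 (eq_one_of_pow_coprime hcop h0 hym)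
  have hxm1 : x ^ m ≠ 1 := fun h0 => hx1 (eq_one_of_pow_coprime hcop hxn h0)
  -- `g ∈ V`
  have hwnk : w ^ n ∈ kst V T := by
    rw [mem_kst_iff_pow hT (pow_mem hwZ n), hwn, conj_pow, ← pow_mul, mul_comm, pow_mul, hym, one_pow]
    group
  have hwn1 : w ^ n ≠ 1 := by
    rw [hwn]
    intro h0
    apply hyn1
    have : y ^ n = g⁻¹ * (g * y ^ n * g⁻¹) * g := by group
    rw [this, h0]; group
  have hgV : g ∈ V := by
    apply mem_of_conj_mem h31 hVc hT hT1 hwnk hwn1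
    rw [mem_cj, hwn]
    have : g⁻¹ * (g * y ^ n * g⁻¹) * g = y ^ n := by group
    rw [this]
    exact kst_le (pow_mem hy n)
  -- `g ∈ Z`
  have hwmT : w ^ m ∈ T := by
    rw [mem_K_iff_pow hT (pow_mem hwZ m), hwm, conj_pow, ← pow_mul, mul_comm, pow_mul, hxn, one_pow]
    group
  have hwm1 : w ^ m ≠ 1 := by
    rw [hwm]
    intro h0
    apply hxm1
    have : x ^ m = g⁻¹ * (g * x ^ m * g⁻¹) * g := by group
    rw [this, h0]; group
  rw [← hZ]
  by_contra hgZ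
  have h0 := (h31 V hVc T hT hT1).2.1 g hgV hgZ
  have hmem : w ^ m ∈ T ⊓ T.map (MulAut.conj g).toMonoidHom := by
    refine Subgroup.mem_inf.mpr ⟨hwmT, ?_⟩
    show w ^ m ∈ cj g T
    rw [mem_cj, hwm]
    have : g⁻¹ * (g * x ^ m * g⁻¹) * g = x ^ m := by group
    rw [this]
    exact pow_mem hx m
  rw [h0] at hmem
  exact hwm1 (mem_bot.mp hmem)

/-- `C_G(z) ≤ Z` for `z ∈ Ẑ_V` -/
theorem IsVertex.centralizer_zhat_le (h31 : H1431 G) {Z V T : Subgroup G} (h : IsVertex Z V T) {z : G}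
    (hz : z ∈ zhat V T) : centralizer ({z} : Set G) ≤ Z := by
  intro g hg
  apply h.zhat_conj_mem h31 hz
  have hgz : z * g = g * z := mem_centralizer_iff.mp hg z rfl
  have : g * z * g⁻¹ = z := by rw [← hgz]; group
  rw [this, ← h.2.2.2.2]
  exact hz.1

/-- the elements of `Z` outside every `T*` of a vertex of `Z` -/
def zhatF (Z : Subgroup G) : Set G :=
  {z | z ∈ Z ∧ ∀ V T : Subgroup G, IsVertex Z V T → z ∉ kst V T}

/-- every element of `zhatF Z` lies in `Ẑ_V` for some vertex `(V, T)` of `Z` -/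
theorem exists_vertex_zhat (hG : IsMinSimpleOddOrder G) (h30 : H1430 G) (h31 : H1431 G)
    (h32 : H1432 G) {Z V T : Subgroup G} (h : IsVertex Z V T) {z : G} (hz : z ∈ zhatF Z) :
    ∃ V' T' : Subgroup G, IsVertex Z V' T' ∧ z ∈ zhat V' T' := by
  have hz1 : z ≠ 1 := by
    rintro rfl
    exact hz.2 V T h (one_mem _)
  have ho1 : orderOf z ≠ 1 := fun h0 => hz1 (orderOf_eq_one_iff.mp h0)
  obtain ⟨q, hq, hqd⟩ := Nat.exists_prime_and_dvd ho1
  have hoZ : orderOf z ∣ Nat.card Z := Z.orderOf_dvd_natCard hz.1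
  obtain ⟨V', T', hV', hq'⟩ := h.exists_vertex_of_dvd hG h30 h31 h32 hq (hqd.trans hoZ)
  refine ⟨V', T', hV', ?_, ?_⟩
  · show z ∈ ((T' ⊔ kst V' T' : Subgroup G) : Set G)
    rw [hV'.2.2.2.2]
    exact hz.1
  · rintro (hzT | hzk)
    · have h1 : orderOf z ∣ Nat.card T' := T'.orderOf_dvd_natCard hzT
      have hcop := coprime_K_kst hV'.2.1
      exact Nat.Prime.not_coprime_iff_dvd.mpr ⟨q, hq, hqd.trans h1, hq'⟩ hcop
    · exact hz.2 V' T' hV' hzk

/-- `zhatF Z` is a TI-subset: `z ∈ zhatF Z` and `g z g⁻¹ ∈ Z` force `g ∈ Z` -/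
theorem zhatF_ti (hG : IsMinSimpleOddOrder G) (h30 : H1430 G) (h31 : H1431 G)
    (h32 : H1432 G) {Z V T : Subgroup G} (h : IsVertex Z V T) {z g : G} (hz : z ∈ zhatF Z)
    (hgz : g * z * g⁻¹ ∈ Z) : g ∈ Z := by
  obtain ⟨V', T', hV', hz'⟩ := exists_vertex_zhat hG h30 h31 h32 h hz
  exact hV'.zhat_conj_mem h31 hz' hgz

omit [Finite G] in
/-- `Z` normalizes every `T*` -/
theorem IsVertex.conj_mem_kst {Z V T : Subgroup G} (h : IsVertex Z V T) {g y : G} (hg : g ∈ Z)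
    (hy : y ∈ kst V T) : g * y * g⁻¹ ∈ kst V T := by
  have hgV : g ∈ V := h.le hg
  refine Subgroup.mem_inf.mpr ⟨conj_mem_sigmaCore hgV hy.1, ?_⟩
  rw [mem_centralizer_iff]
  intro t ht
  -- `g⁻¹ t g ∈ T`? use instead: `g = t₀ s₀`
  rw [← h.2.2.2.2] at hg
  obtain ⟨t0, ht0, s0, hs0, rfl⟩ := mem_Z_iff.mp hg
  have h1 : t0 * s0 * y * (t0 * s0)⁻¹ = s0 * y * s0⁻¹ := by
    have hc : t0 * (s0 * y * s0⁻¹) = (s0 * y * s0⁻¹) * t0 :=
      comm_of_mem ht0 ((kst V T).mul_mem ((kst V T).mul_mem hs0 hy) ((kst V T).inv_mem hs0))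
    calc t0 * s0 * y * (t0 * s0)⁻¹ = t0 * (s0 * y * s0⁻¹) * t0⁻¹ := by group
      _ = (s0 * y * s0⁻¹) * t0 * t0⁻¹ := by rw [hc]
      _ = s0 * y * s0⁻¹ := by group
  rw [h1]
  exact comm_of_mem ht ((kst V T).mul_mem ((kst V T).mul_mem hs0 hy) ((kst V T).inv_mem hs0))

omit [Finite G] in
/-- `Z` normalizes `zhatF Z` -/
theorem zhatF_inv {Z : Subgroup G} {g z : G} (hg : g ∈ Z) (hz : z ∈ zhatF Z) :
    g * z * g⁻¹ ∈ zhatF Z := by
  refine ⟨Z.mul_mem (Z.mul_mem hg hz.1) (Z.inv_mem hg), fun V T hV hmem => ?_⟩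
  apply hz.2 V T hV
  have := hV.conj_mem_kst (Z.inv_mem hg) hmem
  have h2 : g⁻¹ * (g * z * g⁻¹) * g⁻¹⁻¹ = z := by group
  rwa [h2] at this

/-- the conjugates of `zhatF Z` do not meet `Ṽ` -/
theorem IsVertex.tilde_disjoint (hG : IsMinSimpleOddOrder G) (h30 : H1430 G) (h31 : H1431 G)
    (h32 : H1432 G) {Z V T : Subgroup G} (h : IsVertex Z V T) :
    tildeOf V ((sigmaCore V : Set G) \ {1}) ∩ {a : G | ∃ g : G, ∃ z ∈ zhatF Z, a = g * z * g⁻¹} = ∅ := by
  rw [Set.eq_empty_iff_forall_notMem]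
  rintro c ⟨⟨a, ⟨ha, ha1⟩, r, hr, y, e1⟩, ⟨g, z, hz, e2⟩⟩
  have ha1' : a ≠ 1 := ha1
  have ha' : a ∈ sigmaCore V := ha
  set k : G := y⁻¹ * g with hk
  -- `a r = k z k⁻¹`
  have heq : a * r = k * z * k⁻¹ := by
    have h3 : y * (a * r) * y⁻¹ = g * z * g⁻¹ := e1.symm.trans e2
    calc a * r = y⁻¹ * (y * (a * r) * y⁻¹) * y := by group
      _ = y⁻¹ * (g * z * g⁻¹) * y := by rw [h3]
      _ = y⁻¹ * g * z * (y⁻¹ * g)⁻¹ := by group
  have hra : a * r = r * a :=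
    mem_centralizer_iff.mp (Cfsg.Agent.Lib.Helper79_BGConj.supportR_le_centralizer V a hr) a rfl
  set a0 : G := k⁻¹ * a * k with ha0
  have hzeq : z = k⁻¹ * (a * r) * k := by rw [heq]; group
  -- `a0` centralizes `z`
  have ha0z : a0 * z * a0⁻¹ = z := by
    rw [hzeq, ha0]
    calc k⁻¹ * a * k * (k⁻¹ * (a * r) * k) * (k⁻¹ * a * k)⁻¹ = k⁻¹ * (a * (a * r) * a⁻¹) * k := by group
      _ = k⁻¹ * (a * (r * a) * a⁻¹) * k := by rw [hra]
      _ = k⁻¹ * (a * r) * k := by group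
  have ha0Z : a0 ∈ Z := by
    apply zhatF_ti hG h30 h31 h32 h hz
    rw [ha0z]; exact hz.1
  have ha01 : a0 ≠ 1 := by
    intro h0
    apply ha1'
    have : a = k * a0 * k⁻¹ := by rw [ha0]; group
    rw [this, h0]; group
  have hord : orderOf a0 = orderOf a := by
    have : a0 = MulAut.conj k⁻¹ a := by simp [ha0]
    rw [this, MulEquiv.orderOf_eq]
  have ha0k : a0 ∈ kst V T := by
    apply h.mem_kst_of_sigma ha0Z
    intro q hq hqd
    rw [hord] at hqd
    have h1 : orderOf a ∣ Nat.card ↥(sigmaCore V) := (sigmaCore V).orderOf_dvd_natCard ha'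
    exact Cfsg.Agent.Lib.Helper49_SigmaDisjoint.mem_sigma_of_dvd_card_sigmaCore V hq (hqd.trans h1)
  have hkV : k⁻¹ ∈ V := by
    apply mem_of_conj_mem h31 h.1 h.2.1 h.2.2.1 ha0k ha01
    rw [mem_cj, ha0]
    have : k⁻¹⁻¹ * (k⁻¹ * a * k) * k⁻¹ = a := by group
    rw [this]
    exact sigmaCore_le V ha'
  have hkV' : k ∈ V := by
    have := V.inv_mem hkV
    rwa [inv_inv] at this
  have hCa : centralizer ({a} : Set G) ≤ V := by
    intro c hc
    have hca : a * c = c * a := mem_centralizer_iff.mp hc a rfl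
    have h1 : k⁻¹ * c * k ∈ centralizer ({a0} : Set G) := by
      rw [mem_centralizer_iff]
      intro b hb
      rw [Set.mem_singleton_iff.mp hb, ha0]
      calc k⁻¹ * a * k * (k⁻¹ * c * k) = k⁻¹ * (a * c) * k := by group
        _ = k⁻¹ * (c * a) * k := by rw [hca]
        _ = k⁻¹ * c * k * (k⁻¹ * a * k) := by group
    have h2 := centralizer_le_of_mem_kst h31 h.1 h.2.1 h.2.2.1 ha0k ha01 h1
    have : c = k * (k⁻¹ * c * k) * k⁻¹ := by group
    rw [this]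
    exact V.mul_mem (V.mul_mem hkV' h2) hkV
  have hr1 : r = 1 := by
    rw [Cfsg.Agent.Lib.Helper79_BGConj.supportR_eq_bot_of_le hCa] at hr
    exact mem_bot.mp hr
  apply hz.2 V T h
  rw [hzeq, hr1, mul_one]
  exact ha0k

/-- orders: two Hall subgroups for disjoint sets of primes covering all prime divisors -/
theorem card_eq_mul_of_piHall {π₁ π₂ : Set ℕ} {A B M : Subgroup G}
    (hA : Cfsg.Agent.Lib.Helper24_CoprimeHall.PiHall π₁ A M)
    (hB : Cfsg.Agent.Lib.Helper24_CoprimeHall.PiHall π₂ B M)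
    (hdisj : ∀ p : ℕ, p ∈ π₁ → p ∈ π₂ → False)
    (hcov : ∀ p : ℕ, p.Prime → p ∣ Nat.card M → p ∈ π₁ ∨ p ∈ π₂) :
    Nat.card M = Nat.card A * Nat.card B := by
  set a := Nat.card A with ha
  set b := Nat.card B with hb
  set n := Nat.card M with hn
  have han : a * (n / a) = n := hA.card_mul
  have hbn : b * (n / b) = n := hB.card_mul
  have hcop : a.Coprime b := by
    apply Nat.coprime_of_dvd
    intro p hp h1 h2
    exact hdisj p (hA.2.1 p hp h1) (hB.2.1 p hp h2)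
  have hdvd : a * b ∣ n := hcop.mul_dvd_of_dvd_of_dvd (Subgroup.card_dvd_of_le hA.1)
    (Subgroup.card_dvd_of_le hB.1)
  obtain ⟨k, hk⟩ := hdvd
  have hn0 : 0 < n := Nat.card_pos
  have ha0 : 0 < a := Nat.card_pos
  have hb0 : 0 < b := Nat.card_pos
  have hk1 : k = 1 := by
    by_contra hk1
    obtain ⟨p, hp, hpk⟩ := Nat.exists_prime_and_dvd hk1
    have hpn : p ∣ n := by rw [hk]; exact Dvd.dvd.mul_left hpk _
    rcases hcov p hp hpn with h1 | h1
    · apply hA.2.2 p hp h1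
      have : n / a = b * k := by
        apply Nat.div_eq_of_eq_mul_right ha0
        rw [hk]; ring
      rw [this]
      exact Dvd.dvd.mul_left hpk b
    · apply hB.2.2 p hp h1
      have : n / b = a * k := by
        apply Nat.div_eq_of_eq_mul_right hb0
        rw [hk]; ring
      rw [this]
      exact Dvd.dvd.mul_left hpk a
  rw [hk, hk1, mul_one]

/-- a vertex all of whose primes lie in `σ(V) ∪ κ(V)` has order `|T| |V_σ|` -/
theorem IsVertex.card_of_P1 (hG : IsMinSimpleOddOrder G) {Z V T : Subgroup G} (h : IsVertex Z V T)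
    (hP1 : ∀ p : ℕ, p.Prime → p ∣ Nat.card V → p ∈ sigma V ∨ p ∈ kappa V) :
    Nat.card V = Nat.card T * Nat.card ↥(sigmaCore V) := by
  have h50 := (Cfsg.Agent.S1350.result hG V h.1).1
  have h1 := (Cfsg.Agent.Lib.Helper24_CoprimeHall.isPiHallOf_iff _ _ _).mp h50
  have h2 := (Cfsg.Agent.Lib.Helper24_CoprimeHall.isPiHallOf_iff _ _ _).mp h.2.1
  rw [mul_comm]
  exact card_eq_mul_of_piHall h1 h2 (fun p hp1 hp2 => not_sigma_of_kappa hp2 hp1) hP1

/-- `3 |T*| ≤ |V_σ|` -/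
theorem IsVertex.three_mul_card_kst_le (hG : IsMinSimpleOddOrder G) (h31 : H1431 G)
    {Z V T : Subgroup G} (h : IsVertex Z V T) :
    3 * Nat.card ↥(kst V T) ≤ Nat.card ↥(sigmaCore V) := by
  obtain ⟨j, hj⟩ := Subgroup.card_dvd_of_le (kst_le_sigmaCore (M := V) (K := T))
  have hne : kst V T ≠ sigmaCore V := by
    intro heq
    have hc1 : Nat.card ↥(kst V T) ≠ 1 := fun h0 => h.2.2.2.1 (Subgroup.card_eq_one.mp h0)
    obtain ⟨q, hq, hqd⟩ := Nat.exists_prime_and_dvd hc1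
    have hqf : Fact q.Prime := ⟨hq⟩
    have S : Sylow q ↥(sigmaCore V) := default
    obtain ⟨-, -, h3⟩ := (h31 V h.1 T h.2.1 h.2.2.1).2.2.1 q hq hqd S
    apply h3
    show _ ≤ kst V T
    rw [heq]
    exact Subgroup.map_subtype_le _
  have hj1 : j ≠ 1 := by
    intro h0
    apply hne
    exact Subgroup.eq_of_le_of_card_ge kst_le_sigmaCore (by rw [hj, h0, mul_one])
  have hodd : Odd (Nat.card ↥(sigmaCore V)) :=
    Cfsg.Agent.Lib.Helper49_MaxSub.odd_card_subgroup hG _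
  rw [hj] at hodd
  have hjodd : Odd j := (Nat.odd_mul.mp hodd).2
  have hpos : 0 < Nat.card ↥(sigmaCore V) := Nat.card_pos
  have hj0 : j ≠ 0 := by
    rintro rfl
    rw [mul_zero] at hj
    omega
  have hj3 : 3 ≤ j := by
    obtain ⟨c, hc⟩ := hjodd
    omega
  rw [hj]
  calc 3 * Nat.card ↥(kst V T) = Nat.card ↥(kst V T) * 3 := by ring
    _ ≤ Nat.card ↥(kst V T) * j := Nat.mul_le_mul_left _ hj3

end Cfsg.Agent.Lib.Helper2_BG147b
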