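import Mathlib
import Cfsg.Prelude.Def_OddOrderLocal
import Cfsg.Agent.Lib.Helper2_BG147d
import Cfsg.Agent.Lib.Helper25_BG14a
import Cfsg.Agent.Lib.Helper79_BGTilde
import Cfsg.Agent.Lib.Helper34_BG16b
import Cfsg.Agent.Lib.Helper25_BG147

/-!
# Bender-Glauberman Theorem 14.7: no three vertices, existence of the partner (helper2)

* `count_core`: the arithmetic contradiction for a clique of at least two vertices without `(σ ∪ κ)'`-part.
* `ncard_zhatF`: `|zhatF Z| + Σ_V (|Z ∩ V_σ| - 1) + 1 = |Z|`, the sum over the maximal subgroups carrying a vertex of `Z`.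
* `no_three_vertices`: three distinct maximal subgroups cannot carry vertices of the same `Z`.
* `exists_partner`: the existence half of S1366, for an arbitrary (not necessarily cyclic) Hall `κ(M)`-subgroup.

Frozen statements used as hypotheses: S1430, S1431, S1432, S1377, S1433, S1378.
The declarations live in the namespace `Cfsg.Agent.Lib.Helper2_BG147b`.
-/

set_option autoImplicit false
set_option linter.unusedVariables false

namespace Cfsg.Agent.Lib.Helper2_BG147b

open Subgroup Cfsg Cfsg.Agent.Lib.Helper72_BG16 Cfsg.Agent.Lib.Helper22_Radical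
  Cfsg.Agent.Lib.Helper2_BG147

/-- the frozen statement S1377, as a hypothesis -/
def H1377 (G : Type*) [Group G] [Finite G] : Prop :=
  ∀ (M : Subgroup G) (hM : IsCoatom M),
    Set.ncard (Cfsg.tildeOf M ((Cfsg.sigmaCore M : Set G) \ {1})) = (Nat.card (Cfsg.sigmaCore M) - 1) * M.index

/-- the arithmetic core of the counting argument -/
theorem count_core {ι : Type*} (s : Finset ι) (g z : ℕ) (a m t : ι → ℕ) (c zh : ℕ)
    (hg : 0 < g) (hz : 0 < z)
    (ha : ∀ i ∈ s, 1 ≤ a i) (hm : ∀ i ∈ s, 3 * a i ≤ m i)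
    (ht : ∀ i ∈ s, t i * z * m i = (m i - 1) * g * a i)
    (hc : z * c = g * zh)
    (hzh : zh + ∑ i ∈ s, (a i - 1) + 1 = z)
    (htot : ∑ i ∈ s, t i + c ≤ g)
    (hN : 2 ≤ s.card) : False := by
  -- per vertex: `g (3 a - 1) ≤ 3 z t`
  have h1 : ∀ i ∈ s, g * (3 * a i - 1) ≤ 3 * z * t i := by
    intro i hi
    have hai := ha i hi
    have hmi := hm i hi
    have hti := ht i hi
    have hm0 : 0 < m i := by omega
    obtain ⟨m', hm'⟩ : ∃ m', m i = m' + 1 := ⟨m i - 1, by omega⟩
    obtain ⟨a', ha'⟩ : ∃ a', a i = a' + 1 := ⟨a i - 1, by omega⟩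
    have h3 : (g * (3 * a i - 1)) * m i ≤ (3 * z * t i) * m i := by
      have e1 : 3 * z * t i * m i = 3 * ((m i - 1) * g * a i) := by rw [← hti]; ring
      rw [e1, hm', ha']
      have : 3 * (a' + 1) - 1 = 3 * a' + 2 := by omega
      rw [this, Nat.add_sub_cancel]
      rw [hm', ha'] at hmi
      nlinarith
    exact Nat.le_of_mul_le_mul_right h3 hm0
  have h2 : g * ∑ i ∈ s, (3 * a i - 1) ≤ 3 * z * ∑ i ∈ s, t i := by
    rw [Finset.mul_sum, Finset.mul_sum]
    exact Finset.sum_le_sum h1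
  have h3 : ∑ i ∈ s, (3 * a i - 1) = 3 * ∑ i ∈ s, (a i - 1) + 2 * s.card := by
    have h2c : 2 * s.card = ∑ i ∈ s, 2 := by rw [Finset.sum_const, smul_eq_mul, mul_comm]
    rw [Finset.mul_sum, h2c, ← Finset.sum_add_distrib]
    apply Finset.sum_congr rfl
    intro i hi
    have := ha i hi
    omega
  -- total
  have h4 : g * (3 * z + 1) ≤ 3 * z * (∑ i ∈ s, t i + c) := by
    have e : 3 * z * (∑ i ∈ s, t i + c) = 3 * z * ∑ i ∈ s, t i + 3 * (z * c) := by ring
    rw [e, hc]
    have h5 : g * (3 * z + 1) ≤ g * ∑ i ∈ s, (3 * a i - 1) + 3 * (g * zh) := by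
      rw [h3]
      have : 3 * z + 1 ≤ 3 * ∑ i ∈ s, (a i - 1) + 2 * s.card + 3 * zh := by omega
      calc g * (3 * z + 1) ≤ g * (3 * ∑ i ∈ s, (a i - 1) + 2 * s.card + 3 * zh) :=
            Nat.mul_le_mul_left g this
        _ = g * (3 * ∑ i ∈ s, (a i - 1) + 2 * s.card) + 3 * (g * zh) := by ring
    omega
  have h6 : 3 * z * (∑ i ∈ s, t i + c) ≤ 3 * z * g := Nat.mul_le_mul_left _ htot
  have h7 : g * (3 * z + 1) = 3 * z * g + g := by ring
  omega

variable {G : Type*} [Group G] [Finite G]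

open Classical in
/-- the maximal subgroups carrying a vertex of `Z` -/
noncomputable def vset (Z : Subgroup G) : Finset (Subgroup G) :=
  (Set.toFinite {V : Subgroup G | ∃ T, IsVertex Z V T}).toFinset

theorem mem_vset {Z V : Subgroup G} : V ∈ vset Z ↔ ∃ T, IsVertex Z V T := by
  unfold vset
  simp

omit [Group G] in
/-- a finite family of pairwise disjoint sets, all disjoint from `C` -/
theorem sum_ncard_add_le {ι : Type*} (s : Finset ι) (f : ι → Set G) (C : Set G)
    (hd : ∀ i ∈ s, ∀ j ∈ s, i ≠ j → f i ∩ f j = ∅) (hC : ∀ i ∈ s, f i ∩ C = ∅) :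
    ∑ i ∈ s, (f i).ncard + C.ncard ≤ Nat.card G := by
  classical
  have key : ∀ s' : Finset ι, s' ⊆ s → (⋃ i ∈ s', f i).ncard = ∑ i ∈ s', (f i).ncard := by
    intro s'
    induction s' using Finset.induction_on with
    | empty => intro _; simp
    | insert b s' hb ih =>
      intro hsub
      have hsub' : s' ⊆ s := fun x hx => hsub (Finset.mem_insert_of_mem hx)
      have hbs : b ∈ s := hsub (Finset.mem_insert_self b s')
      rw [Finset.sum_insert hb, ← ih hsub', Finset.set_biUnion_insert]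
      apply Set.ncard_union_eq
      · rw [Set.disjoint_iff_inter_eq_empty, Set.inter_iUnion₂]
        simp only [Set.iUnion_eq_empty]
        intro j hj
        exact hd b hbs j (hsub' hj) (fun h => hb (h ▸ hj))
      · exact Set.toFinite _
      · exact Set.toFinite _
  rw [← key s (Finset.Subset.refl s)]
  have hdisj : Disjoint (⋃ i ∈ s, f i) C := by
    rw [Set.disjoint_iff_inter_eq_empty, Set.iUnion₂_inter]
    simp only [Set.iUnion_eq_empty]
    intro j hj
    exact hC j hj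
  rw [← Set.ncard_union_eq hdisj (Set.toFinite _) (Set.toFinite _), ← Set.ncard_univ]
  exact Set.ncard_le_ncard (Set.subset_univ _) (Set.toFinite _)

/-- `|zhatF Z| + Σ_V (|Z ∩ V_σ| - 1) + 1 = |Z|` -/
theorem ncard_zhatF (h31 : H1431 G) {Z V₀ T₀ : Subgroup G} (h₀ : IsVertex Z V₀ T₀) :
    (zhatF Z).ncard + ∑ V ∈ vset Z, (Nat.card ↥(Z ⊓ sigmaCore V) - 1) + 1 = Nat.card Z := by
  classical
  have : Fintype G := Fintype.ofFinite G
  set Zf : Finset G := Finset.univ.filter (· ∈ Z) with hZf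
  set B : Subgroup G → Finset G :=
    fun V => (Finset.univ.filter (· ∈ Z ⊓ sigmaCore V)).erase 1 with hBdef
  have hcardH : ∀ H : Subgroup G, (Finset.univ.filter (· ∈ H)).card = Nat.card H := by
    intro H
    rw [Nat.card_eq_fintype_card, Fintype.card_subtype]
  have hB : ∀ V, (B V).card = Nat.card ↥(Z ⊓ sigmaCore V) - 1 := by
    intro V
    rw [hBdef]
    simp only
    rw [Finset.card_erase_of_mem (by simp [one_mem]), hcardH]
  -- pairwise disjointness
  have hdisj : ∀ V ∈ vset Z, ∀ V' ∈ vset Z, V ≠ V' → Disjoint (B V) (B V') := by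
    intro V hV V' hV' hne
    obtain ⟨T, hT⟩ := mem_vset.mp hV
    obtain ⟨T', hT'⟩ := mem_vset.mp hV'
    rw [Finset.disjoint_left]
    intro x hx hx'
    rw [hBdef] at hx hx'
    simp only [Finset.mem_erase, Finset.mem_filter, Finset.mem_univ, true_and] at hx hx'
    have hcop := hT.coprime h31 hT' (Ne.symm hne)
    rw [hT.inf_sigmaCore] at hx
    rw [hT'.inf_sigmaCore] at hx'
    have hbot : kst V T ⊓ kst V' T' = ⊥ := (Subgroup.disjoint_of_coprime_natCard hcop).eq_bot
    have : x ∈ kst V T ⊓ kst V' T' := Subgroup.mem_inf.mpr ⟨hx.2, hx'.2⟩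
    rw [hbot] at this
    exact hx.1 (mem_bot.mp this)
  set U : Finset G := (vset Z).biUnion B with hU
  have hUcard : U.card = ∑ V ∈ vset Z, (Nat.card ↥(Z ⊓ sigmaCore V) - 1) := by
    rw [hU, Finset.card_biUnion hdisj]
    exact Finset.sum_congr rfl (fun V _ => hB V)
  have h1U : (1 : G) ∉ U := by
    rw [hU, Finset.mem_biUnion]
    rintro ⟨V, -, hV⟩
    rw [hBdef] at hV
    simp at hV
  have hUZ : insert 1 U ⊆ Zf := by
    intro x hx
    rw [Finset.mem_insert] at hx
    rw [hZf, Finset.mem_filter]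
    refine ⟨Finset.mem_univ _, ?_⟩
    rcases hx with rfl | hx
    · exact one_mem _
    · rw [hU, Finset.mem_biUnion] at hx
      obtain ⟨V, -, hV⟩ := hx
      rw [hBdef] at hV
      simp only [Finset.mem_erase, Finset.mem_filter, Finset.mem_univ, true_and] at hV
      exact (Subgroup.mem_inf.mp hV.2).1
  have hset : zhatF Z = ↑(Zf \ insert 1 U) := by
    ext z
    rw [Finset.coe_sdiff, Set.mem_sdiff, Finset.mem_coe, Finset.mem_coe, hZf, Finset.mem_filter,
      Finset.mem_insert]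
    constructor
    · rintro ⟨hzZ, hz⟩
      refine ⟨⟨Finset.mem_univ _, hzZ⟩, ?_⟩
      rintro (rfl | hzU)
      · exact hz V₀ T₀ h₀ (one_mem _)
      · rw [hU, Finset.mem_biUnion] at hzU
        obtain ⟨V, hV, hzV⟩ := hzU
        obtain ⟨T, hT⟩ := mem_vset.mp hV
        rw [hBdef] at hzV
        simp only [Finset.mem_erase, Finset.mem_filter, Finset.mem_univ, true_and] at hzV
        rw [hT.inf_sigmaCore] at hzV
        exact hz V T hT hzV.2
    · rintro ⟨⟨-, hzZ⟩, hz⟩
      refine ⟨hzZ, fun V T hT hzk => hz ?_⟩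
      by_cases hz1 : z = 1
      · exact Or.inl hz1
      · right
        rw [hU, Finset.mem_biUnion]
        refine ⟨V, mem_vset.mpr ⟨T, hT⟩, ?_⟩
        rw [hBdef]
        simp only [Finset.mem_erase, Finset.mem_filter, Finset.mem_univ, true_and]
        rw [hT.inf_sigmaCore]
        exact ⟨hz1, hzk⟩
  rw [hset, Set.ncard_coe_finset, Finset.card_sdiff_of_subset hUZ, Finset.card_insert_of_notMem h1U,
    ← hUcard, hZf, hcardH]
  have hle : (insert 1 U).card ≤ Zf.card := Finset.card_le_card hUZ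
  rw [Finset.card_insert_of_notMem h1U, hZf, hcardH] at hle
  omega

/-- a vertex of `Z` in the presence of two further vertices has no `(σ ∪ κ)'`-part -/
theorem IsVertex.P1_of_two_others (hG : IsMinSimpleOddOrder G) (h30 : H1430 G) (h31 : H1431 G)
    {Z V T V' T' V'' T'' : Subgroup G} (h : IsVertex Z V T) (h' : IsVertex Z V' T')
    (h'' : IsVertex Z V'' T'') (hne' : V' ≠ V) (hne'' : V'' ≠ V) (hne : V'' ≠ V') :
    ∀ p : ℕ, p.Prime → p ∣ Nat.card V → p ∈ sigma V ∨ p ∈ kappa V := by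
  intro p hp hpV
  by_contra hcon
  rw [not_or] at hcon
  have hprime : (Nat.card T).Prime :=
    Cfsg.Agent.Lib.Helper34_BG16b.card_kappaHall_prime hG
      (fun M hM => (Cfsg.Agent.S1350.result hG M hM).1)
      (fun M hM K hK hK1 => h30 M hM K hK hK1) h.1 h.2.1 h.2.2.1 ⟨p, hp, hpV, hcon.1, hcon.2⟩
  set a := Nat.card ↥(kst V T) with ha
  set a' := Nat.card ↥(kst V' T') with ha'
  set a'' := Nat.card ↥(kst V'' T'') with ha''
  have hz : Nat.card Z = Nat.card T * a := h.card
  have hd' : a' ∣ Nat.card T := by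
    have h1 : a' ∣ Nat.card T * a := hz ▸ Subgroup.card_dvd_of_le h'.kst_le_Z
    exact (Nat.Coprime.symm (h.coprime h31 h' hne')).dvd_of_dvd_mul_right h1
  have hd'' : a'' ∣ Nat.card T := by
    have h1 : a'' ∣ Nat.card T * a := hz ▸ Subgroup.card_dvd_of_le h''.kst_le_Z
    exact (Nat.Coprime.symm (h.coprime h31 h'' hne'')).dvd_of_dvd_mul_right h1
  have hcop : a'.Coprime a'' := h'.coprime h31 h'' hne
  have hdd : a' * a'' ∣ Nat.card T := hcop.mul_dvd_of_dvd_of_dvd hd' hd''
  have h1' : a' ≠ 1 := fun h0 => h'.2.2.2.1 (Subgroup.card_eq_one.mp h0)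
  have h1'' : a'' ≠ 1 := fun h0 => h''.2.2.2.1 (Subgroup.card_eq_one.mp h0)
  rcases (Nat.dvd_prime hprime).mp hd' with e | e
  · exact h1' e
  · rcases (Nat.dvd_prime hprime).mp hdd with e2 | e2
    · have : a' ∣ 1 := e2 ▸ Dvd.intro _ rfl
      exact h1' (Nat.dvd_one.mp this)
    · rw [e] at e2
      have hpos : 0 < Nat.card T := Nat.card_pos
      have : a'' = 1 := by
        have h3 : Nat.card T * a'' = Nat.card T * 1 := by rw [e2, mul_one]
        exact Nat.eq_of_mul_eq_mul_left hpos h3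
      exact h1'' this

/-- **the counting argument** (B-G 14.7(f), for a clique): two distinct maximal subgroups carrying vertices of `Z`
cannot exist if every vertex of `Z` has all its primes in `σ ∪ κ` -/
theorem clique_count (hG : IsMinSimpleOddOrder G) (h30 : H1430 G) (h31 : H1431 G)
    (h32 : H1432 G) (h77 : H1377 G) (h33 : Cfsg.Agent.Lib.Helper79_BGTilde.Hyp1433 G)
    (h78 : Cfsg.Agent.Lib.Helper79_BGTilde.Hyp1378 G)
    {Z V₁ T₁ V₂ T₂ : Subgroup G} (h₁ : IsVertex Z V₁ T₁) (h₂ : IsVertex Z V₂ T₂) (h12 : V₁ ≠ V₂)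
    (hothers : ∀ V T : Subgroup G, IsVertex Z V T →
      ∀ p : ℕ, p.Prime → p ∣ Nat.card V → p ∈ sigma V ∨ p ∈ kappa V) : False := by
  classical
  set 𝒞 : Set G := {a : G | ∃ g : G, ∃ z ∈ zhatF Z, a = g * z * g⁻¹} with h𝒞
  apply count_core (vset Z) (Nat.card G) (Nat.card Z)
    (fun V => Nat.card ↥(Z ⊓ sigmaCore V)) (fun V => Nat.card ↥(sigmaCore V))
    (fun V => (tildeOf V ((sigmaCore V : Set G) \ {1})).ncard) 𝒞.ncard (zhatF Z).ncard
    Nat.card_pos Nat.card_pos
  · intro V _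
    exact Nat.card_pos
  · intro V hV
    obtain ⟨T, hT⟩ := mem_vset.mp hV
    rw [hT.inf_sigmaCore]
    exact hT.three_mul_card_kst_le hG h31
  · intro V hV
    obtain ⟨T, hT⟩ := mem_vset.mp hV
    rw [hT.inf_sigmaCore, h77 V hT.1]
    have e1 : Nat.card V = Nat.card T * Nat.card ↥(sigmaCore V) := hT.card_of_P1 hG (hothers V T hT)
    have e2 : Nat.card Z = Nat.card T * Nat.card ↥(kst V T) := hT.card
    have e3 : V.index * Nat.card V = Nat.card G := Subgroup.index_mul_card V
    rw [e2, ← e3, e1]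
    ring
  · have := Cfsg.Agent.Lib.Helper25_BG14a.card_classSupport Z (zhatF Z)
      (fun g z hz hgz => zhatF_ti hG h30 h31 h32 h₁ hz hgz.1)
      (fun g hg z hz => zhatF_inv hg hz)
    exact this
  · exact ncard_zhatF h31 h₁
  · apply sum_ncard_add_le
    · intro V hV V' hV' hne
      obtain ⟨T, hT⟩ := mem_vset.mp hV
      obtain ⟨T', hT'⟩ := mem_vset.mp hV'
      apply Cfsg.Agent.Lib.Helper79_BGTilde.tilde_disjoint h33 h78 hT.1 hT'.1
      intro g hg
      have hg' : V' = cj g V := hg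
      rw [hg'] at hT'
      exact hne (hg'.trans (hT.conj_eq h31 hT')).symm
    · intro V hV
      obtain ⟨T, hT⟩ := mem_vset.mp hV
      exact hT.tilde_disjoint hG h30 h31 h32
  · exact Finset.one_lt_card.mpr ⟨V₁, mem_vset.mpr ⟨T₁, h₁⟩, V₂, mem_vset.mpr ⟨T₂, h₂⟩, h12⟩

/-- **three distinct maximal subgroups cannot carry vertices of the same `Z`** -/
theorem no_three_vertices (hG : IsMinSimpleOddOrder G) (h30 : H1430 G) (h31 : H1431 G)
    (h32 : H1432 G) (h77 : H1377 G) (h33 : Cfsg.Agent.Lib.Helper79_BGTilde.Hyp1433 G)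
    (h78 : Cfsg.Agent.Lib.Helper79_BGTilde.Hyp1378 G)
    {Z V₁ T₁ V₂ T₂ V₃ T₃ : Subgroup G} (h₁ : IsVertex Z V₁ T₁) (h₂ : IsVertex Z V₂ T₂)
    (h₃ : IsVertex Z V₃ T₃) (h12 : V₁ ≠ V₂) (h13 : V₁ ≠ V₃) (h23 : V₂ ≠ V₃) : False := by
  apply clique_count hG h30 h31 h32 h77 h33 h78 h₁ h₂ h12
  intro V T hV
  by_cases e1 : V = V₁
  · subst e1
    exact hV.P1_of_two_others hG h30 h31 h₂ h₃ (Ne.symm h12) (Ne.symm h13) (Ne.symm h23)
  · by_cases e2 : V = V₂
    · subst e2
      exact hV.P1_of_two_others hG h30 h31 h₁ h₃ h12 (Ne.symm h23) (Ne.symm h13)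
    · exact hV.P1_of_two_others hG h30 h31 h₁ h₂ (Ne.symm e1) (Ne.symm e2) (Ne.symm h12)

/-- **existence of the partner** (the existence half of S1366; `K` need not be cyclic) -/
theorem exists_partner (hG : IsMinSimpleOddOrder G) (h30 : H1430 G) (h31 : H1431 G)
    (h32 : H1432 G) (h77 : H1377 G) (h33 : Cfsg.Agent.Lib.Helper79_BGTilde.Hyp1433 G)
    (h78 : Cfsg.Agent.Lib.Helper79_BGTilde.Hyp1378 G)
    {M K : Subgroup G} (hM : IsCoatom M) (hK : IsPiHallOf (kappa M) K M) (hK1 : K ≠ ⊥) :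
    ∃ L : Subgroup G, IsCoatom L ∧
      K = sigmaCore L ⊓ centralizer ((sigmaCore M ⊓ centralizer (K : Set G) : Subgroup G) : Set G) ∧
      IsPiHallOf (kappa L) (sigmaCore M ⊓ centralizer (K : Set G)) L := by
  have hks : kst M K ≠ ⊥ :=
    Cfsg.Agent.Lib.Helper25_BG147.kst_ne_bot (fun M hM K hK hK1 => h30 M hM K hK hK1) hM hK hK1
  set Z : Subgroup G := K ⊔ kst M K with hZ
  have hV : IsVertex Z M K := ⟨hM, hK, hK1, hks, rfl⟩
  obtain ⟨X, hXK, hXp⟩ := exists_prime_subgroup hK1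
  have hX1 : X ≠ ⊥ := by
    rintro rfl
    rw [Subgroup.card_bot] at hXp
    exact Nat.not_prime_one hXp
  have hXtop : X ≠ ⊤ := by
    intro h0
    have : M = ⊤ := top_le_iff.mp (h0 ▸ (hXK.trans hK.1))
    exact hM.1 this
  obtain ⟨L, hL, hNL⟩ := Cfsg.Agent.Lib.Helper22_Uniq.exists_isCoatom_ge
    (Cfsg.Agent.Lib.Helper22_BGTrans.normalizer_ne_top hG hX1 hXtop)
  obtain ⟨T', hLv, hle, hXL, hk, hne, -⟩ := vertex_step hG h30 h31 h32 hV hXK hXp hL hNL
  have hLM : L ≠ M := by
    intro h0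
    apply hne 1
    rw [show M.map (MulAut.conj (1 : G)).toMonoidHom = cj 1 M from rfl,
      cj_eq_of_mem_normalizer (one_mem _)]
    exact h0
  -- `K ≤ L_σ`
  have hKL : K ≤ sigmaCore L := by
    by_contra hcon
    have hK2 : kst L T' ≤ K := hk ▸ inf_le_left
    obtain ⟨j, hj⟩ := Subgroup.card_dvd_of_le hK2
    have hj1 : j ≠ 1 := by
      intro h0
      apply hcon
      have : kst L T' = K := Subgroup.eq_of_le_of_card_ge hK2 (by rw [hj, h0, mul_one])
      rw [← this]
      exact kst_le_sigmaCore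
    obtain ⟨q, hq, hqj⟩ := Nat.exists_prime_and_dvd hj1
    have hz1 : Nat.card Z = Nat.card K * Nat.card ↥(kst M K) := hV.card
    have hz2 : Nat.card Z = Nat.card T' * Nat.card ↥(kst L T') := hLv.card
    have hpos : 0 < Nat.card ↥(kst L T') := Nat.card_pos
    have hT'card : Nat.card T' = j * Nat.card ↥(kst M K) := by
      have h3 : Nat.card ↥(kst L T') * Nat.card T' =
          Nat.card ↥(kst L T') * (j * Nat.card ↥(kst M K)) := by
        rw [mul_comm, ← hz2, hz1, hj]; ring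
      exact Nat.eq_of_mul_eq_mul_left hpos h3
    have hqT' : q ∣ Nat.card T' := hT'card ▸ Dvd.dvd.mul_right hqj _
    have hqK : q ∣ Nat.card K := hj ▸ Dvd.dvd.mul_left hqj _
    have hqZ : q ∣ Nat.card Z := hz1 ▸ Dvd.dvd.mul_right hqK _
    obtain ⟨V', T'', hV', hqV'⟩ := hV.exists_vertex_of_dvd hG h30 h31 h32 hq hqZ
    have hV'M : M ≠ V' := by
      intro h0
      subst h0
      have := hV.T_unique hV'
      rw [this] at hqV'
      exact Nat.Prime.not_coprime_iff_dvd.mpr ⟨q, hq, hqK, hqV'⟩ (coprime_K_kst hK)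
    have hV'L : L ≠ V' := by
      intro h0
      subst h0
      have := hLv.T_unique hV'
      rw [this] at hqV'
      exact Nat.Prime.not_coprime_iff_dvd.mpr ⟨q, hq, hqT', hqV'⟩ (coprime_K_kst hLv.2.1)
    exact no_three_vertices hG h30 h31 h32 h77 h33 h78 hV hLv hV' (Ne.symm hLM) hV'M hV'L
  have hkK : kst L T' = K := by rw [hk]; exact inf_eq_left.mpr hKL
  have hT'eq : T' = kst M K := by
    have hz1 : Nat.card Z = Nat.card K * Nat.card ↥(kst M K) := hV.card
    have hz2 : Nat.card Z = Nat.card T' * Nat.card ↥(kst L T') := hLv.card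
    rw [hkK] at hz2
    have hpos : 0 < Nat.card K := Nat.card_pos
    have hc : Nat.card T' = Nat.card ↥(kst M K) := by
      have h3 : Nat.card K * Nat.card T' = Nat.card K * Nat.card ↥(kst M K) := by
        rw [← hz1, hz2, mul_comm]
      exact Nat.eq_of_mul_eq_mul_left hpos h3
    exact (Subgroup.eq_of_le_of_card_ge hle (by rw [hc])).symm
  refine ⟨L, hL, ?_, ?_⟩
  · have := hkK.symm
    rw [hT'eq] at this
    exact this
  · have := hLv.2.1
    rw [hT'eq] at this
    exact this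

end Cfsg.Agent.Lib.Helper2_BG147b
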