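import Mathlib
import Cfsg.Prelude.Def_OddOrderLocal
import Cfsg.Agent.Lib.Helper2_BG147
import Cfsg.Agent.Lib.Helper34_SigmaNe

/-!
# Bender-Glauberman Theorem 14.7(a),(b) without S1355 (helper2)

`claimA'` and `s1367'`: the statement S1367 from the frozen statements S1354, S1417, S1419, S1431 only
(`M_σ ≠ 1` is taken from the landed `Helper34_SigmaNe.sigmaCore_ne_bot`).
-/

set_option autoImplicit false
set_option linter.unusedVariables false

namespace Cfsg.Agent.Lib.Helper2_BG147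

open Subgroup Cfsg Cfsg.Agent.Lib.Helper72_BG16 Cfsg.Agent.Lib.Helper22_Radical

variable {G : Type*} [Group G] [Finite G]

/-- **B-G Theorem 14.7(a)** (one half), without S1355 -/
theorem claimA' (hG : IsMinSimpleOddOrder G) (h31 : H1431 G) (h17 : H1417 G) (h19 : H1419 G)
    {M : Subgroup G} (hM : IsCoatom M) {K : Subgroup G}
    (hK : IsPiHallOf (kappa M) K M) (hK1 : K ≠ ⊥) {X : Subgroup G} (hX : X ≤ kst M K)
    (hXp : (Nat.card X).Prime) :
    centralizer (X : Set G) ≤ M ∧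
      ∀ L : Subgroup G, IsCoatom L → centralizer (X : Set G) ≤ L → L = M :=
  claimA_of hG h31 h17 h19
    (fun L hL => Cfsg.Agent.Lib.Helper34_SigmaNe.sigmaCore_ne_bot hG hL) hM hK hK1 hX hXp

/-- the statement of S1367, from the frozen statements S1354, S1417, S1419, S1431 -/
theorem s1367' (hG : IsMinSimpleOddOrder G) (h54 : H1354 G) (h31 : H1431 G) (h17 : H1417 G)
    (h19 : H1419 G)
    (M : Subgroup G) (hM : IsCoatom M) (K U : Subgroup G) (hKU : Cfsg.IsSigmaDecomposition M K U) (hK1 : K ≠ ⊥) (Mstar : Subgroup G) (hMstar : IsCoatom Mstar)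
    (hKst : K = Cfsg.sigmaCore Mstar ⊓ Subgroup.centralizer ((Cfsg.sigmaCore M ⊓ Subgroup.centralizer (K : Set G)) : Set G))
    (hKstH : Cfsg.IsPiHallOf (Cfsg.kappa Mstar) (Cfsg.sigmaCore M ⊓ Subgroup.centralizer (K : Set G)) Mstar) :
    (∀ X : Subgroup G, X ≤ (Cfsg.sigmaCore M ⊓ Subgroup.centralizer (K : Set G)) → (Nat.card X).Prime →
        Subgroup.centralizer (X : Set G) ≤ M ∧ ∀ L : Subgroup G, IsCoatom L → Subgroup.centralizer (X : Set G) ≤ L → L = M) ∧
      (∀ Y : Subgroup G, Y ≤ K → (Nat.card Y).Prime →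
        Subgroup.centralizer (Y : Set G) ≤ Mstar ∧ ∀ L : Subgroup G, IsCoatom L → Subgroup.centralizer (Y : Set G) ≤ L → L = Mstar) := by
  refine ⟨fun X hX hXp => claimA' hG h31 h17 h19 hM hKU.hall hK1 hX hXp, fun Y hY hYp => ?_⟩
  have hne : Cfsg.sigmaCore M ⊓ Subgroup.centralizer (K : Set G) ≠ ⊥ := (h54 M hM K hKU.cyclic hKU.hall).1
  have hY' : Y ≤ kst Mstar (Cfsg.sigmaCore M ⊓ Subgroup.centralizer (K : Set G)) := by
    intro y hy
    have := hY hy
    rw [hKst] at this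
    exact this
  exact claimA' hG h31 h17 h19 hMstar hKstH hne hY' hYp

end Cfsg.Agent.Lib.Helper2_BG147
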