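import Mathlib
import Cfsg.Agent.Lib.Helper77_BSWDefs
import Cfsg.Agent.Lib.Helper2_BSW_Common

/-!
# S3282 package B6c : the subgroup `D`, case `q = 2k - 1` (helper2)
-/

set_option autoImplicit false
set_option linter.unusedVariables false

namespace Cfsg.Agent.Lib.Helper2_BSW_B6c

open Cfsg.Agent.Lib.Helper77_BSWDefs Cfsg.Agent.Lib.Helper2_BSW_Common

theorem exists_D_minus {G : Type*} [Group G] [Finite G] {t s : G} {K : Subgroup G}
    (h : Setup t s K) (hB : Basics t s K) (q : ℕ) (hq : q + 1 = 2 * Nat.card K)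
    (htor : ∀ g : G, g ≠ 1 → orderOf g ∣ Nat.card K - 1 →
      Nat.card (Subgroup.centralizer ({g} : Set G)) = Nat.card K - 1 ∧
      ∃ u : G, orderOf u = 2 ∧ ∀ a ∈ Subgroup.centralizer ({g} : Set G), u * a * u⁻¹ = a⁻¹)
    (Q Q' : Subgroup G) (hne : Q ≠ Q') (hQ : Nat.card Q = q) (hQ' : Nat.card Q' = q)
    (hcent : ∀ x ∈ Q, x ≠ 1 → Subgroup.centralizer ({x} : Set G) = Q)
    (hcent' : ∀ x ∈ Q', x ≠ 1 → Subgroup.centralizer ({x} : Set G) = Q')
    (hE : 2 * Nat.card (Subgroup.normalizer (Q : Set G) ⊓ Subgroup.normalizer (Q' : Set G) :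
        Subgroup G) + 1 = q)
    (hQE : Q ⊓ (Subgroup.normalizer (Q : Set G) ⊓ Subgroup.normalizer (Q' : Set G)) = ⊥)
    (hNQ : Subgroup.normalizer (Q : Set G) =
        Q ⊔ (Subgroup.normalizer (Q : Set G) ⊓ Subgroup.normalizer (Q' : Set G)))
    (hsemi : ∀ z ∈ Q, z ∈ Subgroup.normalizer (Q' : Set G) → z = 1)
    (htrans : ∀ g : G, Q.map (MulAut.conj g).toMonoidHom = Q ∨
        ∃ z ∈ Q, Q.map (MulAut.conj g).toMonoidHom = Q'.map (MulAut.conj z).toMonoidHom)
    (htrans' : ∀ g : G, Q'.map (MulAut.conj g).toMonoidHom = Q ∨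
        ∃ z ∈ Q, Q'.map (MulAut.conj g).toMonoidHom = Q'.map (MulAut.conj z).toMonoidHom) :
    ∃ D : Subgroup G, IsMulCommutative ↥D ∧ 2 * Nat.card ↥D + 1 = q ∧ Q ⊓ D = ⊥ ∧
      Subgroup.normalizer (Q : Set G) = Q ⊔ D ∧
      ∀ X : Subgroup G, X ≤ D → X ≠ ⊥ →
        Subgroup.normalizer (X : Set G) = Subgroup.normalizer (D : Set G) ∧
        ∃ u : G, orderOf u = 2 ∧ u ∉ D ∧ (∀ d ∈ D, u * d * u⁻¹ = d⁻¹) ∧
          Subgroup.normalizer (D : Set G) = D ⊔ Subgroup.zpowers u := by
  set k := Nat.card K with hk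
  set E : Subgroup G :=
    Subgroup.normalizer (Q : Set G) ⊓ Subgroup.normalizer (Q' : Set G) with hEdef
  obtain ⟨m, hm⟩ := hB.even_card
  have hEcard : Nat.card E = k - 1 := by omega
  by_cases hEbot : E = ⊥
  · -- `k = 2`
    refine ⟨⊥, ⟨⟨fun a b => Subsingleton.elim _ _⟩⟩, ?_, inf_bot_eq _, ?_, ?_⟩
    · rw [hEbot, Subgroup.card_bot] at hE
      rw [Subgroup.card_bot]; exact hE
    · rw [hEbot] at hNQ; exact hNQ
    · intro X hX hX1
      exact absurd (le_bot_iff.1 hX) hX1
  -- `k ≥ 4`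
  have hE1 : 1 < Nat.card E := by
    rcases Nat.lt_or_ge 1 (Nat.card E) with h1 | h1
    · exact h1
    · exfalso
      apply hEbot
      have hpos : 0 < Nat.card E := Nat.card_pos
      have : Nat.card E = 1 := by omega
      exact Subgroup.card_eq_one.1 this
  -- an element `h0 ∈ E` of prime order
  obtain ⟨h0, hh0E, hp⟩ : ∃ h0 ∈ E, (orderOf h0).Prime := by
    have hp : (Nat.card E).minFac.Prime := Nat.minFac_prime (by omega)
    have : Fact (Nat.card E).minFac.Prime := ⟨hp⟩
    obtain ⟨y, hy⟩ := exists_prime_orderOf_dvd_card' (G := ↥E) (Nat.card E).minFac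
      (Nat.minFac_dvd _)
    refine ⟨(y : G), y.2, ?_⟩
    rw [Subgroup.orderOf_coe, hy]; exact hp
  have hh01 : h0 ≠ 1 := by
    rintro rfl
    rw [orderOf_one] at hp
    exact Nat.not_prime_one hp
  have hh0dvd : orderOf h0 ∣ k - 1 := by
    rw [← hEcard]
    have := orderOf_dvd_natCard (⟨h0, hh0E⟩ : ↥E)
    rwa [Subgroup.orderOf_mk] at this
  have hh0NQ : h0 ∈ Subgroup.normalizer (Q : Set G) := hh0E.1
  have hh0NQ' : h0 ∈ Subgroup.normalizer (Q' : Set G) := hh0E.2
  obtain ⟨hDcard, u, hu, huinv⟩ := htor h0 hh01 hh0dvd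
  set D : Subgroup G := Subgroup.centralizer ({h0} : Set G) with hD
  have hoddD : Odd (Nat.card D) := by
    rw [hDcard]
    have hk2 : 2 ≤ k := by omega
    exact ⟨m - 1, by omega⟩
  have hmemD : ∀ d : G, d ∈ D ↔ d * h0 = h0 * d := fun d =>
    Subgroup.mem_centralizer_singleton_iff
  -- `D` is abelian
  have hDcomm : ∀ a ∈ D, ∀ b ∈ D, a * b = b * a := by
    intro a ha b hb
    have h1 := huinv (a * b) (D.mul_mem ha hb)
    have h2 := huinv a ha
    have h3 := huinv b hb
    have h4 : u * (a * b) * u⁻¹ = (u * a * u⁻¹) * (u * b * u⁻¹) := by group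
    rw [h4, h2, h3, mul_inv_rev] at h1
    have h5 : (a⁻¹ * b⁻¹)⁻¹ = (b⁻¹ * a⁻¹)⁻¹ := by rw [h1]
    simpa using h5.symm
  -- `D ≤ E`
  have lemA : ∀ R : Subgroup G, h0 ∈ Subgroup.normalizer (R : Set G) → ∀ d ∈ D,
      h0 ∈ Subgroup.normalizer ((mc d R : Subgroup G) : Set G) := by
    intro R hR d hd
    rw [← mc_eq_self_iff, mc_mc, ← (hmemD d).1 hd, ← mc_mc, mc_eq_self_iff.2 hR]
  have lemB : ∀ z ∈ Q, h0 ∈ Subgroup.normalizer ((mc z Q' : Subgroup G) : Set G) → z = 1 := by
    intro z hz hzN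
    have h1 : z⁻¹ * h0 * z ∈ Subgroup.normalizer (Q' : Set G) := by
      rw [normalizer_mc, mem_mc] at hzN; exact hzN
    have h2 : z⁻¹ * (h0 * z * h0⁻¹) ∈ Subgroup.normalizer (Q' : Set G) := by
      have : z⁻¹ * (h0 * z * h0⁻¹) = (z⁻¹ * h0 * z) * h0⁻¹ := by group
      rw [this]
      exact Subgroup.mul_mem _ h1 (Subgroup.inv_mem _ hh0NQ')
    have h3 : z⁻¹ * (h0 * z * h0⁻¹) ∈ Q :=
      Q.mul_mem (Q.inv_mem hz) ((Subgroup.mem_normalizer_iff.1 hh0NQ z).1 hz)
    have h4 := hsemi _ h3 h2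
    have h5 : h0 * z = z * h0 := by
      have : h0 * z = z * (z⁻¹ * (h0 * z * h0⁻¹)) * h0 := by group
      rw [this, h4]; group
    by_contra hz1
    have h6 : h0 ∈ Q := by
      rw [← hcent z hz hz1, Subgroup.mem_centralizer_singleton_iff]; exact h5
    have h7 : h0 ∈ Q ⊓ E := ⟨h6, hh0E⟩
    rw [hQE, Subgroup.mem_bot] at h7
    exact hh01 h7
  have hQQ' : ∀ d ∈ D, mc d Q = Q ∨ mc d Q = Q' := by
    intro d hd
    rcases htrans d with h1 | ⟨z, hz, h1⟩
    · exact Or.inl h1
    · right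
      have h2 := lemA Q hh0NQ d hd
      have h3 : mc d Q = mc z Q' := h1
      rw [h3] at h2
      have := lemB z hz h2
      rw [h3, this, mc_one]
  have hQ'Q' : ∀ d ∈ D, mc d Q' = Q ∨ mc d Q' = Q' := by
    intro d hd
    rcases htrans' d with h1 | ⟨z, hz, h1⟩
    · exact Or.inl h1
    · right
      have h2 := lemA Q' hh0NQ' d hd
      have h3 : mc d Q' = mc z Q' := h1
      rw [h3] at h2
      have := lemB z hz h2
      rw [h3, this, mc_one]
  have hpowD : ∀ d ∈ D, d = (d * d) ^ (m) := by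
    intro d hd
    have h1 : d ^ Nat.card D = 1 := by
      have := pow_card_eq_one' (G := ↥D) (x := ⟨d, hd⟩)
      exact congrArg Subtype.val this
    have hk2 : 2 ≤ k := by omega
    have h2 : m + m = Nat.card D + 1 := by rw [hDcard]; omega
    rw [← pow_two, ← pow_mul, two_mul, h2, pow_succ, h1, one_mul]
  have hDQ : ∀ d ∈ D, mc d Q = Q := by
    intro d hd
    rcases hQQ' d hd with h1 | h1
    · exact h1
    · exfalso
      have h2 : mc d Q' = Q := by
        rcases hQ'Q' d hd with h2 | h2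
        · exact h2
        · exfalso
          apply hne
          apply mc_injective d
          rw [h1, h2]
      have h3 : d * d ∈ Subgroup.normalizer (Q : Set G) := by
        rw [← mc_eq_self_iff, ← mc_mc, h1, h2]
      have h4 : d ∈ Subgroup.normalizer (Q : Set G) := by
        rw [hpowD d hd]; exact Subgroup.pow_mem _ h3 _
      rw [mc_eq_self_iff.2 h4] at h1
      exact hne h1
  have hDQ' : ∀ d ∈ D, mc d Q' = Q' := by
    intro d hd
    rcases hQ'Q' d hd with h2 | h2
    · exfalso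
      apply hne
      apply mc_injective d
      rw [hDQ d hd, h2]
    · exact h2
  have hDE : D ≤ E := fun d hd =>
    ⟨mc_eq_self_iff.1 (hDQ d hd), mc_eq_self_iff.1 (hDQ' d hd)⟩
  have hDeqE : D = E := by
    apply Subgroup.eq_of_le_of_card_ge hDE
    rw [hEcard, hDcard]
  -- centralizers of the elements of `D`
  have hcentD : ∀ x ∈ D, x ≠ 1 → Subgroup.centralizer ({x} : Set G) = D := by
    intro x hx hx1
    have hdvd : orderOf x ∣ k - 1 := by
      rw [← hDcard]
      have := orderOf_dvd_natCard (⟨x, hx⟩ : ↥D)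
      rwa [Subgroup.orderOf_mk] at this
    have hc := (htor x hx1 hdvd).1
    symm
    apply Subgroup.eq_of_le_of_card_ge
    · intro a ha
      rw [Subgroup.mem_centralizer_singleton_iff]
      exact hDcomm a ha x hx
    · rw [hc, hDcard]
  have hh0D : h0 ∈ D := (hmemD h0).2 rfl
  have hCA : ∀ g : G, (∀ a ∈ D, g * a = a * g) → g ∈ D := fun g hg =>
    (hmemD g).2 (hg h0 hh0D)
  have hcop : Nat.Coprime (2 * k) (k - 1) := by
    have hk2 : 2 ≤ k := by omega
    have h1 : Nat.Coprime 2 (k - 1) := by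
      rw [Nat.coprime_two_left]
      exact ⟨m - 1, by omega⟩
    have h2 : Nat.Coprime k (k - 1) := by
      have : k = (k - 1) + 1 := by omega
      rw [this]; simp
    exact Nat.Coprime.mul_left h1 h2
  have hfpf : ∀ v : G, orderOf v = 2 → v ∈ Subgroup.normalizer (D : Set G) →
      ∀ a ∈ D, v * a = a * v → a = 1 := by
    intro v hv _ a ha hva
    have h1 : orderOf a ∣ 2 * k := by
      rw [← hB.card_centralizer_invol v hv]
      have hav : a ∈ Subgroup.centralizer ({v} : Set G) :=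
        Subgroup.mem_centralizer_singleton_iff.2 hva.symm
      have := orderOf_dvd_natCard (⟨a, hav⟩ : ↥(Subgroup.centralizer ({v} : Set G)))
      rwa [Subgroup.orderOf_mk] at this
    have h2 : orderOf a ∣ k - 1 := by
      rw [← hDcard]
      have := orderOf_dvd_natCard (⟨a, ha⟩ : ↥D)
      rwa [Subgroup.orderOf_mk] at this
    have h3 := Nat.dvd_gcd h1 h2
    rw [hcop] at h3
    exact orderOf_eq_one_iff.1 (Nat.dvd_one.1 h3)
  have huu : u * u = 1 := mul_self_of_orderOf_two hu
  have huND : u ∈ Subgroup.normalizer (D : Set G) := by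
    rw [Subgroup.mem_normalizer_iff]
    intro n
    constructor
    · intro hn
      rw [huinv n hn]; exact D.inv_mem hn
    · intro hn
      have h1 := huinv _ hn
      have h2 : u * (u * n * u⁻¹) * u⁻¹ = (u * u) * n * (u * u)⁻¹ := by group
      rw [h2, huu] at h1
      have h3 : n = (u * n * u⁻¹)⁻¹ := by simpa using h1
      rw [h3]; exact D.inv_mem hn
  obtain ⟨-, hbot, hfac, huniq⟩ := invol_structure D hoddD hCA hfpf u hu huND
  set W : Subgroup G :=
    Subgroup.normalizer (D : Set G) ⊓ Subgroup.centralizer ({u} : Set G) with hW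
  obtain ⟨hcardN, hNsup⟩ := card_of_factor (A := D) (B := W)
    (N := Subgroup.normalizer (D : Set G)) Subgroup.le_normalizer inf_le_left hbot hfac
  -- `|W|` divides `k`
  obtain ⟨x, hux⟩ := hB.exists_conj_invol u hu
  have hWle : W ≤ mc x K := le_conj_K h hB hux W inf_le_right huniq
  have hWk : Nat.card W ∣ k := by
    have := Subgroup.card_dvd_of_le hWle
    rwa [card_mc] at this
  -- `|W|` divides `k - 2`
  have hWk2 : Nat.card W ∣ k - 2 := by
    have h1 := card_dvd_of_free_conj W D inf_le_left (by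
      intro w hw y hy hy1 hwy
      have hwD : w ∈ D := by
        rw [← hcentD y hy hy1, Subgroup.mem_centralizer_singleton_iff]; exact hwy
      have : w ∈ D ⊓ W := ⟨hwD, hw⟩
      rw [hbot, Subgroup.mem_bot] at this
      exact this)
    rw [hDcard] at h1
    have : k - 1 - 1 = k - 2 := by omega
    rwa [this] at h1
  have hW2 : Nat.card W ∣ 2 := by
    have hk2 : 2 ≤ k := by omega
    have := Nat.dvd_sub hWk hWk2
    have e : k - (k - 2) = 2 := by omega
    rwa [e] at this
  have huW : Subgroup.zpowers u ≤ W := by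
    rw [Subgroup.zpowers_le]
    exact ⟨huND, Subgroup.mem_centralizer_singleton_iff.2 rfl⟩
  have hWu : Subgroup.zpowers u = W := by
    apply Subgroup.eq_of_le_of_card_ge huW
    rw [Nat.card_zpowers, hu]
    exact Nat.le_of_dvd (by norm_num) hW2
  rw [← hWu] at hNsup
  have huD : u ∉ D := fun huD =>
    ne_one_of_orderOf_two hu (eq_one_of_sq_of_odd D hoddD huD huu)
  refine ⟨D, ⟨⟨fun a b => Subtype.ext (hDcomm a a.2 b b.2)⟩⟩, ?_, ?_, ?_, ?_⟩
  · rw [hDeqE]; exact hE
  · rw [hDeqE]; exact hQE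
  · rw [hDeqE]; exact hNQ
  · intro X hX hX1
    refine ⟨?_, u, hu, huD, huinv, hNsup⟩
    obtain ⟨⟨y, hy⟩, hy1⟩ := (Subgroup.ne_bot_iff_exists_ne_one).1 hX1
    have hy1' : y ≠ 1 := fun e => hy1 (Subtype.ext e)
    apply le_antisymm
    · intro g hg
      have h1 : g * y * g⁻¹ ∈ X := (Subgroup.mem_normalizer_iff.1 hg y).1 hy
      have h2 : g * y * g⁻¹ ≠ 1 := by
        intro e
        apply hy1'
        have : y = g⁻¹ * (g * y * g⁻¹) * g := by group
        rw [this, e]; group
      have h3 := hcentD _ (hX h1) h2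
      rw [centralizer_conj, hcentD y (hX hy) hy1'] at h3
      exact mc_eq_self_iff.1 h3
    · rw [hNsup]
      apply sup_le
      · intro d hd
        rw [Subgroup.mem_normalizer_iff]
        intro n
        constructor
        · intro hn
          have : d * n * d⁻¹ = n := by
            rw [hDcomm d hd n (hX hn)]; group
          rw [this]; exact hn
        · intro hn
          have h1 : n ∈ D := by
            have : n = d⁻¹ * (d * n * d⁻¹) * d := by group
            rw [this]
            exact D.mul_mem (D.mul_mem (D.inv_mem hd) (hX hn)) hd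
          have : d * n * d⁻¹ = n := by
            rw [hDcomm d hd n h1]; group
          rwa [this] at hn
      · rw [Subgroup.zpowers_le, Subgroup.mem_normalizer_iff]
        intro n
        constructor
        · intro hn
          rw [huinv n (hX hn)]; exact X.inv_mem hn
        · intro hn
          have h1 := huinv _ (hX hn)
          have h2 : u * (u * n * u⁻¹) * u⁻¹ = (u * u) * n * (u * u)⁻¹ := by group
          rw [h2, huu] at h1
          have h3 : n = (u * n * u⁻¹)⁻¹ := by simpa using h1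
          rw [h3]; exact X.inv_mem hn

end Cfsg.Agent.Lib.Helper2_BSW_B6c
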