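import Mathlib
import Cfsg.Agent.Lib.Helper72_CT_Certs
import Cfsg.Agent.Lib.Helper81_StTorus
import Cfsg.Agent.Lib.Helper18_ChevJCerts

/-!
S1164 Curtis–Tits (architect helper72, market `ct_packages`), package UNIQ: in the Steinberg group the root map of a
monomially acting element is unique (`monoAct_unique`), and `x̄_r(t)` determines `t` (`xs_injective`).  Both by
pushing to the Chevalley group in `GL` and `root_eq_of_x_eq`.
-/

set_option autoImplicit false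
set_option linter.unusedVariables false
set_option linter.unusedSectionVars false

namespace Cfsg.Agent.Lib.Helper2_CT_UNIQ

open Cfsg Cfsg.Lie Cfsg.Agent.Lib.Helper72_CT
  Cfsg.Agent.Lib.Helper18_ChevFast Cfsg.Agent.Lib.Helper18_ChevEngine
  Cfsg.Agent.Lib.Helper18_ChevR1 Cfsg.Agent.Lib.Helper18_ChevN Cfsg.Agent.Lib.Helper18_ChevR4
  Cfsg.Agent.Lib.Helper18_ChevSimple Cfsg.Agent.Lib.Helper18_ChevSimple2 Cfsg.Agent.Lib.Helper18_ChevFacts
  Cfsg.Agent.Lib.Helper18_ChevWeyl Cfsg.Agent.Lib.Helper18_ChevDiag Cfsg.Agent.Lib.Helper18_ChevCar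
  Cfsg.Agent.Lib.Helper18_ChevTorus Cfsg.Agent.Lib.Helper18_ChevGL Cfsg.Agent.Lib.Helper18_ChevComm
  Cfsg.Agent.Lib.Helper18_ChevComm2 Cfsg.Agent.Lib.Helper18_MatTri Cfsg.Agent.Lib.Helper18_ChevTri
  Cfsg.Agent.Lib.Helper18_ChevBorel Cfsg.Agent.Lib.Helper18_ChevAdd Cfsg.Agent.Lib.Helper18_ChevUni
  Cfsg.Agent.Lib.Helper18_ChevBN Cfsg.Agent.Lib.Helper18_ChevMono Cfsg.Agent.Lib.Helper18_ChevBNPair
  Cfsg.Agent.Lib.Helper18_ChevLevi Cfsg.Agent.Lib.Helper18_ChevSimp Cfsg.Agent.Lib.Helper18_ChevBruhat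
  Cfsg.Agent.Lib.Helper18_ChevJCerts
  Cfsg.Agent.Lib.Helper81_StUniq Cfsg.Agent.Lib.Helper81_StAbs Cfsg.Agent.Lib.Helper81_StL37
  Cfsg.Agent.Lib.Helper81_StBruhat Cfsg.Agent.Lib.Helper81_StMain Cfsg.Agent.Lib.Helper81_StTorus

theorem mem7_of_mem5 {D : ChevalleyDatum} (hD : D ∈ [chevD4, chevF4, chevE6, chevE7, chevE8]) :
    D ∈ [chevG2, chevB2, chevD4, chevF4, chevE6, chevE7, chevE8] := by
  simp only [List.mem_cons, List.not_mem_nil, or_false] at hD ⊢
  exact Or.inr (Or.inr hD)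

/-- a homomorphism from the Steinberg group to `GL` matching the generators with the root elements -/
theorem exists_isLift (D : ChevalleyDatum)
    (hD : D ∈ [chevG2, chevB2, chevD4, chevF4, chevE6, chevE7, chevE8]) (K : Type*) [Field K] :
    ∃ (Ns : List NData) (wl : List ℤ) (ws : List (List ℤ)) (sc : ℤ) (c : DCert D Ns) (_ : TCert D)
      (_ : ACert D wl ws sc) (π : D.SteinbergGroup K →* GL D.Idx K), IsLift c (xs D K) π := by
  obtain ⟨Ns, w, d, Ts, hT, K', base, stepT, wl, ws, sc', c, tc, gc, pc, ac⟩ :=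
    Cfsg.Agent.Lib.Helper18_ChevData5.exists_cert5 D hD
  obtain ⟨θ, -, -, hθ⟩ := exists_hom_ker_eq_center (F := K) D hD
  refine ⟨Ns, wl, ws, sc', c, tc, ac, (D.group K).subtype.comp θ, ?_⟩
  intro r hr t
  apply Units.ext
  rw [xGL_coe]
  exact hθ r t hr

/-! PKG UNIQ -/
theorem monoAct_unique (D : ChevalleyDatum) (hD : D ∈ [chevD4, chevF4, chevE6, chevE7, chevE8])
    (K : Type*) [Field K] [Fintype K] {y : D.SteinbergGroup K} {σ σ' : ℕ → ℕ}
    (h : MonoAct D (xs D K) y σ) (h' : MonoAct D (xs D K) y σ') : ∀ r < D.nroots, σ r = σ' r := by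
  obtain ⟨Ns, wl, ws, sc, c, tc, ac, π, hπ⟩ := exists_isLift D (mem7_of_mem5 hD) K
  have m := h.map c hπ
  have m' := h'.map c hπ
  intro r hr
  obtain ⟨h1, -, a, ha, h3, -⟩ := m r hr
  obtain ⟨h1', -, a', ha', h3', -⟩ := m' r hr
  have e : xGL c (σ r) (a * 1) = xGL c (σ' r) (a' * 1) := by rw [← h3 1, ← h3' 1]
  have e2 : D.x K (σ r) (a * 1) = D.x K (σ' r) (a' * 1) := by
    rw [← xGL_coe c, ← xGL_coe c, e]
  exact (root_eq_of_x_eq c tc ac (σ r) (σ' r) h1 h1' (a * 1) (a' * 1) (by rwa [mul_one]) e2).symm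

/-- the root element `x̄_r(t)` of the Steinberg group determines `t` -/
theorem xs_injective (D : ChevalleyDatum) (hD : D ∈ [chevD4, chevF4, chevE6, chevE7, chevE8])
    (K : Type*) [Field K] [Fintype K] {r : ℕ} (hr : r < D.nroots) {t u : K} (h : xs D K r t = xs D K r u) : t = u := by
  obtain ⟨Ns, wl, ws, sc, c, tc, ac, π, hπ⟩ := exists_isLift D (mem7_of_mem5 hD) K
  have e : xGL c r t = xGL c r u := by rw [← hπ r hr t, ← hπ r hr u, h]
  have e1 : xGL c r (t - u) = 1 := by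
    have : xGL c r (t - u) = xGL c r t * (xGL c r u)⁻¹ := by
      rw [xGL_inv, xGL_mul, sub_eq_add_neg]
    rw [this, e, mul_inv_cancel]
  by_contra hne
  have hne' : t - u ≠ 0 := sub_ne_zero.mpr hne
  have hnr := DCert.neg_lt c r hr
  have e2 : D.x K r (t - u) = D.x K (D.neg r) 0 := by
    rw [x_zero, ← xGL_coe c, e1]
    rfl
  exact neg_ne_self c tc ac r hr (root_eq_of_x_eq c tc ac r (D.neg r) hr hnr (t - u) 0 hne' e2)

end Cfsg.Agent.Lib.Helper2_CT_UNIQ
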