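import Mathlib

set_option autoImplicit false
set_option linter.unusedVariables false
set_option linter.style.haveILetI false

/-!
S5751 package ABS (helper4's market `e8c_packages`): the abstract chain lemma for the iterated cores of
`M` and `n M n⁻¹` (`n² = 1`).  Pure Mathlib.
-/

namespace Cfsg.Agent.Lib.Helper2_E8C_ABS

variable {G : Type*} [Group G]

/-- `M` normalises `N` iff `N` is closed under conjugation by the elements of `M` -/
theorem le_normalizer_iff (M N : Subgroup G) :
    M ≤ Subgroup.normalizer (N : Set G) ↔ ∀ m ∈ M, ∀ x ∈ N, m * x * m⁻¹ ∈ N := by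
  constructor
  · intro h m hm x hx
    exact (Subgroup.mem_normalizer_iff.mp (h hm) x).mp hx
  · intro h m hm
    rw [Subgroup.mem_normalizer_iff]
    intro x
    constructor
    · exact h m hm x
    · intro hx
      have := h m⁻¹ (M.inv_mem hm) _ hx
      have e : m⁻¹ * (m * x * m⁻¹) * m⁻¹⁻¹ = x := by group
      rwa [e] at this

/-- the core of `X` in `M`, as a subgroup of `G` -/
def coreIn (M X : Subgroup G) : Subgroup G := ((X.subgroupOf M).normalCore).map M.subtype

theorem coreIn_le (M X : Subgroup G) : coreIn M X ≤ X := by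
  rintro _ ⟨z, hz, rfl⟩
  have h1 : z ∈ X.subgroupOf M := Subgroup.normalCore_le (X.subgroupOf M) hz
  exact h1

theorem coreIn_le_left (M X : Subgroup G) : coreIn M X ≤ M := by
  rintro _ ⟨z, hz, rfl⟩
  exact z.2

theorem coreIn_norm (M X : Subgroup G) : M ≤ Subgroup.normalizer (coreIn M X : Set G) := by
  rw [le_normalizer_iff]
  rintro m hm _ ⟨z, hz, rfl⟩
  have hnorm : ((X.subgroupOf M).normalCore).Normal := Subgroup.normalCore_normal _
  refine ⟨(⟨m, hm⟩ : ↥M) * z * (⟨m, hm⟩ : ↥M)⁻¹, hnorm.conj_mem z hz _, rfl⟩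

theorem le_coreIn (M X N : Subgroup G) (hXM : X ≤ M) (hNX : N ≤ X)
    (hnorm : M ≤ Subgroup.normalizer (N : Set G)) : N ≤ coreIn M X := by
  have hNM : N ≤ M := hNX.trans hXM
  haveI : (N.subgroupOf M).Normal := (Subgroup.normal_subgroupOf_iff_le_normalizer hNM).mpr hnorm
  have hle : N.subgroupOf M ≤ (X.subgroupOf M).normalCore := by
    rw [Subgroup.normal_le_normalCore]
    intro z hz
    exact hNX hz
  intro y hy
  exact ⟨⟨y, hNM hy⟩, hle hy, rfl⟩

/-- transport of normalisation along an automorphism -/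
theorem map_le_normalizer_map (c : G ≃* G) (M N : Subgroup G)
    (h : M ≤ Subgroup.normalizer (N : Set G)) :
    M.map c.toMonoidHom ≤ Subgroup.normalizer ((N.map c.toMonoidHom : Subgroup G) : Set G) := by
  rw [le_normalizer_iff] at h ⊢
  rintro _ ⟨m, hm, rfl⟩ _ ⟨x, hx, rfl⟩
  refine ⟨m * x * m⁻¹, h m hm x hx, ?_⟩
  simp

/-- ABS.  The abstract chain lemma. -/
theorem chain_abs {G : Type*} [Group G] (M : Subgroup G) (n : G) (hn : n * n = 1) (R : ℕ → Subgroup G)
    (h0 : R 0 = M)
    (hnorm : ∀ i, M ≤ Subgroup.normalizer (R (i + 1) : Set G))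
    (hle : ∀ i, R (i + 1) ≤ R i ⊓ (R i).map (MulAut.conj n).toMonoidHom)
    (hup : ∀ i (N : Subgroup G), N ≤ R i ⊓ (R i).map (MulAut.conj n).toMonoidHom →
      M ≤ Subgroup.normalizer (N : Set G) → N ≤ R (i + 1))
    (A B : ℕ → Subgroup G) (hA0 : A 0 = M) (hB0 : B 0 = M.map (MulAut.conj n).toMonoidHom)
    (hA : ∀ i, A (i + 1) = ((A i ⊓ B i).subgroupOf M).normalCore.map M.subtype)
    (hB : ∀ i, B (i + 1) = ((A i ⊓ B i).subgroupOf (M.map (MulAut.conj n).toMonoidHom)).normalCore.map
      (M.map (MulAut.conj n).toMonoidHom).subtype) :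
    ∀ i, A i = R i ∧ B i = (R i).map (MulAut.conj n).toMonoidHom := by
  set c : G ≃* G := MulAut.conj n with hc
  -- `c` is an involution
  have hcc : ∀ K : Subgroup G, (K.map c.toMonoidHom).map c.toMonoidHom = K := by
    intro K
    rw [Subgroup.map_map]
    have : c.toMonoidHom.comp c.toMonoidHom = MonoidHom.id G := by
      ext x
      show n * (n * x * n⁻¹) * n⁻¹ = x
      have hni : n⁻¹ = n := inv_eq_of_mul_eq_one_left hn
      rw [hni]
      calc n * (n * x * n) * n = (n * n) * x * (n * n) := by group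
        _ = x := by rw [hn, one_mul, mul_one]
    rw [this, Subgroup.map_id]
  have hRM : ∀ i, R i ≤ M := by
    intro i
    induction i with
    | zero => rw [h0]
    | succ i ih => exact ((hle i).trans inf_le_left).trans ih
  -- the intersection is invariant
  have hXinv : ∀ i, (R i ⊓ (R i).map c.toMonoidHom).map c.toMonoidHom =
      R i ⊓ (R i).map c.toMonoidHom := by
    intro i
    rw [Subgroup.map_inf _ _ _ c.injective, hcc, inf_comm]
  intro i
  induction i with
  | zero => exact ⟨by rw [hA0, h0], by rw [hB0, h0]⟩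
  | succ i ih =>
    obtain ⟨hAi, hBi⟩ := ih
    set X : Subgroup G := R i ⊓ (R i).map c.toMonoidHom with hX
    have hXM : X ≤ M := inf_le_left.trans (hRM i)
    have hXM' : X ≤ M.map c.toMonoidHom := inf_le_right.trans (Subgroup.map_mono (hRM i))
    have hXinv' : X.map c.toMonoidHom = X := hXinv i
    constructor
    · rw [hA i, hAi, hBi]
      show coreIn M X = R (i + 1)
      apply le_antisymm
      · exact hup i _ (coreIn_le M X) (coreIn_norm M X)
      · exact le_coreIn M X _ hXM (hle i) (hnorm i)
    · rw [hB i, hAi, hBi]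
      show coreIn (M.map c.toMonoidHom) X = (R (i + 1)).map c.toMonoidHom
      apply le_antisymm
      · have h1 : (coreIn (M.map c.toMonoidHom) X).map c.toMonoidHom ≤ R (i + 1) := by
          apply hup i
          · exact le_trans (Subgroup.map_mono (coreIn_le _ X)) (le_of_eq hXinv')
          · have := map_le_normalizer_map c _ _ (coreIn_norm (M.map c.toMonoidHom) X)
            rwa [hcc] at this
        have := Subgroup.map_mono (f := c.toMonoidHom) h1
        rwa [hcc] at this
      · apply le_coreIn _ X _ hXM'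
        · exact le_trans (Subgroup.map_mono (hle i)) (le_of_eq hXinv')
        · exact map_le_normalizer_map c _ _ (hnorm i)

end Cfsg.Agent.Lib.Helper2_E8C_ABS
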