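import Cfsg.Agent.Lib.Helper6_BNPairC

set_option autoImplicit false
set_option linter.unusedVariables false
set_option linter.style.haveILetI false

/-!
S5751 package BN-COMM (helper4's market `e8c_packages`): two distinguished generators of a (B,N)-pair that do
not commute modulo `B` have `ℓ(σ τ σ⁻¹) = 3`.
-/

namespace Cfsg.Agent.Lib.Helper2_E8C_BNCOMM

open Cfsg Cfsg.Agent.Lib.Helper6_Word Cfsg.Agent.Lib.Helper6_BNPair

/-- BN-COMM.  Two distinct distinguished generators either commute modulo `B` or `s' s s'⁻¹` has length 3. -/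
theorem len_conj_eq_three {G : Type*} [Group G] (P : Cfsg.BNPair G) {σ τ : P.N}
    (hσ : (σ : G) ∈ P.S) (hτ : (τ : G) ∈ P.S) (hne : (σ : G) ≠ τ)
    (hnc : (σ : G) * τ * (σ : G)⁻¹ * (τ : G)⁻¹ ∉ P.B) :
    Cfsg.Agent.Lib.Helper6_BNPair.ℓ P (σ * τ * σ⁻¹) = 3 := by
  have hσs : IsSimple P σ := isSimple_of_mem P hσ
  have hτs : IsSimple P τ := isSimple_of_mem P hτ
  have hsm : π P σ ∈ SW P := hσs
  have htm : π P τ ∈ SW P := hτs
  have hss : π P σ * π P σ = 1 := hσs.sq
  have htt : π P τ * π P τ = 1 := hτs.sq
  have hsi : (π P σ)⁻¹ = π P σ := inv_eq_of_sq hss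
  have hti : (π P τ)⁻¹ = π P τ := inv_eq_of_sq htt
  generalize hs : π P σ = s at hsm hss hsi
  generalize ht : π P τ = t at htm htt hti
  -- the commutator is non-trivial in `W`
  have hcomm : s * t * s * t ≠ 1 := by
    intro h
    apply hnc
    have h1 : π P (σ * τ * σ⁻¹ * τ⁻¹) = 1 := by
      rw [map_mul, map_mul, map_mul, map_inv, map_inv, hs, ht, hsi, hti]; exact h
    rw [π_eq_one_iff] at h1
    simpa using h1
  have hst : s ≠ t := by
    intro h
    apply hcomm
    rw [h, htt, one_mul, htt]
  have hs1 : s ≠ 1 := fun h => one_not_mem_SW P (h ▸ hsm)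
  have ht1 : t ≠ 1 := fun h => one_not_mem_SW P (h ▸ htm)
  have hI := invGen P
  have hE := exchange P
  have hlen_s : len (SW P) s = 1 := len_simple hI hsm hs1
  -- `len (t * s) = 2`
  have hlen_ts : len (SW P) (t * s) = 2 := by
    rcases len_simple_mul_cases hI hE htm s with h | h
    · omega
    · exfalso
      have h0 : len (SW P) (t * s) = 0 := by omega
      rw [len_eq_zero_iff hI] at h0
      apply hst
      have : t = s⁻¹ := eq_inv_of_mul_eq_one_left h0
      rw [this, hsi]
  have hgoal : ℓ P (σ * τ * σ⁻¹) = len (SW P) (s * (t * s)) := by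
    unfold ℓ
    rw [map_mul, map_mul, map_inv, hs, ht, hsi, mul_assoc]
  rw [hgoal]
  rcases len_simple_mul_cases hI hE hsm (t * s) with h | h
  · omega
  · exfalso
    have hred : IsReduced (SW P) [t, s] := by
      refine ⟨?_, ?_⟩
      · intro x hx
        simp only [List.mem_cons, List.not_mem_nil, or_false] at hx
        rcases hx with rfl | rfl
        · exact htm
        · exact hsm
      · simp only [List.length_cons, List.length_nil, List.prod_cons, List.prod_nil, mul_one]
        omega
    have hle : len (SW P) (s * [t, s].prod) ≤ len (SW P) [t, s].prod := by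
      simp only [List.prod_cons, List.prod_nil, mul_one]
      omega
    obtain ⟨i, hi, hi'⟩ := hE s hsm [t, s] hred hle
    simp only [List.length_cons, List.length_nil] at hi
    have hi2 : i = 0 ∨ i = 1 := by omega
    rcases hi2 with rfl | rfl
    · -- `s * (t * s) = s`
      simp only [List.prod_cons, List.prod_nil, mul_one, List.eraseIdx_zero, List.tail_cons] at hi'
      have h1 : t * s = 1 := by
        have := mul_left_cancel (a := s) (b := t * s) (c := 1) (by rw [mul_one]; exact hi')
        exact this
      apply hst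
      have : t = s⁻¹ := eq_inv_of_mul_eq_one_left h1
      rw [this, hsi]
    · -- `s * (t * s) = t`
      simp only [List.prod_cons, List.prod_nil, mul_one, List.eraseIdx_cons_succ, List.eraseIdx_zero,
        List.tail_cons] at hi'
      apply hcomm
      calc s * t * s * t = (s * (t * s)) * t := by group
        _ = t * t := by rw [hi']
        _ = 1 := htt

end Cfsg.Agent.Lib.Helper2_E8C_BNCOMM
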