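import Mathlib
import Cfsg.Agent.Lib.Helper98_ExtDefs
import Cfsg.Agent.Lib.Helper2_Ext_Common

set_option autoImplicit false

/-!
# S5886 package TC (helper2)

If `M` contains `1 + f ⊗ v` for all `v ≠ 0` and all `f` with `f (K v) = 0` (and `K ≠ F`,
`dim_K V ≥ 2`), then `M` contains all `F`-transvections.
-/

open Cfsg.Agent.Lib.Helper98_ExtDefs Cfsg.Agent.Lib.Helper2_Ext_Common

namespace Cfsg.Agent.Lib.Helper2_Ext_TC

variable {F K V : Type*} [Field F] [Field K] [Algebra F K] [AddCommGroup V] [Module F V]
  [Module K V] [IsScalarTower F K V] [Finite F] [Finite K] [Module.Finite K V]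

omit [Finite F] [Finite K] in
theorem exists_notMem_range (hr : 2 ≤ Module.finrank F K) :
    ∃ κ : K, κ ∉ Set.range (algebraMap F K) := by
  obtain ⟨u, hu⟩ := exists_notMem_span_singleton hr (1 : K)
  refine ⟨u, ?_⟩
  rintro ⟨a, rfl⟩
  apply hu
  rw [Submodule.mem_span_singleton]
  exact ⟨a, by rw [Algebra.smul_def, mul_one]⟩

omit [Finite F] [Finite K] [Module.Finite K V] in
/-- the commutator rule -/
theorem comm_rule {M : Subgroup (V ≃ₗ[F] V)} {v v' : V} {f₁ f' : V →ₗ[F] F}
    (h1 : HasMap M (fun x => x + f₁ x • v)) (h2 : HasMap M (fun x => x + f' x • v'))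
    (hf₁v : f₁ v = 0) (hf₁v' : f₁ v' = 1) (hf'v : f' v = 0) (hf'v' : f' v' = 0) :
    f' ∈ Av M v := by
  have h2' : HasMap M (fun x => x - f' x • v') := HasMap_inv h2 (by intro x; simp [hf'v'])
  have h1' : HasMap M (fun x => x - f₁ x • v) := HasMap_inv h1 (by intro x; simp [hf₁v])
  have h := HasMap_comp (HasMap_comp h2 h1) (HasMap_comp h2' h1')
  have hneg : -f' ∈ Av M v := by
    refine ⟨by simp [hf'v], HasMap_congr h ?_⟩
    intro x
    simp only [map_add, map_sub, map_smul, smul_eq_mul, hf₁v, hf₁v', hf'v, hf'v', mul_zero,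
      mul_one, sub_zero, add_zero, LinearMap.neg_apply]
    module
  simpa using (Av M v).neg_mem hneg

/-- **TC** -/
theorem TC (hm : 2 ≤ Module.finrank K V) (hr : 2 ≤ Module.finrank F K)
    (M : Subgroup (V ≃ₗ[F] V))
    (hB : ∀ v : V, v ≠ 0 → ∀ f : V →ₗ[F] F, (∀ k : K, f (k • v) = 0) →
      HasMap M (fun x => x + f x • v)) : AllTv M := by
  intro f v hfv
  by_cases hv : v = 0
  · subst hv
    exact HasMap_congr hasMap_id (by simp)
  have hfin : FiniteDimensional F V := finiteDimensional_of_tower (K := K)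
  have comm : ∀ v' : V, v' ∉ Submodule.span K {v} → ∀ f' : V →ₗ[F] F,
      (∀ k : K, f' (k • v') = 0) → f' v = 0 → f' ∈ Av M v := by
    intro v' hv' f' hf' hf'v
    have hv'0 : v' ≠ 0 := by
      rintro rfl
      exact hv' (zero_mem _)
    have hv'k : v' ∉ kline F K V v := by
      rw [mem_kline]
      rintro ⟨k, hk⟩
      exact hv' (Submodule.mem_span_singleton.mpr ⟨k, hk⟩)
    obtain ⟨f₁, hf₁1, hf₁0⟩ := exists_dual_eq (kline F K V v) hv'k (1 : F)
    have hf₁K : ∀ k : K, f₁ (k • v) = 0 := fun k => hf₁0 _ (mem_kline.mpr ⟨k, rfl⟩)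
    have h1 : HasMap M (fun x => x + f₁ x • v) := hB v hv f₁ hf₁K
    have h2 : HasMap M (fun x => x + f' x • v') := hB v' hv'0 f' hf'
    exact comm_rule h1 h2 (by simpa using hf₁K 1) hf₁1 hf'v (by simpa using hf' 1)
  have hAs : f ∈ As M v := by
    apply mem_of_coann
    intro x₀ hx₀
    by_contra hfx
    have hx₀F : x₀ ∉ Submodule.span F {v} := by
      intro hmem
      obtain ⟨a, rfl⟩ := Submodule.mem_span_singleton.mp hmem
      apply hfx
      simp [hfv]
    obtain ⟨v', hv', hP⟩ : ∃ v', v' ∉ Submodule.span K {v} ∧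
        x₀ ∉ kline F K V v' ⊔ Submodule.span F {v} := by
      by_cases hx₀K : x₀ ∈ Submodule.span K {v}
      · obtain ⟨κ₀, rfl⟩ := Submodule.mem_span_singleton.mp hx₀K
        obtain ⟨u, hu⟩ := exists_notMem_span_singleton hm v
        refine ⟨u, hu, ?_⟩
        intro hmem
        obtain ⟨y, hy, z, hz, hyz⟩ := Submodule.mem_sup.mp hmem
        obtain ⟨c, rfl⟩ := mem_kline.mp hy
        obtain ⟨a, rfl⟩ := Submodule.mem_span_singleton.mp hz
        have hc : c = 0 := by
          by_contra hc
          apply hu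
          rw [Submodule.mem_span_singleton]
          refine ⟨c⁻¹ * (κ₀ - algebraMap F K a), ?_⟩
          rw [mul_smul, sub_smul, algebraMap_smul, ← hyz, add_sub_cancel_right, smul_smul,
            inv_mul_cancel₀ hc, one_smul]
        apply hx₀F
        rw [← hyz, hc, zero_smul, zero_add]
        exact Submodule.mem_span_singleton.mpr ⟨a, rfl⟩
      · obtain ⟨κ, hκ⟩ := exists_notMem_range (F := F) (K := K) hr
        refine ⟨x₀ + κ • v, ?_, ?_⟩
        · intro hmem
          apply hx₀K
          have := sub_mem hmem (Submodule.smul_mem _ κ (Submodule.mem_span_singleton_self v))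
          simpa using this
        · intro hmem
          obtain ⟨y, hy, z, hz, hyz⟩ := Submodule.mem_sup.mp hmem
          obtain ⟨c, rfl⟩ := mem_kline.mp hy
          obtain ⟨a, rfl⟩ := Submodule.mem_span_singleton.mp hz
          rw [← algebraMap_smul K a v] at hyz
          have hc : c = 1 := by
            by_contra hc
            have hc' : 1 - c ≠ 0 := sub_ne_zero.mpr (Ne.symm hc)
            apply hx₀K
            rw [Submodule.mem_span_singleton]
            refine ⟨(1 - c)⁻¹ * (c * κ + algebraMap F K a), ?_⟩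
            have h3 : (1 - c) • x₀ = (c * κ + algebraMap F K a) • v := by
              linear_combination (norm := module) (-1 : K) • hyz
            rw [mul_smul, ← h3, smul_smul, inv_mul_cancel₀ hc', one_smul]
          apply hκ
          refine ⟨-a, ?_⟩
          have h4 : (κ + algebraMap F K a) • v = 0 := by
            rw [hc] at hyz
            linear_combination (norm := module) (1 : K) • hyz
          have h5 := (smul_eq_zero.mp h4).resolve_right hv
          rw [map_neg]
          linear_combination -h5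
    obtain ⟨g, hg1, hg0⟩ := exists_dual_eq _ hP (1 : F)
    have hgK : ∀ k : K, g (k • v') = 0 :=
      fun k => hg0 _ (Submodule.mem_sup_left (mem_kline.mpr ⟨k, rfl⟩))
    have hgv : g v = 0 :=
      hg0 _ (Submodule.mem_sup_right (Submodule.mem_span_singleton_self v))
    have hgAs : g ∈ As M v := by
      intro a
      apply comm v' hv' (a • g)
      · intro k
        simp [hgK k]
      · simp [hgv]
    have := hx₀ g hgAs
    rw [hg1] at this
    exact one_ne_zero this
  exact (As_le_Av hAs).2

end Cfsg.Agent.Lib.Helper2_Ext_TC
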