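import Mathlib.GroupTheory.Index
import Mathlib.GroupTheory.Commutator.Basic
import Mathlib.GroupTheory.SpecificGroups.Cyclic
import Mathlib.GroupTheory.Subgroup.Centralizer
import Mathlib.SetTheory.Cardinal.Finite
import Mathlib.GroupTheory.OrderOfElement

/-!
# Counting in groups with `G' ≤ Z(G)`, `|Z(G)| = 2` (helper48)

* `sum_card_comm`: double counting for a relation between two finite types.
* `two_mul_card_fiber`: fibers of a nontrivial hom onto a group of order 2 have half the size.
* `commHom`: `y ↦ ⁅e, y⁆` as a homomorphism into the centre (class two).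
* `card_centralizer_mul_card_le`: `|C_E(B)| * |B| ≤ 2 |E|`.
* `two_mul_card_sq_eq_one`: `2 * #{x | x² = 1} = |E| + |A|` for a self-centralizing elementary abelian `A`.
* `card_orderOf_eq_four`: number of elements of order 4 in an extraspecial 2-group of plus type.
-/

set_option autoImplicit false
open scoped commutatorElement

namespace Cfsg.Agent.Lib.Helper48_Extraspecial

section counting

/-- Double counting. -/
theorem sum_card_comm {X Y : Type*} [Fintype X] [Fintype Y] (r : X → Y → Prop) :
    ∑ x, Nat.card {y // r x y} = ∑ y, Nat.card {x // r x y} := by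
  rw [← Nat.card_sigma, ← Nat.card_sigma]
  apply Nat.card_congr
  exact (Equiv.subtypeProdEquivSigmaSubtype r).symm.trans
    (((Equiv.prodComm X Y).subtypeEquiv (fun _ => Iff.rfl)).trans
      (Equiv.subtypeProdEquivSigmaSubtype (fun y x => r x y)))

theorem sum_ite_const {X : Type*} [Fintype X] (P : X → Prop) [DecidablePred P] (β : ℕ) :
    ∑ x, (if P x then β else 0) = β * Nat.card {x // P x} := by
  rw [Finset.sum_ite, Finset.sum_const, Finset.sum_const_zero, add_zero, smul_eq_mul, mul_comm,
    Nat.card_eq_fintype_card, Fintype.card_subtype]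

/-- The fibers of a nontrivial homomorphism to a group of order two have half the size. -/
theorem two_mul_card_fiber {B Z : Type*} [Group B] [Finite B] [Group Z] (hZ : Nat.card Z = 2)
    (ψ : B →* Z) (hψ : ∃ b, ψ b ≠ 1) (z : Z) : 2 * Nat.card {b : B // ψ b = z} = Nat.card B := by
  have hprime : Fact (Nat.card Z).Prime := ⟨by rw [hZ]; exact Nat.prime_two⟩
  have hrange : ψ.range = ⊤ := by
    rcases ψ.range.eq_bot_or_eq_top_of_prime_card with h | h
    · exfalso
      obtain ⟨b, hb⟩ := hψ
      apply hb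
      have : ψ b ∈ ψ.range := ⟨b, rfl⟩
      rw [h] at this
      exact Subgroup.mem_bot.mp this
    · exact h
  have hsurj : Function.Surjective ψ := MonoidHom.range_eq_top.mp hrange
  obtain ⟨b₁, hb₁⟩ := hsurj z
  have e : {b : B // ψ b = z} ≃ ψ.ker :=
    { toFun := fun b => ⟨b₁⁻¹ * b.1, by
        rw [MonoidHom.mem_ker, map_mul, map_inv, hb₁, b.2, inv_mul_cancel]⟩
      invFun := fun k => ⟨b₁ * k.1, by rw [map_mul, hb₁, MonoidHom.mem_ker.mp k.2, mul_one]⟩
      left_inv := fun b => by simp
      right_inv := fun k => by simp }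
  rw [Nat.card_congr e]
  have h1 := Subgroup.card_mul_index ψ.ker
  rw [Subgroup.index_ker, hrange, Subgroup.card_top, hZ] at h1
  omega

end counting

variable {E : Type*} [Group E]

/-- In a group of class two, `y ↦ ⁅e, y⁆` is a homomorphism into the centre. -/
def commHom (hcl : ∀ a b : E, ⁅a, b⁆ ∈ Subgroup.center E) (e : E) : E →* Subgroup.center E where
  toFun y := ⟨⁅e, y⁆, hcl e y⟩
  map_one' := by
    apply Subtype.ext
    simp
  map_mul' y z := by
    apply Subtype.ext
    show ⁅e, y * z⁆ = ⁅e, y⁆ * ⁅e, z⁆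
    have hz := Subgroup.mem_center_iff.mp (hcl e z) y
    have hz' : ⁅e, z⁆ * y⁻¹ = y⁻¹ * ⁅e, z⁆ := by
      rw [eq_comm, inv_mul_eq_iff_eq_mul, ← mul_assoc, hz, mul_inv_cancel_right]
    calc ⁅e, y * z⁆ = e * y * e⁻¹ * (⁅e, z⁆ * y⁻¹) := by
          simp only [commutatorElement_def]; group
      _ = e * y * e⁻¹ * (y⁻¹ * ⁅e, z⁆) := by rw [hz']
      _ = ⁅e, y⁆ * ⁅e, z⁆ := by simp only [commutatorElement_def]; group

theorem commHom_apply (hcl : ∀ a b : E, ⁅a, b⁆ ∈ Subgroup.center E) (e y : E) :
    ((commHom hcl e y : Subgroup.center E) : E) = ⁅e, y⁆ := rfl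

theorem commHom_eq_one_iff (hcl : ∀ a b : E, ⁅a, b⁆ ∈ Subgroup.center E) (e y : E) :
    commHom hcl e y = 1 ↔ e * y = y * e := by
  rw [← commutatorElement_eq_one_iff_mul_comm]
  constructor
  · intro h
    exact congrArg Subtype.val h
  · intro h
    exact Subtype.ext h

theorem sq_mem_center (hcl : ∀ a b : E, ⁅a, b⁆ ∈ Subgroup.center E)
    (hZ : Nat.card (Subgroup.center E) = 2) (x : E) : x ^ 2 ∈ Subgroup.center E := by
  rw [Subgroup.mem_center_iff]
  intro y
  have h1 : commHom hcl y (x ^ 2) = 1 := by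
    rw [map_pow]
    have := pow_card_eq_one' (G := Subgroup.center E) (x := commHom hcl y x)
    rwa [hZ] at this
  exact (commHom_eq_one_iff hcl y (x ^ 2)).mp h1

theorem pow_four_eq_one (hcl : ∀ a b : E, ⁅a, b⁆ ∈ Subgroup.center E)
    (hZ : Nat.card (Subgroup.center E) = 2) (x : E) : x ^ 4 = 1 := by
  have := pow_card_eq_one' (G := Subgroup.center E) (x := ⟨x ^ 2, sq_mem_center hcl hZ x⟩)
  rw [hZ] at this
  have h2 := congrArg Subtype.val this
  simp only [Subgroup.coe_pow, Subgroup.coe_one] at h2
  rw [← pow_mul] at h2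
  exact h2

theorem two_mul_card_comm_subgroup [Finite E] (hcl : ∀ a b : E, ⁅a, b⁆ ∈ Subgroup.center E)
    (hZ : Nat.card (Subgroup.center E) = 2) (B : Subgroup E) (e : E)
    [Decidable (e ∈ Subgroup.centralizer (B : Set E))] :
    2 * Nat.card {b : B // e * (b : E) = (b : E) * e} =
      Nat.card B + (if e ∈ Subgroup.centralizer (B : Set E) then Nat.card B else 0) := by
  by_cases h : e ∈ Subgroup.centralizer (B : Set E)
  · rw [if_pos h]
    have hall : ∀ b : B, e * (b : E) = (b : E) * e := fun b =>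
      (Subgroup.mem_centralizer_iff.mp h b b.2).symm
    rw [Nat.card_congr (Equiv.subtypeUnivEquiv hall), two_mul]
  · rw [if_neg h, add_zero]
    have hex : ∃ b : B, ((commHom hcl e).comp B.subtype) b ≠ 1 := by
      by_contra hcon
      push Not at hcon
      apply h
      rw [Subgroup.mem_centralizer_iff]
      intro b hb
      exact ((commHom_eq_one_iff hcl e b).mp (hcon ⟨b, hb⟩)).symm
    rw [← two_mul_card_fiber hZ ((commHom hcl e).comp B.subtype) hex 1]
    congr 1
    exact Nat.card_congr (Equiv.subtypeEquivRight (fun b => (commHom_eq_one_iff hcl e b).symm))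

theorem two_mul_card_comm_top [Finite E] (hcl : ∀ a b : E, ⁅a, b⁆ ∈ Subgroup.center E)
    (hZ : Nat.card (Subgroup.center E) = 2) (b : E) [Decidable (b ∈ Subgroup.center E)] :
    2 * Nat.card {e : E // e * b = b * e} =
      Nat.card E + (if b ∈ Subgroup.center E then Nat.card E else 0) := by
  by_cases h : b ∈ Subgroup.center E
  · rw [if_pos h]
    have hall : ∀ e : E, e * b = b * e := fun e => Subgroup.mem_center_iff.mp h e
    rw [Nat.card_congr (Equiv.subtypeUnivEquiv hall), two_mul]
  · rw [if_neg h, add_zero]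
    have hex : ∃ e : E, (commHom hcl b) e ≠ 1 := by
      by_contra hcon
      push Not at hcon
      apply h
      rw [Subgroup.mem_center_iff]
      intro e
      exact ((commHom_eq_one_iff hcl b e).mp (hcon e)).symm
    rw [← two_mul_card_fiber hZ (commHom hcl b) hex 1]
    congr 1
    refine Nat.card_congr (Equiv.subtypeEquivRight (fun e => ?_))
    rw [commHom_eq_one_iff, eq_comm]

/-- `|C_E(B)| * |B| ≤ 2 |E|` when `E' ≤ Z(E)` and `|Z(E)| = 2`. -/
theorem card_centralizer_mul_card_le [Finite E] (hcl : ∀ a b : E, ⁅a, b⁆ ∈ Subgroup.center E)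
    (hZ : Nat.card (Subgroup.center E) = 2) (B : Subgroup E) :
    Nat.card (Subgroup.centralizer (B : Set E)) * Nat.card B ≤ 2 * Nat.card E := by
  classical
  have : Fintype E := Fintype.ofFinite E
  have : Fintype B := Fintype.ofFinite B
  have key := sum_card_comm (fun (e : E) (b : B) => e * (b : E) = (b : E) * e)
  have h1 : 2 * ∑ e : E, Nat.card {b : B // e * (b : E) = (b : E) * e} =
      Nat.card E * Nat.card B + Nat.card B * Nat.card (Subgroup.centralizer (B : Set E)) := by
    rw [Finset.mul_sum]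
    simp_rw [two_mul_card_comm_subgroup hcl hZ B]
    rw [Finset.sum_add_distrib, Finset.sum_const, sum_ite_const, Finset.card_univ, smul_eq_mul,
      Nat.card_eq_fintype_card (α := E)]
  have h2 : 2 * ∑ b : B, Nat.card {e : E // e * (b : E) = (b : E) * e} =
      Nat.card B * Nat.card E + Nat.card E * Nat.card {b : B // (b : E) ∈ Subgroup.center E} := by
    rw [Finset.mul_sum]
    simp_rw [two_mul_card_comm_top hcl hZ]
    rw [Finset.sum_add_distrib, Finset.sum_const, sum_ite_const, Finset.card_univ, smul_eq_mul,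
      Nat.card_eq_fintype_card (α := B)]
  have h3 : Nat.card {b : B // (b : E) ∈ Subgroup.center E} ≤ 2 := by
    rw [← hZ]
    apply Nat.card_le_card_of_injective (fun b => (⟨(b.1 : E), b.2⟩ : Subgroup.center E))
    intro b b' hbb
    apply Subtype.ext
    apply Subtype.ext
    exact congrArg (fun c : Subgroup.center E => (c : E)) hbb
  rw [key, h2] at h1
  have h4 : Nat.card B * Nat.card (Subgroup.centralizer (B : Set E)) =
      Nat.card E * Nat.card {b : B // (b : E) ∈ Subgroup.center E} := by
    have : Nat.card B * Nat.card E = Nat.card E * Nat.card B := mul_comm _ _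
    omega
  calc Nat.card (Subgroup.centralizer (B : Set E)) * Nat.card B
      = Nat.card E * Nat.card {b : B // (b : E) ∈ Subgroup.center E} := by rw [mul_comm, h4]
    _ ≤ Nat.card E * 2 := Nat.mul_le_mul_left _ h3
    _ = 2 * Nat.card E := mul_comm _ _

/-- `(x a)² = ⁅x, a⁆ x² a²` when `x²` is central. -/
theorem mul_sq_eq (x a : E) (hx2 : x ^ 2 ∈ Subgroup.center E) :
    (x * a) ^ 2 = ⁅x, a⁆ * x ^ 2 * a ^ 2 := by
  have h := Subgroup.mem_center_iff.mp hx2 a⁻¹
  calc (x * a) ^ 2 = x * a * x⁻¹ * (x ^ 2 * a⁻¹) * a ^ 2 := by rw [pow_two, pow_two, pow_two]; group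
    _ = x * a * x⁻¹ * (a⁻¹ * x ^ 2) * a ^ 2 := by rw [h]
    _ = ⁅x, a⁆ * x ^ 2 * a ^ 2 := by simp only [commutatorElement_def]; group

/-- Counting the solutions of `x² = 1`, given a self-centralizing elementary abelian subgroup. -/
theorem two_mul_card_sq_eq_one [Finite E] (hcl : ∀ a b : E, ⁅a, b⁆ ∈ Subgroup.center E)
    (hZ : Nat.card (Subgroup.center E) = 2) (A : Subgroup E) (hAexp : ∀ a ∈ A, a ^ 2 = 1)
    (hAC : Subgroup.centralizer (A : Set E) = A) :
    2 * Nat.card {x : E // x ^ 2 = 1} = Nat.card E + Nat.card A := by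
  classical
  have : Fintype E := Fintype.ofFinite E
  have : Fintype A := Fintype.ofFinite A
  have key := sum_card_comm (fun (x : E) (a : A) => (x * (a : E)) ^ 2 = 1)
  have hL3 : ∀ a : A, Nat.card {x : E // (x * (a : E)) ^ 2 = 1} = Nat.card {x : E // x ^ 2 = 1} := by
    intro a
    exact Nat.card_congr ((Equiv.mulRight (a : E)).subtypeEquiv (fun x => Iff.rfl))
  have hL4 : ∀ x : E, 2 * Nat.card {a : A // (x * (a : E)) ^ 2 = 1} =
      Nat.card A + (if x ∈ A then Nat.card A else 0) := by
    intro x
    by_cases h : x ∈ A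
    · rw [if_pos h]
      have hall : ∀ a : A, (x * (a : E)) ^ 2 = 1 := fun a => hAexp _ (A.mul_mem h a.2)
      rw [Nat.card_congr (Equiv.subtypeUnivEquiv hall), two_mul]
    · rw [if_neg h, add_zero]
      have hex : ∃ a : A, ((commHom hcl x).comp A.subtype) a ≠ 1 := by
        by_contra hcon
        push Not at hcon
        apply h
        rw [← hAC, Subgroup.mem_centralizer_iff]
        intro a ha
        exact ((commHom_eq_one_iff hcl x a).mp (hcon ⟨a, ha⟩)).symm
      rw [← two_mul_card_fiber hZ ((commHom hcl x).comp A.subtype) hex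
        (⟨x ^ 2, sq_mem_center hcl hZ x⟩ : Subgroup.center E)⁻¹]
      congr 1
      refine Nat.card_congr (Equiv.subtypeEquivRight (fun a => ?_))
      rw [mul_sq_eq x a (sq_mem_center hcl hZ x), hAexp a a.2, mul_one, mul_eq_one_iff_eq_inv]
      constructor
      · intro h
        apply Subtype.ext
        exact h
      · intro h
        exact congrArg Subtype.val h
  have h1 : 2 * ∑ x : E, Nat.card {a : A // (x * (a : E)) ^ 2 = 1} =
      Nat.card E * Nat.card A + Nat.card A * Nat.card A := by
    rw [Finset.mul_sum]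
    simp_rw [hL4]
    rw [Finset.sum_add_distrib, Finset.sum_const, sum_ite_const, Finset.card_univ, smul_eq_mul,
      Nat.card_eq_fintype_card (α := E)]
  rw [key] at h1
  simp_rw [hL3] at h1
  rw [Finset.sum_const, Finset.card_univ, smul_eq_mul, ← Nat.card_eq_fintype_card] at h1
  have hpos : 0 < Nat.card A := Nat.card_pos
  have h5 : Nat.card A * (2 * Nat.card {x : E // x ^ 2 = 1}) = Nat.card A * (Nat.card E + Nat.card A) := by
    rw [mul_add, mul_comm (Nat.card A) (Nat.card E), ← h1]; ring
  exact Nat.eq_of_mul_eq_mul_left hpos h5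

/-- An extraspecial `2`-group of order `2^(2m+1)` containing an elementary abelian subgroup of
order `2^(m+1)` has exactly `2^(2m) - 2^m` elements of order `4`. -/
theorem card_orderOf_eq_four [Finite E] (hcl : ∀ a b : E, ⁅a, b⁆ ∈ Subgroup.center E)
    (hZ : Nat.card (Subgroup.center E) = 2) (A : Subgroup E) (hAc : IsMulCommutative A)
    (hAexp : ∀ a ∈ A, a ^ 2 = 1) (m : ℕ) (hcard : Nat.card E = 2 ^ (2 * m + 1))
    (hA : Nat.card A = 2 ^ (m + 1)) :
    Nat.card {x : E // orderOf x = 4} = 2 ^ (2 * m) - 2 ^ m := by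
  classical
  have hAle : A ≤ Subgroup.centralizer (A : Set E) :=
    Subgroup.le_centralizer_iff_isMulCommutative.mpr hAc
  have hAC : Subgroup.centralizer (A : Set E) = A := by
    symm
    apply Subgroup.eq_of_le_of_card_ge hAle
    have h1 := card_centralizer_mul_card_le hcl hZ A
    rw [hA, hcard] at h1
    rw [hA]
    have h2 : 2 * 2 ^ (2 * m + 1) = 2 ^ (m + 1) * 2 ^ (m + 1) := by
      rw [← pow_succ', ← pow_add]; congr 1; omega
    rw [h2] at h1
    exact Nat.le_of_mul_le_mul_right h1 (by positivity)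
  have hN1 := two_mul_card_sq_eq_one hcl hZ A hAexp hAC
  rw [hcard, hA] at hN1
  have hequiv : ∀ x : E, orderOf x = 4 ↔ ¬ x ^ 2 = 1 := by
    intro x
    constructor
    · intro h4 h2
      have := orderOf_dvd_of_pow_eq_one h2
      rw [h4] at this
      omega
    · intro h2
      have h4 : orderOf x ∣ 2 ^ 2 := orderOf_dvd_of_pow_eq_one (pow_four_eq_one hcl hZ x)
      obtain ⟨k, hk, hk'⟩ := (Nat.dvd_prime_pow Nat.prime_two).mp h4
      interval_cases k
      · exfalso; apply h2
        rw [pow_zero, orderOf_eq_one_iff] at hk'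
        rw [hk', one_pow]
      · exfalso; apply h2
        rw [pow_one] at hk'
        rw [← hk', pow_orderOf_eq_one]
      · exact hk'
  have : Fintype E := Fintype.ofFinite E
  rw [Nat.card_congr (Equiv.subtypeEquivRight hequiv), Nat.card_eq_fintype_card,
    Fintype.card_subtype_compl, ← Nat.card_eq_fintype_card, ← Nat.card_eq_fintype_card, hcard]
  have e1 : 2 ^ (2 * m + 1) = 2 * 2 ^ (2 * m) := pow_succ' 2 (2 * m)
  have e2 : 2 ^ (m + 1) = 2 * 2 ^ m := pow_succ' 2 m
  omega

end Cfsg.Agent.Lib.Helper48_Extraspecial
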