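import Mathlib
import Cfsg.Agent.Lib.Helper48_Extraspecial

/-!
# Class-two groups of exponent `p` with centre of order `p` (helper2)

`Good p E`: all commutators central, `|Z(E)| = p`, `x ^ p = 1` for all `x`.
Two finite `Good p` groups of the same order are isomorphic, by an isomorphism extending any
prescribed bijection between generators of the centres (`exists_mulEquiv`).
The proof decomposes `E = ⟨x⟩⟨y⟩ C_E(x, y)` with normal form `y ^ b * x ^ a * c`.
-/

set_option autoImplicit false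
set_option linter.unusedSectionVars false
set_option linter.style.haveILetI false

namespace Cfsg.Agent.Lib.Helper2_ExtraspecialOdd

open Subgroup
open scoped commutatorElement
open Cfsg.Agent.Lib.Helper48_Extraspecial

/-- class two, centre of order `p`, exponent `p` -/
structure Good (p : ℕ) (E : Type*) [Group E] : Prop where
  comm_mem : ∀ a b : E, ⁅a, b⁆ ∈ center E
  card_center : Nat.card (center E) = p
  pow_eq_one : ∀ x : E, x ^ p = 1

section zp

variable {p : ℕ} [Fact p.Prime] {E : Type*} [Group E]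

/-- `g ^ a` for `a : ZMod p` -/
def zp (g : E) (a : ZMod p) : E := g ^ a.val

theorem zp_zero (g : E) : zp g (0 : ZMod p) = 1 := by
  unfold zp; rw [ZMod.val_zero, pow_zero]

theorem zp_add {g : E} (hg : g ^ p = 1) (a b : ZMod p) : zp g (a + b) = zp g a * zp g b := by
  unfold zp
  rw [ZMod.val_add, ← pow_add, ← pow_eq_pow_mod _ hg]

theorem zp_mul {g : E} (hg : g ^ p = 1) (a b : ZMod p) : zp g (a * b) = g ^ (a.val * b.val) := by
  unfold zp
  rw [ZMod.val_mul, ← pow_eq_pow_mod _ hg]

theorem zp_inj {g : E} (hg : orderOf g = p) {a b : ZMod p} (h : zp g a = zp g b) : a = b := by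
  unfold zp at h
  rw [pow_eq_pow_iff_modEq, hg] at h
  exact ZMod.val_injective p (Nat.ModEq.eq_of_lt_of_lt h (ZMod.val_lt a) (ZMod.val_lt b))

theorem exists_zp_eq {g t : E} (hg : orderOf g = p) (ht : t ∈ zpowers g) :
    ∃ a : ZMod p, zp g a = t := by
  obtain ⟨k, rfl⟩ := Subgroup.mem_zpowers_iff.1 ht
  refine ⟨(k : ZMod p), ?_⟩
  unfold zp
  rw [← zpow_natCast, ZMod.val_intCast, ← hg, zpow_mod_orderOf]

end zp

section Decomp

variable {p : ℕ} [hp : Fact p.Prime] {E : Type*} [Group E] (hE : Good p E) (x y : E)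

/-- the common centralizer of `x` and `y` -/
def Cxy : Subgroup E := centralizer {x, y}

theorem mem_Cxy {c : E} : c ∈ Cxy x y ↔ x * c = c * x ∧ y * c = c * y := by
  unfold Cxy
  rw [Subgroup.mem_centralizer_iff]
  constructor
  · intro h
    exact ⟨h x (by simp), h y (by simp)⟩
  · rintro ⟨h1, h2⟩ g hg
    rcases hg with rfl | rfl
    · exact h1
    · exact h2

theorem center_le_Cxy : center E ≤ Cxy x y := by
  intro c hc
  rw [Subgroup.mem_center_iff] at hc
  rw [mem_Cxy]
  exact ⟨hc x, hc y⟩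

include hE in
theorem comm_pow_right (g h : E) (n : ℕ) : ⁅g, h ^ n⁆ = ⁅g, h⁆ ^ n := by
  calc ⁅g, h ^ n⁆ = ((commHom hE.comm_mem g (h ^ n) : center E) : E) := rfl
    _ = (((commHom hE.comm_mem g h) ^ n : center E) : E) := by rw [map_pow]
    _ = ⁅g, h⁆ ^ n := by rw [Subgroup.coe_pow]; rfl

include hE in
theorem comm_mul_right (g h k : E) : ⁅g, h * k⁆ = ⁅g, h⁆ * ⁅g, k⁆ := by
  calc ⁅g, h * k⁆ = ((commHom hE.comm_mem g (h * k) : center E) : E) := rfl
    _ = (((commHom hE.comm_mem g h) * (commHom hE.comm_mem g k) : center E) : E) := by rw [map_mul]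
    _ = ⁅g, h⁆ * ⁅g, k⁆ := by rw [Subgroup.coe_mul]; rfl

include hE in
theorem comm_inv_right (g h : E) : ⁅g, h⁻¹⁆ = ⁅g, h⁆⁻¹ := by
  calc ⁅g, h⁻¹⁆ = ((commHom hE.comm_mem g (h⁻¹) : center E) : E) := rfl
    _ = (((commHom hE.comm_mem g h)⁻¹ : center E) : E) := by rw [map_inv]
    _ = ⁅g, h⁆⁻¹ := by rw [Subgroup.coe_inv]; rfl

theorem comm_swap (g h : E) : ⁅g, h⁆ = ⁅h, g⁆⁻¹ := by
  rw [commutatorElement_inv]

include hE in
theorem comm_pow_left (g h : E) (n : ℕ) : ⁅g ^ n, h⁆ = ⁅g, h⁆ ^ n := by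
  rw [comm_swap, comm_pow_right hE, comm_swap h g, inv_pow, inv_inv]

theorem comm_eq_one_of_commute {g h : E} (hc : g * h = h * g) : ⁅g, h⁆ = 1 :=
  commutatorElement_eq_one_iff_mul_comm.2 hc

/-- `g h = ⁅g, h⁆ h g` -/
theorem mul_eq_comm_mul (g h : E) : g * h = ⁅g, h⁆ * h * g := by
  rw [commutatorElement_def]; group

theorem mul_aux (X Y X' Y' Z c c' : E) (h1 : X * Y' = Z * Y' * X) (hZ : ∀ g, Z * g = g * Z)
    (hc1 : c * Y' = Y' * c) (hc2 : c * X' = X' * c) :
    Y * X * c * (Y' * X' * c') = (Y * Y') * (X * X') * (Z * c * c') := by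
  calc Y * X * c * (Y' * X' * c')
      = Y * X * (c * Y') * X' * c' := by simp only [mul_assoc]
    _ = Y * X * (Y' * c) * X' * c' := by rw [hc1]
    _ = Y * (X * Y') * (c * X') * c' := by simp only [mul_assoc]
    _ = Y * (Z * Y' * X) * (X' * c) * c' := by rw [h1, hc2]
    _ = Y * (Z * (Y' * X * X' * c * c')) := by simp only [mul_assoc]
    _ = Y * ((Y' * X * X' * c * c') * Z) := by rw [hZ]
    _ = Y * (Y' * X * X' * ((c * c') * Z)) := by simp only [mul_assoc]
    _ = Y * (Y' * X * X' * (Z * (c * c'))) := by rw [← hZ (c * c')]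
    _ = (Y * Y') * (X * X') * (Z * c * c') := by simp only [mul_assoc]

variable [Finite E] (hz : ⁅x, y⁆ ≠ 1)

include hE hz in
theorem orderOf_comm : orderOf ⁅x, y⁆ = p :=
  orderOf_eq_prime (hE.pow_eq_one _) hz

include hE hz in
theorem center_eq_zpowers : center E = zpowers ⁅x, y⁆ := by
  symm
  apply Subgroup.eq_of_le_of_card_ge (Subgroup.zpowers_le.2 (hE.comm_mem x y))
  rw [Nat.card_zpowers, orderOf_comm hE x y hz, hE.card_center]

/-- the commutator, as an element of `C_E(x, y)` -/
def zc : Cxy x y := ⟨⁅x, y⁆, center_le_Cxy x y (hE.comm_mem x y)⟩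

/-- the normal form map -/
def theta (t : ZMod p × ZMod p × Cxy x y) : E := zp y t.2.1 * zp x t.1 * (t.2.2 : E)

/-- the twisted multiplication on normal forms -/
def tw {C : Type*} [Group C] (z : C) (s t : ZMod p × ZMod p × C) : ZMod p × ZMod p × C :=
  (s.1 + t.1, s.2.1 + t.2.1, z ^ (s.1.val * t.2.1.val) * s.2.2 * t.2.2)

include hE in
theorem key_comm (m n : ℕ) : x ^ m * y ^ n = ⁅x, y⁆ ^ (m * n) * y ^ n * x ^ m := by
  rw [mul_eq_comm_mul (x ^ m) (y ^ n), comm_pow_left hE, comm_pow_right hE, ← pow_mul, mul_comm n m]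

include hE in
theorem theta_mul (s t : ZMod p × ZMod p × Cxy x y) :
    theta x y s * theta x y t = theta x y (tw (zc hE x y) s t) := by
  obtain ⟨a, b, c⟩ := s
  obtain ⟨a', b', c'⟩ := t
  unfold theta tw zp
  simp only
  have hc := (mem_Cxy x y).1 c.2
  have h1 := key_comm hE x y a.val b'.val
  have hZ : ∀ g, ⁅x, y⁆ ^ (a.val * b'.val) * g = g * ⁅x, y⁆ ^ (a.val * b'.val) := by
    intro g
    have := Subgroup.pow_mem _ (hE.comm_mem x y) (a.val * b'.val)
    rw [Subgroup.mem_center_iff] at this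
    exact (this g).symm
  have hc1 : (c : E) * y ^ b'.val = y ^ b'.val * c := by
    have : Commute (c : E) y := hc.2.symm
    exact (this.pow_right _).eq
  have hc2 : (c : E) * x ^ a'.val = x ^ a'.val * c := by
    have : Commute (c : E) x := hc.1.symm
    exact (this.pow_right _).eq
  rw [mul_aux _ _ _ _ _ _ _ h1 hZ hc1 hc2]
  have e1 : y ^ (b + b').val = y ^ b.val * y ^ b'.val := zp_add (hE.pow_eq_one y) b b'
  have e2 : x ^ (a + a').val = x ^ a.val * x ^ a'.val := zp_add (hE.pow_eq_one x) a a'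
  rw [e1, e2]
  rfl

include hE hz in
theorem theta_injective : Function.Injective (theta (p := p) x y) := by
  rintro ⟨a, b, c⟩ ⟨a', b', c'⟩ h
  unfold theta at h
  simp only at h
  have hc := (mem_Cxy x y).1 c.2
  have hc' := (mem_Cxy x y).1 c'.2
  have hord := orderOf_comm hE x y hz
  -- apply ⁅x, ·⁆
  have hx : ∀ (a b : ZMod p) (c : E), x * c = c * x → ⁅x, zp y b * zp x a * c⁆ = zp ⁅x, y⁆ b := by
    intro a b c hxc
    unfold zp
    rw [comm_mul_right hE, comm_mul_right hE, comm_pow_right hE, comm_pow_right hE,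
      comm_eq_one_of_commute hxc, commutatorElement_self, one_pow, mul_one, mul_one]
  have hy : ∀ (a b : ZMod p) (c : E), y * c = c * y → ⁅y, zp y b * zp x a * c⁆ = zp ⁅y, x⁆ a := by
    intro a b c hyc
    unfold zp
    rw [comm_mul_right hE, comm_mul_right hE, comm_pow_right hE, comm_pow_right hE,
      comm_eq_one_of_commute hyc, commutatorElement_self, one_pow, mul_one, one_mul]
  have hb : b = b' := by
    apply zp_inj hord
    rw [← hx a b c hc.1, ← hx a' b' c' hc'.1, h]
  have hord' : orderOf ⁅y, x⁆ = p := by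
    rw [comm_swap, orderOf_inv]; exact hord
  have ha : a = a' := by
    apply zp_inj hord'
    rw [← hy a b c hc.2, ← hy a' b' c' hc'.2, h]
  subst ha hb
  have : (c : E) = c' := mul_left_cancel h
  rw [Subtype.ext this]

include hE hz in
theorem theta_surjective : Function.Surjective (theta (p := p) x y) := by
  intro e
  have hord := orderOf_comm hE x y hz
  have hord' : orderOf ⁅y, x⁆ = p := by
    rw [comm_swap, orderOf_inv]; exact hord
  have hcen := center_eq_zpowers hE x y hz
  have hcen' : center E = zpowers ⁅y, x⁆ := by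
    rw [hcen, comm_swap y x, Subgroup.zpowers_inv]
  obtain ⟨b, hb⟩ := exists_zp_eq hord (hcen ▸ hE.comm_mem x e)
  obtain ⟨a, ha⟩ := exists_zp_eq hord' (hcen' ▸ hE.comm_mem y e)
  have hmem : (zp x a)⁻¹ * (zp y b)⁻¹ * e ∈ Cxy x y := by
    rw [mem_Cxy]
    constructor
    · rw [← commutatorElement_eq_one_iff_mul_comm]
      unfold zp at hb ⊢
      rw [comm_mul_right hE, comm_mul_right hE, comm_inv_right hE, comm_inv_right hE,
        comm_pow_right hE, comm_pow_right hE, commutatorElement_self, one_pow, inv_one, one_mul, hb,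
        inv_mul_cancel]
    · rw [← commutatorElement_eq_one_iff_mul_comm]
      unfold zp at ha ⊢
      rw [comm_mul_right hE, comm_mul_right hE, comm_inv_right hE, comm_inv_right hE,
        comm_pow_right hE, comm_pow_right hE, commutatorElement_self, one_pow, inv_one, mul_one, ha,
        inv_mul_cancel]
  refine ⟨(a, b, ⟨_, hmem⟩), ?_⟩
  unfold theta
  simp only
  group

/-- the normal form bijection -/
noncomputable def thetaEquiv : (ZMod p × ZMod p × Cxy x y) ≃ E :=
  Equiv.ofBijective (theta x y) ⟨theta_injective hE x y hz, theta_surjective hE x y hz⟩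

include hE hz in
theorem card_eq : Nat.card E = p * (p * Nat.card (Cxy x y)) := by
  rw [← Nat.card_congr (thetaEquiv hE x y hz), Nat.card_prod, Nat.card_prod, Nat.card_zmod]

include hE hz in
theorem center_Cxy : center (Cxy x y) = (center E).subgroupOf (Cxy x y) := by
  ext c
  rw [Subgroup.mem_subgroupOf, Subgroup.mem_center_iff, Subgroup.mem_center_iff]
  constructor
  · intro h e
    obtain ⟨⟨a, b, c'⟩, rfl⟩ := theta_surjective hE x y hz e
    unfold theta zp
    simp only
    have hc := (mem_Cxy x y).1 c.2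
    have h1 : Commute (y ^ b.val) (c : E) := (Commute.pow_left hc.2 _)
    have h2 : Commute (x ^ a.val) (c : E) := (Commute.pow_left hc.1 _)
    have h3 : Commute (c' : E) (c : E) := by
      have := h c'
      exact congrArg Subtype.val this
    exact ((h1.mul_left h2).mul_left h3).eq
  · intro h c'
    apply Subtype.ext
    exact h c'

include hE hz in
theorem good_Cxy : Good p (Cxy x y) := by
  refine ⟨fun a b => ?_, ?_, fun c => ?_⟩
  · rw [center_Cxy hE x y hz, Subgroup.mem_subgroupOf]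
    exact hE.comm_mem a b
  · rw [center_Cxy hE x y hz, Nat.card_congr (Subgroup.subgroupOfEquivOfLe (center_le_Cxy x y)).toEquiv]
    exact hE.card_center
  · apply Subtype.ext
    rw [Subgroup.coe_pow]
    exact hE.pow_eq_one _

end Decomp

section Iso

variable {p : ℕ} [hp : Fact p.Prime] {E : Type*} [Group E] [Finite E] {E' : Type*} [Group E']
  [Finite E'] (hE : Good p E) (hE' : Good p E') (x y : E) (x' y' : E')
  (hz : ⁅x, y⁆ ≠ 1) (hz' : ⁅x', y'⁆ ≠ 1) (β : Cxy x y ≃* Cxy x' y')
  (hβ : β (zc hE x y) = zc hE' x' y')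

/-- transport of normal forms -/
def mapT (t : ZMod p × ZMod p × Cxy x y) : ZMod p × ZMod p × Cxy x' y' := (t.1, t.2.1, β t.2.2)

include hβ in
theorem mapT_tw (s t : ZMod p × ZMod p × Cxy x y) :
    mapT x y x' y' β (tw (zc hE x y) s t) =
      tw (zc hE' x' y') (mapT x y x' y' β s) (mapT x y x' y' β t) := by
  unfold mapT tw
  simp only [map_mul, map_pow, hβ]

theorem mapT_bijective : Function.Bijective (mapT (p := p) x y x' y' β) := by
  constructor
  · rintro ⟨a, b, c⟩ ⟨a', b', c'⟩ h
    unfold mapT at h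
    simp only [Prod.mk.injEq] at h
    obtain ⟨h1, h2, h3⟩ := h
    rw [h1, h2, β.injective h3]
  · rintro ⟨a, b, c⟩
    exact ⟨(a, b, β.symm c), by unfold mapT; simp⟩

include hz hz' hβ in
theorem exists_iso_of_decomp : ∃ φ : E ≃* E', φ ⁅x, y⁆ = ⁅x', y'⁆ := by
  let θ := thetaEquiv hE x y hz
  let θ' := thetaEquiv hE' x' y' hz'
  let m : (ZMod p × ZMod p × Cxy x y) ≃ (ZMod p × ZMod p × Cxy x' y') :=
    Equiv.ofBijective _ (mapT_bijective x y x' y' β)
  have hθ : ∀ t, θ t = theta x y t := fun t => rfl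
  have hθ' : ∀ t, θ' t = theta x' y' t := fun t => rfl
  have hm : ∀ t, m t = mapT x y x' y' β t := fun t => rfl
  let Φ : E ≃ E' := (θ.symm.trans m).trans θ'
  have hΦ : ∀ t : ZMod p × ZMod p × Cxy x y, Φ (theta x y t) = theta x' y' (mapT x y x' y' β t) := by
    intro t
    change θ' (m (θ.symm (theta x y t))) = _
    rw [← hθ t, Equiv.symm_apply_apply, hm, hθ']
  have hmul : ∀ e₁ e₂ : E, Φ (e₁ * e₂) = Φ e₁ * Φ e₂ := by
    intro e₁ e₂
    obtain ⟨s, rfl⟩ := theta_surjective hE x y hz e₁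
    obtain ⟨t, rfl⟩ := theta_surjective hE x y hz e₂
    rw [theta_mul hE, hΦ, hΦ, hΦ, mapT_tw hE hE' x y x' y' β hβ, theta_mul hE']
  refine ⟨{ Φ with map_mul' := hmul }, ?_⟩
  change Φ ⁅x, y⁆ = ⁅x', y'⁆
  have h1 : theta (p := p) x y (0, 0, zc hE x y) = ⁅x, y⁆ := by
    unfold theta
    simp only [zp_zero, one_mul]
    rfl
  have h2 : theta (p := p) x' y' (0, 0, zc hE' x' y') = ⁅x', y'⁆ := by
    unfold theta
    simp only [zp_zero, one_mul]
    rfl
  rw [← h1, hΦ]
  unfold mapT
  simp only [hβ]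
  exact h2

end Iso

section Main

universe u v

variable {p : ℕ} [hp : Fact p.Prime]

theorem comm_zpow_right {E : Type*} [Group E] (hE : Good p E) (g h : E) (n : ℤ) :
    ⁅g, h ^ n⁆ = ⁅g, h⁆ ^ n := by
  calc ⁅g, h ^ n⁆ = ((commHom hE.comm_mem g (h ^ n) : center E) : E) := rfl
    _ = (((commHom hE.comm_mem g h) ^ n : center E) : E) := by rw [map_zpow]
    _ = ⁅g, h⁆ ^ n := by rw [Subgroup.coe_zpow]; rfl

theorem exists_comm_eq {E : Type*} [Group E] [Finite E] (hE : Good p E) (x y : E)
    (hxy : ⁅x, y⁆ ≠ 1) (z : E) (hz : z ∈ center E) : ∃ y₁ : E, ⁅x, y₁⁆ = z := by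
  rw [center_eq_zpowers hE x y hxy] at hz
  obtain ⟨k, rfl⟩ := Subgroup.mem_zpowers_iff.1 hz
  exact ⟨y ^ k, comm_zpow_right hE x y k⟩

theorem card_eq_of_comm {E : Type*} [Group E] [Finite E] (hE : Good p E)
    (hab : ∀ a b : E, a * b = b * a) : Nat.card E = p := by
  have : center E = ⊤ := by
    rw [eq_top_iff]
    intro g _
    rw [Subgroup.mem_center_iff]
    intro h
    exact hab h g
  rw [← hE.card_center, this, Subgroup.card_top]

theorem exists_mulEquiv_aux : ∀ n : ℕ, ∀ (E : Type u) (E' : Type v) [Group E] [Group E']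
    [Finite E] [Finite E'], Good p E → Good p E' → Nat.card E = n → Nat.card E' = n →
    ∀ z : E, z ∈ center E → z ≠ 1 → ∀ z' : E', z' ∈ center E' → z' ≠ 1 →
    ∃ φ : E ≃* E', φ z = z' := by
  have hpp : p.Prime := hp.out
  intro n
  induction n using Nat.strong_induction_on with
  | _ n ih =>
    intro E E' _ _ _ _ hE hE' hn hn' z hzc hz1 z' hzc' hz1'
    by_cases hab : ∀ a b : E, a * b = b * a
    · -- cyclic of order p
      have hcard : Nat.card E = p := card_eq_of_comm hE hab
      have hcard' : Nat.card E' = p := by rw [hn', ← hn, hcard]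
      have ho : orderOf z = p := orderOf_eq_prime (hE.pow_eq_one z) hz1
      have ho' : orderOf z' = p := orderOf_eq_prime (hE'.pow_eq_one z') hz1'
      have hg : ∀ g : E, g ∈ zpowers z := by
        intro g
        have : zpowers z = ⊤ := by
          apply Subgroup.eq_top_of_card_eq
          rw [Nat.card_zpowers, ho, hcard]
        rw [this]; trivial
      have hg' : ∀ g : E', g ∈ zpowers z' := by
        intro g
        have : zpowers z' = ⊤ := by
          apply Subgroup.eq_top_of_card_eq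
          rw [Nat.card_zpowers, ho', hcard']
        rw [this]; trivial
      exact ⟨mulEquivOfOrderOfEq hg hg' (ho.trans ho'.symm), mulEquivOfOrderOfEq_apply_gen hg hg' _⟩
    · push Not at hab
      obtain ⟨a, b, hab⟩ := hab
      have hcomm : ⁅a, b⁆ ≠ 1 := fun h => hab (commutatorElement_eq_one_iff_mul_comm.1 h)
      obtain ⟨y₁, hy₁⟩ := exists_comm_eq hE a b hcomm z hzc
      have hzne : ⁅a, y₁⁆ ≠ 1 := by rw [hy₁]; exact hz1
      have hcardE := card_eq hE a y₁ hzne
      -- E' is nonabelian too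
      have hab' : ¬ ∀ a b : E', a * b = b * a := by
        intro h
        have h1 : Nat.card E' = p := card_eq_of_comm hE' h
        rw [hn', ← hn, hcardE] at h1
        have hpos : 0 < Nat.card (Cxy a y₁) := Nat.card_pos
        have h2 : p * 1 < p * (p * Nat.card (Cxy a y₁)) := by
          apply Nat.mul_lt_mul_of_pos_left _ hpp.pos
          calc 1 < p := hpp.one_lt
            _ ≤ p * Nat.card (Cxy a y₁) := Nat.le_mul_of_pos_right _ hpos
        omega
      push Not at hab'
      obtain ⟨a', b', hab'⟩ := hab'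
      have hcomm' : ⁅a', b'⁆ ≠ 1 := fun h => hab' (commutatorElement_eq_one_iff_mul_comm.1 h)
      obtain ⟨y₁', hy₁'⟩ := exists_comm_eq hE' a' b' hcomm' z' hzc'
      have hzne' : ⁅a', y₁'⁆ ≠ 1 := by rw [hy₁']; exact hz1'
      have hcardE' := card_eq hE' a' y₁' hzne'
      have hCC : Nat.card (Cxy a' y₁') = Nat.card (Cxy a y₁) := by
        have h1 : p * (p * Nat.card (Cxy a' y₁')) = p * (p * Nat.card (Cxy a y₁)) := by
          rw [← hcardE, ← hcardE', hn, hn']
        exact Nat.eq_of_mul_eq_mul_left hpp.pos (Nat.eq_of_mul_eq_mul_left hpp.pos h1)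
      have hlt : Nat.card (Cxy a y₁) < n := by
        rw [← hn, hcardE]
        have hpos : 0 < Nat.card (Cxy a y₁) := Nat.card_pos
        have h2 : 2 ≤ p := hpp.two_le
        have h4 : 4 ≤ p * p := by nlinarith
        calc Nat.card (Cxy a y₁) < 4 * Nat.card (Cxy a y₁) := by omega
          _ ≤ (p * p) * Nat.card (Cxy a y₁) := Nat.mul_le_mul_right _ h4
          _ = p * (p * Nat.card (Cxy a y₁)) := by ring
      have hzcC : zc hE a y₁ ∈ center (Cxy a y₁) := by
        rw [center_Cxy hE a y₁ hzne, Subgroup.mem_subgroupOf]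
        exact hE.comm_mem a y₁
      have hzcC' : zc hE' a' y₁' ∈ center (Cxy a' y₁') := by
        rw [center_Cxy hE' a' y₁' hzne', Subgroup.mem_subgroupOf]
        exact hE'.comm_mem a' y₁'
      have hzc1 : zc hE a y₁ ≠ 1 := fun h => hzne (congrArg Subtype.val h)
      have hzc1' : zc hE' a' y₁' ≠ 1 := fun h => hzne' (congrArg Subtype.val h)
      obtain ⟨β, hβ⟩ := ih _ hlt (Cxy a y₁) (Cxy a' y₁') (good_Cxy hE a y₁ hzne)
        (good_Cxy hE' a' y₁' hzne') rfl hCC _ hzcC hzc1 _ hzcC' hzc1'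
      obtain ⟨φ, hφ⟩ := exists_iso_of_decomp hE hE' a y₁ a' y₁' hzne hzne' β hβ
      exact ⟨φ, by rw [← hy₁, ← hy₁']; exact hφ⟩

/-- Two finite groups of class two, exponent `p`, with centres of order `p` and of the same order
are isomorphic. -/
theorem nonempty_mulEquiv {E : Type u} {E' : Type v} [Group E] [Group E'] [Finite E] [Finite E']
    (hE : Good p E) (hE' : Good p E') (hcard : Nat.card E = Nat.card E') : Nonempty (E ≃* E') := by
  have hpp : p.Prime := hp.out
  have h1 : ∃ z : E, z ∈ center E ∧ z ≠ 1 := by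
    have : Nontrivial (center E) := by
      rw [← Finite.one_lt_card_iff_nontrivial, hE.card_center]
      exact hpp.one_lt
    obtain ⟨z, hz⟩ := exists_ne (1 : center E)
    exact ⟨z, z.2, fun h => hz (Subtype.ext h)⟩
  have h2 : ∃ z : E', z ∈ center E' ∧ z ≠ 1 := by
    have : Nontrivial (center E') := by
      rw [← Finite.one_lt_card_iff_nontrivial, hE'.card_center]
      exact hpp.one_lt
    obtain ⟨z, hz⟩ := exists_ne (1 : center E')
    exact ⟨z, z.2, fun h => hz (Subtype.ext h)⟩
  obtain ⟨z, hz, hz1⟩ := h1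
  obtain ⟨z', hz', hz1'⟩ := h2
  obtain ⟨φ, -⟩ := exists_mulEquiv_aux _ E E' hE hE' rfl hcard.symm z hz hz1 z' hz' hz1'
  exact ⟨φ⟩

end Main

end Cfsg.Agent.Lib.Helper2_ExtraspecialOdd
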