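import Mathlib
import Cfsg.Agent.Lib.Helper6_FT3Defs
import Cfsg.Agent.Lib.Helper37_KWBasic
import Cfsg.Agent.Lib.Helper42_KleinCount

set_option autoImplicit false
set_option linter.style.haveILetI false
set_option linter.unusedSectionVars false

/-!
S3331 package EVEN, auxiliary part (packages SIG and BASIC entering as hypotheses).
-/

namespace Cfsg.Agent.Lib.Helper2_FT3_EVENa

open Cfsg Cfsg.Agent.Lib.Helper6_FT3Defs

universe u

variable {G : Type u} [Group G] [Finite G] {X : Subgroup G}

/-- a generator of `X`. -/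
theorem exists_gen (h : Hyp G X) : ∃ x : G, x ∈ X ∧ x ≠ 1 ∧ orderOf x = 3 ∧ X = Subgroup.zpowers x := by
  obtain ⟨h3, -⟩ := h
  have hnt : Nontrivial X := by
    rw [← Finite.one_lt_card_iff_nontrivial, h3]; norm_num
  obtain ⟨x, hx⟩ := exists_ne (1 : X)
  have hx1 : (x : G) ≠ 1 := fun hh => hx (Subtype.ext hh)
  have hord : orderOf (x : G) = 3 := by
    have hd : orderOf (x : G) ∣ 3 := by
      rw [← h3, Subgroup.orderOf_coe]; exact orderOf_dvd_natCard x
    rcases (Nat.dvd_prime Nat.prime_three).mp hd with h1 | h1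
    · exact absurd (orderOf_eq_one_iff.mp h1) hx1
    · exact h1
  refine ⟨x, x.2, hx1, hord, ?_⟩
  symm
  apply Subgroup.eq_of_le_of_card_ge
  · rw [Subgroup.zpowers_le]; exact x.2
  · rw [Nat.card_zpowers, hord, h3]

/-- membership in the normalizer from one-sided invariance under `x` and `x⁻¹`. -/
theorem mem_normalizer_of_conj (V : Subgroup G) (x : G) (h1 : ∀ n ∈ V, x * n * x⁻¹ ∈ V)
    (h2 : ∀ n ∈ V, x⁻¹ * n * x ∈ V) : x ∈ Subgroup.normalizer (V : Set G) := by
  rw [Subgroup.mem_normalizer_iff]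
  intro n
  constructor
  · exact h1 n
  · intro hn
    have := h2 _ hn
    have e : x⁻¹ * (x * n * x⁻¹) * x = n := by group
    rwa [e] at this

/-- the normalizer of `V` normalizes the centralizer of `V`. -/
theorem normalizer_le_normalizer_centralizer (V : Subgroup G) :
    Subgroup.normalizer (V : Set G) ≤
      Subgroup.normalizer ((Subgroup.centralizer (V : Set G) : Subgroup G) : Set G) := by
  have key : ∀ y ∈ Subgroup.normalizer (V : Set G), ∀ c ∈ Subgroup.centralizer (V : Set G),
      y * c * y⁻¹ ∈ Subgroup.centralizer (V : Set G) := by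
    intro y hy c hc
    rw [Subgroup.mem_centralizer_iff] at hc ⊢
    intro v hv
    have hv' : y⁻¹ * v * y ∈ V := by
      have := (Subgroup.mem_normalizer_iff.mp (Subgroup.inv_mem _ hy) v).mp hv
      rwa [inv_inv] at this
    have := hc _ hv'
    calc v * (y * c * y⁻¹) = y * ((y⁻¹ * v * y) * c) * y⁻¹ := by group
      _ = y * (c * (y⁻¹ * v * y)) * y⁻¹ := by rw [this]
      _ = y * c * y⁻¹ * v := by group
  intro y hy
  apply mem_normalizer_of_conj
  · exact key y hy
  · intro c hc
    have := key y⁻¹ (Subgroup.inv_mem _ hy) c hc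
    rwa [inv_inv] at this

theorem even_member_aux (h : Hyp G X) {A : Subgroup G} (hA : IsMaxSig X A) (h2 : 2 ∣ Nat.card A)
    (hnil : Group.IsNilpotent A)
    (hfpf : ∀ {x a : G}, x ∈ X → x ≠ 1 → a ∈ A → x * a = a * x → a = 1)
    (hmc : ∀ {x a : G}, x ∈ X → x ≠ 1 → a ∈ A → a * (x * a * x⁻¹) * (x⁻¹ * a * x) = 1)
    (hc3 : ∀ g : G, g ≠ 1 → ¬ 3 ∣ orderOf g →
      ¬ 3 ∣ Nat.card (Subgroup.centralizer ({g} : Set G))) :
    ∃ V ∈ fourGroups X, A = Subgroup.centralizer (V : Set G) := by
  classical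
  haveI : Fact (Nat.Prime 2) := ⟨Nat.prime_two⟩
  obtain ⟨x, hxX, hx1, hx3, hXx⟩ := exists_gen h
  obtain ⟨s, hs_sy, hs2, hsc⟩ := Cfsg.Agent.Lib.Helper37_KW.exists_central_prime hnil h2
  have hsA : s ∈ A := Cfsg.Agent.Lib.Helper37_KW.sy_le 2 A hs_sy
  have hs1 : s ≠ 1 := by
    intro hh; rw [hh, orderOf_one] at hs2; norm_num at hs2
  have hss : s * s = 1 := by rw [← pow_two, ← hs2]; exact pow_orderOf_eq_one s
  have hxN : x ∈ Subgroup.normalizer (A : Set G) := hA.1.1 hxX
  have hxiN : x⁻¹ ∈ Subgroup.normalizer (A : Set G) := Subgroup.inv_mem _ hxN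
  have hx3' : x * x * x = 1 := by
    have := pow_orderOf_eq_one x
    rw [hx3] at this
    rw [← this]; simp [pow_succ]
  have hxi : x⁻¹ = x * x := by
    apply inv_eq_of_mul_eq_one_right
    rw [← mul_assoc]; exact hx3'
  -- the conjugates
  set s' := x * s * x⁻¹ with hs'
  set s'' := x⁻¹ * s * x with hs''
  have hs'A : s' ∈ A := (Subgroup.mem_normalizer_iff.mp hxN s).mp hsA
  have hs''A : s'' ∈ A := by
    have := (Subgroup.mem_normalizer_iff.mp hxiN s).mp hsA
    rwa [inv_inv] at this
  have hs's' : s' * s' = 1 := by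
    rw [hs']
    calc x * s * x⁻¹ * (x * s * x⁻¹) = x * (s * s) * x⁻¹ := by group
      _ = 1 := by rw [hss]; group
  have hcomm : s * s' = s' * s := hsc s' hs'A
  have hprod : s * s' * s'' = 1 := hmc hxX hx1 hsA
  have hs''eq : s'' = s * s' := by
    have h1 : s'' = (s * s')⁻¹ := by
      rw [eq_inv_iff_mul_eq_one]
      -- s'' * (s * s') = 1
      have : s * s' * s'' = 1 := hprod
      calc s'' * (s * s') = (s * s')⁻¹ * ((s * s') * s'') * (s * s') := by group
        _ = 1 := by rw [this]; group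
    rw [h1, mul_inv_rev]
    have e1 : s⁻¹ = s := inv_eq_of_mul_eq_one_right hss
    have e2 : s'⁻¹ = s' := inv_eq_of_mul_eq_one_right hs's'
    rw [e1, e2, hcomm]
  have hs'1 : s' ≠ 1 := by
    intro hh
    apply hs1
    have : s = x⁻¹ * s' * x := by rw [hs']; group
    rw [this, hh]; group
  have hne : s ≠ s' := by
    intro hh
    apply hs1
    apply hfpf hxX hx1 hsA
    -- x * s = s * x
    have : x * s = (x * s * x⁻¹) * x := by group
    rw [this, ← hs', ← hh]
  let V := Cfsg.Agent.Lib.Helper42_KleinCount.V4 s s' hss hs's' hcomm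
  have hVmem : ∀ v : G, v ∈ V ↔ v = 1 ∨ v = s ∨ v = s' ∨ v = s * s' := fun v => Iff.rfl
  have hVK : IsKleinFour V :=
    Cfsg.Agent.Lib.Helper42_KleinCount.V4_isKleinFour hss hs's' hcomm hs1 hs'1 hne
  -- conjugation by x on V
  have hxs' : x * s' * x⁻¹ = s * s' := by
    rw [← hs''eq, hs', hs'']
    rw [hxi]
    have : x * (x * s * (x * x)) * (x * x) = x * x * s * (x * x * x) * x := by group
    rw [this, hx3']; group
  have hcx : ∀ v ∈ V, x * v * x⁻¹ ∈ V := by
    intro v hv
    rw [hVmem] at hv ⊢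
    rcases hv with rfl | rfl | rfl | rfl
    · left; group
    · right; right; left; rfl
    · right; right; right; exact hxs'
    · right; left
      calc x * (s * s') * x⁻¹ = (x * s * x⁻¹) * (x * s' * x⁻¹) := by group
        _ = s' * (s * s') := by rw [hxs']
        _ = s' * (s' * s) := by rw [hcomm]
        _ = (s' * s') * s := by group
        _ = s := by rw [hs's', one_mul]
  have hcxi : ∀ v ∈ V, x⁻¹ * v * x ∈ V := by
    intro v hv
    have h1 := hcx _ (hcx v hv)
    have e : x * (x * v * x⁻¹) * x⁻¹ = x⁻¹ * v * x := by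
      have e1 : x⁻¹ * v * x = (x * x) * v * (x * x)⁻¹ := by
        rw [← hxi]; group
      rw [e1]; group
    rwa [e] at h1
  have hxV : x ∈ Subgroup.normalizer (V : Set G) := mem_normalizer_of_conj V x hcx hcxi
  have hXV : X ≤ Subgroup.normalizer (V : Set G) := by
    rw [hXx, Subgroup.zpowers_le]; exact hxV
  refine ⟨V, ⟨hVK, hXV⟩, ?_⟩
  -- A = C_G(V)
  have hs'c : ∀ a ∈ A, s' * a = a * s' := by
    intro a ha
    have hb : x⁻¹ * a * x ∈ A := by
      have := (Subgroup.mem_normalizer_iff.mp hxiN a).mp ha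
      rwa [inv_inv] at this
    have := hsc _ hb
    calc s' * a = x * (s * (x⁻¹ * a * x)) * x⁻¹ := by rw [hs']; group
      _ = x * ((x⁻¹ * a * x) * s) * x⁻¹ := by rw [this]
      _ = a * s' := by rw [hs']; group
  have hAC : A ≤ Subgroup.centralizer (V : Set G) := by
    intro a ha
    rw [Subgroup.mem_centralizer_iff]
    intro v hv
    have hv' : v ∈ V := hv
    rw [hVmem] at hv'
    rcases hv' with rfl | rfl | rfl | rfl
    · simp
    · exact hsc a ha
    · exact hs'c a ha
    · rw [mul_assoc, hs'c a ha, ← mul_assoc, hsc a ha, mul_assoc]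
  have hsig : IsSig X (Subgroup.centralizer (V : Set G)) := by
    constructor
    · exact le_trans hXV (normalizer_le_normalizer_centralizer V)
    · intro h3
      have hle : Subgroup.centralizer (V : Set G) ≤ Subgroup.centralizer ({s} : Set G) := by
        apply Subgroup.centralizer_le
        intro y hy
        rw [Set.mem_singleton_iff.mp hy]
        exact (hVmem s).mpr (Or.inr (Or.inl rfl))
      have hd := Subgroup.card_dvd_of_le hle
      apply hc3 s hs1 (by rw [hs2]; norm_num)
      exact dvd_trans h3 hd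
  exact (hA.2 _ hsig hAC).symm

end Cfsg.Agent.Lib.Helper2_FT3_EVENa
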