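import Mathlib
import Cfsg.Agent.Lib.Helper6_FT3Defs
import Cfsg.Agent.Lib.Helper2_FT3_EVENa
import Cfsg.Agent.Lib.Helper52_FT3_BASIC
import Cfsg.Agent.Lib.Helper17_FT3_SIG

set_option autoImplicit false

/-!
S3331 package EVEN: an even maximal signalizer is the centralizer of an `X`-invariant four-group.
-/

namespace Cfsg.Agent.Lib.Helper2_FT3_EVEN

open Cfsg Cfsg.Agent.Lib.Helper6_FT3Defs

universe u

variable {G : Type u} [Group G] [Finite G] {X : Subgroup G}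

/-- [M] (G2). -/
theorem even_member (h : Hyp G X) {A : Subgroup G} (hA : IsMaxSig X A) (h2 : 2 ∣ Nat.card A) :
    ∃ V ∈ fourGroups X, A = Subgroup.centralizer (V : Set G) :=
  Cfsg.Agent.Lib.Helper2_FT3_EVENa.even_member_aux h hA h2
    (Cfsg.Agent.Lib.Helper17_FT3_SIG.sig_nilpotent h hA.1)
    (fun hx hx1 ha hc => Cfsg.Agent.Lib.Helper17_FT3_SIG.sig_fpf h hA.1 hx hx1 ha hc)
    (fun hx hx1 ha => Cfsg.Agent.Lib.Helper17_FT3_SIG.sig_mul_conj h hA.1 hx hx1 ha)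
    (fun g hg1 hg => Cfsg.Agent.Lib.Helper52_FT3_BASIC.not_three_dvd_card_centralizer h g hg1 hg)

end Cfsg.Agent.Lib.Helper2_FT3_EVEN
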