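import Mathlib
import Cfsg.Agent.Lib.Helper6_FT3Defs
import Cfsg.Agent.Lib.Helper37_KWBasic
import Cfsg.Agent.Lib.Helper22_Basic
import Cfsg.Agent.Lib.Helper2_FT3_EVENa

set_option autoImplicit false
set_option linter.style.haveILetI false
set_option linter.unusedSectionVars false
set_option linter.unusedVariables false

/-!
S3331 package ODDHC: odd maximal signalizers are Hall subgroups, and two of them whose orders
have a common prime divisor are conjugate.
-/

namespace Cfsg.Agent.Lib.Helper2_FT3_ODDHC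

open Cfsg Cfsg.Agent.Lib.Helper6_FT3Defs

universe u

variable {G : Type u} [Group G] [Finite G] {X : Subgroup G}

theorem mem_normalizer_of_cj_eq {g : G} {U : Subgroup G} (h : cj g U = U) :
    g ∈ Subgroup.normalizer (U : Set G) := by
  rw [Subgroup.mem_normalizer_iff]
  intro n
  constructor
  · intro hn
    rw [← h]
    exact Cfsg.Agent.Lib.Helper34_Sylow.conj_mem_cj hn
  · intro hn
    rw [← h, Cfsg.Agent.Lib.Helper34_Sylow.mem_cj] at hn
    have e : g⁻¹ * (g * n * g⁻¹) * g = n := by group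
    rwa [e] at hn

theorem mem_normalizer_sup {n : G} {H K : Subgroup G}
    (hH : n ∈ Subgroup.normalizer (H : Set G)) (hK : n ∈ Subgroup.normalizer (K : Set G)) :
    n ∈ Subgroup.normalizer ((H ⊔ K : Subgroup G) : Set G) := by
  apply mem_normalizer_of_cj_eq
  have h1 : cj n H = H := Cfsg.Agent.Lib.Helper34_Sylow.cj_eq_self_of_mem_normalizer hH
  have h2 : cj n K = K := Cfsg.Agent.Lib.Helper34_Sylow.cj_eq_self_of_mem_normalizer hK
  change (H ⊔ K).map (MulAut.conj n).toMonoidHom = H ⊔ K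
  rw [Subgroup.map_sup]
  change cj n H ⊔ cj n K = H ⊔ K
  rw [h1, h2]

/-- the basic facts on the `p`-part of a nilpotent signalizer. -/
theorem sy_facts {A : Subgroup G} (hA : IsSig X A) (hnil : Group.IsNilpotent A) (p : ℕ)
    [Fact p.Prime] (hp : p ∣ Nat.card A) :
    Cfsg.Agent.Lib.Helper37_KW.sy p A ≤ A ∧ Cfsg.Agent.Lib.Helper37_KW.sy p A ≠ ⊥ ∧
      IsPGroup p (Cfsg.Agent.Lib.Helper37_KW.sy p A) ∧
      A ≤ Subgroup.normalizer ((Cfsg.Agent.Lib.Helper37_KW.sy p A : Subgroup G) : Set G) ∧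
      X ≤ Subgroup.normalizer ((Cfsg.Agent.Lib.Helper37_KW.sy p A : Subgroup G) : Set G) := by
  refine ⟨Cfsg.Agent.Lib.Helper37_KW.sy_le p A, Cfsg.Agent.Lib.Helper37_KW.sy_ne_bot hp,
    Cfsg.Agent.Lib.Helper37_KW.sy_isPGroup p A, ?_, ?_⟩
  · intro a ha
    apply Cfsg.Agent.Lib.Helper2_FT3_EVENa.mem_normalizer_of_conj
    · intro n hn
      exact Cfsg.Agent.Lib.Helper37_KW.sy_conj_mem hnil ha hn
    · intro n hn
      have := Cfsg.Agent.Lib.Helper37_KW.sy_conj_mem hnil (A.inv_mem ha) hn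
      rwa [inv_inv] at this
  · intro y hy
    apply mem_normalizer_of_cj_eq
    have h1 : cj y A = A :=
      Cfsg.Agent.Lib.Helper34_Sylow.cj_eq_self_of_mem_normalizer (hA.1 hy)
    have h2 := Cfsg.Agent.Lib.Helper37_KW.cj_sy (p := p) hnil y
    have h3 : Cfsg.Agent.Lib.Helper34_Sylow.cj y A = A := h1
    rw [h3] at h2
    exact h2

/-- [M] odd maximal signalizers are Hall subgroups. -/
theorem odd_hall (h : Hyp G X)
    (hnil : ∀ A : Subgroup G, IsSig X A → Group.IsNilpotent A)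
    (hON : ∀ A : Subgroup G, IsMaxSig X A → ∀ p : ℕ, p.Prime → p ≠ 2 → ∀ P : Subgroup G, P ≤ A →
      P ≠ ⊥ → IsPGroup p P → A ≤ Subgroup.normalizer (P : Set G) →
      X ≤ Subgroup.normalizer (P : Set G) →
      Subgroup.normalizer (P : Set G) ≤ Subgroup.normalizer (A : Set G) ∧
        Nat.card (Subgroup.normalizer (P : Set G)) ∣ 6 * Nat.card A)
    {A : Subgroup G} (hA : IsMaxSig X A) (hodd : ¬ 2 ∣ Nat.card A) :
    (Nat.card A).Coprime A.index := by
  by_contra hnc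
  obtain ⟨p, hp, hpA, hpI⟩ := Nat.Prime.not_coprime_iff_dvd.mp hnc
  haveI : Fact p.Prime := ⟨hp⟩
  have hp2 : p ≠ 2 := by rintro rfl; exact hodd hpA
  have hp3 : p ≠ 3 := by rintro rfl; exact hA.1.2 hpA
  have hnA := hnil A hA.1
  obtain ⟨h1, h2, h3, h4, h5⟩ := sy_facts hA.1 hnA p hpA
  obtain ⟨-, hdvd⟩ := hON A hA p hp hp2 _ h1 h2 h3 h4 h5
  set n := (Nat.card A).factorization p with hn
  have hcardP := Cfsg.Agent.Lib.Helper37_KW.card_sy (p := p) A
  have hG : p ^ (n + 1) ∣ Nat.card G := by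
    rw [← A.card_mul_index, pow_succ]
    exact Nat.mul_dvd_mul (Nat.ordProj_dvd _ _) hpI
  have hN := Sylow.prime_pow_dvd_card_normalizer hG hcardP
  have h6 : p ^ (n + 1) ∣ 6 * Nat.card A := dvd_trans hN hdvd
  have hcop : Nat.Coprime (p ^ (n + 1)) 6 := by
    apply Nat.Coprime.pow_left
    rw [Nat.Prime.coprime_iff_not_dvd hp]
    intro h6
    have : p ∣ 2 * 3 := by simpa using h6
    rcases (Nat.Prime.dvd_mul hp).mp this with hh | hh
    · exact hp2 ((Nat.prime_dvd_prime_iff_eq hp Nat.prime_two).mp hh)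
    · exact hp3 ((Nat.prime_dvd_prime_iff_eq hp Nat.prime_three).mp hh)
  have hAd : p ^ (n + 1) ∣ Nat.card A := hcop.dvd_of_dvd_mul_left h6
  exact Nat.pow_succ_factorization_not_dvd Nat.card_pos.ne' hp hAd

/-- one half of `odd_conj`: a conjugate of `A` lies in `B`. -/
theorem odd_conj_le (h : Hyp G X)
    (hnil : ∀ A : Subgroup G, IsSig X A → Group.IsNilpotent A)
    (hON : ∀ A : Subgroup G, IsMaxSig X A → ∀ p : ℕ, p.Prime → p ≠ 2 → ∀ P : Subgroup G, P ≤ A →
      P ≠ ⊥ → IsPGroup p P → A ≤ Subgroup.normalizer (P : Set G) →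
      X ≤ Subgroup.normalizer (P : Set G) →
      Subgroup.normalizer (P : Set G) ≤ Subgroup.normalizer (A : Set G) ∧
        Nat.card (Subgroup.normalizer (P : Set G)) ∣ 6 * Nat.card A)
    {A B : Subgroup G} (hA : IsMaxSig X A) (hB : IsMaxSig X B) (hoddA : ¬ 2 ∣ Nat.card A)
    (hoddB : ¬ 2 ∣ Nat.card B) (p : ℕ) (hp : p.Prime) (hpA : p ∣ Nat.card A)
    (hpB : p ∣ Nat.card B) : ∃ g : G, cj g A ≤ B := by
  haveI : Fact p.Prime := ⟨hp⟩
  have hp2 : p ≠ 2 := by rintro rfl; exact hoddA hpA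
  have hnA := hnil A hA.1
  have hnB := hnil B hB.1
  have hHallA := odd_hall h hnil hON hA hoddA
  have hHallB := odd_hall h hnil hON hB hoddB
  obtain ⟨a1, a2, a3, a4, a5⟩ := sy_facts hA.1 hnA p hpA
  obtain ⟨b1, b2, b3, b4, b5⟩ := sy_facts hB.1 hnB p hpB
  obtain ⟨hNA, -⟩ := hON A hA p hp hp2 _ a1 a2 a3 a4 a5
  obtain ⟨hNB, -⟩ := hON B hB p hp hp2 _ b1 b2 b3 b4 b5
  set P := Cfsg.Agent.Lib.Helper37_KW.sy p A with hP
  set Q := Cfsg.Agent.Lib.Helper37_KW.sy p B with hQ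
  obtain ⟨g, hg⟩ := Cfsg.Agent.Lib.Helper37_KW.exists_le_cj_sy hHallA hpA b3
  have hQeq : Q = cj g P := by
    apply Subgroup.eq_of_le_of_card_ge hg
    have e1 : Nat.card (cj g P) = Nat.card P := Cfsg.Agent.Lib.Helper34_Sylow.card_cj g P
    rw [e1, hP, hQ, Cfsg.Agent.Lib.Helper37_KW.sy_card_eq_of_hall hHallA hpA,
      Cfsg.Agent.Lib.Helper37_KW.sy_card_eq_of_hall hHallB hpB]
  have hNQ : Subgroup.normalizer (Q : Set G) = cj g (Subgroup.normalizer (P : Set G)) := by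
    rw [hQeq]
    exact (Cfsg.Agent.Lib.Helper34_Sylow.cj_normalizer g P).symm
  refine ⟨g, ?_⟩
  set A' := cj g A with hA'
  have hA'N : Subgroup.normalizer (Q : Set G) ≤ Subgroup.normalizer (A' : Set G) := by
    rw [hNQ]
    have := Cfsg.Agent.Lib.Helper34_Sylow.cj_normalizer g A
    have h1 : cj g (Subgroup.normalizer (A : Set G)) = Subgroup.normalizer (A' : Set G) := this
    rw [← h1]
    exact Cfsg.Agent.Lib.Helper34_Sylow.cj_mono hNA
  have hBA' : B ≤ Subgroup.normalizer (A' : Set G) := le_trans b4 hA'N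
  have hXA' : X ≤ Subgroup.normalizer (A' : Set G) := le_trans b5 hA'N
  have hsig : IsSig X (A' ⊔ B) := by
    constructor
    · intro y hy
      exact mem_normalizer_sup (hXA' hy) (hB.1.1 hy)
    · intro h3
      have hd := Cfsg.Agent.Lib.Helper22_Basic.card_sup_dvd_of_le_normalizer A' B hBA'
      have h3' := dvd_trans h3 hd
      have e1 : Nat.card A' = Nat.card A := Cfsg.Agent.Lib.Helper34_Sylow.card_cj g A
      rw [e1] at h3'
      rcases (Nat.Prime.dvd_mul Nat.prime_three).mp h3' with hh | hh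
      · exact hA.1.2 hh
      · exact hB.1.2 hh
  have := hB.2 (A' ⊔ B) hsig le_sup_right
  rw [← this]
  exact le_sup_left

/-- [M] two odd maximal signalizers whose orders are not coprime are conjugate. -/
theorem odd_conj (h : Hyp G X)
    (hnil : ∀ A : Subgroup G, IsSig X A → Group.IsNilpotent A)
    (hON : ∀ A : Subgroup G, IsMaxSig X A → ∀ p : ℕ, p.Prime → p ≠ 2 → ∀ P : Subgroup G, P ≤ A →
      P ≠ ⊥ → IsPGroup p P → A ≤ Subgroup.normalizer (P : Set G) →
      X ≤ Subgroup.normalizer (P : Set G) →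
      Subgroup.normalizer (P : Set G) ≤ Subgroup.normalizer (A : Set G) ∧
        Nat.card (Subgroup.normalizer (P : Set G)) ∣ 6 * Nat.card A)
    {A B : Subgroup G} (hA : IsMaxSig X A) (hB : IsMaxSig X B) (hoddA : ¬ 2 ∣ Nat.card A)
    (hoddB : ¬ 2 ∣ Nat.card B) (hnc : ¬ (Nat.card A).Coprime (Nat.card B)) :
    ∃ g : G, B = cj g A := by
  obtain ⟨p, hp, hpA, hpB⟩ := Nat.Prime.not_coprime_iff_dvd.mp hnc
  obtain ⟨g, hg⟩ := odd_conj_le h hnil hON hA hB hoddA hoddB p hp hpA hpB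
  obtain ⟨g', hg'⟩ := odd_conj_le h hnil hON hB hA hoddB hoddA p hp hpB hpA
  refine ⟨g, ?_⟩
  symm
  apply Subgroup.eq_of_le_of_card_ge hg
  have e1 : Nat.card (cj g A) = Nat.card A := Cfsg.Agent.Lib.Helper34_Sylow.card_cj g A
  have e2 : Nat.card (cj g' B) = Nat.card B := Cfsg.Agent.Lib.Helper34_Sylow.card_cj g' B
  rw [e1, ← e2]
  exact Subgroup.card_le_of_le hg'

end Cfsg.Agent.Lib.Helper2_FT3_ODDHC
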