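import Mathlib
import Cfsg.Agent.Lib.Helper83_FrCDefs

set_option autoImplicit false
set_option linter.unusedVariables false
set_option linter.unusedSectionVars false
set_option linter.unusedSimpArgs false
set_option linter.style.haveILetI false
set_option linter.deprecated false

/-!
S5655, case (C), package PK11 (helper83's market `s5655c_packages`): paper (2.3), `q` odd —
all coordinates of all columns of a non-monomial element of `M` are non-zero.
Also general tools on monomial maps in frame coordinates (`coord_mono`, `row_two_zeros`,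
`exists_two_of_ncard_le`, `conj_sub_mem_map`), reused in PK14.
-/

namespace Cfsg.Agent.Lib.Helper2_FrC_PK11

open Module Cfsg.Agent.Lib.Helper94_Herm Cfsg.Agent.Lib.Helper13_PSUSimple
  Cfsg.Agent.Lib.Helper94_FrmDefs Cfsg.Agent.Lib.Helper83_FrCDefs

variable {F V ι : Type*} [Field F] [AddCommGroup V] [Module F V] [Fintype ι] [DecidableEq ι]
variable {σ : F →+* F} {B : V →ₗ[F] V →ₛₗ[σ] F} {e : ι → V}

/-- the coordinates of the image under a monomial map -/
theorem coord_mono (hfr : OFrame B e) (t : V ≃ₗ[F] V) (π : Equiv.Perm ι) (w : ι → F)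
    (ht : ∀ s, t (e s) = w s • e (π s)) (y : V) (s : ι) :
    B (t y) (e (π s)) = w s * B y (e s) := by
  conv_lhs => rw [fr_expand hfr y]
  rw [map_sum, map_sum, LinearMap.sum_apply]
  rw [Finset.sum_eq_single s]
  · rw [map_smul, ht, smul_smul, map_smul, LinearMap.smul_apply, hfr.unit, smul_eq_mul, mul_one,
      mul_comm]
  · intro u _ hus
    rw [map_smul, ht, smul_smul, map_smul, LinearMap.smul_apply,
      hfr.orth _ _ (fun h => hus (π.injective h)), smul_zero]
  · intro h
    exact absurd (Finset.mem_univ s) h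

/-- the coordinates of the image under a diagonal map -/
theorem coord_diag (hfr : OFrame B e) (t : V ≃ₗ[F] V) (w : ι → F)
    (ht : ∀ s, t (e s) = w s • e s) (y : V) (s : ι) :
    B (t y) (e s) = w s * B y (e s) :=
  coord_mono hfr t 1 w ht y s

/-- two zeros in a row of a non-monomial element of `M` are impossible -/
theorem row_two_zeros (hB : IsHerm B) (M : Subgroup (V ≃ₗ[F] V)) (hMU : M ≤ uG B)
    (h21 : P21 B e M) {g : V ≃ₗ[F] V} (hg : g ∈ M) (hgn : g ∉ Mono B e) (a j j' : ι)
    (hjj' : j ≠ j') (h1 : B (g (e j)) (e a) = 0) (h2 : B (g (e j')) (e a) = 0) : False := by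
  have hginv : g⁻¹ ∈ M := M.inv_mem hg
  have hginvn : g⁻¹ ∉ Mono B e := fun h => hgn (by simpa using (Mono B e).inv_mem h)
  have hz : ∀ k, B (g (e k)) (e a) = 0 → B (g⁻¹ (e a)) (e k) = 0 := by
    intro k hk
    rw [uG_inv_apply B (hMU hg), hB (g (e k)) (e a), hk, map_zero]
  exact h21 g⁻¹ hginv hginvn a j j' hjj' (hz j h1) (hz j' h2)

omit [DecidableEq ι] in
/-- two indices outside a small set -/
theorem exists_two_of_ncard_le (P : ι → Prop) (k : ℕ) (hk : Set.ncard {j | ¬ P j} ≤ k)
    (hn : k + 2 ≤ Fintype.card ι) : ∃ j j', j ≠ j' ∧ P j ∧ P j' := by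
  have h1 := Set.ncard_add_ncard_compl {j | ¬ P j}
  rw [Nat.card_eq_fintype_card] at h1
  have h2 : 1 < Set.ncard ({j | ¬ P j}ᶜ) := by omega
  rw [Set.one_lt_ncard_iff] at h2
  obtain ⟨j, j', hj, hj', hne⟩ := h2
  simp only [Set.mem_compl_iff, Set.mem_setOf_eq, not_not] at hj hj'
  exact ⟨j, j', hne, hj, hj'⟩

omit [Fintype ι] [DecidableEq ι] in
/-- the range of `g⁻¹ t g - l` lies in the image under `g⁻¹` of a space containing the range
of `t - l` -/
theorem conj_sub_mem_map (g t : V ≃ₗ[F] V) (l : F) (U0 : Submodule F V)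
    (h : ∀ y, t y - l • y ∈ U0) (y : V) :
    (g⁻¹ * t * g) y - l • y ∈ U0.map ((g⁻¹ : V ≃ₗ[F] V) : V →ₗ[F] V) := by
  rw [Submodule.mem_map]
  refine ⟨t (g y) - l • g y, h (g y), ?_⟩
  have : (g⁻¹ : V ≃ₗ[F] V) (g y) = y := g.symm_apply_apply y
  rw [LinearEquiv.coe_coe, map_sub, map_smul, this]
  rfl

omit [Fintype ι] [DecidableEq ι] in
theorem finrank_map_inv [FiniteDimensional F V] (g : V ≃ₗ[F] V) (U0 : Submodule F V) :
    finrank F ↥(U0.map ((g⁻¹ : V ≃ₗ[F] V) : V →ₗ[F] V)) = finrank F ↥U0 :=
  LinearEquiv.finrank_map_eq (g⁻¹ : V ≃ₗ[F] V) U0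

/-- PK11. paper (2.3): cases (a) `(q+1) ∤ n`, (b) `(q+1) ∣ n`. -/
theorem p23 [Fintype F] (hσ : Invol σ) (hB : IsHerm B) (hfr : OFrame B e) (hmono : HasMono B e)
    (hrank : RankLemma F e) (q : ℕ) (hq : ∀ x : F, σ x = x ^ q) (hcard : Fintype.card F = q ^ 2)
    (h2 : (2 : F) ≠ 0) (h8 : 8 ≤ Fintype.card ι)
    (hmu : ∃ z : F, z * σ z = 1 ∧ ∀ k : ℕ, z ^ k = 1 → (q + 1) ∣ k)
    (hfix : Set.ncard {c : F | σ c = c} = q)
    (M : Subgroup (V ≃ₗ[F] V)) (hHM : frH B e ≤ M) (hMU : M ≤ uG B) (hC : CaseC B e M)
    (h21 : P21 B e M) : P23 B e M := by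
  classical
  haveI : FiniteDimensional F V := fr_finiteDimensional hfr
  intro g hg hgn i a hxa
  set n := Fintype.card ι with hn
  -- the other coordinates of `x = g e_i` are non-zero
  have hxne : ∀ r, r ≠ a → B (g (e i)) (e r) ≠ 0 := by
    intro r hra hxr
    exact h21 g hg hgn i a r (Ne.symm hra) hxa hxr
  have hgm : ∀ t : V ≃ₗ[F] V, t ∈ frH B e → g⁻¹ * t * g ∈ M := fun t ht =>
    M.mul_mem (M.mul_mem (M.inv_mem hg) (hHM ht)) hg
  have hginv : ∀ y, (g⁻¹ : V ≃ₗ[F] V) (g y) = y := fun y => g.symm_apply_apply y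
  have hgg : ∀ y, g ((g⁻¹ : V ≃ₗ[F] V) y) = y := fun y => g.apply_symm_apply y
  by_cases hdvd : (q + 1) ∣ n
  · -- case (b): two coordinates of the same colour
    have hqn : q + 1 ≤ n := Nat.le_of_dvd (by omega) hdvd
    have hfix' : (Finset.univ.filter (fun c : F => σ c = c)).card = q := by
      rw [← hfix, Set.ncard_eq_toFinset_card', Set.toFinset_setOf]
    set T : Finset F := (Finset.univ.filter (fun c : F => σ c = c)).erase 0 with hT
    have hTcard : T.card = q - 1 := by
      rw [hT, Finset.card_erase_of_mem (by simp), hfix']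
    have hlt : T.card < (Finset.univ.erase a).card := by
      rw [hTcard, Finset.card_erase_of_mem (Finset.mem_univ a), Finset.card_univ]
      omega
    obtain ⟨r, hr, r', hr', hrr', hc⟩ := Finset.exists_ne_map_eq_of_card_lt_of_maps_to hlt
      (f := fun r => B (g (e i)) (e r) * σ (B (g (e i)) (e r))) (by
        intro r hr
        have hra : r ≠ a := Finset.ne_of_mem_erase (Finset.mem_coe.1 hr)
        have hx := hxne r hra
        show _ ∈ T
        rw [hT, Finset.mem_erase, Finset.mem_filter]
        refine ⟨mul_ne_zero hx ((map_ne_zero σ).2 hx), Finset.mem_univ _, ?_⟩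
        rw [map_mul, hσ.invol, mul_comm])
    have hra : r ≠ a := Finset.ne_of_mem_erase hr
    have hr'a : r' ≠ a := Finset.ne_of_mem_erase hr'
    set xr := B (g (e i)) (e r) with hxr
    set xr' := B (g (e i)) (e r') with hxr'
    have hxr0 : xr ≠ 0 := hxne r hra
    have hxr'0 : xr' ≠ 0 := hxne r' hr'a
    have hσxr0 : σ xr ≠ 0 := (map_ne_zero σ).2 hxr0
    set l : F := xr' / xr with hl
    have hl0 : l ≠ 0 := div_ne_zero hxr'0 hxr0
    have hlN : l * σ l = 1 := by
      rw [hl, map_div₀, div_mul_div_comm, ← hc]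
      exact div_self (mul_ne_zero hxr0 hσxr0)
    have hσl : σ l = l⁻¹ := eq_inv_of_mul_eq_one_right hlN
    -- the monomial element `h`
    set w : ι → F := fun s => (if s = r then l else 1) * (if s = r' then l⁻¹ else 1) *
      (if s = a then -1 else 1) with hw
    have hwr : w r = l := by
      show (if r = r then l else 1) * (if r = r' then l⁻¹ else 1) * (if r = a then -1 else 1) = l
      rw [if_pos rfl, if_neg hrr', if_neg hra, mul_one, mul_one]
    have hwr' : w r' = l⁻¹ := by
      show (if r' = r then l else 1) * (if r' = r' then l⁻¹ else 1) *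
        (if r' = a then -1 else 1) = l⁻¹
      rw [if_pos rfl, if_neg (Ne.symm hrr'), if_neg hr'a, mul_one, one_mul]
    have hwa : w a = -1 := by
      show (if a = r then l else 1) * (if a = r' then l⁻¹ else 1) * (if a = a then -1 else 1) = -1
      rw [if_pos rfl, if_neg (Ne.symm hra), if_neg (Ne.symm hr'a), one_mul, one_mul]
    have hwo : ∀ s, s ≠ r → s ≠ r' → s ≠ a → w s = 1 := by
      intro s h1 h2 h3
      show (if s = r then l else 1) * (if s = r' then l⁻¹ else 1) * (if s = a then -1 else 1) = 1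
      rw [if_neg h1, if_neg h2, if_neg h3, mul_one, mul_one]
    have hwN : ∀ s, w s * σ (w s) = 1 := by
      intro s
      by_cases h1 : s = r
      · rw [h1, hwr, hlN]
      by_cases h2' : s = r'
      · rw [h2', hwr', map_inv₀, hσl, inv_inv, inv_mul_cancel₀ hl0]
      by_cases h3 : s = a
      · rw [h3, hwa, map_neg, map_one]; ring
      · rw [hwo s h1 h2' h3, map_one, mul_one]
    have hprod : ∏ s, w s = -1 := by
      simp only [hw, Finset.prod_mul_distrib, Finset.prod_ite_eq', Finset.mem_univ, if_true]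
      rw [mul_inv_cancel₀ hl0, one_mul]
    have hsign : (((Equiv.Perm.sign (Equiv.swap r r') : ℤˣ) : ℤ) : F) * ∏ s, w s = 1 := by
      rw [Equiv.Perm.sign_swap hrr', hprod]
      norm_num
    obtain ⟨h, hhH, hh⟩ := hmono (Equiv.swap r r') w hwN hsign
    -- `h` fixes `x`
    have hhx : h (g (e i)) = g (e i) := by
      apply fr_ext_coord hfr
      intro u
      obtain ⟨s, rfl⟩ := (Equiv.swap r r').surjective u
      rw [coord_mono hfr h _ w hh]
      by_cases h1 : s = r
      · rw [h1, hwr, Equiv.swap_apply_left, hl, hxr, hxr']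
        have hx1 : B (g (e i)) (e r) ≠ 0 := hxr0
        exact div_mul_cancel₀ _ hx1
      by_cases h2' : s = r'
      · rw [h2', hwr', Equiv.swap_apply_right, hl, hxr, hxr']
        have hx1 : B (g (e i)) (e r) ≠ 0 := hxr0
        have hx2 : B (g (e i)) (e r') ≠ 0 := hxr'0
        rw [inv_div]
        exact div_mul_cancel₀ _ hx2
      by_cases h3 : s = a
      · rw [h3, hwa, Equiv.swap_apply_of_ne_of_ne hra.symm hr'a.symm, hxa]; ring
      · rw [hwo s h1 h2' h3, Equiv.swap_apply_of_ne_of_ne h1 h2', one_mul]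
    -- the range of `h - 1`
    set U0 : Submodule F V := Submodule.span F {e a, l • e r' - e r} with hU0
    have hU0dim : finrank F ↥U0 ≤ 2 := by
      have h1 : finrank F ↥(Submodule.span F (({e a, l • e r' - e r} : Finset V) : Set V)) ≤
          ({e a, l • e r' - e r} : Finset V).card := finrank_span_finset_le_card _
      have h2c : ({e a, l • e r' - e r} : Finset V).card ≤ 2 := Finset.card_le_two
      rw [hU0]
      have hcoe : ((({e a, l • e r' - e r} : Finset V)) : Set V) = {e a, l • e r' - e r} := by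
        simp
      rw [hcoe] at h1
      exact h1.trans h2c
    have hrange : ∀ y, h y - (1 : F) • y ∈ U0 := by
      intro y
      have hy : h y - (1 : F) • y = (-2 * B y (e a)) • e a +
          (B y (e r) - l⁻¹ * B y (e r')) • (l • e r' - e r) := by
        apply fr_ext_coord hfr
        intro u
        obtain ⟨s, rfl⟩ := (Equiv.swap r r').surjective u
        rw [one_smul, map_sub, LinearMap.sub_apply, coord_mono hfr h _ w hh, map_add,
          LinearMap.add_apply, map_smul, LinearMap.smul_apply, map_smul, LinearMap.smul_apply,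
          map_sub, LinearMap.sub_apply, map_smul, LinearMap.smul_apply, fr_apply_eq hfr,
          fr_apply_eq hfr, fr_apply_eq hfr]
        by_cases h1 : s = r
        · rw [h1, hwr, Equiv.swap_apply_left, if_neg (Ne.symm hr'a), if_pos rfl,
            if_neg hrr']
          simp only [smul_eq_mul]
          field_simp
          ring
        by_cases h2' : s = r'
        · rw [h2', hwr', Equiv.swap_apply_right, if_neg (Ne.symm hra), if_neg (Ne.symm hrr'),
            if_pos rfl]
          simp only [smul_eq_mul]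
          ring
        by_cases h3 : s = a
        · rw [h3, hwa, Equiv.swap_apply_of_ne_of_ne hra.symm hr'a.symm, if_pos rfl,
            if_neg hr'a, if_neg hra]
          simp only [smul_eq_mul]
          ring
        · rw [hwo s h1 h2' h3, Equiv.swap_apply_of_ne_of_ne h1 h2', if_neg (Ne.symm h3),
            if_neg (Ne.symm h2'), if_neg (Ne.symm h1)]
          simp only [smul_eq_mul]
          ring
      rw [hy]
      exact U0.add_mem (U0.smul_mem _ (Submodule.subset_span (by simp)))
        (U0.smul_mem _ (Submodule.subset_span (by simp)))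
    -- the conjugate `m = g⁻¹ h g` is monomial
    have hmM : g⁻¹ * h * g ∈ M := hgm h hhH
    have hmi : (g⁻¹ * h * g) (e i) = (1 : F) • e i := by
      rw [one_smul]
      show (g⁻¹ : V ≃ₗ[F] V) (h (g (e i))) = e i
      rw [hhx, hginv]
    have hmMono : g⁻¹ * h * g ∈ Mono B e := hC i _ hmM ⟨1, hmi⟩
    have hcount := hrank (g⁻¹ * h * g) ((mem_Mono_iff B e).1 hmMono).2 1 one_ne_zero
      (U0.map ((g⁻¹ : V ≃ₗ[F] V) : V →ₗ[F] V)) (conj_sub_mem_map g h 1 U0 hrange) 2
      (by rw [finrank_map_inv]; exact hU0dim)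
    obtain ⟨j, j', hjj', hj, hj'⟩ := exists_two_of_ncard_le
      (fun j => (g⁻¹ * h * g) (e j) = (1 : F) • e j) 6 (by simpa using hcount) (by omega)
    have hzero : ∀ k, (g⁻¹ * h * g) (e k) = (1 : F) • e k → B (g (e k)) (e a) = 0 := by
      intro k hk
      have h1 : h (g (e k)) = g (e k) := by
        have h0 : g ((g⁻¹ : V ≃ₗ[F] V) (h (g (e k)))) = g (e k) := by
          have := congrArg g hk
          rw [one_smul] at this
          exact this
        rwa [hgg] at h0
      have h3 := coord_mono hfr h _ w hh (g (e k)) a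
      rw [Equiv.swap_apply_of_ne_of_ne hra.symm hr'a.symm, h1, hwa] at h3
      have h4 : (2 : F) * B (g (e k)) (e a) = 0 := by linear_combination h3
      rcases mul_eq_zero.mp h4 with h5 | h5
      · exact absurd h5 h2
      · exact h5
    exact row_two_zeros hB M hMU h21 hg hgn a j j' hjj' (hzero j hj) (hzero j' hj')
  · -- case (a): a scalar action
    obtain ⟨z, hzN, hzord⟩ := hmu
    have hz0 : z ≠ 0 := by
      rintro rfl
      rw [zero_mul] at hzN
      exact zero_ne_one hzN
    have hzn : z ^ n ≠ 1 := fun h => hdvd (hzord n h)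
    have hzn0 : z ^ n ≠ 0 := pow_ne_zero _ hz0
    set w : ι → F := fun s => z * (if s = a then (z ^ n)⁻¹ else 1) with hw
    have hwo : ∀ s, s ≠ a → w s = z := by
      intro s hs
      simp only [hw, if_neg hs, mul_one]
    have hwa : w a = z * (z ^ n)⁻¹ := by
      show z * (if a = a then (z ^ n)⁻¹ else 1) = _
      rw [if_pos rfl]
    have hwaz : w a ≠ z := by
      rw [hwa]
      intro h
      apply hzn
      have : (z ^ n)⁻¹ = 1 := by
        have := mul_left_cancel₀ hz0 (h.trans (mul_one z).symm)
        exact this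
      rw [inv_eq_one] at this
      exact this
    have hznN : z ^ n * σ (z ^ n) = 1 := by
      rw [map_pow, ← mul_pow, hzN, one_pow]
    have hwN : ∀ s, w s * σ (w s) = 1 := by
      intro s
      by_cases hs : s = a
      · rw [hs, hwa, map_mul, map_inv₀]
        have : σ (z ^ n) ≠ 0 := (map_ne_zero σ).2 hzn0
        calc z * (z ^ n)⁻¹ * (σ z * (σ (z ^ n))⁻¹) = (z * σ z) * (z ^ n * σ (z ^ n))⁻¹ := by
              rw [mul_inv]; ring
          _ = 1 := by rw [hzN, hznN, inv_one, mul_one]
      · rw [hwo s hs, hzN]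
    have hprod : ∏ s, w s = 1 := by
      simp only [hw, Finset.prod_mul_distrib, Finset.prod_const, Finset.prod_ite_eq',
        Finset.mem_univ, if_true, Finset.card_univ]
      exact mul_inv_cancel₀ hzn0
    have hsign : (((Equiv.Perm.sign (1 : Equiv.Perm ι) : ℤˣ) : ℤ) : F) * ∏ s, w s = 1 := by
      rw [Equiv.Perm.sign_one, hprod]
      norm_num
    obtain ⟨t, htH, ht⟩ := hmono 1 w hwN hsign
    have ht' : ∀ s, t (e s) = w s • e s := ht
    have htx : t (g (e i)) = z • g (e i) := by
      apply fr_ext_coord hfr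
      intro s
      rw [coord_diag hfr t w ht', map_smul, LinearMap.smul_apply, smul_eq_mul]
      by_cases hs : s = a
      · rw [hs, hxa, mul_zero, mul_zero]
      · rw [hwo s hs]
    set U0 : Submodule F V := Submodule.span F {e a} with hU0
    have hU0dim : finrank F ↥U0 ≤ 1 := by
      rw [hU0]
      exact (finrank_span_singleton (fr_ne_zero hfr a)).le
    have hrange : ∀ y, t y - z • y ∈ U0 := by
      intro y
      have hy : t y - z • y = ((w a - z) * B y (e a)) • e a := by
        apply fr_ext_coord hfr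
        intro s
        rw [map_sub, LinearMap.sub_apply, coord_diag hfr t w ht', map_smul, LinearMap.smul_apply,
          map_smul, LinearMap.smul_apply, fr_apply_eq hfr]
        by_cases hs : s = a
        · rw [hs, if_pos rfl]
          simp only [smul_eq_mul]
          ring
        · rw [hwo s hs, if_neg (Ne.symm hs)]
          simp only [smul_eq_mul]
          ring
      rw [hy]
      exact U0.smul_mem _ (Submodule.subset_span (by simp))
    have hmM : g⁻¹ * t * g ∈ M := hgm t htH
    have hmi : (g⁻¹ * t * g) (e i) = z • e i := by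
      show (g⁻¹ : V ≃ₗ[F] V) (t (g (e i))) = z • e i
      rw [htx, map_smul, hginv]
    have hmMono : g⁻¹ * t * g ∈ Mono B e := hC i _ hmM ⟨z, hmi⟩
    have hcount := hrank (g⁻¹ * t * g) ((mem_Mono_iff B e).1 hmMono).2 z hz0
      (U0.map ((g⁻¹ : V ≃ₗ[F] V) : V →ₗ[F] V)) (conj_sub_mem_map g t z U0 hrange) 1
      (by rw [finrank_map_inv]; exact hU0dim)
    obtain ⟨j, j', hjj', hj, hj'⟩ := exists_two_of_ncard_le
      (fun j => (g⁻¹ * t * g) (e j) = z • e j) 3 (by simpa using hcount) (by omega)
    have hzero : ∀ k, (g⁻¹ * t * g) (e k) = z • e k → B (g (e k)) (e a) = 0 := by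
      intro k hk
      have h1 : t (g (e k)) = z • g (e k) := by
        have h0 : g ((g⁻¹ : V ≃ₗ[F] V) (t (g (e k)))) = z • g (e k) := by
          have := congrArg g hk
          rw [map_smul] at this
          exact this
        rwa [hgg] at h0
      have h3 := coord_diag hfr t w ht' (g (e k)) a
      rw [h1, map_smul, LinearMap.smul_apply, smul_eq_mul] at h3
      have h4 : (w a - z) * B (g (e k)) (e a) = 0 := by linear_combination -h3
      rcases mul_eq_zero.mp h4 with h5 | h5
      · exact absurd (sub_eq_zero.mp h5) hwaz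
      · exact h5
    exact row_two_zeros hB M hMU h21 hg hgn a j j' hjj' (hzero j hj) (hzero j' hj')

end Cfsg.Agent.Lib.Helper2_FrC_PK11
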