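import Mathlib
import Cfsg.Prelude.Def_Solvable
import Cfsg.Agent.Lib.Helper1_Cores

/-!
# Groups acting on an elementary abelian group of order at most `p²` (helper2)

Let `V` be an abelian group of exponent `p` and order at most `p²`, and let a finite group `H` act
on `V` through `ρ : H →* MulAut V` with a kernel that is a `p`-group.  Then a `p`-element `h` of `H`
lies in `O_p(H)`, unless `V` has order `p²` and some element of `H` inverts `V`
(`mem_pCore_or_exists_inv`).  This is the piece of the subgroup structure of `GL₂(p)` saying that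
a subgroup of `GL₂(p)` with more than one Sylow `p`-subgroup contains `SL₂(p)`, hence `-1`.
-/

set_option autoImplicit false
set_option linter.unusedSectionVars false

namespace Cfsg.Agent.Lib.Helper2_GL2Flag

open Subgroup

section basic

variable {p : ℕ} [Fact p.Prime] {V : Type*} [Group V]

/-- iteration of an automorphism acting on an element as a power map -/
theorem pow_apply_of_apply_eq_pow (q : MulAut V) {u : V} {a : ℕ} (hqu : q u = u ^ a) (n : ℕ) :
    (q ^ n) u = u ^ a ^ n := by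
  induction n with
  | zero => simp
  | succ n ih =>
    rw [pow_succ', MulAut.mul_apply, ih, map_pow, hqu, ← pow_mul, pow_succ']

/-- an automorphism of `p`-power order acting on an element of order `p` as a power map fixes it -/
theorem fix_of_pow_order {q : MulAut V} {k : ℕ} (hq : q ^ p ^ k = 1) {u : V} (hu : u ^ p = 1)
    {a : ℕ} (hqu : q u = u ^ a) : q u = u := by
  have hpP : p.Prime := Fact.out
  by_cases hu1 : u = 1
  · rw [hu1, map_one]
  have hord : orderOf u = p := orderOf_eq_prime hu hu1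
  have h1 := pow_apply_of_apply_eq_pow q hqu (p ^ k)
  rw [hq, MulAut.one_apply] at h1
  have h2 : u ^ a ^ p ^ k = u ^ 1 := by rw [pow_one]; exact h1.symm
  rw [pow_eq_pow_iff_modEq, hord] at h2
  have h3 : ((a ^ p ^ k : ℕ) : ZMod p) = ((1 : ℕ) : ZMod p) := (ZMod.natCast_eq_natCast_iff _ _ _).mpr h2
  have h4 : ((a : ℕ) : ZMod p) = 1 := by
    have := ZMod.pow_card_pow (n := k) ((a : ℕ) : ZMod p)
    rw [← this]
    push_cast at h3
    exact h3
  have h5 : a ≡ 1 [MOD p] := by
    rw [← ZMod.natCast_eq_natCast_iff]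
    push_cast
    exact h4
  rw [hqu]
  have : u ^ a = u ^ 1 := by
    rw [pow_eq_pow_iff_modEq, hord]
    exact h5
  rw [this, pow_one]

variable [Finite V]

/-- an automorphism of `p`-power order leaving invariant a subgroup of order `p` fixes it
elementwise -/
theorem fix_of_invariant {q : MulAut V} {k : ℕ} (hq : q ^ p ^ k = 1) (C : Subgroup V)
    (hC : Nat.card C = p) (hinv : ∀ c ∈ C, q c ∈ C) : ∀ c ∈ C, q c = c := by
  have hpP : p.Prime := Fact.out
  intro c hc
  by_cases hc1 : c = 1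
  · rw [hc1, map_one]
  have hcp : c ^ p = 1 := by
    have h := pow_card_eq_one' (G := ↥C) (x := ⟨c, hc⟩)
    rw [hC] at h
    exact congrArg Subtype.val h
  have hz : zpowers c = C := by
    have h1 : zpowers (⟨c, hc⟩ : ↥C) = ⊤ :=
      zpowers_eq_top_of_prime_card hC (fun h => hc1 (congrArg Subtype.val h))
    apply le_antisymm
    · rw [zpowers_le]; exact hc
    · intro y hy
      have h2 : (⟨y, hy⟩ : ↥C) ∈ zpowers (⟨c, hc⟩ : ↥C) := by rw [h1]; exact mem_top _
      obtain ⟨n, hn⟩ := mem_zpowers_iff.mp h2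
      rw [mem_zpowers_iff]
      exact ⟨n, congrArg Subtype.val hn⟩
  have h3 : q c ∈ zpowers c := by rw [hz]; exact hinv c hc
  rw [← mem_powers_iff_mem_zpowers] at h3
  obtain ⟨a, ha⟩ := h3
  exact fix_of_pow_order hq hcp ha.symm

end basic

/-! ### Flags -/

section flag

variable {p : ℕ} [Fact p.Prime] {V : Type*} [Group V] [Finite V]

/-- the automorphisms stabilizing the flag `1 < ⟨v⟩ < V` -/
def flagStab (v : V) : Subgroup (MulAut V) where
  carrier := {α | α v = v ∧ ∀ w : V, w⁻¹ * α w ∈ zpowers v}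
  one_mem' := ⟨rfl, fun w => by simp⟩
  mul_mem' := by
    rintro α β ⟨hα1, hα2⟩ ⟨hβ1, hβ2⟩
    refine ⟨by rw [MulAut.mul_apply, hβ1, hα1], fun w => ?_⟩
    have e : w⁻¹ * (α * β) w = (w⁻¹ * β w) * ((β w)⁻¹ * α (β w)) := by
      rw [MulAut.mul_apply]; group
    rw [e]
    exact mul_mem (hβ2 w) (hα2 (β w))
  inv_mem' := by
    rintro α ⟨hα1, hα2⟩
    refine ⟨by
      have := MulAut.inv_apply_self _ α v
      rwa [hα1] at this, fun w => ?_⟩
    have h := hα2 (α⁻¹ w)
    rw [MulAut.apply_inv_self] at h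
    have e : w⁻¹ * α⁻¹ w = ((α⁻¹ w)⁻¹ * w)⁻¹ := by group
    rw [e]
    exact inv_mem h

theorem mem_flagStab {v : V} {α : MulAut V} :
    α ∈ flagStab v ↔ α v = v ∧ ∀ w : V, w⁻¹ * α w ∈ zpowers v := Iff.rfl

/-- an element of the flag stabilizer fixes `⟨v⟩` elementwise -/
theorem flagStab_fix {v : V} {α : MulAut V} (hα : α ∈ flagStab v) {l : V} (hl : l ∈ zpowers v) :
    α l = l := by
  obtain ⟨n, rfl⟩ := mem_zpowers_iff.mp hl
  rw [map_zpow, hα.1]

/-- iteration in the flag stabilizer -/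
theorem flagStab_pow_apply {v : V} {α : MulAut V} (hα : α ∈ flagStab v) {w l : V}
    (hl : l ∈ zpowers v) (hw : α w = w * l) (n : ℕ) : (α ^ n) w = w * l ^ n := by
  induction n with
  | zero => simp
  | succ n ih =>
    rw [pow_succ', MulAut.mul_apply, ih, map_mul, hw, map_pow, flagStab_fix hα hl, pow_succ',
      mul_assoc]

theorem flagStab_isPGroup {v : V} (hv : v ^ p = 1) : IsPGroup p (flagStab v) := by
  rintro ⟨α, hα⟩
  refine ⟨1, ?_⟩
  apply Subtype.ext
  rw [pow_one, Subgroup.coe_pow, Subgroup.coe_one]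
  ext w
  have hl : w⁻¹ * α w ∈ zpowers v := hα.2 w
  have hw : α w = w * (w⁻¹ * α w) := by group
  rw [flagStab_pow_apply hα hl hw p, MulAut.one_apply]
  obtain ⟨n, hn⟩ := mem_zpowers_iff.mp hl
  rw [← hn, ← zpow_natCast, ← zpow_mul, mul_comm, zpow_mul, zpow_natCast, hv, one_zpow, mul_one]

variable (hcomm : ∀ a b : V, a * b = b * a) (hexp : ∀ v : V, v ^ p = 1)
  (hcard : Nat.card V = p ^ 2)

include hcomm hexp hcard in
/-- a `p`-group of automorphisms of `V` stabilizes a flag -/
theorem exists_flag (Q : Subgroup (MulAut V)) (hQ : IsPGroup p Q) :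
    ∃ v : V, v ≠ 1 ∧ Q ≤ flagStab v := by
  have hpP : p.Prime := Fact.out
  -- a fixed vector
  have hdvd : p ∣ Nat.card V := by rw [hcard]; exact dvd_pow_self p (by norm_num)
  have h1fix : (1 : V) ∈ MulAction.fixedPoints ↥Q V := by
    intro q
    show (q : MulAut V) 1 = 1
    exact map_one _
  obtain ⟨v, hvfix, hv1⟩ := hQ.exists_fixed_point_of_prime_dvd_card_of_fixed_point V hdvd h1fix
  have hvfix' : ∀ q ∈ Q, q v = v := fun q hq => hvfix ⟨q, hq⟩
  refine ⟨v, fun h => hv1 h.symm, fun q hq => ⟨hvfix' q hq, ?_⟩⟩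
  have hv1' : v ≠ 1 := fun h => hv1 h.symm
  have hordv : orderOf v = p := orderOf_eq_prime (hexp v) hv1'
  have hcardL : Nat.card (zpowers v) = p := by rw [Nat.card_zpowers, hordv]
  -- `q` has `p`-power order
  obtain ⟨k, hk⟩ := hQ ⟨q, hq⟩
  have hqk : q ^ p ^ k = 1 := by
    have := congrArg Subtype.val hk
    simpa using this
  -- the homomorphism `w ↦ w⁻¹ q(w)`
  let f : V →* V :=
    { toFun := fun w => w⁻¹ * q w
      map_one' := by simp
      map_mul' := fun a b => by
        rw [map_mul, mul_inv_rev, hcomm b⁻¹ a⁻¹, mul_assoc, mul_assoc, ← mul_assoc b⁻¹,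
          hcomm b⁻¹ (q a), mul_assoc] }
  have hf : ∀ w, f w = w⁻¹ * q w := fun _ => rfl
  have hker : ∀ w, w ∈ f.ker ↔ q w = w := by
    intro w
    rw [MonoidHom.mem_ker, hf, inv_mul_eq_one, eq_comm]
  have hLker : zpowers v ≤ f.ker := by
    rw [zpowers_le, hker]
    exact hvfix' q hq
  intro w
  -- the order of the kernel
  have hcardker : Nat.card f.ker = p ∨ Nat.card f.ker = p ^ 2 := by
    have h1 : Nat.card f.ker ∣ p ^ 2 := by rw [← hcard]; exact Subgroup.card_subgroup_dvd_card _
    have h2 : p ∣ Nat.card f.ker := by rw [← hcardL]; exact Subgroup.card_dvd_of_le hLker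
    obtain ⟨j, hj, hjeq⟩ := (Nat.dvd_prime_pow hpP).mp h1
    interval_cases j
    · rw [hjeq, pow_zero] at h2
      exact absurd (Nat.le_of_dvd one_pos h2) (by have := hpP.two_le; omega)
    · left; rw [hjeq, pow_one]
    · right; exact hjeq
  rcases hcardker with h | h
  · -- the kernel is `⟨v⟩` and the range has order `p`
    have hkerL : f.ker = zpowers v := by
      symm
      apply Subgroup.eq_of_le_of_card_ge hLker
      rw [h, hcardL]
    have hrange : Nat.card f.range = p := by
      have h1 := Subgroup.card_eq_card_quotient_mul_card_subgroup f.ker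
      have h2 : Nat.card (V ⧸ f.ker) = Nat.card f.range :=
        Nat.card_congr (QuotientGroup.quotientKerEquivRange f).toEquiv
      rw [hcard, h2, h, sq] at h1
      exact (Nat.eq_of_mul_eq_mul_right hpP.pos h1).symm
    have hinv : ∀ c ∈ f.range, q c ∈ f.range := by
      rintro _ ⟨y, rfl⟩
      refine ⟨q y, ?_⟩
      rw [hf, hf, map_mul, map_inv]
    have hfixr := fix_of_invariant hqk f.range hrange hinv
    have h3 : f w ∈ f.ker := by
      rw [hker]
      exact hfixr _ ⟨w, rfl⟩
    rw [hkerL] at h3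
    exact h3
  · have htop : f.ker = ⊤ := by
      apply Subgroup.eq_top_of_card_eq
      rw [h, hcard]
    have h3 : w ∈ f.ker := by rw [htop]; exact mem_top _
    rw [MonoidHom.mem_ker, hf] at h3
    rw [h3]
    exact one_mem _

end flag

/-! ### The main dichotomy -/

section main

variable {p : ℕ} [Fact p.Prime] {V : Type*} [Group V] [Finite V] {H : Type*} [Group H] [Finite H]

/-- two automorphisms agreeing on generators agree -/
theorem aut_eq_of_eqOn_closure {α β : MulAut V} {s : Set V} (hs : closure s = ⊤)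
    (h : ∀ x ∈ s, α x = β x) : α = β := by
  have h1 : α.toMonoidHom = β.toMonoidHom :=
    MonoidHom.eq_of_eqOn_dense hs (fun x hx => h x hx)
  ext v
  exact DFunLike.congr_fun h1 v

/-- the kernel of the action lies in every Sylow `p`-subgroup -/
theorem ker_le_sylow (ρ : H →* MulAut V) (hker : IsPGroup p ρ.ker) (P : Sylow p H) :
    ρ.ker ≤ P :=
  (Cfsg.Agent.Lib.Helper1_Cores.le_pCore inferInstance hker).trans
    (Cfsg.Agent.Lib.Helper1_Cores.pCore_le_sylow p P)

theorem exists_inv_of_sylow_ne (hcomm : ∀ a b : V, a * b = b * a)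
    (hexp : ∀ v : V, v ^ p = 1)
    (hcard : Nat.card V = p ^ 2) (ρ : H →* MulAut V) (hker : IsPGroup p ρ.ker)
    (P₁ P₂ : Sylow p H) (hne : P₁ ≠ P₂) : ∃ β : H, ∀ v : V, ρ β v = v⁻¹ := by
  have hpP : p.Prime := Fact.out
  obtain ⟨v₁, hv₁, hQ₁⟩ := exists_flag hcomm hexp hcard ((P₁ : Subgroup H).map ρ) (P₁.2.map ρ)
  obtain ⟨v₂, hv₂, hQ₂⟩ := exists_flag hcomm hexp hcard ((P₂ : Subgroup H).map ρ) (P₂.2.map ρ)
  have hord₁ : orderOf v₁ = p := orderOf_eq_prime (hexp v₁) hv₁
  have hord₂ : orderOf v₂ = p := orderOf_eq_prime (hexp v₂) hv₂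
  have hcard₁ : Nat.card (zpowers v₁) = p := by rw [Nat.card_zpowers, hord₁]
  have hcard₂ : Nat.card (zpowers v₂) = p := by rw [Nat.card_zpowers, hord₂]
  -- the two lines are distinct
  have hlines : v₂ ∉ zpowers v₁ := by
    intro hmem
    have hz : zpowers v₂ = zpowers v₁ := by
      apply Subgroup.eq_of_le_of_card_ge
      · rw [zpowers_le]; exact hmem
      · rw [hcard₁, hcard₂]
    have hQ₂' : (P₂ : Subgroup H).map ρ ≤ flagStab v₁ := by
      intro q hq
      have h2 := hQ₂ hq
      refine ⟨?_, fun w => ?_⟩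
      · have : v₁ ∈ zpowers v₂ := by rw [hz]; exact mem_zpowers v₁
        exact flagStab_fix h2 this
      · rw [← hz]; exact h2.2 w
    have hX : IsPGroup p ((flagStab v₁).comap ρ) :=
      (flagStab_isPGroup (hexp v₁)).comap_of_ker_isPGroup ρ hker
    have h1 : (P₁ : Subgroup H) ≤ (flagStab v₁).comap ρ := fun x hx => hQ₁ ⟨x, hx, rfl⟩
    have h2 : (P₂ : Subgroup H) ≤ (flagStab v₁).comap ρ := fun x hx => hQ₂' ⟨x, hx, rfl⟩
    have e1 := P₁.is_maximal' hX h1
    have e2 := P₂.is_maximal' hX h2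
    exact hne (Sylow.ext (e1.symm.trans e2))
  -- `v₁, v₂` generate
  have hgen : closure ({v₁, v₂} : Set V) = ⊤ := by
    have hlt : zpowers v₁ < closure ({v₁, v₂} : Set V) := by
      refine lt_of_le_of_ne ?_ ?_
      · rw [zpowers_le]; exact subset_closure (by simp)
      · intro h
        apply hlines
        rw [h]
        exact subset_closure (by simp)
    have h1 : Nat.card (closure ({v₁, v₂} : Set V)) ∣ p ^ 2 := by
      rw [← hcard]; exact Subgroup.card_subgroup_dvd_card _
    obtain ⟨j, hj, hjeq⟩ := (Nat.dvd_prime_pow hpP).mp h1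
    have h2 : p < Nat.card (closure ({v₁, v₂} : Set V)) := by
      rw [← hcard₁]
      have hle := Subgroup.card_le_of_le hlt.le
      rcases Nat.lt_or_ge (Nat.card (zpowers v₁)) (Nat.card (closure ({v₁, v₂} : Set V))) with h3 | h3
      · exact h3
      · exact absurd (Subgroup.eq_of_le_of_card_ge hlt.le h3) hlt.ne
    have hj2 : j = 2 := by
      interval_cases j
      · rw [hjeq, pow_zero] at h2; have := hpP.two_le; omega
      · rw [hjeq, pow_one] at h2; omega
      · rfl
    apply Subgroup.eq_top_of_card_eq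
    rw [hjeq, hj2, hcard]
  -- the first transvection
  have hex₁ : ∃ s ∈ (P₁ : Subgroup H), ρ s v₁ = v₁ ∧ ρ s v₂ = v₂ * v₁ := by
    have h1 : ∃ s₀ ∈ (P₁ : Subgroup H), ρ s₀ ≠ 1 := by
      by_contra hcon
      push Not at hcon
      have hle : (P₁ : Subgroup H) ≤ (P₂ : Subgroup H) :=
        fun x hx => ker_le_sylow ρ hker P₂ (hcon x hx)
      exact hne (Sylow.ext (P₁.is_maximal' P₂.2 hle).symm)
    obtain ⟨s₀, hs₀, hρs₀⟩ := h1
    have hfl := hQ₁ ⟨s₀, hs₀, rfl⟩
    set l := v₂⁻¹ * ρ s₀ v₂ with hl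
    have hlmem : l ∈ zpowers v₁ := hfl.2 v₂
    have hw : ρ s₀ v₂ = v₂ * l := by rw [hl]; group
    have hl1 : l ≠ 1 := by
      intro h1
      apply hρs₀
      apply aut_eq_of_eqOn_closure hgen
      intro x hx
      rcases hx with rfl | rfl
      · rw [hfl.1, MulAut.one_apply]
      · rw [hw, h1, mul_one, MulAut.one_apply]
    have hzl : zpowers l = zpowers v₁ := by
      apply Subgroup.eq_of_le_of_card_ge
      · rw [zpowers_le]; exact hlmem
      · rw [hcard₁, Nat.card_zpowers, orderOf_eq_prime (hexp l) hl1]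
    have hv₁l : v₁ ∈ zpowers l := by rw [hzl]; exact mem_zpowers v₁
    rw [← mem_powers_iff_mem_zpowers] at hv₁l
    obtain ⟨i, hi⟩ := hv₁l
    refine ⟨s₀ ^ i, pow_mem hs₀ i, ?_, ?_⟩
    · rw [map_pow]
      have := flagStab_pow_apply hfl (one_mem _) (w := v₁) (by rw [hfl.1, mul_one]) i
      rw [this, one_pow, mul_one]
    · rw [map_pow, flagStab_pow_apply hfl hlmem hw i]
      exact congrArg (v₂ * ·) hi
  -- the second transvection
  have hlines' : v₁ ∉ zpowers v₂ := by
    intro hmem
    have hz : zpowers v₁ = zpowers v₂ := by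
      apply Subgroup.eq_of_le_of_card_ge
      · rw [zpowers_le]; exact hmem
      · rw [hcard₁, hcard₂]
    apply hlines
    rw [hz]
    exact mem_zpowers v₂
  have hex₂ : ∃ t ∈ (P₂ : Subgroup H), ρ t v₂ = v₂ ∧ ρ t v₁ = v₁ * v₂⁻¹ := by
    have h1 : ∃ t₀ ∈ (P₂ : Subgroup H), ρ t₀ ≠ 1 := by
      by_contra hcon
      push Not at hcon
      have hle : (P₂ : Subgroup H) ≤ (P₁ : Subgroup H) :=
        fun x hx => ker_le_sylow ρ hker P₁ (hcon x hx)
      exact hne (Sylow.ext (P₂.is_maximal' P₁.2 hle))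
    obtain ⟨t₀, ht₀, hρt₀⟩ := h1
    have hfl := hQ₂ ⟨t₀, ht₀, rfl⟩
    set l := v₁⁻¹ * ρ t₀ v₁ with hl
    have hlmem : l ∈ zpowers v₂ := hfl.2 v₁
    have hw : ρ t₀ v₁ = v₁ * l := by rw [hl]; group
    have hl1 : l ≠ 1 := by
      intro h1
      apply hρt₀
      apply aut_eq_of_eqOn_closure hgen
      intro x hx
      rcases hx with rfl | rfl
      · rw [hw, h1, mul_one, MulAut.one_apply]
      · rw [hfl.1, MulAut.one_apply]
    have hzl : zpowers l = zpowers v₂ := by
      apply Subgroup.eq_of_le_of_card_ge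
      · rw [zpowers_le]; exact hlmem
      · rw [hcard₂, Nat.card_zpowers, orderOf_eq_prime (hexp l) hl1]
    have hv₂l : v₂⁻¹ ∈ zpowers l := by rw [hzl]; exact inv_mem (mem_zpowers v₂)
    rw [← mem_powers_iff_mem_zpowers] at hv₂l
    obtain ⟨i, hi⟩ := hv₂l
    refine ⟨t₀ ^ i, pow_mem ht₀ i, ?_, ?_⟩
    · rw [map_pow]
      have := flagStab_pow_apply hfl (one_mem _) (w := v₂) (by rw [hfl.1, mul_one]) i
      rw [this, one_pow, mul_one]
    · rw [map_pow, flagStab_pow_apply hfl hlmem hw i]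
      exact congrArg (v₁ * ·) hi
  obtain ⟨s, -, hs1, hs2⟩ := hex₁
  obtain ⟨t, -, ht2, ht1⟩ := hex₂
  -- the element `w = s t s` and its square
  have hw1 : ρ (s * t * s) v₁ = v₂⁻¹ := by
    rw [map_mul, map_mul, MulAut.mul_apply, MulAut.mul_apply, hs1, ht1, map_mul, map_inv, hs1, hs2,
      mul_inv_rev, hcomm v₁⁻¹ v₂⁻¹, ← mul_assoc, hcomm v₁ v₂⁻¹, mul_assoc, mul_inv_cancel, mul_one]
  have hw2 : ρ (s * t * s) v₂ = v₁ := by
    rw [map_mul, map_mul, MulAut.mul_apply, MulAut.mul_apply, hs2, map_mul, ht2, ht1,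
      hcomm v₁ v₂⁻¹, ← mul_assoc, mul_inv_cancel, one_mul, hs1]
  refine ⟨(s * t * s) * (s * t * s), ?_⟩
  -- inversion as an automorphism
  let ι : MulAut V :=
    { toFun := fun v => v⁻¹
      invFun := fun v => v⁻¹
      left_inv := fun v => inv_inv v
      right_inv := fun v => inv_inv v
      map_mul' := fun a b => by rw [mul_inv_rev, hcomm] }
  have hι : ρ ((s * t * s) * (s * t * s)) = ι := by
    apply aut_eq_of_eqOn_closure hgen
    intro x hx
    rcases hx with rfl | rfl
    · show ρ ((s * t * s) * (s * t * s)) x = x⁻¹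
      rw [map_mul, MulAut.mul_apply, hw1, map_inv, hw2]
    · show ρ ((s * t * s) * (s * t * s)) x = x⁻¹
      rw [map_mul, MulAut.mul_apply, hw2, hw1]
  intro v
  rw [hι]
  rfl

/-- **Dichotomy.** A `p`-element of a group acting on an elementary abelian group of order at most
`p²` with a `p`-group as kernel lies in the `p`-core, unless some element inverts the module. -/
theorem mem_pCore_or_exists_inv (hcomm : ∀ a b : V, a * b = b * a)
    (hexp : ∀ v : V, v ^ p = 1)
    (hcard : Nat.card V ≤ p ^ 2) (ρ : H →* MulAut V) (hker : IsPGroup p ρ.ker)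
    (h : H) (hh : ∃ k : ℕ, h ^ p ^ k = 1) :
    h ∈ Cfsg.pCore p H ∨ (Nat.card V = p ^ 2 ∧ ∃ β : H, ∀ v : V, ρ β v = v⁻¹) := by
  have hpP : p.Prime := Fact.out
  have hVp : IsPGroup p V := fun v => ⟨1, by rw [pow_one]; exact hexp v⟩
  obtain ⟨e, he⟩ := IsPGroup.iff_card.mp hVp
  have hkerle : ρ.ker ≤ Cfsg.pCore p H :=
    Cfsg.Agent.Lib.Helper1_Cores.le_pCore inferInstance hker
  obtain ⟨k, hk⟩ := hh
  rcases Nat.lt_or_ge e 2 with he2 | he2
  · -- `V` is cyclic and `Aut V` is a `p'`-group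
    left
    apply hkerle
    rw [MonoidHom.mem_ker]
    have hcyc : IsCyclic V := by
      interval_cases e
      · rw [pow_zero] at he
        have : Subsingleton V := (Nat.card_eq_one_iff_unique.mp he).1
        exact isCyclic_of_subsingleton
      · rw [pow_one] at he
        exact isCyclic_of_prime_card he
    have hcardaut : (Nat.card (MulAut V)).Coprime p := by
      rw [IsCyclic.card_mulAut, he]
      interval_cases e
      · rw [pow_zero, Nat.totient_one]; exact Nat.coprime_one_left p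
      · rw [pow_one, Nat.totient_prime hpP]
        have := hpP.two_le
        exact (Nat.coprime_of_lt_prime (by omega) (by omega) hpP).symm
    have h1 : orderOf (ρ h) ∣ p ^ k := by
      apply orderOf_dvd_of_pow_eq_one
      rw [← map_pow, hk, map_one]
    have h2 : orderOf (ρ h) ∣ Nat.card (MulAut V) := orderOf_dvd_natCard _
    have h3 : orderOf (ρ h) = 1 :=
      Nat.eq_one_of_dvd_coprimes (Nat.Coprime.pow_right k hcardaut) h2 h1
    exact orderOf_eq_one_iff.mp h3
  · have he2' : e = 2 := by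
      rcases Nat.lt_or_ge 2 e with h3 | h3
      · exfalso
        have : p ^ 2 < p ^ e := Nat.pow_lt_pow_right hpP.one_lt h3
        omega
      · omega
    have hcard2 : Nat.card V = p ^ 2 := by rw [he, he2']
    by_cases hall : ∀ P₁ P₂ : Sylow p H, P₁ = P₂
    · left
      have : Subsingleton (Sylow p H) := ⟨hall⟩
      have hzp : IsPGroup p (zpowers h) := by
        have h1 : orderOf h ∣ p ^ k := orderOf_dvd_of_pow_eq_one hk
        obtain ⟨j, -, hj⟩ := (Nat.dvd_prime_pow hpP).mp h1
        apply IsPGroup.of_card (n := j)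
        rw [Nat.card_zpowers, hj]
      obtain ⟨P, hP⟩ := hzp.exists_le_sylow
      have hPn : (P : Subgroup H).Normal := Sylow.normal_of_subsingleton P
      exact Cfsg.Agent.Lib.Helper1_Cores.le_pCore hPn P.2 (hP (mem_zpowers h))
    · right
      push Not at hall
      obtain ⟨P₁, P₂, hne⟩ := hall
      exact ⟨hcard2, exists_inv_of_sylow_ne hcomm hexp hcard2 ρ hker P₁ P₂ hne⟩

end main

end Cfsg.Agent.Lib.Helper2_GL2Flag
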