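import Mathlib
import Cfsg.Agent.Lib.Helper54_TwoGroups

set_option autoImplicit false

/-! Helper library for S4082 (groups whose p-by-cyclic subgroups are cyclic or dihedral). -/

namespace Cfsg.Agent.Lib.Helper53_PCyc

open Subgroup

variable {G : Type*} [Group G]

/-- elements of `R ⊔ ⟨y⟩` for `y` normalizing `R` -/
theorem exists_mul_zpow_of_mem_sup (R : Subgroup G) (y : G)
    (hy : y ∈ Subgroup.normalizer (R : Set G)) {h : G} (hh : h ∈ R ⊔ Subgroup.zpowers y) :
    ∃ r ∈ R, ∃ k : ℤ, h = r * y ^ k := by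
  have hyk : ∀ k : ℤ, ∀ r ∈ R, y ^ k * r * (y ^ k)⁻¹ ∈ R := by
    intro k r hr
    have h1 : y ^ k ∈ Subgroup.normalizer (R : Set G) := zpow_mem hy k
    exact (Subgroup.mem_normalizer_iff.mp h1 r).mp hr
  let K : Subgroup G :=
    { carrier := {h | ∃ r ∈ R, ∃ k : ℤ, h = r * y ^ k}
      mul_mem' := by
        rintro _ _ ⟨r, hr, k, rfl⟩ ⟨r', hr', k', rfl⟩
        refine ⟨r * (y ^ k * r' * (y ^ k)⁻¹), mul_mem hr (hyk k r' hr'), k + k', ?_⟩
        rw [zpow_add]; group
      one_mem' := ⟨1, one_mem _, 0, by simp⟩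
      inv_mem' := by
        rintro _ ⟨r, hr, k, rfl⟩
        refine ⟨y ^ (-k) * r⁻¹ * (y ^ (-k))⁻¹, hyk (-k) r⁻¹ (inv_mem hr), -k, ?_⟩
        group }
  have hK : R ⊔ Subgroup.zpowers y ≤ K :=
    sup_le (fun r hr => ⟨r, hr, 0, by simp⟩)
      ((Subgroup.zpowers_le).2 ⟨1, one_mem _, 1, by simp⟩)
  exact hK hh

/-- **Lemma A**: `H = R⟨y⟩` with `R` a `p`-group normalized by `y` is `p`-by-cyclic. -/
theorem sylow_normal_cyclic [Finite G] {p : ℕ} [Fact p.Prime] (R : Subgroup G)
    (hR : IsPGroup p R) (y : G) (hy : y ∈ Subgroup.normalizer (R : Set G)) (H : Subgroup G)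
    (hH : H = R ⊔ Subgroup.zpowers y) :
    (∀ S : Sylow p ↥H, (S : Subgroup ↥H).Normal) ∧
    (∀ (S : Sylow p ↥H) [(S : Subgroup ↥H).Normal], IsCyclic (↥H ⧸ (S : Subgroup ↥H))) := by
  subst hH
  have hRH : R ≤ R ⊔ Subgroup.zpowers y := le_sup_left
  have hyH : y ∈ R ⊔ Subgroup.zpowers y :=
    (le_sup_right : Subgroup.zpowers y ≤ R ⊔ Subgroup.zpowers y) (Subgroup.mem_zpowers y)
  have hHN : R ⊔ Subgroup.zpowers y ≤ Subgroup.normalizer (R : Set G) :=
    sup_le Subgroup.le_normalizer ((Subgroup.zpowers_le).2 hy)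
  haveI hR'n : (R.subgroupOf (R ⊔ Subgroup.zpowers y)).Normal :=
    (Subgroup.normal_subgroupOf_iff_le_normalizer hRH).2 hHN
  have hR'p : IsPGroup p (R.subgroupOf (R ⊔ Subgroup.zpowers y)) := hR.comap_subtype
  have hle : ∀ S : Sylow p ↥(R ⊔ Subgroup.zpowers y),
      R.subgroupOf (R ⊔ Subgroup.zpowers y) ≤ S := fun S => hR'p.le_sylow_of_normal S
  have key : ∀ h : ↥(R ⊔ Subgroup.zpowers y), ∃ r : ↥(R ⊔ Subgroup.zpowers y),
      r ∈ R.subgroupOf (R ⊔ Subgroup.zpowers y) ∧
      ∃ k : ℤ, h = r * (⟨y, hyH⟩ : ↥(R ⊔ Subgroup.zpowers y)) ^ k := by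
    rintro ⟨h, hh⟩
    obtain ⟨r, hr, k, rfl⟩ := exists_mul_zpow_of_mem_sup R y hy hh
    exact ⟨⟨r, hRH hr⟩, (Subgroup.mem_subgroupOf).2 hr, k, Subtype.ext (by simp)⟩
  have hcyc' : ∀ (S : Subgroup ↥(R ⊔ Subgroup.zpowers y)) [S.Normal],
      R.subgroupOf (R ⊔ Subgroup.zpowers y) ≤ S → IsCyclic (↥(R ⊔ Subgroup.zpowers y) ⧸ S) := by
    intro S _ hS
    refine ⟨⟨QuotientGroup.mk ⟨y, hyH⟩, fun q => ?_⟩⟩
    induction q using QuotientGroup.induction_on with
    | H h =>
      obtain ⟨r, hr, k, rfl⟩ := key h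
      refine ⟨k, ?_⟩
      simp only
      rw [QuotientGroup.mk_mul, (QuotientGroup.eq_one_iff r).2 (hS hr), one_mul,
        QuotientGroup.mk_zpow]
  constructor
  · intro S
    have hSle := hle S
    haveI := hcyc' (R.subgroupOf (R ⊔ Subgroup.zpowers y)) le_rfl
    letI : CommGroup (↥(R ⊔ Subgroup.zpowers y) ⧸ R.subgroupOf (R ⊔ Subgroup.zpowers y)) :=
      IsCyclic.commGroup
    have h1 : (S : Subgroup ↥(R ⊔ Subgroup.zpowers y)) =
        ((S : Subgroup ↥(R ⊔ Subgroup.zpowers y)).map
          (QuotientGroup.mk' (R.subgroupOf (R ⊔ Subgroup.zpowers y)))).comap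
          (QuotientGroup.mk' (R.subgroupOf (R ⊔ Subgroup.zpowers y))) := by
      rw [Subgroup.comap_map_eq_self]
      rwa [QuotientGroup.ker_mk']
    rw [h1]
    exact Subgroup.Normal.comap (Subgroup.normal_of_comm _) _
  · intro S _
    exact hcyc' S (hle S)

/-- elements of odd order of a dihedral group are rotations -/
theorem dihedral_eq_r_of_pow_odd {m : ℕ} (x : DihedralGroup m) {k : ℕ} (hk : Odd k)
    (hx : x ^ k = 1) : ∃ i, x = DihedralGroup.r i := by
  cases x with
  | r i => exact ⟨i, rfl⟩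
  | sr j =>
    exfalso
    obtain ⟨t, rfl⟩ := hk
    rw [pow_succ, pow_mul, pow_two, DihedralGroup.sr_mul_self, one_pow, one_mul,
      DihedralGroup.one_def] at hx
    cases hx

/-- **Lemma B**: in a group with restricted `p`-by-cyclic subgroups, an element normalizing but
not centralizing a `p`-subgroup `R` is an involution inverting `R`. -/
theorem invol_of_not_centralizer [Finite G] {p : ℕ} [Fact p.Prime] (hp : p ≠ 2)
    (hG : ∀ H : Subgroup G, (∀ S : Sylow p ↥H, (S : Subgroup ↥H).Normal) →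
        (∀ (S : Sylow p ↥H) [(S : Subgroup ↥H).Normal], IsCyclic (↥H ⧸ (S : Subgroup ↥H))) →
        IsCyclic H ∨ (∃ n : ℕ, Nonempty (H ≃* DihedralGroup (p ^ n))))
    (R : Subgroup G) (hR : IsPGroup p R) (y : G) (hy : y ∈ Subgroup.normalizer (R : Set G))
    (hyc : y ∉ Subgroup.centralizer (R : Set G)) :
    orderOf y = 2 ∧ ∀ r ∈ R, y * r * y⁻¹ = r⁻¹ := by
  obtain ⟨h1, h2⟩ := sylow_normal_cyclic R hR y hy (R ⊔ Subgroup.zpowers y) rfl
  have hRH : R ≤ R ⊔ Subgroup.zpowers y := le_sup_left
  have hyH : y ∈ R ⊔ Subgroup.zpowers y :=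
    (le_sup_right : Subgroup.zpowers y ≤ R ⊔ Subgroup.zpowers y) (Subgroup.mem_zpowers y)
  have hodd : Odd p := (Fact.out : p.Prime).odd_of_ne_two hp
  rcases hG _ h1 h2 with hc | ⟨n, ⟨e⟩⟩
  · exfalso
    apply hyc
    rw [Subgroup.mem_centralizer_iff]
    intro r hr
    letI : CommGroup ↥(R ⊔ Subgroup.zpowers y) := IsCyclic.commGroup
    have := mul_comm (⟨r, hRH hr⟩ : ↥(R ⊔ Subgroup.zpowers y)) ⟨y, hyH⟩
    exact congrArg Subtype.val this
  · have hrot : ∀ r (hr : r ∈ R), ∃ i, e ⟨r, hRH hr⟩ = DihedralGroup.r i := by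
      intro r hr
      obtain ⟨k, hk⟩ := hR ⟨r, hr⟩
      have hk' : r ^ p ^ k = 1 := by
        have := congrArg Subtype.val hk
        simpa using this
      apply dihedral_eq_r_of_pow_odd _ (hodd.pow (n := k))
      rw [← map_pow]
      have : (⟨r, hRH hr⟩ : ↥(R ⊔ Subgroup.zpowers y)) ^ p ^ k = 1 := Subtype.ext (by simpa using hk')
      rw [this, map_one]
    have hey : ∃ j, e ⟨y, hyH⟩ = DihedralGroup.sr j := by
      rcases hy' : e ⟨y, hyH⟩ with j | j
      · exfalso
        apply hyc
        rw [Subgroup.mem_centralizer_iff]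
        intro r hr
        obtain ⟨i, hi⟩ := hrot r hr
        have h3 : e (⟨r, hRH hr⟩ * ⟨y, hyH⟩) = e (⟨y, hyH⟩ * ⟨r, hRH hr⟩) := by
          rw [map_mul, map_mul, hi, hy', DihedralGroup.r_mul_r, DihedralGroup.r_mul_r, add_comm]
        exact congrArg Subtype.val (e.injective h3)
      · exact ⟨j, rfl⟩
    obtain ⟨j, hj⟩ := hey
    constructor
    · haveI : Fact (Nat.Prime 2) := ⟨Nat.prime_two⟩
      apply orderOf_eq_prime
      · have h3 : e (⟨y, hyH⟩ * ⟨y, hyH⟩) = e 1 := by
          rw [map_mul, hj, DihedralGroup.sr_mul_self, map_one]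
        have := congrArg Subtype.val (e.injective h3)
        rw [pow_two]; simpa using this
      · rintro rfl
        exact hyc (one_mem _)
    · intro r hr
      obtain ⟨i, hi⟩ := hrot r hr
      have h3 : e (⟨y, hyH⟩ * ⟨r, hRH hr⟩ * ⟨y, hyH⟩⁻¹) = e (⟨r, hRH hr⟩⁻¹) := by
        rw [map_mul, map_mul, map_inv, map_inv, hi, hj, DihedralGroup.inv_sr,
          DihedralGroup.sr_mul_r, DihedralGroup.sr_mul_sr, DihedralGroup.inv_r]
        congr 1; ring
      have := congrArg Subtype.val (e.injective h3)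
      simpa using this

/-- the forward direction of S4082 -/
theorem forward [Finite G] {p : ℕ} [Fact p.Prime] (hp : p ≠ 2) (P : Sylow p G)
    (hG : ∀ H : Subgroup G, (∀ S : Sylow p ↥H, (S : Subgroup ↥H).Normal) →
        (∀ (S : Sylow p ↥H) [(S : Subgroup ↥H).Normal], IsCyclic (↥H ⧸ (S : Subgroup ↥H))) →
        IsCyclic H ∨ (∃ n : ℕ, Nonempty (H ≃* DihedralGroup (p ^ n)))) :
    (IsCyclic P ∧
      (Subgroup.normalizer ((P : Subgroup G) : Set G) =
          Subgroup.centralizer ((P : Subgroup G) : Set G) ∨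
       ((Subgroup.centralizer ((P : Subgroup G) : Set G)).relIndex
          (Subgroup.normalizer ((P : Subgroup G) : Set G)) = 2 ∧
        ∀ Q : Subgroup G, Q ≤ P → Nat.card Q = p →
          IsMulCommutative ↥(Subgroup.centralizer (Q : Set G)) ∧
          ∀ x : G, x ∈ Subgroup.normalizer (Q : Set G) → x ∉ Subgroup.centralizer (Q : Set G) →
            orderOf x = 2 ∧ ∀ c : G, c ∈ Subgroup.centralizer (Q : Set G) →
              x * c * x⁻¹ = c⁻¹))) := by
  have hpp : p.Prime := Fact.out
  constructor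
  · obtain ⟨h1, h2⟩ := sylow_normal_cyclic (P : Subgroup G) P.2 1 (one_mem _) (P : Subgroup G)
      (by simp)
    rcases hG _ h1 h2 with hc | ⟨n, ⟨e⟩⟩
    · exact hc
    · exfalso
      have hc1 : Nat.card (P : Subgroup G) = 2 * p ^ n := by
        rw [Nat.card_congr e.toEquiv, DihedralGroup.nat_card]
      obtain ⟨k, hk⟩ := (IsPGroup.iff_card).1 P.2
      rw [hk] at hc1
      have h2 : 2 ∣ p ^ k := ⟨_, hc1⟩
      have h3 : 2 ∣ p := Nat.Prime.dvd_of_dvd_pow Nat.prime_two h2
      exact hp ((Nat.prime_dvd_prime_iff_eq Nat.prime_two hpp).1 h3).symm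
  · by_cases hNC : Subgroup.normalizer ((P : Subgroup G) : Set G) =
        Subgroup.centralizer ((P : Subgroup G) : Set G)
    · exact Or.inl hNC
    · right
      have hlt : Subgroup.centralizer ((P : Subgroup G) : Set G) <
          Subgroup.normalizer ((P : Subgroup G) : Set G) :=
        lt_of_le_of_ne (Subgroup.centralizer_le_normalizer _) (Ne.symm hNC)
      obtain ⟨t, htN, htC⟩ := SetLike.exists_of_lt hlt
      have hinvP := invol_of_not_centralizer hp hG (P : Subgroup G) P.2
      obtain ⟨hto, htinv⟩ := hinvP t htN htC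
      have htt : t * t = 1 := by rw [← pow_two, ← hto, pow_orderOf_eq_one]
      constructor
      · rw [Subgroup.relIndex_eq_two_iff]
        refine ⟨t, htN, fun b hb => ?_⟩
        by_cases hb' : b ∈ Subgroup.centralizer ((P : Subgroup G) : Set G)
        · right
          refine ⟨hb', fun h => htC ?_⟩
          have := mul_mem (inv_mem hb') h
          simpa using this
        · left
          refine ⟨?_, hb'⟩
          rw [Subgroup.mem_centralizer_iff]
          intro u hu
          have hb2 := (hinvP b hb hb').2 u⁻¹ (inv_mem hu)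
          have ht2 := htinv u hu
          symm
          calc b * t * u = b * (t * u * t⁻¹) * t := by group
            _ = b * u⁻¹ * t := by rw [ht2]
            _ = (b * u⁻¹ * b⁻¹) * b * t := by group
            _ = u * (b * t) := by rw [hb2, inv_inv, mul_assoc]
      · intro Q hQP hQcard
        have hQp : IsPGroup p Q := P.2.to_le hQP
        have invQ := invol_of_not_centralizer hp hG Q hQp
        have key : ∀ x : G, x ∈ Subgroup.normalizer (Q : Set G) →
            x ∉ Subgroup.centralizer (Q : Set G) →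
            orderOf x = 2 ∧ ∀ c : G, c ∈ Subgroup.centralizer (Q : Set G) →
              x * c * x⁻¹ = c⁻¹ := by
          intro x hx hxc
          obtain ⟨ho, -⟩ := invQ x hx hxc
          refine ⟨ho, fun c hc => ?_⟩
          have hxcN : x * c ∈ Subgroup.normalizer (Q : Set G) :=
            mul_mem hx (Subgroup.centralizer_le_normalizer _ hc)
          have hxcC : x * c ∉ Subgroup.centralizer (Q : Set G) := fun h => hxc (by
            have := mul_mem h (inv_mem hc)
            simpa using this)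
          obtain ⟨ho', -⟩ := invQ (x * c) hxcN hxcC
          have h1 : x * x = 1 := by rw [← pow_two, ← ho, pow_orderOf_eq_one]
          have h2 : (x * c) * (x * c) = 1 := by rw [← pow_two, ← ho', pow_orderOf_eq_one]
          have hxi : x⁻¹ = x := inv_eq_of_mul_eq_one_right h1
          rw [hxi]
          apply eq_inv_of_mul_eq_one_left
          rw [← h2]; simp only [mul_assoc]
        refine ⟨?_, key⟩
        -- t normalizes but does not centralize Q
        have htNQ : t ∈ Subgroup.normalizer (Q : Set G) := by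
          apply Subgroup.mem_normalizer_fintype
          intro n hn
          rw [htinv n (hQP hn)]
          exact inv_mem hn
        have htCQ : t ∉ Subgroup.centralizer (Q : Set G) := by
          intro htc
          have hQne : Q ≠ ⊥ := by
            rintro rfl
            rw [Subgroup.card_bot] at hQcard
            exact hpp.one_lt.ne hQcard
          rcases Subgroup.bot_or_exists_ne_one Q with h | ⟨q, hq, hq1⟩
          · exact hQne h
          · apply hq1
            have h3 := htinv q (hQP hq)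
            have h4 : q * t = t * q := (Subgroup.mem_centralizer_iff.1 htc) q hq
            have h5 : q * q = 1 := by
              have : t * q * t⁻¹ = q := by rw [← h4]; group
              rw [this] at h3
              calc q * q = q * q⁻¹ := by rw [← h3]
                _ = 1 := mul_inv_cancel q
            obtain ⟨k, hk⟩ := hQp ⟨q, hq⟩
            have hk' : q ^ p ^ k = 1 := by
              have := congrArg Subtype.val hk
              simpa using this
            have hd1 : orderOf q ∣ 2 := orderOf_dvd_of_pow_eq_one (by rw [pow_two]; exact h5)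
            have hd2 : orderOf q ∣ p ^ k := orderOf_dvd_of_pow_eq_one hk'
            have hcop : Nat.Coprime 2 (p ^ k) :=
              ((Nat.coprime_primes Nat.prime_two hpp).2 (Ne.symm hp)).pow_right k
            exact orderOf_eq_one_iff.1 (Nat.eq_one_of_dvd_coprimes hcop hd1 hd2)
        obtain ⟨-, htc⟩ := key t htNQ htCQ
        refine ⟨⟨fun a b => Subtype.ext ?_⟩⟩
        have ha := htc a a.2
        have hb := htc b b.2
        have hab := htc (a * b) (mul_mem a.2 b.2)
        have h6 : (a : G)⁻¹ * (b : G)⁻¹ = (b : G)⁻¹ * (a : G)⁻¹ := by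
          calc (a : G)⁻¹ * (b : G)⁻¹ = (t * a * t⁻¹) * (t * b * t⁻¹) := by rw [ha, hb]
            _ = t * (a * b) * t⁻¹ := by group
            _ = ((a : G) * b)⁻¹ := hab
            _ = (b : G)⁻¹ * (a : G)⁻¹ := mul_inv_rev _ _
        have h7 := congrArg (fun z => z⁻¹) h6
        simp only [mul_inv_rev, inv_inv] at h7
        simpa using h7.symm

/-- **Lemma C**: central cyclic normal Hall subgroup with cyclic quotient gives a cyclic group. -/
theorem isCyclic_of_central_cyclic {H : Type*} [Group H] [Finite H] (S : Subgroup H) [S.Normal]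
    (hS : S ≤ Subgroup.center H) [IsCyclic S] [IsCyclic (H ⧸ S)]
    (hcop : (Nat.card S).Coprime S.index) : IsCyclic H := by
  obtain ⟨s, hs⟩ := IsCyclic.exists_generator (α := S)
  obtain ⟨q, hq⟩ := IsCyclic.exists_generator (α := H ⧸ S)
  obtain ⟨y, rfl⟩ := QuotientGroup.mk_surjective q
  have hos : orderOf (s : H) = Nat.card S := by
    rw [Subgroup.orderOf_coe, orderOf_eq_card_of_forall_mem_zpowers hs]
  have hoq : orderOf (QuotientGroup.mk y : H ⧸ S) = S.index := by
    rw [orderOf_eq_card_of_forall_mem_zpowers hq]; rfl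
  have hym : y ^ S.index ∈ S := by
    rw [← QuotientGroup.eq_one_iff, QuotientGroup.mk_pow, ← hoq, pow_orderOf_eq_one]
  have hy'm : (y ^ Nat.card S) ^ S.index = 1 := by
    rw [← pow_mul, mul_comm, pow_mul]
    have := pow_card_eq_one' (G := S) (x := ⟨y ^ S.index, hym⟩)
    exact congrArg Subtype.val this
  have hoy' : orderOf (y ^ Nat.card S) = S.index := by
    apply Nat.dvd_antisymm (orderOf_dvd_of_pow_eq_one hy'm)
    have h1 : orderOf ((QuotientGroup.mk y : H ⧸ S) ^ Nat.card S) = S.index := by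
      rw [Nat.Coprime.orderOf_pow (by rw [hoq]; exact hcop.symm), hoq]
    rw [← h1, ← QuotientGroup.mk_pow]
    exact orderOf_map_dvd (QuotientGroup.mk' S) (y ^ Nat.card S)
  have hcomm : Commute (s : H) (y ^ Nat.card S) :=
    ((Subgroup.mem_center_iff.1 (hS s.2)) (y ^ Nat.card S)).symm
  have ho : orderOf ((s : H) * y ^ Nat.card S) = Nat.card S * S.index := by
    rw [hcomm.orderOf_mul_eq_mul_orderOf_of_coprime (by rw [hos, hoy']; exact hcop), hos, hoy']
  exact isCyclic_of_orderOf_eq_card ((s : H) * y ^ Nat.card S)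
    (by rw [ho, Subgroup.card_mul_index])

/-- **Lemma Z**: in a finite cyclic group the solutions of `w ^ n = 1` lie in `⟨x⟩` when `x` has
order `n`. -/
theorem mem_zpowers_of_pow_eq_one {K : Type*} [Group K] [Finite K] [IsCyclic K] (x w : K)
    (hw : w ^ orderOf x = 1) : w ∈ Subgroup.zpowers x := by
  classical
  haveI := Fintype.ofFinite K
  have hn0 : 0 < orderOf x := orderOf_pos x
  have h1 := IsCyclic.card_pow_eq_one_le (α := K) hn0
  have hsub : (Subgroup.zpowers x : Set K) ⊆
      ((Finset.univ.filter (fun a : K => a ^ orderOf x = 1) : Finset K) : Set K) := by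
    intro u hu
    obtain ⟨k, rfl⟩ := hu
    simp only [Finset.coe_filter, Finset.mem_univ, true_and, Set.mem_ofPred_eq]
    rw [← zpow_natCast, ← zpow_mul, mul_comm, zpow_mul, zpow_natCast, pow_orderOf_eq_one, one_zpow]
  have hcard : (Subgroup.zpowers x : Set K).ncard = orderOf x := by
    rw [← Nat.card_zpowers x]
    exact (Nat.card_coe_set_eq _).symm
  have heq := Set.eq_of_subset_of_ncard_le hsub (by
    rw [Set.ncard_coe_finset, hcard]; exact h1) (Finset.finite_toSet _)
  have : w ∈ ((Finset.univ.filter (fun a : K => a ^ orderOf x = 1) : Finset K) : Set K) := by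
    simp [hw]
  rw [← heq] at this
  exact this

/-- the backward direction of S4082 -/
theorem backward [Finite G] {p : ℕ} [Fact p.Prime] (P : Sylow p G)
    (hcyc : IsCyclic P)
    (hcond : Subgroup.normalizer ((P : Subgroup G) : Set G) =
          Subgroup.centralizer ((P : Subgroup G) : Set G) ∨
       ((Subgroup.centralizer ((P : Subgroup G) : Set G)).relIndex
          (Subgroup.normalizer ((P : Subgroup G) : Set G)) = 2 ∧
        ∀ Q : Subgroup G, Q ≤ P → Nat.card Q = p →
          IsMulCommutative ↥(Subgroup.centralizer (Q : Set G)) ∧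
          ∀ x : G, x ∈ Subgroup.normalizer (Q : Set G) → x ∉ Subgroup.centralizer (Q : Set G) →
            orderOf x = 2 ∧ ∀ c : G, c ∈ Subgroup.centralizer (Q : Set G) →
              x * c * x⁻¹ = c⁻¹))
    (H : Subgroup G) (hH1 : ∀ S : Sylow p ↥H, (S : Subgroup ↥H).Normal)
    (hH2 : ∀ (S : Sylow p ↥H) [(S : Subgroup ↥H).Normal],
      IsCyclic (↥H ⧸ (S : Subgroup ↥H))) :
    IsCyclic H ∨ ∃ n : ℕ, Nonempty (H ≃* DihedralGroup (p ^ n)) := by
  have hpp : p.Prime := Fact.out
  obtain ⟨S⟩ : Nonempty (Sylow p ↥H) := inferInstance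
  haveI hSn := hH1 S
  haveI hSq := hH2 S
  -- conjugate into P
  have hSG : IsPGroup p ((S : Subgroup ↥H).map H.subtype) := S.2.map _
  obtain ⟨P', hP'⟩ := hSG.exists_le_sylow
  obtain ⟨g, rfl⟩ := MulAction.exists_smul_eq G P P'
  have hφP : ∀ x : ↥H, x ∈ (S : Subgroup ↥H) → g⁻¹ * (x : G) * g ∈ (P : Subgroup G) := by
    intro x hx
    have h1 : (x : G) ∈ ((g • P : Sylow p G) : Subgroup G) := hP' ⟨x, hx, rfl⟩
    rw [Sylow.coe_subgroup_smul, Subgroup.mem_pointwise_smul_iff_inv_smul_mem] at h1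
    simpa [MulAut.smul_def] using h1
  haveI hPcyc : IsCyclic ↥(P : Subgroup G) := hcyc
  -- S is cyclic
  haveI hScyc : IsCyclic ↥(S : Subgroup ↥H) := by
    let f : ↥(S : Subgroup ↥H) →* ↥(P : Subgroup G) :=
      { toFun := fun x => ⟨g⁻¹ * ((x : ↥H) : G) * g, hφP x x.2⟩
        map_one' := by apply Subtype.ext; simp
        map_mul' := fun a b => by apply Subtype.ext; simp only [Subgroup.coe_mul]; group }
    have hf : Function.Injective f := by
      intro a b hab
      have h1 := congrArg Subtype.val hab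
      simp only [f, MonoidHom.coe_mk, OneHom.coe_mk] at h1
      have h2 := mul_left_cancel (mul_right_cancel h1)
      exact Subtype.ext (Subtype.ext h2)
    exact isCyclic_of_injective f hf
  obtain ⟨s, hs⟩ := IsCyclic.exists_generator (α := ↥(S : Subgroup ↥H))
  obtain ⟨q, hq⟩ := IsCyclic.exists_generator (α := ↥H ⧸ (S : Subgroup ↥H))
  obtain ⟨y, rfl⟩ := QuotientGroup.mk_surjective q
  have hSpow : ∀ x : ↥H, x ∈ (S : Subgroup ↥H) → ∃ i : ℤ, x = (s : ↥H) ^ i := by
    intro x hx
    obtain ⟨i, hi⟩ := hs ⟨x, hx⟩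
    exact ⟨i, by have := congrArg Subtype.val hi; simpa using this.symm⟩
  have hdecomp : ∀ h : ↥H, ∃ i j : ℤ, h = y ^ j * (s : ↥H) ^ i := by
    intro h
    obtain ⟨j, hj⟩ := hq (QuotientGroup.mk h)
    have h1 : (y ^ j)⁻¹ * h ∈ (S : Subgroup ↥H) := by
      rw [← QuotientGroup.eq]; simpa using hj
    obtain ⟨i, hi⟩ := hSpow _ h1
    exact ⟨i, j, by rw [← hi]; group⟩
  have hcop : (Nat.card (S : Subgroup ↥H)).Coprime (S : Subgroup ↥H).index :=
    S.card_coprime_index
  by_cases hsy : Commute (s : ↥H) y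
  · left
    have hcen : (S : Subgroup ↥H) ≤ Subgroup.center ↥H := by
      intro x hx
      obtain ⟨i, rfl⟩ := hSpow x hx
      rw [Subgroup.mem_center_iff]
      intro h
      obtain ⟨i', j, rfl⟩ := hdecomp h
      have c1 : Commute ((s : ↥H) ^ i) (y ^ j) := hsy.zpow_zpow i j
      have c2 : Commute ((s : ↥H) ^ i) ((s : ↥H) ^ i') := (Commute.refl _).zpow_zpow i i'
      exact ((c1.mul_right c2).eq).symm
    exact isCyclic_of_central_cyclic (S : Subgroup ↥H) hcen hcop
  · right
    have hconjS : ∀ x : ↥H, x ∈ (S : Subgroup ↥H) → y * x * y⁻¹ ∈ (S : Subgroup ↥H) :=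
      fun x hx => hSn.conj_mem x hx y
    rcases hcond with hNC | ⟨-, hQ⟩
    · exfalso
      apply hsy
      haveI : IsMulCommutative ↥P := by
        letI : CommGroup ↥(P : Subgroup G) := IsCyclic.commGroup
        exact ⟨⟨fun a b => mul_comm a b⟩⟩
      obtain ⟨n, hn, hn2⟩ := P.conj_eq_normalizer_conj_of_mem (g⁻¹ * ((s : ↥H) : G) * g)
        (g⁻¹ * (y : G) * g)⁻¹ (hφP s s.2) (by
          have h0 := hφP _ (hconjS s s.2)
          have e : (g⁻¹ * (y : G) * g)⁻¹⁻¹ * (g⁻¹ * ((s : ↥H) : G) * g) * (g⁻¹ * (y : G) * g)⁻¹ =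
              g⁻¹ * ((y * (s : ↥H) * y⁻¹ : ↥H) : G) * g := by
            simp only [Subgroup.coe_mul, Subgroup.coe_inv]; group
          rw [e]; exact h0)
      have hn' : n ∈ Subgroup.centralizer ((P : Subgroup G) : Set G) := by
        rw [← hNC]; exact hn
      have h3 : n⁻¹ * (g⁻¹ * ((s : ↥H) : G) * g) * n = g⁻¹ * ((s : ↥H) : G) * g := by
        have := (Subgroup.mem_centralizer_iff.1 hn') _ (hφP s s.2)
        rw [mul_assoc, this]; group
      rw [h3] at hn2
      have h4 : (y : G) * ((s : ↥H) : G) * (y : G)⁻¹ = ((s : ↥H) : G) := by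
        have : g⁻¹ * ((y : G) * ((s : ↥H) : G) * (y : G)⁻¹) * g = g⁻¹ * ((s : ↥H) : G) * g := by
          rw [← hn2]; group
        exact mul_left_cancel (mul_right_cancel this)
      show (s : ↥H) * y = y * (s : ↥H)
      apply Subtype.ext
      simp only [Subgroup.coe_mul]
      calc ((s : ↥H) : G) * (y : G) = ((y : G) * ((s : ↥H) : G) * (y : G)⁻¹) * (y : G) := by
            rw [h4]
        _ = (y : G) * ((s : ↥H) : G) := by group
    · have hs1 : (s : ↥H) ≠ 1 := fun h => hsy (by rw [h]; exact Commute.one_left y)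
      obtain ⟨k, hk⟩ := (IsPGroup.iff_card).1 S.2
      have hk0 : k ≠ 0 := by
        rintro rfl
        rw [pow_zero] at hk
        haveI : Subsingleton ↥(S : Subgroup ↥H) := (Nat.card_eq_one_iff_unique.1 hk).1
        have : s = 1 := Subsingleton.elim _ _
        exact hs1 (by rw [this]; rfl)
      have hpd : p ∣ Nat.card ↥(S : Subgroup ↥H) := by rw [hk]; exact dvd_pow_self p hk0
      obtain ⟨x₀, hx₀⟩ := exists_prime_orderOf_dvd_card' p hpd
      set φ : G ≃* G := MulAut.conj g⁻¹ with hφdef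
      have hφ : ∀ u, φ u = g⁻¹ * u * g := fun u => by simp [hφdef]
      have hox₀ : orderOf (φ ((x₀ : ↥H) : G)) = p := by
        rw [φ.orderOf_eq, Subgroup.orderOf_coe, Subgroup.orderOf_coe, hx₀]
      obtain ⟨hQcomm, hQinv⟩ := hQ (Subgroup.zpowers (φ ((x₀ : ↥H) : G)))
        (by rw [Subgroup.zpowers_le, hφ]; exact hφP x₀ x₀.2)
        (by rw [Nat.card_zpowers, hox₀])
      have hcomm_in_S : ∀ a b : ↥H, a ∈ (S : Subgroup ↥H) → b ∈ (S : Subgroup ↥H) →
          a * b = b * a := by
        intro a b ha hb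
        obtain ⟨i, rfl⟩ := hSpow a ha
        obtain ⟨j, rfl⟩ := hSpow b hb
        exact ((Commute.refl _).zpow_zpow i j).eq
      have hmemC : ∀ z : G, Commute (φ ((x₀ : ↥H) : G)) z →
          z ∈ Subgroup.centralizer (Subgroup.zpowers (φ ((x₀ : ↥H) : G)) : Set G) := by
        intro z hz
        rw [Subgroup.mem_centralizer_iff]
        rintro _ ⟨k, rfl⟩
        exact (hz.zpow_left k).eq
      have hsC : φ ((s : ↥H) : G) ∈
          Subgroup.centralizer (Subgroup.zpowers (φ ((x₀ : ↥H) : G)) : Set G) := by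
        apply hmemC
        have h1 := hcomm_in_S x₀ s x₀.2 s.2
        have h2 := congrArg (fun z : ↥H => φ (z : G)) h1
        have h3 : φ ((x₀ : ↥H) : G) * φ ((s : ↥H) : G) = φ ((s : ↥H) : G) * φ ((x₀ : ↥H) : G) := by
          simpa using h2
        exact h3
      have hyN : φ (y : G) ∈
          Subgroup.normalizer (Subgroup.zpowers (φ ((x₀ : ↥H) : G)) : Set G) := by
        apply Subgroup.mem_normalizer_fintype
        rintro _ ⟨k, rfl⟩
        have hw : (⟨y * x₀ * y⁻¹, hconjS x₀ x₀.2⟩ : ↥(S : Subgroup ↥H)) ∈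
            Subgroup.zpowers x₀ := by
          apply mem_zpowers_of_pow_eq_one
          rw [hx₀]
          apply Subtype.ext
          have h1 : ((x₀ : ↥H)) ^ p = 1 := by
            have := congrArg Subtype.val (pow_orderOf_eq_one x₀)
            rw [hx₀] at this
            simpa using this
          simp only [Subgroup.coe_pow, Subgroup.coe_one]
          rw [conj_pow, h1]; group
        obtain ⟨j, hj⟩ := hw
        have hj' : φ (y : G) * φ ((x₀ : ↥H) : G) * (φ (y : G))⁻¹ = (φ ((x₀ : ↥H) : G)) ^ j := by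
          have h2 := congrArg (fun z : ↥(S : Subgroup ↥H) => φ ((z : ↥H) : G)) hj
          simp only [Subgroup.coe_zpow, map_zpow, Subgroup.coe_mul, Subgroup.coe_inv, map_mul,
            map_inv] at h2
          exact h2.symm
        refine ⟨j * k, ?_⟩
        show (φ ((x₀ : ↥H) : G)) ^ (j * k) = _
        rw [zpow_mul, ← hj', conj_zpow]
      have hyC : φ (y : G) ∉
          Subgroup.centralizer (Subgroup.zpowers (φ ((x₀ : ↥H) : G)) : Set G) := by
        intro hy
        apply hsy
        have h1 := hQcomm.is_comm.comm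
          (⟨φ ((s : ↥H) : G), hsC⟩ :
            ↥(Subgroup.centralizer (Subgroup.zpowers (φ ((x₀ : ↥H) : G)) : Set G)))
          ⟨φ (y : G), hy⟩
        have h2 := congrArg Subtype.val h1
        show (s : ↥H) * y = y * (s : ↥H)
        apply Subtype.ext
        apply φ.injective
        simpa using h2
      obtain ⟨hoy, hinv⟩ := hQinv (φ (y : G)) hyN hyC
      have hinv_s := hinv (φ ((s : ↥H) : G)) hsC
      have hys : y * (s : ↥H) * y⁻¹ = (s : ↥H)⁻¹ := by
        apply Subtype.ext; apply φ.injective; simpa using hinv_s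
      have hoy' : orderOf y = 2 := by
        rw [← Subgroup.orderOf_coe, ← φ.orderOf_eq]; exact hoy
      have hyy : y * y = 1 := by rw [← pow_two, ← hoy', pow_orderOf_eq_one]
      have hynot : y ∉ Subgroup.zpowers (s : ↥H) := by
        rintro ⟨i, hi⟩
        apply hsy; rw [← hi]; exact (Commute.refl _).zpow_right i
      have hos : orderOf (s : ↥H) = p ^ k := by
        rw [Subgroup.orderOf_coe, orderOf_eq_card_of_forall_mem_zpowers hs, hk]
      have hindex : (S : Subgroup ↥H).index = 2 := by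
        have h1 : orderOf (QuotientGroup.mk y : ↥H ⧸ (S : Subgroup ↥H)) =
            (S : Subgroup ↥H).index := by
          rw [orderOf_eq_card_of_forall_mem_zpowers hq]; rfl
        have h2 : (S : Subgroup ↥H).index ∣ 2 := by
          rw [← h1, ← hoy']; exact orderOf_map_dvd (QuotientGroup.mk' _) y
        rcases (Nat.dvd_prime Nat.prime_two).1 h2 with h | h
        · exfalso
          rw [Subgroup.index_eq_one] at h
          have hyS : y ∈ (S : Subgroup ↥H) := h ▸ Subgroup.mem_top y
          obtain ⟨i, hi⟩ := hSpow y hyS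
          apply hsy; rw [hi]; exact (Commute.refl _).zpow_right i
        · exact h
      have hcard : Nat.card ↥H = 2 * p ^ k := by
        rw [← Subgroup.card_mul_index (S : Subgroup ↥H), hindex, hk, mul_comm]
      exact ⟨k, Cfsg.Agent.Lib.Helper54_TwoGroups.nonempty_mulEquiv_dihedralGroup (p ^ k)
        (s : ↥H) y hos hyy hys hynot hcard⟩

end Cfsg.Agent.Lib.Helper53_PCyc
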