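import Mathlib
import Cfsg.Prelude.Def_Solvable
import Cfsg.Prelude.Def_FusionSystem
import Cfsg.Prelude.Def_KGroupFacts
import Cfsg.Agent.Lib.Helper84_Stability
import Cfsg.Agent.Lib.Helper47_PLocal
import Cfsg.Agent.Lib.Helper1_Frattini
import Cfsg.Agent.Lib.Helper88_SmallEssential
import Cfsg.Agent.S4218

/-!
# Abelian essential subgroups of rank at most two (helper88)

Let `P` be a finite abelian `p`-group with `|P : Φ(P)| ≤ p²` and `A ≤ Aut(P)` with `O_p(A) = 1` and
`p ∣ |A|`.  Then `|P : Φ(P)| = p²`, there is no `A`-invariant subgroup strictly between `Φ(P)` and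
`P`, `Ω_{a-1}(P) = Φ(P)` where `p^a` is the exponent; for `p ≥ 5` the exponent is `p`; in general
`P ≅ C_{p^a} × C_{p^a}`.
-/

set_option autoImplicit false

namespace Cfsg.Agent.Lib.Helper88_AbelianEssential

open Cfsg.Agent.Lib.Helper88_SmallEssential Cfsg.Agent.Lib.Helper84_Stability
open Cfsg.Agent.S4218 (frattiniTrivial mem_frattiniTrivial frattiniTrivial_isPGroup)

section General

variable {P : Type*} [Group P]

/-- For abelian `P` the inner automorphism group is trivial. -/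
theorem inn_eq_bot (hab : ∀ x y : P, x * y = y * x) : Cfsg.Inn P = ⊥ := by
  rw [eq_bot_iff]
  rintro _ ⟨g, rfl⟩
  rw [Subgroup.mem_bot]
  ext x
  rw [MulAut.conj_apply, MulAut.one_apply, hab g x, mul_inv_cancel_right]

/-- If `O_p(A) = Inn(P)` then every normal `p`-subgroup of `A` lies in `Inn(P)`. -/
theorem le_inn_of_normal_pgroup {p : ℕ} {A : Subgroup (MulAut P)}
    (hrad : (Cfsg.pCore p A).map A.subtype = Cfsg.Inn P) {N : Subgroup (MulAut P)}
    (hn : (N.subgroupOf A).Normal) (hNp : IsPGroup p N) : N ⊓ A ≤ Cfsg.Inn P := by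
  intro β hβ
  have hp' : IsPGroup p (N.subgroupOf A) :=
    hNp.comap_of_injective (A.subtype.comp (Subgroup.inclusion le_rfl)) (by
      intro a b h; exact Subtype.ext (by simpa using h)) |>.to_le (by
        intro x hx
        rw [Subgroup.mem_subgroupOf] at hx
        rw [Subgroup.mem_comap]
        simpa using hx)
  have hle := Cfsg.Agent.Lib.Helper47_PLocal.le_pCore hn hp'
  rw [← hrad]
  exact ⟨⟨β, hβ.2⟩, hle (by rw [Subgroup.mem_subgroupOf]; exact hβ.1), rfl⟩

/-- A `p`-power-order automorphism preserving `K ≤ L` with `p ∣ |L : K|` fixes a nontrivial coset. -/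
theorem exists_fixed_coset [Finite P] {p : ℕ} [Fact p.Prime] {K L : Subgroup P}
    (hidx : p ∣ K.relIndex L) {α : MulAut P} (hα : α ∈ stabSub K L) {k : ℕ}
    (hpow : α ^ (p ^ k) = 1) : ∃ x ∈ L, x ∉ K ∧ x⁻¹ * α x ∈ K := by
  classical
  have hp : p.Prime := Fact.out
  have : Fintype (↥L ⧸ K.subgroupOf L) := Fintype.ofFinite _
  let f : Function.End (↥L ⧸ K.subgroupOf L) := cosetMap K L ⟨α, hα⟩
  have hf : f ^ p ^ k = 1 := by
    have h1 : (⟨α, hα⟩ : stabSub K L) ^ (p ^ k) = 1 := Subtype.ext hpow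
    have h2 := cosetMap_pow K L ⟨α, hα⟩ (p ^ k)
    rw [h1, cosetMap_one] at h2
    have h3 : ((f ^ p ^ k : Function.End (↥L ⧸ K.subgroupOf L)) : (↥L ⧸ K.subgroupOf L) → _) = f^[p ^ k] :=
      hom_coe_pow (fun g : Function.End (↥L ⧸ K.subgroupOf L) ↦ g) rfl (fun g h ↦ rfl) f (p ^ k)
    exact h3.trans h2.symm
  have hmod := Equiv.Perm.card_fixedPoints_modEq (p := p) (n := k) hf
  have hcard : Fintype.card (↥L ⧸ K.subgroupOf L) = K.relIndex L := by
    rw [← Nat.card_eq_fintype_card, ← Subgroup.index_eq_card]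
    rfl
  have hdvd : p ∣ Fintype.card (Function.fixedPoints f) := by
    rw [hcard] at hmod
    exact (Nat.modEq_zero_iff_dvd).1 (hmod.symm.trans ((Nat.modEq_zero_iff_dvd).2 hidx))
  have h1 : (QuotientGroup.mk (1 : L) : ↥L ⧸ K.subgroupOf L) ∈ Function.fixedPoints f := by
    show f _ = _
    show cosetMap K L ⟨α, hα⟩ (QuotientGroup.mk (1 : L)) = _
    rw [cosetMap_mk]
    congr 1
    exact Subtype.ext (map_one α)
  have hpos : 0 < Fintype.card (Function.fixedPoints f) := Fintype.card_pos_iff.2 ⟨⟨_, h1⟩⟩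
  have hle : 2 ≤ Fintype.card (Function.fixedPoints f) :=
    le_trans hp.two_le (Nat.le_of_dvd hpos hdvd)
  have hone : 1 < Fintype.card (Function.fixedPoints f) := hle
  rw [Fintype.one_lt_card_iff_nontrivial] at hone
  obtain ⟨⟨q, hq⟩, hne⟩ := exists_ne (⟨_, h1⟩ : Function.fixedPoints f)
  induction q using QuotientGroup.induction_on with
  | H x =>
    refine ⟨x, x.2, ?_, ?_⟩
    · intro hxK
      apply hne
      apply Subtype.ext
      show (QuotientGroup.mk x : ↥L ⧸ K.subgroupOf L) = QuotientGroup.mk (1 : L)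
      rw [QuotientGroup.eq]
      rw [Subgroup.mem_subgroupOf]
      simpa using hxK
    · have h3 : cosetMap K L ⟨α, hα⟩ (QuotientGroup.mk x) = QuotientGroup.mk x := hq
      rw [cosetMap_mk] at h3
      have h4 := QuotientGroup.eq.1 h3.symm
      rw [Subgroup.mem_subgroupOf] at h4
      simpa using h4

end General

section AddCore

variable {M : Type*} [AddCommGroup M]

/-- `p M`. -/
def pmul (p : ℕ) (M : Type*) [AddCommGroup M] : AddSubgroup M := (nsmulAddMonoidHom p : M →+ M).range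

theorem mem_pmul {p : ℕ} {x : M} : x ∈ pmul p M ↔ ∃ y : M, p • y = x := Iff.rfl

theorem pmul_map {p : ℕ} (f : M →+ M) {x : M} (hx : x ∈ pmul p M) : f x ∈ pmul p M := by
  obtain ⟨y, rfl⟩ := mem_pmul.1 hx
  exact mem_pmul.2 ⟨f y, by rw [map_nsmul]⟩

theorem pow_mem_pmul {p : ℕ} (f : AddMonoid.End M) (k : ℕ) {x : M} (hx : x ∈ pmul p M) :
    (f ^ k) x ∈ pmul p M := pmul_map (f ^ k) hx

theorem nsmul_mem_pmul_sq {p : ℕ} {x : M} (hx : x ∈ pmul p M) : p • x ∈ pmul (p * p) M := by
  obtain ⟨y, rfl⟩ := mem_pmul.1 hx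
  exact mem_pmul.2 ⟨y, by rw [mul_nsmul]⟩

theorem end_sum_apply (s : Finset ℕ) (f : ℕ → AddMonoid.End M) (x : M) :
    (∑ k ∈ s, f k) x = ∑ k ∈ s, f k x :=
  AddMonoidHom.finsetSum_apply f s x

/-- binomial expansion of `b^p` applied to `x`, with `n = b - 1`. -/
theorem pow_apply_eq_sum (b : AddMonoid.End M) (p : ℕ) (x : M) :
    (b ^ p) x = ∑ k ∈ Finset.range (p + 1), (p.choose k) • ((b - 1) ^ k) x := by
  have h1 : b = (b - 1) + 1 := by abel
  have h2 : b ^ p = ∑ k ∈ Finset.range (p + 1), ((b - 1) ^ k * 1 ^ (p - k) * (p.choose k : AddMonoid.End M)) := by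
    conv_lhs => rw [h1]
    exact (Commute.one_right (b - 1)).add_pow p
  rw [h2, end_sum_apply]
  apply Finset.sum_congr rfl
  intro k _
  rw [one_pow, mul_one]
  show ((b - 1) ^ k) ((p.choose k : AddMonoid.End M) x) = _
  rw [AddMonoid.End.natCast_apply, map_nsmul]

/-- pow splitting: `(n^(k+2)) x = (n^k) (n (n x))`. -/
theorem pow_add_two_apply (n : AddMonoid.End M) (k : ℕ) (x : M) :
    (n ^ (k + 2)) x = (n ^ k) (n (n x)) := by
  rw [pow_add, pow_two]
  rfl

/-- **Additive core 1.** If `n = b - 1` maps `M` into `L` and `L` into `pM`, then `b^p ≡ 1` mod `pM`. -/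
theorem pow_prime_sub_mem {p : ℕ} (b : AddMonoid.End M) (L : AddSubgroup M)
    (h1 : ∀ x, (b - 1) x ∈ L) (h2 : ∀ x ∈ L, (b - 1) x ∈ pmul p M) (hp : 1 ≤ p) (x : M) :
    (b ^ p) x - x ∈ pmul p M := by
  obtain ⟨q, rfl⟩ : ∃ q, p = q + 1 := ⟨p - 1, by omega⟩
  rw [pow_apply_eq_sum, Finset.sum_range_succ', Finset.sum_range_succ']
  simp only [Nat.choose_zero_right, pow_zero, one_smul, Nat.choose_one_right, pow_one, zero_add]
  have e : ((1 : AddMonoid.End M)) x = x := rfl
  rw [e, add_sub_cancel_right]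
  apply (pmul (q + 1) M).add_mem
  · apply AddSubgroup.sum_mem
    intro k _
    apply AddSubgroup.nsmul_mem
    rw [pow_add_two_apply]
    exact pow_mem_pmul _ _ (h2 _ (h1 x))
  · exact mem_pmul.2 ⟨_, rfl⟩

/-- **Additive core 2.** `p ≥ 5`, `b^p = 1`, `n = b - 1` with `n² M ⊆ pM` and `Ω₁(M) ⊆ pM`:
then `n M ⊆ pM`. -/
theorem sub_one_mem_pmul_of_pow_eq_one {p : ℕ} (hp : p.Prime) (hp5 : 5 ≤ p) (b : AddMonoid.End M)
    (hb : b ^ p = 1) (h2 : ∀ x, (b - 1) ((b - 1) x) ∈ pmul p M)
    (hΩ : ∀ x : M, p • x = 0 → x ∈ pmul p M) (x : M) : (b - 1) x ∈ pmul p M := by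
  obtain ⟨q, rfl⟩ : ∃ q, p = q + 2 := ⟨p - 2, by omega⟩
  have hq : 3 ≤ q := by omega
  have hx : (b ^ (q + 2)) x = x := by rw [hb]; rfl
  rw [pow_apply_eq_sum, Finset.sum_range_succ', Finset.sum_range_succ'] at hx
  simp only [Nat.choose_zero_right, pow_zero, one_smul, Nat.choose_one_right, pow_one, zero_add] at hx
  have e : ((1 : AddMonoid.End M)) x = x := rfl
  rw [e, add_eq_right] at hx
  -- the sum lies in `p² M`
  have hS : ∑ k ∈ Finset.range (q + 1), ((q + 2).choose (k + 1 + 1)) • ((b - 1) ^ (k + 1 + 1)) x ∈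
      pmul ((q + 2) * (q + 2)) M := by
    apply AddSubgroup.sum_mem
    intro k hk
    rw [Finset.mem_range] at hk
    have hmem : ((b - 1) ^ (k + 1 + 1)) x ∈ pmul (q + 2) M := by
      rw [show k + 1 + 1 = k + 2 by ring, pow_add_two_apply]
      exact pow_mem_pmul _ _ (h2 x)
    by_cases hkq : k = q
    · subst hkq
      rw [show k + 1 + 1 = k + 2 by ring, Nat.choose_self, one_smul]
      obtain ⟨r, rfl⟩ : ∃ r, k = r + 2 := ⟨k - 2, by omega⟩
      rw [pow_add_two_apply, pow_add_two_apply]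
      obtain ⟨y, hy⟩ := mem_pmul.1 (h2 x)
      rw [← hy, map_nsmul, map_nsmul]
      have h3 := nsmul_mem_pmul_sq (h2 y)
      exact pmul_map ((b - 1) ^ r) h3
    · have hdvd : (q + 2) ∣ (q + 2).choose (k + 1 + 1) :=
        hp.dvd_choose_self (by omega) (by omega)
      obtain ⟨c, hc⟩ := hdvd
      rw [hc, mul_comm, mul_nsmul]
      exact AddSubgroup.nsmul_mem _ (nsmul_mem_pmul_sq hmem) c
  obtain ⟨y, hy⟩ := mem_pmul.1 hS
  rw [← hy] at hx
  have h4 : (q + 2) • ((b - 1) x + (q + 2) • y) = 0 := by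
    rw [nsmul_add, ← mul_nsmul, add_comm]
    exact hx
  have h5 := hΩ _ h4
  have h6 : (b - 1) x = ((b - 1) x + (q + 2) • y) - (q + 2) • y := by abel
  rw [h6]
  exact (pmul (q + 2) M).sub_mem h5 (mem_pmul.2 ⟨y, rfl⟩)

end AddCore

section MulCore

variable {P : Type*} [CommGroup P]

/-- `℧¹(P)`: the subgroup of `p`-th powers. -/
def powSub (p : ℕ) (P : Type*) [CommGroup P] : Subgroup P := (powMonoidHom p : P →* P).range

theorem mem_powSub {p : ℕ} {x : P} : x ∈ powSub p P ↔ ∃ y : P, y ^ p = x := Iff.rfl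

/-- The additive endomorphism attached to an automorphism. -/
def toAddEnd (β : MulAut P) : AddMonoid.End (Additive P) := MonoidHom.toAdditive (β : P →* P)

theorem toAddEnd_apply (β : MulAut P) (x : Additive P) :
    toAddEnd β x = Additive.ofMul (β (Additive.toMul x)) := rfl

theorem toAddEnd_one : toAddEnd (1 : MulAut P) = 1 := rfl

theorem toAddEnd_mul (β γ : MulAut P) : toAddEnd (β * γ) = toAddEnd β * toAddEnd γ := rfl

theorem toAddEnd_pow (β : MulAut P) (k : ℕ) : toAddEnd (β ^ k) = toAddEnd β ^ k := by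
  induction k with
  | zero => rfl
  | succ k ih => rw [pow_succ, pow_succ, toAddEnd_mul, ih]

theorem toAddEnd_sub_one_apply (β : MulAut P) (x : Additive P) :
    (toAddEnd β - 1) x = Additive.ofMul ((Additive.toMul x)⁻¹ * β (Additive.toMul x)) := by
  show toAddEnd β x - x = _
  rw [toAddEnd_apply, sub_eq_neg_add]
  rfl

theorem mem_pmul_iff {p : ℕ} {x : Additive P} : x ∈ pmul p (Additive P) ↔ Additive.toMul x ∈ powSub p P := by
  rw [mem_pmul, mem_powSub]
  constructor
  · rintro ⟨y, rfl⟩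
    exact ⟨Additive.toMul y, rfl⟩
  · rintro ⟨y, hy⟩
    exact ⟨Additive.ofMul y, by rw [← ofMul_pow, hy]; rfl⟩

/-- **Multiplicative core 1.** -/
theorem pow_prime_apply_mul_inv_mem {p : ℕ} (hp : 1 ≤ p) (β : MulAut P) (L : Subgroup P)
    (h1 : ∀ x, x⁻¹ * β x ∈ L) (h2 : ∀ x ∈ L, x⁻¹ * β x ∈ powSub p P) (x : P) :
    (β ^ p) x * x⁻¹ ∈ powSub p P := by
  have := pow_prime_sub_mem (p := p) (toAddEnd β) (Subgroup.toAddSubgroup L)
    (fun y => by rw [toAddEnd_sub_one_apply]; exact h1 _)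
    (fun y hy => by rw [toAddEnd_sub_one_apply, mem_pmul_iff]; exact h2 _ hy) hp (Additive.ofMul x)
  rw [mem_pmul_iff, ← toAddEnd_pow, toAddEnd_apply] at this
  simpa [sub_eq_add_neg] using this

/-- **Multiplicative core 2.** -/
theorem inv_mul_apply_mem_powSub {p : ℕ} (hp : p.Prime) (hp5 : 5 ≤ p) (β : MulAut P)
    (hβ : β ^ p = 1) (h2 : ∀ x, (x⁻¹ * β x)⁻¹ * β (x⁻¹ * β x) ∈ powSub p P)
    (hΩ : ∀ x : P, x ^ p = 1 → x ∈ powSub p P) (x : P) : x⁻¹ * β x ∈ powSub p P := by
  have := sub_one_mem_pmul_of_pow_eq_one hp hp5 (toAddEnd β)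
    (by rw [← toAddEnd_pow, hβ, toAddEnd_one])
    (fun y => by
      rw [toAddEnd_sub_one_apply, toAddEnd_sub_one_apply, mem_pmul_iff]; exact h2 _)
    (fun y hy => by
      rw [mem_pmul_iff]
      apply hΩ
      have : Additive.toMul (p • y) = 1 := by rw [hy]; rfl
      rwa [toMul_nsmul] at this) (Additive.ofMul x)
  rw [toAddEnd_sub_one_apply, mem_pmul_iff] at this
  exact this

end MulCore

section Main

variable {P : Type*} [CommGroup P]

/-- In a finite abelian `p`-group the Frattini subgroup is the subgroup of `p`-th powers. -/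
theorem frattini_eq_powSub [Finite P] {p : ℕ} [Fact p.Prime] (hP : IsPGroup p P) :
    frattini P = powSub p P := by
  apply le_antisymm
  · apply Cfsg.Agent.Lib.Helper1_Frattini.frattini_le_of_elementary_quotient (p := p)
    · rw [commutator_def, Subgroup.commutator_le]
      intro x _ y _
      rw [commutatorElement_def, mul_comm x y, mul_inv_cancel_right, mul_inv_cancel]
      exact Subgroup.one_mem _
    · intro x
      exact ⟨x, rfl⟩
  · rintro _ ⟨y, rfl⟩
    exact Cfsg.Agent.Lib.Helper1_Frattini.pow_mem_frattini_of_isPGroup hP y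

/-- The data extracted from an essential subgroup with abelian `P`. -/
structure EssData (p : ℕ) (A : Subgroup (MulAut P)) : Prop where
  np : ∀ N : Subgroup (MulAut P), N ≤ A → (N.subgroupOf A).Normal → IsPGroup p N → N = ⊥
  ex : ∃ α ∈ A, orderOf α = p

theorem EssData.ft [Finite P] {p : ℕ} [Fact p.Prime] (hP : IsPGroup p P) {A : Subgroup (MulAut P)}
    (D : EssData p A) {β : MulAut P} (hβ : β ∈ A) (hft : β ∈ frattiniTrivial P) : β = 1 := by
  have h := D.np (frattiniTrivial P ⊓ A) inf_le_right ?_ ?_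
  · have : β ∈ frattiniTrivial P ⊓ A := ⟨hft, hβ⟩
    rw [h, Subgroup.mem_bot] at this
    exact this
  · constructor
    intro a ha b
    rw [Subgroup.mem_subgroupOf] at ha ⊢
    refine ⟨?_, (b * a * b⁻¹).2⟩
    have hn : (frattiniTrivial P).Normal := inferInstance
    exact hn.conj_mem _ ha.1 b
  · exact (frattiniTrivial_isPGroup p hP).to_le inf_le_left

theorem frattiniTrivial_of_inv_mul {β : MulAut P} (h : ∀ x, x⁻¹ * β x ∈ frattini P) :
    β ∈ frattiniTrivial P := by
  rw [mem_frattiniTrivial]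
  intro y
  rw [mul_comm]
  exact h y

theorem stabSub_of_char {K L : Subgroup P} {A : Subgroup (MulAut P)}
    (hK : ∀ β ∈ A, ∀ x ∈ K, β x ∈ K) (hL : ∀ β ∈ A, ∀ x ∈ L, β x ∈ L) {β : MulAut P} (hβ : β ∈ A) :
    β ∈ stabSub K L := by
  have key : ∀ (X : Subgroup P), (∀ γ ∈ A, ∀ x ∈ X, γ x ∈ X) → ∀ x, β x ∈ X ↔ x ∈ X := by
    intro X hX x
    constructor
    · intro h
      have := hX β⁻¹ (A.inv_mem hβ) _ h
      rwa [MulAut.inv_apply_self] at this
    · exact hX β hβ x
  exact ⟨key K hK, key L hL⟩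

theorem frattini_char (β : MulAut P) {x : P} (hx : x ∈ frattini P) : β x ∈ frattini P := by
  have hchar : (frattini P).map β.toMonoidHom = frattini P :=
    Subgroup.characteristic_iff_map_eq.mp frattini_characteristic β
  rw [← hchar]
  exact ⟨x, hx, rfl⟩

/-- Step 1: the Frattini quotient has order exactly `p²`. -/
theorem index_frattini_eq [Finite P] {p : ℕ} [Fact p.Prime] (hP : IsPGroup p P)
    {A : Subgroup (MulAut P)} (D : EssData p A) (hidx : (frattini P).index ≤ p ^ 2) :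
    (frattini P).index = p ^ 2 := by
  have hp : p.Prime := Fact.out
  obtain ⟨α, hαA, hαo⟩ := D.ex
  have hα1 : α ≠ 1 := by
    intro h
    rw [h, orderOf_one] at hαo
    exact hp.one_lt.ne' hαo.symm
  have hαp : α ^ (p ^ 1) = 1 := by rw [pow_one, ← hαo, pow_orderOf_eq_one]
  obtain ⟨n, hn⟩ := IsPGroup.iff_card.mp hP
  have hdvd : (frattini P).index ∣ p ^ n := by rw [← hn]; exact Subgroup.index_dvd_card _
  obtain ⟨i, -, hi⟩ := (Nat.dvd_prime_pow hp).1 hdvd
  have hi2 : i ≤ 2 := by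
    rw [hi] at hidx
    exact (Nat.pow_le_pow_iff_right hp.one_lt).1 hidx
  have hst : α ∈ stabSub (frattini P) ⊤ :=
    stabSub_of_char (A := A) (fun β _ x hx => frattini_char β hx) (fun _ _ _ _ => Subgroup.mem_top _) hαA
  rcases Nat.lt_or_ge i 2 with hlt | hge
  · exfalso
    apply hα1
    apply D.ft hP hαA
    apply frattiniTrivial_of_inv_mul
    intro x
    rcases Nat.lt_or_ge i 1 with h0 | h1
    · have : i = 0 := by omega
      rw [this, pow_zero, Subgroup.index_eq_one] at hi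
      rw [hi]
      exact Subgroup.mem_top _
    · have : i = 1 := by omega
      rw [this, pow_one] at hi
      exact inv_mul_apply_mem_of_pow_eq_one (K := frattini P) (L := ⊤)
        (by rw [Subgroup.relIndex_top_right]; exact hi) hst hαp (Subgroup.mem_top x)
  · have : i = 2 := by omega
    rw [hi, this]

/-- The chain `Φ ≤ M ≤ ⊤ ≤ ⊤ ≤ ...`. -/
def chainM (M : Subgroup P) : ℕ → Subgroup P
  | 0 => frattini P
  | 1 => M
  | _ => ⊤

/-- Step 2: no `A`-invariant subgroup strictly between `Φ(P)` and `P`. -/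
theorem no_intermediate [Finite P] {p : ℕ} [Fact p.Prime] (hP : IsPGroup p P)
    {A : Subgroup (MulAut P)} (D : EssData p A) (hidx : (frattini P).index = p ^ 2)
    (M : Subgroup P) (hΦM : frattini P < M) (hM : M < ⊤)
    (hinv : ∀ β ∈ A, ∀ x ∈ M, β x ∈ M) : False := by
  have hp : p.Prime := Fact.out
  obtain ⟨α, hαA, hαo⟩ := D.ex
  have hα1 : α ≠ 1 := by
    intro h
    rw [h, orderOf_one] at hαo
    exact hp.one_lt.ne' hαo.symm
  have hαp : α ^ (p ^ 1) = 1 := by rw [pow_one, ← hαo, pow_orderOf_eq_one]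
  -- both indices are `p`
  have hmul := Subgroup.relIndex_mul_index hΦM.le
  rw [hidx] at hmul
  have h1 : (frattini P).relIndex M ≠ 1 := by
    intro h
    rw [Subgroup.relIndex_eq_one] at h
    exact (not_le_of_gt hΦM) h
  have h2 : M.index ≠ 1 := by
    intro h
    rw [Subgroup.index_eq_one] at h
    exact hM.ne h
  have hboth : (frattini P).relIndex M = p ∧ M.index = p := by
    have hd1 : (frattini P).relIndex M ∣ p ^ 2 := Dvd.intro _ hmul
    obtain ⟨i, hi2, hi⟩ := (Nat.dvd_prime_pow hp).1 hd1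
    have hd2 : M.index ∣ p ^ 2 := Dvd.intro_left _ hmul
    obtain ⟨j, hj2, hj⟩ := (Nat.dvd_prime_pow hp).1 hd2
    rw [hi, hj, ← pow_add] at hmul
    have hij : i + j = 2 := Nat.pow_right_injective hp.two_le hmul
    have hi0 : i ≠ 0 := by rintro rfl; exact h1 (by rw [hi, pow_zero])
    have hj0 : j ≠ 0 := by rintro rfl; exact h2 (by rw [hj, pow_zero])
    have hi1 : i = 1 := by omega
    have hj1 : j = 1 := by omega
    rw [hi, hj, hi1, hj1, pow_one]
    exact ⟨rfl, rfl⟩
  have hmono : ∀ j, chainM M j ≤ chainM M (j + 1) := by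
    intro j
    rcases j with _ | _ | j
    · exact hΦM.le
    · exact le_top
    · exact le_rfl
  have hidx' : ∀ j, (chainM M j).relIndex (chainM M (j + 1)) = p ∨ chainM M (j + 1) ≤ chainM M j := by
    intro j
    rcases j with _ | _ | j
    · left; exact hboth.1
    · left
      show M.relIndex ⊤ = p
      rw [Subgroup.relIndex_top_right]; exact hboth.2
    · right; exact le_rfl
  have hinvc : ∀ β ∈ A, ∀ j, ∀ x ∈ chainM M j, β x ∈ chainM M j := by
    intro β hβ j x hx
    rcases j with _ | _ | j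
    · exact frattini_char β hx
    · exact hinv β hβ x hx
    · exact Subgroup.mem_top _
  have hinv' : ∀ β ∈ A, ∀ j x, β x ∈ chainM M j ↔ x ∈ chainM M j := by
    intro β hβ j x
    constructor
    · intro h
      have := hinvc β⁻¹ (A.inv_mem hβ) j _ h
      rwa [MulAut.inv_apply_self] at this
    · exact hinvc β hβ j x
  -- the stability group is a normal `p`-subgroup
  have hTn : ((stabilityGroup (chainM M) hmono A).subgroupOf A).Normal :=
    stabilityGroup_normal hmono A hinvc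
  have hTp : IsPGroup p (stabilityGroup (chainM M) hmono A) := by
    rintro ⟨β, hβA, hβ⟩
    refine ⟨1, Subtype.ext ?_⟩
    show β ^ p ^ 1 = 1
    rw [pow_one]
    apply D.ft hP (A.pow_mem hβA p)
    rw [mem_frattiniTrivial]
    intro y
    rw [frattini_eq_powSub hP]
    apply pow_prime_apply_mul_inv_mem hp.one_lt.le β M
    · intro x
      exact hβ 1 x (Subgroup.mem_top x)
    · intro x hx
      rw [← frattini_eq_powSub hP]
      exact hβ 0 x hx
  have hT := D.np _ (stabilityGroup_le _ hmono A) hTn hTp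
  have hαT : α ∈ stabilityGroup (chainM M) hmono A :=
    ⟨hαA, stabilizes_of_pow_eq_one hidx' (hinv' α hαA) hαp⟩
  rw [hT, Subgroup.mem_bot] at hαT
  exact hα1 hαT

/-- Step 3: the exponent `p^(a'+1)` and `Ω_{a'}(P) ≤ Φ(P)`. -/
theorem exists_exponent [Finite P] {p : ℕ} [Fact p.Prime] (hP : IsPGroup p P)
    {A : Subgroup (MulAut P)} (D : EssData p A) (hidx : (frattini P).index = p ^ 2) :
    ∃ a' : ℕ, (∀ x : P, x ^ (p ^ (a' + 1)) = 1) ∧ ∀ x : P, x ^ (p ^ a') = 1 → x ∈ frattini P := by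
  classical
  have hp : p.Prime := Fact.out
  obtain ⟨n, hn⟩ := IsPGroup.iff_card.mp hP
  have hex : ∃ a : ℕ, ∀ x : P, x ^ (p ^ a) = 1 := ⟨n, fun x => by rw [← hn]; exact pow_card_eq_one'⟩
  have ha0 : Nat.find hex ≠ 0 := by
    intro h0
    have h1 := Nat.find_spec hex
    rw [h0, pow_zero] at h1
    have htop : frattini P = ⊤ := by
      rw [eq_top_iff]
      intro x _
      have := h1 x
      rw [pow_one] at this
      rw [this]
      exact Subgroup.one_mem _
    rw [htop, Subgroup.index_top] at hidx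
    have : 1 < p ^ 2 := Nat.one_lt_pow (by norm_num) hp.one_lt
    omega
  obtain ⟨a', ha'⟩ := Nat.exists_eq_succ_of_ne_zero ha0
  refine ⟨a', ?_, ?_⟩
  · have := Nat.find_spec hex
    rwa [ha'] at this
  · have hmin : ¬ ∀ x : P, x ^ (p ^ a') = 1 := Nat.find_min hex (by omega)
    have hall : ∀ x : P, x ^ (p ^ (a' + 1)) = 1 := by
      have := Nat.find_spec hex
      rwa [ha'] at this
    set M : Subgroup P := (powMonoidHom (p ^ a') : P →* P).ker with hM
    have hmemM : ∀ x, x ∈ M ↔ x ^ (p ^ a') = 1 := fun x => by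
      rw [hM, MonoidHom.mem_ker]; rfl
    have hΦM : frattini P ≤ M := by
      rw [frattini_eq_powSub hP]
      rintro _ ⟨y, rfl⟩
      rw [hmemM]
      show (y ^ p) ^ (p ^ a') = 1
      rw [← pow_mul, ← pow_succ']
      exact hall y
    have hMtop : M ≠ ⊤ := by
      intro h
      apply hmin
      intro x
      rw [← hmemM, h]
      exact Subgroup.mem_top x
    have hchar : ∀ β ∈ A, ∀ x ∈ M, β x ∈ M := by
      intro β _ x hx
      rw [hmemM] at hx ⊢
      rw [← map_pow, hx, map_one]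
    by_cases heq : frattini P = M
    · intro x hx
      rw [heq, hmemM]
      exact hx
    · exfalso
      exact no_intermediate hP D hidx M (lt_of_le_of_ne hΦM heq) (lt_of_le_of_ne le_top hMtop) hchar

/-- Step 4: exponent `p` gives order `p²`. -/
theorem card_eq_of_exponent_p [Finite P] {p : ℕ} [Fact p.Prime] (hP : IsPGroup p P)
    (hidx : (frattini P).index = p ^ 2) (hexp : ∀ x : P, x ^ p = 1) : Nat.card P = p ^ 2 := by
  have hbot : frattini P = ⊥ := by
    rw [frattini_eq_powSub hP, eq_bot_iff]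
    rintro _ ⟨y, rfl⟩
    rw [Subgroup.mem_bot]
    exact hexp y
  rw [hbot, Subgroup.index_bot] at hidx
  exact hidx

/-- Step 5: for `p ≥ 5` the exponent is `p`. -/
theorem false_of_five_le [Finite P] {p : ℕ} [Fact p.Prime] (hP : IsPGroup p P)
    {A : Subgroup (MulAut P)} (D : EssData p A) (hidx : (frattini P).index = p ^ 2)
    (hp5 : 5 ≤ p) {a' : ℕ} (ha' : 1 ≤ a')
    (hstar : ∀ x : P, x ^ (p ^ a') = 1 → x ∈ frattini P) : False := by
  have hp : p.Prime := Fact.out
  obtain ⟨α, hαA, hαo⟩ := D.ex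
  have hα1 : α ≠ 1 := by
    intro h
    rw [h, orderOf_one] at hαo
    exact hp.one_lt.ne' hαo.symm
  have hαp' : α ^ p = 1 := by rw [← hαo, pow_orderOf_eq_one]
  have hαp : α ^ (p ^ 1) = 1 := by rw [pow_one, hαp']
  -- `L = {x | x⁻¹ α(x) ∈ Φ}`
  let L : Subgroup P :=
    { carrier := {x | x⁻¹ * α x ∈ frattini P}
      one_mem' := by simp
      mul_mem' := by
        intro a b ha hb
        have := (frattini P).mul_mem ha hb
        have e : (a * b)⁻¹ * α (a * b) = a⁻¹ * α a * (b⁻¹ * α b) := by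
          rw [map_mul, mul_inv]
          exact mul_mul_mul_comm _ _ _ _
        show (a * b)⁻¹ * α (a * b) ∈ frattini P
        rw [e]; exact this
      inv_mem' := by
        intro a ha
        have := (frattini P).inv_mem ha
        show (a⁻¹)⁻¹ * α a⁻¹ ∈ frattini P
        rw [map_inv, ← mul_inv]
        exact this }
  have hmemL : ∀ x, x ∈ L ↔ x⁻¹ * α x ∈ frattini P := fun _ => Iff.rfl
  have hΦL : frattini P ≤ L := by
    intro x hx
    rw [hmemL]
    exact (frattini P).mul_mem ((frattini P).inv_mem hx) (frattini_char α hx)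
  have hst : α ∈ stabSub (frattini P) ⊤ :=
    stabSub_of_char (A := A) (fun β _ x hx => frattini_char β hx) (fun _ _ _ _ => Subgroup.mem_top _) hαA
  have hLtop : L ≠ ⊤ := by
    intro h
    apply hα1
    apply D.ft hP hαA
    apply frattiniTrivial_of_inv_mul
    intro x
    rw [← hmemL, h]
    exact Subgroup.mem_top x
  have hLΦ : frattini P ≠ L := by
    intro h
    obtain ⟨x, -, hxΦ, hx⟩ := exists_fixed_coset (p := p) (K := frattini P) (L := ⊤)
      (by rw [Subgroup.relIndex_top_right, hidx]; exact dvd_pow_self p (by norm_num)) hst hαp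
    apply hxΦ
    rw [h, hmemL]
    exact hx
  -- `L` has index `p`
  have hmul := Subgroup.relIndex_mul_index hΦL
  rw [hidx] at hmul
  have hLidx : L.index = p := by
    have hd1 : (frattini P).relIndex L ∣ p ^ 2 := Dvd.intro _ hmul
    obtain ⟨i, hi2, hi⟩ := (Nat.dvd_prime_pow hp).1 hd1
    have hd2 : L.index ∣ p ^ 2 := Dvd.intro_left _ hmul
    obtain ⟨j, hj2, hj⟩ := (Nat.dvd_prime_pow hp).1 hd2
    rw [hi, hj, ← pow_add] at hmul
    have hij : i + j = 2 := Nat.pow_right_injective hp.two_le hmul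
    have hi0 : i ≠ 0 := by
      rintro rfl
      rw [pow_zero, Subgroup.relIndex_eq_one] at hi
      exact hLΦ (le_antisymm hΦL hi)
    have hj0 : j ≠ 0 := by
      rintro rfl
      rw [pow_zero, Subgroup.index_eq_one] at hj
      exact hLtop hj
    have hj1 : j = 1 := by omega
    rw [hj, hj1, pow_one]
  have hLinv : ∀ x, α x ∈ L ↔ x ∈ L := by
    intro x
    rw [hmemL, hmemL]
    have e : (α x)⁻¹ * α (α x) = α (x⁻¹ * α x) := by rw [map_mul, map_inv]
    rw [e]
    constructor
    · intro h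
      have := frattini_char α⁻¹ h
      rwa [MulAut.inv_apply_self] at this
    · exact frattini_char α
  have hstL : α ∈ stabSub L ⊤ := ⟨hLinv, fun _ => ⟨fun _ => Subgroup.mem_top _, fun _ => Subgroup.mem_top _⟩⟩
  have hNL : ∀ x : P, x⁻¹ * α x ∈ L := fun x =>
    inv_mul_apply_mem_of_pow_eq_one (K := L) (L := ⊤)
      (by rw [Subgroup.relIndex_top_right]; exact hLidx) hstL hαp (Subgroup.mem_top x)
  -- apply the core computation
  apply hα1
  apply D.ft hP hαA
  apply frattiniTrivial_of_inv_mul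
  intro x
  rw [frattini_eq_powSub hP]
  apply inv_mul_apply_mem_powSub hp hp5 α hαp'
  · intro y
    rw [← frattini_eq_powSub hP]
    exact (hmemL _).1 (hNL y)
  · intro y hy
    rw [← frattini_eq_powSub hP]
    apply hstar
    obtain ⟨b, rfl⟩ : ∃ b, a' = b + 1 := ⟨a' - 1, by omega⟩
    rw [pow_succ', pow_mul, hy, one_pow]

end Main

section Homocyclic

variable {P : Type*} [CommGroup P]

/-- The homomorphism `ZMod n → P`, `i ↦ x^i`, for `x^n = 1`. -/
noncomputable def zmodHom (n : ℕ) (x : P) (hx : x ^ n = 1) : ZMod n →+ Additive P :=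
  ZMod.lift n ⟨zmultiplesHom (Additive P) (Additive.ofMul x), by
    rw [zmultiplesHom_apply, natCast_zsmul, ← ofMul_pow, hx]; rfl⟩

theorem zmodHom_natCast (n : ℕ) (x : P) (hx : x ^ n = 1) (k : ℕ) :
    zmodHom n x hx (k : ZMod n) = Additive.ofMul (x ^ k) := by
  have h := ZMod.lift_coe n (⟨zmultiplesHom (Additive P) (Additive.ofMul x), by
    rw [zmultiplesHom_apply, natCast_zsmul, ← ofMul_pow, hx]; rfl⟩ :
      {f : ℤ →+ Additive P // f n = 0}) (k : ℤ)
  rw [Int.cast_natCast] at h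
  show ZMod.lift n _ (k : ZMod n) = _
  rw [h]
  show zmultiplesHom (Additive P) (Additive.ofMul x) (k : ℤ) = _
  rw [zmultiplesHom_apply, natCast_zsmul, ← ofMul_pow]

/-- Generators independent modulo `Φ(P)`. -/
theorem exists_independent_generators [Finite P] {p : ℕ} [Fact p.Prime] (hP : IsPGroup p P)
    (hidx : (frattini P).index = p ^ 2) :
    ∃ x y : P, Subgroup.closure {x, y} = ⊤ ∧
      ∀ u v : ℕ, x ^ u * y ^ v ∈ frattini P → p ∣ u ∧ p ∣ v := by
  have hp : p.Prime := Fact.out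
  set Φ := frattini P with hΦ
  have hVcard : Nat.card (P ⧸ Φ) = p ^ 2 := by rw [← Subgroup.index_eq_card, hidx]
  have hVexp : ∀ w : P ⧸ Φ, w ^ p = 1 := by
    intro w
    induction w using QuotientGroup.induction_on with
    | H z =>
      rw [← QuotientGroup.mk_pow, QuotientGroup.eq_one_iff]
      exact Cfsg.Agent.Lib.Helper1_Frattini.pow_mem_frattini_of_isPGroup hP z
  have hnt : Nontrivial (P ⧸ Φ) := by
    rw [← Finite.one_lt_card_iff_nontrivial, hVcard]
    exact Nat.one_lt_pow (by norm_num) hp.one_lt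
  obtain ⟨v1, hv1⟩ := exists_ne (1 : P ⧸ Φ)
  have ho1 : orderOf v1 = p := orderOf_eq_prime (hVexp v1) hv1
  have hz1 : Nat.card (Subgroup.zpowers v1) = p := by rw [Nat.card_zpowers, ho1]
  have hne : Subgroup.zpowers v1 ≠ ⊤ := by
    intro h
    have := Subgroup.card_top (G := P ⧸ Φ)
    rw [← h, hz1, hVcard] at this
    have h2 : p ^ 1 = p ^ 2 := by rw [pow_one]; exact this
    have := Nat.pow_right_injective hp.two_le h2
    omega
  obtain ⟨v2, -, hv2⟩ := SetLike.exists_of_lt (lt_of_le_of_ne le_top hne)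
  have hv2' : v2 ≠ 1 := by
    intro h; apply hv2; rw [h]; exact Subgroup.one_mem _
  have ho2 : orderOf v2 = p := orderOf_eq_prime (hVexp v2) hv2'
  obtain ⟨x, rfl⟩ := QuotientGroup.mk_surjective v1
  obtain ⟨y, rfl⟩ := QuotientGroup.mk_surjective v2
  refine ⟨x, y, ?_, ?_⟩
  · -- generation
    apply frattini_nongenerating
    have hmap : (Subgroup.closure {x, y}).map (QuotientGroup.mk' Φ) = ⊤ := by
      rw [MonoidHom.map_closure]
      have himg : (QuotientGroup.mk' Φ) '' {x, y} = {(x : P ⧸ Φ), (y : P ⧸ Φ)} := by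
        rw [Set.image_pair]; rfl
      rw [himg]
      set K := Subgroup.closure {(x : P ⧸ Φ), (y : P ⧸ Φ)} with hK
      have hle : Subgroup.zpowers (x : P ⧸ Φ) ≤ K := by
        rw [Subgroup.zpowers_le]
        exact Subgroup.subset_closure (by simp)
      have hyK : (y : P ⧸ Φ) ∈ K := Subgroup.subset_closure (by simp)
      have hlt : Subgroup.zpowers (x : P ⧸ Φ) < K :=
        lt_of_le_of_ne hle (fun h => hv2 (h ▸ hyK))
      have hgt : p < Nat.card K := by
        by_contra hle'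
        push Not at hle'
        have := Subgroup.eq_of_le_of_card_ge hle (by rw [hz1]; exact hle')
        exact hlt.ne this
      have hdvd : Nat.card K ∣ p ^ 2 := by rw [← hVcard]; exact Subgroup.card_subgroup_dvd_card K
      obtain ⟨i, hi2, hi⟩ := (Nat.dvd_prime_pow hp).1 hdvd
      have hi' : i = 2 := by
        rcases Nat.lt_or_ge i 2 with h | h
        · exfalso
          have : p ^ i ≤ p ^ 1 := Nat.pow_le_pow_right hp.pos (by omega)
          rw [pow_one, ← hi] at this
          omega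
        · omega
      rw [← Subgroup.card_eq_iff_eq_top, hi, hi', hVcard]
    have := Subgroup.comap_map_eq (QuotientGroup.mk' Φ) (Subgroup.closure {x, y})
    rw [hmap, Subgroup.comap_top, QuotientGroup.ker_mk'] at this
    exact this.symm
  · intro u v huv
    have h1 : (x : P ⧸ Φ) ^ u * (y : P ⧸ Φ) ^ v = 1 := by
      rw [← QuotientGroup.mk_pow, ← QuotientGroup.mk_pow, ← QuotientGroup.mk_mul,
        QuotientGroup.eq_one_iff]
      exact huv
    have hpv : p ∣ v := by
      by_contra hnd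
      have hcop : Nat.Coprime v p := (Nat.Prime.coprime_iff_not_dvd hp).2 hnd |>.symm
      obtain ⟨m, -, hm⟩ := Nat.exists_mul_mod_eq_one_of_coprime hcop hp.one_lt
      apply hv2
      have h2 : (y : P ⧸ Φ) ^ v ∈ Subgroup.zpowers (x : P ⧸ Φ) := by
        have : (y : P ⧸ Φ) ^ v = ((x : P ⧸ Φ) ^ u)⁻¹ := eq_inv_of_mul_eq_one_right h1
        rw [this]
        exact Subgroup.inv_mem _ (Subgroup.pow_mem _ (Subgroup.mem_zpowers _) u)
      have h3 : ((y : P ⧸ Φ) ^ v) ^ m = (y : P ⧸ Φ) := by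
        rw [← pow_mul, ← pow_mod_orderOf, ho2, hm, pow_one]
      rw [← h3]
      exact Subgroup.pow_mem _ h2 m
    refine ⟨?_, hpv⟩
    obtain ⟨c, rfl⟩ := hpv
    rw [pow_mul, hVexp, one_pow, mul_one] at h1
    rw [← ho1]
    exact orderOf_dvd_of_pow_eq_one h1

/-- `Ω_{a'}(P) ≤ Φ(P)` forces independence of `x, y` up to `p^(a'+1)`. -/
theorem dvd_of_pow_mul_pow_eq_one {p : ℕ} {a' : ℕ} {x y : P}
    (hind : ∀ u v : ℕ, x ^ u * y ^ v ∈ frattini P → p ∣ u ∧ p ∣ v)
    (hstar : ∀ z : P, z ^ (p ^ a') = 1 → z ∈ frattini P) :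
    ∀ s ≤ a' + 1, ∀ u v : ℕ, x ^ u * y ^ v = 1 → p ^ s ∣ u ∧ p ^ s ∣ v := by
  intro s
  induction s with
  | zero => intro _ u v _; simp
  | succ s ih =>
    intro hs u v huv
    obtain ⟨⟨u1, rfl⟩, ⟨v1, rfl⟩⟩ := ih (by omega) u v huv
    have h1 : (x ^ u1 * y ^ v1) ^ (p ^ s) = 1 := by
      rw [mul_pow, ← pow_mul, ← pow_mul, mul_comm u1, mul_comm v1]
      exact huv
    have h2 : (x ^ u1 * y ^ v1) ^ (p ^ a') = 1 := by
      obtain ⟨d, rfl⟩ : ∃ d, a' = s + d := ⟨a' - s, by omega⟩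
      rw [pow_add, pow_mul, h1, one_pow]
    obtain ⟨⟨u2, rfl⟩, ⟨v2, rfl⟩⟩ := hind u1 v1 (hstar _ h2)
    exact ⟨⟨u2, by rw [pow_succ]; ring⟩, ⟨v2, by rw [pow_succ]; ring⟩⟩

/-- Step 6: `P ≅ C_{p^a} × C_{p^a}`. -/
theorem nonempty_mulEquiv_homocyclic [Finite P] {p : ℕ} [Fact p.Prime] (hP : IsPGroup p P)
    (hidx : (frattini P).index = p ^ 2) {a' : ℕ} (hexp : ∀ z : P, z ^ (p ^ (a' + 1)) = 1)
    (hstar : ∀ z : P, z ^ (p ^ a') = 1 → z ∈ frattini P) :
    Nonempty (P ≃* Multiplicative (ZMod (p ^ (a' + 1)) × ZMod (p ^ (a' + 1)))) := by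
  have hp : p.Prime := Fact.out
  obtain ⟨x, y, hgen, hind⟩ := exists_independent_generators hP hidx
  set n := p ^ (a' + 1) with hn
  have hn0 : NeZero n := ⟨by rw [hn]; exact pow_ne_zero _ hp.ne_zero⟩
  let ψ : ZMod n × ZMod n →+ Additive P := (zmodHom n x (hexp x)).coprod (zmodHom n y (hexp y))
  have hψ : ∀ i j : ℕ, ψ ((i : ZMod n), (j : ZMod n)) = Additive.ofMul (x ^ i * y ^ j) := by
    intro i j
    show zmodHom n x (hexp x) (i : ZMod n) + zmodHom n y (hexp y) (j : ZMod n) = _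
    rw [zmodHom_natCast, zmodHom_natCast]
    rfl
  let φ : Multiplicative (ZMod n × ZMod n) →* P := AddMonoidHom.toMultiplicativeLeft ψ
  have hφ : ∀ w, φ w = Additive.toMul (ψ (Multiplicative.toAdd w)) := fun _ => rfl
  have hinj : Function.Injective φ := by
    rw [injective_iff_map_eq_one]
    intro w hw
    obtain ⟨⟨i, j⟩, rfl⟩ : ∃ ij : ZMod n × ZMod n, Multiplicative.ofAdd ij = w := ⟨Multiplicative.toAdd w, rfl⟩
    rw [hφ, toAdd_ofAdd, ← ZMod.natCast_zmod_val i, ← ZMod.natCast_zmod_val j, hψ, toMul_ofMul] at hw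
    obtain ⟨h1, h2⟩ := dvd_of_pow_mul_pow_eq_one hind hstar (a' + 1) le_rfl _ _ hw
    have hi : i = 0 := by
      rw [← ZMod.natCast_zmod_val i]
      exact (ZMod.natCast_eq_zero_iff _ _).2 h1
    have hj : j = 0 := by
      rw [← ZMod.natCast_zmod_val j]
      exact (ZMod.natCast_eq_zero_iff _ _).2 h2
    rw [hi, hj]
    rfl
  have hsurj : Function.Surjective φ := by
    rw [← MonoidHom.range_eq_top, eq_top_iff, ← hgen, Subgroup.closure_le]
    rintro z (rfl | rfl)
    · refine ⟨Multiplicative.ofAdd (((1 : ℕ) : ZMod n), ((0 : ℕ) : ZMod n)), ?_⟩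
      rw [hφ, toAdd_ofAdd, hψ, toMul_ofMul, pow_one, pow_zero, mul_one]
    · refine ⟨Multiplicative.ofAdd (((0 : ℕ) : ZMod n), ((1 : ℕ) : ZMod n)), ?_⟩
      rw [hφ, toAdd_ofAdd, hψ, toMul_ofMul, pow_one, pow_zero, one_mul]
  exact ⟨(MulEquiv.ofBijective φ ⟨hinj, hsurj⟩).symm⟩

end Homocyclic

section Final

/-- **Abelian essential subgroups of rank at most two**, `CommGroup` version. -/
theorem abelian_essential_comm {P : Type*} [CommGroup P] [Finite P] {p : ℕ} [Fact p.Prime]
    (hP : IsPGroup p P) {A : Subgroup (MulAut P)} (D : EssData p A)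
    (hidx : (frattini P).index ≤ p ^ 2) :
    ((∀ x : P, x ^ p = 1) ∧ Nat.card P = p ^ 2) ∨
      (p ≤ 3 ∧ ∃ k : ℕ, Nonempty (P ≃* Multiplicative (ZMod (p ^ k) × ZMod (p ^ k)))) := by
  have hp : p.Prime := Fact.out
  have hidx' := index_frattini_eq hP D hidx
  obtain ⟨a', hexp, hstar⟩ := exists_exponent hP D hidx'
  rcases Nat.eq_zero_or_pos a' with h0 | hpos
  · left
    subst h0
    have hexp' : ∀ x : P, x ^ p = 1 := fun x => by
      have := hexp x
      rwa [zero_add, pow_one] at this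
    exact ⟨hexp', card_eq_of_exponent_p hP hidx' hexp'⟩
  · by_cases hp3 : p ≤ 3
    · right
      exact ⟨hp3, a' + 1, nonempty_mulEquiv_homocyclic hP hidx' hexp hstar⟩
    · exfalso
      have hp5 : 5 ≤ p := by
        rcases Nat.lt_or_ge p 5 with h | h
        · have h4 : p = 4 := by omega
          rw [h4] at hp
          exact absurd hp (by norm_num)
        · exact h
      exact false_of_five_le hP D hidx' hp5 hpos hstar

/-- **Abelian essential subgroups of rank at most two**: if `P` is a finite abelian `p`-group with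
`|P : Φ(P)| ≤ p²` and `A ≤ Aut(P)` satisfies `O_p(A) = Inn(P)` and `p ∣ |A / Inn(P)|`, then `P` is
elementary abelian of order `p²`, or `p ≤ 3` and `P` is homocyclic of rank two. -/
theorem abelian_essential {P : Type*} [Group P] [Finite P] {p : ℕ} [Fact p.Prime]
    (hab : ∀ x y : P, x * y = y * x) (hP : IsPGroup p P) (A : Subgroup (MulAut P))
    (hrad : (Cfsg.pCore p A).map A.subtype = Cfsg.Inn P)
    (hdvd : p ∣ Nat.card (A ⧸ (Cfsg.Inn P).subgroupOf A))
    (hidx : (frattini P).index ≤ p ^ 2) :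
    ((∀ x : P, x ^ p = 1) ∧ Nat.card P = p ^ 2) ∨
      (p ≤ 3 ∧ ∃ k : ℕ, Nonempty (P ≃* Multiplicative (ZMod (p ^ k) × ZMod (p ^ k)))) := by
  letI : CommGroup P := { (inferInstance : Group P) with mul_comm := hab }
  have hInn : Cfsg.Inn P = ⊥ := inn_eq_bot hab
  have D : EssData p A := by
    constructor
    · intro N hNA hn hNp
      have h := le_inn_of_normal_pgroup hrad hn hNp
      rw [hInn, inf_eq_left.2 hNA] at h
      exact le_bot_iff.1 h
    · rw [hInn, Subgroup.bot_subgroupOf, ← Subgroup.index_eq_card, Subgroup.index_bot] at hdvd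
      obtain ⟨a, ha⟩ := exists_prime_orderOf_dvd_card' p hdvd
      exact ⟨a, a.2, by rw [← ha, Subgroup.orderOf_coe]⟩
  exact abelian_essential_comm hP D hidx

end Final

end Cfsg.Agent.Lib.Helper88_AbelianEssential
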