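import Mathlib
import Cfsg.Prelude.Def_Solvable
import Cfsg.Prelude.Def_FusionSystem
import Cfsg.Prelude.Def_KGroupFacts
import Cfsg.Agent.Lib.Helper84_Stability
import Cfsg.Agent.Lib.Helper47_PLocal
import Cfsg.Agent.Lib.Helper1_Frattini
import Cfsg.Agent.Lib.Helper88_SmallEssential
import Cfsg.Agent.S4218

set_option autoImplicit false

namespace Cfsg.Agent.Lib.Helper88_FrattiniChain

open Cfsg.Agent.Lib.Helper88_SmallEssential Cfsg.Agent.Lib.Helper84_Stability
open Cfsg.Agent.S4218 (frattiniTrivial mem_frattiniTrivial frattiniTrivial_isPGroup)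

variable {P : Type*} [Group P]

theorem frattini_char' (β : MulAut P) {x : P} (hx : x ∈ frattini P) : β x ∈ frattini P := by
  have hchar : (frattini P).map β.toMonoidHom = frattini P :=
    Subgroup.characteristic_iff_map_eq.mp frattini_characteristic β
  rw [← hchar]
  exact ⟨x, hx, rfl⟩

/-- `γ` acts trivially on `K` modulo `Φ(P)`. -/
def TrivMod (K : Subgroup P) (γ : MulAut P) : Prop := ∀ z ∈ K, z⁻¹ * γ z ∈ frattini P

theorem TrivMod.apply_mem {K : Subgroup P} (hK : frattini P ≤ K) {γ : MulAut P}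
    (h : TrivMod K γ) {z : P} (hz : z ∈ K) : γ z ∈ K := by
  have := K.mul_mem hz (hK (h z hz))
  rwa [mul_inv_cancel_left] at this

theorem TrivMod.pow {K : Subgroup P} (hK : frattini P ≤ K) {γ : MulAut P}
    (h : TrivMod K γ) (m : ℕ) : TrivMod K (γ ^ m) := by
  induction m with
  | zero => intro z _; simp
  | succ m ih =>
    intro z hz
    rw [pow_succ, MulAut.mul_apply]
    have h1 := h z hz
    have h2 := ih (γ z) (h.apply_mem hK hz)
    have : z⁻¹ * (γ ^ m) (γ z) = (z⁻¹ * γ z) * ((γ z)⁻¹ * (γ ^ m) (γ z)) := by group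
    rw [this]
    exact (frattini P).mul_mem h1 h2

/-- If `γ` acts trivially on `K` mod `Φ` and `x⁻¹ γ(x) ∈ K`, then `γ^m(x) ≡ x (x⁻¹γ x)^m` mod `Φ`. -/
theorem pow_apply_mod {K : Subgroup P} (hK : frattini P ≤ K) {γ : MulAut P}
    (h : TrivMod K γ) {x : P} (hx : x⁻¹ * γ x ∈ K) (m : ℕ) :
    (QuotientGroup.mk ((γ ^ m) x) : P ⧸ frattini P) =
      QuotientGroup.mk x * (QuotientGroup.mk (x⁻¹ * γ x)) ^ m := by
  induction m with
  | zero => simp
  | succ m ih =>
    have e : (γ ^ (m + 1)) x = (γ ^ m) x * (γ ^ m) (x⁻¹ * γ x) := by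
      rw [← map_mul, mul_inv_cancel_left, pow_succ, MulAut.mul_apply]
    rw [e, QuotientGroup.mk_mul, ih, pow_succ, mul_assoc]
    congr 1
    have h2 := (h.pow hK m) _ hx
    have h3 : (QuotientGroup.mk ((γ ^ m) (x⁻¹ * γ x)) : P ⧸ frattini P) = QuotientGroup.mk (x⁻¹ * γ x) := by
      rw [eq_comm, QuotientGroup.eq]
      exact h2
    rw [h3]

/-- One step: from `TrivMod (c j) γ` to `TrivMod (c (j+1)) (γ^p)` for a stabilizing `γ`. -/
theorem TrivMod.step [Finite P] {p : ℕ} [Fact p.Prime] (hP : IsPGroup p P) {K L : Subgroup P}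
    (hK : frattini P ≤ K) {γ : MulAut P} (h : TrivMod K γ) (hL : ∀ x ∈ L, x⁻¹ * γ x ∈ K) :
    TrivMod L (γ ^ p) := by
  intro x hx
  have h1 := pow_apply_mod hK h (hL x hx) p
  have h2 : (QuotientGroup.mk (x⁻¹ * γ x) : P ⧸ frattini P) ^ p = 1 := by
    rw [← QuotientGroup.mk_pow, QuotientGroup.eq_one_iff]
    exact Cfsg.Agent.Lib.Helper1_Frattini.pow_mem_frattini_of_isPGroup hP _
  rw [h2, mul_one] at h1
  rw [eq_comm, QuotientGroup.eq] at h1
  exact h1

/-- An automorphism stabilizing a chain from `Φ(P)` acts trivially mod `Φ` after a `p`-power. -/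
theorem trivMod_of_stabilizes [Finite P] {p : ℕ} [Fact p.Prime] (hP : IsPGroup p P)
    {c : ℕ → Subgroup P} (h0 : c 0 = frattini P) (hmono : ∀ j, c j ≤ c (j + 1))
    {β : MulAut P} (hβ : Stabilizes c β) : ∀ j, TrivMod (c j) (β ^ (p ^ j)) := by
  have hle : ∀ j, frattini P ≤ c j := by
    intro j
    induction j with
    | zero => rw [h0]
    | succ j ih => exact ih.trans (hmono j)
  intro j
  induction j with
  | zero =>
    intro z hz
    rw [h0] at hz
    rw [pow_zero, pow_one]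
    exact (frattini P).mul_mem ((frattini P).inv_mem hz) (frattini_char' β hz)
  | succ j ih =>
    rw [pow_succ, pow_mul]
    apply TrivMod.step hP (hle j) ih
    intro x hx
    exact (hβ.pow hmono (p ^ j)) j x hx

/-- **No Frattini chain.** If `A ≤ Aut(P)` has `O_p(A) = Inn(P)` and `p ∣ |A / Inn(P)|`, then `P` has
no `A`-invariant chain from `Φ(P)` to `⊤` with all steps of index `p`. -/
theorem no_frattini_chain [Finite P] {p : ℕ} [Fact p.Prime] (hP : IsPGroup p P)
    (A : Subgroup (MulAut P)) (hrad : (Cfsg.pCore p A).map A.subtype = Cfsg.Inn P)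
    (hdvd : p ∣ Nat.card (A ⧸ (Cfsg.Inn P).subgroupOf A))
    (c : ℕ → Subgroup P) (h0 : c 0 = frattini P) (hmono : ∀ j, c j ≤ c (j + 1)) {n : ℕ}
    (hn : c n = ⊤)
    (hidx : ∀ j, (c j).relIndex (c (j + 1)) = p ∨ c (j + 1) ≤ c j)
    (hinv : ∀ β ∈ A, ∀ j, ∀ x ∈ c j, β x ∈ c j) : False := by
  have hinv' : ∀ β ∈ A, ∀ j x, β x ∈ c j ↔ x ∈ c j := by
    intro β hβ j x
    constructor
    · intro h
      have := hinv β⁻¹ (A.inv_mem hβ) j _ h
      rwa [MulAut.inv_apply_self] at this
    · exact hinv β hβ j x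
  have hTn : ((stabilityGroup c hmono A).subgroupOf A).Normal := stabilityGroup_normal hmono A hinv
  have hTp' : IsPGroup p (stabilityGroup c hmono A) := by
    rintro ⟨β, hβA, hβ⟩
    have h1 := trivMod_of_stabilizes hP h0 hmono hβ n
    have h2 : β ^ (p ^ n) ∈ frattiniTrivial P := by
      rw [mem_frattiniTrivial]
      intro y
      have h3 := h1 y (by rw [hn]; exact Subgroup.mem_top y)
      have hnorm : (frattini P).Normal := inferInstance
      have h4 := hnorm.conj_mem _ h3 y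
      have e : y * (y⁻¹ * (β ^ p ^ n) y) * y⁻¹ = (β ^ p ^ n) y * y⁻¹ := by group
      rwa [e] at h4
    obtain ⟨k, hk⟩ := (frattiniTrivial_isPGroup p hP) ⟨_, h2⟩
    refine ⟨n + k, Subtype.ext ?_⟩
    have hk' : (β ^ p ^ n) ^ p ^ k = 1 := congrArg Subtype.val hk
    show β ^ p ^ (n + k) = 1
    rw [pow_add, pow_mul, hk']
  have hTp : IsPGroup p ((stabilityGroup c hmono A).subgroupOf A) :=
    hTp'.comap_of_injective A.subtype A.subtype_injective
  have hTle : (stabilityGroup c hmono A).subgroupOf A ≤ Cfsg.pCore p A :=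
    Cfsg.Agent.Lib.Helper47_PLocal.le_pCore hTn hTp
  have : Finite A := inferInstance
  obtain ⟨R⟩ : Nonempty (Sylow p A) := inferInstance
  have hRle : (R : Subgroup A) ≤ (Cfsg.Inn P).subgroupOf A := by
    intro a ha
    obtain ⟨k, hk⟩ := (R.2 : IsPGroup p R) ⟨a, ha⟩
    have hk' : (a : MulAut P) ^ (p ^ k) = 1 := by
      have := congrArg (fun y : R => ((y : A) : MulAut P)) hk
      simpa using this
    have hst : Stabilizes c (a : MulAut P) :=
      stabilizes_of_pow_eq_one hidx (hinv' a a.2) hk'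
    have hmem : a ∈ (stabilityGroup c hmono A).subgroupOf A := by
      rw [Subgroup.mem_subgroupOf]
      exact ⟨a.2, hst⟩
    have h2 : (a : MulAut P) ∈ (Cfsg.pCore p A).map A.subtype := ⟨a, hTle hmem, rfl⟩
    rw [hrad] at h2
    exact h2
  have h1 : ((Cfsg.Inn P).subgroupOf A).index ∣ (R : Subgroup A).index :=
    Subgroup.index_dvd_of_le hRle
  have h2 : ¬ p ∣ (R : Subgroup A).index := R.not_dvd_index
  rw [← Subgroup.index_eq_card] at hdvd
  exact h2 (hdvd.trans h1)

/-- The chain `Φ ≤ C1 ≤ C2 ≤ ⊤ ≤ ...`. -/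
def chainF (C1 C2 : Subgroup P) : ℕ → Subgroup P
  | 0 => frattini P
  | 1 => C1
  | 2 => C2
  | _ => ⊤

/-- relative index from cardinalities -/
theorem relIndex_eq_of_card [Finite P] {p : ℕ} (hp : p.Prime) {K L : Subgroup P} (hKL : K ≤ L) {k : ℕ}
    (hK : Nat.card K = p ^ k) (hL : Nat.card L = p ^ (k + 1)) : K.relIndex L = p := by
  have := Subgroup.relIndex_mul_relIndex (⊥ : Subgroup P) K L bot_le hKL
  rw [Subgroup.relIndex_bot_left, Subgroup.relIndex_bot_left, hK, hL, pow_succ] at this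
  exact Nat.eq_of_mul_eq_mul_left (pow_pos hp.pos k) this

/-- **Flag lemma**: no `A`-invariant `Φ ≤ C1 ≤ C2 ≤ P` with orders `p^k, p^(k+1), p^(k+2), p^(k+3)`. -/
theorem no_flag3 [Finite P] {p : ℕ} [Fact p.Prime]
    (A : Subgroup (MulAut P)) (hrad : (Cfsg.pCore p A).map A.subtype = Cfsg.Inn P)
    (hdvd : p ∣ Nat.card (A ⧸ (Cfsg.Inn P).subgroupOf A)) {k : ℕ}
    (hΦ : Nat.card (frattini P) = p ^ k) (C1 C2 : Subgroup P) (h01 : frattini P ≤ C1) (h12 : C1 ≤ C2)
    (hC1 : Nat.card C1 = p ^ (k + 1)) (hC2 : Nat.card C2 = p ^ (k + 2))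
    (hcard : Nat.card P = p ^ (k + 3))
    (hinv1 : ∀ β ∈ A, ∀ x ∈ C1, β x ∈ C1) (hinv2 : ∀ β ∈ A, ∀ x ∈ C2, β x ∈ C2) : False := by
  have hp : p.Prime := Fact.out
  have hP : IsPGroup p P := IsPGroup.of_card hcard
  refine no_frattini_chain hP A hrad hdvd (chainF C1 C2) rfl ?_ (n := 3) rfl ?_ ?_
  · intro j
    rcases j with _ | _ | _ | j
    · exact h01
    · exact h12
    · exact le_top
    · exact le_rfl
  · intro j
    rcases j with _ | _ | _ | j
    · left; exact relIndex_eq_of_card hp h01 hΦ hC1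
    · left; exact relIndex_eq_of_card hp h12 hC1 hC2
    · left
      show C2.relIndex ⊤ = p
      exact relIndex_eq_of_card hp le_top hC2 (by rw [Subgroup.card_top]; exact hcard)
    · right; exact le_rfl
  · intro β hβ j x hx
    rcases j with _ | _ | _ | j
    · exact frattini_char' β hx
    · exact hinv1 β hβ x hx
    · exact hinv2 β hβ x hx
    · exact Subgroup.mem_top _

/-- **Flag lemma**, two steps: no `A`-invariant `Φ ≤ C1 ≤ P` with orders `p^k, p^(k+1), p^(k+2)`. -/
theorem no_flag2 [Finite P] {p : ℕ} [Fact p.Prime]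
    (A : Subgroup (MulAut P)) (hrad : (Cfsg.pCore p A).map A.subtype = Cfsg.Inn P)
    (hdvd : p ∣ Nat.card (A ⧸ (Cfsg.Inn P).subgroupOf A)) {k : ℕ}
    (hΦ : Nat.card (frattini P) = p ^ k) (C1 : Subgroup P) (h01 : frattini P ≤ C1)
    (hC1 : Nat.card C1 = p ^ (k + 1)) (hcard : Nat.card P = p ^ (k + 2))
    (hinv1 : ∀ β ∈ A, ∀ x ∈ C1, β x ∈ C1) : False := by
  have hp : p.Prime := Fact.out
  have hP : IsPGroup p P := IsPGroup.of_card hcard
  refine no_frattini_chain hP A hrad hdvd (chainF C1 ⊤) rfl ?_ (n := 2) rfl ?_ ?_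
  · intro j
    rcases j with _ | _ | _ | j
    · exact h01
    · exact le_top
    · exact le_rfl
    · exact le_rfl
  · intro j
    rcases j with _ | _ | _ | j
    · left; exact relIndex_eq_of_card hp h01 hΦ hC1
    · left
      show C1.relIndex ⊤ = p
      exact relIndex_eq_of_card hp le_top hC1 (by rw [Subgroup.card_top]; exact hcard)
    · right; exact le_rfl
    · right; exact le_rfl
  · intro β hβ j x hx
    rcases j with _ | _ | _ | j
    · exact frattini_char' β hx
    · exact hinv1 β hβ x hx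
    · exact Subgroup.mem_top _
    · exact Subgroup.mem_top _

/-- **Flag lemma**, one step: `|P : Φ(P)| = p` is impossible. -/
theorem no_flag1 [Finite P] {p : ℕ} [Fact p.Prime]
    (A : Subgroup (MulAut P)) (hrad : (Cfsg.pCore p A).map A.subtype = Cfsg.Inn P)
    (hdvd : p ∣ Nat.card (A ⧸ (Cfsg.Inn P).subgroupOf A)) {k : ℕ}
    (hΦ : Nat.card (frattini P) = p ^ k) (hcard : Nat.card P = p ^ (k + 1)) : False := by
  have hp : p.Prime := Fact.out
  have hP : IsPGroup p P := IsPGroup.of_card hcard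
  refine no_frattini_chain hP A hrad hdvd (chainF ⊤ ⊤) rfl ?_ (n := 1) rfl ?_ ?_
  · intro j
    rcases j with _ | _ | _ | j
    · exact le_top
    · exact le_rfl
    · exact le_rfl
    · exact le_rfl
  · intro j
    rcases j with _ | _ | _ | j
    · left
      show (frattini P).relIndex ⊤ = p
      exact relIndex_eq_of_card hp le_top hΦ (by rw [Subgroup.card_top]; exact hcard)
    · right; exact le_rfl
    · right; exact le_rfl
    · right; exact le_rfl
  · intro β hβ j x hx
    rcases j with _ | _ | _ | j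
    · exact frattini_char' β hx
    · exact Subgroup.mem_top _
    · exact Subgroup.mem_top _
    · exact Subgroup.mem_top _

end Cfsg.Agent.Lib.Helper88_FrattiniChain
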