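import Mathlib
import Cfsg.Prelude.Def_Transfer
import Cfsg.Agent.Lib.Helper1_Frattini
import Cfsg.Agent.Lib.Helper87_OddOmega
import Cfsg.Agent.Lib.Helper63_PGroup
import Cfsg.Agent.Lib.Helper63_PGroup2
import Cfsg.Agent.Lib.Helper63_Extraspecial
import Cfsg.Agent.Lib.Helper88_SmallEssential
import Cfsg.Agent.Lib.Helper32_PGroup

set_option autoImplicit false

namespace Cfsg.Agent.Lib.Helper88_OrderP4

open scoped commutatorElement
open Cfsg.Agent.Lib.Helper88_SmallEssential (card_eq_pow_of_dvd zpowers_eq_of_card_prime center_char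
  card_ker_mul_card_range)

variable {P : Type*} [Group P]

/-- `C` is invariant under all automorphisms. -/
def IsChar (C : Subgroup P) : Prop := ∀ β : MulAut P, ∀ x ∈ C, β x ∈ C

theorem isChar_center : IsChar (Subgroup.center P) := fun β _ hz => center_char β hz

theorem isChar_commutator : IsChar (commutator P) := by
  intro β x hx
  have hchar : (commutator P).map β.toMonoidHom = commutator P :=
    Subgroup.characteristic_iff_map_eq.mp inferInstance β
  rw [← hchar]
  exact ⟨x, hx, rfl⟩

theorem isChar_ker_of_pow (n : ℕ) (f : P →* P) (hf : ∀ x, f x = x ^ n) : IsChar f.ker := by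
  intro β x hx
  rw [MonoidHom.mem_ker, hf] at hx ⊢
  rw [← map_pow, hx, map_one]

/-- subgroup orders in a group of order `p^n` -/
theorem card_subgroup_eq_pow [Finite P] {p n : ℕ} (hp : p.Prime) (hcard : Nat.card P = p ^ n)
    (K : Subgroup P) : ∃ i ≤ n, Nat.card K = p ^ i :=
  card_eq_pow_of_dvd hp (hcard ▸ Subgroup.card_subgroup_dvd_card K)

/-- `[y^n, x] = [y, x]^n` when `[y, x]` is central. -/
theorem commutator_pow_left (x y : P) (hc : ⁅y, x⁆ ∈ Subgroup.center P) (n : ℕ) :
    ⁅y ^ n, x⁆ = ⁅y, x⁆ ^ n := by
  have h := Cfsg.Agent.Lib.Helper87_OddOmega.pow_mul_eq_of_central x y hc n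
  rw [commutatorElement_def, h]
  group

/-- The Frattini subgroup of a nontrivial finite group is proper. -/
theorem frattini_ne_top [Finite P] [Nontrivial P] : frattini P ≠ ⊤ := by
  intro h
  have h1 : (⊥ : Subgroup P) ⊔ frattini P = ⊤ := by rw [h, sup_top_eq]
  have h2 := frattini_nongenerating h1
  exact bot_ne_top h2

/-- `Φ(P) = 1` for a `p`-group forces elementary abelian. -/
theorem elementary_of_frattini_eq_bot [Finite P] {p : ℕ} [Fact p.Prime] (hP : IsPGroup p P)
    (h : frattini P = ⊥) : (∀ x y : P, x * y = y * x) ∧ ∀ x : P, x ^ p = 1 := by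
  constructor
  · intro x y
    have h1 := Cfsg.Agent.Lib.Helper1_Frattini.commutator_le_frattini_of_isPGroup hP
    rw [h, le_bot_iff] at h1
    have h2 : ⁅x, y⁆ ∈ commutator P := by
      rw [commutator_def]
      exact Subgroup.commutator_mem_commutator (Subgroup.mem_top _) (Subgroup.mem_top _)
    rw [h1, Subgroup.mem_bot] at h2
    exact commutatorElement_eq_one_iff_mul_comm.1 h2
  · intro x
    have h1 := Cfsg.Agent.Lib.Helper1_Frattini.pow_mem_frattini_of_isPGroup hP x
    rwa [h, Subgroup.mem_bot] at h1

/-- centre of a nonabelian group of order `p⁴` -/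
theorem card_center_of_nonabelian [Finite P] {p : ℕ} [Fact p.Prime] (hcard : Nat.card P = p ^ 4)
    (hna : ¬ ∀ x y : P, x * y = y * x) :
    Nat.card (Subgroup.center P) = p ∨ Nat.card (Subgroup.center P) = p ^ 2 := by
  have hp : p.Prime := Fact.out
  have hP : IsPGroup p P := IsPGroup.of_card hcard
  have hmul := (Subgroup.center P).card_mul_index
  rw [hcard] at hmul
  obtain ⟨i, hi4, hi⟩ := card_eq_pow_of_dvd hp (Dvd.intro _ hmul)
  obtain ⟨j, hj4, hj⟩ := card_eq_pow_of_dvd hp (Dvd.intro_left _ hmul)
  have hij : i + j = 4 := by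
    rw [hi, hj, ← pow_add] at hmul
    exact Nat.pow_right_injective hp.two_le hmul
  have hquot : Nat.card (P ⧸ Subgroup.center P) = p ^ j := by
    rw [← Subgroup.index_eq_card, hj]
  have hi0 : i ≠ 0 := by
    intro h
    have : Nontrivial P := by
      rw [← Finite.one_lt_card_iff_nontrivial, hcard]
      exact Nat.one_lt_pow (by norm_num) hp.one_lt
    have h1 := hP.bot_lt_center
    have hbot : Subgroup.center P = ⊥ := by
      rw [← Subgroup.card_eq_one, hi, h, pow_zero]
    rw [hbot] at h1
    exact lt_irrefl _ h1
  have hnc : ¬ IsCyclic (P ⧸ Subgroup.center P) := by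
    intro hc
    apply hna
    exact (MonoidHom.isMulCommutative_of_isCyclic_of_ker_le_center
      (QuotientGroup.mk' (Subgroup.center P)) (by rw [QuotientGroup.ker_mk'])).is_comm.comm
  have hj1 : j ≠ 1 := by
    intro h
    apply hnc
    rw [h, pow_one] at hquot
    exact isCyclic_of_prime_card hquot
  have hj0 : j ≠ 0 := by
    intro h
    apply hnc
    rw [h, pow_zero] at hquot
    have : Subsingleton (P ⧸ Subgroup.center P) := (Nat.card_eq_one_iff_unique.1 hquot).1
    infer_instance
  have : i = 1 ∨ i = 2 := by omega
  rcases this with h | h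
  · left; rw [hi, h, pow_one]
  · right; rw [hi, h]

/-- nonabelian of order `p⁴` with centre of order `p²`: class two with elementary central quotient,
and `|P'| = p`. -/
theorem center_sq_facts [Finite P] {p : ℕ} [Fact p.Prime] (hcard : Nat.card P = p ^ 4)
    (hna : ¬ ∀ x y : P, x * y = y * x) (hZ : Nat.card (Subgroup.center P) = p ^ 2) :
    (∀ x y : P, ⁅x, y⁆ ∈ Subgroup.center P) ∧ (∀ x : P, x ^ p ∈ Subgroup.center P) ∧
      (∀ x y : P, ⁅x, y⁆ ^ p = 1) ∧ Nat.card (commutator P) = p := by
  have hp : p.Prime := Fact.out
  have hP : IsPGroup p P := IsPGroup.of_card hcard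
  have hidx : (Subgroup.center P).index = p ^ 2 := by
    have := (Subgroup.center P).card_mul_index
    rw [hcard, hZ] at this
    have h2 : p ^ 2 * (Subgroup.center P).index = p ^ 2 * p ^ 2 := by rw [this]; ring
    exact Nat.eq_of_mul_eq_mul_left (pow_pos hp.pos 2) h2
  have hquot : Nat.card (P ⧸ Subgroup.center P) = p ^ 2 := by
    rw [← Subgroup.index_eq_card, hidx]
  have hnc : ¬ IsCyclic (P ⧸ Subgroup.center P) := by
    intro hc
    apply hna
    exact (MonoidHom.isMulCommutative_of_isCyclic_of_ker_le_center
      (QuotientGroup.mk' (Subgroup.center P)) (by rw [QuotientGroup.ker_mk'])).is_comm.comm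
  have hqc : IsMulCommutative (P ⧸ Subgroup.center P) :=
    IsPGroup.isMulCommutative_of_card_eq_prime_sq hquot
  have hcomm : ∀ x y : P, ⁅x, y⁆ ∈ Subgroup.center P := by
    intro x y
    rw [← QuotientGroup.eq_one_iff]
    rw [commutatorElement_def]
    simp only [QuotientGroup.mk_mul, QuotientGroup.mk_inv]
    rw [hqc.is_comm.comm (x : P ⧸ Subgroup.center P) y]
    group
  have hpow : ∀ x : P, x ^ p ∈ Subgroup.center P := by
    intro x
    rw [← QuotientGroup.eq_one_iff, QuotientGroup.mk_pow]
    have hd : orderOf (x : P ⧸ Subgroup.center P) ∣ p ^ 2 := by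
      rw [← hquot]; exact orderOf_dvd_natCard _
    obtain ⟨k, hk2, hk⟩ := card_eq_pow_of_dvd hp hd
    have hk2' : k ≠ 2 := by
      intro h
      apply hnc
      apply isCyclic_of_orderOf_eq_card (x : P ⧸ Subgroup.center P)
      rw [hk, h, hquot]
    have hk1 : k ≤ 1 := by omega
    apply orderOf_dvd_iff_pow_eq_one.1
    rw [hk]
    calc p ^ k ∣ p ^ 1 := pow_dvd_pow p hk1
      _ = p := pow_one p
  have hcp : ∀ x y : P, ⁅x, y⁆ ^ p = 1 := by
    intro x y
    rw [← commutator_pow_left y x (hcomm x y) p]
    exact commutatorElement_eq_one_iff_mul_comm.2 ((Subgroup.mem_center_iff.1 (hpow x) y).symm)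
  refine ⟨hcomm, hpow, hcp, ?_⟩
  -- an abelian subgroup of index `p`
  obtain ⟨x, hx⟩ : ∃ x : P, x ∉ Subgroup.center P := by
    by_contra h
    push Not at h
    apply hna
    intro a b
    exact (Subgroup.mem_center_iff.1 (h b) a)
  have hZc : IsMulCommutative (Subgroup.center P) := inferInstance
  have hAc := Cfsg.Agent.Lib.Helper63_PGroup.isMulCommutative_sup_zpowers (Subgroup.center P) x
    (fun d hd => (Subgroup.mem_center_iff.1 hd x).symm)
  set A := Subgroup.center P ⊔ Subgroup.zpowers x with hA
  have hZA : Subgroup.center P < A := by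
    refine lt_of_le_of_ne le_sup_left ?_
    intro h
    apply hx
    rw [h]
    exact Subgroup.mem_sup_right (Subgroup.mem_zpowers x)
  have hAtop : A ≠ ⊤ := by
    intro h
    apply hna
    intro a b
    have ha : a ∈ A := by rw [h]; trivial
    have hb : b ∈ A := by rw [h]; trivial
    have := hAc.is_comm.comm (⟨a, ha⟩ : A) ⟨b, hb⟩
    exact congrArg Subtype.val this
  obtain ⟨i, hi4, hi⟩ := card_subgroup_eq_pow hp hcard A
  have hi3 : i = 3 := by
    have h1 : p ^ 2 < p ^ i := by
      rw [← hZ, ← hi]
      by_contra hle
      push Not at hle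
      exact hZA.ne (Subgroup.eq_of_le_of_card_ge hZA.le hle)
    have h2 : 2 < i := (Nat.pow_lt_pow_iff_right hp.one_lt).1 h1
    have h3 : i ≠ 4 := by
      intro h
      apply hAtop
      rw [← Subgroup.card_eq_iff_eq_top, hi, h, hcard]
    omega
  have hAidx : A.index = p := by
    have := A.card_mul_index
    rw [hi, hi3, hcard] at this
    have h2 : p ^ 3 * A.index = p ^ 3 * p := by rw [this]; ring
    exact Nat.eq_of_mul_eq_mul_left (pow_pos hp.pos 3) h2
  have hna' : ¬ IsMulCommutative P := fun h => hna (fun a b => h.is_comm.comm a b)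
  have hform := Cfsg.Agent.Lib.Helper63_PGroup2.index_center_eq_of_abelian_index_prime hP hna' A hAc hAidx
  rw [hidx, pow_two] at hform
  exact (Nat.eq_of_mul_eq_mul_left hp.pos hform).symm

/-- A nonabelian finite `p`-group has `|P : Φ(P)| ≥ p²`; for order `p⁴`: `|Φ(P)| ∣ p²`. -/
theorem card_frattini_of_nonabelian [Finite P] {p : ℕ} [Fact p.Prime] (hcard : Nat.card P = p ^ 4)
    (hna : ¬ ∀ x y : P, x * y = y * x) : ∃ k ≤ 2, Nat.card (frattini P) = p ^ k := by
  have hp : p.Prime := Fact.out
  have hP : IsPGroup p P := IsPGroup.of_card hcard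
  obtain ⟨k, hk4, hk⟩ := card_subgroup_eq_pow hp hcard (frattini P)
  refine ⟨k, ?_, hk⟩
  by_contra hk2
  push Not at hk2
  have : Nontrivial P := by
    rw [← Finite.one_lt_card_iff_nontrivial, hcard]
    exact Nat.one_lt_pow (by norm_num) hp.one_lt
  have hk3 : k = 3 := by
    have : k ≠ 4 := by
      intro h
      apply frattini_ne_top (P := P)
      rw [← Subgroup.card_eq_iff_eq_top, hk, h, hcard]
    omega
  -- `P / Φ` has order `p`, hence `P` is cyclic
  have hidx : (frattini P).index = p := by
    have := (frattini P).card_mul_index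
    rw [hk, hk3, hcard] at this
    have h2 : p ^ 3 * (frattini P).index = p ^ 3 * p := by rw [this]; ring
    exact Nat.eq_of_mul_eq_mul_left (pow_pos hp.pos 3) h2
  have hquot : Nat.card (P ⧸ frattini P) = p := by rw [← Subgroup.index_eq_card, hidx]
  have hcyc : IsCyclic (P ⧸ frattini P) := isCyclic_of_prime_card hquot
  obtain ⟨g, hg⟩ := hcyc.exists_generator
  obtain ⟨x, rfl⟩ := QuotientGroup.mk_surjective g
  have hgen : Subgroup.zpowers x = ⊤ := by
    apply frattini_nongenerating
    have hmap : (Subgroup.zpowers x).map (QuotientGroup.mk' (frattini P)) = ⊤ := by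
      rw [MonoidHom.map_zpowers, eq_top_iff]
      intro y _
      exact hg y
    have := Subgroup.comap_map_eq (QuotientGroup.mk' (frattini P)) (Subgroup.zpowers x)
    rw [hmap, Subgroup.comap_top, QuotientGroup.ker_mk'] at this
    exact this.symm
  apply hna
  intro a b
  have ha : a ∈ Subgroup.zpowers x := by rw [hgen]; trivial
  have hb : b ∈ Subgroup.zpowers x := by rw [hgen]; trivial
  obtain ⟨i, rfl⟩ := Subgroup.mem_zpowers_iff.1 ha
  obtain ⟨j, rfl⟩ := Subgroup.mem_zpowers_iff.1 hb
  rw [← zpow_add, ← zpow_add, add_comm]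

/-- Nonabelian of order `p⁴` with centre of order `p`: `|Φ| = p²` and `C_P(P')` is a characteristic
subgroup of order `p³` containing `Φ`. -/
theorem center_p_case [Finite P] {p : ℕ} [Fact p.Prime] (hcard : Nat.card P = p ^ 4)
    (hna : ¬ ∀ x y : P, x * y = y * x) (hZ : Nat.card (Subgroup.center P) = p) :
    Nat.card (frattini P) = p ^ 2 ∧
      ∃ C1 : Subgroup P, IsChar C1 ∧ frattini P ≤ C1 ∧ Nat.card C1 = p ^ 3 := by
  have hp : p.Prime := Fact.out
  have hP : IsPGroup p P := IsPGroup.of_card hcard
  have hCΦ := Cfsg.Agent.Lib.Helper1_Frattini.commutator_le_frattini_of_isPGroup hP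
  have hCne : commutator P ≠ ⊥ := by
    intro h
    apply hna
    intro x y
    have h2 : ⁅x, y⁆ ∈ commutator P := by
      rw [commutator_def]
      exact Subgroup.commutator_mem_commutator (Subgroup.mem_top _) (Subgroup.mem_top _)
    rw [h, Subgroup.mem_bot] at h2
    exact commutatorElement_eq_one_iff_mul_comm.1 h2
  obtain ⟨z, hzC, hzZ, hz1⟩ :=
    Cfsg.Agent.Lib.Helper32_PGroup.exists_mem_center_of_normal hP (commutator P) hCne
  have hZz := zpowers_eq_of_card_prime hp hZ hzZ hz1
  have hZC : Subgroup.center P ≤ commutator P := by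
    rw [← hZz, Subgroup.zpowers_le]; exact hzC
  by_cases hCZ : commutator P ≤ Subgroup.center P
  · -- extraspecial of order `p⁴`: impossible
    exfalso
    have hceq : commutator P = Subgroup.center P := le_antisymm hCZ hZC
    have hcomm : ∀ x y : P, ⁅x, y⁆ ∈ Subgroup.center P := by
      intro x y
      apply hCZ
      rw [commutator_def]
      exact Subgroup.commutator_mem_commutator (Subgroup.mem_top _) (Subgroup.mem_top _)
    have hpow : ∀ x : P, x ^ p ∈ Subgroup.center P := by
      intro x
      rw [Subgroup.mem_center_iff]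
      intro y
      have h1 := commutator_pow_left y x (hcomm x y) p
      have h2 : (⟨⁅x, y⁆, hcomm x y⟩ : Subgroup.center P) ^ Nat.card (Subgroup.center P) = 1 :=
        pow_card_eq_one'
      rw [hZ] at h2
      have h3 : ⁅x, y⁆ ^ p = 1 := congrArg Subtype.val h2
      rw [h3] at h1
      exact (commutatorElement_eq_one_iff_mul_comm.1 h1).symm
    have hes : Cfsg.IsExtraspecial p P := by
      refine ⟨⟨hP, ?_, hceq⟩, hZ⟩
      apply le_antisymm
      · exact Cfsg.Agent.Lib.Helper1_Frattini.frattini_le_of_elementary_quotient (p := p)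
          (Subgroup.center P) hCZ hpow
      · rw [← hceq]; exact hCΦ
    obtain ⟨n, -, hn⟩ := Cfsg.Agent.Lib.Helper63_Extraspecial.card_of_extraspecial hes
    rw [hcard] at hn
    have := Nat.pow_right_injective hp.two_le hn
    omega
  · -- `P' = Φ` of order `p²`
    obtain ⟨c, hcC, hcZ⟩ := SetLike.not_le_iff_exists.1 hCZ
    obtain ⟨k, hk2, hk⟩ := card_frattini_of_nonabelian hcard hna
    obtain ⟨i, hi4, hi⟩ := card_subgroup_eq_pow hp hcard (commutator P)
    have hi2 : 2 ≤ i := by
      by_contra hlt
      push Not at hlt
      have hle : Nat.card (commutator P) ≤ Nat.card (Subgroup.center P) := by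
        rw [hi, hZ]
        calc p ^ i ≤ p ^ 1 := Nat.pow_le_pow_right hp.pos (by omega)
          _ = p := pow_one p
      exact hCZ (Subgroup.eq_of_le_of_card_ge hZC hle).ge
    have hik : i ≤ k := by
      have := Subgroup.card_le_of_le hCΦ
      rw [hi, hk] at this
      exact (Nat.pow_le_pow_iff_right hp.one_lt).1 this
    have hk2' : k = 2 := by omega
    have hi2' : i = 2 := by omega
    have hCeq : commutator P = frattini P :=
      Subgroup.eq_of_le_of_card_ge hCΦ (by rw [hi, hk, hk2', hi2'])
    rw [hi2'] at hi
    refine ⟨by rw [hk, hk2'], Subgroup.centralizer (commutator P : Set P), ?_, ?_, ?_⟩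
    · -- characteristic
      intro β x hx
      rw [Subgroup.mem_centralizer_iff] at hx ⊢
      intro y hy
      have hy' : β⁻¹ y ∈ commutator P := isChar_commutator β⁻¹ y hy
      have := hx _ hy'
      have h2 := congrArg β this
      simpa using h2
    · -- contains `Φ = P'` (abelian of order `p²`)
      rw [← hCeq]
      have hab : IsMulCommutative (commutator P) := IsPGroup.isMulCommutative_of_card_eq_prime_sq hi
      exact Subgroup.le_centralizer_iff_isMulCommutative.2 hab
    · -- order `p³`
      have hcg : ∀ g : P, ⁅c, g⁆ ∈ Subgroup.center P := by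
        intro g
        -- `conj g` acts trivially on `P' / Z`
        obtain ⟨m, hm⟩ := hP g
        have hpow : (MulAut.conj g) ^ (p ^ m) = 1 := by rw [← map_pow, hm, map_one]
        have hst : MulAut.conj g ∈ Cfsg.Agent.Lib.Helper88_SmallEssential.stabSub
            (Subgroup.center P) (commutator P) := by
          constructor
          · intro x
            constructor
            · intro h
              have := isChar_center (MulAut.conj g)⁻¹ _ h
              rwa [MulAut.inv_apply_self] at this
            · exact isChar_center _ x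
          · intro x
            constructor
            · intro h
              have := isChar_commutator (MulAut.conj g)⁻¹ _ h
              rwa [MulAut.inv_apply_self] at this
            · exact isChar_commutator _ x
        have hrel : (Subgroup.center P).relIndex (commutator P) = p := by
          have := Subgroup.relIndex_mul_relIndex (⊥ : Subgroup P) _ _ bot_le hZC
          rw [Subgroup.relIndex_bot_left, Subgroup.relIndex_bot_left, hZ, hi, pow_two] at this
          exact Nat.eq_of_mul_eq_mul_left hp.pos this
        have h1 := Cfsg.Agent.Lib.Helper88_SmallEssential.inv_mul_apply_mem_of_pow_eq_one hrel hst hpow hcC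
        rw [MulAut.conj_apply] at h1
        -- `⁅c, g⁆ = (c⁻¹ * (g c g⁻¹))⁻¹` conjugated
        have h2 : ⁅c, g⁆ = c * (c⁻¹ * (g * c * g⁻¹))⁻¹ * c⁻¹ := by
          rw [commutatorElement_def]; group
        rw [h2]
        have h3 := (Subgroup.center P).inv_mem h1
        have hn : (Subgroup.center P).Normal := inferInstance
        exact hn.conj_mem _ h3 c
      have hdvd := Cfsg.Agent.Lib.Helper63_PGroup.index_centralizer_dvd_card_center c hcg
      rw [hZ] at hdvd
      have hDidx : (Subgroup.centralizer ({c} : Set P)).index = p := by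
        rcases (Nat.dvd_prime hp).1 hdvd with h | h
        · exfalso
          apply hcZ
          rw [Subgroup.index_eq_one] at h
          rw [Subgroup.mem_center_iff]
          intro g
          have : g ∈ Subgroup.centralizer ({c} : Set P) := by rw [h]; trivial
          rw [Subgroup.mem_centralizer_iff] at this
          exact (this c rfl).symm
        · exact h
      -- `C_P(P') = C_P(c)`
      have hgenC : Subgroup.center P ⊔ Subgroup.zpowers c = commutator P := by
        apply Subgroup.eq_of_le_of_card_ge (sup_le hZC (by rw [Subgroup.zpowers_le]; exact hcC))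
        obtain ⟨j, hj4, hj⟩ := card_subgroup_eq_pow hp hcard (Subgroup.center P ⊔ Subgroup.zpowers c)
        have hlt : Subgroup.center P < Subgroup.center P ⊔ Subgroup.zpowers c := by
          refine lt_of_le_of_ne le_sup_left ?_
          intro h
          apply hcZ
          rw [h]
          exact Subgroup.mem_sup_right (Subgroup.mem_zpowers c)
        have h0 : Nat.card (Subgroup.center P) <
            Nat.card (Subgroup.center P ⊔ Subgroup.zpowers c : Subgroup P) := by
          by_contra hle
          push Not at hle
          exact hlt.ne (Subgroup.eq_of_le_of_card_ge hlt.le hle)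
        have h1 : p ^ 1 < p ^ j := by
          rw [pow_one]
          calc p = Nat.card (Subgroup.center P) := hZ.symm
            _ < Nat.card (Subgroup.center P ⊔ Subgroup.zpowers c : Subgroup P) := h0
            _ = p ^ j := hj
        have h2 : 1 < j := (Nat.pow_lt_pow_iff_right hp.one_lt).1 h1
        rw [hi, hj]
        exact Nat.pow_le_pow_right hp.pos h2
      have hMD : Subgroup.centralizer (commutator P : Set P) = Subgroup.centralizer ({c} : Set P) := by
        apply le_antisymm
        · apply Subgroup.centralizer_le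
          intro x hx
          rw [Set.mem_singleton_iff] at hx
          rw [hx]; exact hcC
        · intro g hg
          rw [Subgroup.mem_centralizer_iff] at hg
          have hgc := hg c rfl
          have hle : commutator P ≤ Subgroup.centralizer ({g} : Set P) := by
            rw [← hgenC]
            apply sup_le
            · intro w hw
              rw [Subgroup.mem_centralizer_iff]
              intro y hy
              rw [Set.mem_singleton_iff] at hy
              rw [hy]
              exact Subgroup.mem_center_iff.1 hw g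
            · rw [Subgroup.zpowers_le, Subgroup.mem_centralizer_iff]
              intro y hy
              rw [Set.mem_singleton_iff] at hy
              rw [hy]
              exact hgc.symm
          rw [Subgroup.mem_centralizer_iff]
          intro y hy
          have := hle hy
          rw [Subgroup.mem_centralizer_iff] at this
          exact (this g rfl).symm
      rw [hMD]
      have := (Subgroup.centralizer ({c} : Set P)).card_mul_index
      rw [hDidx, hcard] at this
      have h2 : Nat.card (Subgroup.centralizer ({c} : Set P)) * p = p ^ 3 * p := by rw [this]; ring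
      exact Nat.eq_of_mul_eq_mul_right hp.pos h2

end Cfsg.Agent.Lib.Helper88_OrderP4
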