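import Mathlib
import Cfsg.Prelude.Def_Transfer
import Cfsg.Agent.Lib.Helper88_OrderP4
import Cfsg.Agent.Lib.Helper50_UniqueInv
import Cfsg.Agent.Lib.Helper50_UniqueInv2
import Cfsg.Agent.Lib.Helper88_AbelianEssential
import Cfsg.Agent.Lib.Helper88_FrattiniChain
import Cfsg.Prelude.Def_Solvable
import Cfsg.Prelude.Def_KGroupFacts

set_option autoImplicit false

namespace Cfsg.Agent.Lib.Helper88_OrderP4

open scoped commutatorElement
open Cfsg.Agent.Lib.Helper88_SmallEssential (card_eq_pow_of_dvd zpowers_eq_of_card_prime center_char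
  card_ker_mul_card_range)

section Split

variable {G : Type*} [Group G]

/-- A central element of order `p` outside the Frattini subgroup splits off as a direct factor. -/
theorem split_central [Finite G] {p : ℕ} [Fact p.Prime] (c : G) (hcZ : c ∈ Subgroup.center G)
    (hcp : c ^ p = 1) (hcΦ : c ∉ frattini G) :
    ∃ M : Subgroup G, frattini G ≤ M ∧ c ∉ M ∧ Nonempty (G ≃* M × Multiplicative (ZMod p)) ∧
      Nat.card M * p = Nat.card G := by
  have hp : p.Prime := Fact.out
  obtain ⟨M, hM, hcM⟩ : ∃ M : Subgroup G, IsCoatom M ∧ c ∉ M := by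
    by_contra h
    push Not at h
    apply hcΦ
    unfold frattini Order.radical
    rw [Subgroup.mem_iInf]
    intro K
    rw [Subgroup.mem_iInf]
    intro hK
    exact h K hK
  have hc1 : c ≠ 1 := fun h => hcM (h ▸ M.one_mem)
  have hcard : Nat.card (Subgroup.zpowers c) = p := by
    rw [Nat.card_zpowers]; exact orderOf_eq_prime hcp hc1
  have hsup : M ⊔ Subgroup.zpowers c = ⊤ := by
    apply hM.2
    refine lt_of_le_of_ne le_sup_left ?_
    intro h
    apply hcM
    rw [h]
    exact Subgroup.mem_sup_right (Subgroup.mem_zpowers c)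
  have hdisj : ∀ g ∈ M, g ∈ Subgroup.zpowers c → g = 1 := by
    intro g hgM hgc
    by_contra hg1
    have := zpowers_eq_of_card_prime hp hcard hgc hg1
    apply hcM
    have h2 : c ∈ Subgroup.zpowers g := by rw [this]; exact Subgroup.mem_zpowers c
    exact (Subgroup.zpowers_le.2 hgM) h2
  have hcomm : ∀ (m : M) (n : Subgroup.zpowers c), Commute (M.subtype m) ((Subgroup.zpowers c).subtype n) := by
    intro m n
    obtain ⟨n, hn⟩ := n
    obtain ⟨i, rfl⟩ := Subgroup.mem_zpowers_iff.1 hn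
    have : c ^ i ∈ Subgroup.center G := Subgroup.zpow_mem _ hcZ i
    exact (Subgroup.mem_center_iff.1 this m)
  let φ : M × Subgroup.zpowers c →* G := MonoidHom.noncommCoprod M.subtype (Subgroup.zpowers c).subtype hcomm
  have hφ : ∀ mn, φ mn = (mn.1 : G) * (mn.2 : G) := fun mn => rfl
  have hinj : Function.Injective φ := by
    rw [injective_iff_map_eq_one]
    rintro ⟨m, n⟩ h
    rw [hφ] at h
    have h1 : (m : G) = (n : G)⁻¹ := eq_inv_of_mul_eq_one_left h
    have h2 : (m : G) = 1 := hdisj _ m.2 (h1 ▸ (Subgroup.zpowers c).inv_mem n.2)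
    have h3 : (n : G) = 1 := by rw [h2, one_mul] at h; exact h
    ext
    · exact h2
    · exact h3
  have hsurj : Function.Surjective φ := by
    rw [← MonoidHom.range_eq_top, eq_top_iff, ← hsup]
    apply sup_le
    · intro m hm
      exact ⟨(⟨m, hm⟩, 1), by rw [hφ]; simp⟩
    · intro n hn
      exact ⟨(1, ⟨n, hn⟩), by rw [hφ]; simp⟩
  let e : M × Subgroup.zpowers c ≃* G := MulEquiv.ofBijective φ ⟨hinj, hsurj⟩
  have hcyc : IsCyclic (Subgroup.zpowers c) := inferInstance
  have e2 : Multiplicative (ZMod p) ≃* Subgroup.zpowers c := hcard ▸ zmodCyclicMulEquiv hcyc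
  refine ⟨M, frattini_le_coatom hM, hcM, ⟨e.symm.trans (MulEquiv.prodCongr (MulEquiv.refl M) e2.symm)⟩, ?_⟩
  rw [← Nat.card_congr e.toEquiv, Nat.card_prod, hcard]

end Split

section AbelianSplit

variable {G : Type*} [CommGroup G]

open Cfsg.Agent.Lib.Helper88_AbelianEssential (frattini_eq_powSub powSub)

/-- Abelian, `|Φ(G)| = p`: the `p`-power map has kernel of index `p`. -/
theorem card_ker_pow_of_frattini [Finite G] {p : ℕ} [Fact p.Prime] (hG : IsPGroup p G)
    (hΦ : Nat.card (frattini G) = p) :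
    Nat.card (powMonoidHom p : G →* G).ker * p = Nat.card G := by
  have h := card_ker_mul_card_range (powMonoidHom p : G →* G)
  have h2 : (powMonoidHom p : G →* G).range = frattini G := by
    rw [frattini_eq_powSub hG]; rfl
  rw [h2, hΦ] at h
  exact h

/-- One splitting step for abelian `p`-groups with Frattini subgroup of order `p`. -/
theorem abelian_split_step [Finite G] {p : ℕ} [Fact p.Prime] {n : ℕ}
    (hcard : Nat.card G = p ^ (n + 3)) (hΦ : Nat.card (frattini G) = p) :
    ∃ M : Subgroup G, Nat.card M = p ^ (n + 2) ∧ Nat.card (frattini M) = p ∧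
      Nonempty (G ≃* M × Multiplicative (ZMod p)) := by
  have hp : p.Prime := Fact.out
  have hG : IsPGroup p G := IsPGroup.of_card hcard
  have hker := card_ker_pow_of_frattini hG hΦ
  rw [hcard, pow_succ] at hker
  have hker' : Nat.card (powMonoidHom p : G →* G).ker = p ^ (n + 2) :=
    Nat.eq_of_mul_eq_mul_right hp.pos hker
  obtain ⟨c, hcK, hcΦ⟩ : ∃ c ∈ (powMonoidHom p : G →* G).ker, c ∉ frattini G := by
    by_contra h
    push Not at h
    have hle : (powMonoidHom p : G →* G).ker ≤ frattini G := h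
    have := Subgroup.card_le_of_le hle
    rw [hker', hΦ] at this
    have h2 : p ^ 1 < p ^ (n + 2) := Nat.pow_lt_pow_right hp.one_lt (by omega)
    rw [pow_one] at h2
    omega
  have hcp : c ^ p = 1 := hcK
  obtain ⟨M, -, hcM, hiso, hMcard⟩ := split_central c
    (Subgroup.mem_center_iff.2 (fun g => mul_comm g c)) hcp hcΦ
  rw [hcard, pow_succ] at hMcard
  have hMcard' : Nat.card M = p ^ (n + 2) := Nat.eq_of_mul_eq_mul_right hp.pos hMcard
  refine ⟨M, hMcard', ?_, hiso⟩
  have hM : IsPGroup p M := hG.to_subgroup M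
  have hdvd : Nat.card (frattini M) ∣ p := by
    rw [← hΦ, ← Subgroup.card_map_of_injective M.subtype_injective]
    apply Subgroup.card_dvd_of_le
    rw [frattini_eq_powSub hM, frattini_eq_powSub hG]
    rintro _ ⟨_, ⟨y, rfl⟩, rfl⟩
    exact ⟨(y : G), rfl⟩
  rcases (Nat.dvd_prime hp).1 hdvd with h | h
  · exfalso
    rw [Subgroup.card_eq_one] at h
    apply hcM
    have hle : M ≤ (powMonoidHom p : G →* G).ker := by
      intro m hm
      have h1 := Cfsg.Agent.Lib.Helper1_Frattini.pow_mem_frattini_of_isPGroup hM ⟨m, hm⟩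
      rw [h, Subgroup.mem_bot] at h1
      exact congrArg Subtype.val h1
    have heq := Subgroup.eq_of_le_of_card_ge hle (by rw [hMcard', hker'])
    rw [heq]
    exact hcK
  · exact h

/-- Base of the splitting: order `p²` with `|Φ| = p` is cyclic. -/
theorem abelian_split_base [Finite G] {p : ℕ} [Fact p.Prime]
    (hcard : Nat.card G = p ^ 2) (hΦ : Nat.card (frattini G) = p) :
    Nonempty (G ≃* Multiplicative (ZMod (p ^ 2))) := by
  have hp : p.Prime := Fact.out
  have hG : IsPGroup p G := IsPGroup.of_card hcard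
  obtain ⟨x, hx⟩ : ∃ x : G, x ^ p ≠ 1 := by
    by_contra h
    push Not at h
    have : frattini G = ⊥ := by
      rw [frattini_eq_powSub hG, eq_bot_iff]
      rintro _ ⟨y, rfl⟩
      exact h y
    rw [this, Subgroup.card_bot] at hΦ
    exact hp.one_lt.ne hΦ
  have hord : orderOf x = p ^ (1 + 1) := by
    apply orderOf_eq_prime_pow
    · rwa [pow_one]
    · rw [← hcard]; exact pow_card_eq_one'
  have hcyc : IsCyclic G := isCyclic_of_orderOf_eq_card x (by rw [hord, hcard])
  exact ⟨(hcard ▸ zmodCyclicMulEquiv hcyc : Multiplicative (ZMod (p ^ 2)) ≃* G).symm⟩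

end AbelianSplit

section AbelianP4

variable {P : Type*} [Group P]

/-- Abelian of order `p⁴` with `|Φ| = p` is `C_{p²} × C_p × C_p`. -/
theorem abelian_p4_frattini_p [Finite P] {p : ℕ} [Fact p.Prime] (hcard : Nat.card P = p ^ 4)
    (hab : ∀ x y : P, x * y = y * x) (hΦ : Nat.card (frattini P) = p) :
    Nonempty (P ≃* Multiplicative (ZMod (p ^ 2) × ZMod p × ZMod p)) := by
  let _ : CommGroup P := { (inferInstance : Group P) with mul_comm := hab }
  obtain ⟨M, hM, hΦM, ⟨e1⟩⟩ := abelian_split_step (G := P) (n := 1) hcard hΦ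
  obtain ⟨M2, hM2, hΦM2, ⟨e2⟩⟩ := abelian_split_step (G := M) (n := 0) hM hΦM
  obtain ⟨e3⟩ := abelian_split_base (G := M2) hM2 hΦM2
  refine ⟨?_⟩
  have e4 : P ≃* (Multiplicative (ZMod (p ^ 2)) × Multiplicative (ZMod p)) × Multiplicative (ZMod p) :=
    e1.trans (MulEquiv.prodCongr (e2.trans (MulEquiv.prodCongr e3 (MulEquiv.refl _))) (MulEquiv.refl _))
  have e5 : (Multiplicative (ZMod (p ^ 2)) × Multiplicative (ZMod p)) × Multiplicative (ZMod p) ≃*
      Multiplicative (ZMod (p ^ 2)) × Multiplicative (ZMod p × ZMod p) :=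
    MulEquiv.prodAssoc.trans (MulEquiv.prodCongr (MulEquiv.refl _)
      (MulEquiv.prodMultiplicative (ZMod p) (ZMod p)).symm)
  exact (e4.trans e5).trans (MulEquiv.prodMultiplicative (ZMod (p ^ 2)) (ZMod p × ZMod p)).symm

end AbelianP4

section ZSq

variable {P : Type*} [Group P]

/-- A characteristic flag above the Frattini subgroup, of a shape forbidden for radical subgroups. -/
def BadFlag (p : ℕ) (P : Type*) [Group P] : Prop :=
  ∃ k : ℕ, Nat.card (frattini P) = p ^ k ∧
    (Nat.card P = p ^ (k + 1) ∨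
     (Nat.card P = p ^ (k + 2) ∧ ∃ C1 : Subgroup P, IsChar C1 ∧ frattini P ≤ C1 ∧
        Nat.card C1 = p ^ (k + 1)) ∨
     (Nat.card P = p ^ (k + 3) ∧ ∃ C1 C2 : Subgroup P, IsChar C1 ∧ IsChar C2 ∧ frattini P ≤ C1 ∧
        C1 ≤ C2 ∧ Nat.card C1 = p ^ (k + 1) ∧ Nat.card C2 = p ^ (k + 2)))

theorem card_eq_cube_of_between [Finite P] {p : ℕ} [Fact p.Prime] (hcard : Nat.card P = p ^ 4)
    {Z M : Subgroup P} (hZ : Nat.card Z = p ^ 2) (hZM : Z ≤ M) {x : P} (hxM : x ∈ M) (hxZ : x ∉ Z)
    (hMtop : M ≠ ⊤) : Nat.card M = p ^ 3 := by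
  have hp : p.Prime := Fact.out
  obtain ⟨i, hi4, hi⟩ := card_subgroup_eq_pow hp hcard M
  have hlt : Z < M := lt_of_le_of_ne hZM (fun h => hxZ (h ▸ hxM))
  have h0 : Nat.card Z < Nat.card M := by
    by_contra hle
    push Not at hle
    exact hlt.ne (Subgroup.eq_of_le_of_card_ge hlt.le hle)
  rw [hZ, hi] at h0
  have h2 : 2 < i := (Nat.pow_lt_pow_iff_right hp.one_lt).1 h0
  have h3 : i ≠ 4 := by
    intro h
    apply hMtop
    rw [← Subgroup.card_eq_iff_eq_top, hi, h, hcard]
  have : i = 3 := by omega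
  rw [hi, this]

theorem commutator_le_center_of_forall {Z : Subgroup P} (hcomm : ∀ x y : P, ⁅x, y⁆ ∈ Z) :
    commutator P ≤ Z := by
  rw [commutator_def, Subgroup.commutator_le]
  intro x _ y _
  exact hcomm x y

theorem frattini_le_center_of_sq [Finite P] {p : ℕ} [Fact p.Prime] (hcard : Nat.card P = p ^ 4)
    (hna : ¬ ∀ x y : P, x * y = y * x) (hZ : Nat.card (Subgroup.center P) = p ^ 2) :
    frattini P ≤ Subgroup.center P := by
  obtain ⟨hcomm, hpow, -, -⟩ := center_sq_facts hcard hna hZ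
  exact Cfsg.Agent.Lib.Helper1_Frattini.frattini_le_of_elementary_quotient (p := p)
    (Subgroup.center P) (commutator_le_center_of_forall hcomm) hpow

/-- In the centre-of-order-`p²` case, a characteristic subgroup of order `p³` containing the centre
gives a bad flag. -/
theorem badFlag_of_char [Finite P] {p : ℕ} [Fact p.Prime] (hcard : Nat.card P = p ^ 4)
    (hna : ¬ ∀ x y : P, x * y = y * x) (hZ : Nat.card (Subgroup.center P) = p ^ 2)
    (M : Subgroup P) (hM : IsChar M) (hZM : Subgroup.center P ≤ M) (hMcard : Nat.card M = p ^ 3) :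
    BadFlag p P := by
  have hp : p.Prime := Fact.out
  have hP : IsPGroup p P := IsPGroup.of_card hcard
  have hΦZ := frattini_le_center_of_sq hcard hna hZ
  obtain ⟨k, hk4, hk⟩ := card_subgroup_eq_pow hp hcard (frattini P)
  have hk2 : k ≤ 2 := by
    have := Subgroup.card_le_of_le hΦZ
    rw [hk, hZ] at this
    exact (Nat.pow_le_pow_iff_right hp.one_lt).1 this
  have hk0 : k ≠ 0 := by
    intro h
    rw [h, pow_zero, Subgroup.card_eq_one] at hk
    exact hna (elementary_of_frattini_eq_bot hP hk).1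
  refine ⟨k, hk, ?_⟩
  have : k = 1 ∨ k = 2 := by omega
  rcases this with rfl | rfl
  · right; right
    exact ⟨hcard, Subgroup.center P, M, isChar_center, hM, hΦZ, hZM, hZ, hMcard⟩
  · right; left
    exact ⟨hcard, M, hM, hΦZ.trans hZM, hMcard⟩

theorem badFlag_of_char_between [Finite P] {p : ℕ} [Fact p.Prime] (hcard : Nat.card P = p ^ 4)
    (hna : ¬ ∀ x y : P, x * y = y * x) (hZ : Nat.card (Subgroup.center P) = p ^ 2)
    (M : Subgroup P) (hM : IsChar M) (hZM : Subgroup.center P ≤ M) {x : P} (hxM : x ∈ M)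
    (hxZ : x ∉ Subgroup.center P) (hMtop : M ≠ ⊤) : BadFlag p P :=
  badFlag_of_char hcard hna hZ M hM hZM (card_eq_cube_of_between hcard hZ hZM hxM hxZ hMtop)

theorem pow_card_center_eq_one [Finite P] {p : ℕ} (hZ : Nat.card (Subgroup.center P) = p ^ 2)
    {z : P} (hz : z ∈ Subgroup.center P) : z ^ (p ^ 2) = 1 := by
  have h2 : (⟨z, hz⟩ : Subgroup.center P) ^ Nat.card (Subgroup.center P) = 1 := pow_card_eq_one'
  rw [hZ] at h2
  exact congrArg Subtype.val h2

/-- Case A: some element has order `p³`. -/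
theorem badFlag_of_exists_pow_ne [Finite P] {p : ℕ} [Fact p.Prime] (hcard : Nat.card P = p ^ 4)
    (hna : ¬ ∀ x y : P, x * y = y * x) (hZ : Nat.card (Subgroup.center P) = p ^ 2)
    (hex : ∃ x : P, x ^ (p ^ 2) ≠ 1) : BadFlag p P := by
  have hp : p.Prime := Fact.out
  obtain ⟨hcomm, hpow, hcp, hC⟩ := center_sq_facts hcard hna hZ
  have hmul : ∀ x y : P, (x * y) ^ (p ^ 2) = x ^ (p ^ 2) * y ^ (p ^ 2) := by
    intro x y
    rw [Cfsg.Agent.Lib.Helper87_OddOmega.mul_pow_of_central x y (hcomm y x) (p ^ 2)]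
    have hd : p ∣ (p ^ 2).choose 2 := by
      apply hp.dvd_choose_pow (by norm_num)
      intro h
      have : 2 ^ 2 ≤ p ^ 2 := Nat.pow_le_pow_left hp.two_le 2
      omega
    obtain ⟨m, hm⟩ := hd
    rw [hm, pow_mul, hcp, one_pow, mul_one]
  let f : P →* P := MonoidHom.mk' (fun x => x ^ (p ^ 2)) hmul
  have hf : ∀ x, f x = x ^ (p ^ 2) := fun _ => rfl
  have hZker : Subgroup.center P ≤ f.ker := by
    intro z hz
    rw [MonoidHom.mem_ker, hf]
    exact pow_card_center_eq_one hZ hz
  obtain ⟨x, hx⟩ := hex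
  have htop : f.ker ≠ ⊤ := by
    intro h
    apply hx
    have : x ∈ f.ker := by rw [h]; trivial
    exact this
  have hpow3 : ∀ w : P, w ^ (p ^ 3) = 1 := by
    intro w
    rw [pow_succ, pow_mul']
    exact pow_card_center_eq_one hZ (hpow w)
  have hex2 : ∃ y ∈ f.ker, y ∉ Subgroup.center P := by
    by_contra hcon
    push Not at hcon
    have hkerZ : f.ker = Subgroup.center P := le_antisymm hcon hZker
    have h1 := card_ker_mul_card_range f
    rw [hkerZ, hZ, hcard] at h1
    have h2 : p ^ 2 * Nat.card f.range = p ^ 2 * p ^ 2 := by rw [h1]; ring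
    have h3 : Nat.card f.range = p ^ 2 := Nat.eq_of_mul_eq_mul_left (pow_pos hp.pos 2) h2
    have hrZ : f.range ≤ Subgroup.center P := by
      rintro _ ⟨w, rfl⟩
      rw [hf, pow_two, pow_mul]
      exact Subgroup.pow_mem _ (hpow w) p
    have hreq : f.range = Subgroup.center P := Subgroup.eq_of_le_of_card_ge hrZ (by rw [h3, hZ])
    have hZexp : ∀ z ∈ Subgroup.center P, z ^ p = 1 := by
      intro z hz
      rw [← hreq] at hz
      obtain ⟨w, rfl⟩ := hz
      rw [hf, ← pow_mul, ← pow_succ]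
      exact hpow3 w
    apply hx
    rw [pow_two, pow_mul]
    exact hZexp _ (hpow x)
  obtain ⟨y, hyK, hyZ⟩ := hex2
  exact badFlag_of_char_between hcard hna hZ f.ker (isChar_ker_of_pow (p ^ 2) f hf) hZker hyK hyZ htop

end ZSq

section PowComm

variable {P : Type*} [Group P]

/-- `x ↦ x^p P'`, a homomorphism since `P / P'` is abelian. -/
def powCommHom (p : ℕ) (P : Type*) [Group P] : P →* Abelianization P :=
  (powMonoidHom p : Abelianization P →* Abelianization P).comp Abelianization.of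

theorem mem_ker_powCommHom {p : ℕ} {x : P} :
    x ∈ (powCommHom p P).ker ↔ x ^ p ∈ commutator P := by
  rw [MonoidHom.mem_ker, ← Abelianization.ker_of, MonoidHom.mem_ker, map_pow]
  rfl

theorem isChar_ker_powCommHom {p : ℕ} : IsChar (powCommHom p P).ker := by
  intro β x hx
  rw [mem_ker_powCommHom] at hx ⊢
  rw [← map_pow]
  exact isChar_commutator β _ hx

theorem card_ker_mul_card_range' {Q : Type*} [Group Q] [Finite P] (f : P →* Q) :
    Nat.card f.ker * Nat.card f.range = Nat.card P := by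
  rw [← Subgroup.index_ker, Subgroup.card_mul_index]

/-- Case B2, counting: `{x | x^p ∈ P'}` is everything or has order `p³`. -/
theorem ker_powCommHom_cases [Finite P] {p : ℕ} [Fact p.Prime] (hcard : Nat.card P = p ^ 4)
    (hna : ¬ ∀ x y : P, x * y = y * x) (hZ : Nat.card (Subgroup.center P) = p ^ 2) :
    (powCommHom p P).ker = ⊤ ∨ Nat.card (powCommHom p P).ker = p ^ 3 := by
  have hp : p.Prime := Fact.out
  obtain ⟨hcomm, hpow, hcp, hC⟩ := center_sq_facts hcard hna hZ
  have hCZ : commutator P ≤ Subgroup.center P := commutator_le_center_of_forall hcomm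
  let φ : Subgroup.center P →* Abelianization P := Abelianization.of.comp (Subgroup.center P).subtype
  have hφ := card_ker_mul_card_range' φ
  have hker : φ.ker = (commutator P).subgroupOf (Subgroup.center P) := by
    ext z
    rw [MonoidHom.mem_ker, Subgroup.mem_subgroupOf, ← Abelianization.ker_of, MonoidHom.mem_ker]
    rfl
  have hkcard : Nat.card φ.ker = p := by
    rw [hker, Nat.card_congr (Subgroup.subgroupOfEquivOfLe hCZ).toEquiv, hC]
  rw [hkcard, hZ, pow_two] at hφ
  have hrcard : Nat.card φ.range = p := Nat.eq_of_mul_eq_mul_left hp.pos hφ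
  have hle : (powCommHom p P).range ≤ φ.range := by
    rintro _ ⟨x, rfl⟩
    refine ⟨⟨x ^ p, hpow x⟩, ?_⟩
    show Abelianization.of (x ^ p) = (Abelianization.of x) ^ p
    rw [map_pow]
  have hdvd : Nat.card (powCommHom p P).range ∣ p := by
    have := Subgroup.card_dvd_of_le hle
    rwa [hrcard] at this
  have hmain := card_ker_mul_card_range' (powCommHom p P)
  rw [hcard] at hmain
  rcases (Nat.dvd_prime hp).1 hdvd with h | h
  · left
    rw [h, mul_one] at hmain
    rw [← Subgroup.card_eq_iff_eq_top, hmain, hcard]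
  · right
    rw [h] at hmain
    have h2 : Nat.card (powCommHom p P).ker * p = p ^ 3 * p := by rw [hmain]; ring
    exact Nat.eq_of_mul_eq_mul_right hp.pos h2

/-- Case B2: the centre has exponent `p`. -/
theorem pow_mem_commutator_or_badFlag [Finite P] {p : ℕ} [Fact p.Prime] (hcard : Nat.card P = p ^ 4)
    (hna : ¬ ∀ x y : P, x * y = y * x) (hZ : Nat.card (Subgroup.center P) = p ^ 2)
    (hZexp : ∀ z ∈ Subgroup.center P, z ^ p = 1) :
    (∀ x : P, x ^ p ∈ commutator P) ∨ BadFlag p P := by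
  rcases ker_powCommHom_cases hcard hna hZ with h | h
  · left
    intro x
    rw [← mem_ker_powCommHom, h]
    trivial
  · right
    refine badFlag_of_char hcard hna hZ _ isChar_ker_powCommHom ?_ h
    intro z hz
    rw [mem_ker_powCommHom, hZexp z hz]
    exact Subgroup.one_mem _

end PowComm

section B3

variable {P : Type*} [Group P]

theorem eq_of_mem_of_card_two {K : Subgroup P} (hK : Nat.card K = 2) {u v : P} (hu : u ∈ K)
    (hv : v ∈ K) (hu1 : u ≠ 1) (hv1 : v ≠ 1) : u = v := by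
  obtain ⟨w, -, hw⟩ := (Nat.card_eq_two_iff' (1 : K)).1 hK
  have h1 : (⟨u, hu⟩ : K) = w := hw _ (fun h => hu1 (congrArg Subtype.val h))
  have h2 : (⟨v, hv⟩ : K) = w := hw _ (fun h => hv1 (congrArg Subtype.val h))
  exact congrArg Subtype.val (h1.trans h2.symm)

/-- Case B3: a central direct factor of order `p` splits off. -/
theorem exists_split_of_pow_mem_commutator [Finite P] {p : ℕ} [Fact p.Prime]
    (hcard : Nat.card P = p ^ 4) (hna : ¬ ∀ x y : P, x * y = y * x)
    (hZ : Nat.card (Subgroup.center P) = p ^ 2) (hZexp : ∀ z ∈ Subgroup.center P, z ^ p = 1)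
    (hB3 : ∀ x : P, x ^ p ∈ commutator P) :
    ∃ (c : P) (M : Subgroup P), c ∈ Subgroup.center P ∧ c ∉ M ∧ frattini P ≤ M ∧
      Nat.card M = p ^ 3 ∧ (¬ ∀ x y : M, x * y = y * x) ∧
      Nonempty (P ≃* M × Multiplicative (ZMod p)) := by
  have hp : p.Prime := Fact.out
  obtain ⟨hcomm, hpow, hcp, hC⟩ := center_sq_facts hcard hna hZ
  have hΦC : frattini P ≤ commutator P :=
    Cfsg.Agent.Lib.Helper1_Frattini.frattini_le_of_elementary_quotient (p := p)
      (commutator P) le_rfl hB3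
  obtain ⟨c, hcZ, hcΦ⟩ : ∃ c ∈ Subgroup.center P, c ∉ frattini P := by
    by_contra h
    push Not at h
    have hle : Subgroup.center P ≤ commutator P := fun z hz => hΦC (h z hz)
    have := Subgroup.card_le_of_le hle
    rw [hZ, hC] at this
    have h2 : p ^ 1 < p ^ 2 := Nat.pow_lt_pow_right hp.one_lt (by omega)
    rw [pow_one] at h2
    omega
  obtain ⟨M, hΦM, hcM, ⟨e⟩, hMcard⟩ := split_central c hcZ (hZexp c hcZ) hcΦ
  rw [hcard] at hMcard
  have hMcard' : Nat.card M = p ^ 3 := by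
    have h2 : Nat.card M * p = p ^ 3 * p := by rw [hMcard]; ring
    exact Nat.eq_of_mul_eq_mul_right hp.pos h2
  refine ⟨c, M, hcZ, hcM, hΦM, hMcard', ?_, ⟨e⟩⟩
  intro hMab
  apply hna
  intro x y
  apply e.injective
  rw [map_mul, map_mul]
  refine Prod.ext (hMab _ _) ?_
  exact mul_comm (e x).2 (e y).2

/-- Case B3, `p` odd. -/
theorem odd_case [Finite P] {p : ℕ} [Fact p.Prime] (hp2 : p ≠ 2)
    (hcard : Nat.card P = p ^ 4) (hna : ¬ ∀ x y : P, x * y = y * x)
    (hZ : Nat.card (Subgroup.center P) = p ^ 2) (hZexp : ∀ z ∈ Subgroup.center P, z ^ p = 1)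
    (hB3 : ∀ x : P, x ^ p ∈ commutator P) :
    (∃ M : Subgroup P, (¬ ∀ x y : M, x * y = y * x) ∧ Nat.card M = p ^ 3 ∧ (∀ x : M, x ^ p = 1) ∧
      Nonempty (P ≃* M × Multiplicative (ZMod p))) ∨ BadFlag p P := by
  have hp : p.Prime := Fact.out
  obtain ⟨hcomm, hpow, hcp, hC⟩ := center_sq_facts hcard hna hZ
  let g : P →* P := MonoidHom.mk' (fun x => x ^ p) (fun x y =>
    Cfsg.Agent.Lib.Helper87_OddOmega.mul_pow_prime_of_central hp hp2 x y (hcomm y x) (hpow y))
  have hg : ∀ x, g x = x ^ p := fun _ => rfl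
  have hle : g.range ≤ commutator P := by
    rintro _ ⟨x, rfl⟩
    exact hB3 x
  have hdvd : Nat.card g.range ∣ p := by
    have := Subgroup.card_dvd_of_le hle
    rwa [hC] at this
  have hmain := card_ker_mul_card_range g
  rw [hcard] at hmain
  rcases (Nat.dvd_prime hp).1 hdvd with h | h
  · left
    rw [h, mul_one] at hmain
    have htop : g.ker = ⊤ := by rw [← Subgroup.card_eq_iff_eq_top, hmain, hcard]
    have hexp : ∀ x : P, x ^ p = 1 := by
      intro x
      have : x ∈ g.ker := by rw [htop]; trivial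
      exact this
    obtain ⟨c, M, -, -, -, hMcard, hMna, hiso⟩ :=
      exists_split_of_pow_mem_commutator hcard hna hZ hZexp hB3
    exact ⟨M, hMna, hMcard, fun x => Subtype.ext (hexp x), hiso⟩
  · right
    rw [h] at hmain
    have h2 : Nat.card g.ker * p = p ^ 3 * p := by rw [hmain]; ring
    have h3 : Nat.card g.ker = p ^ 3 := Nat.eq_of_mul_eq_mul_right hp.pos h2
    refine badFlag_of_char hcard hna hZ g.ker (isChar_ker_of_pow p g hg) ?_ h3
    intro z hz
    rw [MonoidHom.mem_ker, hg]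
    exact hZexp z hz

/-- Case B3, `p = 2`, all involutions central: `Q₈ × C₂`. -/
theorem two_case_a [Finite P] (hcard : Nat.card P = 2 ^ 4) (hna : ¬ ∀ x y : P, x * y = y * x)
    (hZ : Nat.card (Subgroup.center P) = 2 ^ 2) (hZexp : ∀ z ∈ Subgroup.center P, z ^ 2 = 1)
    (hB3 : ∀ x : P, x ^ 2 ∈ commutator P) (ha : ∀ x : P, x ^ 2 = 1 → x ∈ Subgroup.center P) :
    Nonempty (P ≃* QuaternionGroup 2 × Multiplicative (ZMod 2)) := by
  have hp : Nat.Prime 2 := Nat.prime_two
  obtain ⟨c, M, hcZ, hcM, hΦM, hMcard, hMna, ⟨e⟩⟩ :=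
    exists_split_of_pow_mem_commutator (p := 2) hcard hna hZ hZexp hB3
  have hMp : IsPGroup 2 M := IsPGroup.of_card hMcard
  have huniq : Cfsg.Agent.Lib.Helper50_UniqueInv.UniqueInvolution M := by
    intro u v hu hv hu1 hv1
    have huZ : (u : P) ∈ Subgroup.center P := ha _ (by rw [← Subgroup.coe_pow, hu]; rfl)
    have hvZ : (v : P) ∈ Subgroup.center P := ha _ (by rw [← Subgroup.coe_pow, hv]; rfl)
    set K : Subgroup P := Subgroup.center P ⊓ M with hK
    have hcK : c ∉ K := fun h => hcM h.2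
    obtain ⟨i, hi4, hi⟩ := card_subgroup_eq_pow hp hcard K
    have hKZ : K ≤ Subgroup.center P := inf_le_left
    have hi2 : i ≤ 2 := by
      have := Subgroup.card_le_of_le hKZ
      rw [hi, hZ] at this
      exact (Nat.pow_le_pow_iff_right hp.one_lt).1 this
    have hi2' : i ≠ 2 := by
      intro h
      apply hcK
      have := Subgroup.eq_of_le_of_card_ge hKZ (by rw [hi, h, hZ])
      rw [this]
      exact hcZ
    have huK : (u : P) ∈ K := ⟨huZ, u.2⟩
    have hvK : (v : P) ∈ K := ⟨hvZ, v.2⟩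
    have hu1' : (u : P) ≠ 1 := fun h => hu1 (Subtype.ext h)
    have hv1' : (v : P) ≠ 1 := fun h => hv1 (Subtype.ext h)
    have hi0 : i ≠ 0 := by
      intro h
      rw [h, pow_zero, Subgroup.card_eq_one] at hi
      rw [hi, Subgroup.mem_bot] at huK
      exact hu1' huK
    have hi1 : i = 1 := by omega
    rw [hi1, pow_one] at hi
    exact Subtype.ext (eq_of_mem_of_card_two hi huK hvK hu1' hv1')
  rcases Cfsg.Agent.Lib.Helper50_UniqueInv2.isCyclic_or_quaternion hMp huniq with hcyc | ⟨k, hk1, ⟨e'⟩⟩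
  · exfalso
    apply hMna
    intro x y
    have := hcyc
    exact (IsCyclic.commGroup (α := M)).mul_comm x y
  · have : NeZero (2 ^ k) := ⟨pow_ne_zero _ (by norm_num)⟩
    have hc := Nat.card_congr e'.toEquiv
    rw [hMcard, Nat.card_eq_fintype_card, QuaternionGroup.card] at hc
    have h2k : 2 ^ k = 2 ^ 1 := by omega
    have hk : k = 1 := Nat.pow_right_injective (le_refl 2) h2k
    subst hk
    have e'' : M ≃* QuaternionGroup 2 := e'
    exact ⟨e.trans (MulEquiv.prodCongr e'' (MulEquiv.refl _))⟩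

end B3

section TwoB

variable {P : Type*} [Group P]

/-- Case B3, `p = 2`, with a non-central involution: `D₈ × C₂`, which has a bad flag. -/
theorem two_case_b [Finite P] (hcard : Nat.card P = 2 ^ 4) (hna : ¬ ∀ x y : P, x * y = y * x)
    (hZ : Nat.card (Subgroup.center P) = 2 ^ 2) (hZexp : ∀ z ∈ Subgroup.center P, z ^ 2 = 1)
    (hB3 : ∀ x : P, x ^ 2 ∈ commutator P) (x₁ : P) (hx₁Z : x₁ ∉ Subgroup.center P)
    (hx₁ : x₁ ^ 2 = 1) : BadFlag 2 P := by
  have hp : Nat.Prime 2 := Nat.prime_two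
  obtain ⟨hcomm, hpow, hcp, hC⟩ := center_sq_facts (p := 2) hcard hna hZ
  set T : Set P := {y | y ^ 2 ≠ 1} with hT
  -- `T` is nonempty
  obtain ⟨x₀, hx₀⟩ : ∃ x₀ : P, x₀ ^ 2 ≠ 1 := by
    by_contra h
    push Not at h
    apply hna
    intro x y
    have h1 := h (x * y)
    have h2 := h x
    have h3 := h y
    have hx : x⁻¹ = x := by rw [inv_eq_iff_mul_eq_one, ← pow_two]; exact h2
    have hy : y⁻¹ = y := by rw [inv_eq_iff_mul_eq_one, ← pow_two]; exact h3
    have hxy : (x * y)⁻¹ = x * y := by rw [inv_eq_iff_mul_eq_one, ← pow_two]; exact h1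
    rw [mul_inv_rev, hx, hy] at hxy
    exact hxy.symm
  have hx₀Z : x₀ ∉ Subgroup.center P := fun h => hx₀ (hZexp x₀ h)
  -- the abelian subgroup `B = Z⟨x₁⟩` of index two, of exponent two
  set B : Subgroup P := Subgroup.center P ⊔ Subgroup.zpowers x₁ with hB
  have hBc := Cfsg.Agent.Lib.Helper63_PGroup.isMulCommutative_sup_zpowers (Subgroup.center P) x₁
    (fun d hd => (Subgroup.mem_center_iff.1 hd x₁).symm)
  have hBexp : ∀ b ∈ B, b ^ 2 = 1 := by
    intro b hb
    have hb' : b ∈ ((Subgroup.center P ⊔ Subgroup.zpowers x₁ : Subgroup P) : Set P) := hb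
    rw [Subgroup.normal_mul] at hb'
    obtain ⟨z, hz, w, hw, rfl⟩ := Set.mem_mul.1 hb'
    obtain ⟨i, rfl⟩ := Subgroup.mem_zpowers_iff.1 hw
    have hcm : Commute z (x₁ ^ i) := (Subgroup.mem_center_iff.1 hz _).symm
    rw [hcm.mul_pow, hZexp z hz, one_mul, ← zpow_natCast, ← zpow_mul, mul_comm, zpow_mul,
      zpow_natCast, hx₁, one_zpow]
  have hBtop : B ≠ ⊤ := by
    intro h
    apply hna
    intro a b
    have ha : a ∈ B := by rw [h]; trivial
    have hb : b ∈ B := by rw [h]; trivial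
    have := hBc.is_comm.comm (⟨a, ha⟩ : B) ⟨b, hb⟩
    exact congrArg Subtype.val this
  have hBcard : Nat.card B = 2 ^ 3 :=
    card_eq_cube_of_between (p := 2) hcard hZ le_sup_left
      (Subgroup.mem_sup_right (Subgroup.mem_zpowers x₁)) hx₁Z hBtop
  have hBidx : B.index = 2 := by
    have := B.card_mul_index
    rw [hBcard, hcard] at this
    omega
  -- any two elements of `T` commute
  have hTcomm : ∀ y₁ y₂ : P, y₁ ^ 2 ≠ 1 → y₂ ^ 2 ≠ 1 → y₂ * y₁ = y₁ * y₂ := by
    intro y₁ y₂ h1 h2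
    have hy₁B : y₁ ∉ B := fun h => h1 (hBexp _ h)
    have hy₂B : y₂ ∉ B := fun h => h2 (hBexp _ h)
    have hb : y₁⁻¹ * y₂ ∈ B := by
      rw [Subgroup.mul_mem_iff_of_index_two hBidx, inv_mem_iff]
      exact iff_of_false hy₁B hy₂B
    obtain ⟨b, hbdef⟩ : ∃ b, b = y₁⁻¹ * y₂ := ⟨_, rfl⟩
    rw [← hbdef] at hb
    have hb2 : b ^ 2 = 1 := hBexp b hb
    have hy₂ : y₂ = y₁ * b := by rw [hbdef]; group
    have hsq := Cfsg.Agent.Lib.Helper87_OddOmega.mul_pow_of_central y₁ b (hcomm b y₁) 2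
    rw [← hy₂, hb2, mul_one, Nat.choose_self, pow_one] at hsq
    have heq : y₁ ^ 2 = y₂ ^ 2 := eq_of_mem_of_card_two hC (hB3 y₁) (hB3 y₂) h1 h2
    rw [← heq] at hsq
    have hc1 : ⁅b, y₁⁆ = 1 := by
      have : y₁ ^ 2 * 1 = y₁ ^ 2 * ⁅b, y₁⁆ := by rw [mul_one]; exact hsq
      exact (mul_left_cancel this).symm
    have hbc : b * y₁ = y₁ * b := commutatorElement_eq_one_iff_mul_comm.1 hc1
    rw [hy₂, mul_assoc, hbc]
  -- the characteristic subgroup
  have hchar : IsChar (Subgroup.centralizer T) := by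
    intro β x hx
    rw [Subgroup.mem_centralizer_iff] at hx ⊢
    intro y hy
    have hy' : β⁻¹ y ∈ T := by
      show (β⁻¹ y) ^ 2 ≠ 1
      rw [← map_pow]
      intro h
      apply hy
      have := congrArg β h
      simpa using this
    have h2 := congrArg β (hx _ hy')
    simpa using h2
  have hx₀C : x₀ ∈ Subgroup.centralizer T := by
    rw [Subgroup.mem_centralizer_iff]
    intro y hy
    exact hTcomm x₀ y hx₀ hy
  have hCtop : Subgroup.centralizer T ≠ ⊤ := by
    intro h
    apply hx₀Z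
    rw [Subgroup.mem_center_iff]
    intro g
    have hg : g ∈ Subgroup.centralizer T := by rw [h]; trivial
    rw [Subgroup.mem_centralizer_iff] at hg
    exact (hg x₀ hx₀).symm
  exact badFlag_of_char_between (p := 2) hcard hna hZ _ hchar (Subgroup.center_le_centralizer T)
    hx₀C hx₀Z hCtop

end TwoB

section Final

variable {P : Type*} [Group P]

/-- Nonabelian of order `p⁴` with centre of order `p²`. -/
theorem center_sq_case [Finite P] {p : ℕ} [Fact p.Prime] (hcard : Nat.card P = p ^ 4)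
    (hna : ¬ ∀ x y : P, x * y = y * x) (hZ : Nat.card (Subgroup.center P) = p ^ 2) :
    (p ≠ 2 ∧ ∃ M : Subgroup P, (¬ ∀ x y : M, x * y = y * x) ∧ Nat.card M = p ^ 3 ∧
      (∀ x : M, x ^ p = 1) ∧ Nonempty (P ≃* M × Multiplicative (ZMod p))) ∨
    (p = 2 ∧ Nonempty (P ≃* QuaternionGroup 2 × Multiplicative (ZMod 2))) ∨
    ((∀ x : P, x ^ (p ^ 2) = 1) ∧ IsCyclic (Subgroup.center P)) ∨ BadFlag p P := by
  by_cases hex : ∃ x : P, x ^ (p ^ 2) ≠ 1
  · exact Or.inr (Or.inr (Or.inr (badFlag_of_exists_pow_ne hcard hna hZ hex)))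
  push Not at hex
  by_cases hcyc : IsCyclic (Subgroup.center P)
  · exact Or.inr (Or.inr (Or.inl ⟨hex, hcyc⟩))
  have hZexp : ∀ z ∈ Subgroup.center P, z ^ p = 1 := by
    intro z hz
    by_contra hzp
    apply hcyc
    have hord : orderOf (⟨z, hz⟩ : Subgroup.center P) = p ^ (1 + 1) := by
      apply orderOf_eq_prime_pow
      · rw [pow_one]
        intro h
        exact hzp (congrArg Subtype.val h)
      · rw [← hZ]; exact pow_card_eq_one'
    exact isCyclic_of_orderOf_eq_card _ (by rw [hord, hZ])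
  rcases pow_mem_commutator_or_badFlag hcard hna hZ hZexp with hB3 | hbad
  swap
  · exact Or.inr (Or.inr (Or.inr hbad))
  by_cases hp2 : p = 2
  · subst hp2
    by_cases ha : ∀ x : P, x ^ 2 = 1 → x ∈ Subgroup.center P
    · exact Or.inr (Or.inl ⟨rfl, two_case_a hcard hna hZ hZexp hB3 ha⟩)
    · push Not at ha
      obtain ⟨x₁, hx₁, hx₁Z⟩ := ha
      exact Or.inr (Or.inr (Or.inr (two_case_b hcard hna hZ hZexp hB3 x₁ hx₁Z hx₁)))
  · rcases odd_case hp2 hcard hna hZ hZexp hB3 with h | h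
    · exact Or.inl ⟨hp2, h⟩
    · exact Or.inr (Or.inr (Or.inr h))

/-- **Groups of order `p⁴`**, sorted by what an essential subgroup can be. -/
theorem classify_p4 [Finite P] {p : ℕ} [Fact p.Prime] (hcard : Nat.card P = p ^ 4) :
    ((∀ x y : P, x * y = y * x) ∧ ∀ x : P, x ^ p = 1) ∨
    Nonempty (P ≃* Multiplicative (ZMod (p ^ 2) × ZMod p × ZMod p)) ∨
    ((∀ x y : P, x * y = y * x) ∧ Nat.card (frattini P) = p ^ 2) ∨
    (p ≠ 2 ∧ ∃ M : Subgroup P, (¬ ∀ x y : M, x * y = y * x) ∧ Nat.card M = p ^ 3 ∧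
      (∀ x : M, x ^ p = 1) ∧ Nonempty (P ≃* M × Multiplicative (ZMod p))) ∨
    (p = 2 ∧ Nonempty (P ≃* QuaternionGroup 2 × Multiplicative (ZMod 2))) ∨
    ((¬ ∀ x y : P, x * y = y * x) ∧ (∀ x : P, x ^ (p ^ 2) = 1) ∧ IsCyclic (Subgroup.center P) ∧
      Nat.card (Subgroup.center P) = p ^ 2) ∨
    BadFlag p P := by
  have hp : p.Prime := Fact.out
  have hP : IsPGroup p P := IsPGroup.of_card hcard
  have : Nontrivial P := by
    rw [← Finite.one_lt_card_iff_nontrivial, hcard]
    exact Nat.one_lt_pow (by norm_num) hp.one_lt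
  by_cases hab : ∀ x y : P, x * y = y * x
  · obtain ⟨k, hk4, hk⟩ := card_subgroup_eq_pow hp hcard (frattini P)
    have hk4' : k ≠ 4 := by
      intro h
      apply frattini_ne_top (P := P)
      rw [← Subgroup.card_eq_iff_eq_top, hk, h, hcard]
    have : k = 0 ∨ k = 1 ∨ k = 2 ∨ k = 3 := by omega
    rcases this with rfl | rfl | rfl | rfl
    · left
      rw [pow_zero, Subgroup.card_eq_one] at hk
      exact elementary_of_frattini_eq_bot hP hk
    · right; left
      rw [pow_one] at hk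
      exact abelian_p4_frattini_p hcard hab hk
    · right; right; left
      exact ⟨hab, hk⟩
    · right; right; right; right; right; right
      exact ⟨3, hk, Or.inl hcard⟩
  · rcases card_center_of_nonabelian hcard hab with hZ | hZ
    · obtain ⟨hΦ, C1, hC1, h01, hC1card⟩ := center_p_case hcard hab hZ
      right; right; right; right; right; right
      exact ⟨2, hΦ, Or.inr (Or.inl ⟨hcard, C1, hC1, h01, hC1card⟩)⟩
    · rcases center_sq_case hcard hab hZ with h | h | h | h
      · exact Or.inr (Or.inr (Or.inr (Or.inl h)))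
      · exact Or.inr (Or.inr (Or.inr (Or.inr (Or.inl h))))
      · exact Or.inr (Or.inr (Or.inr (Or.inr (Or.inr (Or.inl ⟨hab, h.1, h.2, hZ⟩)))))
      · exact Or.inr (Or.inr (Or.inr (Or.inr (Or.inr (Or.inr h)))))

/-- Bad flags do not occur in radical subgroups with `p ∣ |Out|`. -/
theorem false_of_badFlag [Finite P] {p : ℕ} [Fact p.Prime]
    (A : Subgroup (MulAut P)) (hrad : (Cfsg.pCore p A).map A.subtype = Cfsg.Inn P)
    (hdvd : p ∣ Nat.card (A ⧸ (Cfsg.Inn P).subgroupOf A)) (h : BadFlag p P) : False := by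
  obtain ⟨k, hk, h1 | ⟨hc, C1, hC1, h01, hcard1⟩ |
    ⟨hc, C1, C2, hC1, hC2, h01, h12, hcard1, hcard2⟩⟩ := h
  · exact Cfsg.Agent.Lib.Helper88_FrattiniChain.no_flag1 A hrad hdvd hk h1
  · exact Cfsg.Agent.Lib.Helper88_FrattiniChain.no_flag2 A hrad hdvd hk C1 h01 hcard1 hc
      (fun β _ x hx => hC1 β x hx)
  · exact Cfsg.Agent.Lib.Helper88_FrattiniChain.no_flag3 A hrad hdvd hk C1 C2 h01 h12 hcard1 hcard2 hc
      (fun β _ x hx => hC1 β x hx) (fun β _ x hx => hC2 β x hx)

/-- A copy of `Fin n` carrying no algebraic instances. -/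
def SmallCopy (n : ℕ) : Type := Fin n

instance (n : ℕ) : Finite (SmallCopy n) := inferInstanceAs (Finite (Fin n))

/-- Every finite group has a copy in `Type`. -/
theorem exists_small_model (M : Type*) [Group M] [Finite M] :
    ∃ (E : Type) (_ : Group E) (_ : Finite E), Nonempty (M ≃* E) := by
  let e : M ≃ SmallCopy (Nat.card M) := Finite.equivFin M
  let iG : Group (SmallCopy (Nat.card M)) := e.symm.group
  exact ⟨SmallCopy (Nat.card M), iG, inferInstance, ⟨(e.symm.mulEquiv).symm⟩⟩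

/-- The extraspecial direct factor, moved to `Type`. -/
theorem exists_extraspecial_model [Finite P] {p : ℕ} [Fact p.Prime] (M : Subgroup P)
    (hMna : ¬ ∀ x y : M, x * y = y * x) (hMcard : Nat.card M = p ^ 3) (hexp : ∀ x : M, x ^ p = 1)
    (hiso : Nonempty (P ≃* M × Multiplicative (ZMod p))) :
    ∃ (E : Type) (_ : Group E) (_ : Finite E), Cfsg.IsExtraspecial p E ∧ Nat.card E = p ^ 3 ∧
      (∀ x : E, x ^ p = 1) ∧ Nonempty (P ≃* E × Multiplicative (ZMod p)) := by
  obtain ⟨E, iG, iF, ⟨f⟩⟩ := exists_small_model M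
  obtain ⟨e⟩ := hiso
  have hEcard : Nat.card E = p ^ 3 := by rw [← Nat.card_congr f.toEquiv, hMcard]
  have hEna : ¬ ∀ x y : E, x * y = y * x := by
    intro h
    apply hMna
    intro x y
    apply f.injective
    rw [map_mul, map_mul]
    exact h _ _
  refine ⟨E, iG, iF, ?_, hEcard, ?_, ⟨e.trans (MulEquiv.prodCongr f (MulEquiv.refl _))⟩⟩
  · exact Cfsg.Agent.Lib.Helper88_SmallEssential.isExtraspecial_of_nonabelian_cube hEcard hEna
  · intro x
    have h1 := hexp (f.symm x)
    have h2 := congrArg f h1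
    rwa [map_pow, map_one, MulEquiv.apply_symm_apply] at h2

end Final

end Cfsg.Agent.Lib.Helper88_OrderP4
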