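import Mathlib
import Cfsg.Prelude.Def_Transfer
import Cfsg.Agent.Lib.Helper1_Frattini
import Cfsg.Agent.Lib.Helper1_Cores
import Cfsg.Agent.Lib.Helper76_PGroup
import Cfsg.Agent.Lib.Helper53_PCyc
import Cfsg.Agent.Lib.Helper54_TwoGroups
import Cfsg.Agent.Lib.Helper63_PGroup
import Cfsg.Agent.Lib.Helper63_PGroup2
import Cfsg.Agent.Lib.Helper63_Heisenberg
import Cfsg.Agent.Lib.Helper87_OddOmega
import Cfsg.Agent.Lib.Helper88_OrderP4b
import Cfsg.Agent.Lib.Helper88_SmallEssential

/-!
# Generalized extraspecial `p`-groups (helper2)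

A finite `p`-group `G` is *generalized extraspecial* (`GE p G`) when `Φ(G) = G'` has order `p`.

* `GE.key1`: if `y ∉ G'` and some injective homomorphism `θ : C_G(y) → G` carries `y` into `G'`, then
  `y` is not central and `C_G(y)` is elementary abelian (of index `p`).
* `GE.two_case`, `GE.odd_case`: if `C_G(y)` is elementary abelian for a non-central `y`, then
  `G ≃ D₈ × A` (`p = 2`), resp. `G ≃ E × A` with `E` extraspecial of order `p³` and exponent `p` as soon as some
  element outside `C_G(y)` has order `p` (`p` odd).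
-/

set_option autoImplicit false
set_option linter.unusedSectionVars false

namespace Cfsg.Agent.Lib.Helper2_GenExtra

open Subgroup
open scoped commutatorElement

/-- generalized extraspecial `p`-groups: `Φ(G) = G'` has order `p` -/
structure GE (p : ℕ) (G : Type*) [Group G] : Prop where
  pgroup : IsPGroup p G
  frat : frattini G = commutator G
  card : Nat.card (commutator G) = p

section Compl

variable {G : Type*} [Group G]

/-- relative complements in a section of exponent `p` -/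
theorem exists_compl_rel [Finite G] {p : ℕ} (hp : p.Prime) (Z N B : Subgroup G) (hNZ : N ≤ Z)
    (hpow : ∀ g ∈ Z, g ^ p ∈ N) (hcomm : ∀ a ∈ Z, ∀ b ∈ Z, a * b * a⁻¹ * b⁻¹ ∈ N)
    (hBZ : B ≤ Z) (hBN : N ⊓ B = ⊥) :
    ∃ M : Subgroup G, N ≤ M ∧ M ≤ Z ∧ M ⊓ B = ⊥ ∧ M ⊔ B = Z := by
  classical
  have hfin : {M : Subgroup G | N ≤ M ∧ M ≤ Z ∧ M ⊓ B = ⊥}.Finite := Set.toFinite _
  obtain ⟨M, hMS, hMmax⟩ := Set.exists_max_image _ (fun M : Subgroup G => Nat.card M) hfin
    ⟨N, le_rfl, hNZ, hBN⟩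
  obtain ⟨hNM, hMZ, hMB⟩ := hMS
  refine ⟨M, hNM, hMZ, hMB, le_antisymm (sup_le hMZ hBZ) ?_⟩
  intro v hvZ
  by_contra hv
  have key : ∀ u ∈ Z, ∀ m ∈ M, u * m * u⁻¹ ∈ M := by
    intro u hu m hm
    have h1 := hcomm u hu m (hMZ hm)
    have e : u * m * u⁻¹ = (u * m * u⁻¹ * m⁻¹) * m := by group
    rw [e]; exact M.mul_mem (hNM h1) hm
  have hvn : v ∈ normalizer (M : Set G) := by
    rw [mem_normalizer_iff]
    intro m
    constructor
    · exact key v hvZ m
    · intro hm
      have := key v⁻¹ (Z.inv_mem hvZ) _ hm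
      have e : v⁻¹ * (v * m * v⁻¹) * v⁻¹⁻¹ = m := by group
      rwa [e] at this
  have hvp : v ^ (p : ℤ) ∈ M := by rw [zpow_natCast]; exact hNM (hpow v hvZ)
  have hM' : M ⊔ zpowers v ∈ {M : Subgroup G | N ≤ M ∧ M ≤ Z ∧ M ⊓ B = ⊥} := by
    refine ⟨hNM.trans le_sup_left, sup_le hMZ (zpowers_le.2 hvZ), ?_⟩
    rw [eq_bot_iff]
    rintro x ⟨hxM', hxB⟩
    obtain ⟨m, hm, k, rfl⟩ := Cfsg.Agent.Lib.Helper53_PCyc.exists_mul_zpow_of_mem_sup M v hvn hxM'
    have hvk : v ^ k ∈ M ⊔ B := by
      have e : v ^ k = m⁻¹ * (m * v ^ k) := by group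
      rw [e]; exact mul_mem (mem_sup_left (M.inv_mem hm)) (mem_sup_right hxB)
    by_cases hpk : (p : ℤ) ∣ k
    · obtain ⟨l, rfl⟩ := hpk
      have h1 : v ^ ((p : ℤ) * l) ∈ M := by
        rw [zpow_mul]; exact M.zpow_mem hvp l
      have : m * v ^ ((p : ℤ) * l) ∈ M ⊓ B := ⟨M.mul_mem hm h1, hxB⟩
      rw [hMB] at this; exact this
    · exfalso
      apply hv
      have hcop : IsCoprime (p : ℤ) k :=
        ((Nat.prime_iff_prime_int.1 hp).irreducible.coprime_iff_not_dvd).2 hpk
      obtain ⟨a, b, hab⟩ := hcop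
      have e : v = (v ^ (p : ℤ)) ^ a * (v ^ k) ^ b := by
        rw [← zpow_mul, ← zpow_mul, ← zpow_add, mul_comm (p : ℤ) a, mul_comm k b, hab, zpow_one]
      rw [e]
      exact mul_mem (zpow_mem (mem_sup_left hvp) a) (zpow_mem hvk b)
  have hle := hMmax _ hM'
  have heq : M = M ⊔ zpowers v := Subgroup.eq_of_le_of_card_ge le_sup_left hle
  apply hv
  apply mem_sup_left
  rw [heq]
  exact mem_sup_right (mem_zpowers v)

/-- order of a product of disjoint subgroups, one of them normal -/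
theorem card_sup_of_disjoint (L N : Subgroup G) [N.Normal] (h : L ⊓ N = ⊥) :
    Nat.card (L ⊔ N : Subgroup G) = Nat.card L * Nat.card N := by
  rw [Cfsg.Agent.Lib.Helper1_Cores.card_sup_eq L N, mul_comm]
  congr 1
  rw [← Subgroup.inf_relIndex_right, inf_comm, h, Subgroup.relIndex_bot_left]

/-- internal direct products with a central factor -/
theorem nonempty_mulEquiv_prod (M A : Subgroup G) (hA : A ≤ center G) (hMA : M ⊓ A = ⊥)
    (hsup : M ⊔ A = ⊤) : Nonempty (G ≃* M × A) := by
  have hcomm : ∀ (m : M) (n : A), Commute (M.subtype m) (A.subtype n) := by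
    intro m n
    exact (mem_center_iff.1 (hA n.2) m)
  let φ : M × A →* G := MonoidHom.noncommCoprod M.subtype A.subtype hcomm
  have hφ : ∀ mn, φ mn = (mn.1 : G) * (mn.2 : G) := fun mn => rfl
  have hinj : Function.Injective φ := by
    rw [injective_iff_map_eq_one]
    rintro ⟨m, n⟩ h
    rw [hφ] at h
    have h1 : (m : G) = (n : G)⁻¹ := eq_inv_of_mul_eq_one_left h
    have h2 : (m : G) ∈ M ⊓ A := ⟨m.2, h1 ▸ A.inv_mem n.2⟩
    rw [hMA, mem_bot] at h2
    have h3 : (n : G) = 1 := by rw [h2, one_mul] at h; exact h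
    ext
    · exact h2
    · exact h3
  have hsurj : Function.Surjective φ := by
    rw [← MonoidHom.range_eq_top, eq_top_iff, ← hsup]
    apply sup_le
    · intro m hm
      exact ⟨(⟨m, hm⟩, 1), by rw [hφ]; simp⟩
    · intro n hn
      exact ⟨(1, ⟨n, hn⟩), by rw [hφ]; simp⟩
  exact ⟨(MulEquiv.ofBijective φ ⟨hinj, hsurj⟩).symm⟩

end Compl

section Basics

variable {G : Type*} [Group G] [Finite G] {p : ℕ} [Fact p.Prime]

namespace GE

variable (h : GE p G)
include h

theorem le_center : commutator G ≤ center G :=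
  Cfsg.Agent.Lib.Helper76_PGroup.commutator_le_center_of_card_eq_prime p h.pgroup h.card

omit h [Finite G] [Fact p.Prime] in
theorem comm_mem (a b : G) : ⁅a, b⁆ ∈ commutator G :=
  Cfsg.Agent.Lib.Helper76_PGroup.commutatorElement_mem_commutator a b

omit h [Finite G] [Fact p.Prime] in
theorem comm_mem' (a b : G) : a * b * a⁻¹ * b⁻¹ ∈ commutator G := comm_mem a b

theorem pow_mem (g : G) : g ^ p ∈ commutator G := by
  rw [← h.frat]
  exact Cfsg.Agent.Lib.Helper1_Frattini.pow_mem_frattini_of_isPGroup h.pgroup g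

theorem central {z : G} (hz : z ∈ commutator G) (g : G) : g * z = z * g :=
  mem_center_iff.1 (h.le_center hz) g

theorem eq_zpowers {z : G} (hz : z ∈ commutator G) (hz1 : z ≠ 1) : commutator G = zpowers z :=
  (Cfsg.Agent.Lib.Helper88_SmallEssential.zpowers_eq_of_card_prime (Fact.out : p.Prime) h.card hz
    hz1).symm

theorem pow_eq_one {z : G} (hz : z ∈ commutator G) : z ^ p = 1 := by
  have h1 : (⟨z, hz⟩ : ↥(commutator G)) ^ p = 1 := by
    rw [← h.card]; exact pow_card_eq_one'
  have := congrArg Subtype.val h1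
  simpa using this

theorem exists_not_comm : ∃ a b : G, a * b ≠ b * a := by
  by_contra hcon
  push Not at hcon
  have hp : p.Prime := Fact.out
  have h1 : commutator G = ⊥ := by
    rw [_root_.commutator_def, Subgroup.commutator_eq_bot_iff_le_centralizer]
    intro g _
    rw [mem_centralizer_iff]
    intro x _
    exact hcon x g
  have h2 := h.card
  rw [h1, Subgroup.card_bot] at h2
  exact hp.one_lt.ne h2

/-- for a non-central `v`, the map `g ↦ ⁅g, v⁆` is onto `G'` -/
theorem commHom_surjective {v : G} (hv : v ∉ center G) :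
    Function.Surjective (Cfsg.Agent.Lib.Helper76_PGroup.commHomClassTwo h.le_center v) := by
  have hp : p.Prime := Fact.out
  rw [← MonoidHom.range_eq_top]
  apply Subgroup.eq_top_of_card_eq
  have hdvd : Nat.card (Cfsg.Agent.Lib.Helper76_PGroup.commHomClassTwo h.le_center v).range ∣ p :=
    (Subgroup.card_subgroup_dvd_card _).trans (dvd_of_eq h.card)
  rcases (Nat.dvd_prime hp).1 hdvd with h1 | h1
  · exfalso
    rw [Subgroup.card_eq_one] at h1
    apply hv
    rw [mem_center_iff]
    intro g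
    have h2 : Cfsg.Agent.Lib.Helper76_PGroup.commHomClassTwo h.le_center v g ∈
        (Cfsg.Agent.Lib.Helper76_PGroup.commHomClassTwo h.le_center v).range := ⟨g, rfl⟩
    rw [h1, mem_bot] at h2
    have h3 : ⁅g, v⁆ = 1 := congrArg Subtype.val h2
    exact commutatorElement_eq_one_iff_mul_comm.1 h3
  · rw [h1, h.card]

/-- for a non-central `v` and `z' ∈ G'` some conjugate of `v` is `z' v` -/
theorem exists_conj {v : G} (hv : v ∉ center G) {z' : G} (hz' : z' ∈ commutator G) :
    ∃ g : G, g * v * g⁻¹ = z' * v := by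
  obtain ⟨g, hg⟩ := h.commHom_surjective hv ⟨z', hz'⟩
  refine ⟨g, ?_⟩
  have h1 : ⁅g, v⁆ = z' := congrArg Subtype.val hg
  rw [← h1, commutatorElement_def]
  group

/-- centralizers of non-central elements have index `p` -/
theorem index_centralizer {v : G} (hv : v ∉ center G) :
    (centralizer ({v} : Set G)).index = p := by
  rw [← Cfsg.Agent.Lib.Helper76_PGroup.ker_commHomClassTwo h.le_center v, Subgroup.index_ker,
    MonoidHom.range_eq_top.2 (h.commHom_surjective hv), Subgroup.card_top, h.card]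

end GE

end Basics

section Key

variable {G : Type*} [Group G] [Finite G] {p : ℕ} [Fact p.Prime]

namespace GE

variable (h : GE p G)
include h

/-- An injective homomorphism `θ : C → G` (with `G' ≤ C`) which carries some `y ∉ G'` into `G'` moves every nontrivial
element of `G'` out of `G'`. -/
theorem key (C : Subgroup G) (θ : ↥C →* G) (hθ : Function.Injective θ) (hCc : commutator G ≤ C)
    {y : G} (hyC : y ∈ C) (hy : y ∉ commutator G) (hθy : θ ⟨y, hyC⟩ ∈ commutator G)
    {z : G} (hz : z ∈ commutator G) (hz1 : z ≠ 1) : θ ⟨z, hCc hz⟩ ∉ commutator G := by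
  intro hθz
  have heq := h.eq_zpowers hz hz1
  have hall : ∀ c : ↥(commutator G), θ ⟨c, hCc c.2⟩ ∈ commutator G := by
    intro c
    have hc : (c : G) ∈ zpowers z := heq ▸ c.2
    obtain ⟨k, hk⟩ := mem_zpowers_iff.1 hc
    have e : (⟨(c : G), hCc c.2⟩ : ↥C) = (⟨z, hCc hz⟩ : ↥C) ^ k := by
      apply Subtype.ext
      rw [Subgroup.coe_zpow]
      exact hk.symm
    rw [e, map_zpow]
    exact zpow_mem hθz k
  let f : ↥(commutator G) → ↥(commutator G) := fun c => ⟨θ ⟨c, hCc c.2⟩, hall c⟩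
  have hf : Function.Injective f := by
    intro a b hab
    have h1 : θ ⟨a, hCc a.2⟩ = θ ⟨b, hCc b.2⟩ := congrArg Subtype.val hab
    have h2 := hθ h1
    exact Subtype.ext (congrArg (fun t : ↥C => (t : G)) h2)
  have hsurj : Function.Surjective f := Finite.injective_iff_surjective.1 hf
  obtain ⟨c, hc⟩ := hsurj ⟨θ ⟨y, hyC⟩, hθy⟩
  have h1 : θ ⟨c, hCc c.2⟩ = θ ⟨y, hyC⟩ := congrArg Subtype.val hc
  have h2 := hθ h1
  have h3 : (c : G) = y := congrArg Subtype.val h2
  exact hy (h3 ▸ c.2)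

/-- **Key lemma.** If `y ∉ G'` and an injective homomorphism `θ : C_G(y) → G` carries `y` into `G'`, then `y` is not
central and `C_G(y)` is elementary abelian. -/
theorem key1 {y : G} (θ : ↥(centralizer ({y} : Set G)) →* G) (hθ : Function.Injective θ)
    (hy : y ∉ commutator G)
    (hθy : θ ⟨y, mem_centralizer_singleton_iff.2 rfl⟩ ∈ commutator G) :
    y ∉ center G ∧ (∀ a ∈ centralizer ({y} : Set G), ∀ b ∈ centralizer ({y} : Set G), a * b = b * a) ∧
      (∀ a ∈ centralizer ({y} : Set G), a ^ p = 1) := by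
  have hCc : commutator G ≤ centralizer ({y} : Set G) := by
    intro c hc
    rw [mem_centralizer_singleton_iff]
    exact (h.central hc y).symm
  have hyC : y ∈ centralizer ({y} : Set G) := mem_centralizer_singleton_iff.2 rfl
  have hcomm : ∀ a ∈ centralizer ({y} : Set G), ∀ b ∈ centralizer ({y} : Set G), a * b = b * a := by
    intro a ha b hb
    by_contra hab
    have hz1 : ⁅a, b⁆ ≠ 1 := fun h1 => hab (commutatorElement_eq_one_iff_mul_comm.1 h1)
    have hz : ⁅a, b⁆ ∈ commutator G := comm_mem a b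
    apply h.key _ θ hθ hCc hyC hy hθy hz hz1
    have e : (⟨⁅a, b⁆, hCc hz⟩ : ↥(centralizer ({y} : Set G))) =
        ⁅(⟨a, ha⟩ : ↥(centralizer ({y} : Set G))), ⟨b, hb⟩⁆ := Subtype.ext rfl
    rw [e, map_commutatorElement]
    exact comm_mem _ _
  have hexp : ∀ a ∈ centralizer ({y} : Set G), a ^ p = 1 := by
    intro a ha
    by_contra hz1
    have hz : a ^ p ∈ commutator G := h.pow_mem a
    apply h.key _ θ hθ hCc hyC hy hθy hz hz1
    have e : (⟨a ^ p, hCc hz⟩ : ↥(centralizer ({y} : Set G))) = ⟨a, ha⟩ ^ p := Subtype.ext rfl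
    rw [e, map_pow]
    exact h.pow_mem _
  refine ⟨?_, hcomm, hexp⟩
  intro hyZ
  obtain ⟨a, b, hab⟩ := h.exists_not_comm
  have hmem : ∀ g : G, g ∈ centralizer ({y} : Set G) := fun g =>
    mem_centralizer_singleton_iff.2 (mem_center_iff.1 hyZ g)
  exact hab (hcomm a (hmem a) b (hmem b))

end GE

end Key

section Split

variable {G : Type*} [Group G] [Finite G] {p : ℕ} [Fact p.Prime]

omit [Finite G] [Fact p.Prime] in
theorem normal_of_le_center {A : Subgroup G} (hA : A ≤ center G) : A.Normal := by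
  refine ⟨fun n hn g => ?_⟩
  rw [mem_center_iff.1 (hA hn) g, mul_inv_cancel_right]
  exact hn

namespace GE

variable (h : GE p G)
include h

/-- **Splitting.** If `C_G(y)` is elementary abelian for a non-central `y`, then `G = M × A₀` with `A₀` central of
exponent `p` and `M ≥ G'` of order `p³`. -/
theorem split {y : G} (hy : y ∉ center G)
    (hCc : ∀ a ∈ centralizer ({y} : Set G), ∀ b ∈ centralizer ({y} : Set G), a * b = b * a)
    (hCe : ∀ a ∈ centralizer ({y} : Set G), a ^ p = 1) :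
    ∃ M A₀ : Subgroup G, A₀ ≤ center G ∧ commutator G ≤ M ∧ Nat.card M = p ^ 3 ∧
      (∀ a ∈ A₀, a ^ p = 1) ∧ M ⊓ A₀ = ⊥ ∧ M ⊔ A₀ = ⊤ ∧ Nonempty (G ≃* M × A₀) := by
  have hp : p.Prime := Fact.out
  have hCi : (centralizer ({y} : Set G)).index = p := h.index_centralizer hy
  have hna : ¬ IsMulCommutative G := by
    intro hc
    apply hy
    rw [mem_center_iff]
    intro g
    exact hc.is_comm.comm g y
  have hCcomm : IsMulCommutative ↥(centralizer ({y} : Set G)) :=
    ⟨⟨fun a b => Subtype.ext (hCc a a.2 b b.2)⟩⟩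
  have hZi : (center G).index = p * p := by
    rw [Cfsg.Agent.Lib.Helper63_PGroup2.index_center_eq_of_abelian_index_prime h.pgroup hna _ hCcomm
      hCi, h.card]
  have hZC : center G ≤ centralizer ({y} : Set G) := Subgroup.center_le_centralizer _
  obtain ⟨A₀, -, hA₀Z, hA₀1, hA₀2⟩ := exists_compl_rel hp (center G) ⊥ (commutator G) bot_le
    (fun g hg => by rw [mem_bot]; exact hCe g (hZC hg))
    (fun a ha b _ => by
      rw [mem_bot, ← mem_center_iff.1 ha b, mul_inv_cancel_right, mul_inv_cancel])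
    h.le_center (bot_inf_eq _)
  have h3 : commutator G ⊓ A₀ = ⊥ := by rw [inf_comm]; exact hA₀1
  obtain ⟨M, hcM, -, hMA, hsup⟩ := exists_compl_rel hp ⊤ (commutator G) A₀ le_top
    (fun g _ => h.pow_mem g) (fun a _ b _ => comm_mem' a b) le_top h3
  have hA₀n : A₀.Normal := normal_of_le_center hA₀Z
  have hcardZ : Nat.card (center G) = Nat.card A₀ * p := by
    rw [← hA₀2, card_sup_of_disjoint A₀ (commutator G) hA₀1, h.card]
  have hcardG : Nat.card G = Nat.card M * Nat.card A₀ := by
    rw [← Subgroup.card_top (G := G), ← hsup, card_sup_of_disjoint M A₀ hMA]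
  have hcardM : Nat.card M = p ^ 3 := by
    have h4 := Subgroup.index_mul_card (center G)
    rw [hZi, hcardZ, hcardG] at h4
    have hpos : 0 < Nat.card A₀ := Nat.card_pos
    have h5 : Nat.card A₀ * (p ^ 3) = Nat.card A₀ * Nat.card M := by
      rw [mul_comm (Nat.card A₀) (Nat.card M), ← h4]; ring
    exact (Nat.eq_of_mul_eq_mul_left hpos h5).symm
  exact ⟨M, A₀, hA₀Z, hcM, hcardM, fun a ha => hCe a (hZC (hA₀Z ha)), hMA, hsup,
    nonempty_mulEquiv_prod M A₀ hA₀Z hMA hsup⟩

end GE

end Split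

section Models

/-- Every finite commutative group has a copy in `Type`. -/
theorem exists_small_comm_model (M : Type*) [CommGroup M] [Finite M] :
    ∃ (A : Type) (_ : CommGroup A), Nonempty (M ≃* A) := by
  let e : M ≃ Cfsg.Agent.Lib.Helper88_OrderP4.SmallCopy (Nat.card M) := Finite.equivFin M
  let iG : CommGroup (Cfsg.Agent.Lib.Helper88_OrderP4.SmallCopy (Nat.card M)) := e.symm.commGroup
  exact ⟨Cfsg.Agent.Lib.Helper88_OrderP4.SmallCopy (Nat.card M), iG, ⟨(e.symm.mulEquiv).symm⟩⟩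

/-- recognizing the dihedral group of order eight -/
theorem dihedral_of_order_eight {M : Type*} [Group M] [Finite M] (hcard : Nat.card M = 8)
    (u v z : M) (hv : v * v = 1) (hz : z * z = 1) (hz1 : z ≠ 1)
    (huv : u * v * u⁻¹ * v⁻¹ = z) (hu : u * u = 1 ∨ u * u = z) :
    Nonempty (M ≃* DihedralGroup 4) := by
  have hvinv : v⁻¹ = v := inv_eq_of_mul_eq_one_left hv
  have hzinv : z⁻¹ = z := inv_eq_of_mul_eq_one_left hz
  have hnc : u * v ≠ v * u := by
    intro hc
    apply hz1
    rw [← huv, hc]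
    group
  have order4 : ∀ c : M, c * c = z → orderOf c = 4 := by
    intro c hc
    have h4 : c ^ 4 = 1 := by
      have : c ^ 4 = (c * c) * (c * c) := by
        simp only [pow_succ, pow_zero, one_mul, mul_assoc]
      rw [this, hc, hz]
    have h2 : c ^ 2 ≠ 1 := by rw [pow_two, hc]; exact hz1
    have := orderOf_eq_prime_pow (p := 2) (n := 1) (x := c) (by simpa using h2) (by simpa using h4)
    simpa using this
  rcases hu with hu | hu
  · -- `u` an involution: rotation `u v`, reflection `v`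
    have huinv : u⁻¹ = u := inv_eq_of_mul_eq_one_left hu
    have hc : (u * v) * (u * v) = z := by
      rw [← huv, huinv, hvinv]; group
    refine Cfsg.Agent.Lib.Helper54_TwoGroups.nonempty_mulEquiv_dihedralGroup 4 (u * v) v
      (order4 _ hc) hv ?_ ?_ (by rw [hcard])
    · have e1 : v * (u * v) * v⁻¹ = v * u := by group
      rw [e1, mul_inv_rev, huinv, hvinv]
    · intro hmem
      obtain ⟨k, hk⟩ := mem_zpowers_iff.1 hmem
      have h1 : Commute (u * v) ((u * v) ^ k) := (Commute.refl _).zpow_right k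
      rw [hk] at h1
      apply hnc
      have h2 : u * v * v = v * (u * v) := h1.eq
      rw [mul_assoc, hv, mul_one] at h2
      have h3 : u * v = (v * (u * v)) * v := by rw [← h2]
      rw [h3]
      have : v * (u * v) * v = v * u * (v * v) := by group
      rw [this, hv, mul_one]
  · -- `u` of order four: rotation `u`, reflection `v`
    refine Cfsg.Agent.Lib.Helper54_TwoGroups.nonempty_mulEquiv_dihedralGroup 4 u v
      (order4 _ hu) hv ?_ ?_ (by rw [hcard])
    · -- `v u v⁻¹ = z⁻¹ u = u⁻¹`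
      have h1 : v * u * v⁻¹ = (u * v * u⁻¹ * v⁻¹)⁻¹ * u := by group
      rw [h1, huv, hzinv, ← hu]
      have h2 : u ^ 4 = 1 := by
        have : u ^ 4 = (u * u) * (u * u) := by
          simp only [pow_succ, pow_zero, one_mul, mul_assoc]
        rw [this, hu, hz]
      have h3 : u * u * u = u⁻¹ := by
        apply eq_inv_of_mul_eq_one_left
        have : u * u * u * u = u ^ 4 := by
          rw [pow_succ, pow_succ, pow_succ, pow_one]
        rw [this, h2]
      exact h3
    · intro hmem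
      obtain ⟨k, hk⟩ := mem_zpowers_iff.1 hmem
      apply hnc
      rw [← hk]
      exact ((Commute.refl u).zpow_right k).eq

end Models

section Cases

variable {G : Type*} [Group G] [Finite G] {p : ℕ} [Fact p.Prime]

namespace GE

variable (h : GE p G)
include h

omit h [Finite G] [Fact p.Prime] in
/-- a direct product of an abelian group and a central subgroup is abelian -/
theorem comm_of_factor {M A₀ : Subgroup G} (hA₀ : A₀ ≤ center G) (e : G ≃* M × A₀)
    (hM : ∀ m₁ ∈ M, ∀ m₂ ∈ M, m₁ * m₂ = m₂ * m₁) (a b : G) : a * b = b * a := by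
  apply e.injective
  rw [map_mul, map_mul]
  apply Prod.ext
  · exact Subtype.ext (hM _ (e a).1.2 _ (e b).1.2)
  · apply Subtype.ext
    show ((e a).2 : G) * ((e b).2 : G) = (e b).2 * (e a).2
    exact mem_center_iff.1 (hA₀ (e b).2.2) _

/-- `p = 2`: the group is `D₈ × A` -/
theorem two_case (hp2 : p = 2) {y : G} (hy : y ∉ center G)
    (hCc : ∀ a ∈ centralizer ({y} : Set G), ∀ b ∈ centralizer ({y} : Set G), a * b = b * a)
    (hCe : ∀ a ∈ centralizer ({y} : Set G), a ^ p = 1) :
    ∃ (A : Type) (_ : CommGroup A), (∀ a : A, a ^ 2 = 1) ∧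
      Nonempty (G ≃* DihedralGroup 4 × A) := by
  subst hp2
  obtain ⟨M, A₀, hA₀Z, hcM, hcardM, hA₀e, hMA, hsup, ⟨e⟩⟩ := h.split hy hCc hCe
  have hCi : (centralizer ({y} : Set G)).index = 2 := h.index_centralizer hy
  -- a non-commuting pair in `M`
  obtain ⟨m₁, hm₁, m₂, hm₂, hm⟩ : ∃ m₁ ∈ M, ∃ m₂ ∈ M, m₁ * m₂ ≠ m₂ * m₁ := by
    by_contra hcon
    push Not at hcon
    obtain ⟨a, b, hab⟩ := h.exists_not_comm
    exact hab (comm_of_factor hA₀Z e hcon a b)
  -- a non-commuting pair `u ∉ C`, `v ∈ C`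
  obtain ⟨u, huM, v, hvM, hvC, huv⟩ : ∃ u ∈ M, ∃ v ∈ M, v ∈ centralizer ({y} : Set G) ∧
      u * v ≠ v * u := by
    by_cases h1 : m₁ ∈ centralizer ({y} : Set G)
    · exact ⟨m₂, hm₂, m₁, hm₁, h1, fun hc => hm hc.symm⟩
    · by_cases h2 : m₂ ∈ centralizer ({y} : Set G)
      · exact ⟨m₁, hm₁, m₂, hm₂, h2, hm⟩
      · refine ⟨m₁, hm₁, m₁⁻¹ * m₂, M.mul_mem (M.inv_mem hm₁) hm₂, ?_, ?_⟩
        · rw [Subgroup.mul_mem_iff_of_index_two hCi, inv_mem_iff]
          exact ⟨fun h3 => absurd h3 h1, fun h3 => absurd h3 h2⟩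
        · intro hc
          apply hm
          have e1 : m₁ * (m₁⁻¹ * m₂) = m₂ := by group
          rw [e1] at hc
          have e2 : m₁ * m₂ = m₁ * (m₁⁻¹ * m₂ * m₁) := congrArg (m₁ * ·) hc
          rw [e2]
          group
  set z := u * v * u⁻¹ * v⁻¹ with hz
  have hzc : z ∈ commutator G := comm_mem' u v
  have hz1 : z ≠ 1 := by
    intro h1
    apply huv
    have e1 : u * v = (u * v * u⁻¹ * v⁻¹) * (v * u) := by group
    rw [e1, ← hz, h1, one_mul]
  have hzz : z * z = 1 := by rw [← pow_two]; exact h.pow_eq_one hzc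
  have hvv : v * v = 1 := by rw [← pow_two]; exact hCe v hvC
  have huu : u * u = 1 ∨ u * u = z := by
    have h1 : u ^ 2 ∈ commutator G := h.pow_mem u
    rw [h.eq_zpowers hzc hz1] at h1
    obtain ⟨k, hk⟩ := mem_zpowers_iff.1 h1
    rw [pow_two] at hk
    rcases Int.even_or_odd' k with ⟨j, rfl | rfl⟩
    · left
      rw [← hk, zpow_mul, zpow_ofNat, pow_two, hzz, one_zpow]
    · right
      rw [← hk, zpow_add, zpow_mul, zpow_ofNat, pow_two, hzz, one_zpow, one_mul, zpow_one]
  have hcard8 : Nat.card M = 8 := by rw [hcardM]; norm_num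
  obtain ⟨d⟩ := dihedral_of_order_eight hcard8 (⟨u, huM⟩ : ↥M) ⟨v, hvM⟩ ⟨z, hcM hzc⟩
    (Subtype.ext hvv) (Subtype.ext hzz) (fun h1 => hz1 (congrArg Subtype.val h1))
    (Subtype.ext rfl) (by
      rcases huu with h1 | h1
      · exact Or.inl (Subtype.ext h1)
      · exact Or.inr (Subtype.ext h1))
  let iA₀ : CommGroup ↥A₀ :=
    { (inferInstance : Group ↥A₀) with
      mul_comm := fun a b => Subtype.ext (mem_center_iff.1 (hA₀Z b.2) a) }
  obtain ⟨A, iA, ⟨f⟩⟩ := exists_small_comm_model ↥A₀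
  refine ⟨A, iA, ?_, ⟨e.trans (MulEquiv.prodCongr d f)⟩⟩
  intro a
  have h1 : (f.symm a) ^ 2 = 1 := Subtype.ext (hA₀e _ (f.symm a).2)
  have h2 := congrArg f h1
  rwa [map_pow, map_one, MulEquiv.apply_symm_apply] at h2

/-- `p` odd, some element outside `C_G(y)` has order `p`: the group is `E × A`, `E` extraspecial of order `p³` and
exponent `p` -/
theorem odd_case (hp2 : p ≠ 2) {y : G} (hy : y ∉ center G)
    (hCc : ∀ a ∈ centralizer ({y} : Set G), ∀ b ∈ centralizer ({y} : Set G), a * b = b * a)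
    (hCe : ∀ a ∈ centralizer ({y} : Set G), a ^ p = 1)
    {w : G} (hw : w ∉ centralizer ({y} : Set G)) (hwp : w ^ p = 1) :
    ∃ (E : Type) (_ : Group E) (A : Type) (_ : CommGroup A), Cfsg.IsExtraspecial p E ∧
      Nat.card E = p ^ 3 ∧ Monoid.exponent E = p ∧ (∀ a : A, a ^ p = 1) ∧
      Nonempty (G ≃* E × A) := by
  have hp : p.Prime := Fact.out
  obtain ⟨M, A₀, hA₀Z, hcM, hcardM, hA₀e, hMA, hsup, ⟨e⟩⟩ := h.split hy hCc hCe
  have hCi : (centralizer ({y} : Set G)).index = p := h.index_centralizer hy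
  -- all elements have order dividing `p`
  have hmulpow : ∀ a b : G, (a * b) ^ p = a ^ p * b ^ p := fun a b =>
    Cfsg.Agent.Lib.Helper87_OddOmega.mul_pow_prime_of_central hp hp2 a b
      (h.le_center (comm_mem b a)) (h.le_center (h.pow_mem b))
  let K : Subgroup G :=
    { carrier := {g | g ^ p = 1}
      one_mem' := one_pow p
      mul_mem' := by
        intro a b ha hb
        show (a * b) ^ p = 1
        rw [hmulpow, ha, hb, one_mul]
      inv_mem' := by
        intro a ha
        show a⁻¹ ^ p = 1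
        rw [inv_pow, ha, inv_one] }
  have hCK : centralizer ({y} : Set G) ≤ K := fun a ha => hCe a ha
  have hcoatom := Cfsg.Agent.Lib.Helper63_PGroup.isCoatom_of_index_prime
    (centralizer ({y} : Set G)) (hCi ▸ hp)
  have hK : K = ⊤ := by
    apply hcoatom.2
    refine lt_of_le_of_ne hCK ?_
    intro heq
    apply hw
    rw [heq]
    exact hwp
  have hall : ∀ g : G, g ^ p = 1 := fun g => by
    have : g ∈ K := by rw [hK]; exact mem_top g
    exact this
  -- `M` is not abelian
  have hMna : ¬ ∀ x y : ↥M, x * y = y * x := by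
    intro hcon
    obtain ⟨a, b, hab⟩ := h.exists_not_comm
    exact hab (comm_of_factor hA₀Z e
      (fun m₁ hm₁ m₂ hm₂ => congrArg Subtype.val (hcon ⟨m₁, hm₁⟩ ⟨m₂, hm₂⟩)) a b)
  obtain ⟨E, iE, iF, ⟨f⟩⟩ := Cfsg.Agent.Lib.Helper88_OrderP4.exists_small_model ↥M
  have hEcard : Nat.card E = p ^ 3 := by rw [← Nat.card_congr f.toEquiv, hcardM]
  have hEna : ¬ ∀ x y : E, x * y = y * x := by
    intro hcon
    apply hMna
    intro x y
    apply f.injective
    rw [map_mul, map_mul]
    exact hcon _ _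
  have hEexp : ∀ x : E, x ^ p = 1 := by
    intro x
    have h1 : (f.symm x) ^ p = 1 := Subtype.ext (hall _)
    have h2 := congrArg f h1
    rwa [map_pow, map_one, MulEquiv.apply_symm_apply] at h2
  have hEnt : Nontrivial E := by
    rw [← Finite.one_lt_card_iff_nontrivial, hEcard]
    exact Nat.one_lt_pow (by norm_num) hp.one_lt
  let iA₀ : CommGroup ↥A₀ :=
    { (inferInstance : Group ↥A₀) with
      mul_comm := fun a b => Subtype.ext (mem_center_iff.1 (hA₀Z b.2) a) }
  obtain ⟨A, iA, ⟨f'⟩⟩ := exists_small_comm_model ↥A₀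
  refine ⟨E, iE, A, iA,
    Cfsg.Agent.Lib.Helper88_SmallEssential.isExtraspecial_of_nonabelian_cube hEcard hEna, hEcard,
    (Monoid.exponent_eq_prime_iff hp).2 (fun g hg => orderOf_eq_prime (hEexp g) hg), ?_,
    ⟨e.trans (MulEquiv.prodCongr f f')⟩⟩
  intro a
  have h1 : (f'.symm a) ^ p = 1 := Subtype.ext (hA₀e _ (f'.symm a).2)
  have h2 := congrArg f' h1
  rwa [map_pow, map_one, MulEquiv.apply_symm_apply] at h2

end GE

end Cases

end Cfsg.Agent.Lib.Helper2_GenExtra
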