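import Mathlib
import Cfsg.Agent.S1447
import Cfsg.Agent.Lib.Helper2_Metacyclic

/-!
# Coprime automorphisms of metacyclic `p`-groups, automorphism form (helper2)

`S1447` (Bender–Glauberman 3.?) in terms of an automorphism `γ` of a metacyclic `p`-group `M`, `p` odd,
of order prime to `p`: if `M` is not abelian then the commutators `m⁻¹ γ(m)` lie in a cyclic
subgroup (`exists_cyclic_commutator`).  Consequence: a `γ`-invariant subgroup `T` on whose Frattini
quotient `γ` acts by inversion is cyclic, unless `M` is abelian (`isCyclic_of_inverting`).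
-/

set_option autoImplicit false
set_option linter.unusedSectionVars false

namespace Cfsg.Agent.Lib.Helper2_MetaAutW

open Subgroup Cfsg Cfsg.Agent.Lib.Helper2_Metacyclic

open scoped commutatorElement

variable {p : ℕ} [Fact p.Prime] {M : Type*} [Group M] [Finite M]

/-- `S1447` for an automorphism: in a non-abelian metacyclic `p`-group (`p` odd), the commutators
with a `p'`-automorphism lie in a cyclic subgroup. -/
theorem exists_cyclic_commutator (hp : p ≠ 2) (hM : IsPGroup p M) (hm : Cfsg.IsMetacyclic M)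
    (hna : ¬ ∀ a b : M, a * b = b * a) (γ : MulAut M) (hγ : (orderOf γ).Coprime p) :
    ∃ C : Subgroup M, IsCyclic C ∧ ∀ m : M, m⁻¹ * γ m ∈ C := by
  by_cases hγ1 : γ = 1
  · refine ⟨⊥, inferInstance, fun m => ?_⟩
    rw [hγ1, MulAut.one_apply, inv_mul_cancel]
    exact one_mem _
  let G := M ⋊[MonoidHom.id (MulAut M)] MulAut M
  have hfin : Finite G := Finite.of_equiv _ SemidirectProduct.equivProd.symm
  let il : M →* G := SemidirectProduct.inl
  let ir : MulAut M →* G := SemidirectProduct.inr
  have hil : Function.Injective il := SemidirectProduct.inl_injective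
  have hir : Function.Injective ir := SemidirectProduct.inr_injective
  have hconj : ∀ (a : MulAut M) (m : M), il (a m) = ir a * il m * (ir a)⁻¹ := by
    intro a m
    have := SemidirectProduct.inl_aut (φ := MonoidHom.id (MulAut M)) a m
    rw [map_inv] at this
    exact this
  set R : Subgroup G := il.range with hR
  set A : Subgroup G := (zpowers γ).map ir with hA
  have hRn : R.Normal := by
    rw [hR, SemidirectProduct.range_inl_eq_ker_rightHom]
    infer_instance
  have hRp : IsPGroup p ↥R := hM.of_surjective il.rangeRestrict il.rangeRestrict_surjective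
  have hRm : Cfsg.IsMetacyclic ↥R := isMetacyclic_of_mulEquiv' (MonoidHom.ofInjective hil) hm
  have hAn : A ≤ Subgroup.normalizer (R : Set G) := by
    rw [Subgroup.normalizer_eq_top]
    exact le_top
  have hcop : (Nat.card ↥A).Coprime p := by
    rw [hA, Subgroup.card_map_of_injective hir, Nat.card_zpowers]
    exact hγ
  obtain ⟨-, -, -, h4⟩ := Cfsg.Agent.S1447.result p hp R A hRp hRm hAn hcop
  have hRna : ¬ IsMulCommutative ↥R := by
    intro hc
    apply hna
    intro a b
    have h1 := isMulCommutative_iff.mp hc ⟨il a, a, rfl⟩ ⟨il b, b, rfl⟩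
    have h2 : il a * il b = il b * il a := congrArg Subtype.val h1
    rw [← map_mul, ← map_mul] at h2
    exact hil h2
  have hAc : ¬ A ≤ Subgroup.centralizer (R : Set G) := by
    intro hc
    apply hγ1
    ext m
    have h1 : ir γ ∈ A := ⟨γ, mem_zpowers γ, rfl⟩
    have h2 := (Subgroup.mem_centralizer_iff.mp (hc h1)) (il m) ⟨m, rfl⟩
    have h3 : il (γ m) = il m := by
      rw [hconj, ← h2, mul_inv_cancel_right]
    rw [MulAut.one_apply]
    exact hil h3
  obtain ⟨-, hcyc, -, -, -⟩ := h4 hRna hAc
  refine ⟨(⁅R, A⁆ : Subgroup G).comap il, ?_, fun m => ?_⟩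
  · let f : ↥((⁅R, A⁆ : Subgroup G).comap il) →* ↥(⁅R, A⁆ : Subgroup G) :=
      MonoidHom.codRestrict (il.comp (Subgroup.subtype _)) _ (fun x => x.2)
    have hf : Function.Injective f := by
      intro a b hab
      have h1 : il (a : M) = il (b : M) := congrArg Subtype.val hab
      exact Subtype.ext (hil h1)
    exact isCyclic_of_injective f hf
  · rw [Subgroup.mem_comap, map_mul, map_inv, hconj]
    have h1 : (il m)⁻¹ * (ir γ * il m * (ir γ)⁻¹) = ⁅(il m)⁻¹, ir γ⁆ := by
      rw [commutatorElement_def, inv_inv, mul_assoc, mul_assoc, mul_assoc]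
    rw [h1]
    exact Subgroup.commutator_mem_commutator (R.inv_mem ⟨m, rfl⟩) ⟨γ, mem_zpowers γ, rfl⟩

/-- A `γ`-invariant subgroup `T₀` (given through an embedding `j`) of a non-abelian metacyclic
`p`-group `M` (`p` odd, `γ` a `p'`-automorphism), such that `γ` inverts `T₀ / Φ(T₀)`, is cyclic. -/
theorem isCyclic_of_inverting (hp : p ≠ 2) (hM : IsPGroup p M) (hm : Cfsg.IsMetacyclic M)
    (γ : MulAut M) (hγ : (orderOf γ).Coprime p) {T₀ : Type*} [Group T₀] [Finite T₀]
    (hT₀ : IsPGroup p T₀) (j : T₀ →* M) (hj : Function.Injective j)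
    (hinv : ∀ t : T₀, ∃ t' : T₀, j t' = γ (j t) ∧ t * t' ∈ frattini T₀) :
    IsCyclic T₀ ∨ ∀ a b : M, a * b = b * a := by
  have hpP : p.Prime := Fact.out
  by_cases hna : ∀ a b : M, a * b = b * a
  · exact Or.inr hna
  left
  obtain ⟨C, hC, hCm⟩ := exists_cyclic_commutator hp hM hm hna γ hγ
  set K : Subgroup T₀ := C.comap j with hK
  have hsup : K ⊔ frattini T₀ = ⊤ := by
    rw [eq_top_iff]
    intro t _
    obtain ⟨t', ht', hfr⟩ := hinv t
    -- `t²` lies in the join
    have hsq : t ^ 2 ∈ K ⊔ frattini T₀ := by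
      have h1 : t ^ 2 = (t * t') * (t⁻¹ * t')⁻¹ := by
        rw [sq]; group
      rw [h1]
      refine mul_mem (mem_sup_right hfr) (inv_mem (mem_sup_left ?_))
      show j (t⁻¹ * t') ∈ C
      rw [map_mul, map_inv, ht']
      exact hCm (j t)
    -- `t` is a power of `t²`
    have hord : (Nat.Coprime 2 (orderOf t)) := by
      obtain ⟨i, hi⟩ := hT₀.exists_orderOf_eq_pow t
      rw [hi]
      apply Nat.Coprime.pow_right
      rw [Nat.coprime_primes Nat.prime_two hpP]
      exact fun h => hp h.symm
    obtain ⟨n, hn⟩ := exists_pow_eq_self_of_coprime hord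
    rw [← hn]
    exact pow_mem hsq n
  have hKtop : K = ⊤ := frattini_nongenerating hsup
  have hjC : ∀ t : T₀, j t ∈ C := by
    intro t
    have : t ∈ K := by rw [hKtop]; exact mem_top _
    exact this
  let f : T₀ →* ↥C := j.codRestrict C hjC
  have hf : Function.Injective f := by
    intro a b hab
    exact hj (congrArg Subtype.val hab)
  exact isCyclic_of_injective f hf

end Cfsg.Agent.Lib.Helper2_MetaAutW
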