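import Cfsg.Agent.Lib.Helper84_KNormalizer

/-!
Fusion systems: `K`-normalizer systems `N_F^K(Q)` are saturated (helper84), part 2: tools on joins
`P ⊔ Q`, stabilizers in `Aut(R)` and the restriction homomorphism, the group `K_P ≤ Aut(PQ)`.
-/

set_option autoImplicit false

namespace Cfsg.Agent.Lib.Helper84_KNormalizer

open Cfsg Cfsg.FusionSystem Cfsg.Agent.Lib.Helper85_Fusion Cfsg.Agent.Lib.Helper84_RelSylow
  Cfsg.Agent.Lib.Helper84_FusionSat Cfsg.Agent.Lib.Helper84_FusionRS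
  Cfsg.Agent.Lib.Helper84_FusionAlperin

variable {Ω : Type*} [Group Ω] {S : Subgroup Ω}

/-! ### Tools -/

/-- A subgroup of `↥(P ⊔ Q)` containing the images of `P` and `Q` is everything. -/
theorem eq_top_of_le_sup {P Q : Subgroup Ω} (T : Subgroup ↥(P ⊔ Q))
    (hP : ∀ x : P, Subgroup.inclusion le_sup_left x ∈ T)
    (hQ : ∀ x : Q, Subgroup.inclusion le_sup_right x ∈ T) : T = ⊤ := by
  have key : P ⊔ Q ≤ T.map (P ⊔ Q).subtype := by
    refine sup_le ?_ ?_
    · intro x hx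
      exact ⟨_, hP ⟨x, hx⟩, rfl⟩
    · intro x hx
      exact ⟨_, hQ ⟨x, hx⟩, rfl⟩
  rw [eq_top_iff]
  intro y _
  obtain ⟨z, hz, hzy⟩ := key y.2
  have : z = y := Subtype.ext hzy
  rwa [← this]

/-- An element normalizing `P` and `Q` normalizes `P ⊔ Q`. -/
theorem mem_normalizer_sup {P Q : Subgroup Ω} {g : Ω}
    (hP : g ∈ Subgroup.normalizer (P : Set Ω)) (hQ : g ∈ Subgroup.normalizer (Q : Set Ω)) :
    g ∈ Subgroup.normalizer ((P ⊔ Q : Subgroup Ω) : Set Ω) := by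
  have key : ∀ g : Ω, g ∈ Subgroup.normalizer (P : Set Ω) → g ∈ Subgroup.normalizer (Q : Set Ω) →
      ∀ h ∈ P ⊔ Q, g * h * g⁻¹ ∈ P ⊔ Q := by
    intro g hP hQ h hh
    have hle : P ⊔ Q ≤ (P ⊔ Q).comap (MulAut.conj g).toMonoidHom := by
      refine sup_le ?_ ?_
      · intro x hx
        exact Subgroup.mem_sup_left ((hP x).1 hx)
      · intro x hx
        exact Subgroup.mem_sup_right ((hQ x).1 hx)
    exact hle hh
  intro h
  constructor
  · exact key g hP hQ h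
  · intro hh
    have := key g⁻¹ (Subgroup.inv_mem _ hP) (Subgroup.inv_mem _ hQ) _ hh
    simpa [mul_assoc] using this

/-- The stabilizer of `P` in `Aut(R)`. -/
def stab (R P : Subgroup Ω) : Subgroup (MulAut R) where
  carrier := {α | ∀ x : R, (x : Ω) ∈ P ↔ ((α x : R) : Ω) ∈ P}
  one_mem' := fun _ => Iff.rfl
  mul_mem' := by
    intro α β hα hβ x
    rw [MulAut.mul_apply]
    exact (hβ x).trans (hα (β x))
  inv_mem' := by
    intro α hα x
    have := hα (α⁻¹ x)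
    rw [MulAut.apply_inv_self] at this
    exact this.symm

theorem mem_stab {R P : Subgroup Ω} {α : MulAut R} :
    α ∈ stab R P ↔ ∀ x : R, (x : Ω) ∈ P ↔ ((α x : R) : Ω) ∈ P := Iff.rfl

/-- Restriction of an automorphism of `R` stabilizing `P ≤ R` to `P`. -/
def restrictAut {R P : Subgroup Ω} (hPR : P ≤ R) (α : stab R P) : MulAut P where
  toFun x := ⟨((α : MulAut R) (Subgroup.inclusion hPR x) : R), (α.2 _).1 x.2⟩
  invFun x := ⟨(((α : MulAut R)⁻¹) (Subgroup.inclusion hPR x) : R),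
    ((stab R P).inv_mem α.2 _).1 x.2⟩
  left_inv x := by
    apply Subtype.ext
    show ((((α : MulAut R)⁻¹) (Subgroup.inclusion hPR ⟨_, _⟩) : R) : Ω) = x
    have : Subgroup.inclusion hPR ⟨((α : MulAut R) (Subgroup.inclusion hPR x) : R),
        (α.2 _).1 x.2⟩ = (α : MulAut R) (Subgroup.inclusion hPR x) := Subtype.ext rfl
    rw [this, MulAut.inv_apply_self]
    rfl
  right_inv x := by
    apply Subtype.ext
    show (((α : MulAut R) (Subgroup.inclusion hPR ⟨_, _⟩) : R) : Ω) = x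
    have : Subgroup.inclusion hPR ⟨(((α : MulAut R)⁻¹) (Subgroup.inclusion hPR x) : R),
        ((stab R P).inv_mem α.2 _).1 x.2⟩ = (α : MulAut R)⁻¹ (Subgroup.inclusion hPR x) :=
      Subtype.ext rfl
    rw [this, MulAut.apply_inv_self]
    rfl
  map_mul' x y := by
    apply Subtype.ext
    show (((α : MulAut R) (Subgroup.inclusion hPR (x * y)) : R) : Ω) = _
    rw [map_mul, map_mul]
    rfl

@[simp]
theorem coe_restrictAut {R P : Subgroup Ω} (hPR : P ≤ R) (α : stab R P) (x : P) :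
    ((restrictAut hPR α x : P) : Ω) = ((α : MulAut R) (Subgroup.inclusion hPR x) : R) := rfl

/-- Restriction as a homomorphism. -/
def restrictHom {R P : Subgroup Ω} (hPR : P ≤ R) : stab R P →* MulAut P where
  toFun := restrictAut hPR
  map_one' := by
    ext x
    rfl
  map_mul' α β := by
    ext x
    rfl

@[simp]
theorem coe_restrictHom {R P : Subgroup Ω} (hPR : P ≤ R) (α : stab R P) (x : P) :
    ((restrictHom hPR α x : P) : Ω) = ((α : MulAut R) (Subgroup.inclusion hPR x) : R) := rfl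

/-- The image of a relative Sylow subgroup of the whole group under a homomorphism is a relative
Sylow subgroup of the range. -/
theorem isSylowIn_map_range {A G' : Type*} [Group A] [Group G'] {p : ℕ} (f : A →* G')
    (T : Subgroup A) (hT : IsPGroup p T) (hidx : ¬ p ∣ T.index) : IsSylowIn p (T.map f) f.range := by
  refine ⟨Subgroup.map_le_range f T, hT.map f, fun hd => hidx (dvd_trans hd ?_)⟩
  rw [MonoidHom.range_eq_map, Subgroup.relIndex_map_map, top_sup_eq, Subgroup.relIndex_top_right]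
  exact Subgroup.index_dvd_of_le le_sup_left

/-! ### The group `K_P` and `K`-normalizer systems -/

/-- `K_P ≤ Aut(P ⊔ Q)`: the automorphisms stabilizing `P` and restricting on `Q` to elements
of `K`. -/
def KP (P Q : Subgroup Ω) (K : Subgroup (MulAut Q)) : Subgroup (MulAut ↥(P ⊔ Q)) where
  carrier := {α | α ∈ stab (P ⊔ Q) P ∧ ∃ κ ∈ K, ∀ x : Q,
    ((α (Subgroup.inclusion le_sup_right x) : ↥(P ⊔ Q)) : Ω) = κ x}
  one_mem' := ⟨Subgroup.one_mem _, 1, K.one_mem, fun x => rfl⟩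
  mul_mem' := by
    rintro α β ⟨hα, κa, hκa, ha⟩ ⟨hβ, κb, hκb, hb⟩
    refine ⟨Subgroup.mul_mem _ hα hβ, κa * κb, K.mul_mem hκa hκb, fun x => ?_⟩
    have e1 : β (Subgroup.inclusion le_sup_right x) = Subgroup.inclusion le_sup_right (κb x) :=
      Subtype.ext (hb x)
    rw [MulAut.mul_apply, e1, ha]
    rfl
  inv_mem' := by
    rintro α ⟨hα, κa, hκa, ha⟩
    refine ⟨Subgroup.inv_mem _ hα, κa⁻¹, K.inv_mem hκa, fun x => ?_⟩
    have e1 : α (Subgroup.inclusion le_sup_right (κa⁻¹ x)) = Subgroup.inclusion le_sup_right x := by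
      apply Subtype.ext
      rw [ha, MulAut.apply_inv_self]
      rfl
    rw [← e1, MulAut.inv_apply_self]
    rfl

theorem mem_KP {P Q : Subgroup Ω} {K : Subgroup (MulAut Q)} {α : MulAut ↥(P ⊔ Q)} :
    α ∈ KP P Q K ↔ α ∈ stab (P ⊔ Q) P ∧ ∃ κ ∈ K, ∀ x : Q,
      ((α (Subgroup.inclusion le_sup_right x) : ↥(P ⊔ Q)) : Ω) = κ x := Iff.rfl

theorem KP_le_stab (P Q : Subgroup Ω) (K : Subgroup (MulAut Q)) : KP P Q K ≤ stab (P ⊔ Q) P :=
  fun _ h => h.1

/-- `E` over `N` is the `K`-normalizer system `N_F^K(Q)` over `N = N_S^K(Q)`. -/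
structure IsKNormalizerSystem (F : FusionSystem S) (Q : Subgroup Ω) (K : Subgroup (MulAut Q))
    {N : Subgroup Ω} (E : FusionSystem N) : Prop where
  mem_iff : ∀ g : Ω, g ∈ N ↔ g ∈ S ∧ ∃ κ ∈ K, ∀ x : Q, g * x * g⁻¹ = κ x
  hom_iff : ∀ (P : Subgroup Ω) (φ : P →* Ω), φ ∈ E.Hom P ↔
    φ ∈ F.Hom P ∧ P ≤ N ∧ (∀ x : P, φ x ∈ N) ∧
      ∃ ψ ∈ F.Hom (P ⊔ Q), (∀ x : P, ψ (Subgroup.inclusion le_sup_left x) = φ x) ∧
        ∃ κ ∈ K, ∀ x : Q, ψ (Subgroup.inclusion le_sup_right x) = κ x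

section system

variable {F : FusionSystem S} {Q : Subgroup Ω} {K : Subgroup (MulAut Q)} {N : Subgroup Ω}
  {E : FusionSystem N}

theorem IsKNormalizerSystem.le_S (hE : IsKNormalizerSystem F Q K E) : N ≤ S :=
  fun g hg => ((hE.mem_iff g).1 hg).1

theorem IsKNormalizerSystem.le_normalizer (hE : IsKNormalizerSystem F Q K E) :
    N ≤ Subgroup.normalizer (Q : Set Ω) := by
  intro g hg
  obtain ⟨-, κ, -, hκ⟩ := (hE.mem_iff g).1 hg
  exact mem_normalizer_of_aut κ g (fun x => (hκ x).symm)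

/-- `N_N(P) ≤ N_S^{K_P}(PQ)`. -/
theorem IsKNormalizerSystem.normalizerIn_le_NK (hE : IsKNormalizerSystem F Q K E) (P : Subgroup Ω) :
    normalizerIn N P ≤ NK S (P ⊔ Q) (KP P Q K) (P ⊔ Q).subtype := by
  rintro g ⟨hgN, hgP⟩
  obtain ⟨hgS, κ, hκ, hgκ⟩ := (hE.mem_iff g).1 hgN
  have hgQ : g ∈ Subgroup.normalizer (Q : Set Ω) := hE.le_normalizer hgN
  have hgR := mem_normalizer_sup hgP hgQ
  refine ⟨hgS, (P ⊔ Q).normalizerMonoidHom ⟨g, hgR⟩, ⟨?_, κ, hκ, fun x => hgκ x⟩, fun y => rfl⟩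
  intro x
  exact hgP x

/-- An element of `S` inducing an automorphism in `K_P` on `PQ` lies in `N_N(P)`. -/
theorem IsKNormalizerSystem.mem_normalizerIn_of_KP (hE : IsKNormalizerSystem F Q K E)
    {P : Subgroup Ω} {s : Ω} (hs : s ∈ S) {α : MulAut ↥(P ⊔ Q)} (hα : α ∈ KP P Q K)
    (h : ∀ y : ↥(P ⊔ Q), s * (y : Ω) * s⁻¹ = ((α y : ↥(P ⊔ Q)) : Ω)) : s ∈ normalizerIn N P := by
  obtain ⟨hst, κ, hκ, hακ⟩ := hα
  constructor
  · apply (hE.mem_iff s).2
    refine ⟨hs, κ, hκ, fun x => ?_⟩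
    rw [← hακ]
    exact h (Subgroup.inclusion le_sup_right x)
  · intro z
    constructor
    · intro hz
      have := h ⟨z, (le_sup_left : P ≤ P ⊔ Q) hz⟩
      simp only at this
      rw [this]
      exact (hst _).1 hz
    · intro hz
      set y : ↥(P ⊔ Q) := ⟨s * z * s⁻¹, (le_sup_left : P ≤ P ⊔ Q) hz⟩ with hy
      have h1 : ((α⁻¹ y : ↥(P ⊔ Q)) : Ω) ∈ P := by
        rw [hst (α⁻¹ y), MulAut.apply_inv_self]
        exact hz
      have h2 := h (α⁻¹ y)
      rw [MulAut.apply_inv_self] at h2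
      have h3 : ((α⁻¹ y : ↥(P ⊔ Q)) : Ω) = z := by
        have : s * ((α⁻¹ y : ↥(P ⊔ Q)) : Ω) * s⁻¹ = s * z * s⁻¹ := h2
        exact mul_left_cancel (mul_right_cancel this)
      rw [← h3]
      exact h1

end system

end Cfsg.Agent.Lib.Helper84_KNormalizer
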