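/-
Helper library (helper86): automorphisms of odd order of metacyclic 2-groups (a lemma of Mazurov):
a metacyclic 2-group with a non-trivial automorphism of odd order is homocyclic abelian of rank two
or a quaternion group of order eight.
-/
import Mathlib
import Cfsg.Agent.S4218
import Cfsg.Agent.S4189
import Cfsg.Agent.Lib.Helper86_QDModel
import Cfsg.Agent.Lib.Helper86_Wreathed
import Cfsg.Agent.Lib.Helper2_Metacyclic

set_option autoImplicit false
set_option linter.unusedSectionVars false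

namespace Cfsg.Agent.Lib.Helper86_MetaAut

open Subgroup
open scoped Pointwise commutatorElement

section star

variable {P : Type*} [Group P]

/-- an index two subgroup of a group generated by `a`, `b` does not contain both -/
theorem not_both (a b : P) (hgen : closure {a, b} = (⊤ : Subgroup P)) (M : Subgroup P)
    (hM : M.index = 2) : ¬ (a ∈ M ∧ b ∈ M) := by
  rintro ⟨ha, hb⟩
  have hle : closure {a, b} ≤ M := by
    rw [closure_le]
    intro x hx
    rcases hx with rfl | rfl
    · exact ha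
    · exact hb
  rw [hgen, top_le_iff] at hle
  rw [hle, index_top] at hM
  omega

/-- an index two subgroup is determined by which generators it contains -/
theorem eq_of_pattern (a b : P) (hgen : closure {a, b} = (⊤ : Subgroup P)) (M₁ M₂ : Subgroup P)
    (h1 : M₁.index = 2) (h2 : M₂.index = 2) (ha : a ∈ M₁ ↔ a ∈ M₂) (hb : b ∈ M₁ ↔ b ∈ M₂) :
    M₁ = M₂ := by
  let T : Subgroup P :=
    { carrier := {x | x ∈ M₁ ↔ x ∈ M₂}
      one_mem' := by
        show (1 : P) ∈ M₁ ↔ (1 : P) ∈ M₂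
        exact ⟨fun _ => one_mem _, fun _ => one_mem _⟩
      mul_mem' := by
        intro x y hx hy
        show x * y ∈ M₁ ↔ x * y ∈ M₂
        rw [mul_mem_iff_of_index_two h1, mul_mem_iff_of_index_two h2]
        have hx' : x ∈ M₁ ↔ x ∈ M₂ := hx
        have hy' : y ∈ M₁ ↔ y ∈ M₂ := hy
        rw [hx', hy']
      inv_mem' := by
        intro x hx
        show x⁻¹ ∈ M₁ ↔ x⁻¹ ∈ M₂
        rw [inv_mem_iff, inv_mem_iff]
        exact hx }
  have hT : closure {a, b} ≤ T := by
    rw [closure_le]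
    intro x hx
    rcases hx with rfl | rfl
    · exact ha
    · exact hb
  rw [hgen, top_le_iff] at hT
  ext x
  have : x ∈ T := by rw [hT]; exact mem_top x
  exact this

end star

section star2

variable {P : Type*} [Group P]

/-- the class of an index two subgroup with respect to two generators -/
noncomputable def patt (a b : P) (X : Subgroup P) : ℕ := by
  classical
  exact if a ∈ X then 0 else if b ∈ X then 1 else 2

theorem patt_lt (a b : P) (X : Subgroup P) : patt a b X < 3 := by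
  unfold patt
  split_ifs <;> omega

theorem eq_of_patt (a b : P) (hgen : closure {a, b} = (⊤ : Subgroup P)) (M₁ M₂ : Subgroup P)
    (h1 : M₁.index = 2) (h2 : M₂.index = 2) (h : patt a b M₁ = patt a b M₂) : M₁ = M₂ := by
  have n1 := not_both a b hgen M₁ h1
  have n2 := not_both a b hgen M₂ h2
  apply eq_of_pattern a b hgen M₁ M₂ h1 h2
  · unfold patt at h
    split_ifs at h with c1 c2 c3 c4 c5 c6 <;> first | omega | tauto
  · unfold patt at h
    split_ifs at h with c1 c2 c3 c4 c5 c6 <;> first | omega | tauto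

/-- **no invariant maximal subgroups**: a non-trivial automorphism of odd order of a two-generated
2-group fixes no subgroup of index two -/
theorem no_invariant_index_two [Finite P] (hP : IsPGroup 2 P) (a b : P)
    (hgen : closure {a, b} = (⊤ : Subgroup P)) (α : MulAut P) (hodd : Odd (orderOf α))
    (hα : α ≠ 1) (H : Subgroup P) (hH : H.index = 2) (hinv : ∀ x ∈ H, α x ∈ H) : False := by
  classical
  have : Fact (Nat.Prime 2) := ⟨Nat.prime_two⟩
  let im : MulAut P → Subgroup P → Subgroup P := fun β M => M.map β.toMonoidHom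
  have im_index : ∀ β M, (im β M).index = M.index := fun β M => Subgroup.index_map_equiv M β
  have im_mul : ∀ β γ M, im (β * γ) M = im β (im γ M) := by
    intro β γ M
    show M.map (β * γ).toMonoidHom = (M.map γ.toMonoidHom).map β.toMonoidHom
    rw [Subgroup.map_map]
    rfl
  have im_one : ∀ M, im 1 M = M := fun M => Subgroup.map_id M
  have im_inj : ∀ β M₁ M₂, im β M₁ = im β M₂ → M₁ = M₂ := fun β M₁ M₂ h =>
    Subgroup.map_injective β.injective h
  have hHinv : im α H = H := by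
    apply Subgroup.eq_of_le_of_card_ge
    · rintro _ ⟨x, hx, rfl⟩
      exact hinv x hx
    · exact le_of_eq (Subgroup.card_map_of_injective α.injective).symm
  -- every subgroup of index two is invariant
  have key : ∀ M : Subgroup P, M.index = 2 → im α M = M := by
    intro M hM
    by_cases hMH : M = H
    · rw [hMH]; exact hHinv
    by_contra hne
    have i1 : (im α M).index = 2 := by rw [im_index]; exact hM
    have i2 : (im α (im α M)).index = 2 := by rw [im_index]; exact i1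
    have hsq : im α (im α M) = M := by
      have l0 := patt_lt a b H
      have l1 := patt_lt a b M
      have l2 := patt_lt a b (im α M)
      have l3 := patt_lt a b (im α (im α M))
      have hcases : patt a b H = patt a b M ∨ patt a b H = patt a b (im α M) ∨
          patt a b H = patt a b (im α (im α M)) ∨ patt a b M = patt a b (im α M) ∨
          patt a b M = patt a b (im α (im α M)) ∨
          patt a b (im α M) = patt a b (im α (im α M)) := by omega
      rcases hcases with h | h | h | h | h | h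
      · exact absurd (eq_of_patt a b hgen _ _ hH hM h).symm hMH
      · have := eq_of_patt a b hgen _ _ hH i1 h
        rw [← hHinv] at this
        exact absurd (im_inj α _ _ this).symm hMH
      · have := eq_of_patt a b hgen _ _ hH i2 h
        rw [← hHinv] at this
        have := im_inj α _ _ this
        rw [← hHinv] at this
        exact absurd (im_inj α _ _ this).symm hMH
      · exact absurd (eq_of_patt a b hgen _ _ hM i1 h).symm hne
      · exact (eq_of_patt a b hgen _ _ hM i2 h).symm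
      · have := eq_of_patt a b hgen _ _ i1 i2 h
        exact absurd (im_inj α _ _ this).symm hne
    obtain ⟨j, hj⟩ := hodd
    have hpow : ∀ n : ℕ, im (α ^ (2 * n)) M = M := by
      intro n
      induction n with
      | zero => rw [mul_zero, pow_zero]; exact im_one M
      | succ n ih =>
        have : α ^ (2 * (n + 1)) = α * (α * α ^ (2 * n)) := by
          rw [← pow_succ', ← pow_succ']
          congr 1
        rw [this, im_mul, im_mul, ih, hsq]
    have h1 : α ^ (2 * j + 1) = 1 := by rw [← hj]; exact pow_orderOf_eq_one α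
    have h2 : im (α ^ (2 * j + 1)) M = im α M := by
      rw [pow_succ', im_mul, hpow]
    rw [h1, im_one] at h2
    exact hne h2.symm
  -- hence `α` acts trivially on the Frattini quotient
  have hmem : α ∈ Cfsg.Agent.S4218.frattiniTrivial P := by
    rw [Cfsg.Agent.S4218.mem_frattiniTrivial]
    intro y
    unfold frattini Order.radical
    rw [Subgroup.mem_iInf]
    intro M
    rw [Subgroup.mem_iInf]
    intro hMc
    have hM2 : M.index = 2 :=
      (Cfsg.Agent.Lib.Helper86_QuasiDihedral.coatom_index_of_isPGroup hP M hMc).2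
    rw [mul_mem_iff_of_index_two hM2, inv_mem_iff]
    have hk := key M hM2
    constructor
    · intro h
      have h1 : α⁻¹ (α y) ∈ im α⁻¹ M := ⟨α y, h, rfl⟩
      have h2 : im α⁻¹ M = M := by
        apply im_inj α
        rw [← im_mul, mul_inv_cancel, im_one, hk]
      rw [h2, MulAut.inv_apply_self] at h1
      exact h1
    · intro h
      have h1 : α y ∈ im α M := ⟨y, h, rfl⟩
      rwa [hk] at h1
  obtain ⟨k, hk⟩ := (Cfsg.Agent.S4218.frattiniTrivial_isPGroup 2 hP) ⟨α, hmem⟩
  have hk' : α ^ 2 ^ k = 1 := congrArg Subtype.val hk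
  have h1 : orderOf α ∣ 2 ^ k := orderOf_dvd_of_pow_eq_one hk'
  obtain ⟨j, -, hj⟩ := (Nat.dvd_prime_pow Nat.prime_two).mp h1
  rcases j with _ | j
  · rw [pow_zero, orderOf_eq_one_iff] at hj
    exact hα hj
  · rw [hj, pow_succ] at hodd
    exact (Nat.not_even_iff_odd.mpr hodd) (even_two.mul_left _)

end star2

section abelian

variable {A : Type*} [Group A] [Finite A]

/-- the unique involution of a cyclic 2-group -/
theorem eq_half_pow {a x : A} {m : ℕ} (hm : 1 ≤ m) (ha : orderOf a = 2 ^ m) (hx : x ∈ zpowers a)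
    (hx2 : x ^ 2 = 1) (hx1 : x ≠ 1) : x = a ^ 2 ^ (m - 1) := by
  rw [← mem_powers_iff_mem_zpowers] at hx
  obtain ⟨i, rfl⟩ := (Submonoid.mem_powers_iff _ _).mp hx
  have h2 : (2 : ℕ) ^ m = 2 * 2 ^ (m - 1) := by
    rw [← pow_succ']; congr 1; omega
  have h1 : 2 ^ m ∣ i * 2 := by
    rw [← ha]
    apply orderOf_dvd_of_pow_eq_one
    rw [pow_mul]; exact hx2
  rw [h2, mul_comm i 2] at h1
  have h3 : 2 ^ (m - 1) ∣ i := Nat.dvd_of_mul_dvd_mul_left two_pos h1
  obtain ⟨t, rfl⟩ := h3
  have hw2 : (a ^ 2 ^ (m - 1)) ^ 2 = 1 := by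
    rw [← pow_mul, mul_comm, ← h2, ← ha, pow_orderOf_eq_one]
  rw [pow_mul] at hx1 ⊢
  rcases Nat.even_or_odd' t with ⟨s, rfl | rfl⟩
  · exfalso
    apply hx1
    rw [pow_mul, hw2, one_pow]
  · rw [pow_succ, pow_mul, hw2, one_pow, one_mul]

end abelian

section abelian2

variable {A : Type*} [CommGroup A] [Finite A]

/-- an abelian 2-group generated by `a`, `b`, such that no kernel of a power map has index two, is
homocyclic with basis `a`, `b` -/
theorem homocyclic_of_no_pow_ker (hA : IsPGroup 2 A) (a b : A)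
    (hgen : ∀ x : A, ∃ i j : ℕ, x = a ^ i * b ^ j) (hnt : ∃ x : A, x ≠ 1)
    (hno : ∀ n : ℕ, (powMonoidHom n : A →* A).ker.index ≠ 2) :
    ∃ m : ℕ, 1 ≤ m ∧ orderOf a = 2 ^ m ∧ orderOf b = 2 ^ m ∧ zpowers a ⊓ zpowers b = ⊥ := by
  have : Fact (Nat.Prime 2) := ⟨Nat.prime_two⟩
  obtain ⟨k, hk⟩ := (IsPGroup.iff_orderOf.mp hA) a
  obtain ⟨l, hl⟩ := (IsPGroup.iff_orderOf.mp hA) b
  obtain ⟨m, hm⟩ : ∃ m, m = max k l := ⟨_, rfl⟩
  have hkm : k ≤ m := by rw [hm]; exact le_max_left _ _
  have hlm : l ≤ m := by rw [hm]; exact le_max_right _ _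
  have hkl : k = m ∨ l = m := by
    rcases max_choice k l with h | h
    · left; rw [hm, h]
    · right; rw [hm, h]
  have hm1 : 1 ≤ m := by
    by_contra h
    have hk0 : k = 0 := by omega
    have hl0 : l = 0 := by omega
    rw [hk0, pow_zero, orderOf_eq_one_iff] at hk
    rw [hl0, pow_zero, orderOf_eq_one_iff] at hl
    obtain ⟨x, hx⟩ := hnt
    obtain ⟨i, j, rfl⟩ := hgen x
    rw [hk, hl, one_pow, one_pow, mul_one] at hx
    exact hx rfl
  have h2m : (2 : ℕ) ^ m = 2 ^ (m - 1) * 2 := by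
    rw [← pow_succ]; congr 1; omega
  have hw₁sq : (a ^ 2 ^ (m - 1)) ^ 2 = 1 := by
    rw [← pow_mul, ← h2m]
    apply orderOf_dvd_iff_pow_eq_one.mp
    rw [hk]; exact pow_dvd_pow 2 hkm
  have hw₂sq : (b ^ 2 ^ (m - 1)) ^ 2 = 1 := by
    rw [← pow_mul, ← h2m]
    apply orderOf_dvd_iff_pow_eq_one.mp
    rw [hl]; exact pow_dvd_pow 2 hlm
  have hw₁ : a ^ 2 ^ (m - 1) = 1 → k ≤ m - 1 := by
    intro h
    have := orderOf_dvd_of_pow_eq_one h
    rw [hk] at this
    exact (Nat.pow_dvd_pow_iff_le_right (by norm_num)).mp this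
  have hw₂ : b ^ 2 ^ (m - 1) = 1 → l ≤ m - 1 := by
    intro h
    have := orderOf_dvd_of_pow_eq_one h
    rw [hl] at this
    exact (Nat.pow_dvd_pow_iff_le_right (by norm_num)).mp this
  have hrange : ∀ y ∈ (powMonoidHom (2 ^ (m - 1)) : A →* A).range,
      ∃ i j : ℕ, y = (a ^ 2 ^ (m - 1)) ^ i * (b ^ 2 ^ (m - 1)) ^ j := by
    rintro _ ⟨x, rfl⟩
    obtain ⟨i, j, rfl⟩ := hgen x
    refine ⟨i, j, ?_⟩
    show (a ^ i * b ^ j) ^ 2 ^ (m - 1) = _
    rw [mul_pow, ← pow_mul, ← pow_mul, ← pow_mul, ← pow_mul, mul_comm i, mul_comm j]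
  have hcontra : ∀ w : A, orderOf w = 2 → w ∈ (powMonoidHom (2 ^ (m - 1)) : A →* A).range →
      (∀ y ∈ (powMonoidHom (2 ^ (m - 1)) : A →* A).range, y ∈ zpowers w) → False := by
    intro w hw hwr hall
    apply hno (2 ^ (m - 1))
    rw [Subgroup.index_ker]
    have : (powMonoidHom (2 ^ (m - 1)) : A →* A).range = zpowers w :=
      le_antisymm hall (by rw [zpowers_le]; exact hwr)
    rw [this, Nat.card_zpowers, hw]
  have hmemr₁ : a ^ 2 ^ (m - 1) ∈ (powMonoidHom (2 ^ (m - 1)) : A →* A).range := ⟨a, rfl⟩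
  have hmemr₂ : b ^ 2 ^ (m - 1) ∈ (powMonoidHom (2 ^ (m - 1)) : A →* A).range := ⟨b, rfl⟩
  have hne₁ : a ^ 2 ^ (m - 1) ≠ 1 := by
    intro h1
    have hl' : l = m := by
      have := hw₁ h1
      rcases hkl with h | h
      · omega
      · exact h
    have hne : b ^ 2 ^ (m - 1) ≠ 1 := fun h => by have := hw₂ h; omega
    apply hcontra (b ^ 2 ^ (m - 1)) (orderOf_eq_prime hw₂sq hne) hmemr₂
    intro y hy
    obtain ⟨i, j, rfl⟩ := hrange y hy
    rw [h1, one_pow, one_mul]
    exact Subgroup.pow_mem _ (mem_zpowers _) _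
  have hne₂ : b ^ 2 ^ (m - 1) ≠ 1 := by
    intro h1
    apply hcontra (a ^ 2 ^ (m - 1)) (orderOf_eq_prime hw₁sq hne₁) hmemr₁
    intro y hy
    obtain ⟨i, j, rfl⟩ := hrange y hy
    rw [h1, one_pow, mul_one]
    exact Subgroup.pow_mem _ (mem_zpowers _) _
  have hne₁₂ : a ^ 2 ^ (m - 1) ≠ b ^ 2 ^ (m - 1) := by
    intro h1
    apply hcontra (a ^ 2 ^ (m - 1)) (orderOf_eq_prime hw₁sq hne₁) hmemr₁
    intro y hy
    obtain ⟨i, j, rfl⟩ := hrange y hy
    rw [← h1, ← pow_add]
    exact Subgroup.pow_mem _ (mem_zpowers _) _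
  have hk' : k = m := by
    by_contra h
    apply hne₁
    apply orderOf_dvd_iff_pow_eq_one.mp
    rw [hk]
    exact pow_dvd_pow 2 (by omega)
  have hl' : l = m := by
    by_contra h
    apply hne₂
    apply orderOf_dvd_iff_pow_eq_one.mp
    rw [hl]
    exact pow_dvd_pow 2 (by omega)
  rw [hk'] at hk
  rw [hl'] at hl
  refine ⟨m, hm1, hk, hl, ?_⟩
  rw [eq_bot_iff]
  rintro g ⟨hga, hgb⟩
  rw [mem_bot]
  by_contra hg1
  obtain ⟨e, he⟩ := (IsPGroup.iff_orderOf.mp hA) g
  have he1 : 1 ≤ e := by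
    by_contra h
    have : e = 0 := by omega
    rw [this, pow_zero, orderOf_eq_one_iff] at he
    exact hg1 he
  have h2e : (2 : ℕ) ^ e = 2 ^ (e - 1) * 2 := by
    rw [← pow_succ]; congr 1; omega
  have hg'2 : (g ^ 2 ^ (e - 1)) ^ 2 = 1 := by
    rw [← pow_mul, ← h2e, ← he, pow_orderOf_eq_one]
  have hg'1 : g ^ 2 ^ (e - 1) ≠ 1 := by
    intro h
    have := orderOf_dvd_of_pow_eq_one h
    rw [he] at this
    have := (Nat.pow_dvd_pow_iff_le_right (by norm_num)).mp this
    omega
  have e1 := eq_half_pow hm1 hk (Subgroup.pow_mem _ hga _) hg'2 hg'1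
  have e2 := eq_half_pow hm1 hl (Subgroup.pow_mem _ hgb _) hg'2 hg'1
  exact hne₁₂ (e1.symm.trans e2)

/-- the isomorphism with the model -/
theorem exists_mulEquiv_homocyclic (m : ℕ) (a b : A) (ha : orderOf a = 2 ^ m)
    (hb : orderOf b = 2 ^ m) (hind : zpowers a ⊓ zpowers b = ⊥)
    (hgen : ∀ x : A, ∃ i j : ℕ, x = a ^ i * b ^ j) :
    Nonempty (Multiplicative (Fin 2 → ZMod (2 ^ m)) ≃* A) := by
  have hne : NeZero (2 ^ m) := ⟨by positivity⟩
  have ha1 : a ^ 2 ^ m = 1 := by rw [← ha]; exact pow_orderOf_eq_one a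
  have hb1 : b ^ 2 ^ m = 1 := by rw [← hb]; exact pow_orderOf_eq_one b
  let f : Multiplicative (Fin 2 → ZMod (2 ^ m)) →* A :=
    { toFun := fun v => a ^ ((Multiplicative.toAdd v) 0).val * b ^ ((Multiplicative.toAdd v) 1).val
      map_one' := by
        show a ^ ((0 : Fin 2 → ZMod (2 ^ m)) 0).val * b ^ ((0 : Fin 2 → ZMod (2 ^ m)) 1).val = 1
        simp
      map_mul' := by
        intro v w
        show a ^ ((Multiplicative.toAdd v + Multiplicative.toAdd w) 0).val *
            b ^ ((Multiplicative.toAdd v + Multiplicative.toAdd w) 1).val = _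
        rw [Pi.add_apply, Pi.add_apply,
          Cfsg.Agent.Lib.Helper86_Wreathed.pow_val_add ha1,
          Cfsg.Agent.Lib.Helper86_Wreathed.pow_val_add hb1]
        exact mul_mul_mul_comm _ _ _ _ }
  have hinj : Function.Injective f := by
    rw [injective_iff_map_eq_one]
    intro v hv
    have hv' : a ^ ((Multiplicative.toAdd v) 0).val * b ^ ((Multiplicative.toAdd v) 1).val = 1 := hv
    have h1 : a ^ ((Multiplicative.toAdd v) 0).val ∈ zpowers a ⊓ zpowers b := by
      refine ⟨Subgroup.pow_mem _ (mem_zpowers _) _, ?_⟩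
      rw [eq_inv_of_mul_eq_one_left hv']
      exact Subgroup.inv_mem _ (Subgroup.pow_mem _ (mem_zpowers _) _)
    rw [hind, mem_bot] at h1
    have h2 : b ^ ((Multiplicative.toAdd v) 1).val = 1 := by
      rw [h1, one_mul] at hv'; exact hv'
    have e0 := (Cfsg.Agent.Lib.Helper86_Wreathed.pow_val_eq_one_iff ha _).mp h1
    have e1 := (Cfsg.Agent.Lib.Helper86_Wreathed.pow_val_eq_one_iff hb _).mp h2
    apply Multiplicative.toAdd.injective
    funext i
    fin_cases i
    · exact e0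
    · exact e1
  have hsurj : Function.Surjective f := by
    intro x
    obtain ⟨i, j, rfl⟩ := hgen x
    refine ⟨Multiplicative.ofAdd (fun t : Fin 2 => if t = 0 then (i : ZMod (2 ^ m)) else (j : ZMod (2 ^ m))), ?_⟩
    show a ^ ((i : ZMod (2 ^ m))).val * b ^ ((j : ZMod (2 ^ m))).val = _
    rw [ZMod.val_natCast, ZMod.val_natCast]
    congr 1
    · rw [← ha]; exact pow_mod_orderOf a i
    · rw [← hb]; exact pow_mod_orderOf b j
  exact ⟨MulEquiv.ofBijective f ⟨hinj, hsurj⟩⟩

end abelian2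

section wrappers

variable {A : Type*} [Group A] [Finite A]

theorem homocyclic_of_no_pow_ker' (hcomm : ∀ x y : A, x * y = y * x) (hA : IsPGroup 2 A) (a b : A)
    (hgen : ∀ x : A, ∃ i j : ℕ, x = a ^ i * b ^ j) (hnt : ∃ x : A, x ≠ 1)
    (hno : ∀ n : ℕ, ∀ K : Subgroup A, (∀ x, x ∈ K ↔ x ^ n = 1) → K.index ≠ 2) :
    ∃ m : ℕ, 1 ≤ m ∧ orderOf a = 2 ^ m ∧ orderOf b = 2 ^ m ∧ zpowers a ⊓ zpowers b = ⊥ := by
  let _ : CommGroup A := { (inferInstance : Group A) with mul_comm := hcomm }
  exact homocyclic_of_no_pow_ker hA a b hgen hnt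
    (fun n => hno n _ (fun x => by rw [MonoidHom.mem_ker]; rfl))

theorem exists_mulEquiv_homocyclic' (hcomm : ∀ x y : A, x * y = y * x) (m : ℕ) (a b : A)
    (ha : orderOf a = 2 ^ m) (hb : orderOf b = 2 ^ m) (hind : zpowers a ⊓ zpowers b = ⊥)
    (hgen : ∀ x : A, ∃ i j : ℕ, x = a ^ i * b ^ j) :
    Nonempty (Multiplicative (Fin 2 → ZMod (2 ^ m)) ≃* A) := by
  let _ : CommGroup A := { (inferInstance : Group A) with mul_comm := hcomm }
  exact exists_mulEquiv_homocyclic m a b ha hb hind hgen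

theorem zpow_eq_pow (x : A) (k : ℤ) : ∃ n : ℕ, x ^ k = x ^ n := by
  have h : x ^ k ∈ zpowers x := zpow_mem_zpowers x k
  rw [← mem_powers_iff_mem_zpowers] at h
  obtain ⟨n, hn⟩ := (Submonoid.mem_powers_iff _ _).mp h
  exact ⟨n, hn.symm⟩

/-- generators adapted to the metacyclic structure -/
theorem exists_data (hm : Cfsg.IsMetacyclic A) : ∃ (N : Subgroup A) (a b : A), N.Normal ∧
    N = zpowers a ∧ commutator A ≤ N ∧ ∀ x : A, ∃ i j : ℕ, x = a ^ i * b ^ j := by
  obtain ⟨N, hNn, hNc, hQc⟩ := hm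
  obtain ⟨g, hg⟩ := hNc.exists_generator
  obtain ⟨β, hβ⟩ := hQc.exists_generator
  obtain ⟨b, rfl⟩ := QuotientGroup.mk_surjective β
  have hN : N = zpowers (g : A) := by
    ext x
    constructor
    · intro hx
      obtain ⟨k, hk⟩ := mem_zpowers_iff.mp (hg ⟨x, hx⟩)
      refine mem_zpowers_iff.mpr ⟨k, ?_⟩
      have := congrArg Subtype.val hk
      simpa using this
    · intro hx
      obtain ⟨k, rfl⟩ := mem_zpowers_iff.mp hx
      exact Subgroup.zpow_mem _ g.2 k
  refine ⟨N, (g : A), b, hNn, hN, ?_, ?_⟩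
  · exact Cfsg.Agent.Lib.Helper2_Metacyclic.commutator_le_of_isCyclic_quotient N
  · intro x
    obtain ⟨k, hk⟩ := mem_zpowers_iff.mp (hβ (x : A ⧸ N))
    have h1 : x * (b ^ k)⁻¹ ∈ N := by
      rw [← QuotientGroup.eq_one_iff, QuotientGroup.mk_mul, QuotientGroup.mk_inv,
        QuotientGroup.mk_zpow, hk, mul_inv_cancel]
    rw [hN] at h1
    obtain ⟨i, hi⟩ := mem_zpowers_iff.mp h1
    obtain ⟨i', hi'⟩ := zpow_eq_pow (g : A) i
    obtain ⟨k', hk'⟩ := zpow_eq_pow b k
    refine ⟨i', k', ?_⟩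
    rw [← hi', ← hk', hi]
    group

end wrappers

section powhom

variable {R : Type*} [Group R]

/-- in a group whose commutators are `1` or a fixed central involution, `x ↦ x ^ (2 n)` is a
homomorphism for even `n` -/
theorem mul_pow_two_mul (c : R) (hc2 : c ^ 2 = 1) (hcc : ∀ g : R, g * c = c * g)
    (hcomm : ∀ x y : R, x * y = y * x ∨ x * y = y * x * c) (n : ℕ) (hn : Even n) (x y : R) :
    (x * y) ^ (2 * n) = x ^ (2 * n) * y ^ (2 * n) := by
  have hsqc : ∀ x y : R, x ^ 2 * y = y * x ^ 2 := by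
    intro x y
    rcases hcomm x y with h | h
    · rw [pow_two, mul_assoc, h, ← mul_assoc, h, mul_assoc]
    · have e1 : x ^ 2 * y = x * (x * y) := by rw [pow_two, mul_assoc]
      rw [e1, h]
      have e2 : x * (y * x * c) = (x * y) * x * c := by group
      rw [e2, h]
      have e3 : y * x * c * x * c = y * x * (c * x) * c := by group
      rw [e3, ← hcc x]
      have e4 : y * x * (x * c) * c = y * x ^ 2 * c ^ 2 := by rw [pow_two, pow_two]; group
      rw [e4, hc2, mul_one]
  have hsq : (x * y) ^ 2 = x ^ 2 * y ^ 2 ∨ (x * y) ^ 2 = x ^ 2 * y ^ 2 * c := by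
    rcases hcomm y x with h | h
    · left
      have : (x * y) ^ 2 = x * (y * x) * y := by rw [pow_two]; group
      rw [this, h, pow_two, pow_two]; group
    · right
      have : (x * y) ^ 2 = x * (y * x) * y := by rw [pow_two]; group
      rw [this, h]
      have e3 : x * (x * y * c) * y = x * x * y * (c * y) := by group
      rw [e3, ← hcc y, pow_two, pow_two]; group
  have hcx : Commute (x ^ 2) (y ^ 2) := hsqc x (y ^ 2)
  obtain ⟨k, rfl⟩ := hn
  rcases hsq with h | h
  · rw [pow_mul, h, hcx.mul_pow, ← pow_mul, ← pow_mul]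
  · rw [pow_mul, h]
    have hcc' : Commute (x ^ 2 * y ^ 2) c := hcc (x ^ 2 * y ^ 2)
    rw [hcc'.mul_pow, hcx.mul_pow, ← pow_mul, ← pow_mul]
    have : c ^ (k + k) = 1 := by rw [← two_mul, pow_mul, hc2, one_pow]
    rw [this, mul_one]

end powhom

section mazurov

variable {P : Type*} [Group P] [Finite P]

theorem exists_ne_one_of_aut (α : MulAut P) (hα : α ≠ 1) : ∃ x : P, x ≠ 1 := by
  by_contra h
  push Not at h
  apply hα
  ext x
  rw [h x, map_one]
  rfl

theorem closure_eq_top_of_gen (a b : P) (hgen : ∀ x : P, ∃ i j : ℕ, x = a ^ i * b ^ j) :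
    closure {a, b} = (⊤ : Subgroup P) := by
  rw [eq_top_iff]
  intro x _
  obtain ⟨i, j, rfl⟩ := hgen x
  exact mul_mem (pow_mem (subset_closure (by simp)) _) (pow_mem (subset_closure (by simp)) _)

theorem mazurov_abelian (hP : IsPGroup 2 P) (a b : P)
    (hgen : ∀ x : P, ∃ i j : ℕ, x = a ^ i * b ^ j) (α : MulAut P) (hodd : Odd (orderOf α))
    (hα : α ≠ 1) (hab : ∀ x y : P, x * y = y * x) :
    ∃ m : ℕ, 1 ≤ m ∧ Nonempty (Multiplicative (Fin 2 → ZMod (2 ^ m)) ≃* P) := by
  have star := no_invariant_index_two hP a b (closure_eq_top_of_gen a b hgen) α hodd hα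
  obtain ⟨m, hm1, ha, hb, hind⟩ := homocyclic_of_no_pow_ker' hab hP a b hgen
    (exists_ne_one_of_aut α hα) (by
      intro n K hK hidx
      apply star K hidx
      intro x hx
      rw [hK] at hx ⊢
      rw [← map_pow, hx, map_one])
  exact ⟨m, hm1, exists_mulEquiv_homocyclic' hab m a b ha hb hind hgen⟩

/-- internal form of `mazurov_abelian`: a basis of the homocyclic group -/
theorem mazurov_abelian' (hP : IsPGroup 2 P) (a b : P)
    (hgen : ∀ x : P, ∃ i j : ℕ, x = a ^ i * b ^ j) (α : MulAut P) (hodd : Odd (orderOf α))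
    (hα : α ≠ 1) (hab : ∀ x y : P, x * y = y * x) :
    ∃ m : ℕ, 1 ≤ m ∧ orderOf a = 2 ^ m ∧ orderOf b = 2 ^ m ∧ zpowers a ⊓ zpowers b = ⊥ := by
  have star := no_invariant_index_two hP a b (closure_eq_top_of_gen a b hgen) α hodd hα
  exact homocyclic_of_no_pow_ker' hab hP a b hgen
    (exists_ne_one_of_aut α hα) (by
      intro n K hK hidx
      apply star K hidx
      intro x hx
      rw [hK] at hx ⊢
      rw [← map_pow, hx, map_one])

theorem mazurov_nonabelian (hP : IsPGroup 2 P) (N : Subgroup P) (a b : P)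
    (hN : N = zpowers a) (hcN : commutator P ≤ N)
    (hgen : ∀ x : P, ∃ i j : ℕ, x = a ^ i * b ^ j) (α : MulAut P) (hodd : Odd (orderOf α))
    (hα : α ≠ 1) (x₀ y₀ : P) (hxy : x₀ * y₀ ≠ y₀ * x₀) : Nonempty (P ≃* QuaternionGroup 2) := by
  classical
  have : Fact (Nat.Prime 2) := ⟨Nat.prime_two⟩
  have hcl := closure_eq_top_of_gen a b hgen
  have star := no_invariant_index_two hP a b hcl α hodd hα
  have hchar : ∀ x ∈ commutator P, α x ∈ commutator P := by
    intro x hx
    have := (Subgroup.characteristic_iff_le_comap.mp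
      (inferInstance : (commutator P).Characteristic)) α
    exact this hx
  have hcn : (commutator P).Normal := inferInstance
  set π : P →* Abelianization P := Abelianization.of with hπ
  have hπs : Function.Surjective π := QuotientGroup.mk_surjective
  have hπ1 : ∀ x : P, π x = 1 ↔ x ∈ commutator P := fun x => QuotientGroup.eq_one_iff x
  have hP' : IsPGroup 2 (Abelianization P) := hP.to_quotient (commutator P)
  have hgen' : ∀ x : Abelianization P, ∃ i j : ℕ, x = (π a) ^ i * (π b) ^ j := by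
    intro x
    obtain ⟨x, rfl⟩ := hπs x
    obtain ⟨i, j, rfl⟩ := hgen x
    exact ⟨i, j, by rw [map_mul, map_pow, map_pow]⟩
  have hcomm_mem : ∀ x y : P, ⁅x, y⁆ ∈ commutator P := fun x y => by
    rw [_root_.commutator_def]
    exact Subgroup.commutator_mem_commutator (mem_top x) (mem_top y)
  have hnt' : ∃ x : Abelianization P, x ≠ 1 := by
    have hnil : Group.IsNilpotent P := hP.isNilpotent
    have hne : commutator P ≠ ⊤ := by
      intro h
      have h2 : (⊤ : Subgroup P) ≤ ⁅(⊤ : Subgroup P), (⊤ : Subgroup P)⁆ := by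
        rw [← _root_.commutator_def, h]
      have h3 := Cfsg.Agent.S4189.eq_bot_of_le_commutator ⊤ h2
      apply hxy
      have hx : x₀ ∈ (⊥ : Subgroup P) := by rw [← h3]; exact mem_top _
      have hy : y₀ ∈ (⊥ : Subgroup P) := by rw [← h3]; exact mem_top _
      rw [mem_bot] at hx hy
      rw [hx, hy]
    obtain ⟨x, hx⟩ : ∃ x, x ∉ commutator P := by
      by_contra h
      push Not at h
      exact hne (eq_top_iff.mpr fun x _ => h x)
    exact ⟨π x, fun h => hx ((hπ1 x).mp h)⟩
  obtain ⟨m, hm1, ha, hb, hind⟩ := homocyclic_of_no_pow_ker' (fun x y => mul_comm x y) hP'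
    (π a) (π b) hgen' hnt' (by
      intro n K hK hidx
      apply star (K.comap π) (by rw [Subgroup.index_comap_of_surjective _ hπs]; exact hidx)
      intro x hx
      rw [Subgroup.mem_comap, hK] at hx ⊢
      rw [← map_pow, hπ1] at hx ⊢
      have := hchar _ hx
      rwa [map_pow] at this)
  obtain ⟨e⟩ := exists_mulEquiv_homocyclic' (fun x y => mul_comm x y) m (π a) (π b) ha hb hind hgen'
  have hcard : Nat.card (Abelianization P) = (2 ^ m) ^ 2 := by
    rw [← Nat.card_congr e.toEquiv, Nat.card_congr (Multiplicative.toAdd), Nat.card_fun,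
      Nat.card_zmod, Nat.card_eq_fintype_card, Fintype.card_fin]
  by_cases hm2 : m = 1
  · subst hm2
    have h4 : (commutator P).index = 4 := by
      rw [Subgroup.index_eq_card]
      exact hcard
    have hna : ¬ IsMulCommutative P := by
      intro h
      exact hxy (h.is_comm.comm x₀ y₀)
    have haut : ¬ IsPGroup 2 (MulAut P) := by
      intro h
      obtain ⟨k, hk⟩ := h α
      have h1 : orderOf α ∣ 2 ^ k := orderOf_dvd_of_pow_eq_one hk
      obtain ⟨j, -, hj⟩ := (Nat.dvd_prime_pow Nat.prime_two).mp h1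
      rcases j with _ | j
      · rw [pow_zero, orderOf_eq_one_iff] at hj
        exact hα hj
      · rw [hj, pow_succ] at hodd
        exact (Nat.not_even_iff_odd.mpr hodd) (even_two.mul_left _)
    exact Cfsg.Agent.S4189.result hP hna h4 haut
  · exfalso
    have hm2' : 2 ≤ m := by omega
    have hπa : (π a) ^ 2 ^ m = 1 := by rw [← ha]; exact pow_orderOf_eq_one _
    have hπb : (π b) ^ 2 ^ m = 1 := by rw [← hb]; exact pow_orderOf_eq_one _
    have hexp : ∀ x : P, x ^ 2 ^ m ∈ commutator P := by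
      intro x
      rw [← hπ1, map_pow]
      obtain ⟨i, j, h⟩ := hgen' (π x)
      rw [h, mul_pow, ← pow_mul, ← pow_mul, mul_comm i, mul_comm j, pow_mul, pow_mul, hπa, hπb,
        one_pow, one_pow, one_mul]
    have hc₀mem : a ^ 2 ^ m ∈ commutator P := hexp a
    have hcle : ∀ g ∈ commutator P, ∃ t : ℕ, g = (a ^ 2 ^ m) ^ t := by
      intro g hg
      have hgN := hcN hg
      rw [hN, ← mem_powers_iff_mem_zpowers] at hgN
      obtain ⟨i, rfl⟩ := (Submonoid.mem_powers_iff _ _).mp hgN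
      have h1 : (π a) ^ i = 1 := by rw [← map_pow, hπ1]; exact hg
      have h2 : 2 ^ m ∣ i := by rw [← ha]; exact orderOf_dvd_of_pow_eq_one h1
      obtain ⟨t, rfl⟩ := h2
      exact ⟨t, by rw [← pow_mul]⟩
    have hc₀1 : a ^ 2 ^ m ≠ 1 := by
      intro h
      apply hxy
      obtain ⟨t, ht⟩ := hcle ⁅x₀, y₀⁆ (hcomm_mem x₀ y₀)
      rw [h, one_pow] at ht
      exact commutatorElement_eq_one_iff_mul_comm.mp ht
    obtain ⟨c₀, hc₀⟩ : ∃ c₀, c₀ = a ^ 2 ^ m := ⟨_, rfl⟩
    rw [← hc₀] at hc₀mem hcle hc₀1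
    have hconj : ∀ g : P, ∃ t : ℕ, g * c₀ * g⁻¹ = c₀ ^ t := fun g =>
      hcle _ (hcn.conj_mem _ hc₀mem g)
    have hDn : (zpowers (c₀ ^ 2)).Normal := by
      refine ⟨fun d hd g => ?_⟩
      rw [← mem_powers_iff_mem_zpowers] at hd
      obtain ⟨k, rfl⟩ := (Submonoid.mem_powers_iff _ _).mp hd
      obtain ⟨t, ht⟩ := hconj g
      have e1 : g * (c₀ ^ 2) ^ k * g⁻¹ = ((g * c₀ * g⁻¹) ^ 2) ^ k := by
        rw [conj_pow, conj_pow]
      rw [e1, ht, ← pow_mul, ← pow_mul, show t * (2 * k) = 2 * (t * k) by ring, pow_mul]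
      exact Subgroup.pow_mem _ (mem_zpowers _) _
    have hc₀D : c₀ ∉ zpowers (c₀ ^ 2) := by
      intro h
      rw [← mem_powers_iff_mem_zpowers] at h
      obtain ⟨k, hk⟩ := (Submonoid.mem_powers_iff _ _).mp h
      obtain ⟨e', he⟩ := (IsPGroup.iff_orderOf.mp hP) c₀
      have h1 : c₀ ^ (2 * k) = c₀ ^ 1 := by rw [pow_mul, hk, pow_one]
      have h2 := pow_eq_pow_iff_modEq.mp h1
      rw [he] at h2
      rcases e' with _ | e'
      · rw [pow_zero, orderOf_eq_one_iff] at he
        exact hc₀1 he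
      · have h3 : (2 * k) % 2 = 1 % 2 := h2.of_dvd (dvd_pow_self 2 (Nat.succ_ne_zero e'))
        omega
    obtain ⟨D, hD⟩ : ∃ D : Subgroup P, D = zpowers (c₀ ^ 2) := ⟨_, rfl⟩
    rw [← hD] at hDn hc₀D
    set π₁ := QuotientGroup.mk' D with hπ₁
    have hπ₁s : Function.Surjective π₁ := QuotientGroup.mk'_surjective D
    have hπ₁1 : ∀ x, π₁ x = 1 ↔ x ∈ D := fun x => QuotientGroup.eq_one_iff x
    obtain ⟨cb, hcb⟩ : ∃ cb, cb = π₁ c₀ := ⟨_, rfl⟩
    have hcb1 : cb ≠ 1 := fun h => hc₀D ((hπ₁1 c₀).mp (hcb ▸ h))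
    have hcb2 : cb ^ 2 = 1 := by
      rw [hcb, ← map_pow, hπ₁1, hD]
      exact mem_zpowers _
    have hcbpow : ∀ t : ℕ, cb ^ t = 1 ∨ cb ^ t = cb := by
      intro t
      rcases Nat.even_or_odd' t with ⟨s, rfl | rfl⟩
      · left; rw [pow_mul, hcb2, one_pow]
      · right; rw [pow_succ, pow_mul, hcb2, one_pow, one_mul]
    have hcc : ∀ g : P ⧸ D, g * cb = cb * g := by
      intro g
      obtain ⟨g, rfl⟩ := hπ₁s g
      obtain ⟨t, ht⟩ := hconj g
      have h1 : π₁ g * cb * (π₁ g)⁻¹ = cb ^ t := by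
        rw [hcb, ← map_inv, ← map_mul, ← map_mul, ht, map_pow]
      rcases hcbpow t with h | h
      · rw [h] at h1
        exfalso
        apply hcb1
        have : cb = (π₁ g)⁻¹ * (π₁ g * cb * (π₁ g)⁻¹) * π₁ g := by group
        rw [this, h1]
        group
      · rw [h] at h1
        exact mul_inv_eq_iff_eq_mul.mp h1
    have hcomm : ∀ x y : P ⧸ D, x * y = y * x ∨ x * y = y * x * cb := by
      intro x y
      obtain ⟨x, rfl⟩ := hπ₁s x
      obtain ⟨y, rfl⟩ := hπ₁s y
      obtain ⟨t, ht⟩ := hcle ⁅x, y⁆ (hcomm_mem x y)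
      have h1 : π₁ x * π₁ y = cb ^ t * (π₁ y * π₁ x) := by
        rw [hcb, ← map_pow, ← ht, ← map_mul, ← map_mul, ← map_mul]
        congr 1
        rw [commutatorElement_def]
        group
      rcases hcbpow t with h | h
      · left; rw [h1, h, one_mul]
      · right; rw [h1, h, hcc]
    have h2m : 2 ^ m = 2 * 2 ^ (m - 1) := by
      rw [← pow_succ']; congr 1; omega
    have heven : Even (2 ^ (m - 1)) := Nat.even_pow.mpr ⟨even_two, by omega⟩
    let θ : (P ⧸ D) →* (P ⧸ D) :=
      { toFun := fun x => x ^ 2 ^ m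
        map_one' := one_pow _
        map_mul' := fun x y => by
          show (x * y) ^ 2 ^ m = x ^ 2 ^ m * y ^ 2 ^ m
          rw [h2m]
          exact mul_pow_two_mul cb hcb2 hcc hcomm _ heven x y }
    have hθ : ∀ x, θ x = x ^ 2 ^ m := fun x => rfl
    have hrange : θ.range = zpowers cb := by
      apply le_antisymm
      · rintro _ ⟨x, rfl⟩
        obtain ⟨x, rfl⟩ := hπ₁s x
        obtain ⟨t, ht⟩ := hcle _ (hexp x)
        rw [hθ, ← map_pow, ht, map_pow, ← hcb]
        exact Subgroup.pow_mem _ (mem_zpowers _) _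
      · rw [zpowers_le]
        exact ⟨π₁ a, by rw [hθ, ← map_pow, ← hc₀, hcb]⟩
    have hidx : θ.ker.index = 2 := by
      rw [Subgroup.index_ker, hrange, Nat.card_zpowers]
      exact orderOf_eq_prime hcb2 hcb1
    apply star (θ.ker.comap π₁) (by rw [Subgroup.index_comap_of_surjective _ hπ₁s]; exact hidx)
    intro x hx
    rw [Subgroup.mem_comap, MonoidHom.mem_ker, hθ] at hx ⊢
    have hx' : x ^ 2 ^ m ∈ D := by rw [← hπ₁1, map_pow]; exact hx
    have hαx : (α x) ^ 2 ^ m ∈ D := by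
      rw [← map_pow]
      rw [hD, ← mem_powers_iff_mem_zpowers] at hx'
      obtain ⟨k, hk⟩ := (Submonoid.mem_powers_iff _ _).mp hx'
      rw [← hk, map_pow, map_pow]
      obtain ⟨t, ht⟩ := hcle (α c₀) (hchar _ hc₀mem)
      rw [ht, ← pow_mul, ← pow_mul, show t * (2 * k) = 2 * (t * k) by ring, pow_mul, hD]
      exact Subgroup.pow_mem _ (mem_zpowers _) _
    rw [← map_pow, hπ₁1]
    exact hαx

/-- **Mazurov's lemma**: a metacyclic 2-group with a non-trivial automorphism of odd order is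
homocyclic abelian of rank two or a quaternion group of order eight -/
theorem mazurov (hP : IsPGroup 2 P) (hm : Cfsg.IsMetacyclic P) (α : MulAut P)
    (hodd : Odd (orderOf α)) (hα : α ≠ 1) :
    ((∀ x y : P, x * y = y * x) ∧
      ∃ m : ℕ, 1 ≤ m ∧ Nonempty (Multiplicative (Fin 2 → ZMod (2 ^ m)) ≃* P)) ∨
    ((∃ x y : P, x * y ≠ y * x) ∧ Nonempty (P ≃* QuaternionGroup 2)) := by
  obtain ⟨N, a, b, -, hN, hcN, hgen⟩ := exists_data hm
  by_cases hab : ∀ x y : P, x * y = y * x
  · left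
    exact ⟨hab, mazurov_abelian hP a b hgen α hodd hα hab⟩
  · right
    push Not at hab
    obtain ⟨x₀, y₀, hxy⟩ := hab
    exact ⟨⟨x₀, y₀, hxy⟩, mazurov_nonabelian hP N a b hN hcN hgen α hodd hα x₀ y₀ hxy⟩

/-- **Mazurov's lemma**, with an explicit basis in the abelian case -/
theorem mazurov' (hP : IsPGroup 2 P) (hm : Cfsg.IsMetacyclic P) (α : MulAut P)
    (hodd : Odd (orderOf α)) (hα : α ≠ 1) :
    ((∀ x y : P, x * y = y * x) ∧
      ∃ (m : ℕ) (a b : P), 1 ≤ m ∧ orderOf a = 2 ^ m ∧ orderOf b = 2 ^ m ∧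
        zpowers a ⊓ zpowers b = ⊥ ∧ ∀ x : P, ∃ i j : ℕ, x = a ^ i * b ^ j) ∨
    ((∃ x y : P, x * y ≠ y * x) ∧ Nonempty (P ≃* QuaternionGroup 2)) := by
  obtain ⟨N, a, b, -, hN, hcN, hgen⟩ := exists_data hm
  by_cases hab : ∀ x y : P, x * y = y * x
  · left
    obtain ⟨m, hm1, ha, hb, hind⟩ := mazurov_abelian' hP a b hgen α hodd hα hab
    exact ⟨hab, m, a, b, hm1, ha, hb, hind, hgen⟩
  · right
    push Not at hab
    obtain ⟨x₀, y₀, hxy⟩ := hab
    exact ⟨⟨x₀, y₀, hxy⟩, mazurov_nonabelian hP N a b hN hcN hgen α hodd hα x₀ y₀ hxy⟩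

end mazurov

end Cfsg.Agent.Lib.Helper86_MetaAut
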