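/-
Helper library (helper86): metacyclic 2-groups containing a quaternion group of order eight, a
self-centralizing four-group, or a "large" homocyclic subgroup normalized non-trivially: the group
theory behind the statement that non-exceptional metacyclic 2-groups carry only the inner fusion
system.
-/
import Mathlib
import Cfsg.Agent.S0112
import Cfsg.Agent.S4399
import Cfsg.Agent.Lib.Helper2_Taussky
import Cfsg.Agent.Lib.Helper95_MaxClass
import Cfsg.Agent.Lib.Helper64_Metacyclic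
import Cfsg.Agent.Lib.Helper86_MetaAut

set_option autoImplicit false
set_option linter.unusedSectionVars false

namespace Cfsg.Agent.Lib.Helper86_MetaFusion

open Subgroup
open scoped Pointwise commutatorElement
open Cfsg.Agent.Lib.Helper86_MetaAut

section basic

variable {G : Type*} [Group G]

/-- in a finite group, two elements of a cyclic subgroup: divisibility of orders gives membership -/
theorem mem_zpowers_of_dvd [Finite G] {a x y : G} (hx : x ∈ zpowers a) (hy : y ∈ zpowers a)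
    (h : orderOf x ∣ orderOf y) : x ∈ zpowers y := by
  have h1 : orderOf (⟨x, hx⟩ : zpowers a) ∣ orderOf (⟨y, hy⟩ : zpowers a) := by
    rw [Subgroup.orderOf_mk, Subgroup.orderOf_mk]; exact h
  have h2 := Cfsg.Agent.Lib.Helper64_Metacyclic.mem_zpowers_of_orderOf_dvd h1
  obtain ⟨k, hk⟩ := mem_zpowers_iff.mp h2
  refine mem_zpowers_iff.mpr ⟨k, ?_⟩
  have := congrArg Subtype.val hk
  simpa using this

/-- conjugation acts on a normal cyclic subgroup as a power map -/
theorem conj_eq_pow_of_normal [Finite G] (N : Subgroup G) [hNn : N.Normal] (a : G)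
    (hN : N = zpowers a) (g : G) : ∃ r : ℕ, ∀ x ∈ N, g * x * g⁻¹ = x ^ r := by
  have h1 : g * a * g⁻¹ ∈ N := hNn.conj_mem a (by rw [hN]; exact mem_zpowers a) g
  rw [hN] at h1
  obtain ⟨k, hk⟩ := mem_zpowers_iff.mp h1
  obtain ⟨r, hr⟩ := Cfsg.Agent.Lib.Helper86_MetaAut.zpow_eq_pow a k
  refine ⟨r, ?_⟩
  intro x hx
  rw [hN] at hx
  obtain ⟨e, rfl⟩ := mem_zpowers_iff.mp hx
  rw [← conj_zpow, ← hk, hr, ← zpow_natCast, ← zpow_natCast, ← zpow_mul, ← zpow_mul, mul_comm]

theorem conj_pow_eq_pow (N : Subgroup G) (g : G) (r : ℕ) (h : ∀ x ∈ N, g * x * g⁻¹ = x ^ r)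
    (j : ℕ) : ∀ x ∈ N, g ^ j * x * (g ^ j)⁻¹ = x ^ r ^ j := by
  induction j with
  | zero => intro x _; simp
  | succ j ih =>
    intro x hx
    have h1 : g ^ (j + 1) * x * (g ^ (j + 1))⁻¹ = g ^ j * (g * x * g⁻¹) * (g ^ j)⁻¹ := by
      rw [pow_succ]; group
    rw [h1, h x hx, ih _ (N.pow_mem hx r), ← pow_mul, pow_succ, mul_comm]

theorem comm_of_mem_zpowers {a x y : G} (hx : x ∈ zpowers a) (hy : y ∈ zpowers a) :
    x * y = y * x := by
  obtain ⟨i, rfl⟩ := mem_zpowers_iff.mp hx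
  obtain ⟨j, rfl⟩ := mem_zpowers_iff.mp hy
  rw [← zpow_add, ← zpow_add, add_comm]

/-- an element inverted by `t` is inverted by odd powers of `t` and centralized by even ones -/
theorem conj_pow_of_invert {t u : G} (h : t * u * t⁻¹ = u⁻¹) (j : ℕ) :
    t ^ j * u * (t ^ j)⁻¹ = if Even j then u else u⁻¹ := by
  induction j with
  | zero => simp
  | succ j ih =>
    have h1 : t ^ (j + 1) * u * (t ^ (j + 1))⁻¹ = t ^ j * (t * u * t⁻¹) * (t ^ j)⁻¹ := by
      rw [pow_succ]; group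
    have h2 : t ^ j * u⁻¹ * (t ^ j)⁻¹ = (t ^ j * u * (t ^ j)⁻¹)⁻¹ := by group
    rw [h1, h, h2, ih]
    by_cases hj : Even j
    · have : ¬ Even (j + 1) := by rw [Nat.even_add_one]; exact not_not.mpr hj
      rw [if_pos hj, if_neg this]
    · have : Even (j + 1) := by rw [Nat.even_add_one]; exact hj
      rw [if_neg hj, if_pos this, inv_inv]

end basic

section gen

variable {G : Type*} [Group G] [Finite G]

theorem not_four_dvd_sq_add_one (n : ℕ) : ¬ 4 ∣ n * n + 1 := by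
  intro h
  have h1 : (n * n + 1) % 4 = 0 := Nat.mod_eq_zero_of_dvd h
  rw [Nat.add_mod, Nat.mul_mod] at h1
  have := Nat.mod_lt n (by norm_num : 4 > 0)
  interval_cases (n % 4) <;> simp at h1

/-- **Gen**: an element inverting an element of order four of the cyclic normal subgroup `N`
generates the group together with `N` -/
theorem gen_of_invert (hG : IsPGroup 2 G) (N : Subgroup G) [hNn : N.Normal] (a b : G)
    (hN : N = zpowers a) (hgen : ∀ x : G, ∃ i j : ℕ, x = a ^ i * b ^ j)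
    (u v : G) (hu : u ∈ N) (huo : orderOf u = 4) (hv : v * u * v⁻¹ = u⁻¹) :
    ∀ g : G, ∃ i j : ℕ, g = a ^ i * v ^ j := by
  have : Fact (Nat.Prime 2) := ⟨Nat.prime_two⟩
  have haN : a ∈ N := by rw [hN]; exact mem_zpowers a
  obtain ⟨i₀, j₀, hv0⟩ := hgen v
  obtain ⟨s, hs⟩ := conj_eq_pow_of_normal N a hN b
  have hvact : ∀ x ∈ N, v * x * v⁻¹ = x ^ s ^ j₀ := by
    intro x hx
    have h1 := conj_pow_eq_pow N b s hs j₀ x hx
    rw [hv0]
    have hc : a ^ i₀ * (b ^ j₀ * x * (b ^ j₀)⁻¹) = (b ^ j₀ * x * (b ^ j₀)⁻¹) * a ^ i₀ := by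
      apply comm_of_mem_zpowers (a := a)
      · exact Subgroup.pow_mem _ (mem_zpowers a) _
      · rw [h1, ← hN]; exact N.pow_mem hx _
    calc a ^ i₀ * b ^ j₀ * x * (a ^ i₀ * b ^ j₀)⁻¹
        = a ^ i₀ * (b ^ j₀ * x * (b ^ j₀)⁻¹) * (a ^ i₀)⁻¹ := by group
      _ = (b ^ j₀ * x * (b ^ j₀)⁻¹) * a ^ i₀ * (a ^ i₀)⁻¹ := by rw [hc]
      _ = x ^ s ^ j₀ := by rw [mul_inv_cancel_right, h1]
  have h4 : 4 ∣ s ^ j₀ + 1 := by
    rw [← huo]
    apply orderOf_dvd_of_pow_eq_one
    rw [pow_succ, ← hvact u hu, hv, inv_mul_cancel]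
  have hj₀ : Odd j₀ := by
    by_contra hne
    rw [Nat.not_odd_iff_even] at hne
    obtain ⟨k, hk⟩ := hne
    rw [hk, pow_add] at h4
    exact not_four_dvd_sq_add_one _ h4
  have hvb : (QuotientGroup.mk v : G ⧸ N) = (QuotientGroup.mk b) ^ j₀ := by
    rw [hv0, QuotientGroup.mk_mul, QuotientGroup.mk_pow, QuotientGroup.mk_pow,
      (QuotientGroup.eq_one_iff a).mpr haN, one_pow, one_mul]
  have hq : IsPGroup 2 (G ⧸ N) := hG.to_quotient N
  obtain ⟨e, he⟩ := (IsPGroup.iff_orderOf.mp hq) (QuotientGroup.mk b)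
  have hcop : j₀.Coprime (orderOf (QuotientGroup.mk b : G ⧸ N)) := by
    rw [he]; exact Nat.Coprime.pow_right _ hj₀.coprime_two_right
  obtain ⟨m', hm'⟩ := exists_pow_eq_self_of_coprime hcop
  rw [← hvb] at hm'
  intro g
  obtain ⟨i, j, rfl⟩ := hgen g
  have h1 : (a ^ i * b ^ j) * (v ^ (m' * j))⁻¹ ∈ N := by
    rw [← QuotientGroup.eq_one_iff, QuotientGroup.mk_mul, QuotientGroup.mk_inv,
      QuotientGroup.mk_mul, QuotientGroup.mk_pow, QuotientGroup.mk_pow, QuotientGroup.mk_pow,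
      (QuotientGroup.eq_one_iff a).mpr haN, one_pow, one_mul, pow_mul, hm', mul_inv_cancel]
  rw [hN] at h1
  obtain ⟨k, hk⟩ := mem_zpowers_iff.mp h1
  obtain ⟨k', hk'⟩ := Cfsg.Agent.Lib.Helper86_MetaAut.zpow_eq_pow a k
  refine ⟨k', m' * j, ?_⟩
  rw [← hk', hk]; group

end gen

section lemmaK

variable {G : Type*} [Group G] [Finite G]

theorem abelianization_of_surjective :
    Function.Surjective (Abelianization.of : G → Abelianization G) := by
  intro y
  obtain ⟨x, rfl⟩ := QuotientGroup.mk_surjective y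
  exact ⟨x, rfl⟩

/-- **Lemma K**: if moreover `v * v ∈ N`, the commutator quotient is a four-group -/
theorem K_of_invert (hG : IsPGroup 2 G) (N : Subgroup G) [hNn : N.Normal] (a b : G)
    (hN : N = zpowers a) (hgen : ∀ x : G, ∃ i j : ℕ, x = a ^ i * b ^ j)
    (u v : G) (hu : u ∈ N) (huo : orderOf u = 4) (hv : v * u * v⁻¹ = u⁻¹) (hv2 : v * v ∈ N) :
    (commutator G).index = 4 ∧ ∀ x : G, x * x ∈ commutator G := by
  have : Fact (Nat.Prime 2) := ⟨Nat.prime_two⟩
  have haN : a ∈ N := by rw [hN]; exact mem_zpowers a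
  have hgen' := gen_of_invert hG N a b hN hgen u v hu huo hv
  obtain ⟨r, hr⟩ := conj_eq_pow_of_normal N a hN v
  have h4 : 4 ∣ r + 1 := by
    rw [← huo]
    apply orderOf_dvd_of_pow_eq_one
    rw [pow_succ, ← hr u hu, hv, inv_mul_cancel]
  obtain ⟨k, hk⟩ := h4
  have hk1 : 1 ≤ k := by omega
  -- orders
  obtain ⟨μ, hμ⟩ := (IsPGroup.iff_orderOf.mp hG) (a * a)
  obtain ⟨ν, hν⟩ := (IsPGroup.iff_orderOf.mp hG) a
  -- `a * a` is a commutator power
  have hcomm_mem : ∀ x y : G, x * y * x⁻¹ * y⁻¹ ∈ commutator G := by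
    intro x y
    rw [_root_.commutator_def]
    exact Subgroup.commutator_mem_commutator (mem_top x) (mem_top y)
  have ha2 : a * a ∈ commutator G := by
    have h1 : v * a * v⁻¹ * a⁻¹ = (a * a) ^ (2 * k - 1) := by
      rw [hr a haN, ← pow_two, ← pow_mul]
      have : r = 2 * (2 * k - 1) + 1 := by omega
      rw [this, pow_succ, mul_inv_cancel_right]
    have hcop : (2 * k - 1).Coprime (orderOf (a * a)) := by
      rw [hμ]
      apply Nat.Coprime.pow_right
      rw [Nat.coprime_two_right]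
      exact ⟨k - 1, by omega⟩
    obtain ⟨m', hm'⟩ := exists_pow_eq_self_of_coprime hcop
    rw [← hm', ← h1]
    exact Subgroup.pow_mem _ (hcomm_mem v a) _
  have hvv : v * v ∈ commutator G := by
    rw [hN] at hv2
    obtain ⟨s, hs⟩ := mem_zpowers_iff.mp hv2
    obtain ⟨s', hs'⟩ := Cfsg.Agent.Lib.Helper86_MetaAut.zpow_eq_pow a s
    rw [hs'] at hs
    rcases Nat.even_or_odd' s' with ⟨c, hc | hc⟩
    · rw [← hs, hc, pow_mul, pow_two]
      exact Subgroup.pow_mem _ ha2 _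
    · exfalso
      have hcop : s'.Coprime (orderOf a) := by
        rw [hν]
        apply Nat.Coprime.pow_right
        rw [Nat.coprime_two_right]
        exact ⟨c, hc⟩
      obtain ⟨m', hm'⟩ := exists_pow_eq_self_of_coprime hcop
      -- `v` commutes with `a`
      have hva : v * a = a * v := by
        rw [← hm', hs]
        exact ((Commute.refl v).mul_right (Commute.refl v)).pow_right m' |>.eq
      -- hence with `u`
      have hvu : v * u = u * v := by
        rw [hN] at hu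
        obtain ⟨e, rfl⟩ := mem_zpowers_iff.mp hu
        exact (Commute.zpow_right hva e).eq
      have h1 : u = u⁻¹ := by
        rw [← hv, hvu, mul_inv_cancel_right]
      have h2 : u ^ 2 = 1 := by
        rw [pow_two]; nth_rewrite 1 [h1]; exact inv_mul_cancel u
      have := orderOf_dvd_of_pow_eq_one h2
      rw [huo] at this
      omega
  -- the abelianization
  have hof : ∀ x : G, Abelianization.of x = 1 ↔ x ∈ commutator G := by
    intro x
    rw [← Abelianization.ker_of, MonoidHom.mem_ker]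
  have hA2 : (Abelianization.of a) ^ 2 = 1 := by
    rw [← map_pow, pow_two, hof]; exact ha2
  have hV2 : (Abelianization.of v) ^ 2 = 1 := by
    rw [← map_pow, pow_two, hof]; exact hvv
  have hsq : ∀ x : G, x * x ∈ commutator G := by
    intro x
    obtain ⟨i, j, rfl⟩ := hgen' x
    rw [← hof, map_mul, map_mul, map_pow, map_pow]
    rw [mul_mul_mul_comm, ← pow_two, ← pow_two, ← pow_mul, ← pow_mul, mul_comm i, mul_comm j,
      pow_mul, pow_mul, hA2, hV2, one_pow, one_pow, one_mul]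
  refine ⟨?_, hsq⟩
  -- cardinality
  have hle : Nat.card (Abelianization G) ≤ 4 := by
    let f : Fin 2 × Fin 2 → Abelianization G :=
      fun p => (Abelianization.of a) ^ (p.1 : ℕ) * (Abelianization.of v) ^ (p.2 : ℕ)
    have hf : Function.Surjective f := by
      intro y
      obtain ⟨x, rfl⟩ := abelianization_of_surjective y
      obtain ⟨i, j, rfl⟩ := hgen' x
      refine ⟨(⟨i % 2, Nat.mod_lt _ two_pos⟩, ⟨j % 2, Nat.mod_lt _ two_pos⟩), ?_⟩
      show (Abelianization.of a) ^ (i % 2) * (Abelianization.of v) ^ (j % 2) = _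
      rw [map_mul, map_pow, map_pow, ← pow_eq_pow_mod i hA2, ← pow_eq_pow_mod j hV2]
    have := Nat.card_le_card_of_surjective f hf
    simpa using this
  have hidx : (commutator G).index = Nat.card (Abelianization G) := Subgroup.index_eq_card _
  have hne : (⊤ : Subgroup G).lowerCentralSeries 1 ≠ ⊥ := by
    intro h
    have h1 : v * u * v⁻¹ * u⁻¹ ∈ (⊤ : Subgroup G).lowerCentralSeries 1 := by
      have := hcomm_mem v u
      rw [_root_.commutator_def] at this
      exact this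
    rw [h, mem_bot, hv] at h1
    have h2 : u ^ 2 = 1 := by
      rw [pow_two]
      have := congrArg (fun z => z⁻¹) h1
      simpa using this
    have := orderOf_dvd_of_pow_eq_one h2
    rw [huo] at this
    omega
  obtain ⟨n, hn⟩ := IsPGroup.iff_card.mp hG
  have hdvd : (commutator G).index ∣ 2 ^ n := hn ▸ Subgroup.index_dvd_card _
  obtain ⟨e, _, he⟩ := (Nat.dvd_prime_pow Nat.prime_two).mp hdvd
  have he' : ((⊤ : Subgroup G).lowerCentralSeries 1).index = 2 ^ e := he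
  have h2e := Cfsg.Agent.Lib.Helper95_MaxClass.two_le_of_index_lcs_one hG hne he'
  have h4le : 4 ≤ (commutator G).index := by
    rw [he]
    calc 4 = 2 ^ 2 := by norm_num
      _ ≤ 2 ^ e := Nat.pow_le_pow_right two_pos h2e
  rw [hidx] at h4le ⊢
  omega

end lemmaK

section conclude

variable {G : Type*} [Group G] [Finite G]

/-- a 2-group whose commutator quotient is a four-group is in the exceptional list -/
theorem false_of_K (hG : IsPGroup 2 G)
    (hK : (commutator G).index = 4 ∧ ∀ x : G, x * x ∈ commutator G) (h4 : Nat.card G ≠ 4)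
    (hd : ¬ ∃ m : ℕ, Nonempty (G ≃* DihedralGroup m))
    (hq : ¬ ∃ m : ℕ, Nonempty (G ≃* QuaternionGroup m))
    (hsd : ¬ Cfsg.IsQuasiDihedral G) : False := by
  obtain ⟨hidx, hsq⟩ := hK
  have hab : Nat.card (Abelianization G) = 4 := by
    rw [← hidx]; exact (Subgroup.index_eq_card _).symm
  have hexp : ∀ x : Abelianization G, x ^ 2 = 1 := by
    intro y
    obtain ⟨x, rfl⟩ := abelianization_of_surjective y
    rw [← map_pow, pow_two, ← MonoidHom.mem_ker, Abelianization.ker_of]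
    exact hsq x
  rcases Cfsg.Agent.S4399.result hG hab hexp with h | ⟨k, h⟩ | ⟨k, hc, a, b, ha, hb, hba⟩ | ⟨k, h⟩
  · exact h4 h
  · exact hd ⟨_, h⟩
  · exact hsd ⟨k + 3, by omega, hc, a, b, ha, hb, hba⟩
  · exact hq ⟨_, h⟩

end conclude

section step3

variable {G : Type*} [Group G] [Finite G]

/-- **Step 3**: an abelian subgroup `Q` of exponent `2 ^ m`, `2 ≤ m`, whose non-squares have order
`2 ^ m`, normalized by `t` with `t * t ∈ Q`: all commutators `[t, q]` are squares in `Q`. -/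
theorem step3 (hG : IsPGroup 2 G) (N : Subgroup G) [hNn : N.Normal] (a b : G)
    (hN : N = zpowers a) (hcN : commutator G ≤ N) (hgen : ∀ x : G, ∃ i j : ℕ, x = a ^ i * b ^ j)
    (Q : Subgroup G) (hab : ∀ x ∈ Q, ∀ y ∈ Q, x * y = y * x) (m : ℕ) (hm : 2 ≤ m)
    (hexp : ∀ q ∈ Q, q ^ 2 ^ m = 1)
    (hfull : ∀ q ∈ Q, (¬ ∃ r ∈ Q, r * r = q) → orderOf q = 2 ^ m)
    (t : G) (htQ : ∀ q ∈ Q, t * q * t⁻¹ ∈ Q) (ht2 : t * t ∈ Q) :
    ∀ q ∈ Q, ∃ r ∈ Q, r * r = t * q * t⁻¹ * q⁻¹ := by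
  by_contra hcon
  push Not at hcon
  obtain ⟨q₀, hq₀, hbad⟩ := hcon
  obtain ⟨w, hw⟩ : ∃ w, w = t * q₀ * t⁻¹ * q₀⁻¹ := ⟨_, rfl⟩
  rw [← hw] at hbad
  have hwQ : w ∈ Q := by rw [hw]; exact Q.mul_mem (htQ q₀ hq₀) (Q.inv_mem hq₀)
  have hwN : w ∈ N := by
    apply hcN
    rw [hw, _root_.commutator_def]
    exact Subgroup.commutator_mem_commutator (mem_top t) (mem_top q₀)
  have hwo : orderOf w = 2 ^ m :=
    hfull w hwQ (by rintro ⟨r, hr, hrr⟩; exact hbad r hr hrr)
  have h1 : (t * t) * q₀ = q₀ * (t * t) := hab _ ht2 _ hq₀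
  have hinv : t * w * t⁻¹ = w⁻¹ := by
    rw [hw]
    calc t * (t * q₀ * t⁻¹ * q₀⁻¹) * t⁻¹ = ((t * t) * q₀) * t⁻¹ * q₀⁻¹ * t⁻¹ := by group
      _ = (q₀ * (t * t)) * t⁻¹ * q₀⁻¹ * t⁻¹ := by rw [h1]
      _ = (t * q₀ * t⁻¹ * q₀⁻¹)⁻¹ := by group
  obtain ⟨u, hu⟩ : ∃ u, u = w ^ 2 ^ (m - 2) := ⟨_, rfl⟩
  have huo : orderOf u = 4 := by
    rw [hu, orderOf_pow_of_dvd (pow_ne_zero _ two_ne_zero)
      (by rw [hwo]; exact pow_dvd_pow 2 (by omega)), hwo, Nat.pow_div (by omega) two_pos]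
    have : m - (m - 2) = 2 := by omega
    rw [this]; norm_num
  have huinv : t * u * t⁻¹ = u⁻¹ := by
    rw [hu, ← conj_pow, hinv, inv_pow]
  have huN : u ∈ N := by rw [hu]; exact N.pow_mem hwN _
  have huQ : u ∈ Q := by rw [hu]; exact Q.pow_mem hwQ _
  have hgen' := gen_of_invert hG N a b hN hgen u t huN huo huinv
  have hu2 : u ≠ u⁻¹ := by
    intro h
    have h2 : u ^ 2 = 1 := by rw [pow_two]; nth_rewrite 1 [h]; exact inv_mul_cancel u
    have := orderOf_dvd_of_pow_eq_one h2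
    rw [huo] at this; omega
  have key : ∀ q ∈ Q, ∃ r ∈ Q, r * r = t * q * t⁻¹ * q⁻¹ := by
    intro q hq
    obtain ⟨i, j, hqij⟩ := hgen' q
    have hqu : q * u = u * q := hab q hq u huQ
    have hau : a ^ i * u = u * a ^ i :=
      comm_of_mem_zpowers (a := a) (Subgroup.pow_mem _ (mem_zpowers a) _)
        (by rw [← hN]; exact huN)
    have htju : t ^ j * u * (t ^ j)⁻¹ = u := by
      have : t ^ j = (a ^ i)⁻¹ * q := by rw [hqij]; group
      rw [this]
      calc (a ^ i)⁻¹ * q * u * ((a ^ i)⁻¹ * q)⁻¹ = (a ^ i)⁻¹ * (q * u) * q⁻¹ * a ^ i := by group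
        _ = (a ^ i)⁻¹ * (u * q) * q⁻¹ * a ^ i := by rw [hqu]
        _ = (a ^ i)⁻¹ * (u * a ^ i) := by group
        _ = u := by rw [← hau]; group
    have hjeven : Even j := by
      by_contra hj
      rw [conj_pow_of_invert huinv j, if_neg hj] at htju
      exact hu2 htju.symm
    obtain ⟨k, hk⟩ := hjeven
    have htj : t ^ j = (t * t) ^ k := by rw [hk, ← two_mul, pow_mul, pow_two]
    have hsQ : (t * t) ^ k ∈ Q := Q.pow_mem ht2 k
    have haiQ : a ^ i ∈ Q := by
      have : a ^ i = q * ((t * t) ^ k)⁻¹ := by rw [hqij, htj]; group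
      rw [this]; exact Q.mul_mem hq (Q.inv_mem hsQ)
    have haiw : a ^ i ∈ zpowers w := by
      apply mem_zpowers_of_dvd (a := a) (Subgroup.pow_mem _ (mem_zpowers a) _)
        (by rw [← hN]; exact hwN)
      rw [hwo]
      exact orderOf_dvd_of_pow_eq_one (hexp _ haiQ)
    obtain ⟨l, hl⟩ := mem_zpowers_iff.mp haiw
    have hconj_wl : t * w ^ l * t⁻¹ = (w ^ l)⁻¹ := by
      rw [← conj_zpow, hinv, inv_zpow]
    have hts : t * (t * t) ^ k * t⁻¹ = (t * t) ^ k := by
      rw [← conj_pow]; congr 1; group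
    refine ⟨(w ^ l)⁻¹, Q.inv_mem (Q.zpow_mem hwQ l), ?_⟩
    rw [hqij, htj, ← hl]
    calc (w ^ l)⁻¹ * (w ^ l)⁻¹
        = (t * w ^ l * t⁻¹) * (t * (t * t) ^ k * t⁻¹) * ((t * t) ^ k)⁻¹ * (w ^ l)⁻¹ := by
          rw [hconj_wl, hts]; group
      _ = t * (w ^ l * (t * t) ^ k) * t⁻¹ * (w ^ l * (t * t) ^ k)⁻¹ := by group
  obtain ⟨r, hr, hrr⟩ := key q₀ hq₀
  rw [← hw] at hrr
  exact hbad r hr hrr

end step3

section quaternion

variable {G : Type*} [Group G] [Finite G]

theorem q8_pow_four (e : QuaternionGroup 2) : e ^ 4 = 1 := by revert e; decide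

theorem q8_a (z : QuaternionGroup 2)
    (h : z * QuaternionGroup.xa 0 = QuaternionGroup.xa 0 * z) :
    ¬ (QuaternionGroup.a 1 * z) ^ 2 = 1 := by revert z; decide

theorem q8_xa (z : QuaternionGroup 2)
    (h : z * QuaternionGroup.a 1 = QuaternionGroup.a 1 * z) :
    ¬ (QuaternionGroup.xa 0 * z) ^ 2 = 1 := by revert z; decide

theorem q8_inv (e : QuaternionGroup 2) (h : ¬ e ^ 2 = 1) :
    ∃ f : QuaternionGroup 2, f * e * f⁻¹ = e⁻¹ ∧ f * f = e * e := by revert e; decide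

/-- modulo the cyclic normal subgroup `N` with cyclic quotient, of two elements one is a power of
the other -/
theorem chain_mod (hG : IsPGroup 2 G) (N : Subgroup G) [hNn : N.Normal] (a b : G)
    (hN : N = zpowers a) (hgen : ∀ x : G, ∃ i j : ℕ, x = a ^ i * b ^ j) (x y : G) :
    (∃ k : ℕ, x * y ^ k ∈ N) ∨ (∃ k : ℕ, y * x ^ k ∈ N) := by
  have : Fact (Nat.Prime 2) := ⟨Nat.prime_two⟩
  have haN : a ∈ N := by rw [hN]; exact mem_zpowers a
  have hcyc : IsCyclic (G ⧸ N) := by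
    refine ⟨⟨QuotientGroup.mk b, ?_⟩⟩
    intro z
    obtain ⟨g, rfl⟩ := QuotientGroup.mk_surjective z
    obtain ⟨i, j, rfl⟩ := hgen g
    refine mem_zpowers_iff.mpr ⟨j, ?_⟩
    rw [zpow_natCast, QuotientGroup.mk_mul, QuotientGroup.mk_pow, QuotientGroup.mk_pow,
      (QuotientGroup.eq_one_iff a).mpr haN, one_pow, one_mul]
  have hq : IsPGroup 2 (G ⧸ N) := hG.to_quotient N
  obtain ⟨e, he⟩ := (IsPGroup.iff_orderOf.mp hq) (QuotientGroup.mk x)
  obtain ⟨f, hf⟩ := (IsPGroup.iff_orderOf.mp hq) (QuotientGroup.mk y)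
  have aux : ∀ x y : G, orderOf (QuotientGroup.mk x : G ⧸ N) ∣
      orderOf (QuotientGroup.mk y : G ⧸ N) → ∃ k : ℕ, x * y ^ k ∈ N := by
    intro x y hdvd
    have h1 := Cfsg.Agent.Lib.Helper64_Metacyclic.mem_zpowers_of_orderOf_dvd hdvd
    have h2 : (QuotientGroup.mk x : G ⧸ N)⁻¹ ∈ zpowers (QuotientGroup.mk y : G ⧸ N) :=
      Subgroup.inv_mem _ h1
    rw [← mem_powers_iff_mem_zpowers] at h2
    obtain ⟨k, hk⟩ := (Submonoid.mem_powers_iff _ _).mp h2
    refine ⟨k, ?_⟩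
    rw [← QuotientGroup.eq_one_iff, QuotientGroup.mk_mul, QuotientGroup.mk_pow, hk,
      mul_inv_cancel]
  rcases le_total e f with h | h
  · left; exact aux x y (by rw [he, hf]; exact pow_dvd_pow 2 h)
  · right; exact aux y x (by rw [he, hf]; exact pow_dvd_pow 2 h)

/-- a metacyclic 2-group containing a quaternion group of order eight has commutator quotient a
four-group -/
theorem K_of_quaternion (hG : IsPGroup 2 G) (N : Subgroup G) [hNn : N.Normal] (a b : G)
    (hN : N = zpowers a) (hgen : ∀ x : G, ∃ i j : ℕ, x = a ^ i * b ^ j)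
    (Q : Subgroup G) (ψ : ↥Q ≃* QuaternionGroup 2) :
    (commutator G).index = 4 ∧ ∀ x : G, x * x ∈ commutator G := by
  have : Fact (Nat.Prime 2) := ⟨Nat.prime_two⟩
  have hu : ∃ e : QuaternionGroup 2, ¬ e ^ 2 = 1 ∧ ((ψ.symm e : ↥Q) : G) ∈ N := by
    rcases chain_mod hG N a b hN hgen ((ψ.symm (QuaternionGroup.a 1) : ↥Q) : G)
      ((ψ.symm (QuaternionGroup.xa 0) : ↥Q) : G) with ⟨k, hk⟩ | ⟨k, hk⟩
    · refine ⟨QuaternionGroup.a 1 * (QuaternionGroup.xa 0) ^ k, ?_, ?_⟩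
      · apply q8_a
        exact ((Commute.refl _).pow_left k).eq
      · rw [map_mul, map_pow, Subgroup.coe_mul, Subgroup.coe_pow]; exact hk
    · refine ⟨QuaternionGroup.xa 0 * (QuaternionGroup.a 1) ^ k, ?_, ?_⟩
      · apply q8_xa
        exact ((Commute.refl _).pow_left k).eq
      · rw [map_mul, map_pow, Subgroup.coe_mul, Subgroup.coe_pow]; exact hk
  obtain ⟨e, he, heN⟩ := hu
  obtain ⟨f, hf1, hf2⟩ := q8_inv e he
  have huo : orderOf ((ψ.symm e : ↥Q) : G) = 4 := by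
    rw [Subgroup.orderOf_coe, MulEquiv.orderOf_eq]
    exact orderOf_eq_prime_pow (p := 2) (n := 1) (by rwa [pow_one]) (q8_pow_four e)
  have hv : ((ψ.symm f : ↥Q) : G) * ((ψ.symm e : ↥Q) : G) * ((ψ.symm f : ↥Q) : G)⁻¹ =
      ((ψ.symm e : ↥Q) : G)⁻¹ := by
    have := congrArg (fun z => ((ψ.symm z : ↥Q) : G)) hf1
    simpa using this
  have hv2 : ((ψ.symm f : ↥Q) : G) * ((ψ.symm f : ↥Q) : G) ∈ N := by
    have h1 : ((ψ.symm f : ↥Q) : G) * ((ψ.symm f : ↥Q) : G) =
        ((ψ.symm e : ↥Q) : G) * ((ψ.symm e : ↥Q) : G) := by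
      have := congrArg (fun z => ((ψ.symm z : ↥Q) : G)) hf2
      simpa using this
    rw [h1]; exact N.mul_mem heN heN
  exact K_of_invert hG N a b hN hgen _ _ heN huo hv hv2

/-- a 2-group with a self-centralizing proper subgroup of order four has commutator quotient a
four-group -/
theorem K_of_four (hG : IsPGroup 2 G) (Q : Subgroup G) (hQ : Nat.card Q = 4)
    (hC : centralizer (Q : Set G) = Q) (hne : Q ≠ ⊤) :
    (commutator G).index = 4 ∧ ∀ x : G, x * x ∈ commutator G := by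
  have : Fact (Nat.Prime 2) := ⟨Nat.prime_two⟩
  obtain ⟨n, hn⟩ := IsPGroup.iff_card.mp hG
  have hc := Cfsg.Agent.S0112.result (p := 2) n hn Q (by rw [hQ]; norm_num) hC
  have h3 : 3 ≤ n := by
    have hle : Nat.card Q ≤ Nat.card G := Subgroup.card_le_card_group Q
    have hne' : Nat.card Q ≠ Nat.card G := fun h => hne (Subgroup.eq_top_of_card_eq Q h)
    by_contra hlt
    have : n ≤ 2 := by omega
    have h2 : 2 ^ n ≤ 2 ^ 2 := Nat.pow_le_pow_right two_pos this
    rw [hQ, hn] at hle hne'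
    omega
  exact Cfsg.Agent.Lib.Helper2_TwoMaxClass.maxClass_index_commutator n h3 hn hc

end quaternion

end Cfsg.Agent.Lib.Helper86_MetaFusion
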