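import Cfsg.Agent.Lib.Helper87_Alperin

set_option autoImplicit false

namespace Cfsg.Agent.Lib.Helper87_Alperin2

open Cfsg Cfsg.FusionSystem Cfsg.Agent.Lib.Helper87_Alperin
open scoped Pointwise

variable {Ω : Type*} [Group Ω] {S : Subgroup Ω}

/-! ### Alperin induction -/

/-- Alperin induction: to show that a fusion system `E` over `S` contains every map of the saturated system `F`,
it suffices to show that it contains `Aut_F(Q)` for every fully automized and receptive subgroup `Q`, assuming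
that it already contains all maps of `F` defined on subgroups of larger order than `Q`. -/
theorem alperin_induction_isMapOn (F : FusionSystem S) [Finite S] {p : ℕ} [Fact p.Prime]
    (hS : IsPGroup p S) (hF : F.IsSaturated p) (E : FusionSystem S)
    (hE : ∀ Q : Subgroup Ω, F.IsFullyAutomized p Q → F.IsReceptive Q →
      (∀ (P : Subgroup Ω) (f : Ω → Ω), Nat.card Q < Nat.card P → IsMapOn F P f → IsMapOn E P f) →
      ∀ α ∈ F.autGroup Q, IsMapOn E Q (extFun α)) :
    ∀ (P : Subgroup Ω) (f : Ω → Ω), IsMapOn F P f → IsMapOn E P f := by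
  classical
  intro P f hf
  induction' hn : Nat.card S - Nat.card P using Nat.strong_induction_on with n ih generalizing P f
  have hPS : P ≤ S := hf.le
  have hfinP : Finite P := Finite.of_injective (Subgroup.inclusion hPS) (Subgroup.inclusion_injective hPS)
  obtain ⟨Q, ⟨k₀, hk₀, hk₀r⟩, hQa, hQr⟩ := hF P hPS
  have hQS : Q ≤ S := hQa.1
  have hfinQ : Finite Q := Finite.of_injective (Subgroup.inclusion hQS) (Subgroup.inclusion_injective hQS)
  have hk₀Q : ∀ x : P, k₀ x ∈ Q := fun x => hk₀r ▸ ⟨x, rfl⟩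
  have hk₀inj : Function.Injective k₀ := F.injective_of_mem hk₀
  have hcardPQ : Nat.card P = Nat.card Q := by
    apply Nat.card_congr
    refine Equiv.ofBijective (fun x => (⟨k₀ x, hk₀Q x⟩ : Q)) ⟨?_, ?_⟩
    · intro x y hxy
      exact hk₀inj (congrArg Subtype.val hxy)
    · rintro ⟨y, hy⟩
      rw [← hk₀r] at hy
      obtain ⟨x, rfl⟩ := hy
      exact ⟨x, rfl⟩
  obtain ⟨φ, hφ, hφf⟩ := hf
  have hφinj : Function.Injective φ := F.injective_of_mem hφ
  have hφS : ∀ x : P, φ x ∈ S := hom_mem F hφ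
  by_cases hPeq : P = S
  · -- the case `P = S`
    have hQeq : Q = P := by
      rw [hPeq]
      refine Subgroup.eq_of_le_of_card_ge hQS ?_
      rw [← hcardPQ, hPeq]
    rw [hQeq] at hQa hQr
    have hφP : ∀ x : P, φ x ∈ P := fun x => hPeq.ge (hφS x)
    have hbij : Function.Bijective (φ.codRestrict P hφP) := by
      rw [← Finite.injective_iff_bijective]
      intro x y hxy
      exact hφinj (congrArg Subtype.val hxy)
    let α : MulAut P := MulEquiv.ofBijective (φ.codRestrict P hφP) hbij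
    have hα : ∀ x : P, ((α x : P) : Ω) = φ x := fun x => rfl
    have hαmem : α ∈ F.autGroup P := by
      rw [mem_autGroup_iff F hPS]
      exact ⟨φ, hφ, fun x => by rw [extFun_coe, hα]⟩
    have hIH : ∀ (P' : Subgroup Ω) (f' : Ω → Ω), Nat.card P < Nat.card P' → IsMapOn F P' f' →
        IsMapOn E P' f' := by
      intro P' f' hlt hf'
      have hle : Nat.card P' ≤ Nat.card S := Subgroup.card_le_of_le hf'.le
      exact ih _ (by omega) P' f' hf' rfl
    refine (hE P hQa hQr hIH α hαmem).congr fun x hx => ?_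
    rw [extFun_apply _ hx, hα, hφf]
  · -- the case `P < S`
    have hlt : P < normalizerIn S P := lt_normalizerIn hS hPS hPeq
    have hfinN : Finite ↥(normalizerIn S P) :=
      Finite.of_injective (Subgroup.inclusion (normalizerIn_le S P)) (Subgroup.inclusion_injective _)
    have hcardlt : Nat.card P < Nat.card ↥(normalizerIn S P) := card_lt_of_lt hlt
    have hcardN : Nat.card ↥(normalizerIn S P) ≤ Nat.card S := Subgroup.card_le_of_le (normalizerIn_le S P)
    -- the image `P'` of `φ`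
    have hP'S : φ.range ≤ S := by
      rintro _ ⟨x, rfl⟩
      exact hφS x
    have hfinP' : Finite φ.range :=
      Finite.of_injective (Subgroup.inclusion hP'S) (Subgroup.inclusion_injective hP'S)
    have hcardP' : Nat.card φ.range = Nat.card P := by
      symm
      apply Nat.card_congr
      exact (MonoidHom.ofInjective hφinj).toEquiv
    have hP'ne : φ.range ≠ S := by
      intro h
      apply hPeq
      refine Subgroup.eq_of_le_of_card_ge hPS ?_
      rw [← hcardP', h]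
    have hlt' : φ.range < normalizerIn S φ.range := lt_normalizerIn hS hP'S hP'ne
    have hfinN' : Finite ↥(normalizerIn S φ.range) :=
      Finite.of_injective (Subgroup.inclusion (normalizerIn_le S _)) (Subgroup.inclusion_injective _)
    have hcardlt' : Nat.card φ.range < Nat.card ↥(normalizerIn S φ.range) := card_lt_of_lt hlt'
    have hcardN' : Nat.card ↥(normalizerIn S φ.range) ≤ Nat.card S :=
      Subgroup.card_le_of_le (normalizerIn_le S _)
    -- the inverse of `φ`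
    have hfφ : IsMapOn F P (extHom φ) := isMapOn_extHom F hφ
    have hP'iff : ∀ y, y ∈ φ.range ↔ ∃ x ∈ P, extHom φ x = y := by
      intro y
      constructor
      · rintro ⟨x, rfl⟩
        exact ⟨x, x.2, extHom_coe φ x⟩
      · rintro ⟨x, hx, rfl⟩
        exact ⟨⟨x, hx⟩, (extHom_apply φ hx).symm⟩
    obtain ⟨finv, hfinv, hfinv1, hfinv2, hfinv3⟩ := hfφ.inv hP'iff
    -- the map `k₂ = k₀ ∘ φ⁻¹ : P' → Q`
    have hk₀map : IsMapOn F P (extHom k₀) := isMapOn_extHom F hk₀
    have hk₂map : IsMapOn F φ.range (extHom k₀ ∘ finv) := hfinv.comp hk₀map hfinv2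
    obtain ⟨k₂, hk₂, hk₂f⟩ := hk₂map
    have hk₂r : k₂.range = Q := by
      ext y
      constructor
      · rintro ⟨x, rfl⟩
        rw [hk₂f, Function.comp_apply, extHom_apply k₀ (hfinv2 _ x.2)]
        exact hk₀Q _
      · intro hy
        rw [← hk₀r] at hy
        obtain ⟨x, rfl⟩ := hy
        refine ⟨⟨φ x, ⟨x, rfl⟩⟩, ?_⟩
        rw [hk₂f, Function.comp_apply]
        have : finv (φ x) = x := by
          have := hfinv1 x x.2
          rwa [extHom_coe] at this
        rw [this, extHom_coe]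
    -- extensions to the normalizers
    obtain ⟨α₁, hα₁, a₁, ha₁, ha₁P⟩ := exists_extension F hS hQa hQr hk₀ hk₀r
    obtain ⟨α₂, hα₂, a₂, ha₂, ha₂P⟩ := exists_extension F hS hQa hQr hk₂ hk₂r
    -- induction hypothesis
    have hE₁ : IsMapOn E (normalizerIn S P) a₁ := ih _ (by omega) _ _ ha₁ rfl
    have hE₂ : IsMapOn E (normalizerIn S φ.range) a₂ := ih _ (by omega) _ _ ha₂ rfl
    have hE₁P : IsMapOn E P a₁ := hE₁.mono hlt.le
    have hE₂P' : IsMapOn E φ.range a₂ := hE₂.mono hlt'.le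
    -- images
    have hQiff₂ : ∀ y, y ∈ Q ↔ ∃ x ∈ φ.range, a₂ x = y := by
      intro y
      constructor
      · intro hy
        have h1 : extFun α₂⁻¹ y ∈ Q := extFun_mem _ hy
        have h1' : extFun α₂⁻¹ y ∈ k₂.range := hk₂r.ge h1
        obtain ⟨x, hx⟩ := h1'
        refine ⟨x, x.2, ?_⟩
        rw [ha₂P, hx]
        exact extFun_apply_inv _ hy
      · rintro ⟨x, hx, rfl⟩
        rw [ha₂P ⟨x, hx⟩]
        refine extFun_mem _ ?_
        rw [← hk₂r]
        exact ⟨_, rfl⟩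
    obtain ⟨b₂, hb₂, hb₂1, hb₂2, hb₂3⟩ := hE₂P'.inv hQiff₂
    -- the middle automorphism
    have hIH : ∀ (P' : Subgroup Ω) (f' : Ω → Ω), Nat.card Q < Nat.card P' → IsMapOn F P' f' →
        IsMapOn E P' f' := by
      intro P' f' hlt hf'
      have hle : Nat.card P' ≤ Nat.card S := Subgroup.card_le_of_le hf'.le
      exact ih _ (by omega) P' f' hf' rfl
    have hmid : IsMapOn E Q (extFun (α₂ * α₁⁻¹)) :=
      hE Q hQa hQr hIH _ ((F.autGroup Q).mul_mem hα₂ ((F.autGroup Q).inv_mem hα₁))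
    have ha₁Q : ∀ x ∈ P, a₁ x ∈ Q := by
      intro x hx
      rw [ha₁P ⟨x, hx⟩]
      exact extFun_mem _ (hk₀Q _)
    have hcomp : IsMapOn E P (b₂ ∘ (extFun (α₂ * α₁⁻¹) ∘ a₁)) :=
      (hE₁P.comp hmid ha₁Q).comp hb₂ fun x hx => extFun_mem _ (ha₁Q x hx)
    refine hcomp.congr fun x hx => ?_
    simp only [Function.comp_apply]
    rw [← hφf ⟨x, hx⟩]
    have h1 : a₁ x = extFun α₁ (k₀ ⟨x, hx⟩) := ha₁P ⟨x, hx⟩
    have h2 : a₂ (φ ⟨x, hx⟩) = extFun α₂ (k₀ ⟨x, hx⟩) := by
      rw [ha₂P ⟨φ ⟨x, hx⟩, ⟨_, rfl⟩⟩, hk₂f, Function.comp_apply]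
      have : finv (φ ⟨x, hx⟩) = x := by
        have := hfinv1 x hx
        rwa [extHom_apply φ hx] at this
      simp only [this, extHom_apply k₀ hx]
    have h3 : extFun (α₂ * α₁⁻¹) (a₁ x) = a₂ (φ ⟨x, hx⟩) := by
      rw [h1, h2, extFun_mul _ _ (extFun_mem _ (hk₀Q _)), extFun_inv_apply _ (hk₀Q _)]
    rw [h3]
    exact hb₂1 _ ⟨_, rfl⟩


/-! ### The extender of an automorphism -/

/-- The map `Q → Ω` underlying an automorphism of `Q`. -/
noncomputable abbrev autHom {Q : Subgroup Ω} (α : MulAut Q) : Q →* Ω := Q.subtype.comp α.toMonoidHom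

theorem autHom_apply {Q : Subgroup Ω} (α : MulAut Q) (x : Q) : autHom α x = ((α x : Q) : Ω) := rfl

theorem autHom_range {Q : Subgroup Ω} (α : MulAut Q) : (autHom α).range = Q := by
  ext y
  constructor
  · rintro ⟨x, rfl⟩
    exact (α x).2
  · intro hy
    exact ⟨α⁻¹ ⟨y, hy⟩, by simp [autHom]⟩

theorem le_extender_autHom {Q : Subgroup Ω} (hQ : Q ≤ S) (α : MulAut Q) :
    Q ≤ extender S Q (autHom α) := by
  intro g hg
  refine Subgroup.subset_closure ⟨hQ hg, Subgroup.le_normalizer hg, ((α ⟨g, hg⟩ : Q) : Ω),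
    hQ (α ⟨g, hg⟩).2, ?_⟩
  intro x hx
  have h1 : (⟨g * x * g⁻¹, hx⟩ : Q) = ⟨g, hg⟩ * x * ⟨g, hg⟩⁻¹ := rfl
  rw [autHom_apply, h1, map_mul, map_mul, map_inv]
  rfl

theorem centralizerIn_le_extender_autHom {Q : Subgroup Ω} (α : MulAut Q) :
    centralizerIn S Q ≤ extender S Q (autHom α) := by
  intro g hg
  have hgS : g ∈ S := hg.1
  have hgC : g ∈ Subgroup.centralizer (Q : Set Ω) := hg.2
  have hcomm : ∀ x : Q, g * x * g⁻¹ = x := by
    intro x
    have := hgC x x.2
    rw [← this, mul_inv_cancel_right]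
  refine Subgroup.subset_closure ⟨hgS, ?_, 1, S.one_mem, ?_⟩
  · rw [Subgroup.mem_normalizer_iff]
    intro h
    constructor
    · intro hh
      have := hcomm ⟨h, hh⟩
      simp only at this
      rw [this]
      exact hh
    · intro hh
      have h2 := hcomm ⟨g * h * g⁻¹, hh⟩
      simp only at h2
      have h3 : h = g * h * g⁻¹ := by
        have : g * (g * h * g⁻¹) * g⁻¹ = g * h * g⁻¹ := h2
        have h4 : g * h * g⁻¹ = g⁻¹ * (g * (g * h * g⁻¹) * g⁻¹) * g := by group
        rw [this] at h4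
        have h5 : g⁻¹ * (g * h * g⁻¹) * g = h := by group
        rw [h5] at h4
        exact h4.symm
      rw [h3]
      exact hh
  · intro x hx
    have h1 : (⟨g * x * g⁻¹, hx⟩ : Q) = x := Subtype.ext (hcomm x)
    rw [h1]
    simp

theorem extender_le_normalizerIn (S P : Subgroup Ω) (φ : P →* Ω) :
    extender S P φ ≤ normalizerIn S P := by
  unfold extender
  rw [Subgroup.closure_le]
  rintro g ⟨hgS, hgN, -⟩
  exact ⟨hgS, hgN⟩

/-- For a receptive `Q`, every element of `Aut_F(Q)` extends to a map of the system on its extender. -/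
theorem exists_extension_extender (F : FusionSystem S) {Q : Subgroup Ω} (hQr : F.IsReceptive Q)
    {α : MulAut Q} (hα : α ∈ F.autGroup Q) :
    ∃ a : Ω → Ω, IsMapOn F (extender S Q (autHom α)) a ∧ ∀ x ∈ Q, a x = extFun α x := by
  have hQS : Q ≤ S := hQr.1
  have hφ : autHom α ∈ F.Hom Q := (mem_autGroup_iff' F hQS α).1 hα
  obtain ⟨ψ, hψ, hψQ⟩ := hQr.2 Q (autHom α) hφ (autHom_range α)
  refine ⟨extHom ψ, isMapOn_extHom F hψ, fun x hx => ?_⟩
  have hxE : x ∈ extender S Q (autHom α) := le_extender_autHom hQS α hx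
  rw [extHom_apply ψ hxE, hψQ x hx hxE, extFun_apply α hx]
  rfl

/-- If the extender of `α ∈ Aut_F(Q)` is strictly larger than `Q` (`Q` receptive), then `α` lies in any fusion
system containing the maps of `F` on subgroups of order larger than `Q`. -/
theorem isMapOn_of_lt_extender (F E : FusionSystem S) [Finite S] {Q : Subgroup Ω} (hQr : F.IsReceptive Q)
    (hIH : ∀ (P : Subgroup Ω) (f : Ω → Ω), Nat.card Q < Nat.card P → IsMapOn F P f → IsMapOn E P f)
    {α : MulAut Q} (hα : α ∈ F.autGroup Q) {g : Ω} (hg : g ∈ extender S Q (autHom α)) (hgQ : g ∉ Q) :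
    IsMapOn E Q (extFun α) := by
  have hQS : Q ≤ S := hQr.1
  obtain ⟨a, ha, haQ⟩ := exists_extension_extender F hQr hα
  have hle : Q ≤ extender S Q (autHom α) := le_extender_autHom hQS α
  have hlt : Q < extender S Q (autHom α) := lt_of_le_of_ne hle fun h => hgQ (h ▸ hg)
  have hfin : Finite ↥(extender S Q (autHom α)) :=
    Finite.of_injective (Subgroup.inclusion ha.le) (Subgroup.inclusion_injective _)
  have h1 := hIH _ a (card_lt_of_lt hlt) ha
  exact (h1.mono hle).congr haQ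

/-! ### Centric subgroups -/

/-- A receptive subgroup containing its centralizer in `S` is centric. -/
theorem isCentric_of_receptive (F : FusionSystem S) {Q : Subgroup Ω} (hQr : F.IsReceptive Q)
    (hC : centralizerIn S Q ≤ Q) : F.IsCentric Q := by
  have hQS : Q ≤ S := hQr.1
  refine ⟨hQS, ?_⟩
  rintro Q' ⟨φ, hφ, hφr⟩ c hc
  -- the inverse map `Q' → Q`
  have hf : IsMapOn F Q (extHom φ) := isMapOn_extHom F hφ
  have hQ'iff : ∀ y, y ∈ Q' ↔ ∃ x ∈ Q, extHom φ x = y := by
    intro y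
    constructor
    · intro hy
      have hy' : y ∈ φ.range := hφr.ge hy
      obtain ⟨x, rfl⟩ := hy'
      exact ⟨x, x.2, extHom_coe φ x⟩
    · rintro ⟨x, hx, rfl⟩
      rw [extHom_apply φ hx]
      exact hφr.le ⟨_, rfl⟩
  obtain ⟨finv, ⟨k, hk, hkf⟩, hfinv1, hfinv2, hfinv3⟩ := hf.inv hQ'iff
  have hkr : k.range = Q := by
    ext y
    constructor
    · rintro ⟨x, rfl⟩
      rw [hkf]
      exact hfinv2 _ x.2
    · intro hy
      have h1 : extHom φ y ∈ Q' := (hQ'iff _).2 ⟨y, hy, rfl⟩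
      exact ⟨⟨extHom φ y, h1⟩, by rw [hkf]; exact hfinv1 y hy⟩
  obtain ⟨ψ, hψ, hψQ'⟩ := hQr.2 Q' k hk hkr
  have hQ'S : Q' ≤ S := hom_le F hk
  -- `c` lies in the extender
  have hcS : c ∈ S := hc.1
  have hcC : c ∈ Subgroup.centralizer (Q' : Set Ω) := hc.2
  have hcomm : ∀ x : Q', c * x * c⁻¹ = x := by
    intro x
    have := hcC x x.2
    rw [← this, mul_inv_cancel_right]
  have hcN : c ∈ Subgroup.normalizer (Q' : Set Ω) := by
    rw [Subgroup.mem_normalizer_iff]
    intro h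
    constructor
    · intro hh
      have := hcomm ⟨h, hh⟩
      simp only at this
      rw [this]
      exact hh
    · intro hh
      have h2 := hcomm ⟨c * h * c⁻¹, hh⟩
      simp only at h2
      have h4 : c * h * c⁻¹ = c⁻¹ * (c * (c * h * c⁻¹) * c⁻¹) * c := by group
      rw [h2] at h4
      have h5 : c⁻¹ * (c * h * c⁻¹) * c = h := by group
      rw [h5] at h4
      rw [← h4]
      exact hh
  have hcE : c ∈ extender S Q' k := by
    refine Subgroup.subset_closure ⟨hcS, hcN, 1, S.one_mem, ?_⟩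
    intro x hx
    have h1 : (⟨c * x * c⁻¹, hx⟩ : Q') = x := Subtype.ext (hcomm x)
    rw [h1]
    simp
  have hQ'E : Q' ≤ extender S Q' k := by
    intro g hg
    refine Subgroup.subset_closure ⟨hQ'S hg, Subgroup.le_normalizer hg, k ⟨g, hg⟩, hom_mem F hk _, ?_⟩
    intro x hx
    have h1 : (⟨g * x * g⁻¹, hx⟩ : Q') = ⟨g, hg⟩ * x * ⟨g, hg⟩⁻¹ := rfl
    rw [h1, map_mul, map_mul, map_inv]
  -- `ψ c` centralizes `Q`
  have hψinj : Function.Injective ψ := F.injective_of_mem hψ
  have hψcS : ψ ⟨c, hcE⟩ ∈ S := hom_mem F hψ _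
  have hψcC : ψ ⟨c, hcE⟩ ∈ Subgroup.centralizer (Q : Set Ω) := by
    intro y hy
    have hy' : y ∈ k.range := hkr.ge hy
    obtain ⟨x, rfl⟩ := hy'
    have h1 : k x = ψ ⟨x, hQ'E x.2⟩ := (hψQ' x x.2 (hQ'E x.2)).symm
    rw [h1, ← map_mul, ← map_mul]
    congr 1
    apply Subtype.ext
    have := hcC x x.2
    exact this
  have hψcQ : ψ ⟨c, hcE⟩ ∈ Q := hC ⟨hψcS, hψcC⟩
  have hψcQ' : ψ ⟨c, hcE⟩ ∈ k.range := hkr.ge hψcQ
  obtain ⟨x, hx⟩ := hψcQ'
  have h1 : k x = ψ ⟨x, hQ'E x.2⟩ := (hψQ' x x.2 (hQ'E x.2)).symm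
  rw [h1] at hx
  have h2 := hψinj hx
  have h3 : (x : Ω) = c := congrArg Subtype.val h2
  rw [← h3]
  exact x.2

/-! ### The `p`-core (local copies of the basic facts) -/

theorem pCore_normal' {G : Type*} [Group G] (p : ℕ) : (pCore p G).Normal :=
  Subgroup.sSup_normal _ (fun _ hH => hH.1)

theorem pCore_isPGroup' {G : Type*} [Group G] (p : ℕ) [Fact p.Prime] : IsPGroup p (pCore p G) :=
  Sylow.sSup_of_normal _ (fun _ hH => hH.2) (fun _ hH => hH.1)

theorem le_pCore' {G : Type*} [Group G] {p : ℕ} {N : Subgroup G} (hN : N.Normal) (h : IsPGroup p N) :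
    N ≤ pCore p G :=
  le_sSup ⟨hN, h⟩

theorem pCore_le_sylow' {G : Type*} [Group G] (p : ℕ) [Fact p.Prime] (P : Sylow p G) :
    pCore p G ≤ P :=
  haveI := pCore_normal' (G := G) p
  (pCore_isPGroup' p).le_sylow_of_normal P

/-! ### Radical subgroups -/

theorem inn_le_autGroup (F : FusionSystem S) {Q : Subgroup Ω} (hQ : Q ≤ S) : Inn Q ≤ F.autGroup Q := by
  rintro _ ⟨g, rfl⟩
  apply autInducedBy_le_autGroup F hQ
  rw [mem_autInducedBy_iff]
  exact ⟨g, hQ g.2, fun x => rfl⟩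

theorem isPGroup_inn {Q : Subgroup Ω} {p : ℕ} (hQ : IsPGroup p Q) : IsPGroup p (Inn Q) :=
  hQ.of_surjective (MulAut.conj : Q →* MulAut Q).rangeRestrict
    (MulAut.conj : Q →* MulAut Q).rangeRestrict_surjective

theorem inn_le_pCore_map (F : FusionSystem S) {p : ℕ} [Fact p.Prime] (hS : IsPGroup p S)
    {Q : Subgroup Ω} (hQ : Q ≤ S) :
    Inn Q ≤ (pCore p (F.autGroup Q)).map (F.autGroup Q).subtype := by
  have hN : ((Inn Q).subgroupOf (F.autGroup Q)).Normal := inferInstance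
  have hp : IsPGroup p ((Inn Q).subgroupOf (F.autGroup Q)) :=
    (isPGroup_inn (hS.to_le hQ)).comap_subtype
  have hle := le_pCore' hN hp
  intro β hβ
  exact ⟨⟨β, inn_le_autGroup F hQ hβ⟩, hle (Subgroup.mem_subgroupOf.2 hβ), rfl⟩

/-- In a fully automized subgroup `Q` that is not radical there is an element `g ∈ N_S(Q)` outside `Q` whose
conjugation action on `Q` lies in `O_p(Aut_F(Q))`. -/
theorem exists_of_not_radical (F : FusionSystem S) {p : ℕ} [Fact p.Prime] (hS : IsPGroup p S)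
    {Q : Subgroup Ω} (hQa : F.IsFullyAutomized p Q) (hrad : ¬ F.IsRadical p Q) :
    ∃ g ∈ S, g ∉ Q ∧ ∃ β : F.autGroup Q, β ∈ pCore p (F.autGroup Q) ∧
      ∀ x : Q, (((β : MulAut Q) x : Q) : Ω) = g * (x : Ω) * g⁻¹ := by
  obtain ⟨hQS, R, hR⟩ := hQa
  have hne : (pCore p (F.autGroup Q)).map (F.autGroup Q).subtype ≠ Inn Q := fun h => hrad ⟨hQS, h⟩
  have hle := inn_le_pCore_map F hS hQS
  have hlt : Inn Q < (pCore p (F.autGroup Q)).map (F.autGroup Q).subtype :=
    lt_of_le_of_ne hle (Ne.symm hne)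
  obtain ⟨β₀, hβ₀, hβ₀I⟩ := SetLike.exists_of_lt hlt
  obtain ⟨β, hβ, rfl⟩ := hβ₀
  have hβR : β ∈ (R : Subgroup (F.autGroup Q)) := pCore_le_sylow' p R hβ
  rw [hR, Subgroup.mem_subgroupOf, mem_autInducedBy_iff] at hβR
  obtain ⟨g, hgS, hg⟩ := hβR
  refine ⟨g, hgS, ?_, β, hβ, hg⟩
  intro hgQ
  apply hβ₀I
  refine ⟨⟨g, hgQ⟩, ?_⟩
  ext x
  exact (hg x).symm

theorem isMapOn_of_not_radical (F E : FusionSystem S) [Finite S] {p : ℕ} [Fact p.Prime]
    (hS : IsPGroup p S) {Q : Subgroup Ω} (hQa : F.IsFullyAutomized p Q) (hQr : F.IsReceptive Q)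
    (hIH : ∀ (P : Subgroup Ω) (f : Ω → Ω), Nat.card Q < Nat.card P → IsMapOn F P f → IsMapOn E P f)
    (hrad : ¬ F.IsRadical p Q) {α : MulAut Q} (hα : α ∈ F.autGroup Q) : IsMapOn E Q (extFun α) := by
  obtain ⟨g, hgS, hgQ, β, hβ, hβg⟩ := exists_of_not_radical F hS hQa hrad
  obtain ⟨hQS, R, hR⟩ := hQa
  refine isMapOn_of_lt_extender F E hQr hIH hα (g := g) ?_ hgQ
  -- `g` normalizes `Q`
  have hgN : g ∈ Subgroup.normalizer (Q : Set Ω) := by
    rw [Subgroup.mem_normalizer_iff]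
    intro h
    constructor
    · intro hh
      have := hβg ⟨h, hh⟩
      simp only at this
      rw [← this]
      exact ((β : MulAut Q) ⟨h, hh⟩).2
    · intro hh
      obtain ⟨z, hz⟩ := (β : MulAut Q).surjective ⟨g * h * g⁻¹, hh⟩
      have h1 := hβg z
      rw [hz] at h1
      simp only at h1
      have h2 : h = (z : Ω) := by
        have h3 : g⁻¹ * (g * h * g⁻¹) * g = g⁻¹ * (g * (z : Ω) * g⁻¹) * g := by rw [h1]
        have h4 : g⁻¹ * (g * h * g⁻¹) * g = h := by group
        have h5 : g⁻¹ * (g * (z : Ω) * g⁻¹) * g = (z : Ω) := by group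
        rw [h4, h5] at h3
        exact h3
      rw [h2]
      exact z.2
  -- conjugate of `β` by `α` lies in `Aut_S(Q)`
  have hN := pCore_normal' (G := F.autGroup Q) p
  have hconj : (⟨α, hα⟩ : F.autGroup Q) * β * (⟨α, hα⟩ : F.autGroup Q)⁻¹ ∈ pCore p (F.autGroup Q) :=
    hN.conj_mem β hβ _
  have hconjR := pCore_le_sylow' p R hconj
  rw [hR, Subgroup.mem_subgroupOf, mem_autInducedBy_iff] at hconjR
  obtain ⟨h, hhS, hh⟩ := hconjR
  refine Subgroup.subset_closure ⟨hgS, hgN, h, hhS, ?_⟩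
  intro x hx
  have h1 := hh (α x)
  simp only [Subgroup.coe_mul, Subgroup.coe_inv, MulAut.mul_apply, MulAut.inv_apply_self] at h1
  rw [autHom_apply, autHom_apply, ← h1]
  congr 2
  apply Subtype.ext
  exact (hβg x).symm

theorem isMapOn_of_not_centric (F E : FusionSystem S) [Finite S] {Q : Subgroup Ω}
    (hQr : F.IsReceptive Q)
    (hIH : ∀ (P : Subgroup Ω) (f : Ω → Ω), Nat.card Q < Nat.card P → IsMapOn F P f → IsMapOn E P f)
    (hcen : ¬ F.IsCentric Q) {α : MulAut Q} (hα : α ∈ F.autGroup Q) : IsMapOn E Q (extFun α) := by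
  have h1 : ¬ centralizerIn S Q ≤ Q := fun h => hcen (isCentric_of_receptive F hQr h)
  obtain ⟨c, hc, hcQ⟩ := SetLike.not_le_iff_exists.1 h1
  exact isMapOn_of_lt_extender F E hQr hIH hα (centralizerIn_le_extender_autHom α hc) hcQ

/-- Alperin's fusion theorem, centric-radical form: a fusion system `E` over `S` that contains `Aut_F(Q)` for
every fully automized, receptive, centric and radical subgroup `Q` of the saturated system `F` contains every
map of `F`. -/
theorem alperin_frc_isMapOn (F : FusionSystem S) [Finite S] {p : ℕ} [Fact p.Prime] (hS : IsPGroup p S)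
    (hF : F.IsSaturated p) (E : FusionSystem S)
    (hE : ∀ Q : Subgroup Ω, F.IsFullyAutomized p Q → F.IsReceptive Q → F.IsCentric Q →
      F.IsRadical p Q → ∀ α ∈ F.autGroup Q, IsMapOn E Q (extFun α)) :
    ∀ (P : Subgroup Ω) (f : Ω → Ω), IsMapOn F P f → IsMapOn E P f := by
  classical
  apply alperin_induction_isMapOn F hS hF E
  intro Q hQa hQr hIH α hα
  by_cases hcen : F.IsCentric Q
  · by_cases hrad : F.IsRadical p Q
    · exact hE Q hQa hQr hcen hrad α hα
    · exact isMapOn_of_not_radical F E hS hQa hQr hIH hrad hα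
  · exact isMapOn_of_not_centric F E hQr hIH hcen hα

theorem alperin_frc (F : FusionSystem S) [Finite S] {p : ℕ} [Fact p.Prime] (hS : IsPGroup p S)
    (hF : F.IsSaturated p) (E : FusionSystem S)
    (hE : ∀ Q : Subgroup Ω, F.IsFullyAutomized p Q → F.IsReceptive Q → F.IsCentric Q →
      F.IsRadical p Q → ∀ α ∈ F.autGroup Q, Q.subtype.comp (α : MulAut Q).toMonoidHom ∈ E.Hom Q) :
    F.IsSubsystemOf E := by
  intro P φ hφ
  rw [mem_hom_iff_isMapOn]
  refine alperin_frc_isMapOn F hS hF E ?_ P _ (isMapOn_extHom F hφ)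
  intro Q hQa hQr hQc hQrad α hα
  exact (comp_mem_iff_isMapOn E α).1 (hE Q hQa hQr hQc hQrad α hα)

end Cfsg.Agent.Lib.Helper87_Alperin2
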