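/-
Helper library (helper86): saturated fusion systems over metacyclic 2-groups. If `S` is a metacyclic
2-group which is not homocyclic abelian, dihedral, semidihedral or generalized quaternion, then the
automizer of every centric radical subgroup is a 2-group, and hence every saturated fusion system
over `S` is inner.
-/
import Mathlib
import Cfsg.Agent.Lib.Helper86_MetaFusion
import Cfsg.Agent.Lib.Helper87_Alperin2
import Cfsg.Agent.Lib.Helper85_FusionNormal
import Cfsg.Agent.Lib.Helper1_Frattini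

set_option autoImplicit false
set_option linter.unusedSectionVars false

namespace Cfsg.Agent.Lib.Helper86_MetaFusion2

open Subgroup Cfsg Cfsg.FusionSystem
open Cfsg.Agent.Lib.Helper86_MetaAut Cfsg.Agent.Lib.Helper86_MetaFusion
open Cfsg.Agent.Lib.Helper87_Alperin Cfsg.Agent.Lib.Helper87_Alperin2

section facts

variable {P : Type*} [Group P]

/-- exponent and non-squares of a homocyclic group of rank two -/
theorem homocyclic_facts (hab : ∀ x y : P, x * y = y * x) (m : ℕ) (hm : 1 ≤ m) (a b : P)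
    (ha : orderOf a = 2 ^ m) (hb : orderOf b = 2 ^ m) (hind : zpowers a ⊓ zpowers b = ⊥)
    (hgen : ∀ x : P, ∃ i j : ℕ, x = a ^ i * b ^ j) :
    (∀ x : P, x ^ 2 ^ m = 1) ∧ (∀ x : P, (¬ ∃ r : P, r * r = x) → orderOf x = 2 ^ m) := by
  let _ : CommGroup P := { (inferInstance : Group P) with mul_comm := hab }
  have ha1 : a ^ 2 ^ m = 1 := by rw [← ha]; exact pow_orderOf_eq_one a
  have hb1 : b ^ 2 ^ m = 1 := by rw [← hb]; exact pow_orderOf_eq_one b
  have hexp : ∀ x : P, x ^ 2 ^ m = 1 := by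
    intro x
    obtain ⟨i, j, rfl⟩ := hgen x
    rw [mul_pow, ← pow_mul, ← pow_mul, mul_comm i, mul_comm j, pow_mul, pow_mul, ha1, hb1,
      one_pow, one_pow, one_mul]
  refine ⟨hexp, ?_⟩
  intro x hx
  by_contra hne
  apply hx
  have h1 : orderOf x ∣ 2 ^ m := orderOf_dvd_of_pow_eq_one (hexp x)
  obtain ⟨k, hk, hxk⟩ := (Nat.dvd_prime_pow Nat.prime_two).mp h1
  have hk' : k ≤ m - 1 := by
    rcases Nat.lt_or_ge k m with h | h
    · omega
    · exfalso; apply hne; rw [hxk]; congr 1; omega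
  have h2 : x ^ 2 ^ (m - 1) = 1 := by
    apply orderOf_dvd_iff_pow_eq_one.mp
    rw [hxk]; exact pow_dvd_pow 2 hk'
  obtain ⟨i, j, rfl⟩ := hgen x
  rw [mul_pow, ← pow_mul, ← pow_mul] at h2
  have h3 : a ^ (i * 2 ^ (m - 1)) ∈ zpowers a ⊓ zpowers b := by
    refine ⟨Subgroup.pow_mem _ (mem_zpowers a) _, ?_⟩
    rw [eq_inv_of_mul_eq_one_left h2]
    exact Subgroup.inv_mem _ (Subgroup.pow_mem _ (mem_zpowers b) _)
  rw [hind, mem_bot] at h3
  have h4 : b ^ (j * 2 ^ (m - 1)) = 1 := by rw [h3, one_mul] at h2; exact h2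
  have h2m : 2 ^ m = 2 * 2 ^ (m - 1) := by rw [← pow_succ']; congr 1; omega
  have hi : 2 ∣ i := by
    have := orderOf_dvd_of_pow_eq_one h3
    rw [ha, h2m] at this
    exact Nat.dvd_of_mul_dvd_mul_right (by positivity) this
  have hj : 2 ∣ j := by
    have := orderOf_dvd_of_pow_eq_one h4
    rw [hb, h2m] at this
    exact Nat.dvd_of_mul_dvd_mul_right (by positivity) this
  obtain ⟨i', rfl⟩ := hi
  obtain ⟨j', rfl⟩ := hj
  refine ⟨a ^ i' * b ^ j', ?_⟩
  rw [← pow_two, mul_pow, ← pow_mul, ← pow_mul, mul_comm i', mul_comm j']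

/-- a finite group that is not a 2-group has a non-trivial element of odd order -/
theorem exists_odd_of_not_isPGroup [Finite P] (h : ¬ IsPGroup 2 P) :
    ∃ α : P, Odd (orderOf α) ∧ α ≠ 1 := by
  unfold IsPGroup at h
  push Not at h
  obtain ⟨β, hβ⟩ := h
  have ho : orderOf β ≠ 0 := (orderOf_pos β).ne'
  obtain ⟨k, m, hm, hkm⟩ := Nat.exists_eq_two_pow_mul_odd ho
  refine ⟨β ^ 2 ^ k, ?_, ?_⟩
  · have : orderOf (β ^ 2 ^ k) = m := by
      rw [orderOf_pow_of_dvd (pow_ne_zero _ two_ne_zero) (hkm ▸ Dvd.intro _ rfl), hkm]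
      exact Nat.mul_div_cancel_left m (pow_pos two_pos k)
    rw [this]; exact hm
  · exact hβ k

end facts

section transfer

variable {Ω : Type*} [Group Ω]

theorem transfer (S Q : Subgroup Ω) (hQS : Q ≤ S) (m : ℕ)
    (habP : ∀ x y : ↥Q, x * y = y * x) (hexpP : ∀ x : ↥Q, x ^ 2 ^ m = 1)
    (hfullP : ∀ x : ↥Q, (¬ ∃ r : ↥Q, r * r = x) → orderOf x = 2 ^ m) :
    (∀ x ∈ Q.subgroupOf S, ∀ y ∈ Q.subgroupOf S, x * y = y * x) ∧
    (∀ q ∈ Q.subgroupOf S, q ^ 2 ^ m = 1) ∧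
    (∀ q ∈ Q.subgroupOf S, (¬ ∃ r ∈ Q.subgroupOf S, r * r = q) → orderOf q = 2 ^ m) := by
  refine ⟨?_, ?_, ?_⟩
  · intro x hx y hy
    rw [mem_subgroupOf] at hx hy
    have := congrArg (fun z : ↥Q => (z : Ω)) (habP ⟨x, hx⟩ ⟨y, hy⟩)
    exact Subtype.ext this
  · intro q hq
    rw [mem_subgroupOf] at hq
    have := congrArg (fun z : ↥Q => (z : Ω)) (hexpP ⟨q, hq⟩)
    apply Subtype.ext
    simpa using this
  · intro q hq hns
    rw [mem_subgroupOf] at hq
    have h1 : orderOf (⟨q, hq⟩ : ↥Q) = 2 ^ m := by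
      apply hfullP
      rintro ⟨r, hr⟩
      apply hns
      refine ⟨⟨(r : Ω), hQS r.2⟩, ?_, ?_⟩
      · rw [mem_subgroupOf]; exact r.2
      · apply Subtype.ext
        have := congrArg (fun z : ↥Q => (z : Ω)) hr
        exact this
    have h2 : orderOf (⟨(q : Ω), hq⟩ : ↥Q) = orderOf (q : Ω) := Subgroup.orderOf_mk _ _
    have h3 : orderOf (q : Ω) = orderOf q := Subgroup.orderOf_coe q
    rw [← h3, ← h2, h1]

theorem centralizer_subgroupOf (S Q : Subgroup Ω) (hQS : Q ≤ S) (hc : centralizerIn S Q ≤ Q)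
    (habP : ∀ x y : ↥Q, x * y = y * x) :
    centralizer ((Q.subgroupOf S : Subgroup ↥S) : Set ↥S) = Q.subgroupOf S := by
  ext x
  constructor
  · intro hx
    rw [mem_subgroupOf]
    apply hc
    refine ⟨x.2, Subgroup.mem_centralizer_iff.mpr ?_⟩
    intro y hy
    have := hx ⟨y, hQS hy⟩ (by rw [SetLike.mem_coe, mem_subgroupOf]; exact hy)
    exact congrArg Subtype.val this
  · intro hx
    rw [mem_centralizer_iff]
    intro y hy
    rw [SetLike.mem_coe, mem_subgroupOf] at hy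
    rw [mem_subgroupOf] at hx
    have := congrArg (fun z : ↥Q => (z : Ω)) (habP ⟨y, hy⟩ ⟨x, hx⟩)
    exact Subtype.ext this

/-- in a 2-group, a proper subgroup is avoided by an element whose square lies in it -/
theorem exists_sq_mem {Q T : Subgroup Ω} (hT : IsPGroup 2 T) (hlt : Q < T) :
    ∃ t ∈ T, t ∉ Q ∧ t * t ∈ Q := by
  obtain ⟨t₀, ht₀T, ht₀Q⟩ := SetLike.exists_of_lt hlt
  obtain ⟨n, hn⟩ := hT ⟨t₀, ht₀T⟩
  have hn' : t₀ ^ 2 ^ n = 1 := by
    have := congrArg Subtype.val hn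
    simpa using this
  have hex : ∃ k, t₀ ^ 2 ^ k ∈ Q := ⟨n, by rw [hn']; exact Q.one_mem⟩
  classical
  obtain ⟨k, hk, hmin⟩ : ∃ k, t₀ ^ 2 ^ k ∈ Q ∧ ∀ j < k, t₀ ^ 2 ^ j ∉ Q :=
    ⟨Nat.find hex, Nat.find_spec hex, fun j hj => Nat.find_min hex hj⟩
  have hk0 : k ≠ 0 := by
    intro h0
    rw [h0, pow_zero, pow_one] at hk
    exact ht₀Q hk
  refine ⟨t₀ ^ 2 ^ (k - 1), T.pow_mem ht₀T _, hmin _ (by omega), ?_⟩
  rw [← pow_two, ← pow_mul, ← pow_succ]
  have : k - 1 + 1 = k := by omega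
  rw [this]; exact hk

end transfer

section fusion

variable {Ω : Type*} [Group Ω] {S : Subgroup Ω}

/-- an element of `N_S(Q)` outside the abelian centric radical subgroup `Q` acts non-trivially on
the Frattini quotient of `Q` -/
theorem exists_not_mem_frattini [Finite S] {p : ℕ} [Fact p.Prime] (hS : IsPGroup p S)
    (F : FusionSystem S) {Q : Subgroup Ω} (hQc : F.IsCentric Q) (hQr : F.IsRadical p Q)
    (hab : ∀ x y : ↥Q, x * y = y * x) (t : Ω) (htS : t ∈ S)
    (htN : t ∈ Subgroup.normalizer (Q : Set Ω)) (htQ : t ∉ Q) :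
    ∃ y : ↥Q, Q.normalizerMonoidHom ⟨t, htN⟩ y * y⁻¹ ∉ frattini ↥Q := by
  have hQS : Q ≤ S := hQc.1
  have hQfin : Finite ↥Q := Finite.of_injective _ (Subgroup.inclusion_injective hQS)
  have hQp : IsPGroup p ↥Q := hS.to_le hQS
  obtain ⟨c, hc⟩ : ∃ c : MulAut ↥Q, c = Q.normalizerMonoidHom ⟨t, htN⟩ := ⟨_, rfl⟩
  have hcS : c ∈ autInducedBy S Q := by
    rw [mem_autInducedBy_iff]
    exact ⟨t, htS, fun x => by rw [hc]; rfl⟩
  have hcF : c ∈ F.autGroup Q := autInducedBy_le_autGroup F hQS hcS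
  have hc1 : c ≠ 1 := by
    intro h1
    apply htQ
    apply hQc.2 Q ⟨Q.subtype, subtype_mem F hQS, Subgroup.range_subtype Q⟩
    refine ⟨htS, Subgroup.mem_centralizer_iff.mpr ?_⟩
    intro x hx
    have h2 : c ⟨x, hx⟩ = ⟨x, hx⟩ := by rw [h1]; rfl
    rw [hc] at h2
    have h3 : t * x * t⁻¹ = x := congrArg Subtype.val h2
    calc x * t = (t * x * t⁻¹) * t := by rw [h3]
      _ = t * x := by group
  by_contra hall
  push Not at hall
  have hcfr : c ∈ Cfsg.Agent.S4218.frattiniTrivial ↥Q := by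
    rw [Cfsg.Agent.S4218.mem_frattiniTrivial]
    intro y
    rw [hc]; exact hall y
  have hKI := Cfsg.Agent.Lib.Helper85_FusionNormal.le_inn_of_radical F hQr
    (Cfsg.Agent.S4218.frattiniTrivial ↥Q ⊓ F.autGroup Q) inf_le_right
    (fun β hβ α hα => ⟨Cfsg.Agent.S4218.frattiniTrivial_normal.conj_mem α hα.1 β,
      (F.autGroup Q).mul_mem ((F.autGroup Q).mul_mem hβ hα.2) ((F.autGroup Q).inv_mem hβ)⟩)
    ((Cfsg.Agent.S4218.frattiniTrivial_isPGroup p hQp).to_le inf_le_left)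
  obtain ⟨g, hg⟩ := hKI ⟨hcfr, hcF⟩
  apply hc1
  rw [← hg]
  ext x
  show ((g * x * g⁻¹ : ↥Q) : Ω) = x
  rw [hab g x, mul_inv_cancel_right]

/-- **Main step**: over a non-exceptional metacyclic 2-group, the automizer of a centric radical
subgroup is a 2-group. -/
theorem autGroup_isPGroup [Finite S] (hS : IsPGroup 2 S) (F : FusionSystem S)
    (hm : IsMetacyclic ↥S)
    (hh : ¬ ∃ n k : ℕ, Nonempty (↥S ≃* Multiplicative (Fin k → ZMod (2 ^ n))))
    (hd : ¬ ∃ m : ℕ, Nonempty (↥S ≃* DihedralGroup m))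
    (hq : ¬ ∃ m : ℕ, Nonempty (↥S ≃* QuaternionGroup m))
    (hsd : ¬ IsQuasiDihedral ↥S)
    (Q : Subgroup Ω) (hQc : F.IsCentric Q) (hQrad : F.IsRadical 2 Q) :
    IsPGroup 2 (F.autGroup Q) := by
  have : Fact (Nat.Prime 2) := ⟨Nat.prime_two⟩
  have hQS : Q ≤ S := hQc.1
  have hQfin : Finite ↥Q := Finite.of_injective _ (Subgroup.inclusion_injective hQS)
  have hQ2 : IsPGroup 2 ↥Q := hS.to_le hQS
  have hmQ : IsMetacyclic ↥Q := Cfsg.Agent.Lib.Helper2_Metacyclic.isMetacyclic_of_le hQS hm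
  by_contra hnp
  obtain ⟨β, hβodd, hβ1⟩ := exists_odd_of_not_isPGroup hnp
  have hαodd : Odd (orderOf (β : MulAut ↥Q)) := by rw [Subgroup.orderOf_coe]; exact hβodd
  have hα1 : (β : MulAut ↥Q) ≠ 1 := by
    intro h; apply hβ1; exact Subtype.ext h
  obtain ⟨N, a, b, hNn, hN, hcN, hgen⟩ := exists_data hm
  have := hNn
  rcases mazurov' hQ2 hmQ (β : MulAut ↥Q) hαodd hα1 with
    ⟨habP, m, a₀, b₀, hm1, ha, hb, hind, hgen₀⟩ | ⟨-, ⟨ψ⟩⟩
  · by_cases hQeq : Q = S
    · obtain ⟨e⟩ := exists_mulEquiv_homocyclic' habP m a₀ b₀ ha hb hind hgen₀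
      exact hh ⟨m, 2, ⟨(e.trans (MulEquiv.subgroupCongr hQeq)).symm⟩⟩
    · obtain ⟨hexpP, hfullP⟩ := homocyclic_facts habP m hm1 a₀ b₀ ha hb hind hgen₀
      obtain ⟨hab', hexp', hfull'⟩ := transfer S Q hQS m habP hexpP hfullP
      have hne_top : Q.subgroupOf S ≠ ⊤ := by
        rw [Ne, Subgroup.subgroupOf_eq_top]
        exact fun h => hQeq (le_antisymm hQS h)
      rcases Nat.lt_or_ge m 2 with hm2 | hm2
      · have hm1' : m = 1 := by omega
        subst hm1'
        obtain ⟨e⟩ := exists_mulEquiv_homocyclic' habP 1 a₀ b₀ ha hb hind hgen₀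
        have hcQ : Nat.card (Q.subgroupOf S) = 4 := by
          rw [Nat.card_congr (Subgroup.subgroupOfEquivOfLe hQS).toEquiv,
            ← Nat.card_congr e.toEquiv, Nat.card_congr Multiplicative.toAdd, Nat.card_fun,
            Nat.card_zmod, Nat.card_fin]
          norm_num
        have hC := centralizer_subgroupOf S Q hQS
          (hQc.2 Q ⟨Q.subtype, subtype_mem F hQS, Subgroup.range_subtype Q⟩) habP
        have hK := K_of_four hS (Q.subgroupOf S) hcQ hC hne_top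
        refine false_of_K hS hK ?_ hd hq hsd
        intro h4
        exact hne_top (Subgroup.eq_top_of_card_eq _ (by rw [hcQ, h4]))
      · have hlt := lt_normalizerIn hS hQS hQeq
        obtain ⟨t, htT, htQ, ht2⟩ := exists_sq_mem (hS.to_le (normalizerIn_le S Q)) hlt
        have htS : t ∈ S := htT.1
        have htN : t ∈ Subgroup.normalizer (Q : Set Ω) := htT.2
        obtain ⟨y, hy⟩ := exists_not_mem_frattini hS F hQc hQrad habP t htS htN htQ
        have htQ' : ∀ q ∈ Q.subgroupOf S,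
            (⟨t, htS⟩ : ↥S) * q * (⟨t, htS⟩ : ↥S)⁻¹ ∈ Q.subgroupOf S := by
          intro q hq
          rw [mem_subgroupOf] at hq ⊢
          exact (Subgroup.mem_normalizer_iff.mp htN _).mp hq
        have ht2' : (⟨t, htS⟩ : ↥S) * ⟨t, htS⟩ ∈ Q.subgroupOf S := by
          rw [mem_subgroupOf]; exact ht2
        obtain ⟨r, hr, hrr⟩ := step3 hS N a b hN hcN hgen (Q.subgroupOf S) hab' m hm2 hexp'
          hfull' ⟨t, htS⟩ htQ' ht2' ⟨(y : Ω), hQS y.2⟩ (by rw [mem_subgroupOf]; exact y.2)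
        apply hy
        rw [mem_subgroupOf] at hr
        have h1 : Q.normalizerMonoidHom ⟨t, htN⟩ y * y⁻¹ = (⟨(r : Ω), hr⟩ : ↥Q) ^ 2 := by
          apply Subtype.ext
          have := congrArg (fun z : ↥S => (z : Ω)) hrr
          rw [pow_two]
          exact this.symm
        rw [h1]
        exact Cfsg.Agent.Lib.Helper1_Frattini.pow_mem_frattini_of_isPGroup hQ2 _
  · have hK := K_of_quaternion hS N a b hN hgen (Q.subgroupOf S)
      ((Subgroup.subgroupOfEquivOfLe hQS).trans ψ)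
    refine false_of_K hS hK ?_ hd hq hsd
    intro h4
    have h8 : Nat.card (Q.subgroupOf S) = 8 := by
      rw [Nat.card_congr ((Subgroup.subgroupOfEquivOfLe hQS).trans ψ).toEquiv,
        Nat.card_eq_fintype_card, QuaternionGroup.card]
    have hle : Nat.card (Q.subgroupOf S) ≤ Nat.card ↥S := Subgroup.card_le_card_group _
    omega

/-- every saturated fusion system over a non-exceptional metacyclic 2-group is inner -/
theorem main [Finite S] (hS : IsPGroup 2 S) (F : FusionSystem S) (hF : F.IsSaturated 2)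
    (hm : IsMetacyclic ↥S)
    (hh : ¬ ∃ n k : ℕ, Nonempty (↥S ≃* Multiplicative (Fin k → ZMod (2 ^ n))))
    (hd : ¬ ∃ m : ℕ, Nonempty (↥S ≃* DihedralGroup m))
    (hq : ¬ ∃ m : ℕ, Nonempty (↥S ≃* QuaternionGroup m))
    (hsd : ¬ IsQuasiDihedral ↥S) :
    ∀ P : Subgroup Ω, F.Hom P = (innerFusionSystem S).Hom P := by
  have : Fact (Nat.Prime 2) := ⟨Nat.prime_two⟩
  intro P
  refine Set.Subset.antisymm ?_ (inner_hom_subset F P)
  refine alperin_frc F hS hF (innerFusionSystem S) ?_ P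
  intro Q hQa hQr hQc hQrad α hα
  obtain ⟨hQS, R, hR⟩ := hQa
  have hp := autGroup_isPGroup hS F hm hh hd hq hsd Q hQc hQrad
  have htop : (⊤ : Subgroup (F.autGroup Q)) = (R : Subgroup (F.autGroup Q)) :=
    R.is_maximal' (hp.to_subgroup ⊤) le_top
  have hαR : (⟨α, hα⟩ : F.autGroup Q) ∈ (R : Subgroup (F.autGroup Q)) := by
    rw [← htop]
    exact Subgroup.mem_top _
  rw [hR, Subgroup.mem_subgroupOf, mem_autInducedBy_iff] at hαR
  obtain ⟨g, hg, hαg⟩ := hαR
  exact ⟨hQS, g, hg, fun x => hαg x⟩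

end fusion

end Cfsg.Agent.Lib.Helper86_MetaFusion2
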