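/-
Helper library (helper86): a strongly closed metacyclic 2-subgroup of a saturated fusion system
which is not dihedral, semidihedral or generalized quaternion is contained in every centric
radical subgroup, hence normal in the system.
-/
import Mathlib
import Cfsg.Agent.Lib.Helper86_MetaFusion2
import Cfsg.Agent.Lib.Helper87_Normal
import Cfsg.Agent.Lib.Helper84_KNormalizer2

set_option autoImplicit false
set_option linter.unusedSectionVars false

namespace Cfsg.Agent.Lib.Helper86_MetaNormal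

open Subgroup Cfsg Cfsg.FusionSystem
open Cfsg.Agent.Lib.Helper86_MetaAut Cfsg.Agent.Lib.Helper86_MetaFusion
  Cfsg.Agent.Lib.Helper86_MetaFusion2
open Cfsg.Agent.Lib.Helper87_Alperin Cfsg.Agent.Lib.Helper87_Alperin2
  Cfsg.Agent.Lib.Helper87_Normal

variable {Ω : Type*} [Group Ω] {S : Subgroup Ω}

/-! ### Elements inducing inner automorphisms on a centric subgroup -/

theorem mem_of_conj_mem_inn (F : FusionSystem S) {R : Subgroup Ω} (hRc : F.IsCentric R) (y : Ω)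
    (hyS : y ∈ S) (hyN : y ∈ Subgroup.normalizer (R : Set Ω))
    (h : R.normalizerMonoidHom ⟨y, hyN⟩ ∈ Inn R) : y ∈ R := by
  have hRS : R ≤ S := hRc.1
  obtain ⟨u, hu⟩ := h
  have hcent : (u : Ω)⁻¹ * y ∈ centralizerIn S R := by
    refine ⟨S.mul_mem (S.inv_mem (hRS u.2)) hyS, ?_⟩
    show (u : Ω)⁻¹ * y ∈ Subgroup.centralizer (R : Set Ω)
    rw [Subgroup.mem_centralizer_iff]
    intro x hx
    have h1 : ((MulAut.conj u) ⟨x, hx⟩ : R) = R.normalizerMonoidHom ⟨y, hyN⟩ ⟨x, hx⟩ := by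
      rw [hu]
    have h2 : (u : Ω) * x * (u : Ω)⁻¹ = y * x * y⁻¹ := congrArg Subtype.val h1
    have e : (u : Ω)⁻¹ * y * x = (u : Ω)⁻¹ * (y * x * y⁻¹) * y := by group
    rw [e, ← h2]
    group
  have h3 : (u : Ω)⁻¹ * y ∈ R :=
    hRc.2 R ⟨R.subtype, subtype_mem F hRS, R.range_subtype⟩ hcent
  have e : y = (u : Ω) * ((u : Ω)⁻¹ * y) := by group
  rw [e]
  exact R.mul_mem u.2 h3

/-- an element of `N_S(R)` stabilizing an `Aut_F(R)`-invariant chain lies in the centric radical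
subgroup `R` -/
theorem mem_of_stabilizes_chain [Finite S] {p : ℕ} [Fact p.Prime] (hS : IsPGroup p S)
    (F : FusionSystem S) {R : Subgroup Ω} (hRc : F.IsCentric R) (hRrad : F.IsRadical p R)
    (D : ℕ → Subgroup Ω) (m : ℕ) (hD0 : D 0 = ⊥) (hDm : R ≤ D m)
    (hinv : ∀ j ≤ m, ∀ α ∈ F.autGroup R, ∀ x : R, (x : Ω) ∈ D j → ((α x : R) : Ω) ∈ D j)
    (y : Ω) (hyS : y ∈ S) (hyN : y ∈ Subgroup.normalizer (R : Set Ω))
    (hy : ∀ j < m, ∀ x ∈ R, x ∈ D (j + 1) → x⁻¹ * (y * x * y⁻¹) ∈ D j) : y ∈ R := by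
  have hRS : R ≤ S := hRc.1
  have hRfin : Finite ↥R := Finite.of_injective _ (Subgroup.inclusion_injective hRS)
  have hR2 : IsPGroup p ↥R := hS.to_le hRS
  apply mem_of_conj_mem_inn F hRc y hyS hyN
  rw [← hRrad.2]
  have hcS : R.normalizerMonoidHom ⟨y, hyN⟩ ∈ autInducedBy S R := by
    rw [mem_autInducedBy_iff]; exact ⟨y, hyS, fun x => rfl⟩
  have hcF := autInducedBy_le_autGroup F hRS hcS
  exact mem_pCore_of_stabilizes_chain hR2 (F.autGroup R) D m hD0 hDm hinv _ hcF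
    (fun j hj x hx => hy j hj x x.2 hx)

/-! ### Automorphisms acting trivially modulo a strongly closed subgroup -/

/-- automorphisms in `Aut_F(R)` acting trivially on `R / (R ∩ P)` -/
def trivMod (F : FusionSystem S) (R P : Subgroup Ω) : Subgroup (MulAut R) where
  carrier := {α | α ∈ F.autGroup R ∧ ∀ x : R, (x : Ω)⁻¹ * ((α x : R) : Ω) ∈ P}
  one_mem' := ⟨(F.autGroup R).one_mem, fun x => by
    show (x : Ω)⁻¹ * (x : Ω) ∈ P
    rw [inv_mul_cancel]; exact P.one_mem⟩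
  mul_mem' := by
    rintro α β ⟨hα, hα'⟩ ⟨hβ, hβ'⟩
    refine ⟨(F.autGroup R).mul_mem hα hβ, fun x => ?_⟩
    have e : (x : Ω)⁻¹ * (((α * β) x : R) : Ω) = ((x : Ω)⁻¹ * ((β x : R) : Ω)) *
        (((β x : R) : Ω)⁻¹ * ((α (β x) : R) : Ω)) := by
      rw [MulAut.mul_apply]; group
    rw [e]
    exact P.mul_mem (hβ' x) (hα' (β x))
  inv_mem' := by
    rintro α ⟨hα, hα'⟩
    refine ⟨(F.autGroup R).inv_mem hα, fun x => ?_⟩
    have h := hα' (α⁻¹ x)
    rw [MulAut.apply_inv_self] at h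
    have e : (x : Ω)⁻¹ * ((α⁻¹ x : R) : Ω) = (((α⁻¹ x : R) : Ω)⁻¹ * (x : Ω))⁻¹ := by group
    rw [e]; exact P.inv_mem h

theorem mem_trivMod {F : FusionSystem S} {R P : Subgroup Ω} {α : MulAut R} :
    α ∈ trivMod F R P ↔
      α ∈ F.autGroup R ∧ ∀ x : R, (x : Ω)⁻¹ * ((α x : R) : Ω) ∈ P := Iff.rfl

theorem trivMod_normal {F : FusionSystem S} {R P : Subgroup Ω} (hP : F.StronglyClosed P)
    (hRS : R ≤ S) : ∀ β ∈ F.autGroup R, ∀ α ∈ trivMod F R P, β * α * β⁻¹ ∈ trivMod F R P := by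
  rintro β hβ α ⟨hα, hα'⟩
  refine ⟨(F.autGroup R).mul_mem ((F.autGroup R).mul_mem hβ hα) ((F.autGroup R).inv_mem hβ),
    fun x => ?_⟩
  have h1 := hα' (β⁻¹ x)
  have h2 := stronglyClosed_aut_mem hP hRS hβ ((β⁻¹ x)⁻¹ * α (β⁻¹ x)) h1
  have e : (x : Ω)⁻¹ * (((β * α * β⁻¹) x : R) : Ω) =
      ((β ((β⁻¹ x)⁻¹ * α (β⁻¹ x)) : R) : Ω) := by
    rw [map_mul, map_inv, MulAut.apply_inv_self]; rfl
  rw [e]; exact h2

theorem conj_mem_trivMod {F : FusionSystem S} {R P : Subgroup Ω} (hP : F.StronglyClosed P)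
    (hRS : R ≤ S) (r : Ω) (hrP : r ∈ P) (hrN : r ∈ Subgroup.normalizer (R : Set Ω)) :
    R.normalizerMonoidHom ⟨r, hrN⟩ ∈ trivMod F R P := by
  refine ⟨autInducedBy_le_autGroup F hRS
    ((mem_autInducedBy_iff S R _).2 ⟨r, hP.1 hrP, fun x => rfl⟩), fun x => ?_⟩
  show (x : Ω)⁻¹ * (r * x * r⁻¹) ∈ P
  have h1 : (x : Ω)⁻¹ * r * ((x : Ω)⁻¹)⁻¹ ∈ P :=
    stronglyClosed_conj_mem hP (S.inv_mem (hRS x.2)) hrP
  have e : (x : Ω)⁻¹ * (r * x * r⁻¹) = ((x : Ω)⁻¹ * r * ((x : Ω)⁻¹)⁻¹) * r⁻¹ := by group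
  rw [e]; exact P.mul_mem h1 (P.inv_mem hrP)

/-! ### Power subgroups of an abelian subgroup -/

/-- the subgroup generated by the `k`-th powers of `D` -/
def powSub (D : Subgroup Ω) (k : ℕ) : Subgroup Ω := Subgroup.closure {x | ∃ y ∈ D, x = y ^ k}

theorem mem_powSub_iff {D : Subgroup Ω} (hab : ∀ x ∈ D, ∀ y ∈ D, x * y = y * x) (k : ℕ) (x : Ω) :
    x ∈ powSub D k ↔ ∃ y ∈ D, x = y ^ k := by
  constructor
  · intro hx
    induction hx using Subgroup.closure_induction with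
    | mem x hx => exact hx
    | one => exact ⟨1, D.one_mem, (one_pow k).symm⟩
    | mul x y _ _ hx hy =>
      obtain ⟨a, ha, rfl⟩ := hx
      obtain ⟨b, hb, rfl⟩ := hy
      exact ⟨a * b, D.mul_mem ha hb, (Commute.mul_pow (hab a ha b hb) k).symm⟩
    | inv x _ hx =>
      obtain ⟨a, ha, rfl⟩ := hx
      exact ⟨a⁻¹, D.inv_mem ha, (inv_pow a k).symm⟩
  · intro hx; exact Subgroup.subset_closure hx

/-- three-term chains -/
def chain3 (A B C : Subgroup Ω) : ℕ → Subgroup Ω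
  | 0 => A
  | 1 => B
  | _ => C

/-- an element of 2-power order outside `Q` has a 2-power power outside `Q` with square in `Q` -/
theorem exists_pow_sq_mem {Q : Subgroup Ω} {x₀ : Ω} (hx : ∃ n : ℕ, x₀ ^ 2 ^ n = 1)
    (hx₀ : x₀ ∉ Q) : ∃ k : ℕ, x₀ ^ 2 ^ k ∉ Q ∧ x₀ ^ 2 ^ k * x₀ ^ 2 ^ k ∈ Q := by
  obtain ⟨n, hn⟩ := hx
  have hex : ∃ k, x₀ ^ 2 ^ k ∈ Q := ⟨n, by rw [hn]; exact Q.one_mem⟩
  classical
  obtain ⟨k, hk, hmin⟩ : ∃ k, x₀ ^ 2 ^ k ∈ Q ∧ ∀ j < k, x₀ ^ 2 ^ j ∉ Q :=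
    ⟨Nat.find hex, Nat.find_spec hex, fun j hj => Nat.find_min hex hj⟩
  have hk0 : k ≠ 0 := by
    intro h0
    rw [h0, pow_zero, pow_one] at hk
    exact hx₀ hk
  refine ⟨k - 1, hmin _ (by omega), ?_⟩
  rw [← pow_two, ← pow_mul, ← pow_succ]
  have : k - 1 + 1 = k := by omega
  rw [this]; exact hk

/-! ### The main containment -/

section main

variable [Finite S]

/-- `C_P(P ∩ R) ≤ R` for a centric radical `R` and a strongly closed `P` -/
theorem centralizer_inf_le (hS : IsPGroup 2 S) (F : FusionSystem S) (P : Subgroup Ω)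
    (hP : F.StronglyClosed P) (R : Subgroup Ω) (hRc : F.IsCentric R) (hRrad : F.IsRadical 2 R) :
    P ⊓ Subgroup.centralizer ((P ⊓ R : Subgroup Ω) : Set Ω) ≤ R := by
  have : Fact (Nat.Prime 2) := ⟨Nat.prime_two⟩
  have hPS : P ≤ S := hP.1
  have hRS : R ≤ S := hRc.1
  by_contra hN₁
  have hN₁S : P ⊓ Subgroup.centralizer ((P ⊓ R : Subgroup Ω) : Set Ω) ≤ S :=
    inf_le_left.trans hPS
  have hRn : R ≤ Subgroup.normalizer
      ((P ⊓ Subgroup.centralizer ((P ⊓ R : Subgroup Ω) : Set Ω) : Subgroup Ω) : Set Ω) := by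
    apply le_normalizer_of_conj_mem (S := R)
    intro s hs x hx
    refine ⟨stronglyClosed_conj_mem hP (hRS hs) hx.1, Subgroup.mem_centralizer_iff.mpr ?_⟩
    intro d hd
    have hd' : s⁻¹ * d * s⁻¹⁻¹ ∈ P ⊓ R :=
      ⟨stronglyClosed_conj_mem hP (S.inv_mem (hRS hs)) hd.1,
        R.mul_mem (R.mul_mem (R.inv_mem hs) hd.2) (R.inv_mem (R.inv_mem hs))⟩
    have h1 := (Subgroup.mem_centralizer_iff.mp hx.2) _ hd'
    calc d * (s * x * s⁻¹) = s * ((s⁻¹ * d * s⁻¹⁻¹) * x) * s⁻¹ := by group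
      _ = s * (x * (s⁻¹ * d * s⁻¹⁻¹)) * s⁻¹ := by rw [h1]
      _ = s * x * s⁻¹ * d := by group
  obtain ⟨y, hyN₁, hyN, hyR⟩ := exists_mem_normalizer_not_mem hS hRS hN₁S hRn hN₁
  apply hyR
  refine mem_of_stabilizes_chain hS F hRc hRrad (chain3 ⊥ P ⊤) 2 rfl le_top ?_ y
    (hPS hyN₁.1) hyN ?_
  · intro j hj α hα x hx
    interval_cases j
    · have hx1 : (x : Ω) = 1 := Subgroup.mem_bot.mp hx
      have hx2 : x = 1 := Subtype.ext hx1
      rw [hx2, map_one]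
      exact Subgroup.one_mem _
    · exact stronglyClosed_aut_mem hP hRS hα x hx
    · exact Subgroup.mem_top _
  · intro j hj x hxR hx
    interval_cases j
    · have hxD : x ∈ P ⊓ R := ⟨hx, hxR⟩
      have h1 := (Subgroup.mem_centralizer_iff.mp hyN₁.2) x hxD
      show x⁻¹ * (y * x * y⁻¹) ∈ (⊥ : Subgroup Ω)
      rw [Subgroup.mem_bot, ← h1]; group
    · show x⁻¹ * (y * x * y⁻¹) ∈ P
      have h1 : x⁻¹ * y * (x⁻¹)⁻¹ ∈ P :=
        stronglyClosed_conj_mem hP (S.inv_mem (hRS hxR)) hyN₁.1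
      have e : x⁻¹ * (y * x * y⁻¹) = (x⁻¹ * y * (x⁻¹)⁻¹) * y⁻¹ := by group
      rw [e]; exact P.mul_mem h1 (P.inv_mem hyN₁.1)

/-- **Main containment**: a strongly closed metacyclic 2-subgroup which is not dihedral,
semidihedral or quaternion lies in every centric radical subgroup -/
theorem le_of_frc (hS : IsPGroup 2 S) (F : FusionSystem S) (P : Subgroup Ω)
    (hP : F.StronglyClosed P) (hm : IsMetacyclic ↥P)
    (hd : ¬ ∃ m : ℕ, Nonempty (↥P ≃* DihedralGroup m))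
    (hq : ¬ ∃ m : ℕ, Nonempty (↥P ≃* QuaternionGroup m))
    (hsd : ¬ IsQuasiDihedral ↥P)
    (R : Subgroup Ω) (hRc : F.IsCentric R) (hRrad : F.IsRadical 2 R) : P ≤ R := by
  have : Fact (Nat.Prime 2) := ⟨Nat.prime_two⟩
  have hPS : P ≤ S := hP.1
  have hRS : R ≤ S := hRc.1
  have hPfin : Finite ↥P := Finite.of_injective _ (Subgroup.inclusion_injective hPS)
  have hRfin : Finite ↥R := Finite.of_injective _ (Subgroup.inclusion_injective hRS)
  have hP2 : IsPGroup 2 ↥P := hS.to_le hPS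
  have hR2 : IsPGroup 2 ↥R := hS.to_le hRS
  by_contra hnle
  have hRnP : R ≤ Subgroup.normalizer (P : Set Ω) :=
    hRS.trans (stronglyClosed_le_normalizer hP)
  obtain ⟨x₀, hx₀P, hx₀N, hx₀R⟩ := exists_mem_normalizer_not_mem hS hRS hPS hRnP hnle
  suffices hKp : IsPGroup 2 (trivMod F R P) by
    apply hx₀R
    apply mem_of_conj_mem_inn F hRc x₀ (hPS hx₀P) hx₀N
    exact Cfsg.Agent.Lib.Helper85_FusionNormal.le_inn_of_radical F hRrad (trivMod F R P)
      (fun α hα => hα.1) (trivMod_normal hP hRS) hKp (conj_mem_trivMod hP hRS x₀ hx₀P hx₀N)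
  apply isPGroup_of_coprime_eq_one
  rintro ⟨α, hαK⟩ hg
  by_contra hg1
  have hαA : α ∈ F.autGroup R := hαK.1
  have hαP : ∀ x : R, (x : Ω)⁻¹ * ((α x : R) : Ω) ∈ P := hαK.2
  have hαodd : (orderOf α).Coprime 2 := by rwa [Subgroup.orderOf_mk] at hg
  have hα1 : α ≠ 1 := fun h => hg1 (Subtype.ext h)
  have hDP : P ⊓ R ≤ P := inf_le_left
  have hDR : P ⊓ R ≤ R := inf_le_right
  have hstab : α ∈ Cfsg.Agent.Lib.Helper84_KNormalizer.stab R (P ⊓ R) := by
    rw [Cfsg.Agent.Lib.Helper84_KNormalizer.mem_stab]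
    intro x
    constructor
    · intro hx; exact ⟨stronglyClosed_aut_mem hP hRS hαA x hx.1, (α x).2⟩
    · intro hx
      have := stronglyClosed_aut_mem hP hRS ((F.autGroup R).inv_mem hαA) (α x) hx.1
      rw [MulAut.inv_apply_self] at this
      exact ⟨this, x.2⟩
  obtain ⟨γ, hγ⟩ : ∃ γ : MulAut ↥(P ⊓ R),
      γ = Cfsg.Agent.Lib.Helper84_KNormalizer.restrictHom hDR ⟨α, hstab⟩ := ⟨_, rfl⟩
  have hγodd : Odd (orderOf γ) := by
    have h1 : orderOf γ ∣
        orderOf (⟨α, hstab⟩ : Cfsg.Agent.Lib.Helper84_KNormalizer.stab R (P ⊓ R)) := by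
      rw [hγ]; exact orderOf_map_dvd _ _
    rw [Subgroup.orderOf_mk] at h1
    have : (orderOf γ).Coprime 2 := Nat.Coprime.coprime_dvd_left h1 hαodd
    exact Nat.coprime_two_right.mp this
  have hγ1 : γ ≠ 1 := by
    intro h1
    apply hα1
    refine aut_eq_one_of_chain hR2 α hαodd (chain3 ⊤ P ⊥) 2 le_top rfl ?_
    intro i hi x hx
    interval_cases i
    · exact hαP x
    · show (x : Ω)⁻¹ * ((α x : R) : Ω) ∈ (⊥ : Subgroup Ω)
      have hxD : (x : Ω) ∈ P ⊓ R := ⟨hx, x.2⟩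
      have h2 : ((γ ⟨x, hxD⟩ : ↥(P ⊓ R)) : Ω) = ((α x : R) : Ω) := by
        rw [hγ, Cfsg.Agent.Lib.Helper84_KNormalizer.coe_restrictHom]; rfl
      rw [h1] at h2
      rw [Subgroup.mem_bot, ← h2]
      show (x : Ω)⁻¹ * (x : Ω) = 1
      exact inv_mul_cancel _
  -- Mazurov
  have hDS : P ⊓ R ≤ S := hDP.trans hPS
  have hDfin : Finite ↥(P ⊓ R) := Finite.of_injective _ (Subgroup.inclusion_injective hDS)
  have hD2 : IsPGroup 2 ↥(P ⊓ R) := hS.to_le hDS
  have hmD : IsMetacyclic ↥(P ⊓ R) :=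
    Cfsg.Agent.Lib.Helper2_Metacyclic.isMetacyclic_of_le hDP hm
  obtain ⟨N, a, b, hNn, hN, hcN, hgen⟩ := exists_data hm
  have := hNn
  have hne_top : (P ⊓ R).subgroupOf P ≠ ⊤ := by
    rw [Ne, Subgroup.subgroupOf_eq_top]
    exact fun h => hnle (h.trans hDR)
  rcases mazurov' hD2 hmD γ hγodd hγ1 with
    ⟨habD, m, a₀, b₀, hm1, ha, hb, hind, hgen₀⟩ | ⟨-, ⟨ψ⟩⟩
  · obtain ⟨hexpD, hfullD⟩ := homocyclic_facts habD m hm1 a₀ b₀ ha hb hind hgen₀
    obtain ⟨hab', hexp', hfull'⟩ := transfer P (P ⊓ R) hDP m habD hexpD hfullD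
    rcases Nat.lt_or_ge m 2 with hm2 | hm2
    · have hm1' : m = 1 := by omega
      subst hm1'
      obtain ⟨e⟩ := exists_mulEquiv_homocyclic' habD 1 a₀ b₀ ha hb hind hgen₀
      have hcQ : Nat.card ((P ⊓ R).subgroupOf P) = 4 := by
        rw [Nat.card_congr (Subgroup.subgroupOfEquivOfLe hDP).toEquiv,
          ← Nat.card_congr e.toEquiv, Nat.card_congr Multiplicative.toAdd, Nat.card_fun,
          Nat.card_zmod, Nat.card_fin]
        norm_num
      have hC := centralizer_subgroupOf P (P ⊓ R) hDP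
        (le_inf inf_le_left (centralizer_inf_le hS F P hP R hRc hRrad)) habD
      have hK := K_of_four hP2 ((P ⊓ R).subgroupOf P) hcQ hC hne_top
      refine false_of_K hP2 hK ?_ hd hq hsd
      intro h4
      exact hne_top (Subgroup.eq_top_of_card_eq _ (by rw [hcQ, h4]))
    · -- the element `t`
      have hx₀pow : ∃ n : ℕ, x₀ ^ 2 ^ n = 1 := by
        obtain ⟨n, hn⟩ := hS ⟨x₀, hPS hx₀P⟩
        refine ⟨n, ?_⟩
        have := congrArg Subtype.val hn
        simpa using this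
      obtain ⟨k, hkR, hk2⟩ := exists_pow_sq_mem hx₀pow hx₀R
      obtain ⟨t, ht⟩ : ∃ t, t = x₀ ^ 2 ^ k := ⟨_, rfl⟩
      rw [← ht] at hkR hk2
      have htP : t ∈ P := by rw [ht]; exact P.pow_mem hx₀P _
      have htN : t ∈ Subgroup.normalizer (R : Set Ω) := by
        rw [ht]; exact Subgroup.pow_mem _ hx₀N _
      have htQ' : ∀ q ∈ (P ⊓ R).subgroupOf P,
          (⟨t, htP⟩ : ↥P) * q * (⟨t, htP⟩ : ↥P)⁻¹ ∈ (P ⊓ R).subgroupOf P := by
        intro q hq
        rw [mem_subgroupOf] at hq ⊢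
        exact ⟨P.mul_mem (P.mul_mem htP hq.1) (P.inv_mem htP),
          (Subgroup.mem_normalizer_iff.mp htN _).mp hq.2⟩
      have ht2' : (⟨t, htP⟩ : ↥P) * ⟨t, htP⟩ ∈ (P ⊓ R).subgroupOf P := by
        rw [mem_subgroupOf]; exact ⟨P.mul_mem htP htP, hk2⟩
      have key := step3 hP2 N a b hN hcN hgen ((P ⊓ R).subgroupOf P) hab' m hm2 hexp'
        hfull' ⟨t, htP⟩ htQ' ht2'
      have keyΩ : ∀ q ∈ P ⊓ R, ∃ r ∈ P ⊓ R, r * r = t * q * t⁻¹ * q⁻¹ := by
        intro q hq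
        obtain ⟨r, hr, hrr⟩ := key ⟨q, hq.1⟩ (by rw [mem_subgroupOf]; exact hq)
        rw [mem_subgroupOf] at hr
        exact ⟨(r : Ω), hr, congrArg Subtype.val hrr⟩
      have habΩ : ∀ x ∈ P ⊓ R, ∀ y ∈ P ⊓ R, x * y = y * x := by
        intro x hx y hy
        exact congrArg Subtype.val (habD ⟨x, hx⟩ ⟨y, hy⟩)
      have hexpΩ : ∀ x ∈ P ⊓ R, x ^ 2 ^ m = 1 := by
        intro x hx
        have := congrArg Subtype.val (hexpD ⟨x, hx⟩)
        simpa using this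
      apply hkR
      refine mem_of_stabilizes_chain hS F hRc hRrad
        (fun j => if j ≤ m then powSub (P ⊓ R) (2 ^ (m - j)) else ⊤) (m + 1) ?_ ?_ ?_ t
        (hPS htP) htN ?_
      · -- bottom
        show (if 0 ≤ m then powSub (P ⊓ R) (2 ^ (m - 0)) else ⊤) = ⊥
        rw [if_pos (Nat.zero_le m), Nat.sub_zero, eq_bot_iff]
        intro x hx
        obtain ⟨y, hy, rfl⟩ := (mem_powSub_iff habΩ _ x).mp hx
        rw [Subgroup.mem_bot]; exact hexpΩ y hy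
      · -- top
        show R ≤ (if m + 1 ≤ m then powSub (P ⊓ R) (2 ^ (m - (m + 1))) else ⊤)
        rw [if_neg (by omega)]; exact le_top
      · -- invariance
        intro j hj β hβ x hx
        show ((β x : R) : Ω) ∈ (if j ≤ m then powSub (P ⊓ R) (2 ^ (m - j)) else ⊤)
        by_cases hjm : j ≤ m
        · rw [if_pos hjm] at hx ⊢
          obtain ⟨y, hy, hxy⟩ := (mem_powSub_iff habΩ _ _).mp hx
          rw [mem_powSub_iff habΩ]
          have hx' : x = (⟨y, hy.2⟩ : R) ^ 2 ^ (m - j) := Subtype.ext (by rw [hxy]; rfl)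
          refine ⟨((β ⟨y, hy.2⟩ : R) : Ω),
            ⟨stronglyClosed_aut_mem hP hRS hβ ⟨y, hy.2⟩ hy.1, (β ⟨y, hy.2⟩).2⟩, ?_⟩
          rw [hx', map_pow]; rfl
        · rw [if_neg hjm]; exact Subgroup.mem_top _
      · -- stabilization
        intro j hj x hxR hx
        show x⁻¹ * (t * x * t⁻¹) ∈ (if j ≤ m then powSub (P ⊓ R) (2 ^ (m - j)) else ⊤)
        rw [if_pos (by omega)]
        rw [mem_powSub_iff habΩ]
        by_cases hjm : j + 1 ≤ m
        · have hx2 : x ∈ powSub (P ⊓ R) (2 ^ (m - (j + 1))) := by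
            have := hx
            simp only [if_pos hjm] at this
            exact this
          obtain ⟨y, hy, rfl⟩ := (mem_powSub_iff habΩ _ _).mp hx2
          obtain ⟨r, hr, hrr⟩ := keyΩ y hy
          refine ⟨r, hr, ?_⟩
          have htyD : t * y * t⁻¹ ∈ P ⊓ R :=
            ⟨P.mul_mem (P.mul_mem htP hy.1) (P.inv_mem htP),
              (Subgroup.mem_normalizer_iff.mp htN _).mp hy.2⟩
          have hc1 : Commute y⁻¹ (t * y * t⁻¹) :=
            habΩ _ ((P ⊓ R).inv_mem hy) _ htyD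
          have e1 : y⁻¹ * (t * y * t⁻¹) = r * r := by
            rw [hrr]; exact hc1.eq
          have e2 : (y ^ 2 ^ (m - (j + 1)))⁻¹ * (t * y ^ 2 ^ (m - (j + 1)) * t⁻¹) =
              (y⁻¹ * (t * y * t⁻¹)) ^ 2 ^ (m - (j + 1)) := by
            rw [hc1.mul_pow, inv_pow, conj_pow]
          rw [e2, e1, ← pow_two, ← pow_mul, ← pow_succ']
          congr 2
          omega
        · have hjm' : j = m := by omega
          subst hjm'
          rw [Nat.sub_self, pow_zero]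
          refine ⟨x⁻¹ * (t * x * t⁻¹), ⟨?_, ?_⟩, (pow_one _).symm⟩
          · have h1 : x⁻¹ * t * (x⁻¹)⁻¹ ∈ P :=
              stronglyClosed_conj_mem hP (S.inv_mem (hRS hxR)) htP
            have e : x⁻¹ * (t * x * t⁻¹) = (x⁻¹ * t * (x⁻¹)⁻¹) * t⁻¹ := by group
            rw [e]; exact P.mul_mem h1 (P.inv_mem htP)
          · exact R.mul_mem (R.inv_mem hxR) ((Subgroup.mem_normalizer_iff.mp htN _).mp hxR)
  · have hK := K_of_quaternion hP2 N a b hN hgen ((P ⊓ R).subgroupOf P)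
      ((Subgroup.subgroupOfEquivOfLe hDP).trans ψ)
    refine false_of_K hP2 hK ?_ hd hq hsd
    intro h4
    have h8 : Nat.card ((P ⊓ R).subgroupOf P) = 8 := by
      rw [Nat.card_congr ((Subgroup.subgroupOfEquivOfLe hDP).trans ψ).toEquiv,
        Nat.card_eq_fintype_card, QuaternionGroup.card]
    have hle : Nat.card ((P ⊓ R).subgroupOf P) ≤ Nat.card ↥P := Subgroup.card_le_card_group _
    omega

/-- a strongly closed metacyclic 2-subgroup which is not dihedral, semidihedral or generalized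
quaternion is normal in a saturated fusion system -/
theorem isNormal_of_metacyclic (hS : IsPGroup 2 S) (F : FusionSystem S) (hF : F.IsSaturated 2)
    (P : Subgroup Ω) (hP : F.StronglyClosed P) (hm : IsMetacyclic ↥P)
    (hd : ¬ ∃ m : ℕ, Nonempty (↥P ≃* DihedralGroup m))
    (hq : ¬ ∃ m : ℕ, Nonempty (↥P ≃* QuaternionGroup m))
    (hsd : ¬ IsQuasiDihedral ↥P) : F.IsNormal P := by
  have : Fact (Nat.Prime 2) := ⟨Nat.prime_two⟩
  exact isNormal_of_le_frc F hS hF hP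
    (fun R _ _ hRc hRrad => le_of_frc hS F P hP hm hd hq hsd R hRc hRrad)

end main

end Cfsg.Agent.Lib.Helper86_MetaNormal
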