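import Mathlib
import Cfsg.Agent.Lib.Helper86_MetaNormal
import Cfsg.Agent.Lib.Helper87_Normal
import Cfsg.Agent.Lib.Helper87_Alperin2
import Cfsg.Agent.Lib.Helper84_FusionEssential
import Cfsg.Agent.Lib.Helper84_KNormalizer2
import Cfsg.Agent.Lib.Helper85_FusionNormal
import Cfsg.Agent.Lib.Helper48_Generation
import Cfsg.Agent.Lib.Helper1_Frattini
import Cfsg.Agent.S4218
import Cfsg.Agent.Lib.Helper2_GL2Flag
import Cfsg.Agent.Lib.Helper2_MetaAutW

/-!
# Strongly closed metacyclic subgroups for odd primes (helper2)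

Let `p` be odd, `F` a saturated fusion system over the finite `p`-group `S` and `P` a strongly closed
metacyclic subgroup.  Then `P` lies in every receptive centric radical subgroup `R`
(`le_of_rcr`), hence `P` is normal in `F` (`isNormal_of_metacyclic`).

Sketch: put `T = P ∩ R`, `A₁ = C_{Aut_F(R)}(R/T)` and let `A₁` act on `V = T/Φ(T)`, of order at most
`p²`; the kernel is a `p`-group.  An element `x ∈ N_P(R)` induces an element `c_x` of `A₁`.  By
`Helper2_GL2Flag.mem_pCore_or_exists_inv` either `c_x ∈ O_p(A₁) ≤ O_p(Aut_F(R)) = Inn(R)`, whence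
`x ∈ R`, or some `β ∈ A₁` inverts `V`.  Such a `β` normalizes `Aut_{N_P(R)}(R)` modulo inner
automorphisms, so it extends to an automorphism of the metacyclic group `N_P(R)`, and the structure
of `p'`-automorphisms of metacyclic groups (`S1447`) forces `N_P(R)` to be abelian, so that again
`c_x` is inner.
-/

set_option autoImplicit false
set_option linter.unusedSectionVars false

namespace Cfsg.Agent.Lib.Helper2_MetaFusionOdd

open Subgroup Cfsg Cfsg.FusionSystem
open Cfsg.Agent.Lib.Helper87_Alperin Cfsg.Agent.Lib.Helper87_Alperin2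
  Cfsg.Agent.Lib.Helper87_Normal Cfsg.Agent.Lib.Helper86_MetaNormal
  Cfsg.Agent.Lib.Helper84_KNormalizer

open scoped commutatorElement

/-! ### The Frattini quotient of a two-generated `p`-group -/

section frat

variable {p : ℕ} [Fact p.Prime] {T : Type*} [Group T] [Finite T]

theorem fratQuot_comm (hT : IsPGroup p T) (a b : T ⧸ frattini T) : a * b = b * a := by
  induction a using QuotientGroup.induction_on with
  | H a =>
    induction b using QuotientGroup.induction_on with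
    | H b =>
      rw [← QuotientGroup.mk_mul, ← QuotientGroup.mk_mul, QuotientGroup.eq]
      have h1 : ⁅b⁻¹, a⁻¹⁆ ∈ commutator T := by
        rw [_root_.commutator_def]
        exact Subgroup.commutator_mem_commutator (mem_top _) (mem_top _)
      have h2 := Cfsg.Agent.Lib.Helper1_Frattini.commutator_le_frattini_of_isPGroup hT h1
      have e : (a * b)⁻¹ * (b * a) = ⁅b⁻¹, a⁻¹⁆ := by
        rw [commutatorElement_def]; group
      rw [e]
      exact h2

theorem fratQuot_exp (hT : IsPGroup p T) (a : T ⧸ frattini T) : a ^ p = 1 := by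
  induction a using QuotientGroup.induction_on with
  | H a =>
    rw [← QuotientGroup.mk_pow, QuotientGroup.eq_one_iff]
    exact Cfsg.Agent.Lib.Helper1_Frattini.pow_mem_frattini_of_isPGroup hT a

theorem fratQuot_card_le (hT : IsPGroup p T) (u v : T) (huv : closure ({u, v} : Set T) = ⊤) :
    Nat.card (T ⧸ frattini T) ≤ p ^ 2 := by
  have hpP : p.Prime := Fact.out
  set π := QuotientGroup.mk' (frattini T) with hπ
  have hcomm := fratQuot_comm hT
  have hnormal : ∀ K : Subgroup (T ⧸ frattini T), K.Normal := fun K =>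
    ⟨fun n hn g => by rw [hcomm g n, mul_inv_cancel_right]; exact hn⟩
  have htop : zpowers (π u) ⊔ zpowers (π v) = ⊤ := by
    have h1 : (closure ({u, v} : Set T)).map π = ⊤ := by
      rw [huv, ← MonoidHom.range_eq_map, MonoidHom.range_eq_top]
      exact QuotientGroup.mk'_surjective _
    rw [MonoidHom.map_closure, Set.image_pair] at h1
    rw [← h1, zpowers_eq_closure, zpowers_eq_closure, ← Subgroup.closure_union]
    rfl
  have := hnormal (zpowers (π v))
  have hdvd := Cfsg.Agent.Lib.Helper1_Cores.card_sup_dvd (zpowers (π u)) (zpowers (π v))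
  rw [htop, card_top] at hdvd
  have h1 : Nat.card (zpowers (π u)) ∣ p := by
    rw [Nat.card_zpowers]; exact orderOf_dvd_of_pow_eq_one (fratQuot_exp hT _)
  have h2 : Nat.card (zpowers (π v)) ∣ p := by
    rw [Nat.card_zpowers]; exact orderOf_dvd_of_pow_eq_one (fratQuot_exp hT _)
  have h3 : Nat.card (T ⧸ frattini T) ∣ p * p := hdvd.trans (Nat.mul_dvd_mul h1 h2)
  rw [sq]
  exact Nat.le_of_dvd (Nat.mul_pos hpP.pos hpP.pos) h3

end frat

/-! ### Group-theoretic preliminaries -/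

section prelim

variable {p : ℕ} [Fact p.Prime]

/-- the `p`-core of a subgroup `A₁` is normalized by every element normalizing `A₁` -/
theorem conj_mem_pCore_map {G : Type*} [Group G] (A₁ : Subgroup G) (β : G)
    (hβ : ∀ α ∈ A₁, β * α * β⁻¹ ∈ A₁) (hβ' : ∀ α ∈ A₁, β⁻¹ * α * β ∈ A₁)
    {α : G} (hα : α ∈ (pCore p ↥A₁).map A₁.subtype) :
    β * α * β⁻¹ ∈ (pCore p ↥A₁).map A₁.subtype := by
  let φ : ↥A₁ →* ↥A₁ :=
    { toFun := fun a => ⟨β * a * β⁻¹, hβ a a.2⟩
      map_one' := by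
        apply Subtype.ext
        show β * ((1 : ↥A₁) : G) * β⁻¹ = 1
        rw [Subgroup.coe_one, mul_one, mul_inv_cancel]
      map_mul' := fun a b => by
        apply Subtype.ext
        show β * ((a * b : ↥A₁) : G) * β⁻¹ = (β * a * β⁻¹) * (β * b * β⁻¹)
        rw [Subgroup.coe_mul]; group }
  have hφ : ∀ a : ↥A₁, ((φ a : ↥A₁) : G) = β * a * β⁻¹ := fun _ => rfl
  have hNp : IsPGroup p ↥((pCore p ↥A₁).map φ) :=
    (Cfsg.Agent.Lib.Helper1_Cores.pCore_isPGroup p).map φ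
  have hNn : ((pCore p ↥A₁).map φ).Normal := by
    refine ⟨fun n hn g => ?_⟩
    obtain ⟨m, hm, rfl⟩ := hn
    let g' : ↥A₁ := ⟨β⁻¹ * g * β, hβ' g g.2⟩
    have hcore : g' * m * g'⁻¹ ∈ pCore p ↥A₁ :=
      (Cfsg.Agent.Lib.Helper1_Cores.pCore_normal p).conj_mem m hm g'
    refine ⟨g' * m * g'⁻¹, hcore, ?_⟩
    apply Subtype.ext
    rw [hφ]
    show β * ((g' * m * g'⁻¹ : ↥A₁) : G) * β⁻¹ = ((g * φ m * g⁻¹ : ↥A₁) : G)
    rw [Subgroup.coe_mul, Subgroup.coe_mul, Subgroup.coe_inv, Subgroup.coe_mul, Subgroup.coe_mul,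
      Subgroup.coe_inv, hφ]
    show β * (β⁻¹ * g * β * m * (β⁻¹ * g * β)⁻¹) * β⁻¹ = g * (β * m * β⁻¹) * (g : G)⁻¹
    group
  have hle := Cfsg.Agent.Lib.Helper1_Cores.le_pCore hNn hNp
  obtain ⟨a, ha, rfl⟩ := hα
  exact ⟨φ a, hle ⟨a, ha, rfl⟩, rfl⟩

/-- an automorphism inverting an abelian group commutes with every automorphism -/
theorem inverting_comm {V : Type*} [Group V] {ι : MulAut V} (hι : ∀ v : V, ι v = v⁻¹)
    (σ : MulAut V) : ι * σ = σ * ι := by
  ext v
  rw [MulAut.mul_apply, MulAut.mul_apply, hι, hι, map_inv]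

/-- odd powers of an inverting automorphism invert -/
theorem inverting_pow {V : Type*} [Group V] {ι : MulAut V} (hι : ∀ v : V, ι v = v⁻¹) {n : ℕ}
    (hn : Odd n) (v : V) : (ι ^ n) v = v⁻¹ := by
  obtain ⟨m, rfl⟩ := hn
  have h2 : ι ^ 2 = 1 := by
    ext w
    rw [sq, MulAut.mul_apply, hι, hι, inv_inv, MulAut.one_apply]
  rw [pow_succ, pow_mul, h2, one_pow, one_mul, hι]

/-- a suitable `p`-power of an element of a finite group has order prime to `p` -/
theorem exists_pow_coprime {G : Type*} [Group G] [Finite G] (g : G) :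
    ∃ k : ℕ, (orderOf (g ^ p ^ k)).Coprime p := by
  have hpP : p.Prime := Fact.out
  have hm0 : orderOf g ≠ 0 := (orderOf_pos g).ne'
  obtain ⟨k, m', hm', hm⟩ := Nat.exists_eq_pow_mul_and_not_dvd hm0 p hpP.ne_one
  refine ⟨k, ?_⟩
  have h1 : orderOf (g ^ p ^ k) = m' := by
    rw [orderOf_pow' g (pow_ne_zero k hpP.ne_zero), hm]
    have h2 : Nat.gcd (p ^ k * m') (p ^ k) = p ^ k := Nat.gcd_eq_right (dvd_mul_right _ _)
    rw [h2, Nat.mul_div_cancel_left _ (pow_pos hpP.pos k)]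
  rw [h1, Nat.coprime_comm, Nat.Prime.coprime_iff_not_dvd hpP]
  exact hm'

end prelim


/-! ### The fusion-theoretic argument -/

section fusion

variable {Ω : Type*} [Group Ω] {S : Subgroup Ω}

/-- a map of the system carrying a finite subgroup into itself induces an automorphism -/
theorem exists_aut_of_isMapOn {F : FusionSystem S} {M' : Subgroup Ω} [Finite ↥M'] {a : Ω → Ω}
    (ha : IsMapOn F M' a) (hmem : ∀ g ∈ M', a g ∈ M') :
    ∃ γ₀ : MulAut ↥M', ∀ g : ↥M', ((γ₀ g : ↥M') : Ω) = a g := by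
  let f : ↥M' →* ↥M' :=
    { toFun := fun g => ⟨a g, hmem g g.2⟩
      map_one' := Subtype.ext ha.map_one
      map_mul' := fun x y => Subtype.ext (ha.map_mul x.2 y.2) }
  have hinj : Function.Injective f := fun x y hxy =>
    Subtype.ext (ha.injOn x.2 y.2 (congrArg Subtype.val hxy))
  have hbij : Function.Bijective f := Finite.injective_iff_bijective.mp hinj
  exact ⟨MulEquiv.ofBijective f hbij, fun g => rfl⟩

variable [Finite S] {p : ℕ} [Fact p.Prime]

/-- `Aut_F(R)` stabilizes `P ∩ R` for a strongly closed `P` -/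
theorem autGroup_le_stab {F : FusionSystem S} {P R : Subgroup Ω} (hP : F.StronglyClosed P)
    (hRS : R ≤ S) : F.autGroup R ≤ stab R (P ⊓ R) := by
  intro α hα
  rw [mem_stab]
  intro x
  constructor
  · intro hx; exact ⟨stronglyClosed_aut_mem hP hRS hα x hx.1, (α x).2⟩
  · intro hx
    have := stronglyClosed_aut_mem hP hRS ((F.autGroup R).inv_mem hα) (α x) hx.1
    rw [MulAut.inv_apply_self] at this
    exact ⟨this, x.2⟩

/-- the action of `Aut_F(R)` on the Frattini quotient of `P ∩ R` -/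
noncomputable def rhoA {F : FusionSystem S} {P R : Subgroup Ω} (hP : F.StronglyClosed P)
    (hRS : R ≤ S) : ↥(F.autGroup R) →* MulAut (↥(P ⊓ R) ⧸ frattini ↥(P ⊓ R)) :=
  (Cfsg.Agent.Lib.Helper48_Generation.autQuot (frattini ↥(P ⊓ R))).comp
    ((restrictHom (inf_le_right : P ⊓ R ≤ R)).comp (Subgroup.inclusion (autGroup_le_stab hP hRS)))

theorem rhoA_mk {F : FusionSystem S} {P R : Subgroup Ω} (hP : F.StronglyClosed P)
    (hRS : R ≤ S) (α : ↥(F.autGroup R)) (t : ↥(P ⊓ R)) :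
    rhoA hP hRS α (t : ↥(P ⊓ R) ⧸ frattini ↥(P ⊓ R)) =
      ((restrictHom (inf_le_right : P ⊓ R ≤ R)
        (Subgroup.inclusion (autGroup_le_stab hP hRS) α) t : ↥(P ⊓ R)) :
        ↥(P ⊓ R) ⧸ frattini ↥(P ⊓ R)) := rfl

end fusion


section main

variable {Ω : Type*} [Group Ω] {S : Subgroup Ω} [Finite S] {p : ℕ} [Fact p.Prime]

theorem trivMod_le_autGroup (F : FusionSystem S) (R P : Subgroup Ω) :
    trivMod F R P ≤ F.autGroup R := fun _ hα => hα.1

/-- the action of `C_{Aut_F(R)}(R / P ∩ R)` on the Frattini quotient of `P ∩ R` -/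
noncomputable def rho {F : FusionSystem S} {P R : Subgroup Ω} (hP : F.StronglyClosed P)
    (hRS : R ≤ S) : ↥(trivMod F R P) →* MulAut (↥(P ⊓ R) ⧸ frattini ↥(P ⊓ R)) :=
  (rhoA hP hRS).comp (Subgroup.inclusion (trivMod_le_autGroup F R P))

theorem rho_mk {F : FusionSystem S} {P R : Subgroup Ω} (hP : F.StronglyClosed P)
    (hRS : R ≤ S) (α : MulAut ↥R) (hα : α ∈ trivMod F R P) (t : Ω) (ht : t ∈ P ⊓ R) :
    rho hP hRS ⟨α, hα⟩ ((⟨t, ht⟩ : ↥(P ⊓ R)) : ↥(P ⊓ R) ⧸ frattini ↥(P ⊓ R)) =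
      ((⟨((α ⟨t, ht.2⟩ : ↥R) : Ω), ((autGroup_le_stab hP hRS hα.1) ⟨t, ht.2⟩).1 ht⟩ : ↥(P ⊓ R)) :
        ↥(P ⊓ R) ⧸ frattini ↥(P ⊓ R)) := rfl

/-- the kernel of `rho` is a `p`-group -/
theorem rho_ker_isPGroup (hS : IsPGroup p S) {F : FusionSystem S} {P R : Subgroup Ω}
    (hP : F.StronglyClosed P) (hRS : R ≤ S) : IsPGroup p ↥(rho hP hRS).ker := by
  have hPS : P ≤ S := hP.1
  have hRfin : Finite ↥R := Finite.of_injective _ (Subgroup.inclusion_injective hRS)
  have hRp : IsPGroup p ↥R := hS.to_le hRS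
  have hTS : P ⊓ R ≤ S := inf_le_left.trans hPS
  have hTfin : Finite ↥(P ⊓ R) := Finite.of_injective _ (Subgroup.inclusion_injective hTS)
  have hTp : IsPGroup p ↥(P ⊓ R) := hS.to_le hTS
  apply isPGroup_of_coprime_eq_one
  rintro ⟨⟨α, hαK⟩, hαker⟩ hcop
  have hαcop : (orderOf α).Coprime p := by
    rw [Subgroup.orderOf_mk, Subgroup.orderOf_mk] at hcop
    exact hcop
  have hstab : α ∈ stab R (P ⊓ R) := autGroup_le_stab hP hRS hαK.1
  obtain ⟨γ, hγ⟩ : ∃ γ : MulAut ↥(P ⊓ R),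
      γ = restrictHom (inf_le_right : P ⊓ R ≤ R) ⟨α, hstab⟩ := ⟨_, rfl⟩
  have hγtriv : γ ∈ Cfsg.Agent.S4218.frattiniTrivial ↥(P ⊓ R) := by
    rw [Cfsg.Agent.S4218.mem_frattiniTrivial]
    intro y
    have h1 : rho hP hRS ⟨α, hαK⟩ (y : ↥(P ⊓ R) ⧸ frattini ↥(P ⊓ R)) =
        (y : ↥(P ⊓ R) ⧸ frattini ↥(P ⊓ R)) := by
      rw [MonoidHom.mem_ker] at hαker
      rw [hαker]
      rfl
    have h2 : ((γ y : ↥(P ⊓ R)) : ↥(P ⊓ R) ⧸ frattini ↥(P ⊓ R)) =
        (y : ↥(P ⊓ R) ⧸ frattini ↥(P ⊓ R)) := by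
      rw [hγ]
      exact h1
    have h3 := QuotientGroup.eq.mp h2
    have h4 := (inferInstance : (frattini ↥(P ⊓ R)).Normal).conj_mem _ h3 (γ y)
    have e : γ y * ((γ y)⁻¹ * y) * (γ y)⁻¹ = y * (γ y)⁻¹ := by group
    rw [e] at h4
    have h5 := inv_mem h4
    have e2 : (y * (γ y)⁻¹)⁻¹ = γ y * y⁻¹ := by group
    rwa [e2] at h5
  have hγ1 : γ = 1 := by
    obtain ⟨k, hk⟩ := Cfsg.Agent.S4218.frattiniTrivial_isPGroup p hTp ⟨γ, hγtriv⟩
    have hk' : γ ^ p ^ k = 1 := by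
      have := congrArg Subtype.val hk
      simpa using this
    have h1 : orderOf γ ∣ p ^ k := orderOf_dvd_of_pow_eq_one hk'
    have h2 : orderOf γ ∣ orderOf α := by
      have h3 : orderOf γ ∣ orderOf (⟨α, hstab⟩ : ↥(stab R (P ⊓ R))) := by
        rw [hγ]; exact orderOf_map_dvd _ _
      rwa [Subgroup.orderOf_mk] at h3
    have h3 : orderOf γ = 1 :=
      Nat.eq_one_of_dvd_coprimes (Nat.Coprime.pow_right k hαcop) h2 h1
    exact orderOf_eq_one_iff.mp h3
  have hα1 : α = 1 := by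
    refine aut_eq_one_of_chain hRp α hαcop (chain3 ⊤ P ⊥) 2 le_top rfl ?_
    intro i hi x hx
    interval_cases i
    · exact hαK.2 x
    · show (x : Ω)⁻¹ * ((α x : R) : Ω) ∈ (⊥ : Subgroup Ω)
      have hxD : (x : Ω) ∈ P ⊓ R := ⟨hx, x.2⟩
      have h2 : ((γ ⟨x, hxD⟩ : ↥(P ⊓ R)) : Ω) = ((α x : R) : Ω) := by
        rw [hγ, coe_restrictHom]; rfl
      rw [hγ1] at h2
      rw [Subgroup.mem_bot, ← h2]
      show (x : Ω)⁻¹ * (x : Ω) = 1
      exact inv_mul_cancel _
  exact Subtype.ext (Subtype.ext hα1)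

end main


section main2

variable {Ω : Type*} [Group Ω] {S : Subgroup Ω} [Finite S] {p : ℕ} [Fact p.Prime]

/-- the kernel of `rho`, as a group of automorphisms of `R`, consists of inner automorphisms when
`R` is radical -/
theorem rho_ker_le_inn (hS : IsPGroup p S) {F : FusionSystem S} {P R : Subgroup Ω}
    (hP : F.StronglyClosed P) (hRS : R ≤ S) (hRrad : F.IsRadical p R) :
    (rho hP hRS).ker.map (trivMod F R P).subtype ≤ Inn R := by
  apply Cfsg.Agent.Lib.Helper85_FusionNormal.le_inn_of_radical F hRrad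
  · rintro _ ⟨a, -, rfl⟩
    exact a.2.1
  · rintro δ hδ _ ⟨a, ha, rfl⟩
    have hmem : δ * (a : MulAut ↥R) * δ⁻¹ ∈ trivMod F R P := trivMod_normal hP hRS δ hδ a a.2
    refine ⟨⟨δ * (a : MulAut ↥R) * δ⁻¹, hmem⟩, ?_, rfl⟩
    rw [SetLike.mem_coe, MonoidHom.mem_ker] at ha ⊢
    have h1 : rho hP hRS ⟨δ * (a : MulAut ↥R) * δ⁻¹, hmem⟩ =
        rhoA hP hRS ⟨δ, hδ⟩ * rho hP hRS a * (rhoA hP hRS ⟨δ, hδ⟩)⁻¹ := by
      have e : rho hP hRS a = rhoA hP hRS ⟨(a : MulAut ↥R), a.2.1⟩ := rfl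
      rw [e, ← map_inv, ← map_mul, ← map_mul]
      rfl
    rw [h1, ha, mul_one, mul_inv_cancel]
  · exact (rho_ker_isPGroup hS hP hRS).map _

end main2


section main3

variable {Ω : Type*} [Group Ω] {S : Subgroup Ω} [Finite S] {p : ℕ} [Fact p.Prime]

/-- **Main containment**: for odd `p`, a strongly closed metacyclic subgroup lies in every receptive
centric radical subgroup. -/
theorem le_of_rcr (hp2 : p ≠ 2) (hS : IsPGroup p S) (F : FusionSystem S) (P : Subgroup Ω)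
    (hP : F.StronglyClosed P) (hm : IsMetacyclic ↥P)
    (R : Subgroup Ω) (hRr : F.IsReceptive R) (hRc : F.IsCentric R) (hRrad : F.IsRadical p R) :
    P ≤ R := by
  have hpP : p.Prime := Fact.out
  have hPS : P ≤ S := hP.1
  have hRS : R ≤ S := hRc.1
  have hRfin : Finite ↥R := Finite.of_injective _ (Subgroup.inclusion_injective hRS)
  have hRp : IsPGroup p ↥R := hS.to_le hRS
  have hTS : P ⊓ R ≤ S := inf_le_left.trans hPS
  have hTfin : Finite ↥(P ⊓ R) := Finite.of_injective _ (Subgroup.inclusion_injective hTS)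
  have hTp : IsPGroup p ↥(P ⊓ R) := hS.to_le hTS
  have hTm : IsMetacyclic ↥(P ⊓ R) :=
    Cfsg.Agent.Lib.Helper2_Metacyclic.isMetacyclic_of_le inf_le_left hm
  by_contra hnle
  have hRnP : R ≤ Subgroup.normalizer (P : Set Ω) :=
    hRS.trans (stronglyClosed_le_normalizer hP)
  obtain ⟨x₀, hx₀P, hx₀N, hx₀R⟩ := exists_mem_normalizer_not_mem hS hRS hPS hRnP hnle
  -- it suffices to show that conjugation by `x₀` is inner
  suffices hinn : R.normalizerMonoidHom ⟨x₀, hx₀N⟩ ∈ Inn R from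
    hx₀R (mem_of_conj_mem_inn F hRc x₀ (hPS hx₀P) hx₀N hinn)
  have hcA₁ : R.normalizerMonoidHom ⟨x₀, hx₀N⟩ ∈ trivMod F R P :=
    conj_mem_trivMod hP hRS x₀ hx₀P hx₀N
  -- the Frattini quotient of `P ∩ R`
  have hV1 := fratQuot_comm hTp
  have hV2 := fratQuot_exp hTp
  obtain ⟨u, v, huv⟩ := Cfsg.Agent.Lib.Helper2_Metacyclic.exists_two_generators hTm
  have hV3 := fratQuot_card_le hTp u v huv
  have hcpow : ∃ k : ℕ,
      (⟨R.normalizerMonoidHom ⟨x₀, hx₀N⟩, hcA₁⟩ : ↥(trivMod F R P)) ^ p ^ k = 1 := by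
    obtain ⟨k, hk⟩ := hS ⟨x₀, hPS hx₀P⟩
    refine ⟨k, ?_⟩
    apply Subtype.ext
    rw [Subgroup.coe_pow, Subgroup.coe_one]
    show (R.normalizerMonoidHom ⟨x₀, hx₀N⟩) ^ p ^ k = 1
    rw [← map_pow]
    have h1 : (⟨x₀, hx₀N⟩ : ↥(Subgroup.normalizer (R : Set Ω))) ^ p ^ k = 1 := by
      apply Subtype.ext
      rw [Subgroup.coe_pow, Subgroup.coe_one]
      have := congrArg Subtype.val hk
      simpa using this
    rw [h1, map_one]
  rcases Cfsg.Agent.Lib.Helper2_GL2Flag.mem_pCore_or_exists_inv hV1 hV2 hV3 (rho hP hRS)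
      (rho_ker_isPGroup hS hP hRS) ⟨_, hcA₁⟩ hcpow with hcore | ⟨hcard, β, hβ⟩
  · -- first case: `c ∈ O_p(A₁)`
    have hK : (pCore p ↥(trivMod F R P)).map (trivMod F R P).subtype ≤ Inn R := by
      apply Cfsg.Agent.Lib.Helper85_FusionNormal.le_inn_of_radical F hRrad
      · rintro _ ⟨a, -, rfl⟩; exact a.2.1
      · intro δ hδ α hα
        apply conj_mem_pCore_map (trivMod F R P) δ (trivMod_normal hP hRS δ hδ) ?_ hα
        intro α' hα'
        have := trivMod_normal hP hRS δ⁻¹ ((F.autGroup R).inv_mem hδ) α' hα'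
        rwa [inv_inv] at this
      · exact (Cfsg.Agent.Lib.Helper1_Cores.pCore_isPGroup p).map _
    exact hK ⟨⟨_, hcA₁⟩, hcore, rfl⟩
  · -- second case: some `β` inverts the Frattini quotient
    have hK₁ := rho_ker_le_inn hS hP hRS hRrad
    obtain ⟨β, hβA₁⟩ := β
    have hβA : β ∈ F.autGroup R := hβA₁.1
    set M' : Subgroup Ω := P ⊓ Subgroup.normalizer (R : Set Ω) with hM'
    have hM'P : M' ≤ P := inf_le_left
    have hM'S : M' ≤ S := hM'P.trans hPS
    have hM'fin : Finite ↥M' := Finite.of_injective _ (Subgroup.inclusion_injective hM'S)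
    have hM'p : IsPGroup p ↥M' := hS.to_le hM'S
    have hM'm : IsMetacyclic ↥M' :=
      Cfsg.Agent.Lib.Helper2_Metacyclic.isMetacyclic_of_le hM'P hm
    have hTM' : P ⊓ R ≤ M' := fun t ht => ⟨ht.1, Subgroup.le_normalizer ht.2⟩
    -- `N_P(R)` lies in the extender of `β`
    have hM'E : M' ≤ extender S R (autHom β) := by
      intro g hg
      have hgS : g ∈ S := hM'S hg
      have hgN : g ∈ Subgroup.normalizer (R : Set Ω) := hg.2
      apply Cfsg.Agent.Lib.Helper84_FusionEssential.mem_extender_of_conj_mem β hgS hgN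
      have hcg : R.normalizerMonoidHom ⟨g, hgN⟩ ∈ trivMod F R P :=
        conj_mem_trivMod hP hRS g hg.1 hgN
      have hcomm_mem : β * R.normalizerMonoidHom ⟨g, hgN⟩ * β⁻¹ *
          (R.normalizerMonoidHom ⟨g, hgN⟩)⁻¹ ∈
            (rho hP hRS).ker.map (trivMod F R P).subtype := by
        have hmem : β * R.normalizerMonoidHom ⟨g, hgN⟩ * β⁻¹ *
            (R.normalizerMonoidHom ⟨g, hgN⟩)⁻¹ ∈ trivMod F R P :=
          mul_mem (mul_mem (mul_mem hβA₁ hcg) (inv_mem hβA₁)) (inv_mem hcg)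
        refine ⟨⟨_, hmem⟩, ?_, rfl⟩
        rw [SetLike.mem_coe, MonoidHom.mem_ker]
        have e : (⟨β * R.normalizerMonoidHom ⟨g, hgN⟩ * β⁻¹ *
            (R.normalizerMonoidHom ⟨g, hgN⟩)⁻¹, hmem⟩ : ↥(trivMod F R P)) =
            ⟨β, hβA₁⟩ * ⟨_, hcg⟩ * ⟨β, hβA₁⟩⁻¹ * ⟨_, hcg⟩⁻¹ := rfl
        rw [e, map_mul, map_mul, map_mul, map_inv, map_inv, inverting_comm hβ,
          mul_inv_cancel_right, mul_inv_cancel]
      obtain ⟨r, hr⟩ := hK₁ hcomm_mem
      rw [mem_autInducedBy_iff]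
      refine ⟨(r : Ω) * g, S.mul_mem (hRS r.2) hgS, fun x => ?_⟩
      have h1 : β * R.normalizerMonoidHom ⟨g, hgN⟩ * β⁻¹ =
          MulAut.conj r * R.normalizerMonoidHom ⟨g, hgN⟩ := by
        rw [hr]; group
      rw [h1, MulAut.mul_apply]
      show (r : Ω) * (g * x * g⁻¹) * (r : Ω)⁻¹ = r * g * x * (r * g)⁻¹
      group
    -- extension of `β`
    obtain ⟨a, ha, haR⟩ := exists_extension_extender F hRr hβA
    have hRE : R ≤ extender S R (autHom β) := le_extender_autHom hRS β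
    have haM' : IsMapOn F M' a := ha.mono hM'E
    have haβ : ∀ x : ↥R, a (x : Ω) = ((β x : ↥R) : Ω) := fun x => by
      rw [haR x x.2, extFun_coe]
    have hamem : ∀ g ∈ M', a g ∈ M' := by
      intro g hg
      refine ⟨?_, ?_⟩
      · obtain ⟨φ, hφ, hφa⟩ := haM'
        rw [← hφa ⟨g, hg⟩]
        exact hP.2 M' hM'P φ hφ ⟨g, hg⟩
      · have key : ∀ g ∈ M', ∀ r ∈ R, a g * r * (a g)⁻¹ ∈ R := by
          intro g hg r hr
          obtain ⟨r', hr'⟩ : ∃ r' : ↥R, ((β r' : ↥R) : Ω) = r :=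
            ⟨β⁻¹ ⟨r, hr⟩, by rw [MulAut.apply_inv_self]⟩
          have hgE := hM'E hg
          have hconj : g * (r' : Ω) * g⁻¹ ∈ R := (Subgroup.mem_normalizer_iff.mp hg.2 r').1 r'.2
          have h1 : a (g * r' * g⁻¹) = a g * a r' * (a g)⁻¹ := by
            rw [ha.map_mul (mul_mem hgE (hRE r'.2)) (inv_mem hgE), ha.map_mul hgE (hRE r'.2),
              ha.map_inv hgE]
          rw [← hr', ← haβ r', ← h1, haR _ hconj]
          exact extFun_mem β hconj
        show a g ∈ Subgroup.normalizer (R : Set Ω)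
        rw [Subgroup.mem_normalizer_iff]
        intro h
        constructor
        · exact key g hg h
        · intro hh
          have hg' : g⁻¹ ∈ M' := inv_mem hg
          have h2 := key g⁻¹ hg' _ hh
          rw [ha.map_inv (hM'E hg)] at h2
          have e : (a g)⁻¹ * (a g * h * (a g)⁻¹) * ((a g)⁻¹)⁻¹ = h := by group
          rwa [e] at h2
    obtain ⟨γ₀, hγ₀⟩ := exists_aut_of_isMapOn haM' hamem
    obtain ⟨k, hk⟩ := exists_pow_coprime (p := p) γ₀
    -- the embedding of `P ∩ R` and the action of `β` on it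
    let j : ↥(P ⊓ R) →* ↥M' := Subgroup.inclusion hTM'
    have hj : Function.Injective j := Subgroup.inclusion_injective hTM'
    have hβstab : β ∈ stab R (P ⊓ R) := autGroup_le_stab hP hRS hβA
    obtain ⟨βT, hβT⟩ : ∃ βT : MulAut ↥(P ⊓ R),
        βT = restrictHom (inf_le_right : P ⊓ R ≤ R) ⟨β, hβstab⟩ := ⟨_, rfl⟩
    have hγ₀j : ∀ t : ↥(P ⊓ R), γ₀ (j t) = j (βT t) := by
      intro t
      apply Subtype.ext
      rw [hγ₀]
      show a (t : Ω) = ((βT t : ↥(P ⊓ R)) : Ω)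
      rw [hβT, coe_restrictHom]
      exact haβ ⟨t, t.2.2⟩
    have hγj : ∀ (n : ℕ) (t : ↥(P ⊓ R)), (γ₀ ^ n) (j t) = j ((βT ^ n) t) := by
      intro n
      induction n with
      | zero => intro t; simp
      | succ n ih =>
        intro t
        rw [pow_succ', MulAut.mul_apply, ih, hγ₀j, pow_succ', MulAut.mul_apply]
    have hodd : Odd (p ^ k) := (hpP.odd_of_ne_two hp2).pow
    have hinv : ∀ t : ↥(P ⊓ R), ∃ t' : ↥(P ⊓ R),
        j t' = (γ₀ ^ p ^ k) (j t) ∧ t * t' ∈ frattini ↥(P ⊓ R) := by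
      intro t
      refine ⟨(βT ^ p ^ k) t, (hγj (p ^ k) t).symm, ?_⟩
      have h1 : (rho hP hRS ⟨β, hβA₁⟩ ^ p ^ k) (t : ↥(P ⊓ R) ⧸ frattini ↥(P ⊓ R)) =
          (t : ↥(P ⊓ R) ⧸ frattini ↥(P ⊓ R))⁻¹ := inverting_pow hβ hodd _
      have h2 : (rho hP hRS ⟨β, hβA₁⟩ ^ p ^ k) (t : ↥(P ⊓ R) ⧸ frattini ↥(P ⊓ R)) =
          (((βT ^ p ^ k) t : ↥(P ⊓ R)) : ↥(P ⊓ R) ⧸ frattini ↥(P ⊓ R)) := by
        rw [← map_pow]
        show ((restrictHom (inf_le_right : P ⊓ R ≤ R)
          (Subgroup.inclusion (autGroup_le_stab hP hRS)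
            (Subgroup.inclusion (trivMod_le_autGroup F R P)
              ((⟨β, hβA₁⟩ : ↥(trivMod F R P)) ^ p ^ k))) t : ↥(P ⊓ R)) :
                ↥(P ⊓ R) ⧸ frattini ↥(P ⊓ R)) = _
        rw [map_pow, map_pow, map_pow, hβT]
        rfl
      rw [h2] at h1
      rw [← QuotientGroup.eq_one_iff, QuotientGroup.mk_mul, h1, mul_inv_cancel]
    rcases Cfsg.Agent.Lib.Helper2_MetaAutW.isCyclic_of_inverting hp2 hM'p hM'm (γ₀ ^ p ^ k) hk hTp
        j hj hinv with hcyc | hab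
    · -- `P ∩ R` cyclic: impossible as its Frattini quotient has order `p²`
      exfalso
      have hVcyc : IsCyclic (↥(P ⊓ R) ⧸ frattini ↥(P ⊓ R)) :=
        isCyclic_of_surjective (QuotientGroup.mk' (frattini ↥(P ⊓ R)))
          (QuotientGroup.mk'_surjective _)
      have hexp : Monoid.exponent (↥(P ⊓ R) ⧸ frattini ↥(P ⊓ R)) =
          Nat.card (↥(P ⊓ R) ⧸ frattini ↥(P ⊓ R)) := IsCyclic.exponent_eq_card
      have hdvd : Monoid.exponent (↥(P ⊓ R) ⧸ frattini ↥(P ⊓ R)) ∣ p :=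
        Monoid.exponent_dvd_of_forall_pow_eq_one hV2
      rw [hexp, hcard] at hdvd
      have h1 := Nat.le_of_dvd hpP.pos hdvd
      have h2 := hpP.two_le
      nlinarith
    · -- `N_P(R)` abelian: `x₀` centralizes `P ∩ R`
      apply hK₁
      refine ⟨⟨_, hcA₁⟩, ?_, rfl⟩
      rw [SetLike.mem_coe, MonoidHom.mem_ker]
      ext w
      induction w using QuotientGroup.induction_on with
      | H t =>
        obtain ⟨t, ht⟩ := t
        rw [rho_mk hP hRS _ hcA₁ t ht, MulAut.one_apply]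
        congr 1
        apply Subtype.ext
        show x₀ * t * x₀⁻¹ = t
        have hx₀M' : x₀ ∈ M' := ⟨hx₀P, hx₀N⟩
        have h1 := hab ⟨x₀, hx₀M'⟩ ⟨t, hTM' ht⟩
        have h2 : x₀ * t = t * x₀ := congrArg Subtype.val h1
        rw [h2, mul_inv_cancel_right]

/-- **Normality of strongly closed metacyclic subgroups, `p` odd.** -/
theorem isNormal_of_metacyclic (hp2 : p ≠ 2) (hS : IsPGroup p S) (F : FusionSystem S)
    (hF : F.IsSaturated p) (P : Subgroup Ω) (hP : F.StronglyClosed P) (hm : IsMetacyclic ↥P) :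
    F.IsNormal P :=
  isNormal_of_le_frc F hS hF hP
    (fun R _ hRr hRc hRrad => le_of_rcr hp2 hS F P hP hm R hRr hRc hRrad)

end main3


end Cfsg.Agent.Lib.Helper2_MetaFusionOdd
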