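import Mathlib
import Cfsg.Agent.Lib.Helper2_GenExtra
import Cfsg.Agent.Lib.Helper86_MetaNormal
import Cfsg.Agent.Lib.Helper87_Normal
import Cfsg.Agent.Lib.Helper87_Alperin2
import Cfsg.Agent.Lib.Helper84_FusionEssential
import Cfsg.Agent.Lib.Helper84_FusionRS
import Cfsg.Agent.Lib.Helper88_Receptive
import Cfsg.Agent.Lib.Helper63_PGroup
import Cfsg.Agent.Lib.Helper2_MetaFusionOdd

/-!
# Strongly closed generalized extraspecial subgroups (helper2)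

Let `F` be a saturated fusion system over the finite `p`-group `S` and `P` a strongly closed subgroup with
`Φ(P) = P'` of order `p`.  Unless `P ≃ D₈ × A` or `P ≃ p^{1+2}_+ × A` (`A` elementary abelian), the subgroup
`P'` is strongly closed in `F` (`pc_stronglyClosed`), and hence `P` is normal in `F` (`isNormal_of_genExtra`).

Sketch: if an `F`-map carries `P'` onto `⟨y⟩` with `y ∈ P ∖ P'`, its inverse extends (as `P' ≤ Z(S)` is
receptive) to `θ : C_P(y) → P`.  The type-level lemma `GE.key1` shows that `C_P(y)` is elementary abelian of index `p`,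
and `GE.two_case`, `GE.odd_case` leave only the case where `p` is odd and `C := C_P(y) = Ω₁(P)`.  There, two
transvections in `Aut_F(C)` generate a copy of `SL₂(p)` whose central involution inverts `P'`, commutes with `Aut_P(C)`
and so extends to `P`, which contradicts `℧¹(P) = P'`.
-/

set_option autoImplicit false
set_option linter.unusedSectionVars false

namespace Cfsg.Agent.Lib.Helper2_GenExtraFusion

open Subgroup Cfsg Cfsg.FusionSystem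
open Cfsg.Agent.Lib.Helper87_Alperin Cfsg.Agent.Lib.Helper87_Alperin2
  Cfsg.Agent.Lib.Helper87_Normal Cfsg.Agent.Lib.Helper86_MetaNormal
  Cfsg.Agent.Lib.Helper88_Centric Cfsg.Agent.Lib.Helper2_GenExtra

open scoped commutatorElement

/-! ### The word in two transvections -/

section Word

theorem braid_aux {C : Type*} [CommGroup C] (c z w : C) (k l : ℤ) :
    c * z ^ k * (w * z) ^ l * (z * (w * z)⁻¹) ^ k =
      c * w ^ l * (z * w⁻¹) ^ k * (w * (z * w⁻¹)) ^ l := by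
  have e1 : z * (w * z)⁻¹ = w⁻¹ := by rw [mul_inv_rev, mul_inv_cancel_left]
  have e2 : w * (z * w⁻¹) = z := by rw [mul_comm z, mul_inv_cancel_left]
  rw [e1, e2, mul_zpow, mul_zpow]
  simp only [mul_assoc, mul_left_comm, mul_comm]

/-- Two "transvections" `t`, `s` of an abelian group with `t w = w z`, `s z = z w⁻¹` satisfy the braid relation, and
the square of `t s t` inverts `z` and commutes with `t`. -/
theorem word_lemma {C : Type*} [Group C] (hcomm : ∀ a b : C, a * b = b * a) (t s : MulAut C)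
    (z w : C) (ht : ∀ c, ∃ k : ℤ, t c = c * z ^ k) (htz : t z = z) (htw : t w = w * z)
    (hs : ∀ c, ∃ k : ℤ, s c = c * w ^ k) (hsw : s w = w) (hsz : s z = z * w⁻¹) :
    ((t * s * t) ^ 2) z = z⁻¹ ∧ (t * s * t) ^ 2 * t = t * (t * s * t) ^ 2 := by
  have hb : t * s * t = s * t * s := by
    ext c
    obtain ⟨k, hk⟩ := ht c
    obtain ⟨l, hl⟩ := hs c
    have h1 : (t * s * t) c = c * z ^ k * (w * z) ^ l * (z * (w * z)⁻¹) ^ k := by
      simp only [MulAut.mul_apply]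
      rw [hk, map_mul, map_zpow, hl, hsz, map_mul, map_mul, map_zpow, map_zpow, map_mul, map_inv,
        hk, htw, htz]
    have h2 : (s * t * s) c = c * w ^ l * (z * w⁻¹) ^ k * (w * (z * w⁻¹)) ^ l := by
      simp only [MulAut.mul_apply]
      rw [hl, map_mul, map_zpow, hk, htw, map_mul, map_mul, map_zpow, map_zpow, map_mul, hl, hsz,
        hsw]
    rw [h1, h2]
    exact @braid_aux C { (inferInstance : Group C) with mul_comm := hcomm } c z w k l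
  have e1 : z * (w * z)⁻¹ = w⁻¹ := by rw [mul_inv_rev, hcomm z⁻¹, ← mul_assoc, hcomm z, mul_assoc,
    mul_inv_cancel, mul_one]
  have e2 : w * (z * w⁻¹) = z := by rw [hcomm z, mul_inv_cancel_left]
  have hnz : (t * s * t) z = w⁻¹ := by
    simp only [MulAut.mul_apply]
    rw [htz, hsz, map_mul, map_inv, htz, htw, e1]
  have hnw : (t * s * t) w = z := by
    simp only [MulAut.mul_apply]
    rw [htw, map_mul, hsw, hsz, e2, htz]
  refine ⟨?_, ?_⟩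
  · rw [pow_two, MulAut.mul_apply, hnz, map_inv, hnw]
  · have h1 : (t * s * t) * t = s * (t * s * t) := by
      calc (t * s * t) * t = (s * t * s) * t := by rw [hb]
        _ = s * (t * s * t) := by group
    have h2 : (t * s * t) * s = t * (t * s * t) := by
      calc (t * s * t) * s = t * (s * t * s) := by group
        _ = t * (t * s * t) := by rw [hb]
    calc (t * s * t) ^ 2 * t = (t * s * t) * ((t * s * t) * t) := by
          rw [pow_two, mul_assoc (t * s * t) (t * s * t) t]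
      _ = ((t * s * t) * s) * (t * s * t) := by
          rw [h1, ← mul_assoc (t * s * t) s (t * s * t)]
      _ = t * (t * s * t) ^ 2 := by
          rw [h2, pow_two, mul_assoc t (t * s * t) (t * s * t)]

end Word

/-! ### The derived subgroup of `P` inside the ambient group -/

section Bridge

variable {Ω : Type*} [Group Ω]

/-- the derived subgroup of `P` as a subgroup of the ambient group -/
def Pc (P : Subgroup Ω) : Subgroup Ω := (commutator ↥P).map P.subtype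

theorem mem_Pc {P : Subgroup Ω} {x : Ω} :
    x ∈ Pc P ↔ ∃ hx : x ∈ P, (⟨x, hx⟩ : ↥P) ∈ commutator ↥P := by
  constructor
  · rintro ⟨a, ha, rfl⟩
    exact ⟨a.2, ha⟩
  · rintro ⟨hx, h⟩
    exact ⟨⟨x, hx⟩, h, rfl⟩

theorem Pc_le (P : Subgroup Ω) : Pc P ≤ P := Subgroup.map_subtype_le _

theorem card_Pc (P : Subgroup Ω) : Nat.card (Pc P) = Nat.card (commutator ↥P) :=
  Subgroup.card_subtype _ _

variable {P : Subgroup Ω} [Finite P] {p : ℕ} [Fact p.Prime] (h : GE p ↥P)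
include h

omit h [Finite P] [Fact p.Prime] in
theorem comm_mem {a b : Ω} (ha : a ∈ P) (hb : b ∈ P) : a * b * a⁻¹ * b⁻¹ ∈ Pc P :=
  mem_Pc.2 ⟨_, GE.comm_mem' (⟨a, ha⟩ : ↥P) ⟨b, hb⟩⟩

theorem central {z g : Ω} (hz : z ∈ Pc P) (hg : g ∈ P) : g * z = z * g := by
  obtain ⟨hzP, hz'⟩ := mem_Pc.1 hz
  exact congrArg Subtype.val (h.central hz' ⟨g, hg⟩)

theorem pow_mem {g : Ω} (hg : g ∈ P) : g ^ p ∈ Pc P :=
  mem_Pc.2 ⟨_, h.pow_mem (⟨g, hg⟩ : ↥P)⟩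

theorem pow_eq_one {z : Ω} (hz : z ∈ Pc P) : z ^ p = 1 := by
  obtain ⟨hzP, hz'⟩ := mem_Pc.1 hz
  exact congrArg Subtype.val (h.pow_eq_one hz')

theorem eq_zpowers {z : Ω} (hz : z ∈ Pc P) (hz1 : z ≠ 1) : Pc P = zpowers z := by
  obtain ⟨hzP, hz'⟩ := mem_Pc.1 hz
  have h1 : (⟨z, hzP⟩ : ↥P) ≠ 1 := fun h2 => hz1 (congrArg Subtype.val h2)
  unfold Pc
  rw [h.eq_zpowers hz' h1, MonoidHom.map_zpowers]
  rfl

theorem exists_conj {v : Ω} (hv : v ∈ P) (hnc : (⟨v, hv⟩ : ↥P) ∉ center ↥P) {z' : Ω}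
    (hz' : z' ∈ Pc P) : ∃ g ∈ P, g * v * g⁻¹ = z' * v := by
  obtain ⟨hzP, hz''⟩ := mem_Pc.1 hz'
  obtain ⟨g, hg⟩ := h.exists_conj hnc hz''
  exact ⟨g, g.2, congrArg Subtype.val hg⟩

end Bridge

/-! ### Maps of the system -/

section Maps

variable {Ω : Type*} [Group Ω] {S : Subgroup Ω} {F : FusionSystem S}

theorem isMapOn_map_pow {R : Subgroup Ω} {f : Ω → Ω} (hf : IsMapOn F R f) {x : Ω} (hx : x ∈ R)
    (n : ℕ) : f (x ^ n) = f x ^ n := by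
  obtain ⟨φ, -, hφ⟩ := hf
  have h1 := hφ (⟨x, hx⟩ ^ n)
  rw [map_pow, hφ] at h1
  exact h1.symm

theorem isMapOn_map_zpow {R : Subgroup Ω} {f : Ω → Ω} (hf : IsMapOn F R f) {x : Ω} (hx : x ∈ R)
    (n : ℤ) : f (x ^ n) = f x ^ n := by
  obtain ⟨φ, -, hφ⟩ := hf
  have h1 := hφ (⟨x, hx⟩ ^ n)
  rw [map_zpow, hφ] at h1
  exact h1.symm

theorem isMapOn_mem_of_stronglyClosed {P R : Subgroup Ω} (hP : F.StronglyClosed P) {f : Ω → Ω}
    (hf : IsMapOn F R f) (hRP : R ≤ P) {x : Ω} (hx : x ∈ R) : f x ∈ P := by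
  obtain ⟨φ, hφ, hφf⟩ := hf
  rw [← hφf ⟨x, hx⟩]
  exact hP.2 R hRP φ hφ ⟨x, hx⟩

theorem isFullyNormalized_of_normal [Finite S] (F : FusionSystem S) {Q : Subgroup Ω} (hQS : Q ≤ S)
    (hn : S ≤ Subgroup.normalizer (Q : Set Ω)) : F.IsFullyNormalized Q := by
  refine ⟨hQS, fun R _ => ?_⟩
  have h1 : normalizerIn S Q = S := le_antisymm (normalizerIn_le S Q) (le_inf le_rfl hn)
  rw [h1]
  exact Subgroup.card_le_of_le (normalizerIn_le S R)

theorem isFullyCentralized_of_central [Finite S] (F : FusionSystem S) {Q : Subgroup Ω} (hQS : Q ≤ S)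
    (hc : S ≤ Subgroup.centralizer (Q : Set Ω)) : F.IsFullyCentralized Q := by
  refine ⟨hQS, fun R _ => ?_⟩
  have h1 : centralizerIn S Q = S := le_antisymm inf_le_left (le_inf le_rfl hc)
  rw [h1]
  exact Subgroup.card_le_of_le inf_le_left

end Maps

/-! ### `P'` is central in `S`, hence receptive -/

section Fusion

variable {Ω : Type*} [Group Ω] {S : Subgroup Ω} [Finite S] {p : ℕ} [Fact p.Prime]
  {F : FusionSystem S} {P : Subgroup Ω}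

omit [Finite S] [Fact p.Prime] in
theorem pc_conj_mem (hP : F.StronglyClosed P) {s : Ω} (hs : s ∈ S) {x : Ω} (hx : x ∈ Pc P) :
    s * x * s⁻¹ ∈ Pc P := by
  obtain ⟨hxP, hx'⟩ := mem_Pc.1 hx
  have hsN : s ∈ Subgroup.normalizer (P : Set Ω) := stronglyClosed_le_normalizer hP hs
  have hchar : (commutator ↥P).Characteristic := inferInstance
  have h1 := (Subgroup.characteristic_iff_map_le.1 hchar) (P.normalizerMonoidHom ⟨s, hsN⟩)
  have h2 : (P.normalizerMonoidHom ⟨s, hsN⟩) ⟨x, hxP⟩ ∈ commutator ↥P :=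
    h1 ⟨⟨x, hxP⟩, hx', rfl⟩
  exact mem_Pc.2 ⟨_, h2⟩

theorem pc_le_centralizer (hS : IsPGroup p S) (hP : F.StronglyClosed P) (h : GE p ↥P) :
    S ≤ centralizer (Pc P : Set Ω) := by
  have hPcS : Pc P ≤ S := (Pc_le P).trans hP.1
  have hn : ((Pc P).subgroupOf S).Normal := by
    refine ⟨fun n hn g => ?_⟩
    rw [mem_subgroupOf] at hn ⊢
    exact pc_conj_mem hP g.2 hn
  have hcard : Nat.card ((Pc P).subgroupOf S) = p := by
    rw [Nat.card_congr (Subgroup.subgroupOfEquivOfLe hPcS).toEquiv, card_Pc, h.card]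
  have hle := Cfsg.Agent.Lib.Helper63_PGroup.IsPGroup.le_center_of_normal_of_card_eq hS _ hcard
  intro s hs
  rw [mem_centralizer_iff]
  intro z hz
  have h1 : (⟨z, hPcS hz⟩ : ↥S) ∈ center ↥S := hle (mem_subgroupOf.2 hz)
  have h2 := mem_center_iff.1 h1 ⟨s, hs⟩
  exact (congrArg Subtype.val h2).symm

theorem pc_receptive (hS : IsPGroup p S) (hF : F.IsSaturated p) (hP : F.StronglyClosed P)
    (h : GE p ↥P) : F.IsReceptive (Pc P) :=
  Cfsg.Agent.Lib.Helper84_FusionRS.IsSaturated.isReceptive hS hF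
    (isFullyCentralized_of_central F ((Pc_le P).trans hP.1) (pc_le_centralizer hS hP h))

/-- a map `⟨u⟩ → P'` of the system extends to `C_P(u)` -/
theorem exists_theta [Finite P] (hS : IsPGroup p S) (hF : F.IsSaturated p) (hP : F.StronglyClosed P)
    (h : GE p ↥P) {u : Ω} (hu : u ∉ Pc P) {f : Ω → Ω}
    (hf : IsMapOn F (zpowers u) f) (hfu : f u ∈ Pc P) :
    ∃ θ : Ω → Ω, IsMapOn F (P ⊓ centralizer ({u} : Set Ω)) θ ∧ θ u = f u := by
  have hu1 : u ≠ 1 := fun h1 => hu (h1 ▸ (Pc P).one_mem)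
  have hfu1 : f u ≠ 1 := by
    intro h1
    apply hu1
    apply hf.injOn (mem_zpowers u) (zpowers u).one_mem
    rw [h1, hf.map_one]
  have hPceq : Pc P = zpowers (f u) := eq_zpowers h hfu hfu1
  have himg : IsImage (zpowers u) f (Pc P) := by
    intro y
    constructor
    · intro hy
      rw [hPceq] at hy
      obtain ⟨k, hk⟩ := mem_zpowers_iff.1 hy
      exact ⟨u ^ k, zpow_mem (mem_zpowers u) k, by rw [isMapOn_map_zpow hf (mem_zpowers u), hk]⟩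
    · rintro ⟨x, hx, rfl⟩
      obtain ⟨k, hk⟩ := mem_zpowers_iff.1 hx
      rw [← hk, isMapOn_map_zpow hf (mem_zpowers u)]
      exact zpow_mem hfu k
  obtain ⟨ψ', hψ', hψ'f⟩ := Cfsg.Agent.Lib.Helper88_Receptive.exists_extension_centralizerIn
    (pc_receptive hS hF hP h) hf himg
  have hle : P ⊓ centralizer ({u} : Set Ω) ≤ zpowers u ⊔ centralizerIn S (zpowers u) := by
    intro x hx
    apply mem_sup_right
    refine ⟨hP.1 hx.1, ?_⟩
    show x ∈ centralizer ((zpowers u : Subgroup Ω) : Set Ω)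
    rw [mem_centralizer_iff]
    intro g hg
    obtain ⟨k, hk⟩ := mem_zpowers_iff.1 hg
    have h1 : Commute x u := mem_centralizer_singleton_iff.1 hx.2
    rw [← hk]
    exact (h1.zpow_right k).eq.symm
  exact ⟨ψ', hψ'.mono hle, hψ'f u (mem_zpowers u)⟩

/-- **Consequences of a bad element.** If a map of the system carries `u ∈ P ∖ P'` into `P'`, then `u` is not central in
`P`, the centralizer `C_P(u)` is elementary abelian, and the extension `θ` of the map to `C_P(u)` moves `P'` off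
itself. -/
theorem bad_facts [Finite P] (hS : IsPGroup p S) (hF : F.IsSaturated p) (hP : F.StronglyClosed P)
    (h : GE p ↥P) {u : Ω} (huP : u ∈ P) (hu : u ∉ Pc P) {f : Ω → Ω}
    (hf : IsMapOn F (zpowers u) f) (hfu : f u ∈ Pc P) :
    ∃ θ : Ω → Ω, IsMapOn F (P ⊓ centralizer ({u} : Set Ω)) θ ∧ θ u = f u ∧
      (⟨u, huP⟩ : ↥P) ∉ center ↥P ∧
      (∀ a ∈ centralizer ({(⟨u, huP⟩ : ↥P)} : Set ↥P),
        ∀ b ∈ centralizer ({(⟨u, huP⟩ : ↥P)} : Set ↥P), a * b = b * a) ∧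
      (∀ a ∈ centralizer ({(⟨u, huP⟩ : ↥P)} : Set ↥P), a ^ p = 1) ∧
      (∀ z ∈ Pc P, z ≠ 1 → θ z ∉ Pc P) := by
  obtain ⟨θ, hθ, hθu⟩ := exists_theta hS hF hP h hu hf hfu
  have hmemC : ∀ c : ↥P, c ∈ centralizer ({(⟨u, huP⟩ : ↥P)} : Set ↥P) →
      (c : Ω) ∈ P ⊓ centralizer ({u} : Set Ω) := by
    intro c hc
    refine ⟨c.2, ?_⟩
    show (c : Ω) ∈ centralizer ({u} : Set Ω)
    rw [mem_centralizer_singleton_iff]
    exact congrArg Subtype.val (mem_centralizer_singleton_iff.1 hc)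
  have hθP : ∀ x ∈ P ⊓ centralizer ({u} : Set Ω), θ x ∈ P := fun x hx =>
    isMapOn_mem_of_stronglyClosed hP hθ inf_le_left hx
  let θ' : ↥(centralizer ({(⟨u, huP⟩ : ↥P)} : Set ↥P)) →* ↥P :=
    { toFun := fun c => ⟨θ ((c : ↥P) : Ω), hθP _ (hmemC c.1 c.2)⟩
      map_one' := Subtype.ext hθ.map_one
      map_mul' := fun a b => Subtype.ext (hθ.map_mul (hmemC a.1 a.2) (hmemC b.1 b.2)) }
  have hθ'inj : Function.Injective θ' := by
    intro a b hab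
    have h1 : θ ((a : ↥P) : Ω) = θ ((b : ↥P) : Ω) := congrArg Subtype.val hab
    exact Subtype.ext (Subtype.ext (hθ.injOn (hmemC a.1 a.2) (hmemC b.1 b.2) h1))
  have hu' : (⟨u, huP⟩ : ↥P) ∉ commutator ↥P := fun h1 => hu (mem_Pc.2 ⟨huP, h1⟩)
  have hθ'u : θ' ⟨⟨u, huP⟩, mem_centralizer_singleton_iff.2 rfl⟩ ∈ commutator ↥P := by
    obtain ⟨hx, h1⟩ := mem_Pc.1 (hθu ▸ hfu : θ u ∈ Pc P)
    exact h1
  obtain ⟨h1, h2, h3⟩ := h.key1 θ' hθ'inj hu' hθ'u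
  refine ⟨θ, hθ, hθu, h1, h2, h3, ?_⟩
  intro z hz hz1 hθz
  obtain ⟨hzP, hz'⟩ := mem_Pc.1 hz
  have hCc : commutator ↥P ≤ centralizer ({(⟨u, huP⟩ : ↥P)} : Set ↥P) := by
    intro c hc
    rw [mem_centralizer_singleton_iff]
    exact (h.central hc _).symm
  have h4 := h.key _ θ' hθ'inj hCc (mem_centralizer_singleton_iff.2 rfl) hu' hθ'u hz'
    (fun h5 => hz1 (congrArg Subtype.val h5))
  apply h4
  obtain ⟨hx, h5⟩ := mem_Pc.1 hθz
  exact h5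

end Fusion

/-! ### No bad elements -/

section Main

variable {Ω : Type*} [Group Ω] {S : Subgroup Ω} [Finite S] {p : ℕ} [Fact p.Prime]
  {F : FusionSystem S} {P : Subgroup Ω}

/-- **Main lemma.** Unless `P` is one of the excluded groups, no map of the system carries an element of `P ∖ P'` into
`P'`. -/
theorem no_bad [Finite P] (hS : IsPGroup p S) (hF : F.IsSaturated p) (hP : F.StronglyClosed P)
    (h : GE p ↥P)
    (h2 : p = 2 → ¬ ∃ (A : Type) (_ : CommGroup A), (∀ a : A, a ^ 2 = 1) ∧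
      Nonempty (↥P ≃* DihedralGroup 4 × A))
    (hodd : p ≠ 2 → ¬ ∃ (E : Type) (_ : Group E) (A : Type) (_ : CommGroup A),
      Cfsg.IsExtraspecial p E ∧ Nat.card E = p ^ 3 ∧ Monoid.exponent E = p ∧ (∀ a : A, a ^ p = 1) ∧
      Nonempty (↥P ≃* E × A))
    {u : Ω} (huP : u ∈ P) (hu : u ∉ Pc P) {f : Ω → Ω}
    (hf : IsMapOn F (zpowers u) f) (hfu : f u ∈ Pc P) : False := by
  have hpP : p.Prime := Fact.out
  have hPS : P ≤ S := hP.1
  obtain ⟨θ, hθ, hθu, hnc, hCc, hCe, hθz⟩ := bad_facts hS hF hP h huP hu hf hfu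
  have hp2 : p ≠ 2 := fun hp2 => h2 hp2 (h.two_case hp2 hnc hCc hCe)
  obtain ⟨C₀, hC₀⟩ : ∃ C₀ : Subgroup Ω, C₀ = P ⊓ centralizer ({u} : Set Ω) := ⟨_, rfl⟩
  rw [← hC₀] at hθ
  have hC₀P : C₀ ≤ P := hC₀ ▸ inf_le_left
  have hC₀S : C₀ ≤ S := hC₀P.trans hPS
  have hC₀fin : Finite ↥C₀ := Finite.of_injective _ (Subgroup.inclusion_injective hC₀S)
  have hmem : ∀ (g : Ω) (hg : g ∈ P),
      g ∈ C₀ ↔ (⟨g, hg⟩ : ↥P) ∈ centralizer ({(⟨u, huP⟩ : ↥P)} : Set ↥P) := by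
    intro g hg
    rw [hC₀, mem_inf, mem_centralizer_singleton_iff, mem_centralizer_singleton_iff]
    constructor
    · rintro ⟨-, h1⟩
      exact Subtype.ext h1
    · intro h1
      exact ⟨hg, congrArg Subtype.val h1⟩
  have hC₀comm : ∀ a ∈ C₀, ∀ b ∈ C₀, a * b = b * a := fun a ha b hb =>
    congrArg Subtype.val (hCc ⟨a, hC₀P ha⟩ ((hmem a (hC₀P ha)).1 ha) ⟨b, hC₀P hb⟩
      ((hmem b (hC₀P hb)).1 hb))
  have hC₀exp : ∀ a ∈ C₀, a ^ p = 1 := fun a ha =>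
    congrArg Subtype.val (hCe ⟨a, hC₀P ha⟩ ((hmem a (hC₀P ha)).1 ha))
  have hΩ1 : ∀ g ∈ P, g ^ p = 1 → g ∈ C₀ := by
    intro g hg hgp
    by_contra hgC
    exact hodd hp2 (h.odd_case hp2 hnc hCc hCe (w := ⟨g, hg⟩)
      (fun hc => hgC ((hmem g hg).2 hc)) (Subtype.ext hgp))
  have huC₀ : u ∈ C₀ := by
    rw [hC₀]; exact ⟨huP, mem_centralizer_singleton_iff.2 rfl⟩
  have hPcC₀ : Pc P ≤ C₀ := by
    intro z hz
    rw [hC₀]
    refine ⟨Pc_le P hz, ?_⟩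
    show z ∈ centralizer ({u} : Set Ω)
    rw [mem_centralizer_singleton_iff]
    exact (central h hz huP).symm
  -- the element `z = θ u` of `P'`
  obtain ⟨z, hz⟩ : ∃ z : Ω, z = θ u := ⟨_, rfl⟩
  have hzPc : z ∈ Pc P := by rw [hz, hθu]; exact hfu
  have hu1 : u ≠ 1 := fun h1 => hu (h1 ▸ (Pc P).one_mem)
  have hz1 : z ≠ 1 := by
    intro h1
    apply hu1
    apply hθ.injOn huC₀ C₀.one_mem
    rw [← hz, h1, hθ.map_one]
  have hPceq : Pc P = zpowers z := eq_zpowers h hzPc hz1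
  have hzC₀ : z ∈ C₀ := hPcC₀ hzPc
  -- `θ` induces an automorphism `ψ` of `C₀`
  have hθP : ∀ x ∈ C₀, θ x ∈ P := fun x hx => isMapOn_mem_of_stronglyClosed hP hθ hC₀P hx
  have hθC₀ : ∀ x ∈ C₀, θ x ∈ C₀ := fun x hx =>
    hΩ1 _ (hθP x hx) (by rw [← isMapOn_map_pow hθ hx, hC₀exp x hx, hθ.map_one])
  obtain ⟨ψ, hψ⟩ := Cfsg.Agent.Lib.Helper2_MetaFusionOdd.exists_aut_of_isMapOn hθ hθC₀
  have hψF : ψ ∈ F.autGroup C₀ :=
    (mem_autGroup_iff F hC₀S ψ).2 (hθ.congr fun x hx => by rw [extFun_apply ψ hx, hψ])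
  -- the element `w = θ z`
  obtain ⟨w, hw⟩ : ∃ w : Ω, w = θ z := ⟨_, rfl⟩
  have hwC₀ : w ∈ C₀ := hw ▸ hθC₀ z hzC₀
  have hwPc : w ∉ Pc P := hw ▸ hθz z hzPc hz1
  have hψinv : IsMapOn F C₀ (extFun ψ⁻¹) := (mem_autGroup_iff F hC₀S ψ⁻¹).1 (inv_mem hψF)
  have hψinvw : extFun ψ⁻¹ w = z := by
    have h1 : w = extFun ψ z := by rw [extFun_apply ψ hzC₀, hψ, hw]
    rw [h1, extFun_inv_apply ψ hzC₀]
  obtain ⟨-, -, -, hwnc, -, -, -⟩ := bad_facts hS hF hP h (hC₀P hwC₀) hwPc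
    (hψinv.mono (zpowers_le.2 hwC₀)) (hψinvw ▸ hzPc)
  -- the elements `y₀`, `y₁` inducing the transvections
  obtain ⟨y₀, hy₀P, hy₀⟩ := exists_conj h (hC₀P hwC₀) hwnc hzPc
  obtain ⟨y₁, hy₁P, hy₁⟩ := exists_conj h huP hnc (inv_mem hzPc)
  have hSN : S ≤ normalizer (C₀ : Set Ω) := by
    apply le_normalizer_of_conj_mem
    intro g hg x hx
    apply hΩ1 _ (stronglyClosed_conj_mem hP hg (hC₀P hx))
    rw [conj_pow, hC₀exp x hx, mul_one, mul_inv_cancel]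
  have hy₀N : y₀ ∈ normalizer (C₀ : Set Ω) := hSN (hPS hy₀P)
  have hy₁N : y₁ ∈ normalizer (C₀ : Set Ω) := hSN (hPS hy₁P)
  obtain ⟨t, ht⟩ : ∃ t : MulAut ↥C₀, t = C₀.normalizerMonoidHom ⟨y₀, hy₀N⟩ := ⟨_, rfl⟩
  obtain ⟨t₁, ht₁⟩ : ∃ t₁ : MulAut ↥C₀, t₁ = C₀.normalizerMonoidHom ⟨y₁, hy₁N⟩ := ⟨_, rfl⟩
  have htval : ∀ c : ↥C₀, ((t c : ↥C₀) : Ω) = y₀ * c * y₀⁻¹ := fun c => by rw [ht]; rfl
  have ht₁val : ∀ c : ↥C₀, ((t₁ c : ↥C₀) : Ω) = y₁ * c * y₁⁻¹ := fun c => by rw [ht₁]; rfl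
  have htS : t ∈ autInducedBy S C₀ :=
    (mem_autInducedBy_iff S C₀ t).2 ⟨y₀, hPS hy₀P, htval⟩
  have htF : t ∈ F.autGroup C₀ := autInducedBy_le_autGroup F hC₀S htS
  have ht₁F : t₁ ∈ F.autGroup C₀ := autInducedBy_le_autGroup F hC₀S
    ((mem_autInducedBy_iff S C₀ t₁).2 ⟨y₁, hPS hy₁P, ht₁val⟩)
  have hsF : ψ * t₁ * ψ⁻¹ ∈ F.autGroup C₀ := mul_mem (mul_mem hψF ht₁F) (inv_mem hψF)
  -- elements of `C₀`
  have hcommC : ∀ a b : ↥C₀, a * b = b * a := fun a b => Subtype.ext (hC₀comm a a.2 b b.2)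
  have hψuu : ψ ⟨u, huC₀⟩ = ⟨z, hzC₀⟩ := Subtype.ext ((hψ _).trans hz.symm)
  have hψzz : ψ ⟨z, hzC₀⟩ = ⟨w, hwC₀⟩ := Subtype.ext ((hψ _).trans hw.symm)
  have hψinvzz : ψ⁻¹ ⟨z, hzC₀⟩ = ⟨u, huC₀⟩ := by rw [← hψuu, MulAut.inv_apply_self]
  have hψinvww : ψ⁻¹ ⟨w, hwC₀⟩ = ⟨z, hzC₀⟩ := by rw [← hψzz, MulAut.inv_apply_self]
  have hconj : ∀ (g : Ω) (_ : g ∈ P) (c : ↥C₀), ∃ k : ℤ, g * c * g⁻¹ = c * z ^ k := by
    intro g hgP c
    have h1 : g * c * g⁻¹ * (c : Ω)⁻¹ ∈ Pc P := comm_mem hgP (hC₀P c.2)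
    rw [hPceq] at h1
    obtain ⟨k, hk⟩ := mem_zpowers_iff.1 h1
    refine ⟨k, ?_⟩
    have h2 : z ^ k ∈ Pc P := zpow_mem hzPc k
    rw [central h h2 (hC₀P c.2), hk]
    group
  have htc : ∀ c : ↥C₀, ∃ k : ℤ, t c = c * (⟨z, hzC₀⟩ : ↥C₀) ^ k := by
    intro c
    obtain ⟨k, hk⟩ := hconj y₀ hy₀P c
    refine ⟨k, Subtype.ext ?_⟩
    rw [htval, hk, Subgroup.coe_mul, Subgroup.coe_zpow]
  have htz : t ⟨z, hzC₀⟩ = ⟨z, hzC₀⟩ := by
    apply Subtype.ext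
    rw [htval]
    show y₀ * z * y₀⁻¹ = z
    rw [central h hzPc hy₀P, mul_inv_cancel_right]
  have htw : t ⟨w, hwC₀⟩ = ⟨w, hwC₀⟩ * ⟨z, hzC₀⟩ := by
    apply Subtype.ext
    rw [htval]
    show y₀ * w * y₀⁻¹ = w * z
    rw [hy₀, hC₀comm z hzC₀ w hwC₀]
  have hsc : ∀ c : ↥C₀, ∃ k : ℤ, (ψ * t₁ * ψ⁻¹) c = c * (⟨w, hwC₀⟩ : ↥C₀) ^ k := by
    intro c
    obtain ⟨k, hk⟩ := hconj y₁ hy₁P (ψ⁻¹ c)
    refine ⟨k, ?_⟩
    have h1 : t₁ (ψ⁻¹ c) = ψ⁻¹ c * (⟨z, hzC₀⟩ : ↥C₀) ^ k := by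
      apply Subtype.ext
      rw [ht₁val, hk, Subgroup.coe_mul, Subgroup.coe_zpow]
    rw [MulAut.mul_apply, MulAut.mul_apply, h1, map_mul, map_zpow, hψzz, MulAut.apply_inv_self]
  have hsw : (ψ * t₁ * ψ⁻¹) ⟨w, hwC₀⟩ = ⟨w, hwC₀⟩ := by
    rw [MulAut.mul_apply, MulAut.mul_apply, hψinvww]
    have h1 : t₁ ⟨z, hzC₀⟩ = ⟨z, hzC₀⟩ := by
      apply Subtype.ext
      rw [ht₁val]
      show y₁ * z * y₁⁻¹ = z
      rw [central h hzPc hy₁P, mul_inv_cancel_right]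
    rw [h1, hψzz]
  have hsz : (ψ * t₁ * ψ⁻¹) ⟨z, hzC₀⟩ = ⟨z, hzC₀⟩ * (⟨w, hwC₀⟩ : ↥C₀)⁻¹ := by
    rw [MulAut.mul_apply, MulAut.mul_apply, hψinvzz]
    have h1 : t₁ ⟨u, huC₀⟩ = (⟨z, hzC₀⟩ : ↥C₀)⁻¹ * ⟨u, huC₀⟩ := by
      apply Subtype.ext
      rw [ht₁val]
      show y₁ * u * y₁⁻¹ = z⁻¹ * u
      exact hy₁
    rw [h1, map_mul, map_inv, hψzz, hψuu, hcommC]
  obtain ⟨hδz, hδt⟩ := word_lemma hcommC t (ψ * t₁ * ψ⁻¹) ⟨z, hzC₀⟩ ⟨w, hwC₀⟩ htc htz htw hsc hsw hsz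
  obtain ⟨δ, hδ⟩ : ∃ δ : MulAut ↥C₀, δ = (t * (ψ * t₁ * ψ⁻¹) * t) ^ 2 := ⟨_, rfl⟩
  rw [← hδ] at hδz hδt
  have hδF : δ ∈ F.autGroup C₀ := by
    rw [hδ]; exact Subgroup.pow_mem _ (mul_mem (mul_mem htF hsF) htF) 2
  -- extend `δ` to `y₀`
  have hC₀fn : F.IsFullyNormalized C₀ := isFullyNormalized_of_normal F hC₀S hSN
  have hC₀r : F.IsReceptive C₀ :=
    Cfsg.Agent.Lib.Helper84_FusionRS.IsSaturated.isReceptive_of_isFullyNormalized hS hF hC₀fn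
  obtain ⟨a, ha, haC⟩ := exists_extension_extender F hC₀r hδF
  have hCE : C₀ ≤ extender S C₀ (autHom δ) := le_extender_autHom hC₀S δ
  have hy₀E : y₀ ∈ extender S C₀ (autHom δ) := by
    apply Cfsg.Agent.Lib.Helper84_FusionEssential.mem_extender_of_conj_mem δ (hPS hy₀P) hy₀N
    have h1 : δ * C₀.normalizerMonoidHom ⟨y₀, hy₀N⟩ * δ⁻¹ = t := by
      rw [← ht, hδt, mul_inv_cancel_right]
    rw [h1]; exact htS
  have hay₀P : a y₀ ∈ P :=
    isMapOn_mem_of_stronglyClosed hP (ha.mono (zpowers_le.2 hy₀E)) (zpowers_le.2 hy₀P)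
      (mem_zpowers y₀)
  have haδ : ∀ c : ↥C₀, a (c : Ω) = ((δ c : ↥C₀) : Ω) := fun c => by
    rw [haC c c.2, extFun_coe]
  -- `y₀⁻¹ a(y₀)` lies in `C₀`
  have hq : y₀⁻¹ * a y₀ ∈ C₀ := by
    rw [hC₀]
    refine ⟨P.mul_mem (P.inv_mem hy₀P) hay₀P, ?_⟩
    show y₀⁻¹ * a y₀ ∈ centralizer ({u} : Set Ω)
    rw [mem_centralizer_singleton_iff]
    obtain ⟨c, hc⟩ : ∃ c : ↥C₀, δ c = ⟨u, huC₀⟩ := ⟨δ⁻¹ ⟨u, huC₀⟩, MulAut.apply_inv_self _ _ _⟩
    have hcE : (c : Ω) ∈ extender S C₀ (autHom δ) := hCE c.2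
    have h1 : a (y₀ * c * y₀⁻¹) = a y₀ * a c * (a y₀)⁻¹ := by
      rw [ha.map_mul (mul_mem hy₀E hcE) (inv_mem hy₀E), ha.map_mul hy₀E hcE, ha.map_inv hy₀E]
    have h2 : a (c : Ω) = u := by rw [haδ, hc]
    have h3 : a (y₀ * c * y₀⁻¹) = y₀ * u * y₀⁻¹ := by
      rw [← htval c, haδ]
      have h4 : δ (t c) = t (δ c) := by
        rw [← MulAut.mul_apply, ← MulAut.mul_apply, hδt]
      rw [h4, hc, htval]
    rw [h3, h2] at h1
    calc y₀⁻¹ * a y₀ * u = y₀⁻¹ * (a y₀ * u * (a y₀)⁻¹) * a y₀ := by group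
      _ = y₀⁻¹ * (y₀ * u * y₀⁻¹) * a y₀ := by rw [h1]
      _ = u * (y₀⁻¹ * a y₀) := by group
  -- `a(y₀)^p = y₀^p`
  have hpow : a y₀ ^ p = y₀ ^ p := by
    have e : a y₀ = y₀ * (y₀⁻¹ * a y₀) := by group
    have h1 := Cfsg.Agent.Lib.Helper87_OddOmega.mul_pow_prime_of_central hpP hp2
      (⟨y₀, hy₀P⟩ : ↥P) ⟨y₀⁻¹ * a y₀, hC₀P hq⟩ (h.le_center (GE.comm_mem _ _))
      (h.le_center (h.pow_mem _))
    have h3 : (y₀ * (y₀⁻¹ * a y₀)) ^ p = y₀ ^ p * (y₀⁻¹ * a y₀) ^ p := congrArg Subtype.val h1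
    rw [e, h3, hC₀exp _ hq, mul_one]
  have hy₀pPc : y₀ ^ p ∈ Pc P := pow_mem h hy₀P
  have h5 : a (y₀ ^ p) = (y₀ ^ p)⁻¹ := by
    have h6 := hy₀pPc
    rw [hPceq] at h6
    obtain ⟨k, hk⟩ := mem_zpowers_iff.1 h6
    have h7 : a (z ^ k) = ((δ ((⟨z, hzC₀⟩ : ↥C₀) ^ k) : ↥C₀) : Ω) := by
      rw [← haδ, Subgroup.coe_zpow]
    rw [← hk, h7, map_zpow, hδz, Subgroup.coe_zpow, Subgroup.coe_inv, inv_zpow]
  have h6 : a (y₀ ^ p) = a y₀ ^ p := isMapOn_map_pow ha hy₀E p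
  have h7 : (y₀ ^ p)⁻¹ = y₀ ^ p := by rw [← h5, h6, hpow]
  have h8 : (y₀ ^ p) ^ 2 = 1 := by
    rw [pow_two]
    nth_rewrite 1 [← h7]
    exact inv_mul_cancel _
  have h9 : (y₀ ^ p) ^ p = 1 := pow_eq_one h hy₀pPc
  have h10 : y₀ ^ p = 1 := by
    have d1 := orderOf_dvd_of_pow_eq_one h8
    have d2 := orderOf_dvd_of_pow_eq_one h9
    have h11 : orderOf (y₀ ^ p) ∣ Nat.gcd 2 p := Nat.dvd_gcd d1 d2
    have hg : Nat.gcd 2 p = 1 := (Nat.coprime_primes Nat.prime_two hpP).2 (Ne.symm hp2)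
    rw [hg, Nat.dvd_one] at h11
    exact orderOf_eq_one_iff.1 h11
  have hy₀C₀ : y₀ ∈ C₀ := hΩ1 y₀ hy₀P h10
  have h12 := hC₀comm y₀ hy₀C₀ w hwC₀
  rw [h12, mul_inv_cancel_right] at hy₀
  apply hz1
  have h13 : z * w = 1 * w := by rw [one_mul]; exact hy₀.symm
  exact mul_right_cancel h13

end Main

/-! ### `P'` is strongly closed and `P` is normal -/

section Final

variable {Ω : Type*} [Group Ω] {S : Subgroup Ω} [Finite S] {p : ℕ} [Fact p.Prime]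
  {F : FusionSystem S} {P : Subgroup Ω}

/-- `P'` is strongly closed in the system. -/
theorem pc_stronglyClosed [Finite P] (hS : IsPGroup p S) (hF : F.IsSaturated p)
    (hP : F.StronglyClosed P) (h : GE p ↥P)
    (h2 : p = 2 → ¬ ∃ (A : Type) (_ : CommGroup A), (∀ a : A, a ^ 2 = 1) ∧
      Nonempty (↥P ≃* DihedralGroup 4 × A))
    (hodd : p ≠ 2 → ¬ ∃ (E : Type) (_ : Group E) (A : Type) (_ : CommGroup A),
      Cfsg.IsExtraspecial p E ∧ Nat.card E = p ^ 3 ∧ Monoid.exponent E = p ∧ (∀ a : A, a ^ p = 1) ∧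
      Nonempty (↥P ≃* E × A)) : F.StronglyClosed (Pc P) := by
  refine ⟨(Pc_le P).trans hP.1, ?_⟩
  intro R hR φ hφ x
  by_contra hx
  have hRP : R ≤ P := hR.trans (Pc_le P)
  have hyP : φ x ∈ P := hP.2 R hRP φ hφ x
  obtain ⟨ψ, hψ, hψφ⟩ := F.inv_mem hφ
  have hle : zpowers (φ x) ≤ φ.range := zpowers_le.2 ⟨x, rfl⟩
  have hf : IsMapOn F (zpowers (φ x)) (extHom ψ) := (isMapOn_extHom F hψ).mono hle
  have hfy : extHom ψ (φ x) = x := by
    rw [extHom_apply ψ ⟨x, rfl⟩]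
    exact hψφ x
  exact no_bad hS hF hP h h2 hodd hyP hx hf (hfy ▸ hR x.2)

/-- the chain `1 ≤ P' ≤ P ≤ Ω` -/
def chain4 (P : Subgroup Ω) : ℕ → Subgroup Ω
  | 0 => ⊥
  | 1 => Pc P
  | 2 => P
  | _ => ⊤

/-- `P` lies in every centric radical subgroup. -/
theorem le_of_cr [Finite P] (hS : IsPGroup p S) (hF : F.IsSaturated p)
    (hP : F.StronglyClosed P) (h : GE p ↥P)
    (h2 : p = 2 → ¬ ∃ (A : Type) (_ : CommGroup A), (∀ a : A, a ^ 2 = 1) ∧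
      Nonempty (↥P ≃* DihedralGroup 4 × A))
    (hodd : p ≠ 2 → ¬ ∃ (E : Type) (_ : Group E) (A : Type) (_ : CommGroup A),
      Cfsg.IsExtraspecial p E ∧ Nat.card E = p ^ 3 ∧ Monoid.exponent E = p ∧ (∀ a : A, a ^ p = 1) ∧
      Nonempty (↥P ≃* E × A))
    (R : Subgroup Ω) (hRc : F.IsCentric R) (hRrad : F.IsRadical p R) : P ≤ R := by
  have hPS : P ≤ S := hP.1
  have hRS : R ≤ S := hRc.1
  have hPc := pc_stronglyClosed hS hF hP h h2 hodd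
  by_contra hnle
  have hRnP : R ≤ Subgroup.normalizer (P : Set Ω) := hRS.trans (stronglyClosed_le_normalizer hP)
  obtain ⟨g, hgP, hgN, hgR⟩ := exists_mem_normalizer_not_mem hS hRS hPS hRnP hnle
  apply hgR
  refine mem_of_stabilizes_chain hS F hRc hRrad (chain4 P) 3 rfl le_top ?_ g (hPS hgP) hgN ?_
  · intro j hj α hα x hx
    interval_cases j
    · have h1 : (x : Ω) = 1 := hx
      have h2 : x = 1 := Subtype.ext h1
      rw [h2, map_one]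
      exact (⊥ : Subgroup Ω).one_mem
    · exact stronglyClosed_aut_mem hPc hRS hα x hx
    · exact stronglyClosed_aut_mem hP hRS hα x hx
    · exact mem_top _
  · intro j hj x hxR hx
    interval_cases j
    · show x⁻¹ * (g * x * g⁻¹) ∈ (⊥ : Subgroup Ω)
      have hx' : x ∈ Pc P := hx
      rw [mem_bot, central h hx' hgP, mul_inv_cancel_right, inv_mul_cancel]
    · show x⁻¹ * (g * x * g⁻¹) ∈ Pc P
      have hx' : x ∈ P := hx
      have h1 := comm_mem (P.inv_mem hx') hgP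
      rw [inv_inv] at h1
      have e : x⁻¹ * (g * x * g⁻¹) = x⁻¹ * g * x * g⁻¹ := by group
      rw [e]
      exact h1
    · show x⁻¹ * (g * x * g⁻¹) ∈ P
      have h1 : x⁻¹ * g * x⁻¹⁻¹ ∈ P := stronglyClosed_conj_mem hP (S.inv_mem (hRS hxR)) hgP
      have e : x⁻¹ * (g * x * g⁻¹) = (x⁻¹ * g * x⁻¹⁻¹) * g⁻¹ := by group
      rw [e]
      exact P.mul_mem h1 (P.inv_mem hgP)

/-- **Strongly closed generalized extraspecial subgroups are normal**, apart from the groups `D₈ × A` and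
`p^{1+2}_+ × A`. -/
theorem isNormal_of_genExtra (hS : IsPGroup p S) (hF : F.IsSaturated p)
    (hP : F.StronglyClosed P)
    (hge : frattini ↥P = commutator ↥P ∧ Nat.card ↥(commutator ↥P) = p)
    (h2 : p = 2 → ¬ ∃ (A : Type) (_ : CommGroup A), (∀ a : A, a ^ 2 = 1) ∧
      Nonempty (↥P ≃* DihedralGroup 4 × A))
    (hodd : p ≠ 2 → ¬ ∃ (E : Type) (_ : Group E) (A : Type) (_ : CommGroup A),
      Cfsg.IsExtraspecial p E ∧ Nat.card E = p ^ 3 ∧ Monoid.exponent E = p ∧ (∀ a : A, a ^ p = 1) ∧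
      Nonempty (↥P ≃* E × A)) : F.IsNormal P := by
  have hPS : P ≤ S := hP.1
  have hPfin : Finite ↥P := Finite.of_injective _ (Subgroup.inclusion_injective hPS)
  have h : GE p ↥P := ⟨hS.to_le hPS, hge.1, hge.2⟩
  exact isNormal_of_le_frc F hS hF hP
    (fun R _ _ hRc hRrad => le_of_cr hS hF hP h h2 hodd R hRc hRrad)

end Final

end Cfsg.Agent.Lib.Helper2_GenExtraFusion
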