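import Mathlib
import Cfsg.Prelude.Def_Solvable
import Cfsg.Prelude.Def_CaseTheorems
import Cfsg.Agent.Lib.Helper84_TutteDefs
import Cfsg.Agent.Lib.Helper84_TutteAPI

/-!
S4385 package T-B (architect helper84, market `tutte_packages`): paper (B).  In a Tutte system with
`lam ≤ s - 2`, the commutator `c = [x_0, x_lam]` lies in `X[mu, nu]` with
`s - 1 - lam ≤ mu ≤ nu ≤ 2 lam - s + 1` (given package T-D as the hypothesis `hD`).
-/

set_option autoImplicit false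
set_option linter.unusedVariables false
set_option linter.style.haveILetI false

open scoped commutatorElement
open Cfsg.Agent.Lib.Helper84_TutteDefs

namespace Cfsg.Agent.Lib.Helper2_Tutte_TB

variable {G : Type*} [Group G] {H : Subgroup G} {g x0 : G} {s lam : ℕ}

/-- if `y` commutes with `c` and with `r = a * c`, it commutes with `a` -/
theorem commute_of_mul_left {y a c r : G} (hr : a * c = r) (hyr : y * r = r * y) (hyc : y * c = c * y) :
    y * a = a * y := by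
  have h1 : Commute y r := hyr
  have h2 : Commute y c := hyc
  have h3 : a = r * c⁻¹ := by rw [← hr]; group
  rw [h3]; exact (h1.mul_right h2.inv_right).eq

/-- if `y` commutes with `c` and with `r = c * a`, it commutes with `a` -/
theorem commute_of_mul_right {y a c r : G} (hr : c * a = r) (hyr : y * r = r * y) (hyc : y * c = c * y) :
    y * a = a * y := by
  have h1 : Commute y r := hyr
  have h2 : Commute y c := hyc
  have h3 : a = c⁻¹ * r := by rw [← hr]; group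
  rw [h3]; exact (h2.inv_right.mul_right h1).eq

/-- T-B (L), paper (B). -/
theorem lam_ge_B (h : TSys H g x0 s) (hl : IsLam g x0 lam) (hls : lam + 2 ≤ s)
    (hD : ∀ j : ℕ, 1 ≤ j → j + 1 ≤ lam → lam + j + 2 ≤ s →
      xs g x0 ((lam : ℤ) + j) * ⁅xs g x0 0, xs g x0 lam⁆ = ⁅xs g x0 0, xs g x0 lam⁆ * xs g x0 ((lam : ℤ) + j) ∧
      xs g x0 (-(j : ℤ)) * ⁅xs g x0 0, xs g x0 lam⁆ = ⁅xs g x0 0, xs g x0 lam⁆ * xs g x0 (-(j : ℤ))) :
    ∃ mu nu : ℤ, 1 ≤ mu ∧ mu ≤ nu ∧ nu ≤ (lam : ℤ) - 1 ∧ (s : ℤ) - 1 - lam ≤ mu ∧ nu ≤ 2 * (lam : ℤ) - s + 1 ∧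
      ⁅xs g x0 0, xs g x0 lam⁆ ∈ XX g x0 mu nu := by
  classical
  have hlpos := hl.pos
  have hc1 : ⁅xs g x0 0, xs g x0 lam⁆ ≠ 1 := hl.ne
  have hc_mem : ⁅xs g x0 0, xs g x0 lam⁆ ∈ XX g x0 1 ((lam : ℤ) - 1) := by
    have := h.comm_mem (i := 0) (j := (lam : ℤ)) (by omega) (by omega)
    rwa [zero_add] at this
  generalize ⁅xs g x0 0, xs g x0 lam⁆ = c at *
  -- `mu`
  have hex : ∃ j : ℕ, c ∉ XX g x0 ((j : ℤ) + 1) ((lam : ℤ) - 1) := by
    refine ⟨lam, ?_⟩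
    rw [XX_eq_bot (by omega), Subgroup.mem_bot]
    exact hc1
  obtain ⟨jm, hjm, hjmin⟩ : ∃ j : ℕ, c ∉ XX g x0 ((j : ℤ) + 1) ((lam : ℤ) - 1) ∧
      ∀ m < j, c ∈ XX g x0 ((m : ℤ) + 1) ((lam : ℤ) - 1) := by
    refine ⟨Nat.find hex, Nat.find_spec hex, ?_⟩
    intro m hm
    have := Nat.find_min hex hm
    exact not_not.mp this
  have hjm1 : 1 ≤ jm := by
    rcases Nat.eq_zero_or_pos jm with h0 | h0
    · exfalso
      rw [h0] at hjm
      apply hjm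
      simpa using hc_mem
    · exact h0
  have hmu_mem : c ∈ XX g x0 (jm : ℤ) ((lam : ℤ) - 1) := by
    obtain ⟨m, rfl⟩ : ∃ m, jm = m + 1 := ⟨jm - 1, by omega⟩
    have := hjmin m (by omega)
    rwa [Nat.cast_succ]
  have hmu_le : (jm : ℤ) ≤ (lam : ℤ) - 1 := by
    by_contra hlt
    rw [XX_eq_bot (by omega), Subgroup.mem_bot] at hmu_mem
    exact hc1 hmu_mem
  -- `x_(lam + mu)` does not commute with `c`
  have hr : xs g x0 (jm : ℤ) * c ∈ XX g x0 ((jm : ℤ) + 1) ((lam : ℤ) - 1) := by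
    rcases h.mem_or_mul_mem_left (i := (jm : ℤ)) (j := (lam : ℤ) - 1) hmu_le (by omega) hmu_mem with h1 | h1
    · exact absurd h1 hjm
    · exact h1
  have hnc1 : ¬ (xs g x0 ((lam : ℤ) + jm) * c = c * xs g x0 ((lam : ℤ) + jm)) := by
    intro hyc
    have hyr : xs g x0 ((lam : ℤ) + jm) * (xs g x0 (jm : ℤ) * c) =
        (xs g x0 (jm : ℤ) * c) * xs g x0 ((lam : ℤ) + jm) := by
      refine commute_XX ?_ hr
      intro l h1 h2
      exact hl.commute (abs_lt.mpr ⟨by omega, by omega⟩)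
    have h3 := commute_of_mul_left rfl hyr hyc
    have h4 := hl.not_commute (g := g) (x0 := x0) (jm : ℤ)
    rw [add_comm (jm : ℤ) (lam : ℤ)] at h4
    exact h4 h3.symm
  have hmu_ge : (s : ℤ) - 1 - lam ≤ (jm : ℤ) := by
    by_contra hlt
    exact hnc1 (hD jm hjm1 (by omega) (by omega)).1
  -- `nu`
  have hex2 : ∃ k : ℕ, c ∈ XX g x0 (jm : ℤ) ((jm : ℤ) + k) := by
    refine ⟨((lam : ℤ) - 1 - jm).toNat, ?_⟩
    have : (jm : ℤ) + (((lam : ℤ) - 1 - jm).toNat : ℤ) = (lam : ℤ) - 1 := by omega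
    rwa [this]
  obtain ⟨k, hk, hkmin, hkle⟩ : ∃ k : ℕ, c ∈ XX g x0 (jm : ℤ) ((jm : ℤ) + k) ∧
      (∀ m < k, c ∉ XX g x0 (jm : ℤ) ((jm : ℤ) + m)) ∧ (jm : ℤ) + k ≤ (lam : ℤ) - 1 := by
    refine ⟨Nat.find hex2, Nat.find_spec hex2, fun m hm => Nat.find_min hex2 hm, ?_⟩
    have := Nat.find_min' hex2 (m := ((lam : ℤ) - 1 - jm).toNat) (by
      have : (jm : ℤ) + (((lam : ℤ) - 1 - jm).toNat : ℤ) = (lam : ℤ) - 1 := by omega
      rwa [this])
    omega
  have hnu_not : c ∉ XX g x0 (jm : ℤ) ((jm : ℤ) + k - 1) := by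
    rcases Nat.eq_zero_or_pos k with h0 | h0
    · rw [h0, XX_eq_bot (by simp), Subgroup.mem_bot]
      exact hc1
    · obtain ⟨m, rfl⟩ : ∃ m, k = m + 1 := ⟨k - 1, by omega⟩
      have := hkmin m (by omega)
      have e : (jm : ℤ) + ((m + 1 : ℕ) : ℤ) - 1 = (jm : ℤ) + m := by push_cast; ring
      rwa [e]
  have hr2 : c * xs g x0 ((jm : ℤ) + k) ∈ XX g x0 (jm : ℤ) ((jm : ℤ) + k - 1) := by
    rcases h.mem_or_mul_mem_right (i := (jm : ℤ)) (j := (jm : ℤ) + k) (by omega) (by omega) hk with h1 | h1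
    · exact absurd h1 hnu_not
    · exact h1
  -- `j' = lam - nu`
  obtain ⟨j', hj'⟩ : ∃ j' : ℕ, (j' : ℤ) = (lam : ℤ) - ((jm : ℤ) + k) := ⟨((lam : ℤ) - ((jm : ℤ) + k)).toNat, by omega⟩
  have hnc2 : ¬ (xs g x0 (-(j' : ℤ)) * c = c * xs g x0 (-(j' : ℤ))) := by
    intro hyc
    have hyr : xs g x0 (-(j' : ℤ)) * (c * xs g x0 ((jm : ℤ) + k)) =
        (c * xs g x0 ((jm : ℤ) + k)) * xs g x0 (-(j' : ℤ)) := by
      refine commute_XX ?_ hr2
      intro l h1 h2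
      exact hl.commute (abs_lt.mpr ⟨by omega, by omega⟩)
    have h3 := commute_of_mul_right rfl hyr hyc
    have h4 := hl.not_commute (g := g) (x0 := x0) (-(j' : ℤ))
    have e : -(j' : ℤ) + (lam : ℤ) = (jm : ℤ) + k := by omega
    rw [e] at h4
    exact h4 h3
  have hnu_le : (jm : ℤ) + k ≤ 2 * (lam : ℤ) - s + 1 := by
    by_contra hlt
    exact hnc2 (hD j' (by omega) (by omega) (by omega)).2
  exact ⟨(jm : ℤ), (jm : ℤ) + k, by omega, by omega, hkle, hmu_ge, hnu_le, hk⟩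

end Cfsg.Agent.Lib.Helper2_Tutte_TB
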