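import Mathlib
import Cfsg.Agent.Lib.Helper84_TutteDefs
import Cfsg.Agent.Lib.Helper84_TutteAPI
import Cfsg.Agent.Lib.Helper84_GlDefs
import Cfsg.Agent.Lib.Helper84_GlAPI
import Cfsg.Agent.Lib.Helper2_Tutte_TB

/-!
S4359 package G-B (architect helper84, market `gl_packages`): paper (B), the `p`-version of `Helper2_Tutte_TB.lam_ge_B`.
-/

set_option autoImplicit false
set_option linter.unusedVariables false
set_option linter.style.haveILetI false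

open scoped commutatorElement
open Cfsg.Agent.Lib.Helper84_TutteDefs Cfsg.Agent.Lib.Helper84_GlDefs

namespace Cfsg.Agent.Lib.Helper2_Gl_GB

variable {G : Type*} [Group G] {P : Subgroup G} {g x0 : G} {p t lam : ℕ}

/-- G-B (L), paper (B). -/
theorem lam_B (h : PSys P g x0 p t) (hl : IsLam g x0 lam) (hlt : lam + 1 ≤ t)
    (hD : ∀ j : ℕ, 1 ≤ j → j + 1 ≤ lam → lam + j + 1 ≤ t →
      xs g x0 ((lam : ℤ) + j) * ⁅xs g x0 0, xs g x0 lam⁆ = ⁅xs g x0 0, xs g x0 lam⁆ * xs g x0 ((lam : ℤ) + j) ∧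
      xs g x0 (-(j : ℤ)) * ⁅xs g x0 0, xs g x0 lam⁆ = ⁅xs g x0 0, xs g x0 lam⁆ * xs g x0 (-(j : ℤ))) :
    2 * t ≤ 3 * lam := by
  classical
  have hlpos := hl.pos
  have hc1 : ⁅xs g x0 0, xs g x0 lam⁆ ≠ 1 := hl.ne
  have hc_mem : ⁅xs g x0 0, xs g x0 lam⁆ ∈ XX g x0 1 ((lam : ℤ) - 1) := by
    have := h.comm_mem (i := 0) (j := (lam : ℤ)) (by omega) (by omega)
    rwa [zero_add] at this
  generalize ⁅xs g x0 0, xs g x0 lam⁆ = c at *
  -- `mu`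
  have hex : ∃ j : ℕ, c ∉ XX g x0 ((j : ℤ) + 1) ((lam : ℤ) - 1) := by
    refine ⟨lam, ?_⟩
    rw [XX_eq_bot (by omega), Subgroup.mem_bot]
    exact hc1
  obtain ⟨jm, hjm, hjmin⟩ : ∃ j : ℕ, c ∉ XX g x0 ((j : ℤ) + 1) ((lam : ℤ) - 1) ∧
      ∀ m < j, c ∈ XX g x0 ((m : ℤ) + 1) ((lam : ℤ) - 1) := by
    refine ⟨Nat.find hex, Nat.find_spec hex, ?_⟩
    intro m hm
    have := Nat.find_min hex hm
    exact not_not.mp this
  have hjm1 : 1 ≤ jm := by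
    rcases Nat.eq_zero_or_pos jm with h0 | h0
    · exfalso
      rw [h0] at hjm
      apply hjm
      simpa using hc_mem
    · exact h0
  have hmu_mem : c ∈ XX g x0 (jm : ℤ) ((lam : ℤ) - 1) := by
    obtain ⟨m, rfl⟩ : ∃ m, jm = m + 1 := ⟨jm - 1, by omega⟩
    have := hjmin m (by omega)
    rwa [Nat.cast_succ]
  have hmu_le : (jm : ℤ) ≤ (lam : ℤ) - 1 := by
    by_contra hlt'
    rw [XX_eq_bot (by omega), Subgroup.mem_bot] at hmu_mem
    exact hc1 hmu_mem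
  -- `x_(lam + mu)` does not commute with `c`
  obtain ⟨a, hr⟩ := h.exists_zpow_mul_mem_left (i := (jm : ℤ)) (j := (lam : ℤ) - 1) hmu_le (by omega) hmu_mem
  have hpa : ¬ (p : ℤ) ∣ a := by
    intro hdvd
    rw [h.xs_zpow_of_dvd _ hdvd, one_mul] at hr
    exact hjm hr
  have hnc1 : ¬ (xs g x0 ((lam : ℤ) + jm) * c = c * xs g x0 ((lam : ℤ) + jm)) := by
    intro hyc
    have hyr : xs g x0 ((lam : ℤ) + jm) * (xs g x0 (jm : ℤ) ^ a * c) =
        (xs g x0 (jm : ℤ) ^ a * c) * xs g x0 ((lam : ℤ) + jm) := by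
      refine commute_XX ?_ hr
      intro l h1 h2
      exact hl.commute (abs_lt.mpr ⟨by omega, by omega⟩)
    have h3 := Cfsg.Agent.Lib.Helper2_Tutte_TB.commute_of_mul_left rfl hyr hyc
    have h3' := commute_of_commute_zpow h.prime (h.xs_pow (jm : ℤ)) hpa h3
    have h4 := hl.not_commute (g := g) (x0 := x0) (jm : ℤ)
    rw [add_comm (jm : ℤ) (lam : ℤ)] at h4
    exact h4 h3'.symm
  have hmu_ge : (t : ℤ) - lam ≤ (jm : ℤ) := by
    by_contra hlt'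
    exact hnc1 (hD jm hjm1 (by omega) (by omega)).1
  -- `nu`
  have hex2 : ∃ k : ℕ, c ∈ XX g x0 (jm : ℤ) ((jm : ℤ) + k) := by
    refine ⟨((lam : ℤ) - 1 - jm).toNat, ?_⟩
    have : (jm : ℤ) + (((lam : ℤ) - 1 - jm).toNat : ℤ) = (lam : ℤ) - 1 := by omega
    rwa [this]
  obtain ⟨k, hk, hkmin, hkle⟩ : ∃ k : ℕ, c ∈ XX g x0 (jm : ℤ) ((jm : ℤ) + k) ∧
      (∀ m < k, c ∉ XX g x0 (jm : ℤ) ((jm : ℤ) + m)) ∧ (jm : ℤ) + k ≤ (lam : ℤ) - 1 := by
    refine ⟨Nat.find hex2, Nat.find_spec hex2, fun m hm => Nat.find_min hex2 hm, ?_⟩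
    have := Nat.find_min' hex2 (m := ((lam : ℤ) - 1 - jm).toNat) (by
      have : (jm : ℤ) + (((lam : ℤ) - 1 - jm).toNat : ℤ) = (lam : ℤ) - 1 := by omega
      rwa [this])
    omega
  have hnu_not : c ∉ XX g x0 (jm : ℤ) ((jm : ℤ) + k - 1) := by
    rcases Nat.eq_zero_or_pos k with h0 | h0
    · rw [h0, XX_eq_bot (by simp), Subgroup.mem_bot]
      exact hc1
    · obtain ⟨m, rfl⟩ : ∃ m, k = m + 1 := ⟨k - 1, by omega⟩
      have := hkmin m (by omega)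
      have e : (jm : ℤ) + ((m + 1 : ℕ) : ℤ) - 1 = (jm : ℤ) + m := by push_cast; ring
      rwa [e]
  obtain ⟨b, hr2⟩ := h.exists_mul_zpow_mem_right (i := (jm : ℤ)) (j := (jm : ℤ) + k) (by omega) (by omega) hk
  have hpb : ¬ (p : ℤ) ∣ b := by
    intro hdvd
    rw [h.xs_zpow_of_dvd _ hdvd, mul_one] at hr2
    exact hnu_not hr2
  -- `j' = lam - nu`
  obtain ⟨j', hj'⟩ : ∃ j' : ℕ, (j' : ℤ) = (lam : ℤ) - ((jm : ℤ) + k) := ⟨((lam : ℤ) - ((jm : ℤ) + k)).toNat, by omega⟩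
  have hnc2 : ¬ (xs g x0 (-(j' : ℤ)) * c = c * xs g x0 (-(j' : ℤ))) := by
    intro hyc
    have hyr : xs g x0 (-(j' : ℤ)) * (c * xs g x0 ((jm : ℤ) + k) ^ b) =
        (c * xs g x0 ((jm : ℤ) + k) ^ b) * xs g x0 (-(j' : ℤ)) := by
      refine commute_XX ?_ hr2
      intro l h1 h2
      exact hl.commute (abs_lt.mpr ⟨by omega, by omega⟩)
    have h3 := Cfsg.Agent.Lib.Helper2_Tutte_TB.commute_of_mul_right rfl hyr hyc
    have h3' := commute_of_commute_zpow h.prime (h.xs_pow ((jm : ℤ) + k)) hpb h3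
    have h4 := hl.not_commute (g := g) (x0 := x0) (-(j' : ℤ))
    have e : -(j' : ℤ) + (lam : ℤ) = (jm : ℤ) + k := by omega
    rw [e] at h4
    exact h4 h3'
  have hnu_le : (jm : ℤ) + k ≤ 2 * (lam : ℤ) - t := by
    by_contra hlt'
    exact hnc2 (hD j' (by omega) (by omega) (by omega)).2
  omega

end Cfsg.Agent.Lib.Helper2_Gl_GB
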