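import Mathlib
import Cfsg.Agent.Lib.Helper84_TutteDefs
import Cfsg.Agent.Lib.Helper84_TutteAPI
import Cfsg.Agent.Lib.Helper84_GlDefs
import Cfsg.Agent.Lib.Helper84_GlAPI
import Cfsg.Agent.Lib.Helper31_Tutte_C_RS

/-!
S4359 package GC-IDX (architect helper84, market `gl_packages`): paper (1.1)-(1.3), the indices of the chain
`R_k = RI P g 0 k` are `p` (first) and `1` or `p` (all).
-/

set_option autoImplicit false
set_option linter.unusedVariables false
set_option linter.style.haveILetI false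

open scoped commutatorElement
open Cfsg.Agent.Lib.Helper84_TutteDefs Cfsg.Agent.Lib.Helper84_GlDefs Cfsg.Agent.Lib.Helper31_Tutte_C_RS

namespace Cfsg.Agent.Lib.Helper2_Gl_GCIDX

variable {G : Type*} [Group G] {P : Subgroup G} {g x0 : G} {p t lam : ℕ}

/-- two subgroups of the same finite order have the same index in a common overgroup -/
theorem relIndex_eq_of_card_eq {U U' V : Subgroup G} [Finite V] (hU : U ≤ V) (hU' : U' ≤ V)
    (hc : Nat.card U = Nat.card U') : U.relIndex V = U'.relIndex V := by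
  have h1 := card_mul_relIndex' hU
  have h2 := card_mul_relIndex' hU'
  have hfin : Finite U := Finite.of_injective (Subgroup.inclusion hU) (Subgroup.inclusion_injective hU)
  have hpos : 0 < Nat.card U := Nat.card_pos
  rw [← hc, ← h1] at h2
  exact (Nat.eq_of_mul_eq_mul_left hpos h2).symm

/-- GC-IDX (M/L), paper (1.1)-(1.3). -/
theorem pchain_index (hc : PChainHyp P g p) :
    (RI P g 0 1).relIndex (RI P g 0 0) = p ∧
    ∀ k : ℕ, (RI P g 0 ((k : ℤ) + 1)).relIndex (RI P g 0 k) = 1 ∨ (RI P g 0 ((k : ℤ) + 1)).relIndex (RI P g 0 k) = p := by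
  haveI := hc.fin
  have hp := hc.prime
  -- `N = cj g⁻¹ (P ⊓ cj g P) = cj g⁻¹ P ⊓ P = RI (-1) 0`
  have hNeq : cj g⁻¹ (P ⊓ cj g P) = cj g⁻¹ P ⊓ P := by
    rw [cj_inf, cj_cj, inv_mul_cancel, cj_one]
  have hNle : cj g⁻¹ (P ⊓ cj g P) ≤ P := by rw [hNeq]; exact inf_le_right
  have hcardP : Nat.card (cj g P) = Nat.card P := card_cj g P
  haveI : Finite (cj g P) := Nat.finite_of_card_ne_zero (by rw [hcardP]; exact Nat.card_pos.ne')
  -- index of `P ⊓ cj g P` in `P`
  have hidxP : (P ⊓ cj g P).relIndex P = p := by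
    have h1 := card_mul_relIndex' (inf_le_left : P ⊓ cj g P ≤ P)
    have h2 := card_mul_relIndex' (inf_le_right : P ⊓ cj g P ≤ cj g P)
    rw [hc.idx, hcardP, ← h1] at h2
    have hfin : Finite (P ⊓ cj g P : Subgroup G) :=
      Finite.of_injective (Subgroup.inclusion (inf_le_left : P ⊓ cj g P ≤ P)) (Subgroup.inclusion_injective _)
    have hpos : 0 < Nat.card (P ⊓ cj g P : Subgroup G) := Nat.card_pos
    exact (Nat.eq_of_mul_eq_mul_left hpos h2).symm
  -- index of `N` in `P`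
  have hidxN : (cj g⁻¹ (P ⊓ cj g P)).relIndex P = p := by
    rw [← hidxP]
    exact relIndex_eq_of_card_eq hNle inf_le_left (card_cj _ _)
  -- `N` is normal in `P`
  have hNnorm : ((cj g⁻¹ (P ⊓ cj g P)).subgroupOf P).Normal := by
    have hconj : ∀ u ∈ P, cj u (cj g⁻¹ (P ⊓ cj g P)) = cj g⁻¹ (P ⊓ cj g P) := by
      intro u hu
      have h1 := hc.nrm (g * u * g⁻¹) (conj_mem_cj hu)
      have h2 : cj u (cj g⁻¹ (P ⊓ cj g P)) = cj g⁻¹ (cj (g * u * g⁻¹) (P ⊓ cj g P)) := by
        rw [cj_cj, cj_cj]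
        congr 1
        group
      rw [h2, h1]
    constructor
    intro n hn u
    rw [Subgroup.mem_subgroupOf] at hn ⊢
    have h1 : (u : G) * (n : G) * (u : G)⁻¹ ∈ cj (u : G) (cj g⁻¹ (P ⊓ cj g P)) := conj_mem_cj hn
    rw [hconj u u.2] at h1
    simpa using h1
  refine ⟨?_, ?_⟩
  · rw [RI_zero, RI_zero_one]
    exact hidxP
  · intro k
    have hk0 : (0 : ℤ) ≤ k := Int.natCast_nonneg k
    have hAle : RI P g 0 k ≤ P := by
      have := RI_anti (H := P) (g := g) (i := 0) (j := 0) (i' := 0) (j' := (k : ℤ)) le_rfl hk0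
      rwa [RI_zero] at this
    haveI : Finite (RI P g 0 k) :=
      Finite.of_injective (Subgroup.inclusion hAle) (Subgroup.inclusion_injective _)
    -- `RI 0 (k+1)` has the order of `RI (-1) k`
    have hcard : Nat.card (RI P g 0 ((k : ℤ) + 1)) = Nat.card (RI P g (-1) k) := by
      have h1 := cj_RI (H := P) (g := g) (-1) (k : ℤ)
      rw [show (-1 : ℤ) + 1 = 0 by norm_num] at h1
      rw [← h1, card_cj]
    have hrel : (RI P g 0 ((k : ℤ) + 1)).relIndex (RI P g 0 k) = (RI P g (-1) k).relIndex (RI P g 0 k) :=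
      relIndex_eq_of_card_eq (RI_anti le_rfl (by omega)) (RI_anti (by omega) le_rfl) hcard
    -- `RI (-1) k = N ⊓ RI 0 k`
    have hinf : RI P g (-1) k = cj g⁻¹ (P ⊓ cj g P) ⊓ RI P g 0 k := by
      have h1 := RI_inf (H := P) (g := g) (i := -1) (j := 0) (i' := 0) (j' := (k : ℤ)) (by omega) (by omega) hk0
      have h2 : RI P g (-1) 0 = cj g⁻¹ (P ⊓ cj g P) := by
        have h3 := cj_zpow_RI (H := P) (g := g) (-1) 0 1
        rw [zpow_neg, zpow_one, RI_zero_one] at h3
        rw [h3]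
        norm_num
      rw [← h1, h2]
    rw [hrel, hinf, Subgroup.inf_relIndex_right]
    -- `N.relIndex A ∣ p`
    have hdvd : (cj g⁻¹ (P ⊓ cj g P)).relIndex (RI P g 0 k) ∣ p := by
      haveI := hNnorm
      have h1 := Subgroup.relIndex_dvd_index_of_normal ((cj g⁻¹ (P ⊓ cj g P)).subgroupOf P)
        ((RI P g 0 k).subgroupOf P)
      rw [Subgroup.relIndex_subgroupOf hAle] at h1
      have h2 : ((cj g⁻¹ (P ⊓ cj g P)).subgroupOf P).index = p := hidxN
      rwa [h2] at h1
    exact (Nat.dvd_prime hp).mp hdvd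

end Cfsg.Agent.Lib.Helper2_Gl_GCIDX
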