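import Mathlib
import Cfsg.Prelude.Def_Solvable
import Cfsg.Prelude.Def_CaseTheorems
import Cfsg.Agent.Lib.Helper84_TutteDefs
import Cfsg.Agent.Lib.Helper84_TutteAPI

/-!
S4385 package T-D (architect helper84, market `tutte_packages`): paper (D).  In a Tutte system with
`lam ≤ s - 2`, the elements `x_(lam+j)` and `x_(-j)` commute with `c = [x_0, x_lam]` for
`1 ≤ j ≤ min (lam - 1) (s - 2 - lam)`.
-/

set_option autoImplicit false
set_option linter.unusedVariables false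
set_option linter.style.haveILetI false

open scoped commutatorElement
open Cfsg.Agent.Lib.Helper84_TutteDefs

namespace Cfsg.Agent.Lib.Helper2_Tutte_TD

variable {G : Type*} [Group G] {H : Subgroup G} {g x0 : G} {s lam : ℕ}

/-- conjugation formula, first form: `y a y⁻¹ = d a`, `y` commutes with `b`, `d` commutes with `b` and `[a,b]` -/
theorem comm_conj_left {a b y d : G} (hya : y * a * y⁻¹ = d * a) (hyb : y * b = b * y)
    (hdb : d * b = b * d) (hdc : d * ⁅a, b⁆ = ⁅a, b⁆ * d) : y * ⁅a, b⁆ = ⁅a, b⁆ * y := by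
  have hyb' : y * b * y⁻¹ = b := by rw [hyb]; group
  have h1 : y * ⁅a, b⁆ * y⁻¹ = ⁅y * a * y⁻¹, y * b * y⁻¹⁆ := by
    simp only [commutatorElement_def]; group
  have h3 : d⁻¹ * b⁻¹ = b⁻¹ * d⁻¹ := by rw [← mul_inv_rev, ← mul_inv_rev, hdb]
  have h2 : ⁅d * a, b⁆ = d * ⁅a, b⁆ * d⁻¹ := by
    simp only [commutatorElement_def, mul_inv_rev]
    calc d * a * b * (a⁻¹ * d⁻¹) * b⁻¹ = d * a * b * a⁻¹ * (d⁻¹ * b⁻¹) := by group
      _ = d * a * b * a⁻¹ * (b⁻¹ * d⁻¹) := by rw [h3]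
      _ = d * (a * b * a⁻¹ * b⁻¹) * d⁻¹ := by group
  have h4 : y * ⁅a, b⁆ * y⁻¹ = ⁅a, b⁆ := by
    rw [h1, hya, hyb', h2, hdc]; group
  calc y * ⁅a, b⁆ = (y * ⁅a, b⁆ * y⁻¹) * y := by group
    _ = ⁅a, b⁆ * y := by rw [h4]

/-- conjugation formula, second form: `y b y⁻¹ = d b`, `y` commutes with `a`, `d` commutes with `a` and `[a,b]` -/
theorem comm_conj_right {a b y d : G} (hyb : y * b * y⁻¹ = d * b) (hya : y * a = a * y)
    (hda : d * a = a * d) (hdc : d * ⁅a, b⁆ = ⁅a, b⁆ * d) : y * ⁅a, b⁆ = ⁅a, b⁆ * y := by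
  have hya' : y * a * y⁻¹ = a := by rw [hya]; group
  have h1 : y * ⁅a, b⁆ * y⁻¹ = ⁅y * a * y⁻¹, y * b * y⁻¹⁆ := by
    simp only [commutatorElement_def]; group
  have h2 : ⁅a, d * b⁆ = d * ⁅a, b⁆ * d⁻¹ := by
    simp only [commutatorElement_def, mul_inv_rev]
    calc a * (d * b) * a⁻¹ * (b⁻¹ * d⁻¹) = (a * d) * b * a⁻¹ * b⁻¹ * d⁻¹ := by group
      _ = (d * a) * b * a⁻¹ * b⁻¹ * d⁻¹ := by rw [hda]
      _ = d * (a * b * a⁻¹ * b⁻¹) * d⁻¹ := by group
  have h4 : y * ⁅a, b⁆ * y⁻¹ = ⁅a, b⁆ := by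
    rw [h1, hya', hyb, h2, hdc]; group
  calc y * ⁅a, b⁆ = (y * ⁅a, b⁆ * y⁻¹) * y := by group
    _ = ⁅a, b⁆ * y := by rw [h4]

/-- an interval subgroup generated by pairwise commuting involutions has exponent 2 -/
theorem XX_sq_eq_one {i j : ℤ} (hsq : x0 * x0 = 1)
    (h : ∀ l m, i ≤ l → l ≤ j → i ≤ m → m ≤ j → xs g x0 l * xs g x0 m = xs g x0 m * xs g x0 l)
    {y : G} (hy : y ∈ XX g x0 i j) : y * y = 1 := by
  have hy' : y ∈ Subgroup.closure (xs g x0 '' Set.Icc i j) := hy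
  induction hy' using Subgroup.closure_induction with
  | mem x hx =>
    obtain ⟨l, hl, rfl⟩ := hx
    exact xs_sq hsq l
  | one => simp
  | mul a b ha hb iha ihb =>
    have hab : a * b = b * a := XX_comm h ha hb
    calc a * b * (a * b) = a * (b * a) * b := by group
      _ = a * (a * b) * b := by rw [hab]
      _ = (a * a) * (b * b) := by group
      _ = 1 := by rw [iha ha, ihb hb, one_mul]
  | inv a ha iha =>
    have h1 : a⁻¹ = a := inv_eq_of_mul_eq_one_right (iha ha)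
    rw [h1]; exact iha ha

/-- two involutions whose commutator is an involution commute with their commutator -/
theorem invol_comm_facts {a b : G} (haa : a * a = 1) (hbb : b * b = 1) (hcc : ⁅a, b⁆ * ⁅a, b⁆ = 1) :
    a * ⁅a, b⁆ = ⁅a, b⁆ * a ∧ b * ⁅a, b⁆ = ⁅a, b⁆ * b := by
  have ha : a⁻¹ = a := inv_eq_of_mul_eq_one_right haa
  have hb : b⁻¹ = b := inv_eq_of_mul_eq_one_right hbb
  have hci : ⁅a, b⁆⁻¹ = ⁅a, b⁆ := inv_eq_of_mul_eq_one_right hcc
  have e1 : ⁅a, b⁆ = a * b * a * b := by rw [commutatorElement_def, ha, hb]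
  have e2 : ⁅a, b⁆⁻¹ = b * a * b * a := by
    rw [commutatorElement_inv, commutatorElement_def, ha, hb]
  have hc2 : a * b * a * b = b * a * b * a := by rw [← e1, ← e2, hci]
  rw [e1]
  constructor
  · calc a * (a * b * a * b) = (a * a) * b * a * b := by group
      _ = b * a * b := by rw [haa, one_mul]
      _ = (a * a) * b * a * b := by rw [haa, one_mul]
      _ = a * (a * b * a * b) := by group
      _ = a * (b * a * b * a) := by rw [hc2]
      _ = a * b * a * b * a := by group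
  · calc b * (a * b * a * b) = (b * a * b * a) * b := by group
      _ = a * b * a * b * b := by rw [hc2]

/-- the basic facts about `c = [x_0, x_lam]` -/
theorem c_facts (h : TSys H g x0 s) (hl : IsLam g x0 lam) (hls : lam + 2 ≤ s) :
    ⁅xs g x0 0, xs g x0 lam⁆ ∈ XX g x0 1 ((lam : ℤ) - 1) ∧
    (∀ l : ℤ, 0 ≤ l → l ≤ lam →
      xs g x0 l * ⁅xs g x0 0, xs g x0 lam⁆ = ⁅xs g x0 0, xs g x0 lam⁆ * xs g x0 l) := by
  have hlpos := hl.pos
  have habel : ∀ l m : ℤ, 1 ≤ l → l ≤ (lam : ℤ) - 1 → 1 ≤ m → m ≤ (lam : ℤ) - 1 →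
      xs g x0 l * xs g x0 m = xs g x0 m * xs g x0 l := by
    intro l m h1 h2 h3 h4
    exact hl.commute (abs_lt.mpr ⟨by omega, by omega⟩)
  have hc_mem : ⁅xs g x0 0, xs g x0 lam⁆ ∈ XX g x0 1 ((lam : ℤ) - 1) := by
    have := h.comm_mem (i := 0) (j := (lam : ℤ)) (by omega) (by omega)
    rwa [zero_add] at this
  refine ⟨hc_mem, ?_⟩
  have hcc : ⁅xs g x0 0, xs g x0 lam⁆ * ⁅xs g x0 0, xs g x0 lam⁆ = 1 :=
    XX_sq_eq_one h.sq habel hc_mem
  obtain ⟨f1, f2⟩ := invol_comm_facts (h.xs_sq (0 : ℤ)) (h.xs_sq (lam : ℤ)) hcc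
  intro l hl0 hl1
  rcases (by omega : l = 0 ∨ l = (lam : ℤ) ∨ (1 ≤ l ∧ l ≤ (lam : ℤ) - 1)) with rfl | rfl | ⟨h1, h2⟩
  · exact f1
  · exact f2
  · exact XX_comm habel (xs_mem_XX h1 h2) hc_mem

/-- T-D (M/L), paper (D).  Strong induction on `j`; see the paper. -/
theorem cent_D (h : TSys H g x0 s) (hl : IsLam g x0 lam) (hls : lam + 2 ≤ s) (j : ℕ) (hj1 : 1 ≤ j)
    (hj2 : j + 1 ≤ lam) (hj3 : lam + j + 2 ≤ s) :
    xs g x0 ((lam : ℤ) + j) * ⁅xs g x0 0, xs g x0 lam⁆ = ⁅xs g x0 0, xs g x0 lam⁆ * xs g x0 ((lam : ℤ) + j) ∧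
    xs g x0 (-(j : ℤ)) * ⁅xs g x0 0, xs g x0 lam⁆ = ⁅xs g x0 0, xs g x0 lam⁆ * xs g x0 (-(j : ℤ)) := by
  obtain ⟨hc_mem, hc0⟩ := c_facts h hl hls
  induction j using Nat.strong_induction_on with
  | _ j ih =>
    constructor
    · -- `y = x_(lam+j)`, `d = [y, x_0]`
      have hd : ⁅xs g x0 ((lam : ℤ) + j), xs g x0 0⁆ ∈ XX g x0 1 ((lam : ℤ) + j - 1) := by
        have h1 := h.comm_mem (i := 0) (j := (lam : ℤ) + j) (by omega) (by omega)
        rw [zero_add] at h1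
        have h2 := (XX g x0 1 ((lam : ℤ) + j - 1)).inv_mem h1
        rwa [commutatorElement_inv] at h2
      apply comm_conj_left (d := ⁅xs g x0 ((lam : ℤ) + j), xs g x0 0⁆)
      · rw [commutatorElement_def]; group
      · exact hl.commute (abs_lt.mpr ⟨by omega, by omega⟩)
      · -- `d` commutes with `x_lam`
        refine (commute_XX (z := xs g x0 (lam : ℤ)) ?_ hd).symm
        intro l h1 h2
        exact hl.commute (abs_lt.mpr ⟨by omega, by omega⟩)
      · -- `d` commutes with `c`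
        refine (commute_XX (z := ⁅xs g x0 0, xs g x0 lam⁆) ?_ hd).symm
        intro l h1 h2
        rcases (by omega : l ≤ (lam : ℤ) ∨ (lam : ℤ) + 1 ≤ l) with h3 | h3
        · exact (hc0 l (by omega) h3).symm
        · obtain ⟨m, hm⟩ : ∃ m : ℕ, l = (lam : ℤ) + m := ⟨(l - lam).toNat, by omega⟩
          rw [hm]
          exact ((ih m (by omega) (by omega) (by omega) (by omega)).1).symm
    · -- `y = x_(-j)`, `d = [y, x_lam]`
      have hd : ⁅xs g x0 (-(j : ℤ)), xs g x0 lam⁆ ∈ XX g x0 (-(j : ℤ) + 1) ((lam : ℤ) - 1) :=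
        h.comm_mem (i := -(j : ℤ)) (j := (lam : ℤ)) (by omega) (by omega)
      apply comm_conj_right (d := ⁅xs g x0 (-(j : ℤ)), xs g x0 lam⁆)
      · rw [commutatorElement_def]; group
      · exact hl.commute (abs_lt.mpr ⟨by omega, by omega⟩)
      · refine (commute_XX (z := xs g x0 0) ?_ hd).symm
        intro l h1 h2
        exact hl.commute (abs_lt.mpr ⟨by omega, by omega⟩)
      · refine (commute_XX (z := ⁅xs g x0 0, xs g x0 lam⁆) ?_ hd).symm
        intro l h1 h2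
        rcases (by omega : 0 ≤ l ∨ l ≤ -1) with h3 | h3
        · exact (hc0 l h3 (by omega)).symm
        · obtain ⟨m, hm⟩ : ∃ m : ℕ, l = -(m : ℤ) := ⟨(-l).toNat, by omega⟩
          rw [hm]
          exact ((ih m (by omega) (by omega) (by omega) (by omega)).2).symm

end Cfsg.Agent.Lib.Helper2_Tutte_TD
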