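import Mathlib
import Cfsg.Agent.Lib.Helper84_TutteDefs
import Cfsg.Agent.Lib.Helper84_TutteAPI
import Cfsg.Agent.Lib.Helper84_GlDefs
import Cfsg.Agent.Lib.Helper84_GlAPI
import Cfsg.Agent.Lib.Helper2_Tutte_TD

/-!
S4359 package G-D (architect helper84, market `gl_packages`): paper (D), the `p`-version of `Helper2_Tutte_TD.cent_D`.
-/

set_option autoImplicit false
set_option linter.unusedVariables false
set_option linter.style.haveILetI false

open scoped commutatorElement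
open Cfsg.Agent.Lib.Helper84_TutteDefs Cfsg.Agent.Lib.Helper84_GlDefs

namespace Cfsg.Agent.Lib.Helper2_Gl_GD

variable {G : Type*} [Group G] {P : Subgroup G} {g x0 : G} {p t lam : ℕ}

/-- the basic facts about `c = [x_0, x_lam]` -/
theorem pc_facts (h : PSys P g x0 p t) (hl : IsLam g x0 lam) (hlt : lam + 1 ≤ t) :
    ⁅xs g x0 0, xs g x0 lam⁆ ∈ XX g x0 1 ((lam : ℤ) - 1) ∧
    (∀ l : ℤ, 0 ≤ l → l ≤ lam →
      xs g x0 l * ⁅xs g x0 0, xs g x0 lam⁆ = ⁅xs g x0 0, xs g x0 lam⁆ * xs g x0 l) := by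
  have hlpos := hl.pos
  have hc_mem : ⁅xs g x0 0, xs g x0 lam⁆ ∈ XX g x0 1 ((lam : ℤ) - 1) := by
    have := h.comm_mem (i := 0) (j := (lam : ℤ)) (by omega) (by omega)
    rwa [zero_add] at this
  refine ⟨hc_mem, ?_⟩
  intro l hl0 hl1
  refine commute_XX ?_ hc_mem
  intro m h1 h2
  exact hl.commute (abs_lt.mpr ⟨by omega, by omega⟩)

/-- G-D (M/L), paper (D). -/
theorem pcent_D (h : PSys P g x0 p t) (hl : IsLam g x0 lam) (hlt : lam + 1 ≤ t) (j : ℕ) (hj1 : 1 ≤ j)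
    (hj2 : j + 1 ≤ lam) (hj3 : lam + j + 1 ≤ t) :
    xs g x0 ((lam : ℤ) + j) * ⁅xs g x0 0, xs g x0 lam⁆ = ⁅xs g x0 0, xs g x0 lam⁆ * xs g x0 ((lam : ℤ) + j) ∧
    xs g x0 (-(j : ℤ)) * ⁅xs g x0 0, xs g x0 lam⁆ = ⁅xs g x0 0, xs g x0 lam⁆ * xs g x0 (-(j : ℤ)) := by
  obtain ⟨hc_mem, hc0⟩ := pc_facts h hl hlt
  induction j using Nat.strong_induction_on with
  | _ j ih =>
    constructor
    · -- `y = x_(lam+j)`, `d = [y, x_0]`
      have hd : ⁅xs g x0 ((lam : ℤ) + j), xs g x0 0⁆ ∈ XX g x0 1 ((lam : ℤ) + j - 1) := by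
        have h1 := h.comm_mem (i := 0) (j := (lam : ℤ) + j) (by omega) (by omega)
        rw [zero_add] at h1
        have h2 := (XX g x0 1 ((lam : ℤ) + j - 1)).inv_mem h1
        rwa [commutatorElement_inv] at h2
      apply Cfsg.Agent.Lib.Helper2_Tutte_TD.comm_conj_left (d := ⁅xs g x0 ((lam : ℤ) + j), xs g x0 0⁆)
      · rw [commutatorElement_def]; group
      · exact hl.commute (abs_lt.mpr ⟨by omega, by omega⟩)
      · refine (commute_XX (z := xs g x0 (lam : ℤ)) ?_ hd).symm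
        intro l h1 h2
        exact hl.commute (abs_lt.mpr ⟨by omega, by omega⟩)
      · refine (commute_XX (z := ⁅xs g x0 0, xs g x0 lam⁆) ?_ hd).symm
        intro l h1 h2
        rcases (by omega : l ≤ (lam : ℤ) ∨ (lam : ℤ) + 1 ≤ l) with h3 | h3
        · exact (hc0 l (by omega) h3).symm
        · obtain ⟨m, hm⟩ : ∃ m : ℕ, l = (lam : ℤ) + m := ⟨(l - lam).toNat, by omega⟩
          rw [hm]
          exact ((ih m (by omega) (by omega) (by omega) (by omega)).1).symm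
    · -- `y = x_(-j)`, `d = [y, x_lam]`
      have hd : ⁅xs g x0 (-(j : ℤ)), xs g x0 lam⁆ ∈ XX g x0 (-(j : ℤ) + 1) ((lam : ℤ) - 1) :=
        h.comm_mem (i := -(j : ℤ)) (j := (lam : ℤ)) (by omega) (by omega)
      apply Cfsg.Agent.Lib.Helper2_Tutte_TD.comm_conj_right (d := ⁅xs g x0 (-(j : ℤ)), xs g x0 lam⁆)
      · rw [commutatorElement_def]; group
      · exact hl.commute (abs_lt.mpr ⟨by omega, by omega⟩)
      · refine (commute_XX (z := xs g x0 0) ?_ hd).symm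
        intro l h1 h2
        exact hl.commute (abs_lt.mpr ⟨by omega, by omega⟩)
      · refine (commute_XX (z := ⁅xs g x0 0, xs g x0 lam⁆) ?_ hd).symm
        intro l h1 h2
        rcases (by omega : 0 ≤ l ∨ l ≤ -1) with h3 | h3
        · exact (hc0 l h3 (by omega)).symm
        · obtain ⟨m, hm⟩ : ∃ m : ℕ, l = -(m : ℤ) := ⟨(-l).toNat, by omega⟩
          rw [hm]
          exact ((ih m (by omega) (by omega) (by omega) (by omega)).2).symm

end Cfsg.Agent.Lib.Helper2_Gl_GD
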