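import Mathlib
import Cfsg.Prelude.Def_Characters
import Cfsg.Agent.Lib.Helper80_CharBasic
import Cfsg.Agent.Lib.Helper17_H27Defs
import Cfsg.Agent.Lib.Helper2_H27_PERM

/-!
S3701 package LOC (helper17's market): the local analysis.  If `H ≅ H₀ = ⟨S0⟩ ≤ Sym(9)`,
`T ≤ H` of order 27 with `N_G(T) = H` and `C_G(t) ≤ H` for `t ∈ T ∖ 1`, then the configuration
`Hyp G T a b c u v` holds for the images of the five generators.
-/

set_option autoImplicit false
set_option linter.unusedVariables false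
set_option linter.unusedSectionVars false
set_option linter.unusedSimpArgs false
set_option linter.style.haveILetI false

namespace Cfsg.Agent.Lib.Helper2_H27_LOC

open Cfsg Cfsg.Agent.Lib.Helper80_CharBasic Cfsg.Agent.Lib.Helper17_H27Defs
open Cfsg.Agent.Lib.Helper2_H27_PERM

section grp
variable {G : Type*} [Group G] [Finite G]

/-- in a group `H` of order 108 with a normal subgroup `T` of order 27, elements of order
dividing 3 lie in `T` -/
theorem mem_of_pow_three {H T : Subgroup G} (hTH : T ≤ H) (hT : Nat.card T = 27)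
    (hH : Nat.card H = 108) (hN : Subgroup.normalizer (T : Set G) = H) {x : G} (hx : x ∈ H)
    (hx3 : x ^ 3 = 1) : x ∈ T := by
  haveI : (T.subgroupOf H).Normal := by
    rw [Subgroup.normal_subgroupOf_iff_le_normalizer hTH, hN]
  have hc : Nat.card (T.subgroupOf H) = 27 := by
    rw [Nat.card_congr (Subgroup.subgroupOfEquivOfLe hTH).toEquiv, hT]
  have hidx : (T.subgroupOf H).index = 4 := by
    have := Subgroup.card_mul_index (T.subgroupOf H)
    rw [hc, hH] at this
    omega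
  have h4 : (⟨x, hx⟩ : H) ^ 4 ∈ T.subgroupOf H := by
    rw [← hidx]
    exact Subgroup.pow_index_mem _ _
  rw [Subgroup.mem_subgroupOf] at h4
  have : x ^ 4 = x := by rw [pow_succ, hx3, one_mul]
  simpa [this] using h4

theorem exists_hyp (H : Subgroup G) (hH : Nonempty (↥H ≃* ↥(Subgroup.closure S0)))
    (T : Subgroup G) (hTH : T ≤ H) (hT : Nat.card T = 27)
    (hN : Subgroup.normalizer (T : Set G) = H)
    (hC : ∀ t ∈ T, t ≠ 1 → Subgroup.centralizer ({t} : Set G) ≤ H) :
    ∃ a b c u v : G, Hyp G T a b c u v := by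
  obtain ⟨φ⟩ := hH
  have hcardH : Nat.card H = 108 := by
    rw [Nat.card_congr φ.toEquiv, card_closure_S0]
  set ψ : ↥(Subgroup.closure S0) →* G := H.subtype.comp φ.symm.toMonoidHom with hψ
  have hψinj : Function.Injective ψ := by
    intro x y hxy
    have : (φ.symm x : G) = (φ.symm y : G) := hxy
    exact φ.symm.injective (Subtype.ext this)
  have hψmem : ∀ x, ψ x ∈ H := fun x => (φ.symm x).2
  have hψsurj : ∀ n ∈ H, ∃ x, ψ x = n := by
    intro n hn
    refine ⟨φ ⟨n, hn⟩, ?_⟩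
    show ((φ.symm (φ ⟨n, hn⟩) : H) : G) = n
    rw [MulEquiv.symm_apply_apply]
  set g1 : ↥(Subgroup.closure S0) := ⟨gen1, Subgroup.subset_closure (by simp [S0])⟩ with hg1
  set g2 : ↥(Subgroup.closure S0) := ⟨gen2, Subgroup.subset_closure (by simp [S0])⟩ with hg2
  set g3 : ↥(Subgroup.closure S0) := ⟨gen3, Subgroup.subset_closure (by simp [S0])⟩ with hg3
  set g4 : ↥(Subgroup.closure S0) := ⟨gen4, Subgroup.subset_closure (by simp [S0])⟩ with hg4
  set g5 : ↥(Subgroup.closure S0) := ⟨gen5, Subgroup.subset_closure (by simp [S0])⟩ with hg5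
  have r0 : Rel g1 g2 g3 g4 g5 :=
    Rel.of_map (Subgroup.closure S0).subtype Subtype.val_injective rel_gen
  have r : Rel (ψ g1) (ψ g2) (ψ g3) (ψ g4) (ψ g5) := r0.map ψ
  -- every element of `H` is `elt e * wk k`
  have hrep : ∀ n ∈ H, ∃ (e : ZMod 3 × ZMod 3 × ZMod 3) (k : Fin 4),
      n = elt (ψ g1) (ψ g2) (ψ g3) e * wk (ψ g4) (ψ g5) k := by
    intro n hn
    obtain ⟨x, rfl⟩ := hψsurj n hn
    obtain ⟨e, k, hx⟩ := mem_closure_S0 x.1 x.2
    refine ⟨e, k, ?_⟩
    have hx' : x = elt g1 g2 g3 e * wk g4 g5 k := by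
      apply Subtype.val_injective
      have h1 := map_elt (a := g1) (b := g2) (c := g3) (Subgroup.closure S0).subtype e
      have h2 := map_wk (u := g4) (v := g5) (Subgroup.closure S0).subtype k
      have : ((elt g1 g2 g3 e * wk g4 g5 k : ↥(Subgroup.closure S0)) : Equiv.Perm (Fin 9)) =
          (Subgroup.closure S0).subtype (elt g1 g2 g3 e) *
            (Subgroup.closure S0).subtype (wk g4 g5 k) := rfl
      rw [this, h1, h2]
      exact hx
    rw [hx', map_mul, map_elt, map_wk]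
  -- injectivity of `elt`
  have hinj : Function.Injective (elt (ψ g1) (ψ g2) (ψ g3)) := by
    intro e e' h
    rw [← map_elt, ← map_elt] at h
    have h1 := hψinj h
    have h2 := congrArg (Subgroup.closure S0).subtype h1
    rw [map_elt, map_elt] at h2
    exact elt_gen_injective h2
  -- `elt e ∈ T`
  have heltH : ∀ e, elt (ψ g1) (ψ g2) (ψ g3) e ∈ H := by
    intro e
    rw [← map_elt]
    exact hψmem _
  have heltT : ∀ e, elt (ψ g1) (ψ g2) (ψ g3) e ∈ T := fun e =>
    mem_of_pow_three hTH hT hcardH hN (heltH e) (elt_pow_three r e)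
  -- surjectivity onto `T`
  have hbij : Function.Bijective
      (fun e : ZMod 3 × ZMod 3 × ZMod 3 => (⟨elt (ψ g1) (ψ g2) (ψ g3) e, heltT e⟩ : T)) := by
    haveI : Finite T := Nat.finite_of_card_ne_zero (by rw [hT]; norm_num)
    apply Function.Injective.bijective_of_nat_card_le
    · intro e e' h
      exact hinj (Subtype.ext_iff.mp h)
    · rw [hT]
      simp [Nat.card_eq_fintype_card, ZMod.card]
  have hmem : ∀ t : G, t ∈ T ↔ ∃ e : ZMod 3 × ZMod 3 × ZMod 3, t = elt (ψ g1) (ψ g2) (ψ g3) e := by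
    intro t
    constructor
    · intro ht
      obtain ⟨e, he⟩ := hbij.2 ⟨t, ht⟩
      exact ⟨e, (Subtype.ext_iff.mp he).symm⟩
    · rintro ⟨e, rfl⟩
      exact heltT e
  have hne : ∀ e : ZMod 3 × ZMod 3 × ZMod 3, e ≠ 0 → elt (ψ g1) (ψ g2) (ψ g3) e ≠ 1 := by
    intro e he h
    rw [← elt_zero (a := ψ g1) (b := ψ g2) (c := ψ g3)] at h
    exact he (hinj h)
  haveI : Fact (Nat.Prime 3) := ⟨Nat.prime_three⟩
  -- the conjugation action of `H`
  have hconj : ∀ n ∈ H, ∃ k : Fin 4, ∀ e' : ZMod 3 × ZMod 3 × ZMod 3,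
      n * elt (ψ g1) (ψ g2) (ψ g3) e' * n⁻¹ = elt (ψ g1) (ψ g2) (ψ g3) (sg k e') := by
    intro n hn
    obtain ⟨e, k, rfl⟩ := hrep n hn
    refine ⟨k, fun e' => ?_⟩
    rw [← wk_conj_elt r k e']
    have hc := elt_comm r e (sg k e')
    rw [← wk_conj_elt r k e'] at hc
    calc elt (ψ g1) (ψ g2) (ψ g3) e * wk (ψ g4) (ψ g5) k * elt (ψ g1) (ψ g2) (ψ g3) e' *
          (elt (ψ g1) (ψ g2) (ψ g3) e * wk (ψ g4) (ψ g5) k)⁻¹
        = (elt (ψ g1) (ψ g2) (ψ g3) e * (wk (ψ g4) (ψ g5) k * elt (ψ g1) (ψ g2) (ψ g3) e' *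
          (wk (ψ g4) (ψ g5) k)⁻¹)) * (elt (ψ g1) (ψ g2) (ψ g3) e)⁻¹ := by group
      _ = wk (ψ g4) (ψ g5) k * elt (ψ g1) (ψ g2) (ψ g3) e' * (wk (ψ g4) (ψ g5) k)⁻¹ := by
          rw [hc, mul_inv_cancel_right]
  refine ⟨ψ g1, ψ g2, ψ g3, ψ g4, ψ g5, ?_⟩
  refine
    { card := hT
      oa := ?_
      ob := ?_
      oc := ?_
      ab := r.ab
      ac := r.ac
      bc := r.bc
      mem := hmem
      inj := hinj
      hu := by rw [hN]; exact hψmem _
      hv := by rw [hN]; exact hψmem _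
      ua := r.ua
      ub := r.ub
      uc := r.uc
      va := r.va
      vb := r.vb
      vc := r.vc
      act := ?_
      cardN := by rw [hN]; exact hcardH
      loc := by rw [hN]; exact hC }
  · refine orderOf_eq_prime r.a3 ?_
    rw [← elt_a (a := ψ g1) (b := ψ g2) (c := ψ g3)]
    exact hne _ (by decide)
  · refine orderOf_eq_prime r.b3 ?_
    rw [← elt_b (a := ψ g1) (b := ψ g2) (c := ψ g3)]
    exact hne _ (by decide)
  · refine orderOf_eq_prime r.c3 ?_
    rw [← elt_c (a := ψ g1) (b := ψ g2) (c := ψ g3)]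
    exact hne _ (by decide)
  · intro n hn
    rw [hN] at hn
    obtain ⟨k, hk⟩ := hconj n hn
    have ha := hk (1, 0, 0)
    have hb := hk (0, 1, 0)
    have hc := hk (0, 0, 1)
    rw [elt_a] at ha
    rw [elt_b] at hb
    rw [elt_c] at hc
    have hia : (ψ g1)⁻¹ = elt (ψ g1) (ψ g2) (ψ g3) (-1, 0, 0) := by
      have := elt_neg r (1, 0, 0)
      rw [elt_a] at this
      rw [this]; congr 1; simp
    have hib : (ψ g2)⁻¹ = elt (ψ g1) (ψ g2) (ψ g3) (0, -1, 0) := by
      have := elt_neg r (0, 1, 0)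
      rw [elt_b] at this
      rw [this]; congr 1; simp
    have hic : (ψ g3)⁻¹ = elt (ψ g1) (ψ g2) (ψ g3) (0, 0, -1) := by
      have := elt_neg r (0, 0, 1)
      rw [elt_c] at this
      rw [this]; congr 1; simp
    have ea : ψ g1 = elt (ψ g1) (ψ g2) (ψ g3) (1, 0, 0) := elt_a.symm
    have eb : ψ g2 = elt (ψ g1) (ψ g2) (ψ g3) (0, 1, 0) := elt_b.symm
    have ec : ψ g3 = elt (ψ g1) (ψ g2) (ψ g3) (0, 0, 1) := elt_c.symm
    fin_cases k
    · left
      refine ⟨?_, ?_, ?_⟩
      · rw [ha]; conv_rhs => rw [ea]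
        congr 1
      · rw [hb]; conv_rhs => rw [eb]
        congr 1
      · rw [hc]; conv_rhs => rw [ec]
        congr 1
    · right; left
      refine ⟨?_, ?_, ?_⟩
      · rw [ha, hia]; congr 1
      · rw [hb, hib]; congr 1
      · rw [hc]; conv_rhs => rw [ec]
        congr 1
    · right; right; left
      refine ⟨?_, ?_, ?_⟩
      · rw [ha, hia]; congr 1
      · rw [hb]; conv_rhs => rw [eb]
        congr 1
      · rw [hc, hic]; congr 1
    · right; right; right
      refine ⟨?_, ?_, ?_⟩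
      · rw [ha]; conv_rhs => rw [ea]
        congr 1
      · rw [hb, hib]; congr 1
      · rw [hc, hic]; congr 1

end grp

end Cfsg.Agent.Lib.Helper2_H27_LOC
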