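import Mathlib
import Cfsg.Prelude.Def_Characters
import Cfsg.Prelude.Def_TwoFusion
import Cfsg.Prelude.Def_Solvable
import Cfsg.Agent.Lib.Helper80_CharBasic
import Cfsg.Agent.Lib.Helper80_CharComplete
import Cfsg.Agent.Lib.Helper17_H27Defs
import Cfsg.Agent.Lib.Helper76_H648Defs

/-!
S3702 (architect helper76, market `h648_packages`), package CLS-A: the nine special class representatives lie in
`H`, a power of each is a nontrivial element of `J`, and each is conjugate to its inverse (explicit exponents and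
conjugators, computed in `K₀ ≤ Sym(9)` and transported).
-/

set_option autoImplicit false
set_option linter.unusedVariables false
set_option linter.unusedSectionVars false
set_option linter.unusedSimpArgs false
open scoped ComplexConjugate

namespace Cfsg.Agent.Lib.Helper2_H648_CLSA

open Cfsg Cfsg.Agent.Lib.Helper80_CharBasic
  Cfsg.Agent.Lib.Helper76_H648Defs
open Cfsg.Agent.Lib.Helper17_H27Defs (elt)

/-- the special exponents -/
def exp9 : Fin 9 → ℕ := ![1, 2, 2, 4, 4, 3, 3, 1, 1]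

/-- the special powers as vectors -/
def vec9 : Fin 9 → ZMod 3 × ZMod 3 × ZMod 3 :=
  ![(0, 0, 1), (0, 0, 2), (2, 2, 0), (0, 0, 2), (0, 0, 1), (1, 1, 1), (2, 2, 2), (1, 1, 0), (1, 1, 1)]

/-- the inverting conjugators -/
def conj9 {M : Type*} [Monoid M] (σ u v : M) : Fin 9 → M :=
  ![v, v, u, v, v, σ * u * v, σ * u * v, u, u * v]

section generic
variable {A B : Type*} [Group A] [Group B]

theorem map_rep9 (f : A →* B) (a b c σ u v s : A) (i : Fin 9) :
    f (rep9 a b c σ u v s i) = rep9 (f a) (f b) (f c) (f σ) (f u) (f v) (f s) i := by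
  fin_cases i <;> simp [rep9]

theorem map_elt (f : A →* B) (a b c : A) (e : ZMod 3 × ZMod 3 × ZMod 3) :
    f (elt a b c e) = elt (f a) (f b) (f c) e := by
  simp [elt]

theorem map_conj9 (f : A →* B) (σ u v : A) (i : Fin 9) :
    f (conj9 σ u v i) = conj9 (f σ) (f u) (f v) i := by
  fin_cases i <;> simp [conj9]

end generic

/-! ### the facts in `Sym(9)` -/

set_option maxRecDepth 100000 in
theorem perm_pow (i : Fin 9) :
    (rep9 pA pB pC pS pU pV pT i) ^ (exp9 i) = elt pA pB pC (vec9 i) := by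
  fin_cases i <;> decide

set_option maxRecDepth 100000 in
theorem perm_ne (i : Fin 9) : elt pA pB pC (vec9 i) ≠ 1 := by
  fin_cases i <;> decide

set_option maxRecDepth 100000 in
theorem perm_real (i : Fin 9) :
    conj9 pS pU pV i * rep9 pA pB pC pS pU pV pT i * (conj9 pS pU pV i)⁻¹ =
      (rep9 pA pB pC pS pU pV pT i)⁻¹ := by
  fin_cases i <;> decide

section grp
variable {G : Type*} [Group G] [Finite G]
variable {H J : Subgroup G} {a b c σ u v s : G}

/-- transport: the three facts for the images under `ψ` -/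
theorem transport (h : Hyp G H J a b c σ u v s) :
    ∃ (ψ : ↥(Subgroup.closure S0) →* G) (x : Fin 9 → ↥(Subgroup.closure S0))
      (y : Fin 9 → ↥(Subgroup.closure S0)) (k : Fin 9 → ↥(Subgroup.closure S0)),
      Function.Injective ψ ∧ ψ.range = H ∧
      (∀ i, ψ (x i) = rep9 a b c σ u v s i) ∧
      (∀ i, ψ (y i) = elt a b c (vec9 i)) ∧
      (∀ i, (x i) ^ (exp9 i) = y i) ∧ (∀ i, y i ≠ 1) ∧
      (∀ i, k i * x i * (k i)⁻¹ = (x i)⁻¹) := by
  obtain ⟨ψ, hinj, hrange, ha, hσ, hu, hv⟩ := h.iso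
  set A0 : ↥(Subgroup.closure S0) := ⟨g1, g1_mem⟩ with hA0
  set S1 : ↥(Subgroup.closure S0) := ⟨g2, g2_mem⟩ with hS1
  set U0 : ↥(Subgroup.closure S0) := ⟨g3, g3_mem⟩ with hU0
  set V0 : ↥(Subgroup.closure S0) := ⟨g4, g4_mem⟩ with hV0
  set B0 : ↥(Subgroup.closure S0) := S1 * A0 * S1⁻¹ with hB0
  set C0 : ↥(Subgroup.closure S0) := S1 * B0 * S1⁻¹ with hC0
  set T0 : ↥(Subgroup.closure S0) := V0 * (S1 * U0 * S1⁻¹) with hT0
  have hb : ψ B0 = b := by rw [hB0, map_mul, map_mul, map_inv, ha, hσ, h.hb]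
  have hc : ψ C0 = c := by rw [hC0, map_mul, map_mul, map_inv, hb, hσ, h.hc]
  have hs : ψ T0 = s := by rw [hT0, map_mul, map_mul, map_mul, map_inv, hu, hv, hσ, h.hs]
  set ι : ↥(Subgroup.closure S0) →* Equiv.Perm (Fin 9) := (Subgroup.closure S0).subtype with hι
  have hιinj : Function.Injective ι := Subtype.val_injective
  have iA : ι A0 = pA := rfl
  have iS : ι S1 = pS := rfl
  have iU : ι U0 = pU := rfl
  have iV : ι V0 = pV := rfl
  have iB : ι B0 = pB := rfl
  have iC : ι C0 = pC := rfl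
  have iT : ι T0 = pT := rfl
  refine ⟨ψ, fun i => rep9 A0 B0 C0 S1 U0 V0 T0 i, fun i => elt A0 B0 C0 (vec9 i),
    fun i => conj9 S1 U0 V0 i, hinj, hrange, ?_, ?_, ?_, ?_, ?_⟩
  · intro i
    rw [map_rep9, ha, hb, hc, hσ, hu, hv, hs]
  · intro i
    rw [map_elt, ha, hb, hc]
  · intro i
    apply hιinj
    rw [map_pow, map_rep9, map_elt, iA, iB, iC, iS, iU, iV, iT]
    exact perm_pow i
  · intro i e
    have := congrArg ι e
    rw [map_elt, iA, iB, iC, map_one] at this
    exact perm_ne i this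
  · intro i
    apply hιinj
    rw [map_mul, map_mul, map_inv, map_inv, map_conj9, map_rep9, iA, iB, iC, iS, iU, iV, iT]
    exact perm_real i

theorem rep_special (h : Hyp G H J a b c σ u v s) (i : Fin 9) :
    rep9 a b c σ u v s i ∈ H ∧ ∃ m : ℕ, (rep9 a b c σ u v s i) ^ m ∈ J ∧ (rep9 a b c σ u v s i) ^ m ≠ 1 := by
  obtain ⟨ψ, x, y, k, hinj, hrange, hx, hy, hpow, hne, hreal⟩ := transport h
  refine ⟨?_, exp9 i, ?_, ?_⟩
  · rw [← hrange, ← hx i]
    exact ⟨x i, rfl⟩
  · rw [h.memJ]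
    refine ⟨vec9 i, ?_⟩
    rw [← hx i, ← map_pow, hpow i, hy i]
  · rw [← hx i, ← map_pow, hpow i]
    intro e
    rw [← map_one ψ] at e
    exact hne i (hinj e)

theorem rep_real (h : Hyp G H J a b c σ u v s) (i : Fin 9) :
    IsConj (rep9 a b c σ u v s i) (rep9 a b c σ u v s i)⁻¹ := by
  obtain ⟨ψ, x, y, k, hinj, hrange, hx, hy, hpow, hne, hreal⟩ := transport h
  rw [isConj_iff]
  refine ⟨ψ (k i), ?_⟩
  rw [← hx i, ← map_inv, ← map_mul, ← map_inv, ← map_mul, hreal i]

end grp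

end Cfsg.Agent.Lib.Helper2_H648_CLSA
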