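import Mathlib
import Cfsg.Prelude.Def_Characters
import Cfsg.Prelude.Def_TwoFusion
import Cfsg.Prelude.Def_Solvable
import Cfsg.Agent.Lib.Helper80_CharBasic
import Cfsg.Agent.Lib.Helper80_CharComplete
import Cfsg.Agent.Lib.Helper17_H27Defs
import Cfsg.Agent.Lib.Helper76_H648Defs

/-!
S3702 (architect helper76, market `h648_packages`), package FUS: `H` controls fusion in `J` and in the special
elements.  `_aux` forms: with the statement of NORM (`N_G(J) = H`) and the commutativity of `J` (from STRUCT) as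
hypotheses.
-/

set_option autoImplicit false
set_option linter.unusedVariables false
set_option linter.unusedSectionVars false
open scoped ComplexConjugate

namespace Cfsg.Agent.Lib.Helper2_H648_FUS

open Cfsg Cfsg.Agent.Lib.Helper80_CharBasic
  Cfsg.Agent.Lib.Helper76_H648Defs
open Cfsg.Agent.Lib.Helper17_H27Defs (elt)

section grp
variable {G : Type*} [Group G] [Finite G]
variable {H J : Subgroup G} {a b c σ u v s : G}

/-- the conjugate of `J` by `g` lies in `J` as soon as one nontrivial element is conjugated into `J` -/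
theorem conj_mem_of (h : Hyp G H J a b c σ u v s) (hab : ∀ x ∈ J, ∀ y ∈ J, x * y = y * x)
    {j g : G} (hj : j ∈ J) (hj1 : j ≠ 1) (hg : g * j * g⁻¹ ∈ J) :
    ∀ x ∈ J, g * x * g⁻¹ ∈ J := by
  intro x hx
  have hj'1 : g * j * g⁻¹ ≠ 1 := by
    intro e
    apply hj1
    have : j = g⁻¹ * (g * j * g⁻¹) * g := by group
    rw [this, e]
    group
  have hcomm : g * x * g⁻¹ ∈ Subgroup.centralizer ({g * j * g⁻¹} : Set G) := by
    rw [Subgroup.mem_centralizer_iff]
    intro y hy
    rw [Set.mem_singleton_iff] at hy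
    subst hy
    have e := hab x hx j hj
    calc g * j * g⁻¹ * (g * x * g⁻¹) = g * (j * x) * g⁻¹ := by group
      _ = g * (x * j) * g⁻¹ := by rw [e]
      _ = g * x * g⁻¹ * (g * j * g⁻¹) := by group
  exact h.sc x hx g (h.loc _ hg hj'1 hcomm)

theorem fusion_aux (h : Hyp G H J a b c σ u v s)
    (hnorm : Subgroup.normalizer (J : Set G) = H) (hab : ∀ x ∈ J, ∀ y ∈ J, x * y = y * x)
    {j g : G} (hj : j ∈ J) (hj1 : j ≠ 1) (hg : g * j * g⁻¹ ∈ J) : g ∈ H := by
  rw [← hnorm, Subgroup.mem_normalizer_iff]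
  intro x
  constructor
  · exact conj_mem_of h hab hj hj1 hg x
  · intro hx
    have hj'1 : g * j * g⁻¹ ≠ 1 := by
      intro e
      apply hj1
      have : j = g⁻¹ * (g * j * g⁻¹) * g := by group
      rw [this, e]
      group
    have hback : g⁻¹ * (g * j * g⁻¹) * g⁻¹⁻¹ ∈ J := by
      have : g⁻¹ * (g * j * g⁻¹) * g⁻¹⁻¹ = j := by group
      rw [this]
      exact hj
    have := conj_mem_of h hab hg hj'1 hback _ hx
    have e : g⁻¹ * (g * x * g⁻¹) * g⁻¹⁻¹ = x := by group
    rwa [e] at this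

theorem special_cent (h : Hyp G H J a b c σ u v s) {x : G} {m : ℕ} (hm : x ^ m ∈ J)
    (hm1 : x ^ m ≠ 1) : Subgroup.centralizer ({x} : Set G) ≤ H := by
  intro y hy
  apply h.loc _ hm hm1
  rw [Subgroup.mem_centralizer_iff] at hy ⊢
  intro z hz
  rw [Set.mem_singleton_iff] at hz
  subst hz
  have e : x * y = y * x := hy x rfl
  exact ((Commute.pow_left (show Commute x y from e) m)).eq

theorem special_fus_aux (h : Hyp G H J a b c σ u v s)
    (hnorm : Subgroup.normalizer (J : Set G) = H) (hab : ∀ x ∈ J, ∀ y ∈ J, x * y = y * x)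
    {x g : G} {m : ℕ} (hm : x ^ m ∈ J)
    (hm1 : x ^ m ≠ 1) (hg : g * x * g⁻¹ ∈ H) : g ∈ H := by
  have e : g * x ^ m * g⁻¹ = (g * x * g⁻¹) ^ m := (conj_pow (a := g) (b := x) (i := m)).symm
  have h1 : g * x ^ m * g⁻¹ ∈ H := by
    rw [e]
    exact H.pow_mem hg m
  exact fusion_aux h hnorm hab hm hm1 (h.sc _ hm g h1)

end grp

end Cfsg.Agent.Lib.Helper2_H648_FUS
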