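import Mathlib
import Cfsg.Prelude.Def_Characters
import Cfsg.Prelude.Def_TwoFusion
import Cfsg.Prelude.Def_Solvable
import Cfsg.Agent.Lib.Helper80_CharBasic
import Cfsg.Agent.Lib.Helper17_H27Defs
import Cfsg.Agent.Lib.Helper76_H648Defs
import Cfsg.Agent.Lib.Helper99_H648_CONJJ
import Cfsg.Agent.Lib.Helper99_H648_CENTJ
import Cfsg.Agent.Lib.Helper86_H648_STRUCT
import Cfsg.Agent.Lib.Helper10_H648_NORM
import Cfsg.Agent.Lib.Helper2_H648_FUS

/-!
S3702 (architect helper76, market `h648_packages`), package FUS, verbatim forms: `fusion`, `special_cent`,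
`special_fus`, from the `_aux` forms of `Helper2_H648_FUS` and the landed CONJJ, CENTJ, STRUCT and
`normalizer_eq_aux` of NORM.
-/

set_option autoImplicit false
set_option linter.unusedVariables false
set_option linter.unusedSectionVars false

namespace Cfsg.Agent.Lib.Helper2_H648_FUSV

open Cfsg Cfsg.Agent.Lib.Helper80_CharBasic
  Cfsg.Agent.Lib.Helper76_H648Defs
open Cfsg.Agent.Lib.Helper17_H27Defs (elt)

section grp
variable {G : Type*} [Group G] [Finite G]
variable {H J : Subgroup G} {a b c σ u v s : G}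

/-- `N_G(J) = H` (the statement of NORM), from CONJJ, CENTJ and STRUCT -/
theorem normalizer_eq' (h : Hyp G H J a b c σ u v s) :
    Subgroup.normalizer (J : Set G) = H :=
  Cfsg.Agent.Lib.Helper10_H648_NORM.normalizer_eq_aux h
    (Cfsg.Agent.Lib.Helper99_H648_CONJJ.conjJ h)
    (Cfsg.Agent.Lib.Helper99_H648_CENTJ.centJ h)
    (Cfsg.Agent.Lib.Helper86_H648_STRUCT.struct h).2.2.2.2.2.1
    (Cfsg.Agent.Lib.Helper86_H648_STRUCT.struct h).2.2.2.2.2.2.1

theorem fusion (h : Hyp G H J a b c σ u v s) {j g : G} (hj : j ∈ J) (hj1 : j ≠ 1)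
    (hg : g * j * g⁻¹ ∈ J) : g ∈ H :=
  Cfsg.Agent.Lib.Helper2_H648_FUS.fusion_aux h (normalizer_eq' h)
    (Cfsg.Agent.Lib.Helper86_H648_STRUCT.struct h).2.2.2.1 hj hj1 hg

theorem special_cent (h : Hyp G H J a b c σ u v s) {x : G} {m : ℕ} (hm : x ^ m ∈ J)
    (hm1 : x ^ m ≠ 1) : Subgroup.centralizer ({x} : Set G) ≤ H :=
  Cfsg.Agent.Lib.Helper2_H648_FUS.special_cent h hm hm1

theorem special_fus (h : Hyp G H J a b c σ u v s) {x g : G} {m : ℕ} (hm : x ^ m ∈ J)
    (hm1 : x ^ m ≠ 1) (hg : g * x * g⁻¹ ∈ H) : g ∈ H :=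
  Cfsg.Agent.Lib.Helper2_H648_FUS.special_fus_aux h (normalizer_eq' h)
    (Cfsg.Agent.Lib.Helper86_H648_STRUCT.struct h).2.2.2.1 hm hm1 hg

end grp

end Cfsg.Agent.Lib.Helper2_H648_FUSV
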