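import Mathlib
import Cfsg.Prelude.Def_Characters
import Cfsg.Agent.Lib.Helper76_HIDefs

/-!
S4563 + S4564 (Howlett–Isaacs; architect helper76, market `hi_packages`), package D3 (DIDX): the index of the image of
`Mμ` in `H / K` is `|M : Mμ|` if `M ∩ K ≤ Mμ ≤ M` and `K M = H` (pure group theory).
-/

set_option autoImplicit false
set_option linter.unusedSectionVars false
set_option linter.unusedVariables false
open scoped ComplexConjugate
open scoped Pointwise

namespace Cfsg.Agent.Lib.Helper2_HI_D3

open Cfsg Cfsg.Agent.Lib.Helper76_HIDefs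

section fin
variable {H : Type*} [Group H] [Finite H]

/-! ### D3 (DIDX): the index of the image in `H / K` (pure group theory) -/
theorem index_image (K : Subgroup H) [K.Normal] (M Mμ : Subgroup H) (hle : Mμ ≤ M)
    (hB : M ⊓ K ≤ Mμ) (htop : K ⊔ M = ⊤) :
    (Mμ.map (QuotientGroup.mk' K)).index = Mμ.relIndex M := by
  set g : ↥M →* H ⧸ K := (QuotientGroup.mk' K).comp M.subtype with hg
  have hsurj : Function.Surjective g := by
    intro q
    obtain ⟨h, rfl⟩ := QuotientGroup.mk'_surjective K q
    have h1 : h ∈ K ⊔ M := by rw [htop]; trivial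
    have h2 : h ∈ (K : Set H) * (M : Set H) := by
      rw [← Subgroup.normal_mul]; exact h1
    obtain ⟨k, hk, m, hm, rfl⟩ := Set.mem_mul.1 h2
    refine ⟨⟨m, hm⟩, ?_⟩
    show QuotientGroup.mk' K m = QuotientGroup.mk' K (k * m)
    rw [map_mul]
    have : QuotientGroup.mk' K k = 1 := (QuotientGroup.eq_one_iff k).2 hk
    rw [this, one_mul]
  have hker : g.ker ≤ Mμ.subgroupOf M := by
    intro x hx
    rw [MonoidHom.mem_ker] at hx
    have hxK : (x : H) ∈ K := (QuotientGroup.eq_one_iff (x : H)).1 hx
    rw [Subgroup.mem_subgroupOf]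
    exact hB ⟨x.2, hxK⟩
  have hmap : (Mμ.subgroupOf M).map g = Mμ.map (QuotientGroup.mk' K) := by
    rw [hg, ← Subgroup.map_map, Subgroup.subgroupOf_map_subtype, inf_of_le_left hle]
  rw [← hmap, Subgroup.index_map, sup_of_le_left hker, MonoidHom.range_eq_top.2 hsurj,
    Subgroup.index_top, mul_one]
  rfl

end fin

end Cfsg.Agent.Lib.Helper2_HI_D3
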