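import Mathlib
import Cfsg.Agent.Lib.Helper83_HP2Defs

set_option autoImplicit false
set_option linter.unusedSectionVars false
set_option linter.unusedVariables false
set_option linter.style.haveILetI false

/-!
HP2 market (architect helper83), package HP2-R1: in the context of Theorem R some reflection of `L` is the
reflection in a vector with at least two nonzero coordinates (twin of `Helper89_Q2_R1`; here the planes contain
singular vectors, so one works with the nonsingular vectors `single i (α, β)`, `α β ≠ 0`, which span the plane).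
-/

namespace Cfsg.Agent.Lib.Helper2_HP2_R1

open Module Cfsg.Agent.Lib.Helper94_Symp Cfsg.Agent.Lib.Helper94_OrthSmall
  Cfsg.Agent.Lib.Helper94_OrthSiegel Cfsg.Agent.Lib.Helper94_OrthNondeg
  Cfsg.Agent.Lib.Helper29_ODDefs Cfsg.Agent.Lib.Helper94_Q2Defs Cfsg.Agent.Lib.Helper83_HP2Defs

variable {F : Type*} [Field F] [Finite F] {t : ℕ} {S M L : Subgroup (PV F t ≃ₗ[F] PV F t)}

/-- the norm of a vector of a plane -/
lemma pQ_single (i : Fin t) (ζ : F × F) : pQ F t (Pi.single i ζ) = ζ.1 * ζ.2 := by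
  rw [pQ_apply]
  rw [Finset.sum_eq_single i]
  · rw [Pi.single_eq_same]
  · intro j _ hj
    rw [Pi.single_eq_of_ne hj]
    simp
  · intro h
    exact absurd (Finset.mem_univ i) h

lemma single_mem' (i : Fin t) (ζ : F × F) : (Pi.single i ζ : PV F t) ∈ pD F t i := by
  intro j hj
  rw [Pi.single_eq_of_ne hj]

/-- The set of vectors whose reflection lies in `L` is stable under `L`. -/
lemma inRc_map (hLO : L ≤ oG (pQ F t)) {w : PV F t} (hw : PInRc L w)
    {g : PV F t ≃ₗ[F] PV F t} (hg : g ∈ L) : PInRc L (g w) := by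
  obtain ⟨hw0, hwL⟩ := hw
  have hgO := hLO hg
  refine ⟨by rw [hgO]; exact hw0, ?_⟩
  have h := conj_refl (pQ F t) (pB F t) (pQs F t) (pQp F t) hgO hw0
  unfold prefl
  rw [← h]
  exact L.mul_mem (L.mul_mem hg hwL) (L.inv_mem hg)

/-- three field elements can be avoided -/
lemma exists_avoid3 (hq : 4 ≤ Nat.card F) (a b c : F) : ∃ x : F, x ≠ a ∧ x ≠ b ∧ x ≠ c := by
  classical
  haveI : Fintype F := Fintype.ofFinite F
  by_contra hno
  push Not at hno
  have hsub : (Finset.univ : Finset F) ⊆ {a, b, c} := by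
    intro x _
    by_cases h1 : x = a
    · simp [h1]
    by_cases h2 : x = b
    · simp [h2]
    have := hno x h1 h2
    simp [this]
  have h1 := Finset.card_le_card hsub
  have h2 : ({a, b, c} : Finset F).card ≤ 3 := Finset.card_le_three
  rw [Finset.card_univ, ← Nat.card_eq_fintype_card] at h1
  omega

/-- If all reflections of `L` are in vectors with at most one nonzero coordinate, every element
of `L` maps every coordinate plane into a coordinate plane. -/
lemma map_le_of_small (hC : PCtxR F t S L)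
    (hcon : ∀ w, PInRc L w → ∀ p p', w p ≠ 0 → w p' ≠ 0 → p = p')
    {g : PV F t ≃ₗ[F] PV F t} (hg : g ∈ L) (i : Fin t) :
    ∃ p, (pD F t i).map (g : PV F t →ₗ[F] PV F t) ≤ pD F t p := by
  classical
  have hq4 : 4 ≤ Nat.card F := le_trans (by norm_num) hC.hq
  -- nonsingular vectors of the plane are mapped to `Rc`
  have hin : ∀ ζ : F × F, ζ.1 * ζ.2 ≠ 0 → PInRc L (g (Pi.single i ζ)) := by
    intro ζ hζ
    have hQ : pQ F t (Pi.single i ζ) ≠ 0 := by rw [pQ_single]; exact hζ
    exact inRc_map hC.hLO ⟨hQ, hC.hR _ ⟨hQ, i, single_mem' i ζ⟩ hQ⟩ hg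
  set x₀ : PV F t := Pi.single i (1, 1) with hx₀
  have hx₀0 : x₀ ≠ 0 := by
    intro h
    have := congrFun h i
    rw [hx₀, Pi.single_eq_same] at this
    exact one_ne_zero (congrArg Prod.fst this)
  have hgx₀ : g x₀ ≠ 0 := fun h => hx₀0 (g.map_eq_zero_iff.mp h)
  obtain ⟨p, hp⟩ : ∃ p, g x₀ p ≠ 0 := by
    by_contra hno
    push Not at hno
    exact hgx₀ (funext hno)
  have hin₀ : PInRc L (g x₀) := hin (1, 1) (by simp)
  -- nonsingular vectors are mapped into the plane `p`
  have hns : ∀ ζ : F × F, ζ.1 * ζ.2 ≠ 0 → ∀ p', p' ≠ p → g (Pi.single i ζ) p' = 0 := by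
    intro ζ hζ p' hp'
    by_contra hne
    have h1 : g (Pi.single i ζ) p = 0 := by
      by_contra h
      exact hp' (hcon _ (hin ζ hζ) p' p hne h)
    have h2 : (g x₀) p' = 0 := by
      by_contra h
      exact hp' (hcon _ hin₀ p' p h hp)
    obtain ⟨lam, hl0, hl1, hl2⟩ := exists_avoid3 hq4 (0 : F) (-ζ.1) (-ζ.2)
    have hsum : lam • x₀ + Pi.single i ζ = Pi.single i (lam + ζ.1, lam + ζ.2) := by
      funext j
      by_cases hj : j = i
      · subst hj
        rw [Pi.add_apply, Pi.smul_apply, hx₀, Pi.single_eq_same, Pi.single_eq_same,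
          Pi.single_eq_same]
        ext <;> simp
      · rw [Pi.add_apply, Pi.smul_apply, hx₀, Pi.single_eq_of_ne hj, Pi.single_eq_of_ne hj,
          Pi.single_eq_of_ne hj, smul_zero, add_zero]
    have hprod : (lam + ζ.1) * (lam + ζ.2) ≠ 0 := by
      apply mul_ne_zero
      · intro e
        exact hl1 (eq_neg_of_add_eq_zero_left e)
      · intro e
        exact hl2 (eq_neg_of_add_eq_zero_left e)
    have h3 := hin (lam + ζ.1, lam + ζ.2) hprod
    rw [← hsum, map_add, map_smul] at h3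
    apply hp'
    apply hcon _ h3 p' p
    · rw [Pi.add_apply, Pi.smul_apply, h2, smul_zero, zero_add]
      exact hne
    · rw [Pi.add_apply, Pi.smul_apply, h1, add_zero]
      intro e
      rcases smul_eq_zero.mp e with e' | e'
      · exact hl0 e'
      · exact hp e'
  refine ⟨p, ?_⟩
  rintro y ⟨x, hx, rfl⟩
  intro p' hp'
  -- `x = single i (x i)` is a sum of two nonsingular vectors
  have hxs : x = Pi.single i (x i) := by
    funext j
    by_cases hj : j = i
    · subst hj
      rw [Pi.single_eq_same]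
    · rw [Pi.single_eq_of_ne hj]
      exact hx j hj
  obtain ⟨α', ha0, ha1, -⟩ := exists_avoid3 hq4 (0 : F) (x i).1 0
  obtain ⟨β', hb0, hb1, -⟩ := exists_avoid3 hq4 (0 : F) (x i).2 0
  have hdec : x = Pi.single i (α', β') + Pi.single i ((x i).1 - α', (x i).2 - β') := by
    rw [← Pi.single_add]
    conv_lhs => rw [hxs]
    congr 1
    ext <;> simp
  show g x p' = 0
  rw [hdec, map_add, Pi.add_apply, hns (α', β') (mul_ne_zero ha0 hb0) p' hp',
    hns ((x i).1 - α', (x i).2 - β')
      (mul_ne_zero (sub_ne_zero.mpr (Ne.symm ha1)) (sub_ne_zero.mpr (Ne.symm hb1))) p' hp',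
    add_zero]

/-- **HP2-R1**. -/
theorem R1 (hC : PCtxR F t S L) : ∃ w, PInRc L w ∧ 2 ≤ (PSupp w).card := by
  classical
  by_contra hno
  push Not at hno
  have hcon : ∀ w, PInRc L w → ∀ p p', w p ≠ 0 → w p' ≠ 0 → p = p' := by
    intro w hw p p' hp hp'
    have h := hno w hw
    have h1 : (PSupp w).card ≤ 1 := by omega
    rw [Finset.card_le_one] at h1
    apply h1
    · unfold PSupp
      rw [Finset.mem_filter]
      exact ⟨Finset.mem_univ _, hp⟩
    · unfold PSupp
      rw [Finset.mem_filter]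
      exact ⟨Finset.mem_univ _, hp'⟩
  apply hC.hLS
  intro g hg
  have hg' : g⁻¹ ∈ L := L.inv_mem hg
  choose f hf using fun i => map_le_of_small hC hcon hg i
  choose f' hf' using fun i => map_le_of_small hC hcon hg' i
  have hne : ∀ i, ∃ x : PV F t, x ∈ pD F t i ∧ x i ≠ 0 := by
    intro i
    refine ⟨Pi.single i (1, 1), single_mem' i _, ?_⟩
    rw [Pi.single_eq_same]
    intro e
    exact one_ne_zero (congrArg Prod.fst e)
  have h1 : ∀ i, f' (f i) = i := by
    intro i
    obtain ⟨x, hx, hxi⟩ := hne i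
    have h2 : g x ∈ pD F t (f i) := hf i ⟨x, hx, rfl⟩
    have h3 : g⁻¹ (g x) ∈ pD F t (f' (f i)) := hf' (f i) ⟨g x, h2, rfl⟩
    have h4 : g⁻¹ (g x) = x := by
      rw [← LinearEquiv.mul_apply, inv_mul_cancel]
      rfl
    rw [h4] at h3
    by_contra hcon'
    exact hxi (h3 i (Ne.symm hcon'))
  have h2 : ∀ j, f (f' j) = j := by
    intro j
    obtain ⟨x, hx, hxj⟩ := hne j
    have h2 : g⁻¹ x ∈ pD F t (f' j) := hf' j ⟨x, hx, rfl⟩
    have h3 : g (g⁻¹ x) ∈ pD F t (f (f' j)) := hf (f' j) ⟨g⁻¹ x, h2, rfl⟩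
    have h4 : g (g⁻¹ x) = x := by
      rw [← LinearEquiv.mul_apply, mul_inv_cancel]
      rfl
    rw [h4] at h3
    by_contra hcon'
    exact hxj (h3 j (Ne.symm hcon'))
  rw [hC.hS g]
  refine ⟨⟨f, f', h1, h2⟩, fun i => ?_⟩
  apply le_antisymm (hf i)
  intro y hy
  have h3 : g⁻¹ y ∈ pD F t (f' (f i)) := hf' (f i) ⟨y, hy, rfl⟩
  rw [h1] at h3
  refine ⟨g⁻¹ y, h3, ?_⟩
  change g (g⁻¹ y) = y
  rw [← LinearEquiv.mul_apply, mul_inv_cancel]
  rfl

end Cfsg.Agent.Lib.Helper2_HP2_R1
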