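import Mathlib
import Cfsg.Agent.Lib.Helper83_HP2Defs

set_option autoImplicit false
set_option linter.unusedSectionVars false
set_option linter.unusedVariables false
set_option linter.unusedSimpArgs false

namespace Cfsg.Agent.Lib.Helper70_HP2_SWPREFL

open Module Cfsg.Agent.Lib.Helper94_Symp Cfsg.Agent.Lib.Helper94_OrthSmall
  Cfsg.Agent.Lib.Helper94_OrthSiegel Cfsg.Agent.Lib.Helper94_OrthNondeg
  Cfsg.Agent.Lib.Helper29_ODDefs Cfsg.Agent.Lib.Helper94_Q2Defs Cfsg.Agent.Lib.Helper83_HP2Defs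

variable {F : Type*} [Field F] [Finite F] {t : ℕ} {S M L : Subgroup (PV F t ≃ₗ[F] PV F t)}

omit [Finite F] in
/-- `pQ` of a vector of the plane `pD l` -/
lemma pQ_single (l : Fin t) (ζ : F × F) : pQ F t (Pi.single l ζ) = ζ.1 * ζ.2 := by
  rw [pQ_apply, Finset.sum_eq_single l]
  · rw [Pi.single_eq_same]
  · intro j _ hj
    rw [Pi.single_eq_of_ne hj]
    simp
  · intro h; exact absurd (Finset.mem_univ l) h

omit [Finite F] in
/-- `pB v (single l ζ)` -/
lemma pB_single (l : Fin t) (ζ : F × F) (v : PV F t) :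
    pB F t v (Pi.single l ζ) = (v l).1 * ζ.2 + (v l).2 * ζ.1 := by
  rw [pB_apply, Finset.sum_eq_single l]
  · rw [Pi.single_eq_same]
  · intro j _ hj
    rw [Pi.single_eq_of_ne hj]
    simp
  · intro h; exact absurd (Finset.mem_univ l) h

/-- **HP2-SWPREFL** -/
theorem SWPREFL (l : Fin t) {b : F} (hb : b ≠ 0) :
    ∃ x : PV F t, x ∈ pD F t l ∧ pQ F t x = -b ∧ ∃ hx : pQ F t x ≠ 0,
      ∀ v j, prefl F t hx v j = if j = l then swpAct b (v j) else v j := by
  have hQ : pQ F t (Pi.single l ((b, -1) : F × F)) = -b := by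
    rw [pQ_single]; ring
  have hQ0 : pQ F t (Pi.single l ((b, -1) : F × F)) ≠ 0 := by
    rw [hQ]; exact neg_ne_zero.2 hb
  refine ⟨Pi.single l (b, -1), ?_, hQ, hQ0, ?_⟩
  · intro j hj
    exact Pi.single_eq_of_ne hj _
  · intro v j
    rw [refl_apply, hQ, pB_single]
    by_cases hj : j = l
    · subst hj
      rw [if_pos rfl, Pi.sub_apply, Pi.smul_apply, Pi.single_eq_same]
      unfold swpAct
      ext
      · simp only [Prod.fst_sub, Prod.smul_fst, smul_eq_mul]
        field_simp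
        ring
      · simp only [Prod.snd_sub, Prod.smul_snd, smul_eq_mul]
        field_simp
        ring
    · rw [if_neg hj, Pi.sub_apply, Pi.smul_apply, Pi.single_eq_of_ne hj, smul_zero, sub_zero]

end Cfsg.Agent.Lib.Helper70_HP2_SWPREFL
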