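import Mathlib
import Cfsg.Agent.Lib.Helper94_Q2Defs

set_option autoImplicit false
set_option linter.unusedSectionVars false
set_option linter.unusedVariables false

namespace Cfsg.Agent.Lib.Helper70_Q2_TAN

open Module Cfsg.Agent.Lib.Helper94_Symp Cfsg.Agent.Lib.Helper94_OrthSmall
  Cfsg.Agent.Lib.Helper94_OrthSiegel Cfsg.Agent.Lib.Helper94_OrthNondeg
  Cfsg.Agent.Lib.Helper29_ODDefs Cfsg.Agent.Lib.Helper94_Q2Defs

variable {F : Type*} [Field F] [Finite F] {a b : F} [Fact (∀ r : F, r ^ 2 ≠ a + b * r)] {t : ℕ}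
  {S M L : Subgroup (MV a b t ≃ₗ[F] MV a b t)}

/-- **Q2-TAN**, corrected order of the two reflections (the product `r_w * r_w'` is the inverse
Siegel element, see `TAN_inv`). -/
theorem TAN {V : Type*} [AddCommGroup V] [Module F V] (Q : V → F) (B : LinearMap.BilinForm F V)
    (hQs : ∀ (c : F) (v : V), Q (c • v) = c * c * Q v)
    (hQp : ∀ u v : V, Q (u + v) = Q u + Q v + B u v) {w w' : V} (hw : Q w ≠ 0) (hw' : Q w' ≠ 0)
    (h : Q w = Q w') (hu : Q (w - w') = 0) :
    refl Q B hQs hQp hw' * refl Q B hQs hQp hw = sieg Q B (w - w') ((Q w)⁻¹ • w) := by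
  have hBuw : B (w - w') w = 0 := by
    have h1 := hQp (w - w') w'
    have h2 := hQp (w - w') (w - w')
    have h3 : Q ((w - w') + (w - w')) = 2 * 2 * Q (w - w') := by
      rw [← two_smul F (w - w'), hQs]
    rw [sub_add_cancel, hu] at h1
    have h4 : B (w - w') w' = 0 := by rw [h] at h1; linear_combination -h1
    have h5 : B (w - w') (w - w') = 0 := by rw [h3, hu] at h2; linear_combination -h2
    have : B (w - w') w = B (w - w') (w - w') + B (w - w') w' := by
      rw [← map_add, sub_add_cancel]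
    rw [this, h4, h5, add_zero]
  have hBuz : B (w - w') ((Q w)⁻¹ • w) = 0 := by
    rw [map_smul, hBuw, smul_zero]
  ext x
  rw [LinearEquiv.mul_apply, refl_apply, refl_apply, sieg_apply Q B hQs hQp hu hBuz, hQs, ← h]
  have hww : B w w = 2 * Q w := B_self Q B hQs hQp w
  have hwu : B w (w - w') = 0 := by rw [B_symm Q B hQp, hBuw]
  have e1 : w' = w - (w - w') := by abel
  generalize w - w' = u at *
  subst e1
  simp only [map_sub, map_smul, LinearMap.sub_apply, LinearMap.smul_apply, smul_eq_mul, hww, hwu]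
  have hq : Q w * (Q w)⁻¹ = 1 := mul_inv_cancel₀ hw
  match_scalars <;> field_simp <;> ring

lemma tan_orth {V : Type*} [AddCommGroup V] [Module F V] (Q : V → F) (B : LinearMap.BilinForm F V)
    (hQs : ∀ (c : F) (v : V), Q (c • v) = c * c * Q v)
    (hQp : ∀ u v : V, Q (u + v) = Q u + Q v + B u v) {w w' : V}
    (h : Q w = Q w') (hu : Q (w - w') = 0) : B (w - w') w = 0 := by
  have h1 := hQp (w - w') w'
  have h2 := hQp (w - w') (w - w')
  have h3 : Q ((w - w') + (w - w')) = 2 * 2 * Q (w - w') := by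
    rw [← two_smul F (w - w'), hQs]
  rw [sub_add_cancel, hu] at h1
  have h4 : B (w - w') w' = 0 := by rw [h] at h1; linear_combination -h1
  have h5 : B (w - w') (w - w') = 0 := by rw [h3, hu] at h2; linear_combination -h2
  have : B (w - w') w = B (w - w') (w - w') + B (w - w') w' := by
    rw [← map_add, sub_add_cancel]
  rw [this, h4, h5, add_zero]

/-- The product in the order of the original stub: it is the inverse Siegel element. -/
theorem TAN_inv {V : Type*} [AddCommGroup V] [Module F V] (Q : V → F)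
    (B : LinearMap.BilinForm F V)
    (hQs : ∀ (c : F) (v : V), Q (c • v) = c * c * Q v)
    (hQp : ∀ u v : V, Q (u + v) = Q u + Q v + B u v) {w w' : V} (hw : Q w ≠ 0) (hw' : Q w' ≠ 0)
    (h : Q w = Q w') (hu : Q (w - w') = 0) :
    refl Q B hQs hQp hw * refl Q B hQs hQp hw' = sieg Q B (w - w') (-((Q w)⁻¹ • w)) := by
  have hBuz : B (w - w') ((Q w)⁻¹ • w) = 0 := by
    rw [map_smul, tan_orth Q B hQs hQp h hu, smul_zero]
  rw [← sieg_inv Q B hQs hQp hu hBuz, ← TAN Q B hQs hQp hw hw' h hu, _root_.mul_inv_rev,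
    refl_inv, refl_inv]

/-- Membership form used by the consumers: both products lie in any subgroup containing the
two reflections, hence so does the Siegel element. -/
theorem TAN_mem {V : Type*} [AddCommGroup V] [Module F V] (Q : V → F)
    (B : LinearMap.BilinForm F V)
    (hQs : ∀ (c : F) (v : V), Q (c • v) = c * c * Q v)
    (hQp : ∀ u v : V, Q (u + v) = Q u + Q v + B u v) {w w' : V} (hw : Q w ≠ 0) (hw' : Q w' ≠ 0)
    (h : Q w = Q w') (hu : Q (w - w') = 0) (L : Subgroup (V ≃ₗ[F] V))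
    (h1 : refl Q B hQs hQp hw ∈ L) (h2 : refl Q B hQs hQp hw' ∈ L) :
    sieg Q B (w - w') ((Q w)⁻¹ • w) ∈ L := by
  rw [← TAN Q B hQs hQp hw hw' h hu]
  exact L.mul_mem h2 h1

end Cfsg.Agent.Lib.Helper70_Q2_TAN
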