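import Mathlib
import Cfsg.Agent.Lib.Helper83_HP2Defs

/-!
helper78: HP2 package ROTREFL (architect helper83; twin of Helper7_Q2_ROTREFL), verbatim: the
rotation `rotAct c` of one coordinate is a product of two reflections in vectors of the coordinate
plane.  Self-contained: the reflection in `single l (b, -1)` is computed here (`h78_swprefl`,
the statement of HP2-SWPREFL).
-/

set_option autoImplicit false
set_option linter.unusedSectionVars false
set_option linter.unusedVariables false

namespace Cfsg.Agent.Lib.Helper78_HP2_ROTREFL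

open Module Cfsg.Agent.Lib.Helper94_Symp Cfsg.Agent.Lib.Helper94_OrthSmall
  Cfsg.Agent.Lib.Helper94_OrthSiegel Cfsg.Agent.Lib.Helper94_OrthNondeg
  Cfsg.Agent.Lib.Helper29_ODDefs Cfsg.Agent.Lib.Helper94_Q2Defs Cfsg.Agent.Lib.Helper83_HP2Defs

variable {F : Type*} [Field F] [Finite F] {t : ℕ} {S M L : Subgroup (PV F t ≃ₗ[F] PV F t)}

omit [Finite F] in
theorem h78_pQ_single (l : Fin t) (ζ : F × F) :
    pQ F t (Pi.single l ζ) = ζ.1 * ζ.2 := by
  classical
  rw [pQ_apply, Finset.sum_eq_single l]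
  · rw [Pi.single_eq_same]
  · intro j _ hj
    rw [Pi.single_eq_of_ne hj]
    simp
  · intro h; exact absurd (Finset.mem_univ l) h

omit [Finite F] in
theorem h78_pB_single (l : Fin t) (ζ : F × F) (v : PV F t) :
    pB F t v (Pi.single l ζ) = (v l).1 * ζ.2 + (v l).2 * ζ.1 := by
  classical
  rw [pB_apply, Finset.sum_eq_single l]
  · rw [Pi.single_eq_same]
  · intro j _ hj
    rw [Pi.single_eq_of_ne hj]
    simp
  · intro h; exact absurd (Finset.mem_univ l) h

omit [Finite F] in
theorem h78_single_mem_pD (l : Fin t) (ζ : F × F) :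
    (Pi.single l ζ : PV F t) ∈ pD F t l := by
  classical
  intro j hj
  exact Pi.single_eq_of_ne hj _

omit [Finite F] in
/-- the reflection in `single l (b, -1)` -/
theorem h78_refl_single_apply (l : Fin t) {b : F} (hb : b ≠ 0)
    (hx : pQ F t (Pi.single l ((b, -1) : F × F)) ≠ 0) (v : PV F t) (j : Fin t) :
    prefl F t hx v j = if j = l then swpAct b (v j) else v j := by
  classical
  rw [refl_apply, h78_pQ_single, h78_pB_single, Pi.sub_apply, Pi.smul_apply]
  by_cases hj : j = l
  · subst hj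
    rw [if_pos rfl, Pi.single_eq_same]
    unfold swpAct
    ext
    · simp only [Prod.fst_sub, Prod.smul_fst, smul_eq_mul]
      field_simp
      ring
    · simp only [Prod.snd_sub, Prod.smul_snd, smul_eq_mul]
      field_simp
      ring
  · rw [if_neg hj, Pi.single_eq_of_ne hj, smul_zero, sub_zero]

omit [Finite F] in
/-- the statement of HP2-SWPREFL -/
theorem h78_swprefl (l : Fin t) {b : F} (hb : b ≠ 0) :
    ∃ x : PV F t, x ∈ pD F t l ∧ pQ F t x = -b ∧ ∃ hx : pQ F t x ≠ 0,
      ∀ v j, prefl F t hx v j = if j = l then swpAct b (v j) else v j := by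
  have hQ : pQ F t (Pi.single l ((b, -1) : F × F)) = -b := by
    rw [h78_pQ_single]
    ring
  have hx : pQ F t (Pi.single l ((b, -1) : F × F)) ≠ 0 := by
    rw [hQ]
    exact neg_ne_zero.mpr hb
  exact ⟨Pi.single l (b, -1), h78_single_mem_pD l _, hQ, hx,
    fun v j => h78_refl_single_apply l hb hx v j⟩

/-- **HP2-ROTREFL** [S] SWPREFL with b = c and with b = 1: swpAct c (swpAct 1 z) = rotAct c z. -/
theorem ROTREFL (l : Fin t) {c : F} (hc : c ≠ 0) :
    ∃ x y : PV F t, x ∈ pD F t l ∧ y ∈ pD F t l ∧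
      ∃ (hx : pQ F t x ≠ 0) (hy : pQ F t y ≠ 0),
        ∀ v j, (prefl F t hx * prefl F t hy) v j = if j = l then rotAct c (v j) else v j := by
  obtain ⟨x, hxD, -, hx, hxr⟩ := h78_swprefl (F := F) (t := t) l hc
  obtain ⟨y, hyD, -, hy, hyr⟩ := h78_swprefl (F := F) (t := t) l (one_ne_zero : (1 : F) ≠ 0)
  refine ⟨x, y, hxD, hyD, hx, hy, ?_⟩
  intro v j
  rw [LinearEquiv.mul_apply, hxr, hyr]
  by_cases hj : j = l
  · rw [if_pos hj, if_pos hj, if_pos hj]
    unfold swpAct rotAct
    ext <;> simp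
  · rw [if_neg hj, if_neg hj, if_neg hj]

end Cfsg.Agent.Lib.Helper78_HP2_ROTREFL
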