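import Mathlib
import Cfsg.Agent.Lib.Helper40_SpBasic
import Cfsg.Agent.Lib.Helper43_JordanSum
import Cfsg.Agent.Lib.Helper99_SpOrth

set_option autoImplicit false

/-!
Unipotent isometries of nondegenerate alternating spaces in characteristic `≠ 2`: orthogonal
decomposition into nondegenerate invariant pieces which are single Jordan blocks of even size or
pairs of Jordan blocks of the same odd size (Springer–Steinberg), in the form needed for
helper99's S5956 (package Q4).
-/

namespace Cfsg.Agent.Lib.Helper88_UnipDec

open Module Cfsg.Agent.Lib.Helper40_SpBasic Cfsg.Agent.Lib.Helper43_Jordan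

universe u

section jordan

variable {F V : Type u} [Field F] [AddCommGroup V] [Module F V] [FiniteDimensional F V]

/-- a nilpotent endomorphism with `N ^ k = 0` whose space has dimension at most `k` times the rank
of `N ^ (k - 1)` has Jordan type `k, k, ..., k`. -/
theorem jtype_eq_replicate (N : End F V) (k c : ℕ) (hk : 1 ≤ k) (hNk : N ^ k = 0)
    (hc : finrank F (LinearMap.range (N ^ (k - 1))) = c) (hle : finrank F V ≤ c * k) :
    jtype N = Multiset.replicate c k := by
  classical
  have hN : IsNilpotent N := ⟨k, hNk⟩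
  obtain ⟨ι, hι, d, b, hd, hb, hj⟩ := jtype_spec N hN
  have hdk : ∀ i, d i ≤ k := (hb.pow_eq_zero_iff k).1 hNk
  have h1 := hb.finrank_range_pow (k - 1)
  rw [hc] at h1
  have h2 : finrank F V = ∑ i, d i := by
    rw [hb.finrank_eq_sum]
    rfl
  -- every block has size `k`
  have hsum : ∑ i, d i ≤ ∑ i, (d i - (k - 1)) * k := by
    rw [← h2, ← Finset.sum_mul, ← h1]
    exact hle
  have hall : ∀ i, d i = k := by
    by_contra hcon
    rw [not_forall] at hcon
    obtain ⟨i₀, hi₀⟩ := hcon
    have hlt : ∑ i, (d i - (k - 1)) * k < ∑ i, d i := by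
      apply Finset.sum_lt_sum
      · intro i _
        have := hdk i
        have := hd i
        rcases Nat.lt_or_ge (d i) k with h | h
        · have : d i - (k - 1) = 0 := by omega
          rw [this, zero_mul]
          exact Nat.zero_le _
        · have : d i - (k - 1) = 1 := by omega
          rw [this, one_mul]
          omega
      · refine ⟨i₀, Finset.mem_univ _, ?_⟩
        have := hdk i₀
        have := hd i₀
        have : d i₀ - (k - 1) = 0 := by omega
        rw [this, zero_mul]
        omega
    omega
  have hcard : Fintype.card ι = c := by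
    rw [h1]
    rw [Fintype.card, Finset.card_eq_sum_ones]
    apply Finset.sum_congr rfl
    intro i _
    rw [hall i]
    omega
  rw [hj]
  have : Multiset.map d Finset.univ.val = Multiset.map (fun _ => k) (Finset.univ : Finset ι).val :=
    Multiset.map_congr rfl (fun i _ => hall i)
  rw [this, Multiset.map_const', Finset.card_val, Finset.card_univ, hcard]

end jordan

section adjoint

variable {F : Type*} [Field F] {V : Type*} [AddCommGroup V] [Module F V]
variable {B : LinearMap.BilinForm F V} {u : Module.End F V} {r : ℕ}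

/-- `u⁻¹ = u ^ (r - 1)` commutes with `u - 1` -/
theorem commute_ad_N (u : Module.End F V) (r : ℕ) : Commute (u ^ (r - 1)) (u - 1) :=
  ((Commute.refl u).pow_left (r - 1)).sub_right (Commute.one_right _)

/-- the adjoint of `N = u - 1` is `- u⁻¹ N` -/
theorem adj_N (h : IsoData B u r) (x y : V) :
    B ((u - 1) x) y = - B x ((u ^ (r - 1) * (u - 1)) y) := by
  have h1 : (u ^ (r - 1) * (u - 1)) y = y - (u ^ (r - 1)) y := by
    rw [Module.End.mul_apply, LinearMap.sub_apply, Module.End.one_apply, map_sub, h.ad_apply]
  rw [h1, LinearMap.sub_apply, Module.End.one_apply, map_sub, LinearMap.sub_apply, h.adj1, map_sub]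
  ring

theorem adj_N_pow (h : IsoData B u r) (i : ℕ) (x y : V) :
    B (((u - 1) ^ i) x) y = (-1) ^ i * B x (((u ^ (r - 1) * (u - 1)) ^ i) y) := by
  induction i generalizing x y with
  | zero => simp
  | succ i ih =>
    have h1 : ((u - 1) ^ (i + 1)) x = ((u - 1) ^ i) ((u - 1) x) := by
      rw [pow_succ, Module.End.mul_apply]
    have h2 : ((u ^ (r - 1) * (u - 1)) ^ (i + 1)) y =
        (u ^ (r - 1) * (u - 1)) (((u ^ (r - 1) * (u - 1)) ^ i) y) := by
      rw [pow_succ', Module.End.mul_apply]
    rw [h1, ih, adj_N h, h2, pow_succ]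
    ring

/-- `u⁻¹` fixes the kernel of `u - 1` -/
theorem ad_fix (h : IsoData B u r) {y : V} (hy : (u - 1) y = 0) : (u ^ (r - 1)) y = y := by
  have h1 : u y = y := by
    rw [LinearMap.sub_apply, Module.End.one_apply, sub_eq_zero] at hy
    exact hy
  have h2 := h.ad_apply y
  rw [h1] at h2
  exact h2

theorem ad_pow_fix (h : IsoData B u r) {y : V} (hy : (u - 1) y = 0) (i : ℕ) :
    ((u ^ (r - 1)) ^ i) y = y := by
  induction i with
  | zero => simp
  | succ i ih => rw [pow_succ, Module.End.mul_apply, ad_fix h hy, ih]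

/-- the basic orthogonality relations between the powers of `N = u - 1` -/
theorem B_pow_pow_eq_zero (h : IsoData B u r) {k : ℕ} (hk : (u - 1) ^ k = 0) {i j : ℕ}
    (hij : k ≤ i + j) (x y : V) : B (((u - 1) ^ i) x) (((u - 1) ^ j) y) = 0 := by
  rw [adj_N_pow h, (commute_ad_N u r).mul_pow, Module.End.mul_apply, ← Module.End.mul_apply
    ((u - 1) ^ i), ← pow_add]
  have : (u - 1) ^ (i + j) = 0 := by
    obtain ⟨t, ht⟩ := Nat.exists_eq_add_of_le hij
    rw [ht, pow_add, hk, zero_mul]
  rw [this, LinearMap.zero_apply, map_zero, map_zero, mul_zero]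

theorem B_pow_pow_eq (h : IsoData B u r) {k : ℕ} (hk : (u - 1) ^ k = 0) {i j : ℕ}
    (hij : i + j + 1 = k) (x y : V) :
    B (((u - 1) ^ i) x) (((u - 1) ^ j) y) = (-1) ^ i * B x (((u - 1) ^ (k - 1)) y) := by
  rw [adj_N_pow h, (commute_ad_N u r).mul_pow, Module.End.mul_apply, ← Module.End.mul_apply
    ((u - 1) ^ i), ← pow_add]
  have hk1 : i + j = k - 1 := by omega
  rw [hk1]
  have hy : (u - 1) (((u - 1) ^ (k - 1)) y) = 0 := by
    rw [← Module.End.mul_apply, ← pow_succ', Nat.sub_add_cancel (by omega), hk,
      LinearMap.zero_apply]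
  rw [ad_pow_fix h hy]

/-- the form `β(x, y) = B(x, N^(k-1) y)` is `(-1)^k`-symmetric -/
theorem beta_symm (h : IsoData B u r) {k : ℕ} (hk0 : 1 ≤ k) (hk : (u - 1) ^ k = 0) (x y : V) :
    B y (((u - 1) ^ (k - 1)) x) = (-1) ^ k * B x (((u - 1) ^ (k - 1)) y) := by
  rw [h.skew]
  have h1 := B_pow_pow_eq h hk (i := k - 1) (j := 0) (by omega) x y
  rw [pow_zero, Module.End.one_apply] at h1
  rw [h1]
  have : (-1 : F) ^ k = - (-1) ^ (k - 1) := by
    obtain ⟨t, rfl⟩ := Nat.exists_eq_add_of_le hk0
    rw [add_comm, Nat.add_sub_cancel, pow_succ]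
    ring
  rw [this]
  ring

end adjoint

section piece

variable {F V : Type u} [Field F] [AddCommGroup V] [Module F V]
variable {B : LinearMap.BilinForm F V} {u : Module.End F V} {r : ℕ}

/-- the vectors `N^i g_a` -/
def chainVec (u : Module.End F V) (k c : ℕ) (g : Fin c → V) (ia : Fin c × Fin k) : V :=
  ((u - 1) ^ (ia.2 : ℕ)) (g ia.1)

/-- the span of the chains `N^i g_a`, `i < k` -/
def chainSpan (u : Module.End F V) (k c : ℕ) (g : Fin c → V) : Submodule F V :=
  Submodule.span F (Set.range (chainVec u k c g))

theorem chainVec_mem (u : Module.End F V) (k c : ℕ) (g : Fin c → V) (a : Fin c) {i : ℕ}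
    (hi : i < k) : ((u - 1) ^ i) (g a) ∈ chainSpan u k c g :=
  Submodule.subset_span ⟨(a, ⟨i, hi⟩), rfl⟩

theorem chainSpan_inv_N {k c : ℕ} (hk : (u - 1) ^ k = 0) (g : Fin c → V) :
    ∀ x ∈ chainSpan u k c g, (u - 1) x ∈ chainSpan u k c g := by
  intro x hx
  induction hx using Submodule.span_induction with
  | mem x hx =>
    obtain ⟨⟨a, i⟩, rfl⟩ := hx
    show (u - 1) (((u - 1) ^ (i : ℕ)) (g a)) ∈ _
    rw [← Module.End.mul_apply, ← pow_succ']
    by_cases hi : (i : ℕ) + 1 < k
    · exact chainVec_mem u k c g a hi
    · have : (i : ℕ) + 1 = k := by have := i.2; omega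
      rw [this, hk, LinearMap.zero_apply]
      exact Submodule.zero_mem _
  | zero => rw [map_zero]; exact Submodule.zero_mem _
  | add x y _ _ hx hy => rw [map_add]; exact Submodule.add_mem _ hx hy
  | smul t x _ hx => rw [map_smul]; exact Submodule.smul_mem _ _ hx

theorem chainSpan_inv {k c : ℕ} (hk : (u - 1) ^ k = 0) (g : Fin c → V) :
    Inv u (chainSpan u k c g) := by
  intro x hx
  have h1 : u x = x + (u - 1) x := by
    rw [LinearMap.sub_apply, Module.End.one_apply]
    abel
  rw [h1]
  exact Submodule.add_mem _ hx (chainSpan_inv_N hk g x hx)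

theorem finrank_chainSpan_le [FiniteDimensional F V] (k c : ℕ) (g : Fin c → V) :
    finrank F (chainSpan u k c g) ≤ c * k := by
  have := finrank_range_le_card (R := F) (chainVec u k c g)
  rw [Fintype.card_prod, Fintype.card_fin, Fintype.card_fin] at this
  exact this

/-- nondegeneracy of the span of the chains -/
theorem ndOn_chainSpan (h : IsoData B u r) {k c : ℕ} (hk : (u - 1) ^ k = 0)
    (g : Fin c → V)
    (hM : ∀ y : Fin c → F,
      (∀ b, ∑ a, y a * B (g a) (((u - 1) ^ (k - 1)) (g b)) = 0) → y = 0) :
    NDOn B (chainSpan u k c g) := by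
  classical
  intro x hx hxy
  obtain ⟨cf, rfl⟩ := (Submodule.mem_span_range_iff_exists_fun F).1 hx
  by_contra hne
  -- some coefficient is nonzero
  have hex : ∃ i : ℕ, ∃ (hi : i < k) (a : Fin c), cf (a, ⟨i, hi⟩) ≠ 0 := by
    by_contra hcon
    apply hne
    apply Finset.sum_eq_zero
    rintro ⟨a, i⟩ _
    have : cf (a, i) = 0 := by
      by_contra h0
      exact hcon ⟨i, i.2, a, h0⟩
    rw [this, zero_smul]
  let i₀ := Nat.find hex
  obtain ⟨hi₀, a₀, ha₀⟩ := Nat.find_spec hex
  have hmin : ∀ (a : Fin c) (i : Fin k), (i : ℕ) < i₀ → cf (a, i) = 0 := by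
    intro a i hi
    by_contra h0
    exact Nat.find_min hex hi ⟨i.2, a, h0⟩
  have hzero : (fun a => (-1) ^ i₀ * cf (a, ⟨i₀, hi₀⟩)) = 0 := by
    apply hM
    intro b
    have h1 := hxy _ (chainVec_mem u k c g b (i := k - 1 - i₀) (by omega))
    rw [map_sum, LinearMap.sum_apply, Fintype.sum_prod_type] at h1
    rw [← h1]
    apply Finset.sum_congr rfl
    intro a _
    rw [Finset.sum_eq_single (⟨i₀, hi₀⟩ : Fin k)]
    · rw [map_smul, LinearMap.smul_apply, smul_eq_mul]
      show _ = cf (a, ⟨i₀, hi₀⟩) * B (((u - 1) ^ i₀) (g a)) (((u - 1) ^ (k - 1 - i₀)) (g b))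
      rw [B_pow_pow_eq h hk (by omega)]
      ring
    · intro i _ hi
      rw [map_smul, LinearMap.smul_apply, smul_eq_mul]
      rcases Nat.lt_or_ge (i : ℕ) i₀ with hlt | hge
      · rw [hmin a i hlt, zero_mul]
      · have hgt : i₀ < (i : ℕ) := by
          rcases Nat.lt_or_ge i₀ (i : ℕ) with h' | h'
          · exact h'
          · exfalso
            apply hi
            apply Fin.ext
            show (i : ℕ) = i₀
            omega
        show cf (a, i) * B (((u - 1) ^ (i : ℕ)) (g a)) (((u - 1) ^ (k - 1 - i₀)) (g b)) = 0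
        rw [B_pow_pow_eq_zero h hk (by omega), mul_zero]
    · intro hni
      exact absurd (Finset.mem_univ _) hni
  have := congrFun hzero a₀
  simp only [Pi.zero_apply, mul_eq_zero, pow_eq_zero_iff', neg_eq_zero, one_ne_zero, false_and,
    false_or] at this
  exact ha₀ this

theorem coe_restrict_pow (N : Module.End F V) {W : Submodule F V} (hW : ∀ x ∈ W, N x ∈ W)
    (j : ℕ) (x : W) : (((N.restrict hW) ^ j) x : V) = (N ^ j) (x : V) := by
  induction j with
  | zero => simp
  | succ j ih =>
    rw [pow_succ', pow_succ', Module.End.mul_apply, Module.End.mul_apply,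
      LinearMap.coe_restrict_apply, ih]

/-- the tops of the chains are linearly independent -/
theorem linearIndependent_tops (h : IsoData B u r) {k c : ℕ} (hk0 : 1 ≤ k)
    (hk : (u - 1) ^ k = 0) (g : Fin c → V)
    (hM : ∀ y : Fin c → F,
      (∀ b, ∑ a, y a * B (g a) (((u - 1) ^ (k - 1)) (g b)) = 0) → y = 0) :
    LinearIndependent F (fun a => ((u - 1) ^ (k - 1)) (g a)) := by
  rw [Fintype.linearIndependent_iff]
  intro y hy
  have : y = 0 := by
    apply hM
    intro b
    have h1 : B (g b) (∑ a, y a • ((u - 1) ^ (k - 1)) (g a)) = 0 := by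
      rw [hy, map_zero]
    rw [map_sum] at h1
    have h2 : ∑ a, y a * B (g a) (((u - 1) ^ (k - 1)) (g b)) =
        (-1) ^ k * ∑ a, B (g b) (y a • ((u - 1) ^ (k - 1)) (g a)) := by
      rw [Finset.mul_sum]
      apply Finset.sum_congr rfl
      intro a _
      rw [map_smul, smul_eq_mul, beta_symm h hk0 hk (g a) (g b)]
      have : ((-1 : F) ^ k) * ((-1) ^ k) = 1 := by
        rw [← mul_pow]
        norm_num
      calc y a * B (g a) (((u - 1) ^ (k - 1)) (g b))
          = ((-1 : F) ^ k * (-1) ^ k) * (y a * B (g a) (((u - 1) ^ (k - 1)) (g b))) := by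
            rw [this, one_mul]
        _ = _ := by ring
    rw [h2, h1, mul_zero]
  intro a
  rw [this]
  rfl

/-- the Jordan type of the span of the chains -/
theorem jtype_chainSpan [FiniteDimensional F V] (h : IsoData B u r) {k c : ℕ} (hk0 : 1 ≤ k)
    (hk : (u - 1) ^ k = 0) (g : Fin c → V)
    (hM : ∀ y : Fin c → F,
      (∀ b, ∑ a, y a * B (g a) (((u - 1) ^ (k - 1)) (g b)) = 0) → y = 0) :
    jtype ((u - 1).restrict (chainSpan_inv_N hk g)) = Multiset.replicate c k ∧
      finrank F (chainSpan u k c g) = c * k := by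
  set W := chainSpan u k c g with hW
  set N' := (u - 1).restrict (chainSpan_inv_N hk g) with hN'
  have hN'k : N' ^ k = 0 := by
    apply LinearMap.ext
    intro x
    apply Subtype.ext
    rw [coe_restrict_pow, hk, LinearMap.zero_apply, LinearMap.zero_apply]
    rfl
  have hgW : ∀ a, g a ∈ W := by
    intro a
    have := chainVec_mem u k c g a (i := 0) (by omega)
    rwa [pow_zero, Module.End.one_apply] at this
  -- rank of the top power
  have hcle : c ≤ finrank F (LinearMap.range (N' ^ (k - 1))) := by
    let f' : Fin c → ↥(LinearMap.range (N' ^ (k - 1))) :=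
      fun a => ⟨(N' ^ (k - 1)) ⟨g a, hgW a⟩, ⟨_, rfl⟩⟩
    have hli : LinearIndependent F f' := by
      apply LinearIndependent.of_comp
        ((W.subtype).comp (LinearMap.range (N' ^ (k - 1))).subtype)
      have : (⇑((W.subtype).comp (LinearMap.range (N' ^ (k - 1))).subtype) ∘ f') =
          fun a => ((u - 1) ^ (k - 1)) (g a) := by
        funext a
        show (((N' ^ (k - 1)) ⟨g a, hgW a⟩ : W) : V) = _
        rw [coe_restrict_pow]
      rw [this]
      exact linearIndependent_tops h hk0 hk g hM
    have := hli.fintype_card_le_finrank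
    rwa [Fintype.card_fin] at this
  have hle : finrank F W ≤ finrank F (LinearMap.range (N' ^ (k - 1))) * k :=
    le_trans (finrank_chainSpan_le k c g) (Nat.mul_le_mul_right k hcle)
  have hj := jtype_eq_replicate N' k _ hk0 hN'k rfl hle
  have hsum := jtype_sum N' ⟨k, hN'k⟩
  rw [hj, Multiset.sum_replicate, smul_eq_mul] at hsum
  have hfin := finrank_chainSpan_le (u := u) k c g
  have hceq : finrank F (LinearMap.range (N' ^ (k - 1))) = c := by
    apply le_antisymm _ hcle
    have : finrank F (LinearMap.range (N' ^ (k - 1))) * k ≤ c * k := by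
      rw [hsum]
      exact hfin
    exact Nat.le_of_mul_le_mul_right this (by omega)
  rw [hceq] at hj hsum
  exact ⟨hj, hsum.symm⟩

end piece

section first

variable {F V : Type u} [Field F] [AddCommGroup V] [Module F V]
variable {B : LinearMap.BilinForm F V} {u : Module.End F V} {r : ℕ}

/-- on a nonzero nondegenerate space there is a family of one (`k` even) or two (`k` odd)
generators whose chains of length `k` (the nilpotency index) have an invertible top Gram matrix -/
theorem exists_generators [Nontrivial V] (h : IsoData B u r) (hB : B.Nondegenerate)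
    (h2 : (2 : F) ≠ 0) (hnil : IsNilpotent (u - 1)) :
    ∃ (k c : ℕ) (g : Fin c → V), 1 ≤ k ∧ (u - 1) ^ k = 0 ∧
      (∀ y : Fin c → F,
        (∀ b, ∑ a, y a * B (g a) (((u - 1) ^ (k - 1)) (g b)) = 0) → y = 0) ∧
      ((Even k ∧ c = 1) ∨ (Odd k ∧ c = 2)) := by
  classical
  let k := Nat.find hnil
  have hk : (u - 1) ^ k = 0 := Nat.find_spec hnil
  have hk0 : 1 ≤ k := by
    rcases Nat.eq_zero_or_pos k with h0 | hpos
    · exfalso
      rw [h0, pow_zero] at hk
      obtain ⟨x, hx⟩ := exists_ne (0 : V)
      apply hx
      have := congrArg (fun f : Module.End F V => f x) hk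
      simpa using this
    · exact hpos
  have hk1 : (u - 1) ^ (k - 1) ≠ 0 := Nat.find_min hnil (by omega)
  -- the form β is nonzero
  have hβ : ∃ x y, B x (((u - 1) ^ (k - 1)) y) ≠ 0 := by
    by_contra hcon
    apply hk1
    apply LinearMap.ext
    intro y
    rw [LinearMap.zero_apply]
    apply hB.2
    intro x
    by_contra hne
    exact hcon ⟨x, y, hne⟩
  have hsymm := fun x y => beta_symm h hk0 hk x y
  rcases Nat.even_or_odd k with hev | hodd
  · -- symmetric case: a vector with β(v, v) ≠ 0
    have hex : ∃ v, B v (((u - 1) ^ (k - 1)) v) ≠ 0 := by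
      by_contra hcon
      have hall : ∀ v, B v (((u - 1) ^ (k - 1)) v) = 0 := by
        intro v
        by_contra hne
        exact hcon ⟨v, hne⟩
      obtain ⟨x, y, hxy⟩ := hβ
      apply hxy
      have h1 := hall (x + y)
      rw [map_add, map_add, LinearMap.add_apply, map_add, map_add, hall x, hall y, zero_add,
        add_zero, hsymm x y, hev.neg_one_pow, one_mul] at h1
      have h3 : (2 : F) * B x (((u - 1) ^ (k - 1)) y) = 0 := by
        rw [two_mul]
        exact h1
      exact (mul_eq_zero.1 h3).resolve_left h2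
    obtain ⟨v, hv⟩ := hex
    refine ⟨k, 1, fun _ => v, hk0, hk, ?_, Or.inl ⟨hev, rfl⟩⟩
    intro y hy
    have h1 := hy 0
    rw [Fin.sum_univ_one] at h1
    funext a
    rw [Subsingleton.elim a 0]
    exact (mul_eq_zero.1 h1).resolve_right hv
  · -- alternating case
    have hall : ∀ v, B v (((u - 1) ^ (k - 1)) v) = 0 := by
      intro v
      have h1 := hsymm v v
      rw [hodd.neg_one_pow] at h1
      have h3 : (2 : F) * B v (((u - 1) ^ (k - 1)) v) = 0 := by
        rw [two_mul]
        nth_rewrite 1 [h1]
        ring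
      exact (mul_eq_zero.1 h3).resolve_left h2
    obtain ⟨x, y, hxy⟩ := hβ
    have hyx : B y (((u - 1) ^ (k - 1)) x) ≠ 0 := by
      rw [hsymm x y, hodd.neg_one_pow]
      simpa using hxy
    refine ⟨k, 2, ![x, y], hk0, hk, ?_, Or.inr ⟨hodd, rfl⟩⟩
    intro z hz
    have h0 := hz 0
    have h1 := hz 1
    rw [Fin.sum_univ_two] at h0 h1
    simp only [Matrix.cons_val_zero, Matrix.cons_val_one] at h0 h1
    rw [hall x, mul_zero, zero_add] at h0
    rw [hall y, mul_zero, add_zero] at h1
    funext a
    fin_cases a
    · exact (mul_eq_zero.1 h1).resolve_right hxy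
    · exact (mul_eq_zero.1 h0).resolve_right hyx

end first

section transport

variable {F V : Type u} [Field F] [AddCommGroup V] [Module F V]
variable {B : LinearMap.BilinForm F V} {u : Module.End F V}

theorem inv_map_subtype {C : Submodule F V} (hC : ∀ x ∈ C, u x ∈ C) {W' : Submodule F ↥C}
    (hW' : Inv (u.restrict hC) W') : Inv u (W'.map C.subtype) := by
  rintro _ ⟨w, hw, rfl⟩
  exact ⟨(u.restrict hC) w, hW' w hw, rfl⟩

theorem ndOn_map_subtype {C : Submodule F V} {W' : Submodule F ↥C}
    (hW' : NDOn (B.restrict C) W') : NDOn B (W'.map C.subtype) := by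
  rintro _ ⟨w, hw, rfl⟩ hxy
  have : w = 0 := by
    apply hW' w hw
    intro y hy
    exact hxy _ ⟨y, hy, rfl⟩
  rw [this, map_zero]

theorem restrict_sub_one {C : Submodule F V} (hC : ∀ x ∈ C, u x ∈ C)
    (hC' : ∀ x ∈ C, (u - 1) x ∈ C) : u.restrict hC - 1 = (u - 1).restrict hC' := by
  apply LinearMap.ext
  intro x
  apply Subtype.ext
  simp [LinearMap.restrict_apply]

end transport

section main

variable {F : Type u} [Field F]

/-- the Jordan type of a nilpotent endomorphism splits along a decomposition into invariant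
subspaces (as in helper43's S5959) -/
theorem jtype_add_of_isCompl {V : Type u} [AddCommGroup V] [Module F V] [FiniteDimensional F V]
    (N : End F V) (hN : IsNilpotent N) (D W : Submodule F V)
    (hDW : IsCompl D W) (hD : ∀ v ∈ D, N v ∈ D) (hW : ∀ v ∈ W, N v ∈ W) :
    jtype N = jtype (N.restrict hD) + jtype (N.restrict hW) := by
  have hnD : IsNilpotent (N.restrict hD) := Module.End.isNilpotent.restrict hD hN
  have hnW : IsNilpotent (N.restrict hW) := Module.End.isNilpotent.restrict hW hN
  rw [← jtype_prodMap hnD hnW]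
  symm
  rw [jtype_eq_iff _ (isNilpotent_prodMap hnD hnW) _ hN]
  refine ⟨Submodule.prodEquivOfIsCompl D W hDW, ?_⟩
  rintro ⟨x, y⟩
  rw [Submodule.coe_prodEquivOfIsCompl', LinearMap.prodMap_apply,
    Submodule.coe_prodEquivOfIsCompl', map_add]
  rfl

/-- what is proved about a unipotent isometry: odd parts of the Jordan type have even multiplicity,
and every sub-multiset of the Jordan type with this property is the dimension count of an invariant
nondegenerate subspace. -/
def Claim {V : Type u} [AddCommGroup V] [Module F V] [FiniteDimensional F V]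
    (B : LinearMap.BilinForm F V) (u : Module.End F V) : Prop :=
  (∀ a, Odd a → Even ((jtype (u - 1)).count a)) ∧
    ∀ ν : Multiset ℕ, ν ≤ jtype (u - 1) → (∀ a, Odd a → Even (ν.count a)) →
      ∃ W : Submodule F V, Inv u W ∧ NDOn B W ∧ finrank F W = ν.sum

theorem unip_claim (h2 : (2 : F) ≠ 0) : ∀ (n : ℕ) {V : Type u} [AddCommGroup V] [Module F V]
    [FiniteDimensional F V] (B : LinearMap.BilinForm F V) (u : Module.End F V) (r : ℕ),
    finrank F V = n → IsoData B u r → B.Nondegenerate → IsNilpotent (u - 1) → Claim B u := by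
  intro n
  induction n using Nat.strong_induction_on with
  | _ n ih =>
  intro V _ _ _ B u r hn h hB hnil
  rcases Nat.eq_zero_or_pos n with hn0 | hnpos
  · -- the zero space
    have hj : jtype (u - 1) = 0 := by
      apply Multiset.eq_zero_of_forall_notMem
      intro a ha
      have h1 := Multiset.le_sum_of_mem ha
      rw [jtype_sum _ hnil, hn, hn0] at h1
      have := jtype_pos _ ha
      omega
    refine ⟨fun a _ => by rw [hj]; simp, ?_⟩
    intro ν hν _
    rw [hj] at hν
    have : ν = 0 := le_antisymm hν (Multiset.zero_le _)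
    refine ⟨⊥, ?_, ?_, ?_⟩
    · intro x hx
      rw [(Submodule.mem_bot F).1 hx, map_zero]
      exact Submodule.zero_mem _
    · intro x hx _
      exact (Submodule.mem_bot F).1 hx
    · rw [this, finrank_bot, Multiset.sum_zero]
  · -- split off the first piece
    have : Nontrivial V := by
      apply Module.nontrivial_of_finrank_pos (R := F)
      rw [hn]
      exact hnpos
    obtain ⟨k, c, g, hk0, hk, hM, hkc⟩ := exists_generators h hB h2 hnil
    set W₀ := chainSpan u k c g with hW₀
    have hW₀N : ∀ x ∈ W₀, (u - 1) x ∈ W₀ := chainSpan_inv_N hk g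
    have hW₀inv : Inv u W₀ := chainSpan_inv hk g
    have hW₀nd : NDOn B W₀ := ndOn_chainSpan h hk g hM
    obtain ⟨hW₀j, hW₀dim⟩ := jtype_chainSpan h hk0 hk g hM
    set C := B.orthogonal W₀ with hCdef
    have hCinv : Inv u C := h.inv_orthogonal hW₀inv
    have hCN : ∀ x ∈ C, (u - 1) x ∈ C := by
      intro x hx
      rw [LinearMap.sub_apply, Module.End.one_apply]
      exact C.sub_mem (hCinv x hx) hx
    have hcompl : IsCompl W₀ C := isCompl_orthogonal h hW₀nd
    have hCnd : NDOn B C := ndOn_orthogonal h hB hW₀nd
    have hdim : finrank F W₀ + finrank F C = n := by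
      rw [Submodule.finrank_add_eq_of_isCompl hcompl, hn]
    have hcpos : 1 ≤ c := by
      rcases hkc with ⟨_, rfl⟩ | ⟨_, rfl⟩ <;> omega
    have hW₀pos : 0 < finrank F W₀ := by
      rw [hW₀dim]
      exact Nat.mul_pos hcpos hk0
    have hClt : finrank F C < n := by omega
    have hnilC : IsNilpotent (u.restrict hCinv - 1) := by
      rw [restrict_sub_one hCinv hCN]
      exact Module.End.isNilpotent.restrict hCN hnil
    obtain ⟨hC1, hC2⟩ := ih (finrank F C) hClt (B.restrict C) (u.restrict hCinv) r rfl
      (h.restrict hCinv) (nondegenerate_restrict h hCnd) hnilC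
    rw [restrict_sub_one hCinv hCN] at hC1 hC2
    have hsplit : jtype (u - 1) = Multiset.replicate c k + jtype ((u - 1).restrict hCN) := by
      rw [jtype_add_of_isCompl (u - 1) hnil W₀ C hcompl hW₀N hCN, hW₀j]
    set μ' := jtype ((u - 1).restrict hCN) with hμ'
    have horth : ∀ x ∈ W₀, ∀ y ∈ C, B x y = 0 := by
      intro x hx y hy
      exact LinearMap.BilinForm.mem_orthogonal_iff.1 hy x hx
    constructor
    · intro a ha
      rw [hsplit, Multiset.count_add, Multiset.count_replicate]
      by_cases hak : a = k
      · rw [if_pos hak.symm]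
        apply Even.add _ (hC1 a ha)
        rcases hkc with ⟨hev, _⟩ | ⟨_, rfl⟩
        · exfalso
          rw [hak] at ha
          exact (Nat.not_even_iff_odd.2 ha) hev
        · exact even_two
      · rw [if_neg (Ne.symm hak), zero_add]
        exact hC1 a ha
    · intro ν hν hνodd
      rw [hsplit] at hν
      have hcnt : ∀ a, ν.count a ≤ (if k = a then c else 0) + μ'.count a := by
        intro a
        have := Multiset.le_iff_count.1 hν a
        rwa [Multiset.count_add, Multiset.count_replicate] at this
      by_cases hts : ν.count k ≤ μ'.count k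
      · -- everything inside the complement
        have hle : ν ≤ μ' := by
          rw [Multiset.le_iff_count]
          intro a
          by_cases hak : k = a
          · rw [← hak]
            exact hts
          · have := hcnt a
            rwa [if_neg hak, zero_add] at this
        obtain ⟨W', hW'inv, hW'nd, hW'dim⟩ := hC2 ν hle hνodd
        refine ⟨W'.map C.subtype, inv_map_subtype hCinv hW'inv, ndOn_map_subtype hW'nd, ?_⟩
        rw [Submodule.finrank_map_subtype_eq, hW'dim]
      · -- the first piece is used
        have hts' : μ'.count k < ν.count k := Nat.lt_of_not_le hts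
        have hck := hcnt k
        rw [if_pos rfl] at hck
        have heq : ν.count k = c + μ'.count k := by
          rcases hkc with ⟨_, rfl⟩ | ⟨hodd, rfl⟩
          · omega
          · obtain ⟨t, ht⟩ := hνodd k hodd
            obtain ⟨s, hs⟩ := hC1 k hodd
            omega
        have hrep : Multiset.replicate c k ≤ ν := by
          rw [Multiset.le_iff_count]
          intro a
          rw [Multiset.count_replicate]
          by_cases hak : k = a
          · rw [if_pos hak, ← hak, heq]
            omega
          · rw [if_neg hak]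
            exact Nat.zero_le _
        set ν' := ν - Multiset.replicate c k with hν'
        have hνeq : ν = ν' + Multiset.replicate c k := (Multiset.sub_add_cancel hrep).symm
        have hle : ν' ≤ μ' := by
          rw [Multiset.le_iff_count]
          intro a
          rw [hν', Multiset.count_sub, Multiset.count_replicate]
          by_cases hak : k = a
          · rw [if_pos hak, ← hak, heq]
            omega
          · have := hcnt a
            rw [if_neg hak, zero_add] at this
            rw [if_neg hak]
            omega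
        have hν'odd : ∀ a, Odd a → Even (ν'.count a) := by
          intro a ha
          rw [hν', Multiset.count_sub, Multiset.count_replicate]
          by_cases hak : k = a
          · rw [if_pos hak, ← hak, heq]
            have : c + Multiset.count k μ' - c = Multiset.count k μ' := by omega
            rw [this]
            exact hC1 k (hak ▸ ha)
          · rw [if_neg hak, Nat.sub_zero]
            exact hνodd a ha
        obtain ⟨W', hW'inv, hW'nd, hW'dim⟩ := hC2 ν' hle hν'odd
        set W'' := W'.map C.subtype with hW''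
        have hW''C : W'' ≤ C := by
          rintro _ ⟨w, _, rfl⟩
          exact w.2
        have horth' : ∀ x ∈ W₀, ∀ y ∈ W'', B x y = 0 :=
          fun x hx y hy => horth x hx y (hW''C hy)
        have hW''nd : NDOn B W'' := ndOn_map_subtype hW'nd
        have hdisj : Disjoint W₀ W'' :=
          Cfsg.Agent.Lib.Helper99_SpOrth.disjoint_of_orth h.skew hW₀nd horth'
        refine ⟨W₀ ⊔ W'', Cfsg.Agent.Lib.Helper99_SpOrth.inv_sup hW₀inv
          (inv_map_subtype hCinv hW'inv),
          Cfsg.Agent.Lib.Helper99_SpOrth.ndOn_sup h.skew hW₀nd hW''nd horth', ?_⟩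
        have hfin := Submodule.finrank_sup_add_finrank_inf_eq W₀ W''
        rw [hdisj.eq_bot, finrank_bot, add_zero] at hfin
        rw [hfin, hW₀dim, hW'', Submodule.finrank_map_subtype_eq, hW'dim, hνeq,
          Multiset.sum_add, Multiset.sum_replicate, smul_eq_mul]
        ring

end main

end Cfsg.Agent.Lib.Helper88_UnipDec
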