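import Mathlib
import Cfsg.Agent.Lib.Helper40_UBasic
import Cfsg.Agent.Lib.Helper88_UnipDec

set_option autoImplicit false

/-!
Unipotent isometries of nondegenerate hermitian spaces over finite fields (any characteristic):
orthogonal decomposition into nondegenerate invariant single Jordan blocks, in the form
"every sub-multiset of the Jordan type is the dimension count of a nondegenerate invariant
subspace" (hermitian analogue of `Helper88_UnipDec.unip_claim`; for helper99's S5954, packages UA/UB).
-/

namespace Cfsg.Agent.Lib.Helper2_HermUnip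

open Module Cfsg.Agent.Lib.Helper40_SpBasic Cfsg.Agent.Lib.Helper40_UBasic
  Cfsg.Agent.Lib.Helper43_Jordan

universe u

section adjoint

variable {K : Type*} [Field K] {σ : K →+* K} {V : Type*} [AddCommGroup V] [Module K V]
variable {B : V →ₗ[K] V →ₛₗ[σ] K} {u : Module.End K V} {r : ℕ}

/-- the adjoint of `N = u - 1` is `- u⁻¹ N` -/
theorem hadj_N (h : UData B u r) (x y : V) :
    B ((u - 1) x) y = - B x ((u ^ (r - 1) * (u - 1)) y) := by
  have h1 : (u ^ (r - 1) * (u - 1)) y = y - (u ^ (r - 1)) y := by
    rw [Module.End.mul_apply, LinearMap.sub_apply, Module.End.one_apply, map_sub, h.ad_apply]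
  rw [h1, LinearMap.sub_apply, Module.End.one_apply, map_sub, LinearMap.sub_apply, h.adj1, map_sub]
  ring

theorem hadj_N_pow (h : UData B u r) (i : ℕ) (x y : V) :
    B (((u - 1) ^ i) x) y = (-1) ^ i * B x (((u ^ (r - 1) * (u - 1)) ^ i) y) := by
  induction i generalizing x y with
  | zero => simp
  | succ i ih =>
    have h1 : ((u - 1) ^ (i + 1)) x = ((u - 1) ^ i) ((u - 1) x) := by
      rw [pow_succ, Module.End.mul_apply]
    have h2 : ((u ^ (r - 1) * (u - 1)) ^ (i + 1)) y =
        (u ^ (r - 1) * (u - 1)) (((u ^ (r - 1) * (u - 1)) ^ i) y) := by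
      rw [pow_succ', Module.End.mul_apply]
    rw [h1, ih, hadj_N h, h2, pow_succ]
    ring

/-- `u⁻¹` fixes the kernel of `u - 1` -/
theorem had_fix (h : UData B u r) {y : V} (hy : (u - 1) y = 0) : (u ^ (r - 1)) y = y := by
  have h1 : u y = y := by
    rw [LinearMap.sub_apply, Module.End.one_apply, sub_eq_zero] at hy
    exact hy
  have h2 := h.ad_apply y
  rw [h1] at h2
  exact h2

theorem had_pow_fix (h : UData B u r) {y : V} (hy : (u - 1) y = 0) (i : ℕ) :
    ((u ^ (r - 1)) ^ i) y = y := by
  induction i with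
  | zero => simp
  | succ i ih => rw [pow_succ, Module.End.mul_apply, had_fix h hy, ih]

/-- the basic orthogonality relations between the powers of `N = u - 1` -/
theorem hB_pow_pow_eq_zero (h : UData B u r) {k : ℕ} (hk : (u - 1) ^ k = 0) {i j : ℕ}
    (hij : k ≤ i + j) (x y : V) : B (((u - 1) ^ i) x) (((u - 1) ^ j) y) = 0 := by
  rw [hadj_N_pow h, (Cfsg.Agent.Lib.Helper88_UnipDec.commute_ad_N u r).mul_pow,
    Module.End.mul_apply, ← Module.End.mul_apply ((u - 1) ^ i), ← pow_add]
  have : (u - 1) ^ (i + j) = 0 := by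
    obtain ⟨t, ht⟩ := Nat.exists_eq_add_of_le hij
    rw [ht, pow_add, hk, zero_mul]
  rw [this, LinearMap.zero_apply, map_zero, map_zero, mul_zero]

theorem hB_pow_pow_eq (h : UData B u r) {k : ℕ} (hk : (u - 1) ^ k = 0) {i j : ℕ}
    (hij : i + j + 1 = k) (x y : V) :
    B (((u - 1) ^ i) x) (((u - 1) ^ j) y) = (-1) ^ i * B x (((u - 1) ^ (k - 1)) y) := by
  rw [hadj_N_pow h, (Cfsg.Agent.Lib.Helper88_UnipDec.commute_ad_N u r).mul_pow,
    Module.End.mul_apply, ← Module.End.mul_apply ((u - 1) ^ i), ← pow_add]
  have hk1 : i + j = k - 1 := by omega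
  rw [hk1]
  have hy : (u - 1) (((u - 1) ^ (k - 1)) y) = 0 := by
    rw [← Module.End.mul_apply, ← pow_succ', Nat.sub_add_cancel (by omega), hk,
      LinearMap.zero_apply]
  rw [had_pow_fix h hy]

/-- the form `β(x, y) = B(x, N^(k-1) y)` is `(-1)^(k-1)`-hermitian -/
theorem beta_herm (h : UData B u r) {k : ℕ} (hk0 : 1 ≤ k) (hk : (u - 1) ^ k = 0) (x y : V) :
    B y (((u - 1) ^ (k - 1)) x) = (-1) ^ (k - 1) * σ (B x (((u - 1) ^ (k - 1)) y)) := by
  rw [h.herm (((u - 1) ^ (k - 1)) x) y]
  have h1 := hB_pow_pow_eq h hk (i := k - 1) (j := 0) (by omega) x y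
  rw [pow_zero, Module.End.one_apply] at h1
  rw [h1, map_mul, map_pow, map_neg, map_one]

end adjoint

section first

variable {K : Type*} [Field K] {σ : K →+* K} {V : Type*} [AddCommGroup V] [Module K V]
variable {B : V →ₗ[K] V →ₛₗ[σ] K} {u : Module.End K V} {r : ℕ}

/-- on a nonzero nondegenerate hermitian space (with `σ ≠ id`) there is a vector whose chain of
length `k` (the nilpotency index) has nonzero top Gram entry -/
theorem exists_aniso [Nontrivial V] (h : UData B u r) (hB : UND B) (hσ : ∃ c, σ c ≠ c)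
    (hnil : IsNilpotent (u - 1)) :
    ∃ (k : ℕ) (v : V), 1 ≤ k ∧ (u - 1) ^ k = 0 ∧ B v (((u - 1) ^ (k - 1)) v) ≠ 0 := by
  classical
  let k := Nat.find hnil
  have hk : (u - 1) ^ k = 0 := Nat.find_spec hnil
  have hk0 : 1 ≤ k := by
    rcases Nat.eq_zero_or_pos k with h0 | hpos
    · exfalso
      rw [h0, pow_zero] at hk
      obtain ⟨x, hx⟩ := exists_ne (0 : V)
      apply hx
      have := congrArg (fun f : Module.End K V => f x) hk
      simpa using this
    · exact hpos
  have hk1 : (u - 1) ^ (k - 1) ≠ 0 := Nat.find_min hnil (by omega)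
  -- the form β is nonzero
  have hβ : ∃ x y, B x (((u - 1) ^ (k - 1)) y) ≠ 0 := by
    by_contra hcon
    apply hk1
    apply LinearMap.ext
    intro y
    rw [LinearMap.zero_apply]
    apply hB
    intro x
    apply h.eq_zero
    by_contra hne
    exact hcon ⟨x, y, hne⟩
  by_contra hcon
  have hall : ∀ v, B v (((u - 1) ^ (k - 1)) v) = 0 := by
    intro v
    by_contra hne
    exact hcon ⟨k, v, hk0, hk, hne⟩
  -- polarisation
  have hpol : ∀ a b, B a (((u - 1) ^ (k - 1)) b) + (-1) ^ (k - 1) * σ (B a (((u - 1) ^ (k - 1)) b))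
      = 0 := by
    intro a b
    have h1 := hall (a + b)
    rw [map_add, map_add, LinearMap.add_apply, map_add, map_add, hall a, hall b, zero_add,
      add_zero, beta_herm h hk0 hk a b] at h1
    exact h1
  obtain ⟨x, y, hxy⟩ := hβ
  set t := B x (((u - 1) ^ (k - 1)) y) with ht
  have hs : ∀ s : K, s + (-1) ^ (k - 1) * σ s = 0 := by
    intro s
    have h1 := hpol x (σ (s * t⁻¹) • y)
    have h2 : B x (((u - 1) ^ (k - 1)) (σ (s * t⁻¹) • y)) = s := by
      rw [map_smul, map_smulₛₗ, h.invol, smul_eq_mul, ← ht, mul_assoc, inv_mul_cancel₀ hxy, mul_one]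
    rw [h2] at h1
    exact h1
  have hε : (-1 : K) ^ (k - 1) = -1 := by
    have := hs 1
    rw [map_one, mul_one] at this
    exact (eq_neg_of_add_eq_zero_right this)
  obtain ⟨c, hc⟩ := hσ
  apply hc
  have := hs c
  rw [hε] at this
  have h3 : c - σ c = 0 := by
    rw [← this]
    ring
  exact (sub_eq_zero.1 h3).symm

end first

section piece

variable {K V : Type u} [Field K] {σ : K →+* K} [AddCommGroup V] [Module K V]
variable {B : V →ₗ[K] V →ₛₗ[σ] K} {u : Module.End K V} {r : ℕ}

open Cfsg.Agent.Lib.Helper88_UnipDec in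
/-- nondegeneracy of the span of the chains -/
theorem undOn_chainSpan (h : UData B u r) {k c : ℕ} (hk : (u - 1) ^ k = 0)
    (g : Fin c → V)
    (hM : ∀ y : Fin c → K,
      (∀ b, ∑ a, y a * B (g a) (((u - 1) ^ (k - 1)) (g b)) = 0) → y = 0) :
    UNDOn B (chainSpan u k c g) := by
  classical
  intro x hx hxy
  obtain ⟨cf, rfl⟩ := (Submodule.mem_span_range_iff_exists_fun K).1 hx
  by_contra hne
  -- some coefficient is nonzero
  have hex : ∃ i : ℕ, ∃ (hi : i < k) (a : Fin c), cf (a, ⟨i, hi⟩) ≠ 0 := by
    by_contra hcon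
    apply hne
    apply Finset.sum_eq_zero
    rintro ⟨a, i⟩ _
    have : cf (a, i) = 0 := by
      by_contra h0
      exact hcon ⟨i, i.2, a, h0⟩
    rw [this, zero_smul]
  let i₀ := Nat.find hex
  obtain ⟨hi₀, a₀, ha₀⟩ := Nat.find_spec hex
  have hmin : ∀ (a : Fin c) (i : Fin k), (i : ℕ) < i₀ → cf (a, i) = 0 := by
    intro a i hi
    by_contra h0
    exact Nat.find_min hex hi ⟨i.2, a, h0⟩
  have hzero : (fun a => (-1) ^ i₀ * cf (a, ⟨i₀, hi₀⟩)) = 0 := by
    apply hM
    intro b
    have h1 := hxy _ (chainVec_mem u k c g b (i := k - 1 - i₀) (by omega))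
    rw [map_sum, LinearMap.sum_apply, Fintype.sum_prod_type] at h1
    rw [← h1]
    apply Finset.sum_congr rfl
    intro a _
    rw [Finset.sum_eq_single (⟨i₀, hi₀⟩ : Fin k)]
    · rw [map_smul, LinearMap.smul_apply, smul_eq_mul]
      show _ = cf (a, ⟨i₀, hi₀⟩) * B (((u - 1) ^ i₀) (g a)) (((u - 1) ^ (k - 1 - i₀)) (g b))
      rw [hB_pow_pow_eq h hk (by omega)]
      ring
    · intro i _ hi
      rw [map_smul, LinearMap.smul_apply, smul_eq_mul]
      rcases Nat.lt_or_ge (i : ℕ) i₀ with hlt | hge
      · rw [hmin a i hlt, zero_mul]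
      · have hgt : i₀ < (i : ℕ) := by
          rcases Nat.lt_or_ge i₀ (i : ℕ) with h' | h'
          · exact h'
          · exfalso
            apply hi
            apply Fin.ext
            show (i : ℕ) = i₀
            omega
        show cf (a, i) * B (((u - 1) ^ (i : ℕ)) (g a)) (((u - 1) ^ (k - 1 - i₀)) (g b)) = 0
        rw [hB_pow_pow_eq_zero h hk (by omega), mul_zero]
    · intro hni
      exact absurd (Finset.mem_univ _) hni
  have := congrFun hzero a₀
  simp only [Pi.zero_apply, mul_eq_zero, pow_eq_zero_iff', neg_eq_zero, one_ne_zero, false_and,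
    false_or] at this
  exact ha₀ this

open Cfsg.Agent.Lib.Helper88_UnipDec in
/-- the Jordan type of the cyclic space of a vector with nonzero top Gram entry -/
theorem jtype_cyclic [FiniteDimensional K V] {k : ℕ} (hk0 : 1 ≤ k)
    (hk : (u - 1) ^ k = 0) (v : V) (hv : ((u - 1) ^ (k - 1)) v ≠ 0) :
    jtype ((u - 1).restrict (chainSpan_inv_N hk (fun _ : Fin 1 => v))) = Multiset.replicate 1 k ∧
      finrank K (chainSpan u k 1 (fun _ : Fin 1 => v)) = k := by
  set g : Fin 1 → V := fun _ => v with hg
  set W := chainSpan u k 1 g with hW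
  set N' := (u - 1).restrict (chainSpan_inv_N hk g) with hN'
  have hN'k : N' ^ k = 0 := by
    apply LinearMap.ext
    intro x
    apply Subtype.ext
    rw [coe_restrict_pow, hk, LinearMap.zero_apply, LinearMap.zero_apply]
    rfl
  have hvW : v ∈ W := by
    have := chainVec_mem u k 1 g 0 (i := 0) (by omega)
    rwa [pow_zero, Module.End.one_apply] at this
  have hcle : 1 ≤ finrank K (LinearMap.range (N' ^ (k - 1))) := by
    rw [Nat.one_le_iff_ne_zero, Ne, Submodule.finrank_eq_zero, LinearMap.range_eq_bot]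
    intro h0
    apply hv
    have := congrArg (fun f : Module.End K W => ((f ⟨v, hvW⟩ : W) : V)) h0
    simp only [LinearMap.zero_apply, ZeroMemClass.coe_zero] at this
    rw [coe_restrict_pow] at this
    exact this
  have hfin := finrank_chainSpan_le (u := u) k 1 g
  rw [one_mul] at hfin
  have hle : finrank K W ≤ finrank K (LinearMap.range (N' ^ (k - 1))) * k :=
    le_trans hfin (Nat.le_mul_of_pos_left k hcle)
  have hj := jtype_eq_replicate N' k _ hk0 hN'k rfl hle
  have hsum := jtype_sum N' ⟨k, hN'k⟩
  rw [hj, Multiset.sum_replicate, smul_eq_mul] at hsum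
  have hceq : finrank K (LinearMap.range (N' ^ (k - 1))) = 1 := by
    apply le_antisymm _ hcle
    have : finrank K (LinearMap.range (N' ^ (k - 1))) * k ≤ 1 * k := by
      rw [hsum, one_mul]
      exact hfin
    exact Nat.le_of_mul_le_mul_right this (by omega)
  rw [hceq] at hj hsum
  rw [one_mul] at hsum
  exact ⟨hj, hsum.symm⟩

end piece

section transport

variable {K : Type*} [Field K] {σ : K →+* K} {V : Type*} [AddCommGroup V] [Module K V]
variable {B : V →ₗ[K] V →ₛₗ[σ] K} {u : Module.End K V} {r : ℕ}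

theorem undOn_map_subtype {C : Submodule K V} {W' : Submodule K ↥C}
    (hW' : UNDOn (UData.res B C) W') : UNDOn B (W'.map C.subtype) := by
  rintro _ ⟨w, hw, rfl⟩ hxy
  have : w = 0 := by
    apply hW' w hw
    intro y hy
    exact hxy _ ⟨y, hy, rfl⟩
  rw [this, map_zero]

theorem undOn_sup (h : UData B u r) {Z Z' : Submodule K V} (hZ : UNDOn B Z)
    (hZ' : UNDOn B Z') (ho : ∀ a ∈ Z, ∀ b ∈ Z', B a b = 0) : UNDOn B (Z ⊔ Z') := by
  intro x hx hxy
  obtain ⟨z, hz, z', hz', rfl⟩ := Submodule.mem_sup.1 hx
  have h1 : z = 0 := by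
    apply hZ z hz
    intro y hy
    have := hxy y (Submodule.mem_sup_left hy)
    rw [map_add, LinearMap.add_apply, h.eq_zero (ho y hy z' hz'), add_zero] at this
    exact this
  have h2 : z' = 0 := by
    apply hZ' z' hz'
    intro y hy
    have := hxy y (Submodule.mem_sup_right hy)
    rw [map_add, LinearMap.add_apply, ho z hz y hy, zero_add] at this
    exact this
  rw [h1, h2, add_zero]

theorem disjoint_of_orth' (h : UData B u r) {Z Z' : Submodule K V} (hZ : UNDOn B Z)
    (ho : ∀ a ∈ Z, ∀ b ∈ Z', B a b = 0) : Disjoint Z Z' := by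
  rw [Submodule.disjoint_def]
  intro x hx hx'
  apply hZ x hx
  intro y hy
  exact h.eq_zero (ho y hy x hx')

theorem inv_sup' {T : Module.End K V} {Z Z' : Submodule K V} (hZ : Inv T Z) (hZ' : Inv T Z') :
    Inv T (Z ⊔ Z') := by
  intro x hx
  obtain ⟨z, hz, z', hz', rfl⟩ := Submodule.mem_sup.1 hx
  rw [map_add]
  exact Submodule.add_mem_sup (hZ z hz) (hZ' z' hz')

end transport

section main

variable {K : Type u} [Field K] [Finite K] {σ : K →+* K}

open Cfsg.Agent.Lib.Helper88_UnipDec in
/-- **Hermitian unipotent decomposition**: for a unipotent isometry `u` of a nondegenerate hermitian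
space over a finite field, every sub-multiset `ν` of the Jordan type of `u - 1` is the dimension
count of a `u`-invariant nondegenerate subspace. -/
theorem herm_unip_claim (hσ : ∃ c, σ c ≠ c) : ∀ (n : ℕ) {V : Type u} [AddCommGroup V] [Module K V]
    [FiniteDimensional K V] (B : V →ₗ[K] V →ₛₗ[σ] K) (u : Module.End K V) (r : ℕ),
    finrank K V = n → UData B u r → UND B → IsNilpotent (u - 1) →
    ∀ ν : Multiset ℕ, ν ≤ jtype (u - 1) →
      ∃ W : Submodule K V, Inv u W ∧ UNDOn B W ∧ finrank K W = ν.sum := by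
  intro n
  induction n using Nat.strong_induction_on with
  | _ n ih =>
  intro V _ _ _ B u r hn h hB hnil
  rcases Nat.eq_zero_or_pos n with hn0 | hnpos
  · -- the zero space
    have hj : jtype (u - 1) = 0 := by
      apply Multiset.eq_zero_of_forall_notMem
      intro a ha
      have h1 := Multiset.le_sum_of_mem ha
      rw [jtype_sum _ hnil, hn, hn0] at h1
      have := jtype_pos _ ha
      omega
    intro ν hν
    rw [hj] at hν
    have : ν = 0 := le_antisymm hν (Multiset.zero_le _)
    refine ⟨⊥, ?_, ?_, ?_⟩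
    · intro x hx
      rw [(Submodule.mem_bot K).1 hx, map_zero]
      exact Submodule.zero_mem _
    · intro x hx _
      exact (Submodule.mem_bot K).1 hx
    · rw [this, finrank_bot, Multiset.sum_zero]
  · -- split off the first piece
    have : Nontrivial V := by
      apply Module.nontrivial_of_finrank_pos (R := K)
      rw [hn]
      exact hnpos
    obtain ⟨k, v, hk0, hk, hv⟩ := exists_aniso h hB hσ hnil
    set g : Fin 1 → V := fun _ => v with hg
    have hM : ∀ y : Fin 1 → K,
        (∀ b, ∑ a, y a * B (g a) (((u - 1) ^ (k - 1)) (g b)) = 0) → y = 0 := by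
      intro y hy
      have h1 := hy 0
      rw [Fin.sum_univ_one] at h1
      funext a
      rw [Subsingleton.elim a 0]
      exact (mul_eq_zero.1 h1).resolve_right hv
    have hv' : ((u - 1) ^ (k - 1)) v ≠ 0 := by
      intro h0
      apply hv
      rw [h0, map_zero]
    set W₀ := chainSpan u k 1 g with hW₀
    have hW₀N : ∀ x ∈ W₀, (u - 1) x ∈ W₀ := chainSpan_inv_N hk g
    have hW₀inv : Inv u W₀ := chainSpan_inv hk g
    have hW₀nd : UNDOn B W₀ := undOn_chainSpan h hk g hM
    obtain ⟨hW₀j, hW₀dim⟩ := jtype_cyclic (u := u) hk0 hk v hv'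
    set C := orth B W₀ with hCdef
    have hCinv : Inv u C := h.inv_orth hW₀inv
    have hCN : ∀ x ∈ C, (u - 1) x ∈ C := by
      intro x hx
      rw [LinearMap.sub_apply, Module.End.one_apply]
      exact C.sub_mem (hCinv x hx) hx
    have hcompl : IsCompl W₀ C := isCompl_orth h hW₀nd
    have hCnd : UNDOn B C := undOn_orth h hB hW₀nd
    have hdim : finrank K W₀ + finrank K C = n := by
      rw [Submodule.finrank_add_eq_of_isCompl hcompl, hn]
    have hW₀pos : 0 < finrank K W₀ := by
      rw [hW₀dim]
      exact hk0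
    have hClt : finrank K C < n := by omega
    have hnilC : IsNilpotent (u.restrict hCinv - 1) := by
      rw [restrict_sub_one hCinv hCN]
      exact Module.End.isNilpotent.restrict hCN hnil
    have hC2 := ih (finrank K C) hClt (UData.res B C) (u.restrict hCinv) r rfl
      (h.restrict hCinv) (und_res hCnd) hnilC
    rw [restrict_sub_one hCinv hCN] at hC2
    have hsplit : jtype (u - 1) = Multiset.replicate 1 k + jtype ((u - 1).restrict hCN) := by
      rw [jtype_add_of_isCompl (u - 1) hnil W₀ C hcompl hW₀N hCN, hW₀j]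
    set μ' := jtype ((u - 1).restrict hCN) with hμ'
    have horth : ∀ x ∈ W₀, ∀ y ∈ C, B x y = 0 := by
      intro x hx y hy
      exact (mem_orth.1 hy) x hx
    intro ν hν
    rw [hsplit] at hν
    have hcnt : ∀ a, ν.count a ≤ (if k = a then 1 else 0) + μ'.count a := by
      intro a
      have := Multiset.le_iff_count.1 hν a
      rwa [Multiset.count_add, Multiset.count_replicate] at this
    by_cases hts : ν.count k ≤ μ'.count k
    · -- everything inside the complement
      have hle : ν ≤ μ' := by
        rw [Multiset.le_iff_count]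
        intro a
        by_cases hak : k = a
        · rw [← hak]
          exact hts
        · have := hcnt a
          rwa [if_neg hak, zero_add] at this
      obtain ⟨W', hW'inv, hW'nd, hW'dim⟩ := hC2 ν hle
      refine ⟨W'.map C.subtype, inv_map_subtype hCinv hW'inv, undOn_map_subtype hW'nd, ?_⟩
      rw [Submodule.finrank_map_subtype_eq, hW'dim]
    · -- the first piece is used
      have hts' : μ'.count k < ν.count k := Nat.lt_of_not_le hts
      have hck := hcnt k
      rw [if_pos rfl] at hck
      have heq : ν.count k = 1 + μ'.count k := by omega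
      have hrep : Multiset.replicate 1 k ≤ ν := by
        rw [Multiset.le_iff_count]
        intro a
        rw [Multiset.count_replicate]
        by_cases hak : k = a
        · rw [if_pos hak, ← hak, heq]
          omega
        · rw [if_neg hak]
          exact Nat.zero_le _
      set ν' := ν - Multiset.replicate 1 k with hν'
      have hνeq : ν = ν' + Multiset.replicate 1 k := (Multiset.sub_add_cancel hrep).symm
      have hle : ν' ≤ μ' := by
        rw [Multiset.le_iff_count]
        intro a
        rw [hν', Multiset.count_sub, Multiset.count_replicate]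
        by_cases hak : k = a
        · rw [if_pos hak, ← hak, heq]
          omega
        · have := hcnt a
          rw [if_neg hak, zero_add] at this
          rw [if_neg hak]
          omega
      obtain ⟨W', hW'inv, hW'nd, hW'dim⟩ := hC2 ν' hle
      set W'' := W'.map C.subtype with hW''
      have hW''C : W'' ≤ C := by
        rintro _ ⟨w, _, rfl⟩
        exact w.2
      have horth' : ∀ x ∈ W₀, ∀ y ∈ W'', B x y = 0 :=
        fun x hx y hy => horth x hx y (hW''C hy)
      have hW''nd : UNDOn B W'' := undOn_map_subtype hW'nd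
      have hdisj : Disjoint W₀ W'' := disjoint_of_orth' h hW₀nd horth'
      refine ⟨W₀ ⊔ W'', inv_sup' hW₀inv (inv_map_subtype hCinv hW'inv),
        undOn_sup h hW₀nd hW''nd horth', ?_⟩
      have hfin := Submodule.finrank_sup_add_finrank_inf_eq W₀ W''
      rw [hdisj.eq_bot, finrank_bot, add_zero] at hfin
      rw [hfin, hW₀dim, hW'', Submodule.finrank_map_subtype_eq, hW'dim, hνeq,
        Multiset.sum_add, Multiset.sum_replicate, smul_eq_mul]
      ring

end main

end Cfsg.Agent.Lib.Helper2_HermUnip
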