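import Cfsg.Agent.Lib.Helper49_KnDefs
import Cfsg.Agent.Lib.Helper65_S3693
import Cfsg.Agent.Lib.Helper51_Offender
import Cfsg.Agent.Lib.Helper49_Kn_BASIC
import Cfsg.Agent.Lib.Helper82_Kn_ALTPART
import Cfsg.Agent.Lib.Helper99_Kn_COREDVD
import Cfsg.Agent.Lib.Helper99_Kn_ALTCOMM
import Cfsg.Agent.Lib.Helper60_Kn_ALTcore

/-!
S3687 package STEP3A (architect helper49, market `s3687_packages`): the counting contradiction in the case
`c2 M N = ⊥`.
-/

set_option autoImplicit false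
set_option linter.unusedVariables false
set_option linter.unusedSectionVars false
set_option linter.style.haveILetI false

namespace Cfsg.Agent.Lib.Helper2_Kn_STEP3A

open Cfsg Cfsg.Agent.Lib.Helper47_TW Cfsg.Agent.Lib.Helper49_KnDefs Cfsg.Agent.Lib.Helper47_Conj
open Cfsg.Agent.Lib.Helper49_Kn_BASIC Cfsg.Agent.Lib.Helper82_Kn_ALTPART Cfsg.Agent.Lib.Helper99_Kn_COREDVD

universe u v

variable {G : Type u} [Group G]

/-- the final arithmetic -/
theorem arith (d kkb k kl f1 : ℕ) (hd : 6 ≤ d) (hf1 : 0 < f1) (hx : 0 < kkb)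
    (h2 : d * f1 * kkb ≤ 2 * k) (h4 : k ≤ f1 * kl) (h3 : kl ≤ kkb) : False := by
  have hpos : 0 < f1 * kkb := Nat.mul_pos hf1 hx
  have h5 : f1 * kl ≤ f1 * kkb := Nat.mul_le_mul_left f1 h3
  have h6 : 6 * (f1 * kkb) ≤ d * (f1 * kkb) := Nat.mul_le_mul_right _ hd
  have h7 : d * f1 * kkb = d * (f1 * kkb) := by ring
  omega

theorem commutator_self_le (K : Subgroup G) : ⁅K, K⁆ ≤ K :=
  Subgroup.commutator_le.mpr fun a ha b hb =>
    K.mul_mem (K.mul_mem (K.mul_mem ha hb) (K.inv_mem ha)) (K.inv_mem hb)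

/-- an element normalizing two subgroups normalizes their intersection -/
theorem le_normalizer_inf {T A B : Subgroup G} (hA : T ≤ Subgroup.normalizer (A : Set G))
    (hB : T ≤ Subgroup.normalizer (B : Set G)) :
    T ≤ Subgroup.normalizer ((A ⊓ B : Subgroup G) : Set G) := by
  intro t ht
  have h1 := mem_normalizer_iff_map_conj_eq'.mp (hA ht)
  have h2 := mem_normalizer_iff_map_conj_eq'.mp (hB ht)
  rw [mem_normalizer_iff_map_conj_eq', Subgroup.map_inf _ _ _ (MulAut.conj t).injective, h1, h2]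

variable [Finite G]

/-- PACKAGE STEP3A, with the packages ALTCOMM and ALTPP as hypotheses. -/
theorem step3a_of
    (as_comm : ∀ {d : ℕ} {M T U Z₁ Z₂ : Subgroup G}, AS d M T → 5 ≤ d →
      U ≤ M → altPart M T ≤ U ⊔ relCore M T →
      Z₁ ≤ U → U ≤ Subgroup.normalizer (Z₁ : Set G) → ¬ Z₁ ≤ relCore M T →
      Z₂ ≤ U → U ≤ Subgroup.normalizer (Z₂ : Set G) → ¬ Z₂ ≤ relCore M T →
      altPart M T ≤ ⁅Z₁, Z₂⁆ ⊔ relCore M T)
    (as_pp : ∀ {d : ℕ} {M T U : Subgroup G}, AS d M T → 5 ≤ d →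
      U ≤ M → altPart M T ≤ U ⊔ relCore M T →
      ∀ {ι : Type u} [Finite ι] [Nonempty ι] (Z : ι → Subgroup G),
      (∀ i, Z i ≤ U ∧ U ≤ Subgroup.normalizer (Z i : Set G) ∧ ¬ Z i ≤ relCore M T) →
      altPart M T ≤ (⨅ i, Z i) ⊔ relCore M T)
    {d : ℕ} {M N : Subgroup G} {g : G} (h : Cfg d M N g)
    (hA : altPart N (cj g (M ⊓ N)) ≤ (M ⊓ N) ⊔ cj g (c1 M N)) (hc : c2 M N = ⊥) : False := by
  have hd6 := h.hd
  have hd5 : 5 ≤ d := by omega
  obtain ⟨hcardNM, hcardN, hASN, hcoreN, hKbN, hNKb, hcardKb⟩ := cfg_basic h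
  obtain ⟨hKnle, hKbnle⟩ := step0 h
  have hKT : c1 M N ≤ M ⊓ N := le_inf (c1_le_left M N) (c1_le_right M N)
  have hLT : c1 N M ≤ M ⊓ N := le_inf (c1_le_right N M) (c1_le_left N M)
  have hTM : M ⊓ N ≤ M := inf_le_left
  have hTN : M ⊓ N ≤ N := inf_le_right
  have hMK : M ≤ Subgroup.normalizer ((c1 M N : Subgroup G) : Set G) := le_normalizer_relCore M (M ⊓ N)
  have hNL : N ≤ Subgroup.normalizer ((c1 N M : Subgroup G) : Set G) := le_normalizer_relCore N (N ⊓ M)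
  have hTK : M ⊓ N ≤ Subgroup.normalizer ((c1 M N : Subgroup G) : Set G) := hTM.trans hMK
  have hTL : M ⊓ N ≤ Subgroup.normalizer ((c1 N M : Subgroup G) : Set G) := hTN.trans hNL
  -- Step 1
  have hA' : altPart N (cj g (M ⊓ N)) ≤ (M ⊓ N) ⊔ relCore N (cj g (M ⊓ N)) := by rw [hcoreN]; exact hA
  have h1K : ¬ c1 M N ≤ relCore N (cj g (M ⊓ N)) := by rw [hcoreN]; exact hKnle
  have hcomm := as_comm hASN hd5 hTN hA' hKT hTK h1K hKT hTK h1K
  rw [hcoreN] at hcomm
  have hAbKKb : altPart N (cj g (M ⊓ N)) ≤ c1 M N ⊔ cj g (c1 M N) :=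
    hcomm.trans (sup_le_sup_right (commutator_self_le _) _)
  -- Step 2
  obtain ⟨-, hAbN, -, hAbcard⟩ := altPart_facts hASN hd5
  rw [hcoreN] at hAbcard
  have hKnormKb : c1 M N ≤ Subgroup.normalizer ((cj g (c1 M N) : Subgroup G) : Set G) :=
    (hKT.trans hTN).trans hNKb
  have hprod1 := Cfsg.Agent.Lib.Helper51_Offender.card_sup_mul_card_inf (cj g (c1 M N)) (c1 M N) hKnormKb
  have hle1 : Nat.card (altPart N (cj g (M ⊓ N))) ≤ Nat.card (cj g (c1 M N) ⊔ c1 M N : Subgroup G) := by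
    rw [sup_comm]
    exact Subgroup.card_le_of_le hAbKKb
  have hKbpos : 0 < Nat.card (cj g (c1 M N)) := Nat.card_pos
  have h2 : d.factorial * Nat.card (c1 M N ⊓ cj g (c1 M N) : Subgroup G) ≤ 2 * Nat.card (c1 M N) := by
    rw [inf_comm]
    apply Nat.le_of_mul_le_mul_left _ hKbpos
    calc Nat.card (cj g (c1 M N)) * (d.factorial * Nat.card (cj g (c1 M N) ⊓ c1 M N : Subgroup G))
        = (d.factorial * Nat.card (cj g (c1 M N))) * Nat.card (cj g (c1 M N) ⊓ c1 M N : Subgroup G) := by ring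
      _ = (2 * Nat.card (altPart N (cj g (M ⊓ N)))) * Nat.card (cj g (c1 M N) ⊓ c1 M N : Subgroup G) := by
          rw [hAbcard]
      _ ≤ (2 * Nat.card (cj g (c1 M N) ⊔ c1 M N : Subgroup G)) *
            Nat.card (cj g (c1 M N) ⊓ c1 M N : Subgroup G) :=
          Nat.mul_le_mul_right _ (Nat.mul_le_mul_left 2 hle1)
      _ = 2 * (Nat.card (cj g (c1 M N) ⊔ c1 M N : Subgroup G) *
            Nat.card (cj g (c1 M N) ⊓ c1 M N : Subgroup G)) := by ring
      _ = 2 * (Nat.card (cj g (c1 M N)) * Nat.card (c1 M N)) := by rw [hprod1]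
      _ = Nat.card (cj g (c1 M N)) * (2 * Nat.card (c1 M N)) := by ring
  -- Step 3
  have hXnorm : M ⊓ N ≤ Subgroup.normalizer ((c1 M N ⊓ c1 N M : Subgroup G) : Set G) :=
    le_normalizer_inf hTK hTL
  have hcjK : ∀ m ∈ M, cj m (c1 M N) = c1 M N := fun m hm =>
    mem_normalizer_iff_map_conj_eq'.mp (hMK hm)
  have hfact6 : 720 ≤ d.factorial := by
    have := Nat.factorial_le hd6
    have h6 : Nat.factorial 6 = 720 := by decide
    omega
  obtain ⟨m, hZm⟩ : ∃ m : ↥M, cj (m : G) (c1 M N ⊓ c1 N M) ≤ cj g (c1 M N) := by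
    by_contra hcon
    push Not at hcon
    have hpp := as_pp hASN hd5 ((hKT.trans hTN) : c1 M N ≤ N)
      (by rw [hcoreN]; exact hAbKKb)
      (fun m : ↥M => cj (m : G) (c1 M N ⊓ c1 N M))
      (fun m => by
        refine ⟨?_, ?_, ?_⟩
        · calc cj (m : G) (c1 M N ⊓ c1 N M) ≤ cj (m : G) (c1 M N) := Subgroup.map_mono inf_le_left
            _ = c1 M N := hcjK m m.2
        · have h1 : c1 M N ≤ Subgroup.normalizer ((c1 M N ⊓ c1 N M : Subgroup G) : Set G) :=
            hKT.trans hXnorm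
          have h2 := Subgroup.map_mono (f := (MulAut.conj (m : G)).toMonoidHom) h1
          rw [← normalizer_map_conj] at h2
          have h3 : cj (m : G) (c1 M N) = c1 M N := hcjK m m.2
          exact (le_of_eq h3.symm).trans h2
        · rw [hcoreN]; exact hcon m)
    rw [hcoreN] at hpp
    have hinf : (⨅ m : ↥M, cj (m : G) (c1 M N ⊓ c1 N M)) ≤ c2 M N := by
      intro x hx
      rw [Subgroup.mem_iInf] at hx
      show x ∈ relCore M (c1 M N ⊓ c1 N M)
      rw [mem_relCore]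
      constructor
      · have h1 := hx ⟨1, M.one_mem⟩
        rw [show cj ((⟨1, M.one_mem⟩ : ↥M) : G) (c1 M N ⊓ c1 N M) = c1 M N ⊓ c1 N M from map_conj_one _] at h1
        exact c1_le_left M N h1.1
      · intro m hm
        obtain ⟨y, hy, hyx⟩ := hx ⟨m⁻¹, M.inv_mem hm⟩
        have : m * x * m⁻¹ = y := by
          rw [← hyx]
          simp [mul_assoc]
        rw [this]
        exact hy
    rw [hc] at hinf
    have hAbKb : altPart N (cj g (M ⊓ N)) ≤ cj g (c1 M N) := by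
      refine hpp.trans (sup_le (hinf.trans bot_le) le_rfl)
    have hle2 := Subgroup.card_le_of_le hAbKb
    have : d.factorial * Nat.card (cj g (c1 M N)) ≤ 2 * Nat.card (cj g (c1 M N)) := by
      rw [← hAbcard]; omega
    nlinarith
  have h3 : Nat.card (c1 M N ⊓ c1 N M : Subgroup G) ≤ Nat.card (c1 M N ⊓ cj g (c1 M N) : Subgroup G) := by
    have hcardZ : Nat.card (cj (m : G) (c1 M N ⊓ c1 N M)) = Nat.card (c1 M N ⊓ c1 N M : Subgroup G) :=
      Subgroup.card_map_of_injective (MulAut.conj (m : G)).injective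
    rw [← hcardZ]
    apply Subgroup.card_le_of_le
    refine le_inf ?_ hZm
    calc cj (m : G) (c1 M N ⊓ c1 N M) ≤ cj (m : G) (c1 M N) := Subgroup.map_mono inf_le_left
      _ = c1 M N := hcjK m m.2
  -- Step 4
  have hdvd := card_dvd_relCore hTN hcardN
  have hLeq : relCore N (M ⊓ N) = c1 N M := by
    show relCore N (M ⊓ N) = relCore N (N ⊓ M)
    rw [inf_comm]
  rw [hLeq] at hdvd
  have hLpos : 0 < Nat.card (c1 N M) := Nat.card_pos
  have hfpos : 0 < (d - 1).factorial := Nat.factorial_pos _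
  have hfac : d * (d - 1).factorial = d.factorial := Nat.mul_factorial_pred (by omega)
  have hNle : Nat.card N ≤ d.factorial * Nat.card (c1 N M) :=
    Nat.le_of_dvd (Nat.mul_pos (Nat.factorial_pos _) hLpos) hdvd
  have hTle : Nat.card (M ⊓ N : Subgroup G) ≤ (d - 1).factorial * Nat.card (c1 N M) := by
    rw [hcardN, ← hfac, mul_assoc] at hNle
    exact Nat.le_of_mul_le_mul_left hNle (by omega)
  have hprod2 := Cfsg.Agent.Lib.Helper51_Offender.card_sup_mul_card_inf (c1 M N) (c1 N M) (hLT.trans hTK)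
  have hsuple : Nat.card (c1 M N ⊔ c1 N M : Subgroup G) ≤ Nat.card (M ⊓ N : Subgroup G) :=
    Subgroup.card_le_of_le (sup_le hKT hLT)
  have h4 : Nat.card (c1 M N) ≤ (d - 1).factorial * Nat.card (c1 M N ⊓ c1 N M : Subgroup G) := by
    apply Nat.le_of_mul_le_mul_right _ hLpos
    calc Nat.card (c1 M N) * Nat.card (c1 N M)
        = Nat.card (c1 M N ⊔ c1 N M : Subgroup G) * Nat.card (c1 M N ⊓ c1 N M : Subgroup G) := hprod2.symm
      _ ≤ Nat.card (M ⊓ N : Subgroup G) * Nat.card (c1 M N ⊓ c1 N M : Subgroup G) :=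
          Nat.mul_le_mul_right _ hsuple
      _ ≤ ((d - 1).factorial * Nat.card (c1 N M)) * Nat.card (c1 M N ⊓ c1 N M : Subgroup G) :=
          Nat.mul_le_mul_right _ hTle
      _ = (d - 1).factorial * Nat.card (c1 M N ⊓ c1 N M : Subgroup G) * Nat.card (c1 N M) := by ring
  -- Step 5
  have hxpos : 0 < Nat.card (c1 M N ⊓ cj g (c1 M N) : Subgroup G) := Nat.card_pos
  rw [← hfac] at h2
  exact arith d _ _ _ _ hd6 hfpos hxpos h2 h4 h3

/-- PACKAGE STEP3A. -/
theorem step3a {d : ℕ} {M N : Subgroup G} {g : G} (h : Cfg d M N g)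
    (hA : altPart N (cj g (M ⊓ N)) ≤ (M ⊓ N) ⊔ cj g (c1 M N)) (hc : c2 M N = ⊥) : False :=
  step3a_of
    (fun {d M T U Z₁ Z₂} hAS hd hUM hAU a b c a' b' c' =>
      Cfsg.Agent.Lib.Helper99_Kn_ALTCOMM.as_comm hAS hd hUM hAU a b c a' b' c')
    (fun {d M T U} hAS hd hUM hAU {ι} _ _ Z hZ =>
      Cfsg.Agent.Lib.Helper60_Kn_ALTcore.as_pp_of hd
        (fun Z₁ Z₂ a b c a' b' c' =>
          Cfsg.Agent.Lib.Helper99_Kn_ALTCOMM.as_comm hAS hd hUM hAU a b c a' b' c')
        ⟨(altPart_facts hAS hd).1, (altPart_facts hAS hd).2.2.2⟩ Z hZ)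
    h hA hc

end Cfsg.Agent.Lib.Helper2_Kn_STEP3A
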