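import Cfsg.Agent.Lib.Helper49_KnDefs
import Cfsg.Agent.Lib.Helper65_S3693
import Cfsg.Agent.Lib.Helper41_Kn_ALTPOINT
import Cfsg.Agent.Lib.Helper82_Kn_ALTPART
import Cfsg.Agent.Lib.Helper99_Kn_ALTCOMM
import Cfsg.Agent.Lib.Helper60_Kn_ALTcore

/-!
S3687 package TWALT (architect helper49, market `s3687_packages`): Thompson-Wielandt for the configuration `Cfg`:
one of the second cores is trivial.
-/

set_option autoImplicit false
set_option linter.unusedVariables false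
set_option linter.unusedSectionVars false
set_option linter.style.haveILetI false

namespace Cfsg.Agent.Lib.Helper2_Kn_TWALT

open Cfsg Cfsg.Agent.Lib.Helper47_TW Cfsg.Agent.Lib.Helper49_KnDefs Cfsg.Agent.Lib.Helper47_SubAPI
  Cfsg.Agent.Lib.Helper65_S3693
open Cfsg.Agent.Lib.Helper41_Kn_ALTPOINT Cfsg.Agent.Lib.Helper82_Kn_ALTPART

universe u v

variable {G : Type u} [Group G] [Finite G]

/-- PACKAGE TWALT, with package ALTSOLV as a hypothesis. -/
theorem tw_alt_of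
    (as_solv : ∀ {d : ℕ} {M T U Z : Subgroup G}, AS d M T → 5 ≤ d → U ≤ M →
      altPart M T ≤ U ⊔ relCore M T → Z ≤ U → U ≤ Subgroup.normalizer (Z : Set G) →
      Group.IsSolvable ↥Z → Z ≤ relCore M T)
    {d : ℕ} {M N : Subgroup G} {g : G} (h : Cfg d M N g) :
    c2 M N = ⊥ ∨ c2 N M = ⊥ := by
  obtain ⟨hTM, hcard, hfac⟩ := h.as
  have hd6 := h.hd
  have hd5 : 5 ≤ d := by omega
  obtain ⟨m, hmM, hmT⟩ : ∃ m ∈ M, m ∉ M ⊓ N := by
    by_contra hcon
    push Not at hcon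
    have hle : M ≤ M ⊓ N := hcon
    have heq : M ⊓ N = M := le_antisymm inf_le_left hle
    rw [heq] at hcard
    have hpos : 0 < Nat.card M := Nat.card_pos
    nlinarith
  obtain ⟨hAS, hcore⟩ := as_point h.as hd5 hmM hmT
  have hcores : ∀ p : ℕ, p.Prime → pCoreOf p (M ⊓ N) = ⊥ ∧ pCoreOf p (c1 M N) = ⊥ := by
    intro p hp
    haveI : Fact p.Prime := ⟨hp⟩
    apply pCoreOf_inf_eq_bot h.setup p
    have hfacts := altPart_facts hAS (by omega : 5 ≤ d - 1)
    have hsolv : Group.IsSolvable ↥(pCoreOf p (M ⊓ N)) := by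
      haveI := (isPGroup_pCoreOf (p := p) (M ⊓ N)).isNilpotent
      infer_instance
    have h1 := as_solv hAS (by omega : 5 ≤ d - 1) le_rfl (le_sup_of_le_left hfacts.2.1)
      (pCoreOf_le (p := p) (M ⊓ N)) (le_normalizer_pCoreOf (p := p) (M ⊓ N)) hsolv
    rw [hcore] at h1
    exact h1
  by_contra hcon
  push Not at hcon
  obtain ⟨hA, hB⟩ := hcon
  obtain ⟨p, hp, -, -, hF1, -⟩ := Cfsg.Agent.Lib.Helper47_TW.main h.setup hA hB
  apply fstar_ne_bot h.ne
  rw [hF1, pCore_eq_bot_of_pCoreOf (hcores p hp).2]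

/-- PACKAGE TWALT. -/
theorem tw_alt {d : ℕ} {M N : Subgroup G} {g : G} (h : Cfg d M N g) :
    c2 M N = ⊥ ∨ c2 N M = ⊥ :=
  tw_alt_of (fun {d M T U Z} hAS hd hUM hAU hZU hZn hsolv =>
    Cfsg.Agent.Lib.Helper60_Kn_ALTcore.as_solv_of hd
      (fun Z₁ Z₂ a b c a' b' c' =>
        Cfsg.Agent.Lib.Helper99_Kn_ALTCOMM.as_comm hAS hd hUM hAU a b c a' b' c')
      ⟨(altPart_facts hAS hd).1, (altPart_facts hAS hd).2.2.2⟩ hZU hZn hsolv) h

end Cfsg.Agent.Lib.Helper2_Kn_TWALT
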