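import Mathlib
import Cfsg.Agent.Lib.Helper44_MI3Defs

set_option autoImplicit false
set_option linter.unusedVariables false
set_option linter.unusedSectionVars false
set_option linter.style.haveILetI false
set_option linter.unusedSimpArgs false

/-!
MI3-REGC (helper44's S2144 market): the regular case is impossible; the fixed points of an involution
`s` (acting as `-1` on a hyperbolic 4-space) on `Ω` are counted in two ways.
-/

namespace Cfsg.Agent.Lib.Helper2_MI3_REGC

open Module Cfsg.Agent.Lib.Helper14_OmegaSimple Cfsg.Agent.Lib.Helper22_MI2Defs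
  Cfsg.Agent.Lib.Helper44_MI3Defs Cfsg.Agent.Lib.Helper44_QuadClass
  Cfsg.Agent.Lib.Helper94_OrthSmall

variable {F V : Type*} [Field F] [AddCommGroup V] [Module F V]

theorem three_eq_zero (Q : QuadraticForm F V) {k : ℕ} (hS : OddSetting Q k) : (3 : F) = 0 := by
  rcases hS.f3 (2 : F) with h | h | h
  · exact absurd h hS.two_ne
  · exfalso
    have : (1 : F) = 0 := by linear_combination h
    exact one_ne_zero this
  · linear_combination h

theorem card_F [Finite F] (Q : QuadraticForm F V) {k : ℕ} (hS : OddSetting Q k) :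
    Nat.card F = 3 := by
  classical
  haveI := Fintype.ofFinite F
  rw [Nat.card_eq_fintype_card, ← Finset.card_univ]
  have h1 : (1 : F) ≠ -1 := by
    intro h
    apply hS.two_ne
    linear_combination h
  have huniv : (Finset.univ : Finset F) = {0, 1, -1} := by
    ext c
    simp only [Finset.mem_univ, Finset.mem_insert, Finset.mem_singleton, true_iff]
    exact hS.f3 c
  rw [huniv, Finset.card_insert_of_notMem, Finset.card_insert_of_notMem, Finset.card_singleton]
  · simpa using h1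
  · simp only [Finset.mem_insert, Finset.mem_singleton, not_or]
    exact ⟨zero_ne_one, by simp⟩

/-- The common kernel of six functionals. -/
def ker6 (Q : QuadraticForm F V) (a : Fin 6 → V) : Submodule F V :=
  LinearMap.ker (LinearMap.pi fun i => QuadraticMap.polarBilin Q (a i))

theorem mem_ker6 (Q : QuadraticForm F V) (a : Fin 6 → V) (x : V) :
    x ∈ ker6 Q a ↔ ∀ i, QuadraticMap.polar (⇑Q) (a i) x = 0 := by
  unfold ker6
  rw [LinearMap.mem_ker]
  constructor
  · intro h i
    have := congrFun h i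
    simpa using this
  · intro h
    funext i
    simpa using h i

section action

variable {X : Type*} [MulAction (V ≃ₗ[F] V) X]

theorem regC3 [Finite F] [FiniteDimensional F V] (Q : QuadraticForm F V) {m : ℕ}
    (hS : OddSetting Q m) (hm : 3 ≤ m) (Ω : Set X) (hΩ : IsOrbit Q Ω)
    (hreg : ∀ u : V, u ≠ 0 → Q u = 0 → ∀ ω ∈ Ω, ∀ w : V, QuadraticMap.polar (⇑Q) u w = 0 →
      E Q u w • ω = ω → w ∈ Submodule.span F {u})
    (htr : ∀ u u' : V, Q u = 0 → Q u' = 0 → QuadraticMap.polar (⇑Q) u u' = 1 →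
      ∀ ω ∈ Ω, ∀ ω' ∈ Ω, ∃ w ∈ perp2 Q u u', E Q u w • ω = ω')
    (hinv : ∀ e₁ f₁ e₂ f₂ : V, Q e₁ = 0 → Q f₁ = 0 → Q e₂ = 0 → Q f₂ = 0 →
      QuadraticMap.polar (⇑Q) e₁ f₁ = 1 → QuadraticMap.polar (⇑Q) e₂ f₂ = 1 →
      QuadraticMap.polar (⇑Q) e₁ e₂ = 0 → QuadraticMap.polar (⇑Q) e₁ f₂ = 0 →
      QuadraticMap.polar (⇑Q) f₁ e₂ = 0 → QuadraticMap.polar (⇑Q) f₁ f₂ = 0 →
      ∃ s ∈ T Q, s * s = 1 ∧ s e₁ = -e₁ ∧ s f₁ = -f₁ ∧ s e₂ = -e₂ ∧ s f₂ = -f₂ ∧
        ∀ x : V, QuadraticMap.polar (⇑Q) x e₁ = 0 → QuadraticMap.polar (⇑Q) x f₁ = 0 →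
          QuadraticMap.polar (⇑Q) x e₂ = 0 → QuadraticMap.polar (⇑Q) x f₂ = 0 → s x = x)
    (hcnt : ∀ (u u' : V), Q u = 0 → Q u' = 0 → QuadraticMap.polar (⇑Q) u u' = 1 →
      ∀ (s : V ≃ₗ[F] V), s ∈ T Q → ∀ c : F, c ≠ 0 → s u = c • u →
      (∀ w ∈ perp2 Q u u', c • s w ∈ perp2 Q u u') →
      ∀ ω₀ ∈ Ω, s • ω₀ = ω₀ →
      {ω ∈ Ω | s • ω = ω}.ncard = Nat.card {w : ↥(perp2 Q u u') // c • s (w : V) = (w : V)}) :
    False := by
  classical
  have hQ := hS.nondeg
  have hdimV : finrank F V = 2 * m + 1 := hS.dim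
  have hdim5 : 5 ≤ finrank F V := by omega
  have h2 : (2 : F) ≠ 0 := hS.two_ne
  have h3 : (3 : F) = 0 := three_eq_zero Q hS
  have hcardF : Nat.card F = 3 := card_F Q hS
  obtain ⟨m', rfl⟩ : ∃ m', m = m' + 3 := ⟨m - 3, by omega⟩
  obtain ⟨x₀, e, f, -, -, hsys, -, -⟩ := odd_standard (m' + 3) V Q hdimV hQ
  have P : ∀ a b : V, QuadraticMap.polar (⇑Q) a b = QuadraticMap.polar (⇑Q) b a :=
    fun a b => QuadraticMap.polar_comm _ a b
  have key : ∀ e₁ f₁ e₂ f₂ e₃ f₃ : V, Q e₁ = 0 → Q f₁ = 0 → Q e₂ = 0 → Q f₂ = 0 → Q e₃ = 0 →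
      Q f₃ = 0 → QuadraticMap.polar (⇑Q) e₁ f₁ = 1 → QuadraticMap.polar (⇑Q) e₂ f₂ = 1 →
      QuadraticMap.polar (⇑Q) e₃ f₃ = 1 →
      QuadraticMap.polar (⇑Q) e₁ e₂ = 0 → QuadraticMap.polar (⇑Q) e₁ e₃ = 0 →
      QuadraticMap.polar (⇑Q) e₂ e₃ = 0 → QuadraticMap.polar (⇑Q) f₁ f₂ = 0 →
      QuadraticMap.polar (⇑Q) f₁ f₃ = 0 → QuadraticMap.polar (⇑Q) f₂ f₃ = 0 →
      QuadraticMap.polar (⇑Q) e₁ f₂ = 0 → QuadraticMap.polar (⇑Q) e₁ f₃ = 0 →
      QuadraticMap.polar (⇑Q) e₂ f₁ = 0 → QuadraticMap.polar (⇑Q) e₂ f₃ = 0 →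
      QuadraticMap.polar (⇑Q) e₃ f₁ = 0 → QuadraticMap.polar (⇑Q) e₃ f₂ = 0 → False := by
    intro e₁ f₁ e₂ f₂ e₃ f₃ he₁ hf₁ he₂ hf₂ he₃ hf₃ h11 h22 h33 e12 e13 e23 f12 f13 f23 a12 a13
      a21 a23 a31 a32
    -- the other orientations
    have h11' : QuadraticMap.polar (⇑Q) f₁ e₁ = 1 := by rw [P]; exact h11
    have h22' : QuadraticMap.polar (⇑Q) f₂ e₂ = 1 := by rw [P]; exact h22
    have h33' : QuadraticMap.polar (⇑Q) f₃ e₃ = 1 := by rw [P]; exact h33
    have e21 : QuadraticMap.polar (⇑Q) e₂ e₁ = 0 := by rw [P]; exact e12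
    have e31 : QuadraticMap.polar (⇑Q) e₃ e₁ = 0 := by rw [P]; exact e13
    have e32 : QuadraticMap.polar (⇑Q) e₃ e₂ = 0 := by rw [P]; exact e23
    have f21 : QuadraticMap.polar (⇑Q) f₂ f₁ = 0 := by rw [P]; exact f12
    have f31 : QuadraticMap.polar (⇑Q) f₃ f₁ = 0 := by rw [P]; exact f13
    have f32 : QuadraticMap.polar (⇑Q) f₃ f₂ = 0 := by rw [P]; exact f23
    have b12 : QuadraticMap.polar (⇑Q) f₂ e₁ = 0 := by rw [P]; exact a12
    have b13 : QuadraticMap.polar (⇑Q) f₃ e₁ = 0 := by rw [P]; exact a13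
    have b21 : QuadraticMap.polar (⇑Q) f₁ e₂ = 0 := by rw [P]; exact a21
    have b23 : QuadraticMap.polar (⇑Q) f₃ e₂ = 0 := by rw [P]; exact a23
    have b31 : QuadraticMap.polar (⇑Q) f₁ e₃ = 0 := by rw [P]; exact a31
    have b32 : QuadraticMap.polar (⇑Q) f₂ e₃ = 0 := by rw [P]; exact a32
    have s1 : QuadraticMap.polar (⇑Q) e₁ e₁ = 0 := by rw [polar_self', he₁, mul_zero]
    have s2 : QuadraticMap.polar (⇑Q) f₁ f₁ = 0 := by rw [polar_self', hf₁, mul_zero]
    have s3 : QuadraticMap.polar (⇑Q) e₂ e₂ = 0 := by rw [polar_self', he₂, mul_zero]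
    have s4 : QuadraticMap.polar (⇑Q) f₂ f₂ = 0 := by rw [polar_self', hf₂, mul_zero]
    have s5 : QuadraticMap.polar (⇑Q) e₃ e₃ = 0 := by rw [polar_self', he₃, mul_zero]
    have s6 : QuadraticMap.polar (⇑Q) f₃ f₃ = 0 := by rw [polar_self', hf₃, mul_zero]
    -- the involution
    obtain ⟨s, hsT, hss, hse₁, hsf₁, hse₂, hsf₂, hsfix⟩ :=
      hinv e₁ f₁ e₂ f₂ he₁ hf₁ he₂ hf₂ h11 h22 e12 a12 b21 f12
    have hsO : s ∈ oG (⇑Q) := T_le_oG Q hsT
    have hsP : ∀ x y : V, QuadraticMap.polar (⇑Q) (s x) (s y) = QuadraticMap.polar (⇑Q) x y :=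
      fun x y => oG_polar Q hsO x y
    have hse₃ : s e₃ = e₃ := hsfix e₃ e31 a31 e32 a32
    have hsf₃ : s f₃ = f₃ := hsfix f₃ b13 f31 b23 f32
    have he₃0 : e₃ ≠ 0 := by
      intro h0
      have := h33
      rw [h0] at this
      simp [QuadraticMap.polar] at this
    -- `s` preserves `W₃` and `W₁`
    have hsW₃ : ∀ w ∈ perp2 Q e₃ f₃, s w ∈ perp2 Q e₃ f₃ := by
      intro w hw
      rw [mem_perp] at hw ⊢
      constructor
      · have := hsP e₃ w
        rw [hse₃] at this
        rw [this]; exact hw.1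
      · have := hsP f₃ w
        rw [hsf₃] at this
        rw [this]; exact hw.2
    have hsW₁ : ∀ w ∈ perp2 Q e₁ f₁, s w ∈ perp2 Q e₁ f₁ := by
      intro w hw
      rw [mem_perp] at hw ⊢
      constructor
      · have := hsP e₁ w
        rw [hse₁, QuadraticMap.polar_neg_left, hw.1] at this
        exact neg_eq_zero.mp this
      · have := hsP f₁ w
        rw [hsf₁, QuadraticMap.polar_neg_left, hw.2] at this
        exact neg_eq_zero.mp this
    -- Step A: `s` has a fixed point on `Ω`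
    obtain ⟨ω₀, hω₀, hfix⟩ : ∃ ω₀ ∈ Ω, s • ω₀ = ω₀ := by
      obtain ⟨ω, hω, -⟩ := hΩ.nontriv
      have hsω : s • ω ∈ Ω := hΩ.inv s hsT ω hω
      obtain ⟨c, hcW, hc⟩ := htr e₃ f₃ he₃ hf₃ h33 ω hω (s • ω) hsω
      have hcW' := (mem_perp Q e₃ f₃).mp hcW
      have hscW' := (mem_perp Q e₃ f₃).mp (hsW₃ c hcW)
      have hconj : ∀ z : V, QuadraticMap.polar (⇑Q) e₃ z = 0 →
          ∀ ω' : X, s • (E Q e₃ z • ω') = E Q e₃ (s z) • (s • ω') := by
        intro z hz ω'
        have := conj_E Q hsO he₃ hz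
        rw [hse₃] at this
        rw [← this, ← mul_smul, ← mul_smul]
        congr 1
        group
      have hssω : s • (s • ω) = ω := by rw [← mul_smul, hss, one_smul]
      have h1 : E Q e₃ (s c + c) • ω = ω := by
        rw [← E_mul Q he₃ hscW'.1 hcW'.1, mul_smul, hc, ← hconj c hcW'.1, hc, hssω]
      have hsum : QuadraticMap.polar (⇑Q) e₃ (s c + c) = 0 := by
        rw [QuadraticMap.polar_add_right, hscW'.1, hcW'.1, add_zero]
      have hspan := hreg e₃ he₃0 he₃ ω hω (s c + c) hsum h1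
      obtain ⟨a, ha⟩ := Submodule.mem_span_singleton.mp hspan
      have ha0 : a = 0 := by
        have h5 : QuadraticMap.polar (⇑Q) f₃ (s c + c) = 0 := by
          rw [QuadraticMap.polar_add_right, hscW'.2, hcW'.2, add_zero]
        rw [← ha, QuadraticMap.polar_smul_right, h33', smul_eq_mul, mul_one] at h5
        exact h5
      have hsc : s c = -c := by
        rw [ha0, zero_smul] at ha
        exact eq_neg_of_add_eq_zero_left ha.symm
      have hnc : QuadraticMap.polar (⇑Q) e₃ (-c) = 0 := by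
        rw [QuadraticMap.polar_neg_right, hcW'.1, neg_zero]
      refine ⟨E Q e₃ (-c) • ω, hΩ.inv _ (E_mem_T Q hQ hdim5 he₃ hnc) ω hω, ?_⟩
      rw [hconj (-c) hnc ω, map_neg, hsc, neg_neg, ← hc, ← mul_smul, E_mul Q he₃ hcW'.1 hcW'.1]
      congr 2
      have : c + c + c = 0 := by
        have : (3 : F) • c = 0 := by rw [h3, zero_smul]
        rw [← this]
        module
      exact eq_neg_of_add_eq_zero_left this
    -- Step B: count with `u = e₃`, `c = 1`
    have hB := hcnt e₃ f₃ he₃ hf₃ h33 s hsT 1 one_ne_zero (by rw [hse₃, one_smul])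
      (by intro w hw; rw [one_smul]; exact hsW₃ w hw) ω₀ hω₀ hfix
    -- Step C: count with `u = e₁`, `c = -1`
    have hC := hcnt e₁ f₁ he₁ hf₁ h11 s hsT (-1) (neg_ne_zero.mpr one_ne_zero)
      (by rw [hse₁, neg_one_smul])
      (by intro w hw; rw [neg_one_smul]; exact Submodule.neg_mem _ (hsW₁ w hw)) ω₀ hω₀ hfix
    -- the six functionals
    have hZmem : ∀ x : V, x ∈ ker6 Q ![e₁, f₁, e₂, f₂, e₃, f₃] ↔
        (QuadraticMap.polar (⇑Q) e₁ x = 0 ∧ QuadraticMap.polar (⇑Q) f₁ x = 0 ∧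
          QuadraticMap.polar (⇑Q) e₂ x = 0 ∧ QuadraticMap.polar (⇑Q) f₂ x = 0 ∧
          QuadraticMap.polar (⇑Q) e₃ x = 0 ∧ QuadraticMap.polar (⇑Q) f₃ x = 0) := by
      intro x
      rw [mem_ker6]
      constructor
      · intro h
        exact ⟨h 0, h 1, h 2, h 3, h 4, h 5⟩
      · rintro ⟨h0, h1, h2', h3', h4, h5⟩ i
        fin_cases i
        · exact h0
        · exact h1
        · exact h2'
        · exact h3'
        · exact h4
        · exact h5
    -- dimension of the common kernel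
    have hZdim : finrank F (ker6 Q ![e₁, f₁, e₂, f₂, e₃, f₃]) + 6 = finrank F V := by
      have hsurj : LinearMap.range
          (LinearMap.pi fun i => QuadraticMap.polarBilin Q (![e₁, f₁, e₂, f₂, e₃, f₃] i) :
            V →ₗ[F] (Fin 6 → F)) = ⊤ := by
        rw [LinearMap.range_eq_top]
        intro t
        refine ⟨t 1 • e₁ + t 0 • f₁ + t 3 • e₂ + t 2 • f₂ + t 5 • e₃ + t 4 • f₃, ?_⟩
        funext i
        simp only [LinearMap.pi_apply, QuadraticMap.polarBilin_apply_apply,
          QuadraticMap.polar_add_right, QuadraticMap.polar_smul_right, smul_eq_mul]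
        fin_cases i
        · simp [s1, h11, e12, a12, e13, a13]
        · simp [s2, h11', b21, f12, b31, f13]
        · simp [s3, h22, e21, a21, e23, a23]
        · simp [s4, h22', b12, f21, b32, f23]
        · simp [s5, h33, e31, a31, e32, a32]
        · simp [s6, h33', b13, f31, b23, f32]
      have h1 := LinearMap.finrank_range_add_finrank_ker
        (LinearMap.pi fun i => QuadraticMap.polarBilin Q (![e₁, f₁, e₂, f₂, e₃, f₃] i) :
          V →ₗ[F] (Fin 6 → F))
      rw [hsurj, finrank_top, Module.finrank_pi, Fintype.card_fin] at h1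
      have h4 : finrank F (ker6 Q ![e₁, f₁, e₂, f₂, e₃, f₃]) = finrank F (LinearMap.ker
        (LinearMap.pi fun i => QuadraticMap.polarBilin Q (![e₁, f₁, e₂, f₂, e₃, f₃] i) :
          V →ₗ[F] (Fin 6 → F))) := rfl
      omega
    have hZcard : Nat.card (ker6 Q ![e₁, f₁, e₂, f₂, e₃, f₃]) = 3 ^ (2 * m' + 1) := by
      rw [Module.natCard_eq_pow_finrank (K := F), hcardF]
      congr 1
      omega
    -- Step B count
    have hBcard : Nat.card {w : ↥(perp2 Q e₃ f₃) // (1 : F) • s (w : V) = (w : V)} =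
        3 ^ (2 * m' + 1) := by
      rw [← hZcard]
      refine Nat.card_congr
        { toFun := fun w => ⟨((w : ↥(perp2 Q e₃ f₃)) : V), ?_⟩
          invFun := fun z => ⟨⟨(z : V), ?_⟩, ?_⟩
          left_inv := fun w => rfl
          right_inv := fun z => rfl }
      · obtain ⟨⟨w, hwW⟩, hw⟩ := w
        simp only [one_smul] at hw
        have hwW' := (mem_perp Q e₃ f₃).mp hwW
        rw [hZmem]
        have key : ∀ y : V, s y = -y → QuadraticMap.polar (⇑Q) y w = 0 := by
          intro y hy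
          have h6 := hsP y w
          rw [hy, hw, QuadraticMap.polar_neg_left] at h6
          have : (2 : F) * QuadraticMap.polar (⇑Q) y w = 0 := by linear_combination -h6
          exact (mul_eq_zero.mp this).resolve_left h2
        exact ⟨key _ hse₁, key _ hsf₁, key _ hse₂, key _ hsf₂, hwW'.1, hwW'.2⟩
      · have hz := (hZmem _).mp z.2
        rw [mem_perp]
        exact ⟨hz.2.2.2.2.1, hz.2.2.2.2.2⟩
      · have hz := (hZmem _).mp z.2
        simp only [one_smul]
        exact hsfix _ (by rw [P]; exact hz.1) (by rw [P]; exact hz.2.1)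
          (by rw [P]; exact hz.2.2.1) (by rw [P]; exact hz.2.2.2.1)
    -- Step C count
    have hCcard : Nat.card {w : ↥(perp2 Q e₁ f₁) // (-1 : F) • s (w : V) = (w : V)} = 9 := by
      have hFF : Nat.card (F × F) = 9 := by rw [Nat.card_prod, hcardF]
      rw [← hFF]
      symm
      refine Nat.card_congr
        { toFun := fun p => ⟨⟨p.1 • e₂ + p.2 • f₂, ?_⟩, ?_⟩
          invFun := fun w => (QuadraticMap.polar (⇑Q) ((w : ↥(perp2 Q e₁ f₁)) : V) f₂,
            QuadraticMap.polar (⇑Q) ((w : ↥(perp2 Q e₁ f₁)) : V) e₂)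
          left_inv := ?_
          right_inv := ?_ }
      · rw [mem_perp]
        constructor
        · rw [QuadraticMap.polar_add_right, QuadraticMap.polar_smul_right,
            QuadraticMap.polar_smul_right, e12, a12]
          simp
        · rw [QuadraticMap.polar_add_right, QuadraticMap.polar_smul_right,
            QuadraticMap.polar_smul_right, b21, f12]
          simp
      · simp only [map_add, map_smul, hse₂, hsf₂, neg_one_smul]
        module
      · rintro ⟨p, q⟩
        simp only [QuadraticMap.polar_add_left, QuadraticMap.polar_smul_left, s3, s4, h22, h22',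
          smul_eq_mul, mul_zero, mul_one, add_zero, zero_add]
      · rintro ⟨⟨w, hwW⟩, hw⟩
        apply Subtype.ext
        apply Subtype.ext
        simp only
        rw [neg_one_smul] at hw
        have hwW' := (mem_perp Q e₁ f₁).mp hwW
        -- z := w - y is fixed by s
        set y : V := QuadraticMap.polar (⇑Q) w f₂ • e₂ + QuadraticMap.polar (⇑Q) w e₂ • f₂ with hy
        have hsy : s y = -y := by
          rw [hy, map_add, map_smul, map_smul, hse₂, hsf₂]
          module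
        have hz : s (w - y) = w - y := by
          apply hsfix
          · rw [QuadraticMap.polar_sub_left, P w e₁, hwW'.1, hy, QuadraticMap.polar_add_left,
              QuadraticMap.polar_smul_left, QuadraticMap.polar_smul_left, e21, b12]
            simp
          · rw [QuadraticMap.polar_sub_left, P w f₁, hwW'.2, hy, QuadraticMap.polar_add_left,
              QuadraticMap.polar_smul_left, QuadraticMap.polar_smul_left, a21, f21]
            simp
          · rw [QuadraticMap.polar_sub_left, hy, QuadraticMap.polar_add_left,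
              QuadraticMap.polar_smul_left, QuadraticMap.polar_smul_left, s3, h22']
            simp
          · rw [QuadraticMap.polar_sub_left, hy, QuadraticMap.polar_add_left,
              QuadraticMap.polar_smul_left, QuadraticMap.polar_smul_left, h22, s4]
            simp
        rw [map_sub, hsy] at hz
        -- s w = -w
        have hsw : s w = -w := by
          have := congrArg (fun t => -t) hw
          simpa using this
        rw [hsw] at hz
        have h8 : (w - y) + (w - y) = 0 := by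
          calc (w - y) + (w - y) = (w - y) + (-w - -y) := by rw [hz]
            _ = 0 := by abel
        have h2z : (2 : F) • (w - y) = 0 := by rw [two_smul]; exact h8
        have hwy : w - y = 0 := (smul_eq_zero.mp h2z).resolve_left h2
        exact (sub_eq_zero.mp hwy).symm
    rw [hBcard] at hB
    rw [hCcard] at hC
    rw [hB] at hC
    have h9 : (9 : ℕ) = 3 ^ 2 := by norm_num
    rw [h9] at hC
    have := Nat.pow_right_injective (by norm_num : 2 ≤ 3) hC
    omega
  have i0 : Fin (m' + 3) := ⟨0, by omega⟩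
  have hne : ∀ a b : ℕ, ∀ (ha : a < m' + 3) (hb : b < m' + 3), a ≠ b →
      (⟨a, ha⟩ : Fin (m' + 3)) ≠ ⟨b, hb⟩ := by
    intro a b ha hb hab h
    exact hab (Fin.mk.inj_iff.mp h)
  have hef : ∀ i j, i ≠ j → QuadraticMap.polar (⇑Q) (e i) (f j) = 0 := by
    intro i j hij
    rw [hsys.ef, if_neg hij]
  have hef1 : ∀ i, QuadraticMap.polar (⇑Q) (e i) (f i) = 1 := by
    intro i
    rw [hsys.ef, if_pos rfl]
  exact key (e ⟨0, by omega⟩) (f ⟨0, by omega⟩) (e ⟨1, by omega⟩) (f ⟨1, by omega⟩)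
    (e ⟨2, by omega⟩) (f ⟨2, by omega⟩) (hsys.qe _) (hsys.qf _) (hsys.qe _) (hsys.qf _)
    (hsys.qe _) (hsys.qf _) (hef1 _) (hef1 _) (hef1 _) (hsys.ee _ _) (hsys.ee _ _) (hsys.ee _ _)
    (hsys.ff _ _) (hsys.ff _ _) (hsys.ff _ _)
    (hef _ _ (hne 0 1 _ _ (by norm_num))) (hef _ _ (hne 0 2 _ _ (by norm_num)))
    (hef _ _ (hne 1 0 _ _ (by norm_num))) (hef _ _ (hne 1 2 _ _ (by norm_num)))
    (hef _ _ (hne 2 0 _ _ (by norm_num))) (hef _ _ (hne 2 1 _ _ (by norm_num)))

end action

end Cfsg.Agent.Lib.Helper2_MI3_REGC
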