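import Mathlib
import Cfsg.Agent.Lib.Helper38_MIODefs

set_option autoImplicit false
set_option linter.unusedVariables false
set_option linter.unusedSectionVars false

/-!
MIO-IMG (helper38's S2143 market): a totally singular member containing two independent vectors `l, x`
has `q²` distinct images through `l` under the Siegel elements `E(y,w)`, `w` in an anisotropic plane.
-/

namespace Cfsg.Agent.Lib.Helper2_MIO_IMG

open Module Cfsg.Agent.Lib.Helper94_OrthSmall Cfsg.Agent.Lib.Helper44_QuadClass
  Cfsg.Agent.Lib.Helper14_OmegaSimple Cfsg.Agent.Lib.Helper38_MIODefs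

variable {F W : Type*} [Field F] [Fintype F] [AddCommGroup W] [Module F W] [FiniteDimensional F W]

theorem img (Q : QuadraticForm F W) (hQ : (QuadraticMap.polarBilin Q).Nondegenerate)
    (hdim : 5 ≤ finrank F W) (hP : HasAniso Q)
    {𝒪 : Type*} [Finite 𝒪] (C : 𝒪 → AddSubgroup W) (p : ℕ) (hS : SiegSym Q p C) {O : 𝒪}
    (hts : ∀ x ∈ C O, Q x = 0) {l x : W} (hl : l ∈ C O) (hx : x ∈ C O)
    (hind : ∀ a : F, x ≠ a • l) (h0 : l ≠ 0) :
    Fintype.card F ^ 2 ≤ mult C l := by
  classical
  have P : ∀ a b : W, QuadraticMap.polar (⇑Q) a b = QuadraticMap.polar (⇑Q) b a :=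
    fun a b => QuadraticMap.polar_comm _ a b
  have hQl : Q l = 0 := hts l hl
  have hQx : Q x = 0 := hts x hx
  have hxl : QuadraticMap.polar (⇑Q) x l = 0 := by
    have h1 := hts (x + l) ((C O).add_mem hx hl)
    have h2 := QuadraticMap.map_add (⇑Q) x l
    rw [h1, hQx, hQl] at h2
    linear_combination -h2
  have hll : QuadraticMap.polar (⇑Q) l l = 0 := by rw [polar_self', hQl, mul_zero]
  have hxx : QuadraticMap.polar (⇑Q) x x = 0 := by rw [polar_self', hQx, mul_zero]
  -- hyperbolic partner of `l`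
  obtain ⟨l', hQl', hll'⟩ := exists_hyperbolic_partner Q hQ h0 hQl
  -- `x₁`
  set c : F := QuadraticMap.polar (⇑Q) x l' with hc
  set x₁ : W := x - c • l with hx₁
  have hQx₁ : Q x₁ = 0 := by
    rw [hx₁, Cfsg.Agent.Lib.Helper14_OmegaSimple.map_sub', QuadraticMap.map_smul, hQx, hQl,
      QuadraticMap.polar_smul_right, hxl]
    simp
  have hlx₁ : QuadraticMap.polar (⇑Q) l x₁ = 0 := by
    rw [hx₁, QuadraticMap.polar_sub_right, QuadraticMap.polar_smul_right, hll, P l x, hxl]
    simp
  have hl'x₁ : QuadraticMap.polar (⇑Q) l' x₁ = 0 := by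
    rw [hx₁, QuadraticMap.polar_sub_right, QuadraticMap.polar_smul_right, P l' l, hll', P l' x,
      ← hc]
    simp
  have hx₁0 : x₁ ≠ 0 := by
    intro h
    apply hind c
    rw [hx₁] at h
    exact sub_eq_zero.mp h
  have hx₁mem : x₁ ∈ perp Q l l' := (mem_perp Q l l').mpr ⟨hlx₁, hl'x₁⟩
  -- hyperbolic partner of `x₁` inside the complement
  have hnd := nondegenerate_perp hQ hQl hQl' hll'
  have hx₁' : (⟨x₁, hx₁mem⟩ : ↥(perp Q l l')) ≠ 0 := by
    intro h
    apply hx₁0
    exact congrArg Subtype.val h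
  obtain ⟨y', hQy', hx₁y'⟩ := exists_hyperbolic_partner (Q.comp (perp Q l l').subtype) hnd hx₁'
    (by simpa using hQx₁)
  set y : W := (y' : W) with hy
  have hQy : Q y = 0 := by simpa using hQy'
  have hx₁y : QuadraticMap.polar (⇑Q) x₁ y = 1 := by
    rw [polar_comp_subtype] at hx₁y'
    exact hx₁y'
  have hymem := (mem_perp Q l l').mp y'.2
  have hly : QuadraticMap.polar (⇑Q) l y = 0 := hymem.1
  have hl'y : QuadraticMap.polar (⇑Q) l' y = 0 := hymem.2
  have hxy : QuadraticMap.polar (⇑Q) x y = 1 := by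
    have : x = x₁ + c • l := by rw [hx₁]; abel
    rw [this, QuadraticMap.polar_add_left, QuadraticMap.polar_smul_left, hx₁y, hly]
    simp
  -- the anisotropic plane
  obtain ⟨w₁, w₂, ⟨h1l, h1l', h1x, h1y⟩, ⟨h2l, h2l', h2x, h2y⟩, haniso⟩ :=
    hP l l' x₁ y hQl hQl' hll' hQx₁ hQy hx₁y hlx₁ hly hl'x₁ hl'y
  -- the vectors `w (s,t)`
  set w : F × F → W := fun st => st.1 • w₁ + st.2 • w₂ with hw
  have hwl : ∀ st, QuadraticMap.polar (⇑Q) l (w st) = 0 := by
    intro st
    simp only [hw, QuadraticMap.polar_add_right, QuadraticMap.polar_smul_right, h1l, h2l, smul_zero,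
      add_zero]
  have hwy : ∀ st, QuadraticMap.polar (⇑Q) y (w st) = 0 := by
    intro st
    simp only [hw, QuadraticMap.polar_add_right, QuadraticMap.polar_smul_right, h1y, h2y, smul_zero,
      add_zero]
  have hwx₁ : ∀ st, QuadraticMap.polar (⇑Q) x₁ (w st) = 0 := by
    intro st
    simp only [hw, QuadraticMap.polar_add_right, QuadraticMap.polar_smul_right, h1x, h2x, smul_zero,
      add_zero]
  have hwx : ∀ st, QuadraticMap.polar (⇑Q) x (w st) = 0 := by
    intro st
    have : x = x₁ + c • l := by rw [hx₁]; abel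
    rw [this, QuadraticMap.polar_add_left, QuadraticMap.polar_smul_left, hwx₁, hwl]
    simp
  -- images of `l` and `x`
  have hkl : ∀ st, E Q y (w st) l = l := by
    intro st
    rw [E_apply Q hQy (hwy st), hly, hwl]
    simp
  have hkx : ∀ st, E Q y (w st) x = x + w st - Q (w st) • y := by
    intro st
    rw [E_apply Q hQy (hwy st), hxy, hwx]
    simp
  -- the permutations
  have hπ : ∀ st : F × F, ∃ π : Equiv.Perm 𝒪, ∀ O' z, z ∈ C O' ↔ E Q y (w st) z ∈ C (π O') := by
    intro st
    obtain ⟨π, -, hπ⟩ := hS y (w st) hQy (hwy st)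
    exact ⟨π, hπ⟩
  choose π hπ using hπ
  -- members are totally singular
  have htsw : ∀ st, ∀ z ∈ C (π st O), Q z = 0 := by
    intro st z hz
    have hO := E_mem_oG Q hQy (hwy st)
    have hz' : (E Q y (w st)).symm z ∈ C O := by
      rw [hπ st O]
      simpa using hz
    have := hts _ hz'
    have h3 := hO ((E Q y (w st)).symm z)
    rw [LinearEquiv.apply_symm_apply] at h3
    rw [h3]
    exact this
  -- the injection
  have hlmem : ∀ st, l ∈ C (π st O) := by
    intro st
    have := (hπ st O l).mp hl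
    rwa [hkl] at this
  have hxmem : ∀ st, x + w st - Q (w st) • y ∈ C (π st O) := by
    intro st
    have := (hπ st O x).mp hx
    rwa [hkx] at this
  have hinj : Function.Injective (fun st : F × F => (⟨π st O, hlmem st⟩ : {O' : 𝒪 // l ∈ C O'})) := by
    intro st st' h
    have hO : π st O = π st' O := congrArg Subtype.val h
    have h1 := hxmem st
    have h2 := hxmem st'
    rw [← hO] at h2
    have hq1 := htsw st _ h1
    have hq2 := htsw st _ h2
    have hq3 := htsw st _ ((C (π st O)).add_mem h1 h2)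
    have hpol : QuadraticMap.polar (⇑Q) (x + w st - Q (w st) • y) (x + w st' - Q (w st') • y) = 0 := by
      have h4 := QuadraticMap.map_add (⇑Q) (x + w st - Q (w st) • y) (x + w st' - Q (w st') • y)
      rw [hq1, hq2, hq3] at h4
      linear_combination -h4
    have hyy : QuadraticMap.polar (⇑Q) y y = 0 := by rw [polar_self', hQy, mul_zero]
    have hcomp : QuadraticMap.polar (⇑Q) (x + w st - Q (w st) • y) (x + w st' - Q (w st') • y) =
        QuadraticMap.polar (⇑Q) (w st) (w st') - Q (w st) - Q (w st') := by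
      simp only [QuadraticMap.polar_add_left, QuadraticMap.polar_add_right,
        QuadraticMap.polar_sub_left, QuadraticMap.polar_sub_right, QuadraticMap.polar_smul_left,
        QuadraticMap.polar_smul_right, hxx, hwx, hxy, P (w st) x, P y x, hwy, P (w st) y, hyy,
        smul_eq_mul]
      ring
    have hdiff : Q (w st - w st') = 0 := by
      rw [Cfsg.Agent.Lib.Helper14_OmegaSimple.map_sub']
      rw [hcomp] at hpol
      linear_combination -hpol
    have hwd : w st - w st' = (st.1 - st'.1) • w₁ + (st.2 - st'.2) • w₂ := by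
      simp only [hw]
      module
    rw [hwd] at hdiff
    obtain ⟨ha, hb⟩ := haniso _ _ hdiff
    exact Prod.ext (sub_eq_zero.mp ha) (sub_eq_zero.mp hb)
  have hcard := Nat.card_le_card_of_injective _ hinj
  rw [Nat.card_prod, Nat.card_eq_fintype_card] at hcard
  unfold mult
  calc Fintype.card F ^ 2 = Fintype.card F * Fintype.card F := by ring
    _ ≤ _ := hcard

end Cfsg.Agent.Lib.Helper2_MIO_IMG
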