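import Mathlib
import Cfsg.Agent.Lib.Helper38_MIODefs
import Cfsg.Agent.Lib.Helper70_MI2_HYPA

set_option autoImplicit false
set_option linter.unusedVariables false
set_option linter.unusedSectionVars false

/-!
MIO-INVNS (helper38's S2143 market): char ≠ 2, `l` non-singular; an additive subgroup `S ∋ l` invariant
under the Siegel elements fixing `l` lies in `F l` or contains `l^⊥`.
-/

namespace Cfsg.Agent.Lib.Helper2_MIO_INVNS

open Module Cfsg.Agent.Lib.Helper94_OrthSmall Cfsg.Agent.Lib.Helper44_QuadClass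
  Cfsg.Agent.Lib.Helper14_OmegaSimple Cfsg.Agent.Lib.Helper38_MIODefs
  Cfsg.Agent.Lib.Helper70_MI2_HYPA

variable {F W : Type*} [Field F] [Fintype F] [AddCommGroup W] [Module F W] [FiniteDimensional F W]

theorem invns (Q : QuadraticForm F W) (hQ : (QuadraticMap.polarBilin Q).Nondegenerate)
    (h2 : (2 : F) ≠ 0) (hdim : 5 ≤ finrank F W) (S : AddSubgroup W) {l : W} (hl : l ∈ S)
    (hQl : Q l ≠ 0)
    (hinv : ∀ u z : W, Q u = 0 → QuadraticMap.polar (⇑Q) u z = 0 → E Q u z l = l →
      ∀ x ∈ S, E Q u z x ∈ S) :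
    (∀ x ∈ S, ∃ a : F, x = a • l) ∨ (∀ x : W, QuadraticMap.polar (⇑Q) l x = 0 → x ∈ S) := by
  classical
  by_cases hline : ∀ x ∈ S, ∃ a : F, x = a • l
  · exact Or.inl hline
  right
  push Not at hline
  obtain ⟨x, hxS, hxl⟩ := hline
  have P : ∀ a b : W, QuadraticMap.polar (⇑Q) a b = QuadraticMap.polar (⇑Q) b a :=
    fun a b => QuadraticMap.polar_comm _ a b
  have hll : QuadraticMap.polar (⇑Q) l l ≠ 0 := by
    rw [polar_self']
    exact mul_ne_zero h2 hQl
  -- Step A: a singular `u ⟂ l` with `B(u,x) = 1`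
  have hxspan : x ∉ Submodule.span F {l} := by
    intro h
    obtain ⟨a, ha⟩ := Submodule.mem_span_singleton.mp h
    exact hxl a ha.symm
  obtain ⟨u, hQu, hul, hux⟩ := exists_singular_orth_polar_ns Q hQ hdim hQl hxspan 1
  have hlu : QuadraticMap.polar (⇑Q) l u = 0 := by rw [P]; exact hul
  have hxu : QuadraticMap.polar (⇑Q) x u = 1 := by rw [P]; exact hux
  have huu : QuadraticMap.polar (⇑Q) u u = 0 := by rw [polar_self', hQu, mul_zero]
  have hu0 : u ≠ 0 := by
    intro h
    rw [h] at hux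
    simp [QuadraticMap.polar] at hux
  have huspan : u ∉ Submodule.span F {l} := by
    intro h
    obtain ⟨a, ha⟩ := Submodule.mem_span_singleton.mp h
    have h1 : Q u = a * a * Q l := by rw [← ha, QuadraticMap.map_smul, smul_eq_mul]
    rw [hQu] at h1
    have ha0 : a = 0 := by
      rcases mul_eq_zero.mp h1.symm with h3 | h3
      · exact mul_self_eq_zero.mp h3
      · exact absurd h3 hQl
    rw [ha0, zero_smul] at ha
    exact hu0 ha.symm
  -- a singular `u' ⟂ l` with `B(u',u) = 1`
  obtain ⟨u', hQu', hu'l, hu'u⟩ := exists_singular_orth_polar_ns Q hQ hdim hQl huspan 1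
  have hlu' : QuadraticMap.polar (⇑Q) l u' = 0 := by rw [P]; exact hu'l
  have huu' : QuadraticMap.polar (⇑Q) u u' = 1 := by rw [P]; exact hu'u
  have hu'u' : QuadraticMap.polar (⇑Q) u' u' = 0 := by rw [polar_self', hQu', mul_zero]
  -- Step B
  have hφ : ∀ z : W, QuadraticMap.polar (⇑Q) l z = 0 → QuadraticMap.polar (⇑Q) u z = 0 →
      z - (QuadraticMap.polar (⇑Q) x z + Q z) • u ∈ S := by
    intro z hlz huz
    have hfix : E Q u z l = l := by
      rw [E_apply Q hQu huz, hlu, hlz]
      simp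
    have h1 := hinv u z hQu huz hfix x hxS
    rw [E_apply Q hQu huz, hxu] at h1
    have h3 := S.sub_mem h1 hxS
    have : z - (QuadraticMap.polar (⇑Q) x z + Q z) • u =
        x + (1 : F) • z - QuadraticMap.polar (⇑Q) x z • u - (Q z * 1) • u - x := by
      module
    rw [this]
    exact h3
  -- a non-singular `z₁ ⟂ l, u, u'`
  obtain ⟨z₁, hz₁l, hz₁u, hz₁u', hQz₁⟩ : ∃ z₁ : W, QuadraticMap.polar (⇑Q) l z₁ = 0 ∧
      QuadraticMap.polar (⇑Q) u z₁ = 0 ∧ QuadraticMap.polar (⇑Q) u' z₁ = 0 ∧ Q z₁ ≠ 0 := by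
    by_contra hcon
    push Not at hcon
    have hfr := finrank_ker3 Q l u u'
    have hpos : 0 < finrank F (ker3 Q l u u') := by omega
    obtain ⟨⟨z, hzmem⟩, hz0⟩ := Module.finrank_pos_iff_exists_ne_zero.mp hpos
    have hz0' : z ≠ 0 := by
      intro h
      apply hz0
      exact Subtype.ext h
    obtain ⟨hzl, hzu, hzu'⟩ := (mem_ker3 Q l u u' z).mp hzmem
    apply hz0'
    apply hQ.1
    intro y
    rw [QuadraticMap.polarBilin_apply_apply]
    -- decompose y
    set α : F := QuadraticMap.polar (⇑Q) l y / QuadraticMap.polar (⇑Q) l l with hα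
    set r : W := y - α • l - QuadraticMap.polar (⇑Q) u' y • u - QuadraticMap.polar (⇑Q) u y • u'
      with hr
    have hrl : QuadraticMap.polar (⇑Q) l r = 0 := by
      rw [hr]
      simp only [QuadraticMap.polar_sub_right, QuadraticMap.polar_smul_right, hlu, hlu', smul_eq_mul,
        mul_zero, sub_zero]
      rw [hα]
      field_simp
      ring
    have hru : QuadraticMap.polar (⇑Q) u r = 0 := by
      rw [hr]
      simp only [QuadraticMap.polar_sub_right, QuadraticMap.polar_smul_right, hul, huu, huu',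
        smul_eq_mul, mul_zero, sub_zero, mul_one, sub_self]
    have hru' : QuadraticMap.polar (⇑Q) u' r = 0 := by
      rw [hr]
      simp only [QuadraticMap.polar_sub_right, QuadraticMap.polar_smul_right, hu'l, hu'u, hu'u',
        smul_eq_mul, mul_zero, sub_zero, mul_one, sub_self]
    have hQr : Q r = 0 := hcon r hrl hru hru'
    have hQz : Q z = 0 := hcon z hzl hzu hzu'
    have hQzr : Q (z + r) = 0 := by
      refine hcon (z + r) ?_ ?_ ?_
      · rw [QuadraticMap.polar_add_right, hzl, hrl, add_zero]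
      · rw [QuadraticMap.polar_add_right, hzu, hru, add_zero]
      · rw [QuadraticMap.polar_add_right, hzu', hru', add_zero]
    have hzr : QuadraticMap.polar (⇑Q) z r = 0 := by
      have h4 := QuadraticMap.map_add (⇑Q) z r
      rw [hQzr, hQz, hQr] at h4
      linear_combination -h4
    have hy : y = r + α • l + QuadraticMap.polar (⇑Q) u' y • u + QuadraticMap.polar (⇑Q) u y • u' := by
      rw [hr]; abel
    rw [hy]
    simp only [QuadraticMap.polar_add_right, QuadraticMap.polar_smul_right, hzr, P z l, hzl, P z u,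
      hzu, P z u', hzu', smul_eq_mul, mul_zero, add_zero]
  have hz₁z₁ : QuadraticMap.polar (⇑Q) z₁ z₁ = 2 * Q z₁ := polar_self' Q z₁
  -- Step C: `F u ⊆ S`
  have hkey : ∀ z z' : W, QuadraticMap.polar (⇑Q) l z = 0 → QuadraticMap.polar (⇑Q) u z = 0 →
      QuadraticMap.polar (⇑Q) l z' = 0 → QuadraticMap.polar (⇑Q) u z' = 0 →
      QuadraticMap.polar (⇑Q) z z' • u ∈ S := by
    intro z z' hlz huz hlz' huz'
    have h1 := hφ (z + z') (by rw [QuadraticMap.polar_add_right, hlz, hlz', add_zero])
      (by rw [QuadraticMap.polar_add_right, huz, huz', add_zero])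
    have h3 := hφ z hlz huz
    have h4 := hφ z' hlz' huz'
    have h5 := S.neg_mem (S.sub_mem (S.sub_mem h1 h3) h4)
    have h6 : Q (z + z') = Q z + Q z' + QuadraticMap.polar (⇑Q) z z' := by
      rw [QuadraticMap.polar]; ring
    have : QuadraticMap.polar (⇑Q) z z' • u =
        -(z + z' - (QuadraticMap.polar (⇑Q) x (z + z') + Q (z + z')) • u -
          (z - (QuadraticMap.polar (⇑Q) x z + Q z) • u) -
          (z' - (QuadraticMap.polar (⇑Q) x z' + Q z') • u)) := by
      rw [h6, QuadraticMap.polar_add_right]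
      module
    rw [this]
    exact h5
  have hFu : ∀ c : F, c • u ∈ S := by
    intro c
    have h1 := hkey z₁ ((c / (2 * Q z₁)) • z₁) hz₁l hz₁u
      (by rw [QuadraticMap.polar_smul_right, hz₁l, smul_zero])
      (by rw [QuadraticMap.polar_smul_right, hz₁u, smul_zero])
    rw [QuadraticMap.polar_smul_right, hz₁z₁, smul_eq_mul] at h1
    have : c / (2 * Q z₁) * (2 * Q z₁) = c := by
      field_simp
    rw [this] at h1
    exact h1
  -- Step D: `{l,u}^⊥ ⊆ S`
  have hZ : ∀ z : W, QuadraticMap.polar (⇑Q) l z = 0 → QuadraticMap.polar (⇑Q) u z = 0 → z ∈ S := by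
    intro z hlz huz
    have h1 := S.add_mem (hφ z hlz huz) (hFu (QuadraticMap.polar (⇑Q) x z + Q z))
    rwa [sub_add_cancel] at h1
  -- Step E: `F u' ⊆ S`
  have hFu' : ∀ c : F, c • u' ∈ S := by
    intro c
    set a : F := c / Q z₁ with ha
    have hu'z₁ : QuadraticMap.polar (⇑Q) u' z₁ = 0 := hz₁u'
    have hfix : E Q u' z₁ l = l := by
      rw [E_apply Q hQu' hu'z₁, hlu', hz₁l]
      simp
    have h1 := hinv u' z₁ hQu' hu'z₁ hfix (a • u) (hFu a)
    rw [E_apply Q hQu' hu'z₁, QuadraticMap.polar_smul_left, QuadraticMap.polar_smul_left, huu',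
      hz₁u] at h1
    have h3 : a • z₁ ∈ S := hZ _ (by rw [QuadraticMap.polar_smul_right, hz₁l, smul_zero])
      (by rw [QuadraticMap.polar_smul_right, hz₁u, smul_zero])
    have h4 := S.neg_mem (S.sub_mem (S.sub_mem h1 (hFu a)) h3)
    have : c • u' = -(a • u + (a • (1 : F)) • z₁ - (a • (0 : F)) • u' - (Q z₁ * a • (1 : F)) • u' -
        a • u - a • z₁) := by
      have hc : c = Q z₁ * a := by
        rw [ha]; field_simp
      rw [hc]
      simp only [smul_eq_mul, mul_one, mul_zero, zero_smul, sub_zero]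
      module
    rw [this]
    exact h4
  -- Step F
  intro y hly
  set r : W := y - QuadraticMap.polar (⇑Q) y u' • u - QuadraticMap.polar (⇑Q) y u • u' with hr
  have hrl : QuadraticMap.polar (⇑Q) l r = 0 := by
    rw [hr]
    simp only [QuadraticMap.polar_sub_right, QuadraticMap.polar_smul_right, hly, hlu, hlu',
      smul_eq_mul, mul_zero, sub_zero]
  have hru : QuadraticMap.polar (⇑Q) u r = 0 := by
    rw [hr]
    simp only [QuadraticMap.polar_sub_right, QuadraticMap.polar_smul_right, huu, huu',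
      smul_eq_mul, mul_zero, sub_zero, mul_one]
    rw [P u y, sub_self]
  have hrS := hZ r hrl hru
  have : y = r + QuadraticMap.polar (⇑Q) y u' • u + QuadraticMap.polar (⇑Q) y u • u' := by
    rw [hr]; abel
  rw [this]
  exact S.add_mem (S.add_mem hrS (hFu _)) (hFu' _)

end Cfsg.Agent.Lib.Helper2_MIO_INVNS
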