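import Mathlib
import Cfsg.Agent.Lib.Helper94_OD3Defs
import Cfsg.Agent.Lib.Helper74_OD_BASIC

set_option autoImplicit false
set_option linter.unusedSectionVars false
set_option linter.unusedVariables false

/-!
OD3 market (architect helper94), package OD3-BLREFL: a reflection in a nonsingular vector of a block maps
every block onto itself, hence lies in the stabiliser of the decomposition.
-/

namespace Cfsg.Agent.Lib.Helper2_OD3_BLREFL

open Module Cfsg.Agent.Lib.Helper94_Symp Cfsg.Agent.Lib.Helper94_OrthSmall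
  Cfsg.Agent.Lib.Helper94_OrthSiegel Cfsg.Agent.Lib.Helper94_OrthNondeg
  Cfsg.Agent.Lib.Helper29_ODDefs Cfsg.Agent.Lib.Helper94_Q2Defs Cfsg.Agent.Lib.Helper94_OD3Defs

variable {F V : Type*} [Field F] [AddCommGroup V] [Module F V] [Finite F] [FiniteDimensional F V]
  {Q : V → F} {B : LinearMap.BilinForm F V} {t k : ℕ} {D : Fin t → Submodule F V}
  {S M L : Subgroup (V ≃ₗ[F] V)}

/-- **OD3-BLREFL** -/
theorem BLREFL (hQs : ∀ (c : F) (v : V), Q (c • v) = c * c * Q v)
    (hQp : ∀ u v : V, Q (u + v) = Q u + Q v + B u v) (hD : ODec Q B k D) (hS : IsDStab D S)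
    {x : V} (hx : IsBlN Q D x) : refl Q B hQs hQp hx.1 ∈ S := by
  obtain ⟨hx0, l, hxl⟩ := hx
  apply Cfsg.Agent.Lib.Helper74_OD_BASIC.mem_dstab_of_forall hD.fr hS
  intro i v hv
  rw [refl_apply]
  by_cases hil : i = l
  · subst hil
    exact (D i).sub_mem hv ((D i).smul_mem _ hxl)
  · rw [hD.orth i l hil v hv x hxl, mul_zero, zero_smul, sub_zero]
    exact hv

end Cfsg.Agent.Lib.Helper2_OD3_BLREFL
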