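import Mathlib
import Cfsg.Agent.Lib.Helper94_OD3Defs
import Cfsg.Agent.Lib.Helper74_OD_BASIC

set_option autoImplicit false
set_option linter.unusedSectionVars false
set_option linter.unusedVariables false

/-!
OD3 market (architect helper94), package OD3-SIEGH: Siegel elements of a block lie in `H = S ⊓ Ω`
(characteristic-free copy of `Helper74_OD_BASIC.sieg_mem_H`).
-/

namespace Cfsg.Agent.Lib.Helper2_OD3_SIEGH

open Module Cfsg.Agent.Lib.Helper94_Symp Cfsg.Agent.Lib.Helper94_OrthSmall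
  Cfsg.Agent.Lib.Helper94_OrthSiegel Cfsg.Agent.Lib.Helper94_OrthNondeg
  Cfsg.Agent.Lib.Helper29_ODDefs Cfsg.Agent.Lib.Helper94_Q2Defs Cfsg.Agent.Lib.Helper94_OD3Defs

variable {F V : Type*} [Field F] [AddCommGroup V] [Module F V] [Finite F] [FiniteDimensional F V]
  {Q : V → F} {B : LinearMap.BilinForm F V} {t k : ℕ} {D : Fin t → Submodule F V}
  {S M L : Subgroup (V ≃ₗ[F] V)}

/-- **OD3-SIEGH** -/
theorem SIEGH (hQs : ∀ (c : F) (v : V), Q (c • v) = c * c * Q v)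
    (hQp : ∀ u v : V, Q (u + v) = Q u + Q v + B u v) (hD : ODec Q B k D) (hS : IsDStab D S)
    (hG2 : ∀ u z, Q u = 0 → B u z = 0 → sieg Q B u z ∈ ⁅oG Q, oG Q⁆)
    {j : Fin t} {u v : V} (hu : u ∈ D j) (hv : v ∈ D j) (hQu : Q u = 0) (huv : B u v = 0) :
    sieg Q B u v ∈ S ⊓ ⁅oG Q, oG Q⁆ := by
  refine Subgroup.mem_inf.mpr ⟨?_, hG2 u v hQu huv⟩
  apply Cfsg.Agent.Lib.Helper74_OD_BASIC.mem_dstab_of_forall hD.fr hS
  intro i x hx
  rw [sieg_apply Q B hQs hQp hQu huv]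
  by_cases hij : i = j
  · subst hij
    exact (D i).sub_mem ((D i).sub_mem ((D i).add_mem hx ((D i).smul_mem _ hv))
      ((D i).smul_mem _ hu)) ((D i).smul_mem _ hu)
  · rw [hD.orth i j hij x hx u hu, hD.orth i j hij x hx v hv]
    simpa using hx

end Cfsg.Agent.Lib.Helper2_OD3_SIEGH
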