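import Mathlib
import Cfsg.Agent.Lib.Helper94_Symp
import Cfsg.Agent.Lib.Helper94_OrthSmall
import Cfsg.Agent.Lib.Helper94_OrthSiegel
import Cfsg.Agent.Lib.Helper94_OrthSiegel2
import Cfsg.Agent.Lib.Helper94_OrthNondeg
import Cfsg.Agent.Lib.Helper94_OrthRefl

set_option autoImplicit false

/-!
Orthogonal decompositions (helper38, S5677 project), core file: nondegenerate subspaces, the
orthogonal projection `op` onto a nondegenerate subspace, and basic facts on the part `InZ` of a
Siegel group contained in a subgroup `M`.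
-/

namespace Cfsg.Agent.Lib.Helper38_OD

open Module Cfsg.Agent.Lib.Helper94_Symp Cfsg.Agent.Lib.Helper94_OrthSmall
  Cfsg.Agent.Lib.Helper94_OrthSiegel Cfsg.Agent.Lib.Helper94_OrthSiegel2
  Cfsg.Agent.Lib.Helper94_OrthNondeg Cfsg.Agent.Lib.Helper94_OrthRefl

variable {F V : Type*} [Field F] [AddCommGroup V] [Module F V]

/-- The form `B` is nondegenerate on the subspace `A`. -/
def NdOn (B : LinearMap.BilinForm F V) (A : Submodule F V) : Prop :=
  ∀ a ∈ A, a ≠ 0 → ∃ x ∈ A, B x a ≠ 0

/-- `M` contains the Siegel elements of the subspace `A`. -/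
def HasSieg (Q : V → F) (B : LinearMap.BilinForm F V) (M : Subgroup (V ≃ₗ[F] V))
    (A : Submodule F V) : Prop :=
  ∀ u ∈ A, ∀ z ∈ A, Q u = 0 → B u z = 0 → sieg Q B u z ∈ M

section Proj

variable [FiniteDimensional F V] (Q : V → F) (B : LinearMap.BilinForm F V)
  (hQs : ∀ (c : F) (v : V), Q (c • v) = c * c * Q v)
  (hQp : ∀ u v : V, Q (u + v) = Q u + Q v + B u v)

open Classical in
/-- The orthogonal projection onto `A` (zero unless `A` and its orthogonal are complementary). -/
noncomputable def op (A : Submodule F V) : V →ₗ[F] V :=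
  if h : IsCompl A (B.orthogonal A) then A.projection (B.orthogonal A) h else 0

omit [FiniteDimensional F V] in
lemma op_mem (A : Submodule F V) (v : V) : op B A v ∈ A := by
  unfold op
  split_ifs with h
  · exact Submodule.projection_apply_mem h v
  · simp

include hQp in
lemma isCompl_of_ndOn {A : Submodule F V} (hA : NdOn B A) : IsCompl A (B.orthogonal A) := by
  have hR : B.IsRefl := B_isRefl Q B hQp
  refine (LinearMap.BilinForm.isCompl_orthogonal_iff_disjoint hR).mpr ?_
  rw [disjoint_iff, eq_bot_iff]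
  intro x hx
  obtain ⟨hx1, hx2⟩ := Submodule.mem_inf.mp hx
  by_contra hx0
  obtain ⟨y, hy, hyx⟩ := hA x hx1 hx0
  exact hyx ((mem_orth _).mp hx2 y hy)

include hQp in
lemma op_of_mem {A : Submodule F V} (hA : NdOn B A) {v : V} (hv : v ∈ A) : op B A v = v := by
  have h := isCompl_of_ndOn Q B hQp hA
  unfold op
  rw [dif_pos h]
  exact Submodule.projection_apply_of_mem_left h hv

include hQp in
lemma sub_op_mem_orth {A : Submodule F V} (hA : NdOn B A) (v : V) :
    v - op B A v ∈ B.orthogonal A := by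
  have h := isCompl_of_ndOn Q B hQp hA
  unfold op
  rw [dif_pos h, ← Submodule.projection_eq_self_sub_projection h v]
  exact Submodule.projection_apply_mem h.symm v

include hQp in
/-- `B y (v - op v) = 0` for `y ∈ A`. -/
lemma B_sub_op {A : Submodule F V} (hA : NdOn B A) (v : V) {y : V} (hy : y ∈ A) :
    B y (v - op B A v) = 0 :=
  (mem_orth _).mp (sub_op_mem_orth Q B hQp hA v) y hy

include hQp in
lemma B_sub_op' {A : Submodule F V} (hA : NdOn B A) (v : V) {y : V} (hy : y ∈ A) :
    B (v - op B A v) y = 0 := by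
  rw [B_symm Q B hQp]
  exact B_sub_op Q B hQp hA v hy

include hQp in
/-- `B (op v) y = B v y` for `y ∈ A`. -/
lemma B_op_left {A : Submodule F V} (hA : NdOn B A) (v : V) {y : V} (hy : y ∈ A) :
    B (op B A v) y = B v y := by
  have := B_sub_op' Q B hQp hA v hy
  rw [map_sub, LinearMap.sub_apply, sub_eq_zero] at this
  exact this.symm

include hQp in
lemma B_op_right {A : Submodule F V} (hA : NdOn B A) (v : V) {y : V} (hy : y ∈ A) :
    B y (op B A v) = B y v := by
  rw [B_symm Q B hQp, B_op_left Q B hQp hA v hy, B_symm Q B hQp]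

include hQp in
lemma op_of_orth {A : Submodule F V} (hA : NdOn B A) {v : V} (hv : ∀ y ∈ A, B y v = 0) :
    op B A v = 0 := by
  by_contra h0
  obtain ⟨x, hx, hx0⟩ := hA _ (op_mem B A v) h0
  apply hx0
  rw [B_op_right Q B hQp hA v hx]
  exact hv x hx

include hQp in
lemma op_eq_zero_iff {A : Submodule F V} (hA : NdOn B A) {v : V} :
    op B A v = 0 ↔ ∀ y ∈ A, B y v = 0 := by
  constructor
  · intro h y hy
    rw [← B_op_right Q B hQp hA v hy, h, map_zero]
  · exact op_of_orth Q B hQp hA

include hQp in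
/-- `Q v = Q (op v) + Q (v - op v)`. -/
lemma Q_op_add {A : Submodule F V} (hA : NdOn B A) (v : V) :
    Q v = Q (op B A v) + Q (v - op B A v) := by
  have h1 := hQp (op B A v) (v - op B A v)
  rw [add_sub_cancel, B_sub_op Q B hQp hA v (op_mem B A v), add_zero] at h1
  exact h1

include hQp in
lemma op_op {A : Submodule F V} (hA : NdOn B A) (v : V) : op B A (op B A v) = op B A v :=
  op_of_mem Q B hQp hA (op_mem B A v)

include hQp in
/-- `v ∈ A` iff `op v = v`. -/
lemma mem_iff_op_eq {A : Submodule F V} (hA : NdOn B A) {v : V} : v ∈ A ↔ op B A v = v := by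
  constructor
  · exact op_of_mem Q B hQp hA
  · intro h
    rw [← h]
    exact op_mem B A v

end Proj

section InZ

variable (Q : V → F) (B : LinearMap.BilinForm F V)
  (hQs : ∀ (c : F) (v : V), Q (c • v) = c * c * Q v)
  (hQp : ∀ u v : V, Q (u + v) = Q u + Q v + B u v)

include hQs hQp in
/-- A Siegel element with both vectors singular is symmetric up to sign. -/
lemma sieg_swap {u z : V} (hu : Q u = 0) (hz : Q z = 0) (huz : B u z = 0) :
    sieg Q B u z = sieg Q B z (-u) := by
  have hzu : B z u = 0 := by rw [B_symm Q B hQp, huz]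
  have h1 : B z (-u) = 0 := by rw [map_neg, hzu, neg_zero]
  have hQn : Q (-u) = 0 := by
    have := hQs (-1) u
    rw [neg_one_smul] at this
    rw [this, hu, mul_zero]
  ext x
  rw [sieg_apply Q B hQs hQp hu huz, sieg_apply Q B hQs hQp hz h1, hz, hQn]
  simp only [map_neg, zero_mul, zero_smul, sub_zero]
  module

variable {Q B}

include hQs hQp in
/-- Symmetry of `InZ` for two singular vectors. -/
lemma InZ_symm {M : Subgroup (V ≃ₗ[F] V)} {u z : V} (hu : Q u = 0) (hz : Q z = 0)
    (h : InZ Q B M u z) : InZ Q B M z u := by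
  have hzu : B z u = 0 := by rw [B_symm Q B hQp, h.1]
  refine ⟨hzu, fun t => ?_⟩
  have h1 := h.2 (-t)
  have hQtz : Q (-t • z) = 0 := by rw [hQs, hz, mul_zero]
  have huz' : B u (-t • z) = 0 := by rw [map_smul, h.1, smul_zero]
  rw [sieg_swap Q B hQs hQp hu hQtz huz',
    sieg_smul_left Q B hQs hQp hz (by rw [map_neg, hzu, neg_zero])] at h1
  have e : -t • -u = t • u := by module
  rwa [e] at h1

include hQs hQp in
/-- `u` itself lies in the Siegel group part at `u`. -/
lemma InZ_self {M : Subgroup (V ≃ₗ[F] V)} {u : V} (hu : Q u = 0) : InZ Q B M u u := by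
  have huu : B u u = 0 := by rw [B_self Q B hQs hQp, hu, mul_zero]
  refine ⟨huu, fun t => ?_⟩
  have := sieg_add_smul Q B hQs hQp hu (z := 0) (by simp) t
  rw [zero_add] at this
  rw [this, sieg_zero_right Q B hQs hQp hu]
  exact M.one_mem

omit hQs hQp in
/-- Block Siegel elements give `InZ`. -/
lemma InZ_of_hasSieg {M : Subgroup (V ≃ₗ[F] V)} {A : Submodule F V} (hM : HasSieg Q B M A)
    {u z : V} (hu : u ∈ A) (hz : z ∈ A) (hQu : Q u = 0) (huz : B u z = 0) : InZ Q B M u z :=
  ⟨huz, fun t => hM u hu (t • z) (A.smul_mem t hz) hQu (by rw [map_smul, huz, smul_zero])⟩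

lemma InZ_one {M : Subgroup (V ≃ₗ[F] V)} {u z : V} (h : InZ Q B M u z) : sieg Q B u z ∈ M := by
  have := h.2 1
  rwa [one_smul] at this

end InZ

end Cfsg.Agent.Lib.Helper38_OD
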