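import Mathlib
import Cfsg.Agent.Lib.Helper38_OD1

set_option autoImplicit false

/-!
Orthogonal decompositions (helper38, S5677 project): a family `D` of pairwise orthogonal
nondegenerate subspaces spanning `V`; every vector is the sum of its block components.
-/

namespace Cfsg.Agent.Lib.Helper38_OD

open Module Cfsg.Agent.Lib.Helper94_Symp Cfsg.Agent.Lib.Helper94_OrthSmall
  Cfsg.Agent.Lib.Helper94_OrthSiegel Cfsg.Agent.Lib.Helper94_OrthSiegel2
  Cfsg.Agent.Lib.Helper94_OrthNondeg Cfsg.Agent.Lib.Helper94_OrthRefl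

variable {F V : Type*} [Field F] [AddCommGroup V] [Module F V]

/-- `Linked M X Y`: for every singular `u ∈ X`, the Siegel part at `u` inside `M` contains `Y`. -/
def Linked (Q : V → F) (B : LinearMap.BilinForm F V) (M : Subgroup (V ≃ₗ[F] V))
    (X Y : Submodule F V) : Prop :=
  ∀ u ∈ X, Q u = 0 → ∀ c ∈ Y, InZ Q B M u c

/-- `g` permutes the members of `D`. -/
def PermutesBlocks {t : ℕ} (D : Fin t → Submodule F V) (g : V ≃ₗ[F] V) : Prop :=
  ∃ π : Equiv.Perm (Fin t), ∀ i, (D i).map (g : V →ₗ[F] V) = D (π i)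

section Decomp

variable [FiniteDimensional F V] {Q : V → F} {B : LinearMap.BilinForm F V}
  (hQs : ∀ (c : F) (v : V), Q (c • v) = c * c * Q v)
  (hQp : ∀ u v : V, Q (u + v) = Q u + Q v + B u v)
  {t : ℕ} (D : Fin t → Submodule F V)
  (hperp : ∀ i j, i ≠ j → ∀ x ∈ D i, ∀ y ∈ D j, B x y = 0)
  (hnd : ∀ i, NdOn B (D i))

include hQp hperp hnd in
/-- A vector of one block has zero component in any other block. -/
lemma op_of_mem_other {i j : Fin t} (hij : i ≠ j) {x : V} (hx : x ∈ D i) :
    op B (D j) x = 0 :=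
  op_of_orth Q B hQp (hnd j) (fun y hy => hperp j i (Ne.symm hij) y hy x hx)

include hQp hperp hnd in
/-- Distinct blocks meet trivially. -/
lemma block_inf {i j : Fin t} (hij : i ≠ j) {x : V} (hxi : x ∈ D i) (hxj : x ∈ D j) : x = 0 := by
  have h1 := op_of_mem_other hQp D hperp hnd hij hxi
  rwa [op_of_mem Q B hQp (hnd j) hxj] at h1

include hQp hperp hnd in
/-- Every vector is the sum of its block components. -/
lemma sum_op (hN : B.Nondegenerate) (hsup : ⨆ i, D i = ⊤) (v : V) :
    v = ∑ l, op B (D l) v := by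
  have hsymm := B_symm Q B hQp
  rw [← sub_eq_zero]
  apply hN.2
  intro x
  have hx : x ∈ ⨆ i, D i := by rw [hsup]; exact Submodule.mem_top
  refine Submodule.iSup_induction D (motive := fun x => B x (v - ∑ l, op B (D l) v) = 0) hx ?_ ?_ ?_
  · intro m y hy
    rw [map_sub, map_sum, Finset.sum_eq_single m]
    · rw [B_op_right Q B hQp (hnd m) v hy, sub_self]
    · intro l _ hlm
      exact hperp m l (Ne.symm hlm) y hy _ (op_mem B (D l) v)
    · intro h
      exact absurd (Finset.mem_univ m) h
  · rw [map_zero, LinearMap.zero_apply]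
  · intro y z hy hz
    rw [map_add, LinearMap.add_apply, hy, hz, add_zero]

omit [FiniteDimensional F V] in
include hQs hQp in
/-- `Q` is additive on pairwise orthogonal families. -/
lemma Q_sum_of_orth {ι : Type*} (s : Finset ι) (f : ι → V)
    (hf : ∀ i ∈ s, ∀ j ∈ s, i ≠ j → B (f i) (f j) = 0) :
    Q (∑ i ∈ s, f i) = ∑ i ∈ s, Q (f i) := by
  classical
  induction s using Finset.induction_on with
  | empty => simpa using Q_zero Q hQs
  | insert a s ha ih =>
    have h1 : Q (∑ i ∈ s, f i) = ∑ i ∈ s, Q (f i) := by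
      apply ih
      intro i hi j hj hij
      exact hf i (Finset.mem_insert_of_mem hi) j (Finset.mem_insert_of_mem hj) hij
    have h2 : B (f a) (∑ i ∈ s, f i) = 0 := by
      rw [map_sum]
      apply Finset.sum_eq_zero
      intro i hi
      exact hf a (Finset.mem_insert_self a s) i (Finset.mem_insert_of_mem hi)
        (fun h => ha (h ▸ hi))
    rw [Finset.sum_insert ha, Finset.sum_insert ha, hQp, h1, h2, add_zero]

include hQs hQp hperp hnd in
/-- `Q v` is the sum of the values of `Q` on the block components of `v`. -/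
lemma Q_sum_op (hN : B.Nondegenerate) (hsup : ⨆ i, D i = ⊤) (v : V) :
    Q v = ∑ l, Q (op B (D l) v) := by
  conv_lhs => rw [sum_op hQp D hperp hnd hN hsup v]
  apply Q_sum_of_orth hQs hQp
  intro i _ j _ hij
  exact hperp i j hij _ (op_mem B (D i) v) _ (op_mem B (D j) v)

include hQp hperp hnd in
/-- A nonzero vector has a nonzero block component. -/
lemma exists_op_ne (hN : B.Nondegenerate) (hsup : ⨆ i, D i = ⊤) {v : V} (hv : v ≠ 0) :
    ∃ l, op B (D l) v ≠ 0 := by
  by_contra hcon
  push Not at hcon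
  apply hv
  rw [sum_op hQp D hperp hnd hN hsup v]
  exact Finset.sum_eq_zero (fun l _ => hcon l)

include hQs hQp hperp hnd in
/-- If `a` is singular with nonsingular `j`-component, some other component is nonsingular. -/
lemma exists_other_nonsing (hN : B.Nondegenerate) (hsup : ⨆ i, D i = ⊤) {a : V} (ha : Q a = 0)
    {j : Fin t} (hj : Q (op B (D j) a) ≠ 0) : ∃ l, l ≠ j ∧ Q (op B (D l) a) ≠ 0 := by
  classical
  by_contra hcon
  push Not at hcon
  apply hj
  have h1 := Q_sum_op hQs hQp D hperp hnd hN hsup a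
  rw [ha, Finset.sum_eq_single j] at h1
  · exact h1.symm
  · intro l _ hl
    exact hcon l hl
  · intro h
    exact absurd (Finset.mem_univ j) h

end Decomp

end Cfsg.Agent.Lib.Helper38_OD
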