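import Mathlib
import Cfsg.Agent.Lib.Helper38_OD2
import Cfsg.Agent.Lib.Helper94_OrthVec

set_option autoImplicit false

/-!
# S5677 package HMEM (helper2): elements of the stabiliser of an orthogonal decomposition

Siegel elements of a block, reflections in block vectors, products of two reflections in vectors
of two different blocks permute the blocks; products and inverses of block-permuting maps.
-/

namespace Cfsg.Agent.Lib.Helper2_OD_HMEM

open Cfsg.Agent.Lib.Helper38_OD
open Module Cfsg.Agent.Lib.Helper94_Symp Cfsg.Agent.Lib.Helper94_OrthSmall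
  Cfsg.Agent.Lib.Helper94_OrthSiegel Cfsg.Agent.Lib.Helper94_OrthSiegel2
  Cfsg.Agent.Lib.Helper94_OrthNondeg Cfsg.Agent.Lib.Helper94_OrthRefl
  Cfsg.Agent.Lib.Helper94_OrthVec
open scoped commutatorElement

variable {F V : Type*} [Field F] [AddCommGroup V] [Module F V]

/-- a linear automorphism mapping a finite-dimensional subspace into itself maps it onto itself -/
theorem map_eq_of_mapsTo [FiniteDimensional F V] (g : V ≃ₗ[F] V) (A : Submodule F V)
    (h : ∀ x ∈ A, g x ∈ A) : A.map (g : V →ₗ[F] V) = A := by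
  apply Submodule.eq_of_le_of_finrank_eq
  · rintro _ ⟨x, hx, rfl⟩
    exact h x hx
  · exact LinearEquiv.finrank_map_eq g A

/-- a linear automorphism mapping every block into itself permutes the blocks -/
theorem permutes_of_mapsTo [FiniteDimensional F V] {t : ℕ} (D : Fin t → Submodule F V)
    (g : V ≃ₗ[F] V) (h : ∀ j, ∀ x ∈ D j, g x ∈ D j) : PermutesBlocks D g :=
  ⟨1, fun j => map_eq_of_mapsTo g (D j) (h j)⟩

section Multi

variable [Finite F] [FiniteDimensional F V] {Q : V → F} {B : LinearMap.BilinForm F V}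
  (hQs : ∀ (c : F) (v : V), Q (c • v) = c * c * Q v)
  (hQp : ∀ u v : V, Q (u + v) = Q u + Q v + B u v)
  {t : ℕ} (D : Fin t → Submodule F V)
  (hperp : ∀ i j, i ≠ j → ∀ x ∈ D i, ∀ y ∈ D j, B x y = 0)
  (hnd : ∀ i, NdOn B (D i))

include hQs hQp hperp hnd in
/-- **PKG HMEM.** Elements of the stabiliser: Siegel elements of a block. -/
theorem permutes_sieg {i : Fin t} {u z : V} (hu : u ∈ D i) (hz : z ∈ D i) (hQu : Q u = 0)
    (huz : B u z = 0) : PermutesBlocks D (sieg Q B u z) := by
  apply permutes_of_mapsTo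
  intro j x hx
  rw [sieg_apply Q B hQs hQp hQu huz]
  by_cases hji : j = i
  · subst hji
    exact Submodule.sub_mem _ (Submodule.sub_mem _ (Submodule.add_mem _ hx
      (Submodule.smul_mem _ _ hz)) (Submodule.smul_mem _ _ hu)) (Submodule.smul_mem _ _ hu)
  · have h1 : B x u = 0 := hperp j i hji x hx u hu
    have h2 : B x z = 0 := hperp j i hji x hx z hz
    rw [h1, h2]
    simpa using hx

include hQs hQp hperp hnd in
/-- **PKG HMEM.** Elements of the stabiliser: reflections in block vectors. -/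
theorem permutes_refl {i : Fin t} {x : V} (hx : x ∈ D i) (hQx : Q x ≠ 0) :
    PermutesBlocks D (refl Q B hQs hQp hQx) := by
  apply permutes_of_mapsTo
  intro j v hv
  rw [refl_apply]
  by_cases hji : j = i
  · subst hji
    exact Submodule.sub_mem _ hv (Submodule.smul_mem _ _ hx)
  · have h1 : B v x = 0 := hperp j i hji v hv x hx
    rw [h1]
    simpa using hv

include hQs hQp hperp hnd in
/-- **PKG HMEM.** Elements of the stabiliser: the product of two reflections in vectors of two
different blocks. -/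
theorem permutes_pair {i l : Fin t} (hil : i ≠ l) {x x' : V} (hx : x ∈ D i) (hx' : x' ∈ D l)
    (hQx : Q x ≠ 0) {g : V ≃ₗ[F] V}
    (hg : ∀ v, g v = v - ((Q x)⁻¹ * B v x) • x - ((Q x)⁻¹ * B v x') • x') :
    PermutesBlocks D g := by
  apply permutes_of_mapsTo
  intro j v hv
  rw [hg]
  by_cases hji : j = i
  · subst hji
    have h1 : B v x' = 0 := hperp j l hil v hv x' hx'
    rw [h1]
    simpa using Submodule.sub_mem _ hv (Submodule.smul_mem _ ((Q x)⁻¹ * B v x) hx)
  · have h1 : B v x = 0 := hperp j i hji v hv x hx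
    rw [h1]
    by_cases hjl : j = l
    · subst hjl
      simpa using Submodule.sub_mem _ hv (Submodule.smul_mem _ ((Q x)⁻¹ * B v x') hx')
    · have h2 : B v x' = 0 := hperp j l hjl v hv x' hx'
      rw [h2]
      simpa using hv

/-- The block-permuting maps form a subgroup-like family: products and inverses. -/
theorem permutes_mul {g h : V ≃ₗ[F] V} (hg : PermutesBlocks D g) (hh : PermutesBlocks D h) :
    PermutesBlocks D (g * h) := by
  obtain ⟨π, hπ⟩ := hg
  obtain ⟨σ, hσ⟩ := hh
  refine ⟨π * σ, fun i => ?_⟩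
  have h1 : ((g * h : V ≃ₗ[F] V) : V →ₗ[F] V) = (g : V →ₗ[F] V) ∘ₗ (h : V →ₗ[F] V) := rfl
  rw [h1, Submodule.map_comp, hσ, hπ]
  rfl

theorem permutes_inv {g : V ≃ₗ[F] V} (hg : PermutesBlocks D g) : PermutesBlocks D g⁻¹ := by
  obtain ⟨π, hπ⟩ := hg
  refine ⟨π⁻¹, fun i => ?_⟩
  have h1 := hπ (π⁻¹ i)
  have h2 : π (π⁻¹ i) = i := by simp
  rw [h2] at h1
  rw [← h1]
  ext y
  constructor
  · rintro ⟨x, ⟨w, hw, rfl⟩, rfl⟩
    simpa using hw
  · intro hy
    exact ⟨g y, ⟨y, hy, rfl⟩, by simp⟩

end Multi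

end Cfsg.Agent.Lib.Helper2_OD_HMEM
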