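import Mathlib
import Cfsg.Agent.Lib.Helper38_OD2
import Cfsg.Agent.Lib.Helper94_OrthVec
import Cfsg.Agent.Lib.Helper2_OD_HMEM

set_option autoImplicit false

/-!
# S5677 package CYC (helper2): a commutator of isometries inducing a 3-cycle on three blocks

`bswap` is the isometry exchanging two isometric blocks (via a given isometry `e`) and fixing the
other blocks pointwise; the commutator of two such swaps induces a 3-cycle.
-/

namespace Cfsg.Agent.Lib.Helper2_OD_CYC

open Cfsg.Agent.Lib.Helper38_OD Cfsg.Agent.Lib.Helper2_OD_HMEM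
open Module Cfsg.Agent.Lib.Helper94_Symp Cfsg.Agent.Lib.Helper94_OrthSmall
  Cfsg.Agent.Lib.Helper94_OrthSiegel Cfsg.Agent.Lib.Helper94_OrthSiegel2
  Cfsg.Agent.Lib.Helper94_OrthNondeg Cfsg.Agent.Lib.Helper94_OrthRefl
  Cfsg.Agent.Lib.Helper94_OrthVec
open scoped commutatorElement

variable {F V : Type*} [Field F] [AddCommGroup V] [Module F V]

section Mb

variable {t : ℕ} (D : Fin t → Submodule F V)

/-- `g` maps the block `j` onto the block `j'` -/
def Mb (g : V ≃ₗ[F] V) (j j' : Fin t) : Prop := (D j).map (g : V →ₗ[F] V) = D j'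

theorem Mb_mul {g h : V ≃ₗ[F] V} {j j' j'' : Fin t} (hh : Mb D h j j') (hg : Mb D g j' j'') :
    Mb D (g * h) j j'' := by
  unfold Mb at *
  have h1 : ((g * h : V ≃ₗ[F] V) : V →ₗ[F] V) = (g : V →ₗ[F] V) ∘ₗ (h : V →ₗ[F] V) := rfl
  rw [h1, Submodule.map_comp, hh, hg]

theorem Mb_inv {g : V ≃ₗ[F] V} {j j' : Fin t} (hg : Mb D g j j') : Mb D g⁻¹ j' j := by
  unfold Mb at *
  rw [← hg]
  ext y
  constructor
  · rintro ⟨x, ⟨w, hw, rfl⟩, rfl⟩
    simpa using hw
  · intro hy
    exact ⟨g y, ⟨y, hy, rfl⟩, by simp⟩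

end Mb

section Swap

variable [FiniteDimensional F V] {Q : V → F} {B : LinearMap.BilinForm F V}
  (hQs : ∀ (c : F) (v : V), Q (c • v) = c * c * Q v)
  (hQp : ∀ u v : V, Q (u + v) = Q u + Q v + B u v)
  {t : ℕ} (D : Fin t → Submodule F V)
  (hperp : ∀ i j, i ≠ j → ∀ x ∈ D i, ∀ y ∈ D j, B x y = 0)
  (hnd : ∀ i, NdOn B (D i))

/-- `v ↦ e (op A v)` -/
noncomputable def tr (B : LinearMap.BilinForm F V) (A A' : Submodule F V) (e : A ≃ₗ[F] A') :
    V →ₗ[F] V :=
  A'.subtype ∘ₗ e.toLinearMap ∘ₗ (op B A).codRestrict A (op_mem B A)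

omit [FiniteDimensional F V] in
theorem tr_apply (A A' : Submodule F V) (e : A ≃ₗ[F] A') (v : V) :
    tr B A A' e v = (e ⟨op B A v, op_mem B A v⟩ : V) := rfl

omit [FiniteDimensional F V] in
theorem tr_mem (A A' : Submodule F V) (e : A ≃ₗ[F] A') (v : V) : tr B A A' e v ∈ A' := by
  rw [tr_apply]
  exact (e _).2

omit [FiniteDimensional F V] in
theorem tr_eq (A A' : Submodule F V) (e : A ≃ₗ[F] A') {v : V} (y : A)
    (h : op B A v = (y : V)) : tr B A A' e v = (e y : V) := by
  rw [tr_apply]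
  congr 2
  exact Subtype.ext h

omit [FiniteDimensional F V] in
theorem tr_zero (A A' : Submodule F V) (e : A ≃ₗ[F] A') {v : V} (h : op B A v = 0) :
    tr B A A' e v = 0 := by
  rw [tr_eq A A' e (0 : A) (by simpa using h)]
  simp

/-- the linear map exchanging the blocks `A`, `A'` via `e` -/
noncomputable def swapLin (B : LinearMap.BilinForm F V) (A A' : Submodule F V)
    (e : A ≃ₗ[F] A') : V →ₗ[F] V :=
  LinearMap.id - op B A - op B A' + tr B A A' e + tr B A' A e.symm

omit [FiniteDimensional F V] in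
theorem swapLin_apply (A A' : Submodule F V) (e : A ≃ₗ[F] A') (v : V) :
    swapLin B A A' e v = v - op B A v - op B A' v + tr B A A' e v + tr B A' A e.symm v := rfl

variable {i l : Fin t} (hil : i ≠ l) (e : D i ≃ₗ[F] D l)

include hQp hperp hnd hil in
theorem op_i_swap (v : V) :
    op B (D i) (swapLin B (D i) (D l) e v) = tr B (D l) (D i) e.symm v := by
  rw [swapLin_apply]
  simp only [map_add, map_sub]
  rw [op_op Q B hQp (hnd i), op_of_mem_other hQp D hperp hnd (Ne.symm hil) (op_mem B (D l) v),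
    op_of_mem_other hQp D hperp hnd (Ne.symm hil) (tr_mem (D i) (D l) e v),
    op_of_mem Q B hQp (hnd i) (tr_mem (D l) (D i) e.symm v)]
  abel

include hQp hperp hnd hil in
theorem op_l_swap (v : V) :
    op B (D l) (swapLin B (D i) (D l) e v) = tr B (D i) (D l) e v := by
  rw [swapLin_apply]
  simp only [map_add, map_sub]
  rw [op_op Q B hQp (hnd l), op_of_mem_other hQp D hperp hnd hil (op_mem B (D i) v),
    op_of_mem_other hQp D hperp hnd hil (tr_mem (D l) (D i) e.symm v),
    op_of_mem Q B hQp (hnd l) (tr_mem (D i) (D l) e v)]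
  abel

include hQp hperp hnd hil in
theorem swapLin_invol : Function.Involutive (swapLin B (D i) (D l) e) := by
  intro v
  have h1 := op_i_swap hQp D hperp hnd hil e v
  have h2 := op_l_swap hQp D hperp hnd hil e v
  have h3 : tr B (D i) (D l) e (swapLin B (D i) (D l) e v) = op B (D l) v := by
    rw [tr_eq (D i) (D l) e (e.symm ⟨op B (D l) v, op_mem B (D l) v⟩) (by rw [h1]; rfl)]
    simp
  have h4 : tr B (D l) (D i) e.symm (swapLin B (D i) (D l) e v) = op B (D i) v := by
    rw [tr_eq (D l) (D i) e.symm (e ⟨op B (D i) v, op_mem B (D i) v⟩) (by rw [h2]; rfl)]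
    simp
  rw [swapLin_apply (D i) (D l) e (swapLin B (D i) (D l) e v), h1, h2, h3, h4, swapLin_apply]
  abel

/-- the swap of two blocks, as a linear automorphism -/
noncomputable def bswap : V ≃ₗ[F] V :=
  LinearEquiv.ofInvolutive (swapLin B (D i) (D l) e) (swapLin_invol hQp D hperp hnd hil e)

theorem bswap_apply (v : V) :
    bswap hQp D hperp hnd hil e v = swapLin B (D i) (D l) e v := rfl

theorem bswap_inv : (bswap hQp D hperp hnd hil e)⁻¹ = bswap hQp D hperp hnd hil e := by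
  apply inv_eq_of_mul_eq_one_right
  ext x
  rw [LinearEquiv.mul_apply]
  exact swapLin_invol hQp D hperp hnd hil e x

omit [FiniteDimensional F V] in
include hQp in
theorem Q_add3 {a b c : V} (hab : B a b = 0) (hac : B a c = 0) (hbc : B b c = 0) :
    Q (a + b + c) = Q a + Q b + Q c := by
  rw [hQp (a + b) c, hQp a b, map_add, LinearMap.add_apply, hab, hac, hbc]
  ring

include hQs in
theorem bswap_mem (he : ∀ w : D i, Q (e w : V) = Q (w : V)) :
    bswap hQp D hperp hnd hil e ∈ oG Q := by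
  intro v
  rw [bswap_apply, swapLin_apply]
  have hsymm := B_symm Q B hQp
  set w := v - op B (D i) v - op B (D l) v with hw
  have hwi : op B (D i) w = 0 := by
    rw [hw]
    simp only [map_sub]
    rw [op_op Q B hQp (hnd i),
      op_of_mem_other hQp D hperp hnd (Ne.symm hil) (op_mem B (D l) v)]
    abel
  have hwl : op B (D l) w = 0 := by
    rw [hw]
    simp only [map_sub]
    rw [op_op Q B hQp (hnd l), op_of_mem_other hQp D hperp hnd hil (op_mem B (D i) v)]
    abel
  have hwi' : ∀ y ∈ D i, B w y = 0 := by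
    intro y hy
    rw [hsymm]
    exact (op_eq_zero_iff Q B hQp (hnd i)).mp hwi y hy
  have hwl' : ∀ y ∈ D l, B w y = 0 := by
    intro y hy
    rw [hsymm]
    exact (op_eq_zero_iff Q B hQp (hnd l)).mp hwl y hy
  have hv : v = w + op B (D i) v + op B (D l) v := by
    rw [hw]
    abel
  have e1 : Q v = Q w + Q (op B (D i) v) + Q (op B (D l) v) := by
    conv_lhs => rw [hv]
    exact Q_add3 hQp (hwi' _ (op_mem B (D i) v)) (hwl' _ (op_mem B (D l) v))
      (hperp i l hil _ (op_mem B (D i) v) _ (op_mem B (D l) v))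
  have e2 : Q (w + tr B (D i) (D l) e v + tr B (D l) (D i) e.symm v) =
      Q w + Q (tr B (D i) (D l) e v) + Q (tr B (D l) (D i) e.symm v) :=
    Q_add3 hQp (hwl' _ (tr_mem (D i) (D l) e v)) (hwi' _ (tr_mem (D l) (D i) e.symm v))
      (hperp l i (Ne.symm hil) _ (tr_mem (D i) (D l) e v) _ (tr_mem (D l) (D i) e.symm v))
  have e3 : Q (tr B (D i) (D l) e v) = Q (op B (D i) v) := by
    rw [tr_apply, he]
  have e4 : Q (tr B (D l) (D i) e.symm v) = Q (op B (D l) v) := by
    rw [tr_apply]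
    have := he (e.symm ⟨op B (D l) v, op_mem B (D l) v⟩)
    rw [LinearEquiv.apply_symm_apply] at this
    exact this.symm
  rw [e2, e3, e4, e1]

theorem bswap_of_mem_i {y : V} (hy : y ∈ D i) : bswap hQp D hperp hnd hil e y ∈ D l := by
  rw [bswap_apply, swapLin_apply, op_of_mem Q B hQp (hnd i) hy,
    op_of_mem_other hQp D hperp hnd hil hy,
    tr_zero (D l) (D i) e.symm (op_of_mem_other hQp D hperp hnd hil hy)]
  have := tr_mem (B := B) (D i) (D l) e y
  simpa using this

theorem bswap_of_mem_l {y : V} (hy : y ∈ D l) : bswap hQp D hperp hnd hil e y ∈ D i := by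
  rw [bswap_apply, swapLin_apply, op_of_mem Q B hQp (hnd l) hy,
    op_of_mem_other hQp D hperp hnd (Ne.symm hil) hy,
    tr_zero (D i) (D l) e (op_of_mem_other hQp D hperp hnd (Ne.symm hil) hy)]
  have := tr_mem (B := B) (D l) (D i) e.symm y
  simpa using this

theorem bswap_of_mem_other {j : Fin t} (hji : j ≠ i) (hjl : j ≠ l) {y : V} (hy : y ∈ D j) :
    bswap hQp D hperp hnd hil e y = y := by
  rw [bswap_apply, swapLin_apply, op_of_mem_other hQp D hperp hnd hji hy,
    op_of_mem_other hQp D hperp hnd hjl hy,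
    tr_zero (D i) (D l) e (op_of_mem_other hQp D hperp hnd hji hy),
    tr_zero (D l) (D i) e.symm (op_of_mem_other hQp D hperp hnd hjl hy)]
  simp

theorem Mb_bswap_il : Mb D (bswap hQp D hperp hnd hil e) i l := by
  unfold Mb
  apply le_antisymm
  · rintro _ ⟨y, hy, rfl⟩
    exact bswap_of_mem_i hQp D hperp hnd hil e hy
  · intro y hy
    refine ⟨bswap hQp D hperp hnd hil e y, bswap_of_mem_l hQp D hperp hnd hil e hy, ?_⟩
    exact swapLin_invol hQp D hperp hnd hil e y

theorem Mb_bswap_li : Mb D (bswap hQp D hperp hnd hil e) l i := by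
  unfold Mb
  apply le_antisymm
  · rintro _ ⟨y, hy, rfl⟩
    exact bswap_of_mem_l hQp D hperp hnd hil e hy
  · intro y hy
    refine ⟨bswap hQp D hperp hnd hil e y, bswap_of_mem_i hQp D hperp hnd hil e hy, ?_⟩
    exact swapLin_invol hQp D hperp hnd hil e y

theorem Mb_bswap_other {j : Fin t} (hji : j ≠ i) (hjl : j ≠ l) :
    Mb D (bswap hQp D hperp hnd hil e) j j := by
  unfold Mb
  apply le_antisymm
  · rintro _ ⟨y, hy, rfl⟩
    change bswap hQp D hperp hnd hil e y ∈ D j
    rw [bswap_of_mem_other hQp D hperp hnd hil e hji hjl hy]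
    exact hy
  · intro y hy
    exact ⟨y, hy, bswap_of_mem_other hQp D hperp hnd hil e hji hjl hy⟩

theorem permutes_bswap : PermutesBlocks D (bswap hQp D hperp hnd hil e) := by
  refine ⟨Equiv.swap i l, fun j => ?_⟩
  by_cases hji : j = i
  · subst hji
    rw [Equiv.swap_apply_left]
    exact Mb_bswap_il hQp D hperp hnd hil e
  · by_cases hjl : j = l
    · subst hjl
      rw [Equiv.swap_apply_right]
      exact Mb_bswap_li hQp D hperp hnd hil e
    · rw [Equiv.swap_apply_of_ne_of_ne hji hjl]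
      exact Mb_bswap_other hQp D hperp hnd hil e hji hjl

end Swap

section Multi

variable [Finite F] [FiniteDimensional F V] {Q : V → F} {B : LinearMap.BilinForm F V}
  (hQs : ∀ (c : F) (v : V), Q (c • v) = c * c * Q v)
  (hQp : ∀ u v : V, Q (u + v) = Q u + Q v + B u v)
  {t : ℕ} (D : Fin t → Submodule F V)
  (hperp : ∀ i j, i ≠ j → ∀ x ∈ D i, ∀ y ∈ D j, B x y = 0)
  (hnd : ∀ i, NdOn B (D i))

include hQs hQp hperp hnd in
/-- **PKG CYC.** For three distinct blocks there is a commutator of isometries permuting the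
blocks and inducing a 3-cycle on them. -/
theorem exists_cycle3 (hN : B.Nondegenerate) (hsup : ⨆ i, D i = ⊤)
    (hiso : ∀ i j, ∃ e : D i ≃ₗ[F] D j, ∀ w : D i, Q (e w : V) = Q (w : V))
    {i l r : Fin t} (hil : i ≠ l) (hlr : l ≠ r) (hir : i ≠ r) :
    ∃ c ∈ ⁅oG Q, oG Q⁆, PermutesBlocks D c ∧ (D i).map (c : V →ₗ[F] V) = D r ∧
      (D l).map (c : V →ₗ[F] V) = D i ∧ (D r).map (c : V →ₗ[F] V) = D l := by
  obtain ⟨e₁, he₁⟩ := hiso i l
  obtain ⟨e₂, he₂⟩ := hiso l r
  set s₁ := bswap hQp D hperp hnd hil e₁ with hs₁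
  set s₂ := bswap hQp D hperp hnd hlr e₂ with hs₂
  have hs₁O : s₁ ∈ oG Q := bswap_mem hQs hQp D hperp hnd hil e₁ he₁
  have hs₂O : s₂ ∈ oG Q := bswap_mem hQs hQp D hperp hnd hlr e₂ he₂
  have hp₁ : PermutesBlocks D s₁ := permutes_bswap hQp D hperp hnd hil e₁
  have hp₂ : PermutesBlocks D s₂ := permutes_bswap hQp D hperp hnd hlr e₂
  -- block maps
  have a_il : Mb D s₁ i l := Mb_bswap_il hQp D hperp hnd hil e₁
  have a_li : Mb D s₁ l i := Mb_bswap_li hQp D hperp hnd hil e₁
  have a_rr : Mb D s₁ r r := Mb_bswap_other hQp D hperp hnd hil e₁ (Ne.symm hir) (Ne.symm hlr)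
  have b_lr : Mb D s₂ l r := Mb_bswap_il hQp D hperp hnd hlr e₂
  have b_rl : Mb D s₂ r l := Mb_bswap_li hQp D hperp hnd hlr e₂
  have b_ii : Mb D s₂ i i := Mb_bswap_other hQp D hperp hnd hlr e₂ hil hir
  refine ⟨⁅s₁, s₂⁆, Subgroup.commutator_mem_commutator hs₁O hs₂O, ?_, ?_, ?_, ?_⟩
  · rw [commutatorElement_def]
    exact permutes_mul D (permutes_mul D (permutes_mul D hp₁ hp₂) (permutes_inv D hp₁))
      (permutes_inv D hp₂)
  · rw [commutatorElement_def]
    exact Mb_mul D (Mb_inv D b_ii) (Mb_mul D (Mb_inv D a_li) (Mb_mul D b_lr a_rr))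
  · rw [commutatorElement_def]
    exact Mb_mul D (Mb_inv D b_rl) (Mb_mul D (Mb_inv D a_rr) (Mb_mul D b_rl a_li))
  · rw [commutatorElement_def]
    exact Mb_mul D (Mb_inv D b_lr) (Mb_mul D (Mb_inv D a_il) (Mb_mul D b_ii a_il))

end Multi

end Cfsg.Agent.Lib.Helper2_OD_CYC
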