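import Mathlib
import Cfsg.Agent.Lib.Helper38_OD2
import Cfsg.Agent.Lib.Helper94_OrthVec

set_option autoImplicit false

/-!
# S5677 package PROPER (helper2): some Siegel element does not permute the blocks
-/

namespace Cfsg.Agent.Lib.Helper2_OD_PROPER

open Cfsg.Agent.Lib.Helper38_OD
open Module Cfsg.Agent.Lib.Helper94_Symp Cfsg.Agent.Lib.Helper94_OrthSmall
  Cfsg.Agent.Lib.Helper94_OrthSiegel Cfsg.Agent.Lib.Helper94_OrthSiegel2
  Cfsg.Agent.Lib.Helper94_OrthNondeg Cfsg.Agent.Lib.Helper94_OrthRefl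
  Cfsg.Agent.Lib.Helper94_OrthVec
open scoped commutatorElement

variable {F V : Type*} [Field F] [AddCommGroup V] [Module F V]

section Multi

variable [Finite F] [FiniteDimensional F V] {Q : V → F} {B : LinearMap.BilinForm F V}
  (hQs : ∀ (c : F) (v : V), Q (c • v) = c * c * Q v)
  (hQp : ∀ u v : V, Q (u + v) = Q u + Q v + B u v)
  {t : ℕ} (D : Fin t → Submodule F V)
  (hperp : ∀ i j, i ≠ j → ∀ x ∈ D i, ∀ y ∈ D j, B x y = 0)
  (hnd : ∀ i, NdOn B (D i))

include hQs hQp hperp hnd in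
/-- **PKG PROPER.** Some Siegel element does not permute the blocks. -/
theorem exists_sieg_not_perm (hN : B.Nondegenerate) (hsup : ⨆ i, D i = ⊤)
    (h3 : ∀ i, 3 ≤ finrank F (D i)) (ht : 2 ≤ t) :
    ∃ u z, Q u = 0 ∧ B u z = 0 ∧ ¬ PermutesBlocks D (sieg Q B u z) := by
  set i0 : Fin t := ⟨0, by omega⟩ with hi0
  set i1 : Fin t := ⟨1, by omega⟩ with hi1
  have h01 : i0 ≠ i1 := by
    intro h
    have := congrArg Fin.val h
    simp [hi0, hi1] at this
  obtain ⟨u, hu, hu0, hQu⟩ := exists_singular_in Q B hQs hQp (D i0) (h3 i0)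
  obtain ⟨z, hz, hz0, hQz⟩ := exists_singular_in Q B hQs hQp (D i1) (h3 i1)
  have huz : B u z = 0 := hperp i0 i1 h01 u hu z hz
  have hzu : B z u = 0 := by rw [B_symm Q B hQp, huz]
  have hzz : B z z = 0 := by rw [B_self Q B hQs hQp, hQz, mul_zero]
  refine ⟨u, z, hQu, huz, ?_⟩
  rintro ⟨π, hπ⟩
  have hgz : sieg Q B u z z = z := by
    rw [sieg_apply Q B hQs hQp hQu huz, hzu, hzz]
    simp
  have hπ1 : π i1 = i1 := by
    by_contra hne
    apply hz0
    have hmem : z ∈ D (π i1) := by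
      rw [← hπ i1]
      exact ⟨z, hz, hgz⟩
    exact block_inf hQp D hperp hnd hne hmem hz
  obtain ⟨x, hx, hxz⟩ := hnd i1 z hz hz0
  have hxu : B x u = 0 := hperp i1 i0 (Ne.symm h01) x hx u hu
  have hgx : sieg Q B u z x = x - B x z • u := by
    rw [sieg_apply Q B hQs hQp hQu huz, hxu]
    simp
  have hmem : x - B x z • u ∈ D i1 := by
    have : sieg Q B u z x ∈ (D i1).map ((sieg Q B u z : V ≃ₗ[F] V) : V →ₗ[F] V) := ⟨x, hx, rfl⟩
    rw [hπ i1, hπ1, hgx] at this
    exact this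
  have hu1 : u ∈ D i1 := by
    have h1 : B x z • u ∈ D i1 := by
      have := Submodule.sub_mem _ hx hmem
      simpa using this
    have h2 := Submodule.smul_mem (D i1) (B x z)⁻¹ h1
    rwa [smul_smul, inv_mul_cancel₀ hxz, one_smul] at h2
  exact hu0 (block_inf hQp D hperp hnd h01 hu hu1)

end Multi

end Cfsg.Agent.Lib.Helper2_OD_PROPER
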