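import Mathlib
import Cfsg.Agent.Lib.Helper30_OMDefs

set_option autoImplicit false
set_option linter.unusedVariables false
set_option linter.unusedSectionVars false

/-!
# OM-NUM (helper2, package of helper30's S2346 market)

Either the degree is at least `dminus q n` (total multiplicity at least two on the non-zero level sets), or
exactly one level occurs with multiplicity one (`LData`).
-/

namespace Cfsg.Agent.Lib.Helper2_OM_NUM

open Module Cfsg.Agent.Lib.Helper94_OrthSmall Cfsg.Agent.Lib.Helper44_QuadClass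
  Cfsg.Agent.Lib.Helper14_OmegaSimple Cfsg.Agent.Lib.Helper38_MIODefs
  Cfsg.Agent.Lib.Helper95_OPDefs Cfsg.Agent.Lib.Helper95_OPBasic Cfsg.Agent.Lib.Helper30_OMDefs

variable {F V : Type*} [Field F] [Fintype F] [AddCommGroup V] [Module F V] [FiniteDimensional F V]
  {X : Type*} [AddCommGroup X] [Module ℂ X] [FiniteDimensional ℂ X]

theorem ldata_or_large (Q : QuadraticForm F V) (n : ℕ) (hn : 4 ≤ n) (hM : IsMinus Q n)
    {v v' : V} (hv : Q v = 0) (hv' : Q v' = 0)
    (hvv' : QuadraticMap.polar (⇑Q) v v' = 1) [DecidableEq ↥(perp Q v v')]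
    (ρ : Representation ℂ ↥(T Q) X) (ψ : AddChar F ℂ)
    (hint : DirectSum.IsInternal (fun u : ↥(perp Q v v') => wsp Q ρ ψ v v' u))
    (hlev : ∀ u u' : ↥(perp Q v v'), u ≠ 0 → u' ≠ 0 → Qp Q v v' u = Qp Q v v' u' →
      finrank ℂ (wsp Q ρ ψ v v' u) = finrank ℂ (wsp Q ρ ψ v v' u'))
    (hne : ∃ u : ↥(perp Q v v'), u ≠ 0 ∧ wsp Q ρ ψ v v' u ≠ ⊥)
    (harith : dminus (Fintype.card F) n ≤ 2 * sminus (Fintype.card F) (n - 1)) :
    dminus (Fintype.card F) n ≤ finrank ℂ X ∨ ∃ (κ : F) (f : ℕ), LData Q ρ ψ v v' κ f := by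
  classical
  have hfinW : Finite ↥(perp Q v v') := Module.finite_of_finite F
  let _ : Fintype ↥(perp Q v v') := Fintype.ofFinite _
  have hsum : finrank ℂ X = ∑ u : ↥(perp Q v v'), finrank ℂ (wsp Q ρ ψ v v' u) := by
    rw [← Module.finrank_directSum]
    exact (LinearEquiv.ofBijective (DirectSum.coeLinearMap _) hint).finrank_eq.symm
  have hPW : IsMinus (Qp Q v v') (n - 1) := isMinus_perp Q n (by omega) hM hv hv' hvv'
  -- the level sets of non-zero vectors
  set L : F → Finset ↥(perp Q v v') :=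
    fun c => Finset.univ.filter (fun x => x ≠ 0 ∧ Qp Q v v' x = c) with hL
  have hLcard : ∀ c : F, sminus (Fintype.card F) (n - 1) ≤ (L c).card := by
    intro c
    by_cases hc : c = 0
    · subst hc
      have h1 := card_sing_perp Q n (by omega) hM hv hv' hvv'
      rw [Nat.card_eq_fintype_card, Fintype.card_subtype] at h1
      rw [hL]
      exact h1.ge
    · have h1 := hPW.level c hc
      rw [Nat.card_eq_fintype_card, Fintype.card_subtype] at h1
      have h2 : (L c) = Finset.univ.filter (fun x => Qp Q v v' x = c) := by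
        rw [hL]
        ext x
        simp only [Finset.mem_filter, Finset.mem_univ, true_and]
        constructor
        · exact fun h => h.2
        · intro h
          refine ⟨?_, h⟩
          rintro rfl
          exact hc (by rw [← h]; exact map_zero _)
      rw [h2, h1]
      unfold sminus
      have : n - 1 - 1 = n - 2 := by omega
      omega
  have hLdisj : ∀ c c' : F, c ≠ c' → Disjoint (L c) (L c') := by
    intro c c' hcc
    rw [Finset.disjoint_left]
    intro x hx1 hx2
    rw [hL] at hx1 hx2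
    simp only [Finset.mem_filter, Finset.mem_univ, true_and] at hx1 hx2
    exact hcc (hx1.2.symm.trans hx2.2)
  obtain ⟨u0, hu0, hwu0⟩ := hne
  have hpos : 1 ≤ finrank ℂ (wsp Q ρ ψ v v' u0) := by
    by_contra hlt
    push Not at hlt
    exact hwu0 (Submodule.finrank_eq_zero.mp (by omega))
  set κ := Qp Q v v' u0 with hκ
  have hLκ : ∀ x ∈ L κ, finrank ℂ (wsp Q ρ ψ v v' x) = finrank ℂ (wsp Q ρ ψ v v' u0) := by
    intro x hx
    rw [hL] at hx
    simp only [Finset.mem_filter, Finset.mem_univ, true_and] at hx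
    exact hlev x u0 hx.1 hu0 hx.2
  by_cases h2 : 2 ≤ finrank ℂ (wsp Q ρ ψ v v' u0)
  · -- multiplicity at least two on the level `κ`
    left
    calc dminus (Fintype.card F) n ≤ 2 * sminus (Fintype.card F) (n - 1) := harith
      _ ≤ 2 * (L κ).card := Nat.mul_le_mul_left _ (hLcard κ)
      _ = ∑ x ∈ L κ, 2 := by rw [Finset.sum_const, smul_eq_mul, mul_comm]
      _ ≤ ∑ x ∈ L κ, finrank ℂ (wsp Q ρ ψ v v' x) :=
          Finset.sum_le_sum (fun x hx => by rw [hLκ x hx]; exact h2)
      _ ≤ ∑ x : ↥(perp Q v v'), finrank ℂ (wsp Q ρ ψ v v' x) :=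
          Finset.sum_le_sum_of_subset (Finset.subset_univ _)
      _ = finrank ℂ X := hsum.symm
  have h1 : finrank ℂ (wsp Q ρ ψ v v' u0) = 1 := by omega
  by_cases hex : ∃ u1 : ↥(perp Q v v'), u1 ≠ 0 ∧ Qp Q v v' u1 ≠ κ ∧ wsp Q ρ ψ v v' u1 ≠ ⊥
  · -- a second level occurs
    left
    obtain ⟨u1, hu1, hQu1, hwu1⟩ := hex
    have hpos1 : 1 ≤ finrank ℂ (wsp Q ρ ψ v v' u1) := by
      by_contra hlt
      push Not at hlt
      exact hwu1 (Submodule.finrank_eq_zero.mp (by omega))
    set κ' := Qp Q v v' u1 with hκ'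
    have hdisj : Disjoint (L κ) (L κ') := hLdisj κ κ' (fun h => hQu1 h.symm)
    have hge1 : ∀ x ∈ L κ ∪ L κ', 1 ≤ finrank ℂ (wsp Q ρ ψ v v' x) := by
      intro x hx
      rcases Finset.mem_union.mp hx with hx1 | hx2
      · rw [hLκ x hx1]; exact hpos
      · rw [hL] at hx2
        simp only [Finset.mem_filter, Finset.mem_univ, true_and] at hx2
        rw [hlev x u1 hx2.1 hu1 hx2.2]
        exact hpos1
    calc dminus (Fintype.card F) n ≤ 2 * sminus (Fintype.card F) (n - 1) := harith
      _ ≤ (L κ).card + (L κ').card := by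
          have := hLcard κ
          have := hLcard κ'
          omega
      _ = (L κ ∪ L κ').card := (Finset.card_union_of_disjoint hdisj).symm
      _ = ∑ x ∈ L κ ∪ L κ', 1 := by rw [Finset.sum_const, smul_eq_mul, mul_one]
      _ ≤ ∑ x ∈ L κ ∪ L κ', finrank ℂ (wsp Q ρ ψ v v' x) := Finset.sum_le_sum hge1
      _ ≤ ∑ x : ↥(perp Q v v'), finrank ℂ (wsp Q ρ ψ v v' x) :=
          Finset.sum_le_sum_of_subset (Finset.subset_univ _)
      _ = finrank ℂ X := hsum.symm
  · -- exactly one level, multiplicity one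
    right
    push Not at hex
    refine ⟨κ, finrank ℂ (wsp Q ρ ψ v v' 0), ?_, ?_, rfl, ?_⟩
    · intro u hu hQu
      rw [hlev u u0 hu hu0 hQu, h1]
    · intro u hu hQu
      exact hex u hu hQu
    · have h0S : (0 : ↥(perp Q v v')) ∉ L κ := by
        rw [hL]
        simp only [Finset.mem_filter, Finset.mem_univ, true_and, not_and]
        intro h
        exact absurd rfl h
      have hsub : ∑ x ∈ insert (0 : ↥(perp Q v v')) (L κ), finrank ℂ (wsp Q ρ ψ v v' x) =
          ∑ x : ↥(perp Q v v'), finrank ℂ (wsp Q ρ ψ v v' x) := by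
        apply Finset.sum_subset (Finset.subset_univ _)
        intro x _ hx
        rw [Finset.mem_insert, not_or] at hx
        have hxQ : Qp Q v v' x ≠ κ := by
          intro hQx
          apply hx.2
          rw [hL]
          simp only [Finset.mem_filter, Finset.mem_univ, true_and]
          exact ⟨hx.1, hQx⟩
        rw [hex x hx.1 hxQ, finrank_bot]
      have hScard : Nat.card {u : ↥(perp Q v v') // u ≠ 0 ∧ Qp Q v v' u = κ} = (L κ).card := by
        rw [Nat.card_eq_fintype_card, Fintype.card_subtype]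
      rw [hsum, ← hsub, Finset.sum_insert h0S, hScard]
      congr 1
      have hse : ∑ x ∈ L κ, finrank ℂ (wsp Q ρ ψ v v' x) = ∑ _x ∈ L κ, 1 := by
        apply Finset.sum_congr rfl
        intro x hx
        rw [hLκ x hx, h1]
      rw [hse, Finset.sum_const, smul_eq_mul, mul_one]

end Cfsg.Agent.Lib.Helper2_OM_NUM
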