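import Mathlib

set_option autoImplicit false

/-!
A property of groups closed under subgroups and quotients, satisfied by cyclic, dihedral and elementary abelian 2-groups but
not by (generalised) quaternion groups: some cyclic subgroup contains every element which is not an involution or 1.
Used to show that groups with dihedral or elementary abelian Sylow 2-subgroups have no section isomorphic to `SL₂(p)`.
-/

namespace Cfsg.Agent.Lib.Helper37_Good

/-- Some cyclic subgroup contains all the elements whose square is not 1. -/
def Good (X : Type*) [Group X] : Prop :=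
  ∃ C : Subgroup X, IsCyclic C ∧ ∀ x : X, x ∉ C → x * x = 1

theorem Good.of_injective {X Y : Type*} [Group X] [Group Y] (h : Good Y) (f : X →* Y) (hf : Function.Injective f) :
    Good X := by
  obtain ⟨C, hC, h2⟩ := h
  refine ⟨C.comap f, ?_, ?_⟩
  · -- `C.comap f` embeds in `C`
    let g : ↥(C.comap f) →* ↥C := (f.comp (C.comap f).subtype).codRestrict C (fun x => x.2)
    have hg : Function.Injective g := by
      intro a b hab
      apply Subtype.ext
      apply hf
      exact congrArg Subtype.val hab
    exact isCyclic_of_injective g hg
  · intro x hx
    have : f x ∉ C := hx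
    have h3 := h2 (f x) this
    apply hf
    rw [map_mul, map_one]
    exact h3

theorem Good.subgroup {X : Type*} [Group X] (h : Good X) (Y : Subgroup X) : Good ↥Y :=
  h.of_injective Y.subtype Y.subtype_injective

theorem Good.of_surjective {X Y : Type*} [Group X] [Group Y] (h : Good X) (f : X →* Y) (hf : Function.Surjective f) :
    Good Y := by
  obtain ⟨C, hC, h2⟩ := h
  refine ⟨C.map f, ?_, ?_⟩
  · have : Function.Surjective (f.subgroupMap C) := f.subgroupMap_surjective C
    exact isCyclic_of_surjective (f.subgroupMap C) this
  · intro y hy
    obtain ⟨x, rfl⟩ := hf y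
    have hx : x ∉ C := fun hx => hy ⟨x, hx, rfl⟩
    rw [← map_mul, h2 x hx, map_one]

theorem Good.of_mulEquiv {X Y : Type*} [Group X] [Group Y] (h : Good X) (e : X ≃* Y) : Good Y :=
  h.of_surjective e.toMonoidHom e.surjective

/-- A group of exponent 2 is good. -/
theorem good_of_sq_eq_one {X : Type*} [Group X] (h : ∀ x : X, x * x = 1) : Good X :=
  ⟨⊥, inferInstance, fun x _ => h x⟩

/-- If `L ≤ X` and `L` is good and `M ≤ L` as subgroups of `X`, then `M` is good. -/
theorem Good.of_le {X : Type*} [Group X] {L M : Subgroup X} (h : Good ↥L) (hML : M ≤ L) : Good ↥M :=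
  h.of_injective (Subgroup.inclusion hML) (Subgroup.inclusion_injective hML)

end Cfsg.Agent.Lib.Helper37_Good
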