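import Mathlib
import Cfsg.Agent.Lib.Helper37_Good

set_option autoImplicit false
set_option linter.style.haveILetI false

/-!
S2787 package QUAD-NOSECT (helper37's market `quad_packages`): a finite group with good Sylow 2-subgroups has no
subgroup mapping onto a finite group with a Sylow 2-subgroup which is not good.
-/

namespace Cfsg.Agent.Lib.Helper2_Quad_NOSECT

open Cfsg.Agent.Lib.Helper37_Good

theorem no_section {X Y : Type*} [Group X] [Finite X] [Group Y] [Finite Y]
    (hX : ∀ S : Sylow 2 X, Good ↥(S : Subgroup X)) (Q : Sylow 2 Y) (hQ : ¬ Good ↥(Q : Subgroup Y))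
    (K : Subgroup X) (f : ↥K →* Y) (hf : Function.Surjective f) : False := by
  haveI : Fact (Nat.Prime 2) := ⟨Nat.prime_two⟩
  obtain ⟨T⟩ : Nonempty (Sylow 2 ↥K) := inferInstance
  -- `T` is good
  have hT : Good ↥(T : Subgroup ↥K) := by
    have hp : IsPGroup 2 ↥((T : Subgroup ↥K).map K.subtype) := T.isPGroup'.map _
    obtain ⟨S, hS⟩ := hp.exists_le_sylow
    have h1 : Good ↥((T : Subgroup ↥K).map K.subtype) := (hX S).of_le hS
    exact h1.of_mulEquiv ((T : Subgroup ↥K).equivMapOfInjective K.subtype K.subtype_injective).symm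
  -- its image is a good Sylow 2-subgroup of `Y`
  have hTf : Good ↥((T : Subgroup ↥K).map f) :=
    hT.of_surjective (f.subgroupMap (T : Subgroup ↥K)) (f.subgroupMap_surjective _)
  have hT' : Good ↥((T.mapSurjective hf : Sylow 2 Y) : Subgroup Y) := by
    rw [Sylow.coe_mapSurjective]
    exact hTf
  obtain ⟨g, hg⟩ := MulAction.exists_smul_eq Y (T.mapSurjective hf) Q
  apply hQ
  rw [← hg]
  exact hT'.of_mulEquiv (Sylow.equivSMul _ g)

end Cfsg.Agent.Lib.Helper2_Quad_NOSECT
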