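import Mathlib
import Cfsg.Agent.Lib.Helper41_SL2
import Cfsg.Agent.Lib.Helper41_SL2Conj

set_option autoImplicit false

namespace Cfsg.Agent.Lib.Helper41_SL2Order4

open Cfsg.Agent.Lib.Helper41_SL2

section group

variable {G : Type*} [Group G]

/-- If `T = C(d)` and every element of `N(T)` conjugates `d` into `⟨d⟩`, then `N(⟨d⟩) = N(T)`. -/
theorem normalizer_zpowers_eq [Finite G] (d : G) (T : Subgroup G)
    (hC : Subgroup.centralizer ({d} : Set G) = T)
    (h : ∀ n ∈ Subgroup.normalizer (T : Set G), n * d * n⁻¹ ∈ Subgroup.zpowers d) :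
    Subgroup.normalizer ((Subgroup.zpowers d : Subgroup G) : Set G) =
      Subgroup.normalizer (T : Set G) := by
  apply le_antisymm
  · intro n hn
    apply Subgroup.mem_normalizer_fintype
    intro t ht
    change t ∈ T at ht
    change n * t * n⁻¹ ∈ T
    rw [← hC, Subgroup.mem_centralizer_iff] at ht ⊢
    intro x hx
    rw [Set.mem_singleton_iff] at hx
    subst hx
    have h1 : n⁻¹ * x * n ∈ Subgroup.zpowers x :=
      (Subgroup.mem_normalizer_iff''.1 hn x).1 (Subgroup.mem_zpowers x)
    obtain ⟨k, hk⟩ := Subgroup.mem_zpowers_iff.1 h1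
    have h2 : Commute x t := ht x rfl
    have h3 : Commute (n⁻¹ * x * n) t := by
      rw [← hk]; exact h2.zpow_left k
    calc x * (n * t * n⁻¹) = n * ((n⁻¹ * x * n) * t) * n⁻¹ := by group
      _ = n * (t * (n⁻¹ * x * n)) * n⁻¹ := by rw [h3.eq]
      _ = n * t * n⁻¹ * x := by group
  · intro n hn
    apply Subgroup.mem_normalizer_fintype
    intro x hx
    change x ∈ Subgroup.zpowers d at hx
    change n * x * n⁻¹ ∈ Subgroup.zpowers d
    obtain ⟨k, rfl⟩ := Subgroup.mem_zpowers_iff.1 hx
    rw [← conj_zpow]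
    exact Subgroup.zpow_mem _ (h n hn) k

end group

section sl2

variable {F : Type*} [Field F]

theorem coe_ne_zero (g : Matrix.SpecialLinearGroup (Fin 2) F) :
    (g : Matrix (Fin 2) (Fin 2) F) ≠ 0 := by
  intro h
  have := g.2
  rw [h] at this
  simp at this

/-- The only involution of `SL₂` in odd characteristic is `-1`. -/
theorem coe_eq_one_or_neg_one_of_mul_self (h2 : (2 : F) ≠ 0)
    (g : Matrix.SpecialLinearGroup (Fin 2) F) (hg : g * g = 1) :
    (g : Matrix (Fin 2) (Fin 2) F) = 1 ∨ (g : Matrix (Fin 2) (Fin 2) F) = -1 := by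
  have h1 := sl2_mul_self g
  have h3 := congrArg (fun x : Matrix.SpecialLinearGroup (Fin 2) F =>
    (x : Matrix (Fin 2) (Fin 2) F)) hg
  simp only [Matrix.SpecialLinearGroup.coe_mul, Matrix.SpecialLinearGroup.coe_one] at h3
  rw [h3] at h1
  set τ := Matrix.trace (g : Matrix (Fin 2) (Fin 2) F) with hτ
  have h4 : τ • (g : Matrix (Fin 2) (Fin 2) F) = (2 : F) • (1 : Matrix (Fin 2) (Fin 2) F) := by
    have : τ • (g : Matrix (Fin 2) (Fin 2) F) =
        (1 : Matrix (Fin 2) (Fin 2) F) - (-1 : F) • (1 : Matrix (Fin 2) (Fin 2) F) := by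
      rw [eq_sub_iff_add_eq']; exact h1.symm
    rw [this, neg_smul, one_smul, sub_neg_eq_add, two_smul]
  have hτ0 : τ ≠ 0 := by
    intro h0
    rw [h0, zero_smul] at h4
    have := congrFun (congrFun h4 0) 0
    simp at this
    exact h2 this.symm
  have h5 : (g : Matrix (Fin 2) (Fin 2) F) = (2 / τ) • (1 : Matrix (Fin 2) (Fin 2) F) := by
    have : (g : Matrix (Fin 2) (Fin 2) F) = τ⁻¹ • (τ • (g : Matrix (Fin 2) (Fin 2) F)) := by
      rw [smul_smul, inv_mul_cancel₀ hτ0, one_smul]
    rw [this, h4, smul_smul, div_eq_inv_mul]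
  have hdet := g.2
  rw [h5, Matrix.det_smul, Matrix.det_one, mul_one, Fintype.card_fin] at hdet
  have : (2 / τ - 1) * (2 / τ + 1) = 0 := by linear_combination hdet
  rcases mul_eq_zero.1 this with h | h
  · left
    rw [h5, sub_eq_zero.1 h, one_smul]
  · right
    rw [h5, eq_neg_of_add_eq_zero_left h, neg_smul, one_smul]

theorem trace_eq_zero_of_mul_self (g : Matrix.SpecialLinearGroup (Fin 2) F)
    (hg : (g : Matrix (Fin 2) (Fin 2) F) * (g : Matrix (Fin 2) (Fin 2) F) = -1) :
    Matrix.trace (g : Matrix (Fin 2) (Fin 2) F) = 0 := by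
  have h1 := sl2_mul_self g
  rw [hg, neg_smul, one_smul] at h1
  have h2 : Matrix.trace (g : Matrix (Fin 2) (Fin 2) F) • (g : Matrix (Fin 2) (Fin 2) F) = 0 := by
    have := h1.symm
    rwa [add_eq_left] at this
  rcases smul_eq_zero.1 h2 with h | h
  · exact h
  · exact absurd h (coe_ne_zero g)

theorem mul_self_of_trace_eq_zero (g : Matrix.SpecialLinearGroup (Fin 2) F)
    (hg : Matrix.trace (g : Matrix (Fin 2) (Fin 2) F) = 0) :
    (g : Matrix (Fin 2) (Fin 2) F) * (g : Matrix (Fin 2) (Fin 2) F) = -1 := by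
  rw [sl2_mul_self, hg, zero_smul, add_zero, neg_smul, one_smul]

/-- Any two trace-zero elements of `SL₂(q)`, `q` odd, are conjugate. -/
theorem conj_of_trace_zero [Fintype F] (h2 : (2 : F) ≠ 0)
    (g h : Matrix.SpecialLinearGroup (Fin 2) F)
    (hg : Matrix.trace (g : Matrix (Fin 2) (Fin 2) F) = 0)
    (hh : Matrix.trace (h : Matrix (Fin 2) (Fin 2) F) = 0) :
    ∃ U : Matrix.SpecialLinearGroup (Fin 2) F, g = U * h * U⁻¹ := by
  apply Helper41_SL2Conj.conj_of_trace_eq g h (by rw [hg, hh])
  rw [hh]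
  intro h4
  apply h2
  have : (2 : F) * 2 = 0 := by linear_combination -h4
  exact (mul_self_eq_zero.1 this)

/-- A subgroup of order 4 of `SL₂`, odd characteristic, is generated by an element squaring to
`-1`. -/
theorem exists_gen_of_card_four (h2 : (2 : F) ≠ 0)
    (A : Subgroup (Matrix.SpecialLinearGroup (Fin 2) F)) (hA : Nat.card A = 4) :
    ∃ g : Matrix.SpecialLinearGroup (Fin 2) F, A = Subgroup.zpowers g ∧
      (g : Matrix (Fin 2) (Fin 2) F) * (g : Matrix (Fin 2) (Fin 2) F) = -1 := by
  classical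
  have hfin : Finite A := Nat.finite_of_card_ne_zero (by rw [hA]; norm_num)
  -- an element which is not ±1
  obtain ⟨g, hg1, hg2⟩ : ∃ g : A, ((g : Matrix.SpecialLinearGroup (Fin 2) F) :
      Matrix (Fin 2) (Fin 2) F) ≠ 1 ∧ ((g : Matrix.SpecialLinearGroup (Fin 2) F) :
      Matrix (Fin 2) (Fin 2) F) ≠ -1 := by
    by_contra hcon
    push Not at hcon
    have hinj : Function.Injective (fun x : A => decide
        (((x : Matrix.SpecialLinearGroup (Fin 2) F) : Matrix (Fin 2) (Fin 2) F) = 1)) := by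
      intro x y hxy
      simp only [decide_eq_decide] at hxy
      apply Subtype.ext
      apply Subtype.ext
      by_cases hx : ((x : Matrix.SpecialLinearGroup (Fin 2) F) : Matrix (Fin 2) (Fin 2) F) = 1
      · rw [hx, hxy.1 hx]
      · have hy : ¬ ((y : Matrix.SpecialLinearGroup (Fin 2) F) : Matrix (Fin 2) (Fin 2) F) = 1 :=
          fun h => hx (hxy.2 h)
        rw [hcon x hx, hcon y hy]
    have := Nat.card_le_card_of_injective _ hinj
    rw [hA, Nat.card_eq_fintype_card, Fintype.card_bool] at this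
    omega
  have hord : orderOf g ∣ 4 := by rw [← hA]; exact orderOf_dvd_natCard g
  have hne1 : (g : Matrix.SpecialLinearGroup (Fin 2) F) ≠ 1 := by
    intro h; apply hg1; rw [h, Matrix.SpecialLinearGroup.coe_one]
  have hgg : (g : Matrix.SpecialLinearGroup (Fin 2) F) * g ≠ 1 := by
    intro h
    rcases coe_eq_one_or_neg_one_of_mul_self h2 _ h with h' | h'
    · exact hg1 h'
    · exact hg2 h'
  have hord4 : orderOf g = 4 := by
    have hdiv : orderOf g ∈ Nat.divisors 4 := Nat.mem_divisors.2 ⟨hord, by norm_num⟩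
    have hd : Nat.divisors 4 = {1, 2, 4} := by decide
    rw [hd] at hdiv
    simp only [Finset.mem_insert, Finset.mem_singleton] at hdiv
    rcases hdiv with h | h | h
    · exfalso
      apply hne1
      have := orderOf_eq_one_iff.1 h
      rw [this]; rfl
    · exfalso
      apply hgg
      have := pow_orderOf_eq_one g
      rw [h, pow_two] at this
      have := congrArg (fun x : A => (x : Matrix.SpecialLinearGroup (Fin 2) F)) this
      simpa using this
    · exact h
  refine ⟨g, ?_, ?_⟩
  · symm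
    apply Subgroup.eq_of_le_of_card_ge
    · rw [Subgroup.zpowers_le]; exact g.2
    · rw [hA, Nat.card_zpowers, Subgroup.orderOf_coe, hord4]
  · have h4 : ((g : Matrix.SpecialLinearGroup (Fin 2) F) * g) * ((g : Matrix.SpecialLinearGroup (Fin 2) F) * g) = 1 := by
      have := pow_orderOf_eq_one g
      rw [hord4] at this
      have := congrArg (fun x : A => (x : Matrix.SpecialLinearGroup (Fin 2) F)) this
      simp only [Subgroup.coe_pow, Subgroup.coe_one] at this
      rw [← this]; simp [pow_succ, mul_assoc]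
    rcases coe_eq_one_or_neg_one_of_mul_self h2 _ h4 with h' | h'
    · exfalso
      apply hgg
      apply Subtype.ext
      rw [h', Matrix.SpecialLinearGroup.coe_one]
    · rw [← Matrix.SpecialLinearGroup.coe_mul]; exact h'

end sl2

end Cfsg.Agent.Lib.Helper41_SL2Order4
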