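import Cfsg.Agent.Lib.Helper37_Good
import Cfsg.Agent.S0261

set_option autoImplicit false
set_option linter.style.haveILetI false
set_option linter.unusedVariables false

/-!
S2787 package QUAD-PSL2GOOD (helper37's market `quad_packages`): the Sylow 2-subgroups of `PSL₂(F)`, `|F|` odd,
are good (images of generalised quaternion groups modulo the centre).
-/

namespace Cfsg.Agent.Lib.Helper2_Quad_PSL2GOOD

open Cfsg.Agent.Lib.Helper37_Good

/-- an element of `SL₂(F)`, `char F ≠ 2`, whose square is `1` is central -/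
theorem mem_center_of_mul_self {F : Type*} [Field F] (h2 : (2 : F) ≠ 0)
    (g : Matrix.SpecialLinearGroup (Fin 2) F) (hg : g * g = 1) :
    g ∈ Subgroup.center (Matrix.SpecialLinearGroup (Fin 2) F) := by
  rw [Matrix.SpecialLinearGroup.mem_center_iff]
  rcases Cfsg.Agent.Lib.Helper41_SL2Order4.coe_eq_one_or_neg_one_of_mul_self h2 g hg with h | h
  · refine ⟨1, by simp, ?_⟩
    rw [h]
    simp
  · refine ⟨-1, by simp, ?_⟩
    rw [h]
    ext i j
    by_cases hij : i = j
    · subst hij; simp
    · simp [hij, Matrix.one_apply_ne hij]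

/-- every element of a quaternion group outside `⟨a 1⟩` has a square of order at most two -/
theorem quaternion_sq_sq {n : ℕ} [NeZero n] (y : QuaternionGroup n)
    (hy : y ∉ Subgroup.zpowers (QuaternionGroup.a 1 : QuaternionGroup n)) :
    (y * y) * (y * y) = 1 := by
  rcases y with i | i
  · exfalso
    apply hy
    rw [Subgroup.mem_zpowers_iff]
    refine ⟨(i.val : ℤ), ?_⟩
    rw [zpow_natCast, QuaternionGroup.a_one_pow, ZMod.natCast_zmod_val]
  · rw [QuaternionGroup.xa_mul_xa, QuaternionGroup.a_mul_a, QuaternionGroup.one_def]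
    congr 1
    have : ((n : ZMod (2 * n)) + i - i) + ((n : ZMod (2 * n)) + i - i) = ((2 * n : ℕ) : ZMod (2 * n)) := by
      push_cast
      ring
    rw [this, ZMod.natCast_self]

theorem sylow_psl2_good {F : Type*} [Field F] [Fintype F] (hF : Odd (Fintype.card F))
    (S : Sylow 2 (Matrix.ProjectiveSpecialLinearGroup (Fin 2) F)) :
    Good ↥(S : Subgroup (Matrix.ProjectiveSpecialLinearGroup (Fin 2) F)) := by
  classical
  haveI : Fact (Nat.Prime 2) := ⟨Nat.prime_two⟩
  have h2 : (2 : F) ≠ 0 := Cfsg.Agent.S0261.two_ne_zero_of_odd hF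
  set π : Matrix.SpecialLinearGroup (Fin 2) F →* Matrix.ProjectiveSpecialLinearGroup (Fin 2) F :=
    QuotientGroup.mk' (Subgroup.center (Matrix.SpecialLinearGroup (Fin 2) F)) with hπ
  have hπs : Function.Surjective π := QuotientGroup.mk'_surjective _
  obtain ⟨P, hP⟩ := Sylow.mapSurjective_surjective hπs 2 S
  have hS : (S : Subgroup (Matrix.ProjectiveSpecialLinearGroup (Fin 2) F)) =
      (P : Subgroup (Matrix.SpecialLinearGroup (Fin 2) F)).map π := by
    rw [← hP, Sylow.coe_mapSurjective]
  rw [hS]
  obtain ⟨k, hk, ⟨e⟩⟩ := Cfsg.Agent.S0261.result hF P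
  haveI : NeZero (2 ^ k) := ⟨pow_ne_zero _ (by norm_num)⟩
  -- the cyclic subgroup
  set C₀ : Subgroup ↥(P : Subgroup (Matrix.SpecialLinearGroup (Fin 2) F)) :=
    (Subgroup.zpowers (QuaternionGroup.a 1 : QuaternionGroup (2 ^ k))).comap e.toMonoidHom with hC₀
  have hC₀cyc : IsCyclic ↥C₀ := by
    let j : ↥C₀ →* ↥(Subgroup.zpowers (QuaternionGroup.a 1 : QuaternionGroup (2 ^ k))) :=
      (e.toMonoidHom.comp C₀.subtype).codRestrict _ (fun x => x.2)
    have hj : Function.Injective j := by
      intro x y hxy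
      apply Subtype.ext
      apply e.injective
      exact congrArg Subtype.val hxy
    exact isCyclic_of_injective j hj
  set φ := π.subgroupMap (P : Subgroup (Matrix.SpecialLinearGroup (Fin 2) F)) with hφ
  have hφs : Function.Surjective φ := π.subgroupMap_surjective _
  refine ⟨C₀.map φ, ?_, ?_⟩
  · exact isCyclic_of_surjective (φ.subgroupMap C₀) (φ.subgroupMap_surjective C₀)
  · intro y hy
    obtain ⟨x, rfl⟩ := hφs y
    have hx : x ∉ C₀ := fun hx => hy ⟨x, hx, rfl⟩
    have hex : e x ∉ Subgroup.zpowers (QuaternionGroup.a 1 : QuaternionGroup (2 ^ k)) := hx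
    have h4 := quaternion_sq_sq (e x) hex
    have h5 : (x * x) * (x * x) = 1 := by
      apply e.injective
      rw [map_mul, map_mul, map_one]
      exact h4
    have h6 : ((x * x : ↥(P : Subgroup (Matrix.SpecialLinearGroup (Fin 2) F))) :
        Matrix.SpecialLinearGroup (Fin 2) F) ∈
        Subgroup.center (Matrix.SpecialLinearGroup (Fin 2) F) := by
      apply mem_center_of_mul_self h2
      have := congrArg Subtype.val h5
      simpa using this
    rw [← map_mul]
    apply Subtype.ext
    show π ((x * x : ↥(P : Subgroup (Matrix.SpecialLinearGroup (Fin 2) F))) :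
        Matrix.SpecialLinearGroup (Fin 2) F) = 1
    rw [hπ, QuotientGroup.mk'_apply, QuotientGroup.eq_one_iff]
    exact h6

end Cfsg.Agent.Lib.Helper2_Quad_PSL2GOOD
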