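import Cfsg.Agent.Lib.Helper33_S3AmDefs

/-!
S2858 (architect helper33, market `s3am_packages`), package G-COP3: coprime action on a coset.  `W` a finite 2-group,
`N ≤ W` normal in `W`, `d` of order 3 normalising `W` with `[W,d] ≤ N`.  Then `W = N C_W(d)`.
-/

set_option autoImplicit false
set_option linter.unusedVariables false
set_option linter.unusedSectionVars false

namespace Cfsg.Agent.Lib.Helper2_S3Am_GCOP3

open MulAction Cfsg.Agent.Lib.Helper13_SimsDefs Cfsg.Agent.Lib.Helper33_S3AmDefs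

section PartG
variable {G : Type*} [Group G]

/-- membership in `C_W(⟨d⟩)` -/
theorem mem_centIn_zpowers_iff {W : Subgroup G} {d c : G} :
    c ∈ CentIn W (Subgroup.zpowers d) ↔ c ∈ W ∧ d * c = c * d := by
  unfold CentIn
  rw [Subgroup.mem_inf, Subgroup.mem_centralizer_iff]
  refine and_congr Iff.rfl ?_
  constructor
  · intro h
    exact h d (Subgroup.mem_zpowers d)
  · intro h y hy
    obtain ⟨n, rfl⟩ := Subgroup.mem_zpowers_iff.1 hy
    exact ((show Commute d c from h).zpow_left n).eq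

/-- a permutation of order dividing 3 of a finite set whose cardinality is a power of 2 has a fixed point -/
theorem exists_fixed_of_pow_three {α : Type*} [Finite α] (σ : Equiv.Perm α) (h3 : σ ^ 3 = 1) (k : ℕ)
    (hcard : Nat.card α = 2 ^ k) : ∃ a : α, σ a = a := by
  have : Fact (Nat.Prime 3) := ⟨Nat.prime_three⟩
  have hP : IsPGroup 3 (Subgroup.zpowers σ) := by
    intro g
    refine ⟨1, ?_⟩
    obtain ⟨g, hg⟩ := g
    obtain ⟨n, rfl⟩ := Subgroup.mem_zpowers_iff.1 hg
    apply Subtype.ext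
    show (σ ^ n) ^ 3 ^ 1 = 1
    rw [pow_one, ← zpow_natCast, ← zpow_mul, mul_comm, zpow_mul, zpow_natCast, h3, one_zpow]
  have hnd : ¬ 3 ∣ Nat.card α := by
    rw [hcard]
    intro h
    have := Nat.Prime.dvd_of_dvd_pow Nat.prime_three h
    omega
  obtain ⟨a, ha⟩ := hP.nonempty_fixed_point_of_prime_not_dvd_card α hnd
  refine ⟨a, ?_⟩
  have := ha ⟨σ, Subgroup.mem_zpowers σ⟩
  exact this

/-- G-COP3 (new; coprime action on a coset): `W` a finite 2-group, `N ≤ W` normal in `W`, `d` of order 3 normalising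
`W` with `[W,d] ≤ N`.  Then `W = N C_W(d)`. -/
theorem coprime_coset (K : Subgroup G) [Finite K] (W N : Subgroup G) (hWK : W ≤ K) (hW : IsPGroup 2 W)
    (hNW : N ≤ W) (hNn : ∀ w ∈ W, Nrm w N) (d : G) (hdK : d ∈ K) (hd3 : orderOf d = 3) (hdW : Nrm d W)
    (hcomm : ∀ w ∈ W, comm d w ∈ N) :
    ∀ w ∈ W, ∃ n ∈ N, ∃ c ∈ CentIn W (Subgroup.zpowers d), w = n * c := by
  intro w hw
  have hNK : N ≤ K := le_trans hNW hWK
  have : Finite N := Finite.of_injective (Subgroup.inclusion hNK) (Subgroup.inclusion_injective hNK)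
  have hd3' : d ^ 3 = 1 := by rw [← hd3]; exact pow_orderOf_eq_one d
  -- `d` normalises `N`
  have hdN : ∀ n ∈ N, d * n * d⁻¹ ∈ N := by
    intro n hn
    have h1 := hcomm n (hNW hn)
    have e : d * n * d⁻¹ = Helper13_SimsDefs.comm d n * n := by
      unfold Helper13_SimsDefs.comm; group
    rw [e]
    exact N.mul_mem h1 hn
  -- the map on `N` induced by conjugation by `d` on the coset `N w`
  have hφmem : ∀ n ∈ N, d * n * d⁻¹ * Helper13_SimsDefs.comm d w ∈ N :=
    fun n hn => N.mul_mem (hdN n hn) (hcomm w hw)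
  let φ : ↥N → ↥N := fun n => ⟨d * (n : G) * d⁻¹ * Helper13_SimsDefs.comm d w, hφmem n n.2⟩
  have hφ : ∀ n : ↥N, ((φ n : ↥N) : G) * w = d * ((n : G) * w) * d⁻¹ := by
    intro n
    show d * (n : G) * d⁻¹ * Helper13_SimsDefs.comm d w * w = d * ((n : G) * w) * d⁻¹
    unfold Helper13_SimsDefs.comm
    group
  have hinj : Function.Injective φ := by
    intro n n' h
    have h1 : ((φ n : ↥N) : G) * w = ((φ n' : ↥N) : G) * w := by rw [h]
    rw [hφ, hφ] at h1
    apply Subtype.ext
    have h2 : (n : G) * w = (n' : G) * w := by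
      have := congrArg (fun x => d⁻¹ * x * d) h1
      simpa [mul_assoc] using this
    exact mul_right_cancel h2
  let σ : Equiv.Perm ↥N := Equiv.ofBijective φ (Finite.injective_iff_bijective.1 hinj)
  have hσ : ∀ n : ↥N, σ n = φ n := fun n => rfl
  have h3 : σ ^ 3 = 1 := by
    ext n
    have e : (σ ^ 3) n = σ (σ (σ n)) := by
      rw [pow_succ, pow_succ, pow_one]
      rfl
    rw [e, Equiv.Perm.coe_one, id_eq, hσ, hσ, hσ]
    have h1 : ((φ (φ (φ n)) : ↥N) : G) * w = (n : G) * w := by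
      rw [hφ, hφ, hφ]
      have hddd : d * d * d = 1 := by rw [← hd3', pow_succ, pow_succ, pow_one]
      have : d * (d * (d * ((n : G) * w) * d⁻¹) * d⁻¹) * d⁻¹ =
          (d * d * d) * ((n : G) * w) * (d * d * d)⁻¹ := by
        group
      rw [this, hddd]
      group
    exact mul_right_cancel h1
  obtain ⟨k, hk⟩ := (hW.to_le hNW).exists_card_eq
  obtain ⟨n₀, hn₀⟩ := exists_fixed_of_pow_three σ h3 k hk
  have hfix : d * ((n₀ : G) * w) * d⁻¹ = (n₀ : G) * w := by
    rw [← hφ, ← hσ, hn₀]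
  refine ⟨(n₀ : G)⁻¹, N.inv_mem n₀.2, (n₀ : G) * w, ?_, by group⟩
  rw [mem_centIn_zpowers_iff]
  refine ⟨W.mul_mem (hNW n₀.2) hw, ?_⟩
  have := congrArg (fun x => x * d) hfix
  simpa [mul_assoc] using this

end PartG

end Cfsg.Agent.Lib.Helper2_S3Am_GCOP3
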