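import Cfsg.Agent.Lib.Helper33_S3AmDefs

/-!
S2858 (architect helper33, market `s3am_packages`), package G-TV (transvection form): `W` finite elementary abelian 2-group,
`t` normalises `W`, `t²` centralises `W` and `C_W(t)` has index `≤ 2` in `W`.  Then all nontrivial commutators
`comm t w` (`w ∈ W`) are equal.
-/

set_option autoImplicit false
set_option linter.unusedVariables false
set_option linter.unusedSectionVars false

namespace Cfsg.Agent.Lib.Helper2_S3Am_GTV

open MulAction Cfsg.Agent.Lib.Helper13_SimsDefs Cfsg.Agent.Lib.Helper33_S3AmDefs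

section PartG
variable {G : Type*} [Group G]

/-- membership in `C_W(⟨d⟩)` -/
theorem mem_centIn_zpowers_iff' {W : Subgroup G} {d c : G} :
    c ∈ CentIn W (Subgroup.zpowers d) ↔ c ∈ W ∧ d * c = c * d := by
  unfold CentIn
  rw [Subgroup.mem_inf, Subgroup.mem_centralizer_iff]
  refine and_congr Iff.rfl ?_
  constructor
  · intro h
    exact h d (Subgroup.mem_zpowers d)
  · intro h y hy
    obtain ⟨n, rfl⟩ := Subgroup.mem_zpowers_iff.1 hy
    exact ((show Commute d c from h).zpow_left n).eq

theorem comm_eq_one_iff (t w : G) : Helper13_SimsDefs.comm t w = 1 ↔ t * w = w * t := by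
  unfold Helper13_SimsDefs.comm
  constructor
  · intro h
    have : t * w * t⁻¹ = w := by
      rw [mul_inv_eq_one] at h
      exact h
    calc t * w = (t * w * t⁻¹) * t := by group
      _ = w * t := by rw [this]
  · intro h
    have : t * w * t⁻¹ * w⁻¹ = (t * w) * t⁻¹ * w⁻¹ := rfl
    rw [this, h]
    group

/-- G-TV (transvection form): `W` finite elementary abelian 2-group, `t` normalises `W`, `t²` centralises `W` and
`C_W(t)` has index `≤ 2` in `W`.  Then all nontrivial commutators `comm t w` (`w ∈ W`) are equal. -/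
theorem transvection_form (W : Subgroup G) [Finite W] (hW2 : ∀ v ∈ W, v ^ 2 = 1)
    (hWc : ∀ v ∈ W, ∀ w ∈ W, v * w = w * v) (t : G) (htW : Nrm t W)
    (ht2 : ∀ w ∈ W, t ^ 2 * w = w * t ^ 2)
    (hidx : Nat.card W ≤ 2 * Nat.card (CentIn W (Subgroup.zpowers t))) :
    ∃ r, r ∈ W ∧ r ^ 2 = 1 ∧ t * r = r * t ∧ ∀ w ∈ W, comm t w = 1 ∨ comm t w = r := by
  set C := CentIn W (Subgroup.zpowers t) with hC
  have hCW : C ≤ W := fun x hx => (mem_centIn_zpowers_iff'.1 hx).1
  have hinv : ∀ v ∈ W, v⁻¹ = v := by
    intro v hv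
    have := hW2 v hv
    rw [pow_two] at this
    exact inv_eq_of_mul_eq_one_left this
  by_cases hall : ∀ w ∈ W, w ∈ C
  · refine ⟨1, W.one_mem, one_pow 2, by rw [mul_one, one_mul], fun w hw => Or.inl ?_⟩
    rw [comm_eq_one_iff]
    exact (mem_centIn_zpowers_iff'.1 (hall w hw)).2
  · push Not at hall
    obtain ⟨a, haW, haC⟩ := hall
    -- the index is two
    have hcardC : Nat.card (C.subgroupOf W) = Nat.card C :=
      Nat.card_congr (Subgroup.subgroupOfEquivOfLe hCW).toEquiv
    have hmul := Subgroup.card_mul_index (C.subgroupOf W)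
    rw [hcardC] at hmul
    have : Finite C := Finite.of_injective (Subgroup.inclusion hCW) (Subgroup.inclusion_injective hCW)
    have hCpos : 0 < Nat.card C := Nat.card_pos
    have hidx2 : (C.subgroupOf W).index ≤ 2 := by
      by_contra hgt
      push Not at hgt
      have : Nat.card C * 3 ≤ Nat.card C * (C.subgroupOf W).index := Nat.mul_le_mul_left _ hgt
      omega
    have hidx1 : (C.subgroupOf W).index ≠ 1 := by
      intro h1
      rw [Subgroup.index_eq_one] at h1
      apply haC
      have : (⟨a, haW⟩ : ↥W) ∈ C.subgroupOf W := by rw [h1]; trivial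
      rwa [Subgroup.mem_subgroupOf] at this
    have hidx0 : (C.subgroupOf W).index ≠ 0 := Subgroup.index_ne_zero_of_finite
    have hidx' : (C.subgroupOf W).index = 2 := by omega
    obtain ⟨a', ha'⟩ := Subgroup.index_eq_two_iff.1 hidx'
    -- any two elements outside `C` differ by an element of `C`
    have hdiff : ∀ w ∈ W, w ∉ C → w * a ∈ C := by
      intro w hw hwC
      have h1 := ha' ⟨w, hw⟩
      have h2 := ha' ⟨a, haW⟩
      simp only [Subgroup.mem_subgroupOf, Subgroup.coe_mul] at h1 h2
      have k1 : w * (a' : G) ∈ C := by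
        rcases h1 with ⟨h, -⟩ | ⟨h, -⟩
        · exact h
        · exact absurd h hwC
      have k2 : a * (a' : G) ∈ C := by
        rcases h2 with ⟨h, -⟩ | ⟨h, -⟩
        · exact h
        · exact absurd h haC
      have e : w * a = (w * (a' : G)) * (a * (a' : G))⁻¹ * (a * a) := by group
      rw [e]
      refine C.mul_mem (C.mul_mem k1 (C.inv_mem k2)) ?_
      have : a * a = 1 := by rw [← pow_two]; exact hW2 a haW
      rw [this]
      exact C.one_mem
    set r := Helper13_SimsDefs.comm t a with hr
    have htaW : t * a * t⁻¹ ∈ W := htW a haW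
    have hrW : r ∈ W := by
      rw [hr]
      unfold Helper13_SimsDefs.comm
      exact W.mul_mem htaW (W.inv_mem haW)
    -- `t` commutes with `r`
    have htr : t * r = r * t := by
      have e1 : t * r * t⁻¹ = ((t * t) * a * (t * t)⁻¹) * (t * a * t⁻¹)⁻¹ := by
        rw [hr]
        unfold Helper13_SimsDefs.comm
        group
      have e2 : (t * t) * a * (t * t)⁻¹ = a := by
        have := ht2 a haW
        rw [pow_two] at this
        rw [this]; group
      have e3 : t * r * t⁻¹ = r := by
        rw [e1, e2, hinv _ htaW, hWc a haW _ htaW, hr]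
        unfold Helper13_SimsDefs.comm
        rw [hinv a haW]
      calc t * r = (t * r * t⁻¹) * t := by group
        _ = r * t := by rw [e3]
    refine ⟨r, hrW, hW2 r hrW, htr, ?_⟩
    intro w hw
    by_cases hwC : w ∈ C
    · left
      rw [comm_eq_one_iff]
      exact (mem_centIn_zpowers_iff'.1 hwC).2
    · right
      have hwa := (mem_centIn_zpowers_iff'.1 (hdiff w hw hwC)).2
      -- `t (w a) t⁻¹ = w a`
      have h1 : (t * w * t⁻¹) * (t * a * t⁻¹) = w * a := by
        have : (t * w * t⁻¹) * (t * a * t⁻¹) = (t * (w * a)) * t⁻¹ := by group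
        rw [this, hwa]
        group
      have htwW : t * w * t⁻¹ ∈ W := htW w hw
      -- so `comm t w = (comm t a)⁻¹ = comm t a`
      have h2 : Helper13_SimsDefs.comm t w * r = 1 := by
        rw [hr]
        unfold Helper13_SimsDefs.comm
        have : t * w * t⁻¹ * w⁻¹ * (t * a * t⁻¹ * a⁻¹) =
            (t * w * t⁻¹) * (w⁻¹ * (t * a * t⁻¹)) * a⁻¹ := by group
        rw [this, hWc w⁻¹ (W.inv_mem hw) _ htaW]
        have : (t * w * t⁻¹) * ((t * a * t⁻¹) * w⁻¹) * a⁻¹ =
            ((t * w * t⁻¹) * (t * a * t⁻¹)) * w⁻¹ * a⁻¹ := by group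
        rw [this, h1, hWc w hw a haW]
        group
      have h3 : Helper13_SimsDefs.comm t w = r⁻¹ := eq_inv_of_mul_eq_one_left h2
      rw [h3, hinv r hrW]

end PartG

end Cfsg.Agent.Lib.Helper2_S3Am_GTV
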