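import Mathlib
import Cfsg.Prelude.Def_Characters

/-!
# Definitions for the S4756 package market (helper80)

S4756: `χ(xy) = χ(x)χ(y)` for all irreducible `χ` and all nonidentity `x`, `y` of prime power
orders for different primes, iff `G` is a `p`-group, abelian, or of an explicit Frobenius-like shape.
-/

set_option autoImplicit false

namespace Cfsg.Agent.Lib.Helper80_S4756Defs

/-- `x`, `y` have prime power orders for two different primes. -/
def CoprimePP {G : Type*} [Group G] (x y : G) : Prop :=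
  ∃ p q a b : ℕ, p.Prime ∧ q.Prime ∧ p ≠ q ∧ orderOf x = p ^ a ∧ orderOf y = q ^ b

/-- Hypothesis (1) of S4756. -/
def Mult (G : Type*) [Group G] : Prop :=
  ∀ (x y : G) (χ : Cfsg.IrrCharacter G), x ≠ 1 → y ≠ 1 → CoprimePP x y →
    (χ : G → ℂ) (x * y) = (χ : G → ℂ) x * (χ : G → ℂ) y

/-- `χ` vanishes on the nonidentity elements of prime power order for the primes other than `p`. -/
def VanAway {G : Type*} [Group G] (p : ℕ) (χ : G → ℂ) : Prop :=
  ∀ (x : G) (q a : ℕ), x ≠ 1 → q.Prime → q ≠ p → orderOf x = q ^ a → χ x = 0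

/-- The centralizer condition: nonidentity elements of prime power order for primes other than `p`
have centralizer of order `|G : G'|`. -/
def CentCond (G : Type*) [Group G] (p : ℕ) : Prop :=
  ∀ (x : G) (q a : ℕ), x ≠ 1 → q.Prime → q ≠ p → orderOf x = q ^ a →
    Nat.card (Subgroup.centralizer ({x} : Set G)) = (commutator G).index

/-- The third alternative of S4756 (2), for a fixed prime, Sylow subgroup and complement. -/
def StructAt {G : Type*} [Group G] (p : ℕ) [Fact p.Prime] (P : Sylow p G) (A : Subgroup G) : Prop :=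
  (P : Subgroup G).Normal ∧ IsCyclic ↥A ∧ A ≠ ⊥ ∧ (Nat.card ↥A).Coprime p ∧ A ⊔ (P : Subgroup G) = ⊤ ∧ IsMulCommutative ↥((P : Subgroup G) ⊓ Subgroup.centralizer (A : Set G)) ∧ (⁅A, (P : Subgroup G)⁆).Normal ∧ ((P : Subgroup G) ⊓ Subgroup.centralizer (A : Set G)) ⊔ ⁅A, (P : Subgroup G)⁆ = (P : Subgroup G) ∧ ((P : Subgroup G) ⊓ Subgroup.centralizer (A : Set G)) ⊓ ⁅A, (P : Subgroup G)⁆ = ⊥ ∧ ∀ a ∈ A, a ≠ 1 → ∀ d ∈ ⁅A, (P : Subgroup G)⁆, a * d = d * a → d = 1

end Cfsg.Agent.Lib.Helper80_S4756Defs
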