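import Mathlib
import Cfsg.Agent.Lib.Helper80_S4756Defs

set_option autoImplicit false
set_option linter.style.haveILetI false

/-!
S4756-CFROB: in the Frobenius-like structure `StructAt p P A`, every `g ∉ P` has a centralizer of
order at most `|G : G'|`.
-/

namespace Cfsg.Agent.Lib.Helper2_S4756_CFROB

open Cfsg.Agent.Lib.Helper80_S4756Defs
open scoped Pointwise commutatorElement

/-- **CFROB**. -/
theorem cfrob {G : Type*} [Group G] [Finite G] (p : ℕ) [Fact p.Prime] (P : Sylow p G)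
    (A : Subgroup G) (hS : StructAt p P A) (g : G) (hg : g ∉ (P : Subgroup G)) :
    Nat.card (Subgroup.centralizer ({g} : Set G)) ≤ (commutator G).index := by
  classical
  have hp : p.Prime := Fact.out
  obtain ⟨hPn, hAcyc, hA1, hAcop, hAP, hCab, hDn, hCD, hCDinf, hfpf⟩ := hS
  set C := (P : Subgroup G) ⊓ Subgroup.centralizer (A : Set G) with hC
  set D := ⁅A, (P : Subgroup G)⁆ with hD
  have hDP : D ≤ (P : Subgroup G) := by rw [← hCD]; exact le_sup_right
  have hCP : C ≤ (P : Subgroup G) := inf_le_left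
  -- commutation facts
  have hAA : ∀ a ∈ A, ∀ b ∈ A, a * b = b * a := by
    intro a ha b hb
    letI := hAcyc.commGroup
    exact congrArg Subtype.val (mul_comm (⟨a, ha⟩ : A) ⟨b, hb⟩)
  have hCC : ∀ a ∈ C, ∀ b ∈ C, a * b = b * a := by
    intro a ha b hb
    exact congrArg Subtype.val (hCab.is_comm.comm (⟨a, ha⟩ : C) ⟨b, hb⟩)
  have hCA : ∀ c ∈ C, ∀ a ∈ A, a * c = c * a := by
    intro c hc a ha
    exact (Subgroup.mem_centralizer_iff.mp hc.2) a ha
  -- decomposition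
  have hdecomp : ∀ x : G, ∃ d ∈ D, ∃ c ∈ C, ∃ a ∈ A, x = d * c * a := by
    intro x
    have hx : x ∈ ((((P : Subgroup G) ⊔ A : Subgroup G)) : Set G) := by
      rw [sup_comm, hAP]; exact Set.mem_univ x
    rw [Subgroup.normal_mul, Set.mem_mul] at hx
    obtain ⟨y, hy, a, ha, rfl⟩ := hx
    have hy' : y ∈ (((D ⊔ C : Subgroup G)) : Set G) := by
      rw [sup_comm, hCD]; exact hy
    rw [Subgroup.normal_mul, Set.mem_mul] at hy'
    obtain ⟨d, hd, c, hc, rfl⟩ := hy'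
    exact ⟨d, hd, c, hc, a, ha, rfl⟩
  -- G / D is abelian
  have hcomm : ∀ x y : G, ⁅x, y⁆ ∈ D := by
    intro x y
    obtain ⟨d₁, hd₁, c₁, hc₁, a₁, ha₁, rfl⟩ := hdecomp x
    obtain ⟨d₂, hd₂, c₂, hc₂, a₂, ha₂, rfl⟩ := hdecomp y
    have hk : (c₁ * a₁) * (c₂ * a₂) = (c₂ * a₂) * (c₁ * a₁) := by
      calc (c₁ * a₁) * (c₂ * a₂) = c₁ * (a₁ * c₂) * a₂ := by group
        _ = c₁ * (c₂ * a₁) * a₂ := by rw [hCA c₂ hc₂ a₁ ha₁]
        _ = (c₁ * c₂) * (a₁ * a₂) := by group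
        _ = (c₂ * c₁) * (a₂ * a₁) := by rw [hCC c₁ hc₁ c₂ hc₂, hAA a₁ ha₁ a₂ ha₂]
        _ = c₂ * (c₁ * a₂) * a₁ := by group
        _ = c₂ * (a₂ * c₁) * a₁ := by rw [hCA c₁ hc₁ a₂ ha₂]
        _ = (c₂ * a₂) * (c₁ * a₁) := by group
    rw [← QuotientGroup.eq_one_iff (N := D)]
    have e1 : ((d₁ * c₁ * a₁ : G) : G ⧸ D) = ((c₁ * a₁ : G) : G ⧸ D) := by
      rw [mul_assoc, QuotientGroup.mk_mul, (QuotientGroup.eq_one_iff (N := D) d₁).mpr hd₁, one_mul]
    have e2 : ((d₂ * c₂ * a₂ : G) : G ⧸ D) = ((c₂ * a₂ : G) : G ⧸ D) := by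
      rw [mul_assoc, QuotientGroup.mk_mul, (QuotientGroup.eq_one_iff (N := D) d₂).mpr hd₂, one_mul]
    have hk' : ((c₁ * a₁ : G) : G ⧸ D) * ((c₂ * a₂ : G) : G ⧸ D) =
        ((c₂ * a₂ : G) : G ⧸ D) * ((c₁ * a₁ : G) : G ⧸ D) := by
      rw [← QuotientGroup.mk_mul, hk, QuotientGroup.mk_mul]
    rw [commutatorElement_def, QuotientGroup.mk_mul, QuotientGroup.mk_mul, QuotientGroup.mk_mul,
      QuotientGroup.mk_inv, QuotientGroup.mk_inv, e1, e2, hk']
    group
  have hGD : commutator G ≤ D := by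
    rw [commutator_def, Subgroup.commutator_le]
    intro x _ y _
    exact hcomm x y
  -- the centralizer of g meets D trivially
  obtain ⟨d, hd, c, hc, a, ha, hgd⟩ := hdecomp g
  have ha1 : a ≠ 1 := by
    rintro rfl
    apply hg
    rw [hgd, mul_one]
    exact Subgroup.mul_mem _ (hDP hd) (hCP hc)
  set k := c * a with hk
  have hca : a * c = c * a := hCA c hc a ha
  obtain ⟨j, hj⟩ := (IsPGroup.iff_orderOf.mp P.2) ⟨c, hCP hc⟩
  have hcord : orderOf c = p ^ j := by rw [← hj, ← Subgroup.orderOf_coe]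
  have hkm : k ^ (p ^ j) = a ^ (p ^ j) := by
    rw [hk, (Commute.mul_pow (show Commute c a from hca.symm)), ← hcord, pow_orderOf_eq_one, one_mul]
  have hapj : a ^ (p ^ j) ≠ 1 := by
    intro h
    have h1 : orderOf a ∣ p ^ j := orderOf_dvd_of_pow_eq_one h
    have h2 : orderOf a ∣ Nat.card A := by
      have := orderOf_dvd_natCard (⟨a, ha⟩ : A)
      rwa [← Subgroup.orderOf_coe] at this
    have h3 : Nat.Coprime (orderOf a) (p ^ j) :=
      Nat.Coprime.coprime_dvd_left h2 (Nat.Coprime.pow_right j hAcop)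
    have h4 : orderOf a = 1 := Nat.Coprime.eq_one_of_dvd h3 h1
    exact ha1 (orderOf_eq_one_iff.mp h4)
  -- C_D(k) = 1
  have hCDk : ∀ u ∈ D, u * k = k * u → u = 1 := by
    intro u hu huk
    have h1 : u * k ^ (p ^ j) = k ^ (p ^ j) * u :=
      (Commute.pow_right (show Commute u k from huk) _).eq
    rw [hkm] at h1
    exact hfpf (a ^ (p ^ j)) (A.pow_mem ha _) hapj u hu h1.symm
  -- g is a D-conjugate of k
  let f : D → D := fun u => ⟨u.1 * k * u.1⁻¹ * k⁻¹, by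
    have h1 : k * u.1⁻¹ * k⁻¹ ∈ D := hDn.conj_mem _ (D.inv_mem u.2) k
    have h2 := D.mul_mem u.2 h1
    have e : u.1 * (k * u.1⁻¹ * k⁻¹) = u.1 * k * u.1⁻¹ * k⁻¹ := by group
    rwa [e] at h2⟩
  have hfinj : Function.Injective f := by
    intro u v huv
    have h1 : u.1 * k * u.1⁻¹ * k⁻¹ = v.1 * k * v.1⁻¹ * k⁻¹ := congrArg Subtype.val huv
    have h2 : u.1 * k * u.1⁻¹ = v.1 * k * v.1⁻¹ := mul_right_cancel h1
    have h3 : (v.1⁻¹ * u.1) * k = k * (v.1⁻¹ * u.1) := by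
      calc (v.1⁻¹ * u.1) * k = v.1⁻¹ * (u.1 * k * u.1⁻¹) * u.1 := by group
        _ = v.1⁻¹ * (v.1 * k * v.1⁻¹) * u.1 := by rw [h2]
        _ = k * (v.1⁻¹ * u.1) := by group
    have h4 := hCDk _ (D.mul_mem (D.inv_mem v.2) u.2) h3
    apply Subtype.ext
    calc u.1 = v.1 * (v.1⁻¹ * u.1) := by group
      _ = v.1 := by rw [h4, mul_one]
  have hfsurj : Function.Surjective f := Finite.surjective_of_injective hfinj
  obtain ⟨u, hu⟩ := hfsurj ⟨d, hd⟩
  have hu' : u.1 * k * u.1⁻¹ * k⁻¹ = d := congrArg Subtype.val hu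
  have hgu : g = u.1 * k * u.1⁻¹ := by
    rw [hgd, mul_assoc, ← hk, ← hu']
    group
  have hCg : ∀ x ∈ Subgroup.centralizer ({g} : Set G), x ∈ D → x = 1 := by
    intro x hx hxD
    have h1 : g * x = x * g := (Subgroup.mem_centralizer_iff.mp hx) g rfl
    have hyD : u.1⁻¹ * x * u.1 ∈ D := by
      have := hDn.conj_mem x hxD u.1⁻¹
      rwa [inv_inv] at this
    have h2 : (u.1⁻¹ * x * u.1) * k = k * (u.1⁻¹ * x * u.1) := by
      calc (u.1⁻¹ * x * u.1) * k = u.1⁻¹ * (x * (u.1 * k * u.1⁻¹)) * u.1 := by group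
        _ = u.1⁻¹ * ((u.1 * k * u.1⁻¹) * x) * u.1 := by rw [← hgu, h1]
        _ = k * (u.1⁻¹ * x * u.1) := by group
    have h3 := hCDk _ hyD h2
    calc x = u.1 * (u.1⁻¹ * x * u.1) * u.1⁻¹ := by group
      _ = 1 := by rw [h3]; group
  -- count
  let φ : (Subgroup.centralizer ({g} : Set G)) →* (G ⧸ D) :=
    (QuotientGroup.mk' D).comp (Subgroup.centralizer ({g} : Set G)).subtype
  have hφ : Function.Injective φ := by
    rw [injective_iff_map_eq_one]
    intro x hx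
    have hxD : (x : G) ∈ D := by
      rw [← QuotientGroup.eq_one_iff (N := D)]
      exact hx
    exact Subtype.ext (hCg x.1 x.2 hxD)
  have h1 : Nat.card (Subgroup.centralizer ({g} : Set G)) ≤ D.index := by
    rw [Subgroup.index_eq_card]
    exact Nat.card_le_card_of_injective φ hφ
  have h2 : D.index ∣ (commutator G).index := Subgroup.index_dvd_of_le hGD
  have h3 : D.index ≤ (commutator G).index :=
    Nat.le_of_dvd (Nat.pos_of_ne_zero Subgroup.index_ne_zero_of_finite) h2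
  exact le_trans h1 h3

end Cfsg.Agent.Lib.Helper2_S4756_CFROB
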