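import Mathlib
import Cfsg.Agent.Lib.Helper80_S4756Defs
import Cfsg.Agent.Lib.Helper80_CharBasic
import Cfsg.Agent.Lib.Helper80_CharComplete

set_option autoImplicit false
set_option linter.style.haveILetI false

/-!
S4756-PRIME2, auxiliary part (package DEG taken as a hypothesis).
-/

namespace Cfsg.Agent.Lib.Helper2_S4756_PRIME2a

open Cfsg.Agent.Lib.Helper80_S4756Defs

/-- the degree of an irreducible character as a natural number. -/
noncomputable def deg {G : Type*} [Group G] (χ : Cfsg.IrrCharacter G) : ℕ :=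
  Classical.choose (Cfsg.Agent.Lib.Helper80_CharBasic.irr_apply_one χ)

theorem deg_pos {G : Type*} [Group G] (χ : Cfsg.IrrCharacter G) : 0 < deg χ :=
  (Classical.choose_spec (Cfsg.Agent.Lib.Helper80_CharBasic.irr_apply_one χ)).1

theorem deg_spec {G : Type*} [Group G] (χ : Cfsg.IrrCharacter G) :
    (χ : G → ℂ) 1 = (deg χ : ℂ) :=
  (Classical.choose_spec (Cfsg.Agent.Lib.Helper80_CharBasic.irr_apply_one χ)).2

/-- sum of squares of the degrees, in `ℕ`. -/
theorem sum_deg_sq {G : Type*} [Group G] [Finite G] [Fintype (Cfsg.IrrCharacter G)] :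
    ∑ χ : Cfsg.IrrCharacter G, deg χ ^ 2 = Nat.card G := by
  have h := Cfsg.Agent.Lib.Helper80_CharComplete.sum_sq_degrees (G := G)
  rw [finsum_eq_sum_of_fintype] at h
  have h2 : ((∑ χ : Cfsg.IrrCharacter G, deg χ ^ 2 : ℕ) : ℂ) = (Nat.card G : ℂ) := by
    rw [← h]
    push_cast
    apply Finset.sum_congr rfl
    intro χ _
    rw [deg_spec]
  exact_mod_cast h2

theorem prime2_aux {G : Type*} [Group G] [Finite G]
    (hdeg : ∀ (χ : Cfsg.IrrCharacter G) (q : ℕ), q.Prime →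
      (∀ (x : G) (a : ℕ), x ≠ 1 → orderOf x = q ^ a → (χ : G → ℂ) x = 0) → ∀ n : ℕ,
      (χ : G → ℂ) 1 = n → q ^ (Nat.card G).factorization q ∣ n)
    (χ ψ : Cfsg.IrrCharacter G)
    (hχ : (χ : G → ℂ) 1 ≠ 1) (hψ : (ψ : G → ℂ) 1 ≠ 1) (p r : ℕ) (hp : p.Prime) (hr : r.Prime)
    (hpr : p ≠ r) (hvχ : VanAway p (χ : G → ℂ)) (hvψ : VanAway r (ψ : G → ℂ)) : False := by
  classical
  haveI := Fintype.ofFinite (Cfsg.IrrCharacter G)
  set N := Nat.card G with hN
  have hN0 : N ≠ 0 := Nat.card_pos.ne'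
  set m := deg χ with hm
  set n := deg ψ with hn
  have hm0 : 0 < m := deg_pos χ
  have hn0 : 0 < n := deg_pos ψ
  have hmχ : (χ : G → ℂ) 1 = (m : ℂ) := deg_spec χ
  have hnψ : (ψ : G → ℂ) 1 = (n : ℂ) := deg_spec ψ
  -- divisibility
  have h1 : ∀ q : ℕ, q.Prime → q ≠ p → N.factorization q ≤ m.factorization q := by
    intro q hq hqp
    have := hdeg χ q hq (fun x a hx hxo => hvχ x q a hx hq hqp hxo) m hmχ
    exact (hq.pow_dvd_iff_le_factorization hm0.ne').mp this
  have h2 : ∀ q : ℕ, q.Prime → q ≠ r → N.factorization q ≤ n.factorization q := by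
    intro q hq hqr
    have := hdeg ψ q hq (fun x a hx hxo => hvψ x q a hx hq hqr hxo) n hnψ
    exact (hq.pow_dvd_iff_le_factorization hn0.ne').mp this
  have hdvd : N ∣ m * n := by
    rw [← Nat.factorization_prime_le_iff_dvd hN0 (Nat.mul_pos hm0 hn0).ne']
    intro q hq
    rw [Nat.factorization_mul hm0.ne' hn0.ne', Finsupp.add_apply]
    by_cases hqp : q = p
    · have hqr : q ≠ r := by rw [hqp]; exact hpr
      exact le_trans (h2 q hq hqr) (Nat.le_add_left _ _)
    · exact le_trans (h1 q hq hqp) (Nat.le_add_right _ _)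
  have hle : N ≤ m * n := Nat.le_of_dvd (Nat.mul_pos hm0 hn0) hdvd
  have hsum := sum_deg_sq (G := G)
  by_cases hχψ : χ = ψ
  · subst hχψ
    -- the trivial character
    have hone : Cfsg.Agent.Lib.Helper80_CharBasic.oneIrr G ≠ χ := by
      intro h
      apply hχ
      rw [← h]
      rfl
    have hdeg1 : deg (Cfsg.Agent.Lib.Helper80_CharBasic.oneIrr G) = 1 := by
      have := deg_spec (Cfsg.Agent.Lib.Helper80_CharBasic.oneIrr G)
      have h1 : ((Cfsg.Agent.Lib.Helper80_CharBasic.oneIrr G : Cfsg.IrrCharacter G) : G → ℂ) 1 = 1 :=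
        rfl
      rw [h1] at this
      exact_mod_cast this.symm
    have hsub : ∑ x ∈ ({Cfsg.Agent.Lib.Helper80_CharBasic.oneIrr G, χ} :
        Finset (Cfsg.IrrCharacter G)), deg x ^ 2 ≤ ∑ x : Cfsg.IrrCharacter G, deg x ^ 2 :=
      Finset.sum_le_sum_of_subset (Finset.subset_univ _)
    rw [Finset.sum_pair hone, hdeg1, hsum] at hsub
    nlinarith
  · have hsub : ∑ x ∈ ({χ, ψ} : Finset (Cfsg.IrrCharacter G)), deg x ^ 2 ≤
        ∑ x : Cfsg.IrrCharacter G, deg x ^ 2 :=
      Finset.sum_le_sum_of_subset (Finset.subset_univ _)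
    rw [Finset.sum_pair hχψ, hsum] at hsub
    nlinarith [sq_nonneg ((m : ℤ) - n)]

end Cfsg.Agent.Lib.Helper2_S4756_PRIME2a
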