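import Mathlib
import Cfsg.Agent.Lib.Helper80_S4756Defs
import Cfsg.Agent.Lib.Helper79_CharVals
import Cfsg.Agent.Lib.Helper3_CharBridge

/-!
# S4756-DEG (architect helper80; formalized by helper5)

An irreducible character vanishing on the nonidentity `q`-elements has degree divisible by the
full power of `q` dividing `|G|`.
-/

set_option autoImplicit false

namespace Cfsg.Agent.Lib.Helper5_S4756_DEG

open Cfsg.Agent.Lib.Helper80_S4756Defs

theorem deg {G : Type*} [Group G] [Finite G] (χ : Cfsg.IrrCharacter G) (q : ℕ) (hq : q.Prime)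
    (hv : ∀ (x : G) (a : ℕ), x ≠ 1 → orderOf x = q ^ a → (χ : G → ℂ) x = 0) (n : ℕ)
    (hn : (χ : G → ℂ) 1 = n) : q ^ (Nat.card G).factorization q ∣ n := by
  classical
  have : Fact q.Prime := ⟨hq⟩
  obtain ⟨Q⟩ : Nonempty (Sylow q G) := inferInstance
  have := Fintype.ofFinite (Q : Subgroup G)
  have hchar : Cfsg.IsCharacter G (χ : G → ℂ) :=
    Cfsg.Agent.Lib.Helper3_CharBridge.isCharacter_of_isIrrCharacter χ.2
  obtain ⟨d, hd⟩ := Cfsg.Agent.Lib.Helper79_CharVals.sum_subgroup_char hchar (Q : Subgroup G)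
  have hsum : ∑ z : (Q : Subgroup G), (χ : G → ℂ) z = n := by
    rw [← Finset.add_sum_erase Finset.univ _ (Finset.mem_univ (1 : (Q : Subgroup G)))]
    rw [Finset.sum_eq_zero, add_zero, Subgroup.coe_one, hn]
    intro z hz
    have hz1 : z ≠ 1 := Finset.ne_of_mem_erase hz
    obtain ⟨a, ha⟩ := (IsPGroup.iff_orderOf.mp Q.isPGroup') z
    apply hv (z : G) a (fun h => hz1 (Subtype.ext h))
    rw [Subgroup.orderOf_coe]
    exact ha
  rw [hsum] at hd
  have h1 : n = Nat.card (Q : Subgroup G) * d := by exact_mod_cast hd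
  rw [h1, Sylow.card_eq_multiplicity]
  exact dvd_mul_right _ _

end Cfsg.Agent.Lib.Helper5_S4756_DEG
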