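import Mathlib
import Cfsg.Agent.Lib.Helper80_S4756Defs
import Cfsg.Agent.Lib.Helper2_S4756_PRIME2a
import Cfsg.Agent.Lib.Helper5_S4756_DEG

set_option autoImplicit false

/-!
S4756-PRIME2: two nonlinear irreducible characters cannot vanish away from two different primes.
-/

namespace Cfsg.Agent.Lib.Helper2_S4756_PRIME2

open Cfsg.Agent.Lib.Helper80_S4756Defs

/-- **PRIME2**. -/
theorem prime2 {G : Type*} [Group G] [Finite G] (χ ψ : Cfsg.IrrCharacter G)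
    (hχ : (χ : G → ℂ) 1 ≠ 1) (hψ : (ψ : G → ℂ) 1 ≠ 1) (p r : ℕ) (hp : p.Prime) (hr : r.Prime)
    (hpr : p ≠ r) (hvχ : VanAway p (χ : G → ℂ)) (hvψ : VanAway r (ψ : G → ℂ)) : False :=
  Cfsg.Agent.Lib.Helper2_S4756_PRIME2a.prime2_aux
    (fun χ q hq hv n hn => Cfsg.Agent.Lib.Helper5_S4756_DEG.deg χ q hq hv n hn)
    χ ψ hχ hψ p r hp hr hpr hvχ hvψ

end Cfsg.Agent.Lib.Helper2_S4756_PRIME2
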