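import Mathlib
import Cfsg.Agent.Lib.Helper80_S4840Defs
import Cfsg.Agent.Lib.Helper12_Hup2

set_option autoImplicit false
set_option linter.style.haveILetI false

/-!
S4840-EXC: the exceptional configuration `Exc 3 Γ` is impossible for `|V| = 9` and `|V| = 81`.
-/

namespace Cfsg.Agent.Lib.Helper2_S4840_EXC

open Cfsg.Agent.Lib.Helper80_S4840Defs

universe u

/-- orbit-stabilizer count in a `GSetting` (this is package CARD; reproved here to keep the file
self-contained). -/
theorem card_aux {p : ℕ} [Fact p.Prime] {V : Type*} [AddCommGroup V] [Module (ZMod p) V] [Finite V]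
    [Nontrivial V] {Γ : Type*} [Group Γ] [Finite Γ] {ρ : Γ →* (V ≃ₗ[ZMod p] V)}
    (hS : GSetting p ρ) : ∃ k : ℕ, Nat.card Γ = (Nat.card V - 1) * p ^ k := by
  classical
  have hp : p.Prime := Fact.out
  -- the action on nonzero vectors
  let X := {v : V // v ≠ 0}
  letI : MulAction Γ X :=
    { smul := fun g v => ⟨ρ g v.1, by
        intro h
        exact v.2 ((ρ g).map_eq_zero_iff.mp h)⟩
      one_smul := fun v => by
        apply Subtype.ext
        change ρ 1 v.1 = v.1
        rw [map_one]; rfl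
      mul_smul := fun g h v => by
        apply Subtype.ext
        change ρ (g * h) v.1 = ρ g (ρ h v.1)
        rw [map_mul]; rfl }
  have hsmul : ∀ (g : Γ) (v : X), ((g • v : X) : V) = ρ g v.1 := fun _ _ => rfl
  obtain ⟨v0, hv0⟩ := exists_ne (0 : V)
  let x0 : X := ⟨v0, hv0⟩
  have horb : MulAction.orbit Γ x0 = Set.univ := by
    ext w
    simp only [Set.mem_univ, iff_true]
    obtain ⟨g, hg⟩ := hS.trans v0 w.1 hv0 w.2
    exact ⟨g, Subtype.ext hg⟩
  have hcardX : Nat.card X = Nat.card V - 1 := by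
    have : Nat.card X = Nat.card {v : V // v ≠ 0} := rfl
    rw [this]
    haveI := Fintype.ofFinite V
    rw [Nat.card_eq_fintype_card, Nat.card_eq_fintype_card, Fintype.card_subtype_compl,
      Fintype.card_subtype_eq]
  have hidx : (MulAction.stabilizer Γ x0).index = Nat.card X := by
    rw [MulAction.index_stabilizer, horb, Set.ncard_univ]
  have hpg : IsPGroup p (MulAction.stabilizer Γ x0) := by
    rw [IsPGroup.iff_orderOf]
    intro g
    have hg : ρ (g : Γ) v0 = v0 := by
      have := g.2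
      rw [MulAction.mem_stabilizer_iff] at this
      exact congrArg Subtype.val this
    obtain ⟨k, hk⟩ := hS.stab g v0 hv0 hg
    exact ⟨k, by rw [Subgroup.orderOf_coe] at hk; exact hk⟩
  obtain ⟨k, hk⟩ := IsPGroup.iff_card.mp hpg
  refine ⟨k, ?_⟩
  rw [← (MulAction.stabilizer Γ x0).index_mul_card, hidx, hcardX, hk]

theorem exc_aux {V : Type u} [AddCommGroup V] [Module (ZMod 3) V] [Finite V]
    [Nontrivial V] {Γ : Type*} [Group Γ] [Finite Γ] {ρ : Γ →* (V ≃ₗ[ZMod 3] V)}
    (hS : GSetting 3 ρ) (hV : Nat.card V = 9 ∨ Nat.card V = 81) (hE : Exc 3 Γ)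
    (hcard : ∃ k : ℕ, Nat.card Γ = (Nat.card V - 1) * 3 ^ k) : False := by
  classical
  obtain ⟨-, h16, R, hRn, hRnc, hR5⟩ := hE
  obtain ⟨k, hk⟩ := hcard
  rcases hV with hV | hV
  · rw [hV] at hk
    rw [hk] at h16
    have h2 : (2 : ℕ) ∣ 3 ^ k := by
      have : (8 * 2 : ℕ) ∣ 8 * 3 ^ k := by simpa using h16
      exact Nat.dvd_of_mul_dvd_mul_left (by norm_num) this
    have := (Nat.Prime.dvd_of_dvd_pow Nat.prime_two h2)
    omega
  · rw [hV] at hk
    have h5 : (5 : ℕ) ∣ Nat.card Γ := by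
      rw [hk]; exact Dvd.dvd.mul_right (by norm_num) _
    haveI : Fact (Nat.Prime 5) := ⟨by norm_num⟩
    obtain ⟨y, hy⟩ := exists_prime_orderOf_dvd_card' 5 h5
    let H : Subgroup (V ≃ₗ[ZMod 3] V) := ⊤
    let x : H := ⟨ρ y, Subgroup.mem_top _⟩
    have hx : orderOf x = 5 := by
      rw [← hy, ← orderOf_injective ρ hS.inj y, ← Subgroup.orderOf_coe]
    have hfr : Module.finrank (ZMod 3) V = 4 := by
      have h1 : Nat.card V = 3 ^ Module.finrank (ZMod 3) V := by
        have := Module.natCard_eq_pow_finrank (K := ZMod 3) (V := V)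
        rw [this, Nat.card_zmod]
      rw [hV] at h1
      have : (3 : ℕ) ^ 4 = 3 ^ Module.finrank (ZMod 3) V := by rw [← h1]; norm_num
      exact (Nat.pow_right_injective (by norm_num : 2 ≤ 3) this).symm
    have hirr : Cfsg.Agent.Lib.Helper12_Hup2.Irr H x := by
      apply Cfsg.Agent.Lib.Helper12_Hup2.irr_of_ppd H (by norm_num : Nat.Prime 5) x hx
      · rw [hfr]; norm_num
      · intro j hj0 hj4
        rw [hfr] at hj4
        interval_cases j <;> norm_num
      · rw [hfr]; norm_num
    apply hRnc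
    intro a ha b hb
    have hca := hR5 y hy a ha
    have hcb := hR5 y hy b hb
    let a' : H := ⟨ρ a, Subgroup.mem_top _⟩
    let b' : H := ⟨ρ b, Subgroup.mem_top _⟩
    have h1 : a' * x = x * a' := by
      apply Subtype.ext
      change ρ a * ρ y = ρ y * ρ a
      rw [← map_mul, ← map_mul, hca]
    have h2 : b' * x = x * b' := by
      apply Subtype.ext
      change ρ b * ρ y = ρ y * ρ b
      rw [← map_mul, ← map_mul, hcb]
    have h3 := Cfsg.Agent.Lib.Helper12_Hup2.comm_of_commute_irr H x hirr a' b' h1 h2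
    have h4 : ρ a * ρ b = ρ b * ρ a := congrArg Subtype.val h3
    apply hS.inj
    rw [map_mul, map_mul, h4]

/-- EXC. -/
theorem exc {V : Type*} [AddCommGroup V] [Module (ZMod 3) V] [Finite V]
    [Nontrivial V] {Γ : Type*} [Group Γ] [Finite Γ] {ρ : Γ →* (V ≃ₗ[ZMod 3] V)}
    (hS : GSetting 3 ρ) (hV : Nat.card V = 9 ∨ Nat.card V = 81) (hE : Exc 3 Γ) : False :=
  exc_aux hS hV hE (card_aux hS)

end Cfsg.Agent.Lib.Helper2_S4840_EXC
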