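import Mathlib
import Cfsg.Agent.Lib.Helper80_S4840Defs
import Cfsg.Agent.Lib.Helper1_Cores

set_option autoImplicit false
set_option linter.style.haveILetI false

/-!
S4840-FIT5, auxiliary part: the Fitting-subgroup argument with the packages FIT1-FIT4, NPC, NPCAB
taken as hypotheses.
-/

namespace Cfsg.Agent.Lib.Helper2_S4840_FIT5a

open Cfsg.Agent.Lib.Helper80_S4840Defs

theorem mem_of_pow_mem {Γ : Type*} [Group Γ] (N : Subgroup Γ) (g : Γ) (a : ℕ)
    (h : g ^ a ∈ N) (hc : Nat.Coprime a (orderOf g)) : g ∈ N := by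
  obtain ⟨m, hm⟩ := exists_pow_eq_self_of_coprime hc
  rw [← hm]; exact N.pow_mem h m

/-- a subgroup all of whose `p`-elements are trivial has order prime to `p`. -/
theorem card_coprime_of_pelts {Γ : Type*} [Group Γ] [Finite Γ] (p : ℕ) [Fact p.Prime]
    (M : Subgroup Γ) (h : ∀ g ∈ M, orderOf g = p → g = 1) : (Nat.card M).Coprime p := by
  have hp : p.Prime := Fact.out
  rw [Nat.coprime_comm, Nat.Prime.coprime_iff_not_dvd hp]
  intro hdvd
  obtain ⟨g, hg⟩ := exists_prime_orderOf_dvd_card' p hdvd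
  have h1 := h g.1 g.2 (by rw [Subgroup.orderOf_coe]; exact hg)
  rw [← Subgroup.orderOf_coe, h1, orderOf_one] at hg
  exact hp.one_lt.ne hg

/-- the core argument: `K ⊓ L` has only trivial `p`-elements, `Γ/K` abelian, `|Γ/L|` divides 6. -/
theorem core {Γ : Type*} [Group Γ] [Finite Γ] (p : ℕ) [Fact p.Prime] (hp2 : p ≠ 2)
    (hnpc : ∀ (M : Subgroup Γ), M.Normal → (Nat.card M).Coprime p →
      (∀ g : Γ, ∃ k : ℕ, g ^ (p ^ k) ∈ M) → Cfsg.HasNormalPComplement p Γ)
    (K L : Subgroup Γ) [hKn : K.Normal] [hLn : L.Normal]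
    (hK : ∀ x y : Γ, x * y * x⁻¹ * y⁻¹ ∈ K)
    (hA : ∀ g ∈ K ⊓ L, (∃ k : ℕ, orderOf g = p ^ k) → g = 1)
    (hL6 : L.index ∣ 6) :
    (∀ Q : Sylow p Γ, IsMulCommutative (Q : Subgroup Γ)) ∧
      (Cfsg.HasNormalPComplement p Γ ∨ (p = 3 ∧ L.index = 6)) := by
  classical
  have hp : p.Prime := Fact.out
  have hpodd : Odd p := hp.odd_of_ne_two hp2
  constructor
  · intro Q
    -- the image of Q in Γ/L
    let π := QuotientGroup.mk' L
    let Q' : Subgroup (Γ ⧸ L) := (Q : Subgroup Γ).map π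
    have hQ'p : IsPGroup p Q' := Q.2.map π
    obtain ⟨j, hj⟩ := IsPGroup.iff_card.mp hQ'p
    have hdvd6 : Nat.card Q' ∣ 6 := by
      refine dvd_trans (Subgroup.card_subgroup_dvd_card Q') ?_
      rw [← Subgroup.index_eq_card]
      exact hL6
    have hodd : Odd (Nat.card Q') := by rw [hj]; exact hpodd.pow
    have hdvd3 : Nat.card Q' ∣ 3 := by
      have : Nat.Coprime (Nat.card Q') 2 := Nat.Coprime.symm (Nat.coprime_two_left.mpr hodd)
      exact this.dvd_of_dvd_mul_left (by simpa using hdvd6)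
    have hcyc : IsCyclic Q' := by
      rcases (Nat.dvd_prime Nat.prime_three).mp hdvd3 with h1 | h3
      · haveI : Subsingleton Q' := (Nat.card_eq_one_iff_unique.mp h1).1
        exact isCyclic_of_subsingleton
      · haveI : Fact (Nat.Prime 3) := ⟨Nat.prime_three⟩
        exact isCyclic_of_prime_card h3
    have hcomm : ∀ a b : Q', a * b = b * a := by
      intro a b
      letI := hcyc.commGroup
      exact mul_comm a b
    have hQc : ∀ x ∈ (Q : Subgroup Γ), ∀ y ∈ (Q : Subgroup Γ), x * y = y * x := by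
      intro x hx y hy
      have hcK := hK x y
      have hcL : x * y * x⁻¹ * y⁻¹ ∈ L := by
        have hx' : π x ∈ Q' := Subgroup.mem_map_of_mem π hx
        have hy' : π y ∈ Q' := Subgroup.mem_map_of_mem π hy
        have h1 := congrArg Subtype.val (hcomm ⟨π x, hx'⟩ ⟨π y, hy'⟩)
        have h2 : π x * π y = π y * π x := h1
        rw [← QuotientGroup.ker_mk' L, MonoidHom.mem_ker]
        change π (x * y * x⁻¹ * y⁻¹) = 1
        rw [map_mul, map_mul, map_mul, h2, map_inv, map_inv]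
        group
      have hcQ : x * y * x⁻¹ * y⁻¹ ∈ (Q : Subgroup Γ) :=
        Subgroup.mul_mem _ (Subgroup.mul_mem _ (Subgroup.mul_mem _ hx hy)
          (Subgroup.inv_mem _ hx)) (Subgroup.inv_mem _ hy)
      obtain ⟨k, hk⟩ := (IsPGroup.iff_orderOf.mp Q.2) ⟨_, hcQ⟩
      have h1 := hA _ ⟨hcK, hcL⟩ ⟨k, by rw [← hk, ← Subgroup.orderOf_coe]⟩
      calc x * y = (x * y * x⁻¹ * y⁻¹) * (y * x) := by group
        _ = y * x := by rw [h1, one_mul]
    exact ⟨⟨fun a b => Subtype.ext (hQc a.1 a.2 b.1 b.2)⟩⟩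
  · -- the normal p-complement
    have hcard0 : Nat.card Γ ≠ 0 := Nat.card_pos.ne'
    set m := Nat.card Γ / p ^ (Nat.card Γ).factorization p with hm
    set pe := p ^ (Nat.card Γ).factorization p with hpe
    have hpem : pe * m = Nat.card Γ := Nat.ordProj_mul_ordCompl_eq_self (Nat.card Γ) p
    have hmcop : Nat.Coprime p m := Nat.coprime_ordCompl hp hcard0
    letI instC : CommGroup (Γ ⧸ K) :=
      { QuotientGroup.Quotient.group K with
        mul_comm := by
          intro a b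
          induction a using QuotientGroup.induction_on with
          | H x =>
            induction b using QuotientGroup.induction_on with
            | H y =>
              rw [← QuotientGroup.mk_mul, ← QuotientGroup.mk_mul, QuotientGroup.eq]
              have := hK y⁻¹ x⁻¹
              simpa [mul_assoc] using this }
    let φ : Γ →* (Γ ⧸ K) := (powMonoidHom m : (Γ ⧸ K) →* (Γ ⧸ K)).comp (QuotientGroup.mk' K)
    let M₀ : Subgroup Γ := φ.ker
    have hM₀n : M₀.Normal := MonoidHom.normal_ker φ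
    have hmem : ∀ g : Γ, g ∈ M₀ ↔ g ^ m ∈ K := by
      intro g
      change φ g = 1 ↔ _
      change ((QuotientGroup.mk' K g) ^ m = 1) ↔ _
      rw [← map_pow, QuotientGroup.mk'_apply, QuotientGroup.eq_one_iff]
    -- g ^ pe ∈ M₀
    have hpeM₀ : ∀ g : Γ, g ^ pe ∈ M₀ := by
      intro g
      rw [hmem, ← pow_mul, hpem, pow_card_eq_one']
      exact K.one_mem
    -- p-elements of M₀ lie in K
    have hpK : ∀ g ∈ M₀, ∀ k : ℕ, orderOf g = p ^ k → g ∈ K := by
      intro g hg k hk
      apply mem_of_pow_mem K g m ((hmem g).mp hg)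
      rw [hk]
      exact Nat.Coprime.pow_right k hmcop.symm
    by_cases hcop : Nat.Coprime L.index p
    · left
      apply hnpc M₀ hM₀n
      · apply card_coprime_of_pelts
        intro g hg hgo
        have hgK : g ∈ K := hpK g hg 1 (by rw [hgo, pow_one])
        have hgL : g ∈ L := by
          apply mem_of_pow_mem L g L.index (L.pow_index_mem g)
          rw [hgo]; exact hcop
        exact hA g ⟨hgK, hgL⟩ ⟨1, by rw [hgo, pow_one]⟩
      · intro g
        exact ⟨_, hpeM₀ g⟩
    · have hpL : p ∣ L.index := by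
        by_contra h
        exact hcop ((Nat.Prime.coprime_iff_not_dvd hp).mpr h).symm
      have hp6 : p ∣ 6 := dvd_trans hpL hL6
      have hp3 : p = 3 := by
        have : p ∣ 2 * 3 := by simpa using hp6
        rcases (Nat.Prime.dvd_mul hp).mp this with h | h
        · exact absurd ((Nat.prime_dvd_prime_iff_eq hp Nat.prime_two).mp h) hp2
        · exact (Nat.prime_dvd_prime_iff_eq hp Nat.prime_three).mp h
      subst hp3
      have hidx : L.index = 3 ∨ L.index = 6 := by
        have hle : L.index ≤ 6 := Nat.le_of_dvd (by norm_num) hL6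
        obtain ⟨c, hc⟩ := hpL
        have : c ≤ 2 := by omega
        interval_cases c
        · simp [hc] at hL6
        · left; omega
        · right; omega
      rcases hidx with h3 | h6
      · left
        apply hnpc (M₀ ⊓ L) inferInstance
        · apply card_coprime_of_pelts
          intro g hg hgo
          have hgK : g ∈ K := hpK g hg.1 1 (by rw [hgo, pow_one])
          exact hA g ⟨hgK, hg.2⟩ ⟨1, by rw [hgo, pow_one]⟩
        · intro g
          refine ⟨(Nat.card Γ).factorization 3 + 1, ?_⟩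
          constructor
          · rw [pow_succ, pow_mul]
            exact M₀.pow_mem (hpeM₀ g) 3
          · rw [pow_succ, mul_comm, pow_mul]
            apply L.pow_mem
            have := L.pow_index_mem g
            rwa [h3] at this
      · right
        exact ⟨rfl, h6⟩

/-- FIT5 with the packages FIT1-FIT4, NPC, NPCAB as hypotheses. -/
theorem fit_aux {Γ : Type*} [Group Γ] [Finite Γ] (p : ℕ) [Fact p.Prime]
    (h1 : ∀ g : Γ, (∃ k : ℕ, orderOf g = p ^ k) →
      (∀ r : ℕ, r.Prime → r ≠ p → ∀ x ∈ Cfsg.pCore r Γ, g * x = x * g) → g = 1)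
    (h2 : ∀ (R : Subgroup Γ), R.Normal → IsCyclic R → ∀ x y : Γ, ∀ a ∈ R,
      (x * y * x⁻¹ * y⁻¹) * a = a * (x * y * x⁻¹ * y⁻¹))
    (h3 : ∀ (R : Subgroup Γ), R.Normal → ∀ n : ℕ, (R ≃* QuaternionGroup (2 ^ n)) →
      ∃ L : Subgroup Γ, L.Normal ∧ R ≤ L ∧ L.index ∣ 6 ∧
        ∀ g ∈ L, Odd (orderOf g) → ∀ a ∈ R, g * a = a * g)
    (h4 : ∀ (R : Subgroup Γ) (n : ℕ), (R ≃* QuaternionGroup (2 ^ n)) → ¬ IsCyclic R →
      (¬ ∀ a ∈ R, ∀ b ∈ R, a * b = b * a) ∧ 8 ∣ Nat.card R)
    (hnpc : ∀ (M : Subgroup Γ), M.Normal → (Nat.card M).Coprime p →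
      (∀ g : Γ, ∃ k : ℕ, g ^ (p ^ k) ∈ M) → Cfsg.HasNormalPComplement p Γ)
    (hnpcab : ∀ (A : Subgroup Γ), A.Normal → (Nat.card A).Coprime p →
      (∀ x y : Γ, x * y * x⁻¹ * y⁻¹ ∈ A) → Concl p Γ)
    (hcyc : ∀ r : ℕ, r.Prime → r ≠ p → (IsCyclic (Cfsg.pCore r Γ) ∨
      (r = 2 ∧ ∃ n : ℕ, Nonempty (Cfsg.pCore r Γ ≃* QuaternionGroup (2 ^ n))))) :
    (∀ Q : Sylow p Γ, IsMulCommutative (Q : Subgroup Γ)) ∧
      (Cfsg.HasNormalPComplement p Γ ∨ Exc p Γ) := by
  classical
  have hp : p.Prime := Fact.out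
  by_cases hall : ∀ r : ℕ, r.Prime → r ≠ p → IsCyclic (Cfsg.pCore r Γ)
  · -- Case 1
    let I := {r : ℕ // r.Prime ∧ r ≠ p}
    let A : Subgroup Γ := ⨅ r : I, Subgroup.centralizer (Cfsg.pCore r.1 Γ : Set Γ)
    have hAn : A.Normal := Subgroup.normal_iInf_normal (fun r => inferInstance)
    have hAc : ∀ x y : Γ, x * y * x⁻¹ * y⁻¹ ∈ A := by
      intro x y
      rw [Subgroup.mem_iInf]
      intro r
      rw [Subgroup.mem_centralizer_iff]
      intro a ha
      exact (h2 _ inferInstance (hall r.1 r.2.1 r.2.2) x y a ha).symm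
    have hAp : (Nat.card A).Coprime p := by
      apply card_coprime_of_pelts
      intro g hg hgo
      apply h1 g ⟨1, by rw [hgo, pow_one]⟩
      intro r hr hrp x hx
      have := (Subgroup.mem_iInf.mp hg) ⟨r, hr, hrp⟩
      rw [Subgroup.mem_centralizer_iff] at this
      exact (this x hx).symm
    obtain ⟨hc1, hc2⟩ := hnpcab A hAn hAp hAc
    exact ⟨hc2, Or.inl hc1⟩
  · -- Case 2
    push Not at hall
    obtain ⟨r, hr, hrp, hnc⟩ := hall
    rcases hcyc r hr hrp with hc | ⟨hr2, n, ⟨e⟩⟩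
    · exact absurd hc hnc
    subst hr2
    have hp2 : p ≠ 2 := fun h => hrp h.symm
    have hpodd : Odd p := hp.odd_of_ne_two hp2
    obtain ⟨L, hLn, hRL, hL6, hLodd⟩ := h3 (Cfsg.pCore 2 Γ) inferInstance n e
    let I := {r : ℕ // r.Prime ∧ r ≠ p ∧ r ≠ 2}
    let K : Subgroup Γ := ⨅ r : I, Subgroup.centralizer (Cfsg.pCore r.1 Γ : Set Γ)
    have hKn : K.Normal := Subgroup.normal_iInf_normal (fun r => inferInstance)
    have hIc : ∀ r : I, IsCyclic (Cfsg.pCore r.1 Γ) := by
      intro r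
      rcases hcyc r.1 r.2.1 r.2.2.1 with hc | ⟨hr2, -⟩
      · exact hc
      · exact absurd hr2 r.2.2.2
    have hK : ∀ x y : Γ, x * y * x⁻¹ * y⁻¹ ∈ K := by
      intro x y
      rw [Subgroup.mem_iInf]
      intro r
      rw [Subgroup.mem_centralizer_iff]
      intro a ha
      exact (h2 _ inferInstance (hIc r) x y a ha).symm
    have hA : ∀ g ∈ K ⊓ L, (∃ k : ℕ, orderOf g = p ^ k) → g = 1 := by
      intro g hg hgo
      apply h1 g hgo
      intro r hr hrp x hx
      by_cases hr2 : r = 2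
      · subst hr2
        obtain ⟨k, hk⟩ := hgo
        exact hLodd g hg.2 (by rw [hk]; exact hpodd.pow) x hx
      · have := (Subgroup.mem_iInf.mp hg.1) ⟨r, hr, hrp, hr2⟩
        rw [Subgroup.mem_centralizer_iff] at this
        exact (this x hx).symm
    obtain ⟨hs, hnp | ⟨hp3, hidx⟩⟩ := core p hp2 hnpc K L hK hA hL6
    · exact ⟨hs, Or.inl hnp⟩
    · refine ⟨hs, Or.inr ⟨hp3, ?_, Cfsg.pCore 2 Γ, inferInstance, (h4 _ n e hnc).1, ?_⟩⟩
      · have h8 : 8 ∣ Nat.card L :=
          dvd_trans (h4 _ n e hnc).2 (Subgroup.card_dvd_of_le hRL)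
        obtain ⟨c, hc⟩ := h8
        rw [← L.index_mul_card, hidx, hc]
        exact ⟨3 * c, by ring⟩
      · intro y hy a ha
        have hyL : y ∈ L := by
          have h6 := L.pow_index_mem y
          rw [hidx] at h6
          have : y ^ 6 = y := by
            have h5 : y ^ 5 = 1 := by rw [← hy]; exact pow_orderOf_eq_one y
            rw [show (6 : ℕ) = 5 + 1 from rfl, pow_succ, h5, one_mul]
          rwa [this] at h6
        exact hLodd y hyL (by rw [hy]; decide) a ha

end Cfsg.Agent.Lib.Helper2_S4840_FIT5a
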