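import Mathlib
import Cfsg.Agent.Lib.Helper80_S4840Defs
import Cfsg.Agent.Lib.Helper1_Cores
import Cfsg.Agent.S1264
set_option autoImplicit false
namespace Cfsg.Agent.Lib.Helper73_S4840_FIT1
open Cfsg.Agent.Lib.Helper80_S4840Defs Cfsg.Agent.Lib.Helper1_Cores
universe u

/-- A normal nilpotent subgroup of a finite group with trivial `p`-core has order prime to `p`. -/
lemma not_dvd_card_of_nilpotent {Γ : Type*} [Group Γ] [Finite Γ] (p : ℕ) [Fact p.Prime]
    (hOp : Cfsg.pCore p Γ = ⊥) (F : Subgroup Γ) [F.Normal] (hF : Group.IsNilpotent F) :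
    ¬ p ∣ Nat.card F := by
  obtain ⟨P⟩ : Nonempty (Sylow p F) := inferInstance
  have h03 := (Group.isNilpotent_of_finite_tfae (G := F)).out 0 3
  have hPn : (P : Subgroup F).Normal := (h03.mp hF) p inferInstance P
  have hPc : (P : Subgroup F).Characteristic := P.characteristic_of_normal hPn
  have hnorm : ((P : Subgroup F).map F.subtype).Normal := inferInstance
  have hle : (P : Subgroup F).map F.subtype ≤ Cfsg.pCore p Γ :=
    le_pCore hnorm (P.isPGroup'.map _)
  rw [hOp, le_bot_iff, Subgroup.map_eq_bot_iff_of_injective _ (Subgroup.subtype_injective F)] at hle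
  have h1 := P.not_dvd_index
  rw [hle, Subgroup.index_bot] at h1
  exact h1

theorem fit1 {Γ : Type*} [Group Γ] [Finite Γ] (hsolv : Group.IsSolvable Γ) (p : ℕ) [Fact p.Prime]
    (hOp : Cfsg.pCore p Γ = ⊥) (g : Γ) (hg : ∃ k : ℕ, orderOf g = p ^ k)
    (hc : ∀ r : ℕ, r.Prime → r ≠ p → ∀ x ∈ Cfsg.pCore r Γ, g * x = x * g) : g = 1 := by
  have hp : p.Prime := Fact.out
  set F := Cfsg.fittingSubgroup Γ with hFdef
  have hFn : F.Normal := fittingSubgroup_normal
  -- g centralizes F
  have hFle : F ≤ Subgroup.centralizer ({g} : Set Γ) := by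
    rw [hFdef, fittingSubgroup_eq_iSup_pCore]
    refine iSup_le (fun r => ?_)
    intro x hx
    rw [Subgroup.mem_centralizer_iff]
    intro y hy
    rw [Set.mem_singleton_iff] at hy
    subst hy
    by_cases hrp : (r : ℕ) = p
    · rw [hrp, hOp, Subgroup.mem_bot] at hx
      rw [hx, mul_one, one_mul]
    · exact hc r r.2 hrp x hx
  have hgC : g ∈ Subgroup.centralizer (F : Set Γ) := by
    rw [Subgroup.mem_centralizer_iff]
    intro x hx
    have := hFle hx
    rw [Subgroup.mem_centralizer_iff] at this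
    exact (this g (Set.mem_singleton g)).symm
  -- C_Γ(F) ≤ F
  have hCF : Subgroup.centralizer (F : Set Γ) ≤ F := by
    have h := Cfsg.Agent.S1264.result (G := Γ) (Subgroup.centralizer (F : Set Γ)) le_rfl
      Subgroup.le_normalizer inferInstance
    intro x hx
    obtain ⟨y, _, rfl⟩ := h hx
    exact y.2
  have hgF : g ∈ F := hCF hgC
  have hnd : ¬ p ∣ Nat.card F := not_dvd_card_of_nilpotent p hOp F fittingSubgroup_isNilpotent
  obtain ⟨k, hk⟩ := hg
  have hdvd : orderOf g ∣ Nat.card F := by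
    have := orderOf_dvd_natCard (⟨g, hgF⟩ : F)
    rwa [← Subgroup.orderOf_coe] at this
  have hk0 : k = 0 := by
    by_contra hk0
    apply hnd
    rw [hk] at hdvd
    exact dvd_trans (dvd_pow_self p hk0) hdvd
  rw [hk0, pow_zero] at hk
  exact orderOf_eq_one_iff.mp hk

end Cfsg.Agent.Lib.Helper73_S4840_FIT1
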