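import Mathlib
import Cfsg.Agent.Lib.Helper80_S4840Defs

set_option autoImplicit false

namespace Cfsg.Agent.Lib.Helper80_S4840_FIT2

open Cfsg.Agent.Lib.Helper80_S4840Defs

/-- FIT2: commutators centralize a normal cyclic subgroup. -/
theorem fit2 {Γ : Type*} [Group Γ] (R : Subgroup Γ) [R.Normal] (hR : IsCyclic R) (x y : Γ) :
    ∀ a ∈ R, (x * y * x⁻¹ * y⁻¹) * a = a * (x * y * x⁻¹ * y⁻¹) := by
  intro a ha
  haveI := hR
  have hcomm : ∀ f g : MulAut R, f * g = g * f := by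
    intro f g
    apply (IsCyclic.mulAutMulEquiv R).injective
    rw [map_mul, map_mul, mul_comm]
  have h1 : MulAut.conjNormal (H := R) (x * y * x⁻¹ * y⁻¹) = 1 := by
    rw [map_mul, map_mul, map_mul, map_inv, map_inv]
    rw [hcomm (MulAut.conjNormal x) (MulAut.conjNormal y)]
    simp
  have h2 := congrArg (fun f : MulAut R => ((f ⟨a, ha⟩ : R) : Γ)) h1
  simp only [MulAut.conjNormal_apply, MulAut.one_apply] at h2
  calc (x * y * x⁻¹ * y⁻¹) * a
      = ((x * y * x⁻¹ * y⁻¹) * a * (x * y * x⁻¹ * y⁻¹)⁻¹) * (x * y * x⁻¹ * y⁻¹) := by group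
    _ = a * (x * y * x⁻¹ * y⁻¹) := by rw [h2]

end Cfsg.Agent.Lib.Helper80_S4840_FIT2
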