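import Mathlib
import Cfsg.Agent.Lib.Helper80_S4840Defs

set_option autoImplicit false

namespace Cfsg.Agent.Lib.Helper80_S4840_FIT4

open Cfsg.Agent.Lib.Helper80_S4840Defs

/-- FIT4: a noncyclic generalized quaternion group is nonabelian of order divisible by 8. -/
theorem fit4 {Γ : Type*} [Group Γ] (R : Subgroup Γ) (n : ℕ)
    (e : R ≃* QuaternionGroup (2 ^ n)) (hR : ¬ IsCyclic R) :
    (¬ ∀ a ∈ R, ∀ b ∈ R, a * b = b * a) ∧ 8 ∣ Nat.card R := by
  have hn : n ≠ 0 := by
    rintro rfl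
    apply hR
    haveI : IsCyclic (QuaternionGroup (2 ^ 0)) := by
      rw [pow_zero]
      exact QuaternionGroup.quaternionGroup_one_isCyclic
    exact isCyclic_of_surjective e.symm.toMonoidHom e.symm.surjective
  obtain ⟨m, rfl⟩ := Nat.exists_eq_succ_of_ne_zero hn
  haveI : NeZero (2 ^ (m + 1)) := ⟨by positivity⟩
  constructor
  · intro hcomm
    set u : R := e.symm (QuaternionGroup.a 1) with hu
    set v : R := e.symm (QuaternionGroup.xa 0) with hv
    have h1 : u * v = v * u := Subtype.ext (hcomm u u.2 v v.2)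
    have h2 := congrArg e h1
    rw [map_mul, map_mul, hu, hv, e.apply_symm_apply, e.apply_symm_apply,
      QuaternionGroup.a_mul_xa, QuaternionGroup.xa_mul_a] at h2
    have h3 : (0 - 1 : ZMod (2 * 2 ^ (m + 1))) = 0 + 1 := by
      injection h2
    have h4 : (2 : ZMod (2 * 2 ^ (m + 1))) = 0 := by
      have : (1 : ZMod (2 * 2 ^ (m + 1))) + 1 = 0 := by
        calc (1 : ZMod (2 * 2 ^ (m + 1))) + 1 = (0 + 1) + 1 := by ring
          _ = (0 - 1) + 1 := by rw [h3]
          _ = 0 := by ring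
      rw [← this]; norm_num
    have h5 : ((2 : ℕ) : ZMod (2 * 2 ^ (m + 1))) = 0 := by exact_mod_cast h4
    rw [ZMod.natCast_eq_zero_iff] at h5
    have h6 : 2 * 2 ^ (m + 1) ≤ 2 := Nat.le_of_dvd (by norm_num) h5
    have h7 : 2 ≤ 2 ^ (m + 1) := by
      calc 2 = 2 ^ 1 := by norm_num
        _ ≤ 2 ^ (m + 1) := Nat.pow_le_pow_right (by norm_num) (by omega)
    omega
  · rw [Nat.card_congr e.toEquiv, Nat.card_eq_fintype_card, QuaternionGroup.card]
    refine ⟨2 ^ m, ?_⟩
    rw [pow_succ]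
    ring

end Cfsg.Agent.Lib.Helper80_S4840_FIT4
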