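import Mathlib
import Cfsg.Agent.Lib.Helper80_S4840Defs
import Cfsg.Agent.S0012
import Cfsg.Agent.S0029

/-!
# S4840 package `FIT3` (helper8): a normal (generalized) quaternion subgroup `R`: the kernel `L` of the
action on the Frattini quotient of `R` has index dividing `6`, contains `R`, and its elements of
odd order centralize `R`.
-/

set_option autoImplicit false

namespace Cfsg.Agent.Lib.Helper8_S4840_FIT3

open Cfsg.Agent.Lib.Helper80_S4840Defs
open scoped commutatorElement

universe u

section quot

variable {R : Type*} [Group R]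

theorem map_frattini (φ : MulAut R) : (frattini R).map (φ : R →* R) = frattini R :=
  (Subgroup.characteristic_iff_map_eq.1 (frattini_characteristic (G := R))) φ

/-- automorphisms act on the Frattini quotient -/
def frattQuot : MulAut R →* MulAut (R ⧸ frattini R) where
  toFun φ := QuotientGroup.congr (frattini R) (frattini R) φ (map_frattini φ)
  map_one' := by
    apply MulEquiv.ext
    intro x
    induction x using QuotientGroup.induction_on with
    | H x => rfl
  map_mul' := by
    intro φ ψ
    apply MulEquiv.ext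
    intro x
    induction x using QuotientGroup.induction_on with
    | H x => rfl

theorem frattQuot_mk (φ : MulAut R) (x : R) :
    frattQuot φ (QuotientGroup.mk x) = QuotientGroup.mk (φ x) := rfl

end quot

section perm

variable {W : Type*} [Group W]

/-- automorphisms permute the nonidentity elements -/
def autPerm : MulAut W →* Equiv.Perm {w : W // w ≠ 1} where
  toFun φ := φ.toEquiv.subtypeEquiv (fun w => by
    show w ≠ 1 ↔ φ w ≠ 1
    rw [Ne, Ne, map_eq_one_iff φ φ.injective])
  map_one' := by
    apply Equiv.ext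
    intro w
    rfl
  map_mul' := by
    intro φ ψ
    apply Equiv.ext
    intro w
    rfl

theorem autPerm_apply (φ : MulAut W) (w : {w : W // w ≠ 1}) :
    ((autPerm φ w : {w : W // w ≠ 1}) : W) = φ w := rfl

theorem autPerm_injective : Function.Injective (autPerm (W := W)) := by
  rw [injective_iff_map_eq_one]
  intro φ hφ
  apply MulEquiv.ext
  intro w
  by_cases hw : w = 1
  · rw [hw, map_one]
    rfl
  · have h := autPerm_apply φ ⟨w, hw⟩
    rw [hφ] at h
    exact h.symm

end perm

theorem fact_dvd_six {k : ℕ} (hk : k ∣ 4) : (k - 1).factorial ∣ 6 := by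
  have hle : k ≤ 4 := Nat.le_of_dvd (by norm_num) hk
  interval_cases k
  · simp at hk
  · decide
  · decide
  · norm_num at hk
  · decide

theorem fit3 {Γ : Type*} [Group Γ] [Finite Γ] (R : Subgroup Γ) [R.Normal] (n : ℕ)
    (e : R ≃* QuaternionGroup (2 ^ n)) :
    ∃ L : Subgroup Γ, L.Normal ∧ R ≤ L ∧ L.index ∣ 6 ∧
      ∀ g ∈ L, Odd (orderOf g) → ∀ a ∈ R, g * a = a * g := by
  classical
  have : Fact (Nat.Prime 2) := ⟨Nat.prime_two⟩
  -- the order of `R`
  have hcardR : Nat.card R = 4 * 2 ^ n := by
    rw [Nat.card_congr e.toEquiv, Nat.card_eq_fintype_card, QuaternionGroup.card]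
  have hP : IsPGroup 2 R := by
    apply IsPGroup.of_card (n := n + 2)
    rw [hcardR]
    ring
  obtain ⟨hcomm, hsq⟩ := Cfsg.Agent.S0012.result 2 hP
  -- the Frattini subgroup is large
  let r1 : R := e.symm (QuaternionGroup.a 1)
  have hord1 : orderOf r1 = 2 * 2 ^ n := by
    rw [MulEquiv.orderOf_eq e.symm, QuaternionGroup.orderOf_a_one]
  have hord2 : orderOf (r1 ^ 2) = 2 ^ n := by
    rw [orderOf_pow' r1 two_ne_zero, hord1]
    have : Nat.gcd (2 * 2 ^ n) 2 = 2 := Nat.gcd_eq_right (Dvd.intro _ rfl)
    rw [this]
    exact Nat.mul_div_cancel_left _ (by norm_num)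
  have hdvdΦ : 2 ^ n ∣ Nat.card (frattini R) := by
    have h1 : orderOf (⟨r1 ^ 2, hsq r1⟩ : frattini R) = orderOf (r1 ^ 2) := Subgroup.orderOf_mk _ _
    rw [← hord2, ← h1]
    exact orderOf_dvd_natCard _
  have hW4 : Nat.card (R ⧸ frattini R) ∣ 4 := by
    obtain ⟨c, hc⟩ := hdvdΦ
    have h1 := Subgroup.card_eq_card_quotient_mul_card_subgroup (frattini R)
    rw [hcardR, hc] at h1
    have h2 : 4 = Nat.card (R ⧸ frattini R) * c := by
      have hpos : 0 < 2 ^ n := by positivity
      apply Nat.eq_of_mul_eq_mul_left hpos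
      calc 2 ^ n * 4 = 4 * 2 ^ n := by ring
        _ = Nat.card (R ⧸ frattini R) * (2 ^ n * c) := h1
        _ = 2 ^ n * (Nat.card (R ⧸ frattini R) * c) := by ring
    exact Dvd.intro _ h2.symm
  -- the action
  let τ : Γ →* Equiv.Perm {w : R ⧸ frattini R // w ≠ 1} :=
    autPerm.comp (frattQuot.comp (MulAut.conjNormal (H := R)))
  have hτ : ∀ g : Γ, τ g = 1 ↔ ∀ k : R, (QuotientGroup.mk (MulAut.conjNormal g k) : R ⧸ frattini R)
      = QuotientGroup.mk k := by
    intro g
    constructor
    · intro h k
      have h1 : autPerm (frattQuot (MulAut.conjNormal g : MulAut R)) = 1 := h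
      have h2 : frattQuot (MulAut.conjNormal g : MulAut R) = 1 := by
        apply autPerm_injective
        rw [h1, map_one]
      have h3 := frattQuot_mk (MulAut.conjNormal g : MulAut R) k
      rw [h2] at h3
      exact h3.symm
    · intro h
      have h2 : frattQuot (MulAut.conjNormal g : MulAut R) = 1 := by
        apply MulEquiv.ext
        intro w
        induction w using QuotientGroup.induction_on with
        | H k =>
          rw [frattQuot_mk, h k]
          rfl
      show autPerm (frattQuot (MulAut.conjNormal g : MulAut R)) = 1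
      rw [h2, map_one]
  refine ⟨τ.ker, inferInstance, ?_, ?_, ?_⟩
  · -- `R ≤ L`
    intro r hr
    rw [MonoidHom.mem_ker, hτ]
    intro k
    rw [eq_comm, QuotientGroup.eq]
    apply hcomm
    have h1 : k⁻¹ * (MulAut.conjNormal r k : R) = ⁅k⁻¹, (⟨r, hr⟩ : R)⁆ := by
      apply Subtype.ext
      rw [commutatorElement_def, Subgroup.coe_mul, MulAut.conjNormal_apply]
      simp only [Subgroup.coe_mul, Subgroup.coe_inv, inv_inv]
      group
    rw [h1]
    exact Subgroup.commutator_mem_commutator (Subgroup.mem_top _) (Subgroup.mem_top _)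
  · -- the index
    rw [Subgroup.index_ker]
    have h1 : Nat.card τ.range ∣ Nat.card (Equiv.Perm {w : R ⧸ frattini R // w ≠ 1}) :=
      Subgroup.card_subgroup_dvd_card _
    have h2 : Nat.card (Equiv.Perm {w : R ⧸ frattini R // w ≠ 1}) =
        (Nat.card (R ⧸ frattini R) - 1).factorial := by
      have : Fintype (R ⧸ frattini R) := Fintype.ofFinite _
      rw [Nat.card_eq_fintype_card, Fintype.card_perm, Fintype.card_subtype_compl,
        Fintype.card_subtype_eq, Nat.card_eq_fintype_card]
    rw [h2] at h1
    exact h1.trans (fact_dvd_six hW4)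
  · -- odd order elements
    intro g hg hodd a ha
    have hsub : Subgroup.zpowers g ≤ τ.ker := by
      rw [Subgroup.zpowers_le]
      exact hg
    have hcen := Cfsg.Agent.S0029.result (Subgroup.zpowers g) R
      (by
        rw [Subgroup.normalizer_eq_top]
        exact le_top)
      (by
        rw [Nat.card_zpowers]
        have h1 : Nat.card (frattini R) ∣ 2 ^ (n + 2) := by
          have h2 : Nat.card (frattini R) ∣ Nat.card R := Subgroup.card_subgroup_dvd_card _
          rw [hcardR] at h2
          have : 4 * 2 ^ n = 2 ^ (n + 2) := by ring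
          rw [this] at h2
          exact h2
        obtain ⟨j, -, hj⟩ := (Nat.dvd_prime_pow Nat.prime_two).1 h1
        rw [hj]
        apply Nat.Coprime.pow_right
        exact Nat.coprime_two_right.2 hodd)
      (by
        intro x hx k hk
        have hx' : τ x = 1 := hsub hx
        have h1 := (hτ x).1 hx' ⟨k, hk⟩
        have h2 : (MulAut.conjNormal x (⟨k, hk⟩ : R)) * (⟨k, hk⟩ : R)⁻¹ ∈ frattini R := by
          rw [← QuotientGroup.eq_one_iff, QuotientGroup.mk_mul, QuotientGroup.mk_inv, h1,
            mul_inv_cancel]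
        refine ⟨_, h2, ?_⟩
        rw [Subgroup.coe_subtype, Subgroup.coe_mul, MulAut.conjNormal_apply, Subgroup.coe_inv])
    have h3 := (Subgroup.mem_centralizer_iff.1 (hcen (Subgroup.mem_zpowers g))) a ha
    exact h3.symm

end Cfsg.Agent.Lib.Helper8_S4840_FIT3
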