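import Mathlib
import Cfsg.Agent.Lib.Helper80_S4840Defs
import Cfsg.Agent.Lib.Helper2_S4840_FIT5a
import Cfsg.Agent.Lib.Helper73_S4840_FIT1
import Cfsg.Agent.Lib.Helper80_S4840_FIT2
import Cfsg.Agent.Lib.Helper8_S4840_FIT3
import Cfsg.Agent.Lib.Helper80_S4840_FIT4
import Cfsg.Agent.Lib.Helper10_S4840_NPC
import Cfsg.Agent.Lib.Helper10_S4840_NPCAB

set_option autoImplicit false
set_option linter.style.haveILetI false

/-!
S4840-FIT5: the Fitting-subgroup argument (assembly of FIT1-FIT4, NPC, NPCAB via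
`Helper2_S4840_FIT5a.fit_aux`).
-/

namespace Cfsg.Agent.Lib.Helper2_S4840_FIT5

open Cfsg.Agent.Lib.Helper80_S4840Defs

universe u

/-- FIT5. -/
theorem fit {Γ : Type*} [Group Γ] [Finite Γ] (hsolv : Group.IsSolvable Γ) (p : ℕ) [Fact p.Prime]
    (hOp : Cfsg.pCore p Γ = ⊥)
    (hcyc : ∀ r : ℕ, r.Prime → r ≠ p → (IsCyclic (Cfsg.pCore r Γ) ∨
      (r = 2 ∧ ∃ n : ℕ, Nonempty (Cfsg.pCore r Γ ≃* QuaternionGroup (2 ^ n))))) :
    (∀ Q : Sylow p Γ, IsMulCommutative (Q : Subgroup Γ)) ∧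
      (Cfsg.HasNormalPComplement p Γ ∨ Exc p Γ) := by
  apply Cfsg.Agent.Lib.Helper2_S4840_FIT5a.fit_aux p
  · intro g hg hc
    exact Cfsg.Agent.Lib.Helper73_S4840_FIT1.fit1 hsolv p hOp g hg hc
  · intro R hRn hRc x y a ha
    haveI := hRn
    exact Cfsg.Agent.Lib.Helper80_S4840_FIT2.fit2 R hRc x y a ha
  · intro R hRn n e
    haveI := hRn
    exact Cfsg.Agent.Lib.Helper8_S4840_FIT3.fit3 R n e
  · intro R n e hnc
    exact Cfsg.Agent.Lib.Helper80_S4840_FIT4.fit4 R n e hnc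
  · intro M hMn hM hq
    haveI := hMn
    exact Cfsg.Agent.Lib.Helper10_S4840_NPC.npc p M hM hq
  · intro A hAn hA hab
    haveI := hAn
    exact Cfsg.Agent.Lib.Helper10_S4840_NPCAB.npcab p A hA hab
  · exact hcyc

end Cfsg.Agent.Lib.Helper2_S4840_FIT5
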