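import Mathlib
import Cfsg.Agent.Lib.Helper76_S5320Defs
import Cfsg.Agent.Lib.Helper76_S5320Bas

set_option autoImplicit false
set_option linter.unusedVariables false

/-!
S5320-CENTZ (helper76's market): an element of `Sp₄` commuting with `zt = diag(-1,1,-1,1)` up to sign has
the shape `blk p` or `blk p * tau`.
-/

open Matrix Cfsg.Agent.Lib.Helper42_SL2Class Cfsg.Agent.Lib.Helper76_S5320Defs
  Cfsg.Agent.Lib.Helper76_S5320Bas

namespace Cfsg.Agent.Lib.Helper2_S5320_CENTZ

variable {F : Type*} [Field F]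

theorem ztM_eq : ((zt : Sp4 F) : Matrix (Fin 2 ⊕ Fin 2) (Fin 2 ⊕ Fin 2) F) =
    blkM (-(1 : Matrix (Fin 2) (Fin 2) F)) 1 := rfl

/-- the `+` case: an element commuting with `zt` is block diagonal -/
theorem plus (h2 : (2 : F) ≠ 0) (g : Sp4 F) (hg : g * zt = zt * g) : ∃ p : SL2 F × SL2 F, g = blk p := by
  have hM : g.1 * blkM (-(1 : Matrix (Fin 2) (Fin 2) F)) 1 =
      blkM (-(1 : Matrix (Fin 2) (Fin 2) F)) 1 * g.1 := by
    have := congrArg Subtype.val hg
    exact this
  have key : ∀ x : F, x = -x → x = 0 := by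
    intro x hx
    have : (2 : F) * x = 0 := by linear_combination hx
    exact (mul_eq_zero.mp this).resolve_left h2
  -- vanishing entries
  have e01 := congrFun (congrFun hM (Sum.inl 0)) (Sum.inl 1)
  have e03 := congrFun (congrFun hM (Sum.inl 0)) (Sum.inr 1)
  have e21 := congrFun (congrFun hM (Sum.inr 0)) (Sum.inl 1)
  have e23 := congrFun (congrFun hM (Sum.inr 0)) (Sum.inr 1)
  have e10 := congrFun (congrFun hM (Sum.inl 1)) (Sum.inl 0)
  have e12 := congrFun (congrFun hM (Sum.inl 1)) (Sum.inr 0)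
  have e30 := congrFun (congrFun hM (Sum.inr 1)) (Sum.inl 0)
  have e32 := congrFun (congrFun hM (Sum.inr 1)) (Sum.inr 0)
  simp only [Matrix.mul_apply, Fintype.sum_sum_type, Fin.sum_univ_two, blkM_apply_inl_inl,
    blkM_apply_inl_inr, blkM_apply_inr_inl, blkM_apply_inr_inr, Matrix.diagonal_apply,
    Matrix.cons_val_zero, Matrix.cons_val_one, Matrix.neg_apply, Matrix.one_apply] at e01 e03 e21 e23 e10 e12 e30 e32
  simp at e01 e03 e21 e23 e10 e12 e30 e32
  have z01 : g.1 (Sum.inl 0) (Sum.inl 1) = 0 := key _ (by linear_combination e01)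
  have z03 : g.1 (Sum.inl 0) (Sum.inr 1) = 0 := key _ (by linear_combination e03)
  have z21 : g.1 (Sum.inr 0) (Sum.inl 1) = 0 := key _ (by linear_combination e21)
  have z23 : g.1 (Sum.inr 0) (Sum.inr 1) = 0 := key _ (by linear_combination e23)
  have z10 : g.1 (Sum.inl 1) (Sum.inl 0) = 0 := key _ (by linear_combination -e10)
  have z12 : g.1 (Sum.inl 1) (Sum.inr 0) = 0 := key _ (by linear_combination -e12)
  have z30 : g.1 (Sum.inr 1) (Sum.inl 0) = 0 := key _ (by linear_combination -e30)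
  have z32 : g.1 (Sum.inr 1) (Sum.inr 0) = 0 := key _ (by linear_combination -e32)
  -- the symplectic condition
  have hJ := SymplecticGroup.mem_iff.mp g.2
  have j02 := congrFun (congrFun hJ (Sum.inl 0)) (Sum.inr 0)
  have j13 := congrFun (congrFun hJ (Sum.inl 1)) (Sum.inr 1)
  simp only [Matrix.mul_apply, Fintype.sum_sum_type, Fin.sum_univ_two, Matrix.J,
    Matrix.fromBlocks_apply₁₁, Matrix.fromBlocks_apply₁₂, Matrix.fromBlocks_apply₂₁,
    Matrix.fromBlocks_apply₂₂, Matrix.transpose_apply, Matrix.zero_apply, Matrix.neg_apply,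
    Matrix.one_apply, z01, z03, z21, z23, z10, z12, z30, z32] at j02 j13
  simp at j02 j13
  set A : Matrix (Fin 2) (Fin 2) F := !![g.1 (Sum.inl 0) (Sum.inl 0), g.1 (Sum.inl 0) (Sum.inr 0);
    g.1 (Sum.inr 0) (Sum.inl 0), g.1 (Sum.inr 0) (Sum.inr 0)] with hA
  set B : Matrix (Fin 2) (Fin 2) F := !![g.1 (Sum.inl 1) (Sum.inl 1), g.1 (Sum.inl 1) (Sum.inr 1);
    g.1 (Sum.inr 1) (Sum.inl 1), g.1 (Sum.inr 1) (Sum.inr 1)] with hB
  have hdA : A.det = 1 := by
    rw [hA, Matrix.det_fin_two_of]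
    linear_combination -j02
  have hdB : B.det = 1 := by
    rw [hB, Matrix.det_fin_two_of]
    linear_combination -j13
  refine ⟨(⟨A, hdA⟩, ⟨B, hdB⟩), ?_⟩
  apply Subtype.ext
  rw [blk_coe]
  ext i j
  rcases i with i | i <;> rcases j with j | j <;> fin_cases i <;> fin_cases j <;>
    simp [blkM_apply_inl_inl, blkM_apply_inl_inr, blkM_apply_inr_inl, blkM_apply_inr_inr, hA, hB,
      z01, z03, z21, z23, z10, z12, z30, z32]

theorem centz (h2 : (2 : F) ≠ 0) (g : Sp4 F)
    (hg : g * zt * g⁻¹ = zt ∨ g * zt * g⁻¹ = negOne * zt) : g ∈ (Ht : Subgroup (Sp4 F)) := by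
  rw [mem_Ht_iff]
  rcases hg with hg | hg
  · obtain ⟨p, hp⟩ := plus h2 g (mul_inv_eq_iff_eq_mul.mp hg)
    exact ⟨p, Or.inl hp⟩
  · -- reduce to the `+` case for `g * tau`
    have h1 : (tau : Sp4 F) * zt * tau⁻¹ = negOne * zt := by
      unfold zt
      rw [tau_conj_blk, negOne_mul_blk]
      congr 2
      rw [negS_eq, negS_mul_negS]
    have h3 : (g * tau) * zt = zt * (g * tau) := by
      have h4 : g * zt = negOne * zt * g := mul_inv_eq_iff_eq_mul.mp hg
      have h5 : (tau : Sp4 F) * zt = negOne * zt * tau := mul_inv_eq_iff_eq_mul.mp h1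
      calc (g * tau) * zt = g * (tau * zt) := by group
        _ = g * (negOne * zt * tau) := by rw [h5]
        _ = negOne * (g * zt) * tau := by
          rw [← mul_assoc, ← mul_assoc, ← negOne_mul_comm g]
          group
        _ = negOne * (negOne * zt * g) * tau := by rw [h4]
        _ = (negOne * negOne) * zt * (g * tau) := by group
        _ = zt * (g * tau) := by rw [negOne_mul_negOne, one_mul]
    obtain ⟨p, hp⟩ := plus h2 (g * tau) h3
    refine ⟨p, Or.inr ?_⟩
    rw [← hp, mul_assoc, tau_mul_tau, mul_one]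

end Cfsg.Agent.Lib.Helper2_S5320_CENTZ
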