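import Mathlib
import Cfsg.Agent.Lib.Helper76_S5320Defs
import Cfsg.Agent.Lib.Helper76_S5320Bas

set_option autoImplicit false
set_option linter.unusedVariables false

/-!
S5320-CS (helper76's market): `C(St Q mod ±1) ≤ St Q`.
-/

open Matrix Cfsg.Agent.Lib.Helper42_SL2Class Cfsg.Agent.Lib.Helper76_S5320Defs
  Cfsg.Agent.Lib.Helper76_S5320Bas

namespace Cfsg.Agent.Lib.Helper2_S5320_CS

variable {F : Type*} [Field F]

theorem cs (h2 : (2 : F) ≠ 0) (a b : F) (h : a * a + b * b = -1) (Q : Subgroup (SL2 F))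
    (hX : X a b h ∈ Q) (hY : Y ∈ Q)
    (hzs : ∀ x ∈ (Ht : Subgroup (Sp4 F)),
      (∀ y ∈ St Q, x * y * x⁻¹ * y⁻¹ ∈ Subgroup.center (Sp4 F)) →
        x = 1 ∨ x = negOne ∨ x = zt ∨ x = negOne * zt)
    (hcz : ∀ g : Sp4 F, (g * zt * g⁻¹ = zt ∨ g * zt * g⁻¹ = negOne * zt) → g ∈ (Ht : Subgroup (Sp4 F)))
    (c : Sp4 F) (hc : ∀ s ∈ St Q, c * s * c⁻¹ * s⁻¹ ∈ Subgroup.center (Sp4 F)) : c ∈ St Q := by
  have hneg : negS 1 ∈ Q := negS_one_mem a b h Q hX
  have hzt : (zt : Sp4 F) ∈ St Q := zt_mem_St Q hneg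
  have h1 := hc zt hzt
  rw [mem_center_iff] at h1
  have hcH : c ∈ (Ht : Subgroup (Sp4 F)) := by
    apply hcz
    rcases h1 with h1 | h1
    · left
      exact mul_inv_eq_one.mp h1
    · right
      exact mul_inv_eq_iff_eq_mul.mp h1
  have hcen : (negOne : Sp4 F) ∈ St Q := center_le_St Q hneg negOne_mem_center
  rcases hzs c hcH hc with rfl | rfl | rfl | rfl
  · exact Subgroup.one_mem _
  · exact hcen
  · exact hzt
  · exact Subgroup.mul_mem _ hcen hzt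

end Cfsg.Agent.Lib.Helper2_S5320_CS
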