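import Mathlib
import Cfsg.Agent.Lib.Helper76_S5320Defs
import Cfsg.Agent.Lib.Helper76_S5320Bas

set_option autoImplicit false
set_option linter.unusedVariables false

/-!
S5320-RMEM (helper76's market): the elements of `Rt Q = ⟨blk(c,c) (c ∈ Q), tau, zt⟩`.
-/

open Matrix Cfsg.Agent.Lib.Helper42_SL2Class Cfsg.Agent.Lib.Helper76_S5320Defs
  Cfsg.Agent.Lib.Helper76_S5320Bas

namespace Cfsg.Agent.Lib.Helper2_S5320_RMEM

variable {F : Type*} [Field F]

/-- `s = ±1` in `SL₂` -/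
def IsS (s : SL2 F) : Prop := s = 1 ∨ s = negS 1

/-- `t ∈ {1, tau}` -/
def IsT (t : Sp4 F) : Prop := t = 1 ∨ t = tau

theorem negS_one_comm (c : SL2 F) : negS 1 * c = c * negS 1 := by
  rw [← negS_eq, ← negS_eq']

theorem IsS.comm {s : SL2 F} (hs : IsS s) (c : SL2 F) : s * c = c * s := by
  rcases hs with rfl | rfl
  · rw [one_mul, mul_one]
  · exact negS_one_comm c

theorem IsS.sq {s : SL2 F} (hs : IsS s) : s * s = 1 := by
  rcases hs with rfl | rfl
  · rw [one_mul]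
  · exact negS_mul_negS

theorem IsS.inv {s : SL2 F} (hs : IsS s) : s⁻¹ = s :=
  inv_eq_of_mul_eq_one_left hs.sq

theorem IsS.mul {s s' : SL2 F} (hs : IsS s) (hs' : IsS s') : IsS (s * s') := by
  rcases hs with rfl | rfl <;> rcases hs' with rfl | rfl
  · left; rw [one_mul]
  · right; rw [one_mul]
  · right; rw [mul_one]
  · left; exact negS_mul_negS

theorem IsS.mem {s : SL2 F} (hs : IsS s) (Q : Subgroup (SL2 F)) (hneg : negS 1 ∈ Q) : s ∈ Q := by
  rcases hs with rfl | rfl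
  · exact Q.one_mem
  · exact hneg

theorem IsT.tau_mul {t : Sp4 F} (ht : IsT t) : IsT (tau * t) := by
  rcases ht with rfl | rfl
  · right; rw [mul_one]
  · left; exact tau_mul_tau

/-- the explicit subgroup -/
def K (Q : Subgroup (SL2 F)) (hneg : negS 1 ∈ Q) : Subgroup (Sp4 F) where
  carrier := {r | ∃ c ∈ Q, ∃ s, IsS s ∧ ∃ t, IsT t ∧ r = blk (c, s * c) * t}
  one_mem' := ⟨1, Q.one_mem, 1, Or.inl rfl, 1, Or.inl rfl, by rw [mul_one, mul_one, blk_one]⟩
  mul_mem' := by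
    rintro x y ⟨c, hc, s, hs, t, ht, rfl⟩ ⟨c', hc', s', hs', t', ht', rfl⟩
    rcases ht with rfl | rfl
    · refine ⟨c * c', Q.mul_mem hc hc', s * s', hs.mul hs', t', ht', ?_⟩
      rw [mul_one, ← mul_assoc, blk_mul]
      congr 3
      rw [mul_assoc s c, ← mul_assoc c s', ← hs'.comm c]
      group
    · refine ⟨s' * c * c', Q.mul_mem (Q.mul_mem (hs'.mem Q hneg) hc) hc', s * s', hs.mul hs',
        tau * t', ht'.tau_mul, ?_⟩
      have e1 : blk (c, s * c) * tau * (blk (c', s' * c') * t') =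
          blk (c, s * c) * (tau * blk (c', s' * c')) * t' := by group
      rw [e1, tau_mul_blk, ← mul_assoc, blk_mul, mul_assoc]
      congr 3
      · rw [← mul_assoc, ← hs'.comm c]
      · calc s * c * c' = s * (s' * s') * c * c' := by rw [hs'.sq, mul_one]
          _ = s * s' * (s' * c * c') := by group
  inv_mem' := by
    rintro x ⟨c, hc, s, hs, t, ht, rfl⟩
    rcases ht with rfl | rfl
    · refine ⟨c⁻¹, Q.inv_mem hc, s, hs, 1, Or.inl rfl, ?_⟩
      rw [mul_one, mul_one, blk_inv]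
      congr 2
      rw [_root_.mul_inv_rev, hs.inv, hs.comm]
    · refine ⟨s * c⁻¹, Q.mul_mem (hs.mem Q hneg) (Q.inv_mem hc), s, hs, tau, Or.inr rfl, ?_⟩
      rw [_root_.mul_inv_rev, tau_inv, blk_inv, tau_mul_blk]
      congr 3
      · rw [_root_.mul_inv_rev, hs.inv, hs.comm]
      · rw [← mul_assoc, hs.sq, one_mul]

theorem mem_K (Q : Subgroup (SL2 F)) (hneg : negS 1 ∈ Q) (r : Sp4 F) :
    r ∈ K Q hneg ↔ ∃ c ∈ Q, ∃ s, IsS s ∧ ∃ t, IsT t ∧ r = blk (c, s * c) * t := Iff.rfl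

theorem Rt_le_K (Q : Subgroup (SL2 F)) (hneg : negS 1 ∈ Q) : Rt Q ≤ K Q hneg := by
  unfold Rt
  rw [Subgroup.closure_le]
  rintro g (⟨c, hc, rfl⟩ | hg)
  · exact ⟨c, hc, 1, Or.inl rfl, 1, Or.inl rfl, by rw [one_mul, mul_one]⟩
  · rcases hg with rfl | hg
    · exact ⟨1, Q.one_mem, 1, Or.inl rfl, tau, Or.inr rfl, by rw [mul_one, blk_one, one_mul]⟩
    · rw [Set.mem_singleton_iff] at hg
      subst hg
      refine ⟨negS 1, hneg, negS 1, Or.inr rfl, 1, Or.inl rfl, ?_⟩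
      rw [mul_one, negS_mul_negS]
      rfl

theorem blk_diag_mem (Q : Subgroup (SL2 F)) {c : SL2 F} (hc : c ∈ Q) : blk (c, c) ∈ Rt Q :=
  Subgroup.subset_closure (Or.inl ⟨c, hc, rfl⟩)

theorem tau_mem_Rt (Q : Subgroup (SL2 F)) : (tau : Sp4 F) ∈ Rt Q :=
  Subgroup.subset_closure (Or.inr (Or.inl rfl))

theorem zt_mem_Rt (Q : Subgroup (SL2 F)) : (zt : Sp4 F) ∈ Rt Q :=
  Subgroup.subset_closure (Or.inr (Or.inr rfl))

theorem blk_one_neg_mem (Q : Subgroup (SL2 F)) : blk ((1 : SL2 F), negS 1) ∈ Rt Q := by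
  have h1 : (tau : Sp4 F) * zt * tau⁻¹ = blk (1, negS 1) := by
    unfold zt
    rw [tau_conj_blk]
  rw [← h1]
  exact Subgroup.mul_mem _ (Subgroup.mul_mem _ (tau_mem_Rt Q) (zt_mem_Rt Q))
    (Subgroup.inv_mem _ (tau_mem_Rt Q))

theorem K_le_Rt (Q : Subgroup (SL2 F)) (hneg : negS 1 ∈ Q) : K Q hneg ≤ Rt Q := by
  rintro r ⟨c, hc, s, hs, t, ht, rfl⟩
  have h1 : blk (c, s * c) ∈ Rt Q := by
    rcases hs with rfl | rfl
    · rw [one_mul]
      exact blk_diag_mem Q hc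
    · have : blk (c, negS 1 * c) = blk (c, c) * blk ((1 : SL2 F), negS 1) := by
        rw [blk_mul, mul_one, negS_one_comm]
      rw [this]
      exact Subgroup.mul_mem _ (blk_diag_mem Q hc) (blk_one_neg_mem Q)
  rcases ht with rfl | rfl
  · rw [mul_one]
    exact h1
  · exact Subgroup.mul_mem _ h1 (tau_mem_Rt Q)

theorem mem_Rt_iff (Q : Subgroup (SL2 F)) (hneg : negS 1 ∈ Q) (r : Sp4 F) :
    r ∈ Rt Q ↔ ∃ c ∈ Q, r = blk (c, c) ∨ r = blk (c, negS c) ∨ r = blk (c, c) * tau ∨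
      r = blk (c, negS c) * tau := by
  constructor
  · intro hr
    obtain ⟨c, hc, s, hs, t, ht, rfl⟩ := Rt_le_K Q hneg hr
    refine ⟨c, hc, ?_⟩
    rcases hs with rfl | rfl <;> rcases ht with rfl | rfl
    · left; rw [one_mul, mul_one]
    · right; right; left; rw [one_mul]
    · right; left; rw [mul_one, ← negS_eq]
    · right; right; right; rw [← negS_eq]
  · rintro ⟨c, hc, h⟩
    apply K_le_Rt Q hneg
    rcases h with rfl | rfl | rfl | rfl
    · exact ⟨c, hc, 1, Or.inl rfl, 1, Or.inl rfl, by rw [one_mul, mul_one]⟩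
    · exact ⟨c, hc, negS 1, Or.inr rfl, 1, Or.inl rfl, by rw [mul_one, ← negS_eq]⟩
    · exact ⟨c, hc, 1, Or.inl rfl, tau, Or.inr rfl, by rw [one_mul]⟩
    · exact ⟨c, hc, negS 1, Or.inr rfl, tau, Or.inr rfl, by rw [← negS_eq]⟩

theorem Rt_le_St (Q : Subgroup (SL2 F)) (hneg : negS 1 ∈ Q) : Rt Q ≤ St Q := by
  unfold Rt
  rw [Subgroup.closure_le]
  rintro g (⟨c, hc, rfl⟩ | hg)
  · exact (blk_mem_St_iff Q c c).mpr ⟨hc, hc⟩
  · rcases hg with rfl | hg
    · exact tau_mem_St Q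
    · rw [Set.mem_singleton_iff] at hg
      subst hg
      exact zt_mem_St Q hneg

theorem center_le_Rt (Q : Subgroup (SL2 F)) (hneg : negS 1 ∈ Q) :
    Subgroup.center (Sp4 F) ≤ Rt Q := by
  intro z hz
  rcases (mem_center_iff z).mp hz with rfl | rfl
  · exact Subgroup.one_mem _
  · rw [negOne_eq_blk]
    exact blk_diag_mem Q hneg

end Cfsg.Agent.Lib.Helper2_S5320_RMEM
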