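import Mathlib
import Cfsg.Prelude.Def_AxialAlgebras
import Cfsg.Agent.Lib.Helper16_SakDefs

/-!
# S5544 (Sakuma) package FAM-IP, auxiliary form (architect helper16, formaliser helper63)

`ip_refl`, `ip_one` are the package statements verbatim (they need nothing else).
`ip_two_of` is the package statement `ip_two` with the statements `sig_mu`, `eig4` of the package PAIR
taken as hypotheses (`hsig_mu`, `heig4`).

The trick for `B (ax (i-1)) (ax (i+1)) = B (ax i) (ax (i+2))` (`trick_core`): with `a = a_i`, `b = a_{i+1}`,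
`P = a·b`: `eig4` for `(a, b)` and for `(b, a)` express `a·P` and `b·P` through `P, a, b, a_{i-1}` resp.
`P, a, b, a_{i+2}`; pair with `b` resp. `a` and use `B (a·P) b = B P P = B (b·P) a`,
`B P b = B a b = B P a`.
-/

set_option autoImplicit false

namespace Cfsg.Agent.Lib.Helper63_SAK_FAMIPaux

open Cfsg.Axial Cfsg.Agent.Lib.Helper16_SakDefs

variable {V : Type*} [AddCommGroup V] [Module ℝ V]
  {mul : V →ₗ[ℝ] V →ₗ[ℝ] V} {B : LinearMap.BilinForm ℝ V}

/-- the (s,s) trick, for four vectors -/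
theorem trick_core (hc : ∀ x y : V, mul x y = mul y x) (hs : ∀ x y : V, B x y = B y x)
    (has : ∀ x y z : V, B x (mul y z) = B (mul x y) z)
    (a b am bp : V) (haa : mul a a = a) (hbb : mul b b = b) (ua : B a a = 1) (ub : B b b = 1)
    (hsa : sig mul a am = sig mul a b) (hsb : sig mul b bp = sig mul b a)
    (E1 : mul a (v4 mul B a b am) = (1 / 4 : ℝ) • v4 mul B a b am)
    (E2 : mul b (v4 mul B b a bp) = (1 / 4 : ℝ) • v4 mul B b a bp) :
    B am b = B a bp := by
  have hba : mul b a = mul a b := hc b a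
  have Ham : mul a am = mul a b + (1 / 32 : ℝ) • (am - b) := by
    unfold sig at hsa
    linear_combination (norm := module) hsa
  have Hbp : mul b bp = mul a b + (1 / 32 : ℝ) • (bp - a) := by
    unfold sig at hsb
    rw [hba] at hsb
    linear_combination (norm := module) hsb
  have h1 : B (mul a (mul a b)) b = B (mul a b) (mul a b) := by
    rw [hc a (mul a b), ← has]
  have h2 : B (mul b (mul a b)) a = B (mul a b) (mul a b) := by
    rw [hc b (mul a b), ← has, hba]
  have h3 : B (mul a b) b = B a b := by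
    rw [← has, hbb]
  have h4 : B (mul a b) a = B a b := by
    rw [← hba, ← has, haa, hs b a]
  have hlba : B b a = B a b := hs b a
  unfold v4 sig at E1 E2
  rw [hba, hlba] at E2
  simp only [map_add, map_sub, map_smul, haa, hbb, Ham, Hbp, hba] at E1 E2
  have S1 := congrArg (fun x => B x b) E1
  have S2 := congrArg (fun x => B x a) E2
  simp only [map_add, map_sub, map_smul, LinearMap.add_apply, LinearMap.sub_apply,
    LinearMap.smul_apply, smul_eq_mul, h1, h2, h3, h4, ua, ub, hlba] at S1 S2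
  have hbpa : B bp a = B a bp := hs bp a
  rw [hbpa] at S2
  linear_combination (-512 / 7 : ℝ) * S1 + (512 / 7 : ℝ) * S2

/-! ### FAM-IP -/

theorem ip_refl {ax : ℤ → V} {tau : ℤ → (V ≃ₗ[ℝ] V)} (F : Fam mul B ax tau) (i j k : ℤ) :
    B (ax (2 * k - i)) (ax (2 * k - j)) = B (ax i) (ax j) := by
  rw [← F.refl k i, ← F.refl k j]
  exact (F.axis k).pair.2.1 (ax i) (ax j)

theorem ip_one {ax : ℤ → V} {tau : ℤ → (V ≃ₗ[ℝ] V)} (F : Fam mul B ax tau) (i : ℤ) :
    B (ax i) (ax (i + 1)) = B (ax 0) (ax 1) := by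
  have hs : ∀ x y : V, B x y = B y x := (F.axis 0).amb.2.1
  have step : ∀ i : ℤ, B (ax (i + 1)) (ax (i + 1 + 1)) = B (ax i) (ax (i + 1)) := by
    intro i
    have h := ip_refl F i (i + 1) (i + 1)
    have e1 : 2 * (i + 1) - i = i + 1 + 1 := by ring
    have e2 : 2 * (i + 1) - (i + 1) = i + 1 := by ring
    rw [e1, e2] at h
    rw [hs, h]
  induction i using Int.induction_on with
  | zero => rfl
  | succ k ih =>
    rw [step (k : ℤ), ih]
  | pred k ih =>
    have e1 : -(k : ℤ) - 1 + 1 = -(k : ℤ) := by ring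
    rw [← step (-(k : ℤ) - 1), e1]
    exact ih

/-- the statement `ip_two` with `sig_mu` and `eig4` (package PAIR) as hypotheses -/
theorem ip_two_of {ax : ℤ → V} {tau : ℤ → (V ≃ₗ[ℝ] V)} (F : Fam mul B ax tau)
    (hsig_mu : ∀ {μ : V ≃ₗ[ℝ] V} {a : V}, UAxis mul B μ a → ∀ b : V,
      sig mul a (μ b) = sig mul a b)
    (heig4 : ∀ {μ : V ≃ₗ[ℝ] V} {a : V}, UAxis mul B μ a → ∀ b : V,
      mul a (v4 mul B a b (μ b)) = (1 / 4 : ℝ) • v4 mul B a b (μ b)) (i : ℤ) :
    B (ax i) (ax (i + 2)) = B (ax 0) (ax 2) := by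
  have hc : ∀ x y : V, mul x y = mul y x := (F.axis 0).amb.1
  have hs : ∀ x y : V, B x y = B y x := (F.axis 0).amb.2.1
  have has : ∀ x y z : V, B x (mul y z) = B (mul x y) z := (F.axis 0).amb.2.2.2.1
  have hidem : ∀ i, mul (ax i) (ax i) = ax i := fun i => (F.axis i).pair.2.2.1.1.2.1
  have hunit : ∀ i, B (ax i) (ax i) = 1 := fun i => (F.axis i).unit
  -- the trick at the position `i`
  have step : ∀ i : ℤ, B (ax (i + 1)) (ax (i + 1 + 2)) = B (ax i) (ax (i + 2)) := by
    intro i
    have r1 : tau (i + 1) (ax (i + 2)) = ax i := by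
      rw [F.refl]
      congr 1
      ring
    have r2 : tau (i + 2) (ax (i + 1)) = ax (i + 1 + 2) := by
      rw [F.refl]
      congr 1
      ring
    have hsa := hsig_mu (F.axis (i + 1)) (ax (i + 2))
    have hsb := hsig_mu (F.axis (i + 2)) (ax (i + 1))
    have E1 := heig4 (F.axis (i + 1)) (ax (i + 2))
    have E2 := heig4 (F.axis (i + 2)) (ax (i + 1))
    rw [r1] at hsa E1
    rw [r2] at hsb E2
    have key := trick_core hc hs has (ax (i + 1)) (ax (i + 2)) (ax i) (ax (i + 1 + 2))
      (hidem _) (hidem _) (hunit _) (hunit _) hsa hsb E1 E2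
    exact key.symm
  induction i using Int.induction_on with
  | zero => rfl
  | succ k ih =>
    rw [step (k : ℤ), ih]
  | pred k ih =>
    have e1 : -(k : ℤ) - 1 + 1 = -(k : ℤ) := by ring
    rw [← step (-(k : ℤ) - 1), e1]
    exact ih

end Cfsg.Agent.Lib.Helper63_SAK_FAMIPaux
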