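import Mathlib
import Cfsg.Prelude.Def_AxialAlgebras
import Cfsg.Agent.Lib.Helper16_SakDefs
import Cfsg.Agent.Lib.Helper63_SAK_FAMIPaux
import Cfsg.Agent.Lib.Helper95_SAK_PAIRaux
import Cfsg.Agent.Lib.Helper24_SAK_AXDEC

/-!
# S5544 (Sakuma) package FAM-IP (architect helper16, formaliser helper63): `ip_refl`, `ip_one`, `ip_two`, verbatim

`ip_two` = `Helper63_SAK_FAMIPaux.ip_two_of` with `sig_mu`, `eig4` obtained from `Helper95_SAK_PAIRaux`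
(`sig_mu_of`, `eig4_of`) and `Helper24_SAK_AXDEC.decomp`.
-/

set_option autoImplicit false

namespace Cfsg.Agent.Lib.Helper63_SAK_FAMIP

open Cfsg.Axial Cfsg.Agent.Lib.Helper16_SakDefs

variable {V : Type*} [AddCommGroup V] [Module ℝ V]
  {mul : V →ₗ[ℝ] V →ₗ[ℝ] V} {B : LinearMap.BilinForm ℝ V}

theorem ip_refl {ax : ℤ → V} {tau : ℤ → (V ≃ₗ[ℝ] V)} (F : Fam mul B ax tau) (i j k : ℤ) :
    B (ax (2 * k - i)) (ax (2 * k - j)) = B (ax i) (ax j) :=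
  Cfsg.Agent.Lib.Helper63_SAK_FAMIPaux.ip_refl F i j k

theorem ip_one {ax : ℤ → V} {tau : ℤ → (V ≃ₗ[ℝ] V)} (F : Fam mul B ax tau) (i : ℤ) :
    B (ax i) (ax (i + 1)) = B (ax 0) (ax 1) :=
  Cfsg.Agent.Lib.Helper63_SAK_FAMIPaux.ip_one F i

theorem ip_two {ax : ℤ → V} {tau : ℤ → (V ≃ₗ[ℝ] V)} (F : Fam mul B ax tau) (i : ℤ) :
    B (ax i) (ax (i + 2)) = B (ax 0) (ax 2) :=
  Cfsg.Agent.Lib.Helper63_SAK_FAMIPaux.ip_two_of F
    (fun h b => Cfsg.Agent.Lib.Helper95_SAK_PAIRaux.sig_mu_of h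
      (fun x => Cfsg.Agent.Lib.Helper24_SAK_AXDEC.decomp h x) b)
    (fun h b => Cfsg.Agent.Lib.Helper95_SAK_PAIRaux.eig4_of h
      (fun x => Cfsg.Agent.Lib.Helper24_SAK_AXDEC.decomp h x) b) i

end Cfsg.Agent.Lib.Helper63_SAK_FAMIP
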