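import Mathlib
import Cfsg.Prelude.Def_AxialAlgebras
import Cfsg.Agent.Lib.Helper16_SakDefs
import Cfsg.Agent.Lib.Helper98_SAK_FAM_BASICaux
import Cfsg.Agent.Lib.Helper53_SAK_FAMSIG
import Cfsg.Agent.Lib.Helper63_SAK_FAMIP
import Cfsg.Agent.Lib.Helper95_SAK_PAIRaux
import Cfsg.Agent.Lib.Helper24_SAK_AXDEC
import Cfsg.Agent.Lib.Helper24_SAK_AXFUS

/-!
# sak_packages FAM-BASIC (helper98): the interface `Basic` from a `Fam`
-/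

set_option autoImplicit false

namespace Cfsg.Agent.Lib.Helper98_SAK_FAM_BASIC

open Cfsg.Axial Cfsg.Agent.Lib.Helper16_SakDefs

variable {V : Type*} [AddCommGroup V] [Module ℝ V]
  {mul : V →ₗ[ℝ] V →ₗ[ℝ] V} {B : LinearMap.BilinForm ℝ V}

theorem basic_of_fam {ax : ℤ → V} {tau : ℤ → (V ≃ₗ[ℝ] V)} (F : Fam mul B ax tau) :
    Basic mul B ax (sig mul (ax 0) (ax 1)) (sig mul (ax 0) (ax 2)) (sig mul (ax (-1)) (ax 1))
      (B (ax 0) (ax 1)) (B (ax 0) (ax 2)) := by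
  have hdec : ∀ i, Cfsg.Agent.Lib.Helper95_SAK_PAIRaux.DecStmt mul B (tau i) (ax i) :=
    fun i x => Cfsg.Agent.Lib.Helper24_SAK_AXDEC.decomp (F.axis i) x
  exact Cfsg.Agent.Lib.Helper98_SAK_FAM_BASICaux.basic_of_fam_of F
    (Cfsg.Agent.Lib.Helper53_SAK_FAMSIG.sig_one F)
    (Cfsg.Agent.Lib.Helper53_SAK_FAMSIG.sig_two_even F)
    (Cfsg.Agent.Lib.Helper53_SAK_FAMSIG.sig_two_odd F)
    (Cfsg.Agent.Lib.Helper63_SAK_FAMIP.ip_refl F)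
    (Cfsg.Agent.Lib.Helper63_SAK_FAMIP.ip_one F)
    (Cfsg.Agent.Lib.Helper63_SAK_FAMIP.ip_two F)
    (fun i b => Cfsg.Agent.Lib.Helper95_SAK_PAIRaux.eig32_of (F.axis i) (hdec i) b)
    (fun i b => Cfsg.Agent.Lib.Helper95_SAK_PAIRaux.eig4_of (F.axis i) (hdec i) b)
    (fun i b => Cfsg.Agent.Lib.Helper95_SAK_PAIRaux.eig0_of (F.axis i) (hdec i) b)
    (fun i _ _ hp hp' => Cfsg.Agent.Lib.Helper24_SAK_AXFUS.fus00 (F.axis i) hp hp')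
    (fun i _ _ hp hq => Cfsg.Agent.Lib.Helper24_SAK_AXFUS.fus04 (F.axis i) hp hq)
    (fun i _ _ hq hq' => Cfsg.Agent.Lib.Helper24_SAK_AXFUS.fus44 (F.axis i) hq hq')

end Cfsg.Agent.Lib.Helper98_SAK_FAM_BASIC
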