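import Mathlib
import Cfsg.Prelude.Def_AxialAlgebras
import Cfsg.Agent.Lib.Helper16_SakDefs
import Cfsg.Agent.Lib.Helper91_SAK_DIHFAM
import Cfsg.Agent.Lib.Helper98_SAK_FAM_BASIC
import Cfsg.Agent.Lib.Helper21_SAK_DIHORD
import Cfsg.Agent.Lib.Helper2_SAK_FINAL

/-!
S5544 (Sakuma's theorem, Majorana form; architect helper16, market `sak_packages`), package FINAL, verbatim form
`sakuma_final`, from `sakuma_final_of` and the landed DIH-FAM, FAM-BASIC, DIH-ORD.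
-/

set_option autoImplicit false
set_option linter.unusedVariables false
set_option linter.unusedSectionVars false

namespace Cfsg.Agent.Lib.Helper2_SAK_FINALV

open Cfsg.Axial Cfsg.Agent.Lib.Helper16_SakDefs

variable {V : Type*} [AddCommGroup V] [Module ℝ V]
  {mul : V →ₗ[ℝ] V →ₗ[ℝ] V} {B : LinearMap.BilinForm ℝ V}

theorem sakuma_final [FiniteDimensional ℝ V]
    (hcomp : ∀ (ax : ℤ → V) (s se sf : V) (l1 l2 : ℝ), Basic mul B ax s se sf l1 l2 →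
      ∃ n : ℕ, 1 ≤ n ∧ n ≤ 6 ∧ B (ax 0) (ax (n : ℤ)) = 1)
    (hV : Cfsg.Axial.IsMajoranaAmbient mul B) (μ₀ μ₁ : V ≃ₗ[ℝ] V) (a₀ a₁ : V)
    (h₀ : Cfsg.Axial.IsMajoranaPair mul B μ₀ a₀) (h₁ : Cfsg.Axial.IsMajoranaPair mul B μ₁ a₁)
    (hn₀ : B a₀ a₀ = 1) (hn₁ : B a₁ a₁ = 1) : ∃ n : ℕ, 1 ≤ n ∧ n ≤ 6 ∧ (μ₀ * μ₁) ^ n = 1 :=
  Cfsg.Agent.Lib.Helper2_SAK_FINAL.sakuma_final_of
    (fun h₀ h₁ => Cfsg.Agent.Lib.Helper91_SAK_DIHFAM.fam_axF h₀ h₁)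
    (fun F => Cfsg.Agent.Lib.Helper98_SAK_FAM_BASIC.basic_of_fam F)
    (fun h₀ h₁ n hn => Cfsg.Agent.Lib.Helper21_SAK_DIHORD.pow_eq_one_of_axF h₀ h₁ n hn)
    hcomp hV μ₀ μ₁ a₀ a₁ h₀ h₁ hn₀ hn₁

end Cfsg.Agent.Lib.Helper2_SAK_FINALV
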