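import Mathlib
import Cfsg.Prelude.Def_Classical
import Cfsg.Agent.Lib.Helper2_HermUnip
import Cfsg.Agent.Lib.Helper40_UMatrix

set_option autoImplicit false

/-!
S5954 (helper99), packages UA/UB, sufficiency: in characteristic `p`, if every partition of `n` with
parts `≤ p` contains a sub-multiset of sum `m`, then every `x ∈ SU_n(q)` with `x ^ p` scalar leaves
invariant a nondegenerate `m`-space.
-/

namespace Cfsg.Agent.Lib.Helper2_SUND_UABmpr

open Module Matrix Cfsg.Agent.Lib.Helper40_SpBasic Cfsg.Agent.Lib.Helper40_UBasic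
  Cfsg.Agent.Lib.Helper43_Jordan Cfsg.Agent.Lib.Helper94_HermBridge Cfsg.Agent.Lib.Helper94_Herm
  Cfsg.Agent.Lib.Helper40_UMatrix

section aux

variable {F : Type*} [Field F]

/-- in characteristic `p`, `(T - 1) ^ p = T ^ p - 1` -/
theorem sub_one_pow_char' {V : Type*} [AddCommGroup V] [Module F V] (p : ℕ) [Fact p.Prime]
    [CharP F p] (T : End F V) : (T - 1) ^ p = T ^ p - 1 := by
  have hpoly : ((Polynomial.X : Polynomial F) - 1) ^ p = (Polynomial.X : Polynomial F) ^ p - 1 := by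
    rw [sub_pow_char, one_pow]
  have := congrArg (Polynomial.aeval T) hpoly
  simpa using this

theorem hermForm_smul_smul (n q : ℕ) (c : F) (u v : Fin n → F) :
    Cfsg.hermForm n F q (c • u) (c • v) = c ^ (q + 1) * Cfsg.hermForm n F q u v := by
  simp only [Cfsg.hermForm, Pi.smul_apply, smul_eq_mul, Finset.mul_sum]
  apply Finset.sum_congr rfl
  intro i _
  ring

theorem hermForm_pow_mulVec {n q : ℕ} (A : Matrix (Fin n) (Fin n) F)
    (hA : ∀ u v, Cfsg.hermForm n F q (A *ᵥ u) (A *ᵥ v) = Cfsg.hermForm n F q u v) (k : ℕ)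
    (u v : Fin n → F) :
    Cfsg.hermForm n F q ((A ^ k) *ᵥ u) ((A ^ k) *ᵥ v) = Cfsg.hermForm n F q u v := by
  induction k with
  | zero => simp
  | succ k ih =>
    rw [pow_succ', ← Matrix.mulVec_mulVec, ← Matrix.mulVec_mulVec, hA, ih]

end aux

/-- the matrix core of the sufficiency direction -/
theorem core {F : Type*} [Field F] [Fintype F] {p : ℕ} [Fact p.Prime] [CharP F p] {q : ℕ}
    (hq : Fintype.card F = q ^ 2) (n m : ℕ) (hn : 1 ≤ n)
    (hpart : ∀ μ : Multiset ℕ, (∀ a ∈ μ, 0 < a ∧ a ≤ p) → μ.sum = n →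
      ∃ ν : Multiset ℕ, ν ≤ μ ∧ ν.sum = m)
    (A : Matrix (Fin n) (Fin n) F)
    (hA : ∀ u v, Cfsg.hermForm n F q (A *ᵥ u) (A *ᵥ v) = Cfsg.hermForm n F q u v)
    (z : F) (hz : A ^ p = z • (1 : Matrix (Fin n) (Fin n) F)) :
    ∃ W : Submodule F (Fin n → F), Module.finrank F ↥W = m ∧
      (∀ u ∈ W, u ≠ 0 → ∃ v ∈ W, Cfsg.hermForm n F q u v ≠ 0) ∧
      W.map (Matrix.toLin' A) ≤ W := by
  classical
  have hp : p.Prime := Fact.out
  obtain ⟨σ, hσq, hσ⟩ := exists_frob hq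
  have hq0 : q ≠ 0 := by
    rintro rfl
    have := hσq 0
    rw [map_zero, pow_zero] at this
    exact zero_ne_one this
  -- `z ^ (q + 1) = 1`
  have hz1 : z ^ (q + 1) = 1 := by
    set e : Fin n → F := Pi.single (⟨0, by omega⟩ : Fin n) 1 with he
    have hee : Cfsg.hermForm n F q e e = 1 := by
      simp only [Cfsg.hermForm, he, Pi.single_apply]
      rw [Finset.sum_eq_single (⟨0, by omega⟩ : Fin n)]
      · simp
      · intro j _ hj
        simp [hj, hq0]
      · intro h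
        exact absurd (Finset.mem_univ _) h
    have h1 := hermForm_pow_mulVec A hA p e e
    rw [hz, Matrix.smul_mulVec, Matrix.one_mulVec, hermForm_smul_smul, hee, mul_one] at h1
    exact h1
  have hz0 : z ≠ 0 := by
    rintro rfl
    rw [zero_pow (by omega)] at hz1
    exact zero_ne_one hz1
  -- a `p`-th root of `z`
  obtain ⟨ζ, hζ⟩ := Finite.surjective_of_injective (frobenius_inj F p) z
  rw [frobenius_def] at hζ
  have hζ0 : ζ ≠ 0 := by
    rintro rfl
    rw [zero_pow hp.ne_zero] at hζ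
    exact hz0 hζ.symm
  have hζ1 : ζ ^ (q + 1) = 1 := by
    apply frobenius_inj F p
    rw [frobenius_def, frobenius_def, one_pow, ← pow_mul, mul_comm, pow_mul, hζ, hz1]
  -- the unipotent unitary matrix
  set U : Matrix (Fin n) (Fin n) F := ζ⁻¹ • A with hU
  have hUiso : ∀ u v, Cfsg.hermForm n F q (U *ᵥ u) (U *ᵥ v) = Cfsg.hermForm n F q u v := by
    intro u v
    rw [hU, Matrix.smul_mulVec, Matrix.smul_mulVec, hermForm_smul_smul, hA, inv_pow, hζ1, inv_one,
      one_mul]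
  have hUp : U ^ p = 1 := by
    rw [hU, smul_pow, hz, inv_pow, hζ, smul_smul, inv_mul_cancel₀ hz0, one_smul]
  have hAU : A = ζ • U := by
    rw [hU, smul_smul, mul_inv_cancel₀ hζ0, one_smul]
  have hdata := uData_of_mem σ hσq hσ U hUiso p hp.pos hUp
  set T : End F (Fin n → F) := Matrix.toLin' U with hT
  have hTp : T ^ p = 1 := hdata.pow
  have hNp : (T - 1) ^ p = 0 := by
    rw [sub_one_pow_char' p T, hTp, sub_self]
  have hnil : IsNilpotent (T - 1) := ⟨p, hNp⟩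
  have hdim : finrank F (Fin n → F) = n := Module.finrank_fin_fun F
  obtain ⟨ν, hν, hνm⟩ := hpart (jtype (T - 1))
    (fun a ha => ⟨jtype_pos _ ha, (pow_eq_zero_iff_jtype _ hnil p).1 hNp a ha⟩)
    (by rw [jtype_sum _ hnil, hdim])
  obtain ⟨W, hWinv, hWnd, hWdim⟩ := Cfsg.Agent.Lib.Helper2_HermUnip.herm_unip_claim hσ.ne_id n
    (hermB n σ hσq) T p hdim hdata (und_hermB σ hσq) hnil ν hν
  refine ⟨W, by rw [hWdim, hνm], ?_, ?_⟩
  · intro u hu hu0
    by_contra hcon
    push Not at hcon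
    apply hu0
    apply hWnd u hu
    intro y hy
    rw [hermB_apply]
    exact hcon y hy
  · rintro _ ⟨w, hw, rfl⟩
    rw [hAU, map_smul, LinearMap.smul_apply]
    exact W.smul_mem _ (hWinv w hw)

/-- **UAB_mpr**: sufficiency of the partition condition (any characteristic). -/
theorem UAB_mpr {F : Type*} [Field F] [Fintype F] {p : ℕ} [Fact p.Prime] [CharP F p] {q : ℕ}
    (hq : Fintype.card F = q ^ 2)
    (n m : ℕ) (hn : 3 ≤ n) (hm : 1 ≤ m) (hmn : 2 * m < n)
    (hpart : ∀ μ : Multiset ℕ, (∀ a ∈ μ, 0 < a ∧ a ≤ p) → μ.sum = n → ∃ ν : Multiset ℕ, ν ≤ μ ∧ ν.sum = m) :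
    ∀ x : Matrix.SpecialLinearGroup (Fin n) F, x ∈ Cfsg.SU n F q →
      (∃ z : F, ((x ^ p : Matrix.SpecialLinearGroup (Fin n) F) : Matrix (Fin n) (Fin n) F) = z • (1 : Matrix (Fin n) (Fin n) F)) →
      (∀ z : F, (x : Matrix (Fin n) (Fin n) F) ≠ z • (1 : Matrix (Fin n) (Fin n) F)) →
      ∃ W : Submodule F (Fin n → F), Module.finrank F ↥W = m ∧ (∀ u ∈ W, u ≠ 0 → ∃ v ∈ W, Cfsg.hermForm n F q u v ≠ 0) ∧
        W.map (Matrix.toLin' (x : Matrix (Fin n) (Fin n) F)) ≤ W := by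
  intro x hx ⟨z, hz⟩ _
  have hA : ∀ u v, Cfsg.hermForm n F q ((x : Matrix (Fin n) (Fin n) F) *ᵥ u)
      ((x : Matrix (Fin n) (Fin n) F) *ᵥ v) = Cfsg.hermForm n F q u v := hx
  have hz' : (x : Matrix (Fin n) (Fin n) F) ^ p = z • (1 : Matrix (Fin n) (Fin n) F) := by
    rw [← hz, Matrix.SpecialLinearGroup.coe_pow]
  exact core hq n m (by omega) hpart _ hA z hz'

end Cfsg.Agent.Lib.Helper2_SUND_UABmpr
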