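import Mathlib
import Cfsg.Prelude.Def_ParabolicCharacters

set_option autoImplicit false
set_option linter.unusedSectionVars false
set_option linter.unusedVariables false

/-!
helper30 — package PK-DC of helper81's S2314 market (`pc_packages`): conjugation invariance of the
permutation character and the double count `∑_{X g} 1_H^G(g) = [G:H] · #{g ∈ H | X g}`.
-/

namespace Cfsg.Agent.Lib.Helper30_PC_DC

open Cfsg

/-- `g` fixes the coset `x H` iff `x⁻¹ g x ∈ H` -/
theorem smul_mk_eq_iff {G : Type*} [Group G] (H : Subgroup G) (g x : G) :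
    g • (x : G ⧸ H) = (x : G ⧸ H) ↔ x⁻¹ * g * x ∈ H := by
  rw [MulAction.Quotient.smul_mk, QuotientGroup.eq]
  have h1 : (g • x)⁻¹ * x = (x⁻¹ * g * x)⁻¹ := by
    rw [smul_eq_mul]; group
  rw [h1, inv_mem_iff]

/-- the number of `g` with `X g` fixing a given coset does not depend on the coset -/
theorem card_stab_filter {G : Type*} [Group G] [Fintype G] (H : Subgroup G) (X : G → Prop)
    [DecidablePred X] (hX : ∀ g, X g → ∀ x : G, X (x * g * x⁻¹)) (y : G ⧸ H)
    [DecidablePred fun g : G => X g ∧ g • y = y] :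
    (Finset.univ.filter (fun g : G => X g ∧ g • y = y)).card =
      Nat.card {g : G // g ∈ H ∧ X g} := by
  obtain ⟨x, rfl⟩ := QuotientGroup.mk_surjective y
  rw [← Fintype.card_subtype, ← Nat.card_eq_fintype_card]
  refine Nat.card_congr
    { toFun := fun g => ⟨x⁻¹ * g.1 * x, (smul_mk_eq_iff H g.1 x).mp g.2.2, by
        have := hX g.1 g.2.1 x⁻¹
        rwa [inv_inv] at this⟩
      invFun := fun h => ⟨x * h.1 * x⁻¹, hX h.1 h.2.2 x, by
        rw [smul_mk_eq_iff]
        have : x⁻¹ * (x * h.1 * x⁻¹) * x = h.1 := by group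
        rw [this]
        exact h.2.1⟩
      left_inv := fun g => Subtype.ext (by
        show x * (x⁻¹ * g.1 * x) * x⁻¹ = g.1
        group)
      right_inv := fun h => Subtype.ext (by
        show x⁻¹ * (x * h.1 * x⁻¹) * x = h.1
        group) }

end Cfsg.Agent.Lib.Helper30_PC_DC

namespace Cfsg.Agent.Lib.Helper81_PCount

open Cfsg

/-! ## PK-DC -/

theorem sum_fpc {G : Type*} [Group G] [Fintype G] (H : Subgroup G) (X : G → Prop) [DecidablePred X]
    (hX : ∀ g, X g → ∀ x : G, X (x * g * x⁻¹)) :
    ∑ g ∈ Finset.univ.filter X, Cfsg.fixedPointCharacter H g =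
      (H.index : ℂ) * (Nat.card {g : G // g ∈ H ∧ X g} : ℂ) := by
  classical
  have : Fintype (G ⧸ H) := Fintype.ofFinite _
  have h1 : ∀ g : G, Cfsg.fixedPointCharacter H g =
      ∑ y : G ⧸ H, (if g • y = y then (1 : ℂ) else 0) := by
    intro g
    unfold Cfsg.fixedPointCharacter
    rw [Nat.card_eq_fintype_card, Finset.sum_boole]
    congr 1
    exact Fintype.card_subtype _
  calc ∑ g ∈ Finset.univ.filter X, Cfsg.fixedPointCharacter H g
      = ∑ g ∈ Finset.univ.filter X, ∑ y : G ⧸ H, (if g • y = y then (1 : ℂ) else 0) :=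
        Finset.sum_congr rfl (fun g _ => h1 g)
    _ = ∑ y : G ⧸ H, ∑ g ∈ Finset.univ.filter X, (if g • y = y then (1 : ℂ) else 0) :=
        Finset.sum_comm
    _ = ∑ y : G ⧸ H, (Nat.card {g : G // g ∈ H ∧ X g} : ℂ) := by
        refine Finset.sum_congr rfl (fun y _ => ?_)
        rw [Finset.sum_boole, Finset.filter_filter,
          Cfsg.Agent.Lib.Helper30_PC_DC.card_stab_filter H X hX y]
    _ = (H.index : ℂ) * (Nat.card {g : G // g ∈ H ∧ X g} : ℂ) := by
        rw [Finset.sum_const, Finset.card_univ, nsmul_eq_mul, Subgroup.index,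
          Nat.card_eq_fintype_card (α := G ⧸ H)]

theorem fpc_conj {G : Type*} [Group G] (H : Subgroup G) (x g : G) :
    Cfsg.fixedPointCharacter H (x * g * x⁻¹) = Cfsg.fixedPointCharacter H g := by
  unfold Cfsg.fixedPointCharacter
  congr 1
  refine Nat.card_congr
    { toFun := fun y => ⟨x⁻¹ • y.1, by
        have hy : (x * g * x⁻¹) • y.1 = y.1 := y.2
        rw [MulAction.mem_fixedBy]
        calc g • x⁻¹ • y.1 = x⁻¹ • ((x * g * x⁻¹) • y.1) := by
              simp only [smul_smul]
              congr 1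
              group
          _ = x⁻¹ • y.1 := by rw [hy]⟩
      invFun := fun y => ⟨x • y.1, by
        have hy : g • y.1 = y.1 := y.2
        rw [MulAction.mem_fixedBy]
        calc (x * g * x⁻¹) • x • y.1 = x • (g • y.1) := by
              simp only [smul_smul]
              congr 1
              group
          _ = x • y.1 := by rw [hy]⟩
      left_inv := fun y => Subtype.ext (by simp)
      right_inv := fun y => Subtype.ext (by simp) }

end Cfsg.Agent.Lib.Helper81_PCount
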