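import Mathlib
import Cfsg.Prelude.Def_ParabolicCharacters
import Cfsg.Prelude.Def_Characters
import Cfsg.Agent.Lib.Helper30_PC_DC

/-!
S2312 (architect helper81, market `sv_packages`), package SV-DC2: weighted double counting (Frobenius reciprocity for a
permutation character).
-/

set_option autoImplicit false
set_option linter.unusedSectionVars false
set_option linter.unusedVariables false

namespace Cfsg.Agent.Lib.Helper2_SV_DC2

open Cfsg

/-- the sum of a class function over the stabilizer of a coset is the sum over `H` -/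
theorem sum_stab {G : Type*} [Group G] [Fintype G] (H : Subgroup G) (ψ : G → ℂ)
    (hψ : Cfsg.IsClassFunction G ψ) (y : G ⧸ H) [DecidablePred fun g : G => g • y = y] :
    ∑ g : G, ψ g * (if g • y = y then (1 : ℂ) else 0) = ∑ᶠ h : H, ψ (h : G) := by
  classical
  obtain ⟨x, rfl⟩ := QuotientGroup.mk_surjective y
  rw [finsum_eq_sum_of_fintype]
  have e1 : ∀ g : G, ψ g * (if g • (x : G ⧸ H) = (x : G ⧸ H) then (1 : ℂ) else 0) =
      if x⁻¹ * g * x ∈ H then ψ (x⁻¹ * g * x) else 0 := by
    intro g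
    have hiff := Cfsg.Agent.Lib.Helper30_PC_DC.smul_mk_eq_iff H g x
    by_cases h : x⁻¹ * g * x ∈ H
    · rw [if_pos h, if_pos (hiff.2 h), mul_one]
      have := hψ g x⁻¹
      rw [inv_inv] at this
      exact this.symm
    · rw [if_neg h, if_neg (fun h' => h (hiff.1 h')), mul_zero]
  rw [Finset.sum_congr rfl (fun g _ => e1 g)]
  have e2 : ∑ g : G, (if x⁻¹ * g * x ∈ H then ψ (x⁻¹ * g * x) else 0) =
      ∑ g : G, (if g ∈ H then ψ g else 0) := by
    refine Fintype.sum_equiv (MulAut.conj x⁻¹).toEquiv _ _ ?_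
    intro g
    simp only [MulEquiv.toEquiv_eq_coe, MulEquiv.coe_toEquiv, MulAut.conj_apply, inv_inv]
  rw [e2, ← Finset.sum_filter]
  exact Finset.sum_subtype (Finset.univ.filter (· ∈ H)) (by simp) ψ

end Cfsg.Agent.Lib.Helper2_SV_DC2

namespace Cfsg.Agent.Lib.Helper81_StVal

open Cfsg

/-! ## SV-DC2: weighted double counting (Frobenius reciprocity for a permutation character) -/

theorem sum_mul_fpc {G : Type*} [Group G] [Fintype G] (H : Subgroup G) (ψ : G → ℂ)
    (hψ : Cfsg.IsClassFunction G ψ) :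
    ∑ g : G, ψ g * Cfsg.fixedPointCharacter H g = (H.index : ℂ) * ∑ᶠ h : H, ψ (h : G) := by
  classical
  have : Fintype (G ⧸ H) := Fintype.ofFinite _
  have h1 : ∀ g : G, Cfsg.fixedPointCharacter H g =
      ∑ y : G ⧸ H, (if g • y = y then (1 : ℂ) else 0) := by
    intro g
    unfold Cfsg.fixedPointCharacter
    rw [Nat.card_eq_fintype_card, Finset.sum_boole]
    congr 1
    exact Fintype.card_subtype _
  calc ∑ g : G, ψ g * Cfsg.fixedPointCharacter H g
      = ∑ g : G, ∑ y : G ⧸ H, ψ g * (if g • y = y then (1 : ℂ) else 0) := by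
        refine Finset.sum_congr rfl (fun g _ => ?_)
        rw [h1 g, Finset.mul_sum]
    _ = ∑ y : G ⧸ H, ∑ g : G, ψ g * (if g • y = y then (1 : ℂ) else 0) := Finset.sum_comm
    _ = ∑ y : G ⧸ H, ∑ᶠ h : H, ψ (h : G) := by
        refine Finset.sum_congr rfl (fun y _ => ?_)
        exact Cfsg.Agent.Lib.Helper2_SV_DC2.sum_stab H ψ hψ y
    _ = (H.index : ℂ) * ∑ᶠ h : H, ψ (h : G) := by
        rw [Finset.sum_const, Finset.card_univ, nsmul_eq_mul, Subgroup.index,
          Nat.card_eq_fintype_card (α := G ⧸ H)]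

end Cfsg.Agent.Lib.Helper81_StVal
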