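import Cfsg.Agent.Lib.Helper81_CharExpand

/-!
# Schur averaging and consequences (helper81)
-/

set_option autoImplicit false

namespace Cfsg.Agent.Lib.Helper81_CharSchur

open Cfsg Cfsg.Agent.Lib.Helper81_CharBasic Cfsg.Agent.Lib.Helper81_CharOrth
  Cfsg.Agent.Lib.Helper81_CharComplete Cfsg.Agent.Lib.Helper81_CharExpand

universe u

variable {G : Type u} [Group G]

section Average

variable {V : Type*} [AddCommGroup V] [Module ℂ V]

/-- The conjugation average of an endomorphism commutes with the representation. -/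
theorem conjSum_comm [Fintype G] (ρ : Representation ℂ G V) (A : Module.End ℂ V) (h : G) :
    (∑ x : G, ρ x * A * ρ x⁻¹) * ρ h = ρ h * (∑ x : G, ρ x * A * ρ x⁻¹) := by
  rw [Finset.sum_mul, Finset.mul_sum]
  refine Fintype.sum_equiv (Equiv.mulLeft h⁻¹) _ _ ?_
  intro x
  simp only [Equiv.coe_mulLeft, mul_inv_rev, inv_inv, map_mul]
  simp only [mul_assoc]
  rw [← mul_assoc (ρ h) (ρ h⁻¹), ← map_mul ρ h h⁻¹, mul_inv_cancel, map_one, one_mul]

variable [FiniteDimensional ℂ V]

/-- **Schur averaging.** For an irreducible representation, the conjugation average of an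
endomorphism `A` is the scalar `|G| tr A / dim V`. -/
theorem conjSum_eq_smul_id [Fintype G] (ρ : Representation ℂ G V) [ρ.IsIrreducible]
    (A : Module.End ℂ V) :
    ∃ c : ℂ, (∑ x : G, ρ x * A * ρ x⁻¹) = c • (1 : Module.End ℂ V) ∧
      c * (Module.finrank ℂ V : ℂ) = (Nat.card G : ℂ) * LinearMap.trace ℂ V A := by
  let T : Representation.IntertwiningMap ρ ρ :=
    ⟨∑ x : G, ρ x * A * ρ x⁻¹, fun h => conjSum_comm ρ A h⟩
  obtain ⟨c, hc⟩ :=
    (Representation.IsIrreducible.algebraMap_intertwiningMap_bijective_of_isAlgClosed (ρ := ρ)).2 T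
  have hT : (∑ x : G, ρ x * A * ρ x⁻¹) = c • (1 : Module.End ℂ V) := by
    have := congrArg Representation.IntertwiningMap.toLinearMap hc
    rw [Representation.IntertwiningMap.algebraMap_apply] at this
    rw [← show T.toLinearMap = ∑ x : G, ρ x * A * ρ x⁻¹ from rfl, ← this]
    rfl
  refine ⟨c, hT, ?_⟩
  have := congrArg (LinearMap.trace ℂ V) hT
  rw [map_smul, map_sum] at this
  have h1 : ∀ x : G, LinearMap.trace ℂ V (ρ x * A * ρ x⁻¹) = LinearMap.trace ℂ V A := by
    intro x
    rw [LinearMap.trace_mul_comm, ← mul_assoc, ← map_mul, inv_mul_cancel, map_one, one_mul]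
  simp only [h1, Finset.sum_const, Finset.card_univ, nsmul_eq_mul, smul_eq_mul] at this
  rw [LinearMap.trace_one] at this
  rw [← this, Nat.card_eq_fintype_card]

theorem finrank_ne_zero_of_irreducible (ρ : Representation ℂ G V) [ρ.IsIrreducible] :
    (Module.finrank ℂ V : ℂ) ≠ 0 := by
  have : Nontrivial (Subrepresentation ρ) := inferInstance
  have hV : Nontrivial V := by
    by_contra hV
    rw [not_nontrivial_iff_subsingleton] at hV
    obtain ⟨a, b, hab⟩ := this
    apply hab
    apply Subrepresentation.toSubmodule_injective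
    ext v
    have hv : v = 0 := Subsingleton.elim _ _
    simp [hv]
  exact_mod_cast (Module.finrank_pos (R := ℂ) (M := V)).ne'

/-- For an irreducible representation with character `χ`: `∑_{x,y} χ(x y x⁻¹ y⁻¹) = |G|² / χ(1)`. -/
theorem sum_sum_char_commutator [Fintype G] (ρ : Representation ℂ G V) [ρ.IsIrreducible] :
    (∑ x : G, ∑ y : G, ρ.character (x * y * x⁻¹ * y⁻¹)) * (Module.finrank ℂ V : ℂ)
      = (Nat.card G : ℂ) * (Nat.card G : ℂ) := by
  have hn := finrank_ne_zero_of_irreducible ρ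
  rw [Finset.sum_comm]
  have key : ∀ y : G, (∑ x : G, ρ.character (x * y * x⁻¹ * y⁻¹)) * (Module.finrank ℂ V : ℂ)
      = (Nat.card G : ℂ) * (ρ.character y * ρ.character y⁻¹) := by
    intro y
    obtain ⟨c, hc, hc2⟩ := conjSum_eq_smul_id ρ (ρ y)
    have h1 : ∑ x : G, ρ.character (x * y * x⁻¹ * y⁻¹)
        = LinearMap.trace ℂ V ((∑ x : G, ρ x * ρ y * ρ x⁻¹) * ρ y⁻¹) := by
      rw [Finset.sum_mul, map_sum]
      refine Finset.sum_congr rfl fun x _ => ?_
      simp only [Representation.character, map_mul]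
    rw [h1, hc, smul_mul_assoc, one_mul, map_smul, smul_eq_mul]
    have : LinearMap.trace ℂ V (ρ y⁻¹) = ρ.character y⁻¹ := rfl
    rw [this]
    have h2 : LinearMap.trace ℂ V (ρ y) = ρ.character y := rfl
    rw [h2] at hc2
    calc c * ρ.character y⁻¹ * (Module.finrank ℂ V : ℂ)
        = (c * (Module.finrank ℂ V : ℂ)) * ρ.character y⁻¹ := by ring
      _ = _ := by rw [hc2]; ring
  rw [Finset.sum_mul]
  simp only [key]
  rw [← Finset.mul_sum]
  congr 1
  exact sum_irr_mul_self_inv (isIrrCharacter_of_rep ρ inferInstance)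

end Average

end Cfsg.Agent.Lib.Helper81_CharSchur
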