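import Mathlib
import Cfsg.Prelude.Def_Characters
import Cfsg.Agent.Lib.Helper81_CharComplete
import Cfsg.Agent.Lib.Helper81_CharSchur

/-!
S2312 (architect helper81, market `sv_packages`), package SV-DEFL: the sum of an irreducible character over a coset of
a normal subgroup `N` is `c |N| φ(g)` with `c ∈ {0, 1}` (Schur's lemma for the idempotent-like operator
`∑_{k ∈ N} ρ(k)`).
-/

set_option autoImplicit false
set_option linter.unusedSectionVars false
set_option linter.unusedVariables false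

namespace Cfsg.Agent.Lib.Helper2_SV_DEFL

open Cfsg

variable {H : Type*} [Group H] [Fintype H]

/-- the indicator function of a normal subgroup is a class function -/
theorem isClassFunction_ind (N : Subgroup H) [N.Normal] [DecidablePred (· ∈ N)] :
    Cfsg.IsClassFunction H (fun g => if g ∈ N then (1 : ℂ) else 0) := by
  intro g h
  show (if h * g * h⁻¹ ∈ N then (1 : ℂ) else 0) = if g ∈ N then (1 : ℂ) else 0
  have : h * g * h⁻¹ ∈ N ↔ g ∈ N := by
    constructor
    · intro hh
      have := Subgroup.Normal.conj_mem ‹N.Normal› _ hh h⁻¹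
      rw [inv_inv] at this
      have e : h⁻¹ * (h * g * h⁻¹) * h = g := by group
      rwa [e] at this
    · intro hg
      exact Subgroup.Normal.conj_mem ‹N.Normal› _ hg h
  rw [if_congr this rfl rfl]

section rep
variable {V : Type*} [AddCommGroup V] [Module ℂ V] [FiniteDimensional ℂ V]

/-- the operator `∑_{k ∈ N} ρ(k)` -/
noncomputable def EN (N : Subgroup H) [Fintype N] (ρ : Representation ℂ H V) : V →ₗ[ℂ] V :=
  ∑ k : N, ρ (k : H)

omit [FiniteDimensional ℂ V] in
theorem EN_eq (N : Subgroup H) [Fintype N] [DecidablePred (· ∈ N)] (ρ : Representation ℂ H V) :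
    EN N ρ = ∑ g : H, (if g ∈ N then (1 : ℂ) else 0) • ρ g := by
  unfold EN
  have e : ∀ g : H, (if g ∈ N then (1 : ℂ) else 0) • ρ g = if g ∈ N then ρ g else 0 := by
    intro g
    split_ifs
    · rw [one_smul]
    · rw [zero_smul]
  rw [Finset.sum_congr rfl (fun g _ => e g), ← Finset.sum_filter]
  exact (Finset.sum_subtype (Finset.univ.filter (· ∈ N)) (by simp) (fun g => ρ g)).symm

omit [FiniteDimensional ℂ V] in
theorem EN_mul_rho (N : Subgroup H) [Fintype N] (ρ : Representation ℂ H V) (k₀ : N) :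
    EN N ρ * ρ (k₀ : H) = EN N ρ := by
  unfold EN
  rw [Finset.sum_mul]
  refine Fintype.sum_equiv (Equiv.mulRight k₀) _ _ ?_
  intro k
  rw [← map_mul]
  rfl

omit [FiniteDimensional ℂ V] in
theorem EN_sq (N : Subgroup H) [Fintype N] (ρ : Representation ℂ H V) :
    EN N ρ * EN N ρ = (Fintype.card N : ℂ) • EN N ρ := by
  have : EN N ρ * EN N ρ = ∑ k : N, EN N ρ * ρ (k : H) := by
    conv_lhs => rw [show EN N ρ * EN N ρ = EN N ρ * ∑ k : N, ρ (k : H) from rfl]
    rw [Finset.mul_sum]
  rw [this, Finset.sum_congr rfl (fun k _ => EN_mul_rho N ρ k), Finset.sum_const, Finset.card_univ,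
    Nat.cast_smul_eq_nsmul]

theorem defl_rep (N : Subgroup H) [N.Normal] [Fintype N] (ρ : Representation ℂ H V) [ρ.IsIrreducible] :
    ∃ c : ℂ, (c = 0 ∨ c = 1) ∧
      ∀ g : H, ∑ k : N, ρ.character (g * (k : H)) = c * (Fintype.card N : ℂ) * ρ.character g := by
  classical
  obtain ⟨l, hl, -⟩ := Cfsg.Agent.Lib.Helper81_CharComplete.classSum_eq_smul_id ρ
    (fun g => if g ∈ N then (1 : ℂ) else 0) (isClassFunction_ind N)
  rw [← EN_eq N ρ] at hl
  have hfr := Cfsg.Agent.Lib.Helper81_CharSchur.finrank_ne_zero_of_irreducible ρ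
  have hcard : (Fintype.card N : ℂ) ≠ 0 := by
    have : 0 < Fintype.card N := Fintype.card_pos
    exact_mod_cast this.ne'
  -- `l ^ 2 = |N| l`
  have hsq : l * l = (Fintype.card N : ℂ) * l := by
    have h1 := EN_sq N ρ
    rw [hl] at h1
    have h2 := congrArg (LinearMap.trace ℂ V) h1
    have e1 : (l • (LinearMap.id : V →ₗ[ℂ] V)) * (l • (LinearMap.id : V →ₗ[ℂ] V)) =
        (l * l) • (LinearMap.id : V →ₗ[ℂ] V) := by
      rw [smul_mul_smul_comm]
      rfl
    rw [e1, smul_smul, map_smul, map_smul, LinearMap.trace_id, smul_eq_mul, smul_eq_mul] at h2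
    exact mul_right_cancel₀ hfr h2
  have hl01 : l = 0 ∨ l = (Fintype.card N : ℂ) := by
    have : l * (l - (Fintype.card N : ℂ)) = 0 := by
      rw [mul_sub, hsq]; ring
    rcases mul_eq_zero.1 this with h | h
    · exact Or.inl h
    · exact Or.inr (sub_eq_zero.1 h)
  refine ⟨l / (Fintype.card N : ℂ), ?_, ?_⟩
  · rcases hl01 with h | h
    · left; rw [h, zero_div]
    · right; rw [h, div_self hcard]
  · intro g
    rw [div_mul_cancel₀ _ hcard]
    have e : ∑ k : N, ρ.character (g * (k : H)) = LinearMap.trace ℂ V (ρ g * EN N ρ) := by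
      unfold EN
      rw [Finset.mul_sum, map_sum]
      refine Finset.sum_congr rfl (fun k _ => ?_)
      rw [← map_mul]
      rfl
    rw [e, hl, mul_smul_comm, map_smul, smul_eq_mul]
    congr 1

end rep

end Cfsg.Agent.Lib.Helper2_SV_DEFL

namespace Cfsg.Agent.Lib.Helper81_StVal

open Cfsg

/-! ## SV-DEFL: averaging an irreducible character over the cosets of a normal subgroup -/

theorem defl_irr {H : Type*} [Group H] [Fintype H] (N : Subgroup H) [N.Normal] (φ : H → ℂ)
    (hφ : Cfsg.IsIrrCharacter H φ) :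
    ∃ c : ℂ, (c = 0 ∨ c = 1) ∧
      ∀ g : H, ∑ᶠ k : N, φ (g * (k : H)) = c * (Nat.card N : ℂ) * φ g := by
  classical
  obtain ⟨n, ρ, hirr, rfl⟩ := hφ
  have := hirr
  obtain ⟨c, hc, h⟩ := Cfsg.Agent.Lib.Helper2_SV_DEFL.defl_rep N ρ
  refine ⟨c, hc, fun g => ?_⟩
  rw [finsum_eq_sum_of_fintype, Nat.card_eq_fintype_card]
  exact h g

end Cfsg.Agent.Lib.Helper81_StVal
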