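import Mathlib

/-!
# S5559 (helper92): abstract setting for 3-transposition groups `K = P<t>` acting on a 2-group

`K` is a finite group with a normal 3-subgroup `P` of index two and an involution `t` outside `P`
whose conjugates generate `K` and pairwise have products of order dividing three.  `K` acts
faithfully (`rho`) on a commutative 2-group `W` such that every non-identity element of `P` which is
inverted by `t` has all its fixed points fixed by `t`.
-/

set_option autoImplicit false

namespace Cfsg.Agent.Lib.Helper92_TTDefs

/-- the hypotheses of the abstract theorem -/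
structure Hyp {K W : Type*} [Group K] [Group W] (rho : K →* MulAut W) (P : Subgroup K) (t : K) :
    Prop where
  comm : ∀ x y : W, x * y = y * x
  two : IsPGroup 2 W
  inj : Function.Injective rho
  normal : P.Normal
  three : IsPGroup 3 P
  index : P.index = 2
  ne_bot : P ≠ ⊥
  sq : t * t = 1
  notMem : t ∉ P
  cube : ∀ g : K, (t * (g * t * g⁻¹)) ^ 3 = 1
  gen : Subgroup.closure {x : K | ∃ g : K, x = g * t * g⁻¹} = ⊤
  fix : ∀ a ∈ P, a ≠ 1 → t * a * t = a⁻¹ → ∀ w : W, rho a w = w → rho t w = w

/-- the elements of `P` inverted by `t` -/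
def Inv {K : Type*} [Group K] (P : Subgroup K) (t : K) : Set K :=
  {a | a ∈ P ∧ t * a * t = a⁻¹}

theorem mem_Inv {K : Type*} [Group K] {P : Subgroup K} {t a : K} :
    a ∈ Inv P t ↔ a ∈ P ∧ t * a * t = a⁻¹ := Iff.rfl

end Cfsg.Agent.Lib.Helper92_TTDefs
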