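import Mathlib
import Cfsg.Agent.Lib.Helper92_TTDefs

/-!
# S5559 package TT-M1a (helper31, architect helper92): basic facts on the set `Inv P t` of elements
of `P` inverted by `t`
-/

set_option autoImplicit false
set_option linter.unusedSectionVars false

namespace Cfsg.Agent.Lib.Helper31_TT_M1a

open Cfsg.Agent.Lib.Helper92_TTDefs

section abstract

variable {K W : Type*} [Group K] [Group W] [Finite K] [Finite W]
  {rho : K →* MulAut W} {P : Subgroup K} {t : K}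

theorem t_inv (h : Hyp rho P t) : t⁻¹ = t := inv_eq_of_mul_eq_one_right h.sq

theorem one_mem_Inv (h : Hyp rho P t) : (1 : K) ∈ Inv P t := by
  refine ⟨P.one_mem, ?_⟩
  rw [mul_one, h.sq, inv_one]

/-- `t * a⁻¹ * t = a` for inverted `a` -/
theorem conj_inv_of_mem (h : Hyp rho P t) {a : K} (ha : a ∈ Inv P t) : t * a⁻¹ * t = a := by
  have h1 : (t * a * t)⁻¹ = a := by rw [ha.2, inv_inv]
  rw [mul_inv_rev, mul_inv_rev, t_inv h, ← mul_assoc] at h1
  exact h1

theorem inv_mem_Inv (h : Hyp rho P t) {a : K} (ha : a ∈ Inv P t) : a⁻¹ ∈ Inv P t := by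
  refine ⟨P.inv_mem ha.1, ?_⟩
  rw [conj_inv_of_mem h ha, inv_inv]

/-- `t * x * t ∈ P` for `x ∈ P` -/
theorem conj_t_mem (h : Hyp rho P t) {x : K} (hx : x ∈ P) : t * x * t ∈ P := by
  have := h.normal.conj_mem x hx t
  rwa [t_inv h] at this

/-- the `Inv`-part of an element of `P` -/
theorem part_mem_Inv (h : Hyp rho P t) {x : K} (hx : x ∈ P) : x⁻¹ * (t * x * t) ∈ Inv P t := by
  refine ⟨P.mul_mem (P.inv_mem hx) (conj_t_mem h hx), ?_⟩
  have ht := t_inv h
  have hsq := h.sq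
  calc t * (x⁻¹ * (t * x * t)) * t = t * x⁻¹ * t * x * (t * t) := by group
    _ = t * x⁻¹ * t * x := by rw [hsq, mul_one]
    _ = t⁻¹ * x⁻¹ * t⁻¹ * x := by rw [ht]
    _ = (x⁻¹ * (t * x * t))⁻¹ := by group

/-- every conjugate of `t` is `t * a` with `a` inverted -/
theorem conj_eq (h : Hyp rho P t) (g : K) : ∃ a ∈ Inv P t, g * t * g⁻¹ = t * a := by
  have ht := t_inv h
  have hsq := h.sq
  refine ⟨t * (g * t * g⁻¹), ⟨?_, ?_⟩, ?_⟩
  · rw [Subgroup.mul_mem_iff_of_index_two h.index]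
    have h1 : g * t * g⁻¹ ∉ P := by
      intro hc
      have := h.normal.conj_mem _ hc g⁻¹
      rw [inv_inv] at this
      apply h.notMem
      have e : g⁻¹ * (g * t * g⁻¹) * g = t := by group
      rwa [e] at this
    exact ⟨fun h2 => absurd h2 h.notMem, fun h2 => absurd h2 h1⟩
  · calc t * (t * (g * t * g⁻¹)) * t = (t * t) * (g * t * g⁻¹) * t := by group
      _ = g * t * g⁻¹ * t := by rw [hsq, one_mul]
      _ = g * t⁻¹ * g⁻¹ * t⁻¹ := by rw [ht]
      _ = (t * (g * t * g⁻¹))⁻¹ := by group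
  · calc g * t * g⁻¹ = (t * t) * (g * t * g⁻¹) := by rw [hsq, one_mul]
      _ = t * (t * (g * t * g⁻¹)) := by group

theorem cube_of_mem (h : Hyp rho P t) {a : K} (ha : a ∈ Inv P t) : a ^ 3 = 1 := by
  have ht := t_inv h
  have hsq := h.sq
  have hinv := conj_inv_of_mem h ha
  -- `t * (a⁻¹ * t * a) = a * a`
  have h1 : t * (a⁻¹ * t * a⁻¹⁻¹) = a * a := by
    rw [inv_inv]
    calc t * (a⁻¹ * t * a) = (t * a⁻¹ * t) * a := by group
      _ = a * a := by rw [hinv]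
  have h2 := h.cube a⁻¹
  rw [h1] at h2
  have h6 : a ^ 6 = 1 := by
    have e : a ^ 6 = (a * a) ^ 3 := by rw [← pow_two, ← pow_mul]
    rw [e, h2]
  obtain ⟨k, hk⟩ := h.three ⟨a, ha.1⟩
  have hk' : a ^ 3 ^ k = 1 := by
    have := congrArg Subtype.val hk
    simpa using this
  have hd6 : orderOf a ∣ 6 := orderOf_dvd_of_pow_eq_one h6
  have hd3 : orderOf a ∣ 3 ^ k := orderOf_dvd_of_pow_eq_one hk'
  have hcop : Nat.Coprime (orderOf a) 2 :=
    Nat.Coprime.coprime_dvd_left hd3 (Nat.Coprime.pow_left k (by norm_num))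
  have hd : orderOf a ∣ 3 := by
    have : orderOf a ∣ 2 * 3 := hd6
    exact hcop.dvd_of_dvd_mul_left this
  exact orderOf_dvd_iff_pow_eq_one.mp hd

/-- conversely (with `g = a`, using `a ^ 3 = 1`) -/
theorem conj_of_mem (h : Hyp rho P t) {a : K} (ha : a ∈ Inv P t) : a * t * a⁻¹ = t * a := by
  have ht := t_inv h
  have hsq := h.sq
  have h3 := cube_of_mem h ha
  have hinv := conj_inv_of_mem h ha
  have h1 : a⁻¹ * a⁻¹ = a := by
    have : a * a * a = 1 := by rw [← h3, pow_succ, pow_two]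
    calc a⁻¹ * a⁻¹ = a⁻¹ * a⁻¹ * (a * a * a) := by rw [this, mul_one]
      _ = a := by group
  have h2 : a * t = t * a⁻¹ := by
    calc a * t = (t * a⁻¹ * t) * t := by rw [hinv]
      _ = t * a⁻¹ * (t * t) := by group
      _ = t * a⁻¹ := by rw [hsq, mul_one]
  calc a * t * a⁻¹ = t * a⁻¹ * a⁻¹ := by rw [h2]
    _ = t * (a⁻¹ * a⁻¹) := by group
    _ = t * a := by rw [h1]

theorem cube_mul (h : Hyp rho P t) {a b : K} (ha : a ∈ Inv P t) (hb : b ∈ Inv P t) :
    (a⁻¹ * b) ^ 3 = 1 := by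
  have hsq := h.sq
  have hca := conj_of_mem h ha
  have hcb := conj_of_mem h hb
  have h1 : a⁻¹ * b = (t * a) * (t * b) := by
    calc a⁻¹ * b = (t * a * t) * b := by rw [ha.2]
      _ = (t * a) * (t * b) := by group
  have h2 : (t * a) * (t * b) = a * (t * ((a⁻¹ * b) * t * (a⁻¹ * b)⁻¹)) * a⁻¹ := by
    rw [← hca, ← hcb]; group
  rw [h1, h2, conj_pow, h.cube, mul_one, mul_inv_cancel]

theorem tri_mem_Inv (h : Hyp rho P t) {a b : K} (ha : a ∈ Inv P t) (hb : b ∈ Inv P t) :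
    a * b⁻¹ * a ∈ Inv P t := by
  have hsq := h.sq
  refine ⟨P.mul_mem (P.mul_mem ha.1 (P.inv_mem hb.1)) ha.1, ?_⟩
  have hb' := conj_inv_of_mem h hb
  calc t * (a * b⁻¹ * a) * t = (t * a) * 1 * b⁻¹ * 1 * (a * t) := by group
    _ = (t * a) * (t * t) * b⁻¹ * (t * t) * (a * t) := by rw [hsq]
    _ = (t * a * t) * (t * b⁻¹ * t) * (t * a * t) := by group
    _ = a⁻¹ * b * a⁻¹ := by rw [ha.2, hb']
    _ = (a * b⁻¹ * a)⁻¹ := by group

end abstract

end Cfsg.Agent.Lib.Helper31_TT_M1a
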