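import Mathlib

/-!
# S5559 package TT-M3 (architect helper92): generation by the fixed points of the four cyclic
subgroups of `3 × 3`
-/

set_option autoImplicit false

namespace Cfsg.Agent.Lib.Helper70_TT_M3

/-- an element of 2-power order is a power of its cube -/
theorem mem_of_cube_mem {W : Type*} [Group W] (h2 : IsPGroup 2 W) (S : Subgroup W) (w : W)
    (h : w * w * w ∈ S) : w ∈ S := by
  obtain ⟨k, hk⟩ := h2 w
  have h4 : w ^ (4 ^ k) = 1 := by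
    have : (4 : ℕ) ^ k = 2 ^ k * 2 ^ k := by
      rw [← mul_pow]
      norm_num
    rw [this, pow_mul, hk, one_pow]
  have hmod : 4 ^ k % 3 = 1 := by
    rw [Nat.pow_mod]
    simp
  have hdiv := Nat.div_add_mod (4 ^ k) 3
  rw [hmod] at hdiv
  have hw3 : w ^ 3 ∈ S := by
    have : w ^ 3 = w * w * w := by
      rw [pow_succ, pow_two]
    rw [this]; exact h
  have h5 : (w ^ 3) ^ (4 ^ k / 3) * w = 1 := by
    rw [← pow_mul, ← pow_succ, hdiv, h4]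
  have h6 : w = ((w ^ 3) ^ (4 ^ k / 3))⁻¹ := eq_inv_of_mul_eq_one_right h5
  rw [h6]
  exact S.inv_mem (S.pow_mem hw3 _)

theorem gen_fix {W : Type*} [Group W] [Finite W] (hc : ∀ x y : W, x * y = y * x)
    (h2 : IsPGroup 2 W) (α β : MulAut W) (N S : Subgroup W)
    (hαN : ∀ w ∈ N, α w ∈ N) (hβN : ∀ w ∈ N, β w ∈ N)
    (hαβ : ∀ w ∈ N, α (β w) = β (α w))
    (hα3 : ∀ w ∈ N, α (α (α w)) = w) (hβ3 : ∀ w ∈ N, β (β (β w)) = w)
    (h1 : ∀ w ∈ N, α w = w → w ∈ S)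
    (h2' : ∀ w ∈ N, β w = w → w ∈ S)
    (h3 : ∀ w ∈ N, α (β w) = w → w ∈ S)
    (h4 : ∀ w ∈ N, α (β (β w)) = w → w ∈ S) : N ≤ S := by
  have : Std.Commutative (α := W) (· * ·) := ⟨hc⟩
  intro w hw
  apply mem_of_cube_mem h2 S w
  -- the nine elements `α^i β^j w`
  obtain ⟨a1, ha1⟩ : ∃ a1, a1 = α w := ⟨_, rfl⟩
  obtain ⟨a2, ha2⟩ : ∃ a2, a2 = α a1 := ⟨_, rfl⟩
  obtain ⟨b1, hb1⟩ : ∃ b1, b1 = β w := ⟨_, rfl⟩
  obtain ⟨b2, hb2⟩ : ∃ b2, b2 = β b1 := ⟨_, rfl⟩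
  obtain ⟨c1, hc1⟩ : ∃ c1, c1 = α b1 := ⟨_, rfl⟩
  obtain ⟨c2, hc2⟩ : ∃ c2, c2 = α c1 := ⟨_, rfl⟩
  obtain ⟨d1, hd1⟩ : ∃ d1, d1 = α b2 := ⟨_, rfl⟩
  obtain ⟨d2, hd2⟩ : ∃ d2, d2 = α d1 := ⟨_, rfl⟩
  have ma1 : a1 ∈ N := by rw [ha1]; exact hαN w hw
  have ma2 : a2 ∈ N := by rw [ha2]; exact hαN a1 ma1
  have mb1 : b1 ∈ N := by rw [hb1]; exact hβN w hw
  have mb2 : b2 ∈ N := by rw [hb2]; exact hβN b1 mb1
  have mc1 : c1 ∈ N := by rw [hc1]; exact hαN b1 mb1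
  have mc2 : c2 ∈ N := by rw [hc2]; exact hαN c1 mc1
  have md1 : d1 ∈ N := by rw [hd1]; exact hαN b2 mb2
  have md2 : d2 ∈ N := by rw [hd2]; exact hαN d1 md1
  -- the action of `α`
  have αw : α w = a1 := ha1.symm
  have αa1 : α a1 = a2 := ha2.symm
  have αa2 : α a2 = w := by rw [ha2, ha1]; exact hα3 w hw
  have αb1 : α b1 = c1 := hc1.symm
  have αc1 : α c1 = c2 := hc2.symm
  have αc2 : α c2 = b1 := by rw [hc2, hc1]; exact hα3 b1 mb1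
  have αb2 : α b2 = d1 := hd1.symm
  have αd1 : α d1 = d2 := hd2.symm
  have αd2 : α d2 = b2 := by rw [hd2, hd1]; exact hα3 b2 mb2
  -- the action of `β`
  have βw : β w = b1 := hb1.symm
  have βb1 : β b1 = b2 := hb2.symm
  have βb2 : β b2 = w := by rw [hb2, hb1]; exact hβ3 w hw
  have βa1 : β a1 = c1 := by rw [ha1, ← hαβ w hw, βw, αb1]
  have βc1 : β c1 = d1 := by rw [hc1, ← hαβ b1 mb1, βb1, αb2]
  have βd1 : β d1 = a1 := by rw [hd1, ← hαβ b2 mb2, βb2, αw]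
  have βa2 : β a2 = c2 := by rw [ha2, ← hαβ a1 ma1, βa1, αc1]
  have βc2 : β c2 = d2 := by rw [hc2, ← hαβ c1 mc1, βc1, αd1]
  have βd2 : β d2 = a2 := by rw [hd2, ← hαβ d1 md1, βd1, αa1]
  -- the four norms
  have s1 : w * a1 * a2 ∈ S := by
    apply h1 _ (N.mul_mem (N.mul_mem hw ma1) ma2)
    rw [map_mul, map_mul, αw, αa1, αa2]
    ac_rfl
  have s2 : w * b1 * b2 ∈ S := by
    apply h2' _ (N.mul_mem (N.mul_mem hw mb1) mb2)
    rw [map_mul, map_mul, βw, βb1, βb2]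
    ac_rfl
  have s3 : w * c1 * d2 ∈ S := by
    apply h3 _ (N.mul_mem (N.mul_mem hw mc1) md2)
    rw [map_mul, map_mul, map_mul, map_mul, βw, βc1, βd2, αb1, αd1, αa2]
    ac_rfl
  have s4 : w * d1 * c2 ∈ S := by
    apply h4 _ (N.mul_mem (N.mul_mem hw md1) mc2)
    rw [map_mul, map_mul, map_mul, map_mul, map_mul, map_mul, βw, βd1, βc2, βb1, βa1, βd2,
      αb2, αc1, αa2]
    ac_rfl
  -- the full norm
  have hτ : w * a1 * a2 * b1 * c1 * c2 * b2 * d1 * d2 ∈ S := by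
    apply h1 _ (N.mul_mem (N.mul_mem (N.mul_mem (N.mul_mem (N.mul_mem (N.mul_mem (N.mul_mem
      (N.mul_mem hw ma1) ma2) mb1) mc1) mc2) mb2) md1) md2)
    simp only [map_mul, αw, αa1, αa2, αb1, αc1, αc2, αb2, αd1, αd2]
    ac_rfl
  have hprod : (w * a1 * a2) * (w * b1 * b2) * (w * c1 * d2) * (w * d1 * c2) =
      (w * w * w) * (w * a1 * a2 * b1 * c1 * c2 * b2 * d1 * d2) := by
    ac_rfl
  have hall := S.mul_mem (S.mul_mem (S.mul_mem s1 s2) s3) s4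
  rw [hprod] at hall
  have := S.mul_mem hall (S.inv_mem hτ)
  rw [mul_inv_cancel_right] at this
  exact this

end Cfsg.Agent.Lib.Helper70_TT_M3
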