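import Mathlib
import Cfsg.Agent.Lib.Helper92_TTDefs
import Cfsg.Agent.Lib.Helper31_TT_M1a
import Cfsg.Agent.Lib.Helper70_TT_M3

/-!
# S5559 package TT-M4 (helper92's market): the key lemma and `comm_cases`.
-/

set_option autoImplicit false
set_option linter.unusedVariables false
set_option linter.unusedSectionVars false

namespace Cfsg.Agent.Lib.Helper2_TT_M4

open Cfsg.Agent.Lib.Helper92_TTDefs
open Cfsg.Agent.Lib.Helper31_TT_M1a Cfsg.Agent.Lib.Helper70_TT_M3

section abstract

variable {K W : Type*} [Group K] [Group W] [Finite K] [Finite W]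
  {rho : K →* MulAut W} {P : Subgroup K} {t : K}

/-- the subgroup of fixed points of an automorphism -/
def fixSub (σ : MulAut W) : Subgroup W where
  carrier := {w | σ w = w}
  mul_mem' := by
    intro x y hx hy
    show σ (x * y) = x * y
    rw [map_mul, hx, hy]
  one_mem' := map_one σ
  inv_mem' := by
    intro x hx
    show σ x⁻¹ = x⁻¹
    rw [map_inv, hx]

theorem mem_fixSub {σ : MulAut W} {w : W} : w ∈ fixSub σ ↔ σ w = w := Iff.rfl

omit [Finite K] [Finite W] in
theorem rho_mul_apply (x y : K) (w : W) : rho (x * y) w = rho x (rho y w) := by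
  rw [map_mul]; rfl

omit [Finite K] [Finite W] in
theorem rho_cube {b : K} (hb3 : b ^ 3 = 1) (w : W) : rho b (rho b (rho b w)) = w := by
  rw [← rho_mul_apply, ← rho_mul_apply]
  have : b * b * b = 1 := by rw [← hb3, pow_succ, pow_two]
  rw [this, map_one]; rfl

omit [Finite K] [Finite W] in
theorem rho_inv_of_cube {b : K} (hb3 : b ^ 3 = 1) (w : W) : rho b⁻¹ w = rho b (rho b w) := by
  rw [← rho_mul_apply]
  have : b⁻¹ = b * b := by
    apply inv_eq_of_mul_eq_one_right
    rw [← hb3, pow_succ, pow_two, mul_assoc]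
  rw [this]

theorem key (h : Hyp rho P t) (N : Subgroup W) (hN : ∀ g : K, ∀ w ∈ N, rho g w ∈ N)
    {a b : K} (ha : a ∈ Inv P t) (hb : b ∈ Inv P t)
    (hab : ∀ w ∈ N, rho a (rho b w) = rho b (rho a w))
    (ha1 : a ≠ 1) (hb1 : b ≠ 1) (h3 : b⁻¹ * a * b⁻¹ ≠ 1) (h4 : b * a * b ≠ 1) :
    ∀ w ∈ N, rho t w = w := by
  have ha3 : a ^ 3 = 1 := cube_of_mem h ha
  have hb3 : b ^ 3 = 1 := cube_of_mem h hb
  have hc1 : b⁻¹ * a * b⁻¹ ∈ Inv P t := by
    have := tri_mem_Inv h (inv_mem_Inv h hb) (inv_mem_Inv h ha)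
    rwa [inv_inv] at this
  have hc2 : b * a * b ∈ Inv P t := by
    have := tri_mem_Inv h hb (inv_mem_Inv h ha)
    rwa [inv_inv] at this
  have hle : N ≤ fixSub (rho t) := by
    refine gen_fix h.comm h.two (rho a) (rho b) N (fixSub (rho t)) (hN a) (hN b) hab
      (fun w _ => rho_cube ha3 w) (fun w _ => rho_cube hb3 w) ?_ ?_ ?_ ?_
    · intro w hw hfix
      exact h.fix a ha.1 ha1 ha.2 w hfix
    · intro w hw hfix
      exact h.fix b hb.1 hb1 hb.2 w hfix
    · intro w hw hfix
      refine h.fix _ hc1.1 h3 hc1.2 w ?_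
      rw [rho_mul_apply, rho_mul_apply, rho_inv_of_cube hb3, rho_inv_of_cube hb3]
      -- `B (B (A (B (B w)))) = w`
      have hBw : rho b w ∈ N := hN b w hw
      rw [hab (rho b w) hBw, hab w hw, rho_cube hb3, ← hab w hw]
      exact hfix
    · intro w hw hfix
      refine h.fix _ hc2.1 h4 hc2.2 w ?_
      rw [rho_mul_apply, rho_mul_apply]
      have hBw : rho b w ∈ N := hN b w hw
      rw [← hab (rho b w) hBw]
      exact hfix
  intro w hw
  exact hle hw

/-- commuting inverted elements generate a cyclic group -/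
theorem comm_cases (h : Hyp rho P t) {a b : K} (ha : a ∈ Inv P t) (hb : b ∈ Inv P t)
    (ha1 : a ≠ 1) (hab : a * b = b * a) : b = 1 ∨ b = a ∨ b = a⁻¹ := by
  by_contra hcon
  push Not at hcon
  obtain ⟨hb1, hba, hbai⟩ := hcon
  have hb3 : b ^ 3 = 1 := cube_of_mem h hb
  have hbb : b * b = b⁻¹ := by
    symm
    apply inv_eq_of_mul_eq_one_right
    rw [← hb3, pow_succ, pow_two, mul_assoc]
  have h3 : b⁻¹ * a * b⁻¹ ≠ 1 := by
    intro h1
    apply hbai
    have : a = b * b := by
      calc a = b * (b⁻¹ * a * b⁻¹) * b := by group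
        _ = b * b := by rw [h1, mul_one]
    rw [this, hbb, inv_inv]
  have h4 : b * a * b ≠ 1 := by
    intro h1
    apply hba
    have : a = b⁻¹ * b⁻¹ := by
      calc a = b⁻¹ * (b * a * b) * b⁻¹ := by group
        _ = b⁻¹ * b⁻¹ := by rw [h1, mul_one]
    rw [this, ← mul_inv_rev, hbb, inv_inv]
  have hfix := key h ⊤ (fun g w _ => Subgroup.mem_top _) ha hb
    (fun w _ => by rw [← rho_mul_apply, ← rho_mul_apply, hab]) ha1 hb1 h3 h4
  have ht1 : rho t = rho 1 := by
    rw [map_one]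
    ext w
    exact hfix w (Subgroup.mem_top _)
  have : t = 1 := h.inj ht1
  exact h.notMem (this ▸ P.one_mem)

end abstract

end Cfsg.Agent.Lib.Helper2_TT_M4
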