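import Mathlib
import Cfsg.Agent.Lib.Helper92_TTDefs
import Cfsg.Agent.Lib.Helper31_TT_M1a

/-!
# S5559 package TT-M1b (helper31, architect helper92): the elements of `P` inverted by `t`
generate `P`
-/

set_option autoImplicit false
set_option linter.unusedSectionVars false

namespace Cfsg.Agent.Lib.Helper31_TT_M1b

open Cfsg.Agent.Lib.Helper92_TTDefs Cfsg.Agent.Lib.Helper31_TT_M1a

section abstract

variable {K W : Type*} [Group K] [Group W] [Finite K] [Finite W]
  {rho : K →* MulAut W} {P : Subgroup K} {t : K}

/-- the closure of `Inv P t` is contained in `P` -/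
theorem closure_Inv_le : Subgroup.closure (Inv P t) ≤ P := by
  rw [Subgroup.closure_le]
  intro a ha
  exact ha.1

/-- the closure of `Inv P t` is invariant under conjugation by `t` -/
theorem conj_t_mem_closure (h : Hyp rho P t) {r : K} (hr : r ∈ Subgroup.closure (Inv P t)) :
    t * r * t ∈ Subgroup.closure (Inv P t) := by
  have ht := t_inv h
  have hsq := h.sq
  induction hr using Subgroup.closure_induction with
  | mem a ha =>
    rw [ha.2]
    exact Subgroup.subset_closure (inv_mem_Inv h ha)
  | one =>
    rw [mul_one, hsq]
    exact Subgroup.one_mem _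
  | mul x y _ _ hx hy =>
    have e : t * (x * y) * t = (t * x * t) * (t * y * t) := by
      calc t * (x * y) * t = t * x * 1 * y * t := by group
        _ = t * x * (t * t) * y * t := by rw [hsq]
        _ = (t * x * t) * (t * y * t) := by group
    rw [e]
    exact Subgroup.mul_mem _ hx hy
  | inv x _ hx =>
    have e : t * x⁻¹ * t = (t * x * t)⁻¹ := by
      calc t * x⁻¹ * t = t⁻¹ * x⁻¹ * t⁻¹ := by rw [ht]
        _ = (t * x * t)⁻¹ := by group
    rw [e]
    exact Subgroup.inv_mem _ hx

/-- every element of `K` lies in `R = closure (Inv P t)` or in `t R` -/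
theorem mem_or_mul_mem (h : Hyp rho P t) (g : K) :
    g ∈ Subgroup.closure (Inv P t) ∨ t * g ∈ Subgroup.closure (Inv P t) := by
  have ht := t_inv h
  have hsq := h.sq
  have hg : g ∈ Subgroup.closure {x : K | ∃ g : K, x = g * t * g⁻¹} := by
    rw [h.gen]; exact Subgroup.mem_top g
  induction hg using Subgroup.closure_induction with
  | mem x hx =>
    obtain ⟨g, rfl⟩ := hx
    obtain ⟨a, ha, hga⟩ := conj_eq h g
    right
    rw [hga, ← mul_assoc, hsq, one_mul]
    exact Subgroup.subset_closure ha
  | one => exact Or.inl (Subgroup.one_mem _)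
  | mul x y _ _ hx hy =>
    rcases hx with hx | hx <;> rcases hy with hy | hy
    · exact Or.inl (Subgroup.mul_mem _ hx hy)
    · right
      have e : t * (x * y) = (t * x * t) * (t * y) := by
        calc t * (x * y) = t * x * 1 * y := by group
          _ = t * x * (t * t) * y := by rw [hsq]
          _ = (t * x * t) * (t * y) := by group
      rw [e]
      exact Subgroup.mul_mem _ (conj_t_mem_closure h hx) hy
    · right
      rw [← mul_assoc]
      exact Subgroup.mul_mem _ hx hy
    · left
      have e : x * y = (t * (t * x) * t) * (t * y) := by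
        calc x * y = 1 * x * 1 * y := by group
          _ = (t * t) * x * (t * t) * y := by rw [hsq]
          _ = (t * (t * x) * t) * (t * y) := by group
      rw [e]
      exact Subgroup.mul_mem _ (conj_t_mem_closure h hx) hy
  | inv x _ hx =>
    rcases hx with hx | hx
    · exact Or.inl (Subgroup.inv_mem _ hx)
    · right
      have e : t * x⁻¹ = t * (t * x)⁻¹ * t := by
        calc t * x⁻¹ = t * x⁻¹ * 1 := by group
          _ = t * x⁻¹ * (t⁻¹ * t) := by rw [inv_mul_cancel]
          _ = t * (t * x)⁻¹ * t := by group
      rw [e]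
      exact conj_t_mem_closure h (Subgroup.inv_mem _ hx)

theorem closure_Inv (h : Hyp rho P t) : Subgroup.closure (Inv P t) = P := by
  apply le_antisymm closure_Inv_le
  intro g hg
  rcases mem_or_mul_mem h g with h1 | h1
  · exact h1
  · exfalso
    apply h.notMem
    have h2 : t * g ∈ P := closure_Inv_le h1
    have := P.mul_mem h2 (P.inv_mem hg)
    rwa [mul_inv_cancel_right] at this

end abstract

end Cfsg.Agent.Lib.Helper31_TT_M1b
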