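import Mathlib
import Cfsg.Agent.Lib.Helper92_TTDefs
import Cfsg.Agent.Lib.Helper31_TT_M1a
import Cfsg.Agent.Lib.Helper31_TT_M1b
import Cfsg.Agent.Lib.Helper2_TT_M4

/-!
# S5559 package TT-M6 (helper92's market): the centre of `P` is fixed by `t`; an inverted element in the
second centre.
-/

set_option autoImplicit false
set_option linter.unusedVariables false
set_option linter.unusedSectionVars false
set_option linter.style.haveILetI false

namespace Cfsg.Agent.Lib.Helper2_TT_M6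

open Cfsg.Agent.Lib.Helper92_TTDefs Cfsg.Agent.Lib.Helper31_TT_M1a Cfsg.Agent.Lib.Helper31_TT_M1b
  Cfsg.Agent.Lib.Helper2_TT_M4

section abstract

variable {K W : Type*} [Group K] [Group W] [Finite K] [Finite W]
  {rho : K →* MulAut W} {P : Subgroup K} {t : K}

/-- the `t`-conjugate of a central element of `P` is central in `P` -/
theorem conj_central (h : Hyp rho P t) {z : K} (hzc : ∀ y ∈ P, z * y = y * z) :
    ∀ y ∈ P, (t * z * t) * y = y * (t * z * t) := by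
  intro y hy
  have htt : t * t = 1 := h.sq
  have hy2 : t * y * t ∈ P := conj_t_mem h hy
  calc (t * z * t) * y = t * z * t * y * (t * t) := by rw [htt, mul_one]
    _ = t * (z * (t * y * t)) * t := by simp only [mul_assoc]
    _ = t * ((t * y * t) * z) * t := by rw [hzc _ hy2]
    _ = (t * t) * y * (t * z * t) := by simp only [mul_assoc]
    _ = y * (t * z * t) := by rw [htt, one_mul]

/-- an inverted central element of a non-abelian `P` is trivial -/
theorem inv_central_eq_one (h : Hyp rho P t) (hnc : ¬ ∀ x ∈ P, ∀ y ∈ P, x * y = y * x) {u : K}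
    (hu : u ∈ Inv P t) (huc : ∀ y ∈ P, u * y = y * u) : u = 1 := by
  by_contra hu1
  apply hnc
  have hsub : Inv P t ⊆ (Subgroup.zpowers u : Set K) := by
    intro b hb
    rcases comm_cases h hu hb hu1 (huc b hb.1) with rfl | rfl | rfl
    · exact Subgroup.one_mem _
    · exact Subgroup.mem_zpowers _
    · exact Subgroup.inv_mem _ (Subgroup.mem_zpowers _)
  have hle : P ≤ Subgroup.zpowers u := by
    rw [← closure_Inv h, Subgroup.closure_le]
    exact hsub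
  intro x hx y hy
  obtain ⟨m, rfl⟩ := Subgroup.mem_zpowers_iff.mp (hle hx)
  obtain ⟨n, rfl⟩ := Subgroup.mem_zpowers_iff.mp (hle hy)
  exact (Commute.zpow_zpow_self u m n).eq

theorem center_fixed (h : Hyp rho P t) (hnc : ¬ ∀ x ∈ P, ∀ y ∈ P, x * y = y * x) {z : K}
    (hz : z ∈ P) (hzc : ∀ y ∈ P, z * y = y * z) : t * z * t = z := by
  have hu : z⁻¹ * (t * z * t) ∈ Inv P t := part_mem_Inv h hz
  have huc : ∀ y ∈ P, (z⁻¹ * (t * z * t)) * y = y * (z⁻¹ * (t * z * t)) := by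
    intro y hy
    have h1 : Commute z y := hzc y hy
    have h2 : Commute (t * z * t) y := conj_central h hzc y hy
    exact (h1.inv_left.mul_left h2).eq
  have h1 := inv_central_eq_one h hnc hu huc
  calc t * z * t = z * (z⁻¹ * (t * z * t)) := by group
    _ = z := by rw [h1, mul_one]

/-- `g` lies in the second centre of `P` -/
def Cen2 (P : Subgroup K) (g : K) : Prop :=
  ∀ y ∈ P, ∀ y' ∈ P, (g * y * g⁻¹ * y⁻¹) * y' = y' * (g * y * g⁻¹ * y⁻¹)

omit [Finite K] in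
theorem cen2_inv {g : K} (hg : g ∈ P) (h2 : Cen2 P g) : Cen2 P g⁻¹ := by
  intro y hy y' hy'
  have hcg : Commute (g * y * g⁻¹ * y⁻¹) g := h2 y hy g hg
  have hcy : Commute (g * y * g⁻¹ * y⁻¹) y' := h2 y hy y' hy'
  have e : g⁻¹ * y * g⁻¹⁻¹ * y⁻¹ = (g * y * g⁻¹ * y⁻¹)⁻¹ := by
    calc g⁻¹ * y * g⁻¹⁻¹ * y⁻¹ = ((g * y * g⁻¹ * y⁻¹) * g)⁻¹ * g := by group
      _ = (g * (g * y * g⁻¹ * y⁻¹))⁻¹ * g := by rw [hcg.eq]
      _ = (g * y * g⁻¹ * y⁻¹)⁻¹ := by group
  rw [e]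
  exact hcy.inv_left.eq

omit [Finite K] in
theorem cen2_mul {g g' : K} (hg : g ∈ P) (hg' : g' ∈ P) (h2 : Cen2 P g) (h2' : Cen2 P g') :
    Cen2 P (g * g') := by
  intro y hy y' hy'
  have hcg : Commute (g' * y * g'⁻¹ * y⁻¹) g := h2' y hy g hg
  have hcy : Commute (g * y * g⁻¹ * y⁻¹) y' := h2 y hy y' hy'
  have hcy' : Commute (g' * y * g'⁻¹ * y⁻¹) y' := h2' y hy y' hy'
  have e : g * g' * y * (g * g')⁻¹ * y⁻¹ = (g' * y * g'⁻¹ * y⁻¹) * (g * y * g⁻¹ * y⁻¹) := by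
    calc g * g' * y * (g * g')⁻¹ * y⁻¹
        = (g * (g' * y * g'⁻¹ * y⁻¹)) * g⁻¹ * (g * y * g⁻¹ * y⁻¹) := by group
      _ = ((g' * y * g'⁻¹ * y⁻¹) * g) * g⁻¹ * (g * y * g⁻¹ * y⁻¹) := by rw [hcg.eq]
      _ = (g' * y * g'⁻¹ * y⁻¹) * (g * y * g⁻¹ * y⁻¹) := by group
  rw [e]
  exact (hcy'.mul_left hcy).eq

theorem cen2_conj (h : Hyp rho P t) {g : K} (hg : g ∈ P) (h2 : Cen2 P g) : Cen2 P (t * g * t) := by
  intro y hy
  have hy2 : t * y * t ∈ P := conj_t_mem h hy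
  have e : t * g * t * y * (t * g * t)⁻¹ * y⁻¹ =
      t * (g * (t * y * t) * g⁻¹ * (t * y * t)⁻¹) * t := by
    have e0 : t * g * t⁻¹ * y * (t * g * t⁻¹)⁻¹ * y⁻¹ =
        t * (g * (t⁻¹ * y * t) * g⁻¹ * (t⁻¹ * y * t)⁻¹) * t⁻¹ := by group
    rw [t_inv h] at e0
    exact e0
  rw [e]
  exact conj_central h (h2 _ hy2)

theorem exists_second_center (h : Hyp rho P t) (hnc : ¬ ∀ x ∈ P, ∀ y ∈ P, x * y = y * x) :
    ∃ i ∈ Inv P t, (∃ y ∈ P, i * y ≠ y * i) ∧
      ∀ x ∈ P, ∀ y ∈ P, (i * x * i⁻¹ * x⁻¹) * y = y * (i * x * i⁻¹ * x⁻¹) := by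
  classical
  haveI : Fact (Nat.Prime 3) := ⟨Nat.prime_three⟩
  -- a non-central element of the second centre
  obtain ⟨x, hxP, hxnc, hx2⟩ : ∃ x ∈ P, (∃ y ∈ P, x * y ≠ y * x) ∧ Cen2 P x := by
    have hnc' := hnc
    push Not at hnc'
    obtain ⟨x0, hx0, y0, hy0, hne⟩ := hnc'
    have hx0nc : (⟨x0, hx0⟩ : ↥P) ∉ Subgroup.center ↥P := by
      intro hmem
      rw [Subgroup.mem_center_iff] at hmem
      have := hmem ⟨y0, hy0⟩
      exact hne (congrArg Subtype.val this).symm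
    haveI : Nontrivial (↥P ⧸ Subgroup.center ↥P) := by
      refine ⟨⟨QuotientGroup.mk ⟨x0, hx0⟩, 1, ?_⟩⟩
      rw [Ne, QuotientGroup.eq_one_iff]
      exact hx0nc
    have hq : IsPGroup 3 (↥P ⧸ Subgroup.center ↥P) := h.three.to_quotient _
    haveI := hq.center_nontrivial
    obtain ⟨⟨xb, hxb⟩, hxb1⟩ := exists_ne (1 : Subgroup.center (↥P ⧸ Subgroup.center ↥P))
    obtain ⟨x, rfl⟩ := QuotientGroup.mk_surjective xb
    have hxnc : x ∉ Subgroup.center ↥P := by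
      intro hmem
      apply hxb1
      apply Subtype.ext
      exact (QuotientGroup.eq_one_iff x).mpr hmem
    have hx2 : ∀ y : ↥P, x * y * x⁻¹ * y⁻¹ ∈ Subgroup.center ↥P := by
      intro y
      rw [← QuotientGroup.eq_one_iff]
      rw [Subgroup.mem_center_iff] at hxb
      have := hxb (QuotientGroup.mk y)
      simp only [QuotientGroup.mk_mul, QuotientGroup.mk_inv]
      rw [← this]; group
    refine ⟨x.1, x.2, ?_, ?_⟩
    · by_contra hall
      push Not at hall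
      apply hxnc
      rw [Subgroup.mem_center_iff]
      intro g
      exact Subtype.ext (hall g.1 g.2).symm
    · intro y hy y' hy'
      have := hx2 ⟨y, hy⟩
      rw [Subgroup.mem_center_iff] at this
      exact (congrArg Subtype.val (this ⟨y', hy'⟩)).symm
  have hiInv : x⁻¹ * (t * x * t) ∈ Inv P t := part_mem_Inv h hxP
  have hi2 : Cen2 P (x⁻¹ * (t * x * t)) :=
    cen2_mul (P.inv_mem hxP) (conj_t_mem h hxP) (cen2_inv hxP hx2) (cen2_conj h hxP hx2)
  by_cases hic : ∃ y ∈ P, (x⁻¹ * (t * x * t)) * y ≠ y * (x⁻¹ * (t * x * t))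
  · exact ⟨_, hiInv, hic, hi2⟩
  · exfalso
    push Not at hic
    have hi1 : x⁻¹ * (t * x * t) = 1 := inv_central_eq_one h hnc hiInv hic
    have htx : t * x * t = x := by
      calc t * x * t = x * (x⁻¹ * (t * x * t)) := by group
        _ = x := by rw [hi1, mul_one]
    have htx' : t * x * t⁻¹ = x := by rw [t_inv h, htx]
    -- `x` commutes with every inverted element
    have hxa : ∀ a ∈ Inv P t, a * x = x * a := by
      intro a ha
      have hcP : x * a * x⁻¹ * a⁻¹ ∈ P :=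
        P.mul_mem (P.mul_mem (P.mul_mem hxP ha.1) (P.inv_mem hxP)) (P.inv_mem ha.1)
      have hcc : ∀ y ∈ P, (x * a * x⁻¹ * a⁻¹) * y = y * (x * a * x⁻¹ * a⁻¹) := hx2 a ha.1
      have h1 : t * (x * a * x⁻¹ * a⁻¹) * t = x * a * x⁻¹ * a⁻¹ := center_fixed h hnc hcP hcc
      have hta : t * a * t⁻¹ = a⁻¹ := by rw [t_inv h, ha.2]
      have h2 : t * (x * a * x⁻¹ * a⁻¹) * t = (x * a * x⁻¹ * a⁻¹)⁻¹ := by
        have e0 : t * (x * a * x⁻¹ * a⁻¹) * t⁻¹ =
            (t * x * t⁻¹) * (t * a * t⁻¹) * (t * x * t⁻¹)⁻¹ * (t * a * t⁻¹)⁻¹ := by group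
        rw [htx', hta, t_inv h] at e0
        rw [e0]
        have hca : Commute (x * a * x⁻¹ * a⁻¹) a := hcc a ha.1
        calc x * a⁻¹ * x⁻¹ * a⁻¹⁻¹ = ((x * a * x⁻¹ * a⁻¹) * a)⁻¹ * a := by group
          _ = (a * (x * a * x⁻¹ * a⁻¹))⁻¹ * a := by rw [hca.eq]
          _ = (x * a * x⁻¹ * a⁻¹)⁻¹ := by group
      have hcsq : (x * a * x⁻¹ * a⁻¹) ^ 2 = 1 := by
        rw [pow_two]
        have : x * a * x⁻¹ * a⁻¹ = (x * a * x⁻¹ * a⁻¹)⁻¹ := h1.symm.trans h2
        nth_rewrite 1 [this]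
        exact inv_mul_cancel _
      have hc1 : x * a * x⁻¹ * a⁻¹ = 1 := by
        obtain ⟨k, hk⟩ := h.three ⟨_, hcP⟩
        have hk' : (x * a * x⁻¹ * a⁻¹) ^ (3 ^ k) = 1 := by
          have := congrArg Subtype.val hk
          simpa using this
        have hd1 : orderOf (x * a * x⁻¹ * a⁻¹) ∣ 2 := orderOf_dvd_of_pow_eq_one hcsq
        have hd2 : orderOf (x * a * x⁻¹ * a⁻¹) ∣ 3 ^ k := orderOf_dvd_of_pow_eq_one hk'
        have hcop : Nat.Coprime 2 (3 ^ k) := Nat.Coprime.pow_right k (by norm_num)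
        have : orderOf (x * a * x⁻¹ * a⁻¹) = 1 := Nat.eq_one_of_dvd_coprimes hcop hd1 hd2
        exact orderOf_eq_one_iff.mp this
      calc a * x = (x * a * x⁻¹ * a⁻¹)⁻¹ * (x * a) := by group
        _ = x * a := by rw [hc1, inv_one, one_mul]
    obtain ⟨y, hy, hxy⟩ := hxnc
    apply hxy
    have hle : P ≤ Subgroup.centralizer {x} := by
      rw [← closure_Inv h, Subgroup.closure_le]
      intro a ha
      exact Subgroup.mem_centralizer_singleton_iff.mpr (hxa a ha)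
    exact (Subgroup.mem_centralizer_singleton_iff.mp (hle hy)).symm

end abstract

end Cfsg.Agent.Lib.Helper2_TT_M6
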