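import Mathlib
import Cfsg.Agent.Lib.Helper2_TZ_W2
set_option autoImplicit false
set_option linter.unusedVariables false
set_option linter.unusedSectionVars false

/-!
S2524 part W, package WEILC of the v1 market (architect helper81, `tzw_packages`).  The v1 interface
(`Helper81_TZW.weil`, `weilC`) was superseded by helper75's definitions; the content now lives in
`Cfsg/Agent/Lib/Helper2_TZ_W2.lean` (package W2 of the v2 market).  This file only keeps the old names as
aliases of the v2 statements.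
-/

namespace Cfsg.Agent.Lib.Helper2_TZW_WEILC
open Matrix Module
open Cfsg.Agent.Lib.Helper5_SpPerfect Cfsg.Agent.Lib.Helper81_SpWeights
  Cfsg.Agent.Lib.Helper81_Heis Cfsg.Agent.Lib.Helper81_WeilLin Cfsg.Agent.Lib.Helper81_Schrodinger
  Cfsg.Agent.Lib.Helper75_TZ Cfsg.Agent.Lib.Helper81_TZW
variable {F : Type*} [Field F] [Fintype F] [DecidableEq F] {K : Type*} [Field K] [IsAlgClosed K]
  [CharZero K]

theorem subA_int (ψ : AddChar F K) (h : F) {k : ℕ} (A : GL (Fin k) F) (u : Fin k ⊕ Fin k → F) :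
    (subA A.1 : Module.End K ((Fin k → F) → K)) * hs ψ h u = hs ψ h ((lgH A).1 *ᵥ u) * subA A.1 :=
  W2aux.subA_int ψ h A u

theorem weil_lgH (k : ℕ) (h2 : (2 : F) ≠ 0) {ψ₀ : AddChar F K} (hψ₀ : ψ₀ ≠ 1) {a : F} (ha : a ≠ 0)
    (A : GL (Fin k) F) :
    weilA ψ₀ a k (lgH A) = cA ψ₀ a k A • (subA A.1 : Module.End K ((Fin k → F) → K)) :=
  W2aux.weilA_lgH_op ψ₀ hψ₀ h2 ha A

end Cfsg.Agent.Lib.Helper2_TZW_WEILC
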