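import Mathlib
import Cfsg.Prelude.Def_Transfer
import Cfsg.Agent.Lib.Helper29_Gaschutz
import Cfsg.Agent.Lib.Helper2_PResidual
import Cfsg.Agent.S0080

/-!
# Tate's theorem, general form (helper2)

`P` a Sylow `p`-subgroup of the finite group `G`, `P ≤ H ≤ G`, and `P ∩ G' ≤ H'`.  Then every
homomorphism from `H` to a finite `p`-group extends to `G`; consequently
`P ∩ O^p(G) ≤ O^p(H)`.  The proof lifts along central extensions using Gaschütz's theorem.
-/

set_option autoImplicit false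
set_option linter.unusedSectionVars false
set_option linter.style.haveILetI false

namespace Cfsg.Agent.Lib.Helper2_Tate

open Subgroup

section Lift

variable {G : Type*} [Group G] [Finite G] {p : ℕ} [Fact p.Prime]
variable {Q : Type*} [Group Q] [Finite Q]

/-- Lifting along a central extension: a homomorphism `ψ₁ : G → Q/Z` (with `Z` central in the
`p`-group `Q`) which lifts to `Q` on a Sylow `p`-subgroup lifts to `Q` on `G`. -/
theorem exists_lift (hQ : IsPGroup p Q) (P : Sylow p G) (Z : Subgroup Q) [Z.Normal]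
    (hZ : Z ≤ center Q) (ψ₁ : G →* Q ⧸ Z) (π : (P : Subgroup G) →* Q)
    (hπ : ∀ x : (P : Subgroup G), (QuotientGroup.mk (π x) : Q ⧸ Z) = ψ₁ x) :
    ∃ ψ : G →* Q, ∀ g : G, (QuotientGroup.mk (ψ g) : Q ⧸ Z) = ψ₁ g := by
  classical
  -- the pullback
  let E : Subgroup (G × Q) :=
    MonoidHom.eqLocus (ψ₁.comp (MonoidHom.fst G Q)) ((QuotientGroup.mk' Z).comp (MonoidHom.snd G Q))
  have hE : ∀ x : G × Q, x ∈ E ↔ ψ₁ x.1 = (QuotientGroup.mk x.2 : Q ⧸ Z) := fun x => Iff.rfl
  let f₁ : E →* G := (MonoidHom.fst G Q).comp E.subtype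
  have hf₁ : ∀ e : E, f₁ e = (e : G × Q).1 := fun e => rfl
  have hf₁surj : Function.Surjective f₁ := by
    intro g
    obtain ⟨q, hq⟩ := QuotientGroup.mk_surjective (ψ₁ g)
    exact ⟨⟨(g, q), (hE _).2 hq.symm⟩, rfl⟩
  let K : Subgroup E := f₁.ker
  have hKmem : ∀ e : E, e ∈ K ↔ (e : G × Q).1 = 1 := fun e => MonoidHom.mem_ker
  have hKZ : ∀ e : E, e ∈ K → (e : G × Q).2 ∈ Z := by
    intro e he
    have h1 := (hE e).1 e.2
    rw [(hKmem e).1 he, map_one] at h1
    exact (QuotientGroup.eq_one_iff _).1 h1.symm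
  have : IsMulCommutative K := by
    refine ⟨⟨fun a b => ?_⟩⟩
    apply Subtype.ext
    apply Subtype.ext
    apply Prod.ext
    · simp only [Subgroup.coe_mul, Prod.fst_mul]
      rw [(hKmem a).1 a.2, (hKmem b).1 b.2]
    · simp only [Subgroup.coe_mul, Prod.snd_mul]
      have := hZ (hKZ a a.2)
      rw [Subgroup.mem_center_iff] at this
      exact (this _).symm
  -- K is a p-group
  have hKp : IsPGroup p K := by
    intro k
    obtain ⟨n, hn⟩ := hQ ((k : E) : G × Q).2
    refine ⟨n, ?_⟩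
    apply Subtype.ext
    apply Subtype.ext
    apply Prod.ext
    · simp only [Subgroup.coe_pow, Prod.pow_fst, Subgroup.coe_one, Prod.fst_one]
      rw [(hKmem k).1 k.2, one_pow]
    · simp only [Subgroup.coe_pow, Prod.pow_snd, Subgroup.coe_one, Prod.snd_one]
      exact hn
  -- the partial section over P
  let α : (P : Subgroup G) →* E :=
    MonoidHom.codRestrict (MonoidHom.prod (P : Subgroup G).subtype π) E (fun x => by
      rw [hE]
      exact (hπ x).symm)
  have hα : ∀ x : (P : Subgroup G), f₁ (α x) = x := fun x => rfl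
  let A : Subgroup E := α.range
  have hAK : A ⊓ K = ⊥ := by
    rw [eq_bot_iff]
    rintro e ⟨⟨x, rfl⟩, hx2⟩
    have h1 : f₁ (α x) = 1 := hx2
    rw [hα] at h1
    have h2 : x = 1 := by exact_mod_cast Subtype.ext h1
    rw [h2, map_one]
    exact Subgroup.mem_bot.2 rfl
  have hle : (P : Subgroup G).comap f₁ ≤ A ⊔ K := by
    intro e he
    rw [Subgroup.mem_comap] at he
    have h1 : e * (α ⟨f₁ e, he⟩)⁻¹ ∈ K := by
      change f₁ _ = 1
      rw [map_mul, map_inv, hα]
      simp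
    have h2 : e = (e * (α ⟨f₁ e, he⟩)⁻¹) * α ⟨f₁ e, he⟩ := by group
    rw [h2]
    exact Subgroup.mul_mem _ (Subgroup.mem_sup_right h1) (Subgroup.mem_sup_left ⟨_, rfl⟩)
  have hcop : (Nat.card K).Coprime (A ⊔ K).index := by
    obtain ⟨n, hn⟩ := IsPGroup.iff_card.1 hKp
    rw [hn]
    apply Nat.Coprime.pow_left
    have h1 : (A ⊔ K).index ∣ ((P : Subgroup G).comap f₁).index := Subgroup.index_dvd_of_le hle
    rw [Subgroup.index_comap_of_surjective _ hf₁surj] at h1
    have h2 : ¬ p ∣ (P : Subgroup G).index := P.not_dvd_index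
    rw [Nat.Prime.coprime_iff_not_dvd Fact.out]
    exact fun h3 => h2 (h3.trans h1)
  obtain ⟨C, hC⟩ := Cfsg.Agent.Lib.Helper29_Gaschutz.exists_complement K A hAK hcop
  -- f₁ restricted to C is bijective
  let f₂ : C →* G := f₁.comp C.subtype
  have hf₂inj : Function.Injective f₂ := by
    rw [injective_iff_map_eq_one]
    intro c hc
    have h1 : (c : E) ∈ K ⊓ C := ⟨hc, c.2⟩
    rw [hC.disjoint.eq_bot] at h1
    exact Subtype.ext (Subgroup.mem_bot.1 h1)
  have hf₂surj : Function.Surjective f₂ := by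
    intro g
    obtain ⟨e, he⟩ := hf₁surj g
    obtain ⟨⟨k, c⟩, hkc, -⟩ := hC.existsUnique e
    refine ⟨c, ?_⟩
    have h1 : f₁ ((k : E) * (c : E)) = g := by rw [hkc]; exact he
    rw [map_mul] at h1
    have h2 : f₁ (k : E) = 1 := k.2
    rw [h2, one_mul] at h1
    exact h1
  let ε : C ≃* G := MulEquiv.ofBijective f₂ ⟨hf₂inj, hf₂surj⟩
  refine ⟨((MonoidHom.snd G Q).comp (E.subtype.comp C.subtype)).comp ε.symm.toMonoidHom, fun g => ?_⟩
  have h1 : f₂ (ε.symm g) = g := ε.apply_symm_apply g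
  have h2 := (hE ((ε.symm g : C) : E)).1 ((ε.symm g : C) : E).2
  have h3 : (((ε.symm g : C) : E) : G × Q).1 = g := h1
  rw [h3] at h2
  exact h2.symm

end Lift


section Extend

open scoped IsMulCommutative

universe u v

variable {G : Type v} [Group G] [Finite G] {p : ℕ} [Fact p.Prime]

/-- A homomorphism to a `p`-group that kills a subgroup of index prime to `p` is trivial. -/
theorem hom_eq_one_of_le_ker {H : Type*} [Group H] [Finite H] {A : Type*} [Group A] [Finite A]
    (hA : IsPGroup p A) (η : H →* A) (S : Subgroup H) (hS : ¬ p ∣ S.index) (hS' : S ≤ η.ker) :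
    η = 1 := by
  have h1 : η.ker.index ∣ S.index := Subgroup.index_dvd_of_le hS'
  have h2 : ¬ p ∣ η.ker.index := fun h => hS (h.trans h1)
  rw [Subgroup.index_ker] at h2
  obtain ⟨k, hk⟩ := IsPGroup.iff_card.1 (hA.to_subgroup η.range)
  have hk0 : k = 0 := by
    by_contra hne
    apply h2
    rw [hk]
    exact dvd_pow_self p hne
  rw [hk0, pow_zero] at hk
  rw [← MonoidHom.range_eq_bot_iff]
  exact Subgroup.card_eq_one.1 hk

theorem mem_commutator_of_coe_mem {H : Subgroup G} {x : H} (hx : (x : G) ∈ ⁅H, H⁆) :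
    x ∈ commutator H := by
  have h1 : (commutator H).map H.subtype = ⁅H, H⁆ := by
    rw [commutator_def, Subgroup.map_commutator, ← MonoidHom.range_eq_map, Subgroup.range_subtype]
  rw [← h1] at hx
  obtain ⟨y, hy, hyx⟩ := hx
  have : y = x := Subtype.ext hyx
  rwa [← this]

/-- Under the focal hypothesis `P ∩ G' ≤ H'`, every homomorphism from `H` to a finite abelian
`p`-group extends to `G`. -/
theorem exists_extend_abelian (P : Sylow p G) (H : Subgroup G) (hPH : (P : Subgroup G) ≤ H)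
    (hfoc : (P : Subgroup G) ⊓ commutator G ≤ ⁅H, H⁆)
    {A : Type*} [CommGroup A] [Finite A] (hA : IsPGroup p A) (δ : H →* A) :
    ∃ δ' : G →* A, ∀ h : H, δ' h = δ h := by
  have hp : p.Prime := Fact.out
  have hcop : Nat.Coprime (P : Subgroup G).index (⁅(P : Subgroup G), (P : Subgroup G)⁆.relIndex (P : Subgroup G)) := by
    have h1 : ⁅(P : Subgroup G), (P : Subgroup G)⁆.relIndex (P : Subgroup G) ∣ Nat.card (P : Subgroup G) :=
      Subgroup.relIndex_dvd_card _ _
    obtain ⟨n, hn⟩ := IsPGroup.iff_card.1 P.isPGroup'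
    rw [hn] at h1
    obtain ⟨m, -, hm⟩ := (Nat.dvd_prime_pow hp).1 h1
    rw [hm]
    apply Nat.Coprime.pow_right
    rw [Nat.coprime_comm, Nat.Prime.coprime_iff_not_dvd hp]
    exact P.not_dvd_index
  obtain ⟨-, N, hN, hNP, hNsup⟩ := Cfsg.Agent.S0080.result (P : Subgroup G) hcop
  haveI := hN
  let f : (P : Subgroup G) →* G ⧸ N := (QuotientGroup.mk' N).comp (P : Subgroup G).subtype
  have hfsurj : Function.Surjective f := by
    intro q
    obtain ⟨g, rfl⟩ := QuotientGroup.mk_surjective q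
    have hg : g ∈ ((N ⊔ (P : Subgroup G) : Subgroup G) : Set G) := by
      rw [hNsup]; exact Set.mem_univ _
    rw [Subgroup.normal_mul] at hg
    obtain ⟨n, hn, x, hx, rfl⟩ := Set.mem_mul.1 hg
    refine ⟨⟨x, hx⟩, ?_⟩
    change (QuotientGroup.mk x : G ⧸ N) = QuotientGroup.mk (n * x)
    rw [QuotientGroup.eq]
    have : x⁻¹ * (n * x) = x⁻¹ * n * x⁻¹⁻¹ := by group
    rw [this]
    exact hN.conj_mem n hn x⁻¹
  let g₀ : (P : Subgroup G) →* A := δ.comp (Subgroup.inclusion hPH)
  have hker : f.ker ≤ g₀.ker := by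
    intro x hx
    have h1 : (QuotientGroup.mk (x : G) : G ⧸ N) = 1 := hx
    rw [QuotientGroup.eq_one_iff] at h1
    have h2 : (x : G) ∈ N ⊓ (P : Subgroup G) := ⟨h1, x.2⟩
    rw [hNP] at h2
    have h3 : (x : G) ∈ ⁅H, H⁆ := hfoc ⟨h2.2, h2.1⟩
    have h4 : Subgroup.inclusion hPH x ∈ commutator H := mem_commutator_of_coe_mem h3
    exact Abelianization.commutator_subset_ker δ h4
  let φ : G ⧸ N →* A := f.liftOfSurjective hfsurj ⟨g₀, hker⟩
  have hφ : ∀ x : (P : Subgroup G), φ (f x) = g₀ x := fun x =>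
    MonoidHom.liftOfRightInverse_comp_apply f _ _ ⟨g₀, hker⟩ x
  let δ₁ : G →* A := φ.comp (QuotientGroup.mk' N)
  have hδ₁ : ∀ x : (P : Subgroup G), δ₁ x = δ (Subgroup.inclusion hPH x) := fun x => hφ x
  let η : H →* A := (δ₁.comp H.subtype) / δ
  have hη : η = 1 := by
    apply hom_eq_one_of_le_ker hA η ((P : Subgroup G).subgroupOf H)
    · intro h
      have h1 : ((P : Subgroup G).subgroupOf H).index ∣ (P : Subgroup G).index :=
        Subgroup.relIndex_dvd_index_of_le hPH
      exact P.not_dvd_index (h.trans h1)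
    · intro x hx
      rw [Subgroup.mem_subgroupOf] at hx
      rw [MonoidHom.mem_ker]
      change δ₁ (x : G) / δ x = 1
      have := hδ₁ ⟨(x : G), hx⟩
      rw [div_eq_one]
      rw [this]
      congr 1
  refine ⟨δ₁, fun h => ?_⟩
  have h1 : η h = 1 := by rw [hη]; rfl
  have h2 : δ₁ (h : G) / δ h = 1 := h1
  exact div_eq_one.1 h2

/-- Under the focal hypothesis `P ∩ G' ≤ H'`, every homomorphism from `H` to a finite
`p`-group extends to `G`. -/
theorem exists_extend (P : Sylow p G) (H : Subgroup G) (hPH : (P : Subgroup G) ≤ H)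
    (hfoc : (P : Subgroup G) ⊓ commutator G ≤ ⁅H, H⁆) :
    ∀ n : ℕ, ∀ (Q : Type u) [Group Q] [Finite Q], Nat.card Q = p ^ n → ∀ π : H →* Q,
      ∃ ψ : G →* Q, ∀ h : H, ψ h = π h := by
  have hp : p.Prime := Fact.out
  intro n
  induction n with
  | zero =>
    intro Q _ _ hQ π
    rw [pow_zero, Nat.card_eq_one_iff_unique] at hQ
    haveI := hQ.1
    exact ⟨1, fun h => Subsingleton.elim _ _⟩
  | succ n ih =>
    intro Q _ _ hcard π
    have hQ : IsPGroup p Q := IsPGroup.of_card hcard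
    haveI : Nontrivial Q := by
      rw [← Finite.one_lt_card_iff_nontrivial, hcard]
      exact Nat.one_lt_pow (Nat.succ_ne_zero n) hp.one_lt
    haveI := hQ.center_nontrivial
    have hdvd : p ∣ Nat.card (center Q) := by
      obtain ⟨k, hk⟩ := IsPGroup.iff_card.1 (hQ.to_subgroup (center Q))
      have hk0 : k ≠ 0 := by
        rintro rfl
        rw [pow_zero] at hk
        have := Finite.one_lt_card_iff_nontrivial.2 (inferInstance : Nontrivial (center Q))
        omega
      rw [hk]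
      exact dvd_pow_self p hk0
    obtain ⟨z, hz⟩ := exists_prime_orderOf_dvd_card' p hdvd
    let Z : Subgroup Q := zpowers (z : Q)
    have hZc : Z ≤ center Q := Subgroup.zpowers_le.2 z.2
    haveI hZn : Z.Normal := by
      refine ⟨fun x hx g => ?_⟩
      have h1 := hZc hx
      rw [Subgroup.mem_center_iff] at h1
      rw [h1 g, mul_inv_cancel_right]
      exact hx
    have hZcard : Nat.card Z = p := by
      rw [Nat.card_zpowers, Subgroup.orderOf_coe, hz]
    have hquot : Nat.card (Q ⧸ Z) = p ^ n := by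
      have h1 := Subgroup.card_eq_card_quotient_mul_card_subgroup Z
      rw [hcard, hZcard, pow_succ] at h1
      exact (Nat.eq_of_mul_eq_mul_right hp.pos h1).symm
    obtain ⟨ψ₁, hψ₁⟩ := ih (Q ⧸ Z) hquot ((QuotientGroup.mk' Z).comp π)
    obtain ⟨ψ, hψ⟩ := exists_lift hQ P Z hZc ψ₁ (π.comp (Subgroup.inclusion hPH)) (fun x => by
      have := hψ₁ (Subgroup.inclusion hPH x)
      exact this.symm)
    -- the difference is a central-valued homomorphism
    have hdiff : ∀ h : H, (ψ h)⁻¹ * π h ∈ center Q := by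
      intro h
      apply hZc
      rw [← QuotientGroup.eq_one_iff, QuotientGroup.mk_mul, QuotientGroup.mk_inv, hψ, hψ₁]
      simp
    let δ : H →* center Q := MonoidHom.mk' (fun h => ⟨(ψ h)⁻¹ * π h, hdiff h⟩) (by
      intro a b
      apply Subtype.ext
      have hc := hdiff a
      rw [Subgroup.mem_center_iff] at hc
      change (ψ ((a * b : H) : G))⁻¹ * π (a * b) = ((ψ a)⁻¹ * π a) * ((ψ b)⁻¹ * π b)
      rw [Subgroup.coe_mul, map_mul, map_mul, mul_inv_rev]
      calc (ψ (b : G))⁻¹ * (ψ (a : G))⁻¹ * (π a * π b)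
          = ((ψ (b : G))⁻¹ * ((ψ (a : G))⁻¹ * π a)) * π b := by group
        _ = (((ψ (a : G))⁻¹ * π a) * (ψ (b : G))⁻¹) * π b := by rw [hc]
        _ = ((ψ a)⁻¹ * π a) * ((ψ b)⁻¹ * π b) := by group)
    obtain ⟨δ', hδ'⟩ := exists_extend_abelian (A := center Q) P H hPH hfoc (hQ.to_subgroup (center Q)) δ
    have hδc : ∀ g : G, ∀ q : Q, q * (δ' g : Q) = (δ' g : Q) * q := fun g q =>
      Subgroup.mem_center_iff.1 (δ' g).2 q
    let ψ' : G →* Q := MonoidHom.mk' (fun g => ψ g * (δ' g : Q)) (by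
      intro a b
      rw [map_mul, map_mul, Subgroup.coe_mul, mul_assoc, mul_assoc]
      rw [← mul_assoc (ψ b), hδc a (ψ b)]
      group)
    refine ⟨ψ', fun h => ?_⟩
    change ψ h * ((δ' (h : G) : center Q) : Q) = π h
    rw [hδ' h]
    change ψ h * ((ψ h)⁻¹ * π h) = π h
    group

end Extend

section Main

variable {G : Type*} [Group G] [Finite G] {p : ℕ} [Fact p.Prime]

open Cfsg.Agent.Lib.Helper2_PResidual

/-- **Tate's theorem (general form).** If `P ≤ H` and `P ∩ G' ≤ H'`, then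
`P ∩ O^p(G) ≤ O^p(H)`. -/
theorem tate_general (P : Sylow p G) (H : Subgroup G) (hPH : (P : Subgroup G) ≤ H)
    (hfoc : (P : Subgroup G) ⊓ commutator G ≤ ⁅H, H⁆) :
    (P : Subgroup G) ⊓ Cfsg.pResidual p G ≤ (Cfsg.pResidual p H).map H.subtype := by
  have hp : p.Prime := Fact.out
  have hQ : IsPGroup p (H ⧸ Cfsg.pResidual p H) := isPGroup_quotient_pResidual
  obtain ⟨n, hn⟩ := IsPGroup.iff_card.1 hQ
  obtain ⟨ψ, hψ⟩ := exists_extend P H hPH hfoc n (H ⧸ Cfsg.pResidual p H) hn
    (QuotientGroup.mk' (Cfsg.pResidual p H))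
  have hker : Cfsg.pResidual p G ≤ ψ.ker := by
    have hdef : Cfsg.pResidual p G = Subgroup.closure {g : G | Nat.Coprime (orderOf g) p} := rfl
    rw [hdef, Subgroup.closure_le]
    intro g hg
    have hg' : Nat.Coprime (orderOf g) p := hg
    refine MonoidHom.mem_ker.2 ?_
    obtain ⟨k, hk⟩ := hQ (ψ g)
    have h1 : orderOf (ψ g) ∣ p ^ k := orderOf_dvd_of_pow_eq_one hk
    have h2 : orderOf (ψ g) ∣ orderOf g := orderOf_map_dvd ψ g
    have h3 : orderOf (ψ g) = 1 :=
      Nat.eq_one_of_dvd_coprimes (Nat.Coprime.pow_right k hg') h2 h1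
    exact orderOf_eq_one_iff.1 h3
  rintro x ⟨hxP, hxR⟩
  have h1 : ψ x = 1 := hker hxR
  have h2 := hψ ⟨x, hPH hxP⟩
  rw [h1] at h2
  have h3 : (⟨x, hPH hxP⟩ : H) ∈ Cfsg.pResidual p H := by
    rw [← QuotientGroup.eq_one_iff]
    exact h2.symm
  exact ⟨⟨x, hPH hxP⟩, h3, rfl⟩

end Main

end Cfsg.Agent.Lib.Helper2_Tate
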