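import Cfsg.Agent.Lib.Helper2_MaxClass
import Cfsg.Agent.Lib.Helper32_PGroup

/-!
# 2-groups of maximal class (helper2)

* `exists_cyclic_index_two`: a 2-group of order `2 ^ n`, `3 ≤ n`, of class `n - 1` has a cyclic
  subgroup of index two.
-/

set_option autoImplicit false

namespace Cfsg.Agent.Lib.Helper2_TwoMaxClass

open Subgroup Cfsg.Agent.Lib.Helper2_MaxClass

universe u

/-- A group in which every element squares to one is commutative. -/
theorem comm_of_sq_eq_one {X : Type*} [Group X] (h : ∀ a : X, a * a = 1) (a b : X) :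
    a * b = b * a := by
  have ha : a⁻¹ = a := inv_eq_of_mul_eq_one_right (h a)
  have hb : b⁻¹ = b := inv_eq_of_mul_eq_one_right (h b)
  have hab : (a * b)⁻¹ = a * b := inv_eq_of_mul_eq_one_right (h (a * b))
  rw [← hab, mul_inv_rev, ha, hb]

/-- A subgroup of order two of a group is generated by any of its nontrivial elements. -/
theorem eq_zpowers_of_card_two {X : Type*} [Group X] [Finite X] (Z : Subgroup X)
    (hZ : Nat.card Z = 2) (z : X) (hz : z ∈ Z) (hz1 : z ≠ 1) : Z = zpowers z := by
  symm
  apply eq_of_le_of_card_ge (zpowers_le.mpr hz)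
  rw [hZ, Nat.card_zpowers]
  have h1 : orderOf z ≠ 1 := fun h => hz1 (orderOf_eq_one_iff.mp h)
  have h0 : 0 < orderOf z := orderOf_pos z
  omega

/-- The base case: a nonabelian group of order eight has a cyclic subgroup of index two. -/
theorem exists_cyclic_index_two_of_card_eight {X : Type*} [Group X] [Finite X]
    (hX : Nat.card X = 2 ^ 3) (hc : Group.nilpotencyClass X = 2) :
    ∃ C : Subgroup X, IsCyclic C ∧ C.index = 2 := by
  have hex : ∃ a : X, orderOf a = 4 := by
    by_contra hcon
    push Not at hcon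
    have hsq : ∀ a : X, a * a = 1 := by
      intro a
      have hdvd : orderOf a ∣ 2 ^ 3 := hX ▸ orderOf_dvd_natCard a
      obtain ⟨j, hj3, hj⟩ := (Nat.dvd_prime_pow Nat.prime_two).mp hdvd
      have hj' : j = 0 ∨ j = 1 ∨ j = 2 ∨ j = 3 := by omega
      rcases hj' with rfl | rfl | rfl | rfl
      · rw [pow_zero, orderOf_eq_one_iff] at hj
        rw [hj, mul_one]
      · rw [← pow_two, ← pow_one 2, ← hj]
        exact pow_orderOf_eq_one a
      · exact absurd hj (hcon a)
      · exfalso
        apply hcon (a ^ 2)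
        rw [orderOf_pow' a (by norm_num), hj]
        norm_num
    have := class_le_one_of_comm (comm_of_sq_eq_one hsq)
    omega
  obtain ⟨a, ha⟩ := hex
  refine ⟨zpowers a, inferInstance, ?_⟩
  have h1 := (zpowers a).card_mul_index
  rw [Nat.card_zpowers, ha, hX] at h1
  omega

/-- A 2-group of maximal class has a cyclic subgroup of index two. -/
theorem exists_cyclic_index_two : ∀ (n : ℕ) (X : Type u) [Group X] [Finite X], 3 ≤ n →
    Nat.card X = 2 ^ n → Group.nilpotencyClass X = n - 1 →
    ∃ C : Subgroup X, IsCyclic C ∧ C.index = 2 := by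
  intro n
  induction n with
  | zero => intro X _ _ h; omega
  | succ n ih =>
  intro X _ _ hn hX hc
  rcases Nat.lt_or_ge n 3 with hlt | hge
  · have hn2 : n = 2 := by omega
    subst hn2
    exact exists_cyclic_index_two_of_card_eight hX hc
  · -- the inductive step
    have : Fact (Nat.Prime 2) := ⟨Nat.prime_two⟩
    have hPG : IsPGroup 2 X := IsPGroup.of_card hX
    obtain ⟨hZ, hQ, hQc⟩ := maxClass_center hX hn hc
    simp only [Nat.add_sub_cancel] at hQ hQc
    have hQc' : Group.nilpotencyClass (X ⧸ center X) = n - 1 := by rw [hQc]; omega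
    obtain ⟨C', hC'cyc, hC'idx⟩ := ih (X ⧸ center X) hge hQ hQc'
    set π := QuotientGroup.mk' (center X) with hπ
    have hπsurj : Function.Surjective π := QuotientGroup.mk'_surjective _
    have hkerπ : π.ker = center X := QuotientGroup.ker_mk' _
    set T : Subgroup X := C'.comap π with hT
    have hTidx : T.index = 2 := by
      rw [hT, index_comap_of_surjective C' hπsurj, hC'idx]
    obtain ⟨⟨g', hg'C⟩, hg'⟩ := hC'cyc.exists_generator
    obtain ⟨t, rfl⟩ := hπsurj g'
    have htT : t ∈ T := hg'C
    -- the order of `π t`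
    have hC'card : Nat.card C' = 2 ^ (n - 1) := by
      have h1 := C'.card_mul_index
      rw [hC'idx, hQ] at h1
      have h2 : 2 ^ n = 2 ^ (n - 1) * 2 := by
        rw [← pow_succ]; congr 1; omega
      rw [h2] at h1
      exact Nat.eq_of_mul_eq_mul_right (by norm_num) h1
    have hC'eq : C' = zpowers (π t) := by
      apply le_antisymm
      · intro y hy
        have := hg' ⟨y, hy⟩
        rw [mem_zpowers_iff] at this ⊢
        obtain ⟨k, hk⟩ := this
        exact ⟨k, by simpa using congrArg Subtype.val hk⟩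
      · exact zpowers_le.mpr hg'C
    have hord : orderOf (π t) = 2 ^ (n - 1) := by
      rw [← Nat.card_zpowers, ← hC'eq, hC'card]
    -- every element of `T` is `z * t ^ k`
    have hTdecomp : ∀ u ∈ T, ∃ z ∈ center X, ∃ k : ℤ, u = z * t ^ k := by
      intro u hu
      have hu' : π u ∈ zpowers (π t) := hC'eq ▸ hu
      obtain ⟨k, hk⟩ := mem_zpowers_iff.mp hu'
      refine ⟨u * (t ^ k)⁻¹, ?_, k, by group⟩
      rw [← hkerπ, MonoidHom.mem_ker, map_mul, map_inv, map_zpow, hk, mul_inv_cancel]
    -- the centre has exponent two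
    have hZsq : ∀ z ∈ center X, z * z = 1 := by
      intro z hz
      have h1 : (⟨z, hz⟩ : center X) ^ Nat.card (center X) = 1 := pow_card_eq_one'
      rw [hZ, pow_two] at h1
      exact congrArg Subtype.val h1
    have hsq : ∀ u ∈ T, ∃ k : ℤ, u * u = (t * t) ^ k := by
      intro u hu
      obtain ⟨z, hz, k, rfl⟩ := hTdecomp u hu
      refine ⟨k, ?_⟩
      have hzc : ∀ g : X, g * z = z * g := fun g => mem_center_iff.mp hz g
      calc z * t ^ k * (z * t ^ k) = (z * z) * (t ^ k * t ^ k) := by
            rw [mul_assoc, ← mul_assoc (t ^ k) z, hzc (t ^ k)]; group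
        _ = (t * t) ^ k := by
            rw [hZsq z hz, one_mul, (Commute.refl t).mul_zpow]
    have hTnormal : T.Normal := normal_of_index_eq_two hTidx
    -- `S = ⟨t²⟩` is normal
    set S : Subgroup X := zpowers (t * t) with hS
    have hSnormal : S.Normal := by
      constructor
      intro s hs g
      obtain ⟨j, rfl⟩ := mem_zpowers_iff.mp hs
      have h1 : g * (t * t) ^ j * g⁻¹ = (g * (t * t) * g⁻¹) ^ j := by
        rw [conj_zpow]
      rw [h1]
      apply zpow_mem
      have h2 : g * (t * t) * g⁻¹ = (g * t * g⁻¹) * (g * t * g⁻¹) := by group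
      rw [h2]
      obtain ⟨k, hk⟩ := hsq _ (hTnormal.conj_mem t htT g)
      rw [hk]
      exact zpow_mem (mem_zpowers _) k
    have hSne : S ≠ ⊥ := by
      intro h
      have h1 : t * t = 1 := by
        have : t * t ∈ S := mem_zpowers _
        rw [h, mem_bot] at this
        exact this
      have h2 : (π t) ^ 2 = 1 := by rw [← map_pow, pow_two, h1, map_one]
      have h3 := orderOf_dvd_of_pow_eq_one h2
      rw [hord] at h3
      have h4 : 2 ^ (n - 1) ≤ 2 := Nat.le_of_dvd (by norm_num) h3
      have h5 : 2 ^ 2 ≤ 2 ^ (n - 1) := Nat.pow_le_pow_right (by norm_num) (by omega)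
      omega
    obtain ⟨z, hzS, hzc, hz1⟩ :=
      Cfsg.Agent.Lib.Helper32_PGroup.exists_mem_center_of_normal hPG S hSne
    have hZS : center X ≤ S := by
      rw [eq_zpowers_of_card_two (center X) hZ z hzc hz1]
      exact zpowers_le.mpr hzS
    have hSt : S ≤ zpowers t := by
      rw [hS, zpowers_le]
      exact mul_mem (mem_zpowers t) (mem_zpowers t)
    have hTeq : T = zpowers t := by
      apply le_antisymm
      · intro u hu
        obtain ⟨z, hz, k, rfl⟩ := hTdecomp u hu
        exact mul_mem (hSt (hZS hz)) (zpow_mem (mem_zpowers t) k)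
      · exact zpowers_le.mpr htT
    refine ⟨T, ?_, hTidx⟩
    rw [hTeq]
    infer_instance

end Cfsg.Agent.Lib.Helper2_TwoMaxClass
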