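import Mathlib
import Cfsg.Agent.Lib.Helper65_U3Defs

set_option autoImplicit false
set_option linter.style.haveILetI false
set_option linter.unusedSectionVars false
set_option linter.unusedVariables false

/-!
# S2148 abstract half, package S2G, auxiliary part (BAS2/BAS4/BAS5 facts entering as hypotheses)
-/

namespace Cfsg.Agent.Lib.Helper2_U3A_S2Ga

open Cfsg.Agent.Lib.Helper65_U3Defs

/-- A subgroup `W` acting freely by conjugation on a finite conjugation-invariant set `S`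
has order dividing `|S|`. -/
theorem card_dvd_of_free_conj_set {G : Type*} [Group G] (W : Subgroup G) (S : Set G)
    (hinv : ∀ w ∈ W, ∀ y ∈ S, w * y * w⁻¹ ∈ S)
    (hfree : ∀ w ∈ W, ∀ y ∈ S, w * y = y * w → w = 1) :
    Nat.card W ∣ Nat.card S := by
  let act : MulAction ↥W ↥S :=
    { smul := fun w y => ⟨(w : G) * (y : G) * (w : G)⁻¹, hinv w w.2 y y.2⟩
      one_smul := by
        intro y
        apply Subtype.ext
        show ((1 : ↥W) : G) * (y : G) * ((1 : ↥W) : G)⁻¹ = (y : G)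
        simp
      mul_smul := by
        intro a b y
        apply Subtype.ext
        show ((a * b : ↥W) : G) * (y : G) * ((a * b : ↥W) : G)⁻¹ =
          (a : G) * ((b : G) * (y : G) * (b : G)⁻¹) * (a : G)⁻¹
        simp only [Subgroup.coe_mul]; group }
  have hstab : ∀ b : ↥S, MulAction.stabilizer ↥W b = ⊥ := by
    intro b
    rw [eq_bot_iff]
    intro w hw
    rw [Subgroup.mem_bot]
    have h1 : w • b = b := hw
    have h2 : (w : G) * (b : G) * (w : G)⁻¹ = (b : G) := congrArg Subtype.val h1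
    have h3 : (w : G) * (b : G) = (b : G) * (w : G) := by
      calc (w : G) * (b : G) = ((w : G) * (b : G) * (w : G)⁻¹) * (w : G) := by group
        _ = (b : G) * (w : G) := by rw [h2]
    exact Subtype.ext (hfree w w.2 b b.2 h3)
  have e := MulAction.selfEquivOrbitsQuotientProd hstab
  have hcard : Nat.card ↥S = Nat.card (Quotient (MulAction.orbitRel ↥W ↥S)) * Nat.card ↥W := by
    rw [← Nat.card_prod]; exact Nat.card_congr e
  rw [hcard]
  exact Dvd.intro_left _ rfl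

variable {p q : ℕ} {F G U : Type*} [Field F] [Group G] [MulAction G U]
variable {D : U3Data p q F G U} {H : Subgroup G}

theorem good_dvd_sub_one_aux
    (hconjQ : ∀ g ∈ D.B, ∀ z ∈ D.Q, g * z * g⁻¹ ∈ D.Q)
    (hconjZ : ∀ g ∈ D.B, ∀ z ∈ D.Z, g * z * g⁻¹ ∈ D.Z)
    (hsemi : ∀ s ∈ D.T, s ≠ 1 → ∀ z ∈ D.Q, s * z * s⁻¹ * z⁻¹ ∈ D.Z → z ∈ D.Z)
    (hcardZ : Nat.card ↥D.Z = q)
    (hcardT : Nat.card ↥D.T * Nat.gcd 3 (q + 1) = q ^ 2 - 1) :
    Nat.card ↥(H ⊓ D.T) ∣ Nat.card ↥(H ⊓ D.Q) / Nat.card ↥(H ⊓ D.Z) - 1 := by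
  classical
  haveI := D.finG
  have hp : p.Prime := D.hp
  set R := H ⊓ D.Q with hR
  set Y := H ⊓ D.Z with hY
  set T0 := H ⊓ D.T with hT0
  have hYR : Y ≤ R := inf_le_inf_left H D.Z_le_Q
  -- the free action on R \ Y
  let S : Set G := (R : Set G) \ (Y : Set G)
  have hinv : ∀ w ∈ T0, ∀ y ∈ S, w * y * w⁻¹ ∈ S := by
    intro w hw y hy
    have hwB : w ∈ D.B := D.T_le_B hw.2
    refine ⟨⟨H.mul_mem (H.mul_mem hw.1 hy.1.1) (H.inv_mem hw.1), hconjQ w hwB y hy.1.2⟩, ?_⟩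
    intro hmem
    apply hy.2
    have h1 := hconjZ w⁻¹ (D.B.inv_mem hwB) _ hmem.2
    have e : w⁻¹ * (w * y * w⁻¹) * w⁻¹⁻¹ = y := by group
    rw [e] at h1
    exact ⟨hy.1.1, h1⟩
  have hfree : ∀ w ∈ T0, ∀ y ∈ S, w * y = y * w → w = 1 := by
    intro w hw y hy hc
    by_contra hw1
    apply hy.2
    refine ⟨hy.1.1, hsemi w hw.2 hw1 y hy.1.2 ?_⟩
    have : w * y * w⁻¹ * y⁻¹ = 1 := by
      rw [hc]; group
    rw [this]; exact D.Z.one_mem
  have hdvd := card_dvd_of_free_conj_set T0 S hinv hfree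
  have hSc : Nat.card ↥S = Nat.card R - Nat.card Y := by
    have h1 : Nat.card ↥S = (S).ncard := Nat.card_coe_set_eq S
    rw [h1, Set.ncard_sdiff (fun x hx => hYR hx) (Set.toFinite _)]
    rw [← Nat.card_coe_set_eq, ← Nat.card_coe_set_eq]
    rfl
  -- arithmetic
  obtain ⟨m, hm⟩ := Subgroup.card_dvd_of_le hYR
  have hY0 : 0 < Nat.card Y := Nat.card_pos
  have hm' : Nat.card R / Nat.card Y = m := by
    rw [hm]; exact Nat.mul_div_cancel_left m hY0
  rw [hm']
  have hSc' : Nat.card ↥S = Nat.card Y * (m - 1) := by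
    rw [hSc, hm, Nat.mul_sub_one]
  rw [hSc'] at hdvd
  -- coprimality
  have hYp : ∃ j, Nat.card Y = p ^ j := by
    have h1 : Nat.card Y ∣ Nat.card D.Z := Subgroup.card_dvd_of_le inf_le_right
    rw [hcardZ, D.hq] at h1
    obtain ⟨j, -, hj⟩ := (Nat.dvd_prime_pow hp).mp h1
    exact ⟨j, hj⟩
  obtain ⟨j, hj⟩ := hYp
  have hTcop : Nat.Coprime (Nat.card T0) p := by
    have h1 : Nat.card T0 ∣ Nat.card D.T := Subgroup.card_dvd_of_le inf_le_right
    have h2 : Nat.card D.T ∣ q ^ 2 - 1 := Dvd.intro _ hcardT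
    have h3 : Nat.Coprime (q ^ 2 - 1) p := by
      rw [Nat.coprime_comm, Nat.Prime.coprime_iff_not_dvd hp]
      intro hd
      have hq2 : p ∣ q ^ 2 := by
        rw [D.hq]
        exact dvd_pow (dvd_pow_self p D.hk.ne') (by norm_num)
      have hpos : 1 ≤ q ^ 2 := Nat.one_le_pow _ _ D.q_pos
      have : p ∣ q ^ 2 - (q ^ 2 - 1) := Nat.dvd_sub hq2 hd
      have e : q ^ 2 - (q ^ 2 - 1) = 1 := by omega
      rw [e] at this
      exact hp.one_lt.ne' (Nat.dvd_one.mp this)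
    exact Nat.Coprime.coprime_dvd_left (dvd_trans h1 h2) h3
  have hcop : Nat.Coprime (Nat.card T0) (Nat.card Y) := by
    rw [hj]; exact Nat.Coprime.pow_right j hTcop
  exact hcop.dvd_of_dvd_mul_left hdvd

end Cfsg.Agent.Lib.Helper2_U3A_S2Ga
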