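import Mathlib
import Cfsg.Agent.Lib.Helper65_U3Defs
import Cfsg.Agent.Lib.Helper2_U3A_S2Ga
import Cfsg.Agent.Lib.Helper65_U3A_BAS2
import Cfsg.Agent.Lib.Helper27_U3A_BAS4
import Cfsg.Agent.Lib.Helper27_U3A_BAS5

set_option autoImplicit false
set_option linter.unusedSectionVars false
set_option linter.unusedVariables false

/-!
# S2148 abstract half, package S2G: `|H ∩ T|` divides `|H ∩ Q| / |H ∩ Z| - 1`
-/

namespace Cfsg.Agent.Lib.Helper2_U3A_S2G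

open Cfsg.Agent.Lib.Helper65_U3Defs

variable {p q : ℕ} {F G U : Type*} [Field F] [Group G] [MulAction G U]
variable {D : U3Data p q F G U} {H : Subgroup G}

/-- **S2G**. -/
theorem good_dvd_sub_one (hG : Good D H)
    (hlt : Nat.card ↥(H ⊓ D.Z) < Nat.card ↥(H ⊓ D.Q)) :
    Nat.card ↥(H ⊓ D.T) ∣ Nat.card ↥(H ⊓ D.Q) / Nat.card ↥(H ⊓ D.Z) - 1 :=
  Cfsg.Agent.Lib.Helper2_U3A_S2Ga.good_dvd_sub_one_aux
    (fun g hg z hz => Cfsg.Agent.Lib.Helper65_U3A_BAS2.conj_Q_of_mem_B D hg hz)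
    (fun g hg z hz => Cfsg.Agent.Lib.Helper65_U3A_BAS2.conj_Z_of_mem_B D hg hz)
    (fun s hs h1 z hz hc => Cfsg.Agent.Lib.Helper27_U3A_BAS5.T_semireg D hs h1 hz hc)
    (Cfsg.Agent.Lib.Helper27_U3A_BAS4.card_Z D)
    (Cfsg.Agent.Lib.Helper27_U3A_BAS4.card_T D)

end Cfsg.Agent.Lib.Helper2_U3A_S2G
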