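import Mathlib

/-!
# S2148 abstract half, package FLD-C (helper61, for architect helper65)

`p = 2`: an additive subgroup of `F` (`|F| = q^2`) all of whose nonzero elements have the same norm
`b0 ≠ 0` has at most `4` elements.
-/

set_option autoImplicit false
set_option linter.unusedSectionVars false
set_option linter.unusedVariables false

namespace Cfsg.Agent.Lib.Helper61_U3A_FLDC

variable {F : Type*} [Field F] [Finite F] {p q k : ℕ} [Fact p.Prime] [CharP F p]

/-- **FLD-C** (M; Step 4A).  `p = 2`: an additive subgroup all of whose nonzero elements have the same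
norm `b0 ≠ 0` has at most `4` elements. -/
theorem card_le_four_of_norm_const (hk : 0 < k) (hq : q = p ^ k) (hF : Nat.card F = q ^ 2)
    (hp2 : p = 2) (A : AddSubgroup F) (b0 : F) (hb0 : b0 ≠ 0)
    (hA : ∀ a ∈ A, a ≠ 0 → a * a ^ q = b0) : Nat.card ↥A ≤ 4 := by
  classical
  subst hp2
  by_contra hcon
  push Not at hcon
  have hcard : 4 < (A : Set F).ncard := by
    rw [← _root_.Nat.card_coe_set_eq]
    exact hcon
  have hfrob : ∀ x y : F, (x + y) ^ q = x ^ q + y ^ q := by
    intro x y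
    rw [hq]
    exact add_pow_char_pow x y 2 k
  -- an element of `A` outside any set of at most four elements
  have pick : ∀ s : Finset F, s.card ≤ 4 → ∃ a ∈ A, a ∉ s := by
    intro s hs
    obtain ⟨a, ha, has⟩ := Set.exists_mem_notMem_of_ncard_lt_ncard (s := (s : Set F))
      (t := (A : Set F)) (by rw [Set.ncard_coe_finset]; exact lt_of_le_of_lt hs hcard)
      (Finset.finite_toSet s)
    exact ⟨a, ha, fun h => has (Finset.mem_coe.mpr h)⟩
  obtain ⟨a1, h1A, h1⟩ := pick {0, 0, 0, 0} Finset.card_le_four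
  obtain ⟨a2, h2A, h2⟩ := pick {0, a1, a1, a1} Finset.card_le_four
  obtain ⟨a3, h3A, h3⟩ := pick {0, a1, a2, a1 + a2} Finset.card_le_four
  simp only [Finset.mem_insert, Finset.mem_singleton, not_or] at h1 h2 h3
  have ha1 : a1 ≠ 0 := h1.1
  have ha2 : a2 ≠ 0 := h2.1
  have ha21 : a2 ≠ a1 := h2.2.1
  have ha3 : a3 ≠ 0 := h3.1
  have ha31 : a3 ≠ a1 := h3.2.1
  have ha32 : a3 ≠ a2 := h3.2.2.1
  have ha312 : a3 ≠ a1 + a2 := h3.2.2.2
  have hN1 := hA a1 h1A ha1
  have hN2 := hA a2 h2A ha2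
  have hN3 := hA a3 h3A ha3
  have h12 := hA (a1 + a2) (A.add_mem h1A h2A)
    (fun h => ha21 (CharTwo.add_eq_zero.mp h).symm)
  have h13 := hA (a1 + a3) (A.add_mem h1A h3A)
    (fun h => ha31 (CharTwo.add_eq_zero.mp h).symm)
  have h23 := hA (a2 + a3) (A.add_mem h2A h3A)
    (fun h => ha32 (CharTwo.add_eq_zero.mp h).symm)
  have hs := hA (a1 + a2 + a3) (A.add_mem (A.add_mem h1A h2A) h3A)
    (fun h => ha312 (CharTwo.add_eq_zero.mp h).symm)
  rw [hfrob] at h12 h13 h23
  rw [hfrob, hfrob] at hs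
  apply hb0
  linear_combination h12 + h13 + h23 - hs - hN1 - hN2 - hN3

end Cfsg.Agent.Lib.Helper61_U3A_FLDC
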