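import Mathlib
import Cfsg.Agent.Lib.Helper65_U3Defs
import Cfsg.Agent.Lib.Helper61_U3A_FLDC

set_option autoImplicit false
set_option linter.style.haveILetI false
set_option linter.unusedSectionVars false
set_option linter.unusedVariables false

/-!
# S2148 abstract half, package S4AN, auxiliary part (BAS1/BAS2/BAS5 facts entering as hypotheses)
-/

namespace Cfsg.Agent.Lib.Helper2_U3A_S4ANa

open Cfsg.Agent.Lib.Helper65_U3Defs

variable {p q : ℕ} {F G U : Type*} [Field F] [Group G] [MulAction G U]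
variable {D : U3Data p q F G U} {H : Subgroup G}

/-- the additive group of first coordinates of `H ⊓ Q`. -/
def AH (D : U3Data p q F G U) (H : Subgroup G) : AddSubgroup F where
  carrier := {a | ∃ b : F, Rel q a b ∧ D.x a b ∈ H}
  zero_mem' := ⟨0, D.rel_zero_zero, by rw [D.x_zero_zero]; exact H.one_mem⟩
  add_mem' := by
    rintro a a' ⟨b, h, hm⟩ ⟨b', h', hm'⟩
    refine ⟨b + b' - a ^ q * a', D.rel_mul h h', ?_⟩
    rw [← D.x_mul a b a' b' h h']
    exact H.mul_mem hm hm'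
  neg_mem' := by
    rintro a ⟨b, h, hm⟩
    refine ⟨b ^ q, D.rel_inv h, ?_⟩
    rw [← D.x_inv h]
    exact H.inv_mem hm

theorem step4A_num_aux
    (hxinj : ∀ {a b a' b' : F}, Rel q a b → Rel q a' b' → D.x a b = D.x a' b' → a = a' ∧ b = b')
    (hxsq : p = 2 → ∀ {a b : F}, Rel q a b → D.x a b * D.x a b = D.x 0 (a * a ^ q))
    (hconjZ : ∀ g ∈ D.B, ∀ z ∈ D.Z, g * z * g⁻¹ ∈ D.Z)
    (hstabZ : ∀ s ∈ D.T, ∀ z ∈ D.Z, z ≠ 1 → s * z * s⁻¹ = z → s ∈ D.T1)
    (hp2 : p = 2) (hy : Nat.card ↥(H ⊓ D.Z) = 2) :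
    Nat.card ↥(H ⊓ D.Q) ≤ 8 ∧ H ⊓ D.T ≤ D.T1 := by
  classical
  haveI := D.finG
  haveI := D.finiteF
  haveI : Fact p.Prime := ⟨D.hp⟩
  haveI := D.charF
  -- the nonidentity element of Y
  obtain ⟨z, hz1, hzu⟩ := (Nat.card_eq_two_iff' (1 : ↥(H ⊓ D.Z))).mp hy
  have hzH : (z : G) ∈ H := z.2.1
  have hzZ : (z : G) ∈ D.Z := z.2.2
  have hz1' : (z : G) ≠ 1 := fun h => hz1 (Subtype.ext h)
  have hYcases : ∀ y ∈ H ⊓ D.Z, y ≠ 1 → y = (z : G) := by
    intro y hy hy1
    have := hzu ⟨y, hy⟩ (fun h => hy1 (congrArg Subtype.val h))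
    exact congrArg Subtype.val this
  constructor
  swap
  · -- the torus part
    intro s hs
    apply hstabZ s hs.2 z hzZ hz1'
    apply hYcases
    · exact ⟨H.mul_mem (H.mul_mem hs.1 hzH) (H.inv_mem hs.1), hconjZ s (D.T_le_B hs.2) z hzZ⟩
    · intro h
      apply hz1'
      have : (z : G) = s⁻¹ * (s * z * s⁻¹) * s := by group
      rw [this, h]; group
  · -- the count
    obtain ⟨b0, hb0, hzb0⟩ := D.mem_Z.mp hzZ
    have hb0ne : b0 ≠ 0 := by
      rintro rfl
      apply hz1'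
      rw [hzb0, D.x_zero_zero]
    have hrel0 : Rel q (0 : F) b0 := (D.rel_zero_iff b0).mpr hb0
    have hnorm : ∀ a ∈ AH D H, a ≠ 0 → a * a ^ q = b0 := by
      rintro a ⟨b, h, hm⟩ ha0
      have hsq := hxsq hp2 h
      -- the square lies in H ⊓ Z
      have hrel : Rel q (0 : F) (a * a ^ q) := by
        rw [D.rel_zero_iff, mul_pow, D.frob_sq]
        have h2 : (2 : F) = 0 := by
          have := CharP.cast_eq_zero F p
          rw [hp2] at this
          exact_mod_cast this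
        linear_combination (a * a ^ q) * h2
      have hmemZ : D.x 0 (a * a ^ q) ∈ D.Z := D.mem_Z.mpr ⟨_, (D.rel_zero_iff _).mp hrel, rfl⟩
      have hmemH : D.x 0 (a * a ^ q) ∈ H := by rw [← hsq]; exact H.mul_mem hm hm
      have hne1 : D.x 0 (a * a ^ q) ≠ 1 := by
        intro h1
        rw [← D.x_zero_zero] at h1
        have := (hxinj hrel D.rel_zero_zero h1).2
        rcases mul_eq_zero.mp this with h0 | h0
        · exact ha0 h0
        · exact ha0 (pow_eq_zero_iff (D.q_pos.ne')|>.mp h0)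
      have := hYcases _ ⟨hmemH, hmemZ⟩ hne1
      rw [hzb0] at this
      exact (hxinj hrel hrel0 this).2
    have hA4 : Nat.card ↥(AH D H) ≤ 4 :=
      Cfsg.Agent.Lib.Helper61_U3A_FLDC.card_le_four_of_norm_const D.hk D.hq D.cardF hp2
        (AH D H) b0 hb0ne hnorm
    -- coordinates
    have hcoord : ∀ g : ↥(H ⊓ D.Q), ∃ a b : F, Rel q a b ∧ (g : G) = D.x a b := fun g => g.2.2
    choose af bf hrelf hgf using hcoord
    have hafA : ∀ g : ↥(H ⊓ D.Q), af g ∈ AH D H := by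
      intro g
      exact ⟨bf g, hrelf g, by rw [← hgf g]; exact g.2.1⟩
    have hrep : ∀ a : ↥(AH D H), ∃ b : F, Rel q (a : F) b ∧ D.x (a : F) b ∈ H := fun a => a.2
    choose br hrelr hmemr using hrep
    let φ : ↥(H ⊓ D.Q) → ↥(AH D H) × ↥(H ⊓ D.Z) := fun g =>
      (⟨af g, hafA g⟩, ⟨(g : G) * (D.x (af g) (br ⟨af g, hafA g⟩))⁻¹, by
        constructor
        · exact H.mul_mem g.2.1 (H.inv_mem (hmemr ⟨af g, hafA g⟩))
        · have hr := hrelr ⟨af g, hafA g⟩
          have hr' : Rel q (af g) (br ⟨af g, hafA g⟩) := hr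
          rw [hgf g, D.x_inv hr', D.x_mul _ _ _ _ (hrelf g) (D.rel_inv hr')]
          have hrel := D.rel_mul (hrelf g) (D.rel_inv hr')
          rw [add_neg_cancel] at hrel ⊢
          exact D.mem_Z.mpr ⟨_, (D.rel_zero_iff _).mp hrel, rfl⟩⟩)
    have hφ : Function.Injective φ := by
      intro g g' hgg
      have h1 : af g = af g' := congrArg (fun x => ((x.1 : ↥(AH D H)) : F)) hgg
      have h2 : (g : G) * (D.x (af g) (br ⟨af g, hafA g⟩))⁻¹ =
          (g' : G) * (D.x (af g') (br ⟨af g', hafA g'⟩))⁻¹ :=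
        congrArg (fun x => ((x.2 : ↥(H ⊓ D.Z)) : G)) hgg
      have h3 : (⟨af g, hafA g⟩ : ↥(AH D H)) = ⟨af g', hafA g'⟩ := Subtype.ext h1
      rw [h3] at h2
      rw [h1] at h2
      exact Subtype.ext (mul_right_cancel h2)
    have hle := Nat.card_le_card_of_injective φ hφ
    rw [Nat.card_prod, hy] at hle
    omega

end Cfsg.Agent.Lib.Helper2_U3A_S4ANa
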