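import Mathlib
import Cfsg.Agent.Lib.Helper65_U3Defs
import Cfsg.Agent.Lib.Helper2_U3A_S4ANa
import Cfsg.Agent.Lib.Helper65_U3A_BAS1
import Cfsg.Agent.Lib.Helper65_U3A_BAS2
import Cfsg.Agent.Lib.Helper27_U3A_BAS5

set_option autoImplicit false
set_option linter.unusedSectionVars false
set_option linter.unusedVariables false

/-!
# S2148 abstract half, package S4AN: Step 4A, numerical part
-/

namespace Cfsg.Agent.Lib.Helper2_U3A_S4AN

open Cfsg.Agent.Lib.Helper65_U3Defs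

variable {p q : ℕ} {F G U : Type*} [Field F] [Group G] [MulAction G U]
variable {D : U3Data p q F G U} {H : Subgroup G}

/-- **S4AN**. -/
theorem step4A_num (hG : Good D H) (hp2 : p = 2) (hy : Nat.card ↥(H ⊓ D.Z) = 2) :
    Nat.card ↥(H ⊓ D.Q) ≤ 8 ∧ H ⊓ D.T ≤ D.T1 :=
  Cfsg.Agent.Lib.Helper2_U3A_S4ANa.step4A_num_aux
    (fun h h' e => Cfsg.Agent.Lib.Helper65_U3A_BAS1.x_inj D h h' e)
    (fun h2 _ _ h => Cfsg.Agent.Lib.Helper65_U3A_BAS1.x_sq_of_two D h2 h)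
    (fun g hg z hz => Cfsg.Agent.Lib.Helper65_U3A_BAS2.conj_Z_of_mem_B D hg hz)
    (fun s hs z hz h1 hc => Cfsg.Agent.Lib.Helper27_U3A_BAS5.T_stab_Z D hs hz h1 hc)
    hp2 hy

end Cfsg.Agent.Lib.Helper2_U3A_S4AN
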