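import Mathlib
import Cfsg.Agent.Lib.Helper67_UT2Defs
import Cfsg.Agent.Lib.Helper82_T2_KR

set_option autoImplicit false
set_option linter.unusedSectionVars false
set_option linter.unusedVariables false

/-!
UT2 package ISOEX (architect helper67, market `ut2_packages`): a nondegenerate subspace of dimension `≥ 2`
of a hermitian space over a finite field has a nonzero isotropic vector.
-/

open Module
open Cfsg.Agent.Lib.Helper94_Symp Cfsg.Agent.Lib.Helper94_Herm Cfsg.Agent.Lib.Helper13_PSUSimple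
  Cfsg.Agent.Lib.Helper94_FrmDefs Cfsg.Agent.Lib.Helper94_HermEich
  Cfsg.Agent.Lib.Helper67_Tens2Defs Cfsg.Agent.Lib.Helper67_UT2Defs

namespace Cfsg.Agent.Lib.Helper2_UT2_ISOEX

variable {F W : Type*} [Field F] [Finite F] [AddCommGroup W] [Module F W] [FiniteDimensional F W]
variable {σ : F →+* F} {β : W →ₗ[F] W →ₛₗ[σ] F}

/-- ISOEX : a nondegenerate subspace of dimension `≥ 2` has a nonzero isotropic vector -/
theorem exists_iso_in (hσ : Invol σ) (hβ : IsHerm β) (D : Submodule F W) (hD : NondegOn β D)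
    (h2 : 2 ≤ finrank F D) : ∃ ε ∈ D, ε ≠ 0 ∧ β ε ε = 0 := by
  have hDbot : D ≠ ⊥ := by
    intro h
    rw [h, finrank_bot] at h2
    omega
  obtain ⟨x, hxD, hx0⟩ := Submodule.exists_mem_ne_zero_of_ne_bot hDbot
  have hnle : ¬ D ≤ Submodule.span F {x} := by
    intro hle
    have h1 := Submodule.finrank_mono hle
    rw [finrank_span_singleton hx0] at h1
    omega
  obtain ⟨y, hyD, hy⟩ := Set.not_subset.mp hnle
  obtain ⟨a, b, hne, hiso⟩ := Cfsg.Agent.Lib.Helper94_Herm.exists_iso (B := β) hσ hβ hx0 hy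
  exact ⟨a • x + b • y, D.add_mem (D.smul_mem a hxD) (D.smul_mem b hyD), hne, hiso⟩

end Cfsg.Agent.Lib.Helper2_UT2_ISOEX
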