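import Mathlib
import Cfsg.Agent.Lib.Helper67_UT2Defs
import Cfsg.Agent.Lib.Helper82_T2_KR

set_option autoImplicit false
set_option linter.unusedSectionVars false
set_option linter.unusedVariables false
set_option linter.unusedSimpArgs false

/-!
UT2 package SIEGU (architect helper67, market `ut2_packages`): the double commutator of an element `κ ∈ M`
fixing `(ε, 0)` and `(0, ε)` with two Eichler elements `1 ⊗ eich β ε z γ`, `1 ⊗ eich β ε z' γ'` is
`1 + X ⊗ ε ε^*` with an explicit `2 × 2` matrix `X`.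
-/

open Module
open Cfsg.Agent.Lib.Helper94_Symp Cfsg.Agent.Lib.Helper94_Herm Cfsg.Agent.Lib.Helper13_PSUSimple
  Cfsg.Agent.Lib.Helper94_FrmDefs Cfsg.Agent.Lib.Helper94_HermEich
  Cfsg.Agent.Lib.Helper67_Tens2Defs Cfsg.Agent.Lib.Helper67_UT2Defs

namespace Cfsg.Agent.Lib.Helper2_UT2_SIEGU

/-! ### the abstract computation -/

section Abstract

variable {F V A : Type*} [Field F] [AddCommGroup V] [Module F V] [AddCommGroup A] [Module F A]
variable (κ : V ≃ₗ[F] V) (av flz flz' : V →ₗ[F] A) (tz tz' te : A →ₗ[F] V) (γ γ' : F)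

/-- the shape of `1 ⊗ eich β ε z γ` -/
def Rsh (av flz : V →ₗ[F] A) (tz te : A →ₗ[F] V) (γ : F) (x : V) : V :=
  x + tz (av x) - te (flz x) + γ • te (av x)

/-- the shape of the commutator `c1` -/
def phi (κ : V ≃ₗ[F] V) (av flz : V →ₗ[F] A) (tz te : A →ₗ[F] V) (x : V) : V :=
  x - (κ (tz (av x)) - tz (av x)) + te (flz (κ⁻¹ x - x) + flz (κ (tz (av x)) - tz (av x)))

/-- the shape of the double commutator `m` -/
def fsh (κ : V ≃ₗ[F] V) (av flz flz' : V →ₗ[F] A) (tz tz' te : A →ₗ[F] V) (x : V) : V :=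
  x + te (flz (κ⁻¹ (tz' (av x)) - tz' (av x)) - flz' (κ (tz (av x)) - tz (av x)))

theorem claim1 (h1 : ∀ x, av (κ x) = av x) (h2 : ∀ b, κ (te b) = te b)
    (h3 : ∀ b, av (tz b) = 0) (h3e : ∀ b, av (te b) = 0) (h4 : ∀ b, flz (te b) = 0) (y : V) :
    phi κ av flz tz te (κ (Rsh av flz tz te γ y)) = Rsh av flz tz te γ (κ y) := by
  have hav : av (κ (Rsh av flz tz te γ y)) = av y := by
    rw [h1]
    simp only [Rsh, map_add, map_sub, map_smul, h3, h3e, smul_zero, add_zero, sub_zero]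
  unfold phi
  rw [hav, inv_apply_apply']
  simp only [Rsh, map_add, map_sub, map_smul, h1, h2, h3, h3e, h4, smul_zero, add_zero, sub_zero]
  abel

theorem claim2 (h1 : ∀ x, av (κ x) = av x) (h2 : ∀ b, κ (te b) = te b)
    (h3 : ∀ b, av (tz b) = 0) (h3' : ∀ b, av (tz' b) = 0) (h3e : ∀ b, av (te b) = 0)
    (h4 : ∀ b, flz (te b) = 0) (h4' : ∀ b, flz' (te b) = 0) (y : V) :
    phi κ av flz tz te (Rsh av flz' tz' te γ' y) =
      fsh κ av flz flz' tz tz' te (Rsh av flz' tz' te γ' (phi κ av flz tz te y)) := by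
  have h2' : ∀ b, κ⁻¹ (te b) = te b := by
    intro b
    have := inv_apply_apply' κ (te b)
    rw [h2] at this
    exact this
  have hav1 : av (Rsh av flz' tz' te γ' y) = av y := by
    simp only [Rsh, map_add, map_sub, map_smul, h3', h3e, smul_zero, add_zero, sub_zero]
  have hav2 : av (phi κ av flz tz te y) = av y := by
    simp only [phi, map_add, map_sub, map_smul, h1, h3, h3e, smul_zero, add_zero, sub_zero]
  have hav3 : av (Rsh av flz' tz' te γ' (phi κ av flz tz te y)) = av y := by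
    simp only [Rsh, map_add, map_sub, map_smul, h3', h3e, smul_zero, add_zero, sub_zero, hav2]
  unfold fsh
  rw [hav3]
  conv_lhs => unfold phi
  rw [hav1]
  simp only [Rsh, hav2, map_add, map_sub, map_smul, h2', h4, h4', smul_zero, add_zero, sub_zero]
  simp only [phi, map_add, map_sub, map_smul, h2', h4, h4', smul_zero, add_zero, sub_zero]
  abel

end Abstract

/-! ### the concrete maps -/

variable {F W : Type*} [Field F] [Finite F] [AddCommGroup W] [Module F W] [FiniteDimensional F W]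
variable {σ : F →+* F} {β : W →ₗ[F] W →ₛₗ[σ] F}

/-- `x ↦ (β x.1 v, β x.2 v)` -/
def fl (β : W →ₗ[F] W →ₛₗ[σ] F) (v : W) : (W × W) →ₗ[F] (F × F) :=
  LinearMap.prodMap (β.flip v) (β.flip v)

@[simp] theorem fl_apply (v : W) (x : W × W) : fl β v x = (β x.1 v, β x.2 v) := rfl

/-- `b ↦ (b.1 • v, b.2 • v)` -/
def tn (v : W) : (F × F) →ₗ[F] (W × W) :=
  LinearMap.prodMap (LinearMap.toSpanSingleton F W v) (LinearMap.toSpanSingleton F W v)

@[simp] theorem tn_apply (v : W) (b : F × F) : tn v b = (b.1 • v, b.2 • v) := rfl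

theorem oE_eich_apply {ε v : W} (hε : β ε ε = 0) (hv : β v ε = 0) (hv' : β ε v = 0) (γ : F)
    (x : W × W) :
    oE (eich β ε v γ) x = Rsh (fl β ε) (fl β v) (tn v) (tn ε) γ x := by
  unfold Rsh
  ext
  · simp only [oE_apply, eich_apply β hε hv hv', fl_apply, tn_apply, Prod.fst_add, Prod.fst_sub,
      Prod.smul_fst, smul_smul]
  · simp only [oE_apply, eich_apply β hε hv hv', fl_apply, tn_apply, Prod.snd_add, Prod.snd_sub,
      Prod.smul_snd, smul_smul]

theorem det_eich' (w y : W) (c : F) : LinearEquiv.det (eich β w y c) = 1 := by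
  have := eich_mem_of_transvections β (w := w) (y := y) (c := c)
    (MonoidHom.ker (LinearEquiv.det (R := F) (M := W))) (by
      intro φ v hφ
      rw [MonoidHom.mem_ker]
      exact LinearEquiv.transvection.det_eq_one _)
  exact MonoidHom.mem_ker.mp this

/-- SIEGU : the double commutator with Eichler elements -/
theorem siegu (hσ : Invol σ) (hβ : IsHerm β)
    (M : Subgroup ((W × W) ≃ₗ[F] (W × W))) (hM : HypU β M)
    (κ : (W × W) ≃ₗ[F] (W × W)) (hκ : κ ∈ M) (ε z z' : W) (hε : β ε ε = 0)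
    (hεz : β z ε = 0) (hεz' : β z' ε = 0)
    (hf1 : κ (ε, 0) = (ε, 0)) (hf2 : κ (0, ε) = (0, ε)) :
    ∃ m ∈ M, ∀ u u' : W, m (u, u') =
      (u + ((β ((κ⁻¹ (z', 0)).1 - z') z - β ((κ (z, 0)).1 - z) z') * β u ε +
            (β ((κ⁻¹ (0, z')).1) z - β ((κ (0, z)).1) z') * β u' ε) • ε,
       u' + ((β ((κ⁻¹ (z', 0)).2) z - β ((κ (z, 0)).2) z') * β u ε +
             (β ((κ⁻¹ (0, z')).2 - z') z - β ((κ (0, z)).2 - z) z') * β u' ε) • ε) := by
  obtain ⟨γ, hγ⟩ := tr_surj hσ (-(β z z)) (by rw [map_neg, herm_self hβ])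
  obtain ⟨γ', hγ'⟩ := tr_surj hσ (-(β z' z')) (by rw [map_neg, herm_self hβ])
  have hzε : β ε z = 0 := herm_eq_zero hβ hεz
  have hzε' : β ε z' = 0 := herm_eq_zero hβ hεz'
  have hκu : κ ∈ uG (uf β) := (mem_SUg.mp (hM.le hκ)).1
  have hRz : oE (eich β ε z γ) ∈ M :=
    hM.oE_mem _ (mem_SUg.mpr ⟨eich_mem_uG hβ hγ, det_eich' _ _ _⟩)
  have hRz' : oE (eich β ε z' γ') ∈ M :=
    hM.oE_mem _ (mem_SUg.mpr ⟨eich_mem_uG hβ hγ', det_eich' _ _ _⟩)
  -- the abstract hypotheses
  have h1 : ∀ x, fl β ε (κ x) = fl β ε x := by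
    intro x
    have e1 := hκu x (0, ε)
    have e2 := hκu x (ε, 0)
    rw [hf2] at e1
    rw [hf1] at e2
    simp only [uf_apply, map_zero, add_zero, zero_add] at e1 e2
    simp only [fl_apply, e1, e2]
  have h2 : ∀ b : F × F, κ (tn ε b) = tn ε b := by
    intro b
    have e : tn ε b = b.1 • (ε, (0 : W)) + b.2 • ((0 : W), ε) := by
      ext <;> simp
    rw [e, map_add, map_smul, map_smul, hf1, hf2]
  have h3 : ∀ b : F × F, fl β ε (tn z b) = 0 := by
    intro b; simp [hεz]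
  have h3' : ∀ b : F × F, fl β ε (tn z' b) = 0 := by
    intro b; simp [hεz']
  have h3e : ∀ b : F × F, fl β ε (tn ε b) = 0 := by
    intro b; simp [hε]
  have h4 : ∀ b : F × F, fl β z (tn ε b) = 0 := by
    intro b; simp [hzε]
  have h4' : ∀ b : F × F, fl β z' (tn ε b) = 0 := by
    intro b; simp [hzε']
  -- the first commutator
  have hc1 : ∀ x, (oE (eich β ε z γ) * κ * (oE (eich β ε z γ))⁻¹ * κ⁻¹) x =
      phi κ (fl β ε) (fl β z) (tn z) (tn ε) x := by
    intro x
    have hx : x = κ (oE (eich β ε z γ) ((oE (eich β ε z γ))⁻¹ (κ⁻¹ x))) := by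
      rw [apply_inv_apply', apply_inv_apply']
    conv_rhs => rw [hx]
    rw [oE_eich_apply hε hεz hzε, claim1 κ _ _ _ _ γ h1 h2 h3 h3e h4, ← oE_eich_apply hε hεz hzε]
    simp only [LinearEquiv.mul_apply]
  refine ⟨(oE (eich β ε z γ) * κ * (oE (eich β ε z γ))⁻¹ * κ⁻¹) * oE (eich β ε z' γ') *
      (oE (eich β ε z γ) * κ * (oE (eich β ε z γ))⁻¹ * κ⁻¹)⁻¹ * (oE (eich β ε z' γ'))⁻¹, ?_, ?_⟩
  · have hc1M : oE (eich β ε z γ) * κ * (oE (eich β ε z γ))⁻¹ * κ⁻¹ ∈ M :=
      M.mul_mem (M.mul_mem (M.mul_mem hRz hκ) (M.inv_mem hRz)) (M.inv_mem hκ)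
    exact M.mul_mem (M.mul_mem (M.mul_mem hc1M hRz') (M.inv_mem hc1M)) (M.inv_mem hRz')
  · intro u u'
    generalize hc1def : oE (eich β ε z γ) * κ * (oE (eich β ε z γ))⁻¹ * κ⁻¹ = c1 at hc1
    have hm : ∀ x, (c1 * oE (eich β ε z' γ') * c1⁻¹ * (oE (eich β ε z' γ'))⁻¹) x =
        fsh κ (fl β ε) (fl β z) (fl β z') (tn z) (tn z') (tn ε) x := by
      intro x
      have hx : x = oE (eich β ε z' γ') (c1 (c1⁻¹ ((oE (eich β ε z' γ'))⁻¹ x))) := by
        rw [apply_inv_apply', apply_inv_apply']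
      conv_rhs => rw [hx]
      rw [oE_eich_apply hε hεz' hzε', hc1, ← claim2 κ _ _ _ _ _ _ γ' h1 h2 h3 h3' h3e h4 h4',
        ← hc1, ← oE_eich_apply hε hεz' hzε']
      simp only [LinearEquiv.mul_apply]
    rw [hm]
    unfold fsh
    have e1 : tn z' (fl β ε (u, u')) = (β u ε) • (z', (0 : W)) + (β u' ε) • ((0 : W), z') := by
      ext <;> simp
    have e2 : tn z (fl β ε (u, u')) = (β u ε) • (z, (0 : W)) + (β u' ε) • ((0 : W), z) := by
      ext <;> simp
    rw [e1, e2]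
    simp only [map_add, map_smul]
    ext
    · simp only [fl_apply, tn_apply, Prod.fst_add, Prod.fst_sub, Prod.smul_fst, Prod.snd_add,
        Prod.snd_sub, Prod.smul_snd, map_add, map_sub, map_smul, LinearMap.add_apply,
        LinearMap.sub_apply, LinearMap.smul_apply, smul_eq_mul, smul_zero, add_zero, zero_add,
        sub_zero, map_zero, LinearMap.zero_apply, zero_smul]
      module
    · simp only [fl_apply, tn_apply, Prod.fst_add, Prod.fst_sub, Prod.smul_fst, Prod.snd_add,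
        Prod.snd_sub, Prod.smul_snd, map_add, map_sub, map_smul, LinearMap.add_apply,
        LinearMap.sub_apply, LinearMap.smul_apply, smul_eq_mul, smul_zero, add_zero, zero_add,
        sub_zero, map_zero, LinearMap.zero_apply, zero_smul]
      module

end Cfsg.Agent.Lib.Helper2_UT2_SIEGU
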