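import Mathlib
import Cfsg.Agent.Lib.Helper67_UT2Defs
import Cfsg.Agent.Lib.Helper82_T2_KR
import Cfsg.Agent.Lib.Helper27_UQ_GEN

set_option autoImplicit false
set_option linter.unusedSectionVars false
set_option linter.unusedVariables false

/-!
UT2 package TRANSU (architect helper67, market `ut2_packages`): `SU(β)` is transitive on the isotropic points.
-/

open Module
open Cfsg.Agent.Lib.Helper94_Symp Cfsg.Agent.Lib.Helper94_Herm Cfsg.Agent.Lib.Helper13_PSUSimple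
  Cfsg.Agent.Lib.Helper94_FrmDefs Cfsg.Agent.Lib.Helper94_HermEich
  Cfsg.Agent.Lib.Helper67_Tens2Defs Cfsg.Agent.Lib.Helper67_UT2Defs

namespace Cfsg.Agent.Lib.Helper2_UT2_TRANSU

variable {F W : Type*} [Field F] [Finite F] [AddCommGroup W] [Module F W] [FiniteDimensional F W]
variable {σ : F →+* F} {β : W →ₗ[F] W →ₛₗ[σ] F}

/-- TRANSU : `SU(β)` is transitive on the isotropic points (`dim W ≥ 3`) -/
theorem exists_su_iso (hσ : Invol σ) (hβ : IsHerm β) (hN : NondegOn β ⊤) (h3 : 3 ≤ finrank F W)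
    (ε ε' : W) (h0 : ε ≠ 0) (h0' : ε' ≠ 0) (hε : β ε ε = 0) (hε' : β ε' ε' = 0) :
    ∃ Q ∈ SUg β, ∃ l : F, l ≠ 0 ∧ Q ε = l • ε' := by
  obtain ⟨Q, hQ, hQε⟩ := Cfsg.Agent.Lib.Helper27_UQ_GEN.SUg_trans_iso hσ hβ hN h3 h0 h0' hε hε'
  exact ⟨Q, hQ, 1, one_ne_zero, by rw [hQε, one_smul]⟩

end Cfsg.Agent.Lib.Helper2_UT2_TRANSU
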