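import Mathlib
import Cfsg.Agent.Lib.Helper54_UXmDefs
import Cfsg.Agent.Lib.Helper54_UXm_Basic
import Cfsg.Agent.Lib.Helper73_UX_FLD

set_option autoImplicit false
set_option linter.unusedSectionVars false
set_option linter.unusedVariables false

/-!
UEXTm (architect helper54, market `uxm_packages`), package SKU1: two non-orthogonal isotropic vectors whose
`K`-lines (and those of all isotropic vectors) are mapped to `K`-lines by `g`: `g` is semilinear on both lines,
with the same field automorphism.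
-/

open Module
open Cfsg.Agent.Lib.Helper94_Symp Cfsg.Agent.Lib.Helper94_Herm Cfsg.Agent.Lib.Helper13_PSUSimple
  Cfsg.Agent.Lib.Helper94_HermEich Cfsg.Agent.Lib.Helper98_ExtDefs Cfsg.Agent.Lib.Helper97_UExtDefs
  Cfsg.Agent.Lib.Helper29_SpExtDefs Cfsg.Agent.Lib.Helper94_FrmDefs Cfsg.Agent.Lib.Helper94_UDDefs
  Cfsg.Agent.Lib.Helper54_UXmDefs

namespace Cfsg.Agent.Lib.Helper2_UXm_SKU1

variable {F K V : Type*} [Field F] [Field K] [Algebra F K] [AddCommGroup V] [Module F V]
  [Module K V] [IsScalarTower F K V] [Finite F] [Finite K] [Module.Finite K V]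
  {σ : F →+* F} {τ : K →+* K}

/-- the map `ρ_z` of a `K`-line mapped onto a `K`-line -/
theorem exists_rho (g : V ≃ₗ[F] V) {z : V} (hz : z ≠ 0)
    (hgz : (kline F K V z).map g.toLinearMap = kline F K V (g z)) :
    ∃ ρ : K →ₗ[F] K, ρ 1 = 1 ∧ Function.Injective ρ ∧ Function.Surjective ρ ∧
      ∀ k : K, g (k • z) = ρ k • g z := by
  have hgz0 : g z ≠ 0 := fun e => hz (g.map_eq_zero_iff.mp e)
  have hex : ∀ k : K, ∃ c : K, c • g z = g (k • z) := by
    intro k
    have : g (k • z) ∈ kline F K V (g z) := by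
      rw [← hgz]
      exact Submodule.mem_map.mpr ⟨k • z, mem_kline.mpr ⟨k, rfl⟩, rfl⟩
    exact mem_kline.mp this
  choose r hr using hex
  have huniq : ∀ c c' : K, c • g z = c' • g z → c = c' :=
    fun c c' e => smul_left_injective K hgz0 e
  refine ⟨{ toFun := r, map_add' := ?_, map_smul' := ?_ }, ?_, ?_, ?_, ?_⟩
  · intro k k'
    apply huniq
    rw [hr, add_smul, map_add, add_smul, hr, hr]
  · intro a k
    apply huniq
    rw [hr, RingHom.id_apply, smul_assoc, map_smul, smul_assoc, hr]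
  · apply huniq
    show r 1 • g z = (1 : K) • g z
    rw [hr, one_smul, one_smul]
  · intro k k' e
    have e' : r k = r k' := e
    have h1 : g (k • z) = g (k' • z) := by rw [← hr, ← hr, e']
    exact smul_left_injective K hz (g.injective h1)
  · intro c
    have : c • g z ∈ kline F K V (g z) := mem_kline.mpr ⟨c, rfl⟩
    rw [← hgz] at this
    obtain ⟨x, hx, hxe⟩ := Submodule.mem_map.mp this
    obtain ⟨k, rfl⟩ := mem_kline.mp hx
    refine ⟨k, ?_⟩
    apply huniq
    show r k • g z = c • g z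
    rw [hr]
    exact hxe
  · intro k
    exact (hr k).symm

/-- the images of two non-orthogonal isotropic vectors are `K`-independent -/
theorem indep (hτ : Invol τ) {B : V →ₗ[K] V →ₛₗ[τ] K} (hB : IsHerm B) (g : V ≃ₗ[F] V)
    {v w : V} (hv : B v v = 0) (hw : B w w = 0) (hvw : B v w ≠ 0)
    {ρv ρw : K →ₗ[F] K} (hsv : Function.Surjective ρv) (hsw : Function.Surjective ρw)
    (hρv : ∀ k : K, g (k • v) = ρv k • g v) (hρw : ∀ k : K, g (k • w) = ρw k • g w)
    {c d : K} (h0 : c • g v + d • g w = 0) : c = 0 ∧ d = 0 := by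
  obtain ⟨k, rfl⟩ := hsv c
  obtain ⟨l, rfl⟩ := hsw d
  rw [← hρv, ← hρw, ← map_add] at h0
  have h1 : k • v + l • w = 0 := g.map_eq_zero_iff.mp h0
  have hwv : B w v ≠ 0 := herm_ne_zero hτ hB hvw
  have hk : k = 0 := by
    have := congrArg (fun x => B x w) h1
    simp only [map_add, map_smul, LinearMap.add_apply, LinearMap.smul_apply, hw, smul_eq_mul,
      mul_zero, add_zero, map_zero, LinearMap.zero_apply] at this
    exact (mul_eq_zero.mp this).resolve_right hvw
  have hl : l = 0 := by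
    have := congrArg (fun x => B x v) h1
    simp only [map_add, map_smul, LinearMap.add_apply, LinearMap.smul_apply, hv, smul_eq_mul,
      mul_zero, zero_add, map_zero, LinearMap.zero_apply] at this
    exact (mul_eq_zero.mp this).resolve_right hwv
  rw [hk, hl, map_zero, map_zero]
  exact ⟨rfl, rfl⟩

/-- the relation (*) -/
theorem pair_rel (hτ : Invol τ) {B : V →ₗ[K] V →ₛₗ[τ] K} (hB : IsHerm B) (g : V ≃ₗ[F] V)
    (hg : ∀ v : V, B v v = 0 → (kline F K V v).map g.toLinearMap = kline F K V (g v))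
    {v w : V} (hv : B v v = 0) (hw : B w w = 0) (hvw : B v w ≠ 0)
    {ρv ρw : K →ₗ[F] K} (hsv : Function.Surjective ρv) (hsw : Function.Surjective ρw)
    (hρv : ∀ k : K, g (k • v) = ρv k • g v) (hρw : ∀ k : K, g (k • w) = ρw k • g w)
    (h1w : ρw 1 = 1)
    {κ : K} (hκ : τ κ = -κ) (c : K) :
    ρv (c * (κ / B v w)) = ρw c * ρv (κ / B v w) := by
  set β := B v w with hβ
  set z : V := (κ / β) • v + w with hz
  have hwv : B w v = τ β := hB v w
  have hzz : B z z = 0 := by
    have e1 : B ((κ / β) • v) w = κ := by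
      rw [map_smul, LinearMap.smul_apply, smul_eq_mul, ← hβ, div_mul_cancel₀ _ hvw]
    have e2 : B w ((κ / β) • v) = -κ := by
      rw [map_smulₛₗ, smul_eq_mul, hwv, ← map_mul, div_mul_cancel₀ _ hvw, hκ]
    have e3 : B ((κ / β) • v) ((κ / β) • v) = 0 := by rw [self_smul, hv, mul_zero]
    rw [hz]
    simp only [map_add, LinearMap.add_apply]
    rw [e1, e2, e3, hw]
    ring
  have hz0 : z ≠ 0 := by
    intro e
    have : B v z = β := by
      rw [hz]
      simp only [map_add, map_smulₛₗ, hv, smul_eq_mul, mul_zero, zero_add, ← hβ]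
    rw [e, map_zero] at this
    exact hvw this.symm
  obtain ⟨ρz, -, -, -, hρz⟩ := exists_rho g hz0 (hg z hzz)
  have hgz : g z = ρv (κ / β) • g v + g w := by
    rw [hz, map_add, hρv]
  have hgcz : g (c • z) = ρv (c * (κ / β)) • g v + ρw c • g w := by
    rw [hz, smul_add, smul_smul, map_add, hρv, hρw]
  have h0 : (ρv (c * (κ / β)) - ρz c * ρv (κ / β)) • g v + (ρw c - ρz c) • g w = 0 := by
    have e := hρz c
    rw [hgcz, hgz, smul_add, smul_smul] at e
    rw [sub_smul, sub_smul]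
    have e' := sub_eq_zero.mpr e
    rw [← e']
    abel
  obtain ⟨e1, e2⟩ := indep hτ hB g hv hw hvw hsv hsw hρv hρw h0
  rw [sub_eq_zero] at e1 e2
  rw [e1, e2]

/-- multiplicativity of `ρ_w` -/
theorem rho_mul (h : TauExt σ τ) (hσ : Invol σ) {B : V →ₗ[K] V →ₛₗ[τ] K} (hB : IsHerm B)
    (g : V ≃ₗ[F] V)
    (hg : ∀ v : V, B v v = 0 → (kline F K V v).map g.toLinearMap = kline F K V (g v))
    {v w : V} (hv : B v v = 0) (hw : B w w = 0) (hvw : B v w ≠ 0)
    {ρv ρw : K →ₗ[F] K} (hiv : Function.Injective ρv)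
    (hsv : Function.Surjective ρv) (hsw : Function.Surjective ρw)
    (hρv : ∀ k : K, g (k • v) = ρv k • g v) (hρw : ∀ k : K, g (k • w) = ρw k • g w)
    (h1w : ρw 1 = 1) (c x : K) : ρw (c * x) = ρw c * ρw x := by
  have hτ : Invol τ := h.toInvol hσ
  obtain ⟨ω, hω0, hω⟩ := exists_skew hτ
  have hstar := fun (κ : K) (hκ : τ κ = -κ) (c : K) =>
    pair_rel hτ hB g hg hv hw hvw hsv hsw hρv hρw h1w hκ c
  set β := B v w with hβ
  have hφω : ρv (ω / β) ≠ 0 := by
    intro e
    have : ω / β = 0 := hiv (by rw [e, map_zero])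
    rcases div_eq_zero_iff.mp this with h1 | h1
    · exact hω0 h1
    · exact hvw h1
  -- multiplicativity against fixed elements
  have hfix : ∀ (c l : K), τ l = l → ρw (c * l) = ρw c * ρw l := by
    intro c l hl
    have hlω : τ (l * ω) = -(l * ω) := by rw [map_mul, hl, hω]; ring
    have e1 := hstar (l * ω) hlω c
    have e2 := hstar ω hω l
    have e3 := hstar ω hω (c * l)
    have a1 : c * (l * ω / β) = c * l * (ω / β) := by ring
    have a2 : l * ω / β = l * (ω / β) := by ring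
    rw [a1, a2, e2] at e1
    rw [e3] at e1
    have : ρw (c * l) * ρv (ω / β) = (ρw c * ρw l) * ρv (ω / β) := by rw [e1]; ring
    exact mul_right_cancel₀ hφω this
  obtain ⟨θ, hθ⟩ := hσ.ne_id
  obtain ⟨a, b, ha, hb, hx⟩ := Cfsg.Agent.Lib.Helper73_UX_FLD.dec_K0 h hσ hθ x
  rw [hx, mul_add, mul_smul_comm, map_add, map_add, map_smul, map_smul, hfix c a ha, hfix c b hb,
    mul_add, mul_smul_comm]

/-- **SKU1** -/
theorem sku_pair (h : TauExt σ τ) (hσ : Invol σ) {B : V →ₗ[K] V →ₛₗ[τ] K} (hB : IsHerm B)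
    (g : V ≃ₗ[F] V)
    (hg : ∀ v : V, B v v = 0 → (kline F K V v).map g.toLinearMap = kline F K V (g v))
    {v w : V} (hv : B v v = 0) (hw : B w w = 0) (hvw : B v w ≠ 0) :
    ∃ ρ : K ≃+* K, (∀ k : K, g (k • v) = ρ k • g v) ∧ (∀ k : K, g (k • w) = ρ k • g w) := by
  have hτ : Invol τ := h.toInvol hσ
  have hwv : B w v ≠ 0 := herm_ne_zero hτ hB hvw
  have hv0 : v ≠ 0 := by
    intro e
    rw [e, map_zero, LinearMap.zero_apply] at hvw
    exact hvw rfl
  have hw0 : w ≠ 0 := by
    intro e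
    rw [e, map_zero] at hvw
    exact hvw rfl
  obtain ⟨ρv, h1v, hiv, hsv, hρv⟩ := exists_rho g hv0 (hg v hv)
  obtain ⟨ρw, h1w, hiw, hsw, hρw⟩ := exists_rho g hw0 (hg w hw)
  have hmw := rho_mul h hσ hB g hg hv hw hvw hiv hsv hsw hρv hρw h1w
  have hmv := rho_mul h hσ hB g hg hw hv hwv hiw hsw hsv hρw hρv h1v
  -- `ρv = ρw`
  obtain ⟨ω, hω0, hω⟩ := exists_skew hτ
  have hφω : ρv (ω / B v w) ≠ 0 := by
    intro e
    have : ω / B v w = 0 := hiv (by rw [e, map_zero])
    rcases div_eq_zero_iff.mp this with h1 | h1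
    · exact hω0 h1
    · exact hvw h1
  have heq : ∀ c : K, ρv c = ρw c := by
    intro c
    have e1 := pair_rel hτ hB g hg hv hw hvw hsv hsw hρv hρw h1w hω c
    rw [hmv] at e1
    exact mul_right_cancel₀ hφω e1
  refine ⟨RingEquiv.ofBijective
    ({ toFun := ρw, map_one' := h1w, map_mul' := hmw, map_zero' := map_zero ρw,
       map_add' := map_add ρw } : K →+* K) ⟨hiw, hsw⟩, ?_, ?_⟩
  · intro k
    rw [hρv k, heq k]
    rfl
  · intro k
    rw [hρw k]
    rfl

end Cfsg.Agent.Lib.Helper2_UXm_SKU1
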