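import Mathlib
import Cfsg.Agent.Lib.Helper54_UXmDefs
import Cfsg.Agent.Lib.Helper54_UXm_Basic
import Cfsg.Agent.Lib.Helper2_UXm_SKU1

set_option autoImplicit false
set_option linter.unusedSectionVars false
set_option linter.unusedVariables false
set_option linter.unusedSimpArgs false

/-!
UEXTm (architect helper54, market `uxm_packages`), package SKU2: an `F`-linear automorphism mapping every
isotropic `K`-line onto a `K`-line is `K`-semilinear.
-/

open Module
open Cfsg.Agent.Lib.Helper94_Symp Cfsg.Agent.Lib.Helper94_Herm Cfsg.Agent.Lib.Helper13_PSUSimple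
  Cfsg.Agent.Lib.Helper94_HermEich Cfsg.Agent.Lib.Helper98_ExtDefs Cfsg.Agent.Lib.Helper97_UExtDefs
  Cfsg.Agent.Lib.Helper29_SpExtDefs Cfsg.Agent.Lib.Helper94_FrmDefs Cfsg.Agent.Lib.Helper94_UDDefs
  Cfsg.Agent.Lib.Helper54_UXmDefs

namespace Cfsg.Agent.Lib.Helper2_UXm_SKU2

open Cfsg.Agent.Lib.Helper2_UXm_SKU1

variable {F K V : Type*} [Field F] [Field K] [Algebra F K] [AddCommGroup V] [Module F V]
  [Module K V] [IsScalarTower F K V] [Finite F] [Finite K] [Module.Finite K V]
  {σ : F →+* F} {τ : K →+* K}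

/-- a nonzero isotropic vector exists in dimension at least two -/
theorem exists_isotropic (hτ : Invol τ) {B : V →ₗ[K] V →ₛₗ[τ] K} (hB : IsHerm B)
    (hd : 2 ≤ finrank K V) : ∃ e : V, e ≠ 0 ∧ B e e = 0 := by
  have hnt : Nontrivial V := by
    apply Module.nontrivial_of_finrank_pos (R := K)
    omega
  obtain ⟨x, hx⟩ := exists_ne (0 : V)
  have hy : ∃ y : V, y ∉ Submodule.span K {x} := by
    by_contra hcon
    push Not at hcon
    have htop : Submodule.span K {x} = ⊤ := by
      rw [eq_top_iff]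
      intro y _
      exact hcon y
    have h1 : finrank K (Submodule.span K {x}) ≤ 1 := by
      have := finrank_span_le_card (R := K) ({x} : Set V)
      simpa using this
    rw [htop, finrank_top] at h1
    omega
  obtain ⟨y, hy⟩ := hy
  obtain ⟨a, b, h0, hiso⟩ := exists_iso hτ hB hx hy
  exact ⟨_, h0, hiso⟩

/-- **SKU2** -/
theorem sku (h : TauExt σ τ) (hσ : Invol σ) {B : V →ₗ[K] V →ₛₗ[τ] K} (hB : IsHerm B)
    (hN : NondegOn B ⊤) (hd : 2 ≤ finrank K V) (g : V ≃ₗ[F] V)
    (hg : ∀ v : V, B v v = 0 → (kline F K V v).map g.toLinearMap = kline F K V (g v)) :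
    IsSemilin F K V g := by
  have hτ : Invol τ := h.toInvol hσ
  obtain ⟨e, he0, he⟩ := exists_isotropic hτ hB hd
  obtain ⟨e', -, he', hee'⟩ := exists_partner hτ hB hN (Submodule.mem_top) he0 he
  have hee'0 : B e e' ≠ 0 := by rw [hee']; exact one_ne_zero
  have he'e : B e' e = 1 := by rw [hB e e', hee', map_one]
  obtain ⟨ρ, hρe, hρe'⟩ := sku_pair h hσ hB g hg he he' hee'0
  have hge0 : g e ≠ 0 := fun e0 => he0 (g.map_eq_zero_iff.mp e0)
  -- uniqueness of the automorphism on a line
  have huniq : ∀ (ρ' : K ≃+* K) (z : V), z ≠ 0 → (∀ k : K, g (k • z) = ρ' k • g z) →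
      ∀ ρ'' : K ≃+* K, (∀ k : K, g (k • z) = ρ'' k • g z) → ∀ k, ρ' k = ρ'' k := by
    intro ρ' z hz h1 ρ'' h2 k
    have hgz0 : g z ≠ 0 := fun e0 => hz (g.map_eq_zero_iff.mp e0)
    exact smul_left_injective K hgz0 ((h1 k).symm.trans (h2 k))
  -- all isotropic vectors
  have hiso : ∀ v : V, B v v = 0 → ∀ k : K, g (k • v) = ρ k • g v := by
    intro v hv k
    by_cases hv0 : v = 0
    · rw [hv0, smul_zero, map_zero, smul_zero]
    by_cases hev : B e v = 0
    · obtain ⟨b, -, hb, heb, hvb⟩ := exists_connect hτ hB hN (Submodule.mem_top)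
        (Submodule.mem_top) he0 hv0 he hev
      have hb0 : b ≠ 0 := by
        intro e0
        rw [e0, map_zero] at heb
        exact heb rfl
      obtain ⟨ρ1, h1e, h1b⟩ := sku_pair h hσ hB g hg he hb heb
      obtain ⟨ρ2, h2v, h2b⟩ := sku_pair h hσ hB g hg hv hb hvb
      have e1 : ∀ k, ρ1 k = ρ k := huniq ρ1 e he0 h1e ρ hρe
      have e2 : ∀ k, ρ2 k = ρ1 k := huniq ρ2 b hb0 h2b ρ1 h1b
      rw [h2v, e2, e1]
    · obtain ⟨ρ1, h1e, h1v⟩ := sku_pair h hσ hB g hg he hv hev
      have e1 : ∀ k, ρ1 k = ρ k := huniq ρ1 e he0 h1e ρ hρe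
      rw [h1v, e1]
  -- the good vectors form an additive subgroup
  have hadd : ∀ x y : V, (∀ k : K, g (k • x) = ρ k • g x) → (∀ k : K, g (k • y) = ρ k • g y) →
      ∀ k : K, g (k • (x + y)) = ρ k • g (x + y) := by
    intro x y hx hy k
    rw [smul_add, map_add, hx, hy, map_add, smul_add]
  have hsub : ∀ x y : V, (∀ k : K, g (k • x) = ρ k • g x) → (∀ k : K, g (k • y) = ρ k • g y) →
      ∀ k : K, g (k • (x - y)) = ρ k • g (x - y) := by
    intro x y hx hy k
    rw [smul_sub, map_sub, hx, hy, map_sub, smul_sub]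
  have hsmul_iso : ∀ (c : K) (v : V), B v v = 0 → B (c • v) (c • v) = 0 := by
    intro c v hv
    rw [self_smul, hv, mul_zero]
  refine ⟨ρ, fun k x => ?_⟩
  -- decompose `x`
  set a : K := B x e' with ha
  set b : K := B x e with hb
  set w : V := x - a • e - b • e' with hw
  have hwe : B w e = 0 := by
    rw [hw]
    simp only [map_sub, map_smul, LinearMap.sub_apply, LinearMap.smul_apply, smul_eq_mul, he, he'e,
      mul_zero, mul_one, sub_zero, ← hb, sub_self]
  have hwe' : B w e' = 0 := by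
    rw [hw]
    simp only [map_sub, map_smul, LinearMap.sub_apply, LinearMap.smul_apply, smul_eq_mul, he', hee',
      mul_zero, mul_one, sub_zero, ← ha, sub_self]
  have hew : B e w = 0 := herm_eq_zero hB hwe
  have he'w : B e' w = 0 := herm_eq_zero hB hwe'
  obtain ⟨c, hc⟩ := tr_surj hτ (-(B w w)) (by rw [map_neg, herm_self hB])
  set u : V := w + c • e + e' with hu
  have huu : B u u = 0 := by
    rw [hu]
    simp only [map_add, map_smul, map_smulₛₗ, LinearMap.add_apply, LinearMap.smul_apply, smul_eq_mul,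
      he, he', hee', he'e, hwe, hwe', hew, he'w, mul_zero, mul_one, add_zero, zero_add]
    linear_combination hc
  have hx : x = a • e + b • e' + (u - c • e - e') := by
    rw [hu, hw]
    abel
  rw [hx]
  apply hadd
  · apply hadd
    · exact hiso _ (hsmul_iso a e he)
    · exact hiso _ (hsmul_iso b e' he')
  · apply hsub
    · apply hsub
      · exact hiso _ huu
      · exact hiso _ (hsmul_iso c e he)
    · exact hiso _ he'

end Cfsg.Agent.Lib.Helper2_UXm_SKU2
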