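import Mathlib

/-!
helper30: the field with 64 elements over the field with 4 elements (abstractly: `L / F`, `|F| = 4`, `[L : F] = 3`):
an element `θ` of order 7, its cubic relation over the prime field, independence of `1, θ, θ²`, and the
elements of norm one are the products `c θ^i` with `c ∈ F`.
-/

set_option autoImplicit false

namespace Cfsg.Agent.Lib.Helper30_AschF64

variable {F L : Type*} [Field F] [Field L] [Algebra F L] [Fintype F]

lemma two_eq_zero (hq : Fintype.card F = 4) : (2 : F) = 0 := by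
  have h4c : (4 : F) = 0 := by
    have := FiniteField.cast_card_eq_zero F
    rw [hq] at this
    exact_mod_cast this
  have : (2 : F) * 2 = 0 := by linear_combination h4c
  exact mul_self_eq_zero.mp this

lemma two_eq_zero' (hq : Fintype.card F = 4) : (2 : L) = 0 := by
  have := congrArg (algebraMap F L) (two_eq_zero hq)
  rwa [map_ofNat, map_zero] at this

lemma exists_omega (hq : Fintype.card F = 4) : ∃ ω : F, ω ≠ 0 ∧ ω ≠ 1 ∧ ω ^ 3 = 1 := by
  classical
  have : ∃ ω : F, ω ∉ ({0, 1} : Finset F) := by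
    by_contra hcon
    push Not at hcon
    have hsub : (Finset.univ : Finset F) ⊆ {0, 1} := fun a _ => hcon a
    have := Finset.card_le_card hsub
    rw [Finset.card_univ, hq] at this
    have h5 : ({0, 1} : Finset F).card ≤ 2 := Finset.card_le_two
    omega
  obtain ⟨ω, hω⟩ := this
  simp only [Finset.mem_insert, Finset.mem_singleton, not_or] at hω
  refine ⟨ω, hω.1, hω.2, ?_⟩
  have := FiniteField.pow_card_sub_one_eq_one ω hω.1
  rwa [hq] at this

variable [Finite L]

lemma card_L (hq : Fintype.card F = 4) (hd : Module.finrank F L = 3) : Nat.card L = 64 := by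
  have := Module.natCard_eq_pow_finrank (K := F) (V := L)
  rw [this, hd, Nat.card_eq_fintype_card, hq]
  norm_num

lemma exists_theta (hq : Fintype.card F = 4) (hd : Module.finrank F L = 3) :
    ∃ θ : L, θ ^ 7 = 1 ∧ θ ≠ 1 := by
  classical
  have : Fintype L := Fintype.ofFinite L
  have hc : Fintype.card Lˣ = 63 := by
    rw [Fintype.card_units, ← Nat.card_eq_fintype_card, card_L hq hd]
  have : Fact (Nat.Prime 7) := ⟨by norm_num⟩
  obtain ⟨x, hx⟩ := exists_prime_orderOf_dvd_card (G := Lˣ) 7 (by rw [hc]; norm_num)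
  refine ⟨(x : L), ?_, ?_⟩
  · rw [← Units.val_pow_eq_pow_val, ← hx, pow_orderOf_eq_one, Units.val_one]
  · intro h
    have h1 : x = 1 := Units.ext h
    rw [h1, orderOf_one] at hx
    norm_num at hx

omit [Fintype F] [Finite L] [Algebra F L] in
lemma pow_eq_of_pow_seven {θ y : L} (hθ : θ ^ 7 = 1) (hθ1 : θ ≠ 1) (hy : y ^ 7 = 1) :
    ∃ j : ℕ, y = θ ^ j := by
  have : Fact (Nat.Prime 7) := ⟨by norm_num⟩
  have hord : orderOf θ = 7 := orderOf_eq_prime hθ hθ1
  have hprim : IsPrimitiveRoot θ 7 := by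
    rw [← hord]; exact IsPrimitiveRoot.orderOf θ
  obtain ⟨i, -, hi⟩ := hprim.eq_pow_of_pow_eq_one hy
  exact ⟨i, hi.symm⟩

omit [Finite L] in
lemma cubic (hq : Fintype.card F = 4) {θ : L} (hθ : θ ^ 7 = 1) (hθ1 : θ ≠ 1) :
    θ ^ 3 = θ + 1 ∨ θ ^ 3 = θ ^ 2 + 1 := by
  have h2 : (2 : L) = 0 := two_eq_zero' (F := F) hq
  have h1 : (θ - 1) * ((θ ^ 3 + θ + 1) * (θ ^ 3 + θ ^ 2 + 1)) = 0 := by
    have : (θ - 1) * ((θ ^ 3 + θ + 1) * (θ ^ 3 + θ ^ 2 + 1)) =
        θ ^ 7 - 1 + 2 * (θ ^ 4 - θ ^ 3) := by ring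
    rw [this, hθ, h2]; ring
  rcases mul_eq_zero.mp h1 with h | h
  · exact absurd (sub_eq_zero.mp h) hθ1
  · rcases mul_eq_zero.mp h with h | h
    · left
      have e : θ ^ 3 = -(θ + 1) := by linear_combination h
      rw [e]
      have : -(θ + 1) = (θ + 1) - 2 * (θ + 1) := by ring
      rw [this, h2, zero_mul, sub_zero]
    · right
      have e : θ ^ 3 = -(θ ^ 2 + 1) := by linear_combination h
      rw [e]
      have : -(θ ^ 2 + 1) = (θ ^ 2 + 1) - 2 * (θ ^ 2 + 1) := by ring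
      rw [this, h2, zero_mul, sub_zero]

omit [Finite L] in
lemma pow_three_eq_one (hq : Fintype.card F = 4) {c : F} (hc : c ≠ 0) : c ^ 3 = 1 := by
  have := FiniteField.pow_card_sub_one_eq_one c hc
  rwa [hq] at this

omit [Finite L] in
lemma not_mem_range (hq : Fintype.card F = 4) {θ : L} (hθ : θ ^ 7 = 1) (hθ1 : θ ≠ 1) :
    θ ∉ (algebraMap F L).range := by
  rintro ⟨c, rfl⟩
  have hc : c ≠ 0 := by
    rintro rfl
    rw [map_zero] at hθ
    norm_num at hθ
  have h3 : (algebraMap F L c) ^ 3 = 1 := by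
    rw [← map_pow, pow_three_eq_one hq hc, map_one]
  apply hθ1
  calc algebraMap F L c = (algebraMap F L c) ^ 7 * ((algebraMap F L c) ^ 3) ^ 2 * algebraMap F L c := by
        rw [hθ, h3]; ring
    _ = ((algebraMap F L c) ^ 3) ^ 4 * ((algebraMap F L c) ^ 3) ^ 0 * (algebraMap F L c) ^ 2 := by ring
    _ = (algebraMap F L c) ^ 2 := by rw [h3]; ring
    _ = 1 := by
        have h7 : (algebraMap F L c) ^ 7 = ((algebraMap F L c) ^ 3) ^ 2 * algebraMap F L c := by ring
        rw [h3] at h7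
        rw [hθ] at h7
        have h1 : algebraMap F L c = 1 := by rw [h7]; ring
        rw [h1]; ring

omit [Finite L] in
lemma natDegree_minpoly (hq : Fintype.card F = 4) (hd : Module.finrank F L = 3) {θ : L}
    (hθ : θ ^ 7 = 1) (hθ1 : θ ≠ 1) : (minpoly F θ).natDegree = 3 := by
  have hfin : Module.Finite F L := Module.finite_of_finrank_pos (by rw [hd]; norm_num)
  have hint : IsIntegral F θ := Algebra.IsIntegral.isIntegral θ
  have hdvd := minpoly.degree_dvd hint
  rw [hd] at hdvd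
  rcases (Nat.dvd_prime Nat.prime_three).mp hdvd with h | h
  · exact absurd (minpoly.natDegree_eq_one_iff.mp h) (not_mem_range hq hθ hθ1)
  · exact h

omit [Finite L] in
lemma linearIndependent_theta (hq : Fintype.card F = 4) (hd : Module.finrank F L = 3) {θ : L}
    (hθ : θ ^ 7 = 1) (hθ1 : θ ≠ 1) : LinearIndependent F (fun i : Fin 3 => θ ^ (i : ℕ)) := by
  have h3 := natDegree_minpoly hq hd hθ hθ1
  have := linearIndependent_pow (K := F) θ
  rw [h3] at this
  exact this

/-- `x` is a combination of `1, θ, θ²` with coefficients in the subfield `F₀`. -/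
def Coords (F₀ : Subfield F) (θ x : L) : Prop :=
  ∃ a : Fin 3 → F₀, x = ∑ i, algebraMap F L (a i : F) * θ ^ (i : ℕ)

omit [Fintype F] [Finite L] in
lemma coords_mul (F₀ : Subfield F) {θ : L} (hc : θ ^ 3 = θ + 1 ∨ θ ^ 3 = θ ^ 2 + 1) {x : L}
    (hx : Coords F₀ θ x) : Coords F₀ θ (θ * x) := by
  obtain ⟨a, rfl⟩ := hx
  rcases hc with hc | hc
  · refine ⟨![a 2, a 0 + a 2, a 1], ?_⟩
    simp [Fin.sum_univ_three]
    linear_combination (algebraMap F L (a 2 : F)) * hc
  · refine ⟨![a 2, a 0, a 1 + a 2], ?_⟩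
    simp [Fin.sum_univ_three]
    linear_combination (algebraMap F L (a 2 : F)) * hc

omit [Fintype F] [Finite L] in
lemma coords_pow (F₀ : Subfield F) {θ : L} (hc : θ ^ 3 = θ + 1 ∨ θ ^ 3 = θ ^ 2 + 1) (m : ℕ) :
    Coords F₀ θ (θ ^ m) := by
  induction m with
  | zero =>
    refine ⟨![1, 0, 0], ?_⟩
    simp [Fin.sum_univ_three]
  | succ m ih =>
    rw [pow_succ']
    exact coords_mul F₀ hc ih

lemma pow_63 (hq : Fintype.card F = 4) (hd : Module.finrank F L = 3) {x : L} (hx : x ≠ 0) :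
    x ^ 63 = 1 := by
  have : Fintype L := Fintype.ofFinite L
  have := FiniteField.pow_card_sub_one_eq_one x hx
  rwa [← Nat.card_eq_fintype_card, card_L hq hd] at this

lemma pow_21_of_norm (hq : Fintype.card F = 4) (hd : Module.finrank F L = 3) {x : L}
    (hx : Algebra.norm F x = 1) : x ^ 21 = 1 := by
  have h := FiniteField.algebraMap_norm_eq_pow_sum F L x
  rw [hx, map_one, hd, Nat.card_eq_fintype_card, hq] at h
  have hs : ∑ i ∈ Finset.range 3, 4 ^ i = 21 := by decide
  rw [hs] at h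
  exact h.symm

omit [Finite L] in
lemma of_pow_three (hq : Fintype.card F = 4) {u : L} (hu : u ^ 3 = 1) :
    ∃ c : F, c ≠ 0 ∧ u = algebraMap F L c := by
  obtain ⟨ω, hω0, hω1, hω3⟩ := exists_omega hq
  have hsum : 1 + ω + ω ^ 2 = 0 := by
    have : (ω - 1) * (1 + ω + ω ^ 2) = 0 := by
      have : (ω - 1) * (1 + ω + ω ^ 2) = ω ^ 3 - 1 := by ring
      rw [this, hω3, sub_self]
    rcases mul_eq_zero.mp this with h | h
    · exact absurd (sub_eq_zero.mp h) hω1
    · exact h
  have hsum' : 1 + algebraMap F L ω + (algebraMap F L ω) ^ 2 = 0 := by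
    rw [← map_pow, ← map_one (algebraMap F L), ← map_add, ← map_add, hsum, map_zero]
  have hω3' : (algebraMap F L ω) ^ 3 = 1 := by rw [← map_pow, hω3, map_one]
  have hfac : (u - 1) * ((u - algebraMap F L ω) * (u - (algebraMap F L ω) ^ 2)) = 0 := by
    linear_combination hu + (u - u ^ 2) * hsum' + (u - 1) * hω3'
  rcases mul_eq_zero.mp hfac with h | h
  · exact ⟨1, one_ne_zero, by rw [map_one]; exact sub_eq_zero.mp h⟩
  · rcases mul_eq_zero.mp h with h | h
    · exact ⟨ω, hω0, sub_eq_zero.mp h⟩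
    · exact ⟨ω ^ 2, pow_ne_zero 2 hω0, by rw [map_pow]; exact sub_eq_zero.mp h⟩

lemma decompose (hq : Fintype.card F = 4) (hd : Module.finrank F L = 3) {x : L} (hx : x ≠ 0) :
    (x ^ 28) ^ 9 = 1 ∧ (x ^ 36) ^ 7 = 1 ∧ x = x ^ 28 * x ^ 36 := by
  have h63 := pow_63 hq hd hx
  refine ⟨?_, ?_, ?_⟩
  · have : (x ^ 28) ^ 9 = (x ^ 63) ^ 4 := by ring
    rw [this, h63, one_pow]
  · have : (x ^ 36) ^ 7 = (x ^ 63) ^ 4 := by ring
    rw [this, h63, one_pow]
  · have : x ^ 28 * x ^ 36 = x ^ 63 * x := by ring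
    rw [this, h63, one_mul]

omit [Fintype F] [Finite L] [Algebra F L] in
lemma pow_three_of {u : L} (h9 : u ^ 9 = 1) (h21 : u ^ 21 = 1) : u ^ 3 = 1 := by
  have : u ^ 21 = (u ^ 9) ^ 2 * u ^ 3 := by ring
  rw [h9, h21] at this
  simpa using this.symm

end Cfsg.Agent.Lib.Helper30_AschF64
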