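import Mathlib
import Cfsg.Statements.S5971

set_option autoImplicit false

/-!
# Field subalgebras of degree `n` of `n × n` matrices (Singer normalizers)

(helper42) `K` a commutative subalgebra of `M_n(F)` of dimension `n` in which nonzero elements are
invertible: `F^n` is a one-dimensional `K`-space; elements of the normalizer of `K` with two
independent eigenvectors for one eigenvalue are scalar (`n` prime); a Frobenius element.
-/

namespace Cfsg.Agent.Helper42FieldSub

open Matrix Cfsg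

variable {F : Type*} [Field F] {n : ℕ}

theorem isField (K : Subalgebra F (Matrix (Fin n) (Fin n) F)) (hn : 0 < n) {r : ℕ}
    (hK : Cfsg.Geo.IsFieldSubalgebra r K) : IsField K := by
  have : Nonempty (Fin n) := ⟨⟨0, hn⟩⟩
  refine ⟨⟨0, 1, ?_⟩, ?_, ?_⟩
  · intro h
    have := congrArg Subtype.val h
    simp at this
  · intro x y
    exact Subtype.ext (hK.comm x.1 x.2 y.1 y.2)
  · intro a ha
    have ha' : (a : Matrix (Fin n) (Fin n) F) ≠ 0 := fun h => ha (Subtype.ext h)
    obtain ⟨y, hy, hxy⟩ := hK.inv a.1 a.2 ha'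
    exact ⟨⟨y, hy⟩, Subtype.ext hxy⟩

theorem eq_zero_of_mulVec_eq_zero (K : Subalgebra F (Matrix (Fin n) (Fin n) F)) {r : ℕ}
    (hK : Cfsg.Geo.IsFieldSubalgebra r K) {k : Matrix (Fin n) (Fin n) F} (hk : k ∈ K)
    {v : Fin n → F} (hv : v ≠ 0) (h : k *ᵥ v = 0) : k = 0 := by
  by_contra hk0
  obtain ⟨y, hy, hxy⟩ := hK.inv k hk hk0
  have hyx : y * k = 1 := by rw [← hK.comm k hk y hy]; exact hxy
  apply hv
  calc v = (y * k) *ᵥ v := by rw [hyx, Matrix.one_mulVec]
    _ = y *ᵥ (k *ᵥ v) := by rw [Matrix.mulVec_mulVec]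
    _ = 0 := by rw [h, Matrix.mulVec_zero]

/-- evaluation at a vector, as a linear map on `K` -/
def evLin (K : Subalgebra F (Matrix (Fin n) (Fin n) F)) (v : Fin n → F) : K →ₗ[F] (Fin n → F) where
  toFun k := k.1 *ᵥ v
  map_add' a b := by simp [Matrix.add_mulVec]
  map_smul' c a := by simp [Matrix.smul_mulVec]

theorem evLin_bijective (K : Subalgebra F (Matrix (Fin n) (Fin n) F))
    (hK : Cfsg.Geo.IsFieldSubalgebra n K) {v : Fin n → F} (hv : v ≠ 0) :
    Function.Bijective (evLin K v) := by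
  have hinj : Function.Injective (evLin K v) := by
    rw [← LinearMap.ker_eq_bot, LinearMap.ker_eq_bot']
    intro k hk
    exact Subtype.ext (eq_zero_of_mulVec_eq_zero K hK k.2 hv hk)
  have hfin : Module.finrank F K = Module.finrank F (Fin n → F) := by
    rw [hK.finrank_eq, Module.finrank_fin_fun]
  have : Module.Finite F K := by
    rcases Nat.eq_zero_or_pos n with h0 | h0
    · subst h0
      exfalso; apply hv; ext i; exact i.elim0
    · exact Module.finite_of_finrank_pos (by rw [hK.finrank_eq]; exact h0)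
  exact ⟨hinj, (LinearMap.injective_iff_surjective_of_finrank_eq_finrank hfin).mp hinj⟩

theorem exists_mulVec_eq (K : Subalgebra F (Matrix (Fin n) (Fin n) F))
    (hK : Cfsg.Geo.IsFieldSubalgebra n K) {v : Fin n → F} (hv : v ≠ 0) (w : Fin n → F) :
    ∃ k ∈ K, k *ᵥ v = w := by
  obtain ⟨k, hk⟩ := (evLin_bijective K hK hv).2 w
  exact ⟨k.1, k.2, hk⟩


/-- the subalgebra of `K` fixed by conjugation with `g` -/
def fixedSub (K : Subalgebra F (Matrix (Fin n) (Fin n) F)) (g : GL (Fin n) F) : Subalgebra F K where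
  carrier := {k | (g : Matrix (Fin n) (Fin n) F) * k.1 = k.1 * (g : Matrix (Fin n) (Fin n) F)}
  mul_mem' {a b} ha hb := by
    simp only [Set.mem_ofPred_eq] at ha hb ⊢
    rw [Subalgebra.coe_mul, ← mul_assoc, ha, mul_assoc, hb, mul_assoc]
  add_mem' {a b} ha hb := by
    simp only [Set.mem_ofPred_eq] at ha hb ⊢
    rw [Subalgebra.coe_add, mul_add, add_mul, ha, hb]
  algebraMap_mem' c := by
    simp only [Set.mem_ofPred_eq]
    rw [Subalgebra.coe_algebraMap, Algebra.commutes]

/-- An element of the normalizer of a field subalgebra `K` of prime degree `n` that has two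
independent eigenvectors for the same eigenvalue is scalar. -/
theorem scalar_of_two_eigen (K : Subalgebra F (Matrix (Fin n) (Fin n) F)) (hn : n.Prime)
    (hK : Cfsg.Geo.IsFieldSubalgebra n K) (g : GL (Fin n) F)
    (hg : g ∈ Cfsg.Geo.subalgebraNormalizer K) (l : F) (v w : Fin n → F) (hv : v ≠ 0)
    (hw : ∀ c : F, w ≠ c • v) (hgv : (g : Matrix (Fin n) (Fin n) F) *ᵥ v = l • v)
    (hgw : (g : Matrix (Fin n) (Fin n) F) *ᵥ w = l • w) :
    (g : Matrix (Fin n) (Fin n) F) = l • (1 : Matrix (Fin n) (Fin n) F) := by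
  classical
  have hgi : ((g⁻¹ : GL (Fin n) F) : Matrix (Fin n) (Fin n) F) * (g : Matrix (Fin n) (Fin n) F) = 1 := by
    rw [← Units.val_mul, inv_mul_cancel, Units.val_one]
  have hl : l ≠ 0 := by
    rintro rfl
    apply hv
    rw [zero_smul] at hgv
    calc v = (((g⁻¹ : GL (Fin n) F) : Matrix (Fin n) (Fin n) F) * (g : Matrix (Fin n) (Fin n) F)) *ᵥ v := by
          rw [hgi, Matrix.one_mulVec]
      _ = 0 := by rw [← Matrix.mulVec_mulVec, hgv, Matrix.mulVec_zero]
  obtain ⟨k, hk, hkv⟩ := exists_mulVec_eq K hK hv w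
  -- `g k g⁻¹ = k`
  have hk' := (hg k).mp hk
  have hfix : (g : Matrix (Fin n) (Fin n) F) * k = k * (g : Matrix (Fin n) (Fin n) F) := by
    have hsub : ((g : Matrix (Fin n) (Fin n) F) * k * ((g⁻¹ : GL (Fin n) F) : Matrix (Fin n) (Fin n) F) - k) ∈ K :=
      K.sub_mem hk' hk
    have hz : ((g : Matrix (Fin n) (Fin n) F) * k * ((g⁻¹ : GL (Fin n) F) : Matrix (Fin n) (Fin n) F) - k) *ᵥ v = 0 := by
      have h1 : ((g : Matrix (Fin n) (Fin n) F) * k * ((g⁻¹ : GL (Fin n) F) : Matrix (Fin n) (Fin n) F)) *ᵥ (l • v)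
          = l • (k *ᵥ v) := by
        rw [← hgv, Matrix.mulVec_mulVec, mul_assoc, mul_assoc, hgi, mul_one, ← Matrix.mulVec_mulVec, hkv, hgw]
      rw [Matrix.mulVec_smul] at h1
      have h2 := smul_right_injective (Fin n → F) hl h1
      rw [Matrix.sub_mulVec, h2, sub_self]
    have := eq_zero_of_mulVec_eq_zero K hK hsub hv hz
    have h3 := sub_eq_zero.mp this
    calc (g : Matrix (Fin n) (Fin n) F) * k
        = (g : Matrix (Fin n) (Fin n) F) * k * (((g⁻¹ : GL (Fin n) F) : Matrix (Fin n) (Fin n) F) * (g : Matrix (Fin n) (Fin n) F)) := by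
          rw [hgi, mul_one]
      _ = ((g : Matrix (Fin n) (Fin n) F) * k * ((g⁻¹ : GL (Fin n) F) : Matrix (Fin n) (Fin n) F)) * (g : Matrix (Fin n) (Fin n) F) := by
          simp only [mul_assoc]
      _ = k * (g : Matrix (Fin n) (Fin n) F) := by rw [h3]
  letI : Field K := (isField K hn.pos hK).toField
  have hsimple := Subalgebra.isSimpleOrder_of_finrank_prime F K (by rw [hK.finrank_eq]; exact hn)
  rcases hsimple.eq_bot_or_eq_top (fixedSub K g) with hbot | htop
  · exfalso
    have hmem : (⟨k, hk⟩ : K) ∈ fixedSub K g := hfix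
    rw [hbot, Algebra.mem_bot] at hmem
    obtain ⟨c, hc⟩ := hmem
    apply hw c
    have hc' : k = c • (1 : Matrix (Fin n) (Fin n) F) := by
      have := congrArg Subtype.val hc
      rw [Subalgebra.coe_algebraMap, Algebra.algebraMap_eq_smul_one] at this
      exact this.symm
    rw [← hkv, hc', Matrix.smul_mulVec, Matrix.one_mulVec]
  · apply Matrix.mulVec_injective
    funext u
    obtain ⟨ku, hku, hkuv⟩ := exists_mulVec_eq K hK hv u
    have hmem : (⟨ku, hku⟩ : K) ∈ fixedSub K g := by rw [htop]; exact Algebra.mem_top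
    have hcomm : (g : Matrix (Fin n) (Fin n) F) * ku = ku * (g : Matrix (Fin n) (Fin n) F) := hmem
    rw [← hkuv, Matrix.mulVec_mulVec, hcomm, ← Matrix.mulVec_mulVec, hgv, Matrix.mulVec_smul,
      Matrix.smul_mulVec, Matrix.one_mulVec]


/-- A Frobenius element of the normalizer of a field subalgebra of degree `n` of `M_n(F)`. -/
theorem exists_frobenius [Fintype F] (K : Subalgebra F (Matrix (Fin n) (Fin n) F)) (hn : 2 ≤ n)
    (hK : Cfsg.Geo.IsFieldSubalgebra n K) :
    ∃ g : GL (Fin n) F, g ∈ Cfsg.Geo.subalgebraNormalizer K ∧ g ^ n = 1 ∧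
      (g : Matrix (Fin n) (Fin n) F).det = (-1) ^ (n + 1) ∧
      ∃ k ∈ K, (g : Matrix (Fin n) (Fin n) F) * k * ((g⁻¹ : GL (Fin n) F) : Matrix (Fin n) (Fin n) F) ≠ k := by
  classical
  have hn0 : 0 < n := by omega
  letI : Field K := (isField K hn0 hK).toField
  have hfr : Module.finrank F K = n := hK.finrank_eq
  have hmf : Module.Finite F K := Module.finite_of_finrank_pos (by rw [hfr]; exact hn0)
  have hfinK : Finite K := Module.finite_of_finite F
  set σ := FiniteField.frobeniusAlgHom F K with hσdef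
  have hσ : orderOf σ = n := by rw [FiniteField.orderOf_frobeniusAlgHom, hfr]
  have hσn : σ ^ n = 1 := by
    have := pow_orderOf_eq_one σ
    rwa [hσ] at this
  set v₀ : Fin n → F := Pi.single ⟨0, hn0⟩ 1 with hv₀def
  have hv₀ : v₀ ≠ 0 := by
    intro h
    have := congrFun h ⟨0, hn0⟩
    simp [hv₀def] at this
  set e : K ≃ₗ[F] (Fin n → F) := LinearEquiv.ofBijective (evLin K v₀) (evLin_bijective K hK hv₀) with hedef
  have he_apply : ∀ k : K, e k = k.1 *ᵥ v₀ := fun k => rfl
  set φ : (Fin n → F) →ₗ[F] (Fin n → F) :=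
    (e : K →ₗ[F] (Fin n → F)) ∘ₗ σ.toLinearMap ∘ₗ (e.symm : (Fin n → F) →ₗ[F] K) with hφdef
  have hφe : ∀ k : K, φ (e k) = e (σ k) := by
    intro k
    simp [hφdef]
  have hφpow : ∀ m : ℕ, ∀ k : K, (φ ^ m) (e k) = e ((σ ^ m) k) := by
    intro m
    induction m with
    | zero => intro k; simp
    | succ m ih =>
      intro k
      rw [pow_succ, Module.End.mul_apply, hφe, ih, pow_succ, AlgHom.mul_apply]
  have hφn : φ ^ n = 1 := by
    apply LinearMap.ext
    intro v
    obtain ⟨k, rfl⟩ := e.surjective v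
    rw [hφpow, hσn]
    simp
  set G : Matrix (Fin n) (Fin n) F := LinearMap.toMatrixAlgEquiv' φ with hGdef
  have hGn : G ^ n = 1 := by
    rw [hGdef, ← map_pow, hφn, map_one]
  have hGv : ∀ v, G *ᵥ v = φ v := by
    intro v
    rw [hGdef]
    exact LinearMap.toMatrix'_mulVec φ v
  -- G k = σ(k) G
  have hGk : ∀ k : K, G * k.1 = (σ k).1 * G := by
    intro k
    apply Matrix.mulVec_injective
    funext v
    obtain ⟨k', rfl⟩ := e.surjective v
    rw [← Matrix.mulVec_mulVec, ← Matrix.mulVec_mulVec, hGv, hGv, hφe, he_apply, he_apply,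
      Matrix.mulVec_mulVec, ← Subalgebra.coe_mul, ← he_apply, hφe, map_mul, he_apply, Subalgebra.coe_mul,
      Matrix.mulVec_mulVec]
  have hn1 : n - 1 + 1 = n := Nat.sub_add_cancel hn0
  have hGG : G * G ^ (n - 1) = 1 := by rw [← pow_succ', hn1, hGn]
  have hGG' : G ^ (n - 1) * G = 1 := by rw [← pow_succ, hn1, hGn]
  set g : GL (Fin n) F := ⟨G, G ^ (n - 1), hGG, hGG'⟩ with hgdef
  have hgval : (g : Matrix (Fin n) (Fin n) F) = G := rfl
  have hginv : ((g⁻¹ : GL (Fin n) F) : Matrix (Fin n) (Fin n) F) = G ^ (n - 1) := rfl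
  have hconj : ∀ k : K, G * k.1 * G ^ (n - 1) = (σ k).1 := by
    intro k
    rw [hGk, mul_assoc, hGG, mul_one]
  refine ⟨g, ?_, ?_, ?_, ?_⟩
  · intro m
    rw [hgval, hginv]
    constructor
    · intro hm
      have := hconj ⟨m, hm⟩
      rw [this]
      exact (σ ⟨m, hm⟩).2
    · intro hm
      -- m = σ^(n-1) (G m G⁻¹)
      set k' : K := ⟨G * m * G ^ (n - 1), hm⟩ with hk'
      set k'' : K := (σ ^ (n - 1)) k' with hk''
      have h1 : σ k'' = k' := by
        rw [hk'', ← AlgHom.mul_apply, ← pow_succ', hn1, hσn]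
        simp
      have h2 := hconj k''
      rw [h1] at h2
      have h3 : G * k''.1 * G ^ (n - 1) = G * m * G ^ (n - 1) := h2
      have h4 : k''.1 = m := by
        have := congrArg (fun X => G ^ (n - 1) * X * G) h3
        simp only [← mul_assoc] at this
        rw [hGG'] at this
        simp only [one_mul, mul_assoc, hGG', mul_one] at this
        exact this
      rw [← h4]
      exact k''.2
  · apply Units.ext
    rw [Units.val_pow_eq_pow_val, hgval, hGn, Units.val_one]
  · rw [hgval, hGdef]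
    have h1 : (LinearMap.toMatrixAlgEquiv' φ).det = LinearMap.det φ := LinearMap.det_toMatrix' φ
    rw [h1, hφdef, LinearMap.det_conj, LinearMap.det_eq_sign_charpoly_coeff]
    have hmin : minpoly F σ.toLinearMap = Polynomial.X ^ n - 1 := by
      rw [hσdef, FiniteField.minpoly_frobeniusAlgHom, hfr]
    have hchar : σ.toLinearMap.charpoly = Polynomial.X ^ n - 1 := by
      rw [← hmin]
      apply Polynomial.eq_of_monic_of_dvd_of_natDegree_le (minpoly.monic (Algebra.IsIntegral.isIntegral _))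
        (LinearMap.charpoly_monic _) (LinearMap.minpoly_dvd_charpoly _)
      rw [LinearMap.charpoly_natDegree, hmin, hfr]
      rw [show (Polynomial.X ^ n - 1 : Polynomial F) = Polynomial.X ^ n - Polynomial.C 1 by simp,
        Polynomial.natDegree_X_pow_sub_C]
    rw [hchar, hfr]
    have hc0 : (Polynomial.X ^ n - 1 : Polynomial F).coeff 0 = -1 := by
      have h0n : (0 : ℕ) ≠ n := by omega
      simp [Polynomial.coeff_X_pow, Polynomial.coeff_one, h0n]
    rw [hc0, pow_succ]
  · have hσ1 : σ ≠ 1 := by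
      intro h
      rw [← orderOf_eq_one_iff] at h
      omega
    obtain ⟨k, hk⟩ : ∃ k : K, σ k ≠ k := by
      by_contra hcon
      push Not at hcon
      exact hσ1 (AlgHom.ext hcon)
    refine ⟨k.1, k.2, ?_⟩
    rw [hgval, hginv, hconj]
    intro h
    exact hk (Subtype.ext h)

end Cfsg.Agent.Helper42FieldSub
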