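import Mathlib
import Cfsg.Statements.S5775
import Cfsg.Agent.Lib.Helper30_AschF64
import Cfsg.Agent.Lib.Helper42_FieldSub
import Cfsg.Agent.Lib.Helper98_Decomp

/-!
helper30: over the field with 4 elements, the normaliser in `SL_3` of a degree-3 field subalgebra of the
matrix algebra lies in a subfield subgroup (a conjugate of `GL_3(2)` times scalars).
-/

set_option autoImplicit false

namespace Cfsg.Agent.Lib.Helper30_AschSL3

open Matrix Cfsg Cfsg.Geo

variable {F : Type*} [Field F]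

/-- the subfield `{0, 1}` of a field of characteristic two -/
def primeSub (h2 : (2 : F) = 0) : Subfield F where
  carrier := {a | a * a = a}
  mul_mem' {a b} ha hb := by
    simp only [Set.mem_ofPred_eq] at ha hb ⊢
    calc a * b * (a * b) = (a * a) * (b * b) := by ring
      _ = a * b := by rw [ha, hb]
  one_mem' := by simp
  add_mem' {a b} ha hb := by
    simp only [Set.mem_ofPred_eq] at ha hb ⊢
    calc (a + b) * (a + b) = a * a + b * b + 2 * (a * b) := by ring
      _ = a + b := by rw [ha, hb, h2, zero_mul, add_zero]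
  zero_mem' := by simp
  neg_mem' {a} ha := by
    simp only [Set.mem_ofPred_eq] at ha ⊢
    calc -a * -a = a * a := by ring
      _ = a := ha
      _ = -a + 2 * a := by ring
      _ = -a := by rw [h2, zero_mul, add_zero]
  inv_mem' a ha := by
    simp only [Set.mem_ofPred_eq] at ha ⊢
    rw [← mul_inv, ha]

lemma mem_primeSub (h2 : (2 : F) = 0) (a : F) : a ∈ primeSub h2 ↔ a = 0 ∨ a = 1 := by
  change a * a = a ↔ _
  constructor
  · intro h
    have : a * (a - 1) = 0 := by linear_combination h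
    rcases mul_eq_zero.mp this with h | h
    · exact Or.inl h
    · exact Or.inr (sub_eq_zero.mp h)
  · rintro (rfl | rfl) <;> simp

lemma card_primeSub (h2 : (2 : F) = 0) : Nat.card (primeSub h2) = 2 := by
  have : ((primeSub h2 : Subfield F) : Set F) = {0, 1} := by
    ext a
    rw [SetLike.mem_coe, mem_primeSub]
    simp
  rw [← SetLike.coe_sort_coe, _root_.Nat.card_coe_set_eq, this]
  exact Set.ncard_pair zero_ne_one

/-- the data on an element `θ` of order 7 of a field subalgebra `K` (with 64 elements) that the main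
argument uses -/
structure ThetaData (K : Subalgebra F (Matrix (Fin 3) (Fin 3) F)) (F₀ : Subfield F)
    (θ : Matrix (Fin 3) (Fin 3) F) : Prop where
  mem : θ ∈ K
  pow7 : θ ^ 7 = 1
  indep : ∀ v : Fin 3 → F, v ≠ 0 → LinearIndependent F (fun i : Fin 3 => θ ^ (i : ℕ) *ᵥ v)
  coords : ∀ m : ℕ, ∃ a : Fin 3 → F₀, θ ^ m = ∑ i, (a i : F) • θ ^ (i : ℕ)
  pow_of : ∀ y ∈ K, y ^ 7 = 1 → ∃ j : ℕ, y = θ ^ j
  split : ∀ x ∈ K, x ≠ 0 → ∃ u ∈ K, ∃ i : ℕ, x = u * θ ^ i ∧ u ^ 9 = 1
  scalar : ∀ u ∈ K, u ^ 9 = 1 → u.det = 1 → ∃ c : F, c ≠ 0 ∧ u = c • (1 : Matrix (Fin 3) (Fin 3) F)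

theorem le_subfieldSubgroup_of_thetaData {K : Subalgebra F (Matrix (Fin 3) (Fin 3) F)}
    (hK : IsFieldSubalgebra 3 K) {F₀ : Subfield F} (hF₀ : ∀ a : F₀, (a : F) = 0 ∨ (a : F) = 1)
    {θ : Matrix (Fin 3) (Fin 3) F} (hθ : ThetaData K F₀ θ) :
    ∃ P : GL (Fin 3) F,
      subalgebraNormalizer K ⊓ specialLinear (Fin 3) F ≤ subfieldSubgroup F₀ P := by
  classical
  set v : Fin 3 → F := Pi.single 0 1 with hv
  have hv0 : v ≠ 0 := by
    intro h
    have := congrFun h 0
    simp [hv] at this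
  set b : Fin 3 → (Fin 3 → F) := fun i => θ ^ (i : ℕ) *ᵥ v with hb
  set Pm : Matrix (Fin 3) (Fin 3) F := Matrix.of (fun r c => b c r) with hPm
  have hcol : Pm.col = b := by
    funext i
    rfl
  have hunit : IsUnit Pm := by
    rw [← Matrix.linearIndependent_cols_iff_isUnit, hcol]
    exact hθ.indep v hv0
  have hPv : ∀ x : Fin 3 → F, Pm *ᵥ x = ∑ l, x l • b l := by
    intro x
    ext r
    simp [Matrix.mulVec, dotProduct, hPm, mul_comm]
  obtain ⟨P, hPval⟩ : ∃ P : GL (Fin 3) F, (P : Matrix (Fin 3) (Fin 3) F) = Pm :=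
    ⟨hunit.unit, hunit.unit_spec⟩
  refine ⟨P, ?_⟩
  rintro g ⟨hgN, hgS⟩
  set gM : Matrix (Fin 3) (Fin 3) F := (g : Matrix (Fin 3) (Fin 3) F) with hgM
  set gI : Matrix (Fin 3) (Fin 3) F := ((g⁻¹ : GL (Fin 3) F) : Matrix (Fin 3) (Fin 3) F) with hgI
  have hgi : gI * gM = 1 := by rw [hgI, hgM, ← Units.val_mul, inv_mul_cancel, Units.val_one]
  have hig : gM * gI = 1 := by rw [hgI, hgM, ← Units.val_mul, mul_inv_cancel, Units.val_one]
  have hdet : gM.det = 1 := (Helper98_Decomp.mem_specialLinear_iff g).mp hgS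
  -- the conjugate of `θ`
  have hconj_mem : gM * θ * gI ∈ K := (hgN θ).mp hθ.mem
  have hconj_pow : ∀ m : ℕ, (gM * θ * gI) ^ m = gM * θ ^ m * gI := by
    intro m
    induction m with
    | zero => simp [hig]
    | succ m ih =>
      rw [pow_succ, ih, pow_succ]
      calc gM * θ ^ m * gI * (gM * θ * gI) = gM * θ ^ m * (gI * gM) * θ * gI := by
            simp only [mul_assoc]
        _ = gM * (θ ^ m * θ) * gI := by rw [hgi, mul_one]; simp only [mul_assoc]
  obtain ⟨j, hj⟩ := hθ.pow_of _ hconj_mem (by rw [hconj_pow, hθ.pow7, mul_one, hig])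
  have hcomm1 : gM * θ = θ ^ j * gM := by
    rw [← hj, mul_assoc, hgi, mul_one]
  have hcomm : ∀ i : ℕ, gM * θ ^ i = θ ^ (j * i) * gM := by
    intro i
    induction i with
    | zero => simp
    | succ i ih =>
      rw [pow_succ, ← mul_assoc, ih, mul_assoc, hcomm1, ← mul_assoc, ← pow_add, Nat.mul_succ]
  -- the image of `v`
  have hgv0 : gM *ᵥ v ≠ 0 := by
    intro h
    apply hv0
    calc v = (gI * gM) *ᵥ v := by rw [hgi, one_mulVec]
      _ = gI *ᵥ (gM *ᵥ v) := by rw [mulVec_mulVec]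
      _ = 0 := by rw [h, mulVec_zero]
  obtain ⟨k₁, hk₁K, hk₁v⟩ := Cfsg.Agent.Helper42FieldSub.exists_mulVec_eq K hK hv0 (gM *ᵥ v)
  have hk₁0 : k₁ ≠ 0 := by
    rintro rfl
    rw [zero_mulVec] at hk₁v
    exact hgv0 hk₁v.symm
  obtain ⟨u, huK, i', hk₁u, hu9⟩ := hθ.split k₁ hk₁K hk₁0
  have hθpowK : ∀ m : ℕ, θ ^ m ∈ K := fun m => K.pow_mem hθ.mem m
  choose a ha using fun i : Fin 3 => hθ.coords (j * (i : ℕ) + i')
  have hgb : ∀ i : Fin 3, gM *ᵥ b i = u *ᵥ ∑ l, (a i l : F) • b l := by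
    intro i
    calc gM *ᵥ b i = (gM * θ ^ (i : ℕ)) *ᵥ v := by simp only [hb, mulVec_mulVec]
      _ = (θ ^ (j * (i : ℕ)) * gM) *ᵥ v := by rw [hcomm]
      _ = θ ^ (j * (i : ℕ)) *ᵥ (k₁ *ᵥ v) := by rw [← mulVec_mulVec, hk₁v]
      _ = (u * θ ^ (j * (i : ℕ) + i')) *ᵥ v := by
          rw [mulVec_mulVec, hk₁u, ← mul_assoc, hK.comm _ (hθpowK _) u huK, mul_assoc, ← pow_add]
      _ = u *ᵥ ∑ l, (a i l : F) • b l := by
          rw [← mulVec_mulVec, ha i, Matrix.sum_mulVec]
          simp only [hb, smul_mulVec]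
  set Z₀ : Matrix (Fin 3) (Fin 3) F₀ := Matrix.of (fun l i => a i l) with hZ₀
  set Z : Matrix (Fin 3) (Fin 3) F := Z₀.map F₀.subtype with hZ
  have hmain : gM * Pm = u * Pm * Z := by
    apply Matrix.ext_of_mulVec_single
    intro i
    rw [← mulVec_mulVec, mulVec_single_one, hcol, hgb i, mul_assoc, ← mulVec_mulVec,
      ← mulVec_mulVec, mulVec_single_one, hPv]
    rfl
  have hdetP : Pm.det ≠ 0 := ((Matrix.isUnit_iff_isUnit_det Pm).mp hunit).ne_zero
  have hdetZ : Z.det = ((Z₀.det : F₀) : F) := by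
    rw [hZ]
    exact (RingHom.map_det F₀.subtype Z₀).symm
  have hprod : u.det * Z.det = 1 := by
    have := congrArg Matrix.det hmain
    rw [det_mul, det_mul, det_mul, hdet, one_mul] at this
    have h' : Pm.det * (u.det * Z.det - 1) = 0 := by linear_combination -this
    rcases mul_eq_zero.mp h' with h | h
    · exact absurd h hdetP
    · exact sub_eq_zero.mp h
  have hZ1 : Z.det = 1 := by
    rcases hF₀ Z₀.det with h | h
    · rw [hdetZ, h, mul_zero] at hprod
      exact absurd hprod zero_ne_one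
    · rw [hdetZ, h]
  have hu1 : u.det = 1 := by
    rw [hZ1, mul_one] at hprod
    exact hprod
  obtain ⟨c, hc0, huc⟩ := hθ.scalar u huK hu9 hu1
  have hZ₀det : Z₀.det ≠ 0 := by
    intro h
    rw [hdetZ, h] at hZ1
    simp at hZ1
  set z : GL (Fin 3) F := Matrix.GeneralLinearGroup.map F₀.subtype
    (Matrix.GeneralLinearGroup.mkOfDetNeZero Z₀ hZ₀det) with hz
  have hzval : (z : Matrix (Fin 3) (Fin 3) F) = Z := by
    ext r s
    rfl
  set sc : GL (Fin 3) F :=
    Units.map (Matrix.scalar (Fin 3) : F →+* Matrix (Fin 3) (Fin 3) F).toMonoidHom (Units.mk0 c hc0)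
    with hsc
  have hscval : (sc : Matrix (Fin 3) (Fin 3) F) = c • (1 : Matrix (Fin 3) (Fin 3) F) := by
    simp [hsc, Matrix.smul_one_eq_diagonal]
  have hscmem : sc ∈ scalars (Fin 3) F := ⟨_, rfl⟩
  have hzmem : z ∈ (Matrix.GeneralLinearGroup.map (F₀.subtype : F₀ →+* F)).range := ⟨_, rfl⟩
  refine Subgroup.mem_map.mpr ⟨sc * z,
    Subgroup.mul_mem _ (Subgroup.mem_sup_right hscmem) (Subgroup.mem_sup_left hzmem), ?_⟩
  apply Units.ext
  have hPi : Pm * ((P⁻¹ : GL (Fin 3) F) : Matrix (Fin 3) (Fin 3) F) = 1 := by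
    rw [← hPval, ← Units.val_mul, mul_inv_cancel, Units.val_one]
  rw [MulEquiv.coe_toMonoidHom, MulAut.conj_apply, Units.val_mul, Units.val_mul, Units.val_mul,
    hPval, hscval, hzval]
  change _ = gM
  calc Pm * (c • (1 : Matrix (Fin 3) (Fin 3) F) * Z) * ((P⁻¹ : GL (Fin 3) F) : Matrix (Fin 3) (Fin 3) F)
      = (c • (1 : Matrix (Fin 3) (Fin 3) F) * Pm * Z) * ((P⁻¹ : GL (Fin 3) F) : Matrix (Fin 3) (Fin 3) F) := by
        simp only [Matrix.smul_mul, Matrix.mul_smul, Matrix.one_mul]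
    _ = gM * Pm * ((P⁻¹ : GL (Fin 3) F) : Matrix (Fin 3) (Fin 3) F) := by rw [hmain, huc]
    _ = gM := by rw [mul_assoc, hPi, mul_one]

theorem exists_thetaData [Fintype F] (hq : Fintype.card F = 4)
    (K : Subalgebra F (Matrix (Fin 3) (Fin 3) F)) (hK : IsFieldSubalgebra 3 K) (F₀ : Subfield F) :
    ∃ θ : Matrix (Fin 3) (Fin 3) F, ThetaData K F₀ θ := by
  classical
  have hfield : IsField K := Cfsg.Agent.Helper42FieldSub.isField K (by norm_num) hK
  let _ : Field K := hfield.toField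
  have hd : Module.finrank F K = 3 := hK.finrank_eq
  obtain ⟨θ', hθ7, hθ1⟩ := Helper30_AschF64.exists_theta (F := F) (L := K) hq hd
  have hcub := Helper30_AschF64.cubic (F := F) hq hθ7 hθ1
  have cpow : ∀ (x : K) (m : ℕ),
      ((x ^ m : K) : Matrix (Fin 3) (Fin 3) F) = (x : Matrix (Fin 3) (Fin 3) F) ^ m := fun x m => rfl
  have cmul : ∀ x y : K, ((x * y : K) : Matrix (Fin 3) (Fin 3) F) = x.1 * y.1 := fun _ _ => rfl
  have cone : ((1 : K) : Matrix (Fin 3) (Fin 3) F) = 1 := rfl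
  have cadd : ∀ x y : K, ((x + y : K) : Matrix (Fin 3) (Fin 3) F) = x.1 + y.1 := fun _ _ => rfl
  have calg : ∀ c : F, ((algebraMap F K c : K) : Matrix (Fin 3) (Fin 3) F)
      = c • (1 : Matrix (Fin 3) (Fin 3) F) := by
    intro c
    rw [← Algebra.algebraMap_eq_smul_one]
    rfl
  refine ⟨θ'.1, ⟨θ'.2, ?_, ?_, ?_, ?_, ?_, ?_⟩⟩
  · rw [← cpow, hθ7, cone]
  · intro v hv
    have h1 := Helper30_AschF64.linearIndependent_theta hq hd hθ7 hθ1
    have h2 := h1.map' (Cfsg.Agent.Helper42FieldSub.evLin K v)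
      (LinearMap.ker_eq_bot.mpr (Cfsg.Agent.Helper42FieldSub.evLin_bijective K hK hv).1)
    exact h2
  · intro m
    obtain ⟨a, ha⟩ := Helper30_AschF64.coords_pow F₀ hcub m
    refine ⟨a, ?_⟩
    have := congrArg Subtype.val ha
    rw [Fin.sum_univ_three] at this ⊢
    rw [cpow, cadd, cadd, cmul, cmul, cmul, calg, calg, calg, cpow, cpow, cpow] at this
    rw [this]
    simp only [Matrix.smul_mul, Matrix.one_mul]
  · intro y hy hy7
    obtain ⟨j, hj⟩ := Helper30_AschF64.pow_eq_of_pow_seven hθ7 hθ1 (y := ⟨y, hy⟩)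
      (Subtype.ext (by rw [cpow, cone]; exact hy7))
    exact ⟨j, by have := congrArg Subtype.val hj; rwa [cpow] at this⟩
  · intro x hx hx0
    have hx0' : (⟨x, hx⟩ : K) ≠ 0 := fun h => hx0 (congrArg Subtype.val h)
    obtain ⟨h9, h7, hxx⟩ := Helper30_AschF64.decompose hq hd hx0'
    obtain ⟨i, hi⟩ := Helper30_AschF64.pow_eq_of_pow_seven hθ7 hθ1 h7
    refine ⟨x ^ 28, K.pow_mem hx 28, i, ?_, ?_⟩
    · have := congrArg Subtype.val hxx
      rw [cmul, hi, cpow, cpow] at this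
      exact this
    · have := congrArg Subtype.val h9
      rw [cpow, cpow, cone] at this
      exact this
  · intro u hu hu9 hudet
    set v : Fin 3 → F := Pi.single 0 1 with hv
    have hv0 : v ≠ 0 := by
      intro h
      have := congrFun h 0
      simp [hv] at this
    set e : K ≃ₗ[F] (Fin 3 → F) := LinearEquiv.ofBijective (Cfsg.Agent.Helper42FieldSub.evLin K v)
      (Cfsg.Agent.Helper42FieldSub.evLin_bijective K hK hv0) with he
    have hnorm : Algebra.norm F (⟨u, hu⟩ : K) = 1 := by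
      rw [Algebra.norm_apply]
      have hconj : (e : K →ₗ[F] (Fin 3 → F)) ∘ₗ (Algebra.lmul F K (⟨u, hu⟩ : K)) ∘ₗ
          (e.symm : (Fin 3 → F) →ₗ[F] K) = Matrix.toLin' u := by
        apply LinearMap.ext
        intro w
        obtain ⟨y, rfl⟩ := e.surjective w
        simp only [LinearMap.coe_comp, LinearEquiv.coe_coe, Function.comp_apply,
          LinearEquiv.symm_apply_apply, Matrix.toLin'_apply]
        change ((⟨u, hu⟩ : K) * y).1 *ᵥ v = u *ᵥ (y.1 *ᵥ v)
        rw [cmul, Matrix.mulVec_mulVec]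
      rw [← LinearMap.det_conj _ e, hconj, LinearMap.det_toLin', hudet]
    have h21 := Helper30_AschF64.pow_21_of_norm hq hd hnorm
    have h9 : (⟨u, hu⟩ : K) ^ 9 = 1 := Subtype.ext (by rw [cpow, cone]; exact hu9)
    have h3 := Helper30_AschF64.pow_three_of h9 h21
    obtain ⟨c, hc0, hc⟩ := Helper30_AschF64.of_pow_three (F := F) hq h3
    refine ⟨c, hc0, ?_⟩
    have := congrArg Subtype.val hc
    rw [calg] at this
    exact this

/-- Over the field with four elements the normaliser in `SL_3` of a degree-3 field subalgebra lies in a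
subfield subgroup over the prime field. -/
theorem exists_subfieldSubgroup [Fintype F] (hq : Fintype.card F = 4)
    (K : Subalgebra F (Matrix (Fin 3) (Fin 3) F)) (hK : IsFieldSubalgebra 3 K) :
    ∃ (F₀ : Subfield F) (P : GL (Fin 3) F), Nat.card F₀ = 2 ∧
      subalgebraNormalizer K ⊓ specialLinear (Fin 3) F ≤ subfieldSubgroup F₀ P := by
  have h2 : (2 : F) = 0 := Helper30_AschF64.two_eq_zero hq
  obtain ⟨θ, hθ⟩ := exists_thetaData hq K hK (primeSub h2)
  obtain ⟨P, hP⟩ := le_subfieldSubgroup_of_thetaData hK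
    (fun a => (mem_primeSub h2 (a : F)).mp a.2) hθ
  exact ⟨primeSub h2, P, card_primeSub h2, hP⟩

end Cfsg.Agent.Lib.Helper30_AschSL3
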