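import Mathlib
import Cfsg.Prelude.Def_Characters
import Cfsg.Prelude.Def_ParabolicCharacters
import Cfsg.Prelude.Def_LinearParabolics
import Cfsg.Prelude.Def_Blocks
import Cfsg.Prelude.Def_Solvable
import Cfsg.Agent.Lib.Helper40_DefZeroDefs
import Cfsg.Agent.Lib.Helper40_SLBNDefs
import Cfsg.Agent.Lib.Helper40_SLBNDefs2
set_option autoImplicit false
open Cfsg Cfsg.Agent.Lib.Helper40_DefZeroDefs Cfsg.Agent.Lib.Helper40_SLBNDefs
open Matrix
open scoped MatrixGroups

/-!
# DEFZERO market wave 2 (architect helper40), package SLINCL: `sl_incl`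
-/

namespace Cfsg.Agent.Lib.Helper30_DZ_SLINCL

variable {n : ℕ} {F : Type*} [Field F] [Fintype F] {p : ℕ} [Fact p.Prime] [CharP F p]

/-- `la a` is monotone -/
theorem la_mono (a : ℕ) (i j : Fin n) (h : i.val ≤ j.val) :
    (la a : Fin n → ℕ) i ≤ (la a : Fin n → ℕ) j := by
  unfold la
  split_ifs <;> omega

omit [Fintype F] in
theorem sl_incl (a : ℕ) :
    PL F (lB : Fin n → ℕ) ≤ PL F (la a) ∧ UL F (la a : Fin n → ℕ) ≤ UL F lB ∧
      UL F (lB : Fin n → ℕ) ≤ PL F lB ∧ (a + 1 < n → Xs F a ≤ UL F (lB : Fin n → ℕ)) := by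
  refine ⟨?_, ?_, ?_, ?_⟩
  · intro g hg
    rw [mem_PL] at hg ⊢
    intro i j hij
    apply hg
    show j.val < i.val
    by_contra hcon
    have := la_mono a i j (not_lt.mp hcon)
    exact absurd hij (not_lt.mpr this)
  · intro g hg
    rw [mem_UL] at hg ⊢
    intro i j hij
    exact hg i j (la_mono a j i hij)
  · intro g hg
    rw [mem_UL] at hg
    rw [mem_PL]
    exact StrictBT.blockTriangular hg
  · intro _
    unfold Xs
    rw [Subgroup.closure_le]
    rintro g ⟨i, j, t, hi, hj, hg⟩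
    show g ∈ UL F (lB : Fin n → ℕ)
    rw [mem_UL, hg]
    intro i' j' hij
    have hij' : j'.val ≤ i'.val := hij
    rw [Matrix.transvection, add_sub_cancel_left, Matrix.single_apply]
    rw [if_neg]
    rintro ⟨rfl, rfl⟩
    omega

end Cfsg.Agent.Lib.Helper30_DZ_SLINCL
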