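import Mathlib
import Cfsg.Prelude.Def_Characters
import Cfsg.Agent.Lib.Helper76_HIDefs

/-!
Package AQ of the market `hi_packages` (architect helper76; S4563 + S4564, Howlett–Isaacs lemmas), by helper30:
the subgroup `Q = Z S`, `S` a Sylow `p`-subgroup of `H` containing a Sylow `p`-subgroup of `K`
(pure group theory: Sylow, Dedekind, Frattini).
-/

set_option autoImplicit false
open scoped ComplexConjugate

namespace Cfsg.Agent.Lib.Helper30_HI_AQ

open Cfsg Cfsg.Agent.Lib.Helper76_HIDefs

section fin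
variable {H : Type*} [Group H] [Finite H]

/-- a relative index that is a power of `p`, below a subgroup of index prime to `p`, is the full `p`-part of
the index -/
theorem relIndex_eq_pow_factorization {p : ℕ} (hp : p.Prime) {A Q : Subgroup H} (hAQ : A ≤ Q)
    (hpow : ∃ k : ℕ, A.relIndex Q = p ^ k) (hQ : ¬ p ∣ Q.index) :
    A.relIndex Q = p ^ (A.index.factorization p) := by
  obtain ⟨k, hk⟩ := hpow
  have h1 : A.relIndex Q * Q.index = A.index := Subgroup.relIndex_mul_index hAQ
  have hQ0 : Q.index ≠ 0 := Subgroup.index_ne_zero_of_finite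
  rw [← h1, hk, Nat.factorization_mul (pow_ne_zero _ hp.ne_zero) hQ0, Finsupp.add_apply,
    Nat.factorization_eq_zero_of_not_dvd hQ, add_zero, hp.factorization_pow, Finsupp.single_eq_same]

theorem exists_Q (Z K : Subgroup H) (nZ : Z.Normal) (nK : K.Normal) (hZK : Z ≤ K) (p : ℕ)
    (hp : p.Prime) :
    ∃ Q : Subgroup H, Z ≤ Q ∧
      Z.relIndex Q = p ^ (Z.index.factorization p) ∧
      (Q ⊓ K).relIndex Q = p ^ (K.index.factorization p) ∧
      ¬ p ∣ (Q ⊓ K).relIndex K ∧
      K ⊔ Subgroup.normalizer ((Q ⊓ K : Subgroup H) : Set H) = ⊤ := by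
  have : Fact p.Prime := ⟨hp⟩
  have := nZ
  have := nK
  -- a Sylow subgroup `T` of `K` and a Sylow subgroup `S` of `H` containing it
  obtain ⟨T⟩ : Nonempty (Sylow p ↥K) := inferInstance
  set T' : Subgroup H := (T : Subgroup ↥K).map K.subtype with hT'
  have hT'K : T' ≤ K := Subgroup.map_subtype_le _
  have hT'p : IsPGroup p ↥T' := T.2.map K.subtype
  obtain ⟨S, hTS⟩ := hT'p.exists_le_sylow
  have hSidx : ¬ p ∣ (S : Subgroup H).index := S.not_dvd_index
  -- `S ⊓ K = T'`
  have hSK : (S : Subgroup H) ⊓ K = T' := by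
    have hp' : IsPGroup p ↥(((S : Subgroup H) ⊓ K).subgroupOf K) := by
      have h1 : IsPGroup p ↥((S : Subgroup H) ⊓ K) := S.2.to_le inf_le_left
      exact h1.comap_subtype
    have hle : (T : Subgroup ↥K) ≤ ((S : Subgroup H) ⊓ K).subgroupOf K := by
      intro x hx
      rw [Subgroup.mem_subgroupOf]
      exact ⟨hTS (Subgroup.mem_map_of_mem _ hx), x.2⟩
    have heq : ((S : Subgroup H) ⊓ K).subgroupOf K = T := T.is_maximal' hp' hle
    rw [hT', ← heq, Subgroup.map_subgroupOf_eq_of_le inf_le_right]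
  -- Dedekind: `(Z ⊔ S) ⊓ K = Z ⊔ T'`
  have hQK : (Z ⊔ (S : Subgroup H)) ⊓ K = Z ⊔ T' := by
    apply le_antisymm
    · intro x hx
      obtain ⟨hx1, hx2⟩ := hx
      obtain ⟨z, hz, s, hs, rfl⟩ := Subgroup.mem_sup_of_normal_left.1 hx1
      have hsK : s ∈ K := by
        have : s = z⁻¹ * (z * s) := by group
        rw [this]
        exact K.mul_mem (K.inv_mem (hZK hz)) hx2
      have hsT : s ∈ T' := by
        rw [← hSK]
        exact ⟨hs, hsK⟩
      exact Subgroup.mul_mem_sup hz hsT
    · exact le_inf (sup_le_sup_left hTS Z) (sup_le hZK hT'K)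
  refine ⟨Z ⊔ S, le_sup_left, ?_, ?_, ?_, ?_⟩
  · -- `|Q : Z|`
    apply relIndex_eq_pow_factorization hp le_sup_left
    · obtain ⟨k, hk⟩ := S.2.index (Z.subgroupOf S)
      exact ⟨k, by rw [Subgroup.relIndex_sup_left]; exact hk⟩
    · exact fun h => hSidx (dvd_trans h (Subgroup.index_dvd_of_le le_sup_right))
  · -- `|Q : Q ∩ K|`
    rw [Subgroup.inf_relIndex_left, ← Subgroup.relIndex_sup_left]
    have e : K ⊔ (Z ⊔ (S : Subgroup H)) = K ⊔ S := by
      rw [← sup_assoc, sup_eq_left.mpr hZK]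
    rw [e]
    apply relIndex_eq_pow_factorization hp le_sup_left
    · obtain ⟨k, hk⟩ := S.2.index (K.subgroupOf S)
      exact ⟨k, by rw [Subgroup.relIndex_sup_left]; exact hk⟩
    · exact fun h => hSidx (dvd_trans h (Subgroup.index_dvd_of_le le_sup_right))
  · -- `|K : Q ∩ K|` is prime to `p`
    intro h
    apply T.not_dvd_index
    have h1 : ((Z ⊔ (S : Subgroup H)) ⊓ K).relIndex K ∣ T'.relIndex K :=
      Subgroup.relIndex_dvd_of_le_left K (by rw [hQK]; exact le_sup_right)
    have h2 : T'.relIndex K = (T : Subgroup ↥K).index := by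
      unfold Subgroup.relIndex
      rw [hT']
      congr 1
      exact Subgroup.comap_map_eq_self_of_injective K.subtype_injective _
    rw [← h2]
    exact dvd_trans h h1
  · -- Frattini
    rw [hQK]
    have hfr : Subgroup.normalizer ((T' : Subgroup H) : Set H) ⊔ K = ⊤ :=
      Sylow.normalizer_sup_eq_top T
    have hle : Subgroup.normalizer ((T' : Subgroup H) : Set H) ≤
        Subgroup.normalizer ((Z ⊔ T' : Subgroup H) : Set H) := by
      have key : ∀ g ∈ Subgroup.normalizer ((T' : Subgroup H) : Set H), ∀ n ∈ Z ⊔ T',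
          g * n * g⁻¹ ∈ Z ⊔ T' := by
        intro g hg n hn
        obtain ⟨z, hz, t, ht, rfl⟩ := Subgroup.mem_sup_of_normal_left.1 hn
        have e : g * (z * t) * g⁻¹ = (g * z * g⁻¹) * (g * t * g⁻¹) := by group
        rw [e]
        exact Subgroup.mul_mem_sup (nZ.conj_mem z hz g) ((Subgroup.mem_normalizer_iff.1 hg t).1 ht)
      intro g hg
      rw [Subgroup.mem_normalizer_iff]
      intro n
      constructor
      · exact key g hg n
      · intro hn
        have := key g⁻¹ (Subgroup.inv_mem _ hg) _ hn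
        have e : g⁻¹ * (g * n * g⁻¹) * g⁻¹⁻¹ = n := by group
        rwa [e] at this
    rw [eq_top_iff, ← hfr, sup_comm]
    exact sup_le_sup_left hle K

end fin

end Cfsg.Agent.Lib.Helper30_HI_AQ
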