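import Mathlib
import Cfsg.Agent.Lib.Helper29_ODDefs
import Cfsg.Agent.Lib.Helper94_OrthRefl
import Cfsg.Agent.Lib.Helper94_Q2Defs
import Cfsg.Agent.Lib.Helper94_OD3Defs

set_option autoImplicit false

/-!
Concrete model for orthogonal decompositions into hyperbolic planes (`k = 2`, plus-type blocks):
`V = Fin t → F × F`, `Q x = ∑ (x l).1 * (x l).2`, planes `P l = (F × F) e_l`.
Vocabulary for the maximality of `(O(P) wr S_t) ∩ Ω` in `Ω` (row S5692).  The predicates on
vectors are the abstract ones of `Helper94_OD3Defs` (`IsBlN`, `NrmA`, `CStarA`).  (helper94)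
-/

namespace Cfsg.Agent.Lib.Helper94_P2Defs

open Module Cfsg.Agent.Lib.Helper94_Symp Cfsg.Agent.Lib.Helper94_OrthSmall
  Cfsg.Agent.Lib.Helper94_OrthSiegel Cfsg.Agent.Lib.Helper94_OrthNondeg
  Cfsg.Agent.Lib.Helper29_ODDefs Cfsg.Agent.Lib.Helper94_OD3Defs

open Cfsg.Agent.Lib.Helper94_Q2Defs (MinOver)

variable (F : Type*) [Field F] (t : ℕ)

/-- The model space `(F × F)^t`. -/
abbrev PV : Type _ := Fin t → F × F

/-- The norm of the hyperbolic plane `F × F`. -/
def pN (z : F × F) : F := z.1 * z.2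

/-- The polar form of `pN`. -/
def pT (z w : F × F) : F := z.1 * w.2 + z.2 * w.1

/-- The quadratic form `Q x = ∑ (x l).1 * (x l).2`. -/
def pQ : PV F t → F := fun x => ∑ l, pN F (x l)

/-- The polar form of `pQ`. -/
def pB : LinearMap.BilinForm F (PV F t) :=
  LinearMap.mk₂ F (fun x y => ∑ l, pT F (x l) (y l))
    (fun x x' y => by
      simp only [pT, Pi.add_apply, Prod.fst_add, Prod.snd_add, add_mul, ← Finset.sum_add_distrib]
      exact Finset.sum_congr rfl fun l _ => by ring)
    (fun c x y => by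
      simp only [pT, Pi.smul_apply, Prod.smul_fst, Prod.smul_snd, smul_eq_mul, Finset.mul_sum]
      exact Finset.sum_congr rfl fun l _ => by ring)
    (fun x y y' => by
      simp only [pT, Pi.add_apply, Prod.fst_add, Prod.snd_add, mul_add, ← Finset.sum_add_distrib]
      exact Finset.sum_congr rfl fun l _ => by ring)
    (fun c x y => by
      simp only [pT, Pi.smul_apply, Prod.smul_fst, Prod.smul_snd, smul_eq_mul, Finset.mul_sum]
      exact Finset.sum_congr rfl fun l _ => by ring)

/-- The rotation `d(c)` of the hyperbolic plane: `(α, β) ↦ (c α, c⁻¹ β)`. -/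
def dAct (c : F) (z : F × F) : F × F := (c * z.1, c⁻¹ * z.2)

/-- The swap `(α, β) ↦ (β, α)` of the hyperbolic plane (the reflection in `(1, -1)`). -/
def sAct (z : F × F) : F × F := (z.2, z.1)

/-- `γ(c) = (1 - c)(1 - c⁻¹)`: `pN ((1 - d(c)) z) = γ(c) pN z`. -/
def gam (c : F) : F := (1 - c) * (1 - c⁻¹)

/-- The determinant of two vectors of `F × F`. -/
def pdet (z w : F × F) : F := z.1 * w.2 - z.2 * w.1

variable {F} in
/-- The first hyperbolic basis vector of the `i`-th plane. -/
def pe {t : ℕ} (i : Fin t) : PV F t := Pi.single i (1, 0)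

variable {F} in
/-- The second hyperbolic basis vector of the `i`-th plane. -/
def pf {t : ℕ} (i : Fin t) : PV F t := Pi.single i (0, 1)

lemma pQ_apply (x : PV F t) : pQ F t x = ∑ l, (x l).1 * (x l).2 := rfl

lemma pB_apply (x y : PV F t) :
    pB F t x y = ∑ l, ((x l).1 * (y l).2 + (x l).2 * (y l).1) := rfl

lemma pQs (c : F) (x : PV F t) : pQ F t (c • x) = c * c * pQ F t x := by
  simp only [pQ_apply, Pi.smul_apply, Prod.smul_fst, Prod.smul_snd, smul_eq_mul, Finset.mul_sum]
  exact Finset.sum_congr rfl fun l _ => by ring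

lemma pQp (x y : PV F t) : pQ F t (x + y) = pQ F t x + pQ F t y + pB F t x y := by
  simp only [pQ_apply, pB_apply, Pi.add_apply, Prod.fst_add, Prod.snd_add,
    ← Finset.sum_add_distrib]
  exact Finset.sum_congr rfl fun l _ => by ring

/-- The `l`-th coordinate plane. -/
def pD (l : Fin t) : Submodule F (PV F t) where
  carrier := {x | ∀ j, j ≠ l → x j = 0}
  add_mem' := by
    intro x y hx hy j hj
    rw [Pi.add_apply, hx j hj, hy j hj, add_zero]
  zero_mem' := fun j _ => rfl
  smul_mem' := by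
    intro c x hx j hj
    rw [Pi.smul_apply, hx j hj, smul_zero]

lemma mem_pD {l : Fin t} {x : PV F t} : x ∈ pD F t l ↔ ∀ j, j ≠ l → x j = 0 := Iff.rfl

/-- `Ω = [O, O]` of the model. -/
abbrev pOm : Subgroup (PV F t ≃ₗ[F] PV F t) := ⁅oG (pQ F t), oG (pQ F t)⁆

/-- The reflection of the model in a nonsingular vector. -/
abbrev prefl {x : PV F t} (hx : pQ F t x ≠ 0) : PV F t ≃ₗ[F] PV F t :=
  refl (pQ F t) (pB F t) (pQs F t) (pQp F t) hx

variable {F t}

/-- `x` is a nonsingular vector of one of the coordinate planes. -/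
abbrev PBl (x : PV F t) : Prop := IsBlN (pQ F t) (pD F t) x

/-- The reflection in `x` normalises `M`. -/
abbrev PNrm (M : Subgroup (PV F t ≃ₗ[F] PV F t)) (x : PV F t) : Prop :=
  NrmA (pQ F t) (pB F t) (pQs F t) (pQp F t) M x

lemma finite_PV [Finite F] : Finite (PV F t) := inferInstance

lemma finite_PVEquiv [Finite F] : Finite (PV F t ≃ₗ[F] PV F t) :=
  Finite.of_injective (fun g : PV F t ≃ₗ[F] PV F t => (g : PV F t → PV F t))
    (fun g h hgh => LinearEquiv.ext (fun x => congrFun hgh x))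

open Classical in
/-- The support of `x`: the coordinates which do not vanish. -/
noncomputable def PSupp (x : PV F t) : Finset (Fin t) := Finset.univ.filter (fun l => x l ≠ 0)

/-- The reflection in `w` lies in `L`. -/
def PInRc (L : Subgroup (PV F t ≃ₗ[F] PV F t)) (w : PV F t) : Prop :=
  ∃ hw : pQ F t w ≠ 0, prefl F t hw ∈ L

/-- Common hypotheses: `M` is a minimal overgroup of `H = S ⊓ Ω` inside `Ω`. -/
structure CtxP (F : Type*) [Field F] (t : ℕ) (S M : Subgroup (PV F t ≃ₗ[F] PV F t)) : Prop where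
  ht : 7 ≤ t
  hq : 7 ≤ Nat.card F
  hS : IsDStab (pD F t) S
  hmin : MinOver (S ⊓ pOm F t) M
  hMO : M ≤ pOm F t

/-- Hypotheses of Theorem R: `L` is a group of isometries containing `H = S ⊓ Ω` and all
reflections in nonsingular vectors of the planes, and not permuting the planes. -/
structure CtxPR (F : Type*) [Field F] (t : ℕ) (S L : Subgroup (PV F t ≃ₗ[F] PV F t)) : Prop where
  ht : 5 ≤ t
  hq : 7 ≤ Nat.card F
  hS : IsDStab (pD F t) S
  hLO : L ≤ oG (pQ F t)
  hHL : S ⊓ pOm F t ≤ L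
  hR : ∀ x, PBl x → ∀ hx : pQ F t x ≠ 0, prefl F t hx ∈ L
  hLS : ¬ L ≤ S

end Cfsg.Agent.Lib.Helper94_P2Defs
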