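import Mathlib
import Cfsg.Agent.Lib.Helper94_P2Defs

set_option autoImplicit false
set_option linter.unusedSectionVars false
set_option linter.unusedVariables false

/-!
helper30 — package HP-GAMCARD of helper94's HP market (S5692, hyperbolic planes):
`γ(z) = (1 - z)(1 - z⁻¹)` takes at least `(q+1)/2` values on `F^*` (`q` odd), hence
`A γ(z) + B γ(w) = c` is solvable.
-/

namespace Cfsg.Agent.Lib.Helper30_HP_GAMCARD

open Module Cfsg.Agent.Lib.Helper94_Symp Cfsg.Agent.Lib.Helper94_OrthSmall
  Cfsg.Agent.Lib.Helper94_OrthSiegel Cfsg.Agent.Lib.Helper94_OrthNondeg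
  Cfsg.Agent.Lib.Helper29_ODDefs Cfsg.Agent.Lib.Helper94_OD3Defs Cfsg.Agent.Lib.Helper94_P2Defs

open Cfsg.Agent.Lib.Helper94_Q2Defs (MinOver)

variable {F : Type*} [Field F] [Finite F] {t : ℕ} {S M L : Subgroup (PV F t ≃ₗ[F] PV F t)}

theorem gam_eq {z : F} (hz : z ≠ 0) : gam F z = 2 - (z + z⁻¹) := by
  unfold gam
  have : z * z⁻¹ = 1 := mul_inv_cancel₀ hz
  linear_combination this

theorem gam_eq_zero_iff {z : F} (hz : z ≠ 0) : gam F z = 0 ↔ z = 1 := by
  unfold gam
  constructor
  · intro h
    rcases mul_eq_zero.mp h with h1 | h1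
    · exact (sub_eq_zero.mp h1).symm
    · have : z⁻¹ = 1 := (sub_eq_zero.mp h1).symm
      rw [← inv_inv z, this, inv_one]
  · rintro rfl
    simp

theorem gam_eq_four_iff {z : F} (hz : z ≠ 0) : gam F z = 4 ↔ z = -1 := by
  rw [gam_eq hz]
  have hzz : z * z⁻¹ = 1 := mul_inv_cancel₀ hz
  constructor
  · intro h
    have h1 : (z + 1) ^ 2 = 0 := by
      linear_combination (-z) * h - hzz
    have h2 : z + 1 = 0 := by simpa using h1
    exact eq_neg_of_add_eq_zero_left h2
  · rintro rfl
    rw [inv_neg, inv_one]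
    ring

theorem gam_fibre {z w : F} (hz : z ≠ 0) (hw : w ≠ 0) (h : gam F z = gam F w) :
    w = z ∨ w = z⁻¹ := by
  rw [gam_eq hz, gam_eq hw] at h
  have hzz : z * z⁻¹ = 1 := mul_inv_cancel₀ hz
  have hww : w * w⁻¹ = 1 := mul_inv_cancel₀ hw
  have h1 : (z - w) * (z * w - 1) = 0 := by
    linear_combination (-(z * w)) * h + (-w) * hzz + z * hww
  rcases mul_eq_zero.mp h1 with h2 | h2
  · left
    exact (sub_eq_zero.mp h2).symm
  · right
    have : z * w = 1 := sub_eq_zero.mp h2
    exact eq_inv_of_mul_eq_one_right this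

/-- the number of values of `γ` on `F^*` -/
theorem card_gam_image [Fintype F] [DecidableEq F] (h2 : (2 : F) ≠ 0) :
    Fintype.card F + 1 ≤ 2 * ((Finset.univ.erase (0 : F)).image (gam F)).card := by
  set Dall : Finset F := Finset.univ.erase (0 : F) with hDall
  set C0 : Finset F := Dall.image (gam F) with hC0
  have h4 : (4 : F) ≠ 0 := by
    have : (4 : F) = 2 * 2 := by norm_num
    rw [this]
    exact mul_ne_zero h2 h2
  have h1ne : (1 : F) ≠ -1 := by
    intro h
    apply h2
    have : (2 : F) = 1 + 1 := by norm_num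
    rw [this]
    nth_rewrite 2 [h]
    ring
  have hm1 : (-1 : F) ≠ 0 := neg_ne_zero.mpr one_ne_zero
  have h1D : (1 : F) ∈ Dall := Finset.mem_erase.mpr ⟨one_ne_zero, Finset.mem_univ _⟩
  have hm1D : (-1 : F) ∈ Dall := Finset.mem_erase.mpr ⟨hm1, Finset.mem_univ _⟩
  have h0C : (0 : F) ∈ C0 :=
    Finset.mem_image.mpr ⟨1, h1D, (gam_eq_zero_iff one_ne_zero).mpr rfl⟩
  have h4C : (4 : F) ∈ C0 :=
    Finset.mem_image.mpr ⟨-1, hm1D, (gam_eq_four_iff hm1).mpr rfl⟩
  set D' : Finset F := (Dall.erase 1).erase (-1) with hD'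
  set C' : Finset F := (C0.erase 0).erase 4 with hC'
  have hcD : D'.card + 2 = Dall.card := by
    have e1 : (Dall.erase 1).card + 1 = Dall.card := Finset.card_erase_add_one h1D
    have hm1D' : (-1 : F) ∈ Dall.erase 1 := Finset.mem_erase.mpr ⟨fun h => h1ne h.symm, hm1D⟩
    have e2 : D'.card + 1 = (Dall.erase 1).card := Finset.card_erase_add_one hm1D'
    omega
  have hcDall : Dall.card + 1 = Fintype.card F := by
    have := Finset.card_erase_add_one (Finset.mem_univ (0 : F))
    rw [Finset.card_univ] at this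
    exact this
  have hcC : C'.card + 2 = C0.card := by
    have e1 : (C0.erase 0).card + 1 = C0.card := Finset.card_erase_add_one h0C
    have h4C' : (4 : F) ∈ C0.erase 0 := Finset.mem_erase.mpr ⟨h4, h4C⟩
    have e2 : C'.card + 1 = (C0.erase 0).card := Finset.card_erase_add_one h4C'
    omega
  have hmaps : ∀ z ∈ D', gam F z ∈ C' := by
    intro z hz
    rw [hD', Finset.mem_erase, Finset.mem_erase] at hz
    obtain ⟨hzm1, hz1, hzD⟩ := hz
    have hz0 : z ≠ 0 := (Finset.mem_erase.mp hzD).1
    rw [hC', Finset.mem_erase, Finset.mem_erase]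
    refine ⟨fun h => hzm1 ((gam_eq_four_iff hz0).mp h), fun h => hz1 ((gam_eq_zero_iff hz0).mp h),
      Finset.mem_image.mpr ⟨z, hzD, rfl⟩⟩
  have hfib : ∀ v ∈ C', (D'.filter (fun z => gam F z = v)).card ≤ 2 := by
    intro v hv
    by_cases hex : ∃ z0 ∈ D', gam F z0 = v
    · obtain ⟨z0, hz0D, rfl⟩ := hex
      have hz00 : z0 ≠ 0 := by
        rw [hD', Finset.mem_erase, Finset.mem_erase] at hz0D
        exact (Finset.mem_erase.mp hz0D.2.2).1
      have hsub : D'.filter (fun z => gam F z = gam F z0) ⊆ {z0, z0⁻¹} := by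
        intro z hz
        rw [Finset.mem_filter] at hz
        have hz0' : z ≠ 0 := by
          have := hz.1
          rw [hD', Finset.mem_erase, Finset.mem_erase] at this
          exact (Finset.mem_erase.mp this.2.2).1
        rcases gam_fibre hz00 hz0' hz.2.symm with h | h
        · simp [h]
        · simp [h]
      exact (Finset.card_le_card hsub).trans Finset.card_le_two
    · have : D'.filter (fun z => gam F z = v) = ∅ := by
        apply Finset.filter_eq_empty_iff.mpr
        intro z hz hzv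
        exact hex ⟨z, hz, hzv⟩
      rw [this]
      simp
  have hle := Finset.card_le_mul_card_image_of_maps_to hmaps 2 hfib
  omega

/-- **HP-GAMCARD** [L] -/
theorem GAMCARD (h2 : (2 : F) ≠ 0) (A B c : F) (hA : A ≠ 0) (hB : B ≠ 0) :
    ∃ z w : F, z ≠ 0 ∧ w ≠ 0 ∧ A * gam F z + B * gam F w = c := by
  classical
  have : Fintype F := Fintype.ofFinite F
  set C0 : Finset F := (Finset.univ.erase (0 : F)).image (gam F) with hC0
  have hq : Fintype.card F + 1 ≤ 2 * C0.card := card_gam_image h2
  let S1 : Finset F := C0.image (fun x => A * x)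
  let S2 : Finset F := C0.image (fun x => c - B * x)
  have h1 : S1.card = C0.card := Finset.card_image_of_injective _ (mul_right_injective₀ hA)
  have h2' : S2.card = C0.card := by
    apply Finset.card_image_of_injective
    intro x y h
    have : B * x = B * y := by linear_combination -h
    exact mul_left_cancel₀ hB this
  have hne : (S1 ∩ S2).Nonempty := by
    apply Finset.inter_nonempty_of_card_lt_card_add_card (Finset.subset_univ _)
      (Finset.subset_univ _)
    rw [Finset.card_univ, h1, h2']; omega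
  obtain ⟨v, hv⟩ := hne
  rw [Finset.mem_inter] at hv
  obtain ⟨x1, hx1, rfl⟩ := Finset.mem_image.1 hv.1
  obtain ⟨x2, hx2, h⟩ := Finset.mem_image.1 hv.2
  obtain ⟨z, hz, rfl⟩ := Finset.mem_image.1 hx1
  obtain ⟨w, hw, rfl⟩ := Finset.mem_image.1 hx2
  exact ⟨z, w, (Finset.mem_erase.mp hz).1, (Finset.mem_erase.mp hw).1, by linear_combination -h⟩

end Cfsg.Agent.Lib.Helper30_HP_GAMCARD
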