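import Mathlib
import Cfsg.Agent.Lib.Helper94_P2Defs

set_option autoImplicit false
set_option linter.unusedSectionVars false
set_option linter.unusedVariables false

/-!
helper30 — package HP-RINVP of helper94's HP market (S5692): the set of reflection centres of `L`
is `L`-invariant (`conj_refl`).  Twin: Helper61_Q2_RINV.
-/

namespace Cfsg.Agent.Lib.Helper30_HP_RINVP

open Module Cfsg.Agent.Lib.Helper94_Symp Cfsg.Agent.Lib.Helper94_OrthSmall
  Cfsg.Agent.Lib.Helper94_OrthSiegel Cfsg.Agent.Lib.Helper94_OrthNondeg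
  Cfsg.Agent.Lib.Helper29_ODDefs Cfsg.Agent.Lib.Helper94_OD3Defs Cfsg.Agent.Lib.Helper94_P2Defs

open Cfsg.Agent.Lib.Helper94_Q2Defs (MinOver)

variable {F : Type*} [Field F] [Finite F] {t : ℕ} {S M L : Subgroup (PV F t ≃ₗ[F] PV F t)}

/-- **HP-RINVP** [S] conj_refl (twin: Helper61_Q2_RINV). -/
theorem RINVP (hLO : L ≤ oG (pQ F t)) {w : PV F t} (hw : PInRc L w)
    {g : PV F t ≃ₗ[F] PV F t} (hg : g ∈ L) : PInRc L (g w) := by
  obtain ⟨hw0, hr⟩ := hw
  have hgO : g ∈ oG (pQ F t) := hLO hg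
  have hgw : pQ F t (g w) ≠ 0 := by rw [hgO w]; exact hw0
  refine ⟨hgw, ?_⟩
  have h1 := conj_refl (pQ F t) (pB F t) (pQs F t) (pQp F t) hgO hw0
  show refl (pQ F t) (pB F t) (pQs F t) (pQp F t) hgw ∈ L
  rw [← h1]
  exact L.mul_mem (L.mul_mem hg hr) (L.inv_mem hg)

end Cfsg.Agent.Lib.Helper30_HP_RINVP
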