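import Mathlib
import Cfsg.Agent.Lib.Helper98_OFADefs

/-!
helper30 — package QUADVAL of helper98's OFA market: a quadratic polynomial over a finite field of
odd order takes a square value (`FiniteField.exists_root_sum_quadratic`).
-/

set_option autoImplicit false

namespace Cfsg.Agent.Lib.Helper30_OFA_QUADVAL

open Module Cfsg.Agent.Lib.Helper94_Symp Cfsg.Agent.Lib.Helper94_OrthSmall
  Cfsg.Agent.Lib.Helper94_OrthSiegel Cfsg.Agent.Lib.Helper32_OFDefs
  Cfsg.Agent.Lib.Helper98_OFADefs

section S3

variable {F : Type*} [Field F] [Finite F]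
variable {W : Type*} [AddCommGroup W] [Module F W] [FiniteDimensional F W]
variable {Qw : W → F} {Bw : LinearMap.BilinForm F W}

/-- OFA-QUADVAL (S).  A quadratic polynomial over a finite field of odd order takes a square
value. -/
theorem QUADVAL (h2 : (2 : F) ≠ 0) (a b d : F) (ha : a ≠ 0) :
    ∃ t s : F, a * t * t + b * t + d = s * s := by
  classical
  have : Fintype F := Fintype.ofFinite F
  have hodd : Fintype.card F % 2 = 1 := by
    apply FiniteField.odd_card_of_char_ne_two
    intro hch
    apply h2
    have : CharP F 2 := by rw [← hch]; exact ringChar.charP F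
    exact CharP.ofNat_eq_zero F 2
  open Polynomial in
  have hf : (C a * X ^ 2 + C b * X + C d : F[X]).degree = 2 := Polynomial.degree_quadratic ha
  open Polynomial in
  have hg : (-(X ^ 2) : F[X]).degree = 2 := by
    rw [Polynomial.degree_neg, Polynomial.degree_X_pow]
    rfl
  obtain ⟨t, s, hts⟩ := FiniteField.exists_root_sum_quadratic hf hg hodd
  refine ⟨t, s, ?_⟩
  simp only [Polynomial.eval_add, Polynomial.eval_mul, Polynomial.eval_C, Polynomial.eval_pow,
    Polynomial.eval_X, Polynomial.eval_neg] at hts
  linear_combination hts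

end S3

end Cfsg.Agent.Lib.Helper30_OFA_QUADVAL
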