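import Mathlib
import Cfsg.Agent.Lib.Helper32_OFDefs

set_option autoImplicit false

/-!
# Helper30_OF_VJ: package OF-VJ of the OF market (S5679 + S5696, architect helper32)

If the conjugate by `g ∈ M` of a sign change of rank at most four is monomial then so is `g`.
-/

namespace Cfsg.Agent.Lib.Helper30_OF_VJ

open Module Cfsg.Agent.Lib.Helper94_Symp Cfsg.Agent.Lib.Helper94_OrthSmall
  Cfsg.Agent.Lib.Helper94_OrthSiegel Cfsg.Agent.Lib.Helper94_OrthSiegel2
  Cfsg.Agent.Lib.Helper94_OrthNondeg Cfsg.Agent.Lib.Helper29_ODDefs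
  Cfsg.Agent.Lib.Helper32_OFDefs

variable {F V : Type*} [Field F] [AddCommGroup V] [Module F V]
variable {Q : V → F} {B : LinearMap.BilinForm F V}
variable {ι : Type*} [Fintype ι] [DecidableEq ι] {c : F} {e : ι → V}
variable {M : Subgroup (V ≃ₗ[F] V)}

theorem VJ [FiniteDimensional F V] (hC : CCtx Q B c e M) (hn : 13 ≤ Fintype.card ι)
    (h0 : PropC0 e M) (hV : PropV B c e M) (hMv : PropMoved F e) : PropVJ B c e M := by
  classical
  intro g hg J hJne hJ4 htmon
  have hfr := hC.fr
  have hgO : g ∈ oG Q := hC.hMO hg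
  have htO : g * zJ B c e J * g⁻¹ ∈ oG Q :=
    Subgroup.mul_mem _ (Subgroup.mul_mem _ hgO (hfr.zJ_mem_oG J)) (Subgroup.inv_mem _ hgO)
  have htt : (g * zJ B c e J * g⁻¹) * (g * zJ B c e J * g⁻¹) = 1 := by
    have h1 := hfr.zJ_mul_self J
    calc g * zJ B c e J * g⁻¹ * (g * zJ B c e J * g⁻¹)
        = g * (zJ B c e J * zJ B c e J) * g⁻¹ := by group
      _ = 1 := by rw [h1]; group
  -- the commutator space
  have hW : ∀ x, x - (g * zJ B c e J * g⁻¹) x
      ∈ Submodule.span F ((fun j => g (e j)) '' (J : Set ι)) := by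
    intro x
    have h1 : x - (g * zJ B c e J * g⁻¹) x = g (g⁻¹ x - zJ B c e J (g⁻¹ x)) := by
      rw [LinearEquiv.mul_apply, LinearEquiv.mul_apply, map_sub, apply_inv_apply']
    rw [h1, hfr.zJ_apply, sub_sub_cancel, map_sum]
    refine Submodule.sum_mem _ (fun j hj => ?_)
    rw [map_smul]
    exact Submodule.smul_mem _ _ (Submodule.subset_span ⟨j, hj, rfl⟩)
  have hWr : finrank F (Submodule.span F ((fun j => g (e j)) '' (J : Set ι))) ≤ 4 := by
    have h2 : ((fun j => g (e j)) '' (J : Set ι))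
        = ((J.image (fun j => g (e j)) : Finset V) : Set V) := by
      rw [Finset.coe_image]
    rw [h2]
    exact le_trans (finrank_span_finset_le_card _) (le_trans Finset.card_image_le hJ4)
  have hmv := hMv (g * zJ B c e J * g⁻¹) htmon htt _ hW
  -- the moved set
  obtain ⟨S, hSmem, hScard⟩ : ∃ S : Finset ι,
      (∀ i, i ∈ S ↔ (g * zJ B c e J * g⁻¹) (e i) ≠ e i) ∧ S.card ≤ 8 := by
    refine ⟨_, fun i => ?_, le_trans hmv (by omega)⟩
    rw [Finset.mem_filter]
    exact ⟨fun h => h.2, fun h => ⟨Finset.mem_univ _, h⟩⟩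
  have hSc : 5 ≤ Sᶜ.card := by
    rw [Finset.card_compl]
    omega
  obtain ⟨j, hj⟩ := hJne
  -- `x = g (e j)` is negated by `t`
  have htx : (g * zJ B c e J * g⁻¹) (g (e j)) = -g (e j) := by
    rw [LinearEquiv.mul_apply, LinearEquiv.mul_apply, inv_apply_apply', hfr.zJ_e_mem hj, map_neg]
  -- `x` is supported on `S`
  have hxS : ∀ i, i ∉ S → B (g (e j)) (e i) = 0 := by
    intro i hi
    have hti : (g * zJ B c e J * g⁻¹) (e i) = e i := by
      by_contra hne
      exact hi ((hSmem i).mpr hne)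
    have h1 := oG_B Q B hfr.hQp htO (g (e j)) (e i)
    rw [htx, hti, map_neg, LinearMap.neg_apply] at h1
    have h2 : (2 : F) * B (g (e j)) (e i) = 0 := by linear_combination -h1
    rcases mul_eq_zero.mp h2 with h3 | h3
    · exact absurd h3 hfr.h2
    · exact h3
  -- elements fixing the frame vectors of `S` fix `x`
  have hfix : ∀ h : V ≃ₗ[F] V, (∀ i ∈ S, h (e i) = e i) → h (g (e j)) = g (e j) := by
    intro h hh
    have key : h (∑ i, ((2 * c)⁻¹ * B (g (e j)) (e i)) • e i)
        = ∑ i, ((2 * c)⁻¹ * B (g (e j)) (e i)) • e i := by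
      rw [map_sum]
      refine Finset.sum_congr rfl (fun i _ => ?_)
      rw [map_smul]
      by_cases hi : i ∈ S
      · rw [hh i hi]
      · rw [hxS i hi, mul_zero, zero_smul, zero_smul]
    rw [← hfr.exp (g (e j))] at key
    exact key
  -- some column of `g` has a nonzero coordinate outside `S`
  have hex : ∃ a k, k ∉ S ∧ B (g (e a)) (e k) ≠ 0 := by
    by_contra hcon
    push Not at hcon
    have hpos : 0 < Sᶜ.card := by omega
    obtain ⟨k, hk⟩ := Finset.card_pos.mp hpos
    have hkS : k ∉ S := Finset.mem_compl.mp hk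
    have hz : g⁻¹ (e k) = 0 := by
      apply hfr.ext
      intro a
      rw [map_zero, LinearMap.zero_apply, hfr.symm]
      have h1 := oG_B Q B hfr.hQp hgO (e a) (g⁻¹ (e k))
      rw [apply_inv_apply'] at h1
      rw [← h1]
      exact hcon a k hkS
    have : e k = 0 := by
      have h2 : g (g⁻¹ (e k)) = g 0 := by rw [hz]
      rw [apply_inv_apply', map_zero] at h2
      exact h2
    exact hfr.e_ne_zero k this
  obtain ⟨a, k, hkS, hak⟩ := hex
  have hyy : B (g (e a)) (g (e a)) = 2 * c := by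
    rw [oG_B Q B hfr.hQp hgO, hfr.Bee]
  have hcond : ∀ h ∈ M, (∀ i ∈ S, h (e i) = e i) →
      (h (g (e a)) = g (e a) ∨ h (g (e a)) = -g (e a) ∨ B (h (g (e a))) (g (e a)) = 0) := by
    intro h hhM hh
    have hxfix := hfix h hh
    have hk0M : g⁻¹ * h * g ∈ M := Subgroup.mul_mem _ (Subgroup.mul_mem _ (Subgroup.inv_mem _ hg) hhM) hg
    have hk0j : (g⁻¹ * h * g) (e j) = e j := by
      rw [LinearEquiv.mul_apply, LinearEquiv.mul_apply, hxfix, inv_apply_apply']
    have hk0mon : IsMon e (g⁻¹ * h * g) := hC.hC _ hk0M j (Or.inl hk0j)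
    obtain ⟨b, hb⟩ := hk0mon a
    have hhy : h (g (e a)) = g ((g⁻¹ * h * g) (e a)) := by
      rw [LinearEquiv.mul_apply, LinearEquiv.mul_apply, apply_inv_apply']
    rcases hb with hb | hb
    · rw [hhy, hb]
      by_cases hba : b = a
      · left; rw [hba]
      · right; right
        rw [oG_B Q B hfr.hQp hgO, hfr.orth b a hba]
    · rw [hhy, hb, map_neg]
      by_cases hba : b = a
      · right; left; rw [hba]
      · right; right
        rw [map_neg, LinearMap.neg_apply, oG_B Q B hfr.hQp hgO, hfr.orth b a hba, neg_zero]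
  obtain ⟨k', hk'⟩ := hV S (g (e a)) hSc hyy ⟨k, hkS, hak⟩ hcond
  exact h0 g hg a k' hk'

end Cfsg.Agent.Lib.Helper30_OF_VJ
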