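import Mathlib
import Cfsg.Agent.Lib.Helper95_OPDefs
import Cfsg.Agent.Lib.Helper95_OPBasic

/-!
# S2346 package OMB-SPAN (architect helper30): `a^⊥ ∩ W` is spanned by singular vectors
-/

set_option autoImplicit false

namespace Cfsg.Agent.Lib.Helper60_OM_SPAN

open Module Cfsg.Agent.Lib.Helper94_OrthSmall Cfsg.Agent.Lib.Helper44_QuadClass
  Cfsg.Agent.Lib.Helper14_OmegaSimple Cfsg.Agent.Lib.Helper38_MIODefs
  Cfsg.Agent.Lib.Helper95_OPDefs Cfsg.Agent.Lib.Helper95_OPBasic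

variable {F V : Type*} [Field F] [Fintype F] [AddCommGroup V] [Module F V] [FiniteDimensional F V]

omit [Fintype F] [FiniteDimensional F V] in
/-- `Q (c + u - Q u • c') = 0` for a hyperbolic pair `c, c'` and `u ⊥ c, c'` -/
theorem singular_of_pair (Q : QuadraticForm F V) {c c' u : V} (hc : Q c = 0) (hc' : Q c' = 0)
    (hcc' : QuadraticMap.polar (⇑Q) c c' = 1) (huc : QuadraticMap.polar (⇑Q) c u = 0)
    (huc' : QuadraticMap.polar (⇑Q) u c' = 0) : Q (c + (u + (-(Q u)) • c')) = 0 := by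
  rw [QuadraticMap.map_add Q c, QuadraticMap.map_add Q u, QuadraticMap.map_smul, hc, hc',
    QuadraticMap.polar_smul_right, huc', QuadraticMap.polar_add_right, huc,
    QuadraticMap.polar_smul_right, hcc']
  simp

/-! ## OMB-SPAN (M) -/
theorem mem_span_singular_perp (Q : QuadraticForm F V) (hQ : (QuadraticMap.polarBilin Q).Nondegenerate)
    (hdim : 7 ≤ finrank F V) {v v' : V} (hv : Q v = 0) (hv' : Q v' = 0)
    (hvv' : QuadraticMap.polar (⇑Q) v v' = 1)
    (a : V) (ha : a ∈ perp Q v v') (ha0 : a ≠ 0) (hQa : Q a = 0)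
    (w : V) (hw : w ∈ perp Q v v') (haw : QuadraticMap.polar (⇑Q) a w = 0) :
    w ∈ Submodule.span F {b : V | b ∈ perp Q v v' ∧ Q b = 0 ∧ QuadraticMap.polar (⇑Q) a b = 0} := by
  have hQW : (QuadraticMap.polarBilin (Qp Q v v')).Nondegenerate :=
    nondegenerate_perp hQ hv hv' hvv'
  have hdW : finrank F (perp Q v v') + 2 = finrank F V := finrank_perp hv hv' hvv'
  have haW0 : (⟨a, ha⟩ : ↥(perp Q v v')) ≠ 0 := fun h => ha0 (congrArg Subtype.val h)
  have hQaW : Qp Q v v' ⟨a, ha⟩ = 0 := hQa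
  obtain ⟨a'W, hQa'W, haa'W⟩ := exists_hyperbolic_partner (Qp Q v v') hQW haW0 hQaW
  have hQW2 := nondegenerate_perp hQW hQaW hQa'W haa'W
  have hdW2 := finrank_perp hQaW hQa'W haa'W
  obtain ⟨c₂, hc0, hQc₂⟩ := exists_singular (Qp (Qp Q v v') ⟨a, ha⟩ a'W) (by omega)
  obtain ⟨c₂', hQc₂', hcc₂'⟩ := exists_hyperbolic_partner _ hQW2 hc0 hQc₂
  -- everything down in `V`
  obtain ⟨a', ha'def⟩ : ∃ a' : V, a' = (a'W : V) := ⟨_, rfl⟩
  obtain ⟨c, hcdef⟩ : ∃ c : V, c = ((c₂ : ↥(perp Q v v')) : V) := ⟨_, rfl⟩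
  obtain ⟨c', hc'def⟩ : ∃ c' : V, c' = ((c₂' : ↥(perp Q v v')) : V) := ⟨_, rfl⟩
  have hQa' : Q a' = 0 := by rw [ha'def]; exact hQa'W
  have haa' : QuadraticMap.polar (⇑Q) a a' = 1 := by
    rw [ha'def, ← haa'W]
    exact (polar_comp_subtype Q (perp Q v v') ⟨a, ha⟩ a'W).symm
  have hcW : c ∈ perp Q v v' := by rw [hcdef]; exact (c₂ : ↥(perp Q v v')).2
  have hc'W : c' ∈ perp Q v v' := by rw [hc'def]; exact (c₂' : ↥(perp Q v v')).2
  have hQc : Q c = 0 := by rw [hcdef]; exact hQc₂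
  have hQc' : Q c' = 0 := by rw [hc'def]; exact hQc₂'
  have hcc' : QuadraticMap.polar (⇑Q) c c' = 1 := by
    rw [hcdef, hc'def, ← hcc₂', polar_comp_subtype, polar_comp_subtype]
  have hc₂mem := (mem_perp (Qp Q v v') ⟨a, ha⟩ a'W).mp c₂.2
  have hc₂'mem := (mem_perp (Qp Q v v') ⟨a, ha⟩ a'W).mp c₂'.2
  have hac : QuadraticMap.polar (⇑Q) a c = 0 := by
    rw [hcdef, ← hc₂mem.1, polar_comp_subtype]
  have ha'c : QuadraticMap.polar (⇑Q) a' c = 0 := by
    rw [hcdef, ha'def, ← hc₂mem.2, polar_comp_subtype]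
  have hac' : QuadraticMap.polar (⇑Q) a c' = 0 := by
    rw [hc'def, ← hc₂'mem.1, polar_comp_subtype]
  have ha'c' : QuadraticMap.polar (⇑Q) a' c' = 0 := by
    rw [hc'def, ha'def, ← hc₂'mem.2, polar_comp_subtype]
  have haa : QuadraticMap.polar (⇑Q) a a = 0 := by rw [polar_self', hQa, mul_zero]
  have hcc : QuadraticMap.polar (⇑Q) c c = 0 := by rw [polar_self', hQc, mul_zero]
  have hc'c' : QuadraticMap.polar (⇑Q) c' c' = 0 := by rw [polar_self', hQc', mul_zero]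
  -- the decomposition
  obtain ⟨α, hα⟩ : ∃ α : F, α = QuadraticMap.polar (⇑Q) w a' := ⟨_, rfl⟩
  obtain ⟨w₂, hw₂⟩ : ∃ w₂ : V, w₂ = w - α • a := ⟨_, rfl⟩
  obtain ⟨l, hl⟩ : ∃ l : F, l = QuadraticMap.polar (⇑Q) w₂ c' := ⟨_, rfl⟩
  obtain ⟨m, hm⟩ : ∃ m : F, m = QuadraticMap.polar (⇑Q) w₂ c := ⟨_, rfl⟩
  obtain ⟨u, hu⟩ : ∃ u : V, u = w₂ - l • c - m • c' := ⟨_, rfl⟩
  have hw₂W : w₂ ∈ perp Q v v' := by
    rw [hw₂]; exact Submodule.sub_mem _ hw (Submodule.smul_mem _ _ ha)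
  have huW : u ∈ perp Q v v' := by
    rw [hu]
    exact Submodule.sub_mem _ (Submodule.sub_mem _ hw₂W (Submodule.smul_mem _ _ hcW))
      (Submodule.smul_mem _ _ hc'W)
  have haw₂ : QuadraticMap.polar (⇑Q) a w₂ = 0 := by
    rw [hw₂, QuadraticMap.polar_sub_right, QuadraticMap.polar_smul_right, haw, haa]
    simp
  have hau : QuadraticMap.polar (⇑Q) a u = 0 := by
    rw [hu, QuadraticMap.polar_sub_right, QuadraticMap.polar_sub_right,
      QuadraticMap.polar_smul_right, QuadraticMap.polar_smul_right, haw₂, hac, hac']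
    simp
  have hcu : QuadraticMap.polar (⇑Q) c u = 0 := by
    rw [hu, QuadraticMap.polar_sub_right, QuadraticMap.polar_sub_right,
      QuadraticMap.polar_smul_right, QuadraticMap.polar_smul_right, hcc, hcc',
      QuadraticMap.polar_comm (⇑Q) c w₂, ← hm]
    simp
  have huc' : QuadraticMap.polar (⇑Q) u c' = 0 := by
    rw [hu, QuadraticMap.polar_sub_left, QuadraticMap.polar_sub_left,
      QuadraticMap.polar_smul_left, QuadraticMap.polar_smul_left, hcc', hc'c', ← hl]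
    simp
  -- the singular vector `s`
  obtain ⟨s, hs⟩ : ∃ s : V, s = c + (u + (-(Q u)) • c') := ⟨_, rfl⟩
  have hQs : Q s = 0 := by rw [hs]; exact singular_of_pair Q hQc hQc' hcc' hcu huc'
  have hsW : s ∈ perp Q v v' := by
    rw [hs]
    exact Submodule.add_mem _ hcW (Submodule.add_mem _ huW (Submodule.smul_mem _ _ hc'W))
  have has : QuadraticMap.polar (⇑Q) a s = 0 := by
    rw [hs, QuadraticMap.polar_add_right, QuadraticMap.polar_add_right,
      QuadraticMap.polar_smul_right, hac, hau, hac']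
    simp
  have hwdec : w = α • a + l • c + m • c' + s - c + (Q u) • c' := by
    rw [hs, hu, hw₂]
    module
  have memS : ∀ b : V, b ∈ perp Q v v' → Q b = 0 → QuadraticMap.polar (⇑Q) a b = 0 →
      b ∈ Submodule.span F
        {b : V | b ∈ perp Q v v' ∧ Q b = 0 ∧ QuadraticMap.polar (⇑Q) a b = 0} :=
    fun b h1 h2 h3 => Submodule.subset_span ⟨h1, h2, h3⟩
  have haS := memS a ha hQa haa
  have hcS := memS c hcW hQc hac
  have hc'S := memS c' hc'W hQc' hac'
  have hsS := memS s hsW hQs has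
  rw [hwdec]
  exact Submodule.add_mem _ (Submodule.sub_mem _ (Submodule.add_mem _ (Submodule.add_mem _
    (Submodule.add_mem _ (Submodule.smul_mem _ _ haS) (Submodule.smul_mem _ _ hcS))
    (Submodule.smul_mem _ _ hc'S)) hsS) hcS) (Submodule.smul_mem _ _ hc'S)

end Cfsg.Agent.Lib.Helper60_OM_SPAN
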