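import Mathlib
import Cfsg.Agent.Lib.Helper95_OPDefs
import Cfsg.Agent.Lib.Helper95_OPBasic
import Cfsg.Agent.Lib.Helper70_OP_COMMFIX

/-!
# S2346 package OMB-TRIVLINE (architect helper30): `E(a,w)` acts trivially on the one-dimensional weight
space of the label `a`
-/

set_option autoImplicit false

namespace Cfsg.Agent.Lib.Helper60_OM_TRIVLINE

open Module Cfsg.Agent.Lib.Helper94_OrthSmall Cfsg.Agent.Lib.Helper44_QuadClass
  Cfsg.Agent.Lib.Helper14_OmegaSimple Cfsg.Agent.Lib.Helper38_MIODefs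
  Cfsg.Agent.Lib.Helper95_OPDefs Cfsg.Agent.Lib.Helper95_OPBasic

variable {F V : Type*} [Field F] [Fintype F] [AddCommGroup V] [Module F V] [FiniteDimensional F V]
  {X : Type*} [AddCommGroup X] [Module ℂ X] [FiniteDimensional ℂ X]

omit [Fintype F] [FiniteDimensional F V] in
/-- all vectors of the span are orthogonal to `a` -/
theorem polar_eq_zero_of_mem_span (Q : QuadraticForm F V) (a : V) (S : Set V)
    (hS : ∀ b ∈ S, QuadraticMap.polar (⇑Q) a b = 0) {w : V} (hw : w ∈ Submodule.span F S) :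
    QuadraticMap.polar (⇑Q) a w = 0 := by
  have hle : Submodule.span F S ≤ LinearMap.ker (QuadraticMap.polarBilin Q a) := by
    rw [Submodule.span_le]
    intro b hb
    rw [SetLike.mem_coe, LinearMap.mem_ker, QuadraticMap.polarBilin_apply_apply]
    exact hS b hb
  have := hle hw
  rwa [LinearMap.mem_ker, QuadraticMap.polarBilin_apply_apply] at this

/-! ## OMB-TRIVLINE (M) -/
theorem rad_trivial_on_line (Q : QuadraticForm F V) (hQ : (QuadraticMap.polarBilin Q).Nondegenerate)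
    (hdim : 8 ≤ finrank F V) {v v' : V} (hv : Q v = 0) (hv' : Q v' = 0)
    (hvv' : QuadraticMap.polar (⇑Q) v v' = 1)
    (ρ : Representation ℂ ↥(T Q) X) (ψ : AddChar F ℂ) (a : ↥(perp Q v v'))
    (hQa : Qp Q v v' a = 0) (h1 : finrank ℂ (wsp Q ρ ψ v v' a) = 1)
    (hcomm : ∀ b : V, b ∈ perp Q v v' → Q b = 0 → QuadraticMap.polar (⇑Q) (a : V) b = 0 →
      ∃ g₁ g₂ : V ≃ₗ[F] V, g₁ ∈ T Q ∧ g₂ ∈ T Q ∧ g₁ v = v ∧ g₁ v' = v' ∧ g₁ (a : V) = (a : V) ∧
        g₂ v = v ∧ g₂ v' = v' ∧ g₂ (a : V) = (a : V) ∧ E Q (a : V) b = g₁ * g₂ * g₁⁻¹ * g₂⁻¹)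
    (w : V)
    (hw : w ∈ Submodule.span F
      {b : V | b ∈ perp Q v v' ∧ Q b = 0 ∧ QuadraticMap.polar (⇑Q) (a : V) b = 0})
    (x : X) (hx : x ∈ wsp Q ρ ψ v v' a) : repE Q ρ (E Q (a : V) w) x = x := by
  have hQa' : Q (a : V) = 0 := hQa
  have h5 : 5 ≤ finrank F V := by omega
  have hperp : ∀ w' : V, w' ∈ Submodule.span F
      {b : V | b ∈ perp Q v v' ∧ Q b = 0 ∧ QuadraticMap.polar (⇑Q) (a : V) b = 0} →
      QuadraticMap.polar (⇑Q) (a : V) w' = 0 := fun w' hw' =>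
    polar_eq_zero_of_mem_span Q (a : V) _ (fun b hb => hb.2.2) hw'
  have key : ∀ c : F, repE Q ρ (E Q (a : V) (c • w)) x = x := by
    induction hw using Submodule.span_induction with
    | mem b hb =>
      intro c
      obtain ⟨hbW, hQb, hab⟩ := hb
      have h1' : c • b ∈ perp Q v v' := Submodule.smul_mem _ _ hbW
      have h2' : Q (c • b) = 0 := by rw [QuadraticMap.map_smul, hQb, smul_zero]
      have h3' : QuadraticMap.polar (⇑Q) (a : V) (c • b) = 0 := by
        rw [QuadraticMap.polar_smul_right, hab, smul_zero]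
      obtain ⟨g₁, g₂, hg₁, hg₂, h₁v, h₁v', h₁a, h₂v, h₂v', h₂a, hE⟩ := hcomm (c • b) h1' h2' h3'
      rw [hE]
      exact Cfsg.Agent.Lib.Helper70_OP_COMMFIX.comm_fix Q hQ h5 hv hv' hvv' ρ ψ a h1 g₁ g₂ hg₁ hg₂
        h₁v h₁v' h₁a h₂v h₂v' h₂a x hx
    | zero =>
      intro c
      rw [smul_zero, E_zero_right Q hQa', repE_one]
      rfl
    | add y z hy hz ihy ihz =>
      intro c
      have hy' := hperp _ (Submodule.smul_mem _ c hy)
      have hz' := hperp _ (Submodule.smul_mem _ c hz)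
      rw [smul_add, ← E_mul Q hQa' hy' hz',
        repE_mul Q ρ (E_mem_T Q hQ h5 hQa' hy') (E_mem_T Q hQ h5 hQa' hz')]
      show repE Q ρ (E Q (a : V) (c • y)) (repE Q ρ (E Q (a : V) (c • z)) x) = x
      rw [ihz c, ihy c]
    | smul d y hy ihy =>
      intro c
      rw [smul_smul]
      exact ihy (c * d)
  have := key 1
  rwa [one_smul] at this

end Cfsg.Agent.Lib.Helper60_OM_TRIVLINE
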