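import Mathlib
import Cfsg.Agent.Lib.Helper95_OPDefs
import Cfsg.Agent.Lib.Helper95_OPBasic

/-!
# S2346 (architect helper30), package OMB-KA

`E(a,b) = [E(b,c), E(a,b')]` with both factors in `T Q` fixing `v`, `v'`, `a` (dimension at least 8).
-/

set_option autoImplicit false
set_option linter.unusedSectionVars false
set_option linter.unusedVariables false

namespace Cfsg.Agent.Lib.Helper8_OM_KA

open Module Cfsg.Agent.Lib.Helper94_OrthSmall Cfsg.Agent.Lib.Helper44_QuadClass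
  Cfsg.Agent.Lib.Helper14_OmegaSimple Cfsg.Agent.Lib.Helper38_MIODefs
  Cfsg.Agent.Lib.Helper95_OPDefs Cfsg.Agent.Lib.Helper95_OPBasic

variable {F V : Type*} [Field F] [Fintype F] [AddCommGroup V] [Module F V] [FiniteDimensional F V]
  {X : Type*} [AddCommGroup X] [Module ℂ X] [FiniteDimensional ℂ X]

/-- two vectors orthogonal to `v, v', a, b` with inner product `-1` -/
theorem exists_pair (Q : QuadraticForm F V) (hQ : (QuadraticMap.polarBilin Q).Nondegenerate)
    (hdim : 8 ≤ finrank F V) {v v' : V} (hv : Q v = 0) (hv' : Q v' = 0)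
    (hvv' : QuadraticMap.polar (⇑Q) v v' = 1)
    (a b : V) (ha : a ∈ perp Q v v') (hb : b ∈ perp Q v v') :
    ∃ c b' : V, (QuadraticMap.polar (⇑Q) v c = 0 ∧ QuadraticMap.polar (⇑Q) v' c = 0 ∧
      QuadraticMap.polar (⇑Q) a c = 0 ∧ QuadraticMap.polar (⇑Q) b c = 0) ∧
      (QuadraticMap.polar (⇑Q) v b' = 0 ∧ QuadraticMap.polar (⇑Q) v' b' = 0 ∧
      QuadraticMap.polar (⇑Q) a b' = 0 ∧ QuadraticMap.polar (⇑Q) b b' = 0) ∧
      QuadraticMap.polar (⇑Q) b' c = -1 := by
  classical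
  set B : LinearMap.BilinForm F V := QuadraticMap.polarBilin Q with hB
  have hBa : ∀ x y, B x y = QuadraticMap.polar (⇑Q) x y := fun x y =>
    QuadraticMap.polarBilin_apply_apply Q x y
  have hrefl : LinearMap.BilinForm.IsRefl B := by
    intro x y h
    rw [hBa] at h ⊢
    rw [QuadraticMap.polar_comm]; exact h
  obtain ⟨hva, hv'a⟩ := (mem_perp Q v v').mp ha
  obtain ⟨hvb, hv'b⟩ := (mem_perp Q v v').mp hb
  set U : Submodule F V := Submodule.span F ({v, v', a, b} : Set V) with hU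
  have hUdim : finrank F U ≤ 4 := by
    have h1 := finrank_span_finset_le_card (R := F) ({v, v', a, b} : Finset V)
    have h2 : (({v, v', a, b} : Finset V) : Set V) = ({v, v', a, b} : Set V) := by
      push_cast; rfl
    rw [Set.finrank, h2] at h1
    exact h1.trans Finset.card_le_four
  set Xs : Submodule F V := LinearMap.BilinForm.orthogonal B U with hXs
  have hXdim : 4 ≤ finrank F Xs := by
    have : finrank F Xs = finrank F V - finrank F U :=
      LinearMap.BilinForm.finrank_orthogonal hQ U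
    omega
  have hmemX : ∀ x, x ∈ Xs ↔ QuadraticMap.polar (⇑Q) v x = 0 ∧ QuadraticMap.polar (⇑Q) v' x = 0 ∧
      QuadraticMap.polar (⇑Q) a x = 0 ∧ QuadraticMap.polar (⇑Q) b x = 0 := by
    intro x
    rw [hXs, LinearMap.BilinForm.mem_orthogonal_iff]
    constructor
    · intro h
      refine ⟨?_, ?_, ?_, ?_⟩
      · rw [← hBa]; exact h v (Submodule.subset_span (by simp))
      · rw [← hBa]; exact h v' (Submodule.subset_span (by simp))
      · rw [← hBa]; exact h a (Submodule.subset_span (by simp))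
      · rw [← hBa]; exact h b (Submodule.subset_span (by simp))
    · rintro ⟨h1, h2, h3, h4⟩ n hn
      rw [hU] at hn
      obtain ⟨α, z1, hz1, rfl⟩ := Submodule.mem_span_insert.mp hn
      obtain ⟨β, z2, hz2, rfl⟩ := Submodule.mem_span_insert.mp hz1
      obtain ⟨γ, z3, hz3, rfl⟩ := Submodule.mem_span_insert.mp hz2
      obtain ⟨δ, rfl⟩ := Submodule.mem_span_singleton.mp hz3
      simp only [map_add, map_smul, LinearMap.add_apply, LinearMap.smul_apply, hBa, h1, h2, h3, h4,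
        smul_zero, add_zero]
  by_contra hcon
  push Not at hcon
  -- `B` vanishes on `Xs`
  have hzero : ∀ c ∈ Xs, ∀ b' ∈ Xs, QuadraticMap.polar (⇑Q) b' c = 0 := by
    intro c hc b' hb'
    by_contra hk
    have hb'' : (-(QuadraticMap.polar (⇑Q) b' c)⁻¹) • b' ∈ Xs := Submodule.smul_mem _ _ hb'
    apply hcon c ((-(QuadraticMap.polar (⇑Q) b' c)⁻¹) • b') ((hmemX c).mp hc) ((hmemX _).mp hb'')
    rw [QuadraticMap.polar_smul_left, smul_eq_mul, neg_mul, inv_mul_cancel₀ hk]
  have hle : Xs ≤ Submodule.span F ({a, b} : Set V) := by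
    intro x hx
    have hxU : x ∈ U := by
      rw [← LinearMap.BilinForm.orthogonal_orthogonal hQ hrefl U, ← hXs,
        LinearMap.BilinForm.mem_orthogonal_iff]
      intro n hn
      rw [hBa]
      exact hzero x hx n hn
    rw [hU] at hxU
    obtain ⟨α, z1, hz1, rfl⟩ := Submodule.mem_span_insert.mp hxU
    obtain ⟨β, z2, hz2, rfl⟩ := Submodule.mem_span_insert.mp hz1
    obtain ⟨γ, z3, hz3, rfl⟩ := Submodule.mem_span_insert.mp hz2
    obtain ⟨δ, rfl⟩ := Submodule.mem_span_singleton.mp hz3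
    obtain ⟨h1, h2, -, -⟩ := (hmemX _).mp hx
    have hvv : QuadraticMap.polar (⇑Q) v v = 0 := by rw [polar_self', hv, mul_zero]
    have hv'v' : QuadraticMap.polar (⇑Q) v' v' = 0 := by rw [polar_self', hv', mul_zero]
    have hv'v : QuadraticMap.polar (⇑Q) v' v = 1 := by rw [QuadraticMap.polar_comm]; exact hvv'
    simp only [QuadraticMap.polar_add_right, QuadraticMap.polar_smul_right, hvv, hvv', hva, hvb,
      hv'v, hv'v', hv'a, hv'b, smul_eq_mul, mul_zero, mul_one, add_zero, zero_add] at h1 h2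
    rw [h1, h2, zero_smul, zero_smul, zero_add, zero_add]
    exact Submodule.mem_span_pair.mpr ⟨γ, δ, rfl⟩
  have h2 : finrank F Xs ≤ 2 := by
    have h1 := finrank_span_finset_le_card (R := F) ({a, b} : Finset V)
    have h3 : (({a, b} : Finset V) : Set V) = ({a, b} : Set V) := by
      push_cast; rfl
    rw [Set.finrank, h3] at h1
    exact (Submodule.finrank_mono hle).trans (h1.trans Finset.card_le_two)
  omega

/-! ## OMB-KA (M) -/
theorem exists_comm_fix_self (Q : QuadraticForm F V) (hQ : (QuadraticMap.polarBilin Q).Nondegenerate)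
    (hdim : 8 ≤ finrank F V) {v v' : V} (hv : Q v = 0) (hv' : Q v' = 0)
    (hvv' : QuadraticMap.polar (⇑Q) v v' = 1)
    (a b : V) (ha : a ∈ perp Q v v') (hb : b ∈ perp Q v v')
    (hQa : Q a = 0) (hQb : Q b = 0) (hab : QuadraticMap.polar (⇑Q) a b = 0) :
    ∃ g₁ g₂ : V ≃ₗ[F] V, g₁ ∈ T Q ∧ g₂ ∈ T Q ∧ g₁ v = v ∧ g₁ v' = v' ∧ g₁ a = a ∧
      g₂ v = v ∧ g₂ v' = v' ∧ g₂ a = a ∧ E Q a b = g₁ * g₂ * g₁⁻¹ * g₂⁻¹ := by
  have hdim5 : 5 ≤ finrank F V := by omega
  obtain ⟨c, b', ⟨hvc, hv'c, hac, hbc⟩, ⟨hvb', hv'b', hab', hbb'⟩, hb'c⟩ :=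
    exists_pair Q hQ hdim hv hv' hvv' a b ha hb
  obtain ⟨hva, hv'a⟩ := (mem_perp Q v v').mp ha
  obtain ⟨hvb, hv'b⟩ := (mem_perp Q v v').mp hb
  have hg1 : E Q b c ∈ T Q := E_mem_T Q hQ hdim5 hQb hbc
  have hg2 : E Q a b' ∈ T Q := E_mem_T Q hQ hdim5 hQa hab'
  have hba : QuadraticMap.polar (⇑Q) b a = 0 := by rw [QuadraticMap.polar_comm]; exact hab
  have hb'b : QuadraticMap.polar (⇑Q) b' b = 0 := by rw [QuadraticMap.polar_comm]; exact hbb'
  have hca : QuadraticMap.polar (⇑Q) a c = 0 := hac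
  have haa : QuadraticMap.polar (⇑Q) a a = 0 := by rw [polar_self', hQa, mul_zero]
  have e1 : E Q b c a = a := by
    rw [E_apply Q hQb hbc, hab, hac]; simp
  have e2 : E Q b c b' = b' + b := by
    rw [E_apply Q hQb hbc, hb'b, hb'c]; simp
  refine ⟨E Q b c, E Q a b', hg1, hg2, ?_, ?_, e1, ?_, ?_, ?_, ?_⟩
  · rw [E_apply Q hQb hbc, hvb, hvc]; simp
  · rw [E_apply Q hQb hbc, hv'b, hv'c]; simp
  · rw [E_apply Q hQa hab', hva, hvb']; simp
  · rw [E_apply Q hQa hab', hv'a, hv'b']; simp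
  · rw [E_apply Q hQa hab', haa, hab']; simp
  · rw [conj_E Q (T_le_oG Q hg1) hQa hab', e1, e2, E_inv Q hQa hab', E_mul Q hQa]
    · congr 1; abel
    · rw [QuadraticMap.polar_add_right, hab', hab, add_zero]
    · rw [QuadraticMap.polar_neg_right, hab', neg_zero]

end Cfsg.Agent.Lib.Helper8_OM_KA
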