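import Mathlib
import Cfsg.Agent.Lib.Helper95_OPDefs
import Cfsg.Agent.Lib.Helper95_OPBasic
import Cfsg.Agent.Lib.Helper69_OP_NONTRIV

/-!
# S2346 package OMB-KER5 (architect helper30)

If the whole radical `{E Q v w}` acts trivially in a representation `σ` of `T Q` (dimension `≥ 5`),
then `σ` is trivial: the kernel is a normal subgroup with a non-central element.
-/

set_option autoImplicit false

namespace Cfsg.Agent.Lib.Helper95_OM_KER5

open Module Cfsg.Agent.Lib.Helper94_OrthSmall Cfsg.Agent.Lib.Helper44_QuadClass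
  Cfsg.Agent.Lib.Helper14_OmegaSimple Cfsg.Agent.Lib.Helper38_MIODefs
  Cfsg.Agent.Lib.Helper95_OPDefs Cfsg.Agent.Lib.Helper95_OPBasic
  Cfsg.Agent.Lib.Helper20_MIO_NORM Cfsg.Agent.Lib.Helper69_OP_NONTRIV

variable {F V : Type*} [Field F] [Fintype F] [AddCommGroup V] [Module F V] [FiniteDimensional F V]
  {X : Type*} [AddCommGroup X] [Module ℂ X] [FiniteDimensional ℂ X]

/-! ## OMB-KER5 (M) -/
theorem rep_trivial_of_rad (Q : QuadraticForm F V) (hQ : (QuadraticMap.polarBilin Q).Nondegenerate)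
    (hdim : 5 ≤ finrank F V) {v v' : V} (hv : Q v = 0) (hv' : Q v' = 0)
    (hvv' : QuadraticMap.polar (⇑Q) v v' = 1)
    (σ : Representation ℂ ↥(T Q) X)
    (h : ∀ w : ↥(perp Q v v'), repE Q σ (E Q v (w : V)) = 1) (g : ↥(T Q)) : σ g = 1 := by
  haveI : IsSimpleGroup (↥(T Q) ⧸ Subgroup.center ↥(T Q)) := isSimpleGroup_T Q hQ hdim
  have hperf : commutator ↥(T Q) = ⊤ := commutator_T_eq_top Q hQ hdim
  have hdW : 3 ≤ finrank F ↥(perp Q v v') := by
    have := finrank_perp hv hv' hvv'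
    omega
  obtain ⟨w, hw0, hw⟩ := exists_singular (Qp Q v v') hdW
  have hker : (σ : ↥(T Q) →* Module.End ℂ X).ker = ⊤ := by
    apply normal_eq_top_of_not_le_center hperf
    intro hle
    apply rad_not_mem_center Q hQ hdim hv hv' hvv' w hw0 hw
    apply hle
    rw [MonoidHom.mem_ker]
    have h1 := h w
    rw [repE_of_mem Q σ (rad_mem Q hQ hdim hv w)] at h1
    exact h1
  have h1 : g ∈ (σ : ↥(T Q) →* Module.End ℂ X).ker := by
    rw [hker]
    exact Subgroup.mem_top g
  exact MonoidHom.mem_ker.mp h1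

end Cfsg.Agent.Lib.Helper95_OM_KER5
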