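import Mathlib
import Cfsg.Agent.Lib.Helper95_OPDefs
import Cfsg.Agent.Lib.Helper95_OPBasic
import Cfsg.Agent.Lib.Helper52_MIO_RESTR
import Cfsg.Agent.Lib.Helper91_MIO_CNTMINUS
import Cfsg.Agent.Lib.Helper71_OP_WSLEVEL

/-!
# S2346 package OMB-SUPP4 (architect helper30)

In a 6-dimensional minus-type space, a representation of `T Q` whose radical decomposition contains the
label `0` and some label `u ≠ 0` has degree at least `1 + (q^3 - q^2 + q - 1)`: the whole level set of `u`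
occurs (transitivity in the 4-dimensional complement is the hypothesis `htr`).
-/

set_option autoImplicit false

namespace Cfsg.Agent.Lib.Helper95_OM_SUPP4

open Module Cfsg.Agent.Lib.Helper94_OrthSmall Cfsg.Agent.Lib.Helper44_QuadClass
  Cfsg.Agent.Lib.Helper14_OmegaSimple Cfsg.Agent.Lib.Helper38_MIODefs
  Cfsg.Agent.Lib.Helper95_OPDefs Cfsg.Agent.Lib.Helper95_OPBasic

variable {F V : Type*} [Field F] [Fintype F] [AddCommGroup V] [Module F V] [FiniteDimensional F V]
  {X : Type*} [AddCommGroup X] [Module ℂ X] [FiniteDimensional ℂ X]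

/-! ## OMB-SUPP4 (L) -/
theorem finrank_ge_of_support (Q : QuadraticForm F V) (hQ : (QuadraticMap.polarBilin Q).Nondegenerate)
    (hdim : finrank F V = 6)
    (hZ : Nat.card {x : V // Q x = 0} =
      Fintype.card F ^ 5 - Fintype.card F ^ 3 + Fintype.card F ^ 2)
    (hL : ∀ c : F, c ≠ 0 → Nat.card {x : V // Q x = c} = Fintype.card F ^ 5 + Fintype.card F ^ 2)
    {a a' : V} (ha : Q a = 0) (ha' : Q a' = 0) (haa' : QuadraticMap.polar (⇑Q) a a' = 1)
    [DecidableEq ↥(perp Q a a')]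
    (σ : Representation ℂ ↥(T Q) X) (ψ : AddChar F ℂ)
    (hint : DirectSum.IsInternal (fun u : ↥(perp Q a a') => wsp Q σ ψ a a' u))
    (htr : ∀ f : ↥(perp Q a a') → ℕ,
      (∀ u z : ↥(perp Q a a'), Qp Q a a' u = 0 → QuadraticMap.polar (⇑(Qp Q a a')) u z = 0 →
        ∀ x, f (E (Qp Q a a') u z x) = f x) →
      ∀ x y : ↥(perp Q a a'), x ≠ 0 → y ≠ 0 → Qp Q a a' x = Qp Q a a' y → f x = f y)
    (h0 : wsp Q σ ψ a a' 0 ≠ ⊥) (u : ↥(perp Q a a')) (hu : u ≠ 0) (hu' : wsp Q σ ψ a a' u ≠ ⊥) :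
    Fintype.card F ^ 3 + Fintype.card F ≤ finrank ℂ X + Fintype.card F ^ 2 := by
  classical
  have hfinW : Finite ↥(perp Q a a') := Module.finite_of_finite F
  let _ : Fintype ↥(perp Q a a') := Fintype.ofFinite _
  have hsum : finrank ℂ X = ∑ u : ↥(perp Q a a'), finrank ℂ (wsp Q σ ψ a a' u) := by
    rw [← Module.finrank_directSum]
    exact (LinearEquiv.ofBijective (DirectSum.coeLinearMap _) hint).finrank_eq.symm
  have hdW : finrank F ↥(perp Q a a') = 2 * (3 - 1) := by
    have := finrank_perp ha ha' haa'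
    omega
  have hcounts := Cfsg.Agent.Lib.Helper91_MIO_CNTMINUS.counts_perp_minus Q ha ha' haa' 3
    (by norm_num) hdW (by norm_num; exact hZ) (by norm_num; exact hL)
  simp only [Nat.reduceSub, Nat.reduceMul, pow_one] at hcounts
  obtain ⟨-, hS, hLev⟩ := hcounts
  have hlev : ∀ x y : ↥(perp Q a a'), x ≠ 0 → y ≠ 0 → Qp Q a a' x = Qp Q a a' y →
      finrank ℂ (wsp Q σ ψ a a' x) = finrank ℂ (wsp Q σ ψ a a' y) :=
    htr (fun x => finrank ℂ (wsp Q σ ψ a a' x))
      (fun u z hu huz x =>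
        Cfsg.Agent.Lib.Helper71_OP_WSLEVEL.finrank_wsp_siegel Q hQ (by omega) ha σ ψ u z hu huz x)
  have hpos0 : 1 ≤ finrank ℂ (wsp Q σ ψ a a' 0) := by
    by_contra hlt
    push Not at hlt
    exact h0 (Submodule.finrank_eq_zero.mp (by omega))
  have hposu : 1 ≤ finrank ℂ (wsp Q σ ψ a a' u) := by
    by_contra hlt
    push Not at hlt
    exact hu' (Submodule.finrank_eq_zero.mp (by omega))
  obtain ⟨c, hc⟩ : ∃ c : F, c = Qp Q a a' u := ⟨_, rfl⟩
  set L : Finset ↥(perp Q a a') :=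
    Finset.univ.filter (fun x => x ≠ 0 ∧ Qp Q a a' x = c) with hLdef
  have hge1 : ∀ x ∈ L, 1 ≤ finrank ℂ (wsp Q σ ψ a a' x) := by
    intro x hx
    rw [hLdef, Finset.mem_filter] at hx
    rw [hlev x u hx.2.1 hu (hx.2.2.trans hc)]
    exact hposu
  have h0L : (0 : ↥(perp Q a a')) ∉ L := by
    intro h
    rw [hLdef, Finset.mem_filter] at h
    exact h.2.1 rfl
  have hmain : 1 + L.card ≤ finrank ℂ X := by
    calc 1 + L.card = 1 + ∑ x ∈ L, 1 := by rw [Finset.sum_const, smul_eq_mul, mul_one]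
      _ ≤ finrank ℂ (wsp Q σ ψ a a' 0) + ∑ x ∈ L, finrank ℂ (wsp Q σ ψ a a' x) :=
          Nat.add_le_add hpos0 (Finset.sum_le_sum hge1)
      _ = ∑ x ∈ insert 0 L, finrank ℂ (wsp Q σ ψ a a' x) := (Finset.sum_insert (f := fun x => finrank ℂ (wsp Q σ ψ a a' x)) h0L).symm
      _ ≤ ∑ x : ↥(perp Q a a'), finrank ℂ (wsp Q σ ψ a a' x) :=
          Finset.sum_le_sum_of_subset (Finset.subset_univ _)
      _ = finrank ℂ X := hsum.symm
  have hq2 : 2 ≤ Fintype.card F := Fintype.one_lt_card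
  have hpow : Fintype.card F ^ 2 ≤ Fintype.card F ^ 3 :=
    Nat.pow_le_pow_right (by omega) (by norm_num)
  by_cases hc0 : c = 0
  · have hcard : L.card = Fintype.card F ^ 3 - Fintype.card F ^ 2 + Fintype.card F - 1 := by
      rw [← hS, Nat.card_eq_fintype_card, Fintype.card_subtype, hLdef, hc0]
    rw [hcard] at hmain
    generalize Fintype.card F ^ 3 = A at *
    generalize Fintype.card F ^ 2 = B at *
    omega
  · have hcard : L.card = Fintype.card F ^ 3 + Fintype.card F := by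
      rw [← hLev c hc0, Nat.card_eq_fintype_card, Fintype.card_subtype, hLdef]
      congr 1
      ext x
      simp only [Finset.mem_filter, Finset.mem_univ, true_and, and_iff_right_iff_imp]
      intro hx hx0
      apply hc0
      rw [← hx, hx0, map_zero]
    rw [hcard] at hmain
    generalize Fintype.card F ^ 3 = A at *
    generalize Fintype.card F ^ 2 = B at *
    omega

end Cfsg.Agent.Lib.Helper95_OM_SUPP4
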