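import Mathlib
import Cfsg.Agent.Lib.Helper30_OMDefs
import Cfsg.Agent.Lib.Helper10_OM_AVG
import Cfsg.Agent.Lib.Helper10_OM_TR4
import Cfsg.Agent.Lib.Helper95_OM_GEN
import Cfsg.Agent.Lib.Helper8_OM_OPP
import Cfsg.Agent.Lib.Helper8_OM_KA
import Cfsg.Agent.Lib.Helper60_OM_SPAN
import Cfsg.Agent.Lib.Helper60_OM_TRIVLINE
import Cfsg.Agent.Lib.Helper95_OM_KER5
import Cfsg.Agent.Lib.Helper95_OM_SUPP4
import Cfsg.Agent.Lib.Helper69_OP_WSDEC
import Cfsg.Agent.Lib.Helper70_OP_COMMFIX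
import Cfsg.Agent.Lib.Helper73_OP_EXT
import Cfsg.Agent.Lib.Helper52_MIO_RESTR

set_option autoImplicit false

/-!
S2346 (helper30): the BASE BLOCK.  For a minus space of dimension 8 and an irreducible representation with only
singular labels of multiplicity one (for the pair `(v,v')`), the fixed space `M₀⁻` of the opposite radical
`{E(v',w)}` has dimension at least `(q²+1)(q-1) + 1 = B₃`, provided the Levi factor acts non-trivially on it
(helper51's opposite-radical trick).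
-/

namespace Cfsg.Agent.Lib.Helper30_OMBase

open Module Cfsg.Agent.Lib.Helper94_OrthSmall Cfsg.Agent.Lib.Helper44_QuadClass
  Cfsg.Agent.Lib.Helper14_OmegaSimple Cfsg.Agent.Lib.Helper38_MIODefs
  Cfsg.Agent.Lib.Helper95_OPDefs Cfsg.Agent.Lib.Helper95_OPBasic Cfsg.Agent.Lib.Helper30_OMDefs
  Cfsg.Agent.Lib.Helper10_OM_AVG Cfsg.Agent.Lib.Helper10_OM_TR4 Cfsg.Agent.Lib.Helper95_OM_GEN
  Cfsg.Agent.Lib.Helper8_OM_OPP Cfsg.Agent.Lib.Helper8_OM_KA Cfsg.Agent.Lib.Helper60_OM_SPAN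
  Cfsg.Agent.Lib.Helper60_OM_TRIVLINE Cfsg.Agent.Lib.Helper95_OM_KER5 Cfsg.Agent.Lib.Helper95_OM_SUPP4

variable {F V : Type*} [Field F] [Fintype F] [AddCommGroup V] [Module F V] [FiniteDimensional F V]
  {X : Type*} [AddCommGroup X] [Module ℂ X] [FiniteDimensional ℂ X]

/-- `E Q a k` for `a, k ∈ W`, `a` singular, `k ⊥ a`, fixes `v`. -/
theorem E_fix_of_perp (Q : QuadraticForm F V) {v v' : V} (a k : ↥(perp Q v v'))
    (hQa : Q (a : V) = 0) (hak : QuadraticMap.polar (⇑Q) (a : V) (k : V) = 0) :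
    E Q (a : V) (k : V) v = v ∧ E Q (a : V) (k : V) v' = v' := by
  have h1 := (mem_perp Q v v').1 a.2
  have h2 := (mem_perp Q v v').1 k.2
  constructor
  · rw [E_apply Q hQa hak, h1.1, h2.1]
    simp
  · rw [E_apply Q hQa hak, h1.2, h2.2]
    simp

/-- The sup over the labels different from `a` is everything if the block `a` vanishes. -/
theorem biSup_ne_eq_top {ι : Type*} [DecidableEq ι] (S : ι → Submodule ℂ X)
    (hint : DirectSum.IsInternal S) (a : ι) (ha : S a = ⊥) :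
    (⨆ i ∈ {i : ι | i ≠ a}, S i) = ⊤ := by
  rw [eq_top_iff, ← hint.submodule_iSup_eq_top]
  apply iSup_le
  intro i
  by_cases hi : i = a
  · rw [hi, ha]
    exact bot_le
  · exact le_biSup S hi

/-- membership in the perp is symmetric in the pair -/
theorem mem_perp_swap (Q : QuadraticForm F V) {v v' x : V} (hx : x ∈ perp Q v v') :
    x ∈ perp Q v' v := by
  rw [mem_perp] at hx ⊢
  exact ⟨hx.2, hx.1⟩

/-- **The base block.** -/
theorem base_bound (Q : QuadraticForm F V) (hM : IsMinus Q 4) {v v' : V} (hv : Q v = 0)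
    (hv' : Q v' = 0) (hvv' : QuadraticMap.polar (⇑Q) v v' = 1)
    (ρ : Representation ℂ ↥(T Q) X) (hirr : ρ.IsIrreducible) (h2 : 2 ≤ finrank ℂ X)
    (ψ : AddChar F ℂ) (hψ : ψ ≠ 1) (f : ℕ) (hW : WData Q ρ ψ v v' 1 f)
    (L : LeviHom Q v' v)
    (hnt : ∃ (g : ↥(T (Qp Q v' v))) (x : X), x ∈ wsp Q ρ ψ v' v 0 ∧ ρ (L.ι g) x ≠ x) :
    Fintype.card F ^ 3 + Fintype.card F ≤
      finrank ℂ ↥(wsp Q ρ ψ v' v 0) + Fintype.card F ^ 2 := by
  classical
  have hQ := hM.nondeg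
  have hdim8 : finrank F V = 8 := hM.dim
  have hdim5 : 5 ≤ finrank F V := by omega
  have hdim7 : 7 ≤ finrank F V := by omega
  have hdim8' : 8 ≤ finrank F V := by omega
  have hv'v : QuadraticMap.polar (⇑Q) v' v = 1 := by rw [QuadraticMap.polar_comm, hvv']
  have hint := Cfsg.Agent.Lib.Helper69_OP_WSDEC.wsp_isInternal Q hQ hdim5 hv hv' hvv' ρ ψ hψ
  haveI : Finite ↥(perp Q v v') := Module.finite_of_finite F
  letI : Fintype ↥(perp Q v v') := Fintype.ofFinite _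
  obtain ⟨g0, x0, hx0, hgx0⟩ := hnt
  -- `x0 ∉ M₀`
  have hx0M : x0 ∉ wsp Q ρ ψ v v' 0 := by
    intro h
    have h0 := wsp_zero_inf_opp Q hQ hdim5 hv hv' hvv'
      (T_le_closure_rad_opp Q hQ hdim5 hv hv' hvv') ρ hirr h2 ψ x0 h hx0
    apply hgx0
    rw [h0, map_zero]
  obtain ⟨a, ha0, hxa⟩ := exists_ne_not_mem_iSup (fun u : ↥(perp Q v v') => wsp Q ρ ψ v v' u)
    hint 0 x0 hx0M
  have hSa : wsp Q ρ ψ v v' a ≠ ⊥ := by
    intro h
    apply hxa
    rw [biSup_ne_eq_top _ hint a h]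
    trivial
  have hQa : Qp Q v v' a = 0 := by
    by_contra h
    exact hSa (hW.hns a h)
  have hQaV : Q (a : V) = 0 := hQa
  have h1a : finrank ℂ (wsp Q ρ ψ v v' a) = 1 := hW.he a ha0 hQa
  have ha0V : (a : V) ≠ 0 := fun h => ha0 (Subtype.ext h)
  -- the radical `R'_a`
  obtain ⟨K, hK⟩ : ∃ K : Submodule F ↥(perp Q v v'),
      K = LinearMap.ker (QuadraticMap.polarBilin (Qp Q v v') a) := ⟨_, rfl⟩
  have hKmem : ∀ k : ↥K, QuadraticMap.polar (⇑Q) (a : V) ((k : ↥(perp Q v v')) : V) = 0 := by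
    intro k
    have h3 : (k : ↥(perp Q v v')) ∈ LinearMap.ker (QuadraticMap.polarBilin (Qp Q v v') a) := by
      rw [← hK]
      exact k.2
    rw [LinearMap.mem_ker, QuadraticMap.polarBilin_apply_apply, polar_comp_subtype] at h3
    exact h3
  have hKmem' : ∀ w : ↥(perp Q v v'), QuadraticMap.polar (⇑Q) (a : V) (w : V) = 0 → w ∈ K := by
    intro w hw
    rw [hK, LinearMap.mem_ker, QuadraticMap.polarBilin_apply_apply, polar_comp_subtype]
    exact hw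
  haveI : Finite ↥K := Module.finite_of_finite F
  letI : Fintype ↥K := Fintype.ofFinite _
  have hgT : ∀ k : ↥K, E Q (a : V) ((k : ↥(perp Q v v')) : V) ∈ T Q :=
    fun k => E_mem_T Q hQ hdim5 hQaV (hKmem k)
  obtain ⟨τ, hτdef⟩ : ∃ τ : ↥K → Module.End ℂ X,
      ∀ k, τ k = repE Q ρ (E Q (a : V) ((k : ↥(perp Q v v')) : V)) := ⟨_, fun _ => rfl⟩
  obtain ⟨π, hπdef⟩ : ∃ π : ↥K → ↥(perp Q v v') → ↥(perp Q v v'),
      ∀ k u, π k u = E (Qp Q v v') a (k : ↥(perp Q v v')) u := ⟨_, fun _ _ => rfl⟩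
  have hτ : ∀ k i, ∀ x ∈ wsp Q ρ ψ v v' i, τ k x ∈ wsp Q ρ ψ v v' (π k i) := by
    intro k i x hx
    have hfix := E_fix_of_perp Q a (k : ↥(perp Q v v')) hQaV (hKmem k)
    have h := wsp_map Q hQ hdim5 hv ρ ψ _ (hgT k) 1 one_ne_zero (by rw [one_smul, hfix.1])
      (E (Qp Q v v') a (k : ↥(perp Q v v')))
      (fun w => Cfsg.Agent.Lib.Helper52_MIO_RESTR.restr Q v v' a k w hQaV (hKmem k)) i x hx
    rw [inv_one, one_smul] at h
    rw [hτdef, hπdef]
    exact h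
  have hπa : ∀ k, π k a = a := by
    intro k
    rw [hπdef]
    apply Subtype.ext
    rw [Cfsg.Agent.Lib.Helper52_MIO_RESTR.restr Q v v' a k a hQaV (hKmem k),
      E_apply Q hQaV (hKmem k), polar_self', hQaV, hKmem k]
    simp
  have hπ : ∀ k i, π k i = a → i = a := by
    intro k i h
    rw [← hπa k, hπdef, hπdef] at h
    exact (E (Qp Q v v') a (k : ↥(perp Q v v'))).injective h
  have hfix : ∀ k, ∀ x ∈ wsp Q ρ ψ v v' a, τ k x = x := by
    intro k x hx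
    rw [hτdef]
    exact rad_trivial_on_line Q hQ hdim8' hv hv' hvv' ρ ψ a hQa h1a
      (fun b hb hQb hab => exists_comm_fix_self Q hQ hdim8' hv hv' hvv' (a : V) b a.2 hb hQaV hQb hab)
      _ (mem_span_singular_perp Q hQ hdim7 hv hv' hvv' (a : V) a.2 ha0V hQaV _
        (k : ↥(perp Q v v')).2 (hKmem k)) x hx
  have hy := sum_not_mem_iSup (fun u : ↥(perp Q v v') => wsp Q ρ ψ v v' u) hint τ π hτ a hπ hfix
    x0 hxa
  obtain ⟨y, hydef⟩ : ∃ y : X, y = ∑ k, τ k x0 := ⟨_, rfl⟩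
  rw [← hydef] at hy
  have hy0 : y ≠ 0 := by
    rintro rfl
    exact hy (Submodule.zero_mem _)
  -- `y ∈ M₀⁻`
  have hτopp : ∀ k, ∀ x ∈ wsp Q ρ ψ v' v 0, τ k x ∈ wsp Q ρ ψ v' v 0 := by
    intro k x hx
    have hfx := E_fix_of_perp Q a (k : ↥(perp Q v v')) hQaV (hKmem k)
    rw [hτdef]
    exact Cfsg.Agent.Lib.Helper70_OP_COMMFIX.wsp_fix Q hQ hdim5 hv' ρ ψ 0 _ (hgT k) hfx.2 hfx.1
      (by simp) x hx
  have hyM : y ∈ wsp Q ρ ψ v' v 0 := by
    rw [hydef]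
    exact Submodule.sum_mem _ (fun k _ => hτopp k x0 hx0)
  -- `y` is fixed by `R'_a`
  have hτmul : ∀ k₀ k : ↥K, τ k₀ * τ k = τ (k₀ + k) := by
    intro k₀ k
    rw [hτdef, hτdef, hτdef, ← repE_mul Q ρ (hgT k₀) (hgT k), E_mul Q hQaV (hKmem k₀) (hKmem k)]
    rfl
  have hyfix : ∀ k₀ : ↥K, τ k₀ y = y := by
    intro k₀
    rw [hydef, map_sum]
    have h1 : ∀ k : ↥K, τ k₀ (τ k x0) = τ (k₀ + k) x0 := by
      intro k
      rw [← hτmul, Module.End.mul_apply]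
    simp only [h1]
    exact Fintype.sum_equiv (Equiv.addLeft k₀) _ _ (fun k => rfl)
  -- the Levi factor for the opposite orientation
  have hQw := nondegenerate_perp hQ hv' hv hv'v
  have hMw : IsMinus (Qp Q v' v) 3 := isMinus_perp Q 4 (by norm_num) hM hv' hv hv'v
  have hdim6 : finrank F ↥(perp Q v' v) = 6 := hMw.dim
  have hdim5w : 5 ≤ finrank F ↥(perp Q v' v) := by omega
  obtain ⟨a', ha'def⟩ : ∃ a' : ↥(perp Q v' v), (a' : V) = (a : V) :=
    ⟨⟨(a : V), mem_perp_swap Q a.2⟩, rfl⟩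
  have ha'0 : a' ≠ 0 := by
    intro h
    apply ha0V
    rw [← ha'def, h]
    rfl
  have hQa' : Qp Q v' v a' = 0 := by
    show Q (a' : V) = 0
    rw [ha'def]
    exact hQaV
  obtain ⟨b', hb', hab'⟩ := exists_hyperbolic_partner (Qp Q v' v) hQw ha'0 hQa'
  have hinv : ∀ (g : ↥(T (Qp Q v' v))) (x : X), x ∈ wsp Q ρ ψ v' v 0 →
      ρ (L.ι g) x ∈ wsp Q ρ ψ v' v 0 := by
    intro g x hx
    have h3 := Cfsg.Agent.Lib.Helper70_OP_COMMFIX.wsp_fix Q hQ hdim5 hv' ρ ψ 0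
      ((L.ι g : ↥(T Q)) : V ≃ₗ[F] V) (L.ι g).2 (L.apply_v g) (L.apply_v' g) (by simp) x hx
    rw [repE_coe] at h3
    exact h3
  obtain ⟨σ, hσdef⟩ : ∃ σ : Representation ℂ ↥(T (Qp Q v' v)) ↥(wsp Q ρ ψ v' v 0),
      σ = sigmaRep Q ρ ψ v' v L hinv := ⟨_, rfl⟩
  have hintσ := Cfsg.Agent.Lib.Helper69_OP_WSDEC.wsp_isInternal (Qp Q v' v) hQw hdim5w hQa' hb'
    hab' σ ψ hψ
  -- `y` gives a non-zero vector of label `0`
  have hy'mem : (⟨y, hyM⟩ : ↥(wsp Q ρ ψ v' v 0)) ∈ wsp (Qp Q v' v) σ ψ a' b' 0 := by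
    intro w2
    have hpol : QuadraticMap.polar (⇑(Qp Q v' v)) a' (w2 : ↥(perp Q v' v)) = 0 :=
      Cfsg.Agent.Lib.Helper20_MIO_NORM.polar_v_perp (Qp Q v' v) w2
    have hpolV : QuadraticMap.polar (⇑Q) (a : V) ((w2 : ↥(perp Q v' v)) : V) = 0 := by
      rw [← ha'def, ← polar_comp_subtype]
      exact hpol
    have hmem := E_mem_T (Qp Q v' v) hQw hdim5w hQa' hpol
    rw [repE_of_mem _ σ hmem]
    have h0 : QuadraticMap.polar (⇑(Qp Q v' v)) (((0 : ↥(perp (Qp Q v' v) a' b')) : ↥(perp Q v' v)))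
        (w2 : ↥(perp Q v' v)) = 0 := by
      simp [QuadraticMap.polar]
    rw [h0, AddChar.map_zero_eq_one, one_smul]
    apply Subtype.ext
    rw [hσdef, sigmaRep_apply]
    have hE := Cfsg.Agent.Lib.Helper73_OP_EXT.leviHom_E Q hQ hv' hv hv'v L a'
      (w2 : ↥(perp Q v' v)) hQa' hpol hmem
    rw [← repE_coe Q ρ, hE, ha'def]
    have hw2W : ((w2 : ↥(perp Q v' v)) : V) ∈ perp Q v v' := mem_perp_swap Q (w2 : ↥(perp Q v' v)).2
    have hk := hyfix ⟨⟨((w2 : ↥(perp Q v' v)) : V), hw2W⟩, hKmem' _ hpolV⟩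
    rw [hτdef] at hk
    exact hk
  have h0 : wsp (Qp Q v' v) σ ψ a' b' 0 ≠ ⊥ := by
    intro h
    rw [h, Submodule.mem_bot] at hy'mem
    exact hy0 (congrArg Subtype.val hy'mem)
  by_cases hex : ∃ u2 : ↥(perp (Qp Q v' v) a' b'), u2 ≠ 0 ∧ wsp (Qp Q v' v) σ ψ a' b' u2 ≠ ⊥
  · obtain ⟨u2, hu2, hu2'⟩ := hex
    have hM2 : IsMinus (Qp (Qp Q v' v) a' b') 2 :=
      isMinus_perp (Qp Q v' v) 3 (by norm_num) hMw hQa' hb' hab'
    have htr : ∀ f : ↥(perp (Qp Q v' v) a' b') → ℕ,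
        (∀ u z : ↥(perp (Qp Q v' v) a' b'), Qp (Qp Q v' v) a' b' u = 0 →
          QuadraticMap.polar (⇑(Qp (Qp Q v' v) a' b')) u z = 0 →
          ∀ x, f (E (Qp (Qp Q v' v) a' b') u z x) = f x) →
        ∀ x y : ↥(perp (Qp Q v' v) a' b'), x ≠ 0 → y ≠ 0 →
          Qp (Qp Q v' v) a' b' x = Qp (Qp Q v' v) a' b' y → f x = f y := by
      intro f hf x y hx hy hxy
      exact tr_const_minus4 (Qp (Qp Q v' v) a' b') hM2.nondeg (by rw [hM2.dim])
        (by rw [hM2.zeros]; norm_num) (fun c hc => by rw [hM2.level c hc]; norm_num) f hf hx hy hxy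
    exact finrank_ge_of_support (Qp Q v' v) hQw hdim6 (by rw [hMw.zeros])
      (fun c hc => by rw [hMw.level c hc]) hQa' hb' hab' σ ψ hintσ htr h0 u2 hu2 hu2'
  · push Not at hex
    exfalso
    have htop : wsp (Qp Q v' v) σ ψ a' b' 0 = ⊤ := by
      rw [eq_top_iff, ← hintσ.submodule_iSup_eq_top]
      apply iSup_le
      intro u2
      by_cases hu : u2 = 0
      · rw [hu]
      · rw [hex u2 hu]
        exact bot_le
    have htriv : ∀ w : ↥(perp (Qp Q v' v) a' b'),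
        repE (Qp Q v' v) σ (E (Qp Q v' v) a' (w : ↥(perp Q v' v))) = 1 := by
      intro w
      apply LinearMap.ext
      intro x
      have hx : x ∈ wsp (Qp Q v' v) σ ψ a' b' 0 := by
        rw [htop]
        trivial
      have h1 := hx w
      have h00 : QuadraticMap.polar (⇑(Qp Q v' v))
          (((0 : ↥(perp (Qp Q v' v) a' b')) : ↥(perp Q v' v))) (w : ↥(perp Q v' v)) = 0 := by
        simp [QuadraticMap.polar]
      rw [h00, AddChar.map_zero_eq_one, one_smul] at h1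
      exact h1
    have hall := rep_trivial_of_rad (Qp Q v' v) hQw hdim5w hQa' hb' hab' σ htriv g0
    apply hgx0
    have h5 : σ g0 ⟨x0, hx0⟩ = ⟨x0, hx0⟩ := by
      rw [hall]
      rfl
    have h6 := congrArg Subtype.val h5
    rw [hσdef, sigmaRep_apply] at h6
    exact h6

end Cfsg.Agent.Lib.Helper30_OMBase
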