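import Mathlib
import Cfsg.Agent.Lib.Helper95_OPDefs
import Cfsg.Agent.Lib.Helper95_OPBasic
import Cfsg.Agent.Lib.Helper10_S2345_CLSUM

/-!
# S2345 package OP-DVD (architect helper95): class-sum divisibility for the family of long root
elements `E Q y z` indexed by the pairs `(y, z)`
-/

set_option autoImplicit false

namespace Cfsg.Agent.Lib.Helper70_OP_DVD

open Module Cfsg.Agent.Lib.Helper94_OrthSmall Cfsg.Agent.Lib.Helper44_QuadClass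
  Cfsg.Agent.Lib.Helper14_OmegaSimple Cfsg.Agent.Lib.Helper38_MIODefs
  Cfsg.Agent.Lib.Helper95_OPDefs Cfsg.Agent.Lib.Helper95_OPBasic

section pairs

variable {F V : Type*} [Field F] [AddCommGroup V] [Module F V]

/-- the index set: pairs `(y, z)`, `y ≠ 0` singular, `z` singular, `y ⊥ z`, `z ∉ F y` -/
abbrev Pairs (Q : QuadraticForm F V) : Type _ :=
  {p : V × V // p.1 ≠ 0 ∧ Q p.1 = 0 ∧ Q p.2 = 0 ∧
    QuadraticMap.polar (⇑Q) p.1 p.2 = 0 ∧ p.2 ∉ Submodule.span F {p.1}}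

/-- an isometry moves pairs to pairs -/
def mv (Q : QuadraticForm F V) (g : V ≃ₗ[F] V) (hg : g ∈ oG (⇑Q)) (p : Pairs Q) : Pairs Q :=
  ⟨(g p.1.1, g p.1.2), by
    obtain ⟨⟨y, z⟩, hy0, hy, hz, hyz, hzy⟩ := p
    refine ⟨?_, ?_, ?_, ?_, ?_⟩
    · show g y ≠ 0
      intro h
      exact hy0 (g.map_eq_zero_iff.mp h)
    · show Q (g y) = 0
      rw [hg y]; exact hy
    · show Q (g z) = 0
      rw [hg z]; exact hz
    · show QuadraticMap.polar (⇑Q) (g y) (g z) = 0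
      rw [oG_polar Q hg]; exact hyz
    · show g z ∉ Submodule.span F {g y}
      intro h
      obtain ⟨a, ha⟩ := Submodule.mem_span_singleton.mp h
      apply hzy
      rw [Submodule.mem_span_singleton]
      refine ⟨a, ?_⟩
      apply g.injective
      rw [map_smul]
      exact ha⟩

theorem mv_val (Q : QuadraticForm F V) (g : V ≃ₗ[F] V) (hg : g ∈ oG (⇑Q)) (p : Pairs Q) :
    (mv Q g hg p).1 = (g p.1.1, g p.1.2) := rfl

theorem mv_inv_mv (Q : QuadraticForm F V) (g : V ≃ₗ[F] V) (hg : g ∈ oG (⇑Q))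
    (hgi : g⁻¹ ∈ oG (⇑Q)) (p : Pairs Q) : mv Q g⁻¹ hgi (mv Q g hg p) = p := by
  apply Subtype.ext
  rw [mv_val, mv_val]
  have h : ∀ x, g⁻¹ (g x) = x := fun x => by
    rw [← LinearEquiv.mul_apply, inv_mul_cancel]; rfl
  show (g⁻¹ (g p.1.1), g⁻¹ (g p.1.2)) = p.1
  rw [h, h]

theorem mv_mv_inv (Q : QuadraticForm F V) (g : V ≃ₗ[F] V) (hg : g ∈ oG (⇑Q))
    (hgi : g⁻¹ ∈ oG (⇑Q)) (p : Pairs Q) : mv Q g hg (mv Q g⁻¹ hgi p) = p := by
  apply Subtype.ext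
  rw [mv_val, mv_val]
  have h : ∀ x, g (g⁻¹ x) = x := fun x => by
    rw [← LinearEquiv.mul_apply, mul_inv_cancel]; rfl
  show (g (g⁻¹ p.1.1), g (g⁻¹ p.1.2)) = p.1
  rw [h, h]

/-- the permutation of the pairs induced by an isometry -/
def mvPerm (Q : QuadraticForm F V) (g : V ≃ₗ[F] V) (hg : g ∈ oG (⇑Q)) : Equiv.Perm (Pairs Q) where
  toFun := mv Q g hg
  invFun := mv Q g⁻¹ ((oG (⇑Q)).inv_mem hg)
  left_inv := mv_inv_mv Q g hg _
  right_inv := mv_mv_inv Q g hg _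

end pairs

variable {F V : Type*} [Field F] [Fintype F] [AddCommGroup V] [Module F V] [FiniteDimensional F V]
  {X : Type*} [AddCommGroup X] [Module ℂ X] [FiniteDimensional ℂ X]

/-! ## OP-DVD (M) -/
theorem finrank_dvd_pairs (Q : QuadraticForm F V) (hQ : (QuadraticMap.polarBilin Q).Nondegenerate)
    (hdim : 5 ≤ finrank F V) (ρ : Representation ℂ ↥(T Q) X) (hirr : ρ.IsIrreducible) (c : ℕ)
    (hc : ∀ y z : V, y ≠ 0 → Q y = 0 → Q z = 0 → QuadraticMap.polar (⇑Q) y z = 0 →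
      z ∉ Submodule.span F {y} → LinearMap.trace ℂ X (repE Q ρ (E Q y z)) = (c : ℂ)) :
    finrank ℂ X ∣ Nat.card {p : V × V // p.1 ≠ 0 ∧ Q p.1 = 0 ∧ Q p.2 = 0 ∧
        QuadraticMap.polar (⇑Q) p.1 p.2 = 0 ∧ p.2 ∉ Submodule.span F {p.1}} * c := by
  have : Finite V := Module.finite_of_finite F
  have : Finite (V ≃ₗ[F] V) := Finite.of_injective (fun g : V ≃ₗ[F] V => (g : V → V))
    (fun g g' h => LinearEquiv.ext (congrFun h))
  let t : Pairs Q → ↥(T Q) := fun p => ⟨E Q p.1.1 p.1.2, E_mem_T Q hQ hdim p.2.2.1 p.2.2.2.2.1⟩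
  let σ : ↥(T Q) → Equiv.Perm (Pairs Q) := fun g => mvPerm Q (g : V ≃ₗ[F] V) (T_le_oG Q g.2)
  have ht : ∀ g i, t (σ g i) = g * t i * g⁻¹ := by
    intro g i
    apply Subtype.ext
    show E Q ((g : V ≃ₗ[F] V) i.1.1) ((g : V ≃ₗ[F] V) i.1.2) =
      (g : V ≃ₗ[F] V) * E Q i.1.1 i.1.2 * (g : V ≃ₗ[F] V)⁻¹
    rw [conj_E Q (T_le_oG Q g.2) i.2.2.1 i.2.2.2.2.1]
  have hc' : ∀ i, LinearMap.trace ℂ X (ρ (t i)) = (c : ℂ) := by
    intro i
    have h := hc i.1.1 i.1.2 i.2.1 i.2.2.1 i.2.2.2.1 i.2.2.2.2.1 i.2.2.2.2.2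
    rw [repE_of_mem Q ρ (E_mem_T Q hQ hdim i.2.2.1 i.2.2.2.2.1)] at h
    exact h
  exact Cfsg.Agent.Lib.Helper10_S2345_CLSUM.finrank_dvd_card_mul_family ρ hirr t σ ht c hc'

end Cfsg.Agent.Lib.Helper70_OP_DVD
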