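import Mathlib
import Cfsg.Agent.Lib.Helper30_OMDefs
import Cfsg.Agent.Lib.Helper14_POmegaSimple
import Cfsg.Agent.Lib.Helper44_StdForms
import Cfsg.Agent.Lib.Helper70_OP_DVD
import Cfsg.Agent.Lib.Helper10_OP_CLSUM

/-!
# S2346 package OM-DVD (helper31, architect helper30): class-sum divisibility over the SET of long
root elements
-/

set_option autoImplicit false

namespace Cfsg.Agent.Lib.Helper31_OM_DVD

open Module Cfsg.Agent.Lib.Helper94_OrthSmall Cfsg.Agent.Lib.Helper44_QuadClass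
  Cfsg.Agent.Lib.Helper14_OmegaSimple Cfsg.Agent.Lib.Helper38_MIODefs
  Cfsg.Agent.Lib.Helper95_OPDefs Cfsg.Agent.Lib.Helper95_OPBasic Cfsg.Agent.Lib.Helper30_OMDefs

section roots

variable {F V : Type*} [Field F] [AddCommGroup V] [Module F V]

/-- the set of long root elements -/
abbrev Roots (Q : QuadraticForm F V) : Type _ :=
  {g : V ≃ₗ[F] V // ∃ p : V × V, (p.1 ≠ 0 ∧ Q p.1 = 0 ∧ Q p.2 = 0 ∧
    QuadraticMap.polar (⇑Q) p.1 p.2 = 0 ∧ p.2 ∉ Submodule.span F {p.1}) ∧ g = E Q p.1 p.2}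

/-- conjugation by an isometry maps root elements to root elements -/
def cj (Q : QuadraticForm F V) (h : V ≃ₗ[F] V) (hh : h ∈ oG (⇑Q)) (g : Roots Q) : Roots Q :=
  ⟨h * g.1 * h⁻¹, by
    obtain ⟨g, p, hp, rfl⟩ := g
    refine ⟨(Cfsg.Agent.Lib.Helper70_OP_DVD.mv Q h hh ⟨p, hp⟩).1,
      (Cfsg.Agent.Lib.Helper70_OP_DVD.mv Q h hh ⟨p, hp⟩).2, ?_⟩
    rw [Cfsg.Agent.Lib.Helper70_OP_DVD.mv_val]
    exact conj_E Q hh hp.2.1 hp.2.2.2.1⟩

theorem cj_val (Q : QuadraticForm F V) (h : V ≃ₗ[F] V) (hh : h ∈ oG (⇑Q)) (g : Roots Q) :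
    (cj Q h hh g).1 = h * g.1 * h⁻¹ := rfl

/-- the permutation of the root elements induced by an isometry -/
def cjPerm (Q : QuadraticForm F V) (h : V ≃ₗ[F] V) (hh : h ∈ oG (⇑Q)) : Equiv.Perm (Roots Q) where
  toFun := cj Q h hh
  invFun := cj Q h⁻¹ ((oG (⇑Q)).inv_mem hh)
  left_inv := fun g => by
    apply Subtype.ext
    rw [cj_val, cj_val]
    group
  right_inv := fun g => by
    apply Subtype.ext
    rw [cj_val, cj_val]
    group

end roots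

variable {F V : Type*} [Field F] [Fintype F] [AddCommGroup V] [Module F V] [FiniteDimensional F V]
  {X : Type*} [AddCommGroup X] [Module ℂ X] [FiniteDimensional ℂ X]

/-! ## OM-DVD (M) -/
theorem finrank_dvd_roots (Q : QuadraticForm F V) (hQ : (QuadraticMap.polarBilin Q).Nondegenerate)
    (hdim : 5 ≤ finrank F V) (ρ : Representation ℂ ↥(T Q) X) (hirr : ρ.IsIrreducible) (c : ℕ)
    (hc : ∀ y z : V, y ≠ 0 → Q y = 0 → Q z = 0 → QuadraticMap.polar (⇑Q) y z = 0 →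
      z ∉ Submodule.span F {y} → LinearMap.trace ℂ X (repE Q ρ (E Q y z)) = (c : ℂ)) :
    finrank ℂ X ∣ Nat.card {g : V ≃ₗ[F] V // ∃ p : V × V, (p.1 ≠ 0 ∧ Q p.1 = 0 ∧ Q p.2 = 0 ∧
        QuadraticMap.polar (⇑Q) p.1 p.2 = 0 ∧ p.2 ∉ Submodule.span F {p.1}) ∧ g = E Q p.1 p.2} * c := by
  have : Finite V := Module.finite_of_finite F
  have : Finite (V ≃ₗ[F] V) := Finite.of_injective (fun g : V ≃ₗ[F] V => (g : V → V))
    (fun g g' h => LinearEquiv.ext (congrFun h))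
  have hmem : ∀ g : Roots Q, g.1 ∈ T Q := by
    rintro ⟨g, p, hp, rfl⟩
    exact E_mem_T Q hQ hdim hp.2.1 hp.2.2.2.1
  let t : Roots Q → ↥(T Q) := fun g => ⟨g.1, hmem g⟩
  let σ : ↥(T Q) → Equiv.Perm (Roots Q) := fun g => cjPerm Q (g : V ≃ₗ[F] V) (T_le_oG Q g.2)
  have ht : ∀ g i, t (σ g i) = g * t i * g⁻¹ := by
    intro g i
    apply Subtype.ext
    rfl
  have hc' : ∀ i, LinearMap.trace ℂ X (ρ (t i)) = (c : ℂ) := by
    intro i
    obtain ⟨g, p, hp, rfl⟩ := i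
    have h := hc p.1 p.2 hp.1 hp.2.1 hp.2.2.1 hp.2.2.2.1 hp.2.2.2.2
    rw [repE_of_mem Q ρ (E_mem_T Q hQ hdim hp.2.1 hp.2.2.2.1)] at h
    exact h
  exact Cfsg.Agent.Lib.Helper10_OP_CLSUM.finrank_dvd_card_mul_family ρ hirr t σ ht c hc'

end Cfsg.Agent.Lib.Helper31_OM_DVD
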