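import Mathlib
import Cfsg.Agent.Lib.Helper30_OMDefs

/-!
# S2346 package OM-ARITH (architect helper30): arithmetic of `dminus` and `sminus`
-/

set_option autoImplicit false
set_option linter.unusedVariables false

namespace Cfsg.Agent.Lib.Helper41_OM_ARITH

open Cfsg.Agent.Lib.Helper30_OMDefs

theorem sq_sub_one (q : ℕ) (hq : 1 ≤ q) : q ^ 2 - 1 = (q - 1) * (q + 1) := by
  obtain ⟨a, rfl⟩ : ∃ a, q = a + 1 := ⟨q - 1, by omega⟩
  rw [Nat.add_sub_cancel]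
  have : (a + 1) ^ 2 = a * (a + 1 + 1) + 1 := by ring
  rw [this, Nat.add_sub_cancel]

/-- `(q^n + 1)(q^(n-1) - q) = q (q^n + 1)(q^(n-2) - 1)` for `n ≥ 2` -/
theorem factor (q n : ℕ) (hq : 2 ≤ q) (hn : 2 ≤ n) :
    (q ^ n + 1) * (q ^ (n - 1) - q) = q * ((q ^ n + 1) * (q ^ (n - 2) - 1)) := by
  obtain ⟨m, rfl⟩ : ∃ m, n = m + 2 := ⟨n - 2, by omega⟩
  have e1 : m + 2 - 1 = m + 1 := by omega
  have e2 : m + 2 - 2 = m := by omega
  rw [e1, e2]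
  have h1 : q ^ (m + 1) - q = q * (q ^ m - 1) := by
    rw [Nat.mul_sub, mul_one, pow_succ, mul_comm]
  rw [h1]
  ring

theorem dvd_key (q n : ℕ) (hq : 2 ≤ q) (hn : 2 ≤ n) :
    (q ^ 2 - 1) ∣ (q ^ n + 1) * (q ^ (n - 1) - q) := by
  rw [factor q n hq hn]
  apply Dvd.dvd.mul_left
  rcases Nat.even_or_odd' n with ⟨k, rfl | rfl⟩
  · apply Dvd.dvd.mul_left
    have := Nat.sub_dvd_pow_sub_pow (q ^ 2) 1 (k - 1)
    rw [one_pow, ← pow_mul] at this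
    rwa [show 2 * k - 2 = 2 * (k - 1) by omega]
  · have h1 : q + 1 ∣ q ^ (2 * k + 1) + 1 := by
      have h3 : Odd (2 * k + 1) := ⟨k, rfl⟩
      have := Odd.nat_add_dvd_pow_add_pow q 1 h3
      rwa [one_pow] at this
    have h2 : q - 1 ∣ q ^ (2 * k + 1 - 2) - 1 := by
      have := Nat.sub_dvd_pow_sub_pow q 1 (2 * k + 1 - 2)
      rwa [one_pow] at this
    rw [sq_sub_one q (by omega), mul_comm (q - 1) (q + 1)]
    exact mul_dvd_mul h1 h2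

theorem key (q n : ℕ) (hq : 2 ≤ q) (hn : 2 ≤ n) :
    (q ^ 2 - 1) * dminus q n = (q ^ n + 1) * (q ^ (n - 1) - q) := by
  unfold dminus
  exact Nat.mul_div_cancel' (dvd_key q n hq hn)

theorem key_int (q n : ℕ) (hq : 2 ≤ q) (hn : 2 ≤ n) :
    ((q : ℤ) ^ 2 - 1) * (dminus q n : ℤ) = ((q : ℤ) ^ n + 1) * ((q : ℤ) ^ (n - 1) - q) := by
  have h := key q n hq hn
  have h1 : 1 ≤ q ^ 2 := Nat.one_le_pow _ _ (by omega)
  have h2 : q ≤ q ^ (n - 1) := by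
    calc q = q ^ 1 := (pow_one q).symm
      _ ≤ q ^ (n - 1) := Nat.pow_le_pow_right (by omega) (by omega)
  zify [h1, h2] at h
  exact h

theorem sminus_int (q m : ℕ) (hq : 2 ≤ q) (hm : 1 ≤ m) :
    (sminus q m : ℤ) = (q : ℤ) ^ (2 * m - 1) - (q : ℤ) ^ m + (q : ℤ) ^ (m - 1) - 1 := by
  unfold sminus
  have h1 : q ^ m ≤ q ^ (2 * m - 1) := Nat.pow_le_pow_right (by omega) (by omega)
  have h2 : 1 ≤ q ^ (m - 1) := Nat.one_le_pow _ _ (by omega)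
  have h4 : 1 ≤ q ^ (2 * m - 1) - q ^ m + q ^ (m - 1) := by omega
  rw [Nat.cast_sub h4]
  push_cast
  rw [Nat.cast_sub h1]
  push_cast
  ring

theorem pos_int (q : ℕ) (hq : 2 ≤ q) : (0 : ℤ) < (q : ℤ) ^ 2 - 1 := by
  have : (2 : ℤ) ≤ q := by exact_mod_cast hq
  nlinarith

theorem dminus_succ (q n : ℕ) (hq : 2 ≤ q) (hn : 4 ≤ n) :
    dminus q n = sminus q (n - 1) + 1 + dminus q (n - 1) := by
  obtain ⟨m, rfl⟩ : ∃ m, n = m + 3 := ⟨n - 3, by omega⟩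
  have e1 : m + 3 - 1 = m + 2 := by omega
  rw [e1]
  have h := key_int q (m + 3) hq (by omega)
  have h' := key_int q (m + 2) hq (by omega)
  have hs := sminus_int q (m + 2) hq (by omega)
  have e2 : m + 2 - 1 = m + 1 := by omega
  have e3 : 2 * (m + 2) - 1 = 2 * m + 3 := by omega
  rw [e1] at h
  rw [e2] at h' hs
  rw [e3] at hs
  have h0 := pos_int q hq
  have : (dminus q (m + 3) : ℤ) = ((sminus q (m + 2) + 1 + dminus q (m + 2) : ℕ) : ℤ) := by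
    apply mul_left_cancel₀ (ne_of_gt h0)
    push_cast
    rw [mul_add, h, h', mul_add, hs]
    ring
  exact_mod_cast this

theorem dminus_le_two_sing (q n : ℕ) (hq : 2 ≤ q) (hn : 4 ≤ n) :
    dminus q n ≤ 2 * sminus q (n - 1) := by
  obtain ⟨k, rfl⟩ : ∃ k, n = k + 2 := ⟨n - 2, by omega⟩
  have hk : 2 ≤ k := by omega
  have hkey := key_int q (k + 2) hq (by omega)
  have hs := sminus_int q (k + 2 - 1) hq (by omega)
  rw [show k + 2 - 1 = k + 1 by omega] at hkey hs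
  rw [show 2 * (k + 1) - 1 = 2 * k + 1 by omega, show k + 1 - 1 = k by omega] at hs
  rw [show k + 2 - 1 = k + 1 by omega]
  obtain ⟨Q, hQ⟩ : ∃ Q : ℤ, Q = (q : ℤ) := ⟨_, rfl⟩
  obtain ⟨y, hy⟩ : ∃ y : ℤ, y = (q : ℤ) ^ k := ⟨_, rfl⟩
  have hQ2 : (2 : ℤ) ≤ Q := by rw [hQ]; exact_mod_cast hq
  have hyQ : Q ^ 2 ≤ y := by
    rw [hy, hQ]; exact pow_le_pow_right₀ (by rw [← hQ]; linarith) hk
  have e1 : (Q ^ 2 - 1) * (dminus q (k + 2) : ℤ) = Q * ((y - 1) * (Q ^ 2 * y + 1)) := by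
    rw [hQ, hy, hkey]; ring
  have e2 : (sminus q (k + 1) : ℤ) = (y - 1) * (Q * y + 1) := by
    rw [hQ, hy, hs]; ring
  have h0 : (0 : ℤ) < Q ^ 2 - 1 := by nlinarith
  have hy4 : (4 : ℤ) ≤ y := by nlinarith
  have goal : (dminus q (k + 2) : ℤ) ≤ ((2 * sminus q (k + 1) : ℕ) : ℤ) := by
    apply le_of_mul_le_mul_left _ h0
    push_cast
    rw [e1, e2]
    have a1 : 0 ≤ 2 * (Q ^ 2 - 1) * (Q * y + 1) - Q * (Q ^ 2 * y + 1) := by
      have b1 : (0 : ℤ) ≤ Q - 2 := by linarith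
      have b2 : (0 : ℤ) ≤ y - 4 := by linarith
      nlinarith [mul_nonneg b1 b2, mul_nonneg (mul_nonneg b1 b1) b2,
        mul_nonneg (mul_nonneg (mul_nonneg b1 b1) b1) b2, mul_nonneg b1 b1,
        mul_nonneg (mul_nonneg b1 b1) b1]
    have a2 : (0 : ℤ) ≤ y - 1 := by linarith
    nlinarith [mul_nonneg a1 a2]
  exact_mod_cast goal

theorem dminus_three (q : ℕ) (hq : 2 ≤ q) : dminus q 3 + q ^ 2 = q ^ 3 + q := by
  have h := key_int q 3 hq (by omega)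
  have h0 := pos_int q hq
  have : ((dminus q 3 + q ^ 2 : ℕ) : ℤ) = ((q ^ 3 + q : ℕ) : ℤ) := by
    apply mul_left_cancel₀ (ne_of_gt h0)
    push_cast
    rw [mul_add, h]
    norm_num
    ring
  exact_mod_cast this

theorem dminus_four (q : ℕ) (hq : 2 ≤ q) : dminus q 4 = q ^ 5 + q := by
  have h := key_int q 4 hq (by omega)
  have h0 := pos_int q hq
  have : (dminus q 4 : ℤ) = ((q ^ 5 + q : ℕ) : ℤ) := by
    apply mul_left_cancel₀ (ne_of_gt h0)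
    rw [h]
    push_cast
    ring
  exact_mod_cast this

end Cfsg.Agent.Lib.Helper41_OM_ARITH
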