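import Mathlib
import Cfsg.Agent.Lib.Helper30_OMDefs
import Cfsg.Agent.Lib.Helper14_POmegaSimple
import Cfsg.Agent.Lib.Helper44_StdForms
import Cfsg.Agent.Lib.Helper97_OrthPB0
import Cfsg.Agent.Lib.Helper5_PSLCard

/-!
# S2346 (architect helper30): package OM-ROOTCARD (helper58)

The map `pairs → root elements`, `(y, z) ↦ E(y, z)`, has all fibres of size `q (q² - 1) = #SL₂(q)`:
`SL₂(F)` acts freely on the pairs (`(y, z) ↦ (a y + b z, c y + d z)`), preserves `E`, and is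
transitive on every fibre.
-/

set_option autoImplicit false
set_option linter.unusedVariables false
set_option linter.unusedSectionVars false

namespace Cfsg.Agent.Lib.Helper58_OM_ROOTCARD

open Module Cfsg.Agent.Lib.Helper94_OrthSmall Cfsg.Agent.Lib.Helper44_QuadClass
  Cfsg.Agent.Lib.Helper14_OmegaSimple Cfsg.Agent.Lib.Helper38_MIODefs
  Cfsg.Agent.Lib.Helper95_OPDefs Cfsg.Agent.Lib.Helper95_OPBasic Cfsg.Agent.Lib.Helper30_OMDefs

variable {F W : Type*} [Field F] [AddCommGroup W] [Module F W]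

/-- the pair predicate -/
abbrev IsPair (Qw : QuadraticForm F W) (p : W × W) : Prop :=
  p.1 ≠ 0 ∧ Qw p.1 = 0 ∧ Qw p.2 = 0 ∧ QuadraticMap.polar (⇑Qw) p.1 p.2 = 0 ∧
    p.2 ∉ Submodule.span F {p.1}

theorem indep {y z : W} (hy : y ≠ 0) (hz : z ∉ Submodule.span F {y}) (s t : F)
    (h : s • y + t • z = 0) : s = 0 ∧ t = 0 := by
  have ht : t = 0 := by
    by_contra ht
    apply hz
    rw [Submodule.mem_span_singleton]
    refine ⟨-(t⁻¹ * s), ?_⟩
    have h1 : t • z = -(s • y) := eq_neg_of_add_eq_zero_right h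
    calc (-(t⁻¹ * s)) • y = t⁻¹ • (-(s • y)) := by rw [neg_smul, mul_smul, smul_neg]
      _ = t⁻¹ • (t • z) := by rw [h1]
      _ = z := by rw [smul_smul, inv_mul_cancel₀ ht, one_smul]
  refine ⟨?_, ht⟩
  rw [ht, zero_smul, add_zero] at h
  exact (smul_eq_zero.mp h).resolve_right hy

/-- the value of `E` on a singular pair -/
theorem E_pair (Qw : QuadraticForm F W) {y z : W} (hy : Qw y = 0) (hz : Qw z = 0)
    (hyz : QuadraticMap.polar (⇑Qw) y z = 0) (x : W) :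
    E Qw y z x = x + QuadraticMap.polar (⇑Qw) x y • z - QuadraticMap.polar (⇑Qw) x z • y := by
  rw [E_apply Qw hy hyz, hz, zero_mul, zero_smul, sub_zero]

/-- combinations of a pair with determinant one form a pair -/
theorem isPair_comb (Qw : QuadraticForm F W) {y z : W} (hp : IsPair Qw (y, z)) (a b c d : F)
    (hdet : a * d - b * c = 1) : IsPair Qw (a • y + b • z, c • y + d • z) := by
  obtain ⟨hy0, hy, hz, hyz, hzy⟩ := hp
  have hzy' : QuadraticMap.polar (⇑Qw) z y = 0 := by rw [QuadraticMap.polar_comm]; exact hyz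
  have hyy : QuadraticMap.polar (⇑Qw) y y = 0 := by rw [polar_self', hy, mul_zero]
  have hzz : QuadraticMap.polar (⇑Qw) z z = 0 := by rw [polar_self', hz, mul_zero]
  refine ⟨?_, ?_, ?_, ?_, ?_⟩
  · intro h
    obtain ⟨ha, hb⟩ := indep hy0 hzy a b h
    rw [ha, hb] at hdet
    simp at hdet
  · show Qw (a • y + b • z) = 0
    rw [map_smul_add, QuadraticMap.map_smul, QuadraticMap.polar_smul_right, hy, hz, hyz]
    simp
  · show Qw (c • y + d • z) = 0
    rw [map_smul_add, QuadraticMap.map_smul, QuadraticMap.polar_smul_right, hy, hz, hyz]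
    simp
  · show QuadraticMap.polar (⇑Qw) (a • y + b • z) (c • y + d • z) = 0
    simp only [QuadraticMap.polar_add_left, QuadraticMap.polar_add_right,
      QuadraticMap.polar_smul_left, QuadraticMap.polar_smul_right, hyy, hzz, hyz, hzy',
      smul_zero, add_zero]
  · show c • y + d • z ∉ Submodule.span F {a • y + b • z}
    intro hmem
    obtain ⟨t, ht⟩ := Submodule.mem_span_singleton.mp hmem
    have h1 : (t * a - c) • y + (t * b - d) • z = 0 := by
      have : (t * a - c) • y + (t * b - d) • z = t • (a • y + b • z) - (c • y + d • z) := by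
        module
      rw [this, ht, sub_self]
    obtain ⟨h2, h3⟩ := indep hy0 hzy _ _ h1
    have hc : c = t * a := by linear_combination -h2
    have hd : d = t * b := by linear_combination -h3
    rw [hc, hd] at hdet
    have : a * (t * b) - b * (t * a) = 0 := by ring
    rw [this] at hdet
    exact zero_ne_one hdet

/-- the Siegel element of a determinant-one combination -/
theorem E_comb (Qw : QuadraticForm F W) {y z : W} (hp : IsPair Qw (y, z)) (a b c d : F)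
    (hdet : a * d - b * c = 1) :
    E Qw (a • y + b • z) (c • y + d • z) = E Qw y z := by
  obtain ⟨hy0', hy', hz', hyz', hzy'⟩ := isPair_comb Qw hp a b c d hdet
  obtain ⟨hy0, hy, hz, hyz, hzy⟩ := hp
  ext x
  rw [E_pair Qw hy' hz' hyz' x, E_pair Qw hy hz hyz x]
  simp only [QuadraticMap.polar_add_right, QuadraticMap.polar_smul_right, smul_eq_mul]
  have h1 : (a * QuadraticMap.polar (⇑Qw) x y + b * QuadraticMap.polar (⇑Qw) x z) •
        (c • y + d • z) -
      (c * QuadraticMap.polar (⇑Qw) x y + d * QuadraticMap.polar (⇑Qw) x z) • (a • y + b • z) =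
      (a * d - b * c) • (QuadraticMap.polar (⇑Qw) x y • z - QuadraticMap.polar (⇑Qw) x z • y) := by
    module
  rw [add_sub_assoc, h1, hdet, one_smul, add_sub_assoc]

variable [FiniteDimensional F W]

/-- two pairs with the same Siegel element differ by a determinant-one combination -/
theorem exists_comb (Qw : QuadraticForm F W) (hQ : (QuadraticMap.polarBilin Qw).Nondegenerate)
    {y z y' z' : W} (hp : IsPair Qw (y, z)) (hp' : IsPair Qw (y', z'))
    (hE : E Qw y' z' = E Qw y z) :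
    ∃ a b c d : F, a * d - b * c = 1 ∧ y' = a • y + b • z ∧ z' = c • y + d • z := by
  obtain ⟨hy0', hy', hz', hyz', hzy'⟩ : y' ≠ 0 ∧ Qw y' = 0 ∧ Qw z' = 0 ∧
      QuadraticMap.polar (⇑Qw) y' z' = 0 ∧ z' ∉ Submodule.span F {y'} := hp'
  obtain ⟨hy0, hy, hz, hyz, hzy⟩ : y ≠ 0 ∧ Qw y = 0 ∧ Qw z = 0 ∧
      QuadraticMap.polar (⇑Qw) y z = 0 ∧ z ∉ Submodule.span F {y} := hp
  have hyz'' : y' ∉ Submodule.span F {z'} := by
    intro hmem
    obtain ⟨t, ht⟩ := Submodule.mem_span_singleton.mp hmem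
    have ht0 : t ≠ 0 := by
      intro h0
      rw [h0, zero_smul] at ht
      exact hy0' ht.symm
    apply hzy'
    rw [Submodule.mem_span_singleton]
    refine ⟨t⁻¹, ?_⟩
    rw [← ht, smul_smul, inv_mul_cancel₀ ht0, one_smul]
  obtain ⟨x₁, hx₁y, hx₁z⟩ :=
    Cfsg.Agent.Lib.Helper97_OrthPB0.exists_polar_one_zero Qw hQ hyz''
  obtain ⟨x₂, hx₂z, hx₂y⟩ :=
    Cfsg.Agent.Lib.Helper97_OrthPB0.exists_polar_one_zero Qw hQ hzy'
  have e1 := congrArg (fun g : W ≃ₗ[F] W => g x₁) hE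
  have e2 := congrArg (fun g : W ≃ₗ[F] W => g x₂) hE
  simp only [E_pair Qw hy' hz' hyz', E_pair Qw hy hz hyz, hx₁y, hx₁z, hx₂z, hx₂y, one_smul,
    zero_smul, sub_zero, add_zero] at e1 e2
  -- `z' = c y + d z`, `y' = a y + b z`
  have hz'eq : z' = (-QuadraticMap.polar (⇑Qw) x₁ z) • y + QuadraticMap.polar (⇑Qw) x₁ y • z := by
    have h3 : z' = QuadraticMap.polar (⇑Qw) x₁ y • z - QuadraticMap.polar (⇑Qw) x₁ z • y := by
      have h4 : x₁ + z' = x₁ + (QuadraticMap.polar (⇑Qw) x₁ y • z -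
          QuadraticMap.polar (⇑Qw) x₁ z • y) := by
        rw [e1, add_sub_assoc]
      exact add_left_cancel h4
    rw [h3]
    module
  have hy'eq : y' = QuadraticMap.polar (⇑Qw) x₂ z • y + (-QuadraticMap.polar (⇑Qw) x₂ y) • z := by
    have h3 : -y' = QuadraticMap.polar (⇑Qw) x₂ y • z - QuadraticMap.polar (⇑Qw) x₂ z • y := by
      have h4 : x₂ + -y' = x₂ + (QuadraticMap.polar (⇑Qw) x₂ y • z -
          QuadraticMap.polar (⇑Qw) x₂ z • y) := by
        rw [← sub_eq_add_neg, e2, add_sub_assoc]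
      exact add_left_cancel h4
    have h5 : y' = -(QuadraticMap.polar (⇑Qw) x₂ y • z - QuadraticMap.polar (⇑Qw) x₂ z • y) := by
      rw [← h3, neg_neg]
    rw [h5]
    module
  obtain ⟨a, ha⟩ : ∃ a : F, a = QuadraticMap.polar (⇑Qw) x₂ z := ⟨_, rfl⟩
  obtain ⟨b, hb⟩ : ∃ b : F, b = -QuadraticMap.polar (⇑Qw) x₂ y := ⟨_, rfl⟩
  obtain ⟨c, hc⟩ : ∃ c : F, c = -QuadraticMap.polar (⇑Qw) x₁ z := ⟨_, rfl⟩
  obtain ⟨d, hd⟩ : ∃ d : F, d = QuadraticMap.polar (⇑Qw) x₁ y := ⟨_, rfl⟩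
  rw [← ha, ← hb] at hy'eq
  rw [← hc, ← hd] at hz'eq
  refine ⟨a, b, c, d, ?_, hy'eq, hz'eq⟩
  -- the determinant: evaluate at a vector `x₃` with `B(x₃,y) = 1`, `B(x₃,z) = 0`
  have hyz3 : y ∉ Submodule.span F {z} := by
    intro hmem
    obtain ⟨t, ht⟩ := Submodule.mem_span_singleton.mp hmem
    have ht0 : t ≠ 0 := by
      intro h0
      rw [h0, zero_smul] at ht
      exact hy0 ht.symm
    apply hzy
    rw [Submodule.mem_span_singleton]
    refine ⟨t⁻¹, ?_⟩
    rw [← ht, smul_smul, inv_mul_cancel₀ ht0, one_smul]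
  obtain ⟨x₃, hx₃y, hx₃z⟩ :=
    Cfsg.Agent.Lib.Helper97_OrthPB0.exists_polar_one_zero Qw hQ hyz3
  have e3 := congrArg (fun g : W ≃ₗ[F] W => g x₃) hE
  simp only [E_pair Qw hy' hz' hyz', E_pair Qw hy hz hyz, hx₃y, hx₃z, one_smul,
    zero_smul, sub_zero] at e3
  rw [hy'eq, hz'eq] at e3
  simp only [QuadraticMap.polar_add_right, QuadraticMap.polar_smul_right, smul_eq_mul, hx₃y, hx₃z,
    mul_one, mul_zero, add_zero] at e3
  -- e3 : x₃ + a • (c • y + d • z) - c • (a • y + b • z) = x₃ + z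
  have h6 : (a * d - b * c - 1) • z = 0 := by
    have h7 : (a * d - b * c - 1) • z =
        (x₃ + a • (c • y + d • z) - c • (a • y + b • z)) - (x₃ + z) := by
      module
    rw [h7, e3, sub_self]
  have hz0 : z ≠ 0 := by
    intro h0
    apply hzy
    rw [h0]
    exact Submodule.zero_mem _
  have := (smul_eq_zero.mp h6).resolve_right hz0
  linear_combination this

variable [Fintype F]

theorem card_root_elements (Qw : QuadraticForm F W)
    (hQ : (QuadraticMap.polarBilin Qw).Nondegenerate) :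
    Nat.card {g : W ≃ₗ[F] W // ∃ p : W × W, (p.1 ≠ 0 ∧ Qw p.1 = 0 ∧ Qw p.2 = 0 ∧
        QuadraticMap.polar (⇑Qw) p.1 p.2 = 0 ∧ p.2 ∉ Submodule.span F {p.1}) ∧ g = E Qw p.1 p.2} *
      (Fintype.card F * (Fintype.card F ^ 2 - 1)) =
    Nat.card {p : W × W // p.1 ≠ 0 ∧ Qw p.1 = 0 ∧ Qw p.2 = 0 ∧
        QuadraticMap.polar (⇑Qw) p.1 p.2 = 0 ∧ p.2 ∉ Submodule.span F {p.1}} := by
  rw [← Cfsg.Agent.Lib.Helper5_PSLCard.card_SL_two (F := F), ← Nat.card_prod]
  apply Nat.card_congr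
  have hdetA : ∀ A : Matrix.SpecialLinearGroup (Fin 2) F,
      A.1 0 0 * A.1 1 1 - A.1 0 1 * A.1 1 0 = 1 := by
    intro A
    rw [← Matrix.det_fin_two]
    exact A.2
  have hex : ∀ g : {g : W ≃ₗ[F] W // ∃ p : W × W, IsPair Qw p ∧ g = E Qw p.1 p.2},
      ∃ p : W × W, IsPair Qw p ∧ g.1 = E Qw p.1 p.2 := fun g => g.2
  choose rep hrep using hex
  refine Equiv.ofBijective
    (fun gA : {g : W ≃ₗ[F] W // ∃ p : W × W, IsPair Qw p ∧ g = E Qw p.1 p.2} ×
        Matrix.SpecialLinearGroup (Fin 2) F =>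
      (⟨(gA.2.1 0 0 • (rep gA.1).1 + gA.2.1 0 1 • (rep gA.1).2,
          gA.2.1 1 0 • (rep gA.1).1 + gA.2.1 1 1 • (rep gA.1).2),
        isPair_comb Qw (hrep gA.1).1 _ _ _ _ (hdetA gA.2)⟩ : {p : W × W // IsPair Qw p}))
    ⟨?_, ?_⟩
  · rintro ⟨g, A⟩ ⟨g', A'⟩ h
    have h1 := congrArg Subtype.val h
    have h2 : A.1 0 0 • (rep g).1 + A.1 0 1 • (rep g).2 =
          A'.1 0 0 • (rep g').1 + A'.1 0 1 • (rep g').2 ∧
        A.1 1 0 • (rep g).1 + A.1 1 1 • (rep g).2 =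
          A'.1 1 0 • (rep g').1 + A'.1 1 1 • (rep g').2 := Prod.ext_iff.mp h1
    -- equal Siegel elements
    have hEg := E_comb Qw (hrep g).1 _ _ _ _ (hdetA A)
    have hEg' := E_comb Qw (hrep g').1 _ _ _ _ (hdetA A')
    have hg : g = g' := by
      apply Subtype.ext
      rw [(hrep g).2, (hrep g').2, ← hEg, ← hEg', h2.1, h2.2]
    subst hg
    have hA : A = A' := by
      obtain ⟨hy0, -, -, -, hzy⟩ := (hrep g).1
      have k1 : (A.1 0 0 - A'.1 0 0) • (rep g).1 + (A.1 0 1 - A'.1 0 1) • (rep g).2 = 0 := by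
        have e : (A.1 0 0 - A'.1 0 0) • (rep g).1 + (A.1 0 1 - A'.1 0 1) • (rep g).2 =
            (A.1 0 0 • (rep g).1 + A.1 0 1 • (rep g).2) -
              (A'.1 0 0 • (rep g).1 + A'.1 0 1 • (rep g).2) := by module
        rw [e, h2.1, sub_self]
      have k2 : (A.1 1 0 - A'.1 1 0) • (rep g).1 + (A.1 1 1 - A'.1 1 1) • (rep g).2 = 0 := by
        have e : (A.1 1 0 - A'.1 1 0) • (rep g).1 + (A.1 1 1 - A'.1 1 1) • (rep g).2 =
            (A.1 1 0 • (rep g).1 + A.1 1 1 • (rep g).2) -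
              (A'.1 1 0 • (rep g).1 + A'.1 1 1 • (rep g).2) := by module
        rw [e, h2.2, sub_self]
      obtain ⟨k3, k4⟩ := indep hy0 hzy _ _ k1
      obtain ⟨k5, k6⟩ := indep hy0 hzy _ _ k2
      apply Subtype.ext
      ext i j
      fin_cases i <;> fin_cases j
      · exact sub_eq_zero.mp k3
      · exact sub_eq_zero.mp k4
      · exact sub_eq_zero.mp k5
      · exact sub_eq_zero.mp k6
    rw [hA]
  · rintro ⟨⟨y', z'⟩, hp'⟩
    have hg : ∃ p : W × W, IsPair Qw p ∧ E Qw y' z' = E Qw p.1 p.2 := ⟨(y', z'), hp', rfl⟩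
    obtain ⟨a, b, c, d, hdet, hy'eq, hz'eq⟩ :=
      exists_comb Qw hQ (y := (rep ⟨E Qw y' z', hg⟩).1) (z := (rep ⟨E Qw y' z', hg⟩).2)
        (hrep ⟨E Qw y' z', hg⟩).1 hp' (hrep ⟨E Qw y' z', hg⟩).2
    have hdet' : (!![a, b; c, d] : Matrix (Fin 2) (Fin 2) F).det = 1 := by
      rw [Matrix.det_fin_two_of]
      exact hdet
    refine ⟨(⟨E Qw y' z', hg⟩, ⟨!![a, b; c, d], hdet'⟩), ?_⟩
    apply Subtype.ext
    show ((!![a, b; c, d] : Matrix (Fin 2) (Fin 2) F) 0 0 • (rep ⟨E Qw y' z', hg⟩).1 +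
      (!![a, b; c, d] : Matrix (Fin 2) (Fin 2) F) 0 1 • (rep ⟨E Qw y' z', hg⟩).2,
      (!![a, b; c, d] : Matrix (Fin 2) (Fin 2) F) 1 0 • (rep ⟨E Qw y' z', hg⟩).1 +
      (!![a, b; c, d] : Matrix (Fin 2) (Fin 2) F) 1 1 • (rep ⟨E Qw y' z', hg⟩).2) = (y', z')
    simp only [Matrix.of_apply, Matrix.cons_val', Matrix.cons_val_zero, Matrix.cons_val_one,
      Matrix.cons_val_fin_one]
    exact Prod.ext hy'eq.symm hz'eq.symm

end Cfsg.Agent.Lib.Helper58_OM_ROOTCARD
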