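import Mathlib
import Cfsg.Agent.Lib.Helper30_OMDefs
import Cfsg.Agent.Lib.Helper4_S2332_IRRSUB

/-!
# S2346 package OM-IND (architect helper30): `MinDegT` and a non-trivially acting element give the degree
bound for any (not necessarily irreducible) representation
-/

set_option autoImplicit false

namespace Cfsg.Agent.Lib.Helper60_OM_IND

open Module Cfsg.Agent.Lib.Helper94_OrthSmall Cfsg.Agent.Lib.Helper44_QuadClass
  Cfsg.Agent.Lib.Helper14_OmegaSimple Cfsg.Agent.Lib.Helper38_MIODefs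
  Cfsg.Agent.Lib.Helper95_OPDefs Cfsg.Agent.Lib.Helper95_OPBasic Cfsg.Agent.Lib.Helper30_OMDefs

variable {F V : Type*} [Field F] [Fintype F] [AddCommGroup V] [Module F V] [FiniteDimensional F V]
  {X : Type*} [AddCommGroup X] [Module ℂ X] [FiniteDimensional ℂ X]

/-! ## OM-IND (S/M) -/
theorem le_finrank_of_ne_one (Q : QuadraticForm F V) (hQ : (QuadraticMap.polarBilin Q).Nondegenerate)
    (hdim : 5 ≤ finrank F V) (d : ℕ) (hmin : MinDegT Q d)
    {Y : Type} [AddCommGroup Y] [Module ℂ Y] [FiniteDimensional ℂ Y]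
    (σ : Representation ℂ ↥(T Q) Y) (g : ↥(T Q)) (hg : σ g ≠ 1) : d ≤ finrank ℂ Y := by
  have : Finite V := Module.finite_of_finite F
  have : Finite (V ≃ₗ[F] V) :=
    Finite.of_injective (fun e => (e : V → V)) DFunLike.coe_injective
  have : Finite ↥(T Q) := inferInstance
  obtain ⟨Y', i1, i2, i3, τ, hirr, h2, hle⟩ :=
    Cfsg.Agent.Lib.Helper4_S2332_IRRSUB.exists_irr_sub_of_ne_one
      (commutator_T_eq_top Q hQ hdim) σ g hg
  exact (hmin Y' τ hirr h2).trans hle

end Cfsg.Agent.Lib.Helper60_OM_IND
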