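import Mathlib
import Cfsg.Agent.Lib.Helper95_OPDefs
import Cfsg.Agent.Lib.Helper95_OPBasic
import Cfsg.Agent.Lib.Helper69_OP_NONTRIV

/-!
# S2346 (architect helper30), package OM-NONTRIV

An irreducible representation of `T Q` of degree at least two has a non-zero label.
-/

set_option autoImplicit false
set_option linter.unusedSectionVars false
set_option linter.unusedVariables false

namespace Cfsg.Agent.Lib.Helper8_OM_NONTRIV

open Module Cfsg.Agent.Lib.Helper94_OrthSmall Cfsg.Agent.Lib.Helper44_QuadClass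
  Cfsg.Agent.Lib.Helper14_OmegaSimple Cfsg.Agent.Lib.Helper38_MIODefs
  Cfsg.Agent.Lib.Helper95_OPDefs Cfsg.Agent.Lib.Helper95_OPBasic
  Cfsg.Agent.Lib.Helper69_OP_NONTRIV

variable {F V : Type*} [Field F] [Fintype F] [AddCommGroup V] [Module F V] [FiniteDimensional F V]
  {X : Type*} [AddCommGroup X] [Module ℂ X] [FiniteDimensional ℂ X]

/-! ## OM-NONTRIV (M) -/
theorem exists_label_ne_zero (Q : QuadraticForm F V) (hQ : (QuadraticMap.polarBilin Q).Nondegenerate)
    (hdim : 5 ≤ finrank F V) {v v' : V} (hv : Q v = 0) (hv' : Q v' = 0)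
    (hvv' : QuadraticMap.polar (⇑Q) v v' = 1) [DecidableEq ↥(perp Q v v')]
    (ρ : Representation ℂ ↥(T Q) X) (hirr : ρ.IsIrreducible) (h2 : 2 ≤ finrank ℂ X)
    (ψ : AddChar F ℂ)
    (hint : DirectSum.IsInternal (fun u : ↥(perp Q v v') => wsp Q ρ ψ v v' u)) :
    ∃ u : ↥(perp Q v v'), u ≠ 0 ∧ wsp Q ρ ψ v v' u ≠ ⊥ := by
  by_contra hcon
  push Not at hcon
  have hfull : wsp Q ρ ψ v v' 0 = ⊤ := by
    rw [eq_top_iff, ← hint.submodule_iSup_eq_top]
    apply iSup_le
    intro u
    by_cases hu : u = 0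
    · rw [hu]
    · rw [hcon u hu]
      exact bot_le
  have htriv : ∀ w : ↥(perp Q v v'), repE Q ρ (E Q v (w : V)) = 1 := by
    intro w
    apply LinearMap.ext
    intro x
    have hx : x ∈ wsp Q ρ ψ v v' 0 := by
      rw [hfull]
      trivial
    have h1 := hx w
    have h0 : QuadraticMap.polar (⇑Q) (((0 : ↥(perp Q v v')) : V)) (w : V) = 0 := by
      simp [QuadraticMap.polar]
    rw [h0, AddChar.map_zero_eq_one, one_smul] at h1
    exact h1
  have : IsSimpleGroup (↥(T Q) ⧸ Subgroup.center ↥(T Q)) := isSimpleGroup_T Q hQ hdim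
  have hperf : commutator ↥(T Q) = ⊤ := commutator_T_eq_top Q hQ hdim
  -- a nonzero singular `w` in `W`
  have hdW : 3 ≤ finrank F ↥(perp Q v v') := by
    have := finrank_perp hv hv' hvv'
    omega
  obtain ⟨w, hw0, hw⟩ := exists_singular (Qp Q v v') hdW
  have hker : (ρ : ↥(T Q) →* Module.End ℂ X).ker = ⊤ := by
    apply normal_eq_top_of_not_le_center hperf
    intro hle
    apply rad_not_mem_center Q hQ hdim hv hv' hvv' w hw0 hw
    apply hle
    rw [MonoidHom.mem_ker]
    have h1 := htriv w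
    rw [repE_of_mem Q ρ (rad_mem Q hQ hdim hv w)] at h1
    exact h1
  have hall : ∀ g, ρ g = 1 := fun g => by
    have h1 : g ∈ (ρ : ↥(T Q) →* Module.End ℂ X).ker := by
      rw [hker]
      exact Subgroup.mem_top g
    exact MonoidHom.mem_ker.mp h1
  -- a line is a subrepresentation
  obtain ⟨x, hx⟩ : ∃ x : X, x ≠ 0 := by
    have : Nontrivial X := Module.nontrivial_of_finrank_pos (R := ℂ) (by omega)
    exact exists_ne 0
  let τ : Subrepresentation ρ :=
    ⟨Submodule.span ℂ {x}, fun g y hy => by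
      rw [hall g]
      exact hy⟩
  rcases hirr.eq_bot_or_eq_top τ with h | h
  · have h1 : x ∈ τ.toSubmodule := Submodule.mem_span_singleton_self _
    rw [h] at h1
    exact hx ((Submodule.mem_bot ℂ).mp h1)
  · have h1 : τ.toSubmodule = ⊤ := by
      rw [h]
      rfl
    have h4 : Module.finrank ℂ (Submodule.span ℂ {x}) = Module.finrank ℂ X := by
      have h5 : Submodule.span ℂ {x} = ⊤ := h1
      rw [h5, finrank_top]
    rw [finrank_span_singleton hx] at h4
    omega

end Cfsg.Agent.Lib.Helper8_OM_NONTRIV
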