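import Mathlib
import Cfsg.Agent.Lib.Helper30_OMDefs
import Cfsg.Agent.Lib.Helper9_OP_PAIRS

set_option autoImplicit false

/-!
# S2346 package OM-PAIRS (architect helper30)

The number of pairs `(y, z)` of singular vectors spanning a totally singular line of a minus-type space
(copy of helper9's `Helper9_OP_PAIRS.card_root_pairs`, whose `card_nonzero_sing` and `fibreEquiv` are reused).
-/

namespace Cfsg.Agent.Lib.Helper99_OM_PAIRS

open Module Cfsg.Agent.Lib.Helper94_OrthSmall Cfsg.Agent.Lib.Helper44_QuadClass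
  Cfsg.Agent.Lib.Helper14_OmegaSimple Cfsg.Agent.Lib.Helper38_MIODefs
  Cfsg.Agent.Lib.Helper95_OPDefs Cfsg.Agent.Lib.Helper95_OPBasic Cfsg.Agent.Lib.Helper30_OMDefs
  Cfsg.Agent.Lib.Helper9_OP_PAIRS

variable {F W : Type*} [Field F] [Fintype F] [AddCommGroup W] [Module F W] [FiniteDimensional F W]

theorem card_fibre_minus (Qw : QuadraticForm F W) (n : ℕ) (hn : 2 ≤ n) (hP : IsMinus Qw n) (y : W)
    (hy0 : y ≠ 0) (hy : Qw y = 0) :
    Nat.card {z : W // Qw z = 0 ∧ QuadraticMap.polar (⇑Qw) y z = 0 ∧ z ∉ Submodule.span F {y}} =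
      Fintype.card F * sminus (Fintype.card F) (n - 1) := by
  obtain ⟨y', hy', hyy'⟩ := exists_hyperbolic_partner Qw hP.nondeg hy0 hy
  have hP' := isMinus_perp Qw n hn hP hy hy' hyy'
  have h1 := card_nonzero_sing (Qp Qw y y')
  rw [hP'.zeros] at h1
  rw [← Nat.card_congr (fibreEquiv Qw hy hyy'), Nat.card_prod, Nat.card_eq_fintype_card]
  congr 1
  unfold sminus
  omega

/-! ## OM-PAIRS (L) -/
theorem card_root_pairs_minus (Qw : QuadraticForm F W) (n : ℕ) (hn : 3 ≤ n) (hP : IsMinus Qw n) :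
    Nat.card {p : W × W // p.1 ≠ 0 ∧ Qw p.1 = 0 ∧ Qw p.2 = 0 ∧
        QuadraticMap.polar (⇑Qw) p.1 p.2 = 0 ∧ p.2 ∉ Submodule.span F {p.1}} =
      sminus (Fintype.card F) n * (Fintype.card F * sminus (Fintype.card F) (n - 1)) := by
  classical
  have : Finite W := Module.finite_of_finite F
  have : Fintype {y : W // y ≠ 0 ∧ Qw y = 0} := Fintype.ofFinite _
  have e : {p : W × W // p.1 ≠ 0 ∧ Qw p.1 = 0 ∧ Qw p.2 = 0 ∧
        QuadraticMap.polar (⇑Qw) p.1 p.2 = 0 ∧ p.2 ∉ Submodule.span F {p.1}} ≃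
      Σ y : {y : W // y ≠ 0 ∧ Qw y = 0},
        {z : W // Qw z = 0 ∧ QuadraticMap.polar (⇑Qw) y.1 z = 0 ∧ z ∉ Submodule.span F {y.1}} :=
    { toFun := fun p => ⟨⟨p.1.1, p.2.1, p.2.2.1⟩, ⟨p.1.2, p.2.2.2.1, p.2.2.2.2.1, p.2.2.2.2.2⟩⟩
      invFun := fun s => ⟨(s.1.1, s.2.1), s.1.2.1, s.1.2.2, s.2.2.1, s.2.2.2.1, s.2.2.2.2⟩
      left_inv := fun p => rfl
      right_inv := fun s => rfl }
  rw [Nat.card_congr e, Nat.card_sigma]
  have hfib : ∀ y : {y : W // y ≠ 0 ∧ Qw y = 0},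
      Nat.card {z : W // Qw z = 0 ∧ QuadraticMap.polar (⇑Qw) y.1 z = 0 ∧
        z ∉ Submodule.span F {y.1}} = Fintype.card F * sminus (Fintype.card F) (n - 1) :=
    fun y => card_fibre_minus Qw n (by omega) hP y.1 y.2.1 y.2.2
  rw [Finset.sum_congr rfl (fun y _ => hfib y), Finset.sum_const, Finset.card_univ, smul_eq_mul,
    ← Nat.card_eq_fintype_card]
  congr 1
  have h1 := card_nonzero_sing Qw
  rw [hP.zeros] at h1
  unfold sminus
  omega

end Cfsg.Agent.Lib.Helper99_OM_PAIRS
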