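import Mathlib
import Cfsg.Agent.Lib.Helper30_OMDefs
import Cfsg.Agent.Lib.Helper30_OMBase
import Cfsg.Agent.Lib.Helper2_OM_CNTFIX
import Cfsg.Agent.Lib.Helper41_OM_ARITH
import Cfsg.Agent.Lib.Helper43_OM_TRACER
import Cfsg.Agent.Lib.Helper95_OPMain
import Cfsg.Agent.Lib.Helper52_MIO_RESTR
import Cfsg.Agent.Lib.Helper61_OP_CONJ
import Cfsg.Agent.Lib.Helper70_OP_COMMFIX
import Cfsg.Agent.Lib.Helper71_OP_WSLEVEL
import Cfsg.Agent.Lib.Helper73_OP_EXT
import Cfsg.Agent.Lib.Helper69_OP_WSDEC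
import Cfsg.Agent.Lib.Helper2_OM_NUM
import Cfsg.Agent.Lib.Helper31_OM_DVD
import Cfsg.Agent.Lib.Helper57_OM_TRACEL
import Cfsg.Agent.Lib.Helper58_OM_CNTRAD
import Cfsg.Agent.Lib.Helper58_OM_ROOTCARD
import Cfsg.Agent.Lib.Helper60_OM_IND
import Cfsg.Agent.Lib.Helper60_OM_TSPAIR
import Cfsg.Agent.Lib.Helper63_OM_KLAB
import Cfsg.Agent.Lib.Helper8_OM_NONTRIV
import Cfsg.Agent.Lib.Helper8_OM_WITT2
import Cfsg.Agent.Lib.Helper99_OM_PAIRS
import Cfsg.Agent.Lib.Helper99_OM_PHANTOM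

set_option autoImplicit false

/-!
S2346 (helper30, architect): the induction step for the minimal degree of `Ω⁻_{2n}(q)`, `n ≥ 4`, all `q`
(proof: pending/helper30/S2346_proof.md), assembled from the packages of the market `s2346_packages`.
-/

namespace Cfsg.Agent.Lib.Helper30_OMStep

open Module Cfsg.Agent.Lib.Helper94_OrthSmall Cfsg.Agent.Lib.Helper44_QuadClass
  Cfsg.Agent.Lib.Helper14_OmegaSimple Cfsg.Agent.Lib.Helper38_MIODefs
  Cfsg.Agent.Lib.Helper95_OPDefs Cfsg.Agent.Lib.Helper95_OPBasic Cfsg.Agent.Lib.Helper30_OMDefs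
  Cfsg.Agent.Lib.Helper95_OPMain

variable {F V : Type*} [Field F] [Fintype F] [AddCommGroup V] [Module F V] [FiniteDimensional F V]
  {X : Type*} [AddCommGroup X] [Module ℂ X] [FiniteDimensional ℂ X]

set_option linter.unusedSectionVars false
set_option linter.unusedVariables false

/-- The Levi factor preserves the fixed space of the radical. -/
theorem levi_inv (Q : QuadraticForm F V) (hQ : (QuadraticMap.polarBilin Q).Nondegenerate)
    (hdim : 5 ≤ finrank F V) {v v' : V} (hv : Q v = 0)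
    (ρ : Representation ℂ ↥(T Q) X) (ψ : AddChar F ℂ) (L : LeviHom Q v v')
    (g : ↥(T (Qp Q v v'))) (x : X) (hx : x ∈ wsp Q ρ ψ v v' 0) :
    ρ (L.ι g) x ∈ wsp Q ρ ψ v v' 0 := by
  have h3 := Cfsg.Agent.Lib.Helper70_OP_COMMFIX.wsp_fix Q hQ hdim hv ρ ψ 0
    ((L.ι g : ↥(T Q)) : V ≃ₗ[F] V) (L.ι g).2 (L.apply_v g) (L.apply_v' g) (by simp) x hx
  rw [repE_coe] at h3
  exact h3

/-- **T3**: the character value on every long root element is `D - q^(dim V - 3)`. -/
theorem trace_root (Q : QuadraticForm F V) (hQ : (QuadraticMap.polarBilin Q).Nondegenerate)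
    (hdim : 5 ≤ finrank F V) {v v' : V} (hv : Q v = 0) (hv' : Q v' = 0)
    (hvv' : QuadraticMap.polar (⇑Q) v v' = 1) [DecidableEq ↥(perp Q v v')]
    (ρ : Representation ℂ ↥(T Q) X) (ψ : AddChar F ℂ) (hψ : ψ ≠ 1)
    (κ : F) (f : ℕ) (hW : LData Q ρ ψ v v' κ f)
    (y z : V) (hy0 : y ≠ 0) (hy : Q y = 0) (hz : Q z = 0)
    (hyz : QuadraticMap.polar (⇑Q) y z = 0) (hzy : z ∉ Submodule.span F {y}) :
    LinearMap.trace ℂ X (repE Q ρ (E Q y z)) + ((Fintype.card F ^ (finrank F V - 3) : ℕ) : ℂ) =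
      ((finrank ℂ X : ℕ) : ℂ) := by
  have hint := Cfsg.Agent.Lib.Helper69_OP_WSDEC.wsp_isInternal Q hQ hdim hv hv' hvv' ρ ψ hψ
  obtain ⟨g, hg, w, hw0, hw, hE⟩ :=
    Cfsg.Agent.Lib.Helper61_OP_CONJ.root_conj Q hQ hdim hv hv' hvv' y z hy0 hy hz hyz hzy
  rw [hE, trace_repE_conj Q ρ hg (rad_mem Q hQ hdim hv w)]
  have hdW : finrank F ↥(perp Q v v') = finrank F V - 2 := by
    have := finrank_perp hv hv' hvv'
    omega
  refine Cfsg.Agent.Lib.Helper43_OM_TRACER.trace_rad_level Q hQ hdim hv hv' hvv' ρ ψ hψ hint κ f hW w hw0 hw ?_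
  intro β hβ
  rw [Cfsg.Agent.Lib.Helper58_OM_CNTRAD.card_level_polar (Qp Q v v')
    (nondegenerate_perp hQ hv hv' hvv') w hw0 hw κ β hβ, hdW, Nat.sub_sub]

/-- **T4**: the Levi factor acts non-trivially on the fixed space of the radical. -/
theorem levi_nontrivial (Q : QuadraticForm F V) (n : ℕ) (hn : 4 ≤ n) (hM : IsMinus Q n)
    {v v' : V} (hv : Q v = 0) (hv' : Q v' = 0) (hvv' : QuadraticMap.polar (⇑Q) v v' = 1)
    (ρ : Representation ℂ ↥(T Q) X) (ψ : AddChar F ℂ) (hψ : ψ ≠ 1)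
    (κ : F) (f : ℕ) (hW : LData Q ρ ψ v v' κ f) (hκ : κ = 0 ∨ 5 ≤ n) (L : LeviHom Q v v') :
    ∃ (g : ↥(T (Qp Q v v'))) (x : X), x ∈ wsp Q ρ ψ v v' 0 ∧ ρ (L.ι g) x ≠ x := by
  classical
  by_contra hcon
  push Not at hcon
  obtain ⟨q, hqdef⟩ : ∃ q, q = Fintype.card F := ⟨_, rfl⟩
  have hq2 : 2 ≤ q := by rw [hqdef]; exact Fintype.one_lt_card
  have hQ := hM.nondeg
  have hdimV : finrank F V = 2 * n := hM.dim
  have hdim5 : 5 ≤ finrank F V := by omega
  have hdim8 : 8 ≤ finrank F V := by omega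
  have hint := Cfsg.Agent.Lib.Helper69_OP_WSDEC.wsp_isInternal Q hQ hdim5 hv hv' hvv' ρ ψ hψ
  have hMW : IsMinus (Qp Q v v') (n - 1) := isMinus_perp Q n (by omega) hM hv hv' hvv'
  have hdimW : finrank F ↥(perp Q v v') = 2 * (n - 1) := hMW.dim
  obtain ⟨a, b, ha0, hba, ha, hb, hab⟩ :=
    Cfsg.Agent.Lib.Helper60_OM_TSPAIR.exists_ts_pair_minus (Qp Q v v') (n - 1) (by omega) hMW
  have hxW : E (Qp Q v v') a b ∈ T (Qp Q v v') := root_mem_T (Qp Q v v') ha hb hab
  have haV : Q (a : V) = 0 := ha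
  have hbV : Q (b : V) = 0 := hb
  have habV : QuadraticMap.polar (⇑Q) (a : V) (b : V) = 0 := by
    rw [← polar_comp_subtype]; exact hab
  have hxV : E Q (a : V) (b : V) ∈ T Q := root_mem_T Q haV hbV habV
  have hLE := Cfsg.Agent.Lib.Helper73_OP_EXT.leviHom_E Q hQ hv hv' hvv' L a b ha hab hxW
  have hρ : ρ (L.ι ⟨E (Qp Q v v') a b, hxW⟩) = repE Q ρ (E Q (a : V) (b : V)) := by
    rw [← repE_coe, hLE]
  have hgv : E Q (a : V) (b : V) v = v := by
    have := L.apply_v ⟨E (Qp Q v v') a b, hxW⟩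
    rwa [hLE] at this
  have hφ : ∀ w : ↥(perp Q v v'),
      ((E (Qp Q v v') a b w : ↥(perp Q v v')) : V) = E Q (a : V) (b : V) (w : V) :=
    fun w => Cfsg.Agent.Lib.Helper52_MIO_RESTR.restr Q v v' a b w haV habV
  have hfix : ∀ u : ↥(perp Q v v'), u ≠ 0 → E (Qp Q v v') a b u = u →
      ∀ x ∈ wsp Q ρ ψ v v' u, repE Q ρ (E Q (a : V) (b : V)) x = x := by
    intro u hu0 hfixu x hx
    by_cases hQu : Qp Q v v' u = κ
    · have h1 : finrank ℂ (wsp Q ρ ψ v v' u) = 1 := hW.h1 u hu0 hQu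
      obtain ⟨hua, hub⟩ := (E_fix_iff (Qp Q v v') ha0 hba ha hb hab u).mp hfixu
      have huaV : QuadraticMap.polar (⇑Q) (u : V) (a : V) = 0 := by
        rw [← polar_comp_subtype]; exact hua
      have hubV : QuadraticMap.polar (⇑Q) (u : V) (b : V) = 0 := by
        rw [← polar_comp_subtype]; exact hub
      have hcase : (u : V) ∈ Submodule.span F {(a : V), (b : V)} ∨ 10 ≤ finrank F V := by
        by_cases hn5 : 5 ≤ n
        · right; omega
        · left
          have hn4 : n = 4 := by omega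
          have hκ0 : κ = 0 := by
            rcases hκ with h | h
            · exact h
            · exact absurd h hn5
          have hMW3 : IsMinus (Qp Q v v') 3 := by
            have h3 : n - 1 = 3 := by omega
            rw [h3] at hMW
            exact hMW
          have hmem := Cfsg.Agent.Lib.Helper8_OM_WITT2.mem_span_of_ts_minus3 (Qp Q v v') hMW3 a b u
            ha0 hba ha hb hab (by rw [hQu, hκ0]) hua hub
          obtain ⟨c, d, hcd⟩ := Submodule.mem_span_pair.mp hmem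
          rw [Submodule.mem_span_pair]
          refine ⟨c, d, ?_⟩
          rw [← hcd]
          rfl
      obtain ⟨g₁, g₂, hg₁, hg₂, h1v, h1v', h1u, h2v, h2v', h2u, hE⟩ :=
        Cfsg.Agent.Lib.Helper63_OM_KLAB.exists_comm_fix_all Q hQ hdim8 hv hv' hvv' (a : V) (b : V)
          (u : V) a.2 b.2 u.2 haV hbV habV huaV hubV hcase
      rw [hE]
      exact Cfsg.Agent.Lib.Helper70_OP_COMMFIX.comm_fix Q hQ hdim5 hv hv' hvv' ρ ψ u h1 g₁ g₂ hg₁ hg₂
        h1v h1v' h1u h2v h2v' h2u x hx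
    · have hbot := hW.h0 u hu0 hQu
      rw [hbot, Submodule.mem_bot] at hx
      rw [hx, map_zero]
  have h0 : ∀ x ∈ wsp Q ρ ψ v v' 0, repE Q ρ (E Q (a : V) (b : V)) x ∈ wsp Q ρ ψ v v' 0 := by
    intro x hx
    rw [← hρ]
    exact levi_inv Q hQ hdim5 hv ρ ψ L _ x hx
  have htl := Cfsg.Agent.Lib.Helper57_OM_TRACEL.trace_levi_level Q hQ hdim5 hv hv' hvv' ρ ψ hint κ f hW
    (E Q (a : V) (b : V)) hxV hgv (E (Qp Q v v') a b) hφ hfix h0
  -- the restriction is the identity by assumption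
  have hres : (repE Q ρ (E Q (a : V) (b : V))).restrict h0 = 1 := by
    apply LinearMap.ext
    intro x
    apply Subtype.ext
    have := hcon ⟨E (Qp Q v v') a b, hxW⟩ (x : X) x.2
    rw [hρ] at this
    exact this
  rw [hres, LinearMap.trace_one, hW.hf] at htl
  -- the character value
  have haV0 : (a : V) ≠ 0 := fun h => ha0 (Subtype.ext h)
  have hbaV : (b : V) ∉ Submodule.span F {(a : V)} := by
    intro h
    apply hba
    obtain ⟨k, hk⟩ := Submodule.mem_span_singleton.mp h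
    rw [Submodule.mem_span_singleton]
    exact ⟨k, Subtype.ext hk⟩
  have hroot := trace_root Q hQ hdim5 hv hv' hvv' ρ ψ hψ κ f hW (a : V) (b : V) haV0 haV hbV habV hbaV
  rw [htl] at hroot
  -- counting the labels
  haveI : Finite ↥(perp Q v v') := Module.finite_of_finite F
  letI : Fintype ↥(perp Q v v') := Fintype.ofFinite _
  have hsplit : Nat.card {u : ↥(perp Q v v') // u ≠ 0 ∧ Qp Q v v' u = κ} =
      Nat.card {u : ↥(perp Q v v') // u ≠ 0 ∧ Qp Q v v' u = κ ∧ E (Qp Q v v') a b u = u} +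
      Nat.card {u : ↥(perp Q v v') // Qp Q v v' u = κ ∧
        ¬ (QuadraticMap.polar (⇑(Qp Q v v')) u a = 0 ∧ QuadraticMap.polar (⇑(Qp Q v v')) u b = 0)} := by
    rw [Nat.card_eq_fintype_card, Nat.card_eq_fintype_card, Nat.card_eq_fintype_card,
      ← Fintype.card_subtype_or_disjoint]
    · apply Fintype.card_congr
      apply Equiv.subtypeEquivRight
      intro u
      rw [E_fix_iff (Qp Q v v') ha0 hba ha hb hab u]
      constructor
      · rintro ⟨h1, h2⟩
        by_cases h3 : QuadraticMap.polar (⇑(Qp Q v v')) u a = 0 ∧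
            QuadraticMap.polar (⇑(Qp Q v v')) u b = 0
        · exact Or.inl ⟨h1, h2, h3⟩
        · exact Or.inr ⟨h2, h3⟩
      · rintro (⟨h1, h2, -⟩ | ⟨h2, h3⟩)
        · exact ⟨h1, h2⟩
        · refine ⟨?_, h2⟩
          rintro rfl
          apply h3
          simp [QuadraticMap.polar]
    · rw [Pi.disjoint_iff]
      intro u
      rw [E_fix_iff (Qp Q v v') ha0 hba ha hb hab u]
      simp only [Prop.disjoint_iff, not_and]
      intro h1 _ h3
      exact h3 h1.2.2.1 h1.2.2.2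
  have hnf := Cfsg.Agent.Lib.Helper2_OM_CNTFIX.card_level_not_perp (Qp Q v v')
    (nondegenerate_perp hQ hv hv' hvv') a b ha0 hba ha hb hab κ
  have hD := hW.hD
  rw [hsplit, hnf, hdimW, ← hqdef] at hD
  rw [hD, hdimV, ← hqdef] at hroot
  have hroot' : f + Nat.card {u : ↥(perp Q v v') // u ≠ 0 ∧ Qp Q v v' u = κ ∧
      E (Qp Q v v') a b u = u} + q ^ (2 * n - 3) =
      f + (Nat.card {u : ↥(perp Q v v') // u ≠ 0 ∧ Qp Q v v' u = κ ∧
      E (Qp Q v v') a b u = u} + (q ^ 2 - 1) * q ^ (2 * (n - 1) - 3)) := by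
    exact_mod_cast hroot
  have e1 : q ^ (2 * n - 3) = q ^ 2 * q ^ (2 * (n - 1) - 3) := by
    rw [← pow_add]
    congr 1
    omega
  have hpos : 0 < q ^ (2 * (n - 1) - 3) := Nat.pow_pos (by omega)
  have hq2' : 1 ≤ q ^ 2 := Nat.one_le_pow _ _ (by omega)
  have e2 : q ^ 2 * q ^ (2 * (n - 1) - 3) = (q ^ 2 - 1) * q ^ (2 * (n - 1) - 3) := by
    rw [← e1]
    omega
  have e3 := Nat.eq_of_mul_eq_mul_right hpos e2
  omega

/-- The weight analysis for one orientation: a small representation has a one-level datum. -/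
theorem exists_ldata (Q : QuadraticForm F V) (n : ℕ) (hn : 4 ≤ n) (hM : IsMinus Q n)
    {v v' : V} (hv : Q v = 0) (hv' : Q v' = 0) (hvv' : QuadraticMap.polar (⇑Q) v v' = 1)
    (ρ : Representation ℂ ↥(T Q) X) (hirr : ρ.IsIrreducible) (h2 : 2 ≤ finrank ℂ X)
    (ψ : AddChar F ℂ) (hψ : ψ ≠ 1) (hlt : finrank ℂ X < dminus (Fintype.card F) n) :
    ∃ (κ : F) (f : ℕ), LData Q ρ ψ v v' κ f := by
  classical
  have hQ := hM.nondeg
  have hdimV : finrank F V = 2 * n := hM.dim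
  have hdim5 : 5 ≤ finrank F V := by omega
  have hdim7 : 7 ≤ finrank F V := by omega
  have hint := Cfsg.Agent.Lib.Helper69_OP_WSDEC.wsp_isInternal Q hQ hdim5 hv hv' hvv' ρ ψ hψ
  have hne := Cfsg.Agent.Lib.Helper8_OM_NONTRIV.exists_label_ne_zero Q hQ hdim5 hv hv' hvv' ρ hirr h2 ψ
    hint
  rcases Cfsg.Agent.Lib.Helper2_OM_NUM.ldata_or_large Q n hn hM hv hv' hvv' ρ ψ hint
    (fun u u' hu hu' h => Cfsg.Agent.Lib.Helper71_OP_WSLEVEL.finrank_wsp_level Q hQ hdim7 hv hv' hvv'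
      ρ ψ u u' hu hu' h) hne
    (Cfsg.Agent.Lib.Helper41_OM_ARITH.dminus_le_two_sing (Fintype.card F) n Fintype.one_lt_card hn) with h | h
  · omega
  · exact h

/-- The size of a non-singular level of the complement. -/
theorem card_level_ne (Q : QuadraticForm F V) (n : ℕ) (hn : 2 ≤ n) (hM : IsMinus Q n)
    {v v' : V} (hv : Q v = 0) (hv' : Q v' = 0) (hvv' : QuadraticMap.polar (⇑Q) v v' = 1)
    (κ : F) (hκ : κ ≠ 0) :
    Nat.card {u : ↥(perp Q v v') // u ≠ 0 ∧ Qp Q v v' u = κ} =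
      Fintype.card F ^ (2 * (n - 1) - 1) + Fintype.card F ^ (n - 1 - 1) := by
  rw [← (isMinus_perp Q n hn hM hv hv' hvv').level κ hκ]
  apply Nat.card_congr
  apply Equiv.subtypeEquivRight
  intro u
  constructor
  · exact fun h => h.2
  · intro h
    refine ⟨?_, h⟩
    rintro rfl
    apply hκ
    rw [← h, map_zero]

/-- For `n = 4` a small representation has only singular labels. -/
theorem kappa_zero_four (Q : QuadraticForm F V) (hM : IsMinus Q 4)
    {v v' : V} (hv : Q v = 0) (hv' : Q v' = 0) (hvv' : QuadraticMap.polar (⇑Q) v v' = 1)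
    (ρ : Representation ℂ ↥(T Q) X) (ψ : AddChar F ℂ) (κ : F) (f : ℕ)
    (hW : LData Q ρ ψ v v' κ f) (hlt : finrank ℂ X < dminus (Fintype.card F) 4) : κ = 0 := by
  by_contra hκ
  have hD := hW.hD
  rw [card_level_ne Q 4 (by norm_num) hM hv hv' hvv' κ hκ] at hD
  have h4 := Cfsg.Agent.Lib.Helper41_OM_ARITH.dminus_four (Fintype.card F) Fintype.one_lt_card
  have hq : Fintype.card F ≤ Fintype.card F ^ 2 := by
    have : 1 ≤ Fintype.card F := Fintype.card_pos
    nlinarith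
  norm_num at hD
  omega

/-- **The induction step.** -/
theorem step (Q : QuadraticForm F V) (n : ℕ) (hn : 4 ≤ n) (hM : IsMinus Q n)
    (hIH : 5 ≤ n → ∀ {v v' : V}, Q v = 0 → Q v' = 0 → QuadraticMap.polar (⇑Q) v v' = 1 →
      MinDegT (Qp Q v v') (dminus (Fintype.card F) (n - 1))) :
    MinDegT Q (dminus (Fintype.card F) n) := by
  classical
  intro X _ _ _ ρ hirr h2
  by_contra hlt
  push Not at hlt
  have hq2 : 2 ≤ Fintype.card F := Fintype.one_lt_card
  have hQ := hM.nondeg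
  have hdimV : finrank F V = 2 * n := hM.dim
  have hdim5 : 5 ≤ finrank F V := by omega
  obtain ⟨v, hv0, hv⟩ := exists_singular Q (by omega : 3 ≤ finrank F V)
  obtain ⟨v', hv', hvv'⟩ := exists_hyperbolic_partner Q hQ hv0 hv
  have hv'v : QuadraticMap.polar (⇑Q) v' v = 1 := by rw [QuadraticMap.polar_comm, hvv']
  obtain ⟨ψ, hψ'⟩ := (AddChar.exists_apply_ne_zero (α := F) (a := (1 : F))).mpr one_ne_zero
  have hψ : ψ ≠ 1 := fun h => hψ' (by rw [h]; rfl)
  obtain ⟨κ, f, hW⟩ := exists_ldata Q n hn hM hv hv' hvv' ρ hirr h2 ψ hψ hlt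
  obtain ⟨L⟩ := Cfsg.Agent.Lib.Helper73_OP_EXT.exists_leviHom Q hQ hv hv' hvv'
  have hMW : IsMinus (Qp Q v v') (n - 1) := isMinus_perp Q n (by omega) hM hv hv' hvv'
  have hsucc := Cfsg.Agent.Lib.Helper41_OM_ARITH.dminus_succ (Fintype.card F) n hq2 hn
  -- Claim A
  have hA : κ = 0 ∧ dminus (Fintype.card F) (n - 1) ≤ f := by
    by_cases hn5 : 5 ≤ n
    · obtain ⟨g, x, hx, hgx⟩ := levi_nontrivial Q n hn hM hv hv' hvv' ρ ψ hψ κ f hW (Or.inr hn5) L
      have hσ : sigmaRep Q ρ ψ v v' L (fun g x hx => levi_inv Q hQ hdim5 hv ρ ψ L g x hx) g ≠ 1 := by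
        intro h1
        apply hgx
        have h3 := congrArg (fun A : Module.End ℂ ↥(wsp Q ρ ψ v v' 0) =>
          ((A ⟨x, hx⟩ : ↥(wsp Q ρ ψ v v' 0)) : X)) h1
        simp only [sigmaRep_apply] at h3
        exact h3
      have hf := Cfsg.Agent.Lib.Helper60_OM_IND.le_finrank_of_ne_one (Qp Q v v') hMW.nondeg
        (by rw [hMW.dim]; omega) _ (hIH hn5 hv hv' hvv') _ g hσ
      rw [hW.hf] at hf
      refine ⟨?_, hf⟩
      by_contra hκ
      have hD := hW.hD
      rw [card_level_ne Q n (by omega) hM hv hv' hvv' κ hκ] at hD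
      have hs : sminus (Fintype.card F) (n - 1) + 1 ≤
          Fintype.card F ^ (2 * (n - 1) - 1) + Fintype.card F ^ (n - 1 - 1) := by
        unfold sminus
        have : 1 ≤ Fintype.card F ^ (n - 1 - 1) := Nat.one_le_pow _ _ (by omega)
        omega
      omega
    · have hn4 : n = 4 := by omega
      subst hn4
      have hκ0 := kappa_zero_four Q hM hv hv' hvv' ρ ψ κ f hW hlt
      subst hκ0
      obtain ⟨κ', f', hW'⟩ := exists_ldata Q 4 hn hM hv' hv hv'v ρ hirr h2 ψ hψ hlt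
      have hκ'0 := kappa_zero_four Q hM hv' hv hv'v ρ ψ κ' f' hW' hlt
      subst hκ'0
      have hnt := levi_nontrivial Q 4 hn hM hv hv' hvv' ρ ψ hψ 0 f hW (Or.inl rfl) L
      have hb := Cfsg.Agent.Lib.Helper30_OMBase.base_bound Q hM hv' hv hv'v ρ hirr h2 ψ hψ f'
        hW'.toWData L hnt
      rw [hW.hf] at hb
      have h3 := Cfsg.Agent.Lib.Helper41_OM_ARITH.dminus_three (Fintype.card F) hq2
      refine ⟨rfl, ?_⟩
      show dminus (Fintype.card F) 3 ≤ f
      omega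
  obtain ⟨hκ0, hf⟩ := hA
  subst hκ0
  -- the phantom
  have hD := hW.hD
  rw [card_sing_perp Q n (by omega) hM hv hv' hvv'] at hD
  have hD1 : finrank ℂ X + 1 = dminus (Fintype.card F) n := by omega
  have hT := Cfsg.Agent.Lib.Helper58_OM_ROOTCARD.card_root_elements Q hQ
  rw [Cfsg.Agent.Lib.Helper99_OM_PAIRS.card_root_pairs_minus Q n (by omega) hM] at hT
  obtain ⟨c, hc, hndvd⟩ := Cfsg.Agent.Lib.Helper99_OM_PHANTOM.phantom1 (Fintype.card F) n hq2 hn
    (finrank ℂ X) _ hD1 hT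
  apply hndvd
  apply Cfsg.Agent.Lib.Helper31_OM_DVD.finrank_dvd_roots Q hQ hdim5 ρ hirr c
  intro y z hy0 hy hz hyz hzy
  have htr := trace_root Q hQ hdim5 hv hv' hvv' ρ ψ hψ 0 f hW y z hy0 hy hz hyz hzy
  have e1 : finrank F V - 3 = 2 * n - 3 := by omega
  rw [e1, ← hc] at htr
  push_cast at htr ⊢
  linear_combination htr

end Cfsg.Agent.Lib.Helper30_OMStep
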