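import Mathlib
import Cfsg.Agent.Lib.Helper30_OMStep
import Cfsg.Agent.Lib.Helper73_MIOEven

set_option autoImplicit false

/-!
S2346 (helper30, architect): the induction on the rank and the standard minus form.
-/

namespace Cfsg.Agent.Lib.Helper30_OMMain

open Module Cfsg.Agent.Lib.Helper94_OrthSmall Cfsg.Agent.Lib.Helper44_QuadClass
  Cfsg.Agent.Lib.Helper14_OmegaSimple Cfsg.Agent.Lib.Helper38_MIODefs
  Cfsg.Agent.Lib.Helper95_OPDefs Cfsg.Agent.Lib.Helper95_OPBasic Cfsg.Agent.Lib.Helper30_OMDefs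
  Cfsg.Agent.Lib.Helper30_OMStep Cfsg.Agent.Lib.Helper44_StdForms

universe u w

/-- Every irreducible complex representation of degree at least two of `T Q`, `Q` of minus type of rank
`n ≥ 4`, has degree at least `dminus q n`. -/
theorem minDeg_minus {F : Type w} [Field F] [Fintype F] (n : ℕ) (hn : 4 ≤ n) :
    ∀ {V : Type u} [AddCommGroup V] [Module F V] [FiniteDimensional F V] (Q : QuadraticForm F V),
      IsMinus Q n → MinDegT Q (dminus (Fintype.card F) n) := by
  induction n, hn using Nat.le_induction with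
  | base =>
    intro V _ _ _ Q hM
    exact step Q 4 le_rfl hM (fun h => absurd h (by norm_num))
  | succ n hn ih =>
    intro V _ _ _ Q hM
    apply step Q (n + 1) (by omega) hM
    intro _ v v' hv hv' hvv'
    have h1 := isMinus_perp Q (n + 1) (by omega) hM hv hv' hvv'
    rw [Nat.add_sub_cancel] at h1 ⊢
    exact ih (Qp Q v v') h1

/-- The standard minus form is of minus type. -/
theorem isMinus_qfMinus' {F : Type w} [Field F] [Fintype F] (m : ℕ) (hm : 3 ≤ m) (a b : F)
    (hab : ∀ z₁ z₂ : F, z₁ ^ 2 + a * z₁ * z₂ + b * z₂ ^ 2 = 0 → z₁ = 0 ∧ z₂ = 0) :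
    IsMinus (qfMinus (m - 1) F a b) m := by
  obtain ⟨h1, h2, -, h4, h5⟩ := Cfsg.Agent.Lib.Helper73_MIOEven.minus_hyps m hm a b hab
  exact ⟨h1, h2, h4, h5⟩

end Cfsg.Agent.Lib.Helper30_OMMain
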