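import Mathlib
import Cfsg.Agent.Lib.Helper95_OPDefs
import Cfsg.Agent.Lib.Helper95_OPBasic
import Cfsg.Agent.Lib.Helper48_OODefs
import Cfsg.Agent.Lib.Helper87_OO2Defs

set_option autoImplicit false
set_option linter.unusedSimpArgs false
set_option linter.unusedVariables false
set_option linter.unreachableTactic false
set_option linter.unusedTactic false
set_option linter.unnecessarySeqFocus false

/-!
# Helper30_OO2_SL2G: package OO2-SL2G of the S2344 market (cutter helper87)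

The `SL_2` relations for `x(s) = xr Q a b' s`, `n = nw Q a a' b b' 1`, `h(t) = hh Q a a' b b' t` in `V ≃ₗ[F] V`.
The frame actions and the four-pair extensionality are re-proved here (`aux_*`) so that the file is self-contained.
-/

namespace Cfsg.Agent.Lib.Helper30_OO2_SL2G

open Module Cfsg.Agent.Lib.Helper94_OrthSmall Cfsg.Agent.Lib.Helper44_QuadClass
  Cfsg.Agent.Lib.Helper14_OmegaSimple Cfsg.Agent.Lib.Helper38_MIODefs
  Cfsg.Agent.Lib.Helper95_OPDefs Cfsg.Agent.Lib.Helper95_OPBasic Cfsg.Agent.Lib.Helper48_OODefs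
  Cfsg.Agent.Lib.Helper87_OO2Defs

variable {F V : Type*} [Field F] [AddCommGroup V] [Module F V] {Q : QuadraticForm F V}

theorem aux_polar_self {a : V} (ha : Q a = 0) : QuadraticMap.polar (⇑Q) a a = 0 := by
  rw [QuadraticMap.polar_self, ha, smul_zero]

theorem aux_xr_apply {a b' : V} (ha : Q a = 0) (hb' : Q b' = 0)
    (hab' : QuadraticMap.polar (⇑Q) a b' = 0) (s : F) (x : V) :
    xr Q a b' s x = x + (s * QuadraticMap.polar (⇑Q) x a) • b' -
      (s * QuadraticMap.polar (⇑Q) x b') • a := by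
  unfold xr
  rw [E_apply Q ha (by rw [QuadraticMap.polar_smul_right, hab', smul_zero])]
  rw [QuadraticMap.polar_smul_right, QuadraticMap.map_smul, hb']
  simp only [smul_eq_mul, mul_zero, zero_mul, zero_smul, sub_zero]
  module


/-- The polar table of a pair of orthogonal hyperbolic pairs. -/
structure PT (Q : QuadraticForm F V) (a a' b b' : V) : Prop where
  aa : QuadraticMap.polar (⇑Q) a a = 0
  aa' : QuadraticMap.polar (⇑Q) a a' = 1
  ab : QuadraticMap.polar (⇑Q) a b = 0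
  ab' : QuadraticMap.polar (⇑Q) a b' = 0
  a'a : QuadraticMap.polar (⇑Q) a' a = 1
  a'a' : QuadraticMap.polar (⇑Q) a' a' = 0
  a'b : QuadraticMap.polar (⇑Q) a' b = 0
  a'b' : QuadraticMap.polar (⇑Q) a' b' = 0
  ba : QuadraticMap.polar (⇑Q) b a = 0
  ba' : QuadraticMap.polar (⇑Q) b a' = 0
  bb : QuadraticMap.polar (⇑Q) b b = 0
  bb' : QuadraticMap.polar (⇑Q) b b' = 1
  b'a : QuadraticMap.polar (⇑Q) b' a = 0
  b'a' : QuadraticMap.polar (⇑Q) b' a' = 0
  b'b : QuadraticMap.polar (⇑Q) b' b = 1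
  b'b' : QuadraticMap.polar (⇑Q) b' b' = 0

theorem aux_pt {a a' b b' : V} (h : HQuad Q a a' b b') : PT Q a a' b b' where
  aa := aux_polar_self h.pa.qa
  aa' := h.pa.aa'
  ab := h.ab
  ab' := h.ab'
  a'a := by rw [QuadraticMap.polar_comm]; exact h.pa.aa'
  a'a' := aux_polar_self h.pa.qa'
  a'b := h.a'b
  a'b' := h.a'b'
  ba := by rw [QuadraticMap.polar_comm]; exact h.ab
  ba' := by rw [QuadraticMap.polar_comm]; exact h.a'b
  bb := aux_polar_self h.pb.qa
  bb' := h.pb.aa'
  b'a := by rw [QuadraticMap.polar_comm]; exact h.ab'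
  b'a' := by rw [QuadraticMap.polar_comm]; exact h.a'b'
  b'b := by rw [QuadraticMap.polar_comm]; exact h.pb.aa'
  b'b' := aux_polar_self h.pb.qa'

theorem aux_inv_of_apply (g : V ≃ₗ[F] V) {x y : V} (e : g x = y) : g⁻¹ y = x := by
  rw [← e]
  show g.symm (g x) = x
  exact g.symm_apply_apply x

section frame
variable {a a' b b' : V} (h : HQuad Q a a' b b')
include h

/-! ### `x(s) = xr Q a b' s` on the frame -/
theorem aux_x_a (s : F) : xr Q a b' s a = a := by
  rw [aux_xr_apply h.pa.qa h.pb.qa' h.ab', (aux_pt h).aa, (aux_pt h).ab']; module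
theorem aux_x_a' (s : F) : xr Q a b' s a' = a' + s • b' := by
  rw [aux_xr_apply h.pa.qa h.pb.qa' h.ab', (aux_pt h).a'a, (aux_pt h).a'b']; module
theorem aux_x_b (s : F) : xr Q a b' s b = b - s • a := by
  rw [aux_xr_apply h.pa.qa h.pb.qa' h.ab', (aux_pt h).ba, (aux_pt h).bb']; module
theorem aux_x_b' (s : F) : xr Q a b' s b' = b' := by
  rw [aux_xr_apply h.pa.qa h.pb.qa' h.ab', (aux_pt h).b'a, (aux_pt h).b'b']; module
theorem aux_x_perp (s : F) (w : V) (h1 : QuadraticMap.polar (⇑Q) w a = 0)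
    (h4 : QuadraticMap.polar (⇑Q) w b' = 0) : xr Q a b' s w = w := by
  rw [aux_xr_apply h.pa.qa h.pb.qa' h.ab', h1, h4]; module

/-! ### `y(u) = xr Q b a' u` on the frame -/
theorem aux_y_a (u : F) : xr Q b a' u a = a - u • b := by
  rw [aux_xr_apply h.pb.qa h.pa.qa' (aux_pt h).ba', (aux_pt h).ab, (aux_pt h).aa']; module
theorem aux_y_a' (u : F) : xr Q b a' u a' = a' := by
  rw [aux_xr_apply h.pb.qa h.pa.qa' (aux_pt h).ba', (aux_pt h).a'b, (aux_pt h).a'a']; module
theorem aux_y_b (u : F) : xr Q b a' u b = b := by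
  rw [aux_xr_apply h.pb.qa h.pa.qa' (aux_pt h).ba', (aux_pt h).bb, (aux_pt h).ba']; module
theorem aux_y_b' (u : F) : xr Q b a' u b' = b' + u • a' := by
  rw [aux_xr_apply h.pb.qa h.pa.qa' (aux_pt h).ba', (aux_pt h).b'b, (aux_pt h).b'a']; module
theorem aux_y_perp (u : F) (w : V) (h2 : QuadraticMap.polar (⇑Q) w a' = 0)
    (h3 : QuadraticMap.polar (⇑Q) w b = 0) : xr Q b a' u w = w := by
  rw [aux_xr_apply h.pb.qa h.pa.qa' (aux_pt h).ba', h3, h2]; module

/-! ### `n(t) = nw Q a a' b b' t` on the frame -/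
theorem aux_n_a (t : F) (ht : t ≠ 0) : nw Q a a' b b' t a = t⁻¹ • b := by
  unfold nw
  rw [LinearEquiv.mul_apply, LinearEquiv.mul_apply, aux_x_a h, aux_y_a h, map_sub, map_smul, aux_x_a h,
    aux_x_b h]
  match_scalars <;> first | (field_simp; done) | (field_simp; ring) | ring
theorem aux_n_b (t : F) (ht : t ≠ 0) : nw Q a a' b b' t b = -(t • a) := by
  unfold nw
  rw [LinearEquiv.mul_apply, LinearEquiv.mul_apply, aux_x_b h, map_sub, map_smul, aux_y_a h, aux_y_b h,
    map_sub, map_smul, map_sub, map_smul, aux_x_a h, aux_x_b h]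
  match_scalars <;> first | (field_simp; done) | (field_simp; ring) | ring
theorem aux_n_a' (t : F) (ht : t ≠ 0) : nw Q a a' b b' t a' = t • b' := by
  unfold nw
  rw [LinearEquiv.mul_apply, LinearEquiv.mul_apply, aux_x_a' h, map_add, map_smul, aux_y_a' h, aux_y_b' h,
    map_add, map_smul, map_add, map_smul, aux_x_a' h, aux_x_b' h]
  match_scalars <;> first | (field_simp; done) | (field_simp; ring) | ring
theorem aux_n_b' (t : F) (ht : t ≠ 0) : nw Q a a' b b' t b' = -(t⁻¹ • a') := by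
  unfold nw
  rw [LinearEquiv.mul_apply, LinearEquiv.mul_apply, aux_x_b' h, aux_y_b' h, map_add, map_smul, aux_x_a' h,
    aux_x_b' h]
  match_scalars <;> first | (field_simp; done) | (field_simp; ring) | ring
theorem aux_n_perp (t : F) (w : V)
    (h1 : QuadraticMap.polar (⇑Q) w a = 0) (h2 : QuadraticMap.polar (⇑Q) w a' = 0)
    (h3 : QuadraticMap.polar (⇑Q) w b = 0) (h4 : QuadraticMap.polar (⇑Q) w b' = 0) :
    nw Q a a' b b' t w = w := by
  unfold nw
  rw [LinearEquiv.mul_apply, LinearEquiv.mul_apply, aux_x_perp h t w h1 h4, aux_y_perp h _ w h2 h3,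
    aux_x_perp h t w h1 h4]


/-! ### `n(1)⁻¹` on the frame -/
theorem aux_ni_a : (nw Q a a' b b' 1)⁻¹ a = -b := by
  apply aux_inv_of_apply
  rw [map_neg, aux_n_b h 1 one_ne_zero, one_smul, neg_neg]
theorem aux_ni_b : (nw Q a a' b b' 1)⁻¹ b = a := by
  apply aux_inv_of_apply
  rw [aux_n_a h 1 one_ne_zero, inv_one, one_smul]
theorem aux_ni_a' : (nw Q a a' b b' 1)⁻¹ a' = -b' := by
  apply aux_inv_of_apply
  rw [map_neg, aux_n_b' h 1 one_ne_zero, inv_one, one_smul, neg_neg]
theorem aux_ni_b' : (nw Q a a' b b' 1)⁻¹ b' = a' := by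
  apply aux_inv_of_apply
  rw [aux_n_a' h 1 one_ne_zero, one_smul]
theorem aux_ni_perp (w : V)
    (h1 : QuadraticMap.polar (⇑Q) w a = 0) (h2 : QuadraticMap.polar (⇑Q) w a' = 0)
    (h3 : QuadraticMap.polar (⇑Q) w b = 0) (h4 : QuadraticMap.polar (⇑Q) w b' = 0) :
    (nw Q a a' b b' 1)⁻¹ w = w :=
  aux_inv_of_apply _ (aux_n_perp h 1 w h1 h2 h3 h4)

/-! ### `h(t) = hh Q a a' b b' t` on the frame -/
theorem aux_h_a (t : F) (ht : t ≠ 0) : hh Q a a' b b' t a = t • a := by
  unfold hh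
  rw [LinearEquiv.mul_apply, aux_ni_a h, map_neg, aux_n_b h t ht, neg_neg]
theorem aux_h_b (t : F) (ht : t ≠ 0) : hh Q a a' b b' t b = t⁻¹ • b := by
  unfold hh
  rw [LinearEquiv.mul_apply, aux_ni_b h, aux_n_a h t ht]
theorem aux_h_a' (t : F) (ht : t ≠ 0) : hh Q a a' b b' t a' = t⁻¹ • a' := by
  unfold hh
  rw [LinearEquiv.mul_apply, aux_ni_a' h, map_neg, aux_n_b' h t ht, neg_neg]
theorem aux_h_b' (t : F) (ht : t ≠ 0) : hh Q a a' b b' t b' = t • b' := by
  unfold hh
  rw [LinearEquiv.mul_apply, aux_ni_b' h, aux_n_a' h t ht]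
theorem aux_h_perp (t : F) (w : V)
    (h1 : QuadraticMap.polar (⇑Q) w a = 0) (h2 : QuadraticMap.polar (⇑Q) w a' = 0)
    (h3 : QuadraticMap.polar (⇑Q) w b = 0) (h4 : QuadraticMap.polar (⇑Q) w b' = 0) :
    hh Q a a' b b' t w = w := by
  unfold hh
  rw [LinearEquiv.mul_apply, aux_ni_perp h w h1 h2 h3 h4, aux_n_perp h t w h1 h2 h3 h4]

/-! ### extensionality on the frame -/
theorem aux_ext4 (g g' : V ≃ₗ[F] V)
    (e1 : g a = g' a) (e2 : g a' = g' a') (e3 : g b = g' b) (e4 : g b' = g' b')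
    (e5 : ∀ w : V, QuadraticMap.polar (⇑Q) w a = 0 → QuadraticMap.polar (⇑Q) w a' = 0 →
      QuadraticMap.polar (⇑Q) w b = 0 → QuadraticMap.polar (⇑Q) w b' = 0 → g w = g' w) :
    g = g' := by
  apply LinearEquiv.ext
  intro x
  set w : V := x - QuadraticMap.polar (⇑Q) x a' • a - QuadraticMap.polar (⇑Q) x a • a'
    - QuadraticMap.polar (⇑Q) x b' • b - QuadraticMap.polar (⇑Q) x b • b' with hw
  have hx : x = w + QuadraticMap.polar (⇑Q) x a' • a + QuadraticMap.polar (⇑Q) x a • a'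
    + QuadraticMap.polar (⇑Q) x b' • b + QuadraticMap.polar (⇑Q) x b • b' := by
    rw [hw]; abel
  have pt := aux_pt h
  have w1 : QuadraticMap.polar (⇑Q) w a = 0 := by
    rw [hw]
    simp only [QuadraticMap.polar_sub_left, QuadraticMap.polar_smul_left, pt.aa, pt.a'a, pt.ba, pt.b'a,
      smul_eq_mul]
    ring
  have w2 : QuadraticMap.polar (⇑Q) w a' = 0 := by
    rw [hw]
    simp only [QuadraticMap.polar_sub_left, QuadraticMap.polar_smul_left, pt.aa', pt.a'a', pt.ba', pt.b'a',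
      smul_eq_mul]
    ring
  have w3 : QuadraticMap.polar (⇑Q) w b = 0 := by
    rw [hw]
    simp only [QuadraticMap.polar_sub_left, QuadraticMap.polar_smul_left, pt.ab, pt.a'b, pt.bb, pt.b'b,
      smul_eq_mul]
    ring
  have w4 : QuadraticMap.polar (⇑Q) w b' = 0 := by
    rw [hw]
    simp only [QuadraticMap.polar_sub_left, QuadraticMap.polar_smul_left, pt.ab', pt.a'b', pt.bb', pt.b'b',
      smul_eq_mul]
    ring
  rw [hx]
  simp only [map_add, map_smul, e1, e2, e3, e4, e5 w w1 w2 w3 w4]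

end frame


/-! ## OO2-SL2G: the `SL_2` relations -/

theorem xr_zero {a b' : V} (ha : Q a = 0) : xr Q a b' 0 = 1 := by
  unfold xr
  rw [zero_smul, E_zero_right Q ha]

theorem xr_add {a b' : V} (ha : Q a = 0) (hb' : Q b' = 0)
    (hab' : QuadraticMap.polar (⇑Q) a b' = 0) (s t : F) :
    xr Q a b' (s + t) = xr Q a b' s * xr Q a b' t := by
  unfold xr
  rw [E_mul Q ha (by rw [QuadraticMap.polar_smul_right, hab', smul_zero])
    (by rw [QuadraticMap.polar_smul_right, hab', smul_zero]), add_smul]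

theorem hh_one {a a' b b' : V} (h : HQuad Q a a' b b') : hh Q a a' b b' 1 = 1 := by
  unfold hh
  exact mul_inv_cancel _

theorem hh_mul {a a' b b' : V} (h : HQuad Q a a' b b') (s t : F) (hs : s ≠ 0) (ht : t ≠ 0) :
    hh Q a a' b b' (s * t) = hh Q a a' b b' s * hh Q a a' b b' t := by
  have hst : s * t ≠ 0 := mul_ne_zero hs ht
  apply aux_ext4 h
  · simp only [LinearEquiv.mul_apply, aux_h_a h _ hst, aux_h_a h _ hs, aux_h_a h _ ht, map_smul]
    match_scalars <;> first | (field_simp; done) | (field_simp; ring) | ring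
  · simp only [LinearEquiv.mul_apply, aux_h_a' h _ hst, aux_h_a' h _ hs, aux_h_a' h _ ht, map_smul]
    match_scalars <;> first | (field_simp; done) | (field_simp; ring) | ring
  · simp only [LinearEquiv.mul_apply, aux_h_b h _ hst, aux_h_b h _ hs, aux_h_b h _ ht, map_smul]
    match_scalars <;> first | (field_simp; done) | (field_simp; ring) | ring
  · simp only [LinearEquiv.mul_apply, aux_h_b' h _ hst, aux_h_b' h _ hs, aux_h_b' h _ ht, map_smul]
    match_scalars <;> first | (field_simp; done) | (field_simp; ring) | ring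
  · intro w h1 h2 h3 h4
    simp only [LinearEquiv.mul_apply, aux_h_perp h _ w h1 h2 h3 h4]

theorem nw_sq {a a' b b' : V} (h : HQuad Q a a' b b') :
    nw Q a a' b b' 1 * nw Q a a' b b' 1 = hh Q a a' b b' (-1) := by
  have h1' : (-1 : F) ≠ 0 := neg_ne_zero.mpr one_ne_zero
  apply aux_ext4 h
  · simp only [LinearEquiv.mul_apply, aux_n_a h 1 one_ne_zero, aux_n_b h 1 one_ne_zero, aux_h_a h _ h1',
      map_smul, map_neg]
    match_scalars <;> first | (field_simp; done) | (field_simp; ring) | ring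
  · simp only [LinearEquiv.mul_apply, aux_n_a' h 1 one_ne_zero, aux_n_b' h 1 one_ne_zero, aux_h_a' h _ h1',
      map_smul, map_neg]
    match_scalars <;> first | (field_simp; done) | (field_simp; ring) | ring
  · simp only [LinearEquiv.mul_apply, aux_n_a h 1 one_ne_zero, aux_n_b h 1 one_ne_zero, aux_h_b h _ h1',
      map_smul, map_neg]
    match_scalars <;> first | (field_simp; done) | (field_simp; ring) | ring
  · simp only [LinearEquiv.mul_apply, aux_n_a' h 1 one_ne_zero, aux_n_b' h 1 one_ne_zero, aux_h_b' h _ h1',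
      map_smul, map_neg]
    match_scalars <;> first | (field_simp; done) | (field_simp; ring) | ring
  · intro w h1 h2 h3 h4
    simp only [LinearEquiv.mul_apply, aux_h_perp h _ w h1 h2 h3 h4, aux_n_perp h _ w h1 h2 h3 h4]

theorem hh_xr {a a' b b' : V} (h : HQuad Q a a' b b') (t s : F) (ht : t ≠ 0) :
    hh Q a a' b b' t * xr Q a b' s = xr Q a b' (t ^ 2 * s) * hh Q a a' b b' t := by
  apply aux_ext4 h
  · simp only [LinearEquiv.mul_apply, aux_x_a h, aux_x_a' h, aux_x_b h, aux_x_b' h, aux_h_a h _ ht,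
      aux_h_a' h _ ht, aux_h_b h _ ht, aux_h_b' h _ ht, map_smul, map_add, map_sub]
  · simp only [LinearEquiv.mul_apply, aux_x_a h, aux_x_a' h, aux_x_b h, aux_x_b' h, aux_h_a h _ ht,
      aux_h_a' h _ ht, aux_h_b h _ ht, aux_h_b' h _ ht, map_smul, map_add, map_sub]
    match_scalars <;> first | (field_simp; done) | (field_simp; ring) | ring
  · simp only [LinearEquiv.mul_apply, aux_x_a h, aux_x_a' h, aux_x_b h, aux_x_b' h, aux_h_a h _ ht,
      aux_h_a' h _ ht, aux_h_b h _ ht, aux_h_b' h _ ht, map_smul, map_add, map_sub]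
    match_scalars <;> first | (field_simp; done) | (field_simp; ring) | ring
  · simp only [LinearEquiv.mul_apply, aux_x_a h, aux_x_a' h, aux_x_b h, aux_x_b' h, aux_h_a h _ ht,
      aux_h_a' h _ ht, aux_h_b h _ ht, aux_h_b' h _ ht, map_smul, map_add, map_sub]
  · intro w h1 h2 h3 h4
    simp only [LinearEquiv.mul_apply, aux_h_perp h _ w h1 h2 h3 h4, aux_x_perp h _ w h1 h4]

theorem nw_hh {a a' b b' : V} (h : HQuad Q a a' b b') (t : F) (ht : t ≠ 0) :
    nw Q a a' b b' 1 * hh Q a a' b b' t = hh Q a a' b b' t⁻¹ * nw Q a a' b b' 1 := by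
  have hti : t⁻¹ ≠ 0 := inv_ne_zero ht
  apply aux_ext4 h
  · simp only [LinearEquiv.mul_apply, aux_n_a h 1 one_ne_zero, aux_n_b h 1 one_ne_zero,
      aux_n_a' h 1 one_ne_zero, aux_n_b' h 1 one_ne_zero, aux_h_a h _ ht, aux_h_a' h _ ht, aux_h_b h _ ht,
      aux_h_b' h _ ht, aux_h_a h _ hti, aux_h_a' h _ hti, aux_h_b h _ hti, aux_h_b' h _ hti,
      map_smul, map_neg]
    match_scalars <;> first | (field_simp; done) | (field_simp; ring) | ring
  · simp only [LinearEquiv.mul_apply, aux_n_a h 1 one_ne_zero, aux_n_b h 1 one_ne_zero,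
      aux_n_a' h 1 one_ne_zero, aux_n_b' h 1 one_ne_zero, aux_h_a h _ ht, aux_h_a' h _ ht, aux_h_b h _ ht,
      aux_h_b' h _ ht, aux_h_a h _ hti, aux_h_a' h _ hti, aux_h_b h _ hti, aux_h_b' h _ hti,
      map_smul, map_neg]
    match_scalars <;> first | (field_simp; done) | (field_simp; ring) | ring
  · simp only [LinearEquiv.mul_apply, aux_n_a h 1 one_ne_zero, aux_n_b h 1 one_ne_zero,
      aux_n_a' h 1 one_ne_zero, aux_n_b' h 1 one_ne_zero, aux_h_a h _ ht, aux_h_a' h _ ht, aux_h_b h _ ht,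
      aux_h_b' h _ ht, aux_h_a h _ hti, aux_h_a' h _ hti, aux_h_b h _ hti, aux_h_b' h _ hti,
      map_smul, map_neg]
    match_scalars <;> first | (field_simp; done) | (field_simp; ring) | ring
  · simp only [LinearEquiv.mul_apply, aux_n_a h 1 one_ne_zero, aux_n_b h 1 one_ne_zero,
      aux_n_a' h 1 one_ne_zero, aux_n_b' h 1 one_ne_zero, aux_h_a h _ ht, aux_h_a' h _ ht, aux_h_b h _ ht,
      aux_h_b' h _ ht, aux_h_a h _ hti, aux_h_a' h _ hti, aux_h_b h _ hti, aux_h_b' h _ hti,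
      map_smul, map_neg]
    match_scalars <;> first | (field_simp; done) | (field_simp; ring) | ring
  · intro w h1 h2 h3 h4
    simp only [LinearEquiv.mul_apply, aux_h_perp h _ w h1 h2 h3 h4, aux_n_perp h _ w h1 h2 h3 h4]

theorem nw_xr_nw {a a' b b' : V} (h : HQuad Q a a' b b') (s : F) (hs : s ≠ 0) :
    nw Q a a' b b' 1 * xr Q a b' s * nw Q a a' b b' 1 =
      xr Q a b' (-s⁻¹) * nw Q a a' b b' 1 * hh Q a a' b b' (-s) * xr Q a b' (-s⁻¹) := by
  have hns : -s ≠ 0 := neg_ne_zero.mpr hs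
  apply aux_ext4 h
  · simp only [LinearEquiv.mul_apply, aux_n_a h 1 one_ne_zero, aux_n_b h 1 one_ne_zero,
      aux_n_a' h 1 one_ne_zero, aux_n_b' h 1 one_ne_zero, aux_h_a h _ hns, aux_h_a' h _ hns, aux_h_b h _ hns,
      aux_h_b' h _ hns, aux_x_a h, aux_x_a' h, aux_x_b h, aux_x_b' h,
      map_smul, map_neg, map_add, map_sub]
    match_scalars <;> first | (field_simp; done) | (field_simp; ring) | ring
  · simp only [LinearEquiv.mul_apply, aux_n_a h 1 one_ne_zero, aux_n_b h 1 one_ne_zero,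
      aux_n_a' h 1 one_ne_zero, aux_n_b' h 1 one_ne_zero, aux_h_a h _ hns, aux_h_a' h _ hns, aux_h_b h _ hns,
      aux_h_b' h _ hns, aux_x_a h, aux_x_a' h, aux_x_b h, aux_x_b' h,
      map_smul, map_neg, map_add, map_sub]
    match_scalars <;> first | (field_simp; done) | (field_simp; ring) | ring
  · simp only [LinearEquiv.mul_apply, aux_n_a h 1 one_ne_zero, aux_n_b h 1 one_ne_zero,
      aux_n_a' h 1 one_ne_zero, aux_n_b' h 1 one_ne_zero, aux_h_a h _ hns, aux_h_a' h _ hns, aux_h_b h _ hns,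
      aux_h_b' h _ hns, aux_x_a h, aux_x_a' h, aux_x_b h, aux_x_b' h,
      map_smul, map_neg, map_add, map_sub]
    match_scalars <;> first | (field_simp; done) | (field_simp; ring) | ring
  · simp only [LinearEquiv.mul_apply, aux_n_a h 1 one_ne_zero, aux_n_b h 1 one_ne_zero,
      aux_n_a' h 1 one_ne_zero, aux_n_b' h 1 one_ne_zero, aux_h_a h _ hns, aux_h_a' h _ hns, aux_h_b h _ hns,
      aux_h_b' h _ hns, aux_x_a h, aux_x_a' h, aux_x_b h, aux_x_b' h,
      map_smul, map_neg, map_add, map_sub]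
    match_scalars <;> first | (field_simp; done) | (field_simp; ring) | ring
  · intro w h1 h2 h3 h4
    simp only [LinearEquiv.mul_apply, aux_h_perp h _ w h1 h2 h3 h4, aux_n_perp h _ w h1 h2 h3 h4,
      aux_x_perp h _ w h1 h4]

end Cfsg.Agent.Lib.Helper30_OO2_SL2G
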