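import Mathlib
import Cfsg.Agent.Lib.Helper81_BNBorel

set_option autoImplicit false
set_option linter.unusedSectionVars false
set_option linter.unusedVariables false

/-!
helper30 — package PK-FIXC of helper81's S2314 market (`pc_packages`), second seat:
the cell of `π n` in `G / B` is `{x n B : x ∈ B}`.
-/

namespace Cfsg.Agent.Lib.Helper30_PC_FIXC

open Cfsg DoubleCoset Cfsg.Agent.Lib.Helper6_Word Cfsg.Agent.Lib.Helper6_BNPair
  Cfsg.Agent.Lib.Helper81_BNIndex Cfsg.Agent.Lib.Helper81_BNBorel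

/-- a coset lies in the cell of `π n` iff it is `x n B` for some `x ∈ B` -/
theorem cellB_eq_iff {G : Type*} [Group G] (P : BNPair G) (n : P.N) (y : G ⧸ P.B) :
    cellB P y = π P n ↔ ∃ x ∈ P.B, y = ((x * (n : G) : G) : G ⧸ P.B) := by
  induction y using QuotientGroup.induction_on with
  | H g =>
    rw [cellB_mk]
    constructor
    · intro h
      obtain ⟨x, hx, z, hz, rfl⟩ := (mem_C P).1 (mem_C_of_cell_eq P h)
      refine ⟨x, hx, ?_⟩
      rw [QuotientGroup.eq]
      have e : (x * (n : G) * z)⁻¹ * (x * (n : G)) = z⁻¹ := by group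
      rw [e]
      exact P.B.inv_mem hz
    · rintro ⟨x, hx, hy⟩
      apply cell_eq
      rw [QuotientGroup.eq] at hy
      refine (mem_C P).2 ⟨x, hx, (g⁻¹ * (x * (n : G)))⁻¹, P.B.inv_mem hy, ?_⟩
      group

/-- the statement of PK-FIXC; the market copy `Cfsg.Agent.Lib.Helper81_PCount.fixCell_eq` is the one of
`Helper16_PC_FIXC.lean` (landed in the same minute), so this one lives in helper30's namespace -/
theorem fixCell_eq {G : Type*} [Group G] (P : BNPair G) (b : G) (n : P.N) :
    fixCell P b (π P n) = Nat.card {y : MulAction.fixedBy (G ⧸ P.B) b //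
        ∃ x ∈ P.B, (y : G ⧸ P.B) = ((x * (n : G) : G) : G ⧸ P.B)} := by
  unfold fixCell
  exact Nat.card_congr (Equiv.subtypeEquivRight
    (fun y => Cfsg.Agent.Lib.Helper30_PC_FIXC.cellB_eq_iff P n (y : G ⧸ P.B)))

end Cfsg.Agent.Lib.Helper30_PC_FIXC
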