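import Cfsg.Agent.S1415
import Cfsg.Agent.S1427
import Cfsg.Agent.Lib.Helper22_Uniq
import Cfsg.Agent.Lib.Helper29_BG144c
import Cfsg.Agent.Lib.Helper23_BG13Hyp
import Cfsg.Agent.Lib.Helper70_Wielandt

/-!
# Prime action of a complement `E = K` of `M_σ` (type `P₁`), assembled from B-G 13.3, 13.4 and 13.11 (helper30)

`prime_action_compl`: if the complement `E` of `M_σ` in `M` is a Hall `κ(M)`-subgroup, then
`C_{M_σ}(k) = C_{M_σ}(E)` for all `k ∈ E#`, given B-G 13.4 (`H1428`, the frozen statement S1428) and the `τ₃`-nonregular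
case B-G 13.11 (`F2`, from `Helper23_BG13Hyp`).  The case `π(E) ⊆ τ₁(M)` is done here from the landed S1415 and S1427.
-/

set_option autoImplicit false

namespace Cfsg.Agent.Lib.Helper30_PrimeAct

open Subgroup Cfsg Cfsg.Agent.Lib.Helper23_BG13Hyp

universe u

variable {G : Type u} [Group G] [Finite G]

/-- a prime of `κ(M)` lies in `τ₁(M)` or `τ₃(M)` -/
theorem mem_tau1_or_tau3_of_mem_kappa {M : Subgroup G} {q : ℕ} (hq : q ∈ kappa M) :
    q ∈ tau1 M ∨ q ∈ tau3 M := by
  obtain ⟨hqp, hqM, hqσ, hcyc⟩ := hq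
  have : Fact q.Prime := ⟨hqp⟩
  have hrk : PRankLE q 1 ↥M :=
    Cfsg.Agent.Lib.Helper29_BG144c.pRankLE_one_of_sylow_cyclic q (fun P => (hcyc P).1)
  by_cases h3 : q ∣ Nat.card ↥⁅M, M⁆
  · exact Or.inr ⟨hqp, hqσ, h3, hrk⟩
  · exact Or.inl ⟨hqp, hqσ, hqM, h3, hrk⟩

/-- a subgroup of order `r ∈ κ(M)` of `M` is nonregular on `M_σ` -/
theorem inf_centralizer_ne_bot_of_mem_kappa {M R : Subgroup G} {r : ℕ} (hr : r ∈ kappa M)
    (hRM : R ≤ M) (hR : Nat.card ↥R = r) : sigmaCore M ⊓ centralizer (R : Set G) ≠ ⊥ := by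
  obtain ⟨hrp, hrM, hrσ, hcyc⟩ := hr
  have : Fact r.Prime := ⟨hrp⟩
  have hcardR' : Nat.card ↥(R.subgroupOf M) = r := by
    rw [← hR]
    exact Nat.card_congr (Subgroup.subgroupOfEquivOfLe hRM).toEquiv
  have hR' : IsPGroup r ↥(R.subgroupOf M) := by
    apply IsPGroup.of_card (n := 1)
    rw [pow_one, hcardR']
  obtain ⟨P, hRP⟩ := hR'.exists_le_sylow
  obtain ⟨hPcyc, x, hxP, hx1, y, hy, hy1, hxy⟩ := hcyc P
  have hXle : zpowers x ≤ (P : Subgroup ↥M) := by
    rw [zpowers_le]
    exact hxP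
  have hXne : zpowers x ≠ ⊥ := by
    rwa [Ne, zpowers_eq_bot]
  have hXp : IsPGroup r ↥(zpowers x) := P.2.to_le hXle
  obtain ⟨n, hn⟩ := IsPGroup.iff_card.mp hXp
  have hn0 : n ≠ 0 := by
    rintro rfl
    rw [pow_zero] at hn
    exact hXne (Subgroup.card_eq_one.mp hn)
  have hrX : r ∣ Nat.card ↥(zpowers x) := by
    rw [hn]
    exact dvd_pow_self r hn0
  obtain ⟨z, hz⟩ := exists_prime_orderOf_dvd_card' r hrX
  obtain ⟨m, hm⟩ := mem_zpowers_iff.mp z.2
  set z' : ↥(P : Subgroup ↥M) := ⟨(z : ↥M), hXle z.2⟩ with hz'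
  have hz'o : orderOf z' = r :=
    (Subgroup.orderOf_coe z').symm.trans ((Subgroup.orderOf_coe z).trans hz)
  set H1 : Subgroup ↥(P : Subgroup ↥M) := (R.subgroupOf M).subgroupOf (P : Subgroup ↥M) with hH1def
  have hH1 : Nat.card ↥H1 = r :=
    (Nat.card_congr (Subgroup.subgroupOfEquivOfLe hRP).toEquiv).trans hcardR'
  have hH2 : Nat.card ↥(zpowers z') = r := by rw [Nat.card_zpowers, hz'o]
  have hEq : H1 = zpowers z' :=
    Cfsg.Agent.Lib.Helper70_Wielandt.eq_of_card_eq_of_isCyclic H1 (zpowers z') (hH1.trans hH2.symm)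
  intro hbot
  apply hy1
  have hmem : y ∈ sigmaCore M ⊓ centralizer (R : Set G) := by
    refine Subgroup.mem_inf.mpr ⟨hy, ?_⟩
    rw [Subgroup.mem_centralizer_iff]
    intro e he
    have heM : (⟨e, hRM he⟩ : ↥M) ∈ R.subgroupOf M := by
      rw [Subgroup.mem_subgroupOf]
      exact he
    have he1 : (⟨⟨e, hRM he⟩, hRP heM⟩ : ↥(P : Subgroup ↥M)) ∈ H1 := by
      rw [hH1def, Subgroup.mem_subgroupOf]
      exact heM
    rw [hEq] at he1
    obtain ⟨k, hk⟩ := mem_zpowers_iff.mp he1
    have h1 : ((x : ↥M) : G) ^ (m * k) = e := by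
      have h2 := congrArg (fun t : ↥(P : Subgroup ↥M) => (((t : ↥M)) : G)) hk
      simp only [hz', Subgroup.coe_zpow] at h2
      rw [← hm] at h2
      simpa [zpow_mul] using h2
    have h3 : Commute ((x : ↥M) : G) y := hxy
    rw [← h1]
    exact (h3.zpow_left (m * k)).eq
  rw [hbot, Subgroup.mem_bot] at hmem
  exact hmem

/-- **prime action of a complement that is a Hall `κ(M)`-subgroup** -/
theorem prime_action_compl (hG : IsMinSimpleOddOrder G) (h28 : H1428 G) (hF2 : F2 G) {M : Subgroup G}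
    (hM : IsCoatom M) {E : Subgroup G} (hEκ : IsPiHallOf (kappa M) E M)
    (hE : IsComplIn E (sigmaCore M) M) :
    ∀ k ∈ E, k ≠ 1 →
      sigmaCore M ⊓ centralizer ({k} : Set G) = sigmaCore M ⊓ centralizer (E : Set G) := by
  by_cases hB : ∃ r : ℕ, r ∈ tau3 M ∧ r ∣ Nat.card ↥E
  · obtain ⟨r, hr3, hrE⟩ := hB
    have hrp : r.Prime := hr3.1
    have : Fact r.Prime := ⟨hrp⟩
    obtain ⟨e, he⟩ := exists_prime_orderOf_dvd_card' r hrE
    have hRE : zpowers ((e : ↥E) : G) ≤ E := by
      rw [zpowers_le]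
      exact e.2
    have hRcard : Nat.card ↥(zpowers ((e : ↥E) : G)) = r := by
      rw [Nat.card_zpowers, Subgroup.orderOf_coe, he]
    have hrκ : r ∈ kappa M := hEκ.2.1 r hrp hrE
    exact (hF2 M hM E hE r hr3 _ hRE hRcard
      (inf_centralizer_ne_bot_of_mem_kappa hrκ (hRE.trans hEκ.1) hRcard)).1
  -- all the primes of `E` lie in `τ₁(M)`
  have hτ1 : ∀ q : ℕ, q.Prime → q ∣ Nat.card ↥E → q ∈ tau1 M := by
    intro q hq hqE
    rcases mem_tau1_or_tau3_of_mem_kappa (hEκ.2.1 q hq hqE) with h | h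
    · exact h
    · exact absurd ⟨q, h, hqE⟩ hB
  -- `E` is cyclic
  have hEcyc : IsCyclic ↥E := by
    apply (Cfsg.Agent.S1415.result hG M hM E hE).2.1 E
    refine ⟨le_refl E, hτ1, ?_⟩
    intro q hq _ hd
    rw [Subgroup.relIndex_self] at hd
    exact hq.one_lt.ne' (Nat.dvd_one.mp hd)
  have hcomm : ∀ a ∈ E, ∀ b ∈ E, a * b = b * a := by
    intro a ha b hb
    let _ := IsCyclic.commGroup (α := ↥E)
    exact congrArg Subtype.val (mul_comm (⟨a, ha⟩ : ↥E) ⟨b, hb⟩)
  intro k hk hk1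
  apply le_antisymm
  · intro x hx
    obtain ⟨hxS, hxk⟩ := Subgroup.mem_inf.mp hx
    rw [Subgroup.mem_centralizer_singleton_iff] at hxk
    refine Subgroup.mem_inf.mpr ⟨hxS, ?_⟩
    -- a power of `k` of prime order
    have ho : orderOf k ≠ 1 := fun h => hk1 (orderOf_eq_one_iff.mp h)
    obtain ⟨p, hp, hpd⟩ := Nat.exists_prime_and_dvd ho
    obtain ⟨t, ht⟩ := hpd
    have ht0 : t ≠ 0 := by
      rintro rfl
      rw [mul_zero] at ht
      exact (orderOf_pos k).ne' ht
    have hko : orderOf (k ^ t) = p := by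
      rw [orderOf_pow' k ht0, ht, Nat.gcd_mul_left_left, Nat.mul_div_cancel _ (Nat.pos_of_ne_zero ht0)]
    set P : Subgroup G := zpowers (k ^ t) with hP
    have hPE : P ≤ E := by
      rw [hP, zpowers_le]
      exact pow_mem hk t
    have hPcard : Nat.card ↥P = p := by rw [hP, Nat.card_zpowers, hko]
    have hpE : p ∣ Nat.card ↥E := by
      rw [← hPcard]
      exact Subgroup.card_dvd_of_le hPE
    have hpτ : p ∈ tau1 M := hτ1 p hp hpE
    have hxP : x ∈ sigmaCore M ⊓ centralizer (P : Set G) := by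
      refine Subgroup.mem_inf.mpr ⟨hxS, ?_⟩
      rw [Subgroup.mem_centralizer_iff]
      intro y hy
      obtain ⟨n, rfl⟩ := mem_zpowers_iff.mp hy
      have h1 : Commute x k := hxk
      exact (((h1.pow_right t).zpow_right n).eq).symm
    -- every Sylow subgroup of `E` centralizes `x`
    have hEx : E ≤ centralizer ({x} : Set G) := by
      apply Cfsg.Agent.Lib.Helper22_Uniq.le_of_forall_sylow
      intro q hq
      have : Fact q.Prime := ⟨hq⟩
      obtain ⟨S⟩ : Nonempty (Sylow q ↥E) := inferInstance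
      refine ⟨S, ?_⟩
      by_cases hS1 : (S : Subgroup ↥E) = ⊥
      · intro y hy
        obtain ⟨z, hz, rfl⟩ := hy
        have hz' : z ∈ (S : Subgroup ↥E) := hz
        rw [hS1, Subgroup.mem_bot] at hz'
        rw [hz']
        exact one_mem _
      · have hScyc : IsCyclic ↥(S : Subgroup ↥E) := inferInstance
        have h27 := Cfsg.Agent.S1427.result hG M hM E hE q S hS1 hScyc
        -- an element of order `q` of `S`
        have hqS : q ∣ Nat.card ↥(S : Subgroup ↥E) := by
          obtain ⟨n, hn⟩ := IsPGroup.iff_card.mp S.2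
          have hn0 : n ≠ 0 := by
            rintro rfl
            rw [pow_zero] at hn
            exact hS1 (Subgroup.card_eq_one.mp hn)
          rw [hn]
          exact dvd_pow_self q hn0
        obtain ⟨y, hy⟩ := exists_prime_orderOf_dvd_card' q hqS
        have hyS : ((y : ↥E) : G) ∈ (S : Subgroup ↥E).map E.subtype := ⟨(y : ↥E), y.2, rfl⟩
        have hyo : orderOf ((y : ↥E) : G) = q := by
          rw [Subgroup.orderOf_coe, Subgroup.orderOf_coe, hy]
        have hy1 : ((y : ↥E) : G) ≠ 1 := by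
          intro h
          rw [h, orderOf_one] at hyo
          exact hq.one_lt.ne hyo
        have hyE : ((y : ↥E) : G) ∈ E := (y : ↥E).2
        set R : Subgroup G := zpowers ((y : ↥E) : G) with hR
        have hRE : R ≤ E ⊓ centralizer (P : Set G) := by
          rw [hR, zpowers_le]
          refine Subgroup.mem_inf.mpr ⟨hyE, ?_⟩
          rw [Subgroup.mem_centralizer_iff]
          intro z hz
          exact hcomm z (hPE hz) _ hyE
        have hRcard : (Nat.card ↥R).Prime := by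
          rw [hR, Nat.card_zpowers, hyo]
          exact hq
        have hxR := h28 M hM E hE p hpτ P hPE hPcard R hRE hRcard hxP
        have hxy : x ∈ sigmaCore M ⊓ centralizer ({((y : ↥E) : G)} : Set G) := by
          refine Subgroup.mem_inf.mpr ⟨hxS, ?_⟩
          rw [Subgroup.mem_centralizer_singleton_iff]
          have := (Subgroup.mem_centralizer_iff.mp (Subgroup.mem_inf.mp hxR).2) ((y : ↥E) : G)
            (mem_zpowers _)
          exact this.symm
        rw [h27 _ hyS hy1] at hxy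
        intro z hz
        rw [Subgroup.mem_centralizer_singleton_iff]
        exact (Subgroup.mem_centralizer_iff.mp (Subgroup.mem_inf.mp hxy).2) z hz
    rw [Subgroup.mem_centralizer_iff]
    intro e he
    have := hEx he
    rw [Subgroup.mem_centralizer_singleton_iff] at this
    exact this
  · intro x hx
    obtain ⟨hxS, hxE⟩ := Subgroup.mem_inf.mp hx
    refine Subgroup.mem_inf.mpr ⟨hxS, ?_⟩
    rw [Subgroup.mem_centralizer_singleton_iff]
    exact ((Subgroup.mem_centralizer_iff.mp hxE) k hk).symm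

end Cfsg.Agent.Lib.Helper30_PrimeAct
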