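import Mathlib
import Cfsg.Agent.Lib.Helper81_SpWeights

set_option autoImplicit false

/-!
# The pairing between symmetric matrices and quadratic forms (helper30, definitions for S2333)

`qP S f = ∑ i, S i i * f (e i) + ∑ i < j, S i j * polar f (e i) (e j)`; in characteristic two the
additive characters of the Siegel radical of `Sp_{2n}(q)` are `S ↦ ψ (qP S f)`, `f` a quadratic form.
-/

namespace Cfsg.Agent.Lib.Helper30_QFPairDefs

open Module QuadraticMap Matrix
open Cfsg.Agent.Lib.Helper81_SpWeights

variable {F : Type*} [Field F] {n : ℕ}

/-- the pairing between symmetric matrices and quadratic forms,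
`⟨S, f⟩ = ∑ i, S i i * f (e i) + ∑ i < j, S i j * polar f (e i) (e j)`. -/
noncomputable def qP : symSub n F →ₗ[F] QuadraticForm F (Fin n → F) →ₗ[F] F :=
  LinearMap.mk₂ F
    (fun S f => ∑ i, S.1 i i * f (Pi.single i 1) +
      ∑ i, ∑ j, if i < j then S.1 i j * polar f (Pi.single i 1) (Pi.single j 1) else 0)
    (fun S S' f => by
      simp only [Submodule.coe_add, Matrix.add_apply, add_mul, Finset.sum_add_distrib]
      have : ∀ i j : Fin n, (if i < j then S.1 i j * polar f (Pi.single i 1) (Pi.single j 1) +
          S'.1 i j * polar f (Pi.single i 1) (Pi.single j 1) else 0) =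
          (if i < j then S.1 i j * polar f (Pi.single i 1) (Pi.single j 1) else 0) +
          (if i < j then S'.1 i j * polar f (Pi.single i 1) (Pi.single j 1) else 0) := by
        intro i j; split_ifs <;> simp
      simp only [this, Finset.sum_add_distrib]
      ring)
    (fun c S f => by
      simp only [Submodule.coe_smul, Matrix.smul_apply, smul_eq_mul, Finset.mul_sum, mul_add]
      congr 1
      · refine Finset.sum_congr rfl fun i _ => by ring
      · refine Finset.sum_congr rfl fun i _ => Finset.sum_congr rfl fun j _ => ?_
        split_ifs <;> ring)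
    (fun S f f' => by
      simp only [_root_.add_apply, QuadraticMap.polar_add, FunLike.coe_add, mul_add,
        Finset.sum_add_distrib]
      have : ∀ i j : Fin n, (if i < j then S.1 i j * polar f (Pi.single i 1) (Pi.single j 1) +
          S.1 i j * polar f' (Pi.single i 1) (Pi.single j 1) else 0) =
          (if i < j then S.1 i j * polar f (Pi.single i 1) (Pi.single j 1) else 0) +
          (if i < j then S.1 i j * polar f' (Pi.single i 1) (Pi.single j 1) else 0) := by
        intro i j; split_ifs <;> simp
      simp only [this, Finset.sum_add_distrib]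
      ring)
    (fun c S f => by
      simp only [_root_.smul_apply, FunLike.coe_smul, QuadraticMap.polar_smul,
        smul_eq_mul, Finset.mul_sum, mul_add]
      congr 1
      · refine Finset.sum_congr rfl fun i _ => by ring
      · refine Finset.sum_congr rfl fun i _ => Finset.sum_congr rfl fun j _ => ?_
        split_ifs <;> ring)

theorem qP_apply (S : symSub n F) (f : QuadraticForm F (Fin n → F)) :
    qP S f = ∑ i, S.1 i i * f (Pi.single i 1) +
      ∑ i, ∑ j, if i < j then S.1 i j * polar f (Pi.single i 1) (Pi.single j 1) else 0 := rfl

end Cfsg.Agent.Lib.Helper30_QFPairDefs
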