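import Mathlib

set_option autoImplicit false

/-!
# Helper30_S2113_INV: package INV of the S2113 market (architect helper50)

A multi-additive map of `k` variables on a field with `3 ^ d` elements, `1 ≤ k < 2 d`, sums to zero along
every line `c ↦ (c x 1, ..., c x k)`.
-/

namespace Cfsg.Agent.Lib.Helper30_S2113_INV

open Finset

/-- The one-variable additive map obtained by freezing all the other variables. -/
noncomputable def slot {K : Type*} [Field K] {A : Type*} [AddCommGroup A] {k : ℕ} (Φ : (Fin k → K) → A)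
    (hΦ : ∀ (x : Fin k → K) (i : Fin k) (a b : K),
      Φ (Function.update x i (a + b)) = Φ (Function.update x i a) + Φ (Function.update x i b))
    (x : Fin k → K) (i : Fin k) : K →+ A where
  toFun a := Φ (Function.update x i a)
  map_zero' := by
    have h := hΦ x i 0 0
    rw [add_zero] at h
    have h2 : Φ (Function.update x i 0) + 0 = Φ (Function.update x i 0) + Φ (Function.update x i 0) := by
      rw [add_zero]; exact h
    exact (add_left_cancel h2).symm
  map_add' a b := hΦ x i a b

/-- The multi-additive map as an `ℕ`-multilinear map. -/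
noncomputable def toMulti {K : Type*} [Field K] {A : Type*} [AddCommGroup A] {k : ℕ} (Φ : (Fin k → K) → A)
    (hΦ : ∀ (x : Fin k → K) (i : Fin k) (a b : K),
      Φ (Function.update x i (a + b)) = Φ (Function.update x i a) + Φ (Function.update x i b)) :
    MultilinearMap ℕ (fun _ : Fin k => K) A where
  toFun := Φ
  map_update_add' := by
    intro inst m i a b
    have e : inst = instDecidableEqFin k := Subsingleton.elim _ _
    subst e
    exact hΦ m i a b
  map_update_smul' := by
    intro inst m i c a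
    have e : inst = instDecidableEqFin k := Subsingleton.elim _ _
    subst e
    exact map_nsmul (slot Φ hΦ m i) c a

theorem three_nsmul_eq_zero {K : Type*} [Field K] [CharP K 3] {A : Type*} [AddCommGroup A] {k : ℕ}
    (hk1 : 1 ≤ k) (Φ : (Fin k → K) → A)
    (hΦ : ∀ (x : Fin k → K) (i : Fin k) (a b : K),
      Φ (Function.update x i (a + b)) = Φ (Function.update x i a) + Φ (Function.update x i b))
    (y : Fin k → K) : 3 • Φ y = 0 := by
  have h := map_nsmul (slot Φ hΦ y ⟨0, hk1⟩) 3 (y ⟨0, hk1⟩)
  have h3 : (3 : ℕ) • (y ⟨0, hk1⟩) = 0 := by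
    rw [nsmul_eq_mul]
    have : ((3 : ℕ) : K) = 0 := CharP.cast_eq_zero K 3
    rw [this, zero_mul]
  rw [h3, map_zero] at h
  have h' : (slot Φ hΦ y ⟨0, hk1⟩) (y ⟨0, hk1⟩) = Φ y := by
    show Φ (Function.update y ⟨0, hk1⟩ (y ⟨0, hk1⟩)) = Φ y
    rw [Function.update_eq_self]
  rw [h'] at h
  exact h.symm

/-- The counting lemma: the coefficient sum is divisible by `3`. -/
theorem three_dvd_coeff (d k : ℕ) (hk : k < 2 * d) (r : Fin k → Fin d) :
    3 ∣ ∑ v : Fin d → ZMod 3, ∏ i : Fin k, (v (r i)).val := by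
  have h1 : ∀ v : Fin d → ZMod 3, ∏ i : Fin k, (v (r i)).val
      = ∏ j : Fin d, (v j).val ^ (#{i : Fin k | r i = j}) := by
    intro v
    rw [← Finset.prod_fiberwise (univ : Finset (Fin k)) r (fun i => (v (r i)).val)]
    refine Finset.prod_congr rfl (fun j _ => ?_)
    rw [← Finset.prod_const]
    refine Finset.prod_congr rfl (fun i hi => ?_)
    rw [(Finset.mem_filter.mp hi).2]
  have h2 : ∑ v : Fin d → ZMod 3, ∏ i : Fin k, (v (r i)).val
      = ∏ j : Fin d, ∑ a : ZMod 3, a.val ^ (#{i : Fin k | r i = j}) := by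
    rw [Fintype.prod_sum]
    exact Finset.sum_congr rfl (fun v _ => h1 v)
  rw [h2]
  -- some fibre has at most one element
  have h3 : ∃ j : Fin d, #{i : Fin k | r i = j} ≤ 1 := by
    by_contra hcon
    push Not at hcon
    have hcard : (univ : Finset (Fin k)).card = ∑ j ∈ (univ : Finset (Fin d)), #{i ∈ (univ : Finset (Fin k)) | r i = j} :=
      Finset.card_eq_sum_card_fiberwise (fun _ _ => Finset.mem_coe.mpr (Finset.mem_univ _))
    have hge : ∑ j ∈ (univ : Finset (Fin d)), 2 ≤ ∑ j ∈ (univ : Finset (Fin d)), #{i ∈ (univ : Finset (Fin k)) | r i = j} :=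
      Finset.sum_le_sum (fun j _ => hcon j)
    rw [← hcard] at hge
    simp only [Finset.sum_const, Finset.card_univ, Fintype.card_fin, smul_eq_mul] at hge
    omega
  obtain ⟨j₀, hj₀⟩ := h3
  have h4 : ∑ a : ZMod 3, a.val ^ (#{i : Fin k | r i = j₀}) = 3 := by
    have hcases : #{i : Fin k | r i = j₀} = 0 ∨ #{i : Fin k | r i = j₀} = 1 := by omega
    rcases hcases with h | h <;> rw [h] <;> decide
  exact dvd_trans (by rw [h4]) (Finset.dvd_prod_of_mem _ (Finset.mem_univ j₀))

/-- A multi-additive map of `k` variables on a field with `3 ^ d` elements, `1 ≤ k < 2 d`, sums to zero along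
every line `c ↦ (c x 1, ..., c x k)`. -/
theorem inv_sum {K : Type*} [Field K] [Fintype K] [CharP K 3] {A : Type*} [AddCommGroup A] (d k : ℕ)
    (hK : Fintype.card K = 3 ^ d) (hk1 : 1 ≤ k) (hk : k < 2 * d) (Φ : (Fin k → K) → A)
    (hΦ : ∀ (x : Fin k → K) (i : Fin k) (a b : K),
      Φ (Function.update x i (a + b)) = Φ (Function.update x i a) + Φ (Function.update x i b))
    (x : Fin k → K) : ∑ c : K, Φ (fun i => c * x i) = 0 := by
  classical
  let _ : Algebra (ZMod 3) K := ZMod.algebra K 3
  have hrank : Module.finrank (ZMod 3) K = d := by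
    have h := Module.card_eq_pow_finrank (K := ZMod 3) (V := K)
    rw [hK, ZMod.card] at h
    exact (Nat.pow_right_injective (by norm_num : 2 ≤ 3) h).symm
  let b : Module.Basis (Fin d) (ZMod 3) K := Module.finBasisOfFinrankEq (ZMod 3) K hrank
  let M := toMulti Φ hΦ
  -- reindex the sum by coordinates
  rw [← Equiv.sum_comp b.equivFun.symm.toEquiv (fun c : K => Φ (fun i => c * x i))]
  have hexp : ∀ v : Fin d → ZMod 3, Φ (fun i => (b.equivFun.symm.toEquiv v) * x i)
      = ∑ r : Fin k → Fin d, (∏ i : Fin k, (v (r i)).val) • Φ (fun i => b (r i) * x i) := by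
    intro v
    have hv : ∀ i : Fin k, (b.equivFun.symm.toEquiv v) * x i = ∑ j : Fin d, (v j).val • (b j * x i) := by
      intro i
      show (b.equivFun.symm v) * x i = _
      rw [Module.Basis.equivFun_symm_apply, Finset.sum_mul]
      refine Finset.sum_congr rfl (fun j _ => ?_)
      rw [smul_mul_assoc]
      conv_lhs => rw [← ZMod.natCast_zmod_val (v j)]
      rw [Nat.cast_smul_eq_nsmul]
    have h1 : Φ (fun i => (b.equivFun.symm.toEquiv v) * x i)
        = M (fun i => ∑ j : Fin d, (v j).val • (b j * x i)) := by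
      show Φ _ = Φ _
      congr 1
      funext i
      exact hv i
    rw [h1, MultilinearMap.map_sum]
    refine Finset.sum_congr rfl (fun r _ => ?_)
    exact MultilinearMap.map_smul_univ M (fun i => (v (r i)).val) (fun i => b (r i) * x i)
  rw [Finset.sum_congr rfl (fun v _ => hexp v), Finset.sum_comm]
  refine Finset.sum_eq_zero (fun r _ => ?_)
  rw [← Finset.sum_smul]
  obtain ⟨m, hm⟩ := three_dvd_coeff d k hk r
  rw [hm, mul_comm, mul_smul, three_nsmul_eq_zero hk1 Φ hΦ, smul_zero]

end Cfsg.Agent.Lib.Helper30_S2113_INV
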