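import Mathlib

/-!
# Arithmetic for S2332 (finding 185)

`N_n = (q^n-1)/(q-1)`, `Q = q^(n-1)`.
* `phantom`: `D + 2 = N_n` implies `¬ D ∣ N_n (Q - 1) Q`  (`n ≥ 3`);
* `base_case`: `(q+2)(q-1) ∣ (q^2+q+1)(q^2-1) q^2` with `q` a prime power forces `q ∈ {2, 4}`;
* `dvd_mul_pow_of_dvd_mul_sub`: `D ∣ T (D - Q)` implies `D ∣ T Q`;
* the three carried lists.
-/

set_option autoImplicit false

namespace Cfsg.Agent.Lib.Helper30_S2332Arith

/-- `N_n (q - 1) = q^n - 1`, natural number form of the geometric sum -/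
theorem geom_mul (q n : ℕ) (_hq : 2 ≤ q) :
    (q ^ n - 1) / (q - 1) * (q - 1) = q ^ n - 1 := by
  have hdvd : q - 1 ∣ q ^ n - 1 := by simpa using Nat.sub_dvd_pow_sub_pow q 1 n
  exact Nat.div_mul_cancel hdvd

/-- `N_n = q N_(n-1) + 1` -/
theorem geom_succ (q n : ℕ) (hq : 2 ≤ q) :
    (q ^ (n + 1) - 1) / (q - 1) = q * ((q ^ n - 1) / (q - 1)) + 1 := by
  have h1 := geom_mul q n hq
  have h2 := geom_mul q (n + 1) hq
  have hq1 : 0 < q - 1 := by omega
  have hpos : 1 ≤ q ^ n := Nat.one_le_pow _ _ (by omega)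
  have hpos' : 1 ≤ q ^ (n + 1) := Nat.one_le_pow _ _ (by omega)
  apply Nat.eq_of_mul_eq_mul_right hq1
  rw [h2, add_mul, mul_assoc, h1, pow_succ]
  have : q * (q ^ n - 1) = q ^ n * q - q := by
    rw [Nat.mul_sub, mul_one, mul_comm]
  rw [this]
  have hle : q ≤ q ^ n * q := by nlinarith
  omega

/-- `N_n = N_(n-1) + q^(n-1)` -/
theorem geom_succ' (q n : ℕ) (hq : 2 ≤ q) :
    (q ^ (n + 1) - 1) / (q - 1) = (q ^ n - 1) / (q - 1) + q ^ n := by
  have h1 := geom_mul q n hq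
  have h2 := geom_mul q (n + 1) hq
  have hq1 : 0 < q - 1 := by omega
  have hpos : 1 ≤ q ^ n := Nat.one_le_pow _ _ (by omega)
  apply Nat.eq_of_mul_eq_mul_right hq1
  rw [h2, add_mul, h1, pow_succ, Nat.mul_sub, mul_one]
  have hle : q ^ n ≤ q ^ n * q := by nlinarith
  omega

theorem geom_two (q : ℕ) (hq : 2 ≤ q) : (q ^ 2 - 1) / (q - 1) = q + 1 := by
  have := geom_succ' q 1 hq
  have h1 : (q ^ 1 - 1) / (q - 1) = 1 := by
    rw [pow_one]; exact Nat.div_self (by omega)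
  rw [h1] at this
  rw [this, pow_one]; ring

theorem geom_mono (q : ℕ) (hq : 2 ≤ q) {m n : ℕ} (h : m ≤ n) :
    (q ^ m - 1) / (q - 1) ≤ (q ^ n - 1) / (q - 1) := by
  apply Nat.div_le_div_right
  have := Nat.pow_le_pow_right (show 0 < q by omega) h
  omega

/-- **The phantom degree `N_n - 2` is impossible.** -/
theorem phantom (q n D : ℕ) (hq : 2 ≤ q) (hn : 3 ≤ n)
    (hD : D + 2 = (q ^ n - 1) / (q - 1)) :
    ¬ D ∣ (q ^ n - 1) / (q - 1) * (q ^ (n - 1) - 1) * q ^ (n - 1) := by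
  obtain ⟨k, rfl⟩ : ∃ k, n = k + 1 := ⟨n - 1, by omega⟩
  have hk : 2 ≤ k := by omega
  rw [Nat.add_sub_cancel]
  set N' := (q ^ k - 1) / (q - 1) with hN'
  have hN'mul : N' * (q - 1) = q ^ k - 1 := geom_mul q k hq
  have hNsucc : (q ^ (k + 1) - 1) / (q - 1) = q * N' + 1 := geom_succ q k hq
  have hN'ge : q + 1 ≤ N' := by
    rw [← geom_two q hq]; exact geom_mono q hq hk
  rw [hNsucc] at hD ⊢
  have hQpos : 1 ≤ q ^ k := Nat.one_le_pow _ _ (by omega)
  intro hdvd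
  -- `D` is coprime to `q`
  have hcop : Nat.Coprime D q := by
    have h1 : D + 1 = q * N' := by omega
    have h2 : Nat.Coprime (D + 1) D := by
      rw [Nat.coprime_self_add_left]; exact Nat.coprime_one_left D
    rw [Nat.coprime_comm]
    apply Nat.Coprime.coprime_dvd_left (Dvd.intro N' h1.symm) h2
  have hcopQ : Nat.Coprime D (q ^ k) := Nat.Coprime.pow_right k hcop
  have h3 : D ∣ (q * N' + 1) * (q ^ k - 1) := hcopQ.dvd_of_dvd_mul_right hdvd
  -- `q N' + 1 = D + 2`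
  have h4 : D ∣ 2 * (q ^ k - 1) := by
    rw [← hD, add_mul] at h3
    exact (Nat.dvd_add_right (Dvd.intro _ rfl)).mp h3
  -- `(q - 1) D + (q - 1) = q (Q - 1)`
  have h5 : (q - 1) * D + (q - 1) = q * (q ^ k - 1) := by
    have h1 : D + 1 = q * N' := by omega
    calc (q - 1) * D + (q - 1) = (q - 1) * (D + 1) := by ring
      _ = (q - 1) * (q * N') := by rw [h1]
      _ = q * (N' * (q - 1)) := by ring
      _ = q * (q ^ k - 1) := by rw [hN'mul]
  have h6 : D ∣ 2 * (q - 1) := by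
    have h7 : D ∣ 2 * (q * (q ^ k - 1)) := by
      have : 2 * (q * (q ^ k - 1)) = q * (2 * (q ^ k - 1)) := by ring
      rw [this]; exact Dvd.dvd.mul_left h4 q
    rw [← h5, mul_add] at h7
    have h8 : D ∣ 2 * ((q - 1) * D) := ⟨2 * (q - 1), by ring⟩
    exact (Nat.dvd_add_right h8).mp h7
  have h9 : D ≤ 2 * (q - 1) := Nat.le_of_dvd (by omega) h6
  have h10 : q * (q + 1) ≤ q * N' := Nat.mul_le_mul_left q hN'ge
  have h11 : D ≤ 2 * q := by omega
  have h12 : q * (q + 1) ≤ D + 1 := by omega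
  have h13 : 2 * q ≤ q * q := Nat.mul_le_mul_right q hq
  nlinarith

/-- `D ∣ T * (D - Q)` gives `D ∣ T * Q` (integers). -/
theorem dvd_mul_of_dvd_mul_sub {D T Q : ℤ} (h : D ∣ T * (D - Q)) : D ∣ T * Q := by
  have h1 : T * Q = T * D - T * (D - Q) := by ring
  rw [h1]
  exact dvd_sub (Dvd.intro_left T rfl) h

/-- **Base case `n = 3`, `f = q - 1`.** -/
theorem base_case (q : ℕ) (hq : 2 ≤ q) (hpp : IsPrimePow q)
    (h : (q + 2) * (q - 1) ∣ (q ^ 2 + q + 1) * (q ^ 2 - 1) * q ^ 2) : q = 2 ∨ q = 4 := by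
  have hq1 : 0 < q - 1 := by omega
  have h1 : q ^ 2 - 1 = (q - 1) * (q + 1) := by
    obtain ⟨r, rfl⟩ : ∃ r, q = r + 1 := ⟨q - 1, by omega⟩
    simp only [Nat.add_sub_cancel]
    have : (r + 1) ^ 2 = r * (r + 1 + 1) + 1 := by ring
    omega
  have h2 : (q + 2) ∣ (q ^ 2 + q + 1) * (q + 1) * q ^ 2 := by
    rw [h1] at h
    have : (q ^ 2 + q + 1) * ((q - 1) * (q + 1)) * q ^ 2 =
        ((q ^ 2 + q + 1) * (q + 1) * q ^ 2) * (q - 1) := by ring
    rw [this] at h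
    exact Nat.dvd_of_mul_dvd_mul_right hq1 h
  -- reduce modulo `q + 2`
  have h3 : ((q : ℤ) + 2) ∣ 12 := by
    have h4 : ((q : ℤ) + 2) ∣ (((q : ℤ) ^ 2 + q + 1) * (q + 1) * q ^ 2) := by
      exact_mod_cast h2
    have h6 : ((q : ℤ) + 2) ∣ (((q : ℤ) ^ 2 + q + 1) * (q + 1) * q ^ 2) - (-12) := by
      refine ⟨(q : ℤ) ^ 4 + 2 * q ^ 2 - 3 * q + 6, ?_⟩
      ring
    have h7 := dvd_sub h4 h6
    have h8 : (((q : ℤ) ^ 2 + q + 1) * (q + 1) * q ^ 2) -
        ((((q : ℤ) ^ 2 + q + 1) * (q + 1) * q ^ 2) - (-12)) = -12 := by ring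
    rw [h8] at h7
    exact (dvd_neg).mp h7
  have h4 : q + 2 ∣ 12 := by exact_mod_cast h3
  have h5 : q + 2 ≤ 12 := Nat.le_of_dvd (by norm_num) h4
  have h6 : q ≤ 10 := by omega
  interval_cases q
  · left; rfl
  · exfalso; revert h4; decide
  · right; rfl
  · exfalso; revert h4; decide
  · exfalso; revert h4; decide
  · exfalso; revert h4; decide
  · exfalso; revert h4; decide
  · exfalso; revert h4; decide
  · exfalso
    -- `10` is not a prime power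
    rw [isPrimePow_nat_iff] at hpp
    obtain ⟨p, k, hp, hk, hpk⟩ := hpp
    have h2 : p ∣ 10 := by rw [← hpk]; exact dvd_pow_self p (by omega)
    have hple : p ≤ 10 := Nat.le_of_dvd (by norm_num) h2
    have h2' : (2 : ℕ) ∣ p ^ k := by rw [hpk]; norm_num
    have h5' : (5 : ℕ) ∣ p ^ k := by rw [hpk]; norm_num
    have e2 := (Nat.prime_dvd_prime_iff_eq Nat.prime_two hp).mp (Nat.Prime.dvd_of_dvd_pow Nat.prime_two h2')
    have e5 := (Nat.prime_dvd_prime_iff_eq Nat.prime_five hp).mp (Nat.Prime.dvd_of_dvd_pow Nat.prime_five h5')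
    omega

/-- carried case `(4,4)` -/
theorem carried_4_4 (f' : ℕ) (h5 : f' ≤ 5) (h1 : f' ≠ 1) (h2 : f' ≠ 2) : ¬ (f' + 78) ∣ 342720 := by
  interval_cases f' <;> omega

/-- carried case `(5,2)` -/
theorem carried_5_2 (f' : ℕ) (h7 : f' ≤ 7) (h1 : f' ≠ 1) (h2 : f' ≠ 2) : ¬ (f' + 22) ∣ 7440 := by
  interval_cases f' <;> omega

/-- carried case `(5,3)` -/
theorem carried_5_3 (f' : ℕ) (h : f' = 0 ∨ f' = 12 ∨ f' = 13) : ¬ (f' + 106) ∣ 784080 := by
  rcases h with rfl | rfl | rfl <;> decide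

end Cfsg.Agent.Lib.Helper30_S2332Arith
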