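import Mathlib

/-!
# Transvections of `SL_n(F)`: definition, conjugation invariance, and their number

`IsTransv t` : `t = 1 + u vᵀ` with `u, v ≠ 0`, `v ⬝ᵥ u = 0`.  Over a field with `q` elements there
are `(q^n - 1)(q^(n-1) - 1)/(q - 1)` of them.
-/

set_option autoImplicit false

namespace Cfsg.Agent.Lib.Helper30_S2332Transv

open Matrix

variable {F : Type*} [Field F] {n : ℕ}

/-- `t` is a transvection. -/
def IsTransv (t : Matrix.SpecialLinearGroup (Fin n) F) : Prop :=
  ∃ u v : Fin n → F, u ≠ 0 ∧ v ≠ 0 ∧ v ⬝ᵥ u = 0 ∧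
    (t : Matrix (Fin n) (Fin n) F) = 1 + Matrix.vecMulVec u v

theorem det_one_add_vecMulVec' (u v : Fin n → F) :
    (1 + Matrix.vecMulVec u v).det = 1 + v ⬝ᵥ u := by
  rw [Matrix.vecMulVec_eq Unit, Matrix.det_one_add_replicateCol_mul_replicateRow]

/-- The transvection `1 + u vᵀ`. -/
def mkTransv (u v : Fin n → F) (h : v ⬝ᵥ u = 0) : Matrix.SpecialLinearGroup (Fin n) F :=
  ⟨1 + Matrix.vecMulVec u v, by rw [det_one_add_vecMulVec', h, add_zero]⟩

theorem coe_mkTransv (u v : Fin n → F) (h : v ⬝ᵥ u = 0) :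
    ((mkTransv u v h : Matrix.SpecialLinearGroup (Fin n) F) : Matrix (Fin n) (Fin n) F) =
      1 + Matrix.vecMulVec u v := rfl

theorem isTransv_mkTransv {u v : Fin n → F} (hu : u ≠ 0) (hv : v ≠ 0) (h : v ⬝ᵥ u = 0) :
    IsTransv (mkTransv u v h) := ⟨u, v, hu, hv, h, rfl⟩

theorem coe_inv_mul_coe (g : Matrix.SpecialLinearGroup (Fin n) F) :
    ((g⁻¹ : Matrix.SpecialLinearGroup (Fin n) F) : Matrix (Fin n) (Fin n) F) *
      (g : Matrix (Fin n) (Fin n) F) = 1 := by
  rw [← Matrix.SpecialLinearGroup.coe_mul, inv_mul_cancel, Matrix.SpecialLinearGroup.coe_one]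

theorem coe_mul_coe_inv (g : Matrix.SpecialLinearGroup (Fin n) F) :
    (g : Matrix (Fin n) (Fin n) F) *
      ((g⁻¹ : Matrix.SpecialLinearGroup (Fin n) F) : Matrix (Fin n) (Fin n) F) = 1 := by
  rw [← Matrix.SpecialLinearGroup.coe_mul, mul_inv_cancel, Matrix.SpecialLinearGroup.coe_one]

theorem coe_conj_mkTransv (g : Matrix.SpecialLinearGroup (Fin n) F) (u v : Fin n → F) :
    (g : Matrix (Fin n) (Fin n) F) * (1 + Matrix.vecMulVec u v) *
      ((g⁻¹ : Matrix.SpecialLinearGroup (Fin n) F) : Matrix (Fin n) (Fin n) F) =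
    1 + Matrix.vecMulVec ((g : Matrix (Fin n) (Fin n) F) *ᵥ u)
      (v ᵥ* ((g⁻¹ : Matrix.SpecialLinearGroup (Fin n) F) : Matrix (Fin n) (Fin n) F)) := by
  rw [Matrix.mul_add, Matrix.add_mul, Matrix.mul_one, coe_mul_coe_inv, Matrix.mul_vecMulVec,
    Matrix.vecMulVec_mul]

theorem IsTransv.conj {t : Matrix.SpecialLinearGroup (Fin n) F} (ht : IsTransv t)
    (g : Matrix.SpecialLinearGroup (Fin n) F) : IsTransv (g * t * g⁻¹) := by
  obtain ⟨u, v, hu, hv, huv, ht⟩ := ht
  refine ⟨(g : Matrix (Fin n) (Fin n) F) *ᵥ u,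
    v ᵥ* ((g⁻¹ : Matrix.SpecialLinearGroup (Fin n) F) : Matrix (Fin n) (Fin n) F), ?_, ?_, ?_, ?_⟩
  · intro h
    apply hu
    have := congrArg (fun w => ((g⁻¹ : Matrix.SpecialLinearGroup (Fin n) F) :
      Matrix (Fin n) (Fin n) F) *ᵥ w) h
    simp only [Matrix.mulVec_mulVec, Matrix.mulVec_zero] at this
    rwa [coe_inv_mul_coe, Matrix.one_mulVec] at this
  · intro h
    apply hv
    have := congrArg (fun w => w ᵥ* (g : Matrix (Fin n) (Fin n) F)) h
    simp only [Matrix.vecMul_vecMul, Matrix.zero_vecMul] at this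
    rwa [coe_inv_mul_coe, Matrix.vecMul_one] at this
  · rw [Matrix.dotProduct_mulVec, Matrix.vecMul_vecMul, coe_inv_mul_coe, Matrix.vecMul_one, huv]
  · rw [Matrix.SpecialLinearGroup.coe_mul, Matrix.SpecialLinearGroup.coe_mul, ht,
      coe_conj_mkTransv]

theorem IsTransv.ne_one {t : Matrix.SpecialLinearGroup (Fin n) F} (ht : IsTransv t) : t ≠ 1 := by
  obtain ⟨u, v, hu, hv, -, ht⟩ := ht
  rintro rfl
  rw [Matrix.SpecialLinearGroup.coe_one, left_eq_add, Matrix.vecMulVec_eq_zero] at ht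
  rcases ht with h | h
  · exact hu h
  · exact hv h

/-! ### Counting -/

/-- the pairs `(u, v)` of nonzero vectors with `v ⬝ᵥ u = 0` -/
def Pairs (F : Type*) [Field F] (n : ℕ) : Type _ :=
  {p : (Fin n → F) × (Fin n → F) // p.1 ≠ 0 ∧ p.2 ≠ 0 ∧ p.2 ⬝ᵥ p.1 = 0}

/-- the linear form `v ↦ v ⬝ᵥ u` -/
def dotForm (u : Fin n → F) : Module.Dual F (Fin n → F) where
  toFun v := v ⬝ᵥ u
  map_add' v w := add_dotProduct v w u
  map_smul' c v := by simp [smul_dotProduct]

theorem dotForm_apply (u v : Fin n → F) : dotForm u v = v ⬝ᵥ u := rfl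

theorem dotForm_ne_zero {u : Fin n → F} (hu : u ≠ 0) : dotForm u ≠ 0 := by
  intro h
  apply hu
  funext i
  have := congrArg (fun f => f (Pi.single i 1)) h
  simpa [dotForm_apply] using this

theorem card_ker_dotForm [Finite F] {u : Fin n → F} (hu : u ≠ 0) :
    Nat.card {v : Fin n → F // v ⬝ᵥ u = 0} = Nat.card F ^ (n - 1) := by
  have h1 := Module.Dual.finrank_ker_add_one_of_ne_zero (dotForm_ne_zero hu)
  rw [Module.finrank_fin_fun] at h1
  have h2 : Nat.card (LinearMap.ker (dotForm u)) = Nat.card F ^ (n - 1) := by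
    rw [Module.natCard_eq_pow_finrank (K := F)]
    congr 1
    omega
  rw [← h2]
  exact Nat.card_congr (Equiv.subtypeEquivRight (fun v => by rw [LinearMap.mem_ker, dotForm_apply]))

theorem card_ker_dotForm_ne [Finite F] {u : Fin n → F} (hu : u ≠ 0) :
    Nat.card {v : Fin n → F // v ≠ 0 ∧ v ⬝ᵥ u = 0} = Nat.card F ^ (n - 1) - 1 := by
  classical
  have := Fintype.ofFinite F
  have h := card_ker_dotForm hu
  rw [Nat.card_eq_fintype_card] at h ⊢
  rw [← h]
  have h3 : Fintype.card {v : Fin n → F // v ≠ 0 ∧ v ⬝ᵥ u = 0} =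
      Fintype.card {w : {v : Fin n → F // v ⬝ᵥ u = 0} // w ≠ ⟨0, by simp⟩} := by
    refine Fintype.card_congr ⟨fun v => ⟨⟨v.1, v.2.2⟩, fun h => v.2.1 (congrArg Subtype.val h)⟩,
      fun w => ⟨w.1.1, fun h => w.2 (Subtype.ext h), w.1.2⟩, fun _ => rfl, fun _ => rfl⟩
  rw [h3, Fintype.card_subtype_compl, Fintype.card_subtype_eq]

theorem card_pairs [Finite F] :
    Nat.card (Pairs F n) = (Nat.card F ^ n - 1) * (Nat.card F ^ (n - 1) - 1) := by
  classical
  have := Fintype.ofFinite F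
  have e : Pairs F n ≃ Σ u : {u : Fin n → F // u ≠ 0}, {v : Fin n → F // v ≠ 0 ∧ v ⬝ᵥ u.1 = 0} :=
    ⟨fun p => ⟨⟨p.1.1, p.2.1⟩, ⟨p.1.2, p.2.2.1, p.2.2.2⟩⟩,
      fun s => ⟨(s.1.1, s.2.1), s.1.2, s.2.2.1, s.2.2.2⟩, fun _ => rfl, fun _ => rfl⟩
  rw [Nat.card_congr e, Nat.card_sigma]
  simp only [fun u : {u : Fin n → F // u ≠ 0} => card_ker_dotForm_ne u.2]
  rw [Finset.sum_const, Finset.card_univ, smul_eq_mul]
  congr 1
  rw [Fintype.card_subtype_compl, Fintype.card_subtype_eq, Fintype.card_fun, Fintype.card_fin,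
    Nat.card_eq_fintype_card]

/-- two rank-one matrices agree iff the factors agree up to a scalar -/
theorem vecMulVec_eq_iff {u v u' v' : Fin n → F} (hu : u ≠ 0) (hv : v ≠ 0)
    (h : Matrix.vecMulVec u' v' = Matrix.vecMulVec u v) :
    ∃ c : Fˣ, u' = (c : F) • u ∧ v' = ((c⁻¹ : Fˣ) : F) • v := by
  obtain ⟨i, hi⟩ : ∃ i, u i ≠ 0 := by
    by_contra hcon; push Not at hcon; exact hu (funext hcon)
  obtain ⟨j, hj⟩ : ∃ j, v j ≠ 0 := by
    by_contra hcon; push Not at hcon; exact hv (funext hcon)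
  have hij : ∀ a b, u' a * v' b = u a * v b := fun a b => by
    have := congrFun (congrFun h a) b
    simpa [Matrix.vecMulVec_apply] using this
  have hv'j : v' j ≠ 0 := by
    intro h0
    have := hij i j
    rw [h0, mul_zero] at this
    exact mul_ne_zero hi hj this.symm
  have hu'i : u' i ≠ 0 := by
    intro h0
    have := hij i j
    rw [h0, zero_mul] at this
    exact mul_ne_zero hi hj this.symm
  -- c = v j / v' j
  refine ⟨Units.mk0 (v j / v' j) (div_ne_zero hj hv'j), ?_, ?_⟩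
  · funext a
    have := hij a j
    simp only [Units.val_mk0, Pi.smul_apply, smul_eq_mul]
    field_simp
    linear_combination this
  · funext b
    simp only [Units.val_inv_eq_inv_val, Units.val_mk0, Pi.smul_apply, smul_eq_mul, inv_div]
    have h1 := hij i b
    have h2 := hij i j
    field_simp
    have : u' i * (v' b * v j) = u' i * (v' j * v b) := by
      linear_combination v j * h1 - v b * h2
    exact mul_left_cancel₀ hu'i this

/-- the transvection attached to a pair -/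
def pairToTransv (p : Pairs F n) : {t : Matrix.SpecialLinearGroup (Fin n) F // IsTransv t} :=
  ⟨mkTransv p.1.1 p.1.2 p.2.2.2, isTransv_mkTransv p.2.1 p.2.2.1 p.2.2.2⟩

/-- the scalar action on pairs -/
def unitSmulPair (c : Fˣ) (p : Pairs F n) : Pairs F n :=
  ⟨((c : F) • p.1.1, ((c⁻¹ : Fˣ) : F) • p.1.2),
    smul_ne_zero c.ne_zero p.2.1, smul_ne_zero (c⁻¹).ne_zero p.2.2.1, by
      show (((c⁻¹ : Fˣ) : F) • p.1.2) ⬝ᵥ ((c : F) • p.1.1) = 0
      rw [smul_dotProduct, dotProduct_smul, p.2.2.2, smul_zero, smul_zero]⟩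

theorem pairToTransv_unitSmulPair (c : Fˣ) (p : Pairs F n) :
    pairToTransv (unitSmulPair c p) = pairToTransv p := by
  apply Subtype.ext
  apply Subtype.ext
  show 1 + Matrix.vecMulVec ((c : F) • p.1.1) (((c⁻¹ : Fˣ) : F) • p.1.2) =
    1 + Matrix.vecMulVec p.1.1 p.1.2
  congr 1
  ext a b
  simp only [Matrix.vecMulVec_apply, Pi.smul_apply, smul_eq_mul, Units.val_inv_eq_inv_val]
  have := c.ne_zero
  field_simp

theorem fiber_card [Finite F] (t : {t : Matrix.SpecialLinearGroup (Fin n) F // IsTransv t}) :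
    Nat.card {p : Pairs F n // pairToTransv p = t} = Nat.card F - 1 := by
  classical
  have := Fintype.ofFinite F
  obtain ⟨t, u, v, hu, hv, huv, ht⟩ := t
  let p0 : Pairs F n := ⟨(u, v), hu, hv, huv⟩
  have hp0 : pairToTransv p0 = ⟨t, u, v, hu, hv, huv, ht⟩ := by
    apply Subtype.ext
    apply Subtype.ext
    exact ht.symm
  have e : Fˣ ≃ {p : Pairs F n // pairToTransv p = ⟨t, u, v, hu, hv, huv, ht⟩} := by
    refine Equiv.ofBijective
      (fun c => ⟨unitSmulPair c p0, by rw [pairToTransv_unitSmulPair, hp0]⟩) ⟨?_, ?_⟩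
    · intro c d hcd
      have h1 : (c : F) • u = (d : F) • u := by
        have := congrArg (fun x => x.1.1.1) hcd
        exact this
      have h2 : ((c : F) - (d : F)) • u = 0 := by rw [sub_smul, h1, sub_self]
      rcases smul_eq_zero.mp h2 with h3 | h3
      · exact Units.ext (sub_eq_zero.mp h3)
      · exact absurd h3 hu
    · rintro ⟨⟨⟨u', v'⟩, hu', hv', huv'⟩, hp⟩
      have h1 : (1 : Matrix (Fin n) (Fin n) F) + Matrix.vecMulVec u' v' = t := by
        have := congrArg (fun x => ((x.1 : Matrix.SpecialLinearGroup (Fin n) F) :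
          Matrix (Fin n) (Fin n) F)) hp
        exact this
      have h2 : Matrix.vecMulVec u' v' = Matrix.vecMulVec u v := by
        rw [ht] at h1
        exact add_left_cancel h1
      obtain ⟨c, hc1, hc2⟩ := vecMulVec_eq_iff hu hv h2
      refine ⟨c, ?_⟩
      apply Subtype.ext
      apply Subtype.ext
      show ((c : F) • u, ((c⁻¹ : Fˣ) : F) • v) = (u', v')
      rw [hc1, hc2]
  rw [← Nat.card_congr e, Nat.card_eq_fintype_card, Fintype.card_units, Nat.card_eq_fintype_card]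

/-- **The number of transvections**: `#T * (q - 1) = (q^n - 1)(q^(n-1) - 1)`. -/
theorem card_transv_mul [Finite F] :
    Nat.card {t : Matrix.SpecialLinearGroup (Fin n) F // IsTransv t} * (Nat.card F - 1) =
      (Nat.card F ^ n - 1) * (Nat.card F ^ (n - 1) - 1) := by
  classical
  have := Fintype.ofFinite F
  have : Finite (Pairs F n) := by unfold Pairs; infer_instance
  rw [← card_pairs, ← Nat.card_congr (Equiv.sigmaFiberEquiv (pairToTransv (F := F) (n := n))),
    Nat.card_sigma]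
  simp only [fiber_card]
  rw [Finset.sum_const, Finset.card_univ, smul_eq_mul, Nat.card_eq_fintype_card]

end Cfsg.Agent.Lib.Helper30_S2332Transv
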