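import Cfsg.Agent.Lib.Helper43_Transvection

set_option autoImplicit false

/-!
Rank-one square-zero maps are `x ↦ φ x • a` with `φ a = 0`, and in dimension at least three the
special linear group is transitive on the pairs `(a, φ)`.
-/

namespace Cfsg.Agent.Lib.Helper43_Transvection

open Module

variable {F : Type*} [Field F]
variable {V : Type*} [AddCommGroup V] [Module F V] [FiniteDimensional F V]

/-- A functional taking the value one at a given non-zero vector. -/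
theorem exists_dual_apply_eq_one {a : V} (ha : a ≠ 0) : ∃ ξ : Module.Dual F V, ξ a = 1 := by
  have hnot : a ∉ (⊥ : Submodule F V) := by simpa using ha
  obtain ⟨f, hf, -⟩ := Submodule.exists_dual_map_eq_bot_of_notMem hnot inferInstance
  exact ⟨(f a)⁻¹ • f, by simp [inv_mul_cancel₀ hf]⟩

/-- A rank-one endomorphism of square zero is `x ↦ φ x • a` with `a ≠ 0`, `φ ≠ 0`, `φ a = 0`. -/
theorem exists_vec_dual_of_rank_one (μ : Module.End F V)
    (h1 : finrank F (LinearMap.range μ) = 1) (h2 : ∀ x, μ (μ x) = 0) :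
    ∃ (a : V) (φ : Module.Dual F V), a ≠ 0 ∧ φ ≠ 0 ∧ φ a = 0 ∧ ∀ x, μ x = φ x • a := by
  obtain ⟨⟨a, ha_mem⟩, ha0, hspan⟩ := finrank_eq_one_iff'.mp h1
  have ha : a ≠ 0 := by
    intro h; apply ha0; exact Subtype.ext h
  obtain ⟨ξ, hξ⟩ := exists_dual_apply_eq_one (F := F) ha
  let φ : Module.Dual F V := ξ.comp μ
  have hμ : ∀ x, μ x = φ x • a := by
    intro x
    obtain ⟨c, hc⟩ := hspan ⟨μ x, LinearMap.mem_range_self μ x⟩
    have hc' : c • a = μ x := congrArg Subtype.val hc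
    have : φ x = c := by
      show ξ (μ x) = c
      rw [← hc', map_smul, hξ, smul_eq_mul, mul_one]
    rw [this, hc']
  obtain ⟨x₀, hx₀⟩ := ha_mem
  have hφx₀ : φ x₀ = 1 := by
    have := hμ x₀
    rw [hx₀] at this
    have h3 : (φ x₀ - 1) • a = 0 := by rw [sub_smul, one_smul, ← this, sub_self]
    rcases smul_eq_zero.mp h3 with h | h
    · exact sub_eq_zero.mp h
    · exact absurd h ha
  refine ⟨a, φ, ha, ?_, ?_, hμ⟩
  · intro h0
    rw [h0] at hφx₀
    simp at hφx₀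
  · show ξ (μ a) = 0
    rw [← hx₀, h2, map_zero]

/-- In dimension at least three, the special linear group is transitive on pairs `(a, φ)` with
`a ≠ 0`, `φ ≠ 0`, `φ a = 0`. -/
theorem exists_det_one_map (hV : 3 ≤ finrank F V) (a a' : V) (φ φ' : Module.Dual F V)
    (ha : a ≠ 0) (ha' : a' ≠ 0) (hφ : φ ≠ 0) (hφ' : φ' ≠ 0) (hφa : φ a = 0) (hφa' : φ' a' = 0) :
    ∃ G : V →ₗ[F] V, LinearMap.det G = 1 ∧ G a = a' ∧ ∀ x, φ' (G x) = φ x := by
  -- vectors with φ c = 1
  obtain ⟨x, hx⟩ : ∃ x, φ x ≠ 0 := by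
    by_contra h
    push Not at h
    exact hφ (LinearMap.ext h)
  obtain ⟨x', hx'⟩ : ∃ x, φ' x ≠ 0 := by
    by_contra h
    push Not at h
    exact hφ' (LinearMap.ext h)
  have hc : φ ((φ x)⁻¹ • x) = 1 := by simp [inv_mul_cancel₀ hx]
  have hc' : φ' ((φ' x')⁻¹ • x') = 1 := by simp [inv_mul_cancel₀ hx']
  have hH := Module.Dual.finrank_ker_add_one_of_ne_zero hφ
  have hH' := Module.Dual.finrank_ker_add_one_of_ne_zero hφ'
  have haH : (⟨a, hφa⟩ : LinearMap.ker φ) ≠ 0 := by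
    intro h; exact ha (congrArg Subtype.val h)
  have haH' : (⟨a', hφa'⟩ : LinearMap.ker φ') ≠ 0 := by
    intro h; exact ha' (congrArg Subtype.val h)
  obtain ⟨e, he⟩ := exists_equiv_apply_eq' (F := F) (by omega) haH haH'
  obtain ⟨g₁, hg₁H, hg₁φ⟩ := exists_equiv_extend φ φ' _ _ hc hc' e
  have hg₁a : g₁ a = a' := by
    have := hg₁H ⟨a, hφa⟩
    rw [he] at this
    exact this
  -- fix the determinant
  set d : F := LinearMap.det (g₁ : V →ₗ[F] V) with hd
  have hd0 : d ≠ 0 := (LinearEquiv.isUnit_det' g₁).ne_zero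
  have hnotle : ¬ (LinearMap.ker φ' ≤ Submodule.span F {a'}) := by
    intro hle
    have := Submodule.finrank_mono hle
    rw [finrank_span_singleton ha'] at this
    omega
  obtain ⟨h₂, hh₂H, hh₂S⟩ := SetLike.not_le_iff_exists.mp hnotle
  obtain ⟨ψ₀, hψ₀, hψ₀S⟩ := Submodule.exists_dual_map_eq_bot_of_notMem hh₂S inferInstance
  have hψ₀a : ψ₀ a' = 0 := by
    have : ψ₀ a' ∈ (Submodule.span F {a'}).map ψ₀ := ⟨a', Submodule.mem_span_singleton_self a', rfl⟩
    rw [hψ₀S] at this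
    exact (Submodule.mem_bot F).mp this
  let ψ : Module.Dual F V := (ψ₀ h₂)⁻¹ • ψ₀
  have hψh : ψ h₂ = 1 := by simp [ψ, inv_mul_cancel₀ hψ₀]
  have hψa : ψ a' = 0 := by simp [ψ, hψ₀a]
  let D : V →ₗ[F] V := LinearMap.transvection ((d⁻¹ - 1) • ψ) h₂
  have hDdet : LinearMap.det D = d⁻¹ := by
    simp [D, hψh]
  refine ⟨D ∘ₗ (g₁ : V →ₗ[F] V), ?_, ?_, ?_⟩
  · rw [LinearMap.det_comp, hDdet, ← hd, inv_mul_cancel₀ hd0]
  · rw [LinearMap.comp_apply, LinearEquiv.coe_coe, hg₁a]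
    simp [D, LinearMap.transvection.apply, hψa]
  · intro y
    rw [LinearMap.comp_apply, LinearEquiv.coe_coe]
    simp only [D, LinearMap.transvection.apply, map_add, map_smul]
    have : φ' h₂ = 0 := hh₂H
    rw [this, smul_zero, add_zero, hg₁φ]

end Cfsg.Agent.Lib.Helper43_Transvection
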