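import Mathlib
import Cfsg.Agent.Lib.Helper43_Transvection2
import Cfsg.Agent.Lib.Helper30_S2332Transv

/-!
# All transvections of `SL_n(F)`, `n ≥ 3`, are conjugate

Hence a class function is constant on the transvections.
-/

set_option autoImplicit false

namespace Cfsg.Agent.Lib.Helper30_S2332Conj

open Matrix Module
open Cfsg.Agent.Lib.Helper30_S2332Transv

variable {F : Type*} [Field F] {n : ℕ}

/-- the linear form `x ↦ v ⬝ᵥ x` -/
def rowForm (v : Fin n → F) : Module.Dual F (Fin n → F) where
  toFun x := v ⬝ᵥ x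
  map_add' x y := dotProduct_add v x y
  map_smul' c x := by simp [dotProduct_smul]

theorem rowForm_apply (v x : Fin n → F) : rowForm v x = v ⬝ᵥ x := rfl

theorem rowForm_ne_zero {v : Fin n → F} (hv : v ≠ 0) : rowForm v ≠ 0 := by
  intro h
  apply hv
  funext i
  have := congrArg (fun f => f (Pi.single i 1)) h
  simpa [rowForm_apply] using this

/-- the matrix equation expressing conjugacy of two transvections -/
theorem mul_transv_eq (M : Matrix (Fin n) (Fin n) F) (u v u' v' : Fin n → F)
    (hu : M *ᵥ u = u') (hv : v' ᵥ* M = v) :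
    M * (1 + vecMulVec u v) = (1 + vecMulVec u' v') * M := by
  rw [Matrix.mul_add, Matrix.add_mul, Matrix.mul_one, Matrix.one_mul, Matrix.mul_vecMulVec,
    Matrix.vecMulVec_mul, hu, hv]

/-- **All transvections are conjugate** in `SL_n(F)` for `n ≥ 3`. -/
theorem isConj_of_isTransv (hn : 3 ≤ n) {s t : Matrix.SpecialLinearGroup (Fin n) F}
    (hs : IsTransv s) (ht : IsTransv t) : IsConj s t := by
  obtain ⟨u, v, hu, hv, huv, hs⟩ := hs
  obtain ⟨u', v', hu', hv', huv', ht⟩ := ht
  have hV : 3 ≤ finrank F (Fin n → F) := by rw [Module.finrank_fin_fun]; exact hn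
  obtain ⟨G, hdet, hGu, hGφ⟩ := Cfsg.Agent.Lib.Helper43_Transvection.exists_det_one_map hV u u'
    (rowForm v) (rowForm v') hu hu' (rowForm_ne_zero hv) (rowForm_ne_zero hv') huv huv'
  set M : Matrix (Fin n) (Fin n) F := LinearMap.toMatrix' G with hM
  have hMdet : M.det = 1 := by rw [hM, LinearMap.det_toMatrix', hdet]
  have hMv : ∀ x, M *ᵥ x = G x := fun x => by
    rw [hM, LinearMap.toMatrix'_mulVec]
  have h1 : M *ᵥ u = u' := by rw [hMv, hGu]
  have h2 : v' ᵥ* M = v := by
    funext i
    have := hGφ (Pi.single i 1)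
    rw [rowForm_apply, rowForm_apply, ← hMv, Matrix.dotProduct_mulVec] at this
    simpa using this
  rw [isConj_iff]
  set g : Matrix.SpecialLinearGroup (Fin n) F := ⟨M, hMdet⟩ with hg
  refine ⟨g, ?_⟩
  rw [mul_inv_eq_iff_eq_mul]
  apply Subtype.ext
  rw [Matrix.SpecialLinearGroup.coe_mul, Matrix.SpecialLinearGroup.coe_mul, hs, ht]
  exact mul_transv_eq M u v u' v' h1 h2

/-- a function invariant under conjugation is constant on the transvections -/
theorem const_on_transv (hn : 3 ≤ n) {α : Type*} (χ : Matrix.SpecialLinearGroup (Fin n) F → α)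
    (hχ : ∀ g h, χ (h * g * h⁻¹) = χ g) {s t : Matrix.SpecialLinearGroup (Fin n) F}
    (hs : IsTransv s) (ht : IsTransv t) : χ s = χ t := by
  obtain ⟨c, hc⟩ := isConj_iff.mp (isConj_of_isTransv hn hs ht)
  rw [← hc, hχ]

/-- the elementary transvections are transvections -/
theorem isTransv_transvection {i j : Fin n} (hij : i ≠ j) {c : F} (hc : c ≠ 0) :
    IsTransv (Matrix.SpecialLinearGroup.transvection hij c) := by
  refine ⟨Pi.single i c, Pi.single j 1, ?_, ?_, ?_, ?_⟩
  · intro h
    have := congrFun h i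
    simp at this
    exact hc this
  · intro h
    have := congrFun h j
    simp at this
  · rw [single_dotProduct, Pi.single_apply, if_neg hij.symm]
    simp
  · ext a b
    rw [Matrix.SpecialLinearGroup.transvection_coe]
    simp only [Matrix.add_apply, Matrix.vecMulVec_apply, Pi.single_apply, Matrix.single_apply]
    by_cases ha : a = i <;> by_cases hb : b = j
    · simp [ha, hb]
    · simp [ha, hb, Ne.symm hb]
    · simp [ha, hb, Ne.symm ha]
    · simp [ha, hb, Ne.symm ha]

end Cfsg.Agent.Lib.Helper30_S2332Conj
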