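import Mathlib
import Cfsg.Agent.Lib.Helper77_SLnDefs
import Cfsg.Prelude.Def_Characters
import Cfsg.Agent.Lib.Helper30_S2332T4G

/-!
# S2332 packages LINE5, LINE4, LINE2: the common core

A root element `emb (rootEl j k t)` with `v k = 0` is a commutator `g h g⁻¹ h⁻¹` of two elements
of `S(e₀, ext0 v)` (`Helper30_S2332T4G.exists_commutator`), both of which preserve the weight space
`wsp ρ ψ v`; on a line a commutator acts trivially.
-/

set_option autoImplicit false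
set_option linter.unusedSectionVars false
open Matrix Cfsg.Agent.Lib.Helper5_Transv Cfsg.Agent.Lib.Helper77_SLnDefs

namespace Cfsg.Agent.Lib.Helper30_S2332LineCore

open Cfsg.Agent.Lib.Helper30_S2332T4G

variable {F : Type*} [Field F] [Fintype F] [DecidableEq F] {κ : Type} [Fintype κ] [DecidableEq κ]
  {V : Type} [AddCommGroup V] [Module ℂ V] [FiniteDimensional ℂ V]

/-- a commutator acts trivially on an invariant line -/
theorem comm_fixes_line' {G : Type*} [Group G] {X : Type*} [AddCommGroup X] [Module ℂ X]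
    (ρ : Representation ℂ G X) (L : Submodule ℂ X) (hL : Module.finrank ℂ L = 1) (a b : G)
    (ha : ∀ w ∈ L, ρ a w ∈ L) (hb : ∀ w ∈ L, ρ b w ∈ L) (w : X) (hw : w ∈ L) :
    ρ (a * b * a⁻¹ * b⁻¹) w = w := by
  obtain ⟨⟨w0, hw0L⟩, hw0, hspan⟩ := finrank_eq_one_iff'.mp hL
  have hw0' : w0 ≠ 0 := fun h => hw0 (Subtype.ext h)
  have hsc : ∀ x ∈ L, ∃ c : ℂ, c • w0 = x := fun x hx => by
    obtain ⟨c, hc⟩ := hspan ⟨x, hx⟩
    exact ⟨c, congrArg Subtype.val hc⟩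
  obtain ⟨α, hα⟩ := hsc _ (ha w0 hw0L)
  obtain ⟨β, hβ⟩ := hsc _ (hb w0 hw0L)
  have hinv : ∀ (g : G) (γ : ℂ), γ • w0 = ρ g w0 → γ ≠ 0 ∧ ρ g⁻¹ w0 = γ⁻¹ • w0 := by
    intro g γ hγ
    have h1 : ρ g⁻¹ (ρ g w0) = w0 := by
      rw [← Module.End.mul_apply, ← map_mul, inv_mul_cancel, map_one, Module.End.one_apply]
    have hγ0 : γ ≠ 0 := by
      rintro rfl
      rw [zero_smul] at hγ
      rw [← hγ, map_zero] at h1
      exact hw0' h1.symm
    refine ⟨hγ0, ?_⟩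
    rw [← hγ, map_smul] at h1
    calc ρ g⁻¹ w0 = γ⁻¹ • (γ • ρ g⁻¹ w0) := by rw [smul_smul, inv_mul_cancel₀ hγ0, one_smul]
      _ = γ⁻¹ • w0 := by rw [h1]
  obtain ⟨hα0, hαi⟩ := hinv a α hα
  obtain ⟨hβ0, hβi⟩ := hinv b β hβ
  obtain ⟨c, rfl⟩ := hsc w hw
  rw [map_smul]
  congr 1
  have e2 : ρ a⁻¹ (β⁻¹ • w0) = (β⁻¹ * α⁻¹) • w0 := by rw [map_smul, hαi, smul_smul]
  have e3 : ρ b ((β⁻¹ * α⁻¹) • w0) = (β⁻¹ * α⁻¹ * β) • w0 := by
    rw [map_smul, ← hβ, smul_smul]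
  have e4 : ρ a ((β⁻¹ * α⁻¹ * β) • w0) = (β⁻¹ * α⁻¹ * β * α) • w0 := by
    rw [map_smul, ← hα, smul_smul]
  rw [map_mul, map_mul, map_mul, Module.End.mul_apply, Module.End.mul_apply, Module.End.mul_apply,
    hβi, e2, e3, e4]
  have : β⁻¹ * α⁻¹ * β * α = 1 := by field_simp
  rw [this, one_smul]

/-- `S(e₀, ext0 v)` preserves the weight space of label `v` -/
theorem wsp_of_inS (ρ : Representation ℂ (Matrix.SpecialLinearGroup (Unit ⊕ κ) F) V)
    (ψ : AddChar F ℂ) (v : κ → F) (g : Matrix.SpecialLinearGroup (Unit ⊕ κ) F)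
    (hg : InS (e0 : Unit ⊕ κ → F) (ext0 v) g) (w : V) (hw : w ∈ wsp ρ ψ v) :
    ρ g w ∈ wsp ρ ψ v := by
  obtain ⟨α, β, hα, ha, hy⟩ := hg
  intro u
  -- the conjugate `g⁻¹ * xu u * g`
  set u' : κ → F := fun i => α⁻¹ * (ext0 u ᵥ* g.1) (Sum.inr i) with hu'
  have hinl : (ext0 u ᵥ* g.1) (Sum.inl ()) = 0 := by
    have h1 : (ext0 u ᵥ* g.1) (Sum.inl ()) = ext0 u ⬝ᵥ (g.1 *ᵥ (e0 : Unit ⊕ κ → F)) := by
      rw [Matrix.dotProduct_mulVec]
      have : (e0 : Unit ⊕ κ → F) = Pi.single (Sum.inl ()) 1 := by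
        funext i
        cases i <;> simp [e0]
      rw [this, dotProduct_single, mul_one]
    rw [h1, ha, dotProduct_smul, ext0_dot_e0, smul_zero]
  have hext : α⁻¹ • (ext0 u ᵥ* g.1) = ext0 u' := by
    funext i
    cases i with
    | inl x =>
      cases x
      simp only [Pi.smul_apply, smul_eq_mul, hinl, mul_zero]
      simp [ext0]
    | inr i => simp [ext0, hu']
  have hext' : ext0 u ᵥ* g.1 = α • ext0 u' := by
    rw [← hext, smul_smul, mul_inv_cancel₀ hα, one_smul]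
  have h1 : xu u * g = g * xu u' := by
    apply Subtype.ext
    rw [Matrix.SpecialLinearGroup.coe_mul, Matrix.SpecialLinearGroup.coe_mul]
    unfold xu
    rw [tvS_coe, tvS_coe]
    unfold tv
    rw [Matrix.add_mul, Matrix.one_mul, Matrix.mul_add, Matrix.mul_one, one_smul, one_smul,
      Matrix.vecMulVec_mul, Matrix.mul_vecMulVec, ha, hext', Matrix.smul_vecMulVec,
      Matrix.vecMulVec_smul]
  have hdot : u' ⬝ᵥ v = u ⬝ᵥ v := by
    rw [← ext0_dot_ext0, ← hext, smul_dotProduct, ← Matrix.dotProduct_mulVec, hy,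
      dotProduct_add, dotProduct_smul, dotProduct_smul, ext0_dot_ext0, ext0_dot_e0]
    simp only [smul_eq_mul, mul_zero, add_zero]
    rw [← mul_assoc, inv_mul_cancel₀ hα, one_mul]
  have h3 : ρ (xu u) (ρ g w) = ρ g (ρ (xu u') w) := by
    rw [← Module.End.mul_apply, ← map_mul, h1, map_mul, Module.End.mul_apply]
  rw [h3, hw u', map_smul, hdot]

/-- the embedded root element as a `mkTransv` -/
theorem emb_rootEl_eq (j k : κ) (hjk : j ≠ k) (t : F)
    (h : (ext0 (e k : κ → F) : Unit ⊕ κ → F) ⬝ᵥ (t • ext0 (e j : κ → F)) = 0) :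
    emb (rootEl j k hjk t) = mkTransv (t • ext0 (e j : κ → F)) (ext0 (e k : κ → F)) h := by
  apply Subtype.ext
  rw [emb_coe, coe_mkTransv]
  unfold rootEl
  rw [tvS_coe]
  unfold tv
  ext a b
  rcases a with a | a <;> rcases b with b | b <;>
    simp [Matrix.fromBlocks, Matrix.vecMulVec_apply, ext0, Matrix.one_apply]

/-- **Common core of LINE5, LINE4, LINE2.** -/
theorem line_fixed_core (hκ : 2 ≤ Fintype.card κ)
    (h3 : Fintype.card κ = 2 → Fintype.card F ≠ 2 ∧ Fintype.card F ≠ 4)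
    (h4 : Fintype.card κ = 3 → Fintype.card F ≠ 2 ∧ Fintype.card F ≠ 3)
    (ρ : Representation ℂ (Matrix.SpecialLinearGroup (Unit ⊕ κ) F) V) (ψ : AddChar F ℂ)
    (j k : κ) (hjk : j ≠ k) (t : F) (v : κ → F) (hv : v k = 0)
    (h1 : Module.finrank ℂ (wsp ρ ψ v) = 1) (w : V) (hw : w ∈ wsp ρ ψ v) :
    ρ (emb (rootEl j k hjk t)) w = w := by
  have hcard : Fintype.card (Unit ⊕ κ) = Fintype.card κ + 1 := by
    rw [Fintype.card_sum, Fintype.card_unit, add_comm]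
  have hwne : (ext0 (e k : κ → F) : Unit ⊕ κ → F) ≠ 0 := by
    intro h
    have := congrFun h (Sum.inr k)
    simp [ext0, e] at this
  have hwb : (ext0 (e k : κ → F) : Unit ⊕ κ → F) ⬝ᵥ (t • ext0 (e j : κ → F)) = 0 := by
    rw [dotProduct_smul, ext0_dot_ext0, e_dot]
    simp [e, hjk.symm]
  have hwa : (ext0 (e k : κ → F) : Unit ⊕ κ → F) ⬝ᵥ (e0 : Unit ⊕ κ → F) = 0 := ext0_dot_e0 _
  have hwy : (ext0 (e k : κ → F) : Unit ⊕ κ → F) ⬝ᵥ ext0 v = 0 := by
    rw [ext0_dot_ext0, e_dot, hv]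
  obtain ⟨g, h, hg, hh, hcomm⟩ := exists_commutator (ι := Unit ⊕ κ) (F := F) (by omega)
    (fun h => h3 (by omega)) (fun h => h4 (by omega))
    (e0 : Unit ⊕ κ → F) (ext0 v) (t • ext0 (e j : κ → F)) (ext0 (e k : κ → F)) hwne hwb hwa hwy
  rw [emb_rootEl_eq j k hjk t hwb, hcomm]
  exact comm_fixes_line' ρ (wsp ρ ψ v) h1 g h (fun x hx => wsp_of_inS ρ ψ v g hg x hx)
    (fun x hx => wsp_of_inS ρ ψ v h hh x hx) w hw

end Cfsg.Agent.Lib.Helper30_S2332LineCore
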