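import Mathlib
import Cfsg.Prelude.Def_Characters
import Cfsg.Agent.Lib.Helper3_CharComplete
import Cfsg.Agent.Lib.Helper75_CharArith

/-!
# The centraliser algebra of a representation (helper81)

For a complex representation `P` of a finite group on a finite-dimensional space `V`:
the algebra of endomorphisms commuting with `P` is commutative iff the character of `P` is
multiplicity-free.
-/

set_option autoImplicit false

namespace Cfsg.Agent.Lib.Helper81_Centralizer

open Representation
open scoped ComplexConjugate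
open Cfsg.Agent.Lib.Helper3_CharBridge Cfsg.Agent.Lib.Helper3_CharOrtho
  Cfsg.Agent.Lib.Helper3_CharComplete Cfsg.Agent.Lib.Helper75_CharArith

variable {G : Type*} [Group G] [Fintype G]
variable {V : Type*} [AddCommGroup V] [Module ℂ V]
variable {W : Type*} [AddCommGroup W] [Module ℂ W]

/-- the action of `∑ g, c g • g` in a representation -/
noncomputable def cen (P : Representation ℂ G V) (c : G → ℂ) : Module.End ℂ V := ∑ g, c g • P g

theorem cen_eq (P : Representation ℂ G V) (c : G → ℂ) : cen P c = P.asAlgebraHom (algElt c) := by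
  simp [cen, algElt, map_sum]

theorem comm_cen (P : Representation ℂ G V) (c : G → ℂ) (S : Module.End ℂ V)
    (hS : ∀ g, S ∘ₗ P g = P g ∘ₗ S) : S ∘ₗ cen P c = cen P c ∘ₗ S := by
  refine LinearMap.ext fun v => ?_
  simp only [cen, LinearMap.comp_apply, LinearMap.sum_apply, LinearMap.smul_apply, map_sum,
    map_smul]
  refine Finset.sum_congr rfl fun g _ => ?_
  have := LinearMap.congr_fun (hS g) v
  simp only [LinearMap.comp_apply] at this
  rw [this]

theorem cen_comp_intertwining (τ : Representation ℂ G W) (P : Representation ℂ G V) (c : G → ℂ)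
    (φ : IntertwiningMap τ P) :
    cen P c ∘ₗ φ.toLinearMap = φ.toLinearMap ∘ₗ cen τ c := by
  refine LinearMap.ext fun v => ?_
  simp only [cen, LinearMap.comp_apply, LinearMap.sum_apply, LinearMap.smul_apply, map_sum,
    map_smul]
  refine Finset.sum_congr rfl fun g _ => ?_
  rw [IntertwiningMap.toLinearMap_apply, IntertwiningMap.toLinearMap_apply, φ.isIntertwining]

theorem cen_comm (P : Representation ℂ G V) (c : G → ℂ) (hc : Cfsg.IsClassFunction G c) (h : G) :
    cen P c ∘ₗ P h = P h ∘ₗ cen P c := by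
  have h1 := algElt_comm_single c hc h 1
  have h2 := congrArg P.asAlgebraHom h1
  rw [map_mul, map_mul, asAlgebraHom_single_one, ← cen_eq] at h2
  exact h2.symm

section irr

variable [FiniteDimensional ℂ W]

theorem sum_conj_mul (χ ψ : G → ℂ) :
    ∑ g : G, conj (χ g) * ψ g = (Nat.card G : ℂ) * Cfsg.classInner ψ χ := by
  unfold Cfsg.classInner
  rw [← mul_assoc, mul_inv_cancel₀ card_ne_zero_complex, one_mul]
  exact Finset.sum_congr rfl fun g _ => mul_comm _ _

theorem cen_conj_irr_of_ne (τ : Representation ℂ G W) [τ.IsIrreducible] {χ : G → ℂ}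
    (hχ : Cfsg.IsIrrCharacter G χ) (hne : τ.character ≠ χ) :
    cen τ (fun g => conj (χ g)) = 0 := by
  rw [cen_eq]
  apply asAlgebraHom_algElt_eq_zero τ _
    (isClassFunction_conj (isClassFunction_of_isIrrCharacter hχ))
  rw [sum_conj_mul, classInner_of_isIrrCharacter_of_ne (isIrrCharacter_of_rep τ) hχ hne,
    mul_zero]

theorem cen_conj_irr_self (τ : Representation ℂ G W) [τ.IsIrreducible] :
    ∃ t : ℂ, t ≠ 0 ∧ cen τ (fun g => conj (τ.character g)) = t • LinearMap.id := by
  have hχ := isIrrCharacter_of_rep τ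
  obtain ⟨t, h1, h2⟩ := asAlgebraHom_algElt_eq_smul τ (fun g => conj (τ.character g))
    (isClassFunction_conj (isClassFunction_of_isIrrCharacter hχ))
  refine ⟨t, ?_, by rw [cen_eq, h1]⟩
  rintro rfl
  rw [zero_mul, sum_conj_mul, classInner_self_of_isIrrCharacter hχ, mul_one] at h2
  exact card_ne_zero_complex h2.symm

end irr

section main

variable [FiniteDimensional ℂ V]

omit [Fintype G] [FiniteDimensional ℂ V] in
theorem mem_invariants_iff_comm (P : Representation ℂ G V) (X : Module.End ℂ V) :
    X ∈ (P.linHom P).invariants ↔ ∀ g, X ∘ₗ P g = P g ∘ₗ X := by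
  rw [Representation.mem_invariants]
  constructor
  · intro h g
    have h1 := h g
    rw [Representation.linHom_apply] at h1
    conv_lhs => rw [← h1]
    rw [LinearMap.comp_assoc, LinearMap.comp_assoc, ← Module.End.mul_eq_comp (P g⁻¹),
      ← map_mul, inv_mul_cancel, map_one, Module.End.one_eq_id, LinearMap.comp_id]
  · intro h g
    rw [Representation.linHom_apply, ← LinearMap.comp_assoc, ← h g, LinearMap.comp_assoc,
      ← Module.End.mul_eq_comp (P g), ← map_mul, mul_inv_cancel, map_one, Module.End.one_eq_id,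
      LinearMap.comp_id]

theorem finrank_invariants_linHom (P : Representation ℂ G V) :
    (Module.finrank ℂ (P.linHom P).invariants : ℂ) =
      Cfsg.classInner P.character P.character := by
  rw [classInner_char_eq_finrank P P, (invariantsEquivIntertwiningMap P P).finrank_eq]

/-- multiplicity-free implies commutative centraliser algebra -/
theorem comm_of_multFree (P : Representation ℂ G V)
    (hmf : ∀ χ : G → ℂ, Cfsg.IsIrrCharacter G χ →
      Cfsg.classInner P.character χ = 0 ∨ Cfsg.classInner P.character χ = 1)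
    (S T : Module.End ℂ V) (hS : ∀ g, S ∘ₗ P g = P g ∘ₗ S) (hT : ∀ g, T ∘ₗ P g = P g ∘ₗ T) :
    S ∘ₗ T = T ∘ₗ S := by
  classical
  have h : ∀ χ : Cfsg.IrrCharacter G, ∃ (n : ℕ) (τ : Representation ℂ G (Fin n → ℂ)),
      τ.IsIrreducible ∧ τ.character = χ := fun χ => χ.2
  choose n τ hirr hchar using h
  have hm : ∀ χ : Cfsg.IrrCharacter G, Cfsg.classInner P.character χ =
      (Module.finrank ℂ (IntertwiningMap (τ χ) P) : ℂ) := by
    intro χ
    rw [← hchar χ]
    exact classInner_char_eq_finrank (τ χ) P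
  set m : Cfsg.IrrCharacter G → ℕ :=
    fun χ => Module.finrank ℂ (IntertwiningMap (τ χ) P) with hmdef
  have hm01 : ∀ χ, m χ = 0 ∨ m χ = 1 := by
    intro χ
    rcases hmf χ χ.2 with h | h
    · left; rw [hm] at h; exact_mod_cast h
    · right; rw [hm] at h; exact_mod_cast h
  have hφ : ∀ χ : Cfsg.IrrCharacter G, m χ ≠ 0 → ∃ φ : IntertwiningMap (τ χ) P, φ ≠ 0 := by
    intro χ h
    have : 0 < Module.finrank ℂ (IntertwiningMap (τ χ) P) := Nat.pos_of_ne_zero h
    exact Module.finrank_pos_iff_exists_ne_zero.mp this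
  set K : Finset (Cfsg.IrrCharacter G) := Finset.univ.filter (fun χ => m χ ≠ 0) with hK
  set Z : Cfsg.IrrCharacter G → Module.End ℂ V :=
    fun χ => cen P (fun g => conj ((χ : G → ℂ) g)) with hZ
  -- dimension of the centraliser algebra
  have hE : Module.finrank ℂ (P.linHom P).invariants = K.card := by
    have h1 := finrank_invariants_linHom P
    rw [classInner_self_eq_sum (isClassFunction_of_isCharacter (isCharacter_of_rep P))] at h1
    simp only [hm, Complex.conj_natCast] at h1
    have h2 : (Module.finrank ℂ (P.linHom P).invariants : ℂ) = ((∑ χ, m χ * m χ : ℕ) : ℂ) := by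
      rw [h1]; push_cast; rfl
    have h3 : Module.finrank ℂ (P.linHom P).invariants = ∑ χ, m χ * m χ := by exact_mod_cast h2
    rw [h3, hK, Finset.card_filter]
    refine Finset.sum_congr rfl fun χ _ => ?_
    rcases hm01 χ with h | h <;> simp [h]
  -- linear independence
  have hli : LinearIndependent ℂ (fun χ : K => Z χ) := by
    rw [Fintype.linearIndependent_iff]
    intro a ha ψ
    obtain ⟨φ, hφne⟩ := hφ ψ (Finset.mem_filter.mp ψ.2).2
    have := hirr (ψ : Cfsg.IrrCharacter G)
    obtain ⟨t, ht0, ht⟩ := cen_conj_irr_self (τ (ψ : Cfsg.IrrCharacter G))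
    rw [hchar] at ht
    have key : ∀ (χ : K) (v : Fin (n ψ) → ℂ), Z χ (φ v) = if χ = ψ then t • φ v else 0 := by
      intro χ v
      have h1 := LinearMap.congr_fun (cen_comp_intertwining (τ (ψ : Cfsg.IrrCharacter G)) P
        (fun g => conj (((χ : Cfsg.IrrCharacter G) : G → ℂ) g)) φ) v
      simp only [LinearMap.comp_apply, IntertwiningMap.toLinearMap_apply] at h1
      rw [hZ]
      simp only []
      rw [h1]
      split_ifs with h
      · rw [h, ht, LinearMap.smul_apply, LinearMap.id_apply, map_smul]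
      · have hne : (τ (ψ : Cfsg.IrrCharacter G)).character ≠ ((χ : Cfsg.IrrCharacter G) : G → ℂ) := by
          rw [hchar]
          intro h'
          apply h
          exact Subtype.ext (Subtype.ext h'.symm)
        rw [cen_conj_irr_of_ne _ (χ : Cfsg.IrrCharacter G).2 hne, LinearMap.zero_apply, map_zero]
    obtain ⟨v, hv⟩ : ∃ v, φ v ≠ 0 := by
      by_contra hcon
      push Not at hcon
      apply hφne
      exact IntertwiningMap.ext (LinearMap.ext fun v => hcon v)
    have h2 := LinearMap.congr_fun ha (φ v)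
    simp only [LinearMap.sum_apply, LinearMap.smul_apply, key, LinearMap.zero_apply] at h2
    rw [Finset.sum_eq_single ψ] at h2
    · rw [if_pos rfl, smul_smul] at h2
      rcases smul_eq_zero.mp h2 with h3 | h3
      · exact (mul_eq_zero.mp h3).resolve_right ht0
      · exact absurd h3 hv
    · intro b _ hb
      rw [if_neg hb, smul_zero]
    · intro h; exact absurd (Finset.mem_univ _) h
  -- span
  have hspan_le : Submodule.span ℂ (Set.range (fun χ : K => Z χ)) ≤ (P.linHom P).invariants := by
    rw [Submodule.span_le]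
    rintro X ⟨χ, rfl⟩
    rw [SetLike.mem_coe, mem_invariants_iff_comm]
    intro g
    exact cen_comm P _
      (isClassFunction_conj (isClassFunction_of_isIrrCharacter (χ : Cfsg.IrrCharacter G).2)) g
  have hfr : Module.finrank ℂ (Submodule.span ℂ (Set.range (fun χ : K => Z χ))) =
      Fintype.card K := finrank_span_eq_card hli
  have heq : Submodule.span ℂ (Set.range (fun χ : K => Z χ)) = (P.linHom P).invariants :=
    Submodule.eq_of_le_of_finrank_eq hspan_le (by rw [hfr, hE, Fintype.card_coe])
  have hTmem : T ∈ Submodule.span ℂ (Set.range (fun χ : K => Z χ)) := by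
    rw [heq]; exact (mem_invariants_iff_comm P T).mpr hT
  refine Submodule.span_induction (p := fun X _ => S ∘ₗ X = X ∘ₗ S) ?_ ?_ ?_ ?_ hTmem
  · rintro X ⟨χ, rfl⟩
    exact comm_cen P _ S hS
  · rw [LinearMap.comp_zero, LinearMap.zero_comp]
  · intro X Y _ _ hX hY
    rw [LinearMap.comp_add, LinearMap.add_comp, hX, hY]
  · intro a X _ hX
    rw [LinearMap.comp_smul, LinearMap.smul_comp, hX]

omit [FiniteDimensional ℂ V] in
/-- an equivariant left inverse of an injective intertwiner (Maschke averaging) -/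
theorem exists_equivariant_leftInverse (τ : Representation ℂ G W) (P : Representation ℂ G V)
    (S : IntertwiningMap τ P) (hinj : Function.Injective S) :
    ∃ T : V →ₗ[ℂ] W, (∀ h, T ∘ₗ P h = τ h ∘ₗ T) ∧ T ∘ₗ S.toLinearMap = LinearMap.id := by
  obtain ⟨T0, hT0⟩ := LinearMap.exists_leftInverse_of_injective S.toLinearMap
    (LinearMap.ker_eq_bot.mpr hinj)
  have hT0' : ∀ w, T0 (S w) = w := fun w => LinearMap.congr_fun hT0 w
  refine ⟨(Nat.card G : ℂ)⁻¹ • ∑ g, τ g ∘ₗ T0 ∘ₗ P g⁻¹, ?_, ?_⟩
  · intro h
    refine LinearMap.ext fun v => ?_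
    simp only [LinearMap.comp_apply, LinearMap.smul_apply, LinearMap.sum_apply, map_smul,
      map_sum]
    congr 1
    refine (Fintype.sum_equiv (Equiv.mulLeft h⁻¹) _ _ ?_)
    intro g
    simp only [Equiv.coe_mulLeft, mul_inv_rev, inv_inv, map_mul, Module.End.mul_apply]
    rw [← Module.End.mul_apply (τ h), ← map_mul, mul_inv_cancel, map_one, Module.End.one_apply]
  · refine LinearMap.ext fun w => ?_
    simp only [LinearMap.comp_apply, LinearMap.smul_apply, LinearMap.sum_apply,
      LinearMap.id_apply, IntertwiningMap.toLinearMap_apply]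
    have h1 : ∀ g : G, τ g (T0 (P g⁻¹ (S w))) = w := by
      intro g
      rw [← S.isIntertwining, hT0', ← Module.End.mul_apply, ← map_mul, mul_inv_cancel, map_one,
        Module.End.one_apply]
    simp only [h1, Finset.sum_const, Finset.card_univ, ← Nat.card_eq_fintype_card]
    rw [← Nat.cast_smul_eq_nsmul ℂ, smul_smul, inv_mul_cancel₀ card_ne_zero_complex, one_smul]

/-- commutative centraliser algebra implies multiplicity-free -/
theorem multFree_of_comm (P : Representation ℂ G V)
    (hcomm : ∀ S T : Module.End ℂ V, (∀ g, S ∘ₗ P g = P g ∘ₗ S) → (∀ g, T ∘ₗ P g = P g ∘ₗ T) →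
      S ∘ₗ T = T ∘ₗ S)
    (χ : G → ℂ) (hχ : Cfsg.IsIrrCharacter G χ) :
    Cfsg.classInner P.character χ = 0 ∨ Cfsg.classInner P.character χ = 1 := by
  classical
  obtain ⟨n, τ, hirr, rfl⟩ := hχ
  rw [classInner_char_eq_finrank τ P]
  suffices hle : Module.finrank ℂ (IntertwiningMap τ P) ≤ 1 by
    rcases Nat.le_one_iff_eq_zero_or_eq_one.mp hle with h | h
    · left; rw [h]; norm_num
    · right; rw [h]; norm_num
  by_contra hlt
  push Not at hlt
  obtain ⟨S1, hS1⟩ : ∃ S1 : IntertwiningMap τ P, S1 ≠ 0 :=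
    (Module.finrank_pos_iff_exists_ne_zero (R := ℂ) (M := IntertwiningMap τ P)).mp (by omega)
  obtain ⟨S2, hS2⟩ := exists_linearIndependent_pair_of_one_lt_finrank hlt hS1
  have hinj : Function.Injective S1 :=
    (IsIrreducible.injective_or_eq_zero S1).resolve_right hS1
  obtain ⟨T1, hT1eq, hT1S1⟩ := exists_equivariant_leftInverse τ P S1 hinj
  -- Schur
  let U : IntertwiningMap τ τ := ⟨T1 ∘ₗ S2.toLinearMap, fun g => by
    rw [LinearMap.comp_assoc, S2.isIntertwining', ← LinearMap.comp_assoc, hT1eq g,
      LinearMap.comp_assoc]⟩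
  obtain ⟨c, hc⟩ :=
    (IsIrreducible.algebraMap_intertwiningMap_bijective_of_isAlgClosed (ρ := τ)).2 U
  have hT1S2 : T1 ∘ₗ S2.toLinearMap = c • LinearMap.id := by
    have := congrArg IntertwiningMap.toLinearMap hc
    rw [IntertwiningMap.algebraMap_apply] at this
    refine LinearMap.ext fun v => ?_
    have h2 := LinearMap.congr_fun this v
    simp only [IntertwiningMap.toLinearMap_smul, LinearMap.smul_apply] at h2
    rw [LinearMap.smul_apply, LinearMap.id_apply]
    exact h2.symm
  have hX : ∀ g, (S2.toLinearMap ∘ₗ T1) ∘ₗ P g = P g ∘ₗ (S2.toLinearMap ∘ₗ T1) := by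
    intro g
    rw [LinearMap.comp_assoc, hT1eq g, ← LinearMap.comp_assoc, S2.isIntertwining',
      LinearMap.comp_assoc]
  have hY : ∀ g, (S1.toLinearMap ∘ₗ T1) ∘ₗ P g = P g ∘ₗ (S1.toLinearMap ∘ₗ T1) := by
    intro g
    rw [LinearMap.comp_assoc, hT1eq g, ← LinearMap.comp_assoc, S1.isIntertwining',
      LinearMap.comp_assoc]
  have hXY := hcomm _ _ hX hY
  have h3 := congrArg (fun Z => Z ∘ₗ S1.toLinearMap) hXY
  simp only [LinearMap.comp_assoc, hT1S1, LinearMap.comp_id] at h3
  -- h3 : S2 ∘ T1 ∘ S1 = S1 ∘ T1 ∘ S2  (after simplification)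
  have h4 : S2.toLinearMap = c • S1.toLinearMap := by
    have e1 : S1.toLinearMap ∘ₗ T1 ∘ₗ S2.toLinearMap = c • S1.toLinearMap := by
      rw [hT1S2, LinearMap.comp_smul, LinearMap.comp_id]
    rw [← e1]
    exact h3
  have h5 := (LinearIndependent.pair_iff' hS1).mp hS2 c
  apply h5
  exact IntertwiningMap.ext (by rw [IntertwiningMap.toLinearMap_smul, h4])

end main

end Cfsg.Agent.Lib.Helper81_Centralizer
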