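import Mathlib

/-!
# Integrality of traces (helper81)

* an endomorphism of a complex vector space that is integral over `ℤ` has integral eigenvalues;
* an endomorphism of a finite-dimensional complex space with integral eigenvalues has integral
  trace;
* for representations `τ` on `W`, `P` on `V` and an integral endomorphism `A` of `V` commuting
  with `P`, the averaged sum `|G|⁻¹ ∑ τ.character g * trace (A ∘ P g)` is an algebraic integer
  (it is the trace of `A` on the `G`-invariants of `W ⊗ V`).
-/

set_option autoImplicit false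

namespace Cfsg.Agent.Lib.Helper81_IntTrace

open Polynomial TensorProduct

theorem isIntegral_of_hasEigenvalue {U : Type*} [AddCommGroup U] [Module ℂ U]
    {f : Module.End ℂ U} (hf : IsIntegral ℤ f) {μ : ℂ} (hμ : f.HasEigenvalue μ) :
    IsIntegral ℤ μ := by
  obtain ⟨p, hp, hpf⟩ := hf
  obtain ⟨v, hv⟩ := hμ.exists_hasEigenvector
  refine ⟨p, hp, ?_⟩
  have h1 : Polynomial.aeval f (p.map (algebraMap ℤ ℂ)) v
      = (p.map (algebraMap ℤ ℂ)).eval μ • v :=
    Module.End.aeval_apply_of_hasEigenvector hv
  rw [Polynomial.aeval_map_algebraMap] at h1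
  have h2 : Polynomial.aeval f p = 0 := hpf
  rw [h2, LinearMap.zero_apply] at h1
  have h3 := (smul_eq_zero.mp h1.symm).resolve_right hv.2
  rwa [Polynomial.eval_map] at h3

theorem isIntegral_trace_of_eigenvalues {U : Type*} [AddCommGroup U] [Module ℂ U]
    [FiniteDimensional ℂ U] (f : Module.End ℂ U)
    (h : ∀ μ : ℂ, f.HasEigenvalue μ → IsIntegral ℤ μ) :
    IsIntegral ℤ (LinearMap.trace ℂ U f) := by
  rw [Module.End.trace_eq_sum_roots_charpoly_of_splits (IsAlgClosed.splits _)]
  refine IsIntegral.multiset_sum ?_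
  intro μ hμ
  apply h
  rw [Module.End.hasEigenvalue_iff_isRoot_charpoly]
  exact Polynomial.isRoot_of_mem_roots hμ

theorem isIntegral_trace {U : Type*} [AddCommGroup U] [Module ℂ U]
    [FiniteDimensional ℂ U] (f : Module.End ℂ U) (hf : IsIntegral ℤ f) :
    IsIntegral ℤ (LinearMap.trace ℂ U f) :=
  isIntegral_trace_of_eigenvalues f fun _ hμ => isIntegral_of_hasEigenvalue hf hμ

section Avg

variable {G W V : Type*} [Group G] [Fintype G] [AddCommGroup W] [Module ℂ W]
  [FiniteDimensional ℂ W] [AddCommGroup V] [Module ℂ V] [FiniteDimensional ℂ V]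

/-- Main lemma: for representations `τ`, `P` and an integral `A` commuting with `P`, the average
`|G|⁻¹ ∑ τ.character g * trace (A ∘ P g)` is an algebraic integer; and it vanishes when
`∑ τ.character g * P.character g = 0`. -/
theorem avg_trace_main (τ : Representation ℂ G W) (P : Representation ℂ G V)
    (A : Module.End ℂ V) (hA : IsIntegral ℤ A) (hc : ∀ g, A ∘ₗ P g = P g ∘ₗ A) :
    IsIntegral ℤ ((Nat.card G : ℂ)⁻¹ *
        ∑ g, τ.character g * LinearMap.trace ℂ V (A ∘ₗ P g)) ∧
      ((∑ g, τ.character g * P.character g = 0) →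
        ∑ g, τ.character g * LinearMap.trace ℂ V (A ∘ₗ P g) = 0) := by
  classical
  have : Invertible (Fintype.card G : ℂ) :=
    invertibleOfNonzero (Nat.cast_ne_zero.mpr Fintype.card_ne_zero)
  have hcard : (Nat.card G : ℂ) ≠ 0 := by
    rw [Nat.card_eq_fintype_card]; exact Nat.cast_ne_zero.mpr Fintype.card_ne_zero
  set σ : Representation ℂ G (W ⊗[ℂ] V) := τ.tprod P with hσ
  set A' : Module.End ℂ (W ⊗[ℂ] V) := Module.End.lTensorAlgHom ℂ V W A with hA'
  have hA'i : IsIntegral ℤ A' := hA.map (Module.End.lTensorAlgHom ℂ V W)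
  have hA'l : A' = A.lTensor W := rfl
  have hQ : σ.averageMap = (Nat.card G : ℂ)⁻¹ • ∑ g : G, σ g := by
    simp [Representation.averageMap, GroupAlgebra.average, map_sum, Nat.card_eq_fintype_card]
  have hproj := σ.isProj_averageMap
  -- commutation
  have hcomm : ∀ g, A' ∘ₗ σ g = σ g ∘ₗ A' := by
    intro g
    rw [hA'l, hσ, Representation.tprod_apply, LinearMap.lTensor_comp_map,
      LinearMap.map_comp_lTensor, hc g]
  have hcommQ : A' ∘ₗ σ.averageMap = σ.averageMap ∘ₗ A' := by
    refine LinearMap.ext fun w => ?_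
    rw [hQ]
    simp only [LinearMap.comp_apply, LinearMap.smul_apply, LinearMap.sum_apply, map_smul, map_sum]
    congr 1
    exact Finset.sum_congr rfl fun g _ => LinearMap.congr_fun (hcomm g) w
  -- trace formulas
  have htr : ∀ B : Module.End ℂ V, LinearMap.trace ℂ _ (B.lTensor W ∘ₗ σ.averageMap)
      = (Nat.card G : ℂ)⁻¹ * ∑ g, τ.character g * LinearMap.trace ℂ V (B ∘ₗ P g) := by
    intro B
    rw [hQ, ← Module.End.mul_eq_comp, mul_smul_comm, Finset.mul_sum, map_smul, map_sum,
      smul_eq_mul]
    congr 1
    refine Finset.sum_congr rfl fun g _ => ?_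
    rw [Module.End.mul_eq_comp, hσ, Representation.tprod_apply, LinearMap.lTensor_comp_map,
      LinearMap.trace_tensorProduct']
    rfl
  refine ⟨?_, ?_⟩
  · rw [← htr A, ← hA'l]
    refine isIntegral_trace_of_eigenvalues _ ?_
    intro μ hμ
    by_cases hμ0 : μ = 0
    · rw [hμ0]; exact isIntegral_zero
    obtain ⟨v, hv⟩ := hμ.exists_hasEigenvector
    have hXv : A' (σ.averageMap v) = μ • v := by
      have := Module.End.mem_eigenspace_iff.mp hv.1
      simpa using this
    have hXv' : σ.averageMap (A' v) = μ • v := by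
      rw [← hXv]
      exact (LinearMap.congr_fun hcommQ v).symm
    have hmem : μ • v ∈ σ.invariants := by
      rw [← hXv']; exact hproj.map_mem _
    have hvmem : v ∈ σ.invariants := by
      have := σ.invariants.smul_mem μ⁻¹ hmem
      rwa [smul_smul, inv_mul_cancel₀ hμ0, one_smul] at this
    have hQv : σ.averageMap v = v := hproj.map_id v hvmem
    rw [hQv] at hXv
    exact isIntegral_of_hasEigenvalue hA'i
      (Module.End.hasEigenvalue_of_hasEigenvector ⟨Module.End.mem_eigenspace_iff.mpr hXv, hv.2⟩)
  · intro h0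
    have h1 : LinearMap.trace ℂ _ σ.averageMap = 0 := by
      have := htr LinearMap.id
      rw [LinearMap.lTensor_id, LinearMap.id_comp] at this
      rw [this]
      simp only [LinearMap.id_comp]
      change _ * ∑ g, τ.character g * P.character g = 0
      rw [h0, mul_zero]
    rw [hproj.trace] at h1
    have h2 : Module.finrank ℂ σ.invariants = 0 := by exact_mod_cast h1
    have h3 : σ.invariants = ⊥ := Submodule.finrank_eq_zero.mp h2
    have h4 : σ.averageMap = 0 := by
      refine LinearMap.ext fun v => ?_
      have := hproj.map_mem v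
      rw [h3, Submodule.mem_bot] at this
      rw [this, LinearMap.zero_apply]
    have h5 := htr A
    rw [h4, LinearMap.comp_zero, map_zero] at h5
    have := h5.symm
    rcases mul_eq_zero.mp this with h | h
    · exact absurd (inv_eq_zero.mp h) hcard
    · exact h

end Avg

end Cfsg.Agent.Lib.Helper81_IntTrace
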