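import Mathlib
import Cfsg.Prelude.Def_Characters
import Cfsg.Prelude.Def_Perm
import Cfsg.Agent.Lib.Helper81_IntTrace
import Cfsg.Agent.Lib.Helper95_Burnside

/-!
# The permutation module and orbital adjacency operators (helper81)

* `trace_pi`: trace of an endomorphism of `Ω → ℂ` as the sum of diagonal entries;
* `permRep_character`: the character of `Cfsg.permRep ℂ G Ω` counts fixed points;
* `adj R`: the 0/1 adjacency operator of a relation `R` on `Ω`; it is integral over `ℤ`,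
  commutes with `permRep` when `R` is `G`-invariant;
* `orbital a b`: the orbital of the pair `(a, b)`.
-/

set_option autoImplicit false

namespace Cfsg.Agent.Lib.Helper81_PermChar

open scoped ComplexConjugate

variable {Ω : Type*} [Fintype Ω]

theorem trace_pi [DecidableEq Ω] (T : (Ω → ℂ) →ₗ[ℂ] (Ω → ℂ)) :
    LinearMap.trace ℂ (Ω → ℂ) T = ∑ ω, T (Pi.single ω 1) ω := by
  rw [LinearMap.trace_eq_matrix_trace ℂ (Pi.basisFun ℂ Ω) T, Matrix.trace]
  refine Finset.sum_congr rfl fun ω _ => ?_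
  rw [Matrix.diag_apply, LinearMap.toMatrix_apply, Pi.basisFun_apply, Pi.basisFun_repr]

section Perm

variable {G : Type*} [Group G] [MulAction G Ω]

omit [Fintype Ω] in
theorem permRep_apply (g : G) (f : Ω → ℂ) (ω : Ω) :
    Cfsg.permRep ℂ G Ω g f ω = f (g⁻¹ • ω) := rfl

theorem permRep_character (g : G) :
    (Cfsg.permRep ℂ G Ω).character g = (Nat.card (MulAction.fixedBy Ω g) : ℂ) := by
  classical
  change LinearMap.trace ℂ (Ω → ℂ) (Cfsg.permRep ℂ G Ω g) = _
  rw [trace_pi]
  have h : ∀ ω, Cfsg.permRep ℂ G Ω g (Pi.single ω 1) ω = if g • ω = ω then 1 else 0 := by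
    intro ω
    rw [permRep_apply, Pi.single_apply]
    have : g⁻¹ • ω = ω ↔ g • ω = ω := by
      rw [inv_smul_eq_iff, eq_comm]
    simp only [this]
  simp_rw [h]
  rw [Finset.sum_boole]
  congr 1
  rw [← Nat.subtype_card (Finset.univ.filter fun ω => g • ω = ω) (p := fun ω => g • ω = ω)
    (by intro x; simp)]
  rfl

omit [Fintype Ω] in
theorem const_of_invariant [MulAction.IsPretransitive G Ω] (f : Ω → ℂ)
    (hf : ∀ g : G, Cfsg.permRep ℂ G Ω g f = f) (a ω : Ω) : f ω = f a := by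
  obtain ⟨g, hg⟩ := MulAction.exists_smul_eq G ω a
  have := congrFun (hf g⁻¹) ω
  rw [permRep_apply, inv_inv, hg] at this
  exact this.symm

end Perm

section Adj

/-- integer 0/1 matrix of a relation -/
noncomputable def adjMat (R : Ω → Ω → Prop) : Matrix Ω Ω ℤ := by
  classical exact fun ω ω' => if R ω ω' then 1 else 0

/-- adjacency operator of a relation on `Ω → ℂ` -/
noncomputable def adj [DecidableEq Ω] (R : Ω → Ω → Prop) : Module.End ℂ (Ω → ℂ) :=
  Matrix.toLin' ((adjMat R).map (Int.castRingHom ℂ))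

theorem adj_apply [DecidableEq Ω] (R : Ω → Ω → Prop) [∀ ω ω', Decidable (R ω ω')]
    (f : Ω → ℂ) (ω : Ω) :
    adj R f ω = ∑ ω', if R ω ω' then f ω' else 0 := by
  rw [adj, Matrix.toLin'_apply, Matrix.mulVec, dotProduct]
  refine Finset.sum_congr rfl fun ω' _ => ?_
  rw [Matrix.map_apply, adjMat]
  by_cases h : R ω ω'
  · simp [h]
  · simp [h]

theorem isIntegral_adj [DecidableEq Ω] (R : Ω → Ω → Prop) : IsIntegral ℤ (adj R) := by
  have h : IsIntegral ℤ (adjMat R) := IsIntegral.of_finite ℤ _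
  exact map_isIntegral_int
    ((Matrix.toLinAlgEquiv' : Matrix Ω Ω ℂ ≃ₐ[ℂ] _).toRingEquiv.toRingHom.comp
      (Int.castRingHom ℂ).mapMatrix) h

theorem trace_adj [DecidableEq Ω] (R : Ω → Ω → Prop) [∀ ω ω', Decidable (R ω ω')] :
    LinearMap.trace ℂ (Ω → ℂ) (adj R) = ∑ ω, if R ω ω then 1 else 0 := by
  rw [trace_pi]
  refine Finset.sum_congr rfl fun ω _ => ?_
  rw [adj_apply, Finset.sum_eq_single ω]
  · simp
  · intro b _ hb
    simp [hb]
  · intro h; exact absurd (Finset.mem_univ _) h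

theorem adj_one [DecidableEq Ω] (R : Ω → Ω → Prop) [∀ ω ω', Decidable (R ω ω')] (ω : Ω) :
    adj R (fun _ => 1) ω = (Nat.card {ω' // R ω ω'} : ℂ) := by
  rw [adj_apply, Finset.sum_boole]
  congr 1
  rw [← Nat.subtype_card (Finset.univ.filter fun ω' => R ω ω') (p := fun ω' => R ω ω')
    (by intro x; simp)]

variable {G : Type*} [Group G] [MulAction G Ω]

theorem adj_comm [DecidableEq Ω] (R : Ω → Ω → Prop)
    (hR : ∀ (g : G) (ω ω' : Ω), R (g • ω) (g • ω') ↔ R ω ω') (g : G) :
    adj R ∘ₗ Cfsg.permRep ℂ G Ω g = Cfsg.permRep ℂ G Ω g ∘ₗ adj R := by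
  classical
  refine LinearMap.ext fun f => ?_
  funext ω
  rw [LinearMap.comp_apply, LinearMap.comp_apply, permRep_apply, adj_apply, adj_apply]
  refine Fintype.sum_equiv (MulAction.toPerm g⁻¹) _ _ ?_
  intro ω'
  rw [MulAction.toPerm_apply, permRep_apply]
  have : R (g⁻¹ • ω) (g⁻¹ • ω') ↔ R ω ω' := hR g⁻¹ ω ω'
  simp only [this]

end Adj

section Orbital

variable {G : Type*} [Group G] [MulAction G Ω]

/-- the orbital of the pair `(a, b)` -/
def orbital (G : Type*) {Ω : Type*} [Group G] [MulAction G Ω] (a b : Ω) : Ω → Ω → Prop :=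
  fun ω ω' => ∃ x : G, x • a = ω ∧ x • b = ω'

omit [Fintype Ω] in
theorem orbital_smul (a b : Ω) (g : G) (ω ω' : Ω) :
    orbital G a b (g • ω) (g • ω') ↔ orbital G a b ω ω' := by
  constructor
  · rintro ⟨x, h1, h2⟩
    refine ⟨g⁻¹ * x, ?_, ?_⟩
    · rw [mul_smul, h1, inv_smul_smul]
    · rw [mul_smul, h2, inv_smul_smul]
  · rintro ⟨x, h1, h2⟩
    refine ⟨g * x, ?_, ?_⟩
    · rw [mul_smul, h1]
    · rw [mul_smul, h2]

omit [Fintype Ω] in
theorem not_orbital_self {a b : Ω} (hab : b ≠ a) (ω : Ω) : ¬ orbital G a b ω ω := by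
  rintro ⟨x, h1, h2⟩
  exact hab (smul_left_cancel x (h2.trans h1.symm))

omit [Fintype Ω] in
theorem card_orbital [MulAction.IsPretransitive G Ω] (a b ω : Ω) :
    Nat.card {ω' // orbital G a b ω ω'} =
      Nat.card (MulAction.orbit (MulAction.stabilizer G a) b) := by
  obtain ⟨x, hx⟩ := MulAction.exists_smul_eq G a ω
  refine Nat.card_congr (Equiv.subtypeEquiv (MulAction.toPerm x⁻¹) ?_)
  intro ω'
  rw [MulAction.toPerm_apply, MulAction.mem_orbit_iff]
  constructor
  · rintro ⟨y, h1, h2⟩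
    refine ⟨⟨x⁻¹ * y, ?_⟩, ?_⟩
    · rw [MulAction.mem_stabilizer_iff, mul_smul, h1, ← hx, inv_smul_smul]
    · change (x⁻¹ * y) • b = _
      rw [mul_smul, h2]
  · rintro ⟨⟨h, hh⟩, hb⟩
    rw [MulAction.mem_stabilizer_iff] at hh
    change h • b = _ at hb
    refine ⟨x * h, ?_, ?_⟩
    · rw [mul_smul, hh, hx]
    · rw [mul_smul, hb, smul_inv_smul]

variable [Fintype G]

/-- The multiplicity of the trivial character in `g ↦ trace (adj R ∘ P g)` is the common row sum
of `R`, for a transitive action. -/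
theorem classInner_trace_adj_one [DecidableEq Ω] [MulAction.IsPretransitive G Ω] [Nonempty Ω]
    (R : Ω → Ω → Prop) (d : ℕ) (hd : ∀ ω, Nat.card {ω' // R ω ω'} = d) :
    Cfsg.classInner
      (fun g : G => LinearMap.trace ℂ (Ω → ℂ) (adj R ∘ₗ Cfsg.permRep ℂ G Ω g)) (fun _ => 1)
      = (d : ℂ) := by
  classical
  have : Invertible (Fintype.card G : ℂ) :=
    invertibleOfNonzero (Nat.cast_ne_zero.mpr Fintype.card_ne_zero)
  have hcard : (Nat.card G : ℂ) ≠ 0 := by
    rw [Nat.card_eq_fintype_card]; exact Nat.cast_ne_zero.mpr Fintype.card_ne_zero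
  obtain ⟨a0⟩ := ‹Nonempty Ω›
  set P := Cfsg.permRep ℂ G Ω with hP
  have hQ : P.averageMap = (Nat.card G : ℂ)⁻¹ • ∑ g : G, P g := by
    simp [Representation.averageMap, GroupAlgebra.average, map_sum, Nat.card_eq_fintype_card]
  have htr : ∀ B : Module.End ℂ (Ω → ℂ), LinearMap.trace ℂ _ (B ∘ₗ P.averageMap)
      = (Nat.card G : ℂ)⁻¹ * ∑ g, LinearMap.trace ℂ _ (B ∘ₗ P g) := by
    intro B
    rw [hQ, ← Module.End.mul_eq_comp, mul_smul_comm, Finset.mul_sum, map_smul, map_sum,
      smul_eq_mul]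
    rfl
  unfold Cfsg.classInner
  simp only [map_one, mul_one]
  rw [← htr]
  have h2 : adj R ∘ₗ P.averageMap = (d : ℂ) • P.averageMap := by
    refine LinearMap.ext fun f => ?_
    have hinv : ∀ g : G, P g (P.averageMap f) = P.averageMap f := fun g =>
      P.averageMap_invariant f g
    have hconst : P.averageMap f = (P.averageMap f a0) • (fun _ => (1 : ℂ)) := by
      funext ω
      rw [Pi.smul_apply, smul_eq_mul, mul_one]
      exact const_of_invariant _ hinv a0 ω
    funext ω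
    rw [LinearMap.comp_apply, LinearMap.smul_apply, Pi.smul_apply, smul_eq_mul]
    conv_lhs => rw [hconst]
    rw [map_smul, Pi.smul_apply, adj_one, hd, smul_eq_mul, mul_comm]
    congr 1
    exact (const_of_invariant _ hinv a0 ω).symm
  rw [h2, map_smul, smul_eq_mul]
  have h3 : LinearMap.trace ℂ _ P.averageMap = 1 := by
    have := htr LinearMap.id
    simp only [LinearMap.id_comp] at this
    rw [this]
    have h4 : ∀ g : G, LinearMap.trace ℂ _ (P g) = (Nat.card (MulAction.fixedBy Ω g) : ℂ) :=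
      fun g => permRep_character g
    simp_rw [h4]
    rw [← Nat.cast_sum, Cfsg.Agent.Lib.Helper95_Burnside.sum_natCard_fixedBy_of_transitive,
      inv_mul_cancel₀ hcard]
  rw [h3, mul_one]

end Orbital

end Cfsg.Agent.Lib.Helper81_PermChar
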