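import Mathlib
import Cfsg.Agent.Lib.Helper81_IntTrace

/-!
# The coefficient functionals `θ_τ` on the centraliser algebra (helper81)

For representations `τ` on `W` and `P` on `V`, `theta τ P X = |G|⁻¹ ∑ τ.character g * trace (X ∘ P g)`.
It is the trace of `X` on the `G`-invariants of `W ⊗ V`.  When that space of invariants is a line
(`|G|⁻¹ ∑ τ.character g * P.character g = 1`), `theta τ P` is multiplicative on endomorphisms
commuting with `P`.
-/

set_option autoImplicit false

namespace Cfsg.Agent.Lib.Helper81_Theta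

open TensorProduct

variable {G W V : Type*} [Group G] [Fintype G] [AddCommGroup W] [Module ℂ W]
  [FiniteDimensional ℂ W] [AddCommGroup V] [Module ℂ V] [FiniteDimensional ℂ V]

/-- the coefficient functional -/
noncomputable def theta (τ : Representation ℂ G W) (P : Representation ℂ G V)
    (X : Module.End ℂ V) : ℂ :=
  (Nat.card G : ℂ)⁻¹ * ∑ g, τ.character g * LinearMap.trace ℂ V (X ∘ₗ P g)

omit [FiniteDimensional ℂ W] [FiniteDimensional ℂ V] in
theorem theta_add (τ : Representation ℂ G W) (P : Representation ℂ G V) (X Y : Module.End ℂ V) :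
    theta τ P (X + Y) = theta τ P X + theta τ P Y := by
  unfold theta
  rw [← mul_add, ← Finset.sum_add_distrib]
  congr 1
  refine Finset.sum_congr rfl fun g _ => ?_
  rw [LinearMap.add_comp, map_add, mul_add]

omit [FiniteDimensional ℂ W] [FiniteDimensional ℂ V] in
theorem theta_smul (τ : Representation ℂ G W) (P : Representation ℂ G V) (c : ℂ)
    (X : Module.End ℂ V) : theta τ P (c • X) = c * theta τ P X := by
  unfold theta
  have h : ∀ g : G, τ.character g * LinearMap.trace ℂ V ((c • X) ∘ₗ P g) =
      c * (τ.character g * LinearMap.trace ℂ V (X ∘ₗ P g)) := by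
    intro g
    rw [LinearMap.smul_comp c X (P g), map_smul, smul_eq_mul]
    ring
  simp_rw [h]
  rw [← Finset.mul_sum]
  ring

omit [FiniteDimensional ℂ W] [FiniteDimensional ℂ V] in
theorem theta_id (τ : Representation ℂ G W) (P : Representation ℂ G V) :
    theta τ P LinearMap.id = (Nat.card G : ℂ)⁻¹ * ∑ g, τ.character g * P.character g := by
  unfold theta
  simp only [LinearMap.id_comp]
  rfl

theorem card_ne_zero' : (Nat.card G : ℂ) ≠ 0 := by
  rw [Nat.card_eq_fintype_card]; exact Nat.cast_ne_zero.mpr Fintype.card_ne_zero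

/-- `theta` as a trace on the tensor product -/
theorem trace_lTensor_averageMap (τ : Representation ℂ G W) (P : Representation ℂ G V)
    [Invertible (Fintype.card G : ℂ)] (B : Module.End ℂ V) :
    LinearMap.trace ℂ _ (B.lTensor W ∘ₗ (τ.tprod P).averageMap) = theta τ P B := by
  have hQ : (τ.tprod P).averageMap = (Nat.card G : ℂ)⁻¹ • ∑ g : G, (τ.tprod P) g := by
    simp [Representation.averageMap, GroupAlgebra.average, map_sum, Nat.card_eq_fintype_card]
  unfold theta
  rw [hQ, ← Module.End.mul_eq_comp, mul_smul_comm, Finset.mul_sum, map_smul, map_sum,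
    smul_eq_mul]
  congr 1
  refine Finset.sum_congr rfl fun g _ => ?_
  rw [Module.End.mul_eq_comp, Representation.tprod_apply, LinearMap.lTensor_comp_map,
    LinearMap.trace_tensorProduct']
  rfl

omit [FiniteDimensional ℂ W] [FiniteDimensional ℂ V] in
/-- endomorphisms commuting with `P` commute (after tensoring) with the averaging projection -/
theorem lTensor_comm_averageMap (τ : Representation ℂ G W) (P : Representation ℂ G V)
    [Invertible (Fintype.card G : ℂ)] (X : Module.End ℂ V) (hX : ∀ g, X ∘ₗ P g = P g ∘ₗ X)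
    (w : W ⊗[ℂ] V) :
    X.lTensor W ((τ.tprod P).averageMap w) = (τ.tprod P).averageMap (X.lTensor W w) := by
  have hQ : (τ.tprod P).averageMap = (Nat.card G : ℂ)⁻¹ • ∑ g : G, (τ.tprod P) g := by
    simp [Representation.averageMap, GroupAlgebra.average, map_sum, Nat.card_eq_fintype_card]
  have hcomm : ∀ g, X.lTensor W ∘ₗ (τ.tprod P) g = (τ.tprod P) g ∘ₗ X.lTensor W := by
    intro g
    rw [Representation.tprod_apply, LinearMap.lTensor_comp_map, LinearMap.map_comp_lTensor, hX g]
  rw [hQ]
  simp only [LinearMap.smul_apply, LinearMap.sum_apply, map_smul, map_sum]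
  congr 1
  exact Finset.sum_congr rfl fun g _ => LinearMap.congr_fun (hcomm g) w

/-- vanishing off the constituents -/
theorem theta_eq_zero (τ : Representation ℂ G W) (P : Representation ℂ G V)
    (h0 : ∑ g, τ.character g * P.character g = 0) (X : Module.End ℂ V) :
    theta τ P X = 0 := by
  classical
  have : Invertible (Fintype.card G : ℂ) :=
    invertibleOfNonzero (Nat.cast_ne_zero.mpr Fintype.card_ne_zero)
  have hproj := (τ.tprod P).isProj_averageMap
  have h1 : LinearMap.trace ℂ _ (τ.tprod P).averageMap = 0 := by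
    have := trace_lTensor_averageMap τ P LinearMap.id
    rw [LinearMap.lTensor_id, LinearMap.id_comp] at this
    rw [this, theta_id, h0, mul_zero]
  rw [hproj.trace] at h1
  have h2 : Module.finrank ℂ (τ.tprod P).invariants = 0 := by exact_mod_cast h1
  have h3 : (τ.tprod P).invariants = ⊥ := Submodule.finrank_eq_zero.mp h2
  have h4 : (τ.tprod P).averageMap = 0 := by
    refine LinearMap.ext fun v => ?_
    have := hproj.map_mem v
    rw [h3, Submodule.mem_bot] at this
    rw [this, LinearMap.zero_apply]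
  rw [← trace_lTensor_averageMap τ P X, h4, LinearMap.comp_zero, map_zero]

/-- when the invariants of `W ⊗ V` form a line, `theta` is given by the action on that line -/
theorem theta_spec (τ : Representation ℂ G W) (P : Representation ℂ G V)
    (h1 : (Nat.card G : ℂ)⁻¹ * ∑ g, τ.character g * P.character g = 1) :
    ∃ v₀ : W ⊗[ℂ] V, v₀ ≠ 0 ∧ ∀ X : Module.End ℂ V, (∀ g, X ∘ₗ P g = P g ∘ₗ X) →
      X.lTensor W v₀ = theta τ P X • v₀ := by
  classical
  have : Invertible (Fintype.card G : ℂ) :=
    invertibleOfNonzero (Nat.cast_ne_zero.mpr Fintype.card_ne_zero)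
  have hproj := (τ.tprod P).isProj_averageMap
  have htrQ : LinearMap.trace ℂ _ (τ.tprod P).averageMap = 1 := by
    have := trace_lTensor_averageMap τ P LinearMap.id
    rw [LinearMap.lTensor_id, LinearMap.id_comp] at this
    rw [this, theta_id, h1]
  have hfr : Module.finrank ℂ (τ.tprod P).invariants = 1 := by
    have h := hproj.trace
    rw [htrQ] at h
    exact_mod_cast h.symm
  obtain ⟨⟨v₀, hv₀mem⟩, hv₀ne, hspan⟩ := finrank_eq_one_iff'.mp hfr
  have hv₀ne' : v₀ ≠ 0 := fun h => hv₀ne (Subtype.ext h)
  refine ⟨v₀, hv₀ne', ?_⟩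
  intro X hX
  have hQv₀ : (τ.tprod P).averageMap v₀ = v₀ := hproj.map_id v₀ hv₀mem
  have hmem : X.lTensor W v₀ ∈ (τ.tprod P).invariants := by
    rw [← hQv₀, lTensor_comm_averageMap τ P X hX]
    exact hproj.map_mem _
  obtain ⟨c, hc⟩ := hspan ⟨X.lTensor W v₀, hmem⟩
  have hc' : X.lTensor W v₀ = c • v₀ := by
    have := congrArg Subtype.val hc
    simpa using this.symm
  have hXQ : X.lTensor W ∘ₗ (τ.tprod P).averageMap = c • (τ.tprod P).averageMap := by
    refine LinearMap.ext fun w => ?_
    obtain ⟨d, hd⟩ := hspan ⟨(τ.tprod P).averageMap w, hproj.map_mem w⟩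
    have hd' : (τ.tprod P).averageMap w = d • v₀ := by
      have := congrArg Subtype.val hd
      simpa using this.symm
    rw [LinearMap.comp_apply, LinearMap.smul_apply, hd', map_smul, hc', smul_comm]
  have hθ : theta τ P X = c := by
    rw [← trace_lTensor_averageMap τ P X, hXQ, map_smul, htrQ, smul_eq_mul, mul_one]
  rw [hθ, hc']

/-- multiplicativity of `theta` on the centraliser algebra, for a constituent of multiplicity 1 -/
theorem theta_mul (τ : Representation ℂ G W) (P : Representation ℂ G V)
    (h1 : (Nat.card G : ℂ)⁻¹ * ∑ g, τ.character g * P.character g = 1)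
    (X Y : Module.End ℂ V) (hX : ∀ g, X ∘ₗ P g = P g ∘ₗ X) (hY : ∀ g, Y ∘ₗ P g = P g ∘ₗ Y) :
    theta τ P (X ∘ₗ Y) = theta τ P X * theta τ P Y := by
  obtain ⟨v₀, hv₀, hspec⟩ := theta_spec τ P h1
  have hXY : ∀ g, (X ∘ₗ Y) ∘ₗ P g = P g ∘ₗ (X ∘ₗ Y) := by
    intro g
    rw [LinearMap.comp_assoc, hY g, ← LinearMap.comp_assoc, hX g, LinearMap.comp_assoc]
  have e1 := hspec (X ∘ₗ Y) hXY
  rw [LinearMap.lTensor_comp, LinearMap.comp_apply, hspec Y hY, map_smul, hspec X hX,
    smul_smul] at e1
  have e2 : (theta τ P Y * theta τ P X - theta τ P (X ∘ₗ Y)) • v₀ = 0 := by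
    rw [sub_smul, e1, sub_self]
  rcases smul_eq_zero.mp e2 with h | h
  · rw [mul_comm]; exact (sub_eq_zero.mp h).symm
  · exact absurd h hv₀

end Cfsg.Agent.Lib.Helper81_Theta
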