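import Mathlib
import Cfsg.Prelude.Def_Characters
import Cfsg.Agent.Lib.Helper81_Theta
import Cfsg.Agent.Lib.Helper3_CharComplete
import Cfsg.Agent.Lib.Helper75_CharProd

/-!
# The class functions `g ↦ trace (X ∘ P g)` (helper81)

For `X` commuting with a representation `P`, the function `trFun P X g = trace (X ∘ P g)` is a class
function; its coefficients `[trFun P X, χ]` are linear in `X`, vanish off the constituents of
`P.character`, are multiplicative at constituents of multiplicity one and are algebraic integers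
for integral `X`.
-/

set_option autoImplicit false
set_option linter.unusedSectionVars false

namespace Cfsg.Agent.Lib.Helper81_TrFun

open scoped ComplexConjugate
open Cfsg.Agent.Lib.Helper81_Theta Cfsg.Agent.Lib.Helper81_IntTrace
  Cfsg.Agent.Lib.Helper3_CharBridge Cfsg.Agent.Lib.Helper3_CharOrtho
  Cfsg.Agent.Lib.Helper3_CharComplete

variable {G : Type*} [Group G] [Fintype G]
variable {V : Type*} [AddCommGroup V] [Module ℂ V] [FiniteDimensional ℂ V]

/-- `g ↦ trace (X ∘ P g)` -/
noncomputable def trFun (P : Representation ℂ G V) (X : Module.End ℂ V) : G → ℂ :=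
  fun g => LinearMap.trace ℂ V (X ∘ₗ P g)

omit [Fintype G] [FiniteDimensional ℂ V] in
theorem isClassFunction_trFun (P : Representation ℂ G V) (X : Module.End ℂ V)
    (hX : ∀ g, X ∘ₗ P g = P g ∘ₗ X) : Cfsg.IsClassFunction G (trFun P X) := by
  intro g h
  unfold trFun
  rw [map_mul, map_mul, ← Module.End.mul_eq_comp, ← Module.End.mul_eq_comp, ← mul_assoc,
    ← mul_assoc, LinearMap.trace_mul_comm, ← mul_assoc, ← mul_assoc]
  have h1 : P h⁻¹ * X = X * P h⁻¹ := (hX h⁻¹).symm
  rw [h1, mul_assoc X, ← map_mul, inv_mul_cancel, map_one, mul_one]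

omit [FiniteDimensional ℂ V] in
theorem trFun_one (P : Representation ℂ G V) (X : Module.End ℂ V) :
    trFun P X 1 = LinearMap.trace ℂ V X := by
  unfold trFun
  rw [map_one, Module.End.one_eq_id, LinearMap.comp_id]

theorem trace_eq_sum (P : Representation ℂ G V) (X : Module.End ℂ V)
    (hX : ∀ g, X ∘ₗ P g = P g ∘ₗ X) :
    LinearMap.trace ℂ V X =
      ∑ χ : Cfsg.IrrCharacter G, Cfsg.classInner (trFun P X) χ * (χ : G → ℂ) 1 := by
  have h := congrFun (classFunction_eq_sum (trFun P X) (isClassFunction_trFun P X hX)) 1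
  rw [trFun_one, Finset.sum_apply] at h
  simpa using h

omit [FiniteDimensional ℂ V] in
theorem classInner_trFun_add (P : Representation ℂ G V) (X Y : Module.End ℂ V) (χ : G → ℂ) :
    Cfsg.classInner (trFun P (X + Y)) χ =
      Cfsg.classInner (trFun P X) χ + Cfsg.classInner (trFun P Y) χ := by
  unfold Cfsg.classInner trFun
  rw [← mul_add, ← Finset.sum_add_distrib]
  congr 1
  refine Finset.sum_congr rfl fun g _ => ?_
  rw [LinearMap.add_comp, map_add, add_mul]

omit [FiniteDimensional ℂ V] in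
theorem classInner_trFun_smul (P : Representation ℂ G V) (c : ℂ) (X : Module.End ℂ V)
    (χ : G → ℂ) :
    Cfsg.classInner (trFun P (c • X)) χ = c * Cfsg.classInner (trFun P X) χ := by
  unfold Cfsg.classInner trFun
  have h : ∀ g : G, LinearMap.trace ℂ V ((c • X) ∘ₗ P g) * conj (χ g) =
      c * (LinearMap.trace ℂ V (X ∘ₗ P g) * conj (χ g)) := by
    intro g
    rw [LinearMap.smul_comp c X (P g), map_smul, smul_eq_mul]
    ring
  simp_rw [h]
  rw [← Finset.mul_sum]
  ring

omit [FiniteDimensional ℂ V] in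
theorem classInner_trFun_id (P : Representation ℂ G V) (χ : G → ℂ) :
    Cfsg.classInner (trFun P LinearMap.id) χ = Cfsg.classInner P.character χ := by
  unfold Cfsg.classInner trFun
  simp only [LinearMap.id_comp]
  rfl

theorem classInner_trFun_eq_theta (P : Representation ℂ G V) {n : ℕ}
    (τ : Representation ℂ G (Fin n → ℂ)) (χ : G → ℂ) (hτ : τ.character = fun g => conj (χ g))
    (X : Module.End ℂ V) : Cfsg.classInner (trFun P X) χ = theta τ P X := by
  unfold Cfsg.classInner theta trFun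
  congr 1
  refine Finset.sum_congr rfl fun g _ => ?_
  rw [hτ, mul_comm]

theorem sum_char_eq (P : Representation ℂ G V) {n : ℕ}
    (τ : Representation ℂ G (Fin n → ℂ)) (χ : G → ℂ) (hτ : τ.character = fun g => conj (χ g)) :
    (Nat.card G : ℂ)⁻¹ * ∑ g, τ.character g * P.character g = Cfsg.classInner P.character χ := by
  unfold Cfsg.classInner
  congr 1
  refine Finset.sum_congr rfl fun g _ => ?_
  rw [hτ, mul_comm]

theorem classInner_trFun_eq_zero (P : Representation ℂ G V) {χ : G → ℂ}
    (hχ : Cfsg.IsIrrCharacter G χ) (h0 : Cfsg.classInner P.character χ = 0)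
    (X : Module.End ℂ V) : Cfsg.classInner (trFun P X) χ = 0 := by
  obtain ⟨n, τ, -, hτ⟩ := Cfsg.Agent.Lib.Helper75_CharProd.isIrrCharacter_conj hχ
  rw [classInner_trFun_eq_theta P τ χ hτ]
  apply theta_eq_zero
  have h1 := sum_char_eq P τ χ hτ
  rw [h0] at h1
  rcases mul_eq_zero.mp h1 with h | h
  · exact absurd (inv_eq_zero.mp h) card_ne_zero_complex
  · exact h

theorem classInner_trFun_mul (P : Representation ℂ G V) {χ : G → ℂ}
    (hχ : Cfsg.IsIrrCharacter G χ) (h1 : Cfsg.classInner P.character χ = 1)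
    (X Y : Module.End ℂ V) (hX : ∀ g, X ∘ₗ P g = P g ∘ₗ X) (hY : ∀ g, Y ∘ₗ P g = P g ∘ₗ Y) :
    Cfsg.classInner (trFun P (X ∘ₗ Y)) χ =
      Cfsg.classInner (trFun P X) χ * Cfsg.classInner (trFun P Y) χ := by
  obtain ⟨n, τ, -, hτ⟩ := Cfsg.Agent.Lib.Helper75_CharProd.isIrrCharacter_conj hχ
  rw [classInner_trFun_eq_theta P τ χ hτ, classInner_trFun_eq_theta P τ χ hτ,
    classInner_trFun_eq_theta P τ χ hτ]
  exact theta_mul τ P (by rw [sum_char_eq P τ χ hτ, h1]) X Y hX hY

theorem isIntegral_classInner_trFun (P : Representation ℂ G V) {χ : G → ℂ}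
    (hχ : Cfsg.IsIrrCharacter G χ) (X : Module.End ℂ V) (hXi : IsIntegral ℤ X)
    (hX : ∀ g, X ∘ₗ P g = P g ∘ₗ X) : IsIntegral ℤ (Cfsg.classInner (trFun P X) χ) := by
  obtain ⟨n, τ, -, hτ⟩ := Cfsg.Agent.Lib.Helper75_CharProd.isIrrCharacter_conj hχ
  rw [classInner_trFun_eq_theta P τ χ hτ]
  exact (avg_trace_main τ P X hXi hX).1

end Cfsg.Agent.Lib.Helper81_TrFun
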