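import Mathlib
import Cfsg.Prelude.Def_Characters
import Cfsg.Prelude.Def_Perm
import Cfsg.Agent.Lib.Helper81_PermChar
import Cfsg.Agent.Lib.Helper81_TrFun
import Cfsg.Agent.Lib.Helper80_CharBasic

/-!
# Entries and traces of adjacency operators (helper81)
-/

set_option autoImplicit false
set_option linter.unusedSectionVars false

namespace Cfsg.Agent.Lib.Helper81_Rank3

open scoped ComplexConjugate
open Cfsg.Agent.Lib.Helper81_PermChar Cfsg.Agent.Lib.Helper81_TrFun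
  Cfsg.Agent.Lib.Helper3_CharBridge Cfsg.Agent.Lib.Helper3_CharOrtho
  Cfsg.Agent.Lib.Helper3_CharComplete Cfsg.Agent.Lib.Helper80_CharBasic

variable {Ω : Type*} [Fintype Ω] [DecidableEq Ω]

/-- matrix entry of an endomorphism of `Ω → ℂ` -/
noncomputable def ent (X : Module.End ℂ (Ω → ℂ)) (ω ω' : Ω) : ℂ := X (Pi.single ω' 1) ω

theorem ent_add (X Y : Module.End ℂ (Ω → ℂ)) (ω ω' : Ω) :
    ent (X + Y) ω ω' = ent X ω ω' + ent Y ω ω' := rfl

theorem ent_smul (c : ℂ) (X : Module.End ℂ (Ω → ℂ)) (ω ω' : Ω) :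
    ent (c • X) ω ω' = c * ent X ω ω' := rfl

theorem ent_id (ω ω' : Ω) :
    ent (LinearMap.id : Module.End ℂ (Ω → ℂ)) ω ω' = if ω = ω' then 1 else 0 := by
  unfold ent
  rw [LinearMap.id_apply, Pi.single_apply]

theorem ent_adj (R : Ω → Ω → Prop) [∀ ω ω', Decidable (R ω ω')] (ω ω' : Ω) :
    ent (adj R) ω ω' = if R ω ω' then 1 else 0 := by
  unfold ent
  rw [adj_apply, Finset.sum_eq_single ω']
  · simp
  · intro b _ hb
    simp [hb]
  · intro h; exact absurd (Finset.mem_univ _) h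

theorem ent_adj_comp (R R' : Ω → Ω → Prop) [∀ ω ω', Decidable (R ω ω')]
    [∀ ω ω', Decidable (R' ω ω')] (ω ω' : Ω) :
    ent (adj R ∘ₗ adj R') ω ω' =
      ((Finset.univ.filter fun ω'' => R ω ω'' ∧ R' ω'' ω').card : ℂ) := by
  unfold ent
  rw [LinearMap.comp_apply, adj_apply, Finset.card_filter, Nat.cast_sum]
  refine Finset.sum_congr rfl fun ω'' _ => ?_
  have h := ent_adj R' ω'' ω'
  unfold ent at h
  rw [h]
  by_cases h1 : R ω ω'' <;> by_cases h2 : R' ω'' ω' <;> simp [h1, h2]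

theorem trace_eq_sum_ent (X : Module.End ℂ (Ω → ℂ)) :
    LinearMap.trace ℂ (Ω → ℂ) X = ∑ ω, ent X ω ω := trace_pi X

/-- for a symmetric relation with constant row sums `d`, `trace (A²) = |Ω| d` -/
theorem trace_adj_sq (R : Ω → Ω → Prop) [∀ ω ω', Decidable (R ω ω')]
    (hsymm : ∀ ω ω', R ω ω' → R ω' ω) (d : ℕ) (hd : ∀ ω, Nat.card {ω' // R ω ω'} = d) :
    LinearMap.trace ℂ (Ω → ℂ) (adj R ∘ₗ adj R) = (Fintype.card Ω : ℂ) * d := by
  rw [trace_eq_sum_ent]
  have h : ∀ ω, ent (adj R ∘ₗ adj R) ω ω = (d : ℂ) := by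
    intro ω
    rw [ent_adj_comp]
    congr 1
    rw [← hd ω, ← Nat.subtype_card (Finset.univ.filter fun ω'' => R ω ω'' ∧ R ω'' ω)
      (p := fun ω' => R ω ω')]
    intro x
    simp only [Finset.mem_filter, Finset.mem_univ, true_and]
    exact ⟨fun h => h.1, fun h => ⟨h, hsymm _ _ h⟩⟩
  simp only [h, Finset.sum_const, Finset.card_univ, nsmul_eq_mul]

section J

variable {G : Type*} [Group G] [MulAction G Ω]

/-- the all-ones operator -/
noncomputable def allOnes (Ω : Type*) [Fintype Ω] [DecidableEq Ω] : Module.End ℂ (Ω → ℂ) :=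
  adj (fun _ _ : Ω => True)

theorem ent_allOnes (ω ω' : Ω) : ent (allOnes Ω) ω ω' = 1 := by
  unfold allOnes
  rw [ent_adj, if_pos trivial]

theorem allOnes_comm (g : G) :
    allOnes Ω ∘ₗ Cfsg.permRep ℂ G Ω g = Cfsg.permRep ℂ G Ω g ∘ₗ allOnes Ω :=
  adj_comm (G := G) (fun _ _ : Ω => True) (fun _ _ _ => Iff.rfl) g

theorem allOnes_comp_permRep (g : G) : allOnes Ω ∘ₗ Cfsg.permRep ℂ G Ω g = allOnes Ω := by
  refine LinearMap.ext fun f => ?_
  funext ω
  unfold allOnes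
  rw [LinearMap.comp_apply, adj_apply, adj_apply]
  simp only [if_true]
  exact Fintype.sum_equiv (MulAction.toPerm g⁻¹) _ _ (fun x => rfl)

theorem trFun_allOnes [Fintype G] (g : G) :
    trFun (Cfsg.permRep ℂ G Ω) (allOnes Ω) g = (Fintype.card Ω : ℂ) := by
  unfold trFun
  rw [allOnes_comp_permRep]
  unfold allOnes
  rw [trace_adj]
  simp

theorem classInner_trFun_allOnes [Fintype G] {χ : G → ℂ} (hχ : Cfsg.IsIrrCharacter G χ)
    (hne : χ ≠ fun _ => 1) :
    Cfsg.classInner (trFun (Cfsg.permRep ℂ G Ω) (allOnes Ω)) χ = 0 := by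
  have h1 : trFun (Cfsg.permRep ℂ G Ω) (allOnes Ω) = (Fintype.card Ω : ℂ) • (fun _ : G => (1 : ℂ)) := by
    funext g
    rw [trFun_allOnes]
    simp
  rw [h1, classInner_smul_left, classInner_of_isIrrCharacter_of_ne (isIrrCharacter_one G) hχ
    (fun h => hne h.symm), mul_zero]

end J

end Cfsg.Agent.Lib.Helper81_Rank3
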