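import Mathlib
import Cfsg.Prelude.Def_Characters
import Cfsg.Prelude.Def_Perm
import Cfsg.Agent.Lib.Helper81_PermChar
import Cfsg.Agent.Lib.Helper81_Rank3

/-!
# Transitive actions whose non-trivial orbitals come from a commuting free abelian action (helper81)

`G` acts transitively on `X`, a commutative group `C` acts freely on `X` commuting with `G`, and `G`
is transitive on the pairs `(x, y)` with `y ∉ C • x`.  Then every `G`-equivariant operator on
`X → ℂ` is a combination of the `C`-permutation operators and the all-ones operator, hence the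
centraliser algebra is commutative; and a point stabiliser has `|C| + 1` orbits.
-/

set_option autoImplicit false
set_option linter.unusedSectionVars false

namespace Cfsg.Agent.Lib.Helper81_ScalarOrbitals

open MulAction Cfsg.Agent.Lib.Helper81_PermChar Cfsg.Agent.Lib.Helper81_Rank3

section Ent

variable {G : Type*} [Group G] {X : Type*} [Fintype X] [DecidableEq X] [MulAction G X]

theorem permRep_single (g : G) (ω : X) :
    Cfsg.permRep ℂ G X g (Pi.single ω 1) = Pi.single (g • ω) 1 := by
  funext η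
  rw [permRep_apply, Pi.single_apply, Pi.single_apply]
  have : g⁻¹ • η = ω ↔ η = g • ω := by rw [inv_smul_eq_iff]
  simp only [this]

theorem ent_permRep (g : G) (ω ω' : X) :
    ent (Cfsg.permRep ℂ G X g) ω ω' = if ω = g • ω' then 1 else 0 := by
  unfold ent
  rw [permRep_single, Pi.single_apply]

theorem ent_smul_smul (S : Module.End ℂ (X → ℂ))
    (hS : ∀ g : G, S ∘ₗ Cfsg.permRep ℂ G X g = Cfsg.permRep ℂ G X g ∘ₗ S) (g : G) (ω ω' : X) :
    ent S (g • ω) (g • ω') = ent S ω ω' := by
  unfold ent
  rw [← permRep_single, ← LinearMap.comp_apply, hS g, LinearMap.comp_apply, permRep_apply,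
    inv_smul_smul]

theorem ext_ent {S T : Module.End ℂ (X → ℂ)} (h : ∀ ω ω', ent S ω ω' = ent T ω ω') : S = T := by
  refine LinearMap.pi_ext fun ω' c => ?_
  have : (Pi.single ω' c : X → ℂ) = c • Pi.single ω' 1 := by
    rw [← Pi.single_smul, smul_eq_mul, mul_one]
  rw [this, map_smul, map_smul]
  congr 1
  funext ω
  exact h ω ω'

theorem ent_sum {ι : Type*} (s : Finset ι) (A : ι → Module.End ℂ (X → ℂ)) (ω ω' : X) :
    ent (∑ i ∈ s, A i) ω ω' = ∑ i ∈ s, ent (A i) ω ω' := by
  unfold ent
  rw [LinearMap.sum_apply, Finset.sum_apply]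

end Ent

section Main

variable {G : Type*} [Group G] {X : Type*} [Fintype X] [DecidableEq X] [MulAction G X]
  {C : Type*} [CommGroup C] [Fintype C] [MulAction C X] [SMulCommClass G C X]

/-- every equivariant operator is a combination of scalar operators and the all-ones operator -/
theorem decomp [IsPretransitive G X] (hfree : ∀ (c : C) (x : X), c • x = x → c = 1)
    (h2 : ∀ x y x' y' : X, y ∉ orbit C x → y' ∉ orbit C x' → ∃ g : G, g • x = x' ∧ g • y = y')
    (x₀ y₀ : X) (hy₀ : y₀ ∉ orbit C x₀) (S : Module.End ℂ (X → ℂ))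
    (hS : ∀ g : G, S ∘ₗ Cfsg.permRep ℂ G X g = Cfsg.permRep ℂ G X g ∘ₗ S) :
    S = ∑ c : C, (ent S (c • x₀) x₀ - ent S y₀ x₀) • Cfsg.permRep ℂ C X c
      + ent S y₀ x₀ • allOnes X := by
  classical
  refine ext_ent fun ω ω' => ?_
  rw [ent_add, ent_smul, ent_allOnes, mul_one, ent_sum]
  simp only [ent_smul, ent_permRep]
  by_cases hω : ω ∈ orbit C ω'
  · obtain ⟨d, rfl⟩ := mem_orbit_iff.mp hω
    rw [Finset.sum_eq_single d]
    · rw [if_pos rfl, mul_one, sub_add_cancel]
      obtain ⟨g, hg⟩ := exists_smul_eq G x₀ ω'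
      rw [← hg, ← smul_comm g d x₀, ent_smul_smul S hS]
    · intro c _ hcd
      rw [if_neg, mul_zero]
      intro h
      apply hcd
      have h' : d • ω' = c • ω' := h
      have h1 : (c⁻¹ * d) • ω' = ω' := by
        rw [mul_smul, h', inv_smul_smul]
      have h2 := hfree _ _ h1
      rw [inv_mul_eq_one] at h2
      exact h2
    · intro h; exact absurd (Finset.mem_univ _) h
  · rw [Finset.sum_eq_zero, zero_add]
    · obtain ⟨g, hg1, hg2⟩ := h2 x₀ y₀ ω' ω hy₀ hω
      rw [← hg1, ← hg2, ent_smul_smul S hS]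
    · intro c _
      rw [if_neg, mul_zero]
      intro h
      exact hω ⟨c, h.symm⟩

/-- the centraliser algebra is commutative -/
theorem comm [IsPretransitive G X] (hfree : ∀ (c : C) (x : X), c • x = x → c = 1)
    (h2 : ∀ x y x' y' : X, y ∉ orbit C x → y' ∉ orbit C x' → ∃ g : G, g • x = x' ∧ g • y = y')
    (x₀ y₀ : X) (hy₀ : y₀ ∉ orbit C x₀) (S T : Module.End ℂ (X → ℂ))
    (hS : ∀ g : G, S ∘ₗ Cfsg.permRep ℂ G X g = Cfsg.permRep ℂ G X g ∘ₗ S)
    (hT : ∀ g : G, T ∘ₗ Cfsg.permRep ℂ G X g = Cfsg.permRep ℂ G X g ∘ₗ T) :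
    S ∘ₗ T = T ∘ₗ S := by
  have hAA : ∀ c d : C, Commute (Cfsg.permRep ℂ C X c) (Cfsg.permRep ℂ C X d) := by
    intro c d
    show Cfsg.permRep ℂ C X c * Cfsg.permRep ℂ C X d = Cfsg.permRep ℂ C X d * Cfsg.permRep ℂ C X c
    rw [← map_mul, ← map_mul, mul_comm]
  have hAJ : ∀ c : C, Commute (Cfsg.permRep ℂ C X c) (allOnes X) := by
    intro c
    exact (allOnes_comm (G := C) c).symm
  have key : Commute S T := by
    rw [decomp hfree h2 x₀ y₀ hy₀ S hS, decomp hfree h2 x₀ y₀ hy₀ T hT]
    refine Commute.add_left (Commute.sum_left _ _ _ fun c _ => Commute.smul_left ?_ _)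
      (Commute.smul_left ?_ _)
    · refine Commute.add_right (Commute.sum_right _ _ _ fun d _ => Commute.smul_right (hAA c d) _)
        (Commute.smul_right (hAJ c) _)
    · refine Commute.add_right (Commute.sum_right _ _ _ fun d _ => Commute.smul_right (hAJ d).symm _)
        (Commute.smul_right (Commute.refl _) _)
  exact key.eq

/-- the number of orbits of a point stabiliser -/
theorem card_orbits [IsPretransitive G X] (hfree : ∀ (c : C) (x : X), c • x = x → c = 1)
    (h2 : ∀ x y x' y' : X, y ∉ orbit C x → y' ∉ orbit C x' → ∃ g : G, g • x = x' ∧ g • y = y')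
    (x₀ y₀ : X) (hy₀ : y₀ ∉ orbit C x₀) :
    Nat.card (orbitRel.Quotient (stabilizer G x₀) X) = Fintype.card C + 1 := by
  classical
  let φ : Option C → orbitRel.Quotient (stabilizer G x₀) X := fun o =>
    match o with
    | some c => Quotient.mk'' (c • x₀)
    | none => Quotient.mk'' y₀
  have hrel : ∀ a b : X, (Quotient.mk'' a : orbitRel.Quotient (stabilizer G x₀) X) = Quotient.mk'' b →
      ∃ g : G, g • x₀ = x₀ ∧ g • b = a := by
    intro a b h
    have h1 : a ∈ orbit (stabilizer G x₀) b := by
      have := Quotient.exact' h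
      exact this
    obtain ⟨g, hg⟩ := h1
    exact ⟨g.1, g.2, hg⟩
  have hinj : Function.Injective φ := by
    intro o o' h
    cases o with
    | none =>
      cases o' with
      | none => rfl
      | some d =>
        exfalso
        obtain ⟨g, hg0, hg⟩ := hrel _ _ h
        apply hy₀
        refine ⟨d, ?_⟩
        rw [← hg, smul_comm g d x₀, hg0]
    | some c =>
      cases o' with
      | none =>
        exfalso
        obtain ⟨g, hg0, hg⟩ := hrel _ _ h.symm
        apply hy₀
        refine ⟨c, ?_⟩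
        rw [← hg, smul_comm g c x₀, hg0]
      | some d =>
        obtain ⟨g, hg0, hg⟩ := hrel _ _ h
        rw [smul_comm g d x₀, hg0] at hg
        have h1 : (c⁻¹ * d) • x₀ = x₀ := by
          rw [mul_smul, hg, inv_smul_smul]
        have h2 := hfree _ _ h1
        rw [inv_mul_eq_one] at h2
        rw [h2]
  have hsurj : Function.Surjective φ := by
    intro q
    induction q using Quotient.inductionOn' with
    | h y =>
      by_cases hy : y ∈ orbit C x₀
      · obtain ⟨c, rfl⟩ := mem_orbit_iff.mp hy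
        exact ⟨some c, rfl⟩
      · refine ⟨none, ?_⟩
        obtain ⟨g, hg1, hg2⟩ := h2 x₀ y₀ x₀ y hy₀ hy
        show (Quotient.mk'' y₀ : orbitRel.Quotient (stabilizer G x₀) X) = Quotient.mk'' y
        apply Quotient.sound'
        exact ⟨⟨g, hg1⟩⁻¹, by
          show (⟨g, hg1⟩ : stabilizer G x₀)⁻¹ • y = y₀
          rw [inv_smul_eq_iff]
          exact hg2.symm⟩
  rw [← Nat.card_congr (Equiv.ofBijective φ ⟨hinj, hsurj⟩), Nat.card_eq_fintype_card,
    Fintype.card_option]

end Main

end Cfsg.Agent.Lib.Helper81_ScalarOrbitals
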