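import Mathlib
import Cfsg.Prelude.Def_Characters
import Cfsg.Agent.S0190
import Cfsg.Agent.Lib.Helper75_Induced
import Cfsg.Agent.Lib.Helper81_Rank
import Cfsg.Agent.Lib.Helper81_ScalarOrbitals
import Cfsg.Agent.Lib.Helper81_Centralizer
import Cfsg.Agent.Lib.Helper81_PermChar
import Cfsg.Agent.Lib.Helper3_CharBridge
import Cfsg.Agent.Lib.Helper80_CharBasic

/-!
# Step T3 of S2332, abstract form

`G` acts transitively on a finite set `X`; a finite commutative group `C` acts freely on `X`,
commuting with `G`; `G` is transitive on the pairs `(x, y)` with `y ∉ C • x`.  Put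
`N := |X / C|`.  Then the permutation character of `G` on `X` is the sum of `|C| + 1` distinct
irreducible characters, of degrees `1`, `N - 1` and `N` (`|C| - 1` times).  In particular an
irreducible representation having a non-zero vector fixed by a point stabiliser has degree
`1`, `N - 1` or `N`, and there is an irreducible character of degree `N - 1`.
-/

set_option autoImplicit false
set_option linter.unusedSectionVars false

namespace Cfsg.Agent.Lib.Helper30_S2332Perm

open scoped ComplexConjugate
open MulAction Module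
open Cfsg.Agent.Lib.Helper3_CharBridge Cfsg.Agent.Lib.Helper80_CharBasic

section Fixed

variable {G : Type*} [Group G] [Fintype G] {X : Type*} [Fintype X] [MulAction G X]
  [IsPretransitive G X]
  {V : Type*} [AddCommGroup V] [Module ℂ V] [FiniteDimensional ℂ V]

/-- Frobenius reciprocity for a permutation character: the multiplicity of `ρ` in the permutation
character is the dimension of the fixed space of a point stabiliser. -/
theorem classInner_perm_eq_finrank (ρ : Representation ℂ G V) (x₀ : X) :
    Cfsg.classInner (fun g : G => (Nat.card (fixedBy X g) : ℂ)) ρ.character =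
      (finrank ℂ (Representation.invariants (ρ.comp (stabilizer G x₀).subtype)) : ℂ) := by
  classical
  have hcf : Cfsg.IsClassFunction G ρ.character :=
    isClassFunction_of_isCharacter (isCharacter_of_rep ρ)
  rw [Cfsg.Agent.S0190.result (G := G) X x₀,
    Cfsg.Agent.Lib.Helper75_Induced.frobenius_reciprocity (stabilizer G x₀) (fun _ => 1)
      ρ.character hcf]
  have hN : (Nat.card (stabilizer G x₀) : ℂ) ≠ 0 := by
    rw [Nat.cast_ne_zero]; exact Nat.card_pos.ne'
  have : Invertible (Nat.card (stabilizer G x₀) : ℂ) := invertibleOfNonzero hN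
  have h := Representation.card_inv_mul_sum_char_eq_finrank (ρ.comp (stabilizer G x₀).subtype)
  unfold Cfsg.classInner
  have h2 : ∑ g : stabilizer G x₀, (1 : ℂ) * conj (ρ.character (g : G)) =
      conj (∑ g : stabilizer G x₀,
        Representation.character (ρ.comp (stabilizer G x₀).subtype) g) := by
    rw [map_sum]
    refine Finset.sum_congr rfl fun g _ => ?_
    rw [one_mul]
    rfl
  rw [h2, ← Complex.conj_natCast (finrank ℂ _), ← h, map_mul, map_inv₀, Complex.conj_natCast]

end Fixed

section Upper

variable {G : Type*} [Group G] {X : Type*} [MulAction G X]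
  {C : Type*} [Group C] [MulAction C X] [SMulCommClass G C X]
  {V : Type*} [AddCommGroup V] [Module ℂ V]

/-- an element mapping `x₀` into its `C`-orbit normalises the stabiliser of `x₀`, hence preserves
its fixed space -/
theorem apply_mem_invariants (ρ : Representation ℂ G V) (x₀ : X) (p : G) (c : C)
    (hp : p • x₀ = c • x₀) (w : V)
    (hw : w ∈ Representation.invariants (ρ.comp (stabilizer G x₀).subtype)) :
    ρ p w ∈ Representation.invariants (ρ.comp (stabilizer G x₀).subtype) := by
  intro h
  have hh : (h : G) • x₀ = x₀ := h.2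
  have hmem : p⁻¹ * (h : G) * p ∈ stabilizer G x₀ := by
    rw [mem_stabilizer_iff, mul_smul, mul_smul, hp, smul_comm (h : G) c x₀, hh, ← hp,
      inv_smul_smul]
  have h1 := hw ⟨p⁻¹ * (h : G) * p, hmem⟩
  show ρ (h : G) (ρ p w) = ρ p w
  have h2 : ρ (p⁻¹ * (h : G) * p) w = w := h1
  have h3 : ρ (h : G) (ρ p w) = ρ p (ρ (p⁻¹ * (h : G) * p) w) := by
    rw [← Module.End.mul_apply, ← Module.End.mul_apply, ← map_mul, ← map_mul]
    congr 2
    group
  rw [h3, h2]

variable [FiniteDimensional ℂ V] [Finite X] [IsPretransitive G X]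

/-- **Upper bound**: if the fixed space of a point stabiliser in an irreducible representation is
a line, the degree is at most the number of `C`-orbits. -/
theorem finrank_le_card_orbits (ρ : Representation ℂ G V) [ρ.IsIrreducible] (x₀ : X)
    (h1 : finrank ℂ (Representation.invariants (ρ.comp (stabilizer G x₀).subtype)) = 1) :
    finrank ℂ V ≤ Nat.card (orbitRel.Quotient C X) := by
  classical
  have := Fintype.ofFinite X
  obtain ⟨⟨w, hwI⟩, hw0, hwspan⟩ := finrank_eq_one_iff'.mp h1
  have hw0' : w ≠ 0 := fun h => hw0 (Subtype.ext h)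
  -- scalars
  have hline : ∀ (p : G) (c : C), p • x₀ = c • x₀ → ∃ a : ℂ, a • w = ρ p w := by
    intro p c hp
    obtain ⟨a, ha⟩ := hwspan ⟨ρ p w, apply_mem_invariants ρ x₀ p c hp w hwI⟩
    exact ⟨a, congrArg Subtype.val ha⟩
  -- representatives
  have hγ : ∀ o : orbitRel.Quotient C X, ∃ g : G, g • x₀ = o.out := fun o =>
    exists_smul_eq G x₀ o.out
  choose γ hγ using hγ
  set W : Submodule ℂ V := Submodule.span ℂ (Set.range fun o => ρ (γ o) w) with hW
  have hmem : ∀ g : G, ρ g w ∈ W := by
    intro g
    set o : orbitRel.Quotient C X := Quotient.mk'' (g • x₀) with ho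
    have hrel : o.out ∈ orbit C (g • x₀) := by
      have : (Quotient.mk'' o.out : orbitRel.Quotient C X) = Quotient.mk'' (g • x₀) :=
        Quotient.out_eq' o
      exact Quotient.exact' this
    obtain ⟨c, hc⟩ := hrel
    -- `γ o • x₀ = c • g • x₀`
    have hp : (g⁻¹ * γ o) • x₀ = c • x₀ := by
      rw [mul_smul, hγ o, ← hc, smul_comm g⁻¹ c, inv_smul_smul]
    obtain ⟨a, ha⟩ := hline _ _ hp
    have ha0 : a ≠ 0 := by
      rintro rfl
      rw [zero_smul] at ha
      have h2 : ρ (g⁻¹ * γ o)⁻¹ (ρ (g⁻¹ * γ o) w) = w := by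
        rw [← Module.End.mul_apply, ← map_mul, inv_mul_cancel, map_one, Module.End.one_apply]
      rw [← ha, map_zero] at h2
      exact hw0' h2.symm
    have h3 : ρ (γ o) w = a • ρ g w := by
      have : ρ (γ o) w = ρ g (ρ (g⁻¹ * γ o) w) := by
        rw [← Module.End.mul_apply, ← map_mul, mul_inv_cancel_left]
      rw [this, ← ha, map_smul]
    have h4 : ρ g w = a⁻¹ • ρ (γ o) w := by
      rw [h3, smul_smul, inv_mul_cancel₀ ha0, one_smul]
    rw [h4]
    exact Submodule.smul_mem _ _ (Submodule.subset_span ⟨o, rfl⟩)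
  -- the span of the orbit of `w` is a non-zero subrepresentation
  let S : Subrepresentation ρ :=
    { toSubmodule := Submodule.span ℂ (Set.range fun g : G => ρ g w)
      apply_mem_toSubmodule := by
        intro g v hv
        induction hv using Submodule.span_induction with
        | mem z hz =>
          obtain ⟨g', rfl⟩ := hz
          apply Submodule.subset_span
          refine ⟨g * g', ?_⟩
          show ρ (g * g') w = ρ g (ρ g' w)
          rw [map_mul, Module.End.mul_apply]
        | zero => rw [map_zero]; exact Submodule.zero_mem _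
        | add a b _ _ ha hb => rw [map_add]; exact Submodule.add_mem _ ha hb
        | smul r a _ ha => rw [map_smul]; exact Submodule.smul_mem _ r ha }
  have hS : S = ⊤ := by
    rcases eq_bot_or_eq_top S with h | h
    · exfalso
      have hwS : w ∈ S.toSubmodule := by
        apply Submodule.subset_span
        exact ⟨1, by show ρ 1 w = w; rw [map_one, Module.End.one_apply]⟩
      rw [h] at hwS
      exact hw0' hwS
    · exact h
  have htop : (⊤ : Submodule ℂ V) ≤ W := by
    have h5 : S.toSubmodule ≤ W := by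
      apply Submodule.span_le.mpr
      rintro _ ⟨g, rfl⟩
      exact hmem g
    rw [hS] at h5
    exact h5
  have hWtop : W = ⊤ := top_le_iff.mp htop
  have := Fintype.ofFinite (orbitRel.Quotient C X)
  calc finrank ℂ V = finrank ℂ W := by rw [hWtop, finrank_top]
    _ ≤ Fintype.card (orbitRel.Quotient C X) := by
        rw [hW]
        exact finrank_range_le_card _
    _ = Nat.card (orbitRel.Quotient C X) := (Nat.card_eq_fintype_card).symm

end Upper

section Arith

theorem arith_count {ι : Type*} [Fintype ι] [DecidableEq ι] (m d : ι → ℕ) (N c : ℕ) (i0 : ι)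
    (hm : ∀ i, m i ≤ 1) (hd : ∀ i, m i = 1 → d i ≤ N) (h0 : m i0 = 1) (hd0 : d i0 = 1)
    (hsum1 : ∑ i, m i ^ 2 = c + 1) (hsum2 : ∑ i, m i * d i = c * N) :
    ∃ i1, i1 ≠ i0 ∧ m i1 = 1 ∧ d i1 + 1 = N ∧ ∀ i, m i = 1 → i ≠ i0 → i ≠ i1 → d i = N := by
  have hm01 : ∀ i, m i = 0 ∨ m i = 1 := fun i => by have := hm i; omega
  set e : ι → ℕ := fun i => m i * (N - d i) with he
  have h1 : ∑ i, m i * d i + ∑ i, e i = ∑ i, m i * N := by
    rw [← Finset.sum_add_distrib]
    refine Finset.sum_congr rfl fun i _ => ?_
    rcases hm01 i with h | h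
    · simp [he, h]
    · have := hd i h
      simp only [he, h, one_mul]
      omega
  have h2 : ∑ i, m i = c + 1 := by
    rw [← hsum1]
    refine Finset.sum_congr rfl fun i _ => ?_
    rcases hm01 i with h | h <;> simp [h]
  rw [← Finset.sum_mul, h2, hsum2] at h1
  have hsumE : ∑ i, e i = N := by
    have : (c + 1) * N = c * N + N := by ring
    omega
  have hN : 1 ≤ N := by have := hd i0 h0; omega
  have he0 : e i0 = N - 1 := by simp [he, h0, hd0]
  have h3 : ∑ i ∈ Finset.univ.erase i0, e i = 1 := by
    have := Finset.add_sum_erase Finset.univ e (Finset.mem_univ i0)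
    omega
  obtain ⟨i1, hi1, hi1e⟩ : ∃ i1 ∈ Finset.univ.erase i0, e i1 ≠ 0 := by
    by_contra hcon
    push Not at hcon
    rw [Finset.sum_eq_zero hcon] at h3
    exact absurd h3 (by norm_num)
  have hi10 : i1 ≠ i0 := (Finset.mem_erase.mp hi1).1
  have h4 : e i1 + ∑ i ∈ (Finset.univ.erase i0).erase i1, e i = 1 := by
    rw [Finset.add_sum_erase _ e hi1, h3]
  have he1 : e i1 = 1 := by omega
  have hrest : ∑ i ∈ (Finset.univ.erase i0).erase i1, e i = 0 := by omega
  have hm1 : m i1 = 1 := by
    rcases hm01 i1 with h | h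
    · exfalso; apply hi1e; simp [he, h]
    · exact h
  refine ⟨i1, hi10, hm1, ?_, ?_⟩
  · have := hd i1 hm1
    simp only [he, hm1, one_mul] at he1
    omega
  · intro i hmi hi0 hi1'
    have hmem : i ∈ (Finset.univ.erase i0).erase i1 :=
      Finset.mem_erase.mpr ⟨hi1', Finset.mem_erase.mpr ⟨hi0, Finset.mem_univ _⟩⟩
    have := Finset.sum_eq_zero_iff.mp hrest i hmem
    have hdi := hd i hmi
    simp only [he, hmi, one_mul] at this
    omega

end Arith

section Main

variable {G : Type*} [Group G] [Fintype G] {X : Type*} [Fintype X] [DecidableEq X] [MulAction G X]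
  {C : Type*} [CommGroup C] [Fintype C] [MulAction C X] [SMulCommClass G C X]

/-- for a free action, `|X| = |C| * |X / C|` -/
theorem card_eq_mul_orbits (hfree : ∀ (c : C) (x : X), c • x = x → c = 1) :
    Fintype.card X = Fintype.card C * Nat.card (orbitRel.Quotient C X) := by
  classical
  have hstab : ∀ b : X, stabilizer C b = ⊥ := by
    intro b
    rw [eq_bot_iff]
    intro c hc
    rw [Subgroup.mem_bot]
    exact hfree c b hc
  have e := selfEquivOrbitsQuotientProd hstab
  have := Fintype.ofFinite (orbitRel.Quotient C X)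
  rw [Fintype.card_congr e, Fintype.card_prod, mul_comm, Nat.card_eq_fintype_card]

variable [IsPretransitive G X]

/-- **The constituents of the permutation character and their degrees.** -/
theorem perm_constituents (hfree : ∀ (c : C) (x : X), c • x = x → c = 1)
    (h2 : ∀ x y x' y' : X, y ∉ orbit C x → y' ∉ orbit C x' → ∃ g : G, g • x = x' ∧ g • y = y')
    (x₀ y₀ : X) (hy₀ : y₀ ∉ orbit C x₀) :
    ∃ χ₁ : Cfsg.IrrCharacter G,
      (χ₁ : G → ℂ) 1 + 1 = (Nat.card (orbitRel.Quotient C X) : ℂ) ∧
      ∀ χ : Cfsg.IrrCharacter G,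
        Cfsg.classInner (fun g : G => (Nat.card (fixedBy X g) : ℂ)) χ ≠ 0 →
          (χ : G → ℂ) 1 = 1 ∨ (χ : G → ℂ) 1 + 1 = (Nat.card (orbitRel.Quotient C X) : ℂ) ∨
            (χ : G → ℂ) 1 = (Nat.card (orbitRel.Quotient C X) : ℂ) := by
  classical
  have hne : Nonempty X := ⟨x₀⟩
  set N := Nat.card (orbitRel.Quotient C X) with hN
  obtain ⟨m, deg, hm, hdeg, hdegpos, hmone, hcardX, hrank⟩ :=
    Cfsg.Agent.Lib.Helper81_Rank.perm_data (G := G) x₀
  have hPchar : (Cfsg.permRep ℂ G X).character = fun g : G => (Nat.card (fixedBy X g) : ℂ) :=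
    funext fun g => Cfsg.Agent.Lib.Helper81_PermChar.permRep_character g
  have hm01 : ∀ χ : Cfsg.IrrCharacter G, m χ ≤ 1 := by
    intro χ
    have h := Cfsg.Agent.Lib.Helper81_Centralizer.multFree_of_comm (Cfsg.permRep ℂ G X)
      (fun S T hS hT =>
        Cfsg.Agent.Lib.Helper81_ScalarOrbitals.comm (C := C) hfree h2 x₀ y₀ hy₀ S T hS hT) χ.1 χ.2
    rw [hPchar, hm χ] at h
    rcases h with h | h
    · have : m χ = 0 := by exact_mod_cast h
      omega
    · have : m χ = 1 := by exact_mod_cast h
      omega
  have hrank' : ∑ χ, m χ ^ 2 = Fintype.card C + 1 := by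
    rw [← hrank]
    exact Cfsg.Agent.Lib.Helper81_ScalarOrbitals.card_orbits (C := C) hfree h2 x₀ y₀ hy₀
  have hsum2 : ∑ χ, m χ * deg χ = Fintype.card C * N := by
    rw [← hcardX, card_eq_mul_orbits hfree]
  -- upper bound
  have hUB : ∀ χ : Cfsg.IrrCharacter G, m χ = 1 → deg χ ≤ N := by
    intro χ hχ
    obtain ⟨k, ρ, hirr, hρ⟩ := χ.2
    have h1 := classInner_perm_eq_finrank (X := X) ρ x₀
    rw [hρ, hm χ, hχ] at h1
    have h1' : finrank ℂ (Representation.invariants (ρ.comp (stabilizer G x₀).subtype)) = 1 := by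
      exact_mod_cast h1.symm
    have h3 := finrank_le_card_orbits (C := C) ρ x₀ h1'
    have h4 : (deg χ : ℂ) = (finrank ℂ (Fin k → ℂ) : ℂ) := by
      rw [← hdeg χ, ← hρ, Representation.char_one]
    have h5 : deg χ = finrank ℂ (Fin k → ℂ) := by exact_mod_cast h4
    rw [h5]
    exact h3
  have hd0 : deg (oneIrr G) = 1 := by
    have := hdeg (oneIrr G)
    have h1 : ((oneIrr G : Cfsg.IrrCharacter G) : G → ℂ) 1 = 1 := rfl
    rw [h1] at this
    exact_mod_cast this.symm
  obtain ⟨χ₁, hχ₁0, hχ₁m, hχ₁d, hrest⟩ :=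
    arith_count m deg N (Fintype.card C) (oneIrr G) hm01 hUB hmone hd0 hrank' hsum2
  refine ⟨χ₁, ?_, ?_⟩
  · rw [hdeg χ₁]
    exact_mod_cast hχ₁d
  · intro χ hχ
    have hmχ : m χ = 1 := by
      have h1 : m χ ≠ 0 := by
        intro h
        apply hχ
        rw [hm χ, h]
        norm_num
      have := hm01 χ
      omega
    by_cases h0 : χ = oneIrr G
    · left
      rw [hdeg χ, h0, hd0]
      norm_num
    · by_cases h1 : χ = χ₁
      · right; left
        rw [h1, hdeg χ₁]
        exact_mod_cast hχ₁d
      · right; right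
        rw [hdeg χ, hrest χ hmχ h0 h1]

end Main

end Cfsg.Agent.Lib.Helper30_S2332Perm
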