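import Mathlib
import Cfsg.Agent.S2336
import Cfsg.Agent.Lib.Helper30_S2332Perm

/-!
# Step T3 of S2332 for `SL_n(F)`, `n ≥ 3`

* `exists_irreducible`: there is an irreducible complex representation of degree
  `(q^n - q)/(q - 1)` (the existence half of S2332, valid for all `n ≥ 3`);
* `finrank_of_fixed_vector`: an irreducible representation with a non-zero vector fixed by the
  stabiliser of a non-zero vector of `F^n` has degree `1`, `N - 1` or `N`, `N = (q^n-1)/(q-1)`.
-/

set_option autoImplicit false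

namespace Cfsg.Agent.Lib.Helper30_S2332T3

open MulAction Module
open Cfsg.Agent.S2336 Cfsg.Agent.Lib.Helper30_S2332Perm
open Cfsg.Agent.Lib.Helper3_CharBridge

variable {F : Type*} [Field F] [Fintype F] [DecidableEq F] {n : ℕ}

/-- the number of points of projective space -/
theorem card_orbits_units :
    Nat.card (orbitRel.Quotient Fˣ (NZ F n)) = (Fintype.card F ^ n - 1) / (Fintype.card F - 1) := by
  classical
  have h := card_eq_mul_orbits (C := Fˣ) (X := NZ F n) free_units
  have h1 : Fintype.card (NZ F n) = Fintype.card F ^ n - 1 := by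
    rw [← Nat.card_eq_fintype_card]
    show Nat.card {v : Fin n → F // v ≠ 0} = _
    rw [Nat.card_eq_fintype_card, Fintype.card_subtype_compl, Fintype.card_subtype_eq,
      Fintype.card_fun, Fintype.card_fin]
  rw [h1, Fintype.card_units] at h
  have hq : 1 < Fintype.card F := Fintype.one_lt_card
  rw [h, Nat.mul_div_cancel_left _ (by omega)]

theorem arith_sub (q n : ℕ) (hq : 2 ≤ q) (hn : 1 ≤ n) :
    (q ^ n - q) / (q - 1) + 1 = (q ^ n - 1) / (q - 1) := by
  have hdvd : q - 1 ∣ q ^ n - 1 := by simpa using Nat.sub_dvd_pow_sub_pow q 1 n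
  obtain ⟨N, hN⟩ := hdvd
  have hq1 : 0 < q - 1 := by omega
  have hle : q ≤ q ^ n := by
    calc q = q ^ 1 := (pow_one q).symm
      _ ≤ q ^ n := Nat.pow_le_pow_right (by omega) hn
  have hNpos : 1 ≤ N := by
    rcases Nat.eq_zero_or_pos N with h | h
    · rw [h, mul_zero] at hN; omega
    · exact h
  have h1 : q ^ n - q = (q - 1) * (N - 1) := by
    rw [Nat.mul_sub, mul_one, ← hN]; omega
  rw [hN, h1, Nat.mul_div_cancel_left _ hq1, Nat.mul_div_cancel_left _ hq1]
  omega

section

variable (hn : 3 ≤ n)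
include hn

omit [Fintype F] [DecidableEq F] in
theorem exists_data :
    ∃ x₀ y₀ : NZ F n, y₀ ∉ orbit Fˣ x₀ := by
  have hn0 : 0 < n := by omega
  have hn1 : 1 < n := by omega
  set i0 : Fin n := ⟨0, hn0⟩ with hi0
  set i1 : Fin n := ⟨1, hn1⟩ with hi1
  have hi01 : i1 ≠ i0 := by
    intro h
    have := congrArg Fin.val h
    simp [hi0, hi1] at this
  refine ⟨⟨Pi.single i0 1, fun h => by
    have := congrFun h i0
    simp at this⟩, ⟨Pi.single i1 1, fun h => by
    have := congrFun h i1
    simp at this⟩, ?_⟩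
  intro h
  obtain ⟨c, hc⟩ := mem_orbit_iff.mp h
  have h1 : (c : F) • (Pi.single i0 1 : Fin n → F) = Pi.single i1 1 := congrArg Subtype.val hc
  have h2 := congrFun h1 i1
  simp [hi01] at h2

/-- **Existence half of S2332.** -/
theorem exists_irreducible :
    ∃ ρ : Representation ℂ (Matrix.SpecialLinearGroup (Fin n) F)
      (Fin ((Fintype.card F ^ n - Fintype.card F) / (Fintype.card F - 1)) → ℂ),
      ρ.IsIrreducible := by
  classical
  obtain ⟨x₀, y₀, hy₀⟩ := exists_data (F := F) hn
  have hpt : IsPretransitive (Matrix.SpecialLinearGroup (Fin n) F) (NZ F n) :=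
    pretransitive_sl (by omega)
  obtain ⟨χ₁, hχ₁, -⟩ := perm_constituents (G := Matrix.SpecialLinearGroup (Fin n) F)
    (C := Fˣ) free_units (two_transitive_sl hn) x₀ y₀ hy₀
  obtain ⟨k, ρ, hirr, hρ⟩ := χ₁.2
  have hq : 2 ≤ Fintype.card F := Fintype.one_lt_card
  have hk : k = (Fintype.card F ^ n - Fintype.card F) / (Fintype.card F - 1) := by
    have h1 : (χ₁ : Matrix.SpecialLinearGroup (Fin n) F → ℂ) 1 = (k : ℂ) := by
      rw [← hρ, Representation.char_one, Module.finrank_fin_fun]
    rw [h1, card_orbits_units] at hχ₁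
    have h2 : k + 1 = (Fintype.card F ^ n - 1) / (Fintype.card F - 1) := by exact_mod_cast hχ₁
    have := arith_sub (Fintype.card F) n hq (by omega)
    omega
  subst hk
  exact ⟨ρ, hirr⟩

variable {V : Type*} [AddCommGroup V] [Module ℂ V] [FiniteDimensional ℂ V]

/-- **T3(b)**: an irreducible representation with a non-zero vector fixed by the stabiliser of a
non-zero vector has degree `1`, `N - 1` or `N`. -/
theorem finrank_of_fixed_vector
    (ρ : Representation ℂ (Matrix.SpecialLinearGroup (Fin n) F) V) [ρ.IsIrreducible]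
    (x : Fin n → F) (hx : x ≠ 0) (w : V) (hw : w ≠ 0)
    (hfix : ∀ g : Matrix.SpecialLinearGroup (Fin n) F,
      (g : Matrix (Fin n) (Fin n) F).mulVec x = x → ρ g w = w) :
    finrank ℂ V = 1 ∨
      finrank ℂ V + 1 = (Fintype.card F ^ n - 1) / (Fintype.card F - 1) ∨
      finrank ℂ V = (Fintype.card F ^ n - 1) / (Fintype.card F - 1) := by
  classical
  have hpt : IsPretransitive (Matrix.SpecialLinearGroup (Fin n) F) (NZ F n) :=
    pretransitive_sl (by omega)
  -- a point outside the scalar orbit of `x`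
  obtain ⟨a₀, b₀, hb₀⟩ := exists_data (F := F) hn
  set x₀ : NZ F n := ⟨x, hx⟩ with hx₀
  obtain ⟨g₀, hg₀⟩ := exists_smul_eq (Matrix.SpecialLinearGroup (Fin n) F) a₀ x₀
  have hy₀ : g₀ • b₀ ∉ orbit Fˣ x₀ := by
    intro h
    obtain ⟨c, hc⟩ := mem_orbit_iff.mp h
    apply hb₀
    refine ⟨c, ?_⟩
    have : g₀ • (c • a₀) = g₀ • b₀ := by rw [smul_comm g₀ c a₀, hg₀, hc]
    exact (MulAction.injective g₀) this
  obtain ⟨χ₁, -, hall⟩ := perm_constituents (G := Matrix.SpecialLinearGroup (Fin n) F)
    (C := Fˣ) free_units (two_transitive_sl hn) x₀ (g₀ • b₀) hy₀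
  have h1 := classInner_perm_eq_finrank (X := NZ F n) ρ x₀
  have hwI : w ∈ Representation.invariants
      (ρ.comp (stabilizer (Matrix.SpecialLinearGroup (Fin n) F) x₀).subtype) := by
    intro h
    have hh : (h : Matrix.SpecialLinearGroup (Fin n) F) • x₀ = x₀ := h.2
    have hh' : ((h : Matrix.SpecialLinearGroup (Fin n) F) : Matrix (Fin n) (Fin n) F).mulVec x = x := by
      have := congrArg Subtype.val hh
      rwa [sl_smul_val] at this
    exact hfix _ hh'
  have hpos : finrank ℂ (Representation.invariants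
      (ρ.comp (stabilizer (Matrix.SpecialLinearGroup (Fin n) F) x₀).subtype)) ≠ 0 := by
    intro h0
    have hbot := Submodule.finrank_eq_zero.mp h0
    rw [hbot, Submodule.mem_bot] at hwI
    exact hw hwI
  have h2 := hall ⟨ρ.character, isIrrCharacter_of_rep ρ⟩ (by
    rw [h1]
    exact_mod_cast hpos)
  rw [card_orbits_units] at h2
  simp only [Representation.char_one] at h2
  rcases h2 with h | h | h
  · left; exact_mod_cast h
  · right; left; exact_mod_cast h
  · right; right; exact_mod_cast h

end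

end Cfsg.Agent.Lib.Helper30_S2332T3
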