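import Mathlib
import Cfsg.Agent.Lib.Helper81_Transvection
import Cfsg.Agent.Lib.Helper30_S2332Transv
import Cfsg.Agent.Lib.Helper30_S2332Conj

/-!
# Step T4 of S2332: the commutator claim, coordinate free

For `a, y : F^n` let `S(a, y)` be the set of `g ∈ SL_n(F)` with `g a = α a`, `g y = α y + β a`
(`α ≠ 0`): the stabiliser in the line stabiliser `P₁` of the character
`λ_y : 1 + a vᵀ ↦ ψ₀(v ⬝ y)` of the radical `U_a = {1 + a vᵀ : v ⬝ a = 0}`.
If `x = 1 + b wᵀ` is a transvection with `w ⬝ a = 0 = w ⬝ y` (so `x` fixes `a` and `λ_y`) then `x`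
is a commutator of two elements of `S(a, y)`, unless
`(n, q) ∈ {(3,2), (3,4), (4,2), (4,3)}`.
-/

set_option autoImplicit false

namespace Cfsg.Agent.Lib.Helper30_S2332T4C

open Matrix Module
open Cfsg.Agent.Lib.Helper30_S2332Transv Cfsg.Agent.Lib.Helper30_S2332Conj

variable {F : Type*} [Field F] {n : ℕ}

/-- `g` fixes the character `λ_y` of `U_a` (and the line `⟨a⟩`). -/
def InS (a y : Fin n → F) (g : Matrix.SpecialLinearGroup (Fin n) F) : Prop :=
  ∃ α β : F, α ≠ 0 ∧ (g : Matrix (Fin n) (Fin n) F) *ᵥ a = α • a ∧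
    (g : Matrix (Fin n) (Fin n) F) *ᵥ y = α • y + β • a

theorem inS_one (a y : Fin n → F) : InS a y 1 :=
  ⟨1, 0, one_ne_zero, by simp, by simp⟩

theorem InS.mul {a y : Fin n → F} {g h : Matrix.SpecialLinearGroup (Fin n) F} (hg : InS a y g)
    (hh : InS a y h) : InS a y (g * h) := by
  obtain ⟨α, β, hα, ha, hy⟩ := hg
  obtain ⟨α', β', hα', ha', hy'⟩ := hh
  refine ⟨α * α', α' * β + β' * α, mul_ne_zero hα hα', ?_, ?_⟩
  · rw [Matrix.SpecialLinearGroup.coe_mul, ← Matrix.mulVec_mulVec, ha', Matrix.mulVec_smul, ha,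
      smul_smul, mul_comm]
  · rw [Matrix.SpecialLinearGroup.coe_mul, ← Matrix.mulVec_mulVec, hy', Matrix.mulVec_add,
      Matrix.mulVec_smul, Matrix.mulVec_smul, hy, ha]
    module

theorem InS.inv {a y : Fin n → F} {g : Matrix.SpecialLinearGroup (Fin n) F} (hg : InS a y g) :
    InS a y g⁻¹ := by
  obtain ⟨α, β, hα, ha, hy⟩ := hg
  have hinv : ∀ x, ((g⁻¹ : Matrix.SpecialLinearGroup (Fin n) F) : Matrix (Fin n) (Fin n) F) *ᵥ
      ((g : Matrix (Fin n) (Fin n) F) *ᵥ x) = x := fun x => by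
    rw [Matrix.mulVec_mulVec, coe_inv_mul_coe, Matrix.one_mulVec]
  have ha' : ((g⁻¹ : Matrix.SpecialLinearGroup (Fin n) F) : Matrix (Fin n) (Fin n) F) *ᵥ a =
      α⁻¹ • a := by
    have := hinv a
    rw [ha, Matrix.mulVec_smul] at this
    calc _ = α⁻¹ • (α • (((g⁻¹ : Matrix.SpecialLinearGroup (Fin n) F) :
          Matrix (Fin n) (Fin n) F) *ᵥ a)) := by rw [smul_smul, inv_mul_cancel₀ hα, one_smul]
      _ = α⁻¹ • a := by rw [this]
  refine ⟨α⁻¹, -(β * α⁻¹ * α⁻¹), inv_ne_zero hα, ha', ?_⟩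
  have := hinv y
  rw [hy, Matrix.mulVec_add, Matrix.mulVec_smul, Matrix.mulVec_smul, ha'] at this
  have h2 : α • (((g⁻¹ : Matrix.SpecialLinearGroup (Fin n) F) : Matrix (Fin n) (Fin n) F) *ᵥ y) =
      y - β • α⁻¹ • a := eq_sub_of_add_eq this
  calc _ = α⁻¹ • (α • (((g⁻¹ : Matrix.SpecialLinearGroup (Fin n) F) :
        Matrix (Fin n) (Fin n) F) *ᵥ y)) := by rw [smul_smul, inv_mul_cancel₀ hα, one_smul]
    _ = α⁻¹ • y + -(β * α⁻¹ * α⁻¹) • a := by rw [h2]; module

/-- `S(a, y)` as a subgroup. -/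
def charStab (a y : Fin n → F) : Subgroup (Matrix.SpecialLinearGroup (Fin n) F) where
  carrier := {g | InS a y g}
  mul_mem' := fun hg hh => InS.mul hg hh
  one_mem' := inS_one a y
  inv_mem' := fun hg => InS.inv hg

theorem mem_charStab {a y : Fin n → F} {g : Matrix.SpecialLinearGroup (Fin n) F} :
    g ∈ charStab a y ↔ InS a y g := Iff.rfl

/-- transvections fixing `a` and `y` lie in `S(a, y)` -/
theorem inS_mkTransv {a y b w : Fin n → F} (hwb : w ⬝ᵥ b = 0) (hwa : w ⬝ᵥ a = 0)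
    (hwy : w ⬝ᵥ y = 0) : InS a y (mkTransv b w hwb) := by
  refine ⟨1, 0, one_ne_zero, ?_, ?_⟩
  · rw [coe_mkTransv, Matrix.add_mulVec, Matrix.one_mulVec, Matrix.vecMulVec_mulVec, hwa]
    simp
  · rw [coe_mkTransv, Matrix.add_mulVec, Matrix.one_mulVec, Matrix.vecMulVec_mulVec, hwy]
    simp

/-! ### The Steinberg commutator -/

theorem steinberg_matrix (b w w1 b2 : Fin n → F) (hwb : w ⬝ᵥ b = 0) (hwb2 : w ⬝ᵥ b2 = 0)
    (h12 : w1 ⬝ᵥ b2 = 1) :
    (1 + vecMulVec b w) * ((1 + vecMulVec b2 w) * (1 + vecMulVec b w1)) =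
      (1 + vecMulVec b w1) * (1 + vecMulVec b2 w) := by
  simp only [Matrix.mul_add, Matrix.add_mul, Matrix.mul_one, Matrix.one_mul,
    Matrix.vecMulVec_mul_vecMulVec, hwb, hwb2, h12, zero_smul, one_smul, Matrix.vecMulVec_zero,
    add_zero]
  abel

theorem steinberg {a y b w w1 b2 : Fin n → F} (hwb : w ⬝ᵥ b = 0) (hwa : w ⬝ᵥ a = 0)
    (hwy : w ⬝ᵥ y = 0) (hw1a : w1 ⬝ᵥ a = 0) (hw1y : w1 ⬝ᵥ y = 0) (hw1b : w1 ⬝ᵥ b = 0)
    (hwb2 : w ⬝ᵥ b2 = 0) (h12 : w1 ⬝ᵥ b2 = 1) :
    ∃ g h : Matrix.SpecialLinearGroup (Fin n) F, InS a y g ∧ InS a y h ∧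
      mkTransv b w hwb = g * h * g⁻¹ * h⁻¹ := by
  refine ⟨mkTransv b w1 hw1b, mkTransv b2 w hwb2, inS_mkTransv hw1b hw1a hw1y,
    inS_mkTransv hwb2 hwa hwy, ?_⟩
  rw [eq_mul_inv_iff_mul_eq, eq_mul_inv_iff_mul_eq]
  apply Subtype.ext
  rw [Matrix.SpecialLinearGroup.coe_mul, Matrix.SpecialLinearGroup.coe_mul,
    Matrix.SpecialLinearGroup.coe_mul, coe_mkTransv, coe_mkTransv, coe_mkTransv, Matrix.mul_assoc]
  exact steinberg_matrix b w w1 b2 hwb hwb2 h12

/-! ### The torus commutator -/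

theorem torus_matrix (H : Matrix (Fin n) (Fin n) F) (b w : Fin n → F) (σ ν t : F)
    (hwb : w ⬝ᵥ b = 0) (hHb : H *ᵥ b = σ • b) (hwH : w ᵥ* H = ν • w) (ht : (1 + t) * ν = t * σ) :
    (1 + vecMulVec b w) * ((1 + vecMulVec (t • b) w) * H) = H * (1 + vecMulVec (t • b) w) := by
  have h1 : (1 + vecMulVec b w) * (1 + vecMulVec (t • b) w) = 1 + vecMulVec ((1 + t) • b) w := by
    simp only [Matrix.mul_add, Matrix.add_mul, Matrix.mul_one, Matrix.one_mul,
      Matrix.vecMulVec_mul_vecMulVec, dotProduct_smul, hwb, smul_zero, zero_smul,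
      Matrix.vecMulVec_zero, add_zero]
    ext i j
    simp only [Matrix.add_apply, Matrix.vecMulVec_apply, Pi.smul_apply, smul_eq_mul]
    ring
  rw [← Matrix.mul_assoc, h1, Matrix.add_mul, Matrix.one_mul, Matrix.mul_add, Matrix.mul_one,
    Matrix.vecMulVec_mul, Matrix.mul_vecMulVec, hwH, Matrix.mulVec_smul, hHb]
  congr 1
  ext i j
  simp only [Matrix.vecMulVec_apply, Pi.smul_apply, smul_eq_mul]
  linear_combination (b i * w j) * ht

theorem torus {a y b w : Fin n → F} (H : Matrix.SpecialLinearGroup (Fin n) F) (σ ν t : F)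
    (hH : InS a y H) (hwb : w ⬝ᵥ b = 0) (hwa : w ⬝ᵥ a = 0) (hwy : w ⬝ᵥ y = 0)
    (hHb : (H : Matrix (Fin n) (Fin n) F) *ᵥ b = σ • b)
    (hwH : w ᵥ* (H : Matrix (Fin n) (Fin n) F) = ν • w) (ht : (1 + t) * ν = t * σ) :
    ∃ g h : Matrix.SpecialLinearGroup (Fin n) F, InS a y g ∧ InS a y h ∧
      mkTransv b w hwb = g * h * g⁻¹ * h⁻¹ := by
  have hwtb : w ⬝ᵥ (t • b) = 0 := by rw [dotProduct_smul, hwb, smul_zero]
  refine ⟨H, mkTransv (t • b) w hwtb, hH, inS_mkTransv hwtb hwa hwy, ?_⟩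
  rw [eq_mul_inv_iff_mul_eq, eq_mul_inv_iff_mul_eq]
  apply Subtype.ext
  rw [Matrix.SpecialLinearGroup.coe_mul, Matrix.SpecialLinearGroup.coe_mul,
    Matrix.SpecialLinearGroup.coe_mul, coe_mkTransv, coe_mkTransv, Matrix.mul_assoc]
  exact torus_matrix _ b w σ ν t hwb hHb hwH ht

/-! ### Field elements -/

theorem exists_pow_ne_one [Fintype F] [DecidableEq F] (k : ℕ) (hk : ¬ (Fintype.card F - 1) ∣ k) :
    ∃ α : F, α ≠ 0 ∧ α ^ k ≠ 1 := by
  by_contra hcon
  push Not at hcon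
  apply hk
  have h1 : ∀ α : Fˣ, α ^ k = 1 := fun α => by
    apply Units.ext
    rw [Units.val_pow_eq_pow_val, Units.val_one]
    exact hcon α α.ne_zero
  have h2 : Monoid.exponent Fˣ ∣ k := Monoid.exponent_dvd_of_forall_pow_eq_one h1
  rwa [IsCyclic.exponent_eq_card, Nat.card_eq_fintype_card, Fintype.card_units] at h2

/-! ### Vectors and functionals -/

/-- the vector representing a functional -/
def vecOf (f : Module.Dual F (Fin n → F)) : Fin n → F := fun i => f (Pi.single i 1)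

theorem vecOf_dotProduct (f : Module.Dual F (Fin n → F)) (x : Fin n → F) :
    vecOf f ⬝ᵥ x = f x := by
  have hx : x = ∑ i, x i • (Pi.single i 1 : Fin n → F) := by
    funext j
    simp [Finset.sum_apply, Pi.single_apply]
  conv_rhs => rw [hx]
  rw [map_sum]
  simp only [map_smul, smul_eq_mul, dotProduct, vecOf]
  exact Finset.sum_congr rfl fun i _ => mul_comm _ _

theorem rowForm_vecOf (f : Module.Dual F (Fin n → F)) : rowForm (vecOf f) = f :=
  LinearMap.ext fun x => vecOf_dotProduct f x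

theorem exists_dot_eq_one {w : Fin n → F} (hw : w ≠ 0) : ∃ d : Fin n → F, w ⬝ᵥ d = 1 := by
  obtain ⟨i, hi⟩ : ∃ i, w i ≠ 0 := by
    by_contra hcon; push Not at hcon; exact hw (funext hcon)
  refine ⟨(w i)⁻¹ • Pi.single i 1, ?_⟩
  rw [dotProduct_smul, dotProduct_single, mul_one, smul_eq_mul, inv_mul_cancel₀ hi]

/-! ### Rank one updates -/

theorem one_add_vmv_mulVec (u v x : Fin n → F) :
    (1 + vecMulVec u v) *ᵥ x = x + (v ⬝ᵥ x) • u := by
  rw [Matrix.add_mulVec, Matrix.one_mulVec, Matrix.vecMulVec_mulVec, op_smul_eq_smul]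

theorem vecMul_one_add_vmv (u v x : Fin n → F) :
    x ᵥ* (1 + vecMulVec u v) = x + (x ⬝ᵥ u) • v := by
  rw [Matrix.vecMul_add, Matrix.vecMul_one, Matrix.vecMul_vecMulVec]

/-- the scalar-type torus element: `α` on `w^⊥`, determinant one -/
theorem exists_scalarH {a y b w : Fin n → F} (hw : w ≠ 0) (hwb : w ⬝ᵥ b = 0) (hwa : w ⬝ᵥ a = 0)
    (hwy : w ⬝ᵥ y = 0) (α : F) (hα : α ≠ 0) :
    ∃ H : Matrix.SpecialLinearGroup (Fin n) F, InS a y H ∧
      (H : Matrix (Fin n) (Fin n) F) *ᵥ b = α • b ∧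
      w ᵥ* (H : Matrix (Fin n) (Fin n) F) = (α * (α ^ n)⁻¹) • w := by
  obtain ⟨d, hd⟩ := exists_dot_eq_one hw
  set c : F := (α ^ n)⁻¹ - 1 with hc
  set M : Matrix (Fin n) (Fin n) F := α • (1 + vecMulVec (c • d) w) with hM
  have hαn : α ^ n ≠ 0 := pow_ne_zero n hα
  have hdet : M.det = 1 := by
    rw [hM, Matrix.det_smul, det_one_add_vecMulVec', dotProduct_smul, hd, Fintype.card_fin, hc]
    simp only [smul_eq_mul, mul_one]
    field_simp
    ring
  have hMx : ∀ x, w ⬝ᵥ x = 0 → M *ᵥ x = α • x := by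
    intro x hx
    rw [hM, Matrix.smul_mulVec, one_add_vmv_mulVec, hx, zero_smul, add_zero]
  refine ⟨⟨M, hdet⟩, ⟨α, 0, hα, hMx a hwa, by rw [zero_smul, add_zero]; exact hMx y hwy⟩,
    hMx b hwb, ?_⟩
  show w ᵥ* M = _
  rw [hM, Matrix.vecMul_smul, vecMul_one_add_vmv, dotProduct_smul, hd, hc]
  simp only [smul_eq_mul, mul_one]
  module

/-- the two-dilation torus element: `s` on `b`, `s⁻¹` on `d`, identity on `a, y` -/
theorem exists_dilH {a y b w d β : Fin n → F} (hwb : w ⬝ᵥ b = 0) (hwa : w ⬝ᵥ a = 0)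
    (hwy : w ⬝ᵥ y = 0) (hwd : w ⬝ᵥ d = 1) (hβb : β ⬝ᵥ b = 1) (hβa : β ⬝ᵥ a = 0)
    (hβy : β ⬝ᵥ y = 0) (s : F) (hs : s ≠ 0) :
    ∃ H : Matrix.SpecialLinearGroup (Fin n) F, InS a y H ∧
      (H : Matrix (Fin n) (Fin n) F) *ᵥ b = s • b ∧
      w ᵥ* (H : Matrix (Fin n) (Fin n) F) = s⁻¹ • w := by
  set H1 : Matrix (Fin n) (Fin n) F := 1 + vecMulVec ((s - 1) • b) β with hH1
  set H2 : Matrix (Fin n) (Fin n) F := 1 + vecMulVec ((s⁻¹ - 1) • d) w with hH2
  have hdet : (H1 * H2).det = 1 := by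
    rw [Matrix.det_mul, hH1, hH2, det_one_add_vecMulVec', det_one_add_vecMulVec', dotProduct_smul,
      dotProduct_smul, hβb, hwd]
    simp only [smul_eq_mul, mul_one]
    field_simp
    ring
  have hH2x : ∀ x, w ⬝ᵥ x = 0 → H2 *ᵥ x = x := by
    intro x hx
    rw [hH2, one_add_vmv_mulVec, hx, zero_smul, add_zero]
  have hfix : ∀ x, w ⬝ᵥ x = 0 → β ⬝ᵥ x = 0 → (H1 * H2) *ᵥ x = x := by
    intro x hx hx'
    rw [← Matrix.mulVec_mulVec, hH2x x hx, hH1, one_add_vmv_mulVec, hx', zero_smul, add_zero]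
  refine ⟨⟨H1 * H2, hdet⟩, ⟨1, 0, one_ne_zero, ?_, ?_⟩, ?_, ?_⟩
  · rw [one_smul]; exact hfix a hwa hβa
  · rw [one_smul, zero_smul, add_zero]; exact hfix y hwy hβy
  · show (H1 * H2) *ᵥ b = s • b
    rw [← Matrix.mulVec_mulVec, hH2x b hwb, hH1, one_add_vmv_mulVec, hβb, one_smul]
    module
  · show w ᵥ* (H1 * H2) = s⁻¹ • w
    have hwH1 : w ᵥ* H1 = w := by
      rw [hH1, vecMul_one_add_vmv, dotProduct_smul, hwb, smul_zero, zero_smul, add_zero]
    rw [← Matrix.vecMul_vecMul, hwH1, hH2, vecMul_one_add_vmv, dotProduct_smul, hwd]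
    simp only [smul_eq_mul, mul_one]
    module

/-! ### The main theorem -/

/-- **T4C**: a transvection fixing `a` and `λ_y` is a commutator in `S(a, y)`. -/
theorem exists_commutator [Fintype F] [DecidableEq F] (hn : 3 ≤ n)
    (h3 : n = 3 → Fintype.card F ≠ 2 ∧ Fintype.card F ≠ 4)
    (h4 : n = 4 → Fintype.card F ≠ 2 ∧ Fintype.card F ≠ 3)
    (a y b w : Fin n → F) (hw : w ≠ 0)
    (hwb : w ⬝ᵥ b = 0) (hwa : w ⬝ᵥ a = 0) (hwy : w ⬝ᵥ y = 0) :
    ∃ g h : Matrix.SpecialLinearGroup (Fin n) F, InS a y g ∧ InS a y h ∧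
      mkTransv b w hwb = g * h * g⁻¹ * h⁻¹ := by
  have hq : 2 ≤ Fintype.card F := Fintype.one_lt_card
  set W : Submodule F (Fin n → F) := Submodule.span F (Set.range ![a, y, b]) with hW
  have hWle : finrank F W ≤ 3 := by
    have := finrank_range_le_card (R := F) ![a, y, b]
    rw [Fintype.card_fin] at this
    exact this
  have hsum := Subspace.finrank_add_finrank_dualAnnihilator_eq W
  rw [Module.finrank_fin_fun] at hsum
  have haW : a ∈ W := Submodule.subset_span ⟨0, rfl⟩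
  have hyW : y ∈ W := Submodule.subset_span ⟨1, rfl⟩
  have hbW : b ∈ W := Submodule.subset_span ⟨2, rfl⟩
  obtain ⟨d, hd⟩ := exists_dot_eq_one hw
  by_cases hA : 2 ≤ finrank F W.dualAnnihilator
  · -- Steinberg
    obtain ⟨φ, hφA, hφw⟩ : ∃ φ ∈ W.dualAnnihilator, φ ∉ Submodule.span F {rowForm w} := by
      by_contra hcon
      push Not at hcon
      have hle : W.dualAnnihilator ≤ Submodule.span F {rowForm w} := hcon
      have h1 := Submodule.finrank_mono hle
      have h2 : finrank F (Submodule.span F {rowForm w}) ≤ 1 := by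
        have := finrank_span_le_card (R := F) ({rowForm w} : Set (Module.Dual F (Fin n → F)))
        simpa using this
      omega
    have hφ0 : ∀ x ∈ W, φ x = 0 := (Submodule.mem_dualAnnihilator φ).mp hφA
    obtain ⟨x, hx, hφx⟩ : ∃ x, w ⬝ᵥ x = 0 ∧ φ x ≠ 0 := by
      by_contra hcon
      push Not at hcon
      apply hφw
      rw [Submodule.mem_span_singleton]
      refine ⟨φ d, ?_⟩
      apply LinearMap.ext
      intro z
      have h1 : w ⬝ᵥ (z - (w ⬝ᵥ z) • d) = 0 := by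
        rw [dotProduct_sub, dotProduct_smul, hd]; simp
      have h2 := hcon _ h1
      rw [map_sub, map_smul, sub_eq_zero] at h2
      rw [LinearMap.smul_apply, rowForm_apply, h2, smul_eq_mul, smul_eq_mul, mul_comm]
    have h12 : vecOf φ ⬝ᵥ ((φ x)⁻¹ • x) = 1 := by
      rw [vecOf_dotProduct, map_smul, smul_eq_mul, inv_mul_cancel₀ hφx]
    exact steinberg (w1 := vecOf φ) (b2 := (φ x)⁻¹ • x) hwb hwa hwy
      (by rw [vecOf_dotProduct]; exact hφ0 a haW) (by rw [vecOf_dotProduct]; exact hφ0 y hyW)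
      (by rw [vecOf_dotProduct]; exact hφ0 b hbW)
      (by rw [dotProduct_smul, hx, smul_zero]) h12
  · -- torus
    push Not at hA
    have hn4 : n ≤ 4 := by omega
    rcases Nat.lt_or_ge n 4 with hlt | hge
    · -- `n = 3`
      have hn3 : n = 3 := by omega
      obtain ⟨h32, h34⟩ := h3 hn3
      obtain ⟨α, hα, hα3⟩ := exists_pow_ne_one (F := F) 3 (by
        intro hdvd
        have := Nat.le_of_dvd (by norm_num) hdvd
        have h5 : Fintype.card F - 1 = 1 ∨ Fintype.card F - 1 = 3 := by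
          have : Fintype.card F - 1 ∣ 3 := hdvd
          have hp : Nat.Prime 3 := by norm_num
          exact (Nat.dvd_prime hp).mp this
        omega)
      obtain ⟨H, hH, hHb, hwH⟩ := exists_scalarH hw hwb hwa hwy α hα
      have hpow : α ^ n = α ^ 3 := by rw [hn3]
      rw [hpow] at hwH
      have hne : α ^ 3 - 1 ≠ 0 := sub_ne_zero.mpr hα3
      refine torus H α (α * (α ^ 3)⁻¹) (α ^ 3 - 1)⁻¹ hH hwb hwa hwy hHb hwH ?_
      field_simp
      ring
    · -- `n = 4`
      have hn4' : n = 4 := by omega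
      obtain ⟨h42, h43⟩ := h4 hn4'
      obtain ⟨s, hs, hs2⟩ := exists_pow_ne_one (F := F) 2 (by
        intro hdvd
        have h5 : Fintype.card F - 1 = 1 ∨ Fintype.card F - 1 = 2 := by
          have hp : Nat.Prime 2 := by norm_num
          exact (Nat.dvd_prime hp).mp hdvd
        omega)
      have hW3 : 3 ≤ finrank F W := by omega
      -- `b ∉ span {a, y, d}`
      have hbp : b ∉ Submodule.span F (Set.range ![a, y, d]) := by
        intro hb
        obtain ⟨c, hc⟩ := (Submodule.mem_span_range_iff_exists_fun F).mp hb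
        rw [Fin.sum_univ_three] at hc
        simp only [Matrix.cons_val_zero, Matrix.cons_val_one, Matrix.cons_val_two,
          Matrix.head_cons, Matrix.tail_cons] at hc
        have h1 : w ⬝ᵥ b = c 2 := by
          rw [← hc, dotProduct_add, dotProduct_add, dotProduct_smul, dotProduct_smul,
            dotProduct_smul, hwa, hwy, hd]
          simp
        rw [hwb] at h1
        have hb' : b = c 0 • a + c 1 • y := by
          rw [← hc, ← h1, zero_smul, add_zero]
        have hWle2 : W ≤ Submodule.span F (Set.range ![a, y]) := by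
          rw [hW, Submodule.span_le]
          rintro _ ⟨i, rfl⟩
          fin_cases i
          · exact Submodule.subset_span ⟨0, rfl⟩
          · exact Submodule.subset_span ⟨1, rfl⟩
          · show b ∈ _
            rw [hb']
            exact Submodule.add_mem _
              (Submodule.smul_mem _ _ (Submodule.subset_span ⟨0, rfl⟩))
              (Submodule.smul_mem _ _ (Submodule.subset_span ⟨1, rfl⟩))
        have h2 := Submodule.finrank_mono hWle2
        have h3' : finrank F (Submodule.span F (Set.range ![a, y])) ≤ 2 := by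
          have := finrank_range_le_card (R := F) ![a, y]
          rw [Fintype.card_fin] at this
          exact this
        omega
      obtain ⟨f, hfb, hf0⟩ :=
        Cfsg.Agent.Lib.Helper81_Transvection.exists_dual_one _ hbp
      have hfa : f a = 0 := hf0 a (Submodule.subset_span ⟨0, rfl⟩)
      have hfy : f y = 0 := hf0 y (Submodule.subset_span ⟨1, rfl⟩)
      obtain ⟨H, hH, hHb, hwH⟩ := exists_dilH (β := vecOf f) hwb hwa hwy hd
        (by rw [vecOf_dotProduct]; exact hfb) (by rw [vecOf_dotProduct]; exact hfa)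
        (by rw [vecOf_dotProduct]; exact hfy) s hs
      have hne : s ^ 2 - 1 ≠ 0 := sub_ne_zero.mpr hs2
      refine torus H s s⁻¹ (s ^ 2 - 1)⁻¹ hH hwb hwa hwy hHb hwH ?_
      field_simp
      ring

end Cfsg.Agent.Lib.Helper30_S2332T4C
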