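import Mathlib
import Cfsg.Agent.Lib.Helper30_S2332ClassSum
import Cfsg.Agent.Lib.Helper30_S2332Transv

/-!
# Step T5 of S2332: the degree divides `N_n (Q - 1) c`

If the character of an irreducible complex representation of `SL_n(F)` takes the constant integer
value `c` on all transvections, its degree divides `#T * c`, where
`#T = ((q^n-1)/(q-1)) * (q^(n-1) - 1)` is the number of transvections.
-/

set_option autoImplicit false

namespace Cfsg.Agent.Lib.Helper30_S2332T5

open Cfsg.Agent.Lib.Helper30_S2332ClassSum Cfsg.Agent.Lib.Helper30_S2332Transv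

variable {F : Type*} [Field F] [Fintype F] [DecidableEq F] {n : ℕ}

omit [DecidableEq F] in
/-- the number of transvections, closed form -/
theorem card_transv :
    Nat.card {t : Matrix.SpecialLinearGroup (Fin n) F // IsTransv t} =
      (Fintype.card F ^ n - 1) / (Fintype.card F - 1) * (Fintype.card F ^ (n - 1) - 1) := by
  have h := card_transv_mul (F := F) (n := n)
  rw [Nat.card_eq_fintype_card (α := F)] at h
  have hq : 1 < Fintype.card F := Fintype.one_lt_card
  have hq1 : 0 < Fintype.card F - 1 := by omega
  have hdvd : Fintype.card F - 1 ∣ Fintype.card F ^ n - 1 := by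
    simpa using Nat.sub_dvd_pow_sub_pow (Fintype.card F) 1 n
  obtain ⟨N, hN⟩ := hdvd
  rw [hN, Nat.mul_div_cancel_left _ hq1]
  rw [hN] at h
  apply Nat.eq_of_mul_eq_mul_right hq1
  rw [h]; ring

variable {V : Type*} [AddCommGroup V] [Module ℂ V] [FiniteDimensional ℂ V]

/-- **T5**: the degree of an irreducible representation whose character is the constant integer
`c` on transvections divides `#T * c`. -/
theorem finrank_dvd_of_transv_const
    (ρ : Representation ℂ (Matrix.SpecialLinearGroup (Fin n) F) V) [ρ.IsIrreducible] (c : ℤ)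
    (hc : ∀ t : Matrix.SpecialLinearGroup (Fin n) F, IsTransv t → ρ.character t = (c : ℂ)) :
    (Module.finrank ℂ V : ℤ) ∣
      (((Fintype.card F ^ n - 1) / (Fintype.card F - 1) * (Fintype.card F ^ (n - 1) - 1) : ℕ) : ℤ)
        * c := by
  classical
  have h := finrank_dvd_card_mul ρ (Finset.univ.filter IsTransv)
    (fun t ht g => by
      rw [Finset.mem_filter] at ht ⊢
      exact ⟨Finset.mem_univ _, ht.2.conj g⟩) c
    (fun t ht => hc t (Finset.mem_filter.mp ht).2)
  have h2 : (Finset.univ.filter (IsTransv (F := F) (n := n))).card =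
      Nat.card {t : Matrix.SpecialLinearGroup (Fin n) F // IsTransv t} := by
    rw [Nat.card_eq_fintype_card, Fintype.card_subtype]
  rw [h2, card_transv] at h
  exact h

end Cfsg.Agent.Lib.Helper30_S2332T5
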