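import Mathlib
import Cfsg.Agent.Lib.Helper77_SLnDefs
import Cfsg.Prelude.Def_Characters
import Cfsg.Agent.Lib.Helper77_CentralInt

set_option autoImplicit false
open Matrix Cfsg.Agent.Lib.Helper5_Transv Cfsg.Agent.Lib.Helper77_SLnDefs

namespace Cfsg.Agent.Lib.Helper30_S2332_INT

variable {F : Type*} [Field F] [Fintype F] [DecidableEq F] {κ : Type} [Fintype κ] [DecidableEq κ]
  {V : Type} [AddCommGroup V] [Module ℂ V] [FiniteDimensional ℂ V]

/-- a rational algebraic integer `a / d` (with `d ≠ 0`) gives `d ∣ a` -/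
theorem int_dvd_of_isIntegral_div (a d : ℤ) (hd : d ≠ 0)
    (h : IsIntegral ℤ ((a : ℂ) / (d : ℂ))) : d ∣ a := by
  have h3 : IsIntegral ℤ ((a : ℚ) / (d : ℚ)) := by
    have h5 : IsIntegral ℤ (algebraMap ℚ ℂ ((a : ℚ) / (d : ℚ))) := by
      rw [show algebraMap ℚ ℂ ((a : ℚ) / (d : ℚ)) = (a : ℂ) / (d : ℂ) from by
        rw [map_div₀]; simp]
      exact h
    exact (isIntegral_algebraMap_iff (algebraMap ℚ ℂ).injective).mp h5
  obtain ⟨z, hz⟩ := IsIntegrallyClosed.isIntegral_iff.mp h3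
  refine ⟨z, ?_⟩
  have hq : (d : ℚ) ≠ 0 := by exact_mod_cast hd
  have h6 : (a : ℚ) = (d : ℚ) * (z : ℚ) := by
    have : (algebraMap ℤ ℚ) z = (z : ℚ) := rfl
    rw [this] at hz
    rw [hz]; field_simp
  exact_mod_cast h6

theorem dvd_of_wdata (ρ : Representation ℂ (Matrix.SpecialLinearGroup (Unit ⊕ κ) F) V)
    (hirr : ρ.IsIrreducible) (ψ : AddChar F ℂ) (e f : ℕ) (hW : WData ρ ψ e f)
    (u : κ → F) (hu : u ≠ 0) (N : ℕ)
    (hidx : (Subgroup.centralizer ({xu u} : Set (Matrix.SpecialLinearGroup (Unit ⊕ κ) F))).index = N) :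
    Module.finrank ℂ V ∣ N * (e * Fintype.card F ^ Fintype.card κ) := by
  have : ρ.IsIrreducible := hirr
  have hint := Cfsg.Agent.Lib.Helper77_CentralInt.isIntegral_centralValue ρ (xu u)
  rw [hidx] at hint
  have htr : ρ.character (xu u) = (f : ℂ) - (e : ℂ) := hW.htr u hu
  rw [htr] at hint
  have hDpos : 0 < Module.finrank ℂ V := Cfsg.Agent.Lib.Helper16_Char.finrank_pos_of_irreducible ρ
  have hQ : 1 ≤ Fintype.card F ^ Fintype.card κ := Nat.one_le_pow _ _ Fintype.card_pos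
  have h1 : (N : ℂ) * ((f : ℂ) - (e : ℂ)) / (Module.finrank ℂ V : ℂ) =
      (((N : ℤ) * ((f : ℤ) - (e : ℤ)) : ℤ) : ℂ) / ((Module.finrank ℂ V : ℤ) : ℂ) := by
    push_cast; ring
  rw [h1] at hint
  have h2 := int_dvd_of_isIntegral_div _ _ (by exact_mod_cast hDpos.ne') hint
  -- `f - e = D - e * Q`
  have hD : (Module.finrank ℂ V : ℤ) = (f : ℤ) + (e : ℤ) *
      ((Fintype.card F : ℤ) ^ Fintype.card κ - 1) := by
    have := hW.hD
    rw [this]
    push_cast [Nat.cast_sub hQ]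
    ring
  have h3 : (Module.finrank ℂ V : ℤ) ∣ (N : ℤ) * ((e : ℤ) * (Fintype.card F : ℤ) ^ Fintype.card κ) := by
    have h4 : (N : ℤ) * ((e : ℤ) * (Fintype.card F : ℤ) ^ Fintype.card κ) =
        (N : ℤ) * (Module.finrank ℂ V : ℤ) - (N : ℤ) * ((f : ℤ) - (e : ℤ)) := by
      rw [hD]; ring
    rw [h4]
    exact dvd_sub (Dvd.intro_left _ rfl) h2
  exact_mod_cast h3

end Cfsg.Agent.Lib.Helper30_S2332_INT
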