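import Mathlib
import Cfsg.Agent.Lib.Helper77_SLnDefs
import Cfsg.Prelude.Def_Characters
import Cfsg.Agent.Lib.Helper30_S2332LineCore

set_option autoImplicit false
set_option linter.unusedVariables false
open Matrix Cfsg.Agent.Lib.Helper5_Transv Cfsg.Agent.Lib.Helper77_SLnDefs

namespace Cfsg.Agent.Lib.Helper30_S2332_LINE4

variable {F : Type*} [Field F] [Fintype F] [DecidableEq F] {κ : Type} [Fintype κ] [DecidableEq κ]
  {V : Type} [AddCommGroup V] [Module ℂ V] [FiniteDimensional ℂ V]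

theorem line_fixed_eq3 (hκ : Fintype.card κ = 3) (hq : 4 ≤ Fintype.card F)
    (ρ : Representation ℂ (Matrix.SpecialLinearGroup (Unit ⊕ κ) F) V) (ψ : AddChar F ℂ)
    (j k : κ) (hjk : j ≠ k) (t : F) (v : κ → F) (hv0 : v ≠ 0) (hv : v k = 0)
    (h1 : Module.finrank ℂ (wsp ρ ψ v) = 1) (w : V) (hw : w ∈ wsp ρ ψ v) :
    ρ (emb (rootEl j k hjk t)) w = w :=
  Cfsg.Agent.Lib.Helper30_S2332LineCore.line_fixed_core (by omega) (fun h => by omega)
    (fun _ => ⟨by omega, by omega⟩) ρ ψ j k hjk t v hv h1 w hw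

end Cfsg.Agent.Lib.Helper30_S2332_LINE4
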