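import Mathlib
import Cfsg.Agent.Lib.Helper77_SLnDefs
import Cfsg.Prelude.Def_Characters

set_option autoImplicit false
open Matrix Cfsg.Agent.Lib.Helper5_Transv Cfsg.Agent.Lib.Helper77_SLnDefs

namespace Cfsg.Agent.Lib.Helper30_S2332_ORBSPAN

variable {F : Type*} [Field F] [Fintype F] [DecidableEq F] {κ : Type} [Fintype κ] [DecidableEq κ]
  {V : Type} [AddCommGroup V] [Module ℂ V] [FiniteDimensional ℂ V]

open Module in
theorem finrank_le_index {G : Type*} [Group G] {X : Type*} [AddCommGroup X] [Module ℂ X]
    [FiniteDimensional ℂ X] (σ : Representation ℂ G X) (hirr : σ.IsIrreducible) (H : Subgroup G)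
    [H.FiniteIndex] (w : X) (hw : w ≠ 0) (hH : ∀ h ∈ H, ∃ c : ℂ, σ h w = c • w) :
    Module.finrank ℂ X ≤ H.index := by
  classical
  have : σ.IsIrreducible := hirr
  set W : Submodule ℂ X := Submodule.span ℂ (Set.range fun o : G ⧸ H => σ (Quotient.out o) w) with hW
  have hmem : ∀ g : G, σ g w ∈ W := by
    intro g
    set o : G ⧸ H := QuotientGroup.mk g with ho
    have hrel : (Quotient.out o)⁻¹ * g ∈ H := by
      have : (QuotientGroup.mk (Quotient.out o) : G ⧸ H) = QuotientGroup.mk g :=
        Quotient.out_eq' o
      exact QuotientGroup.eq.mp this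
    obtain ⟨c, hc⟩ := hH _ hrel
    have h3 : σ g w = c • σ (Quotient.out o) w := by
      have : σ g w = σ (Quotient.out o) (σ ((Quotient.out o)⁻¹ * g) w) := by
        rw [← Module.End.mul_apply, ← map_mul, mul_inv_cancel_left]
      rw [this, hc, map_smul]
    rw [h3]
    exact Submodule.smul_mem _ _ (Submodule.subset_span ⟨o, rfl⟩)
  let S : Subrepresentation σ :=
    { toSubmodule := Submodule.span ℂ (Set.range fun g : G => σ g w)
      apply_mem_toSubmodule := by
        intro g v hv
        induction hv using Submodule.span_induction with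
        | mem z hz =>
          obtain ⟨g', rfl⟩ := hz
          apply Submodule.subset_span
          refine ⟨g * g', ?_⟩
          show σ (g * g') w = σ g (σ g' w)
          rw [map_mul, Module.End.mul_apply]
        | zero => rw [map_zero]; exact Submodule.zero_mem _
        | add a b _ _ ha hb => rw [map_add]; exact Submodule.add_mem _ ha hb
        | smul r a _ ha => rw [map_smul]; exact Submodule.smul_mem _ r ha }
  have hS : S = ⊤ := by
    rcases eq_bot_or_eq_top S with h | h
    · exfalso
      have hwS : w ∈ S.toSubmodule := by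
        apply Submodule.subset_span
        exact ⟨1, by show σ 1 w = w; rw [map_one, Module.End.one_apply]⟩
      rw [h] at hwS
      exact hw hwS
    · exact h
  have htop : (⊤ : Submodule ℂ X) ≤ W := by
    have h5 : S.toSubmodule ≤ W := by
      apply Submodule.span_le.mpr
      rintro _ ⟨g, rfl⟩
      exact hmem g
    rw [hS] at h5
    exact h5
  have hWtop : W = ⊤ := top_le_iff.mp htop
  have : Finite (G ⧸ H) := Subgroup.finite_quotient_of_finiteIndex
  have := Fintype.ofFinite (G ⧸ H)
  calc finrank ℂ X = finrank ℂ W := by rw [hWtop, finrank_top]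
    _ ≤ Fintype.card (G ⧸ H) := by
        rw [hW]
        exact finrank_range_le_card _
    _ = H.index := by rw [Subgroup.index_eq_card, Nat.card_eq_fintype_card]

end Cfsg.Agent.Lib.Helper30_S2332_ORBSPAN
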