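import Mathlib
import Cfsg.Agent.Lib.Helper77_SLnDefs
import Cfsg.Prelude.Def_Characters
import Cfsg.Agent.Lib.Helper30_S2332Perm

set_option autoImplicit false
open Matrix Cfsg.Agent.Lib.Helper5_Transv Cfsg.Agent.Lib.Helper77_SLnDefs

namespace Cfsg.Agent.Lib.Helper30_S2332_REC

variable {F : Type*} [Field F] [Fintype F] [DecidableEq F] {κ : Type} [Fintype κ] [DecidableEq κ]
  {V : Type} [AddCommGroup V] [Module ℂ V] [FiniteDimensional ℂ V]

theorem stabFix_eq_invariants {G : Type*} [Group G] {X : Type*} [AddCommGroup X] [Module ℂ X]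
    (σ : Representation ℂ G X) (H : Subgroup G) :
    stabFix σ H = Representation.invariants (σ.comp H.subtype) := by
  ext w
  rw [mem_stabFix, Representation.mem_invariants]
  constructor
  · intro h g
    exact h g.1 g.2
  · intro h g hg
    exact h ⟨g, hg⟩

theorem classInner_perm_eq_finrank {G : Type*} [Group G] [Fintype G] {Ω : Type*} [Fintype Ω]
    [MulAction G Ω] [MulAction.IsPretransitive G Ω] (a : Ω)
    {X : Type*} [AddCommGroup X] [Module ℂ X] [FiniteDimensional ℂ X] (σ : Representation ℂ G X) :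
    Cfsg.classInner (fun g : G => (Nat.card (MulAction.fixedBy Ω g) : ℂ)) σ.character =
      (Module.finrank ℂ (stabFix σ (MulAction.stabilizer G a)) : ℂ) := by
  rw [stabFix_eq_invariants]
  exact Cfsg.Agent.Lib.Helper30_S2332Perm.classInner_perm_eq_finrank σ a

end Cfsg.Agent.Lib.Helper30_S2332_REC
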