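import Mathlib
import Cfsg.Agent.Lib.Helper30_QFDefs
import Cfsg.Agent.Lib.Helper30_QFPairDefs

/-!
# S2333-PAIR (helper74, package for helper30's S2333 market)

The pairing `qP` between symmetric matrices and quadratic forms:
rank-one evaluation, `GL`-equivariance, nondegeneracy, cardinality, zero-diagonal.

Main tool: for any bilinear `B` with `B x x = f x`,
`qP S f = ∑ i, ∑ j, S i j * B (e i) (e j)`.
-/

set_option autoImplicit false

namespace Cfsg.Agent.Lib.Helper74_S2333_PAIR

open Cfsg.Agent.Lib.Helper30_QFDefs Cfsg.Agent.Lib.Helper30_QFPairDefs Module QuadraticMap Matrix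
open Cfsg.Agent.Lib.Helper81_SpWeights

variable {F : Type*} [Field F] {n : ℕ}

/-- polar form through a bilinear companion -/
theorem polar_eq_of_companion (f : QuadraticForm F (Fin n → F))
    (B : LinearMap.BilinMap F (Fin n → F) F) (hB : ∀ x, B x x = f x) (x y : Fin n → F) :
    polar f x y = B x y + B y x := by
  unfold polar
  rw [← hB, ← hB, ← hB]
  simp only [map_add, LinearMap.add_apply]
  ring

/-- the pairing through any bilinear companion of `f` -/
theorem qP_eq_sum_bilin (S : symSub n F) (f : QuadraticForm F (Fin n → F))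
    (B : LinearMap.BilinMap F (Fin n → F) F) (hB : ∀ x, B x x = f x) :
    qP S f = ∑ i, ∑ j, S.1 i j * B (Pi.single i 1) (Pi.single j 1) := by
  rw [qP_apply]
  set b : Fin n → Fin n → F := fun i j => B (Pi.single i 1) (Pi.single j 1) with hb
  have hsym : ∀ i j, S.1 i j = S.1 j i := by
    intro i j
    have h := mem_symSub.mp S.2
    have := congrFun (congrFun h j) i
    simpa [Matrix.transpose_apply] using this
  have hsplit : ∀ i j : Fin n, S.1 i j * b i j =
      (if i = j then S.1 i j * b i j else 0) + (if i < j then S.1 i j * b i j else 0) +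
        (if j < i then S.1 i j * b i j else 0) := by
    intro i j
    rcases lt_trichotomy i j with h | h | h
    · simp [h, h.ne, h.not_gt]
    · subst h; simp
    · simp [h, h.ne', h.not_gt]
  have h3 : ∑ i : Fin n, ∑ j : Fin n, (if j < i then S.1 i j * b i j else 0) =
      ∑ i : Fin n, ∑ j : Fin n, (if i < j then S.1 i j * b j i else 0) := by
    rw [Finset.sum_comm]
    refine Finset.sum_congr rfl fun i _ => Finset.sum_congr rfl fun j _ => ?_
    rw [hsym j i]
  have h1 : ∑ i : Fin n, ∑ j : Fin n, (if i = j then S.1 i j * b i j else 0) =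
      ∑ i, S.1 i i * f (Pi.single i 1) := by
    refine Finset.sum_congr rfl fun i _ => ?_
    rw [Finset.sum_ite_eq]
    simp [hb, hB]
  calc ∑ i, S.1 i i * f (Pi.single i 1) +
        ∑ i, ∑ j, (if i < j then S.1 i j * polar f (Pi.single i 1) (Pi.single j 1) else 0)
      = ∑ i : Fin n, ∑ j : Fin n, (if i = j then S.1 i j * b i j else 0) +
          (∑ i : Fin n, ∑ j : Fin n, (if i < j then S.1 i j * b i j else 0) +
           ∑ i : Fin n, ∑ j : Fin n, (if i < j then S.1 i j * b j i else 0)) := by
        rw [h1]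
        congr 1
        rw [← Finset.sum_add_distrib]
        refine Finset.sum_congr rfl fun i _ => ?_
        rw [← Finset.sum_add_distrib]
        refine Finset.sum_congr rfl fun j _ => ?_
        rw [polar_eq_of_companion f B hB]
        split_ifs <;> simp [hb, mul_add]
    _ = ∑ i, ∑ j, S.1 i j * b i j := by
        rw [← h3, ← add_assoc, ← Finset.sum_add_distrib, ← Finset.sum_add_distrib]
        refine Finset.sum_congr rfl fun i _ => ?_
        rw [← Finset.sum_add_distrib, ← Finset.sum_add_distrib]
        refine Finset.sum_congr rfl fun j _ => ?_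
        exact (hsplit i j).symm

/-- every quadratic form on `Fin n → F` has a bilinear companion -/
theorem exists_companion (f : QuadraticForm F (Fin n → F)) :
    ∃ B : LinearMap.BilinMap F (Fin n → F) F, ∀ x, B x x = f x := by
  refine ⟨f.toBilin (Pi.basisFun F (Fin n)), fun x => ?_⟩
  have h := QuadraticMap.toQuadraticMap_toBilin f (Pi.basisFun F (Fin n))
  have := congrArg (fun g : QuadraticForm F (Fin n → F) => g x) h
  simpa [LinearMap.BilinMap.toQuadraticMap_apply] using this

theorem bilin_apply_sum (B : LinearMap.BilinMap F (Fin n → F) F) (v w : Fin n → F) :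
    B v w = ∑ i, ∑ j, v i * w j * B (Pi.single i 1) (Pi.single j 1) := by
  have hv : v = ∑ i, v i • (Pi.single i (1 : F) : Fin n → F) := by
    ext k
    simp [Finset.sum_apply, Pi.single_apply]
  have hw : w = ∑ i, w i • (Pi.single i (1 : F) : Fin n → F) := by
    ext k
    simp [Finset.sum_apply, Pi.single_apply]
  have h0 : B v w = B (∑ i, v i • (Pi.single i (1 : F) : Fin n → F))
      (∑ j, w j • (Pi.single j (1 : F) : Fin n → F)) := by rw [← hv, ← hw]
  rw [h0]
  simp only [map_sum, LinearMap.sum_apply, map_smul, LinearMap.smul_apply, smul_eq_mul]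
  simp only [Finset.mul_sum]
  rw [Finset.sum_comm]
  refine Finset.sum_congr rfl fun i _ => ?_
  refine Finset.sum_congr rfl fun j _ => ?_
  ring

theorem four_sum (g : Fin n → Fin n → Fin n → Fin n → F) :
    ∑ k, ∑ l, ∑ j, ∑ i, g k l j i = ∑ i, ∑ j, ∑ k, ∑ l, g k l j i := by
  calc ∑ k, ∑ l, ∑ j, ∑ i, g k l j i
      = ∑ k, ∑ l, ∑ i, ∑ j, g k l j i :=
        Finset.sum_congr rfl fun k _ => Finset.sum_congr rfl fun l _ => Finset.sum_comm
    _ = ∑ k, ∑ i, ∑ l, ∑ j, g k l j i :=
        Finset.sum_congr rfl fun k _ => Finset.sum_comm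
    _ = ∑ i, ∑ k, ∑ l, ∑ j, g k l j i := Finset.sum_comm
    _ = ∑ i, ∑ k, ∑ j, ∑ l, g k l j i :=
        Finset.sum_congr rfl fun i _ => Finset.sum_congr rfl fun k _ => Finset.sum_comm
    _ = ∑ i, ∑ j, ∑ k, ∑ l, g k l j i :=
        Finset.sum_congr rfl fun i _ => Finset.sum_comm

theorem qP_vecMulVec (v : Fin n → F) (f : QuadraticForm F (Fin n → F)) :
    qP ⟨vecMulVec v v, by
      show (vecMulVec v v)ᵀ = vecMulVec v v
      ext i j; simp [vecMulVec_apply, mul_comm]⟩ f = f v := by
  obtain ⟨B, hB⟩ := exists_companion f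
  rw [qP_eq_sum_bilin _ f B hB, ← hB v, bilin_apply_sum B v v]
  simp [vecMulVec_apply]

theorem qP_cong (A : Matrix (Fin n) (Fin n) F) (S : symSub n F)
    (f : QuadraticForm F (Fin n → F)) :
    qP (cong A S) f = qP S (f.comp (Matrix.toLin' A)) := by
  obtain ⟨B, hB⟩ := exists_companion f
  set B' : LinearMap.BilinMap F (Fin n → F) F := B.compl₁₂ (Matrix.toLin' A) (Matrix.toLin' A)
    with hB'def
  have hB' : ∀ x, B' x x = (f.comp (Matrix.toLin' A)) x := by
    intro x
    simp [hB'def, hB]
  rw [qP_eq_sum_bilin _ f B hB, qP_eq_sum_bilin _ _ B' hB']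
  have hcol : ∀ i : Fin n, Matrix.toLin' A (Pi.single i 1) = fun k => A k i := by
    intro i
    ext k
    simp [Matrix.toLin'_apply, Matrix.mulVec_single]
  have hBe : ∀ i j : Fin n, B' (Pi.single i 1) (Pi.single j 1) =
      ∑ k, ∑ l, A k i * A l j * B (Pi.single k 1) (Pi.single l 1) := by
    intro i j
    simp only [hB'def, LinearMap.compl₁₂_apply, hcol]
    rw [bilin_apply_sum B]
  simp only [hBe, cong, Matrix.mul_apply, Matrix.transpose_apply, Finset.sum_mul, Finset.mul_sum]
  -- LHS: ∑ k, ∑ l, ∑ j, ∑ i, A k i * S i j * A l j * b k l ; RHS: ∑ i, ∑ j, ∑ k, ∑ l, ...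
  rw [four_sum]
  refine Finset.sum_congr rfl fun i _ => Finset.sum_congr rfl fun j _ =>
    Finset.sum_congr rfl fun k _ => Finset.sum_congr rfl fun l _ => ?_
  ring

theorem qP_nondeg (f : QuadraticForm F (Fin n → F)) (hf : f ≠ 0) : ∃ S : symSub n F, qP S f ≠ 0 := by
  by_contra hcon
  push Not at hcon
  apply hf
  ext v
  have h := qP_vecMulVec v f
  rw [hcon] at h
  simpa using h.symm

/-- the upper triangular part of a matrix -/
def upper (S : Matrix (Fin n) (Fin n) F) : Matrix (Fin n) (Fin n) F :=
  fun i j => if i ≤ j then S i j else 0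

/-- the quadratic form `x ↦ ∑ i ≤ j, S i j x i x j` -/
noncomputable def formOf (S : symSub n F) : QuadraticForm F (Fin n → F) :=
  LinearMap.BilinMap.toQuadraticMap
    (Matrix.toLinearMap₂' F (upper S.1) : LinearMap.BilinMap F (Fin n → F) F)

theorem toLin2_single (M : Matrix (Fin n) (Fin n) F) (i j : Fin n) :
    Matrix.toLinearMap₂' F M (Pi.single i (1 : F)) (Pi.single j (1 : F)) = M i j := by
  rw [Matrix.toLinearMap₂'_apply']
  simp

theorem formOf_apply (S : symSub n F) (x : Fin n → F) :
    formOf S x = Matrix.toLinearMap₂' F (upper S.1) x x := rfl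

theorem formOf_single (S : symSub n F) (i : Fin n) : formOf S (Pi.single i 1) = S.1 i i := by
  rw [formOf_apply]
  refine (toLin2_single (upper S.1) i i).trans ?_
  simp [upper]

theorem polar_formOf_single (S : symSub n F) (i j : Fin n) (hij : i < j) :
    polar (formOf S) (Pi.single i 1) (Pi.single j 1) = S.1 i j := by
  rw [polar_eq_of_companion (formOf S)
    (Matrix.toLinearMap₂' F (upper S.1) : LinearMap.BilinMap F (Fin n → F) F)
    (fun x => (formOf_apply S x).symm)]
  have e1 := toLin2_single (upper S.1) i j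
  have e2 := toLin2_single (upper S.1) j i
  refine (congrArg₂ (· + ·) e1 e2).trans ?_
  simp [upper, hij.le, hij.not_ge]

theorem formOf_injective : Function.Injective (formOf : symSub n F → _) := by
  intro S T hST
  have hS := mem_symSub.mp S.2
  have hT := mem_symSub.mp T.2
  have hdiag : ∀ i, S.1 i i = T.1 i i := by
    intro i
    rw [← formOf_single, ← formOf_single, hST]
  have hup : ∀ i j, i < j → S.1 i j = T.1 i j := by
    intro i j hij
    rw [← polar_formOf_single S i j hij, ← polar_formOf_single T i j hij, hST]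
  apply Subtype.ext
  ext i j
  rcases lt_trichotomy i j with h | h | h
  · exact hup i j h
  · subst h; exact hdiag i
  · have h1 : S.1 i j = S.1 j i := by
      have := congrFun (congrFun hS i) j
      simpa [Matrix.transpose_apply] using this.symm
    have h2 : T.1 i j = T.1 j i := by
      have := congrFun (congrFun hT i) j
      simpa [Matrix.transpose_apply] using this.symm
    rw [h1, h2]
    exact hup j i h

theorem card_symSub_le [Finite F] :
    Nat.card (symSub n F) ≤ Nat.card (QuadraticForm F (Fin n → F)) := by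
  have : Finite (QuadraticForm F (Fin n → F)) :=
    Finite.of_injective (fun f : QuadraticForm F (Fin n → F) => (f : (Fin n → F) → F))
      DFunLike.coe_injective
  exact Nat.card_le_card_of_injective formOf formOf_injective

theorem exists_polar_ne_zero (S : symSub n F) (hS : ∀ i, S.1 i i = 0)
    (f : QuadraticForm F (Fin n → F)) (h : qP S f ≠ 0) : ∃ a b, polar f a b ≠ 0 := by
  by_contra hcon
  push Not at hcon
  apply h
  rw [qP_apply]
  simp [hS, hcon]

end Cfsg.Agent.Lib.Helper74_S2333_PAIR
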