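import Mathlib
import Cfsg.Agent.Lib.Helper30_QFDefs
import Cfsg.Agent.Lib.Helper30_QFPairDefs
import Cfsg.Agent.Lib.Helper74_S2333_PAIR
import Cfsg.Agent.Lib.Helper81_SpWeights
import Cfsg.Agent.Lib.Helper81_JointEigen
import Cfsg.Agent.Lib.Helper81_AddCharDual

set_option autoImplicit false

/-!
# Weights of the Siegel radical of `Sp_{2n}(q)`, `q` even (helper30, S2333)

`core_even`: a representation of `Sp_{2n}(F)`, `char F = 2`, over an algebraically closed field of
odd characteristic, in which a Siegel element `xs S₁` with `S₁` of zero diagonal acts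
non-trivially, has dimension at least the size of the `GL_n`-orbit of a quadratic form with
non-zero polar form: the weights of the Siegel radical are `S ↦ ψ (qP S f)`, `f` a quadratic
form, and the Levi subgroup moves them by `f ↦ f ∘ A`.
-/

namespace Cfsg.Agent.Lib.Helper30_S2333Core

open Matrix Module QuadraticMap
open Cfsg.Agent.Lib.Helper30_QFDefs Cfsg.Agent.Lib.Helper30_QFPairDefs
open Cfsg.Agent.Lib.Helper5_SpPerfect Cfsg.Agent.Lib.Helper81_JointEigen
  Cfsg.Agent.Lib.Helper81_AddCharDual Cfsg.Agent.Lib.Helper81_SpWeights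
open Cfsg.Agent.Lib.Helper74_S2333_PAIR

universe u

variable {F : Type u} [Field F] [Fintype F] {n : ℕ}

variable {K : Type*} [Field K] [IsAlgClosed K] {M : Type*} [AddCommGroup M] [Module K M]
  [FiniteDimensional K M]

set_option maxHeartbeats 1600000 in
/-- the weights of the Siegel radical in characteristic two: a representation in which some
Siegel element with zero diagonal acts non-trivially has dimension at least the size of the orbit
of a quadratic form with non-zero polar form -/
theorem core_even (h2 : (2 : F) = 0) (h2K : (2 : K) ≠ 0)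
    (R : ↥(Matrix.symplecticGroup (Fin n) F) →* Module.End K M)
    (S₁ : symSub n F) (hS₁ : ∀ i, S₁.1 i i = 0) (hnt : R (xs S₁) ≠ 1) :
    ∃ f₀ : QuadraticForm F (Fin n → F), (∃ a b, polar f₀ a b ≠ 0) ∧
      (orb f₀).ncard ≤ finrank K M := by
  classical
  have hpK : ((2 : ℕ) : K) ≠ 0 := by exact_mod_cast h2K
  have : Finite (QuadraticForm F (Fin n → F)) :=
    Finite.of_injective (fun f => (f : (Fin n → F) → F)) DFunLike.coe_injective
  let _ : Fintype (QuadraticForm F (Fin n → F)) := Fintype.ofFinite _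
  set A : symSub n F → Module.End K M := fun S => R (xs S) with hAdef
  have hA : ∀ S, A S ^ 2 = 1 := by
    intro S
    show R (xs S) ^ 2 = 1
    rw [← map_pow, xs_pow]
    have : 2 • S = 0 := by
      rw [← Nat.cast_smul_eq_nsmul F]
      have : ((2 : ℕ) : F) = 0 := by exact_mod_cast h2
      rw [this, zero_smul]
    rw [this, xs_zero, map_one]
  have hcomm : ∀ S S', Commute (A S) (A S') := fun S S' => (xs_comm S S').map R
  have hAadd : ∀ S S', A (S + S') = A S * A S' := fun S S' => by
    show R (xs (S + S')) = R (xs S) * R (xs S')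
    rw [xs_add, map_mul]
  have hA0 : A 0 = 1 := by
    show R (xs 0) = 1
    rw [xs_zero, map_one]
  -- weights are additive characters
  have hwt : ∀ χ : symSub n F → K, jointEigenspace A χ ≠ ⊥ →
      χ 0 = 1 ∧ ∀ S S', χ (S + S') = χ S * χ S' := by
    intro χ hχ
    obtain ⟨x, hxmem, hxne⟩ := Submodule.exists_mem_ne_zero_of_ne_bot hχ
    have hx : ∀ S, A S x = χ S • x := (mem_jointEigenspace A χ x).mp hxmem
    constructor
    · have h1 : χ 0 • x = (1 : K) • x := by
        rw [← hx 0, hA0, one_smul]; rfl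
      exact smul_left_injective K hxne h1
    · intro S S'
      have h1 : χ (S + S') • x = (χ S * χ S') • x := by
        rw [← hx (S + S'), hAadd, Module.End.mul_apply, hx S', map_smul, hx S, smul_smul,
          mul_comm]
      exact smul_left_injective K hxne h1
  -- a weight non-trivial on `S₁`
  obtain ⟨χ₀, hχ₀, hS₁χ⟩ : ∃ χ₀ : symSub n F → K, jointEigenspace A χ₀ ≠ ⊥ ∧ χ₀ S₁ ≠ 1 := by
    by_contra hcon
    push Not at hcon
    apply hnt
    have htop := iSup_jointEigenspace hpK A hA hcomm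
    have hle : (⊤ : Submodule K M) ≤ LinearMap.ker (A S₁ - 1) := by
      rw [← htop]
      refine iSup_le fun χ => ?_
      by_cases h : jointEigenspace A χ = ⊥
      · rw [h]; exact bot_le
      · intro x hx
        rw [LinearMap.mem_ker, LinearMap.sub_apply,
          (mem_jointEigenspace A χ x).mp hx S₁, hcon χ h, one_smul]
        exact sub_self _
    refine LinearMap.ext fun x => ?_
    have := hle (Submodule.mem_top : x ∈ ⊤)
    rw [LinearMap.mem_ker, LinearMap.sub_apply, sub_eq_zero] at this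
    exact this
  obtain ⟨hχ0, hχadd⟩ := hwt χ₀ hχ₀
  -- the additive character of `F`
  set ψ₀ : F → K := fun s => χ₀ (s • S₁) with hψ₀
  have hψ0 : ψ₀ 0 = 1 := by
    show χ₀ ((0 : F) • S₁) = 1
    rw [zero_smul, hχ0]
  have hψadd : ∀ a b, ψ₀ (a + b) = ψ₀ a * ψ₀ b := fun a b => by
    show χ₀ ((a + b) • S₁) = χ₀ (a • S₁) * χ₀ (b • S₁)
    rw [add_smul, hχadd]
  have hψne : ∃ a, ψ₀ a ≠ 1 := ⟨1, by
    show χ₀ ((1 : F) • S₁) ≠ 1
    rw [one_smul]; exact hS₁χ⟩
  -- every weight comes from the pairing with a quadratic form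
  have hex : ∀ χ : symSub n F → K, jointEigenspace A χ ≠ ⊥ →
      ∃ f : QuadraticForm F (Fin n → F), ∀ S, χ S = ψ₀ (qP S f) := fun χ hχ =>
    exists_eq_pairing ψ₀ hψ0 hψadd hψne qP qP_nondeg card_symSub_le χ (hwt χ hχ).1 (hwt χ hχ).2
  set wt : QuadraticForm F (Fin n → F) → symSub n F → K := fun f S => ψ₀ (qP S f) with hwtdef
  have hwtinj : Function.Injective wt :=
    pairing_injective ψ₀ hψ0 hψadd hψne qP qP_nondeg
  have hRne : ∀ (h : ↥(Matrix.symplecticGroup (Fin n) F)) (x : M), x ≠ 0 → R h x ≠ 0 := by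
    intro h x hx h0
    apply hx
    have h1 : R h⁻¹ (R h x) = x := by
      rw [← Module.End.mul_apply, ← map_mul, inv_mul_cancel, map_one]; rfl
    rw [← h1, h0, map_zero]
  -- the set of weights
  set O : Finset (QuadraticForm F (Fin n → F)) :=
    Finset.univ.filter fun f => jointEigenspace A (wt f) ≠ ⊥ with hO
  have key := card_le_finrank hpK A hA hcomm (Y := ↥O) (fun f => wt f.1)
    (hwtinj.comp Subtype.val_injective) (fun f => (Finset.mem_filter.mp f.2).2)
  rw [Fintype.card_coe] at key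
  -- the distinguished weight
  obtain ⟨f₀, hf₀⟩ := hex χ₀ hχ₀
  have hf₀O : f₀ ∈ O := by
    rw [Finset.mem_filter]
    refine ⟨Finset.mem_univ _, ?_⟩
    have : wt f₀ = χ₀ := funext fun S => (hf₀ S).symm
    rw [this]; exact hχ₀
  have hpol : ∃ a b, polar f₀ a b ≠ 0 := by
    apply exists_polar_ne_zero S₁ hS₁ f₀
    intro h0
    apply hS₁χ
    rw [hf₀ S₁, h0, hψ0]
  refine ⟨f₀, hpol, le_trans ?_ key⟩
  -- the orbit consists of weights
  have hsub : orb f₀ ⊆ (O : Set (QuadraticForm F (Fin n → F))) := by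
    rintro f' ⟨g, rfl⟩
    set B : Matrix (Fin n) (Fin n) F := LinearMap.toMatrix' (g : (Fin n → F) →ₗ[F] (Fin n → F))
      with hB
    set C : Matrix (Fin n) (Fin n) F :=
      LinearMap.toMatrix' (g.symm : (Fin n → F) →ₗ[F] (Fin n → F)) with hC
    have hCB : C * B = 1 := by
      rw [hC, hB, ← LinearMap.toMatrix'_comp]
      have : (g.symm : (Fin n → F) →ₗ[F] (Fin n → F)) ∘ₗ (g : (Fin n → F) →ₗ[F] (Fin n → F)) =
          LinearMap.id := by
        ext x; simp
      rw [this, LinearMap.toMatrix'_id]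
    have hBg : Matrix.toLin' B = (g : (Fin n → F) →ₗ[F] (Fin n → F)) := by
      rw [hB, Matrix.toLin'_toMatrix']
    show f₀.comp (g : (Fin n → F) →ₗ[F] (Fin n → F)) ∈ (O : Set _)
    rw [Finset.mem_coe, Finset.mem_filter]
    refine ⟨Finset.mem_univ _, ?_⟩
    obtain ⟨-, hf₀e⟩ := Finset.mem_filter.mp hf₀O
    obtain ⟨x, hxmem, hxne⟩ := Submodule.exists_mem_ne_zero_of_ne_bot hf₀e
    have hx : ∀ S, A S x = wt f₀ S • x := (mem_jointEigenspace A (wt f₀) x).mp hxmem
    intro hbot
    have hy : R (Lg C B hCB) x ∈ jointEigenspace A (wt (f₀.comp (g : (Fin n → F) →ₗ[F] (Fin n → F)))) := by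
      rw [mem_jointEigenspace]
      intro S
      show R (xs S) (R (Lg C B hCB) x) = ψ₀ (qP S (f₀.comp (g : (Fin n → F) →ₗ[F] (Fin n → F)))) • R (Lg C B hCB) x
      have e1 : xs S * Lg C B hCB = Lg C B hCB * xs (cong B S) := by
        rw [lg_mul_xs C B hCB (cong B S), cong_cong B C hCB S]
      rw [← Module.End.mul_apply, ← map_mul, e1, map_mul, Module.End.mul_apply]
      have := hx (cong B S)
      show R (Lg C B hCB) (A (cong B S) x) = _
      rw [this, map_smul]
      congr 1
      show ψ₀ (qP (cong B S) f₀) = ψ₀ (qP S (f₀.comp (g : (Fin n → F) →ₗ[F] (Fin n → F))))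
      rw [qP_cong, hBg]
    rw [hbot] at hy
    exact hRne _ _ hxne ((Submodule.mem_bot K).mp hy)
  calc (orb f₀).ncard ≤ (O : Set (QuadraticForm F (Fin n → F))).ncard :=
        Set.ncard_le_ncard hsub (Finset.finite_toSet O)
    _ = O.card := Set.ncard_coe_finset O

end Cfsg.Agent.Lib.Helper30_S2333Core
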