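import Mathlib
import Cfsg.Agent.Lib.Helper30_QFDefs

/-!
# S2333 package HYPSTEP (helper53; architect helper30)

`hypStep`: for `f = hypSum h` (`f (x, y, z) = x * y + h z`) on `F × F × V'` the explicit injection
`(lam ≠ 0, μ, h' ∈ orb h) ↦ (hypSum h' + (μ ∘ snd) * y) ∘ (id × gb lam)` into `orb f` gives
`(q^(n'+1) - 1) q^(n'+1) |orb h| ≤ |orb (hypSum h)|`.
`gb lam` is the automorphism `u ↦ u + (lam u - u.1) • w` of `F × V'` (`w.1 = 1`, `lam w ≠ 0`), whose
first coordinate is `lam`.
-/

set_option linter.unusedVariables false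
set_option autoImplicit false

namespace Cfsg.Agent.Lib.Helper53_S2333_HYPSTEP

open Cfsg.Agent.Lib.Helper30_QFDefs Module QuadraticMap

universe u

section Gen

variable {F : Type*} [Field F] {V' : Type*} [AddCommGroup V'] [Module F V']

/-- for a nonzero functional `lam` on `F × V'` there is `w` with first coordinate `1` and
`lam w ≠ 0` -/
theorem exists_good_vec (lam : Module.Dual F (F × V')) (hlam : lam ≠ 0) :
    ∃ w : F × V', w.1 = 1 ∧ lam w ≠ 0 := by
  by_cases h1 : lam ((1 : F), (0 : V')) = 0
  · obtain ⟨c, hc⟩ : ∃ c, lam c ≠ 0 := by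
      by_contra hcon
      push Not at hcon
      exact hlam (LinearMap.ext hcon)
    refine ⟨c + (1 - c.1) • ((1 : F), (0 : V')), ?_, ?_⟩
    · simp
    · rw [map_add, map_smul, h1, smul_zero, add_zero]
      exact hc
  · exact ⟨((1 : F), (0 : V')), rfl, h1⟩

/-- the linear endomorphism `u ↦ u + (lam u - u.1) • w` -/
def gbLin (lam : Module.Dual F (F × V')) (w : F × V') : (F × V') →ₗ[F] (F × V') :=
  LinearMap.id + (lam - LinearMap.fst F F V').smulRight w

theorem gbLin_apply (lam : Module.Dual F (F × V')) (w u : F × V') :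
    gbLin lam w u = u + (lam u - u.1) • w := rfl

theorem gbLin_fst (lam : Module.Dual F (F × V')) (w : F × V') (hw : w.1 = 1) (u : F × V') :
    (gbLin lam w u).1 = lam u := by
  rw [gbLin_apply]
  simp [hw]

theorem gbLin_injective (lam : Module.Dual F (F × V')) (w : F × V') (hw : w.1 = 1)
    (hlw : lam w ≠ 0) : Function.Injective (gbLin lam w) := by
  rw [← LinearMap.ker_eq_bot, LinearMap.ker_eq_bot']
  intro u hu
  have h1 : lam u = 0 := by
    rw [← gbLin_fst lam w hw u, hu]
    rfl
  rw [gbLin_apply, h1] at hu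
  -- `u = u.1 • w`
  have h2 : u = u.1 • w := by
    have : u + (0 - u.1) • w = 0 := hu
    rw [zero_sub, neg_smul] at this
    exact (add_neg_eq_zero.mp this)
  have h3 : lam u = u.1 * lam w := by
    conv_lhs => rw [h2]
    rw [map_smul, smul_eq_mul]
  rw [h1] at h3
  have h4 : u.1 = 0 := by
    rcases mul_eq_zero.mp h3.symm with h | h
    · exact h
    · exact absurd h hlw
  rw [h2, h4, zero_smul]

/-- a chosen vector with first coordinate `1` on which `lam` does not vanish -/
noncomputable def wOf (lam : {l : Module.Dual F (F × V') // l ≠ 0}) : F × V' :=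
  Classical.choose (exists_good_vec lam.1 lam.2)

theorem wOf_fst (lam : {l : Module.Dual F (F × V') // l ≠ 0}) : (wOf lam).1 = 1 :=
  (Classical.choose_spec (exists_good_vec lam.1 lam.2)).1

theorem wOf_ne (lam : {l : Module.Dual F (F × V') // l ≠ 0}) : lam.1 (wOf lam) ≠ 0 :=
  (Classical.choose_spec (exists_good_vec lam.1 lam.2)).2

section Fin

variable [Module.Finite F V']

/-- a chosen automorphism of `F × V'` whose first coordinate is `lam` -/
noncomputable def gb (lam : {l : Module.Dual F (F × V') // l ≠ 0}) :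
    (F × V') ≃ₗ[F] (F × V') :=
  LinearEquiv.ofInjectiveEndo (gbLin lam.1 (wOf lam))
    (gbLin_injective lam.1 (wOf lam) (wOf_fst lam) (wOf_ne lam))

theorem gb_fst (lam : {l : Module.Dual F (F × V') // l ≠ 0}) (u : F × V') :
    (gb lam u).1 = lam.1 u := by
  unfold gb
  rw [LinearEquiv.coe_ofInjectiveEndo]
  exact gbLin_fst lam.1 (wOf lam) (wOf_fst lam) u

end Fin

/-- the form `(x, y, z) ↦ x * y + h' z + μ (y, z) * y` -/
def QQ (μ : Module.Dual F (F × V')) (h' : QuadraticForm F V') : QuadraticForm F (F × F × V') :=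
  hypSum h' + QuadraticMap.linMulLin (μ ∘ₗ LinearMap.snd F F (F × V'))
    (LinearMap.fst F F V' ∘ₗ LinearMap.snd F F (F × V'))

theorem QQ_apply (μ : Module.Dual F (F × V')) (h' : QuadraticForm F V') (x y : F) (z : V') :
    QQ μ h' (x, y, z) = x * y + h' z + μ (y, z) * y := rfl

/-- the shear `(x, u) ↦ (x + μ u, u)` -/
def shear (μ : Module.Dual F (F × V')) : (F × F × V') ≃ₗ[F] (F × F × V') :=
  LinearEquiv.ofLinearMap
    ((LinearMap.fst F F (F × V') + μ ∘ₗ LinearMap.snd F F (F × V')).prod
      (LinearMap.snd F F (F × V')))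
    ((LinearMap.fst F F (F × V') - μ ∘ₗ LinearMap.snd F F (F × V')).prod
      (LinearMap.snd F F (F × V')))
    (by
      apply LinearMap.ext
      rintro ⟨x, u⟩
      simp)
    (by
      apply LinearMap.ext
      rintro ⟨x, u⟩
      simp)

theorem shear_apply (μ : Module.Dual F (F × V')) (x : F) (u : F × V') :
    shear μ (x, u) = (x + μ u, u) := rfl

theorem QQ_eq_comp (μ : Module.Dual F (F × V')) (h : QuadraticForm F V') (g' : V' ≃ₗ[F] V') :
    QQ μ (h.comp (g' : V' →ₗ[F] V')) = (hypSum h).comp
      (((shear μ).trans (LinearEquiv.prodCongr (LinearEquiv.refl F F)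
        (LinearEquiv.prodCongr (LinearEquiv.refl F F) g')) :
          (F × F × V') ≃ₗ[F] (F × F × V')) : (F × F × V') →ₗ[F] (F × F × V')) := by
  ext ⟨x, y, z⟩
  rw [QQ_apply]
  simp only [QuadraticMap.comp_apply, LinearEquiv.coe_coe, LinearEquiv.trans_apply, shear_apply,
    LinearEquiv.prodCongr_apply, LinearEquiv.refl_apply, hypSum_apply]
  ring

end Gen

variable {F : Type u} [Field F] [Fintype F]

theorem hypStep (h2 : (2 : F) = 0) {V' : Type u} [AddCommGroup V'] [Module F V']
    [Module.Finite F V'] (h : QuadraticForm F V') :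
    (Fintype.card F ^ (finrank F V' + 1) - 1) * Fintype.card F ^ (finrank F V' + 1) *
      (orb h).ncard ≤ (orb (hypSum h)).ncard := by
  classical
  have hfinV : Finite V' := Module.finite_of_finite F
  have hfinQ : Finite (QuadraticForm F (F × F × V')) :=
    Finite.of_injective (fun Q => (Q : F × F × V' → F)) DFunLike.coe_injective
  have hfinD : Finite (Module.Dual F (F × V')) := Module.finite_of_finite F
  -- the map
  let Φ : {l : Module.Dual F (F × V') // l ≠ 0} × Module.Dual F (F × V') × ↥(orb h) →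
      QuadraticForm F (F × F × V') :=
    fun t => (QQ t.2.1 t.2.2.1).comp
      ((LinearEquiv.prodCongr (LinearEquiv.refl F F) (gb t.1) :
        (F × F × V') ≃ₗ[F] (F × F × V')) : (F × F × V') →ₗ[F] (F × F × V'))
  have hΦ : ∀ t x u, Φ t (x, u) = QQ t.2.1 t.2.2.1 (x, gb t.1 u) := fun t x u => rfl
  have hΦ' : ∀ t x u, Φ t (x, u)
      = x * t.1.1 u + t.2.2.1 (gb t.1 u).2 + t.2.1 (gb t.1 u) * t.1.1 u := by
    intro t x u
    rw [hΦ]
    have e : gb t.1 u = ((gb t.1 u).1, (gb t.1 u).2) := rfl
    rw [e, QQ_apply, ← e, gb_fst]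
  have hmem : ∀ t, Φ t ∈ orb (hypSum h) := by
    rintro ⟨lam, μ, ⟨h', g', rfl⟩⟩
    refine ⟨(LinearEquiv.prodCongr (LinearEquiv.refl F F) (gb lam)).trans
      ((shear μ).trans (LinearEquiv.prodCongr (LinearEquiv.refl F F)
        (LinearEquiv.prodCongr (LinearEquiv.refl F F) g'))), ?_⟩
    show _ = (QQ μ (h.comp (g' : V' →ₗ[F] V'))).comp _
    rw [QQ_eq_comp]
    ext x
    rfl
  have hinj : Function.Injective Φ := by
    rintro ⟨lam1, μ1, ⟨h1, hh1⟩⟩ ⟨lam2, μ2, ⟨h2', hh2⟩⟩ heq
    -- the functional
    have hl : lam1 = lam2 := by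
      apply Subtype.ext
      apply LinearMap.ext
      intro u
      have e1 := DFunLike.congr_fun heq ((1 : F), u)
      have e0 := DFunLike.congr_fun heq ((0 : F), u)
      rw [hΦ', hΦ'] at e1 e0
      simp only at e1 e0
      linear_combination e1 - e0
    subst hl
    have key : ∀ x y z, QQ μ1 h1 (x, y, z) = QQ μ2 h2' (x, y, z) := by
      intro x y z
      have e := DFunLike.congr_fun heq (x, (gb lam1).symm (y, z))
      rw [hΦ, hΦ] at e
      simpa using e
    have hh : h1 = h2' := by
      ext z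
      have := key 0 0 z
      rw [QQ_apply, QQ_apply] at this
      simpa using this
    subst hh
    have hμ1 : ∀ y z, y ≠ 0 → μ1 (y, z) = μ2 (y, z) := by
      intro y z hy
      have := key 0 y z
      rw [QQ_apply, QQ_apply] at this
      have h3 : μ1 (y, z) * y = μ2 (y, z) * y := by linear_combination this
      exact mul_right_cancel₀ hy h3
    have hμ : μ1 = μ2 := by
      apply LinearMap.ext
      rintro ⟨y, z⟩
      by_cases hy : y = 0
      · subst hy
        have e : ((0 : F), z) = ((1 : F), z) - ((1 : F), (0 : V')) := by simp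
        rw [e, map_sub, map_sub, hμ1 1 z one_ne_zero, hμ1 1 0 one_ne_zero]
      · exact hμ1 y z hy
    subst hμ
    rfl
  -- counting
  have hsub : Set.range Φ ⊆ orb (hypSum h) := by
    rintro _ ⟨t, rfl⟩
    exact hmem t
  have hdimU : finrank F (F × V') = finrank F V' + 1 := by
    rw [Module.finrank_prod, Module.finrank_self, add_comm]
  have hcD : Nat.card (Module.Dual F (F × V')) = Fintype.card F ^ (finrank F V' + 1) := by
    rw [Module.natCard_eq_pow_finrank (K := F), Subspace.dual_finrank_eq, hdimU,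
      Nat.card_eq_fintype_card]
  have hcD' : Nat.card {l : Module.Dual F (F × V') // l ≠ 0}
      = Fintype.card F ^ (finrank F V' + 1) - 1 := by
    have e : {l : Module.Dual F (F × V') | l ≠ 0} = ({0} : Set (Module.Dual F (F × V')))ᶜ := by
      ext l
      simp
    have : Nat.card {l : Module.Dual F (F × V') // l ≠ 0}
        = ({l : Module.Dual F (F × V') | l ≠ 0}).ncard := rfl
    rw [this, e, Set.ncard_compl, Set.ncard_singleton, hcD]
  calc (Fintype.card F ^ (finrank F V' + 1) - 1) * Fintype.card F ^ (finrank F V' + 1) *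
        (orb h).ncard
      = Nat.card ({l : Module.Dual F (F × V') // l ≠ 0} × Module.Dual F (F × V') × ↥(orb h)) := by
        rw [Nat.card_prod, Nat.card_prod, hcD, hcD', Nat.card_coe_set_eq, mul_assoc]
    _ = Nat.card (Set.range Φ) := (Nat.card_range_of_injective hinj).symm
    _ = (Set.range Φ).ncard := Nat.card_coe_set_eq _
    _ ≤ (orb (hypSum h)).ncard := Set.ncard_le_ncard hsub (Set.toFinite _)

end Cfsg.Agent.Lib.Helper53_S2333_HYPSTEP
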