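import Mathlib
import Cfsg.Agent.Lib.Helper30_QFDefs

/-!
# S2333 package RADSTEP (helper53; architect helper30)

`radStep`: for `f = fbar ∘ snd` on `F × V'` (char 2, `polar fbar ≠ 0`), double counting the pairs
(orbit member, nonzero radical vector) gives
`(q^(n'+1) - 1) |orb fbar| ≤ (q^(n'-1) - 1) |orb f|`.
By-products: `exists_equiv_apply_eq` (GL(V) is transitive on nonzero vectors), `polar_comp_lin`,
`polar_self_eq_zero` (char 2), `ncard_rad_le` (at most `q^(d-2) - 1` nonzero radical vectors).
-/

set_option autoImplicit false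

namespace Cfsg.Agent.Lib.Helper53_S2333_RADSTEP

open Cfsg.Agent.Lib.Helper30_QFDefs Module QuadraticMap

universe u

section Gen

variable {F : Type*} [Field F]

/-- `GL(V)` is transitive on nonzero vectors -/
theorem exists_equiv_apply_eq {V : Type*} [AddCommGroup V] [Module F V] [Module.Finite F V]
    (u v : V) (hu : u ≠ 0) (hv : v ≠ 0) : ∃ g : V ≃ₗ[F] V, g u = v := by
  let f : (F ∙ u) ≃ₗ[F] (F ∙ v) :=
    (LinearEquiv.toSpanNonzeroSingleton F V u hu).symm ≪≫ₗ
      (LinearEquiv.toSpanNonzeroSingleton F V v hv)
  obtain ⟨g, hg⟩ := Submodule.exists_linearEquiv_restrict_eq f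
  refine ⟨g, ?_⟩
  have h1 := hg ⟨u, Submodule.mem_span_singleton_self u⟩
  rw [← h1]
  have h2 : (LinearEquiv.toSpanNonzeroSingleton F V u hu).symm
      ⟨u, Submodule.mem_span_singleton_self u⟩ = 1 := by
    rw [LinearEquiv.symm_apply_eq]
    exact (LinearEquiv.toSpanNonzeroSingleton_one F V u hu).symm
  show ((LinearEquiv.toSpanNonzeroSingleton F V v hv)
    ((LinearEquiv.toSpanNonzeroSingleton F V u hu).symm
      ⟨u, Submodule.mem_span_singleton_self u⟩) : V) = v
  rw [h2, LinearEquiv.toSpanNonzeroSingleton_one]

theorem polar_comp_lin {W W' : Type*} [AddCommGroup W] [Module F W] [AddCommGroup W']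
    [Module F W'] (Q : QuadraticForm F W') (g : W →ₗ[F] W') (x y : W) :
    polar (Q.comp g) x y = polar Q (g x) (g y) := by
  simp only [polar, QuadraticMap.comp_apply, map_add]

/-- radical vectors of a quadratic form -/
def IsRad {W : Type*} [AddCommGroup W] [Module F W] (f : QuadraticForm F W) (u : W) : Prop :=
  f u = 0 ∧ ∀ w, polar f u w = 0

theorem polar_self_eq_zero (h2 : (2 : F) = 0) {W : Type*} [AddCommGroup W] [Module F W]
    (f : QuadraticForm F W) (a : W) : polar f a a = 0 := by
  have h1 : a + a = 0 := by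
    rw [← two_smul F a, h2, zero_smul]
  have h3 : f a + f a = 0 := by
    rw [← two_mul, h2, zero_mul]
  unfold polar
  rw [h1, map_zero]
  linear_combination -h3

/-- at most `q^(d-2) - 1` nonzero radical vectors when the polar form is nonzero -/
theorem ncard_rad_le [Fintype F] (h2 : (2 : F) = 0) {W : Type*} [AddCommGroup W] [Module F W]
    [Module.Finite F W] (f : QuadraticForm F W) (hpol : ∃ a b, polar f a b ≠ 0) :
    {u : W | u ≠ 0 ∧ IsRad f u}.ncard ≤ Fintype.card F ^ (finrank F W - 2) - 1 := by
  obtain ⟨a, b, hab⟩ := hpol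
  set c : F := polar f a b with hc
  have hba : polar f b a = c := by rw [polar_comm]
  let φ : W →ₗ[F] F × F := (polarBilin f a).prod (polarBilin f b)
  have hφ : ∀ w, φ w = (polar f a w, polar f b w) := fun w => rfl
  have hsurj : Function.Surjective φ := by
    rintro ⟨s, t⟩
    refine ⟨(t / c) • a + (s / c) • b, ?_⟩
    rw [hφ, polar_add_right, polar_add_right, polar_smul_right, polar_smul_right,
      polar_smul_right, polar_smul_right, polar_self_eq_zero h2, polar_self_eq_zero h2, hba,
      ← hc]
    ext
    · simp only [smul_eq_mul, mul_zero, zero_add]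
      field_simp
    · simp only [smul_eq_mul, mul_zero, add_zero]
      field_simp
  have hrk : finrank F (LinearMap.ker φ) + 2 = finrank F W := by
    have h1 := LinearMap.finrank_range_add_finrank_ker φ
    rw [LinearMap.range_eq_top.mpr hsurj, finrank_top, Module.finrank_prod,
      Module.finrank_self] at h1
    omega
  have hfin : Finite W := Module.finite_of_finite F
  have hsub : {u : W | u ≠ 0 ∧ IsRad f u} ⊆ ((LinearMap.ker φ : Submodule F W) : Set W) \ {0} := by
    rintro u ⟨hu0, hu⟩
    refine ⟨?_, hu0⟩
    show u ∈ LinearMap.ker φ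
    rw [LinearMap.mem_ker, hφ, polar_comm f a u, polar_comm f b u, hu.2 a, hu.2 b]
    rfl
  have hcard : ((LinearMap.ker φ : Submodule F W) : Set W).ncard
      = Fintype.card F ^ finrank F (LinearMap.ker φ) := by
    rw [← Nat.card_coe_set_eq]
    have := Module.natCard_eq_pow_finrank (K := F) (V := LinearMap.ker φ)
    rw [Nat.card_eq_fintype_card (α := F)] at this
    exact this
  calc {u : W | u ≠ 0 ∧ IsRad f u}.ncard
      ≤ (((LinearMap.ker φ : Submodule F W) : Set W) \ {0}).ncard :=
        Set.ncard_le_ncard hsub (Set.toFinite _)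
    _ = ((LinearMap.ker φ : Submodule F W) : Set W).ncard - 1 :=
        Set.ncard_sdiff_singleton_of_mem (Submodule.zero_mem _)
    _ = Fintype.card F ^ (finrank F W - 2) - 1 := by
        rw [hcard]
        congr 2
        omega

end Gen

variable {F : Type u} [Field F] [Fintype F]

theorem radStep (h2 : (2 : F) = 0) {V' : Type u} [AddCommGroup V'] [Module F V']
    [Module.Finite F V'] (fbar : QuadraticForm F V') (hpol : ∃ a b, polar fbar a b ≠ 0) :
    (Fintype.card F ^ (finrank F V' + 1) - 1) * (orb fbar).ncard ≤
      (Fintype.card F ^ (finrank F V' - 1) - 1) *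
        (orb (fbar.comp (LinearMap.snd F F V'))).ncard := by
  classical
  set f : QuadraticForm F (F × V') := fbar.comp (LinearMap.snd F F V') with hf
  have hfinV : Finite V' := Module.finite_of_finite F
  have hfinW : Finite (F × V') := inferInstance
  have : Fintype (F × V') := Fintype.ofFinite _
  have hfinQ : Finite (QuadraticForm F (F × V')) :=
    Finite.of_injective (fun Q => (Q : F × V' → F)) DFunLike.coe_injective
  have : Fintype (QuadraticForm F (F × V')) := Fintype.ofFinite _
  have hdimW : finrank F (F × V') = finrank F V' + 1 := by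
    rw [Module.finrank_prod, Module.finrank_self, add_comm]
  -- (1) every member of the orbit has nonzero polar form
  have h1 : ∀ f' ∈ orb f, ∃ a b, polar f' a b ≠ 0 := by
    rintro f' ⟨g, rfl⟩
    obtain ⟨a, b, hab⟩ := hpol
    refine ⟨g.symm (0, a), g.symm (0, b), ?_⟩
    rw [polar_comp_lin, hf, polar_comp_lin]
    simpa using hab
  -- (2) few radical vectors
  have h2' : ∀ f' ∈ orb f, {u : F × V' | u ≠ 0 ∧ IsRad f' u}.ncard
      ≤ Fintype.card F ^ (finrank F V' - 1) - 1 := by
    intro f' hf'
    have h := ncard_rad_le h2 f' (h1 f' hf')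
    rw [hdimW] at h
    have e : finrank F V' + 1 - 2 = finrank F V' - 1 := by omega
    rw [e] at h
    exact h
  -- (3) many orbit members for which a given vector is radical
  have h3 : ∀ u : F × V', u ≠ 0 →
      (orb fbar).ncard ≤ {f' : QuadraticForm F (F × V') | f' ∈ orb f ∧ IsRad f' u}.ncard := by
    intro u hu
    obtain ⟨g, hg⟩ := exists_equiv_apply_eq (F := F) u ((1 : F), (0 : V')) hu (by simp)
    apply Set.ncard_le_ncard_of_injOn
      (fun fb' => (fb'.comp (LinearMap.snd F F V')).comp (g : F × V' →ₗ[F] F × V'))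
    · rintro fb' ⟨gb, rfl⟩
      refine ⟨⟨g.trans (LinearEquiv.prodCongr (LinearEquiv.refl F F) gb), ?_⟩, ?_, ?_⟩
      · ext x
        simp [hf]
      · show fbar (gb ((g u).2)) = 0
        rw [hg]
        simp
      · intro w
        rw [polar_comp_lin, polar_comp_lin]
        have : (LinearMap.snd F F V') ((g : F × V' →ₗ[F] F × V') u) = 0 := by
          show (g u).2 = 0
          rw [hg]
        rw [this, polar_zero_left]
    · intro fb1 _ fb2 _ h
      ext z
      have := DFunLike.congr_fun h (g.symm (0, z))
      simpa using this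
  -- (4) double counting
  let S : Finset (F × V') := Finset.univ.filter (fun u => u ≠ 0)
  let O : Finset (QuadraticForm F (F × V')) := Finset.univ.filter (fun f' => f' ∈ orb f)
  have hO : (orb f).ncard = O.card := by
    rw [← Set.ncard_coe_finset]
    congr 1
    ext x
    simp [O]
  have hS : S.card = Fintype.card F ^ (finrank F V' + 1) - 1 := by
    have h : S = Finset.univ.erase (0 : F × V') := by
      ext x
      simp [S]
    rw [h, Finset.card_erase_of_mem (Finset.mem_univ _), Finset.card_univ,
      ← Nat.card_eq_fintype_card (α := F × V'), Module.natCard_eq_pow_finrank (K := F), hdimW,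
      Nat.card_eq_fintype_card]
  have hdc := Finset.sum_card_bipartiteAbove_eq_sum_card_bipartiteBelow
    (s := S) (t := O) (fun (u : F × V') (f' : QuadraticForm F (F × V')) => IsRad f' u)
  have hL : S.card • (orb fbar).ncard
      ≤ ∑ u ∈ S, (O.bipartiteAbove (fun (u : F × V') (f' : QuadraticForm F (F × V')) =>
        IsRad f' u) u).card := by
    apply Finset.card_nsmul_le_sum
    intro u hu
    have hu0 : u ≠ 0 := (Finset.mem_filter.mp hu).2
    refine (h3 u hu0).trans (le_of_eq ?_)
    rw [← Set.ncard_coe_finset]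
    congr 1
    ext x
    simp [O, Finset.bipartiteAbove]
  have hR : ∑ f' ∈ O, (S.bipartiteBelow (fun (u : F × V') (f' : QuadraticForm F (F × V')) =>
        IsRad f' u) f').card ≤ O.card • (Fintype.card F ^ (finrank F V' - 1) - 1) := by
    apply Finset.sum_le_card_nsmul
    intro f' hf'
    have hf'' : f' ∈ orb f := (Finset.mem_filter.mp hf').2
    refine le_trans (le_of_eq ?_) (h2' f' hf'')
    rw [← Set.ncard_coe_finset]
    congr 1
    ext x
    simp [S, Finset.bipartiteBelow]
  rw [hdc] at hL
  have := hL.trans hR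
  rw [hS, smul_eq_mul, smul_eq_mul, ← hO] at this
  rw [mul_comm (Fintype.card F ^ (finrank F V' - 1) - 1)]
  exact this

end Cfsg.Agent.Lib.Helper53_S2333_RADSTEP
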