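import Mathlib
import Cfsg.Agent.Lib.Helper30_QFDefs

set_option autoImplicit false
set_option linter.unusedVariables false
set_option linter.unusedSimpArgs false
set_option linter.unusedSectionVars false

/-!
# S2333 package HYPSPLIT (architect helper30): splitting off a hyperbolic plane from a
non-defective quadratic form of dimension at least 3 over a finite field of characteristic 2.
-/

namespace Cfsg.Agent.Lib.Helper58_S2333_HYPSPLIT

open Cfsg.Agent.Lib.Helper30_QFDefs Module QuadraticMap

universe u

variable {F : Type u} [Field F] [Fintype F] {V : Type u} [AddCommGroup V] [Module F V]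
  [Module.Finite F V]

theorem polar_self_zero (h2 : (2 : F) = 0) (f : QuadraticForm F V) (x : V) : polar f x x = 0 := by
  rw [QuadraticMap.polar_self, two_nsmul, ← two_mul, h2, zero_mul]

theorem two_mul_zero (h2 : (2 : F) = 0) (a : F) : a + a = 0 := by
  rw [← two_mul, h2, zero_mul]

theorem exists_sq (h2 : (2 : F) = 0) (a : F) : ∃ t : F, t * t = a := by
  have : CharP F 2 := CharTwo.of_one_ne_zero_of_two_eq_zero one_ne_zero h2
  obtain ⟨r, hr⟩ := FiniteField.isSquare_of_char_two (ringChar.eq F 2) a
  exact ⟨r, hr.symm⟩

/-- a nonzero singular vector exists in dimension `≥ 3` -/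
theorem exists_singular (h2 : (2 : F) = 0) (f : QuadraticForm F V) (hdim : 3 ≤ finrank F V) :
    ∃ v : V, v ≠ 0 ∧ f v = 0 := by
  have : Nontrivial V := Module.nontrivial_of_finrank_pos (R := F) (by omega)
  obtain ⟨u, hu⟩ := exists_ne (0 : V)
  by_cases hfu : f u = 0
  · exact ⟨u, hu, hfu⟩
  set φ : V →ₗ[F] F := QuadraticMap.polarBilin f u with hφ
  have hφa : ∀ w, φ w = polar f u w := fun w => rfl
  have hK : 2 ≤ finrank F (LinearMap.ker φ) := by
    have h1 := LinearMap.finrank_range_add_finrank_ker φ
    have h3 : finrank F (LinearMap.range φ) ≤ 1 := by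
      have := Submodule.finrank_le (LinearMap.range φ)
      rwa [Module.finrank_self] at this
    omega
  have hex : ∃ w ∈ LinearMap.ker φ, w ∉ Submodule.span F {u} := by
    by_contra hcon
    push Not at hcon
    have hle : LinearMap.ker φ ≤ Submodule.span F {u} := fun w hw => hcon w hw
    have := Submodule.finrank_mono hle
    rw [finrank_span_singleton hu] at this
    omega
  obtain ⟨w, hwK, hwu⟩ := hex
  have hpw : polar f u w = 0 := by rw [← hφa]; exact hwK
  obtain ⟨t, ht⟩ := exists_sq h2 (f w / f u)
  refine ⟨w + t • u, ?_, ?_⟩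
  · intro h0
    apply hwu
    have : w = (-t) • u := by
      rw [neg_smul]
      exact eq_neg_of_add_eq_zero_left h0
    rw [this]
    exact Submodule.smul_mem _ _ (Submodule.mem_span_singleton_self u)
  · rw [QuadraticMap.map_add f, QuadraticMap.map_smul, QuadraticMap.polar_smul_right,
      QuadraticMap.polar_comm, hpw, ht, smul_eq_mul, smul_eq_mul, mul_zero, add_zero,
      div_mul_cancel₀ _ hfu]
    exact two_mul_zero h2 _

/-- a hyperbolic partner of a singular vector -/
theorem exists_partner (h2 : (2 : F) = 0) (f : QuadraticForm F V)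
    (hnd : ∀ v, (∀ w, polar f v w = 0) → f v = 0 → v = 0) (v : V) (hv : v ≠ 0) (hfv : f v = 0) :
    ∃ w : V, f w = 0 ∧ polar f v w = 1 := by
  have hex : ∃ w0, polar f v w0 ≠ 0 := by
    by_contra hcon
    push Not at hcon
    exact hv (hnd v hcon hfv)
  obtain ⟨w0, hw0⟩ := hex
  obtain ⟨w, hw⟩ : ∃ w : V, w = (polar f v w0)⁻¹ • w0 := ⟨_, rfl⟩
  have hvw : polar f v w = 1 := by
    rw [hw, QuadraticMap.polar_smul_right, smul_eq_mul, inv_mul_cancel₀ hw0]
  refine ⟨w + f w • v, ?_, ?_⟩
  · rw [QuadraticMap.map_add f, QuadraticMap.map_smul, hfv, QuadraticMap.polar_smul_right,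
      QuadraticMap.polar_comm, hvw, smul_eq_mul, smul_eq_mul, mul_zero, add_zero, mul_one]
    exact two_mul_zero h2 _
  · rw [QuadraticMap.polar_add_right, QuadraticMap.polar_smul_right, polar_self_zero h2, hvw,
      smul_eq_mul, mul_zero, add_zero]

theorem exists_hypSplit (h2 : (2 : F) = 0) (f : QuadraticForm F V)
    (hnd : ∀ v, (∀ w, polar f v w = 0) → f v = 0 → v = 0) (hdim : 3 ≤ finrank F V) :
    ∃ (C : Submodule F V) (e : V ≃ₗ[F] F × F × C) (h : QuadraticForm F C),
      finrank F C + 2 = finrank F V ∧
      f.comp (e.symm : F × F × C →ₗ[F] V) = hypSum h ∧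
      ∀ z : C, (∀ w, polar h z w = 0) → h z = 0 → z = 0 := by
  obtain ⟨v, hv, hfv⟩ := exists_singular h2 f hdim
  obtain ⟨w, hfw, hvw⟩ := exists_partner h2 f hnd v hv hfv
  have hwv : polar f w v = 1 := by rw [QuadraticMap.polar_comm]; exact hvw
  have hvv : polar f v v = 0 := polar_self_zero h2 f v
  have hww : polar f w w = 0 := polar_self_zero h2 f w
  set φv : V →ₗ[F] F := QuadraticMap.polarBilin f v with hφv
  set φw : V →ₗ[F] F := QuadraticMap.polarBilin f w with hφw
  have hφva : ∀ z, φv z = polar f v z := fun z => rfl
  have hφwa : ∀ z, φw z = polar f w z := fun z => rfl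
  set C : Submodule F V := LinearMap.ker φv ⊓ LinearMap.ker φw with hC
  have hCmem : ∀ z, z ∈ C ↔ polar f v z = 0 ∧ polar f w z = 0 := by
    intro z
    rw [hC, Submodule.mem_inf, LinearMap.mem_ker, LinearMap.mem_ker, hφva, hφwa]
  have hmem : ∀ z : V, z - φw z • v - φv z • w ∈ C := by
    intro z
    rw [hCmem]
    constructor
    · rw [QuadraticMap.polar_sub_right, QuadraticMap.polar_sub_right,
        QuadraticMap.polar_smul_right, QuadraticMap.polar_smul_right, hvv, hvw, hφva]
      simp
    · rw [QuadraticMap.polar_sub_right, QuadraticMap.polar_sub_right,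
        QuadraticMap.polar_smul_right, QuadraticMap.polar_smul_right, hww, hwv, hφwa]
      simp
  let e : V ≃ₗ[F] F × F × C :=
    { toFun := fun z => (φw z, φv z, ⟨z - φw z • v - φv z • w, hmem z⟩)
      map_add' := by
        intro a b
        refine Prod.ext (map_add φw a b) (Prod.ext (map_add φv a b) (Subtype.ext ?_))
        simp only [map_add, Submodule.coe_add, Prod.snd_add]
        module
      map_smul' := by
        intro c a
        refine Prod.ext (map_smul φw c a) (Prod.ext (map_smul φv c a) (Subtype.ext ?_))
        simp only [map_smul, RingHom.id_apply, Prod.smul_snd, Submodule.coe_smul, smul_eq_mul]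
        module
      invFun := fun p => p.1 • v + p.2.1 • w + (p.2.2 : V)
      left_inv := by
        intro z
        simp only
        module
      right_inv := by
        rintro ⟨x, y, c⟩
        have hc := (hCmem c).1 c.2
        have h1 : φw (x • v + y • w + (c : V)) = x := by
          rw [hφwa, QuadraticMap.polar_add_right, QuadraticMap.polar_add_right,
            QuadraticMap.polar_smul_right, QuadraticMap.polar_smul_right, hwv, hww, hc.2]
          simp
        have h3 : φv (x • v + y • w + (c : V)) = y := by
          rw [hφva, QuadraticMap.polar_add_right, QuadraticMap.polar_add_right,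
            QuadraticMap.polar_smul_right, QuadraticMap.polar_smul_right, hvw, hvv, hc.1]
          simp
        refine Prod.ext h1 (Prod.ext h3 (Subtype.ext ?_))
        simp only [h1, h3]
        module }
  have hesymm : ∀ (x y : F) (c : C), e.symm (x, y, c) = x • v + y • w + (c : V) := fun x y c => rfl
  refine ⟨C, e, f.comp C.subtype, ?_, ?_, ?_⟩
  · have h1 := LinearEquiv.finrank_eq e
    rw [Module.finrank_prod, Module.finrank_prod, Module.finrank_self] at h1
    omega
  · ext ⟨x, y, c⟩
    have hc := (hCmem c).1 c.2
    rw [hypSum_apply]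
    simp only [QuadraticMap.comp_apply, LinearEquiv.coe_coe, Submodule.subtype_apply]
    rw [hesymm, QuadraticMap.map_add f, QuadraticMap.map_add f, QuadraticMap.map_smul,
      QuadraticMap.map_smul, hfv, hfw, QuadraticMap.polar_smul_left,
      QuadraticMap.polar_smul_right, hvw, QuadraticMap.polar_add_left,
      QuadraticMap.polar_smul_left, QuadraticMap.polar_smul_left, hc.1, hc.2]
    simp
  · intro z hz hz0
    have hzC := (hCmem z).1 z.2
    have hzv : polar f (z : V) v = 0 := by rw [QuadraticMap.polar_comm]; exact hzC.1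
    have hzw : polar f (z : V) w = 0 := by rw [QuadraticMap.polar_comm]; exact hzC.2
    have hpol : ∀ c : C, polar f (z : V) (c : V) = 0 := by
      intro c
      have := hz c
      simpa [QuadraticMap.polar, QuadraticMap.comp_apply] using this
    have hall : ∀ u : V, polar f (z : V) u = 0 := by
      intro u
      have hu : u = φw u • v + φv u • w + ((⟨u - φw u • v - φv u • w, hmem u⟩ : C) : V) := by
        simp only
        module
      rw [hu, QuadraticMap.polar_add_right, QuadraticMap.polar_add_right,
        QuadraticMap.polar_smul_right, QuadraticMap.polar_smul_right, hzv, hzw, hpol]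
      simp
    have hfz : f (z : V) = 0 := by
      simpa [QuadraticMap.comp_apply] using hz0
    exact Subtype.ext (hnd (z : V) hall hfz)

end Cfsg.Agent.Lib.Helper58_S2333_HYPSPLIT
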