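import Mathlib
import Cfsg.Agent.Lib.Helper30_QFDefs

set_option autoImplicit false
set_option linter.unusedVariables false
set_option linter.unusedSimpArgs false
set_option linter.unusedSectionVars false

/-!
# S2333 package RADSPLIT (architect helper30): splitting off a radical vector of a quadratic form.
-/

namespace Cfsg.Agent.Lib.Helper58_S2333_RADSPLIT

open Cfsg.Agent.Lib.Helper30_QFDefs Module QuadraticMap

universe u

variable {F : Type u} [Field F] [Fintype F] {V : Type u} [AddCommGroup V] [Module F V]
  [Module.Finite F V]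

theorem exists_radSplit (f : QuadraticForm F V) (v : V) (hv : v ≠ 0) (hfv : f v = 0)
    (hrad : ∀ w, polar f v w = 0) :
    ∃ (C : Submodule F V) (e : V ≃ₗ[F] F × C) (fbar : QuadraticForm F C),
      finrank F C + 1 = finrank F V ∧
      f.comp (e.symm : F × C →ₗ[F] V) = fbar.comp (LinearMap.snd F F C) := by
  obtain ⟨C, hC⟩ := Submodule.exists_isCompl (Submodule.span F {v})
  let e0 : (F × C) ≃ₗ[F] V :=
    ((LinearEquiv.toSpanNonzeroSingleton F V v hv).prodCongr (LinearEquiv.refl F C)) ≪≫ₗ
      (Submodule.prodEquivOfIsCompl (Submodule.span F {v}) C hC)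
  have he0 : ∀ (t : F) (c : C), e0 (t, c) = t • v + (c : V) := by
    intro t c
    simp [e0, LinearEquiv.toSpanNonzeroSingleton]
  refine ⟨C, e0.symm, f.comp C.subtype, ?_, ?_⟩
  · have h1 := LinearEquiv.finrank_eq e0
    rw [Module.finrank_prod, Module.finrank_self] at h1
    omega
  · ext ⟨t, c⟩
    simp only [QuadraticMap.comp_apply, LinearEquiv.symm_symm, LinearEquiv.coe_coe,
      LinearMap.snd_apply, Submodule.subtype_apply]
    rw [he0, QuadraticMap.map_add f, QuadraticMap.map_smul, hfv, QuadraticMap.polar_smul_left,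
      hrad]
    simp

end Cfsg.Agent.Lib.Helper58_S2333_RADSPLIT
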