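import Mathlib
import Cfsg.Agent.Lib.Helper30_QFDefs

/-!
# S2333-SCALAR (helper30 market): `f ≠ 0` in characteristic 2 gives `q - 1 ≤ |orb f|` (scalars `t ↦ t^2 f`).
-/

set_option autoImplicit false
set_option linter.unusedSectionVars false

namespace Cfsg.Agent.Lib.Helper84_S2333_SCALAR

open Cfsg.Agent.Lib.Helper30_QFDefs Module QuadraticMap Matrix

universe u

variable {F : Type u} [Field F] [Fintype F] {V : Type u} [AddCommGroup V] [Module F V]
  [Module.Finite F V]

theorem card_sub_one_le_ncard_orb (h2 : (2 : F) = 0) (f : QuadraticForm F V) (hf : f ≠ 0) :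
    Fintype.card F - 1 ≤ (orb f).ncard := by
  classical
  have hVfin : Finite V := Module.finite_of_finite F
  have hQfin : Finite (QuadraticForm F V) :=
    Finite.of_injective (fun g : QuadraticForm F V => (g : V → F)) DFunLike.coe_injective
  obtain ⟨x, hx⟩ : ∃ x, f x ≠ 0 := by
    by_contra hcon
    push Not at hcon
    apply hf
    ext y
    exact hcon y
  obtain ⟨φ, hφ⟩ : ∃ φ : Fˣ → QuadraticForm F V,
      φ = fun t => f.comp ((LinearEquiv.smulOfUnit t : V ≃ₗ[F] V) : V →ₗ[F] V) := ⟨_, rfl⟩
  have hφx : ∀ t : Fˣ, φ t x = ((t : F) * (t : F)) * f x := by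
    intro t
    rw [hφ]
    show f ((t : Fˣ) • x) = _
    rw [Units.smul_def, QuadraticMap.map_smul, smul_eq_mul]
  have hinj : Function.Injective φ := by
    intro t s hts
    have h1 : ((t : F) * (t : F)) * f x = ((s : F) * (s : F)) * f x := by
      rw [← hφx, ← hφx, hts]
    have h3 : (t : F) * t = s * s := mul_right_cancel₀ hx h1
    have h4 : ((t : F) - s) * ((t : F) - s) = 0 := by
      have : ((t : F) - s) * ((t : F) - s) = t * t + s * s - 2 * (t * s) := by ring
      rw [this, h2, zero_mul, sub_zero, h3]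
      have : (s : F) * s + s * s = 2 * (s * s) := by ring
      rw [this, h2, zero_mul]
    have h5 : (t : F) - s = 0 := by
      rcases mul_eq_zero.mp h4 with h | h <;> exact h
    exact Units.ext (sub_eq_zero.mp h5)
  have hsub : Set.range φ ⊆ orb f := by
    rintro _ ⟨t, rfl⟩
    rw [hφ]
    exact ⟨LinearEquiv.smulOfUnit t, rfl⟩
  have hcard : (Set.range φ).ncard = Fintype.card F - 1 := by
    rw [← Nat.card_coe_set_eq, Nat.card_range_of_injective hinj, Nat.card_eq_fintype_card,
      Fintype.card_units]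
  rw [← hcard]
  exact Set.ncard_le_ncard hsub (Set.toFinite _)

end Cfsg.Agent.Lib.Helper84_S2333_SCALAR
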