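import Mathlib
import Cfsg.Agent.Lib.Helper30_QFDefs

/-!
# S2333 package TRANSPORT (architect helper30)

The size of the `GL(V)`-orbit of a quadratic form is invariant under transport along a linear
equivalence.
-/

set_option autoImplicit false

namespace Cfsg.Agent.Lib.Helper86_S2333_TRANSPORT

open Cfsg.Agent.Lib.Helper30_QFDefs Module QuadraticMap

universe u

variable {F : Type u} [Field F] [Fintype F] {V : Type u} [AddCommGroup V] [Module F V]
  [Module.Finite F V]

theorem ncard_orb_congr {V₂ : Type u} [AddCommGroup V₂] [Module F V₂]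
    (e : V ≃ₗ[F] V₂) (f : QuadraticForm F V) :
    (orb (f.comp (e.symm : V₂ →ₗ[F] V))).ncard = (orb f).ncard := by
  have hinj : Function.Injective
      (fun f' : QuadraticForm F V => f'.comp (e.symm : V₂ →ₗ[F] V)) := by
    intro f1 f2 h
    ext x
    have h' := congrArg (fun q : QuadraticForm F V₂ => q (e x)) h
    simpa using h'
  have himg : (fun f' : QuadraticForm F V => f'.comp (e.symm : V₂ →ₗ[F] V)) '' orb f =
      orb (f.comp (e.symm : V₂ →ₗ[F] V)) := by
    ext q
    constructor
    · rintro ⟨f', ⟨g, rfl⟩, rfl⟩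
      refine ⟨e.symm.trans (g.trans e), ?_⟩
      ext x
      simp
    · rintro ⟨g, rfl⟩
      refine ⟨f.comp ((e.trans (g.trans e.symm) : V ≃ₗ[F] V) : V →ₗ[F] V), ⟨_, rfl⟩, ?_⟩
      ext x
      simp
  rw [← himg, Set.ncard_image_of_injective _ hinj]

end Cfsg.Agent.Lib.Helper86_S2333_TRANSPORT
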