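import Mathlib
import Cfsg.Agent.Lib.Helper30_QFDefs
import Cfsg.Agent.Lib.Helper86_S2333_TRANSPORT
import Cfsg.Agent.Lib.Helper84_S2333_SCALAR
import Cfsg.Agent.Lib.Helper53_S2333_RADSTEP
import Cfsg.Agent.Lib.Helper53_S2333_HYPSTEP
import Cfsg.Agent.Lib.Helper17_S2333_BINARY
import Cfsg.Agent.Lib.Helper58_S2333_RADSPLIT
import Cfsg.Agent.Lib.Helper58_S2333_HYPSPLIT

set_option autoImplicit false

/-!
# Orbits of quadratic forms in characteristic two (helper30, S2333)

`orbit_bound`: over a finite field of characteristic two with `q` elements, a quadratic form `f`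
on an `n`-dimensional space whose polar form is non-zero has at least `(q^n-1)(q^n-q)/(2(q+1))`
images under the general linear group.  Strong induction on `n`: a radical vector reduces `n` by
one (`radStep`, a double count), a non-defective form of dimension at least three splits off a
hyperbolic plane (`hypStep`), dimension two is `binary`.
-/

namespace Cfsg.Agent.Lib.Helper30_S2333Main

open Cfsg.Agent.Lib.Helper30_QFDefs Module QuadraticMap

universe u

section Arith

theorem arithA (q Q N Nb : ℕ) (_hq : 2 ≤ q) (hQ : 2 ≤ Q)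
    (hA : (q ^ 2 * Q - 1) * Nb ≤ (Q - 1) * N)
    (hI : (q * Q - 1) * (q * Q - q) ≤ 2 * (q + 1) * Nb) :
    (q ^ 2 * Q - 1) * (q ^ 2 * Q - q) ≤ 2 * (q + 1) * N := by
  obtain ⟨c, rfl⟩ : ∃ c, Q = c + 1 := ⟨Q - 1, by omega⟩
  have hc : 0 < c := by omega
  have e1 : q * (c + 1) - q = q * c := by
    rw [Nat.mul_succ]; omega
  have e2 : q ^ 2 * (c + 1) - q = q * (q * (c + 1) - 1) := by
    rw [Nat.mul_sub, mul_one, ← mul_assoc, ← pow_two]
  have e3 : c + 1 - 1 = c := by omega
  rw [e1] at hI
  rw [e3] at hA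
  rw [e2]
  set a := q ^ 2 * (c + 1) - 1 with ha
  set b := q * (c + 1) - 1 with hb
  have h1 : c * (a * (q * b)) ≤ c * (2 * (q + 1) * N) := by
    calc c * (a * (q * b)) = a * (b * (q * c)) := by ring
      _ ≤ a * (2 * (q + 1) * Nb) := Nat.mul_le_mul_left _ hI
      _ = 2 * (q + 1) * (a * Nb) := by ring
      _ ≤ 2 * (q + 1) * (c * N) := Nat.mul_le_mul_left _ hA
      _ = c * (2 * (q + 1) * N) := by ring
  exact Nat.le_of_mul_le_mul_left h1 hc

theorem arithC3 (q N Nh : ℕ) (hq : 2 ≤ q)
    (hC : (q ^ 2 - 1) * q ^ 2 * Nh ≤ N) (hh : q - 1 ≤ Nh) :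
    (q ^ 3 - 1) * (q ^ 3 - q) ≤ 2 * (q + 1) * N := by
  obtain ⟨r, rfl⟩ : ∃ r, q = r + 2 := ⟨q - 2, by omega⟩
  have h1 : (r + 2) ^ 2 - 1 = r ^ 2 + 4 * r + 3 := by
    have : (r + 2) ^ 2 = r ^ 2 + 4 * r + 3 + 1 := by ring
    omega
  have h2 : (r + 2) ^ 3 - 1 = r ^ 3 + 6 * r ^ 2 + 12 * r + 7 := by
    have : (r + 2) ^ 3 = r ^ 3 + 6 * r ^ 2 + 12 * r + 7 + 1 := by ring
    omega
  have h3 : (r + 2) ^ 3 - (r + 2) = r ^ 3 + 6 * r ^ 2 + 11 * r + 6 := by
    have : (r + 2) ^ 3 = r ^ 3 + 6 * r ^ 2 + 11 * r + 6 + (r + 2) := by ring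
    omega
  have h4 : r + 2 - 1 = r + 1 := by omega
  rw [h1] at hC
  rw [h4] at hh
  rw [h2, h3]
  have h5 : (r ^ 2 + 4 * r + 3) * (r + 2) ^ 2 * (r + 1) ≤ N :=
    le_trans (Nat.mul_le_mul_left _ hh) hC
  calc (r ^ 3 + 6 * r ^ 2 + 12 * r + 7) * (r ^ 3 + 6 * r ^ 2 + 11 * r + 6)
      ≤ 2 * (r + 2 + 1) * ((r ^ 2 + 4 * r + 3) * (r + 2) ^ 2 * (r + 1)) := by nlinarith [sq_nonneg r, pow_pos (Nat.succ_pos r) 3]
    _ ≤ 2 * (r + 2 + 1) * N := Nat.mul_le_mul_left _ h5

theorem arithC (q Q N Nh : ℕ) (hq : 2 ≤ q) (hQ : q ^ 2 ≤ Q)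
    (hC : (q * Q - 1) * (q * Q) * Nh ≤ N)
    (hI : (Q - 1) * (Q - q) ≤ 2 * (q + 1) * Nh) :
    (q ^ 2 * Q - 1) * (q ^ 2 * Q - q) ≤ 2 * (q + 1) * N := by
  have hqQ : q ≤ Q := le_trans (by nlinarith) hQ
  have hQ4 : 4 ≤ Q := le_trans (by nlinarith) hQ
  have e2 : q ^ 2 * Q - q = q * (q * Q - 1) := by
    rw [Nat.mul_sub, mul_one, ← mul_assoc, ← pow_two]
  rw [e2]
  set b := q * Q - 1 with hb
  -- key numeric inequality
  have key : q ^ 2 * Q - 1 ≤ Q * ((Q - 1) * (Q - q)) := by
    have h1 : (q ^ 2 - 1) * (q ^ 2 - q) ≤ (Q - 1) * (Q - q) :=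
      Nat.mul_le_mul (by omega) (by omega)
    have h2 : q ^ 2 ≤ (q ^ 2 - 1) * (q ^ 2 - q) := by
      obtain ⟨r, rfl⟩ : ∃ r, q = r + 2 := ⟨q - 2, by omega⟩
      have h1 : (r + 2) ^ 2 - 1 = r ^ 2 + 4 * r + 3 := by
        have : (r + 2) ^ 2 = r ^ 2 + 4 * r + 3 + 1 := by ring
        omega
      have h3 : (r + 2) ^ 2 - (r + 2) = r ^ 2 + 3 * r + 2 := by
        have : (r + 2) ^ 2 = r ^ 2 + 3 * r + 2 + (r + 2) := by ring
        omega
      rw [h1, h3]
      nlinarith [sq_nonneg r]
    calc q ^ 2 * Q - 1 ≤ q ^ 2 * Q := Nat.sub_le _ _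
      _ = Q * q ^ 2 := by ring
      _ ≤ Q * ((Q - 1) * (Q - q)) := Nat.mul_le_mul_left _ (le_trans h2 h1)
  calc (q ^ 2 * Q - 1) * (q * b) ≤ (Q * ((Q - 1) * (Q - q))) * (q * b) :=
        Nat.mul_le_mul_right _ key
    _ = b * (q * Q) * ((Q - 1) * (Q - q)) := by ring
    _ ≤ b * (q * Q) * (2 * (q + 1) * Nh) := Nat.mul_le_mul_left _ hI
    _ = 2 * (q + 1) * (b * (q * Q) * Nh) := by ring
    _ ≤ 2 * (q + 1) * N := Nat.mul_le_mul_left _ hC


end Arith

section Helpers

variable {F : Type u} [Field F]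

theorem polar_self_eq_zero (h2 : (2 : F) = 0) {V : Type*} [AddCommGroup V] [Module F V]
    (f : QuadraticForm F V) (a : V) : polar f a a = 0 := by
  have h1 : a + a = 0 := by
    rw [← two_smul F a, h2, zero_smul]
  unfold QuadraticMap.polar
  rw [h1, QuadraticMap.map_zero]
  have : f a + f a = 0 := by rw [← two_mul, h2, zero_mul]
  linear_combination -this

theorem polar_swap {V : Type*} [AddCommGroup V] [Module F V]
    (f : QuadraticForm F V) (a b : V) : polar f a b = polar f b a := QuadraticMap.polar_comm f a b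

theorem two_le_finrank_of_polar (h2 : (2 : F) = 0) {V : Type u} [AddCommGroup V] [Module F V]
    [Module.Finite F V] (f : QuadraticForm F V) (hpol : ∃ a b, polar f a b ≠ 0) :
    2 ≤ finrank F V := by
  obtain ⟨a, b, hab⟩ := hpol
  have hli : LinearIndependent F ![a, b] := by
    rw [LinearIndependent.pair_iff]
    intro s t hst
    have h1 : polar f (s • a + t • b) b = s * polar f a b := by
      rw [QuadraticMap.polar_add_left, QuadraticMap.polar_smul_left, QuadraticMap.polar_smul_left,
        polar_self_eq_zero h2, smul_zero, add_zero, smul_eq_mul]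
    have h3 : polar f a (s • a + t • b) = t * polar f a b := by
      rw [QuadraticMap.polar_add_right, QuadraticMap.polar_smul_right,
        QuadraticMap.polar_smul_right, polar_self_eq_zero h2, smul_zero, zero_add, smul_eq_mul]
    rw [hst] at h1 h3
    simp only [QuadraticMap.polar_zero_left, QuadraticMap.polar_zero_right] at h1 h3
    constructor
    · rcases mul_eq_zero.mp h1.symm with h | h
      · exact h
      · exact absurd h hab
    · rcases mul_eq_zero.mp h3.symm with h | h
      · exact h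
      · exact absurd h hab
  have := hli.fintype_card_le_finrank
  simpa using this

theorem exists_sq_eq [Finite F] (h2 : (2 : F) = 0) (a : F) : ∃ t : F, t ^ 2 = a := by
  have hchar : ringChar F = 2 := CharP.ringChar_of_prime_eq_zero Nat.prime_two (by exact_mod_cast h2)
  obtain ⟨t, ht⟩ := FiniteField.isSquare_of_char_two hchar a
  exact ⟨t, by rw [ht, pow_two]⟩

theorem polar_ne_zero_of_nondefective [Finite F] (h2 : (2 : F) = 0) {V : Type u} [AddCommGroup V]
    [Module F V] [Module.Finite F V] (f : QuadraticForm F V)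
    (hnd : ∀ v, (∀ w, polar f v w = 0) → f v = 0 → v = 0) (hdim : 2 ≤ finrank F V) :
    ∃ a b, polar f a b ≠ 0 := by
  by_contra hcon
  push Not at hcon
  have hpos : 0 < finrank F V := by omega
  obtain ⟨z, hz⟩ := (Module.finrank_pos_iff_exists_ne_zero (R := F)).mp hpos
  obtain ⟨y, hy⟩ := exists_linearIndependent_pair_of_one_lt_finrank (R := F) (show 1 < finrank F V by omega) hz
  have hfz : f z ≠ 0 := fun h0 => hz (hnd z (hcon z) h0)
  obtain ⟨t, ht⟩ := exists_sq_eq h2 (f y / f z)
  have hv : f (y + t • z) = 0 := by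
    have h1 : f (y + t • z) = f y + f (t • z) + polar f y (t • z) := by
      unfold QuadraticMap.polar; ring
    rw [h1, hcon, QuadraticMap.map_smul, smul_eq_mul, add_zero, ← pow_two, ht,
      div_mul_cancel₀ _ hfz, ← two_mul, h2, zero_mul]
  have h0 := hnd _ (hcon _) hv
  rw [LinearIndependent.pair_iff] at hy
  have := hy t 1 (by rw [one_smul, add_comm]; exact h0)
  exact one_ne_zero this.2


end Helpers

section Main

variable {F : Type u} [Field F] [Fintype F]

theorem orbit_bound (h2 : (2 : F) = 0) : ∀ (n : ℕ) (V : Type u) [AddCommGroup V] [Module F V]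
    [Module.Finite F V] (f : QuadraticForm F V), finrank F V = n → (∃ a b, polar f a b ≠ 0) →
    (Fintype.card F ^ n - 1) * (Fintype.card F ^ n - Fintype.card F) ≤
      2 * (Fintype.card F + 1) * (orb f).ncard := by
  intro n
  induction n using Nat.strong_induction_on with
  | _ n ih =>
    intro V _ _ _ f hdim hpol
    have hq : 2 ≤ Fintype.card F := Fintype.one_lt_card
    have hn2 : 2 ≤ n := hdim ▸ two_le_finrank_of_polar h2 f hpol
    by_cases hrad : ∃ v, v ≠ 0 ∧ f v = 0 ∧ ∀ w, polar f v w = 0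
    · -- defective case
      obtain ⟨v, hv, hfv, hvr⟩ := hrad
      obtain ⟨C, e, fbar, hC, hcomp⟩ :=
        Cfsg.Agent.Lib.Helper58_S2333_RADSPLIT.exists_radSplit f v hv hfv hvr
      obtain ⟨a, b, hab⟩ := hpol
      have hpolb : ∃ a b, polar fbar a b ≠ 0 := by
        refine ⟨(e a).2, (e b).2, ?_⟩
        have h1 : polar (f.comp (e.symm : F × C →ₗ[F] V)) (e a) (e b) = polar f a b := by
          simp only [QuadraticMap.polar, QuadraticMap.comp_apply, LinearEquiv.coe_coe, ← map_add,
            LinearEquiv.symm_apply_apply]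
        rw [hcomp] at h1
        have h3 : polar (fbar.comp (LinearMap.snd F F C)) (e a) (e b) =
            polar fbar (e a).2 (e b).2 := by
          simp only [QuadraticMap.polar, QuadraticMap.comp_apply, LinearMap.snd_apply, Prod.snd_add]
        rw [← h3, h1]
        exact hab
      have hCn : finrank F C = n - 1 := by omega
      have hC2 : 2 ≤ finrank F C := two_le_finrank_of_polar h2 fbar hpolb
      have hI := ih (n - 1) (by omega) C fbar hCn hpolb
      have hA := Cfsg.Agent.Lib.Helper53_S2333_RADSTEP.radStep h2 fbar hpolb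
      rw [← hcomp, Cfsg.Agent.Lib.Helper86_S2333_TRANSPORT.ncard_orb_congr e f, hCn] at hA
      obtain ⟨m, rfl⟩ : ∃ m, n = m + 3 := ⟨n - 3, by omega⟩
      have e1 : m + 3 - 1 + 1 = m + 3 := by omega
      have e2 : m + 3 - 1 - 1 = m + 1 := by omega
      have e3 : m + 3 - 1 = m + 2 := by omega
      rw [e1, e2] at hA
      rw [e3] at hI
      have := arithA (Fintype.card F) (Fintype.card F ^ (m + 1)) (orb f).ncard (orb fbar).ncard hq
        (by
          calc 2 ≤ Fintype.card F := hq
            _ = Fintype.card F ^ 1 := (pow_one _).symm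
            _ ≤ Fintype.card F ^ (m + 1) := Nat.pow_le_pow_right (by omega) (by omega))
        (by
          have : Fintype.card F ^ 2 * Fintype.card F ^ (m + 1) = Fintype.card F ^ (m + 3) := by ring
          rw [this]; exact hA)
        (by
          have : Fintype.card F * Fintype.card F ^ (m + 1) = Fintype.card F ^ (m + 2) := by ring
          rw [this]; exact hI)
      have e4 : Fintype.card F ^ 2 * Fintype.card F ^ (m + 1) = Fintype.card F ^ (m + 3) := by ring
      rw [e4] at this
      exact this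
    · -- non-defective case
      have hnd : ∀ v, (∀ w, polar f v w = 0) → f v = 0 → v = 0 := by
        intro v h1 h3
        by_contra hv
        exact hrad ⟨v, hv, h3, h1⟩
      rcases Nat.lt_or_ge n 3 with h3 | h3
      · have hn : n = 2 := by omega
        subst hn
        exact Cfsg.Agent.Lib.Helper17_S2333_BINARY.binary h2 f hdim hpol
      · obtain ⟨C, e, h, hC, hcomp, hndh⟩ :=
          Cfsg.Agent.Lib.Helper58_S2333_HYPSPLIT.exists_hypSplit h2 f hnd (by omega)
        have hCn : finrank F C = n - 2 := by omega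
        have hS := Cfsg.Agent.Lib.Helper53_S2333_HYPSTEP.hypStep h2 h
        rw [← hcomp, Cfsg.Agent.Lib.Helper86_S2333_TRANSPORT.ncard_orb_congr e f, hCn] at hS
        rcases Nat.lt_or_ge n 4 with h4 | h4
        · have hn : n = 3 := by omega
          subst hn
          have hh0 : h ≠ 0 := by
            intro h0
            have : 0 < finrank F C := by omega
            obtain ⟨z, hz⟩ := (Module.finrank_pos_iff_exists_ne_zero (R := F)).mp this
            apply hz
            apply hndh z
            · intro w; rw [h0]; simp [QuadraticMap.polar]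
            · rw [h0]; rfl
          have hN := Cfsg.Agent.Lib.Helper84_S2333_SCALAR.card_sub_one_le_ncard_orb h2 h hh0
          have := arithC3 (Fintype.card F) (orb f).ncard (orb h).ncard hq
            (by simpa using hS) hN
          exact this
        · have hpolh := polar_ne_zero_of_nondefective h2 h hndh (by omega)
          have hI := ih (n - 2) (by omega) C h hCn hpolh
          obtain ⟨m, rfl⟩ : ∃ m, n = m + 4 := ⟨n - 4, by omega⟩
          have e1 : m + 4 - 2 + 1 = m + 3 := by omega
          have e3 : m + 4 - 2 = m + 2 := by omega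
          rw [e1] at hS
          rw [e3] at hI
          have := arithC (Fintype.card F) (Fintype.card F ^ (m + 2)) (orb f).ncard (orb h).ncard hq
            (Nat.pow_le_pow_right (by omega) (by omega))
            (by
              have : Fintype.card F * Fintype.card F ^ (m + 2) = Fintype.card F ^ (m + 3) := by ring
              rw [this]; exact hS)
            hI
          have e4 : Fintype.card F ^ 2 * Fintype.card F ^ (m + 2) = Fintype.card F ^ (m + 4) := by
            ring
          rw [e4] at this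
          exact this


end Main

end Cfsg.Agent.Lib.Helper30_S2333Main
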