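import Mathlib

/-!
# A counting lemma for `TI`-like product sets (helper30)

For subgroups `E`, `K` of coprime odd orders `≥ 3` of a finite group `G`, let `Ẑ = {e * c : e ∈ E \ 1, c ∈ K \ 1}`.
If every `g` fusing two elements of `Ẑ` lies in `K * E`, then the `G`-conjugates of `Ẑ` cover more than half of `G`.
Two such unions therefore intersect.
-/

set_option autoImplicit false

namespace Cfsg.Agent.Lib.Helper30_SigmaCount

variable {G : Type*} [Group G]

/-- the products `e * c` with `e ∈ E`, `c ∈ K` both nontrivial -/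
def hatSet (E K : Subgroup G) : Set G :=
  {z | ∃ e ∈ E, e ≠ 1 ∧ ∃ c ∈ K, c ≠ 1 ∧ z = e * c}

/-- the union of all conjugates of `hatSet E K` -/
def hatUnion (E K : Subgroup G) : Set G :=
  {w | ∃ g : G, ∃ z ∈ hatSet E K, w = g * z * g⁻¹}

/-- the fusion hypothesis -/
def Fus (E K : Subgroup G) : Prop :=
  ∀ g : G, ∀ e ∈ E, e ≠ 1 → ∀ c ∈ K, c ≠ 1 → ∀ e₁ ∈ E, e₁ ≠ 1 → ∀ c₁ ∈ K, c₁ ≠ 1 →
    e * c = g * (e₁ * c₁) * g⁻¹ → ∃ s ∈ K, ∃ x ∈ E, g = s * x

theorem arith {m n : ℕ} (hm : 3 ≤ m) (hn : 3 ≤ n) (hmo : Odd m) (hno : Odd n) (hc : m.Coprime n) :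
    m * n < 2 * ((m - 1) * (n - 1)) := by
  have hne : m ≠ n := by
    rintro rfl
    rw [Nat.coprime_self] at hc
    omega
  obtain ⟨a, rfl⟩ := hmo
  obtain ⟨b, rfl⟩ := hno
  have ha : 1 ≤ a := by omega
  have hb : 1 ≤ b := by omega
  have hab : a ≠ b := fun h => hne (by rw [h])
  have h2 : 2 ≤ a ∨ 2 ≤ b := by omega
  have e1 : 2 * a + 1 - 1 = 2 * a := by omega
  have e2 : 2 * b + 1 - 1 = 2 * b := by omega
  rw [e1, e2]
  rcases h2 with h | h
  · nlinarith
  · nlinarith

theorem mul_injOn {E K : Subgroup G} (hEK : E ⊓ K = ⊥) {e e' c c' : G} (he : e ∈ E) (he' : e' ∈ E)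
    (hc : c ∈ K) (hc' : c' ∈ K) (h : e * c = e' * c') : e = e' ∧ c = c' := by
  have h1 : e'⁻¹ * e = c' * c⁻¹ := by
    have := congrArg (fun t => e'⁻¹ * t * c⁻¹) h
    simpa [mul_assoc] using this
  have h2 : e'⁻¹ * e ∈ E ⊓ K := by
    rw [Subgroup.mem_inf]
    refine ⟨mul_mem (inv_mem he') he, ?_⟩
    rw [h1]
    exact mul_mem hc' (inv_mem hc)
  rw [hEK, Subgroup.mem_bot] at h2
  have h3 : e = e' := by
    have := congrArg (fun t => e' * t) h2
    simpa using this
  refine ⟨h3, ?_⟩
  rw [h3] at h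
  exact mul_left_cancel h

variable [Finite G]

theorem card_le (E K : Subgroup G) (hcop : (Nat.card E).Coprime (Nat.card K)) (hF : Fus E K) :
    Nat.card G * ((Nat.card E - 1) * (Nat.card K - 1)) ≤
      Nat.card K * Nat.card E * (hatUnion E K).ncard := by
  classical
  have := Fintype.ofFinite G
  have hEK : E ⊓ K = ⊥ := (Subgroup.disjoint_of_coprime_natCard hcop).eq_bot
  let s : Finset (G × E × K) :=
    (Finset.univ : Finset G) ×ˢ ((Finset.univ.erase (1 : E)) ×ˢ (Finset.univ.erase (1 : K)))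
  let f : G × E × K → G := fun t => t.1 * ((t.2.1 : G) * (t.2.2 : G)) * t.1⁻¹
  have hs : s.card = Nat.card G * ((Nat.card E - 1) * (Nat.card K - 1)) := by
    simp only [s, Finset.card_product, Finset.card_univ, Finset.card_erase_of_mem (Finset.mem_univ _),
      Nat.card_eq_fintype_card]
  have himg : ((s.image f : Finset G) : Set G) ⊆ hatUnion E K := by
    intro w hw
    rw [Finset.mem_coe, Finset.mem_image] at hw
    obtain ⟨⟨g, e, c⟩, ht, rfl⟩ := hw
    simp only [s, Finset.mem_product, Finset.mem_univ, true_and, Finset.mem_erase, ne_eq, and_true] at ht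
    refine ⟨g, (e : G) * (c : G), ⟨e, e.2, ?_, c, c.2, ?_, rfl⟩, rfl⟩
    · intro h
      exact ht.1 (Subtype.ext h)
    · intro h
      exact ht.2 (Subtype.ext h)
  have hcard_img : (s.image f).card ≤ (hatUnion E K).ncard := by
    rw [← Set.ncard_coe_finset]
    exact Set.ncard_le_ncard himg (Set.toFinite _)
  have hfib : ∀ a ∈ s.image f, (s.filter fun t => f t = a).card ≤ Nat.card K * Nat.card E := by
    intro a ha
    rw [Finset.mem_image] at ha
    obtain ⟨⟨g₀, e₀, c₀⟩, ht₀, hfa⟩ := ha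
    simp only [s, Finset.mem_product, Finset.mem_univ, true_and, Finset.mem_erase, ne_eq, and_true] at ht₀
    have he₀ : (e₀ : G) ≠ 1 := fun h => ht₀.1 (Subtype.ext h)
    have hc₀ : (c₀ : G) ≠ 1 := fun h => ht₀.2 (Subtype.ext h)
    -- the first projection is injective on the fibre
    have hinj : Set.InjOn (fun t : G × E × K => t.1) ((s.filter fun t => f t = a) : Set (G × E × K)) := by
      rintro ⟨g, e, c⟩ ht ⟨g', e', c'⟩ ht' hgg
      rw [Finset.mem_coe, Finset.mem_filter] at ht ht'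
      simp only at hgg
      subst hgg
      have h1 : (e : G) * (c : G) = (e' : G) * (c' : G) := by
        have h2 : f (g, e, c) = f (g, e', c') := ht.2.trans ht'.2.symm
        simp only [f] at h2
        have := congrArg (fun t => g⁻¹ * t * g) h2
        simpa [mul_assoc] using this
      obtain ⟨h3, h4⟩ := mul_injOn hEK e.2 e'.2 c.2 c'.2 h1
      rw [Subtype.ext h3, Subtype.ext h4]
    rw [← Finset.card_image_of_injOn hinj]
    have hsub : (s.filter fun t => f t = a).image (fun t : G × E × K => t.1) ⊆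
        (Finset.univ : Finset (K × E)).image (fun sx => g₀ * (sx.1 : G) * (sx.2 : G)) := by
      intro g hg
      rw [Finset.mem_image] at hg
      obtain ⟨⟨g', e, c⟩, ht, rfl⟩ := hg
      rw [Finset.mem_filter] at ht
      obtain ⟨ht1, ht2⟩ := ht
      simp only [s, Finset.mem_product, Finset.mem_univ, true_and, Finset.mem_erase, ne_eq, and_true] at ht1
      have he : (e : G) ≠ 1 := fun h => ht1.1 (Subtype.ext h)
      have hc : (c : G) ≠ 1 := fun h => ht1.2 (Subtype.ext h)
      -- `e₀ c₀ = (g₀⁻¹ g') (e c) (g₀⁻¹ g')⁻¹`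
      have h1 : (e₀ : G) * (c₀ : G) = (g₀⁻¹ * g') * ((e : G) * (c : G)) * (g₀⁻¹ * g')⁻¹ := by
        have h2 : f (g₀, e₀, c₀) = f (g', e, c) := hfa.trans ht2.symm
        simp only [f] at h2
        have := congrArg (fun t => g₀⁻¹ * t * g₀) h2
        simp only [mul_assoc, inv_mul_cancel_left, inv_mul_cancel, mul_one] at this
        rw [this]
        simp [mul_assoc]
      obtain ⟨sK, hsK, x, hx, hgx⟩ := hF (g₀⁻¹ * g') e₀ e₀.2 he₀ c₀ c₀.2 hc₀ e e.2 he c c.2 hc h1
      rw [Finset.mem_image]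
      refine ⟨(⟨sK, hsK⟩, ⟨x, hx⟩), Finset.mem_univ _, ?_⟩
      simp only
      rw [mul_assoc, ← hgx]
      simp
    calc ((s.filter fun t => f t = a).image (fun t : G × E × K => t.1)).card
        ≤ ((Finset.univ : Finset (K × E)).image (fun sx => g₀ * (sx.1 : G) * (sx.2 : G))).card :=
          Finset.card_le_card hsub
      _ ≤ (Finset.univ : Finset (K × E)).card := Finset.card_image_le
      _ = Nat.card K * Nat.card E := by
          rw [Finset.card_univ, Fintype.card_prod, Nat.card_eq_fintype_card, Nat.card_eq_fintype_card]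
  have h1 := Finset.card_le_mul_card_image s (Nat.card K * Nat.card E) hfib
  rw [hs] at h1
  exact h1.trans (Nat.mul_le_mul_left _ hcard_img)

/-- the conjugates of `Ẑ` cover more than half of `G` -/
theorem card_lt_two_mul (E K : Subgroup G) (hcop : (Nat.card E).Coprime (Nat.card K))
    (hE3 : 3 ≤ Nat.card E) (hK3 : 3 ≤ Nat.card K) (hEo : Odd (Nat.card E)) (hKo : Odd (Nat.card K))
    (hF : Fus E K) : Nat.card G < 2 * (hatUnion E K).ncard := by
  have h1 := card_le E K hcop hF
  have h2 := arith hE3 hK3 hEo hKo hcop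
  have hpos : 0 < Nat.card G := Nat.card_pos
  set m := Nat.card E
  set n := Nat.card K
  set u := (hatUnion E K).ncard
  set N := Nat.card G
  by_contra hcon
  rw [not_lt] at hcon
  -- `N * (m n) < N * 2 (m-1)(n-1) ≤ 2 * (n m u) ≤ n m N`
  have h3 : N * (m * n) < N * (2 * ((m - 1) * (n - 1))) := Nat.mul_lt_mul_of_pos_left h2 hpos
  have h4 : N * (2 * ((m - 1) * (n - 1))) ≤ 2 * (n * m * u) := by nlinarith
  have h5 : 2 * (n * m * u) ≤ n * m * N := by
    calc 2 * (n * m * u) = n * m * (2 * u) := by ring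
      _ ≤ n * m * N := Nat.mul_le_mul_left _ hcon
  have h6 : N * (m * n) = n * m * N := by ring
  omega

omit [Group G] in
/-- two sets covering more than half of a finite group intersect -/
theorem exists_mem_inter {U V : Set G} (hU : Nat.card G < 2 * U.ncard) (hV : Nat.card G < 2 * V.ncard) :
    ∃ z, z ∈ U ∧ z ∈ V := by
  by_contra hcon
  have hdisj : Disjoint U V := by
    rw [Set.disjoint_left]
    intro z hzU hzV
    exact hcon ⟨z, hzU, hzV⟩
  have h1 : (U ∪ V).ncard = U.ncard + V.ncard :=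
    Set.ncard_union_eq hdisj (Set.toFinite _) (Set.toFinite _)
  have h2 : (U ∪ V).ncard ≤ Nat.card G := by
    rw [← Set.ncard_univ]
    exact Set.ncard_le_ncard (Set.subset_univ _) (Set.toFinite _)
  omega

end Cfsg.Agent.Lib.Helper30_SigmaCount
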