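import Cfsg.Agent.Lib.Helper30_SigmaPartC

/-!
# The `σ`-partition (Bender--Glauberman Theorem 13.9 / 14.3), from the local analysis (helper30)

`sigma_partition`: two maximal subgroups `M`, `N` of a minimal simple group of odd order with
`σ(M) ∩ σ(N) ≠ ∅` are conjugate, given the results `Inputs G` of the local analysis.
-/

set_option autoImplicit false

namespace Cfsg.Agent.Lib.Helper30_SigmaPart

open Subgroup Cfsg Cfsg.Agent.Lib.Helper22_Radical Cfsg.Agent.Lib.Helper84_RelSylow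
  Cfsg.Agent.Lib.Helper30_SigmaPartA Cfsg.Agent.Lib.Helper30_SigmaPartB
  Cfsg.Agent.Lib.Helper30_SigmaPartC Cfsg.Agent.Lib.Helper30_SigmaCount
  Cfsg.Agent.Lib.Helper49_Sigma Cfsg.Agent.Lib.Helper49_Alpha Cfsg.Agent.Lib.Helper49_SigmaDisjoint
  Cfsg.Agent.Lib.Helper22_Uniq Cfsg.Agent.Lib.Helper22_BGTrans

variable {G : Type*} [Group G]

/-- Bezout, uniformly: a power map picking out the second factor of commuting elements of coprime
exponents -/
theorem exists_zpow_uniform {m n : ℕ} (hmn : m.Coprime n) :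
    ∃ j : ℤ, ∀ (x y : G), Commute x y → x ^ m = 1 → y ^ n = 1 → (x * y) ^ j = y := by
  obtain ⟨j, -, hj⟩ := exists_zpow_eq_right (G := G) hmn (Commute.one_left (1 : G)) (one_pow m) (one_pow n)
  exact ⟨j, hj⟩

theorem conj_zpow' (g x : G) (j : ℤ) : (g * x * g⁻¹) ^ j = g * x ^ j * g⁻¹ :=
  conj_zpow

theorem conj_pow' (g x : G) (j : ℕ) : (g * x * g⁻¹) ^ j = g * x ^ j * g⁻¹ :=
  conj_pow

theorem orderOf_conj' (g x : G) : orderOf (g * x * g⁻¹) = orderOf x := by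
  have := orderOf_injective (MulAut.conj g).toMonoidHom (MulAut.conj g).injective x
  simpa [MulAut.conj_apply] using this

variable [Finite G]

/-- a nontrivial element has a power of prime order -/
theorem exists_pow_prime {w : G} (hw : w ≠ 1) : ∃ t : ℕ, (orderOf (w ^ t)).Prime := by
  have ho : orderOf w ≠ 1 := fun h => hw (orderOf_eq_one_iff.mp h)
  obtain ⟨s, hs, hsd⟩ := Nat.exists_prime_and_dvd ho
  obtain ⟨t, ht⟩ := hsd
  refine ⟨t, ?_⟩
  have hpos : 0 < orderOf w := orderOf_pos w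
  have ht0 : t ≠ 0 := by
    rintro rfl
    rw [mul_zero] at ht
    omega
  have : orderOf (w ^ t) = s := by
    rw [orderOf_pow' w ht0, ht, Nat.gcd_mul_left_left, Nat.mul_div_cancel _ (Nat.pos_of_ne_zero ht0)]
  rw [this]
  exact hs

/-- elements of `K*_M` and `K*_N` that are conjugate force `M` and `N` to be conjugate -/
theorem eq_cj_of_conj {M N P Q E F : Subgroup G} (hN : IsCoatom N) (D : Data M P E) (D' : Data N Q F)
    {w d g : G} (hw : w ∈ sigmaCore M ⊓ centralizer (E : Set G)) (hw1 : w ≠ 1)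
    (hd : d ∈ sigmaCore N ⊓ centralizer (F : Set G)) (hwd : w = g * d * g⁻¹) : M = cj g N := by
  obtain ⟨t, ht⟩ := exists_pow_prime hw1
  have h0 : w ^ t = g * d ^ t * g⁻¹ := by rw [hwd, conj_pow']
  have ht' : (orderOf (d ^ t)).Prime := by
    rw [← orderOf_conj' g (d ^ t), ← h0]
    exact ht
  have h1 := (D'.uniq (d ^ t) (pow_mem hd t) ht').1
  have h2 := (D.uniq (w ^ t) (pow_mem hw t) ht).2 (cj g N) (isCoatom_cj hN g)
  refine (h2 ?_).symm
  intro x hx
  rw [mem_cj]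
  apply h1
  rw [Subgroup.mem_centralizer_singleton_iff] at hx ⊢
  rw [h0] at hx
  have h3 : x * g * d ^ t = g * d ^ t * g⁻¹ * x * g := by
    have := congrArg (fun y => y * g) hx
    simpa [mul_assoc] using this
  calc g⁻¹ * x * g * d ^ t = g⁻¹ * (x * g * d ^ t) := by group
    _ = g⁻¹ * (g * d ^ t * g⁻¹ * x * g) := by rw [h3]
    _ = d ^ t * (g⁻¹ * x * g) := by group

/-- the fusion property of the pair `(E, K*)` -/
theorem fus_of_data (hG : IsMinSimpleOddOrder G) {M P E : Subgroup G} (hM : IsCoatom M) (hM1 : M ≠ ⊥)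
    (D : Data M P E) : Fus E (sigmaCore M ⊓ centralizer (E : Set G)) := by
  intro g e he he1 c hc hc1 e₁ he₁ he₁1 c₁ hc₁ hc₁1 h
  set S := sigmaCore M with hS
  set K := S ⊓ centralizer (E : Set G) with hK
  have hKS : K ≤ S := inf_le_left
  have hcopEK : (Nat.card ↥E).Coprime (Nat.card ↥K) :=
    D.cop.coprime_dvd_right (Subgroup.card_dvd_of_le hKS)
  have hcomm : ∀ x ∈ E, ∀ y ∈ K, Commute x y := by
    intro x hx y hy
    exact (Subgroup.mem_centralizer_iff.mp (Subgroup.mem_inf.mp hy).2) x hx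
  obtain ⟨j, hj⟩ := exists_zpow_uniform (G := G) hcopEK
  obtain ⟨i, hi⟩ := exists_zpow_uniform (G := G) hcopEK.symm
  have hpowE : ∀ x ∈ E, x ^ Nat.card ↥E = 1 := by
    intro x hx
    have h1 : (⟨x, hx⟩ : ↥E) ^ Nat.card ↥E = 1 := pow_card_eq_one'
    have h2 := Subgroup.coe_pow E ⟨x, hx⟩ (Nat.card ↥E)
    rw [h1, Subgroup.coe_one] at h2
    exact h2.symm
  have hpowK : ∀ y ∈ K, y ^ Nat.card ↥K = 1 := by
    intro y hy
    have h1 : (⟨y, hy⟩ : ↥K) ^ Nat.card ↥K = 1 := pow_card_eq_one'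
    have h2 := Subgroup.coe_pow K ⟨y, hy⟩ (Nat.card ↥K)
    rw [h1, Subgroup.coe_one] at h2
    exact h2.symm
  have hc_eq : c = g * c₁ * g⁻¹ := by
    have h1 := hj e c (hcomm e he c hc) (hpowE e he) (hpowK c hc)
    have h2 := hj e₁ c₁ (hcomm e₁ he₁ c₁ hc₁) (hpowE e₁ he₁) (hpowK c₁ hc₁)
    rw [← h1, h, conj_zpow', h2]
  have he_eq : e = g * e₁ * g⁻¹ := by
    have h1 := hi c e (hcomm e he c hc).symm (hpowK c hc) (hpowE e he)
    have h2 := hi c₁ e₁ (hcomm e₁ he₁ c₁ hc₁).symm (hpowK c₁ hc₁) (hpowE e₁ he₁)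
    have h3 : c * e = g * (c₁ * e₁) * g⁻¹ := by
      rw [← (hcomm e he c hc).eq, h, (hcomm e₁ he₁ c₁ hc₁).eq]
    rw [← h1, h3, conj_zpow', h2]
  -- `g ∈ M`
  have hMg : M = cj g M := eq_cj_of_conj hM D D hc hc1 hc₁ hc_eq
  have hgM : g ∈ M := by
    have h1 : g ∈ normalizer (M : Set G) := by
      rw [mem_normalizer_iff'']
      intro x
      conv_lhs => rw [hMg]
      exact mem_cj
    rwa [Cfsg.Agent.Lib.Helper49_Alpha3.normalizer_coatom hG hM hM1] at h1
  obtain ⟨a, ha, b, hb, hgab⟩ := D.compl.2.2.2 g hgM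
  have hEM := D.compl.1
  have hnorm : ∀ m ∈ M, ∀ s ∈ S, m * s * m⁻¹ ∈ S := fun m hm s hs => conj_mem_sigmaCore hm hs
  have hsS : a * b * a⁻¹ ∈ S := hnorm a (hEM ha) b hb
  have hgsa : g = a * b * a⁻¹ * a := by rw [hgab]; group
  generalize a * b * a⁻¹ = s at hsS hgsa
  have he₂E : a * e₁ * a⁻¹ ∈ E := mul_mem (mul_mem ha he₁) (inv_mem ha)
  have hee₂ : e = s * (a * e₁ * a⁻¹) * s⁻¹ := by rw [he_eq, hgsa]; group
  generalize a * e₁ * a⁻¹ = e₂ at he₂E hee₂
  have h5 : e * e₂⁻¹ ∈ E ⊓ S := by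
    refine Subgroup.mem_inf.mpr ⟨mul_mem he (inv_mem he₂E), ?_⟩
    have : e * e₂⁻¹ = s * (e₂ * s⁻¹ * e₂⁻¹) := by rw [hee₂]; group
    rw [this]
    exact mul_mem hsS (hnorm e₂ (hEM he₂E) s⁻¹ (inv_mem hsS))
  rw [D.compl.2.2.1, Subgroup.mem_bot, mul_inv_eq_one] at h5
  have h7 : s ∈ S ⊓ centralizer ({e} : Set G) := by
    refine Subgroup.mem_inf.mpr ⟨hsS, ?_⟩
    rw [Subgroup.mem_centralizer_singleton_iff]
    rw [← h5] at hee₂
    calc s * e = (s * e * s⁻¹) * s := by group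
      _ = e * s := by rw [← hee₂]
  rw [D.prime e he he1] at h7
  exact ⟨s, h7, a, ha, hgsa⟩

omit [Finite G] in
theorem pow_card_of_mem {H : Subgroup G} {x : G} (hx : x ∈ H) : x ^ Nat.card ↥H = 1 :=
  orderOf_dvd_iff_pow_eq_one.mp (H.orderOf_dvd_natCard hx)

theorem three_le_card (hG : IsMinSimpleOddOrder G) {H : Subgroup G} (hH : H ≠ ⊥) :
    3 ≤ Nat.card ↥H ∧ Odd (Nat.card ↥H) := by
  have hodd : Odd (Nat.card ↥H) := hG.1.of_dvd_nat (Subgroup.card_subgroup_dvd_card H)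
  have h1 : Nat.card ↥H ≠ 1 := fun h => hH (Subgroup.card_eq_one.mp h)
  have h0 : 0 < Nat.card ↥H := Nat.card_pos
  obtain ⟨k, hk⟩ := hodd
  exact ⟨by omega, ⟨k, hk⟩⟩

omit [Finite G] in
theorem ne_bot_of_mem_sigma {M : Subgroup G} {p : ℕ} (hp : p ∈ sigma M) : M ≠ ⊥ := by
  intro h
  have h1 := hp.2.1
  rw [h, Subgroup.card_bot] at h1
  exact hp.1.one_lt.ne' (Nat.dvd_one.mp h1)

/-- the core of the argument: `M`, `N` non-conjugate with a common Sylow `p`-subgroup `P` of `G` whose normalizer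
lies in both -/
theorem core (hG : IsMinSimpleOddOrder G) (I : Inputs G) {M N : Subgroup G} (hM : IsCoatom M)
    (hN : IsCoatom N) {p : ℕ} [Fact p.Prime] (hpM : p ∈ sigma M) (hpN : p ∈ sigma N) {P : Subgroup G}
    (hPM : SylM p M P) (hPN : SylM p N P) (hnc : ∀ g : G, N ≠ cj g M) : False := by
  have hpp : p.Prime := Fact.out
  have hnc' : ∀ g : G, M ≠ cj g N := by
    intro g h
    apply hnc g⁻¹
    rw [h, cj_inv_cj]
  have hHM := I.hall M hM
  have hHN := I.hall N hN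
  have hnilM : ¬ Group.IsNilpotent ↥(sigmaCore M) :=
    fun h => sigma_inter_sigma hG hM hN hnc h hHM hpM hpN
  have hnilN : ¬ Group.IsNilpotent ↥(sigmaCore N) :=
    fun h => sigma_inter_sigma hG hN hM hnc' h hHN hpN hpM
  have hpβ : p ∉ beta N := fun h => alpha_inter_sigma hG hN hM hnc' h.1 hpM
  obtain ⟨E, D⟩ := exists_data hG I hM hpM hPM hnilM
  obtain ⟨F, D'⟩ := exists_data hG I hN hpN hPN hnilN
  have hM1 : M ≠ ⊥ := ne_bot_of_mem_sigma hpM
  have hN1 : N ≠ ⊥ := ne_bot_of_mem_sigma hpN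
  have hMN : M ≠ N := by
    intro h
    apply hnc 1
    rw [cj_one', h]
  have hPS_N : P ≤ sigmaCore N := le_sigmaCore_of_isPGroup hHN hpN hPN.2.1 hPN.1.isPGroup
  have hPS_M : P ≤ sigmaCore M := le_sigmaCore_of_isPGroup hHM hpM hPM.2.1 hPM.1.isPGroup
  have hpcomplN := I.pcompl N hN p hpp hpN.2.1 hpβ
  have hpS : p ∣ Nat.card ↥(sigmaCore M) := by
    by_contra hnd
    have h2 : ¬ p ∣ P.relIndex M := (hPM.1.mono hPM.2.1 le_top).not_dvd
    have h3 : ¬ p ∣ Nat.card ↥P := fun h => hnd (h.trans (Subgroup.card_dvd_of_le hPS_M))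
    have h4 := Subgroup.relIndex_mul_relIndex ⊥ P M bot_le hPM.2.1
    rw [Subgroup.relIndex_bot_left, Subgroup.relIndex_bot_left] at h4
    have h5 : p ∣ Nat.card ↥P * P.relIndex M := by rw [h4]; exact hpM.2.1
    rcases (Nat.Prime.dvd_mul hpp).mp h5 with h | h
    · exact h3 h
    · exact h2 h
  have hA : ∀ e ∈ E, e ≠ 1 → e ∉ sigmaCore N := by
    intro e he he1 heN
    have hep : (orderOf e).Coprime p := by
      have h1 : orderOf e ∣ Nat.card ↥E := E.orderOf_dvd_natCard he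
      have h2 : (Nat.card ↥E).Coprime p := D.cop.coprime_dvd_right hpS
      exact h2.coprime_dvd_left h1
    have hcomm : ∀ x ∈ P, e * x = x * e := fun x hx =>
      commute_of_hasNormalPComplement hpcomplN hPS_N hPN.1.isPGroup heN (D.norm he) hep hx
    obtain ⟨L, -, huniq⟩ := D.cent e he he1 hcomm
    have h1 := huniq M ⟨hM, hPM.2.1⟩
    have h2 := huniq N ⟨hN, hPN.2.1⟩
    exact hMN (h1.trans h2.symm)
  have hA' : ∀ r : ℕ, r.Prime → r ∣ Nat.card ↥E → r ∉ sigma N := by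
    intro r hr hrE hrσ
    have : Fact r.Prime := ⟨hr⟩
    obtain ⟨e, he⟩ := exists_prime_orderOf_dvd_card' r hrE
    have he1 : (e : G) ≠ 1 := by
      intro h
      have h' : e = 1 := Subtype.ext h
      rw [h', orderOf_one] at he
      exact hr.one_lt.ne he
    have hpow : (e : G) ^ r = 1 := by
      have h1 := pow_orderOf_eq_one e
      rw [he] at h1
      have h2 := Subgroup.coe_pow E e r
      rw [h1, Subgroup.coe_one] at h2
      exact h2.symm
    have heN : (e : G) ∈ N := hPN.2.2 (D.norm e.2)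
    exact hA e e.2 he1 (mem_sigmaCore_of_orderOf hHN heN hr hrσ hpow)
  -- counting
  have hF1 := fus_of_data hG hM hM1 D
  have hF2 := fus_of_data hG hN hN1 D'
  have hkne := D.kne
  have hkne' := D'.kne
  set K := sigmaCore M ⊓ centralizer (E : Set G) with hK
  set L := sigmaCore N ⊓ centralizer (F : Set G) with hL
  obtain ⟨hE3, hEo⟩ := three_le_card hG D.ne
  obtain ⟨hK3, hKo⟩ := three_le_card hG hkne
  obtain ⟨hF3, hFo⟩ := three_le_card hG D'.ne
  obtain ⟨hL3, hLo⟩ := three_le_card hG hkne'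
  have hcopEK : (Nat.card ↥E).Coprime (Nat.card ↥K) :=
    D.cop.coprime_dvd_right (Subgroup.card_dvd_of_le inf_le_left)
  have hcopFL : (Nat.card ↥F).Coprime (Nat.card ↥L) :=
    D'.cop.coprime_dvd_right (Subgroup.card_dvd_of_le inf_le_left)
  have hc1 := card_lt_two_mul E K hcopEK hE3 hK3 hEo hKo hF1
  have hc2 := card_lt_two_mul F L hcopFL hF3 hL3 hFo hLo hF2
  obtain ⟨z, ⟨g₁, z₁, ⟨e, he, he1, c, hc, hc1', rfl⟩, rfl⟩, ⟨g₂, z₂, ⟨f, hf, hf1, d, hd, hd1, rfl⟩, hz⟩⟩ :=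
    exists_mem_inter hc1 hc2
  have hconj : e * c = (g₁⁻¹ * g₂) * (f * d) * (g₁⁻¹ * g₂)⁻¹ := by
    calc e * c = g₁⁻¹ * (g₁ * (e * c) * g₁⁻¹) * g₁ := by group
      _ = g₁⁻¹ * (g₂ * (f * d) * g₂⁻¹) * g₁ := by rw [hz]
      _ = _ := by group
  generalize g₁⁻¹ * g₂ = g at hconj
  obtain ⟨j, hj⟩ := exists_zpow_uniform (G := G) hcopFL
  obtain ⟨i, hi⟩ := exists_zpow_uniform (G := G) hcopEK
  have hcommEK : Commute e c := (Subgroup.mem_centralizer_iff.mp (Subgroup.mem_inf.mp hc).2) e he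
  have hcommFL : Commute f d := (Subgroup.mem_centralizer_iff.mp (Subgroup.mem_inf.mp hd).2) f hf
  have hu : g * d * g⁻¹ = e ^ j * c ^ j := by
    have h1 := hj f d hcommFL (pow_card_of_mem hf) (pow_card_of_mem hd)
    rw [← hcommEK.mul_zpow, hconj, conj_zpow', h1]
  have hcj : c ^ j = g * d ^ i * g⁻¹ := by
    have h1 := hi (e ^ j) (c ^ j) (hcommEK.zpow_zpow j j) (pow_card_of_mem (zpow_mem he j))
      (pow_card_of_mem (zpow_mem hc j))
    rw [← h1, ← hu, conj_zpow']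
  by_cases hcj1 : c ^ j = 1
  · have hue : g * d * g⁻¹ = e ^ j := by rw [hu, hcj1, mul_one]
    have hne : e ^ j ≠ 1 := by
      intro h
      rw [h] at hue
      apply hd1
      calc d = g⁻¹ * (g * d * g⁻¹) * g := by group
        _ = 1 := by rw [hue]; group
    have ho : orderOf (e ^ j) ≠ 1 := fun h => hne (orderOf_eq_one_iff.mp h)
    obtain ⟨r, hr, hrd⟩ := Nat.exists_prime_and_dvd ho
    have hrE : r ∣ Nat.card ↥E := hrd.trans (E.orderOf_dvd_natCard (zpow_mem he j))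
    have hrS : r ∣ Nat.card ↥(sigmaCore N) := by
      rw [← hue, orderOf_conj'] at hrd
      exact hrd.trans ((L.orderOf_dvd_natCard hd).trans (Subgroup.card_dvd_of_le inf_le_left))
    exact hA' r hr hrE (mem_sigma_of_dvd_card_sigmaCore N hr hrS)
  · exact hnc' g (eq_cj_of_conj hN D D' (zpow_mem hc j) hcj1 (zpow_mem hd i) hcj)

/-- **The `σ`-partition** (Bender--Glauberman 13.9/14.3): maximal subgroups with a common prime in their `σ`-sets
are conjugate. -/
theorem sigma_partition (hG : IsMinSimpleOddOrder G) (I : Inputs G) {M N : Subgroup G} (hM : IsCoatom M)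
    (hN : IsCoatom N) {p : ℕ} (hpM : p ∈ sigma M) (hpN : p ∈ sigma N) : ∃ g : G, N = cj g M := by
  by_contra hnc
  push Not at hnc
  have hpp : p.Prime := hpM.1
  have : Fact p.Prime := ⟨hpp⟩
  obtain ⟨P, hP⟩ := exists_sylM hpM
  obtain ⟨Q, hQ⟩ := exists_sylM hpN
  obtain ⟨g, hg⟩ := exists_cj_eq_of_isSylowIn_top hP.1 hQ.1
  have hN' : IsCoatom (cj g⁻¹ N) := isCoatom_cj hN g⁻¹
  have hPN' : SylM p (cj g⁻¹ N) P := by
    refine ⟨hP.1, ?_, ?_⟩
    · have := cj_mono (k := g⁻¹) hQ.2.1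
      rwa [hg, cj_inv_cj] at this
    · have := cj_mono (k := g⁻¹) hQ.2.2
      rwa [← normalizer_cj, hg, cj_inv_cj] at this
  have hP1 : P ≠ ⊥ := by
    intro h
    have h1 := hP.1.not_dvd
    rw [h, Subgroup.relIndex_bot_left] at h1
    apply h1
    rw [Subgroup.card_top]
    exact hpM.2.1.trans (Subgroup.card_subgroup_dvd_card M)
  have hpN' : p ∈ sigma (cj g⁻¹ N) :=
    Cfsg.Agent.Lib.Helper49_Alpha3.mem_sigma_of_normalizer_le (hP.1.mono hPN'.2.1 le_top) hP1 hPN'.2.2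
  refine core hG I hM hN' hpM hpN' hP hPN' ?_
  intro h heq
  apply hnc (g * h)
  rw [cj_mul, ← heq, cj_cj_inv]

/-- every prime divisor of `|G|` lies in `σ(M)` for some maximal subgroup `M` -/
theorem exists_coatom_mem_sigma (hG : IsMinSimpleOddOrder G) {p : ℕ} (hp : p.Prime) (hpG : p ∣ Nat.card G) :
    ∃ M : Subgroup G, IsCoatom M ∧ p ∈ sigma M := by
  have : Fact p.Prime := ⟨hp⟩
  obtain ⟨S⟩ : Nonempty (Sylow p G) := inferInstance
  have hS1 : (S : Subgroup G) ≠ ⊥ := S.ne_bot_of_dvd_card hpG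
  have hStop : (S : Subgroup G) ≠ ⊤ := ne_top_of_isPGroup hG hp S.2
  have hNtop : normalizer ((S : Subgroup G) : Set G) ≠ ⊤ := normalizer_ne_top hG hS1 hStop
  obtain ⟨M, hM, hNM⟩ := (eq_top_or_exists_le_coatom (normalizer ((S : Subgroup G) : Set G))).resolve_left hNtop
  refine ⟨M, hM, ?_⟩
  have hSM : (S : Subgroup G) ≤ M := le_normalizer.trans hNM
  exact Cfsg.Agent.Lib.Helper49_Alpha3.mem_sigma_of_normalizer_le ((isSylowIn_top S).mono hSM le_top) hS1 hNM

end Cfsg.Agent.Lib.Helper30_SigmaPart
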