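import Cfsg.Agent.Lib.Helper30_SigmaPartB
import Cfsg.Agent.Lib.Helper49_MaxSubC
import Cfsg.Agent.Lib.Helper30_SigmaCount

/-!
# The local data attached to a maximal subgroup with non-nilpotent `M_σ` (helper30)
-/

set_option autoImplicit false

namespace Cfsg.Agent.Lib.Helper30_SigmaPartC

open Subgroup Cfsg Cfsg.Agent.Lib.Helper22_Radical Cfsg.Agent.Lib.Helper84_RelSylow
  Cfsg.Agent.Lib.Helper30_SigmaPartA Cfsg.Agent.Lib.Helper30_SigmaPartB
  Cfsg.Agent.Lib.Helper49_Sigma Cfsg.Agent.Lib.Helper49_Alpha Cfsg.Agent.Lib.Helper49_SigmaDisjoint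

variable {G : Type*} [Group G] [Finite G]

/-- the results of the local analysis used as inputs (frozen statements S1350, S1429, S1430, S1426, S1423,
S1414) -/
structure Inputs (G : Type*) [Group G] [Finite G] : Prop where
  hall : ∀ M : Subgroup G, IsCoatom M → IsPiHallOf (sigma M) (sigmaCore M) M
  kap : ∀ M : Subgroup G, IsCoatom M → ¬ Group.IsNilpotent ↥(sigmaCore M) →
    ∀ q : ℕ, q.Prime → q ∣ Nat.card ↥M → q ∉ sigma M → q ∈ kappa M
  prime : ∀ M : Subgroup G, IsCoatom M → ¬ Group.IsNilpotent ↥(sigmaCore M) →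
    ∀ K : Subgroup G, IsPiHallOf (kappa M) K M → IsComplIn K (sigmaCore M) M → K ≠ ⊥ →
    ∀ k ∈ K, k ≠ 1 →
      sigmaCore M ⊓ centralizer ({k} : Set G) = sigmaCore M ⊓ centralizer (K : Set G)
  der : ∀ M : Subgroup G, IsCoatom M → ∀ E : Subgroup G, IsComplIn E (sigmaCore M) M →
    sigmaCore M ⊓ centralizer (E : Set G) ≤ ⁅sigmaCore M, sigmaCore M⁆
  uniq : ∀ M : Subgroup G, IsCoatom M → ∀ s : ℕ, s.Prime → s ∈ sigma M → ∀ X : Subgroup G, X ≤ M →
    Nat.card ↥X = s → X ≤ ⁅sigmaCore M, sigmaCore M⁆ →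
      (centralizer (X : Set G) ≤ M ∧
        ∀ L : Subgroup G, IsCoatom L → centralizer (X : Set G) ≤ L → L = M) ∧
      ∀ P : Sylow s ↥(sigmaCore M),
        InUniqueMaximal ((P : Subgroup ↥(sigmaCore M)).map (sigmaCore M).subtype)
  pcompl : ∀ M : Subgroup G, IsCoatom M → ∀ p : ℕ, p.Prime → p ∣ Nat.card ↥M → p ∉ beta M →
    HasNormalPComplement p ↥(sigmaCore M)

/-- the data attached to `(M, P)` -/
structure Data (M P E : Subgroup G) : Prop where
  compl : IsComplIn E (sigmaCore M) M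
  norm : E ≤ normalizer (P : Set G)
  ne : E ≠ ⊥
  prime : ∀ e ∈ E, e ≠ 1 →
    sigmaCore M ⊓ centralizer ({e} : Set G) = sigmaCore M ⊓ centralizer (E : Set G)
  kne : sigmaCore M ⊓ centralizer (E : Set G) ≠ ⊥
  uniq : ∀ c ∈ sigmaCore M ⊓ centralizer (E : Set G), (orderOf c).Prime →
    centralizer ({c} : Set G) ≤ M ∧
      ∀ L : Subgroup G, IsCoatom L → centralizer ({c} : Set G) ≤ L → L = M
  cent : ∀ e ∈ E, e ≠ 1 → (∀ x ∈ P, e * x = x * e) → InUniqueMaximal P
  cop : (Nat.card ↥E).Coprime (Nat.card ↥(sigmaCore M))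

omit [Finite G] in
theorem card_compl {E S M : Subgroup G} (h : IsComplIn E S M) :
    Nat.card ↥E * Nat.card ↥S = Nat.card ↥M := by
  obtain ⟨hE, hS, hES, hM⟩ := h
  rw [← Nat.card_prod]
  apply Nat.card_congr
  refine Equiv.ofBijective (fun x => ⟨(x.1 : G) * (x.2 : G), mul_mem (hE x.1.2) (hS x.2.2)⟩) ⟨?_, ?_⟩
  · rintro ⟨⟨a, ha⟩, ⟨b, hb⟩⟩ ⟨⟨a', ha'⟩, ⟨b', hb'⟩⟩ h
    have h1 : a * b = a' * b' := congrArg Subtype.val h
    obtain ⟨h2, h3⟩ := Cfsg.Agent.Lib.Helper30_SigmaCount.mul_injOn hES ha ha' hb hb' h1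
    subst h2 h3
    rfl
  · rintro ⟨m, hm⟩
    obtain ⟨a, ha, b, hb, rfl⟩ := hM m hm
    exact ⟨(⟨a, ha⟩, ⟨b, hb⟩), rfl⟩

/-- an element of prime order `q` of a complement `E` of `M_σ` has `q ∉ σ(M)` -/
theorem not_mem_sigma_of_dvd_card_compl {M E : Subgroup G}
    (hHall : IsPiHallOf (sigma M) (sigmaCore M) M) (hE : IsComplIn E (sigmaCore M) M) {q : ℕ}
    (hq : q.Prime) (hqE : q ∣ Nat.card ↥E) : q ∉ sigma M := by
  intro hqσ
  have : Fact q.Prime := ⟨hq⟩
  obtain ⟨e, he⟩ := exists_prime_orderOf_dvd_card' q hqE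
  have h1 : (e : G) ^ q = 1 := by
    have := pow_orderOf_eq_one e
    rw [he] at this
    have := congrArg Subtype.val this
    simpa using this
  have h2 : (e : G) ∈ sigmaCore M := mem_sigmaCore_of_orderOf hHall (hE.1 e.2) hq hqσ h1
  have h3 : (e : G) ∈ E ⊓ sigmaCore M := Subgroup.mem_inf.mpr ⟨e.2, h2⟩
  rw [hE.2.2.1, Subgroup.mem_bot] at h3
  have h4 : e = 1 := Subtype.ext h3
  rw [h4, orderOf_one] at he
  exact hq.one_lt.ne he

theorem coprime_card_compl {M E : Subgroup G}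
    (hHall : IsPiHallOf (sigma M) (sigmaCore M) M) (hE : IsComplIn E (sigmaCore M) M) :
    (Nat.card ↥E).Coprime (Nat.card ↥(sigmaCore M)) := by
  apply Nat.coprime_of_dvd
  intro q hq h1 h2
  exact not_mem_sigma_of_dvd_card_compl hHall hE hq h1 (hHall.2.1 q hq h2)

/-- a complement of `M_σ` in `M` is nontrivial -/
theorem compl_ne_bot (hG : IsMinSimpleOddOrder G) {M E : Subgroup G} (hM : IsCoatom M)
    (hHall : IsPiHallOf (sigma M) (sigmaCore M) M) (hE : IsComplIn E (sigmaCore M) M) (hM1 : M ≠ ⊥) :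
    E ≠ ⊥ := by
  intro hE1
  have hU := uniqHyp hG
  have hall : ∀ q : ℕ, q.Prime → q ∣ Nat.card ↥M → q ∈ sigma M := by
    intro q hq hd
    have h1 := card_compl hE
    rw [hE1, Subgroup.card_bot, one_mul] at h1
    rw [← h1] at hd
    exact hHall.2.1 q hq hd
  have hidx : (commutator ↥M).index = 1 := by
    by_contra hne
    obtain ⟨q, hq, hqd⟩ := Nat.exists_prime_and_dvd hne
    have hqM : q ∣ Nat.card ↥M := hqd.trans (Subgroup.index_dvd_card _)
    have : Fact q.Prime := ⟨hq⟩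
    obtain ⟨Q⟩ : Nonempty (Sylow q ↥M) := inferInstance
    have hle := sylow_le_commutator hG hU hM (hall q hq hqM) Q
    exact Q.not_dvd_index (hqd.trans (Subgroup.index_dvd_of_le hle))
  have htop : commutator ↥M = ⊤ := Subgroup.index_eq_one.mp hidx
  have : Group.IsSolvable ↥M := Cfsg.Agent.Lib.Helper49_MaxSub.isSolvable_of_ne_top hG hM.1
  have : Nontrivial ↥M := (Subgroup.nontrivial_iff_ne_bot M).mpr hM1
  exact (Group.IsSolvable.commutator_lt_top_of_nontrivial ↥M).ne htop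

omit [Finite G] in
theorem centralizer_singleton_le_zpowers {c : G} {X : Subgroup G} (hX : X ≤ zpowers c) :
    centralizer ({c} : Set G) ≤ centralizer (X : Set G) := by
  intro g hg
  rw [Subgroup.mem_centralizer_singleton_iff] at hg
  rw [Subgroup.mem_centralizer_iff]
  intro x hx
  obtain ⟨n, rfl⟩ := mem_zpowers_iff.mp (hX hx)
  have h1 : Commute g c := hg
  exact ((h1.zpow_right n).eq).symm

/-- the local data exist -/
theorem exists_data (hG : IsMinSimpleOddOrder G) (I : Inputs G) {M : Subgroup G} (hM : IsCoatom M)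
    {p : ℕ} [Fact p.Prime] (hpσ : p ∈ sigma M) {P : Subgroup G} (hSyl : SylM p M P)
    (hnil : ¬ Group.IsNilpotent ↥(sigmaCore M)) : ∃ E : Subgroup G, Data M P E := by
  have hpp : p.Prime := Fact.out
  have hHall := I.hall M hM
  set S := sigmaCore M with hS
  have hSM : S ≤ M := sigmaCore_le M
  have hPS : P ≤ S := le_sigmaCore_of_isPGroup hHall hpσ hSyl.2.1 hSyl.1.isPGroup
  have hPSyl : IsSylowIn p P S := hSyl.1.mono hPS le_top
  obtain ⟨E, hE, hEN⟩ := exists_compl_le_normalizer hHall hPSyl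
  have hM1 : M ≠ ⊥ := by
    intro h
    have h1 := hpσ.2.1
    rw [h, Subgroup.card_bot] at h1
    exact hpp.one_lt.ne' (Nat.dvd_one.mp h1)
  have hEne : E ≠ ⊥ := compl_ne_bot hG hM hHall hE hM1
  have hcop := coprime_card_compl hHall hE
  have hcard := card_compl hE
  -- `E` is a Hall `κ(M)`-subgroup
  have hEκ : IsPiHallOf (kappa M) E M := by
    refine ⟨hE.1, ?_, ?_⟩
    · intro q hq hqE
      exact I.kap M hM hnil q hq (hqE.trans (Subgroup.card_dvd_of_le hE.1))
        (not_mem_sigma_of_dvd_card_compl hHall hE hq hqE)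
    · intro q hq hqκ hd
      have h1 : E.relIndex M = Nat.card ↥S := by
        have h2 := Subgroup.relIndex_mul_relIndex ⊥ E M bot_le hE.1
        rw [Subgroup.relIndex_bot_left, Subgroup.relIndex_bot_left, ← hcard] at h2
        exact Nat.eq_of_mul_eq_mul_left Nat.card_pos h2
      rw [h1] at hd
      exact hqκ.2.2.1 (hHall.2.1 q hq hd)
  have hprime := I.prime M hM hnil E hEκ hE hEne
  set K := S ⊓ centralizer (E : Set G) with hK
  -- `K ≠ ⊥`
  have hKne : K ≠ ⊥ := by
    have hcE : 1 < Nat.card ↥E := by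
      rcases Nat.lt_or_ge 1 (Nat.card ↥E) with h | h
      · exact h
      · exfalso
        have : Nat.card ↥E = 1 := le_antisymm h Nat.card_pos
        exact hEne (Subgroup.card_eq_one.mp this)
    obtain ⟨q, hq, hqE⟩ := Nat.exists_prime_and_dvd hcE.ne'
    have : Fact q.Prime := ⟨hq⟩
    have hqκ := (hEκ.2.1 q hq hqE)
    -- a Sylow `q`-subgroup of `M` inside `E`
    obtain ⟨T, -, hT⟩ := exists_isSylowIn_ge (p := q) (H := E) (K := ⊥) bot_le IsPGroup.of_bot
    have hTM : IsSylowIn q T M := by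
      refine ⟨hT.le.trans hE.1, hT.isPGroup, ?_⟩
      rw [← Subgroup.relIndex_mul_relIndex T E M hT.le hE.1]
      intro hd
      rcases (Nat.Prime.dvd_mul hq).mp hd with h | h
      · exact hT.not_dvd h
      · exact hEκ.2.2 q hq hqκ h
    obtain ⟨-, x, hxT, hx1, y, hy, hy1, hxy⟩ := hqκ.2.2.2 hTM.toSylow
    have hxE : (x : G) ∈ E := hT.le ((hTM.mem_toSylow x).mp hxT)
    have hx1' : (x : G) ≠ 1 := fun h => hx1 (Subtype.ext h)
    have hyK : y ∈ S ⊓ centralizer ({(x : G)} : Set G) := by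
      rw [Subgroup.mem_inf, Subgroup.mem_centralizer_singleton_iff]
      exact ⟨hy, hxy.symm⟩
    rw [hprime (x : G) hxE hx1'] at hyK
    intro hb
    rw [hb, Subgroup.mem_bot] at hyK
    exact hy1 hyK
  have hKder : K ≤ ⁅S, S⁆ := I.der M hM E hE
  refine ⟨E, hE, hEN, hEne, hprime, hKne, ?_, ?_, hcop⟩
  · -- uniqueness for the elements of prime order of `K`
    intro c hc hcp
    have hcS : c ∈ S := (Subgroup.mem_inf.mp hc).1
    set X := zpowers c with hX
    have hXcard : Nat.card ↥X = orderOf c := by rw [hX, Nat.card_zpowers]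
    have hXder : X ≤ ⁅S, S⁆ := by
      rw [hX, zpowers_le]
      exact hKder hc
    have hXM : X ≤ M := by
      rw [hX, zpowers_le]
      exact hSM hcS
    have hsσ : orderOf c ∈ sigma M := by
      apply mem_sigma_of_dvd_card_sigmaCore M hcp
      have := orderOf_dvd_natCard (⟨c, hcS⟩ : ↥S)
      rwa [Subgroup.orderOf_mk] at this
    obtain ⟨⟨h1, h2⟩, -⟩ := I.uniq M hM (orderOf c) hcp hsσ X hXM hXcard hXder
    have h3 : centralizer ({c} : Set G) ≤ centralizer (X : Set G) :=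
      centralizer_singleton_le_zpowers (le_refl _)
    have h4 : centralizer (X : Set G) ≤ centralizer ({c} : Set G) := by
      apply Subgroup.centralizer_le
      intro y hy
      rw [Set.mem_singleton_iff] at hy
      rw [hy]
      exact mem_zpowers c
    exact ⟨h3.trans h1, fun L hL hcL => h2 L hL (h4.trans hcL)⟩
  · -- an element of `E` centralizing `P`
    intro e he he1 hcomm
    have hPK : P ≤ K := by
      intro x hx
      have : x ∈ S ⊓ centralizer ({e} : Set G) := by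
        rw [Subgroup.mem_inf, Subgroup.mem_centralizer_singleton_iff]
        exact ⟨hPS hx, (hcomm x hx).symm⟩
      rw [hprime e he he1] at this
      exact this
    have hPcard : p ∣ Nat.card ↥P := by
      by_contra hnd
      obtain ⟨k, hk⟩ := IsPGroup.iff_card.mp hSyl.1.isPGroup
      have hk0 : k = 0 := by
        by_contra h0
        exact hnd (hk ▸ dvd_pow_self p h0)
      rw [hk0, pow_zero] at hk
      have hPb : P = ⊥ := Subgroup.card_eq_one.mp hk
      have h1 := hPSyl.mono (le_refl P) hPS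
      have h2 : ¬ p ∣ P.relIndex M := (hSyl.1.mono hSyl.2.1 le_top).not_dvd
      rw [hPb, Subgroup.relIndex_bot_left] at h2
      exact h2 hpσ.2.1
    obtain ⟨x, hx⟩ := exists_prime_orderOf_dvd_card' p hPcard
    set X := zpowers (x : G) with hX
    have hXP : X ≤ P := by
      rw [hX, zpowers_le]
      exact x.2
    have hXcard : Nat.card ↥X = p := by
      rw [hX, Nat.card_zpowers, Subgroup.orderOf_coe, hx]
    obtain ⟨-, h2⟩ := I.uniq M hM p hpp hpσ X (hXP.trans hSyl.2.1) hXcard ((hXP.trans hPK).trans hKder)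
    have h3 := h2 hPSyl.toSylow
    rw [hPSyl.coe_toSylow, Subgroup.map_subgroupOf_eq_of_le hPS] at h3
    exact h3

end Cfsg.Agent.Lib.Helper30_SigmaPartC
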