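import Mathlib
import Cfsg.Prelude.Def_GeometricClasses
import Cfsg.Agent.Lib.Helper67_SpAschMax

/-!
helper30, for S5787 (`Sp_4(3)`): the stabiliser of a pair of complementary totally singular planes of the
symplectic space `F^4`, `|F| = 3`, stabilises a decomposition into two orthogonal non-degenerate planes.
-/

set_option autoImplicit false

namespace Cfsg.Agent.Lib.Helper30_Sp43E1

open Matrix Module Cfsg.Geo
open Cfsg.Agent.Lib.Helper13_Symp Cfsg.Agent.Lib.Helper13_SympTrans Cfsg.Agent.Lib.Helper67_SpAschMax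

variable {F : Type*} [Field F]

/-- the symplectic space of dimension four -/
abbrev V4 (F : Type*) : Type _ := Fin 2 ⊕ Fin 2 → F

lemma le_or_le_of_forall_mem_or {M : Type*} [AddCommGroup M] [Module F M] {W A B : Submodule F M}
    (h : ∀ w ∈ W, w ∈ A ∨ w ∈ B) : W ≤ A ∨ W ≤ B := by
  by_contra hcon
  push Not at hcon
  obtain ⟨hA, hB⟩ := hcon
  obtain ⟨w1, hw1, hw1A⟩ := SetLike.not_le_iff_exists.mp hA
  obtain ⟨w2, hw2, hw2B⟩ := SetLike.not_le_iff_exists.mp hB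
  have h1 : w1 ∈ B := (h w1 hw1).resolve_left hw1A
  have h2 : w2 ∈ A := (h w2 hw2).resolve_right hw2B
  rcases h (w1 + w2) (W.add_mem hw1 hw2) with h3 | h3
  · exact hw1A (by simpa using A.sub_mem h3 h2)
  · exact hw2B (by simpa using B.sub_mem h3 h1)

lemma toLin_injective {ι : Type} [Fintype ι] [DecidableEq ι] (g : GL ι F) :
    Function.Injective (Matrix.toLin' (g : Matrix ι ι F)) := by
  intro x y h
  have := congrArg (Matrix.toLin' ((g⁻¹ : GL ι F) : Matrix ι ι F)) h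
  simpa only [← Matrix.toLin'_mul_apply, ← Units.val_mul, inv_mul_cancel, Units.val_one, Matrix.toLin'_one,
    LinearMap.id_apply] using this

/-- a symplectic frame adapted to a pair of complementary totally singular planes -/
structure Frame (D0 D1 : Submodule F (V4 F)) (e1 e2 f1 f2 : V4 F) : Prop where
  e1m : e1 ∈ D0
  e2m : e2 ∈ D0
  f1m : f1 ∈ D1
  f2m : f2 ∈ D1
  spanD0 : ∀ x ∈ D0, x = Cfsg.sympForm 2 F x f1 • e1 + Cfsg.sympForm 2 F x f2 • e2
  spanD1 : ∀ y ∈ D1, y = Cfsg.sympForm 2 F e1 y • f1 + Cfsg.sympForm 2 F e2 y • f2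
  e1e2 : Cfsg.sympForm 2 F e1 e2 = 0
  f1f2 : Cfsg.sympForm 2 F f1 f2 = 0
  e1f1 : Cfsg.sympForm 2 F e1 f1 = 1
  e1f2 : Cfsg.sympForm 2 F e1 f2 = 0
  e2f1 : Cfsg.sympForm 2 F e2 f1 = 0
  e2f2 : Cfsg.sympForm 2 F e2 f2 = 1

section frame

variable {D0 D1 : Submodule F (V4 F)} {e1 e2 f1 f2 : V4 F}

lemma Frame.e2e1 (h : Frame D0 D1 e1 e2 f1 f2) : Cfsg.sympForm 2 F e2 e1 = 0 := by
  rw [sympForm_swap, h.e1e2, neg_zero]
lemma Frame.f2f1 (h : Frame D0 D1 e1 e2 f1 f2) : Cfsg.sympForm 2 F f2 f1 = 0 := by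
  rw [sympForm_swap, h.f1f2, neg_zero]
lemma Frame.f1e1 (h : Frame D0 D1 e1 e2 f1 f2) : Cfsg.sympForm 2 F f1 e1 = -1 := by
  rw [sympForm_swap, h.e1f1]
lemma Frame.f2e1 (h : Frame D0 D1 e1 e2 f1 f2) : Cfsg.sympForm 2 F f2 e1 = 0 := by
  rw [sympForm_swap, h.e1f2, neg_zero]
lemma Frame.f1e2 (h : Frame D0 D1 e1 e2 f1 f2) : Cfsg.sympForm 2 F f1 e2 = 0 := by
  rw [sympForm_swap, h.e2f1, neg_zero]
lemma Frame.f2e2 (h : Frame D0 D1 e1 e2 f1 f2) : Cfsg.sympForm 2 F f2 e2 = -1 := by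
  rw [sympForm_swap, h.e2f2]

/-- the first spanning vector of the plane `V_ε` -/
def u1 (e1 f2 : V4 F) (ε : F) : V4 F := e1 + ε • f2
/-- the second spanning vector of the plane `V_ε` -/
def u2 (e2 f1 : V4 F) (ε : F) : V4 F := e2 - ε • f1

/-- the plane `V_ε = ⟨e1 + ε f2, e2 - ε f1⟩` -/
def Vε (e1 e2 f1 f2 : V4 F) (ε : F) : Submodule F (V4 F) :=
  Submodule.span F {u1 e1 f2 ε, u2 e2 f1 ε}

lemma mem_Vε {ε : F} {v : V4 F} :
    v ∈ Vε e1 e2 f1 f2 ε ↔ ∃ a b : F, a • u1 e1 f2 ε + b • u2 e2 f1 ε = v :=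
  Submodule.mem_span_pair

/-- the values of the form on the spanning vectors -/
lemma form_comb (h : Frame D0 D1 e1 e2 f1 f2) (ε δ a b c d : F) :
    Cfsg.sympForm 2 F (a • u1 e1 f2 ε + b • u2 e2 f1 ε) (c • u1 e1 f2 δ + d • u2 e2 f1 δ) =
      (b * c - a * d) * (ε + δ) := by
  unfold u1 u2
  simp only [sympForm_add_left, sympForm_add_right, sympForm_sub_left, sympForm_sub_right, sympForm_smul_left,
    sympForm_smul_right, sympForm_self, h.e1e2, h.e2e1, h.f1f2, h.f2f1, h.e1f1, h.e1f2, h.e2f1, h.e2f2, h.f1e1, h.f2e1,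
    h.f1e2, h.f2e2]
  ring

lemma form_right_f1 (h : Frame D0 D1 e1 e2 f1 f2) (ε a b : F) :
    Cfsg.sympForm 2 F (a • u1 e1 f2 ε + b • u2 e2 f1 ε) f1 = a := by
  unfold u1 u2
  simp only [sympForm_add_left, sympForm_sub_left, sympForm_smul_left,
    sympForm_self, h.f2f1, h.e1f1, h.e2f1]
  ring

lemma form_right_f2 (h : Frame D0 D1 e1 e2 f1 f2) (ε a b : F) :
    Cfsg.sympForm 2 F (a • u1 e1 f2 ε + b • u2 e2 f1 ε) f2 = b := by
  unfold u1 u2
  simp only [sympForm_add_left, sympForm_sub_left, sympForm_smul_left,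
    sympForm_self, h.f1f2, h.e1f2, h.e2f2]
  ring

lemma finrank_Vε (h : Frame D0 D1 e1 e2 f1 f2) (ε : F) : finrank F (Vε e1 e2 f1 f2 ε) = 2 := by
  have hli : LinearIndependent F ![u1 e1 f2 ε, u2 e2 f1 ε] := by
    rw [LinearIndependent.pair_iff]
    intro s t hst
    have h1 := form_right_f1 h ε s t
    have h2 := form_right_f2 h ε s t
    rw [hst, sympForm_zero_left] at h1 h2
    exact ⟨h1.symm, h2.symm⟩
  have := finrank_span_eq_card hli
  rw [Matrix.range_cons_cons_empty, Fintype.card_fin] at this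
  exact this

lemma u1_mem (ε : F) : u1 e1 f2 ε ∈ Vε e1 e2 f1 f2 ε := Submodule.subset_span (by simp)
lemma u2_mem (ε : F) : u2 e2 f1 ε ∈ Vε e1 e2 f1 f2 ε := Submodule.subset_span (by simp)

lemma orth_Vε (h : Frame D0 D1 e1 e2 f1 f2) (ε : F) :
    AreOrthogonalFor (Cfsg.sympForm 2 F) (Vε e1 e2 f1 f2 ε) (Vε e1 e2 f1 f2 (-ε)) := by
  intro u hu v hv
  obtain ⟨a, b, rfl⟩ := mem_Vε.mp hu
  obtain ⟨c, d, rfl⟩ := mem_Vε.mp hv
  rw [form_comb h, add_neg_cancel, mul_zero]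

lemma nondeg_Vε (h : Frame D0 D1 e1 e2 f1 f2) (h2 : (2 : F) ≠ 0) {ε : F} (hε : ε ≠ 0) :
    IsNondegenerateOn (Cfsg.sympForm 2 F) (Vε e1 e2 f1 f2 ε) := by
  intro w hw hw0
  obtain ⟨a, b, rfl⟩ := mem_Vε.mp hw
  have key : ∃ x ∈ Vε e1 e2 f1 f2 ε, Cfsg.sympForm 2 F x (a • u1 e1 f2 ε + b • u2 e2 f1 ε) ≠ 0 := by
    by_cases ha : a = 0
    · have hb : b ≠ 0 := by
        rintro rfl
        apply hw0
        rw [ha]; simp
      refine ⟨(1 : F) • u1 e1 f2 ε + (0 : F) • u2 e2 f1 ε, mem_Vε.mpr ⟨1, 0, rfl⟩, ?_⟩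
      rw [form_comb h]
      have : (0 * a - 1 * b) * (ε + ε) = -(b * ε * 2) := by ring
      rw [this]
      exact neg_ne_zero.mpr (mul_ne_zero (mul_ne_zero hb hε) h2)
    · refine ⟨(0 : F) • u1 e1 f2 ε + (1 : F) • u2 e2 f1 ε, mem_Vε.mpr ⟨0, 1, rfl⟩, ?_⟩
      rw [form_comb h]
      have : (1 * a - 0 * b) * (ε + ε) = a * ε * 2 := by ring
      rw [this]
      exact mul_ne_zero (mul_ne_zero ha hε) h2
  obtain ⟨x, hx, hxw⟩ := key
  refine ⟨⟨x, hx, hxw⟩, ⟨x, hx, ?_⟩⟩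
  rw [sympForm_swap]
  exact neg_ne_zero.mpr hxw

lemma disjoint_Vε (h : Frame D0 D1 e1 e2 f1 f2) (h2 : (2 : F) ≠ 0) {ε : F} (hε : ε ≠ 0) :
    Disjoint (Vε e1 e2 f1 f2 ε) (Vε e1 e2 f1 f2 (-ε)) := by
  rw [Submodule.disjoint_def]
  intro v hv hv'
  by_contra hv0
  obtain ⟨⟨x, hx, hxv⟩, -⟩ := nondeg_Vε h h2 hε v hv hv0
  exact hxv (orth_Vε h ε x hx v hv')

lemma sup_Vε (h : Frame D0 D1 e1 e2 f1 f2) (h2 : (2 : F) ≠ 0) {ε : F} (hε : ε ≠ 0) :
    Vε e1 e2 f1 f2 ε ⊔ Vε e1 e2 f1 f2 (-ε) = ⊤ := by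
  apply Submodule.eq_top_of_finrank_eq
  have h1 := Submodule.finrank_sup_add_finrank_inf_eq (Vε e1 e2 f1 f2 ε) (Vε e1 e2 f1 f2 (-ε))
  rw [(disjoint_Vε h h2 hε).eq_bot, finrank_bot, finrank_Vε h, finrank_Vε h] at h1
  rw [Module.finrank_fintype_fun_eq_card, Fintype.card_sum, Fintype.card_fin]
  omega

end frame

/-- the two signs -/
def sgn (F : Type*) [Field F] : Fin 2 → F := ![1, -1]

lemma sgn_ne_zero (i : Fin 2) : sgn F i ≠ 0 := by
  fin_cases i <;> simp [sgn]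

lemma sgn_one : sgn F 1 = - sgn F 0 := by simp [sgn]

lemma sgn_other {i j : Fin 2} (hij : i ≠ j) : sgn F j = - sgn F i := by
  fin_cases i <;> fin_cases j <;> simp_all [sgn]

section frame3

variable {D0 D1 : Submodule F (V4 F)} {e1 e2 f1 f2 : V4 F}

/-- the decomposition into the two planes `V_1`, `V_{-1}` is non-degenerate -/
theorem isNondegenerateMDecomposition (h : Frame D0 D1 e1 e2 f1 f2) (h2 : (2 : F) ≠ 0) :
    IsNondegenerateMDecomposition (Cfsg.sympForm 2 F) 2 (fun i : Fin 2 => Vε e1 e2 f1 f2 (sgn F i)) := by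
  refine ⟨⟨le_refl 2, by norm_num, fun i => finrank_Vε h _, ?_, ?_⟩, fun i => nondeg_Vε h h2 (sgn_ne_zero i), ?_⟩
  · rw [iSupIndep_pair (i := (0 : Fin 2)) (j := 1) (by decide) (by intro k; fin_cases k <;> simp)]
    show Disjoint (Vε e1 e2 f1 f2 (sgn F 0)) (Vε e1 e2 f1 f2 (sgn F 1))
    rw [sgn_one]
    exact disjoint_Vε h h2 (sgn_ne_zero 0)
  · rw [eq_top_iff, ← sup_Vε h h2 (sgn_ne_zero 0), ← sgn_one]
    exact sup_le (le_iSup (fun i : Fin 2 => Vε e1 e2 f1 f2 (sgn F i)) 0)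
      (le_iSup (fun i : Fin 2 => Vε e1 e2 f1 f2 (sgn F i)) 1)
  · intro i j hij
    show AreOrthogonalFor _ (Vε e1 e2 f1 f2 (sgn F i)) (Vε e1 e2 f1 f2 (sgn F j))
    rw [sgn_other hij]
    exact orth_Vε h _

/-- the vectors `x + y`, `x ∈ D0`, `y ∈ D1`, `f(x, y) = 0`, with both or none of `x`, `y` zero -/
def Sset (D0 D1 : Submodule F (V4 F)) : Set (V4 F) :=
  {v | ∃ x ∈ D0, ∃ y ∈ D1, v = x + y ∧ Cfsg.sympForm 2 F x y = 0 ∧ (x = 0 ↔ y = 0)}

lemma Vε_subset_Sset (h : Frame D0 D1 e1 e2 f1 f2) {ε : F} (hε : ε ≠ 0) {v : V4 F}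
    (hv : v ∈ Vε e1 e2 f1 f2 ε) : v ∈ Sset D0 D1 := by
  obtain ⟨a, b, rfl⟩ := mem_Vε.mp hv
  refine ⟨a • e1 + b • e2, D0.add_mem (D0.smul_mem _ h.e1m) (D0.smul_mem _ h.e2m),
    (ε * a) • f2 - (ε * b) • f1, D1.sub_mem (D1.smul_mem _ h.f2m) (D1.smul_mem _ h.f1m), ?_, ?_, ?_⟩
  · unfold u1 u2
    module
  · simp only [sympForm_add_left, sympForm_sub_right, sympForm_smul_left, sympForm_smul_right, h.e1f1, h.e1f2,
      h.e2f1, h.e2f2]
    ring
  · constructor
    · intro hx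
      have h1 : Cfsg.sympForm 2 F (a • e1 + b • e2) f1 = a := by
        simp only [sympForm_add_left, sympForm_smul_left, h.e1f1, h.e2f1]; ring
      have h2 : Cfsg.sympForm 2 F (a • e1 + b • e2) f2 = b := by
        simp only [sympForm_add_left, sympForm_smul_left, h.e1f2, h.e2f2]; ring
      rw [hx, sympForm_zero_left] at h1 h2
      rw [← h1, ← h2]
      simp
    · intro hy
      have h1 : Cfsg.sympForm 2 F e1 ((ε * a) • f2 - (ε * b) • f1) = -(ε * b) := by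
        simp only [sympForm_sub_right, sympForm_smul_right, h.e1f1, h.e1f2]; ring
      have h2 : Cfsg.sympForm 2 F e2 ((ε * a) • f2 - (ε * b) • f1) = ε * a := by
        simp only [sympForm_sub_right, sympForm_smul_right, h.e2f1, h.e2f2]; ring
      rw [hy, sympForm_zero_right] at h1 h2
      have ha : a = 0 := by
        rcases mul_eq_zero.mp h2.symm with h | h
        · exact absurd h hε
        · exact h
      have hb : b = 0 := by
        rcases mul_eq_zero.mp (neg_eq_zero.mp h1.symm) with h | h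
        · exact absurd h hε
        · exact h
      rw [ha, hb]
      simp

lemma mem_of_coeffs (ε a1 a2 b1 b2 : F) (h1 : b2 = a1 * ε) (h2 : b1 = -(a2 * ε)) :
    (a1 • e1 + a2 • e2) + (b1 • f1 + b2 • f2) ∈ Vε e1 e2 f1 f2 ε := by
  refine mem_Vε.mpr ⟨a1, a2, ?_⟩
  subst h1 h2
  unfold u1 u2
  module

lemma Sset_subset (h : Frame D0 D1 e1 e2 f1 f2) (hs : ∀ c : F, c = 0 ∨ c = 1 ∨ c = -1) {v : V4 F}
    (hv : v ∈ Sset D0 D1) : v ∈ Vε e1 e2 f1 f2 1 ∨ v ∈ Vε e1 e2 f1 f2 (-1) := by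
  obtain ⟨x, hx, y, hy, rfl, hxy, hiff⟩ := hv
  by_cases hx0 : x = 0
  · left
    rw [hx0, hiff.mp hx0, add_zero]
    exact Submodule.zero_mem _
  have hy0 : y ≠ 0 := fun h0 => hx0 (hiff.mpr h0)
  have hxe := h.spanD0 x hx
  have hye := h.spanD1 y hy
  set a1 := Cfsg.sympForm 2 F x f1 with ha1
  set a2 := Cfsg.sympForm 2 F x f2 with ha2
  set b1 := Cfsg.sympForm 2 F e1 y with hb1
  set b2 := Cfsg.sympForm 2 F e2 y with hb2
  have hab : a1 * b1 + a2 * b2 = 0 := by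
    have : Cfsg.sympForm 2 F (a1 • e1 + a2 • e2) (b1 • f1 + b2 • f2) = a1 * b1 + a2 * b2 := by
      simp only [sympForm_add_left, sympForm_add_right, sympForm_smul_left, sympForm_smul_right, h.e1f1, h.e1f2,
        h.e2f1, h.e2f2]
      ring
    rw [← this, ← hxe, ← hye]
    exact hxy
  have hxne : ¬ (a1 = 0 ∧ a2 = 0) := by
    rintro ⟨h1, h2⟩
    apply hx0
    rw [hxe, h1, h2]; simp
  have hyne : ¬ (b1 = 0 ∧ b2 = 0) := by
    rintro ⟨h1, h2⟩
    apply hy0
    rw [hye, h1, h2]; simp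
  rw [hxe, hye]
  rcases hs a1 with h1 | h1 | h1
  · -- `a1 = 0`
    rcases hs a2 with h2 | h2 | h2
    · exact absurd ⟨h1, h2⟩ hxne
    · have hb2' : b2 = 0 := by rw [h1, h2] at hab; linear_combination hab
      rcases hs b1 with h3 | h3 | h3
      · exact absurd ⟨h3, hb2'⟩ hyne
      · right; exact mem_of_coeffs _ _ _ _ _ (by rw [hb2', h1]; ring) (by rw [h3, h2]; ring)
      · left; exact mem_of_coeffs _ _ _ _ _ (by rw [hb2', h1]; ring) (by rw [h3, h2]; ring)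
    · have hb2' : b2 = 0 := by rw [h1, h2] at hab; linear_combination -hab
      rcases hs b1 with h3 | h3 | h3
      · exact absurd ⟨h3, hb2'⟩ hyne
      · left; exact mem_of_coeffs _ _ _ _ _ (by rw [hb2', h1]; ring) (by rw [h3, h2]; ring)
      · right; exact mem_of_coeffs _ _ _ _ _ (by rw [hb2', h1]; ring) (by rw [h3, h2]; ring)
  · -- `a1 = 1`
    rcases hs b2 with h3 | h3 | h3
    · have hb1' : b1 = 0 := by rw [h1, h3] at hab; linear_combination hab
      exact absurd ⟨hb1', h3⟩ hyne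
    · left; exact mem_of_coeffs _ _ _ _ _ (by rw [h3, h1]; ring) (by rw [h1, h3] at hab; linear_combination hab)
    · right; exact mem_of_coeffs _ _ _ _ _ (by rw [h3, h1]; ring) (by rw [h1, h3] at hab; linear_combination hab)
  · -- `a1 = -1`
    rcases hs b2 with h3 | h3 | h3
    · have hb1' : b1 = 0 := by rw [h1, h3] at hab; linear_combination -hab
      exact absurd ⟨hb1', h3⟩ hyne
    · right; exact mem_of_coeffs _ _ _ _ _ (by rw [h3, h1]; ring) (by rw [h1, h3] at hab; linear_combination -hab)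
    · left; exact mem_of_coeffs _ _ _ _ _ (by rw [h3, h1]; ring) (by rw [h1, h3] at hab; linear_combination -hab)

end frame3

/-! ### the stabiliser of the pair preserves `Sset` -/

lemma map_mem {t : ℕ} {D : Fin t → Submodule F (V4 F)} {g : GL (Fin 2 ⊕ Fin 2) F} {σ : Equiv.Perm (Fin t)}
    (hσ : ∀ i, (D i).map (Matrix.toLin' (g : Matrix (Fin 2 ⊕ Fin 2) (Fin 2 ⊕ Fin 2) F)) = D (σ i))
    {i : Fin t} {x : V4 F} (hx : x ∈ D i) :
    (g : Matrix (Fin 2 ⊕ Fin 2) (Fin 2 ⊕ Fin 2) F) *ᵥ x ∈ D (σ i) := by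
  rw [← hσ i, ← Matrix.toLin'_apply]
  exact Submodule.mem_map_of_mem hx

lemma mulVec_eq_zero_iff (g : GL (Fin 2 ⊕ Fin 2) F) (x : V4 F) :
    (g : Matrix (Fin 2 ⊕ Fin 2) (Fin 2 ⊕ Fin 2) F) *ᵥ x = 0 ↔ x = 0 := by
  constructor
  · intro h
    apply toLin_injective g
    rw [Matrix.toLin'_apply, h, map_zero]
  · rintro rfl
    exact Matrix.mulVec_zero _

lemma Sset_invariant {D : Fin 2 → Submodule F (V4 F)} {g : GL (Fin 2 ⊕ Fin 2) F}
    (hg : g ∈ decompositionStabilizer D ⊓ Cfsg.spGL 2 F) {v : V4 F} (hv : v ∈ Sset (D 0) (D 1)) :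
    (g : Matrix (Fin 2 ⊕ Fin 2) (Fin 2 ⊕ Fin 2) F) *ᵥ v ∈ Sset (D 0) (D 1) := by
  obtain ⟨⟨σ, hσ⟩, hsp'⟩ := hg
  have hsp := (mem_spGL_iff g).mp hsp'
  obtain ⟨x, hx, y, hy, rfl, hxy, hiff⟩ := hv
  have hgx := map_mem hσ hx
  have hgy := map_mem hσ hy
  have hcases : (σ 0 = 0 ∧ σ 1 = 1) ∨ (σ 0 = 1 ∧ σ 1 = 0) := by
    have hinj := σ.injective
    have h01 : σ 0 ≠ σ 1 := fun h => absurd (hinj h) (by decide)
    rcases Fin.exists_fin_two.mp ⟨σ 0, rfl⟩ with h0 | h0 <;>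
      rcases Fin.exists_fin_two.mp ⟨σ 1, rfl⟩ with h1 | h1
    · exact absurd (h0.trans h1.symm) h01
    · exact Or.inl ⟨h0, h1⟩
    · exact Or.inr ⟨h0, h1⟩
    · exact absurd (h0.trans h1.symm) h01
  rcases hcases with ⟨h0, h1⟩ | ⟨h0, h1⟩
  · rw [h0] at hgx
    rw [h1] at hgy
    refine ⟨_, hgx, _, hgy, Matrix.mulVec_add _ _ _, ?_, ?_⟩
    · rw [hsp]; exact hxy
    · rw [mulVec_eq_zero_iff, mulVec_eq_zero_iff]; exact hiff
  · rw [h0] at hgx
    rw [h1] at hgy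
    refine ⟨_, hgy, _, hgx, ?_, ?_, ?_⟩
    · rw [Matrix.mulVec_add, add_comm]
    · rw [hsp, sympForm_swap, hxy, neg_zero]
    · rw [mulVec_eq_zero_iff, mulVec_eq_zero_iff]; exact hiff.symm

section main

variable {D : Fin 2 → Submodule F (V4 F)} {e1 e2 f1 f2 : V4 F}

/-- the stabiliser of the totally singular pair permutes the two planes `V_1`, `V_{-1}` -/
theorem stab_le (h : Frame (D 0) (D 1) e1 e2 f1 f2) (h2 : (2 : F) ≠ 0)
    (hs : ∀ c : F, c = 0 ∨ c = 1 ∨ c = -1) :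
    decompositionStabilizer D ⊓ Cfsg.spGL 2 F ≤
      decompositionStabilizer (fun i : Fin 2 => Vε e1 e2 f1 f2 (sgn F i)) := by
  intro g hg
  set D' : Fin 2 → Submodule F (V4 F) := fun i : Fin 2 => Vε e1 e2 f1 f2 (sgn F i) with hD'
  set L := Matrix.toLin' (g : Matrix (Fin 2 ⊕ Fin 2) (Fin 2 ⊕ Fin 2) F) with hL
  have hLinj : Function.Injective L := toLin_injective g
  have h0 : D' 0 = Vε e1 e2 f1 f2 1 := by simp [hD', sgn]
  have h1 : D' 1 = Vε e1 e2 f1 f2 (-1) := by simp [hD', sgn]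
  have hfin : ∀ i, finrank F (D' i) = 2 := fun i => finrank_Vε h _
  have hne : D' 0 ≠ D' 1 := by
    intro heq
    have hdis := disjoint_Vε h h2 (one_ne_zero : (1 : F) ≠ 0)
    rw [← h0, ← h1, ← heq, disjoint_self] at hdis
    have := hfin 0
    rw [hdis, finrank_bot] at this
    omega
  have hmap : ∀ i, (D' i).map L = D' 0 ∨ (D' i).map L = D' 1 := by
    intro i
    have hle : (D' i).map L ≤ D' 0 ∨ (D' i).map L ≤ D' 1 := by
      apply le_or_le_of_forall_mem_or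
      rintro _ ⟨v, hv, rfl⟩
      rw [h0, h1, hL, Matrix.toLin'_apply]
      exact Sset_subset h hs (Sset_invariant hg (Vε_subset_Sset h (sgn_ne_zero i) hv))
    have hfr : finrank F ((D' i).map L) = 2 := by
      rw [← (Submodule.equivMapOfInjective L hLinj (D' i)).finrank_eq]
      exact hfin i
    rcases hle with hle | hle
    · left
      exact Submodule.eq_of_le_of_finrank_eq hle (by rw [hfr, hfin 0])
    · right
      exact Submodule.eq_of_le_of_finrank_eq hle (by rw [hfr, hfin 1])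
  have hmapne : (D' 0).map L ≠ (D' 1).map L := fun heq =>
    hne (Submodule.map_injective_of_injective hLinj heq)
  rcases hmap 0 with ha | ha <;> rcases hmap 1 with hb | hb
  · exact absurd (ha.trans hb.symm) hmapne
  · refine ⟨1, fun i => ?_⟩
    fin_cases i
    · exact ha
    · exact hb
  · refine ⟨Equiv.swap 0 1, fun i => ?_⟩
    fin_cases i
    · simpa using ha
    · simpa using hb
  · exact absurd (ha.trans hb.symm) hmapne

end main

/-! ### existence of the frame -/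

section exist

variable {D : Fin 2 → Submodule F (V4 F)}

lemma sup_eq_top (hD : IsMDecomposition 2 D) : D 0 ⊔ D 1 = ⊤ := by
  rw [eq_top_iff, ← hD.iSup_eq_top]
  apply iSup_le
  intro i
  fin_cases i
  · exact le_sup_left
  · exact le_sup_right

/-- a vector of `D 1` orthogonal to `D 0` is zero -/
lemma eq_zero_of_orth (hD : IsMDecomposition 2 D)
    (hDs : ∀ i, IsTotallySingularFor (Cfsg.sympForm 2 F) (D i)) {y : V4 F} (hy : y ∈ D 1)
    (h : ∀ x ∈ D 0, Cfsg.sympForm 2 F x y = 0) : y = 0 := by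
  by_contra hy0
  obtain ⟨w, hw⟩ := exists_sympForm_ne_zero 2 hy0
  have hwtop : w ∈ D 0 ⊔ D 1 := by rw [sup_eq_top hD]; trivial
  obtain ⟨x', hx', y', hy', rfl⟩ := Submodule.mem_sup.mp hwtop
  apply hw
  rw [sympForm_add_right, hDs 1 y hy y' hy', add_zero, sympForm_swap, h x' hx', neg_zero]

theorem exists_frame (hD : IsMDecomposition 2 D)
    (hDs : ∀ i, IsTotallySingularFor (Cfsg.sympForm 2 F) (D i)) :
    ∃ e1 e2 f1 f2 : V4 F, Frame (D 0) (D 1) e1 e2 f1 f2 := by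
  have hfd : finrank F (D 0) = 2 := hD.finrank_eq 0
  have hfin0 : Module.Finite F (D 0) := Module.finite_of_finrank_pos (by rw [hfd]; norm_num)
  let b := Module.finBasisOfFinrankEq F (D 0) hfd
  set e1 : V4 F := (b 0 : V4 F) with he1
  set e2 : V4 F := (b 1 : V4 F) with he2
  have he1m : e1 ∈ D 0 := (b 0).2
  have he2m : e2 ∈ D 0 := (b 1).2
  have hspan : ∀ x ∈ D 0, ∃ c1 c2 : F, x = c1 • e1 + c2 • e2 := by
    intro x hx
    have := b.sum_repr ⟨x, hx⟩
    rw [Fin.sum_univ_two] at this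
    refine ⟨b.repr ⟨x, hx⟩ 0, b.repr ⟨x, hx⟩ 1, ?_⟩
    have h' := congrArg Subtype.val this
    simpa using h'.symm
  let ψ : D 1 →ₗ[F] (Fin 2 → F) :=
    LinearMap.pi (fun i => (formLin ((b i : V4 F))).comp (D 1).subtype)
  have hψ : ∀ (y : D 1) (i : Fin 2), ψ y i = Cfsg.sympForm 2 F (y : V4 F) (b i : V4 F) := fun y i => rfl
  have hinj : Function.Injective ψ := by
    rw [← LinearMap.ker_eq_bot, LinearMap.ker_eq_bot']
    intro y hy
    apply Subtype.ext
    apply eq_zero_of_orth hD hDs y.2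
    intro x hx
    obtain ⟨c1, c2, rfl⟩ := hspan x hx
    have h0 := congrFun hy 0
    have h1 := congrFun hy 1
    rw [hψ] at h0 h1
    rw [sympForm_add_left, sympForm_smul_left, sympForm_smul_left, sympForm_swap _ e1, sympForm_swap _ e2, he1, he2,
      h0, h1]
    simp
  have hsurj : Function.Surjective ψ :=
    (LinearMap.injective_iff_surjective_of_finrank_eq_finrank
      (by rw [hD.finrank_eq 1, Module.finrank_fin_fun])).mp hinj
  obtain ⟨f1, hf1⟩ := hsurj (-(Pi.single 0 1))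
  obtain ⟨f2, hf2⟩ := hsurj (-(Pi.single 1 1))
  have hf1e1 : Cfsg.sympForm 2 F (f1 : V4 F) e1 = -1 := by
    have := congrFun hf1 0
    rw [hψ] at this
    simpa using this
  have hf1e2 : Cfsg.sympForm 2 F (f1 : V4 F) e2 = 0 := by
    have := congrFun hf1 1
    rw [hψ] at this
    simpa using this
  have hf2e1 : Cfsg.sympForm 2 F (f2 : V4 F) e1 = 0 := by
    have := congrFun hf2 0
    rw [hψ] at this
    simpa using this
  have hf2e2 : Cfsg.sympForm 2 F (f2 : V4 F) e2 = -1 := by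
    have := congrFun hf2 1
    rw [hψ] at this
    simpa using this
  have he1f1 : Cfsg.sympForm 2 F e1 (f1 : V4 F) = 1 := by rw [sympForm_swap, hf1e1, neg_neg]
  have he1f2 : Cfsg.sympForm 2 F e1 (f2 : V4 F) = 0 := by rw [sympForm_swap, hf2e1, neg_zero]
  have he2f1 : Cfsg.sympForm 2 F e2 (f1 : V4 F) = 0 := by rw [sympForm_swap, hf1e2, neg_zero]
  have he2f2 : Cfsg.sympForm 2 F e2 (f2 : V4 F) = 1 := by rw [sympForm_swap, hf2e2, neg_neg]
  refine ⟨e1, e2, f1, f2, he1m, he2m, f1.2, f2.2, ?_, ?_, hDs 0 e1 he1m e2 he2m, hDs 1 f1 f1.2 f2 f2.2,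
    he1f1, he1f2, he2f1, he2f2⟩
  · intro x hx
    obtain ⟨c1, c2, rfl⟩ := hspan x hx
    simp only [sympForm_add_left, sympForm_smul_left, he1f1, he1f2, he2f1, he2f2]
    simp
  · intro y hy
    have hy' : y - (Cfsg.sympForm 2 F e1 y • (f1 : V4 F) + Cfsg.sympForm 2 F e2 y • (f2 : V4 F)) = 0 := by
      apply eq_zero_of_orth hD hDs
        ((D 1).sub_mem hy ((D 1).add_mem ((D 1).smul_mem _ f1.2) ((D 1).smul_mem _ f2.2)))
      intro x hx
      obtain ⟨c1, c2, rfl⟩ := hspan x hx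
      simp only [sympForm_add_left, sympForm_add_right, sympForm_sub_right, sympForm_smul_left, sympForm_smul_right,
        he1f1, he1f2, he2f1, he2f2]
      ring
    exact sub_eq_zero.mp hy'

end exist

/-- **E1**: over `F_3` the stabiliser in `Sp_4` of a pair of complementary totally singular planes stabilises a
decomposition into two orthogonal non-degenerate planes -/
theorem E1 [Fintype F] (hq : Fintype.card F = 3) {D : Fin 2 → Submodule F (V4 F)}
    (hD : IsMDecomposition 2 D) (hDs : ∀ i, IsTotallySingularFor (Cfsg.sympForm 2 F) (D i)) :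
    ∃ D' : Fin 2 → Submodule F (V4 F), IsNondegenerateMDecomposition (Cfsg.sympForm 2 F) 2 D' ∧
      decompositionStabilizer D ⊓ Cfsg.spGL 2 F ≤ decompositionStabilizer D' := by
  have h3 : (3 : F) = 0 := by
    have := Nat.cast_card_eq_zero F
    rw [hq] at this
    exact_mod_cast this
  have h2 : (2 : F) ≠ 0 := by
    intro h
    have : (1 : F) = 0 := by linear_combination h3 - h
    exact one_ne_zero this
  have hs : ∀ c : F, c = 0 ∨ c = 1 ∨ c = -1 := by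
    intro c
    by_cases hc : c = 0
    · exact Or.inl hc
    right
    have h1 := FiniteField.pow_card_sub_one_eq_one c hc
    rw [hq] at h1
    have h4 : (c - 1) * (c + 1) = 0 := by
      have : c ^ 2 = 1 := by simpa using h1
      linear_combination this
    rcases mul_eq_zero.mp h4 with h5 | h5
    · left; exact sub_eq_zero.mp h5
    · right; exact eq_neg_of_add_eq_zero_left h5
  obtain ⟨e1, e2, f1, f2, hfr⟩ := exists_frame hD hDs
  exact ⟨_, isNondegenerateMDecomposition hfr h2, stab_le hfr h2 hs⟩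

end Cfsg.Agent.Lib.Helper30_Sp43E1
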