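import Mathlib

/-!
helper30, for S5787 (`Sp_4(3)`): explicit matrices over `ZMod 3` generating the extraspecial group `2^{1+4}_-`
inside `Sp_4(3)` and two classification lemmas (checked by kernel evaluation over the 3^8 matrices commuting, resp.
anticommuting, with `J`).
-/

set_option autoImplicit false

namespace Cfsg.Agent.Lib.Helper30_Sp43E2C

open Matrix

/-- the field with three elements -/
abbrev Z3 : Type := ZMod 3
/-- the index type -/
abbrev I4 : Type := Fin 2 ⊕ Fin 2
/-- the `4 × 4` matrices over `F_3` -/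
abbrev M4 : Type := Matrix I4 I4 Z3

/-- the matrix `J` -/
def J0 : M4 := fromBlocks 0 (-1) 1 0
/-- generator of the quaternion group -/
def qa : M4 := fromBlocks 0 !![0,-1;-1,0] !![0,1;1,0] 0
/-- generator of the quaternion group -/
def qb : M4 := fromBlocks 0 !![1,0;0,-1] !![-1,0;0,1] 0
/-- `qa * qb` -/
def qc : M4 := fromBlocks !![0,-1;1,0] 0 0 !![0,-1;1,0]
/-- an involution centralising the quaternion group and inverting `J` -/
def w1 : M4 := fromBlocks !![0,1;-1,0] !![0,-1;1,0] !![0,-1;1,0] !![0,-1;1,0]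
/-- `w1 * J` -/
def w2 : M4 := fromBlocks !![0,-1;1,0] !![0,-1;1,0] !![0,-1;1,0] !![0,1;-1,0]

theorem J0_eq : J0 = Matrix.J (Fin 2) Z3 := rfl

/-- the matrix is symplectic (Mathlib's convention) -/
def IsSp (g : M4) : Prop := g * J0 * gᵀ = J0

instance (g : M4) : Decidable (IsSp g) := inferInstanceAs (Decidable (g * J0 * gᵀ = J0))

/-- the general matrix commuting with `J` -/
def cm (a b c d e f g h : Z3) : M4 := fromBlocks !![a,b;c,d] (-!![e,f;g,h]) !![e,f;g,h] !![a,b;c,d]

/-- the general matrix anticommuting with `J` -/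
def am (a b c d e f g h : Z3) : M4 := fromBlocks !![a,b;c,d] !![e,f;g,h] !![e,f;g,h] (-!![a,b;c,d])

/-- the first classification statement -/
def C1cond (m : M4) : Prop := IsSp m → m * m = -1 → m ∈ [J0, -J0, qa, -qa, qb, -qb, qc, -qc]
instance (m : M4) : Decidable (C1cond m) := by unfold C1cond; infer_instance

/-- the second classification statement -/
def C2cond (m : M4) : Prop := IsSp m → m * qa = qa * m → m * qb = qb * m → m ∈ [w1, -w1, w2, -w2]
instance (m : M4) : Decidable (C2cond m) := by unfold C2cond; infer_instance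

set_option maxRecDepth 100000 in
theorem C1p : ∀ a b c d e f g h : Z3, C1cond (cm a b c d e f g h) := by
  decide +kernel

set_option maxRecDepth 100000 in
theorem C2p : ∀ a b c d e f g h : Z3, C2cond (am a b c d e f g h) := by
  decide +kernel

theorem eq_cm_of_comm (g : M4) (hc : g * J0 = J0 * g) : ∃ a b c d e f g' h : Z3, g = cm a b c d e f g' h := by
  obtain ⟨A, B, C, D, rfl⟩ : ∃ A B C D, g = fromBlocks A B C D :=
    ⟨_, _, _, _, (fromBlocks_toBlocks g).symm⟩
  rw [J0, fromBlocks_multiply, fromBlocks_multiply, fromBlocks_inj] at hc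
  simp only [mul_zero, mul_one, zero_add, mul_neg, add_zero, zero_mul, neg_mul, one_mul] at hc
  obtain ⟨h1, h2, h3, h4⟩ := hc
  refine ⟨A 0 0, A 0 1, A 1 0, A 1 1, C 0 0, C 0 1, C 1 0, C 1 1, ?_⟩
  unfold cm
  rw [← Matrix.eta_fin_two A, ← Matrix.eta_fin_two C, h3, h1]

theorem eq_am_of_anticomm (g : M4) (hc : g * J0 = -(J0 * g)) :
    ∃ a b c d e f g' h : Z3, g = am a b c d e f g' h := by
  obtain ⟨A, B, C, D, rfl⟩ : ∃ A B C D, g = fromBlocks A B C D :=
    ⟨_, _, _, _, (fromBlocks_toBlocks g).symm⟩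
  rw [J0, fromBlocks_multiply, fromBlocks_multiply, fromBlocks_neg, fromBlocks_inj] at hc
  simp only [mul_zero, mul_one, zero_add, mul_neg, add_zero, zero_mul, neg_mul, one_mul, neg_neg] at hc
  obtain ⟨h1, h2, h3, h4⟩ := hc
  refine ⟨A 0 0, A 0 1, A 1 0, A 1 1, C 0 0, C 0 1, C 1 0, C 1 1, ?_⟩
  unfold am
  rw [← Matrix.eta_fin_two A, ← Matrix.eta_fin_two C, h3, h1]

/-- a symplectic matrix commuting with `J` and of square `-1` is one of eight -/
theorem C1 (g : M4) (hsp : IsSp g) (hc : g * J0 = J0 * g) (hsq : g * g = -1) :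
    g ∈ [J0, -J0, qa, -qa, qb, -qb, qc, -qc] := by
  obtain ⟨a, b, c, d, e, f, g', h, rfl⟩ := eq_cm_of_comm g hc
  exact C1p a b c d e f g' h hsp hsq

/-- a symplectic matrix anticommuting with `J` and commuting with `qa`, `qb` is one of four -/
theorem C2 (g : M4) (hsp : IsSp g) (hc : g * J0 = -(J0 * g)) (ha : g * qa = qa * g) (hb : g * qb = qb * g) :
    g ∈ [w1, -w1, w2, -w2] := by
  obtain ⟨a, b, c, d, e, f, g', h, rfl⟩ := eq_am_of_anticomm g hc
  exact C2p a b c d e f g' h hsp ha hb

end Cfsg.Agent.Lib.Helper30_Sp43E2C
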