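import Mathlib
import Cfsg.Agent.Lib.Helper30_Sp43E2C

/-!
helper30, for S5787 (`Sp_4(3)`): over `ZMod 3`, the group of symplectic matrices commuting or anticommuting with `J`
(`GU_2(3).2`) is properly contained in the proper subgroup `X` of `Sp_4(3)` normalising the extraspecial group
`2^{1+4}_-` of the symplectic matrices commuting or anticommuting with each of `J, qa, qb, w1`.
-/

set_option autoImplicit false

namespace Cfsg.Agent.Lib.Helper30_Sp43E2Std

open Matrix Cfsg.Agent.Lib.Helper30_Sp43E2C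

/-- the two matrices commute or anticommute -/
def EC (r t : M4) : Prop := r * t = t * r ∨ r * t = -(t * r)

instance (r t : M4) : Decidable (EC r t) := inferInstanceAs (Decidable (_ ∨ _))

lemma EC.mul_right {r y z : M4} (hy : EC r y) (hz : EC r z) : EC r (y * z) := by
  rcases hy with hy | hy <;> rcases hz with hz | hz
  · left; rw [← mul_assoc, hy, mul_assoc, hz, mul_assoc]
  · right; rw [← mul_assoc, hy, mul_assoc, hz, mul_neg, mul_assoc]
  · right; rw [← mul_assoc, hy, neg_mul, mul_assoc, hz, mul_assoc]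
  · left; rw [← mul_assoc, hy, neg_mul, mul_assoc, hz, mul_neg, neg_neg, mul_assoc]

lemma EC.neg_right {r y : M4} (hy : EC r y) : EC r (-y) := by
  rcases hy with hy | hy
  · left; rw [mul_neg, neg_mul, hy]
  · right; rw [mul_neg, neg_mul, hy]

lemma EC.conj {g g' r y : M4} (h1 : g' * g = 1) (hy : EC r y) : EC (g * r * g') (g * y * g') := by
  have e1 : g * r * g' * (g * y * g') = g * (r * y) * g' := by
    calc g * r * g' * (g * y * g') = g * r * (g' * g) * y * g' := by simp only [mul_assoc]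
      _ = g * (r * y) * g' := by rw [h1]; simp only [mul_assoc, mul_one]
  have e2 : g * y * g' * (g * r * g') = g * (y * r) * g' := by
    calc g * y * g' * (g * r * g') = g * y * (g' * g) * r * g' := by simp only [mul_assoc]
      _ = g * (y * r) * g' := by rw [h1]; simp only [mul_assoc, mul_one]
  rcases hy with hy | hy
  · left; rw [e1, e2, hy]
  · right; rw [e1, e2, hy, mul_neg, neg_mul]

lemma IsSp.mul {a b : M4} (ha : IsSp a) (hb : IsSp b) : IsSp (a * b) := by
  unfold IsSp at *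
  rw [transpose_mul]
  calc a * b * J0 * (bᵀ * aᵀ) = a * (b * J0 * bᵀ) * aᵀ := by simp only [mul_assoc]
    _ = J0 := by rw [hb, ha]

lemma IsSp.of_inv {g g' : M4} (h1 : g' * g = 1) (hg : IsSp g) : IsSp g' := by
  unfold IsSp at *
  have h2 : g' * (g * J0 * gᵀ) * g'ᵀ = g' * J0 * g'ᵀ := by rw [hg]
  rw [← h2]
  calc g' * (g * J0 * gᵀ) * g'ᵀ = (g' * g) * J0 * (g' * g)ᵀ := by
        rw [transpose_mul]; simp only [mul_assoc]
    _ = J0 := by rw [h1]; simp

/-- membership in the extraspecial group -/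
def InR (r : M4) : Prop := IsSp r ∧ EC r J0 ∧ EC r qa ∧ EC r qb ∧ EC r w1

instance (r : M4) : Decidable (InR r) := by unfold InR; infer_instance

lemma qc_eq : qc = qa * qb := by decide +kernel
lemma w2_eq : w2 = w1 * J0 := by decide +kernel

lemma InR.ec8 {r y : M4} (hr : InR r) (hy : y ∈ [J0, -J0, qa, -qa, qb, -qb, qc, -qc]) : EC r y := by
  obtain ⟨-, hJ, ha, hb, -⟩ := hr
  have hc : EC r qc := qc_eq ▸ ha.mul_right hb
  simp only [List.mem_cons, List.not_mem_nil, or_false] at hy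
  rcases hy with rfl | rfl | rfl | rfl | rfl | rfl | rfl | rfl
  · exact hJ
  · exact hJ.neg_right
  · exact ha
  · exact ha.neg_right
  · exact hb
  · exact hb.neg_right
  · exact hc
  · exact hc.neg_right

lemma InR.ec4 {r y : M4} (hr : InR r) (hy : y ∈ [w1, -w1, w2, -w2]) : EC r y := by
  obtain ⟨-, hJ, -, -, hw⟩ := hr
  have hw2 : EC r w2 := w2_eq ▸ hw.mul_right hJ
  simp only [List.mem_cons, List.not_mem_nil, or_false] at hy
  rcases hy with rfl | rfl | rfl | rfl
  · exact hw
  · exact hw.neg_right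
  · exact hw2
  · exact hw2.neg_right

/-- conjugation preserves the extraspecial group as soon as the conjugates of the four generators are good -/
lemma InR.conj_of {g g' : M4} (h1 : g * g' = 1) (h2 : g' * g = 1) (hsp : IsSp g)
    (hJ : ∀ r, InR r → EC r (g' * J0 * g)) (ha : ∀ r, InR r → EC r (g' * qa * g))
    (hb : ∀ r, InR r → EC r (g' * qb * g)) (hw : ∀ r, InR r → EC r (g' * w1 * g))
    {r : M4} (hr : InR r) : InR (g * r * g') := by
  have key : ∀ t : M4, EC r (g' * t * g) → EC (g * r * g') t := by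
    intro t ht
    have h3 := EC.conj h2 ht
    have h4 : g * (g' * t * g) * g' = t := by
      calc g * (g' * t * g) * g' = (g * g') * t * (g * g') := by simp only [mul_assoc]
        _ = t := by rw [h1]; simp
    rwa [h4] at h3
  exact ⟨IsSp.mul (IsSp.mul hsp hr.1) (IsSp.of_inv h2 hsp), key _ (hJ r hr), key _ (ha r hr), key _ (hb r hr),
    key _ (hw r hr)⟩

/-! ### the normaliser of `⟨J⟩` -/

/-- a symplectic matrix with its inverse, commuting or anticommuting with `J` -/
structure NPair (g g' : M4) : Prop where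
  gg' : g * g' = 1
  g'g : g' * g = 1
  sp : IsSp g
  ec : EC g J0

lemma NPair.ec' {g g' : M4} (h : NPair g g') :
    (g * J0 = J0 * g ∧ g' * J0 = J0 * g') ∨ (g * J0 = -(J0 * g) ∧ g' * J0 = -(J0 * g')) := by
  have aux : ∀ ε : Z3, g * J0 = ε • (J0 * g) → J0 * g' = ε • (g' * J0) := by
    intro ε hε
    calc J0 * g' = (g' * g) * J0 * g' := by rw [h.g'g, one_mul]
      _ = g' * (g * J0) * g' := by simp only [mul_assoc]
      _ = ε • (g' * J0 * (g * g')) := by rw [hε]; simp only [mul_assoc, Matrix.mul_smul, Matrix.smul_mul]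
      _ = ε • (g' * J0) := by rw [h.gg', mul_one]
  rcases h.ec with hc | hc
  · left
    refine ⟨hc, ?_⟩
    have := aux 1 (by rw [one_smul]; exact hc)
    rw [one_smul] at this
    exact this.symm
  · right
    refine ⟨hc, ?_⟩
    have := aux (-1) (by rw [neg_one_smul]; exact hc)
    rw [neg_one_smul] at this
    rw [this, neg_neg]

lemma NPair.symm {g g' : M4} (h : NPair g g') : NPair g' g := by
  refine ⟨h.g'g, h.gg', IsSp.of_inv h.g'g h.sp, ?_⟩
  rcases h.ec' with ⟨-, h2⟩ | ⟨-, h2⟩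
  · exact Or.inl h2
  · exact Or.inr h2

lemma NPair.conj_J0 {g g' : M4} (h : NPair g g') : g' * J0 * g = J0 ∨ g' * J0 * g = -J0 := by
  rcases h.ec' with ⟨-, h2⟩ | ⟨-, h2⟩
  · left; rw [h2, mul_assoc, h.g'g, mul_one]
  · right; rw [h2, neg_mul, mul_assoc, h.g'g, mul_one]

lemma isSp_qa : IsSp qa := by decide +kernel
lemma isSp_qb : IsSp qb := by decide +kernel
lemma isSp_w1 : IsSp w1 := by decide +kernel
lemma qa_J0 : qa * J0 = J0 * qa := by decide +kernel
lemma qb_J0 : qb * J0 = J0 * qb := by decide +kernel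
lemma w1_J0 : w1 * J0 = -(J0 * w1) := by decide +kernel
lemma qa_sq : qa * qa = -1 := by decide +kernel
lemma qb_sq : qb * qb = -1 := by decide +kernel

/-- conjugates of the quaternion generators -/
lemma NPair.conj_q8 {g g' : M4} (h : NPair g g') {t : M4} (htsp : IsSp t) (htJ : t * J0 = J0 * t)
    (htsq : t * t = -1) : g' * t * g ∈ [J0, -J0, qa, -qa, qb, -qb, qc, -qc] := by
  apply C1
  · exact IsSp.mul (IsSp.mul h.symm.sp htsp) h.sp
  · rcases h.ec' with ⟨h1, h2⟩ | ⟨h1, h2⟩
    · calc g' * t * g * J0 = g' * t * (g * J0) := by simp only [mul_assoc]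
        _ = g' * (t * J0) * g := by rw [h1]; simp only [mul_assoc]
        _ = (g' * J0) * t * g := by rw [htJ]; simp only [mul_assoc]
        _ = J0 * (g' * t * g) := by rw [h2]; simp only [mul_assoc]
    · calc g' * t * g * J0 = g' * t * (g * J0) := by simp only [mul_assoc]
        _ = -(g' * (t * J0) * g) := by rw [h1]; simp only [mul_assoc, mul_neg]
        _ = -((g' * J0) * t * g) := by rw [htJ]; simp only [mul_assoc]
        _ = J0 * (g' * t * g) := by rw [h2]; simp only [mul_assoc, neg_mul, neg_neg]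
  · calc g' * t * g * (g' * t * g) = g' * t * (g * g') * t * g := by simp only [mul_assoc]
      _ = g' * (t * t) * g := by rw [h.gg']; simp only [mul_assoc, mul_one]
      _ = -1 := by rw [htsq]; simp only [mul_neg, neg_mul, mul_one, h.g'g]

lemma ne_J0 : qa ≠ J0 ∧ qa ≠ -J0 ∧ qb ≠ J0 ∧ qb ≠ -J0 := by decide +kernel

lemma NPair.conj_q6 {g g' : M4} (h : NPair g g') {t : M4} (htsp : IsSp t) (htJ : t * J0 = J0 * t)
    (htsq : t * t = -1) (hne : t ≠ J0 ∧ t ≠ -J0) : g' * t * g ∈ [qa, -qa, qb, -qb, qc, -qc] := by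
  have h8 := h.conj_q8 htsp htJ htsq
  have hback : t = g * (g' * t * g) * g' := by
    calc t = (g * g') * t * (g * g') := by rw [h.gg']; simp
      _ = g * (g' * t * g) * g' := by simp only [mul_assoc]
  simp only [List.mem_cons, List.not_mem_nil, or_false] at h8 ⊢
  rcases h8 with h8 | h8 | h8
  · exfalso
    rw [h8] at hback
    rcases h.symm.conj_J0 with h9 | h9
    · exact hne.1 (hback.trans h9)
    · exact hne.2 (hback.trans h9)
  · exfalso
    rw [h8, mul_neg, neg_mul] at hback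
    rcases h.symm.conj_J0 with h9 | h9
    · exact hne.2 (hback.trans (by rw [h9]))
    · exact hne.1 (hback.trans (by rw [h9, neg_neg]))
  · exact h8

lemma w1_qa : w1 * qa = qa * w1 := by decide +kernel
lemma w1_qb : w1 * qb = qb * w1 := by decide +kernel
lemma w1_qc : w1 * qc = qc * w1 := by
  rw [qc_eq, ← mul_assoc, w1_qa, mul_assoc, w1_qb, mul_assoc]

lemma w1_comm6 : ∀ z ∈ [qa, -qa, qb, -qb, qc, -qc], w1 * z = z * w1 := by
  intro z hz
  simp only [List.mem_cons, List.not_mem_nil, or_false] at hz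
  rcases hz with rfl | rfl | rfl | rfl | rfl | rfl
  · exact w1_qa
  · rw [mul_neg, neg_mul, w1_qa]
  · exact w1_qb
  · rw [mul_neg, neg_mul, w1_qb]
  · exact w1_qc
  · rw [mul_neg, neg_mul, w1_qc]

/-- conjugates of `w1` -/
lemma NPair.conj_w {g g' : M4} (h : NPair g g') : g' * w1 * g ∈ [w1, -w1, w2, -w2] := by
  have hcomm : ∀ t : M4, IsSp t → t * J0 = J0 * t → t * t = -1 → (t ≠ J0 ∧ t ≠ -J0) →
      g' * w1 * g * t = t * (g' * w1 * g) := by
    intro t htsp htJ htsq hne
    have hz := h.symm.conj_q6 htsp htJ htsq hne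
    have hwz := w1_comm6 _ hz
    calc g' * w1 * g * t = g' * w1 * (g * t * g') * g := by
          rw [show g' * w1 * (g * t * g') * g = g' * w1 * g * t * (g' * g) by simp only [mul_assoc], h.g'g,
            mul_one]
      _ = g' * (w1 * (g * t * g')) * g := by simp only [mul_assoc]
      _ = g' * ((g * t * g') * w1) * g := by rw [hwz]
      _ = (g' * g) * t * (g' * w1 * g) := by simp only [mul_assoc]
      _ = t * (g' * w1 * g) := by rw [h.g'g, one_mul]
  apply C2
  · exact IsSp.mul (IsSp.mul h.symm.sp isSp_w1) h.sp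
  · rcases h.ec' with ⟨h1, h2⟩ | ⟨h1, h2⟩
    · calc g' * w1 * g * J0 = g' * w1 * (g * J0) := by simp only [mul_assoc]
        _ = g' * (w1 * J0) * g := by rw [h1]; simp only [mul_assoc]
        _ = -((g' * J0) * w1 * g) := by rw [w1_J0]; simp only [mul_assoc, mul_neg, neg_mul]
        _ = -(J0 * (g' * w1 * g)) := by rw [h2]; simp only [mul_assoc]
    · calc g' * w1 * g * J0 = g' * w1 * (g * J0) := by simp only [mul_assoc]
        _ = -(g' * (w1 * J0) * g) := by rw [h1]; simp only [mul_assoc, mul_neg]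
        _ = (g' * J0) * w1 * g := by rw [w1_J0]; simp only [mul_assoc, mul_neg, neg_mul, neg_neg]
        _ = -(J0 * (g' * w1 * g)) := by rw [h2]; simp only [mul_assoc, neg_mul]
  · exact hcomm qa isSp_qa qa_J0 qa_sq ⟨ne_J0.1, ne_J0.2.1⟩
  · exact hcomm qb isSp_qb qb_J0 qb_sq ⟨ne_J0.2.2.1, ne_J0.2.2.2⟩

/-- the normaliser of `⟨J⟩` normalises the extraspecial group -/
theorem NPair.conj_InR {g g' : M4} (h : NPair g g') {r : M4} (hr : InR r) : InR (g * r * g') := by
  refine InR.conj_of h.gg' h.g'g h.sp ?_ ?_ ?_ ?_ hr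
  · intro r hr
    rcases h.conj_J0 with h1 | h1
    · rw [h1]; exact hr.2.1
    · rw [h1]; exact hr.2.1.neg_right
  · intro r hr
    exact hr.ec8 (h.conj_q8 isSp_qa qa_J0 qa_sq)
  · intro r hr
    exact hr.ec8 (h.conj_q8 isSp_qb qb_J0 qb_sq)
  · intro r hr
    exact hr.ec4 h.conj_w

/-! ### the intermediate subgroup -/

/-- the symplectic matrices normalising the extraspecial group -/
def X : Subgroup (GL I4 Z3) where
  carrier := {g | IsSp (g : M4) ∧
    ∀ r, InR r → InR ((g : M4) * r * ((g⁻¹ : GL I4 Z3) : M4)) ∧ InR (((g⁻¹ : GL I4 Z3) : M4) * r * (g : M4))}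
  mul_mem' := by
    rintro a b ⟨ha1, ha2⟩ ⟨hb1, hb2⟩
    refine ⟨by rw [Units.val_mul]; exact IsSp.mul ha1 hb1, fun r hr => ⟨?_, ?_⟩⟩
    · have := (ha2 _ (hb2 r hr).1).1
      rw [_root_.mul_inv_rev, Units.val_mul, Units.val_mul]
      simpa only [mul_assoc] using this
    · have := (hb2 _ (ha2 r hr).2).2
      rw [_root_.mul_inv_rev, Units.val_mul, Units.val_mul]
      simpa only [mul_assoc] using this
  one_mem' := by
    refine ⟨by rw [Units.val_one]; unfold IsSp; simp, fun r hr => ?_⟩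
    rw [inv_one, Units.val_one, one_mul, mul_one]
    exact ⟨hr, hr⟩
  inv_mem' := by
    rintro a ⟨ha1, ha2⟩
    refine ⟨IsSp.of_inv (by rw [← Units.val_mul, inv_mul_cancel, Units.val_one]) ha1, fun r hr => ?_⟩
    rw [inv_inv]
    exact ⟨(ha2 r hr).2, (ha2 r hr).1⟩

/-- an element of `X` outside the normaliser of `⟨J⟩` -/
def x : M4 := fromBlocks !![0,0;-1,0] !![0,-1;-1,0] !![0,1;1,0] !![0,-1;0,0]
/-- the inverse of `x` -/
def xi : M4 := fromBlocks !![0,0;-1,0] !![0,1;1,0] !![0,-1;-1,0] !![0,-1;0,0]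
/-- a transvection -/
def s : M4 := fromBlocks 1 !![1,0;0,0] 0 1
/-- the inverse of `s` -/
def si : M4 := fromBlocks 1 !![-1,0;0,0] 0 1

lemma x_xi : x * xi = 1 := by decide +kernel
lemma xi_x : xi * x = 1 := by decide +kernel
lemma s_si : s * si = 1 := by decide +kernel
lemma si_s : si * s = 1 := by decide +kernel
lemma isSp_x : IsSp x := by decide +kernel
lemma isSp_s : IsSp s := by decide +kernel
lemma not_ec_x : ¬ EC x J0 := by decide +kernel
lemma inR_J0 : InR J0 := by decide +kernel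
lemma not_inR_s : ¬ InR (s * J0 * si) := by decide +kernel

lemma wJ1 : xi * J0 * x = qa * w1 := by decide +kernel
lemma wJ2 : x * J0 * xi = qa * J0 * w1 := by decide +kernel
lemma wa1 : xi * qa * x = qa := by decide +kernel
lemma wa2 : x * qa * xi = qa := by decide +kernel
lemma wb1 : xi * qb * x = -(qa * qb * J0 * w1) := by decide +kernel
lemma wb2 : x * qb * xi = qa * qb * w1 := by decide +kernel
lemma ww1 : xi * w1 * x = J0 * w1 := by decide +kernel
lemma ww2 : x * w1 * xi = -(qa * J0) := by decide +kernel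

/-- `x` as a unit -/
def xU : GL I4 Z3 := ⟨x, xi, x_xi, xi_x⟩
/-- `s` as a unit -/
def sU : GL I4 Z3 := ⟨s, si, s_si, si_s⟩

lemma xU_mem : xU ∈ X := by
  refine ⟨isSp_x, fun r hr => ⟨?_, ?_⟩⟩
  · show InR (x * r * xi)
    refine InR.conj_of x_xi xi_x isSp_x ?_ ?_ ?_ ?_ hr
    · intro r hr; rw [wJ1]; exact hr.2.2.1.mul_right hr.2.2.2.2
    · intro r hr; rw [wa1]; exact hr.2.2.1
    · intro r hr; rw [wb1]
      exact (((hr.2.2.1.mul_right hr.2.2.2.1).mul_right hr.2.1).mul_right hr.2.2.2.2).neg_right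
    · intro r hr; rw [ww1]; exact hr.2.1.mul_right hr.2.2.2.2
  · show InR (xi * r * x)
    refine InR.conj_of xi_x x_xi (IsSp.of_inv xi_x isSp_x) ?_ ?_ ?_ ?_ hr
    · intro r hr; rw [wJ2]; exact (hr.2.2.1.mul_right hr.2.1).mul_right hr.2.2.2.2
    · intro r hr; rw [wa2]; exact hr.2.2.1
    · intro r hr; rw [wb2]; exact (hr.2.2.1.mul_right hr.2.2.2.1).mul_right hr.2.2.2.2
    · intro r hr; rw [ww2]; exact (hr.2.2.1.mul_right hr.2.1).neg_right

lemma sU_not_mem : sU ∉ X := by
  rintro ⟨-, h⟩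
  exact not_inR_s (h J0 inR_J0).1

/-- **the standard model**: the normaliser of `⟨J⟩` in `Sp_4(3)` lies in the proper subgroup `X`, properly -/
theorem std :
    (∀ g : GL I4 Z3, IsSp (g : M4) → EC (g : M4) J0 → g ∈ X) ∧ (∀ g ∈ X, IsSp ((g : GL I4 Z3) : M4)) ∧
    (∃ g ∈ X, ¬ EC ((g : GL I4 Z3) : M4) J0) ∧ (∃ g : GL I4 Z3, IsSp (g : M4) ∧ g ∉ X) := by
  refine ⟨?_, fun g hg => hg.1, ⟨xU, xU_mem, not_ec_x⟩, ⟨sU, isSp_s, sU_not_mem⟩⟩
  intro g hsp hec
  have hp : NPair (g : M4) ((g⁻¹ : GL I4 Z3) : M4) :=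
    ⟨by rw [← Units.val_mul, mul_inv_cancel, Units.val_one],
      by rw [← Units.val_mul, inv_mul_cancel, Units.val_one], hsp, hec⟩
  exact ⟨hsp, fun r hr => ⟨hp.conj_InR hr, hp.symm.conj_InR hr⟩⟩

end Cfsg.Agent.Lib.Helper30_Sp43E2Std
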