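import Mathlib
import Cfsg.Prelude.Def_GeometricClasses
import Cfsg.Agent.Lib.Helper30_Sp43E2Std
import Cfsg.Agent.Lib.Helper13_GUSpK
import Cfsg.Agent.Lib.Helper13_GUSpConj
import Cfsg.Agent.Lib.Helper61_IsometryTransfer
import Cfsg.Agent.Lib.Helper67_SpAschMax

/-!
helper30, for S5787 (`Sp_4(3)`): the normaliser in `Sp_4(3)` of a quadratic field subalgebra of unitary type
(`GU_2(3).2`) is not maximal: it lies in the normaliser of an extraspecial group `2^{1+4}_-`.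
-/

set_option autoImplicit false

namespace Cfsg.Agent.Lib.Helper30_Sp43E2

open Matrix Cfsg.Geo
open Cfsg.Agent.Lib.Helper13_Symp Cfsg.Agent.Lib.Helper13_GUSpDefs Cfsg.Agent.Lib.Helper13_GUSpK
  Cfsg.Agent.Lib.Helper13_GUSpConj Cfsg.Agent.Lib.Helper67_SpAschMax Cfsg.Agent.Lib.Helper30_Sp43E2C
  Cfsg.Agent.Lib.Helper30_Sp43E2Std Cfsg.Agent.Lib.Helper61_IsometryTransfer

variable {F : Type*} [Field F]

lemma mem_spGL_iff_mem_symp (g : GL (Fin 2 ⊕ Fin 2) F) :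
    g ∈ Cfsg.spGL 2 F ↔ (g : Matrix (Fin 2 ⊕ Fin 2) (Fin 2 ⊕ Fin 2) F) ∈ Matrix.symplecticGroup (Fin 2) F := by
  constructor
  · intro hg
    exact mem_symplecticGroup_of_preserves 2 (fun u v => hg u v)
  · intro hg u v
    exact sympForm_mulVec_mulVec_of_mem 2 hg u v

lemma J_map (σ : F ≃+* Z3) : (Matrix.J (Fin 2) F).map σ = J0 := by
  unfold Matrix.J J0
  rw [fromBlocks_map]
  simp [Matrix.map_zero, Matrix.map_one, Matrix.map_neg]

lemma isSp_map_iff (σ : F ≃+* Z3) (A : Matrix (Fin 2 ⊕ Fin 2) (Fin 2 ⊕ Fin 2) F) :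
    IsSp (A.map σ) ↔ A ∈ Matrix.symplecticGroup (Fin 2) F := by
  rw [SymplecticGroup.mem_iff]
  unfold IsSp
  rw [← J_map σ, ← Matrix.transpose_map, ← Matrix.map_mul, ← Matrix.map_mul]
  constructor
  · intro h
    exact Matrix.map_injective σ.injective h
  · intro h
    rw [h]

/-- **E2**: over `F_3` the normaliser in `Sp_4` of a quadratic field subalgebra of unitary type is not maximal -/
theorem E2 [Fintype F] (hq : Fintype.card F = 3)
    {K : Subalgebra F (Matrix (Fin 2 ⊕ Fin 2) (Fin 2 ⊕ Fin 2) F)}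
    (hK : IsFieldSubalgebra 2 K) (hac : IsAdjointClosedFor (Cfsg.sympForm 2 F) K)
    (hnsa : ¬ IsSelfAdjointFor (Cfsg.sympForm 2 F) K) :
    ¬ IsMaximalIn (Cfsg.spGL 2 F) (subalgebraNormalizer K ⊓ Cfsg.spGL 2 F) := by
  classical
  have h3 : (3 : F) = 0 := by
    have := Nat.cast_card_eq_zero F
    rw [hq] at this
    exact_mod_cast this
  have h2 : (2 : F) ≠ 0 := by
    intro h
    have : (1 : F) = 0 := by linear_combination h3 - h
    exact one_ne_zero this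
  have hs : ∀ c : F, c = 0 ∨ c = 1 ∨ c = -1 := by
    intro c
    by_cases hc : c = 0
    · exact Or.inl hc
    right
    have h1 := FiniteField.pow_card_sub_one_eq_one c hc
    rw [hq] at h1
    have h4 : (c - 1) * (c + 1) = 0 := by
      have : c ^ 2 = 1 := by simpa using h1
      linear_combination this
    rcases mul_eq_zero.mp h4 with h5 | h5
    · left; exact sub_eq_zero.mp h5
    · right; exact eq_neg_of_add_eq_zero_left h5
  have : Fact (Nat.Prime 3) := ⟨Nat.prime_three⟩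
  have : CharP F 3 := charP_of_card_eq_prime hq
  obtain ⟨θ, Δ, hθK, hΔ, hθθ, hgen, hskew⟩ := exists_theta h2 2 (by norm_num) K hK hac hnsa
  have hΔ1 : Δ = -1 := by
    rcases hs Δ with h | h | h
    · exact absurd ⟨0, by rw [h]; ring⟩ hΔ
    · exact absurd ⟨1, by rw [h]; ring⟩ hΔ
    · exact h
  subst hΔ1
  obtain ⟨P, hP, hPθ⟩ := PB 3 h2 2 (-1) hΔ θ (Theta0 2 (-1)) hθθ (Theta0_mul_self 2 (-1)) hskew
    (Theta0_isSkew 2 (-1))
  have hT : Theta0 2 (-1 : F) = Matrix.J (Fin 2) F := by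
    unfold Theta0 Matrix.J
    simp
  rw [hT] at hPθ
  set Pgl : GL (Fin 2 ⊕ Fin 2) F := sympToGL ⟨P, hP⟩ with hPgl
  have hPgl_mem : Pgl ∈ Cfsg.spGL 2 F := sympToGL_mem _
  have hPval : (Pgl : Matrix (Fin 2 ⊕ Fin 2) (Fin 2 ⊕ Fin 2) F) = P := rfl
  set Pi : Matrix (Fin 2 ⊕ Fin 2) (Fin 2 ⊕ Fin 2) F :=
    ((Pgl⁻¹ : GL (Fin 2 ⊕ Fin 2) F) : Matrix (Fin 2 ⊕ Fin 2) (Fin 2 ⊕ Fin 2) F) with hPi
  have hPPi : P * Pi = 1 := by rw [← hPval, hPi, ← Units.val_mul, mul_inv_cancel, Units.val_one]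
  have hPiP : Pi * P = 1 := by rw [← hPval, hPi, ← Units.val_mul, inv_mul_cancel, Units.val_one]
  have hθPi : θ * Pi = Pi * Matrix.J (Fin 2) F := by
    calc θ * Pi = (Pi * P) * θ * Pi := by rw [hPiP, one_mul]
      _ = Pi * (P * θ) * Pi := by simp only [mul_assoc]
      _ = Pi * Matrix.J (Fin 2) F * (P * Pi) := by rw [hPθ]; simp only [mul_assoc]
      _ = Pi * Matrix.J (Fin 2) F := by rw [hPPi, mul_one]
  let σ : F ≃+* Z3 := (ZMod.ringEquivOfPrime F Nat.prime_three hq).symm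
  let Φ : GL (Fin 2 ⊕ Fin 2) F ≃* GL I4 Z3 := (MulAut.conj Pgl).trans (glEquiv σ)
  have hΦval : ∀ g : GL (Fin 2 ⊕ Fin 2) F, ((Φ g : GL I4 Z3) : M4) = (P * (g : Matrix _ _ F) * Pi).map σ :=
    fun g => rfl
  have hTa : ∀ g : GL (Fin 2 ⊕ Fin 2) F, g ∈ Cfsg.spGL 2 F ↔ IsSp ((Φ g : GL I4 Z3) : M4) := by
    intro g
    rw [hΦval, isSp_map_iff]
    have hval : P * (g : Matrix _ _ F) * Pi = ((Pgl * g * Pgl⁻¹ : GL (Fin 2 ⊕ Fin 2) F) : Matrix _ _ F) := rfl
    rw [hval, ← mem_spGL_iff_mem_symp]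
    constructor
    · intro hg
      exact Subgroup.mul_mem _ (Subgroup.mul_mem _ hPgl_mem hg) (Subgroup.inv_mem _ hPgl_mem)
    · intro hg
      have := Subgroup.mul_mem _ (Subgroup.mul_mem _ (Subgroup.inv_mem _ hPgl_mem) hg) hPgl_mem
      convert this using 1
      group
  have hTb : ∀ g ∈ subalgebraNormalizer K ⊓ Cfsg.spGL 2 F, EC ((Φ g : GL I4 Z3) : M4) J0 := by
    intro g hg
    have hca := comm_or_anticomm K hK h2 (by norm_num) hΔ hθK hθθ hgen g hg.1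
    rw [hΦval]
    have e1 : P * (g : Matrix _ _ F) * Pi * Matrix.J (Fin 2) F = P * ((g : Matrix _ _ F) * θ) * Pi := by
      calc P * (g : Matrix _ _ F) * Pi * Matrix.J (Fin 2) F = P * (g : Matrix _ _ F) * (Pi * Matrix.J (Fin 2) F) := by
            simp only [mul_assoc]
        _ = P * ((g : Matrix _ _ F) * θ) * Pi := by rw [← hθPi]; simp only [mul_assoc]
    have e2 : P * (θ * (g : Matrix _ _ F)) * Pi = Matrix.J (Fin 2) F * (P * (g : Matrix _ _ F) * Pi) := by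
      calc P * (θ * (g : Matrix _ _ F)) * Pi = (P * θ) * (g : Matrix _ _ F) * Pi := by simp only [mul_assoc]
        _ = Matrix.J (Fin 2) F * (P * (g : Matrix _ _ F) * Pi) := by rw [hPθ]; simp only [mul_assoc]
    rcases hca with hc | hc
    · left
      rw [← J_map σ, ← Matrix.map_mul, ← Matrix.map_mul, e1, hc, e2]
    · right
      rw [← J_map σ, ← Matrix.map_mul, ← Matrix.map_mul, e1, hc, mul_neg, neg_mul, e2]
      exact Matrix.map_neg _ (fun a => map_neg σ a) _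
  intro hmax
  obtain ⟨hX1, hX2, ⟨x, hxX, hxne⟩, ⟨s, hsSp, hsX⟩⟩ := std
  set M : Subgroup (GL (Fin 2 ⊕ Fin 2) F) := X.comap Φ.toMonoidHom with hM
  have hHM : subalgebraNormalizer K ⊓ Cfsg.spGL 2 F ≤ M := fun g hg =>
    hX1 (Φ g) ((hTa g).mp hg.2) (hTb g hg)
  have hMS : M ≤ Cfsg.spGL 2 F := fun g hg => (hTa g).mpr (hX2 (Φ g) hg)
  rcases hmax.2 M hHM hMS with h | h
  · have hx' : Φ.symm x ∈ M := by
      show Φ (Φ.symm x) ∈ X
      rw [MulEquiv.apply_symm_apply]; exact hxX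
    rw [h] at hx'
    have := hTb _ hx'
    rw [MulEquiv.apply_symm_apply] at this
    exact hxne this
  · have hs' : Φ.symm s ∈ Cfsg.spGL 2 F :=
      (hTa _).mpr (by rw [MulEquiv.apply_symm_apply]; exact hsSp)
    rw [← h] at hs'
    have : Φ (Φ.symm s) ∈ X := hs'
    rw [MulEquiv.apply_symm_apply] at this
    exact hsX this

end Cfsg.Agent.Lib.Helper30_Sp43E2
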