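import Mathlib
import Cfsg.Prelude.Def_GeometricClasses
import Cfsg.Agent.Lib.Helper67_SpAschMax
import Cfsg.Agent.Lib.Helper97_AschMaxC

set_option autoImplicit false

namespace Cfsg.Agent.Lib.Helper67_SpAschMaxB

open Matrix Cfsg.Geo
open Cfsg.Agent.Lib.Helper13_Symp Cfsg.Agent.Lib.Helper13_SympTrans Cfsg.Agent.Lib.Helper67_SpAschMax
open scoped Kronecker

variable {F : Type*} [Field F] {m : ℕ}

/-! ### conjugated classes -/

theorem not_le_map_conj (X₀ : Subgroup (GL (Fin m ⊕ Fin m) F)) (P : GL (Fin m ⊕ Fin m) F)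
    (S₀ : Set (Fin m ⊕ Fin m → F))
    (hinv : ∀ s ∈ X₀, ∀ v ∈ S₀, ((s : GL (Fin m ⊕ Fin m) F) : Matrix (Fin m ⊕ Fin m) (Fin m ⊕ Fin m) F) *ᵥ v ∈ S₀)
    {v₀ v₁ : Fin m ⊕ Fin m → F} (h₀ : v₀ ∈ S₀) (h₀0 : v₀ ≠ 0) (h₁ : v₁ ∉ S₀) (h₁0 : v₁ ≠ 0) :
    ¬ Cfsg.spGL m F ≤ X₀.map (MulAut.conj P).toMonoidHom := by
  have hPinv : ∀ v, ((P⁻¹ : GL (Fin m ⊕ Fin m) F) : Matrix (Fin m ⊕ Fin m) (Fin m ⊕ Fin m) F) *ᵥ
      ((P : Matrix (Fin m ⊕ Fin m) (Fin m ⊕ Fin m) F) *ᵥ v) = v := by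
    intro v
    rw [Matrix.mulVec_mulVec, ← Units.val_mul, inv_mul_cancel, Units.val_one, Matrix.one_mulVec]
  have hne : ∀ v, v ≠ 0 → (P : Matrix (Fin m ⊕ Fin m) (Fin m ⊕ Fin m) F) *ᵥ v ≠ 0 := by
    intro v hv h
    apply hv
    rw [← hPinv v, h, Matrix.mulVec_zero]
  refine not_le_of_invariant_set
    {u | ((P⁻¹ : GL (Fin m ⊕ Fin m) F) : Matrix (Fin m ⊕ Fin m) (Fin m ⊕ Fin m) F) *ᵥ u ∈ S₀} ?_
    (u := (P : Matrix (Fin m ⊕ Fin m) (Fin m ⊕ Fin m) F) *ᵥ v₀)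
    (u' := (P : Matrix (Fin m ⊕ Fin m) (Fin m ⊕ Fin m) F) *ᵥ v₁) ?_ (hne v₀ h₀0) ?_ (hne v₁ h₁0)
  · rintro g ⟨s, hs, rfl⟩ u hu
    show _ ∈ S₀
    have : ((P⁻¹ : GL (Fin m ⊕ Fin m) F) : Matrix (Fin m ⊕ Fin m) (Fin m ⊕ Fin m) F) *ᵥ
        (((MulAut.conj P).toMonoidHom s : GL (Fin m ⊕ Fin m) F) : Matrix (Fin m ⊕ Fin m) (Fin m ⊕ Fin m) F) *ᵥ u =
        (s : Matrix (Fin m ⊕ Fin m) (Fin m ⊕ Fin m) F) *ᵥ
          (((P⁻¹ : GL (Fin m ⊕ Fin m) F) : Matrix (Fin m ⊕ Fin m) (Fin m ⊕ Fin m) F) *ᵥ u) := by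
      simp only [MulEquiv.toMonoidHom_eq_coe, MonoidHom.coe_coe, MulAut.conj_apply, Units.val_mul]
      rw [Matrix.mulVec_mulVec, Matrix.mulVec_mulVec, ← mul_assoc, ← mul_assoc, ← Units.val_mul,
        inv_mul_cancel, Units.val_one, one_mul]
    rw [this]
    exact hinv s hs _ hu
  · show _ ∈ S₀
    rw [hPinv]; exact h₀
  · show ¬ _ ∈ S₀
    rw [hPinv]; exact h₁

theorem not_le_map_conj_reindex {κ : Type} [Fintype κ] [DecidableEq κ] (S : Subgroup (GL κ F))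
    (e : (Fin m ⊕ Fin m) ≃ κ) (P : GL (Fin m ⊕ Fin m) F) (S₀ : Set (κ → F))
    (hinv : ∀ s ∈ S, ∀ v ∈ S₀, ((s : GL κ F) : Matrix κ κ F) *ᵥ v ∈ S₀)
    {v₀ v₁ : κ → F} (h₀ : v₀ ∈ S₀) (h₀0 : v₀ ≠ 0) (h₁ : v₁ ∉ S₀) (h₁0 : v₁ ≠ 0) :
    ¬ Cfsg.spGL m F ≤ (S.map (glReindex e.symm).toMonoidHom).map (MulAut.conj P).toMonoidHom := by
  have hcomp : ∀ v : κ → F, (v ∘ e) ∘ e.symm = v := by
    intro v; ext x; simp
  have hne : ∀ v : κ → F, v ≠ 0 → v ∘ e ≠ 0 := by
    intro v hv h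
    apply hv
    rw [← hcomp v, h]
    rfl
  refine not_le_map_conj _ P {w | w ∘ e.symm ∈ S₀} ?_ (v₀ := v₀ ∘ e) (v₁ := v₁ ∘ e) ?_ (hne v₀ h₀0) ?_
    (hne v₁ h₁0)
  · rintro g ⟨s, hs, rfl⟩ w hw
    show _ ∈ S₀
    have : ((((glReindex e.symm).toMonoidHom s : GL (Fin m ⊕ Fin m) F) :
        Matrix (Fin m ⊕ Fin m) (Fin m ⊕ Fin m) F) *ᵥ w) ∘ e.symm =
        (s : Matrix κ κ F) *ᵥ (w ∘ e.symm) := by
      simp only [MulEquiv.toMonoidHom_eq_coe, MonoidHom.coe_coe]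
      rw [Cfsg.Agent.Lib.Helper97_AschMaxC.glReindex_val, Matrix.reindex_apply, Equiv.symm_symm,
        Matrix.submatrix_mulVec_equiv]
      ext x
      simp
    rw [this]
    exact hinv s hs _ hw
  · show _ ∈ S₀
    rw [hcomp]; exact h₀
  · show ¬ _ ∈ S₀
    rw [hcomp]; exact h₁

/-! ### class 4 -/

theorem not_le_tensorProductSubgroup (n₁ n₂ : ℕ) (h1 : 2 ≤ n₁) (h2 : 2 ≤ n₂)
    (e : (Fin m ⊕ Fin m) ≃ Fin n₁ × Fin n₂) (P : GL (Fin m ⊕ Fin m) F) :
    ¬ Cfsg.spGL m F ≤ tensorProductSubgroup n₁ n₂ e P := by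
  classical
  let a₀ : Fin n₁ := ⟨0, by omega⟩
  let a₁ : Fin n₁ := ⟨1, by omega⟩
  let b₀ : Fin n₂ := ⟨0, by omega⟩
  let b₁ : Fin n₂ := ⟨1, by omega⟩
  have ha : a₀ ≠ a₁ := by intro h; simp [a₀, a₁, Fin.ext_iff] at h
  have hb : b₀ ≠ b₁ := by intro h; simp [b₀, b₁, Fin.ext_iff] at h
  refine not_le_map_conj_reindex (kroneckerSubgroup n₁ n₂ F) e P
    {v | ∃ (x : Fin n₁ → F) (y : Fin n₂ → F), ∀ p, v p = x p.1 * y p.2} ?_
    (v₀ := fun p => (if p.1 = a₀ then 1 else 0) * (if p.2 = b₀ then 1 else 0))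
    (v₁ := fun p => (if p.1 = a₀ then 1 else 0) * (if p.2 = b₀ then 1 else 0) +
      (if p.1 = a₁ then 1 else 0) * (if p.2 = b₁ then 1 else 0)) ?_ ?_ ?_ ?_
  · rintro s ⟨a, b, hab⟩ v ⟨x, y, hv⟩
    refine ⟨(a : Matrix (Fin n₁) (Fin n₁) F) *ᵥ x, (b : Matrix (Fin n₂) (Fin n₂) F) *ᵥ y, ?_⟩
    rintro ⟨i, j⟩
    rw [hab]
    simp only [Matrix.mulVec, dotProduct, Matrix.kroneckerMap_apply, hv]
    rw [Fintype.sum_prod_type, Finset.sum_mul_sum]
    refine Finset.sum_congr rfl (fun i' _ => Finset.sum_congr rfl (fun j' _ => ?_))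
    ring
  · exact ⟨fun i => if i = a₀ then 1 else 0, fun j => if j = b₀ then 1 else 0, fun p => rfl⟩
  · intro h
    have := congrFun h (a₀, b₀)
    simp at this
  · rintro ⟨x, y, hxy⟩
    have e00 := hxy (a₀, b₀)
    have e11 := hxy (a₁, b₁)
    have e01 := hxy (a₀, b₁)
    simp [ha, hb, ha.symm, hb.symm] at e00 e11 e01
    rcases e01 with h0 | h0
    · rw [h0, zero_mul] at e00; exact one_ne_zero e00
    · rw [h0, mul_zero] at e11; exact one_ne_zero e11
  · intro h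
    have := congrFun h (a₀, b₀)
    simp [ha, hb] at this

/-! ### class 7 -/

open Cfsg.Agent.Lib.Helper97_AschMaxC in
theorem not_le_tensorWreathSubgroup [Finite F] {k t : ℕ} (hk : 2 ≤ k) (ht : 2 ≤ t)
    (e : (Fin m ⊕ Fin m) ≃ (Fin t → Fin k)) (P : GL (Fin m ⊕ Fin m) F) :
    ¬ Cfsg.spGL m F ≤ tensorWreathSubgroup k t e P := by
  classical
  let a : Fin k := ⟨0, by omega⟩
  let b : Fin k := ⟨1, by omega⟩
  let i₀ : Fin t := ⟨0, by omega⟩
  let i₁ : Fin t := ⟨1, by omega⟩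
  have hab : a ≠ b := by intro h; simp [a, b, Fin.ext_iff] at h
  have hi : i₀ ≠ i₁ := by intro h; simp [i₀, i₁, Fin.ext_iff] at h
  let x₀ : Fin t → Fin k := fun _ => a
  let x₁ : Fin t → Fin k := fun i => if i = i₀ ∨ i = i₁ then b else a
  let y : Fin t → Fin k := fun i => if i = i₀ then b else a
  have h01 : x₁ ≠ x₀ := by
    intro h
    have := congrFun h i₀
    simp [x₀, x₁] at this
    exact hab this.symm
  have hy0 : y ≠ x₀ := by
    intro h
    have := congrFun h i₀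
    simp [x₀, y] at this
    exact hab this.symm
  have hy1 : y ≠ x₁ := by
    intro h
    have := congrFun h i₁
    simp [x₁, y, hi.symm] at this
    exact hab this
  refine not_le_map_conj_reindex (tensorWreathStandard k t F) e P {v | IsPureVec v} ?_
    (v₀ := fun x => if x = x₀ then 1 else 0)
    (v₁ := fun x => (if x = x₀ then 1 else 0) + (if x = x₁ then 1 else 0)) ?_ ?_ ?_ ?_
  · intro s hs v hv
    exact preservesPure_of_mem_standard hs v hv
  · refine ⟨fun i c => if c = a then 1 else 0, fun x => ?_⟩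
    show (if x = x₀ then (1 : F) else 0) = ∏ i, (if x i = a then (1 : F) else 0)
    by_cases hx : x = x₀
    · subst hx; simp [x₀]
    · rw [if_neg hx]
      have : ∃ i, x i ≠ a := by
        by_contra hcon
        push Not at hcon
        exact hx (funext hcon)
      obtain ⟨i, hi⟩ := this
      exact (Finset.prod_eq_zero (Finset.mem_univ i) (by rw [if_neg hi])).symm
  · intro h
    have := congrFun h x₀
    simp at this
  · rintro ⟨ws, hws⟩
    have e0 := hws x₀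
    have e1 := hws x₁
    have ey := hws y
    simp only [if_true, if_neg h01.symm, if_neg h01, if_neg hy0, if_neg hy1, add_zero, zero_add] at e0 e1 ey
    have hne0 : ∀ i, ws i (x₀ i) ≠ 0 := by
      intro i hz
      rw [Finset.prod_eq_zero (Finset.mem_univ i) hz] at e0
      exact one_ne_zero e0
    have hne1 : ∀ i, ws i (x₁ i) ≠ 0 := by
      intro i hz
      rw [Finset.prod_eq_zero (Finset.mem_univ i) hz] at e1
      exact one_ne_zero e1
    have : ∏ i, ws i (y i) ≠ 0 := by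
      rw [Finset.prod_ne_zero_iff]
      intro i _
      by_cases hi0 : i = i₀
      · have : y i = x₁ i := by simp [y, x₁, hi0]
        rw [this]; exact hne1 i
      · have : y i = x₀ i := by simp [y, x₀, hi0]
        rw [this]; exact hne0 i
    exact this ey.symm
  · intro h
    have := congrFun h x₀
    simp [h01.symm] at this

/-! ### class 5 -/

theorem not_le_subfieldSubgroup (hm : 0 < m) (F₀ : Subfield F) (hF₀ : F₀ ≠ ⊤) (P : GL (Fin m ⊕ Fin m) F) :
    ¬ Cfsg.spGL m F ≤ subfieldSubgroup F₀ P := by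
  classical
  obtain ⟨α, hα⟩ : ∃ α : F, α ∉ F₀ := by
    by_contra hcon
    push Not at hcon
    exact hF₀ (eq_top_iff.mpr (fun a _ => hcon a))
  let i0 : Fin m ⊕ Fin m := Sum.inl ⟨0, hm⟩
  let i1 : Fin m ⊕ Fin m := Sum.inr ⟨0, hm⟩
  have h01 : i0 ≠ i1 := by simp [i0, i1]
  unfold subfieldSubgroup
  refine not_le_map_conj _ P
    {v | ∃ (a : F) (w : Fin m ⊕ Fin m → F), (∀ i, w i ∈ F₀) ∧ v = a • w} ?_
    (v₀ := Pi.single i0 1) (v₁ := Pi.single i0 1 + α • Pi.single i1 1) ?_ ?_ ?_ ?_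
  · intro s hs v hv
    obtain ⟨a, w, hw, rfl⟩ := hv
    obtain ⟨y, hy, z, hz, rfl⟩ := Subgroup.mem_sup_of_normal_right.mp hs
    obtain ⟨y₀, rfl⟩ := hy
    obtain ⟨c, hc⟩ := (mem_scalars_iff z).mp hz
    refine ⟨(c : F) * a, fun i => ∑ j, ((y₀ : Matrix (Fin m ⊕ Fin m) (Fin m ⊕ Fin m) F₀) i j : F) * w j,
      fun i => ?_, ?_⟩
    · exact F₀.sum_mem (fun j _ => F₀.mul_mem (SetLike.coe_mem _) (hw j))
    · rw [Units.val_mul, hc, ← Matrix.mulVec_mulVec, Matrix.smul_mulVec, Matrix.one_mulVec, smul_smul,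
        Matrix.mulVec_smul]
      congr 1
  · exact ⟨1, Pi.single i0 1, fun i => by
      by_cases h : i = i0
      · rw [h, Pi.single_eq_same]; exact F₀.one_mem
      · rw [Pi.single_eq_of_ne h]; exact F₀.zero_mem, by rw [one_smul]⟩
  · intro h
    have := congrFun h i0
    simp at this
  · rintro ⟨a, w, hw, hv⟩
    have e0 := congrFun hv i0
    have e1 := congrFun hv i1
    simp [h01, h01.symm] at e0 e1
    have ha : a ∈ F₀ := by
      have hw0 : w i0 ≠ 0 := by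
        intro h0; rw [h0, mul_zero] at e0; exact one_ne_zero e0
      have : a = (w i0)⁻¹ := eq_inv_of_mul_eq_one_left e0.symm
      rw [this]
      exact F₀.inv_mem (hw i0)
    apply hα
    rw [e1]
    exact F₀.mul_mem ha (hw i1)
  · intro h
    have := congrFun h i0
    simp [h01] at this

lemma subfield_ne_top [Fintype F] {F₀ : Subfield F} {r : ℕ} (hr : r.Prime)
    (hcard : Fintype.card F = Nat.card F₀ ^ r) : F₀ ≠ ⊤ :=
  Cfsg.Agent.Lib.Helper30_AschMax.subfield_ne_top hr hcard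

/-! ### class 8 -/

lemma ringChar_eq_two_of_not_odd [Fintype F] (heven : ¬ Odd (Fintype.card F)) : ringChar F = 2 := by
  rw [FiniteField.even_card_iff_char_two]
  rcases Nat.even_or_odd (Fintype.card F) with h | h
  · exact Nat.even_iff.mp h
  · exact absurd h heven

lemma two_eq_zero_of_not_odd [Fintype F] (heven : ¬ Odd (Fintype.card F)) : (2 : F) = 0 := by
  have h := ringChar_eq_two_of_not_odd heven
  have : CharP F 2 := by rw [← h]; exact ringChar.charP F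
  exact CharTwo.two_eq_zero

theorem not_le_quadSimilarityGroup [Fintype F] (hm : 2 ≤ m) (heven : ¬ Odd (Fintype.card F))
    {Q : (Fin m ⊕ Fin m → F) → F}
    (hpol : ∀ u v, QuadraticMap.polar Q u v = Cfsg.sympForm m F u v)
    (hsmul : ∀ (c : F) (v : Fin m ⊕ Fin m → F), Q (c • v) = c ^ 2 * Q v) :
    ¬ Cfsg.spGL m F ≤ quadSimilarityGroup Q := by
  classical
  have h2 : (2 : F) = 0 := two_eq_zero_of_not_odd heven
  have hadd : ∀ x y, Q (x + y) = Q x + Q y + Cfsg.sympForm m F x y := by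
    intro x y
    rw [← hpol, QuadraticMap.polar]
    ring
  have hQ0 : Q 0 = 0 := by
    have := hsmul 0 0
    simpa using this
  -- a non-singular vector
  obtain ⟨a, ha⟩ : ∃ a, Q a ≠ 0 := by
    by_contra hcon
    push Not at hcon
    have hu : (Pi.single (Sum.inl (⟨0, by omega⟩ : Fin m)) 1 : Fin m ⊕ Fin m → F) ≠ 0 := by
      intro h
      have := congrFun h (Sum.inl ⟨0, by omega⟩)
      simp at this
    obtain ⟨w, hw⟩ := exists_sympForm_ne_zero m hu
    apply hw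
    rw [← hpol, QuadraticMap.polar, hcon, hcon, hcon]
    ring
  have ha0 : a ≠ 0 := by
    rintro rfl
    exact ha hQ0
  -- a vector orthogonal to `a` outside its span
  have hker : ¬ LinearMap.ker (formLin a) ≤ Submodule.span F {a} := by
    intro hle
    have h1 := Submodule.finrank_mono hle
    rw [finrank_span_singleton ha0] at h1
    have h3 := (formLin a).finrank_range_add_finrank_ker
    have h4 : Module.finrank F (LinearMap.range (formLin a)) ≤ 1 := by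
      have := (LinearMap.range (formLin a)).finrank_le
      rwa [Module.finrank_self] at this
    rw [Module.finrank_fintype_fun_eq_card, Fintype.card_sum, Fintype.card_fin] at h3
    omega
  obtain ⟨b, hbk, hbs⟩ := SetLike.not_le_iff_exists.mp hker
  rw [LinearMap.mem_ker, formLin_apply] at hbk
  obtain ⟨c, hc⟩ := FiniteField.isSquare_of_char_two (ringChar_eq_two_of_not_odd heven) (Q b / Q a)
  have hsing : Q (c • a + b) = 0 := by
    rw [hadd, hsmul, sympForm_smul_left, sympForm_swap, hbk, neg_zero, mul_zero, add_zero, pow_two, ← hc,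
      div_mul_cancel₀ _ ha]
    linear_combination Q b * h2
  have hne : c • a + b ≠ 0 := by
    intro h
    apply hbs
    have : b = (-c) • a := by
      rw [neg_smul]
      exact eq_neg_of_add_eq_zero_right h
    rw [this]
    exact Submodule.smul_mem _ _ (Submodule.mem_span_singleton_self a)
  refine not_le_of_invariant_set {v | Q v = 0} ?_ hsing hne ha ha0
  rintro g ⟨d, hd⟩ v hv
  show Q _ = 0
  rw [hd, show Q v = 0 from hv, mul_zero]

end Cfsg.Agent.Lib.Helper67_SpAschMaxB
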