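import Mathlib
import Cfsg.Prelude.Def_GeometricClasses
import Cfsg.Agent.Lib.Helper67_SpAschMax
import Cfsg.Agent.Lib.Helper67_SpAschMaxB
import Cfsg.Agent.Lib.Helper43_AltEven
import Cfsg.Agent.Lib.Helper94_Bridge
import Cfsg.Agent.Lib.Helper63_SpExt_QB1

/-!
helper67: the normal form of a maximal subgroup of `Sp_2m(F)` under the structure theorem
(as a hypothesis `SpAschHyp`), and arithmetic of the class data.
-/

set_option autoImplicit false

namespace Cfsg.Agent.Lib.Helper67_SpAschRows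

open Matrix Module Cfsg.Geo
open Cfsg.Agent.Lib.Helper13_Symp Cfsg.Agent.Lib.Helper13_SympTrans Cfsg.Agent.Lib.Helper67_SpAschMax
  Cfsg.Agent.Lib.Helper67_SpAschMaxB Cfsg.Agent.Lib.Helper94_Bridge

variable {F : Type*} [Field F] {m : ℕ}

/-- the conclusion of the structure theorem for subgroups of `Sp_2m(F)`, as a hypothesis -/
def SpAschHyp (m : ℕ) (F : Type*) [Field F] [Fintype F] : Prop :=
  ∀ H : Subgroup (GL (Fin m ⊕ Fin m) F), H ≤ Cfsg.spGL m F →
    H ⊔ (scalars (Fin m ⊕ Fin m) F ⊓ Cfsg.spGL m F) ≠ Cfsg.spGL m F →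
    (∃ M : Subgroup (GL (Fin m ⊕ Fin m) F), InSymplecticClass m F M ∧ H ≤ M) ∨ InSymplecticResidualClass H

/-! ### even dimension -/

lemma even_of_isSymplecticForm {n : ℕ} {f₁ : (Fin n → F) → (Fin n → F) → F}
    (h : IsSymplecticForm f₁) : Even n := by
  let B : LinearMap.BilinForm F (Fin n → F) :=
    LinearMap.mk₂ F f₁ h.bilinear.add_left h.bilinear.smul_left h.bilinear.add_right h.bilinear.smul_right
  have hB : ∀ x y, B x y = f₁ x y := fun _ _ => rfl
  apply Cfsg.Agent.Lib.Helper43_AltEven.even_finrank_of_alt n (Fin n → F) B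
  · intro x; rw [hB]; exact h.alternating x
  · constructor
    · intro x hx
      by_contra hx0
      obtain ⟨y, hy⟩ := (h.nondegenerate x hx0).2
      exact hy (hx y)
    · intro x hx
      by_contra hx0
      obtain ⟨y, hy⟩ := (h.nondegenerate x hx0).1
      exact hy (hx y)
  · exact Module.finrank_fin_fun F

lemma even_finrank_of_nondegenerateOn {W : Submodule F (Fin m ⊕ Fin m → F)}
    (hW : IsNondegenerateOn (Cfsg.sympForm m F) W) : Even (finrank F W) := by
  apply Cfsg.Agent.Lib.Helper43_AltEven.even_finrank_of_alt (finrank F W) W ((Bsymp m F).restrict W)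
  · intro x
    exact Bsymp_isAlt m (x : Fin m ⊕ Fin m → F)
  · constructor
    · intro x hx
      by_contra hx0
      have hx0' : (x : Fin m ⊕ Fin m → F) ≠ 0 := fun h => hx0 (Subtype.ext h)
      obtain ⟨y, hyW, hy⟩ := (hW x x.2 hx0').2
      apply hy
      have := hx ⟨y, hyW⟩
      change Bsymp m F (x : Fin m ⊕ Fin m → F) y = 0 at this
      rw [Bsymp_apply] at this
      exact this
    · intro x hx
      by_contra hx0
      have hx0' : (x : Fin m ⊕ Fin m → F) ≠ 0 := fun h => hx0 (Subtype.ext h)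
      obtain ⟨y, hyW, hy⟩ := (hW x x.2 hx0').1
      apply hy
      have := hx ⟨y, hyW⟩
      change Bsymp m F y (x : Fin m ⊕ Fin m → F) = 0 at this
      rw [Bsymp_apply] at this
      exact this
  · rfl

/-! ### the data of class 6 -/

/-- the data of a member of class 6 in the symplectic case -/
def IsClass6 (m : ℕ) (F : Type*) [Field F] [Fintype F] (R : Subgroup (GL (Fin m ⊕ Fin m) F)) (p k : ℕ) : Prop :=
  IsSymplecticTypeGroup 2 R ∧ ActsAbsolutelyIrreducibly (matrixSet R) ∧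
    R ≤ similarityGroup (Cfsg.sympForm m F) ∧ p.Prime ∧ Odd p ∧ Fintype.card F = p ∧
    Nat.card R = 2 ^ (1 + 2 * k) ∧ Nat.card (Subgroup.center R) = 2 ∧ IsOfMinusType k R

variable [Fintype F]

lemma perfect_hyp (hm : 2 ≤ m) (hex : ¬ (m = 2 ∧ Fintype.card F = 2)) :
    3 ≤ m ∨ (m = 2 ∧ 3 ≤ Fintype.card F) ∨ 4 ≤ Fintype.card F := by
  by_cases h3 : 3 ≤ m
  · exact Or.inl h3
  · right; left
    have h2 : m = 2 := by omega
    refine ⟨h2, ?_⟩
    have := Fintype.one_lt_card (α := F)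
    by_contra hlt
    exact hex ⟨h2, by omega⟩

lemma ne_top_of_finrank_lt {W : Submodule F (Fin m ⊕ Fin m → F)} (h : finrank F W < m) : W ≠ ⊤ := by
  rintro rfl
  rw [finrank_top, Module.finrank_fintype_fun_eq_card, Fintype.card_sum, Fintype.card_fin] at h
  omega

/-- **normal form**: a maximal subgroup of `Sp_2m(F)` is a member of a class or residual -/
theorem max_cases (hm : 2 ≤ m) (hex : ¬ (m = 2 ∧ Fintype.card F = 2)) (hA : SpAschHyp m F)
    (h6 : ∀ (R : Subgroup (GL (Fin m ⊕ Fin m) F)) (p k : ℕ), IsClass6 m F R p k →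
      ¬ Cfsg.spGL m F ≤ subgroupNormalizer R)
    {H : Subgroup (GL (Fin m ⊕ Fin m) F)} (hH : IsMaximalIn (Cfsg.spGL m F) H) :
    InSymplecticClass m F H ∨ InSymplecticResidualClass H := by
  have hne : Nonempty (Fin m ⊕ Fin m) := ⟨Sum.inl ⟨0, by omega⟩⟩
  rcases hA H hH.1.le (sup_scalars_ne (perfect_hyp hm hex) hH) with ⟨M, hM, hHM⟩ | hres
  swap
  · exact Or.inr hres
  left
  have key : ∀ X : Subgroup (GL (Fin m ⊕ Fin m) F), M = X ⊓ Cfsg.spGL m F → ¬ Cfsg.spGL m F ≤ X → H = M := by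
    intro X hMX hX
    rw [hMX]
    exact eq_inf_of_le hH (hHM.trans (hMX ▸ inf_le_left)) hX
  have two_le_symp : ∀ {n : ℕ} {f₁ : (Fin n → F) → (Fin n → F) → F}, IsSymplecticForm f₁ → n ≠ 1 := by
    intro n f₁ h h1
    have := even_of_isSymplecticForm h
    rw [h1] at this
    exact absurd this (by decide)
  suffices hMeq : H = M by rw [hMeq]; exact hM
  rcases hM with (⟨W, hW0, hWs, hMX⟩ | ⟨W, hW0, hWn, hWr, hMX⟩ | ⟨t, k, D, hD, hMX⟩ | ⟨D, hodd, hD, hDs, hMX⟩ |
      ⟨F₀, r, P, ζ, hr, hcard, hζ, hrat, hMX⟩ | ⟨R, p, k, h1, h2, h3, h4, h5, h6', h7, h8, h9, hMX⟩ |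
      ⟨Q, heven, hQ, hpol, hMX⟩) |
    ⟨r, K, hr, hK, hsa, hkv, hMX⟩ | ⟨K, hodd, hK, hac, hnsa, hMX⟩ |
    ⟨n₁, n₂, e, P, f₁, f₂, hodd, hn₂, hf₁, hf₂, hT, hMX⟩ | ⟨k, t, e, P, f₁, hodd, htodd, ht, hne32, hf₁, hT, hMX⟩
  · exact key _ hMX (not_le_subspaceStabilizer W hW0 (ne_top_of_totallySingular (by omega) hWs))
  · exact key _ hMX (not_le_subspaceStabilizer W hW0 (ne_top_of_finrank_lt hWr))
  · exact key _ hMX (not_le_decompositionStabilizer hD.decomp)
  · exact key _ hMX (not_le_decompositionStabilizer hD)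
  · exact key _ hMX (not_le_subfieldSubgroup (by omega) F₀ (subfield_ne_top hr hcard) P)
  · exact key _ hMX (h6 R p k ⟨h1, h2, h3, h4, h5, h6', h7, h8, h9⟩)
  · exact key _ hMX (not_le_quadSimilarityGroup hm heven hpol hQ.smul)
  · exact key _ hMX (not_le_subalgebraNormalizer hm hr.one_lt hK)
  · exact key _ hMX (not_le_subalgebraNormalizer hm (by norm_num) hK)
  · refine key _ hMX (not_le_tensorProductSubgroup n₁ n₂ ?_ (by omega) e P)
    have h1 : n₁ ≠ 1 := two_le_symp hf₁
    have h0 : n₁ ≠ 0 := by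
      rintro rfl
      exact (e (Classical.arbitrary _)).1.elim0
    omega
  · refine key _ hMX (not_le_tensorWreathSubgroup ?_ (by omega) e P)
    have h1 : k ≠ 1 := two_le_symp hf₁
    have h0 : k ≠ 0 := by
      rintro rfl
      exact (e (Classical.arbitrary _) ⟨0, by omega⟩).elim0
    omega

/-! ### arithmetic of the class data -/

omit [Fintype F] in
/-- class 2: `t * k = 2 m` -/
theorem decomp_card {t k : ℕ} {D : Fin t → Submodule F (Fin m ⊕ Fin m → F)} (hD : IsMDecomposition k D) :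
    t * k = 2 * m := by
  have hint : DirectSum.IsInternal D :=
    DirectSum.isInternal_submodule_of_iSupIndep_of_iSup_eq_top hD.indep hD.iSup_eq_top
  let b : Module.Basis (Σ _ : Fin t, Fin k) F (Fin m ⊕ Fin m → F) :=
    hint.collectedBasis (fun i => Module.finBasisOfFinrankEq F (D i) (hD.finrank_eq i))
  have h := Module.finrank_eq_card_basis b
  simp at h
  omega

omit [Fintype F] in
/-- class 2, non-degenerate members: `k` is even -/
theorem decomp_even {t k : ℕ} {D : Fin t → Submodule F (Fin m ⊕ Fin m → F)}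
    (hD : IsNondegenerateMDecomposition (Cfsg.sympForm m F) k D) : Even k := by
  have ht := hD.decomp.two_le
  have := even_finrank_of_nondegenerateOn (hD.nondegenerate ⟨0, by omega⟩)
  rwa [hD.decomp.finrank_eq] at this

omit [Fintype F] in
/-- class 3: `r ∣ 2 m` -/
theorem fieldSubalgebra_dvd (hm : 0 < m) {r : ℕ}
    {K : Subalgebra F (Matrix (Fin m ⊕ Fin m) (Fin m ⊕ Fin m) F)} (hK : IsFieldSubalgebra r K) :
    r ∣ 2 * m := by
  have : Nonempty (Fin m ⊕ Fin m) := ⟨Sum.inl ⟨0, hm⟩⟩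
  have h := Cfsg.Agent.Lib.Helper63_SpExt_QB1.QB1 r K hK ⊤ (fun _ _ _ _ => Submodule.mem_top)
  rw [finrank_top, Module.finrank_fintype_fun_eq_card, Fintype.card_sum, Fintype.card_fin] at h
  rw [two_mul]
  exact h

omit [Fintype F] in
/-- a non-degenerate subspace of dimension less than two is zero -/
lemma eq_bot_of_nondegenerateOn_of_lt_two {W : Submodule F (Fin m ⊕ Fin m → F)}
    (hW : IsNondegenerateOn (Cfsg.sympForm m F) W) (h : finrank F W < 2) : W = ⊥ := by
  obtain ⟨a, ha⟩ := even_finrank_of_nondegenerateOn hW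
  apply Submodule.finrank_eq_zero.mp
  omega

end Cfsg.Agent.Lib.Helper67_SpAschRows
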