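import Mathlib
import Cfsg.Prelude.Def_GeometricClasses
import Cfsg.Agent.Lib.Helper67_SpAschRows
import Cfsg.Agent.Lib.Helper5_PSpSimple
import Cfsg.Agent.Lib.Helper5_SpPerfect

/-!
helper30: the symplectic group `Sp_2m(F)` normalises no member datum of class 6 (general `m ≥ 2`), and the
dichotomy "a subgroup of `Sp` normalised by `Sp` is scalar or everything".
-/

set_option autoImplicit false

namespace Cfsg.Agent.Lib.Helper30_SpC6

open Matrix Module Cfsg.Geo
open Cfsg.Agent.Lib.Helper13_Symp Cfsg.Agent.Lib.Helper13_SympTrans Cfsg.Agent.Lib.Helper67_SpAschMax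
  Cfsg.Agent.Lib.Helper67_SpAschRows Cfsg.Agent.Lib.Helper5_PSpSimple
open scoped commutatorElement

variable {F : Type*} [Field F] {m : ℕ}

/-- the embedding of Mathlib's symplectic group into `GL` -/
noncomputable def emb (m : ℕ) (F : Type*) [Field F] :
    Matrix.symplecticGroup (Fin m) F →* GL (Fin m ⊕ Fin m) F :=
  (Cfsg.spGL m F).subtype.comp (toSpGL m)

lemma emb_mem (s : Matrix.symplecticGroup (Fin m) F) : emb m F s ∈ Cfsg.spGL m F := (toSpGL m s).2

lemma emb_val (s : Matrix.symplecticGroup (Fin m) F) :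
    ((emb m F s : GL (Fin m ⊕ Fin m) F) : Matrix (Fin m ⊕ Fin m) (Fin m ⊕ Fin m) F) = s.1 := rfl

lemma exists_emb_eq {x : GL (Fin m ⊕ Fin m) F} (hx : x ∈ Cfsg.spGL m F) :
    ∃ s : Matrix.symplecticGroup (Fin m) F, emb m F s = x := by
  refine ⟨fromSpGL m ⟨x, hx⟩, ?_⟩
  show ((toSpGL m (fromSpGL m ⟨x, hx⟩) : ↥(Cfsg.spGL m F)) : GL (Fin m ⊕ Fin m) F) = x
  rw [toSpGL_fromSpGL]

lemma emb_transv (u : Fin m ⊕ Fin m → F) (c : F) : emb m F (transv m u c) = tvSp u c := rfl

lemma scalars_comm' {ι : Type} [Fintype ι] [DecidableEq ι] {z : GL ι F} (hz : z ∈ scalars ι F) (g : GL ι F) :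
    z * g = g * z := by
  obtain ⟨c, hc⟩ := (mem_scalars_iff z).mp hz
  apply Units.ext
  rw [Units.val_mul, Units.val_mul, hc]
  simp

/-- a `GL` element commuting with all symplectic transvections is scalar -/
lemma mem_scalars_of_commute_tvSp (hm : 0 < m) {x : GL (Fin m ⊕ Fin m) F}
    (h : ∀ u : Fin m ⊕ Fin m → F, tvSp u 1 * x = x * tvSp u 1) : x ∈ scalars (Fin m ⊕ Fin m) F := by
  obtain ⟨c, hc⟩ := eq_smul_one_of_commute_tvSp hm (x : Matrix (Fin m ⊕ Fin m) (Fin m ⊕ Fin m) F) (by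
    intro u
    have := congrArg (fun g : GL (Fin m ⊕ Fin m) F => (g : Matrix (Fin m ⊕ Fin m) (Fin m ⊕ Fin m) F)) (h u)
    simpa only [Units.val_mul] using this)
  have hc0 : c ≠ 0 := by
    rintro rfl
    rw [zero_smul] at hc
    have h1 : (x : Matrix (Fin m ⊕ Fin m) (Fin m ⊕ Fin m) F) * ((x⁻¹ : GL (Fin m ⊕ Fin m) F) :
        Matrix (Fin m ⊕ Fin m) (Fin m ⊕ Fin m) F) = 1 := by
      rw [← Units.val_mul, mul_inv_cancel, Units.val_one]
    rw [hc, Matrix.zero_mul] at h1
    have h2 := congrFun (congrFun h1 (Sum.inl ⟨0, hm⟩)) (Sum.inl ⟨0, hm⟩)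
    simp at h2
  rw [mem_scalars_iff]
  exact ⟨Units.mk0 c hc0, hc⟩

/-- a subgroup of `Sp_2m(F)` normalised by it is scalar or everything -/
theorem le_scalars_or_eq [Fintype F] (hm : 2 ≤ m) (h3 : m = 2 → 3 ≤ Fintype.card F)
    {N : Subgroup (GL (Fin m ⊕ Fin m) F)} (hNS : N ≤ Cfsg.spGL m F)
    (hnorm : ∀ s ∈ Cfsg.spGL m F, ∀ x ∈ N, s * x * s⁻¹ ∈ N) :
    N ≤ scalars (Fin m ⊕ Fin m) F ∨ N = Cfsg.spGL m F := by
  have hperf : commutator (Matrix.symplecticGroup (Fin m) F) = ⊤ := by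
    apply Cfsg.Agent.Lib.Helper5_SpPerfect.sp_perfect
    rcases Nat.lt_or_ge 2 m with h | h
    · left; omega
    · right; left
      have : m = 2 := by omega
      exact ⟨this, h3 this⟩
  have hsimple : IsSimpleGroup (Cfsg.PSp m F) := psp_simple m hm h3
  set N' : Subgroup (Matrix.symplecticGroup (Fin m) F) := N.comap (emb m F) with hN'
  have hN'n : N'.Normal := by
    constructor
    intro x hx s
    show emb m F (s * x * s⁻¹) ∈ N
    rw [map_mul, map_mul, map_inv]
    exact hnorm _ (emb_mem s) _ hx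
  set π : Matrix.symplecticGroup (Fin m) F →* Cfsg.PSp m F :=
    QuotientGroup.mk' (Subgroup.center (Matrix.symplecticGroup (Fin m) F)) with hπ
  have hπsurj : Function.Surjective π := QuotientGroup.mk'_surjective _
  have hmapn : (N'.map π).Normal := hN'n.map π hπsurj
  rcases hmapn.eq_bot_or_eq_top with hbot | htop
  · left
    have hle : N' ≤ Subgroup.center (Matrix.symplecticGroup (Fin m) F) := by
      have := (Subgroup.map_eq_bot_iff N').1 hbot
      rwa [hπ, QuotientGroup.ker_mk'] at this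
    intro x hx
    obtain ⟨s, rfl⟩ := exists_emb_eq (hNS hx)
    have hs : s ∈ Subgroup.center (Matrix.symplecticGroup (Fin m) F) := hle hx
    rw [Subgroup.mem_center_iff] at hs
    apply mem_scalars_of_commute_tvSp (by omega)
    intro u
    have := congrArg (emb m F) (hs (transv m u 1))
    rw [map_mul, map_mul, emb_transv] at this
    exact this
  · right
    have hsup : N' ⊔ Subgroup.center (Matrix.symplecticGroup (Fin m) F) = ⊤ := by
      have := congrArg (Subgroup.comap π) htop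
      rw [Subgroup.comap_map_eq, hπ, QuotientGroup.ker_mk', Subgroup.comap_top] at this
      exact this
    have hcomm : ⁅(⊤ : Subgroup (Matrix.symplecticGroup (Fin m) F)), ⊤⁆ ≤ N' :=
      Cfsg.Agent.Lib.Helper30_AschMax.commutator_le_of_le_sup_central
        (Z := Subgroup.center (Matrix.symplecticGroup (Fin m) F))
        (fun z hz g => ((Subgroup.mem_center_iff.1 hz) g).symm) hsup.ge
    have hN'top : N' = ⊤ := by
      rw [eq_top_iff]
      calc (⊤ : Subgroup (Matrix.symplecticGroup (Fin m) F))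
          = commutator (Matrix.symplecticGroup (Fin m) F) := hperf.symm
        _ ≤ N' := hcomm
    apply le_antisymm hNS
    intro y hy
    obtain ⟨s, rfl⟩ := exists_emb_eq hy
    have : s ∈ N' := by rw [hN'top]; trivial
    exact this

/-- similarities of the symplectic form normalise the symplectic group -/
lemma conj_mem_spGL {x s : GL (Fin m ⊕ Fin m) F} (hx : x ∈ similarityGroup (Cfsg.sympForm m F))
    (hs : s ∈ Cfsg.spGL m F) : x * s * x⁻¹ ∈ Cfsg.spGL m F := by
  obtain ⟨c, hc⟩ := hx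
  rw [mem_spGL_iff] at hs ⊢
  intro u v
  have hxx : ∀ w : Fin m ⊕ Fin m → F, (x : Matrix (Fin m ⊕ Fin m) (Fin m ⊕ Fin m) F) *ᵥ
      (((x⁻¹ : GL (Fin m ⊕ Fin m) F) : Matrix (Fin m ⊕ Fin m) (Fin m ⊕ Fin m) F) *ᵥ w) = w := by
    intro w
    rw [Matrix.mulVec_mulVec, ← Units.val_mul, mul_inv_cancel, Units.val_one, Matrix.one_mulVec]
  rw [Units.val_mul, Units.val_mul, ← Matrix.mulVec_mulVec, ← Matrix.mulVec_mulVec, ← Matrix.mulVec_mulVec,
    ← Matrix.mulVec_mulVec, hc, hs, ← hc, hxx, hxx]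

lemma tvSp_pow_mulVec (w : Fin m ⊕ Fin m → F) (c : F) (n : ℕ) (x : Fin m ⊕ Fin m → F) :
    (((tvSp w c) ^ n : GL (Fin m ⊕ Fin m) F) : Matrix (Fin m ⊕ Fin m) (Fin m ⊕ Fin m) F) *ᵥ x =
      x + ((n : F) * c * Cfsg.sympForm m F x w) • w := by
  induction n generalizing x with
  | zero => simp
  | succ n ih =>
    rw [pow_succ, Units.val_mul, ← Matrix.mulVec_mulVec, tvSp_mulVec, ih]
    rw [sympForm_add_left, sympForm_smul_left, sympForm_self]
    push_cast
    module

/-- scalar groups are not irreducible in dimension at least two -/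
lemma not_irreducible_of_le_scalars (hm : 1 ≤ m) {R : Subgroup (GL (Fin m ⊕ Fin m) F)}
    (hR : R ≤ scalars (Fin m ⊕ Fin m) F) : ¬ ActsIrreducibly (matrixSet R) := by
  intro h
  set u : Fin m ⊕ Fin m → F := Pi.single (Sum.inl ⟨0, by omega⟩) 1 with hu
  have hu0 : u ≠ 0 := by
    intro h
    have := congrFun h (Sum.inl ⟨0, by omega⟩)
    simp [hu] at this
  have hinv : ∀ s ∈ matrixSet R, (Submodule.span F {u}).map (Matrix.toLin' s) ≤ Submodule.span F {u} := by
    rintro _ ⟨g, hg, rfl⟩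
    obtain ⟨c, hc⟩ := (mem_scalars_iff g).mp (hR hg)
    rintro _ ⟨v, hv, rfl⟩
    rw [Matrix.toLin'_apply]
    dsimp only
    rw [hc, Matrix.smul_mulVec, Matrix.one_mulVec]
    exact Submodule.smul_mem _ _ hv
  rcases h _ hinv with h0 | h1
  · have : u ∈ Submodule.span F {u} := Submodule.mem_span_singleton_self u
    rw [h0, Submodule.mem_bot] at this
    exact hu0 this
  · have h2 := finrank_span_singleton (K := F) hu0
    rw [h1, finrank_top, Module.finrank_fintype_fun_eq_card, Fintype.card_sum, Fintype.card_fin] at h2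
    omega

/-- **class 6**: `Sp_2m(F)` does not normalise the `2`-group of a class-6 datum -/
theorem not_le_subgroupNormalizer [Fintype F] (hm : 2 ≤ m) {R : Subgroup (GL (Fin m ⊕ Fin m) F)} {p k : ℕ}
    (h : IsClass6 m F R p k) : ¬ Cfsg.spGL m F ≤ subgroupNormalizer R := by
  obtain ⟨hsymp, hirr, hsim, hp, hpodd, hcard, hRcard, -, -⟩ := h
  intro hle
  have hq3 : 3 ≤ Fintype.card F := by
    rw [hcard]
    have := hp.two_le
    rcases hpodd with ⟨a, ha⟩
    omega
  have h2 : (2 : F) ≠ 0 := by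
    intro h
    have hchar : ringChar F = 2 := CharP.ringChar_of_prime_eq_zero Nat.prime_two h
    have := FiniteField.even_card_of_char_two hchar
    rw [hcard] at this
    rw [Nat.odd_iff] at hpodd
    omega
  have hperf : ⁅Cfsg.spGL m F, Cfsg.spGL m F⁆ = Cfsg.spGL m F := by
    apply commutator_spGL
    rcases Nat.lt_or_ge 2 m with h | h
    · left; omega
    · right; left
      exact ⟨by omega, hq3⟩
  have hnorm : ∀ s ∈ Cfsg.spGL m F, ∀ x ∈ R ⊓ Cfsg.spGL m F, s * x * s⁻¹ ∈ R ⊓ Cfsg.spGL m F := by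
    intro s hs x hx
    refine ⟨?_, Subgroup.mul_mem _ (Subgroup.mul_mem _ hs hx.2) (Subgroup.inv_mem _ hs)⟩
    exact (Subgroup.mem_normalizer_iff.mp (hle hs) x).mp hx.1
  rcases le_scalars_or_eq hm (fun _ => hq3) inf_le_right hnorm with h | h
  · -- `⁅S, R⁆` is scalar
    have hSR : ⁅Cfsg.spGL m F, R⁆ ≤ scalars (Fin m ⊕ Fin m) F := by
      rw [Subgroup.commutator_le]
      intro s hs x hx
      apply h
      rw [commutatorElement_def]
      refine ⟨?_, ?_⟩
      · exact R.mul_mem ((Subgroup.mem_normalizer_iff.mp (hle hs) x).mp hx) (R.inv_mem hx)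
      · have : s * x * s⁻¹ * x⁻¹ = s * (x * s⁻¹ * x⁻¹) := by group
        rw [this]
        exact Subgroup.mul_mem _ hs (conj_mem_spGL (hsim hx) (Subgroup.inv_mem _ hs))
    have hcent : ⁅Cfsg.spGL m F, R⁆ ≤ Subgroup.centralizer (Cfsg.spGL m F : Set (GL (Fin m ⊕ Fin m) F)) := by
      intro z hz
      rw [Subgroup.mem_centralizer_iff]
      intro g _
      exact (scalars_comm' (hSR hz) g).symm
    have h1 : ⁅⁅Cfsg.spGL m F, R⁆, Cfsg.spGL m F⁆ = ⊥ :=
      Subgroup.commutator_eq_bot_iff_le_centralizer.mpr hcent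
    have h2' : ⁅⁅R, Cfsg.spGL m F⁆, Cfsg.spGL m F⁆ = ⊥ := by
      rw [Subgroup.commutator_comm R]
      exact h1
    have h3 := Subgroup.commutator_commutator_eq_bot_of_rotate h1 h2'
    rw [hperf, Subgroup.commutator_eq_bot_iff_le_centralizer] at h3
    apply not_irreducible_of_le_scalars (by omega) _ hirr.1
    intro x hx
    apply mem_scalars_of_commute_tvSp (by omega)
    intro u
    have := Subgroup.mem_centralizer_iff.mp (h3 (tvSp_mem u 1)) x hx
    exact this.symm
  · -- `Sp ≤ R`, but `R` is a `2`-group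
    have hSR : Cfsg.spGL m F ≤ R := h ▸ inf_le_left
    set w : Fin m ⊕ Fin m → F := Pi.single (Sum.inl ⟨0, by omega⟩) 1 with hw
    have hw0 : w ≠ 0 := by
      intro h
      have := congrFun h (Sum.inl ⟨0, by omega⟩)
      simp [hw] at this
    obtain ⟨x, hx⟩ := exists_form_eq_one hw0
    have hmem : tvSp w 1 ∈ R := hSR (tvSp_mem w 1)
    have hfinR : Finite R := Nat.finite_of_card_ne_zero (by rw [hRcard]; positivity)
    have hpow : (⟨tvSp w 1, hmem⟩ : R) ^ Nat.card R = 1 := pow_card_eq_one'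
    have hpow' : (tvSp w 1) ^ (2 ^ (1 + 2 * k)) = 1 := by
      have := congrArg Subtype.val hpow
      rw [hRcard] at this
      simpa using this
    have h4 := tvSp_pow_mulVec w 1 (2 ^ (1 + 2 * k)) x
    rw [hpow', Units.val_one, Matrix.one_mulVec, hx, mul_one, mul_one] at h4
    have h5 : (((2 ^ (1 + 2 * k) : ℕ) : F)) • w = 0 := by
      have := h4.symm
      rwa [add_eq_left] at this
    rw [smul_eq_zero] at h5
    rcases h5 with h5 | h5
    · push_cast at h5
      exact h2 (pow_eq_zero_iff (by omega) |>.mp h5)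
    · exact hw0 h5

end Cfsg.Agent.Lib.Helper30_SpC6
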