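import Mathlib
import Cfsg.Statements.S5805
import Cfsg.Agent.Lib.Helper94_Bridge
import Cfsg.Agent.Lib.Helper94_Symp
import Cfsg.Agent.Lib.Helper23_FormDefs

/-!
helper30: over the field with two elements the stabiliser in `Sp_2m(2)` of a decomposition into pairwise orthogonal
non-degenerate planes preserves the quadratic form that is the sum of the anisotropic forms of the planes
(the construction of `Cfsg.Agent.S5648`, restated for the geometric-class vocabulary).
-/

set_option autoImplicit false

namespace Cfsg.Agent.Lib.Helper30_SpQuad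

open Module Cfsg Cfsg.Geo Cfsg.Agent.Lib.Helper94_Symp Cfsg.Agent.Lib.Helper94_Bridge

section Abstract

variable {F V : Type*} [Field F] [AddCommGroup V] [Module F V]

/-- In a nondegenerate plane over the field with two elements, two distinct nonzero vectors
pair nontrivially. -/
lemma pair_ne_zero [FiniteDimensional F V] (B : LinearMap.BilinForm F V) (hB : B.IsAlt)
    (hF : ∀ c : F, c = 0 ∨ c = 1) {W : Submodule F V} (hW : NondegOn B W)
    (h2 : finrank F W = 2) {a b : V} (ha : a ∈ W) (hb : b ∈ W) (ha0 : a ≠ 0) (hb0 : b ≠ 0)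
    (hab : a ≠ b) : B a b ≠ 0 := by
  intro h
  set X : Submodule F V := W ⊓ LinearMap.ker (B a) with hX
  have haX : a ∈ X := ⟨ha, by rw [SetLike.mem_coe, LinearMap.mem_ker]; exact hB a⟩
  have hbX : b ∈ X := ⟨hb, by rw [SetLike.mem_coe, LinearMap.mem_ker]; exact h⟩
  obtain ⟨x, hx, hxa⟩ := hW a ha ha0
  have hlt : X < W := by
    refine lt_of_le_of_ne inf_le_left ?_
    intro heq
    have hxX : x ∈ X := by rw [heq]; exact hx
    have := hxX.2
    rw [SetLike.mem_coe, LinearMap.mem_ker] at this
    exact alt_ne_zero_comm B hB hxa this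
  have hfin : finrank F X ≤ 1 := by
    have := Submodule.finrank_lt_finrank_of_lt hlt
    omega
  obtain ⟨v, hv⟩ := finrank_le_one_iff.mp hfin
  obtain ⟨c1, hc1⟩ := hv ⟨a, haX⟩
  obtain ⟨c2, hc2⟩ := hv ⟨b, hbX⟩
  have e1 : c1 • (v : V) = a := congrArg Subtype.val hc1
  have e2 : c2 • (v : V) = b := congrArg Subtype.val hc2
  rcases hF c1 with rfl | rfl
  · rw [zero_smul] at e1; exact ha0 e1.symm
  rcases hF c2 with rfl | rfl
  · rw [zero_smul] at e2; exact hb0 e2.symm
  rw [one_smul] at e1 e2
  exact hab (e1.symm.trans e2)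

/-- the sum of the anisotropic forms of the planes of an orthogonal decomposition over the field with two elements -/
theorem exists_quad [FiniteDimensional F V] (B : LinearMap.BilinForm F V) (hB : B.IsAlt)
    (hN : B.Nondegenerate) (hF : ∀ c : F, c = 0 ∨ c = 1)
    {t : ℕ} (D : Fin t → Submodule F V) (hfr : ∀ i, finrank F (D i) = 2) (hsup : iSup D = ⊤)
    (hnd : ∀ i, NondegOn B (D i)) (horth : ∀ i j, i ≠ j → ∀ u ∈ D i, ∀ v ∈ D j, B u v = 0) :
    ∃ Q : V → F, (∀ u v : V, Q (u + v) = Q u + Q v + B u v) ∧ (∀ (c : F) (v : V), Q (c • v) = c * c * Q v) ∧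
      ∀ T : V →ₗ[F] V, Function.Injective T → ∀ σ : Equiv.Perm (Fin t),
        (∀ i, (D i).map T = D (σ i)) → ∀ x, Q (T x) = Q x := by
  classical
  have hR : B.IsRefl := hB.isRefl
  have h2 : (2 : F) = 0 := by
    rcases hF 2 with h | h
    · exact h
    · exfalso
      have : (1 : F) = 0 := by linear_combination h
      exact one_ne_zero this
  have hchar : CharP F 2 := CharTwo.of_one_ne_zero_of_two_eq_zero one_ne_zero h2
  have hcompl : ∀ i, IsCompl (D i) (B.orthogonal (D i)) := by
    intro i
    have hdisj : D i ⊓ B.orthogonal (D i) = ⊥ := by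
      rw [eq_bot_iff]
      intro z hz
      obtain ⟨hz1, hz2⟩ := Submodule.mem_inf.mp hz
      by_contra hz0
      obtain ⟨y, hy, hyz⟩ := hnd i z hz1 hz0
      exact hyz ((mem_orth B).mp hz2 y hy)
    exact (LinearMap.BilinForm.isCompl_orthogonal_iff_disjoint hR).mpr (disjoint_iff.mpr hdisj)
  have hDorth : ∀ i j, i ≠ j → D j ≤ B.orthogonal (D i) := fun i j hij v hv =>
    (mem_orth B).mpr (fun n hn => horth i j hij n hn v hv)
  have hall : ∀ x : V, (∀ i, x ∈ B.orthogonal (D i)) → x = 0 := by
    intro x hx
    apply hN.2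
    intro y
    have hle : iSup D ≤ LinearMap.ker (B.flip x) := by
      apply iSup_le
      intro i v hv
      rw [LinearMap.mem_ker]
      change B v x = 0
      exact (mem_orth B).mp (hx i) v hv
    have hy : y ∈ iSup D := by rw [hsup]; trivial
    have := hle hy
    rw [LinearMap.mem_ker] at this
    exact this
  -- the component projections
  let P : Fin t → V →ₗ[F] V := fun i => Submodule.projection (D i) (B.orthogonal (D i)) (hcompl i)
  have hP_mem : ∀ i x, P i x ∈ D i := fun i x => Submodule.projection_apply_mem (hcompl i) x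
  have hP_left : ∀ i, ∀ a ∈ D i, P i a = a := fun i a ha =>
    Submodule.projection_apply_of_mem_left (hcompl i) ha
  have hP_zero : ∀ i x, P i x = 0 ↔ x ∈ B.orthogonal (D i) := fun i x =>
    Submodule.projection_apply_eq_zero_iff (hcompl i)
  have hP_sub : ∀ i x, x - P i x ∈ B.orthogonal (D i) := by
    intro i x
    rw [← hP_zero, map_sub, hP_left i _ (hP_mem i x), sub_self]
  have hP_other : ∀ i j, i ≠ j → ∀ a ∈ D j, P i a = 0 := fun i j hij a ha =>
    (hP_zero i a).mpr (hDorth i j hij ha)
  have hP_sum : ∀ x, ∑ i, P i x = x := by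
    intro x
    have : x - ∑ i, P i x = 0 := by
      apply hall
      intro j
      rw [← hP_zero, map_sub, map_sum, Finset.sum_eq_single j, hP_left j _ (hP_mem j x), sub_self]
      · intro i _ hij
        exact hP_other j i (Ne.symm hij) _ (hP_mem i x)
      · intro h; exact absurd (Finset.mem_univ j) h
    exact (sub_eq_zero.mp this).symm
  have hB_P : ∀ i, ∀ d ∈ D i, ∀ y, B d y = B d (P i y) := by
    intro i d hd y
    have := (mem_orth B).mp (hP_sub i y) d hd
    rw [map_sub, sub_eq_zero] at this
    exact this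
  have hB_sum : ∀ x y, B x y = ∑ i, B (P i x) (P i y) := by
    intro x y
    conv_lhs => rw [← hP_sum x]
    rw [map_sum, LinearMap.sum_apply]
    exact Finset.sum_congr rfl (fun i _ => hB_P i _ (hP_mem i x) y)
  -- the quadratic map
  let q : V → F := fun a => if a = 0 then 0 else 1
  have hq_polar : ∀ i, ∀ a ∈ D i, ∀ b ∈ D i, q (a + b) = q a + q b + B a b := by
    intro i a ha b hb
    by_cases ha0 : a = 0
    · subst ha0; simp [q]
    by_cases hb0 : b = 0
    · subst hb0; simp [q]
    by_cases hab : a = b
    · subst hab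
      have haa : a + a = 0 := by rw [← two_smul F a, h2, zero_smul]
      simp only [q, haa, ha0, if_true, if_false, hB a, add_zero]
      rw [CharTwo.add_self_eq_zero]
    · have hne := pair_ne_zero B hB hF (hnd i) (hfr i) ha hb ha0 hb0 hab
      have h1 : B a b = 1 := (hF _).resolve_left hne
      have hsum : a + b ≠ 0 := by
        intro h
        apply hab
        have haa : b + b = 0 := by rw [← two_smul F b, h2, zero_smul]
        calc a = a + (b + b) := by rw [haa, add_zero]
          _ = (a + b) + b := by rw [add_assoc]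
          _ = b := by rw [h, zero_add]
      simp only [q, hsum, ha0, hb0, if_false, h1]
      rw [CharTwo.add_self_eq_zero, zero_add]
  let Q : V → F := fun x => ∑ i, q (P i x)
  have hQp : ∀ u v : V, Q (u + v) = Q u + Q v + B u v := by
    intro u v
    simp only [Q]
    rw [hB_sum u v, ← Finset.sum_add_distrib, ← Finset.sum_add_distrib]
    refine Finset.sum_congr rfl (fun i _ => ?_)
    rw [map_add]
    exact hq_polar i _ (hP_mem i u) _ (hP_mem i v)
  have hQs : ∀ (c : F) (v : V), Q (c • v) = c * c * Q v := by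
    intro c v
    rcases hF c with rfl | rfl
    · simp [Q, q]
    · rw [one_smul, one_mul, one_mul]
  refine ⟨Q, hQp, hQs, ?_⟩
  intro T hT σ hσ x
  have hgD : ∀ i, ∀ a ∈ D i, T a ∈ D (σ i) := by
    intro i a ha
    rw [← hσ i]
    exact Submodule.mem_map_of_mem ha
  have hcomp : ∀ i, P (σ i) (T x) = T (P i x) := by
    intro i
    conv_lhs => rw [← hP_sum x]
    rw [map_sum, map_sum, Finset.sum_eq_single i]
    · exact hP_left (σ i) _ (hgD i _ (hP_mem i x))
    · intro j _ hji
      apply hP_other (σ i) (σ j) (fun h => hji (σ.injective h).symm)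
      exact hgD j _ (hP_mem j x)
    · intro h; exact absurd (Finset.mem_univ i) h
  simp only [Q]
  rw [← Equiv.sum_comp σ (fun k => q (P k (T x)))]
  refine Finset.sum_congr rfl (fun i _ => ?_)
  rw [hcomp i]
  simp only [q]
  by_cases h0 : P i x = 0
  · rw [h0, map_zero]
  · have : T (P i x) ≠ 0 := fun h => h0 (hT (by rw [h, map_zero]))
    rw [if_neg h0, if_neg this]

end Abstract

variable {F : Type*} [Field F]

/-- Over the field with two elements, the stabiliser in `Sp_2m(2)` of a decomposition into pairwise orthogonal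
non-degenerate planes lies in the similarity group of a non-degenerate quadratic form with polar form the symplectic form. -/
theorem quad_of_decomp_two [Fintype F] {m : ℕ} (hq : Fintype.card F = 2) {t : ℕ}
    {D : Fin t → Submodule F (Fin m ⊕ Fin m → F)}
    (hD : IsNondegenerateMDecomposition (sympForm m F) 2 D) :
    ∃ Q : (Fin m ⊕ Fin m → F) → F, IsNondegenerateQuadraticForm Q ∧
      (∀ u v, QuadraticMap.polar Q u v = sympForm m F u v) ∧
      decompositionStabilizer D ⊓ spGL m F ≤ quadSimilarityGroup Q := by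
  classical
  have hF : ∀ c : F, c = 0 ∨ c = 1 := by
    intro c
    by_contra hcon
    push Not at hcon
    have hsub : ({0, 1, c} : Finset F) ⊆ Finset.univ := Finset.subset_univ _
    have hcard : ({0, 1, c} : Finset F).card = 3 := by
      rw [Finset.card_insert_of_notMem, Finset.card_insert_of_notMem, Finset.card_singleton]
      · simp only [Finset.mem_singleton]; exact fun h => hcon.2 h.symm
      · simp only [Finset.mem_insert, Finset.mem_singleton, not_or]
        exact ⟨zero_ne_one, fun h => hcon.1 h.symm⟩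
    have := Finset.card_le_card hsub
    rw [hcard, Finset.card_univ, hq] at this
    omega
  obtain ⟨Q, hQp, hQs, hQinv⟩ := exists_quad (Bsymp m F) (Bsymp_isAlt m) (Bsymp_nondegenerate m) hF
    D hD.decomp.finrank_eq hD.decomp.iSup_eq_top
    (by
      intro i w hw hw0
      obtain ⟨x, hx, hxw⟩ := (hD.nondegenerate i w hw hw0).1
      exact ⟨x, hx, by rw [Bsymp_apply]; exact hxw⟩)
    (by
      intro i j hij u hu v hv
      rw [Bsymp_apply]
      exact hD.orthogonal i j hij u hu v hv)
  have hpolar : QuadraticMap.polar Q = sympForm m F := by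
    funext u v
    rw [QuadraticMap.polar, hQp, Bsymp_apply]
    ring
  have hsymp := Cfsg.Agent.Lib.Helper23_FormDefs.isSymplecticForm_sympForm (F := F) m
  refine ⟨Q, ⟨?_, ?_, ?_⟩, fun u v => by rw [hpolar], ?_⟩
  · intro c v
    rw [hQs, pow_two]
  · rw [hpolar]; exact hsymp.bilinear
  · rw [hpolar]; exact hsymp.nondegenerate
  · rintro g ⟨⟨σ, hσ⟩, -⟩
    refine ⟨1, fun v => ?_⟩
    rw [Units.val_one, one_mul]
    have hinj : Function.Injective (Matrix.toLin' (g : Matrix (Fin m ⊕ Fin m) (Fin m ⊕ Fin m) F)) := by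
      rw [← LinearMap.ker_eq_bot, LinearMap.ker_eq_bot']
      intro x hx
      rw [Matrix.toLin'_apply] at hx
      calc x = (((g⁻¹ : Matrix.GeneralLinearGroup (Fin m ⊕ Fin m) F) : Matrix (Fin m ⊕ Fin m) (Fin m ⊕ Fin m) F) *
            (g : Matrix (Fin m ⊕ Fin m) (Fin m ⊕ Fin m) F)).mulVec x := by
            rw [← Units.val_mul, inv_mul_cancel, Units.val_one, Matrix.one_mulVec]
        _ = 0 := by rw [← Matrix.mulVec_mulVec, hx, Matrix.mulVec_zero]
    have := hQinv (Matrix.toLin' (g : Matrix (Fin m ⊕ Fin m) (Fin m ⊕ Fin m) F)) hinj σ hσ v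
    rwa [Matrix.toLin'_apply] at this

end Cfsg.Agent.Lib.Helper30_SpQuad
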