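import Mathlib
import Cfsg.Prelude.Def_GeometricClasses
import Cfsg.Agent.Lib.Helper67_SpAschRows
import Cfsg.Agent.Lib.Helper97_AschC6

/-!
helper67: arithmetic of the class data in the symplectic case: the degree of a self-adjoint field
subalgebra divides `m` (invariant Lagrangian), and the dimension of a class-6 member is `2 ^ k`.
-/

set_option autoImplicit false

namespace Cfsg.Agent.Lib.Helper67_SpAschC3

open Matrix Module Cfsg.Geo
open Cfsg.Agent.Lib.Helper13_Symp Cfsg.Agent.Lib.Helper13_SympTrans Cfsg.Agent.Lib.Helper67_SpAschMax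
  Cfsg.Agent.Lib.Helper67_SpAschMaxB Cfsg.Agent.Lib.Helper67_SpAschRows Cfsg.Agent.Lib.Helper94_Bridge

variable {F : Type*} [Field F] {m : ℕ}

/-- class 3, self-adjoint case: the degree divides `m` (there is a `K`-invariant Lagrangian) -/
theorem fieldSubalgebra_selfAdjoint_dvd (hm : 0 < m) {r : ℕ}
    {K : Subalgebra F (Matrix (Fin m ⊕ Fin m) (Fin m ⊕ Fin m) F)} (hK : IsFieldSubalgebra r K)
    (hsa : IsSelfAdjointFor (Cfsg.sympForm m F) K)
    (hkv : ∀ k ∈ K, ∀ v : Fin m ⊕ Fin m → F, Cfsg.sympForm m F (k *ᵥ v) v = 0) : r ∣ m := by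
  classical
  have : Nonempty (Fin m ⊕ Fin m) := ⟨Sum.inl ⟨0, hm⟩⟩
  let S : Set (Submodule F (Fin m ⊕ Fin m → F)) :=
    {L | (∀ a ∈ K, ∀ w ∈ L, a *ᵥ w ∈ L) ∧ IsTotallySingularFor (Cfsg.sympForm m F) L}
  have hS0 : (⊥ : Submodule F (Fin m ⊕ Fin m → F)) ∈ S := by
    refine ⟨fun a _ w hw => ?_, fun u hu v _ => ?_⟩
    · rw [Submodule.mem_bot] at hw ⊢
      rw [hw, Matrix.mulVec_zero]
    · rw [Submodule.mem_bot] at hu
      rw [hu, sympForm_zero_left]
  obtain ⟨L, hLS, hmax⟩ := WellFounded.has_min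
    (wellFounded_gt (α := Submodule F (Fin m ⊕ Fin m → F))) S ⟨⊥, hS0⟩
  obtain ⟨hLK, hLs⟩ := hLS
  -- the orthogonal of `L` is contained in `L`
  have hperp : ∀ v : Fin m ⊕ Fin m → F, (∀ w ∈ L, Cfsg.sympForm m F w v = 0) → v ∈ L := by
    intro v hv
    let φ : K →ₗ[F] (Fin m ⊕ Fin m → F) :=
      { toFun := fun a => (a : Matrix (Fin m ⊕ Fin m) (Fin m ⊕ Fin m) F) *ᵥ v
        map_add' := fun a b => by simp [Matrix.add_mulVec]
        map_smul' := fun c a => by simp [Matrix.smul_mulVec] }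
    have hφ : ∀ a : K, φ a = (a : Matrix (Fin m ⊕ Fin m) (Fin m ⊕ Fin m) F) *ᵥ v := fun _ => rfl
    have hv' : ∀ w ∈ L, Cfsg.sympForm m F v w = 0 := by
      intro w hw
      rw [sympForm_swap, hv w hw, neg_zero]
    have hL'S : L ⊔ LinearMap.range φ ∈ S := by
      refine ⟨?_, ?_⟩
      · intro b hb x hx
        obtain ⟨l, hl, y, ⟨a, rfl⟩, rfl⟩ := Submodule.mem_sup.mp hx
        rw [Matrix.mulVec_add]
        refine Submodule.add_mem _ (Submodule.mem_sup_left (hLK b hb l hl)) (Submodule.mem_sup_right ?_)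
        refine ⟨⟨b, hb⟩ * a, ?_⟩
        rw [hφ, hφ, Matrix.mulVec_mulVec]
        rfl
      · intro x hx y hy
        obtain ⟨l, hl, _, ⟨a, rfl⟩, rfl⟩ := Submodule.mem_sup.mp hx
        obtain ⟨l', hl', _, ⟨b, rfl⟩, rfl⟩ := Submodule.mem_sup.mp hy
        rw [hφ, hφ, sympForm_add_left, sympForm_add_right, sympForm_add_right, hLs l hl l' hl']
        have e1 : Cfsg.sympForm m F l ((b : Matrix (Fin m ⊕ Fin m) (Fin m ⊕ Fin m) F) *ᵥ v) = 0 := by
          rw [← hsa b b.2, hv _ (hLK b b.2 l hl)]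
        have e2 : Cfsg.sympForm m F ((a : Matrix (Fin m ⊕ Fin m) (Fin m ⊕ Fin m) F) *ᵥ v) l' = 0 := by
          rw [hsa a a.2, hv' _ (hLK a a.2 l' hl')]
        have e3 : Cfsg.sympForm m F ((a : Matrix (Fin m ⊕ Fin m) (Fin m ⊕ Fin m) F) *ᵥ v)
            ((b : Matrix (Fin m ⊕ Fin m) (Fin m ⊕ Fin m) F) *ᵥ v) = 0 := by
          rw [← hsa b b.2, Matrix.mulVec_mulVec]
          exact hkv _ (K.mul_mem b.2 a.2) v
        rw [e1, e2, e3]
        ring
    have hle : L ≤ L ⊔ LinearMap.range φ := le_sup_left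
    have heq : L ⊔ LinearMap.range φ = L := by
      by_contra hne
      exact hmax _ hL'S (lt_of_le_of_ne hle (Ne.symm hne))
    rw [← heq]
    refine Submodule.mem_sup_right ⟨1, ?_⟩
    rw [hφ]
    simp
  have horth : (Bsymp m F).orthogonal L = L := by
    apply le_antisymm
    · intro v hv
      apply hperp
      intro w hw
      have := hv w hw
      change Bsymp m F w v = 0 at this
      rwa [Bsymp_apply] at this
    · intro v hv w hw
      change Bsymp m F w v = 0
      rw [Bsymp_apply]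
      exact hLs w hw v hv
  have hfin := LinearMap.BilinForm.finrank_orthogonal (Bsymp_nondegenerate (F := F) m) L
  rw [horth, Module.finrank_fintype_fun_eq_card, Fintype.card_sum, Fintype.card_fin] at hfin
  have hle : finrank F L ≤ m + m := by
    have := Submodule.finrank_le L
    rwa [Module.finrank_fintype_fun_eq_card, Fintype.card_sum, Fintype.card_fin] at this
  have hLm : finrank F L = m := by omega
  have h := Cfsg.Agent.Lib.Helper63_SpExt_QB1.QB1 r K hK L hLK
  rwa [hLm] at h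

end Cfsg.Agent.Lib.Helper67_SpAschC3

namespace Cfsg.Agent.Lib.Helper67_SpAschC3

open Matrix Module Cfsg.Geo
open Cfsg.Agent.Lib.Helper67_SpAschRows

variable {F : Type*} [Field F] [Fintype F] {m : ℕ}

/-- class 6: the dimension is `2 ^ k` -/
theorem class6_dim (hm : 0 < m) {R : Subgroup (GL (Fin m ⊕ Fin m) F)} {p k : ℕ} (h : IsClass6 m F R p k) :
    2 * m = 2 ^ k := by
  obtain ⟨hsymp, hirr, -, -, -, -, hcard, hcen, -⟩ := h
  have : Nonempty (Fin m ⊕ Fin m) := ⟨Sum.inl ⟨0, hm⟩⟩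
  have hfin : Finite (GL (Fin m ⊕ Fin m) F) := inferInstance
  have hspan := Cfsg.Agent.Lib.Helper97_AschC6.spanAlg_eq_top_of_absIrred hirr
  have hcomm := Cfsg.Agent.Lib.Helper97_AschC6.commutator_le_scalars hsymp hirr
  have hpk := Cfsg.Agent.Lib.Helper52_Asch_PK7.PK7 R hspan hcomm
  rw [Cfsg.Agent.Lib.Helper97_AschC6.card_inf_scalars_eq_card_center hirr, hcard, hcen, pow_add, pow_one,
    Fintype.card_sum, Fintype.card_fin] at hpk
  have h1 : (2 ^ k) ^ 2 = (m + m) ^ 2 := by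
    rw [← pow_mul, mul_comm k 2]
    exact Nat.eq_of_mul_eq_mul_left (by norm_num) hpk
  have h2 := Nat.pow_left_injective (n := 2) (by norm_num) h1
  omega

end Cfsg.Agent.Lib.Helper67_SpAschC3
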