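import Mathlib
import Cfsg.Prelude.Def_GeometricClasses
import Cfsg.Agent.Lib.Helper94_Symp
import Cfsg.Agent.Lib.Helper94_Bridge
import Cfsg.Agent.Lib.Helper94_SLBridge
import Cfsg.Agent.Lib.Helper94_OrthSmall
import Cfsg.Agent.Lib.Helper94_OrthBridge
import Cfsg.Agent.Lib.Helper94_OrthFrame3
import Cfsg.Agent.Lib.Helper94_OrthFrameBridge
import Cfsg.Agent.Lib.Helper94_OrthFrameSim
import Cfsg.Agent.Lib.Helper94_TensorVec
import Cfsg.Agent.Lib.Helper94_TensorFrame

set_option autoImplicit false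

/-!
Over the field of order three, the stabiliser in `Sp` of a tensor decomposition `Sp_{n₁} ⊗ O_3`
is not maximal: the three-dimensional orthogonal factor has a frame, so the tensor group permutes
the three blocks `F^{n₁} ⊗ b_i` (helper94).
-/

namespace Cfsg.Agent.Lib.Helper94_TensorFrameSp

open Matrix Module Cfsg.Agent.Lib.Helper94_Symp Cfsg.Agent.Lib.Helper94_Bridge
  Cfsg.Agent.Lib.Helper94_SLBridge
  Cfsg.Agent.Lib.Helper94_OrthSmall Cfsg.Agent.Lib.Helper94_OrthBridge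
  Cfsg.Agent.Lib.Helper94_OrthFrame3
  Cfsg.Agent.Lib.Helper94_OrthFrameBridge Cfsg.Agent.Lib.Helper94_OrthFrameSim
  Cfsg.Agent.Lib.Helper94_TensorVec Cfsg.Agent.Lib.Helper94_TensorFrame
open scoped Kronecker

variable {F : Type*} [Field F] {ι : Type} [Fintype ι] [DecidableEq ι] {n₁ n₂ : ℕ}

/-- The linear map `y ↦ P ((y ⊗ b) ∘ e)`. -/
noncomputable def tauLin' (e : ι ≃ Fin n₁ × Fin n₂) (P : GL ι F) (b : Fin n₂ → F) :
    (Fin n₁ → F) →ₗ[F] (ι → F) where
  toFun y := phi e P (ten y b)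
  map_add' y y' := by rw [ten_add_left, map_add]
  map_smul' c y := by rw [ten_smul_left, map_smul]; rfl

lemma tauLin'_apply (e : ι ≃ Fin n₁ × Fin n₂) (P : GL ι F) (b : Fin n₂ → F) (y : Fin n₁ → F) :
    tauLin' e P b y = phi e P (ten y b) := rfl

lemma tauLin'_injective (e : ι ≃ Fin n₁ × Fin n₂) (P : GL ι F) {b : Fin n₂ → F} (hb : b ≠ 0) :
    Function.Injective (tauLin' e P b) := by
  intro y y' h
  rw [tauLin'_apply, tauLin'_apply] at h
  have h1 := (phi e P).injective h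
  obtain ⟨i₀, hi₀⟩ : ∃ i, b i ≠ 0 := by
    by_contra hcon
    push Not at hcon
    exact hb (funext hcon)
  ext j
  have h2 := congrFun h1 (j, i₀)
  simp only [ten_apply] at h2
  exact mul_right_cancel₀ hi₀ h2

lemma stv_inv' {V : Type*} [AddCommGroup V] [Module F V] (B : LinearMap.BilinForm F V)
    (hB : B.IsAlt) (v : V) (c : F) : (stv B hB v c)⁻¹ = stv B hB v (-c) := by
  apply inv_eq_of_mul_eq_one_right
  ext x
  simp only [LinearEquiv.mul_apply, stv_apply, map_add, map_smul, LinearMap.add_apply,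
    LinearMap.smul_apply, hB v, smul_eq_mul, mul_zero, add_zero, LinearEquiv.coe_one, id_eq]
  module

variable [Fintype F]

/-- **Tensor decompositions `Sp_{n₁} ⊗ O_3` over the field of order three are not maximal.** -/
theorem tensor3_sp_not_maximal (m : ℕ) (hq : Fintype.card F = 3) (hn₁ : 1 ≤ n₁)
    (e : (Fin m ⊕ Fin m) ≃ Fin n₁ × Fin 3) (P : GL (Fin m ⊕ Fin m) F)
    (f₁ : (Fin n₁ → F) → (Fin n₁ → F) → F) (f₂ : (Fin 3 → F) → (Fin 3 → F) → F)
    (hf₁ : Cfsg.Geo.IsSymplecticForm f₁) (hf₂ : Cfsg.Geo.IsSymmetricForm f₂)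
    (hT : Cfsg.Geo.IsTensorFormStructure id (Cfsg.sympForm m F) f₁ f₂ e P) :
    ∃ K : Subgroup (GL (Fin m ⊕ Fin m) F),
      Cfsg.Geo.tensorProductSubgroup n₁ 3 e P ⊓ Cfsg.spGL m F < K ∧ K < Cfsg.spGL m F := by
  classical
  have h2 : (2 : F) ≠ 0 := two_ne_zero_of_card hq
  have hsm : ∀ x : F, x = 0 ∨ x = 1 ∨ x = -1 := small_field (by rw [hq])
  have h3 : (2 : F) = -1 := by
    rcases hsm 2 with h | h | h
    · exact absurd h h2
    · exfalso
      have : (1 : F) = 0 := by linear_combination h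
      exact one_ne_zero this
    · exact h
  have hB := Bsymp_isAlt (F := F) m
  obtain ⟨c, hc, hform⟩ := hT
  -- the form on pure tensors
  have hτB : ∀ (y y' : Fin n₁ → F) (b b' : Fin 3 → F),
      Bsymp m F (phi e P (ten y b)) (phi e P (ten y' b')) = c * (f₁ y y' * f₂ b b') := by
    intro y y' b b'
    rw [Bsymp_apply, phi_apply, phi_apply, hform,
      formOfGram_ten f₁ f₂ hf₁.bilinear hf₂.bilinear]
  -- the quadratic form on the second factor
  have hQs₁ : ∀ (l : F) (v : Fin 3 → F), -(f₂ (l • v) (l • v)) = l * l * -(f₂ v v) := by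
    intro l v
    rw [hf₂.bilinear.smul_left, hf₂.bilinear.smul_right]
    ring
  have hQp₁ : ∀ u v : Fin 3 → F, -(f₂ (u + v) (u + v)) =
      -(f₂ u u) + -(f₂ v v) + bilinOf f₂ hf₂.bilinear u v := by
    intro u v
    rw [bilinOf_apply, hf₂.bilinear.add_left, hf₂.bilinear.add_right, hf₂.bilinear.add_right,
      hf₂.symm v u]
    linear_combination (-(f₂ u v)) * h3
  have hnd₁ : ∀ a ∈ (⊤ : Submodule F (Fin 3 → F)), a ≠ 0 →
      ∃ x ∈ (⊤ : Submodule F (Fin 3 → F)), bilinOf f₂ hf₂.bilinear x a ≠ 0 := by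
    intro a _ ha
    obtain ⟨x, hx⟩ := (hf₂.nondegenerate a ha).1
    exact ⟨x, Submodule.mem_top, hx⟩
  obtain ⟨c₁, hc₁, b1, b2, b3, hfr⟩ := exists_frame3 (Q := fun v : Fin 3 → F => -(f₂ v v))
    hQs₁ hQp₁ h2 hsm ⊤ hnd₁ (by rw [finrank_top]; simp)
  have hbb : ∀ b : Fin 3 → F, -(f₂ b b) = c₁ → f₂ b b ≠ 0 := by
    intro b hb h0
    rw [h0, neg_zero] at hb
    exact hc₁ hb.symm
  have hb1 : f₂ b1 b1 ≠ 0 := hbb b1 hfr.q1
  have hb2 : f₂ b2 b2 ≠ 0 := hbb b2 hfr.q2
  have hb3 : f₂ b3 b3 ≠ 0 := hbb b3 hfr.q3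
  have hne : ∀ b : Fin 3 → F, f₂ b b ≠ 0 → b ≠ 0 := by
    rintro b hb rfl
    apply hb
    have := hf₂.bilinear.smul_left 0 0 0
    simpa using this
  have o12 : f₂ b1 b2 = 0 := hfr.o12
  have o13 : f₂ b1 b3 = 0 := hfr.o13
  have o23 : f₂ b2 b3 = 0 := hfr.o23
  have o21 : f₂ b2 b1 = 0 := by rw [hf₂.symm]; exact o12
  have o31 : f₂ b3 b1 = 0 := by rw [hf₂.symm]; exact o13
  have o32 : f₂ b3 b2 = 0 := by rw [hf₂.symm]; exact o23
  -- the blocks
  let D1 : Submodule F (Fin m ⊕ Fin m → F) := LinearMap.range (tauLin' e P b1)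
  let D2 : Submodule F (Fin m ⊕ Fin m → F) := LinearMap.range (tauLin' e P b2)
  let D3 : Submodule F (Fin m ⊕ Fin m → F) := LinearMap.range (tauLin' e P b3)
  have horth : ∀ (b b' : Fin 3 → F), f₂ b b' = 0 →
      ∀ x ∈ LinearMap.range (tauLin' e P b), ∀ x' ∈ LinearMap.range (tauLin' e P b'),
        Bsymp m F x x' = 0 := by
    rintro b b' hbb' _ ⟨y, rfl⟩ _ ⟨y', rfl⟩
    rw [tauLin'_apply, tauLin'_apply, hτB, hbb', mul_zero, mul_zero]
  have hndD : ∀ b : Fin 3 → F, f₂ b b ≠ 0 → ∀ v ∈ LinearMap.range (tauLin' e P b), v ≠ 0 →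
      ∃ w ∈ LinearMap.range (tauLin' e P b), Bsymp m F w v ≠ 0 := by
    rintro b hb _ ⟨y, rfl⟩ hv
    have hy : y ≠ 0 := by
      rintro rfl
      exact hv (map_zero _)
    obtain ⟨y', hy'⟩ := (hf₁.nondegenerate y hy).1
    refine ⟨tauLin' e P b y', ⟨y', rfl⟩, ?_⟩
    rw [tauLin'_apply, tauLin'_apply, hτB]
    exact mul_ne_zero hc (mul_ne_zero hy' hb)
  -- the ambient groups
  let G : Subgroup ((Fin m ⊕ Fin m → F) ≃ₗ[F] (Fin m ⊕ Fin m → F)) := isoGroup (Bsymp m F)
  let T' : Subgroup ((Fin m ⊕ Fin m → F) ≃ₗ[F] (Fin m ⊕ Fin m → F)) :=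
    (Cfsg.Geo.tensorProductSubgroup n₁ 3 e P).comap (glEquiv (Fin m ⊕ Fin m) F).symm.toMonoidHom
  have hTeq : Cfsg.Geo.tensorProductSubgroup n₁ 3 e P =
      T'.comap (glEquiv (Fin m ⊕ Fin m) F).toMonoidHom :=
    (comap_symm_comap (glEquiv (Fin m ⊕ Fin m) F) _).symm
  have hTfac : ∀ g ∈ T', ∃ (A : Matrix (Fin n₁) (Fin n₁) F) (B' : Matrix (Fin 3) (Fin 3) F),
      ∀ (y : Fin n₁ → F) (b : Fin 3 → F),
        g (phi e P (ten y b)) = phi e P (ten (A *ᵥ y) (B' *ᵥ b)) := by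
    intro g hg
    obtain ⟨A, B', hAB⟩ := exists_factors e P (Subgroup.mem_comap.mp hg)
    refine ⟨A, B', fun a y => ?_⟩
    have := hAB a y
    simp only [MulEquiv.toMonoidHom_eq_coe, MonoidHom.coe_coe, MulEquiv.apply_symm_apply] at this
    exact this
  let InU : (Fin m ⊕ Fin m → F) → Prop := fun v => v ∈ D1 ∨ v ∈ D2 ∨ v ∈ D3
  obtain ⟨j₀⟩ : Nonempty (Fin n₁) := ⟨⟨0, by omega⟩⟩
  have hy₀ : (Pi.single j₀ (1 : F) : Fin n₁ → F) ≠ 0 := by
    intro h
    have := congrFun h j₀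
    simp at this
  obtain ⟨y₁, hy₁⟩ := (hf₁.nondegenerate _ hy₀).1
  -- tensor elements that are isometries preserve the union of the blocks
  have hfwd : ∀ g ∈ T', g ∈ G → ∀ v, InU v → InU (g v) := by
    intro g hgT hgO v hv
    obtain ⟨A, B', hAB⟩ := hTfac g hgT
    have hrel : ∀ a a' : Fin 3 → F,
        f₁ (A *ᵥ y₁) (A *ᵥ Pi.single j₀ 1) * f₂ (B' *ᵥ a) (B' *ᵥ a') =
          f₁ y₁ (Pi.single j₀ 1) * f₂ a a' := by
      intro a a'
      have h5 := mem_isoGroup.mp hgO (phi e P (ten y₁ a)) (phi e P (ten (Pi.single j₀ 1) a'))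
      rw [hAB, hAB, hτB, hτB] at h5
      exact mul_left_cancel₀ hc h5
    have hl' : f₁ (A *ᵥ y₁) (A *ᵥ Pi.single j₀ 1) ≠ 0 := by
      intro h0
      have := hrel b1 b1
      rw [h0, zero_mul] at this
      exact mul_ne_zero hy₁ hb1 this.symm
    have hμ : f₁ y₁ (Pi.single j₀ 1) / f₁ (A *ᵥ y₁) (A *ᵥ Pi.single j₀ 1) ≠ 0 :=
      div_ne_zero hy₁ hl'
    have hsim := hfr.similitude hQs₁ hQp₁ h2 hsm hc₁ (Matrix.mulVecLin B')
      (fun v _ => Submodule.mem_top) _ hμ (by
        intro x _ y _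
        rw [bilinOf_apply, bilinOf_apply, Matrix.mulVecLin_apply, Matrix.mulVecLin_apply]
        have := hrel x y
        field_simp
        linear_combination this)
    have hmove : ∀ b : Fin 3 → F, -(f₂ b b) = c₁ → ∀ x ∈ LinearMap.range (tauLin' e P b),
        InU (g x) := by
      rintro b hb _ ⟨y, rfl⟩
      rw [tauLin'_apply, hAB]
      rcases hsim b Submodule.mem_top hb with ⟨l, hl⟩ | ⟨l, hl⟩ | ⟨l, hl⟩
      · left
        rw [Matrix.mulVecLin_apply] at hl
        rw [hl, ten_smul_right, ← ten_smul_left]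
        exact ⟨_, rfl⟩
      · right; left
        rw [Matrix.mulVecLin_apply] at hl
        rw [hl, ten_smul_right, ← ten_smul_left]
        exact ⟨_, rfl⟩
      · right; right
        rw [Matrix.mulVecLin_apply] at hl
        rw [hl, ten_smul_right, ← ten_smul_left]
        exact ⟨_, rfl⟩
    rcases hv with hv | hv | hv
    · exact hmove b1 hfr.q1 v hv
    · exact hmove b2 hfr.q2 v hv
    · exact hmove b3 hfr.q3 v hv
  -- the overgroup
  let K : Subgroup ((Fin m ⊕ Fin m → F) ≃ₗ[F] (Fin m ⊕ Fin m → F)) :=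
    { carrier := {g | g ∈ G ∧ (∀ v, InU v → InU (g v)) ∧ (∀ v, InU v → InU (g⁻¹ v))}
      mul_mem' := by
        rintro a b ⟨haG, ha1, ha2⟩ ⟨hbG, hb1', hb2'⟩
        refine ⟨G.mul_mem haG hbG, fun v hv => ha1 _ (hb1' v hv), fun v hv => ?_⟩
        rw [_root_.mul_inv_rev]
        exact hb2' _ (ha2 v hv)
      one_mem' := ⟨G.one_mem, fun v hv => hv, fun v hv => by rw [inv_one]; exact hv⟩
      inv_mem' := by
        rintro a ⟨haG, ha1, ha2⟩
        refine ⟨G.inv_mem haG, ha2, fun v hv => ?_⟩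
        rw [inv_inv]
        exact ha1 v hv }
  have hKmem : ∀ g, g ∈ K ↔ g ∈ G ∧ (∀ v, InU v → InU (g v)) ∧ (∀ v, InU v → InU (g⁻¹ v)) :=
    fun g => Iff.rfl
  -- vectors of the first block
  let u : Fin m ⊕ Fin m → F := tauLin' e P b1 (Pi.single j₀ 1)
  let x : Fin m ⊕ Fin m → F := tauLin' e P b1 y₁
  have hu : u ∈ D1 := ⟨_, rfl⟩
  have hx : x ∈ D1 := ⟨_, rfl⟩
  have hu0 : u ≠ 0 := by
    intro h
    apply hy₀
    apply tauLin'_injective e P (hne b1 hb1)
    rw [map_zero]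
    exact h
  have hxu : Bsymp m F x u ≠ 0 := by
    show Bsymp m F (tauLin' e P b1 y₁) (tauLin' e P b1 (Pi.single j₀ 1)) ≠ 0
    rw [tauLin'_apply, tauLin'_apply, hτB]
    exact mul_ne_zero hc (mul_ne_zero hy₁ hb1)
  have huu : Bsymp m F u u = 0 := hB u
  refine ⟨K.comap (glEquiv (Fin m ⊕ Fin m) F).toMonoidHom, ?_, ?_⟩
  · rw [hTeq, spGL_eq, ← Subgroup.comap_inf]
    apply (Subgroup.comap_lt_comap_of_surjective (glEquiv (Fin m ⊕ Fin m) F).surjective).mpr
    refine lt_of_le_of_ne ?_ ?_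
    · rintro g ⟨hgT, hgG⟩
      rw [hKmem]
      exact ⟨hgG, hfwd g hgT hgG, hfwd g⁻¹ (T'.inv_mem hgT) (G.inv_mem hgG)⟩
    · intro heq
      have hInU : ∀ l : F, ∀ v, InU v → InU (stv (Bsymp m F) hB u l v) := by
        intro l v hv
        rw [stv_apply]
        rcases hv with hv | hv | hv
        · exact Or.inl (D1.add_mem hv (D1.smul_mem _ hu))
        · rw [horth b2 b1 o21 v hv u hu, mul_zero, zero_smul, add_zero]
          exact Or.inr (Or.inl hv)
        · rw [horth b3 b1 o31 v hv u hu, mul_zero, zero_smul, add_zero]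
          exact Or.inr (Or.inr hv)
      have hg₀K : stv (Bsymp m F) hB u 1 ∈ K := by
        rw [hKmem]
        refine ⟨stv_mem_isoGroup _ hB u 1, hInU 1, ?_⟩
        rw [stv_inv']
        exact hInU (-1)
      rw [← heq] at hg₀K
      obtain ⟨A, B', hAB⟩ := hTfac _ hg₀K.1
      -- the first factor is a scalar
      obtain ⟨i₂, hi₂⟩ : ∃ i, b2 i ≠ 0 := by
        by_contra hcon
        push Not at hcon
        exact hne b2 hb2 (funext hcon)
      have hfix2 : ∀ y : Fin n₁ → F, ten (A *ᵥ y) (B' *ᵥ b2) = ten y b2 := by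
        intro y
        apply (phi e P).injective
        rw [← hAB, stv_apply]
        have hv : phi e P (ten y b2) ∈ D2 := ⟨y, rfl⟩
        rw [horth b2 b1 o21 _ hv u hu, mul_zero, zero_smul, add_zero]
      have hd : (B' *ᵥ b2) i₂ ≠ 0 := by
        intro h0
        have := congrFun (hfix2 (Pi.single j₀ 1)) (j₀, i₂)
        simp only [ten_apply, h0, mul_zero, Pi.single_eq_same, one_mul] at this
        exact hi₂ this.symm
      have hscal : ∀ y : Fin n₁ → F, A *ᵥ y = (b2 i₂ / (B' *ᵥ b2) i₂) • y := by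
        intro y
        ext j
        have := congrFun (hfix2 y) (j, i₂)
        simp only [ten_apply] at this
        rw [Pi.smul_apply, smul_eq_mul]
        field_simp
        linear_combination this
      obtain ⟨ν, hν⟩ : ∃ ν : F, ∀ y : Fin n₁ → F, A *ᵥ y = ν • y := ⟨_, hscal⟩
      have hν0 : ν ≠ 0 := by
        rintro rfl
        have := hfix2 (Pi.single j₀ 1)
        rw [hν, zero_smul, ten_zero_left] at this
        have h5 := congrFun this (j₀, i₂)
        simp only [Pi.zero_apply, ten_apply, Pi.single_eq_same, one_mul] at h5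
        exact hi₂ h5.symm
      -- the second factor fixes the line of `b1`
      have hD1 : stv (Bsymp m F) hB u 1 (phi e P (ten (Pi.single j₀ 1) b1)) ∈ D1 := by
        rw [stv_apply]
        exact D1.add_mem ⟨_, rfl⟩ (D1.smul_mem _ hu)
      obtain ⟨y', hy'⟩ := hD1
      rw [hAB, tauLin'_apply, hν] at hy'
      have hy'' := (phi e P).injective hy'
      have hline : B' *ᵥ b1 = (y' j₀ / ν) • b1 := by
        ext i
        have := congrFun hy'' (j₀, i)
        simp only [ten_apply, Pi.smul_apply, Pi.single_eq_same, smul_eq_mul, mul_one] at this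
        rw [Pi.smul_apply, smul_eq_mul]
        field_simp
        linear_combination -this
      obtain ⟨ρ, hρ'⟩ : ∃ ρ : F, B' *ᵥ b1 = ρ • b1 := ⟨_, hline⟩
      have hact : ∀ v ∈ D1, stv (Bsymp m F) hB u 1 v = (ν * ρ) • v := by
        rintro _ ⟨y, rfl⟩
        rw [tauLin'_apply, hAB, hρ', hν, ten_smul_left, ten_smul_right, map_smul, map_smul,
          smul_smul]
      have hfixu : stv (Bsymp m F) hB u 1 u = u := by
        rw [stv_apply, huu, mul_zero, zero_smul, add_zero]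
      have hρ : ν * ρ = 1 := by
        have h5 := hact u hu
        rw [hfixu] at h5
        by_contra hne1
        have h6 : (ν * ρ - 1) • u = 0 := by
          rw [sub_smul, one_smul, ← h5, sub_self]
        rcases smul_eq_zero.mp h6 with h7 | h7
        · exact hne1 (sub_eq_zero.mp h7)
        · exact hu0 h7
      have h8 := hact x hx
      rw [hρ, one_smul, stv_apply, one_mul] at h8
      have h9 : Bsymp m F x u • u = 0 := by
        have : x + Bsymp m F x u • u - x = 0 := by rw [h8, sub_self]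
        rwa [add_sub_cancel_left] at this
      rcases smul_eq_zero.mp h9 with h10 | h10
      · exact hxu h10
      · exact hu0 h10
  · rw [spGL_eq]
    apply (Subgroup.comap_lt_comap_of_surjective (glEquiv (Fin m ⊕ Fin m) F).surjective).mpr
    refine lt_of_le_of_ne (fun g hg => ((hKmem g).mp hg).1) ?_
    intro heq
    let u₂ : Fin m ⊕ Fin m → F := tauLin' e P b2 (Pi.single j₀ 1)
    have hu₂ : u₂ ∈ D2 := ⟨_, rfl⟩
    have hu₂0 : u₂ ≠ 0 := by
      intro h
      apply hy₀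
      apply tauLin'_injective e P (hne b2 hb2)
      rw [map_zero]
      exact h
    have hg₁K : stv (Bsymp m F) hB (u + u₂) 1 ∈ K := by
      rw [heq]
      exact stv_mem_isoGroup _ hB _ 1
    have h5 := ((hKmem _).mp hg₁K).2.1 x (Or.inl hx)
    rw [stv_apply, one_mul, map_add, horth b1 b2 o12 x hx u₂ hu₂, add_zero] at h5
    have hx₁ : x + Bsymp m F x u • u ∈ D1 := D1.add_mem hx (D1.smul_mem _ hu)
    have hx₂ : Bsymp m F x u • u₂ ∈ D2 := D2.smul_mem _ hu₂
    have hx₂0 : Bsymp m F x u • u₂ ≠ 0 := smul_ne_zero hxu hu₂0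
    have hsum : x + Bsymp m F x u • (u + u₂) =
        (x + Bsymp m F x u • u) + Bsymp m F x u • u₂ := by
      rw [smul_add, add_assoc]
    rw [hsum] at h5
    have hBx₁ : Bsymp m F (x + Bsymp m F x u • u) u ≠ 0 := by
      rw [map_add, map_smul, LinearMap.add_apply, LinearMap.smul_apply, huu, smul_zero, add_zero]
      exact hxu
    rcases h5 with h5 | h5 | h5
    · have h6 : Bsymp m F x u • u₂ ∈ D1 := by
        have := D1.sub_mem h5 hx₁
        rwa [add_sub_cancel_left] at this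
      obtain ⟨w, hw, hw'⟩ := hndD b2 hb2 _ hx₂ hx₂0
      exact hw' (horth b2 b1 o21 w hw _ h6)
    · have h6 : x + Bsymp m F x u • u ∈ D2 := by
        have := D2.sub_mem h5 hx₂
        rwa [add_sub_cancel_right] at this
      exact hBx₁ (horth b2 b1 o21 _ h6 u hu)
    · have h6 := horth b3 b1 o31 _ h5 u hu
      rw [map_add, LinearMap.add_apply, horth b2 b1 o21 _ hx₂ u hu, add_zero] at h6
      exact hBx₁ h6

end Cfsg.Agent.Lib.Helper94_TensorFrameSp
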