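import Mathlib
import Cfsg.Prelude.Def_GeometricClasses
import Cfsg.Agent.Lib.Helper67_SpAschRows
import Cfsg.Agent.Lib.Helper67_SpAschC3
import Cfsg.Agent.Lib.Helper30_SpQuad
import Cfsg.Agent.Lib.Helper94_TensorFrameSp

/-!
helper67: further arithmetic and the small-field exclusions used by the rows on the maximal subgroups of
`Sp_6`, `Sp_10`, `Sp_12`.
-/

set_option autoImplicit false

namespace Cfsg.Agent.Lib.Helper67_SpAschArith

open Matrix Module Cfsg.Geo
open Cfsg.Agent.Lib.Helper67_SpAschMax Cfsg.Agent.Lib.Helper67_SpAschMaxB Cfsg.Agent.Lib.Helper67_SpAschRows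
  Cfsg.Agent.Lib.Helper67_SpAschC3

variable {F : Type*} [Field F] {m : ℕ}

/-- class 4: `n₁ * n₂ = 2 m` -/
lemma tensor_card {n₁ n₂ : ℕ} (e : (Fin m ⊕ Fin m) ≃ Fin n₁ × Fin n₂) : n₁ * n₂ = 2 * m := by
  have := Fintype.card_congr e
  simp only [Fintype.card_sum, Fintype.card_fin, Fintype.card_prod] at this
  omega

/-- class 7: `k ^ t = 2 m` -/
lemma wreath_card {k t : ℕ} (e : (Fin m ⊕ Fin m) ≃ (Fin t → Fin k)) : k ^ t = 2 * m := by
  have := Fintype.card_congr e
  simp only [Fintype.card_sum, Fintype.card_fin, Fintype.card_pi, Finset.prod_const, Finset.card_univ] at this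
  omega

variable [Fintype F]

lemma card_eq_two_of_lt_three (h : ¬ 3 ≤ Fintype.card F) : Fintype.card F = 2 := by
  have := Fintype.one_lt_card (α := F)
  omega

/-- over the field with two elements the stabiliser of a decomposition into non-degenerate planes,
if maximal, is the group of a quadratic form -/
theorem decomp_two_case (hm : 2 ≤ m) (hq : ¬ 3 ≤ Fintype.card F) {t : ℕ}
    {D : Fin t → Submodule F (Fin m ⊕ Fin m → F)}
    (hD : IsNondegenerateMDecomposition (Cfsg.sympForm m F) 2 D)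
    {H : Subgroup (GL (Fin m ⊕ Fin m) F)} (hH : IsMaximalIn (Cfsg.spGL m F) H)
    (hHD : H = decompositionStabilizer D ⊓ Cfsg.spGL m F) :
    ¬ Odd (Fintype.card F) ∧ ∃ Q : (Fin m ⊕ Fin m → F) → F, IsNondegenerateQuadraticForm Q ∧
      (∀ u v, QuadraticMap.polar Q u v = Cfsg.sympForm m F u v) ∧
      H = quadSimilarityGroup Q ⊓ Cfsg.spGL m F := by
  have hq2 := card_eq_two_of_lt_three hq
  have heven : ¬ Odd (Fintype.card F) := by rw [hq2]; decide
  obtain ⟨Q, hQ, hpol, hle⟩ := Cfsg.Agent.Lib.Helper30_SpQuad.quad_of_decomp_two hq2 hD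
  refine ⟨heven, Q, hQ, hpol, ?_⟩
  exact eq_inf_of_le hH (hHD.le.trans hle) (not_le_quadSimilarityGroup hm heven hpol hQ.smul)

/-- over the field with three elements the stabiliser of a tensor decomposition with a symmetric factor of
dimension three is not maximal -/
theorem tensor3_case (hq : ¬ 5 ≤ Fintype.card F) (hodd : Odd (Fintype.card F)) {n₁ : ℕ} (hn₁ : 1 ≤ n₁)
    (e : (Fin m ⊕ Fin m) ≃ Fin n₁ × Fin 3) (P : GL (Fin m ⊕ Fin m) F)
    (f₁ : (Fin n₁ → F) → (Fin n₁ → F) → F) (f₂ : (Fin 3 → F) → (Fin 3 → F) → F)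
    (hf₁ : IsSymplecticForm f₁) (hf₂ : IsSymmetricForm f₂)
    (hT : IsTensorFormStructure id (Cfsg.sympForm m F) f₁ f₂ e P)
    {H : Subgroup (GL (Fin m ⊕ Fin m) F)} (hH : IsMaximalIn (Cfsg.spGL m F) H)
    (hHT : H = tensorProductSubgroup n₁ 3 e P ⊓ Cfsg.spGL m F) : False := by
  have hq3 : Fintype.card F = 3 := by
    have := Fintype.one_lt_card (α := F)
    obtain ⟨a, ha⟩ := hodd
    omega
  obtain ⟨K, hK1, hK2⟩ := Cfsg.Agent.Lib.Helper94_TensorFrameSp.tensor3_sp_not_maximal m hq3 hn₁ e P f₁ f₂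
    hf₁ hf₂ hT
  rw [← hHT] at hK1
  rcases hH.2 K hK1.le hK2.le with h | h
  · exact hK1.ne h.symm
  · exact hK2.ne h

end Cfsg.Agent.Lib.Helper67_SpAschArith
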