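import Mathlib
import Cfsg.Prelude.Def_GeometricClasses
import Cfsg.Agent.Lib.Helper67_SpAschRows
import Cfsg.Agent.Lib.Helper67_SpAschC3
import Cfsg.Agent.Lib.Helper67_SpAschArith
import Cfsg.Agent.Lib.Helper30_SpC6
import Cfsg.Agent.Lib.Helper30_Sp43E1
import Cfsg.Agent.Lib.Helper30_Sp43E2

/-!
helper30: the maximal subgroups of `Sp_4(q)`, `q` odd, modulo the structure theorem for subgroups of the symplectic
group (as the hypothesis `SpAschHyp 2 F`): statement S5787.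
-/

set_option autoImplicit false

namespace Cfsg.Agent.Lib.Helper30_Sp4Odd

open Matrix Module Cfsg.Geo
open Cfsg.Agent.Lib.Helper67_SpAschMax Cfsg.Agent.Lib.Helper67_SpAschMaxB Cfsg.Agent.Lib.Helper67_SpAschRows
  Cfsg.Agent.Lib.Helper67_SpAschArith

theorem sp4_odd {F : Type*} [Field F] [Fintype F] (hA : SpAschHyp 2 F)
    (hodd : Odd (Fintype.card F)) (H : Subgroup (Matrix.GeneralLinearGroup (Fin 2 ⊕ Fin 2) F)) (hH : Cfsg.Geo.IsMaximalIn (Cfsg.spGL 2 F) H) :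
    (∃ W : Submodule F (Fin 2 ⊕ Fin 2 → F), W ≠ ⊥ ∧ Cfsg.Geo.IsTotallySingularFor (Cfsg.sympForm 2 F) W ∧ H = Cfsg.Geo.subspaceStabilizer W ⊓ Cfsg.spGL 2 F) ∨
    (∃ D : Fin 2 → Submodule F (Fin 2 ⊕ Fin 2 → F), Cfsg.Geo.IsNondegenerateMDecomposition (Cfsg.sympForm 2 F) 2 D ∧ H = Cfsg.Geo.decompositionStabilizer D ⊓ Cfsg.spGL 2 F) ∨
    (5 ≤ Fintype.card F ∧ ∃ D : Fin 2 → Submodule F (Fin 2 ⊕ Fin 2 → F), Cfsg.Geo.IsMDecomposition 2 D ∧ (∀ i, Cfsg.Geo.IsTotallySingularFor (Cfsg.sympForm 2 F) (D i)) ∧ H = Cfsg.Geo.decompositionStabilizer D ⊓ Cfsg.spGL 2 F) ∨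
    (∃ K : Subalgebra F (Matrix (Fin 2 ⊕ Fin 2) (Fin 2 ⊕ Fin 2) F), Cfsg.Geo.IsFieldSubalgebra 2 K ∧ Cfsg.Geo.IsSelfAdjointFor (Cfsg.sympForm 2 F) K ∧ (∀ k ∈ K, ∀ v : (Fin 2 ⊕ Fin 2 → F), (Cfsg.sympForm 2 F) (Matrix.mulVec k v) v = 0) ∧ H = Cfsg.Geo.subalgebraNormalizer K ⊓ Cfsg.spGL 2 F) ∨
    (5 ≤ Fintype.card F ∧ ∃ K : Subalgebra F (Matrix (Fin 2 ⊕ Fin 2) (Fin 2 ⊕ Fin 2) F), Cfsg.Geo.IsFieldSubalgebra 2 K ∧ Cfsg.Geo.IsAdjointClosedFor (Cfsg.sympForm 2 F) K ∧ ¬ Cfsg.Geo.IsSelfAdjointFor (Cfsg.sympForm 2 F) K ∧ H = Cfsg.Geo.subalgebraNormalizer K ⊓ Cfsg.spGL 2 F) ∨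
    (∃ (F₀ : Subfield F) (r : ℕ) (P : Matrix.GeneralLinearGroup (Fin 2 ⊕ Fin 2) F) (ζ : F), r.Prime ∧ Fintype.card F = Nat.card F₀ ^ r ∧ ζ ≠ 0 ∧ Cfsg.Geo.IsFormRationalStructure (Cfsg.sympForm 2 F) F₀ ζ P ∧ H = Cfsg.Geo.subfieldSubgroup F₀ P ⊓ Cfsg.spGL 2 F) ∨
    (∃ (p : ℕ) (R : Subgroup (Matrix.GeneralLinearGroup (Fin 2 ⊕ Fin 2) F)), p.Prime ∧ Fintype.card F = p ∧ Cfsg.Geo.IsSymplecticTypeGroup 2 R ∧ Cfsg.Geo.ActsAbsolutelyIrreducibly (Cfsg.Geo.matrixSet R) ∧ R ≤ Cfsg.Geo.similarityGroup (Cfsg.sympForm 2 F) ∧ Nat.card R = 32 ∧ Nat.card (Subgroup.center R) = 2 ∧ Cfsg.Geo.IsOfMinusType 2 R ∧ H = Cfsg.Geo.subgroupNormalizer R ⊓ Cfsg.spGL 2 F) ∨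
    Cfsg.Geo.InSymplecticResidualClass H := by
  have hex : ¬ ((2 : ℕ) = 2 ∧ Fintype.card F = 2) := by
    rintro ⟨-, h⟩
    rw [h] at hodd
    exact absurd hodd (by decide)
  have hq3 : ¬ 5 ≤ Fintype.card F → Fintype.card F = 3 := by
    intro h
    have h1 := Fintype.one_lt_card (α := F)
    rcases hodd with ⟨a, ha⟩
    omega
  have h6 : ∀ (R : Subgroup (GL (Fin 2 ⊕ Fin 2) F)) (p k : ℕ), IsClass6 2 F R p k →
      ¬ Cfsg.spGL 2 F ≤ subgroupNormalizer R :=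
    fun R p k h => Cfsg.Agent.Lib.Helper30_SpC6.not_le_subgroupNormalizer (le_refl 2) h
  rcases max_cases (le_refl 2) hex hA h6 hH with hM | hres
  swap
  · exact Or.inr (Or.inr (Or.inr (Or.inr (Or.inr (Or.inr (Or.inr hres))))))
  rcases hM with (⟨W, hW0, hWs, hMX⟩ | ⟨W, hW0, hWn, hWr, hMX⟩ | ⟨t, k, D, hD, hMX⟩ | ⟨D, hodd', hD, hDs, hMX⟩ |
      ⟨F₀, r, P, ζ, hr, hcard, hζ, hrat, hMX⟩ | ⟨R, p, k, h1, h2, h3, h4', h5, h6', h7, h8, h9, hMX⟩ |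
      ⟨Q, heven', hQ, hpol, hMX⟩) |
    ⟨r, K, hr, hK, hsa, hkv, hMX⟩ | ⟨K, hodd', hK, hac, hnsa, hMX⟩ |
    ⟨n₁, n₂, e, P, f₁, f₂, hodd', hn₂, hf₁, hf₂, hT, hMX⟩ | ⟨k, t, e, P, f₁, hodd', htodd, ht, hne32, hf₁, hT, hMX⟩
  · exact Or.inl ⟨W, hW0, hWs, hMX⟩
  · exact absurd (eq_bot_of_nondegenerateOn_of_lt_two hWn hWr) hW0
  · -- non-degenerate decomposition: `(t, k) = (2, 2)`
    have hc := decomp_card hD.decomp
    obtain ⟨a, ha⟩ := decomp_even hD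
    have hk := hD.decomp.pos
    have ht := hD.decomp.two_le
    have hk2' : 2 ≤ k := by omega
    have hk2 : k = 2 := by nlinarith
    have ht2 : t = 2 := by subst hk2; omega
    subst hk2 ht2
    exact Or.inr (Or.inl ⟨D, hD, hMX⟩)
  · -- totally singular pair
    by_cases h5q : 5 ≤ Fintype.card F
    · exact Or.inr (Or.inr (Or.inl ⟨h5q, D, hD, hDs, hMX⟩))
    · obtain ⟨D', hD', hle⟩ := Cfsg.Agent.Lib.Helper30_Sp43E1.E1 (hq3 h5q) hD hDs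
      have hHD' : H ≤ decompositionStabilizer D' := hMX ▸ hle
      exact Or.inr (Or.inl ⟨D', hD', eq_inf_of_le hH hHD' (not_le_decompositionStabilizer hD'.decomp)⟩)
  · exact Or.inr (Or.inr (Or.inr (Or.inr (Or.inr (Or.inl ⟨F₀, r, P, ζ, hr, hcard, hζ, hrat, hMX⟩)))))
  · -- class 6: `k = 2`
    have hdim := Cfsg.Agent.Lib.Helper67_SpAschC3.class6_dim (by norm_num) (⟨h1, h2, h3, h4', h5, h6', h7, h8, h9⟩ :
      IsClass6 2 F R p k)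
    have hk2 : k = 2 := by
      have h4 : 2 ^ k = 2 ^ 2 := by rw [← hdim]; norm_num
      exact Nat.pow_right_injective (le_refl 2) h4
    subst hk2
    exact Or.inr (Or.inr (Or.inr (Or.inr (Or.inr (Or.inr (Or.inl
      ⟨p, R, h4', h6', h1, h2, h3, by rw [h7]; norm_num, h8, h9, hMX⟩))))))
  · exact absurd hodd heven'
  · -- class 3, self-adjoint: `r = 2`
    have hdvd := fieldSubalgebra_dvd (by norm_num) hK
    have hr2 : r = 2 := by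
      have : r ∣ 2 ^ 2 := by simpa using hdvd
      exact (Nat.prime_dvd_prime_iff_eq hr Nat.prime_two).mp (hr.dvd_of_dvd_pow this)
    subst hr2
    exact Or.inr (Or.inr (Or.inr (Or.inl ⟨K, hK, hsa, hkv, hMX⟩)))
  · -- class 3, unitary type
    by_cases h5q : 5 ≤ Fintype.card F
    · exact Or.inr (Or.inr (Or.inr (Or.inr (Or.inl ⟨h5q, K, hK, hac, hnsa, hMX⟩))))
    · exfalso
      exact Cfsg.Agent.Lib.Helper30_Sp43E2.E2 (hq3 h5q) hK hac hnsa (hMX ▸ hH)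
  · -- class 4: `n₁ * n₂ = 4` with `n₁` even and `3 ≤ n₂`
    exfalso
    have hc := tensor_card e
    obtain ⟨a, ha⟩ := even_of_isSymplecticForm hf₁
    have h0 : n₁ ≠ 0 := by
      rintro rfl
      exact (e (Classical.arbitrary _)).1.elim0
    have h2n : 2 ≤ n₁ := by omega
    nlinarith
  · -- class 7: `k ^ t = 4` with `3 ≤ t`
    exfalso
    have hc := wreath_card e
    obtain ⟨a, ha⟩ := even_of_isSymplecticForm hf₁
    have h0 : k ≠ 0 := by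
      rintro rfl
      exact (e (Classical.arbitrary _) ⟨0, by omega⟩).elim0
    have h2k : 2 ≤ k := by omega
    have h8 : 2 ^ 3 ≤ k ^ t :=
      (Nat.pow_le_pow_left h2k 3).trans (Nat.pow_le_pow_right (by omega) ht)
    omega

end Cfsg.Agent.Lib.Helper30_Sp4Odd
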