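import Mathlib
import Cfsg.Agent.Lib.Helper30_TZADefs

set_option autoImplicit false
set_option linter.unusedSectionVars false
set_option linter.unusedVariables false

/-!
# TZA package FIBCARD (S2524 Part A): `fib_card`
-/

open Matrix
open Cfsg.Agent.Lib.Helper81_SymOrbit Cfsg.Agent.Lib.Helper30_TZADefs

namespace Cfsg.Agent.Lib.Helper30_TZA_FIBCARD

variable {F : Type*} [Field F] [Fintype F] [DecidableEq F] {m n : ℕ}

/-- cancelling the congruence by `uni c` -/
theorem uni_congr_cancel (c : Fin m → F) (X X' : Matrix (Fin (m + 1)) (Fin (m + 1)) F)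
    (h : (uni c)ᵀ * X * uni c = (uni c)ᵀ * X' * uni c) : X = X' := by
  have h1 : (uni (-c))ᵀ * ((uni c)ᵀ * X * uni c) * uni (-c) =
      (uni (-c))ᵀ * ((uni c)ᵀ * X' * uni c) * uni (-c) := by rw [h]
  have h2 : (uni (-c))ᵀ * (uni c)ᵀ = 1 := by
    rw [← Matrix.transpose_mul, uni_mul_neg, Matrix.transpose_one]
  have h3 : ∀ Y : Matrix (Fin (m + 1)) (Fin (m + 1)) F,
      (uni (-c))ᵀ * ((uni c)ᵀ * Y * uni c) * uni (-c) = Y := by
    intro Y
    calc (uni (-c))ᵀ * ((uni c)ᵀ * Y * uni c) * uni (-c)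
        = ((uni (-c))ᵀ * (uni c)ᵀ) * Y * (uni c * uni (-c)) := by simp only [Matrix.mul_assoc]
      _ = Y := by rw [h2, uni_mul_neg, Matrix.one_mul, Matrix.mul_one]
  rw [h3, h3] at h1
  exact h1

/-- FIBCARD : the fibre of `T ↦ T 0 0` over `a ≠ 0` has at least `q^m |fib O a|` elements. -/
theorem fib_card (O : Finset (Matrix (Fin (m + 1)) (Fin (m + 1)) F)) (hstab : CongClosed O)
    (a : F) (ha : a ≠ 0) :
    Fintype.card F ^ m * (fib O a).card ≤
      (O.filter fun T : Matrix (Fin (m + 1)) (Fin (m + 1)) F => T 0 0 = a).card := by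
  have hcard : ((Finset.univ : Finset (Fin m → F)) ×ˢ fib O a).card =
      Fintype.card F ^ m * (fib O a).card := by
    rw [Finset.card_product, Finset.card_univ, Fintype.card_fun, Fintype.card_fin]
  rw [← hcard]
  apply Finset.card_le_card_of_injOn
    (fun p : (Fin m → F) × Matrix (Fin m) (Fin m) F => (uni p.1)ᵀ * dsum a p.2 * uni p.1)
  · rintro ⟨c, S⟩ hp
    rw [Finset.mem_coe, Finset.mem_product] at hp
    rw [Finset.mem_coe, Finset.mem_filter]
    refine ⟨hstab _ (mem_fib.mp hp.2) (uni c) (uni (-c)) (uni_mul_neg c), ?_⟩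
    show ((uni c)ᵀ * dsum a S * uni c) 0 0 = a
    rw [uni_congr_zero_zero, dsum_zero_zero]
  · rintro ⟨c, S⟩ _ ⟨c', S'⟩ _ h
    simp only at h
    have hc : c = c' := by
      funext j
      have h1 := congrFun (congrFun h 0) j.succ
      rw [uni_congr_zero_succ, uni_congr_zero_succ] at h1
      simp only [dsum_zero_succ, dsum_zero_zero, zero_add] at h1
      exact mul_right_cancel₀ ha h1
    subst hc
    have h2 := uni_congr_cancel c _ _ h
    rw [dsum_injective a h2]

end Cfsg.Agent.Lib.Helper30_TZA_FIBCARD
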