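import Mathlib
import Cfsg.Agent.Lib.Helper30_TZADefs

set_option autoImplicit false
set_option linter.unusedSectionVars false
set_option linter.unusedVariables false

/-!
helper53: TZA package FIBNR (architect helper30, for helper75's S2524 Part A), verbatim:
the fibres of a `NoRk1` set contain no zero matrix, and the fibre over `0` is `NoRk1`.
-/

open Matrix
open Cfsg.Agent.Lib.Helper81_SymOrbit Cfsg.Agent.Lib.Helper30_TZADefs

namespace Cfsg.Agent.Lib.Helper53_TZA_FIBNR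

variable {F : Type*} [Field F] [Fintype F] [DecidableEq F] {m n : ℕ}

omit [Fintype F] [DecidableEq F] in
/-- `dsum a 0 = a • e_0 e_0ᵀ` is `Rk1` -/
theorem rk1_dsum_zero (a : F) : Rk1 (dsum a (0 : Matrix (Fin m) (Fin m) F)) := by
  refine ⟨a, Pi.single (0 : Fin (m + 1)) (1 : F), ?_⟩
  ext i j
  refine Fin.cases ?_ (fun i' => ?_) i <;> refine Fin.cases ?_ (fun j' => ?_) j <;>
    simp [vecMulVec_apply, Fin.succ_ne_zero]

omit [Fintype F] [DecidableEq F] in
/-- `dsum 0 (b • x xᵀ) = b • (0;x) (0;x)ᵀ` is `Rk1` -/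
theorem rk1_dsum_rk1 (b : F) (x : Fin m → F) :
    Rk1 (dsum (0 : F) (b • vecMulVec x x)) := by
  refine ⟨b, (Fin.cons 0 x : Fin (m + 1) → F), ?_⟩
  ext i j
  refine Fin.cases ?_ (fun i' => ?_) i <;> refine Fin.cases ?_ (fun j' => ?_) j <;>
    simp [vecMulVec_apply]

/-- FIBNR (S) : `dsum a 0 = a • vecMulVec e_0 e_0` is `Rk1`; `dsum 0 (b • vecMulVec x x) =
b • vecMulVec (0;x) (0;x)` is `Rk1`. -/
theorem fib_ne_zero (O : Finset (Matrix (Fin (m + 1)) (Fin (m + 1)) F)) (hnr : NoRk1 O) (a : F) :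
    ∀ S ∈ fib O a, S ≠ 0 := by
  intro S hS h0
  subst h0
  exact hnr _ (mem_fib.mp hS) (rk1_dsum_zero a)

theorem fib_zero_noRk1 (O : Finset (Matrix (Fin (m + 1)) (Fin (m + 1)) F)) (hnr : NoRk1 O) :
    NoRk1 (fib O 0) := by
  intro S hS hr
  obtain ⟨b, x, rfl⟩ := hr
  exact hnr _ (mem_fib.mp hS) (rk1_dsum_rk1 b x)

end Cfsg.Agent.Lib.Helper53_TZA_FIBNR
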