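import Mathlib
import Cfsg.Agent.Lib.Helper30_TZADefs

set_option autoImplicit false
set_option linter.unusedSectionVars false
set_option linter.unusedVariables false

/-!
# TZA package ONE (architect helper30): the orbit bound for `1 × 1` matrices
-/

open Matrix
open Cfsg.Agent.Lib.Helper81_SymOrbit Cfsg.Agent.Lib.Helper30_TZADefs

namespace Cfsg.Agent.Lib.Helper55_TZA_ONE

variable {F : Type*} [Field F] [Fintype F] [DecidableEq F] {m n : ℕ}

/-- ONE (M) : the case of `1 × 1` matrices: a non-empty set of non-zero scalars closed under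
`s ↦ t² s` (`t ≠ 0`) has at least `(q - 1) / 2` elements. -/
theorem orbit_bound_one (O : Finset (Matrix (Fin 1) (Fin 1) F)) (hne : ∀ T ∈ O, T ≠ 0)
    (hstab : CongClosed O) (hO : O.Nonempty) : Fintype.card F ≤ 2 * O.card + 1 := by
  classical
  obtain ⟨s0, hs0⟩ := hO
  have hs00 : s0 0 0 ≠ 0 := by
    intro h0
    apply hne s0 hs0
    ext i j
    rw [Subsingleton.elim i 0, Subsingleton.elim j 0, h0]
    rfl
  set f : Fˣ → Matrix (Fin 1) (Fin 1) F := fun t => ((t : F) * (t : F)) • s0 with hf
  have hfO : ∀ t : Fˣ, f t ∈ O := by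
    intro t
    have hAB : ((t : F) • (1 : Matrix (Fin 1) (Fin 1) F)) *
        (((t⁻¹ : Fˣ) : F) • (1 : Matrix (Fin 1) (Fin 1) F)) = 1 := by
      rw [smul_mul_smul_comm, mul_one, ← Units.val_mul, mul_inv_cancel, Units.val_one, one_smul]
    have := hstab s0 hs0 _ _ hAB
    have e : ((t : F) • (1 : Matrix (Fin 1) (Fin 1) F))ᵀ * s0 *
        ((t : F) • (1 : Matrix (Fin 1) (Fin 1) F)) = f t := by
      rw [transpose_smul, transpose_one, smul_mul_assoc, one_mul, smul_mul_assoc, mul_smul_comm,
        mul_one, smul_smul, hf]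
    rwa [e] at this
  have himg : (Finset.univ.image f) ⊆ O := by
    intro T hT
    obtain ⟨t, -, rfl⟩ := Finset.mem_image.1 hT
    exact hfO t
  have hfib : ∀ a ∈ Finset.univ.image f,
      ((Finset.univ : Finset Fˣ).filter fun x => f x = a).card ≤ 2 := by
    intro a ha
    obtain ⟨t0, -, rfl⟩ := Finset.mem_image.1 ha
    have hsub : ((Finset.univ : Finset Fˣ).filter fun x => f x = f t0) ⊆ {t0, -t0} := by
      intro t ht
      rw [Finset.mem_filter] at ht
      have h1 := congrFun (congrFun ht.2 0) 0
      simp only [hf, Matrix.smul_apply, smul_eq_mul] at h1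
      have h2 : (t : F) * (t : F) = (t0 : F) * (t0 : F) := mul_right_cancel₀ hs00 h1
      have h3 : ((t : F) - t0) * ((t : F) + t0) = 0 := by linear_combination h2
      rw [Finset.mem_insert, Finset.mem_singleton]
      rcases mul_eq_zero.1 h3 with h4 | h4
      · left
        exact Units.ext (sub_eq_zero.1 h4)
      · right
        apply Units.ext
        rw [Units.val_neg]
        linear_combination h4
    exact le_trans (Finset.card_le_card hsub) Finset.card_le_two
  have h1 := Finset.card_le_mul_card_image (f := f) (Finset.univ : Finset Fˣ) 2 hfib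
  have h2 := Finset.card_le_card himg
  rw [Finset.card_univ, Fintype.card_units] at h1
  have h3 : 2 * (Finset.univ.image f).card ≤ 2 * O.card := Nat.mul_le_mul_left 2 h2
  omega

end Cfsg.Agent.Lib.Helper55_TZA_ONE
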