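import Mathlib
import Cfsg.Agent.Lib.Helper30_TZADefs

set_option autoImplicit false
set_option linter.unusedSectionVars false
set_option linter.unusedVariables false

/-!
# TZA package NDG (architect helper30, for helper75's S2524, Part A)

* `fib_nondeg` : the fibre of a set of non-degenerate matrices consists of non-degenerate matrices.
* `not_rk1_of_nondeg` : a non-degenerate matrix of size `≥ 2` is not of rank `≤ 1`.
-/

open Matrix
open Cfsg.Agent.Lib.Helper81_SymOrbit Cfsg.Agent.Lib.Helper30_TZADefs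

namespace Cfsg.Agent.Lib.Helper86_TZA_NDG

variable {F : Type*} [Field F] [Fintype F] [DecidableEq F] {m n : ℕ}

/-- NDG (S) : `dsum a S *ᵥ (0 ; x) = (0 ; S *ᵥ x)` (`dsum_mulVec`). -/
theorem fib_nondeg (O : Finset (Matrix (Fin (m + 1)) (Fin (m + 1)) F))
    (hnd : ∀ T ∈ O, Nondeg T) (a : F) : ∀ S ∈ fib O a, Nondeg S := by
  intro S hS x hx
  have hmem : dsum a S ∈ O := mem_fib.mp hS
  have h0 : dsum a S *ᵥ (Fin.cons 0 x : Fin (m + 1) → F) = 0 := by
    rw [dsum_mulVec, hx, mul_zero]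
    funext i
    refine Fin.cases ?_ (fun i' => ?_) i <;> simp
  have h1 := hnd _ hmem _ h0
  funext i
  have := congrFun h1 i.succ
  simpa using this

/-- `(a • x xᵀ) *ᵥ v = (a * (x ⬝ᵥ v)) • x` -/
theorem smul_vecMulVec_mulVec (a : F) (x v : Fin n → F) :
    (a • vecMulVec x x) *ᵥ v = (a * (x ⬝ᵥ v)) • x := by
  funext i
  simp only [Matrix.mulVec, dotProduct, Matrix.smul_apply, vecMulVec_apply, Pi.smul_apply,
    smul_eq_mul, Finset.mul_sum]
  rw [Finset.sum_mul]
  refine Finset.sum_congr rfl (fun j _ => ?_)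
  ring

/-- NDG (M) : a matrix `a • x xᵀ` of size `≥ 2` kills a non-zero vector (`x = 0`: everything;
`x i ≠ 0`: `x j • e_i - x i • e_j` for `j ≠ i`, non-zero). -/
theorem not_rk1_of_nondeg (h2 : 2 ≤ n) (T : Matrix (Fin n) (Fin n) F) (hnd : Nondeg T) :
    ¬ Rk1 T := by
  rintro ⟨a, x, rfl⟩
  -- it suffices to find `v ≠ 0` with `x ⬝ᵥ v = 0`
  have key : ∀ v : Fin n → F, x ⬝ᵥ v = 0 → v = 0 := by
    intro v hv
    apply hnd
    rw [smul_vecMulVec_mulVec, hv, mul_zero, zero_smul]
  by_cases hx : x = 0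
  · have h := key (Pi.single (⟨0, by omega⟩ : Fin n) (1 : F)) (by simp [hx])
    have := congrFun h ⟨0, by omega⟩
    simp at this
  · obtain ⟨i, hi⟩ : ∃ i, x i ≠ 0 := by
      by_contra hcon
      push Not at hcon
      exact hx (funext hcon)
    obtain ⟨j, hj⟩ : ∃ j : Fin n, j ≠ i := by
      by_cases h0 : i = ⟨0, by omega⟩
      · exact ⟨⟨1, by omega⟩, by rw [h0]; intro h; simpa using congrArg Fin.val h⟩
      · exact ⟨⟨0, by omega⟩, fun h => h0 h.symm⟩
    have h := key (x j • Pi.single i (1 : F) - x i • Pi.single j (1 : F)) (by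
      simp [dotProduct_sub, dotProduct_smul]
      ring)
    have := congrFun h j
    simp [hj] at this
    exact hi this

end Cfsg.Agent.Lib.Helper86_TZA_NDG
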