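import Mathlib
import Cfsg.Agent.Lib.Helper30_TZADefs

/-!
# TZA package ARITH (helper30's market `tza_packages`): natural number arithmetic
-/

set_option autoImplicit false
set_option linter.unusedSectionVars false
set_option linter.unusedVariables false

open Matrix
open Cfsg.Agent.Lib.Helper81_SymOrbit Cfsg.Agent.Lib.Helper30_TZADefs

namespace Cfsg.Agent.Lib.Helper8_TZA_ARITH

variable {F : Type*} [Field F] [Fintype F] [DecidableEq F] {m n : ℕ}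

theorem arith_base (q : ℕ) (hq : 1 ≤ q) :
    (q ^ 2 - 1) * (q ^ 2 - q) = (q + 1) * ((q - 1) * (q * (q - 1))) := by
  obtain ⟨r, rfl⟩ : ∃ r, q = r + 1 := ⟨q - 1, by omega⟩
  have h1 : (r + 1) ^ 2 - 1 = r * (r + 2) := by
    apply Nat.sub_eq_of_eq_add; ring
  have h2 : (r + 1) ^ 2 - (r + 1) = (r + 1) * r := by
    apply Nat.sub_eq_of_eq_add; ring
  rw [h1, h2, Nat.add_sub_cancel]
  ring

theorem arith_I (q k : ℕ) (hq : 1 ≤ q) (hk : 1 ≤ k) :
    (q ^ k - 1) * (q ^ k - q) + (q + 1) * ((q - 1) * (q ^ k * (q ^ k - 1))) =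
      (q ^ (k + 1) - 1) * (q ^ (k + 1) - q) := by
  have h1 : 1 ≤ q ^ k := Nat.one_le_pow _ _ hq
  have h2 : q ≤ q ^ k := by
    calc q = q ^ 1 := (pow_one q).symm
      _ ≤ q ^ k := Nat.pow_le_pow_right hq hk
  have h3 : 1 ≤ q ^ (k + 1) := Nat.one_le_pow _ _ hq
  have h4 : q ≤ q ^ (k + 1) := by
    calc q = q ^ 1 := (pow_one q).symm
      _ ≤ q ^ (k + 1) := Nat.pow_le_pow_right hq (by omega)
  zify [h1, h2, h3, h4, hq]
  ring

theorem arith_II (q k : ℕ) (hq : 3 ≤ q) (hk : 2 ≤ k) :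
    (q ^ (k + 1) - 1) * (q ^ (k + 1) - q) ≤ (q - 1) * (q ^ k * ((q ^ k - 1) * (q ^ k - q))) := by
  have hQ : q * q ≤ q ^ k := by
    calc q * q = q ^ 2 := by ring
      _ ≤ q ^ k := Nat.pow_le_pow_right (by omega) hk
  have e1 : q ^ (k + 1) = q * q ^ k := by rw [pow_succ]; ring
  rw [e1]
  generalize q ^ k = Q at hQ ⊢
  have hA : q * Q - 1 ≤ q * Q := Nat.sub_le _ _
  have hB : q * Q - q = q * (Q - 1) := by rw [Nat.mul_sub, mul_one]
  have key : q * q ≤ (q - 1) * (Q - q) := by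
    obtain ⟨r, rfl⟩ : ∃ r, q = r + 3 := ⟨q - 3, by omega⟩
    obtain ⟨s, hs⟩ : ∃ s, Q = (r + 3) * (r + 3) + s := ⟨Q - (r + 3) * (r + 3), by omega⟩
    have h5 : Q - (r + 3) = (r + 3) * (r + 2) + s := by
      apply Nat.sub_eq_of_eq_add; rw [hs]; ring
    have h6 : r + 3 - 1 = r + 2 := by omega
    rw [h5, h6]
    nlinarith
  calc (q * Q - 1) * (q * Q - q) ≤ (q * Q) * (q * (Q - 1)) := by
        rw [hB]; exact Nat.mul_le_mul_right _ hA
    _ = (q * q) * (Q * (Q - 1)) := by ring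
    _ ≤ ((q - 1) * (Q - q)) * (Q * (Q - 1)) := Nat.mul_le_mul_right _ key
    _ = (q - 1) * (Q * ((Q - 1) * (Q - q))) := by ring

end Cfsg.Agent.Lib.Helper8_TZA_ARITH
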