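import Mathlib
import Cfsg.Agent.Lib.Helper30_TZADefs

/-!
# TZA package SPLIT (helper30's market `tza_packages`)

If some member of `O` represents `a ≠ 0` then `a E_00 ⊕ S ∈ O` for some `S`.
-/

set_option autoImplicit false
set_option linter.unusedSectionVars false
set_option linter.unusedVariables false

open Matrix
open Cfsg.Agent.Lib.Helper81_SymOrbit Cfsg.Agent.Lib.Helper30_TZADefs

namespace Cfsg.Agent.Lib.Helper8_TZA_SPLIT

variable {F : Type*} [Field F] [Fintype F] [DecidableEq F] {m n : ℕ}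

theorem fib_nonempty (h1 : 1 ≤ m) (O : Finset (Matrix (Fin (m + 1)) (Fin (m + 1)) F))
    (hsym : AllSym O) (hstab : CongClosed O) (T : Matrix (Fin (m + 1)) (Fin (m + 1)) F)
    (hT : T ∈ O) (x : Fin (m + 1) → F) (a : F) (ha : a ≠ 0) (hx : qf T x = a) :
    (fib O a).Nonempty := by
  have hx0 : x ≠ 0 := by
    rintro rfl
    apply ha
    rw [← hx]
    simp [qf]
  have he0 : (Pi.single (0 : Fin (m + 1)) (1 : F) : Fin (m + 1) → F) ≠ 0 := by
    intro h
    have := congrFun h 0
    simp at this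
  obtain ⟨A, B, hAB, hBA, hAx⟩ := exists_map (by omega : 2 ≤ m + 1) he0 hx0
  have hT'O : Aᵀ * T * A ∈ O := hstab T hT A B hAB
  have hT'00 : (Aᵀ * T * A) 0 0 = a := by
    rw [← qf_single (Aᵀ * T * A) 0, qf_congr, hAx, hx]
  generalize Aᵀ * T * A = T' at hT'O hT'00
  let c : Fin m → F := fun j => -(T' 0 j.succ) / a
  have hT''O : (uni c)ᵀ * T' * uni c ∈ O := hstab T' hT'O (uni c) (uni (-c)) (uni_mul_neg c)
  have h00 : ((uni c)ᵀ * T' * uni c) 0 0 = a := by rw [uni_congr_zero_zero, hT'00]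
  have h0s : ∀ j : Fin m, ((uni c)ᵀ * T' * uni c) 0 j.succ = 0 := by
    intro j
    rw [uni_congr_zero_succ, hT'00]
    show T' 0 j.succ + -(T' 0 j.succ) / a * a = 0
    field_simp
    ring
  generalize (uni c)ᵀ * T' * uni c = T'' at hT''O h00 h0s
  have hsymT'' : T''ᵀ = T'' := hsym T'' hT''O
  have hs0 : ∀ i : Fin m, T'' i.succ 0 = 0 := by
    intro i
    have := congrFun (congrFun hsymT'' i.succ) 0
    rw [transpose_apply] at this
    rw [← this]
    exact h0s i
  have hd := eq_dsum T'' h0s hs0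
  refine ⟨T''.submatrix Fin.succ Fin.succ, mem_fib.mpr ?_⟩
  rw [← h00, ← hd]
  exact hT''O

end Cfsg.Agent.Lib.Helper8_TZA_SPLIT
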