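import Mathlib
import Cfsg.Agent.Lib.Helper30_TZADefs

set_option autoImplicit false
set_option linter.unusedSectionVars false
set_option linter.unusedVariables false

/-!
# TZA package FIBCL (architect helper30): the fibre `fib O a` is congruence closed and symmetric
-/

open Matrix
open Cfsg.Agent.Lib.Helper81_SymOrbit Cfsg.Agent.Lib.Helper30_TZADefs

namespace Cfsg.Agent.Lib.Helper91_TZA_FIBCL

variable {F : Type*} [Field F] [Fintype F] [DecidableEq F] {m n : ℕ}

/-- FIBCL (S) : `fib O a` is congruence closed -/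
theorem fib_closed (O : Finset (Matrix (Fin (m + 1)) (Fin (m + 1)) F)) (hstab : CongClosed O)
    (a : F) : CongClosed (fib O a) := by
  intro S hS A B hAB
  rw [mem_fib] at hS ⊢
  have h1 : dsum (1 : F) A * dsum (1 : F) B = 1 := by
    rw [dsum_mul, hAB, one_mul, dsum_one_one]
  have h2 := hstab (dsum a S) hS (dsum (1 : F) A) (dsum (1 : F) B) h1
  rw [dsum_transpose, dsum_mul, dsum_mul, one_mul, mul_one] at h2
  exact h2

theorem fib_sym (O : Finset (Matrix (Fin (m + 1)) (Fin (m + 1)) F)) (hsym : AllSym O) (a : F) :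
    AllSym (fib O a) := by
  intro S hS
  rw [mem_fib] at hS
  have h1 := hsym (dsum a S) hS
  rw [dsum_transpose] at h1
  exact dsum_injective a h1

end Cfsg.Agent.Lib.Helper91_TZA_FIBCL
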