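import Mathlib
import Cfsg.Agent.Lib.Helper30_TZADefs
import Cfsg.Agent.Lib.Helper12_TZA_REP
import Cfsg.Agent.Lib.Helper8_TZA_SPLIT
import Cfsg.Agent.Lib.Helper30_TZA_FIBCARD
import Cfsg.Agent.Lib.Helper91_TZA_FIBCL
import Cfsg.Agent.Lib.Helper53_TZA_FIBNR
import Cfsg.Agent.Lib.Helper30_TZA_RAD
import Cfsg.Agent.Lib.Helper86_TZA_NDG
import Cfsg.Agent.Lib.Helper55_TZA_ONE
import Cfsg.Agent.Lib.Helper8_TZA_ARITH

set_option autoImplicit false
set_option linter.unusedSectionVars false
set_option linter.unusedVariables false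

/-!
# S2524 Part A (architect helper75; sub-market `tza_packages` by helper30): THEOREM A

`orbit_bound_norank1`: a non-empty congruence-closed set `O` of symmetric `n × n` matrices over `F_q`
(`q` odd, `n ≥ 2`) without members of rank `≤ 1` satisfies `(q^n - 1)(q^n - q) ≤ 2 (q + 1) |O|`.
Induction on `n` via the fibres of `T ↦ T 0 0`.  Packages: REP (helper12), SPLIT, ARITH (helper8),
FIBCARD, RAD (helper30), FIBCL (helper91), FIBNR (helper53), NDG (helper86), ONE (helper55).
-/

open Matrix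
open Cfsg.Agent.Lib.Helper81_SymOrbit Cfsg.Agent.Lib.Helper30_TZADefs
open Cfsg.Agent.Lib.Helper12_TZA_REP Cfsg.Agent.Lib.Helper8_TZA_SPLIT
  Cfsg.Agent.Lib.Helper30_TZA_FIBCARD Cfsg.Agent.Lib.Helper91_TZA_FIBCL
  Cfsg.Agent.Lib.Helper53_TZA_FIBNR Cfsg.Agent.Lib.Helper30_TZA_RAD
  Cfsg.Agent.Lib.Helper86_TZA_NDG Cfsg.Agent.Lib.Helper55_TZA_ONE
  Cfsg.Agent.Lib.Helper8_TZA_ARITH

namespace Cfsg.Agent.Lib.Helper30_TZA_Main

variable {F : Type*} [Field F] [Fintype F] [DecidableEq F]

local notation "q" => Fintype.card F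

theorem two_ne_zero_of_odd' (hodd : Odd (Fintype.card F)) : (2 : F) ≠ 0 := by
  intro h2
  have h3 : ringChar F ∣ 2 := ringChar.dvd (by exact_mod_cast h2)
  have h4 : ringChar F = 2 := by
    rcases (Nat.dvd_prime Nat.prime_two).mp h3 with h | h
    · exact absurd h CharP.ringChar_ne_one
    · exact h
  have h5 := FiniteField.even_card_of_char_two h4
  rcases hodd with ⟨k, hk⟩
  omega

theorem three_le_card (hodd : Odd (Fintype.card F)) : 3 ≤ Fintype.card F := by
  have h1 : 1 < Fintype.card F := Fintype.one_lt_card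
  rcases hodd with ⟨k, hk⟩
  omega

/-- `|O| = |fibre over 0| + ∑_{a ≠ 0} |fibre over a|` -/
theorem card_split {k : ℕ} (O : Finset (Matrix (Fin (k + 1)) (Fin (k + 1)) F)) :
    O.card = (O.filter fun T : Matrix (Fin (k + 1)) (Fin (k + 1)) F => T 0 0 = 0).card +
      ∑ a ∈ (Finset.univ.erase (0 : F)),
        (O.filter fun T : Matrix (Fin (k + 1)) (Fin (k + 1)) F => T 0 0 = a).card := by
  rw [Finset.card_eq_sum_card_fiberwise (f := fun T : Matrix (Fin (k + 1)) (Fin (k + 1)) F => T 0 0)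
    (t := Finset.univ) (fun _ _ => Finset.mem_univ _)]
  rw [← Finset.add_sum_erase _ _ (Finset.mem_univ (0 : F))]

theorem card_erase_zero : (Finset.univ.erase (0 : F)).card = Fintype.card F - 1 := by
  rw [Finset.card_erase_of_mem (Finset.mem_univ _), Finset.card_univ]

/-- all non-zero fibres are non-empty -/
theorem fib_nonempty' {k : ℕ} (hodd : Odd (Fintype.card F)) (h1 : 1 ≤ k)
    (O : Finset (Matrix (Fin (k + 1)) (Fin (k + 1)) F)) (hsym : AllSym O) (hnr : NoRk1 O)
    (hstab : CongClosed O) (hO : O.Nonempty) (a : F) (ha : a ≠ 0) : (fib O a).Nonempty := by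
  obtain ⟨T, hT⟩ := hO
  obtain ⟨x, hx⟩ := rep_all hodd T (hsym T hT) (hnr T hT) a
  exact fib_nonempty h1 O hsym hstab T hT x a ha hx

/-- summing a uniform lower bound over the non-zero fibres -/
theorem sum_bound {k : ℕ} (O : Finset (Matrix (Fin (k + 1)) (Fin (k + 1)) F)) (c N : ℕ)
    (h : ∀ a : F, a ≠ 0 →
      N ≤ c * (O.filter fun T : Matrix (Fin (k + 1)) (Fin (k + 1)) F => T 0 0 = a).card) :
    (Fintype.card F - 1) * N ≤ c * ∑ a ∈ (Finset.univ.erase (0 : F)),
        (O.filter fun T : Matrix (Fin (k + 1)) (Fin (k + 1)) F => T 0 0 = a).card := by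
  rw [Finset.mul_sum, ← card_erase_zero, ← smul_eq_mul]
  exact Finset.card_nsmul_le_sum _ _ _ (fun a ha => h a (Finset.ne_of_mem_erase ha))

/-- THEOREM A, indexed by `k = n - 1 ≥ 1` -/
theorem orbit_bound_A (hodd : Odd (Fintype.card F)) : ∀ k : ℕ, 1 ≤ k →
    ∀ O : Finset (Matrix (Fin (k + 1)) (Fin (k + 1)) F), AllSym O → NoRk1 O → CongClosed O →
      O.Nonempty →
      (Fintype.card F ^ (k + 1) - 1) * (Fintype.card F ^ (k + 1) - Fintype.card F) ≤
        2 * (Fintype.card F + 1) * O.card := by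
  have hq3 := three_le_card hodd
  have h2F := two_ne_zero_of_odd' hodd
  intro k hk
  induction k, hk using Nat.le_induction with
  | base =>
    intro O hsym hnr hstab hO
    have hfa : ∀ a : F, a ≠ 0 → q * (q - 1) ≤
        2 * (O.filter fun T : Matrix (Fin (1 + 1)) (Fin (1 + 1)) F => T 0 0 = a).card := by
      intro a ha
      have hne := fib_nonempty' hodd le_rfl O hsym hnr hstab hO a ha
      have h1 := fib_card O hstab a ha
      have h2 := orbit_bound_one (fib O a) (fib_ne_zero O hnr a) (fib_closed O hstab a) hne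
      rw [pow_one] at h1
      have h3 : q - 1 ≤ 2 * (fib O a).card := by omega
      calc q * (q - 1) ≤ q * (2 * (fib O a).card) := Nat.mul_le_mul_left _ h3
        _ = 2 * (q * (fib O a).card) := by ring
        _ ≤ _ := Nat.mul_le_mul_left _ h1
    have hs := sum_bound O 2 (q * (q - 1)) hfa
    have hc := card_split O
    have e : (q ^ (1 + 1) - 1) * (q ^ (1 + 1) - q) = (q + 1) * ((q - 1) * (q * (q - 1))) :=
      arith_base q (by omega)
    rw [e]
    calc (q + 1) * ((q - 1) * (q * (q - 1)))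
        ≤ (q + 1) * (2 * ∑ a ∈ (Finset.univ.erase (0 : F)),
            (O.filter fun T : Matrix (Fin (1 + 1)) (Fin (1 + 1)) F => T 0 0 = a).card) :=
          Nat.mul_le_mul_left _ hs
      _ ≤ (q + 1) * (2 * O.card) := by
          apply Nat.mul_le_mul_left
          apply Nat.mul_le_mul_left
          rw [hc]
          exact Nat.le_add_left _ _
      _ = 2 * (q + 1) * O.card := by ring
  | succ k hk ih =>
    intro O hsym hnr hstab hO
    have hk1 : 1 ≤ k + 1 := by omega
    have hk2 : 2 ≤ k + 1 := by omega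
    have hc := card_split O
    by_cases hdeg : ∃ T ∈ O, ∃ x : Fin (k + 1 + 1) → F, x ≠ 0 ∧ T *ᵥ x = 0
    · -- Case I
      obtain ⟨T, hT, x, hx0, hTx⟩ := hdeg
      have hrad := rad_nonempty hk1 O hsym hstab T hT x hx0 hTx
      have h0 := ih (fib O 0) (fib_sym O hsym 0) (fib_zero_noRk1 O hnr) (fib_closed O hstab 0) hrad
      have h0' := rad_card O
      have hfa : ∀ a : F, a ≠ 0 → q ^ (k + 1) * (q ^ (k + 1) - 1) ≤
          2 * (O.filter fun T : Matrix (Fin (k + 1 + 1)) (Fin (k + 1 + 1)) F => T 0 0 = a).card := by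
        intro a ha
        have hne := fib_nonempty' hodd hk1 O hsym hnr hstab hO a ha
        have h1 := fib_card O hstab a ha
        have h2 := orbit_bound h2F hk2 (fib O a) (fib_sym O hsym a) (fib_ne_zero O hnr a)
          (fib_closed O hstab a) hne
        have h3 : q ^ (k + 1) - 1 ≤ 2 * (fib O a).card := by omega
        calc q ^ (k + 1) * (q ^ (k + 1) - 1) ≤ q ^ (k + 1) * (2 * (fib O a).card) :=
              Nat.mul_le_mul_left _ h3
          _ = 2 * (q ^ (k + 1) * (fib O a).card) := by ring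
          _ ≤ _ := Nat.mul_le_mul_left _ h1
      have hs := sum_bound O 2 (q ^ (k + 1) * (q ^ (k + 1) - 1)) hfa
      rw [← arith_I q (k + 1) (by omega) hk1]
      calc (q ^ (k + 1) - 1) * (q ^ (k + 1) - q) +
            (q + 1) * ((q - 1) * (q ^ (k + 1) * (q ^ (k + 1) - 1)))
          ≤ 2 * (q + 1) * (fib O 0).card + (q + 1) * (2 * ∑ a ∈ (Finset.univ.erase (0 : F)),
              (O.filter fun T : Matrix (Fin (k + 1 + 1)) (Fin (k + 1 + 1)) F => T 0 0 = a).card) :=
            Nat.add_le_add h0 (Nat.mul_le_mul_left _ hs)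
        _ ≤ 2 * (q + 1) * (O.filter fun T : Matrix (Fin (k + 1 + 1)) (Fin (k + 1 + 1)) F =>
              T 0 0 = 0).card + (q + 1) * (2 * ∑ a ∈ (Finset.univ.erase (0 : F)),
              (O.filter fun T : Matrix (Fin (k + 1 + 1)) (Fin (k + 1 + 1)) F => T 0 0 = a).card) :=
            Nat.add_le_add_right (Nat.mul_le_mul_left _ h0') _
        _ = 2 * (q + 1) * O.card := by rw [hc]; ring
    · -- Case II
      have hnd : ∀ T ∈ O, Nondeg T := by
        intro T hT x hTx
        by_contra hx0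
        exact hdeg ⟨T, hT, x, hx0, hTx⟩
      have hfa : ∀ a : F, a ≠ 0 →
          q ^ (k + 1) * ((q ^ (k + 1) - 1) * (q ^ (k + 1) - q)) ≤ (2 * (q + 1)) *
            (O.filter fun T : Matrix (Fin (k + 1 + 1)) (Fin (k + 1 + 1)) F => T 0 0 = a).card := by
        intro a ha
        have hne := fib_nonempty' hodd hk1 O hsym hnr hstab hO a ha
        have h1 := fib_card O hstab a ha
        have hnr' : NoRk1 (fib O a) := fun S hS =>
          not_rk1_of_nondeg hk2 S (fib_nondeg O hnd a S hS)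
        have h2 := ih (fib O a) (fib_sym O hsym a) hnr' (fib_closed O hstab a) hne
        calc q ^ (k + 1) * ((q ^ (k + 1) - 1) * (q ^ (k + 1) - q))
            ≤ q ^ (k + 1) * (2 * (q + 1) * (fib O a).card) := Nat.mul_le_mul_left _ h2
          _ = (2 * (q + 1)) * (q ^ (k + 1) * (fib O a).card) := by ring
          _ ≤ _ := Nat.mul_le_mul_left _ h1
      have hs := sum_bound O (2 * (q + 1)) _ hfa
      calc (q ^ (k + 1 + 1) - 1) * (q ^ (k + 1 + 1) - q)
          ≤ (q - 1) * (q ^ (k + 1) * ((q ^ (k + 1) - 1) * (q ^ (k + 1) - q))) :=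
            arith_II q (k + 1) hq3 hk2
        _ ≤ 2 * (q + 1) * ∑ a ∈ (Finset.univ.erase (0 : F)),
              (O.filter fun T : Matrix (Fin (k + 1 + 1)) (Fin (k + 1 + 1)) F => T 0 0 = a).card := hs
        _ ≤ 2 * (q + 1) * O.card := by
            apply Nat.mul_le_mul_left
            rw [hc]
            exact Nat.le_add_left _ _

/-- THEOREM A (Part A of S2524): a non-empty congruence-closed set of symmetric `n × n` matrices
over `F_q` (`q` odd, `n ≥ 2`) without members of rank `≤ 1` has at least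
`(q^n - 1)(q^n - q) / (2 (q + 1))` elements. -/
theorem orbit_bound_norank1 (hodd : Odd (Fintype.card F)) {n : ℕ} (hn : 2 ≤ n)
    (O : Finset (Matrix (Fin n) (Fin n) F)) (hsym : ∀ T ∈ O, Tᵀ = T)
    (hnr : ∀ T ∈ O, ¬ Rk1 T)
    (hstab : ∀ T ∈ O, ∀ A B : Matrix (Fin n) (Fin n) F, A * B = 1 → Aᵀ * T * A ∈ O)
    (hO : O.Nonempty) :
    (Fintype.card F ^ n - 1) * (Fintype.card F ^ n - Fintype.card F) ≤
      2 * (Fintype.card F + 1) * O.card := by
  obtain ⟨k, rfl⟩ : ∃ k, n = k + 1 := ⟨n - 1, by omega⟩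
  exact orbit_bound_A hodd k (by omega) O hsym hnr hstab hO

end Cfsg.Agent.Lib.Helper30_TZA_Main
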