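import Mathlib
import Cfsg.Agent.Lib.Helper75_TZDefs
import Cfsg.Agent.Lib.Helper30_TZA_Main

set_option autoImplicit false
set_option linter.unusedSectionVars false

/-!
# S2524 Part A, COROLLARY F1 (architect helper75): `gap_of_weight`

A representation of `Sp_2n(q)` (`q` odd, `n ≥ 2`) having a weight of the Siegel radical that is not
of rank `≤ 1` has dimension at least `(q^n - 1)(q^n - q) / (2 (q + 1))`.

Also: `isRk1_congr`, `rk1_of_corner`, `rk1_row_zero` (small facts on `IsRk1`).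
-/

namespace Cfsg.Agent.Lib.Helper75_TZ

open Matrix Module
open Cfsg.Agent.Lib.Helper5_SpPerfect Cfsg.Agent.Lib.Helper81_SpWeights
  Cfsg.Agent.Lib.Helper81_JointEigen Cfsg.Agent.Lib.Helper81_AddCharDual

section Rk1

variable {F : Type*} [Field F] {n : ℕ}

/-- `IsRk1` is `Helper30_TZADefs.Rk1` -/
theorem isRk1_iff_Rk1 (T : Matrix (Fin n) (Fin n) F) :
    IsRk1 T ↔ Cfsg.Agent.Lib.Helper30_TZADefs.Rk1 T := Iff.rfl

/-- (a) `IsRk1` is invariant under congruence -/
theorem isRk1_congr {T : Matrix (Fin n) (Fin n) F} (h : IsRk1 T) (A : Matrix (Fin n) (Fin n) F) :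
    IsRk1 (Aᵀ * T * A) := by
  obtain ⟨a, x, rfl⟩ := h
  refine ⟨a, Aᵀ *ᵥ x, ?_⟩
  rw [Matrix.mul_smul, Matrix.smul_mul, mul_vecMulVec, vecMulVec_mul, mulVec_transpose]

/-- (a') and conversely along an invertible matrix -/
theorem isRk1_of_congr {T : Matrix (Fin n) (Fin n) F} (A B : Matrix (Fin n) (Fin n) F)
    (hAB : A * B = 1) (h : IsRk1 (Aᵀ * T * A)) : IsRk1 T := by
  have h1 := isRk1_congr h B
  have hBA : Bᵀ * Aᵀ = 1 := by rw [← Matrix.transpose_mul, hAB, Matrix.transpose_one]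
  have e : Bᵀ * (Aᵀ * T * A) * B = T := by
    calc Bᵀ * (Aᵀ * T * A) * B = (Bᵀ * Aᵀ) * T * (A * B) := by simp only [Matrix.mul_assoc]
      _ = T := by rw [hBA, hAB, Matrix.one_mul, Matrix.mul_one]
  rwa [e] at h1

/-- (b) a rank one matrix with non-zero diagonal entry `T i0 i0 = a` is `a⁻¹ • c cᵀ`, `c` its
`i0`-th column -/
theorem rk1_of_diag {T : Matrix (Fin n) (Fin n) F} (h : IsRk1 T) (i0 : Fin n) {a : F}
    (ha : T i0 i0 = a) (ha0 : a ≠ 0) :
    T = a⁻¹ • vecMulVec (fun i => T i i0) (fun i => T i i0) := by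
  obtain ⟨b, x, rfl⟩ := h
  simp only [Matrix.smul_apply, vecMulVec_apply, smul_eq_mul] at ha ⊢
  have hb : b ≠ 0 := by
    rintro rfl
    apply ha0
    rw [← ha, zero_mul]
  have hx : x i0 ≠ 0 := by
    intro h0
    apply ha0
    rw [← ha, h0, mul_zero, mul_zero]
  ext i j
  simp only [Matrix.smul_apply, vecMulVec_apply, smul_eq_mul]
  rw [← ha]
  field_simp

/-- (b) with the index `0` -/
theorem rk1_of_corner {m : ℕ} {T : Matrix (Fin (m + 1)) (Fin (m + 1)) F} (h : IsRk1 T) {a : F}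
    (ha : T 0 0 = a) (ha0 : a ≠ 0) :
    T = a⁻¹ • vecMulVec (fun i => T i 0) (fun i => T i 0) :=
  rk1_of_diag h 0 ha ha0

/-- (c) a rank one matrix with a zero diagonal entry has the corresponding row zero -/
theorem rk1_row_zero {T : Matrix (Fin n) (Fin n) F} (h : IsRk1 T) (i : Fin n) (hi : T i i = 0)
    (j : Fin n) : T i j = 0 := by
  obtain ⟨b, x, rfl⟩ := h
  simp only [Matrix.smul_apply, vecMulVec_apply, smul_eq_mul] at hi ⊢
  rcases mul_eq_zero.mp hi with h | h
  · rw [h, zero_mul]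
  · rcases mul_eq_zero.mp h with h' | h' <;> rw [h'] <;> ring

/-- (c') and the column -/
theorem rk1_col_zero {T : Matrix (Fin n) (Fin n) F} (h : IsRk1 T) (i : Fin n) (hi : T i i = 0)
    (j : Fin n) : T j i = 0 := by
  obtain ⟨b, x, rfl⟩ := h
  simp only [Matrix.smul_apply, vecMulVec_apply, smul_eq_mul] at hi ⊢
  rcases mul_eq_zero.mp hi with h | h
  · rw [h, zero_mul]
  · rcases mul_eq_zero.mp h with h' | h' <;> rw [h'] <;> ring

end Rk1

section Gap

variable {F : Type*} [Field F] [Fintype F] {n : ℕ} {K : Type*} [Field K] [IsAlgClosed K]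
  [CharZero K] {M : Type*} [AddCommGroup M] [Module K M] [FiniteDimensional K M]

omit [IsAlgClosed K] [CharZero K] in
/-- the weight spaces are permuted by the Levi elements -/
theorem wsp_cong_ne_bot (ψ₀ : AddChar F K) (R : SpG n F →* Module.End K M) (T : symSub n F)
    (hT : wsp R ψ₀ T ≠ ⊥) (B C : Matrix (Fin n) (Fin n) F) (hBC : B * C = 1) :
    wsp R ψ₀ (cong Bᵀ T) ≠ ⊥ := by
  have hCB : C * B = 1 := mul_eq_one_comm.mp hBC
  obtain ⟨x, hxmem, hxne⟩ := Submodule.exists_mem_ne_zero_of_ne_bot hT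
  have hx : ∀ S, R (xs S) x = ψ₀ (trP S T) • x := (mem_wsp R ψ₀ T x).mp hxmem
  have hRne : ∀ (h : SpG n F) (y : M), y ≠ 0 → R h y ≠ 0 := by
    intro h y hy h0
    apply hy
    have h1 : R h⁻¹ (R h y) = y := by
      rw [← Module.End.mul_apply, ← map_mul, inv_mul_cancel, map_one]; rfl
    rw [← h1, h0, map_zero]
  intro hbot
  have hy : R (Lg C B hCB) x ∈ wsp R ψ₀ (cong Bᵀ T) := by
    rw [mem_wsp]
    intro S
    have e1 : xs S * Lg C B hCB = Lg C B hCB * xs (cong B S) := by
      rw [lg_mul_xs C B hCB (cong B S), cong_cong B C hCB S]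
    rw [← Module.End.mul_apply, ← map_mul, e1, map_mul, Module.End.mul_apply, hx (cong B S),
      map_smul, trP_cong]
  rw [hbot] at hy
  exact hRne _ _ hxne ((Submodule.mem_bot K).mp hy)

set_option maxHeartbeats 1600000 in
/-- COROLLARY F1 -/
theorem gap_of_weight (hodd : Odd (Fintype.card F)) (hn : 2 ≤ n) (ψ₀ : AddChar F K)
    (hψ₀ : ψ₀ ≠ 1) (R : SpG n F →* Module.End K M) (T : symSub n F) (hT : wsp R ψ₀ T ≠ ⊥)
    (hrk : ¬ IsRk1 T.1) :
    (Fintype.card F ^ n - 1) * (Fintype.card F ^ n - Fintype.card F) ≤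
      2 * (Fintype.card F + 1) * finrank K M := by
  classical
  have h2F : (2 : F) ≠ 0 := two_ne_zero_of_odd hodd
  obtain ⟨p, hpF⟩ := CharP.exists F
  have hpp : p.Prime := by
    rcases CharP.char_is_prime_or_zero F p with h | h
    · exact h
    · subst h
      exact absurd (CharP.charP_to_charZero F) (by
        intro hz
        exact not_injective_infinite_finite (Nat.cast : ℕ → F) hz.cast_injective)
  have hp : (p : K) ≠ 0 := Nat.cast_ne_zero.mpr hpp.ne_zero
  set A : symSub n F → Module.End K M := fun S => R (xs S) with hAdef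
  have hA : ∀ S, A S ^ p = 1 := by
    intro S
    show R (xs S) ^ p = 1
    rw [← map_pow, xs_pow]
    have : p • S = 0 := by
      rw [← Nat.cast_smul_eq_nsmul F, CharP.cast_eq_zero, zero_smul]
    rw [this, xs_zero, map_one]
  have hcomm : ∀ S S', Commute (A S) (A S') := fun S S' => (xs_comm S S').map R
  have hψ0 : (ψ₀ : F → K) 0 = 1 := ψ₀.map_zero_eq_one
  have hψadd : ∀ a b, (ψ₀ : F → K) (a + b) = ψ₀ a * ψ₀ b := ψ₀.map_add_eq_mul
  have hψne : ∃ a, (ψ₀ : F → K) a ≠ 1 := by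
    by_contra hcon
    push Not at hcon
    exact hψ₀ (DFunLike.ext _ _ (fun a => by rw [hcon a]; rfl))
  set wt : symSub n F → symSub n F → K := fun T S => ψ₀ (trP S T) with hwtdef
  have hwtinj : Function.Injective wt :=
    pairing_injective (ψ₀ : F → K) hψ0 hψadd hψne trP (trP_nondeg h2F)
  -- the set of weights that are not of rank `≤ 1`
  set O : Finset (symSub n F) :=
    Finset.univ.filter fun T' => ¬ IsRk1 T'.1 ∧ wsp R ψ₀ T' ≠ ⊥ with hO
  have key := card_le_finrank hp A hA hcomm (Y := ↥O) (fun T' => wt T'.1)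
    (hwtinj.comp Subtype.val_injective) (fun T' => (Finset.mem_filter.mp T'.2).2.2)
  rw [Fintype.card_coe] at key
  have hb := Cfsg.Agent.Lib.Helper30_TZA_Main.orbit_bound_norank1 hodd hn (O.image Subtype.val)
    (by
      intro T' hT'
      obtain ⟨T'', _, rfl⟩ := Finset.mem_image.mp hT'
      exact mem_symSub.mp T''.2)
    (by
      intro T' hT'
      obtain ⟨T'', hT'', rfl⟩ := Finset.mem_image.mp hT'
      exact (Finset.mem_filter.mp hT'').2.1)
    (by
      intro T' hT' B C hBC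
      obtain ⟨T'', hT'', rfl⟩ := Finset.mem_image.mp hT'
      obtain ⟨-, hT''r, hT''e⟩ := Finset.mem_filter.mp hT''
      rw [Finset.mem_image]
      refine ⟨cong Bᵀ T'', ?_, ?_⟩
      · rw [Finset.mem_filter]
        refine ⟨Finset.mem_univ _, ?_, wsp_cong_ne_bot ψ₀ R T'' hT''e B C hBC⟩
        intro hr
        apply hT''r
        have hr' : IsRk1 (Bᵀ * T''.1 * B) := by
          have : (cong Bᵀ T'').1 = Bᵀ * T''.1 * Bᵀᵀ := rfl
          rw [this, Matrix.transpose_transpose] at hr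
          exact hr
        exact isRk1_of_congr B C hBC hr'
      · show Bᵀ * T''.1 * Bᵀᵀ = Bᵀ * T''.1 * B
        rw [Matrix.transpose_transpose])
    (by
      refine ⟨T.1, Finset.mem_image.mpr ⟨T, ?_, rfl⟩⟩
      rw [Finset.mem_filter]
      exact ⟨Finset.mem_univ _, hrk, hT⟩)
  rw [Finset.card_image_of_injective _ Subtype.val_injective] at hb
  exact le_trans hb (Nat.mul_le_mul_left _ key)

end Gap

end Cfsg.Agent.Lib.Helper75_TZ
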