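import Mathlib
import Cfsg.Prelude.Def_Solvable
import Cfsg.Prelude.Def_CaseTheorems
import Cfsg.Agent.Lib.Helper84_TutteDefs
import Cfsg.Agent.Lib.Helper84_TutteAPI

/-!
# Helper30_Tutte_SDIH4: package S-DIH4 of the S4385 market (architect helper84)

The preimage `M` of the rotation subgroup of `H / O_2(H) ≃ D_n`.
-/

set_option autoImplicit false
set_option linter.unusedVariables false

open scoped commutatorElement
open Cfsg.Agent.Lib.Helper84_TutteDefs

namespace Cfsg.Agent.Lib.Helper30_Tutte_SDIH4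

variable {G : Type*} [Group G] {H : Subgroup G} {g x0 : G} {s lam : ℕ}

/-- the rotation subgroup of the dihedral group has order `n` -/
theorem card_rot (n : ℕ) : Nat.card (Subgroup.zpowers (DihedralGroup.r 1 : DihedralGroup n)) = n := by
  rw [Nat.card_zpowers, DihedralGroup.orderOf_r_one]

/-- the rotation subgroup of the dihedral group has index `2` -/
theorem index_rot (n : ℕ) (hn : 0 < n) :
    (Subgroup.zpowers (DihedralGroup.r 1 : DihedralGroup n)).index = 2 := by
  have h1 := Subgroup.card_mul_index (Subgroup.zpowers (DihedralGroup.r 1 : DihedralGroup n))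
  rw [card_rot, DihedralGroup.nat_card, mul_comm 2 n] at h1
  exact Nat.eq_of_mul_eq_mul_left hn h1

/-- S-DIH4 (M): the preimage `M` of the rotation subgroup. -/
theorem dih_rot [Finite G] (H : Subgroup G) (n : ℕ) (hodd : Odd n) (hn3 : 3 ≤ n)
    (hdih : Nonempty (↥H ⧸ Cfsg.pCore 2 ↥H ≃* DihedralGroup n)) :
    ∃ M : Subgroup G, (Cfsg.pCore 2 ↥H).map H.subtype ≤ M ∧ M ≤ H ∧ M.relIndex H = 2 ∧
      ((Cfsg.pCore 2 ↥H).map H.subtype).relIndex M = n := by
  obtain ⟨f, hf, hker⟩ : ∃ f : ↥H →* DihedralGroup n, Function.Surjective f ∧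
      f.ker = Cfsg.pCore 2 ↥H := by
    obtain ⟨φ⟩ := hdih
    refine ⟨φ.toMonoidHom.comp (QuotientGroup.mk' (Cfsg.pCore 2 ↥H)),
      φ.surjective.comp (QuotientGroup.mk'_surjective _), ?_⟩
    ext x
    rw [MonoidHom.mem_ker, MonoidHom.comp_apply]
    show φ (QuotientGroup.mk' (Cfsg.pCore 2 ↥H) x) = 1 ↔ _
    rw [MulEquiv.map_eq_one_iff, QuotientGroup.mk'_apply, QuotientGroup.eq_one_iff]
  refine ⟨((Subgroup.zpowers (DihedralGroup.r 1 : DihedralGroup n)).comap f).map H.subtype,
    ?_, ?_, ?_, ?_⟩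
  · apply Subgroup.map_mono
    rw [← hker, ← MonoidHom.comap_bot]
    exact Subgroup.comap_mono bot_le
  · exact Subgroup.map_subtype_le _
  · show ((((Subgroup.zpowers (DihedralGroup.r 1 : DihedralGroup n)).comap f).map H.subtype).comap
      H.subtype).index = 2
    rw [Subgroup.comap_map_eq_self_of_injective H.subtype_injective,
      Subgroup.index_comap_of_surjective _ hf]
    exact index_rot n (by omega)
  · rw [Subgroup.relIndex_map_map_of_injective _ _ H.subtype_injective, ← hker, ← MonoidHom.comap_bot,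
      Subgroup.relIndex_comap, Subgroup.map_comap_eq_self_of_surjective hf, Subgroup.relIndex_bot_left]
    exact card_rot n

end Cfsg.Agent.Lib.Helper30_Tutte_SDIH4
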