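import Mathlib
import Cfsg.Prelude.Def_Solvable
import Cfsg.Prelude.Def_CaseTheorems
import Cfsg.Agent.Lib.Helper84_TutteDefs
import Cfsg.Agent.Lib.Helper84_TutteAPI

/-!
# Helper30_Tutte_TA: package T-A of the S4385 market (architect helper84), paper (A)
-/

set_option autoImplicit false

open scoped commutatorElement
open Cfsg.Agent.Lib.Helper84_TutteDefs

namespace Cfsg.Agent.Lib.Helper30_Tutte_TA

variable {G : Type*} [Group G] {H : Subgroup G} {g x0 : G} {s lam : ℕ}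

/-- T-A (M), paper (A). -/
theorem lam_le_A (h : TSys H g x0 s) (hl : IsLam g x0 lam) (hls : lam + 1 ≤ s) : 2 * lam ≤ s + 1 := by
  by_contra hcon
  push Not at hcon
  have h2 := h.two_le
  have hzX : xs g x0 ((lam : ℤ) - 2) ∈ XX g x0 0 ((s : ℤ) - 2) := xs_mem_XX (by omega) (by omega)
  have hcomm : ∀ l : ℤ, -1 ≤ l → l ≤ (s : ℤ) - 1 →
      xs g x0 ((lam : ℤ) - 2) * xs g x0 l = xs g x0 l * xs g x0 ((lam : ℤ) - 2) := by
    intro l h1 h3
    apply hl.commute
    rw [abs_lt]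
    constructor <;> omega
  have hzH : ∀ y ∈ H, xs g x0 ((lam : ℤ) - 2) * y = y * xs g x0 ((lam : ℤ) - 2) := by
    intro y hy
    rw [← h.top] at hy
    exact commute_XX (fun l h1 h3 => hcomm l (by omega) h3) hy
  have hzgH : ∀ y ∈ cj g H, xs g x0 ((lam : ℤ) - 2) * y = y * xs g x0 ((lam : ℤ) - 2) := by
    intro y hy
    rw [h.cj_H] at hy
    exact commute_XX (fun l h1 h3 => hcomm l h1 (by omega)) hy
  have hinv : ∀ y : G, xs g x0 ((lam : ℤ) - 2) * y = y * xs g x0 ((lam : ℤ) - 2) →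
      cj y (Subgroup.zpowers (xs g x0 ((lam : ℤ) - 2))) = Subgroup.zpowers (xs g x0 ((lam : ℤ) - 2)) := by
    intro y hy
    show (Subgroup.zpowers (xs g x0 ((lam : ℤ) - 2))).map (MulAut.conj y).toMonoidHom = _
    rw [MonoidHom.map_zpowers]
    congr 1
    show y * xs g x0 ((lam : ℤ) - 2) * y⁻¹ = xs g x0 ((lam : ℤ) - 2)
    rw [← hy, mul_inv_cancel_right]
  have hN : Subgroup.zpowers (xs g x0 ((lam : ℤ) - 2)) = ⊥ := by
    apply h.core
    · rw [Subgroup.zpowers_le, Subgroup.mem_inf]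
      exact ⟨h.XX_le_H le_rfl (by omega) hzX, h.XX_le_cjH (by omega) le_rfl hzX⟩
    · intro y hy
      exact hinv y (hzH y hy)
    · intro y hy
      exact hinv y (hzgH y hy)
  rw [Subgroup.zpowers_eq_bot] at hN
  exact h.xs_ne_one _ hN

end Cfsg.Agent.Lib.Helper30_Tutte_TA
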