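import Mathlib
import Cfsg.Agent.Lib.Helper67_UT2Defs
import Cfsg.Agent.Lib.Helper82_T2_KR

set_option autoImplicit false
set_option linter.unusedSectionVars false
set_option linter.unusedVariables false

/-!
# UTENS2 package EIGU (architect helper67): `eig_iso`

A linear map having every isotropic vector of a nondegenerate subspace `D` (`dim D ≥ 2`) of a
hermitian space as an eigenvector is scalar on `D`.
-/

open Module
open Cfsg.Agent.Lib.Helper94_Symp Cfsg.Agent.Lib.Helper94_Herm Cfsg.Agent.Lib.Helper13_PSUSimple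
  Cfsg.Agent.Lib.Helper94_FrmDefs Cfsg.Agent.Lib.Helper94_HermEich
  Cfsg.Agent.Lib.Helper67_Tens2Defs Cfsg.Agent.Lib.Helper67_UT2Defs

namespace Cfsg.Agent.Lib.Helper30_UT2_EIGU

variable {F W : Type*} [Field F] [Finite F] [AddCommGroup W] [Module F W] [FiniteDimensional F W]
variable {σ : F →+* F} {β : W →ₗ[F] W →ₛₗ[σ] F}

/-- two independent vectors in a subspace of dimension `≥ 2` -/
theorem exists_indep_pair (D : Submodule F W) (h2 : 2 ≤ finrank F D) :
    ∃ x ∈ D, ∃ y ∈ D, x ≠ 0 ∧ y ∉ Submodule.span F {x} := by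
  have hpos : 0 < finrank F D := by omega
  obtain ⟨x0, hx0⟩ := (Module.finrank_pos_iff_exists_ne_zero (R := F) (M := D)).mp hpos
  by_contra hcon
  push Not at hcon
  have hle : finrank F D ≤ 1 := by
    apply finrank_le_one x0
    intro w
    have hx0' : (x0 : W) ≠ 0 := fun h => hx0 (Subtype.ext h)
    have := hcon x0 x0.2 w w.2 hx0'
    rw [Submodule.mem_span_singleton] at this
    obtain ⟨c, hc⟩ := this
    exact ⟨c, Subtype.ext hc⟩
  omega

/-- a hyperbolic pair in a nondegenerate subspace of dimension `≥ 2` -/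
theorem exists_hyp_pair (hσ : Invol σ) (hβ : IsHerm β) (D : Submodule F W) (hD : NondegOn β D)
    (h2 : 2 ≤ finrank F D) :
    ∃ e ∈ D, ∃ f ∈ D, β e e = 0 ∧ β f f = 0 ∧ β e f = 1 := by
  obtain ⟨x, hxD, y, hyD, hx0, hy⟩ := exists_indep_pair D h2
  obtain ⟨a, b, h0, hiso⟩ := exists_iso hσ hβ hx0 hy
  have hmem : a • x + b • y ∈ D := D.add_mem (D.smul_mem _ hxD) (D.smul_mem _ hyD)
  obtain ⟨f, hfD, hff, hef⟩ := exists_partner hσ hβ hD hmem h0 hiso
  exact ⟨_, hmem, f, hfD, hiso, hff, hef⟩

/-- the key step: a vector of `D` orthogonal to the hyperbolic pair `e, f` is scaled by the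
eigenvalue `l` of `e` and `f` -/
theorem eig_perp (hσ : Invol σ) (hβ : IsHerm β) (T : W →ₗ[F] W) (D : Submodule F W)
    (hT : ∀ y ∈ D, β y y = 0 → ∃ l : F, T y = l • y)
    (e f : W) (heD : e ∈ D) (hfD : f ∈ D) (he : β e e = 0) (hf : β f f = 0) (hef : β e f = 1)
    (l : F) (hTe : T e = l • e) (hTf : T f = l • f)
    (w : W) (hwD : w ∈ D) (hwe : β w e = 0) (hwf : β w f = 0) : T w = l • w := by
  have hfe : β f e = 1 := by rw [hβ e f, hef, map_one]
  have hew : β e w = 0 := herm_eq_zero hβ hwe
  have hfw : β f w = 0 := herm_eq_zero hβ hwf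
  obtain ⟨s, hs⟩ := tr_surj hσ (-(β w w)) (by rw [map_neg, herm_self hβ])
  obtain ⟨k, hk0, hk⟩ := exists_skew hσ
  -- the isotropic vectors `e + s f + w`
  have hiso : ∀ s' : F, s' + σ s' = -(β w w) → β (e + s' • f + w) (e + s' • f + w) = 0 := by
    intro s' hs'
    simp only [map_add, map_smul, map_smulₛₗ, LinearMap.add_apply, LinearMap.smul_apply,
      smul_eq_mul, he, hf, hef, hfe, hwe, hwf, hew, hfw]
    linear_combination hs'
  have hmemD : ∀ s' : F, e + s' • f + w ∈ D := fun s' =>
    D.add_mem (D.add_mem heD (D.smul_mem _ hfD)) hwD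
  have key : ∀ s' : F, s' + σ s' = -(β w w) → ∃ ν : F,
      T w = (ν - l) • e + (s' * (ν - l)) • f + ν • w := by
    intro s' hs'
    obtain ⟨ν, hν⟩ := hT _ (hmemD s') (hiso s' hs')
    refine ⟨ν, ?_⟩
    have h1 : T (e + s' • f + w) = l • e + s' • (l • f) + T w := by
      rw [map_add, map_add, map_smul, hTe, hTf]
    have h2 : T w = ν • (e + s' • f + w) - l • e - s' • (l • f) := by
      rw [← hν, h1]; abel
    rw [h2]; module
  have hs2 : (s + k) + σ (s + k) = -(β w w) := by
    rw [map_add, hk]; linear_combination hs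
  obtain ⟨ν, hν⟩ := key s hs
  obtain ⟨ν', hν'⟩ := key (s + k) hs2
  -- compare via `β · f` and `β · e`
  have e1 : β (T w) f = ν - l := by
    rw [hν]
    simp only [map_add, map_smul, LinearMap.add_apply, LinearMap.smul_apply, smul_eq_mul, hef, hf,
      hwf]
    ring
  have e1' : β (T w) f = ν' - l := by
    rw [hν']
    simp only [map_add, map_smul, LinearMap.add_apply, LinearMap.smul_apply, smul_eq_mul, hef, hf,
      hwf]
    ring
  have e2 : β (T w) e = s * (ν - l) := by
    rw [hν]
    simp only [map_add, map_smul, LinearMap.add_apply, LinearMap.smul_apply, smul_eq_mul, he, hfe,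
      hwe]
    ring
  have e2' : β (T w) e = (s + k) * (ν' - l) := by
    rw [hν']
    simp only [map_add, map_smul, LinearMap.add_apply, LinearMap.smul_apply, smul_eq_mul, he, hfe,
      hwe]
    ring
  have hνν : ν = ν' := by linear_combination e1.symm.trans e1'
  have hνl : ν = l := by
    have h3 : k * (ν - l) = 0 := by
      have := e2.symm.trans e2'
      rw [← hνν] at this
      linear_combination -this
    rcases mul_eq_zero.mp h3 with h | h
    · exact absurd h hk0
    · exact sub_eq_zero.mp h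
  rw [hν, hνl]
  simp

/-- EIGU : a linear map having every isotropic vector of the nondegenerate subspace `D`
(`dim D ≥ 2`) as an eigenvector is scalar on `D` -/
theorem eig_iso (hσ : Invol σ) (hβ : IsHerm β) (D : Submodule F W) (hD : NondegOn β D)
    (h2 : 2 ≤ finrank F D) (T : W →ₗ[F] W)
    (hT : ∀ y ∈ D, β y y = 0 → ∃ l : F, T y = l • y) : ∃ c : F, ∀ u ∈ D, T u = c • u := by
  obtain ⟨e, heD, f, hfD, he, hf, hef⟩ := exists_hyp_pair hσ hβ D hD h2
  have hfe : β f e = 1 := by rw [hβ e f, hef, map_one]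
  obtain ⟨l, hl⟩ := hT e heD he
  obtain ⟨m, hm⟩ := hT f hfD hf
  obtain ⟨k, hk0, hk⟩ := exists_skew hσ
  -- `e + k f` is isotropic
  have hiso : β (e + k • f) (e + k • f) = 0 := by
    simp only [map_add, map_smul, map_smulₛₗ, LinearMap.add_apply, LinearMap.smul_apply,
      smul_eq_mul, he, hf, hef, hfe, hk]
    ring
  obtain ⟨ν, hν⟩ := hT _ (D.add_mem heD (D.smul_mem _ hfD)) hiso
  have h1 : l • e + k • (m • f) = ν • (e + k • f) := by
    rw [← hν, map_add, map_smul, hl, hm]
  have a1 : l = ν := by
    have := congrArg (fun z => β z f) h1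
    simp only [map_add, map_smul, LinearMap.add_apply, LinearMap.smul_apply, smul_eq_mul, hef,
      hf] at this
    linear_combination this
  have a2 : k * m = ν * k := by
    have := congrArg (fun z => β z e) h1
    simp only [map_add, map_smul, LinearMap.add_apply, LinearMap.smul_apply, smul_eq_mul, he,
      hfe] at this
    linear_combination this
  have hml : m = l := by
    have : k * (m - l) = 0 := by rw [a1]; linear_combination a2
    rcases mul_eq_zero.mp this with h | h
    · exact absurd h hk0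
    · exact sub_eq_zero.mp h
  rw [hml] at hm
  refine ⟨l, fun u hu => ?_⟩
  set w := u - β u f • e - β u e • f with hw
  have hwD : w ∈ D := D.sub_mem (D.sub_mem hu (D.smul_mem _ heD)) (D.smul_mem _ hfD)
  have hwe : β w e = 0 := by
    simp only [hw, map_sub, map_smul, LinearMap.sub_apply, LinearMap.smul_apply, smul_eq_mul, he,
      hfe]
    ring
  have hwf : β w f = 0 := by
    simp only [hw, map_sub, map_smul, LinearMap.sub_apply, LinearMap.smul_apply, smul_eq_mul, hf,
      hef]
    ring
  have hTw := eig_perp hσ hβ T D hT e f heD hfD he hf hef l hl hm w hwD hwe hwf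
  have hu' : u = w + β u f • e + β u e • f := by rw [hw]; abel
  rw [hu', map_add, map_add, map_smul, map_smul, hTw, hl, hm]
  module

end Cfsg.Agent.Lib.Helper30_UT2_EIGU
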