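import Mathlib
import Cfsg.Agent.Lib.Helper97_UExtDefs
import Cfsg.Agent.Lib.Helper94_UDDefs
import Cfsg.Agent.Lib.Helper98_ExtMult
import Cfsg.Agent.Lib.Helper73_UX_FLD
import Cfsg.Agent.Lib.Helper10_UX_TRS
import Cfsg.Agent.Lib.Helper10_UX_THERM

set_option autoImplicit false
set_option linter.unusedSectionVars false
set_option linter.unusedVariables false

/-!
helper30 — core of package Q2N of helper97's UEXT2 market (everything except the call of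
`q2_phi`, which enters as the hypothesis `hphi`): the non-bad case of `F₀ = {0,1}`
(`E₀ ⊄ E₀'`): a counting argument gives `x ≠ 0` with `x, θ x ∈ E⁺`, and `Φ_{x, θ x}` is the
transvection `utv f x 1`.
-/

namespace Cfsg.Agent.Lib.Helper30_UX_Q2NCore

open Module
open Cfsg.Agent.Lib.Helper94_Symp Cfsg.Agent.Lib.Helper94_Herm Cfsg.Agent.Lib.Helper13_PSUSimple
  Cfsg.Agent.Lib.Helper67_Tens2Defs Cfsg.Agent.Lib.Helper67_UT2Defs Cfsg.Agent.Lib.Helper98_ExtDefs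
  Cfsg.Agent.Lib.Helper94_FrmDefs Cfsg.Agent.Lib.Helper94_UDDefs Cfsg.Agent.Lib.Helper97_UExtDefs

variable {F K : Type*} [Field F] [Field K] [Algebra F K] [Finite F] [Finite K]
  {σ : F →+* F} {τ : K →+* K}

variable {M : Subgroup ((K × K) ≃ₗ[F] (K × K))}

/-! ### characteristic two -/

theorem two_eq_zero_of_fix (hq : ∀ a : F, σ a = a → a = 0 ∨ a = 1) : (2 : F) = 0 := by
  rcases hq 2 (map_ofNat σ 2) with h2 | h2
  · exact h2
  · exfalso
    have : (1 : F) = 0 := by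
      have h3 : (1 : F) + 1 = 1 := by rw [one_add_one_eq_two, h2]
      simp at h3
    exact one_ne_zero this

theorem neg_eq_self_of_fix (hq : ∀ a : F, σ a = a → a = 0 ∨ a = 1) (a : F) : -a = a := by
  have h2 := two_eq_zero_of_fix hq
  have : a + a = 0 := by rw [← two_mul, h2, zero_mul]
  exact neg_eq_of_add_eq_zero_left this

theorem exists_theta (hσ : Invol σ) (hq : ∀ a : F, σ a = a → a = 0 ∨ a = 1) :
    ∃ θ : F, θ + σ θ = 1 := by
  obtain ⟨θ, hθ⟩ := hσ.ne_id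
  refine ⟨θ, ?_⟩
  have hfix : σ (θ + σ θ) = θ + σ θ := by rw [map_add, hσ.invol, add_comm]
  rcases hq _ hfix with h0 | h1
  · exfalso
    apply hθ
    have := eq_neg_of_add_eq_zero_right h0
    rw [this, neg_eq_self_of_fix hq]
  · exact h1

/-! ### additivity of the four families -/

theorem eX_add (p₀ κ₁ κ₂ : K) : eX p₀ (κ₁ + κ₂) = eX p₀ κ₁ + eX p₀ κ₂ := by
  simp [eX, add_mul]

theorem eX_sub (p₀ κ₁ κ₂ : K) : eX p₀ (κ₁ - κ₂) = eX p₀ κ₁ - eX p₀ κ₂ := by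
  simp [eX, sub_mul]

theorem eX_zero (p₀ : K) : eX p₀ 0 = 0 := by
  simp [eX]

theorem zX_sub (y : (K × K) ≃ₗ[F] (K × K)) (j κ₁ κ₂ : K) :
    zX y j (κ₁ - κ₂) = zX y j κ₁ - zX y j κ₂ := by
  unfold zX
  rw [← map_sub]
  congr 1
  simp [sub_mul]

theorem zX_zero (y : (K × K) ≃ₗ[F] (K × K)) (j : K) : zX y j 0 = 0 := by
  unfold zX
  rw [zero_mul]
  exact map_zero y

theorem tX_sub (h : TauExt σ τ) (p₀ κ₁ κ₂ : K) :
    tX h p₀ (κ₁ - κ₂) = tX h p₀ κ₁ - tX h p₀ κ₂ := by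
  unfold tX
  rw [sub_mul, map_sub, LinearMap.sub_apply]

theorem sX_sub (h : TauExt σ τ) (y : (K × K) ≃ₗ[F] (K × K)) (j κ₁ κ₂ : K) :
    sX h y j (κ₁ - κ₂) = sX h y j κ₁ - sX h y j κ₂ := by
  unfold sX
  rw [sub_mul, map_sub, LinearMap.sub_apply]

theorem sX_add (h : TauExt σ τ) (y : (K × K) ≃ₗ[F] (K × K)) (j κ₁ κ₂ : K) :
    sX h y j (κ₁ + κ₂) = sX h y j κ₁ + sX h y j κ₂ := by
  unfold sX
  rw [add_mul, map_add, LinearMap.add_apply]

/-- `s` takes skew values on skew elements -/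
theorem sX_skew (h : TauExt σ τ) (y : (K × K) ≃ₗ[F] (K × K)) (j κ' : K) (hκ' : τ κ' = -κ') :
    σ (sX h y j κ') = -sX h y j κ' := by
  unfold sX
  rw [trT_apply, ← Cfsg.Agent.Lib.Helper10_UX_TRS.trace_tau h, ← map_neg]
  congr 1
  rw [map_mul, map_mul, h.invol, hκ']
  ring

/-! ### the configuration -/

/-- `a₁' ≠ 0` -/
theorem a1_ne_zero (h : TauExt σ τ) {y : (K × K) ≃ₗ[F] (K × K)} {p₀ a₀ j : K}
    (hc : Cfg h M y p₀ a₀ j) : (y⁻¹ ((j, 0) : K × K)).2 ≠ 0 := by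
  intro h0
  have hmem : ((j, 0) : K × K) ∈ Lg y := mem_Lg'.mpr h0
  have h1 := (hc.hD j).mp hmem
  have h2 := Cfsg.Agent.Lib.Helper10_UX_THERM.trT_isHerm h p₀ j
  rw [hc.hj, map_one] at h2
  rw [h2] at h1
  exact one_ne_zero h1

/-- `ζ(κ')` lies in `I` when `s(κ') = 0` -/
theorem zX_mem (h : TauExt σ τ) (hM : HypX h M) {y : (K × K) ≃ₗ[F] (K × K)} {p₀ a₀ j : K}
    (hc : Cfg h M y p₀ a₀ j) (κ' : K) (hs : sX h y j κ' = 0) :
    (zX y j κ').2 = 0 ∧ trT h (zX y j κ').1 p₀ = 0 := by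
  have hmem : zX y j κ' ∈ Lg y := mem_Lg.mpr ⟨_, rfl⟩
  obtain ⟨a, ha⟩ := hc.hP _ hmem
  have hy : y ∈ uG (uf (trT h)) := hM.le hc.hy
  have h1 : uf (trT h) (zX y j κ') ((j, 0) : K × K) = a := by
    rw [uf_apply, ha]
    simp only [map_zero, zero_add, map_smul, LinearMap.smul_apply, hc.hj, smul_eq_mul, mul_one]
  have h2 : uf (trT h) (zX y j κ') ((j, 0) : K × K) = sX h y j κ' := by
    have h3 : ((j, 0) : K × K) = y (y⁻¹ ((j, 0) : K × K)) := (apply_inv_apply' y _).symm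
    conv_lhs => rw [h3]
    unfold zX
    rw [(mem_uG (uf (trT h))).mp hy, uf_apply]
    simp only [map_zero, LinearMap.zero_apply, add_zero]
    rfl
  have ha0 : a = 0 := by rw [← h1, h2, hs]
  have h20 : (zX y j κ').2 = 0 := by rw [ha, ha0, zero_smul]
  refine ⟨h20, ?_⟩
  apply (hc.hD _).mp
  have : ((zX y j κ').1, (0 : K)) = zX y j κ' := Prod.ext rfl h20.symm
  rw [this]
  exact hmem

/-- `e(κ)` lies in `I` when `s'(κ) = 0` -/
theorem eX_mem (h : TauExt σ τ) (p₀ κ : K) (ht : tX h p₀ κ = 0) :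
    (eX p₀ κ).2 = 0 ∧ trT h (eX p₀ κ).1 p₀ = 0 := ⟨rfl, ht⟩

/-! ### the set `E⁺` -/

/-- membership in `E⁺ = E₀ + E₀'` -/
def InE (h : TauExt σ τ) (y : (K × K) ≃ₗ[F] (K × K)) (p₀ j : K) (x : K × K) : Prop :=
  ∃ κ κ' : K, τ κ = -κ ∧ tX h p₀ κ = 0 ∧ τ κ' = -κ' ∧ sX h y j κ' = 0 ∧
    x = eX p₀ κ + zX y j κ'

theorem inE_sub (h : TauExt σ τ) (y : (K × K) ≃ₗ[F] (K × K)) (p₀ j : K) {x x' : K × K}
    (hx : InE h y p₀ j x) (hx' : InE h y p₀ j x') : InE h y p₀ j (x - x') := by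
  obtain ⟨κ₁, κ₁', h1, ht1, h1', hs1, rfl⟩ := hx
  obtain ⟨κ₂, κ₂', h2, ht2, h2', hs2, rfl⟩ := hx'
  refine ⟨κ₁ - κ₂, κ₁' - κ₂', ?_, ?_, ?_, ?_, ?_⟩
  · rw [map_sub, h1, h2]; ring
  · rw [tX_sub, ht1, ht2, sub_zero]
  · rw [map_sub, h1', h2']; ring
  · rw [sX_sub, hs1, hs2, sub_zero]
  · rw [eX_sub, zX_sub]; abel

theorem inE_mem (h : TauExt σ τ) (hM : HypX h M) {y : (K × K) ≃ₗ[F] (K × K)} {p₀ a₀ j : K}
    (hc : Cfg h M y p₀ a₀ j) {x : K × K} (hx : InE h y p₀ j x) :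
    x.2 = 0 ∧ trT h x.1 p₀ = 0 := by
  obtain ⟨κ, κ', h1, ht, h1', hs, rfl⟩ := hx
  obtain ⟨hz2, hz1⟩ := zX_mem h hM hc κ' hs
  obtain ⟨he2, he1⟩ := eX_mem h p₀ κ ht
  refine ⟨?_, ?_⟩
  · rw [Prod.snd_add, hz2, he2, add_zero]
  · rw [Prod.fst_add, map_add, LinearMap.add_apply, hz1, he1, add_zero]

/-- the additive group of skew elements of `K` -/
def skewK (τ : K →+* K) : AddSubgroup K where
  carrier := {κ | τ κ = -κ}
  zero_mem' := by simp
  add_mem' := by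
    intro a b ha hb
    simp only [Set.mem_ofPred_eq] at ha hb ⊢
    rw [map_add, ha, hb]; ring
  neg_mem' := by
    intro a ha
    simp only [Set.mem_ofPred_eq] at ha ⊢
    rw [map_neg, ha]

theorem mem_skewK {κ : K} : κ ∈ skewK τ ↔ τ κ = -κ := Iff.rfl

/-- `s` as an additive map on the skew elements -/
noncomputable def sHom (h : TauExt σ τ) (y : (K × K) ≃ₗ[F] (K × K)) (j : K) : skewK τ →+ F :=
  AddMonoidHom.mk' (fun κ => sX h y j (κ : K)) (fun a b => sX_add h y j a b)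

theorem sHom_apply (h : TauExt σ τ) (y : (K × K) ≃ₗ[F] (K × K)) (j : K) (κ : skewK τ) :
    sHom h y j κ = sX h y j (κ : K) := rfl

/-- the kernel of `s` has index at most two in the skew elements -/
theorem card_skew_le (h : TauExt σ τ) (hq : ∀ a : F, σ a = a → a = 0 ∨ a = 1)
    (y : (K × K) ≃ₗ[F] (K × K)) (j : K) :
    Nat.card (skewK τ) ≤ 2 * Nat.card (sHom h y j).ker := by
  have h1 := AddSubgroup.card_eq_card_quotient_mul_card_addSubgroup (sHom h y j).ker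
  have e := QuotientAddGroup.quotientKerEquivRange (sHom h y j)
  rw [Nat.card_congr e.toEquiv] at h1
  have h2 : Nat.card (sHom h y j).range ≤ 2 := by
    have hsub : ((sHom h y j).range : Set F) ⊆ {0, 1} := by
      rintro _ ⟨κ, rfl⟩
      have hsk := sX_skew h y j (κ : K) κ.2
      rw [neg_eq_self_of_fix hq] at hsk
      rcases hq _ hsk with h0 | h1
      · left; exact h0
      · right; exact h1
    calc Nat.card (sHom h y j).range = Set.ncard ((sHom h y j).range : Set F) := rfl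
      _ ≤ Set.ncard ({0, 1} : Set F) := Set.ncard_le_ncard hsub (Set.toFinite _)
      _ ≤ 2 := by rw [Set.ncard_pair zero_ne_one]
  rw [h1]
  exact Nat.mul_le_mul_right _ h2

/-- `ζ` is injective -/
theorem zX_eq_zero (h : TauExt σ τ) {y : (K × K) ≃ₗ[F] (K × K)} {p₀ a₀ j : K}
    (hc : Cfg h M y p₀ a₀ j) {κ' : K} (hz : zX y j κ' = 0) : κ' = 0 := by
  unfold zX at hz
  have h1 : ((κ' * (y⁻¹ ((j, 0) : K × K)).2, 0) : K × K) = 0 :=
    y.injective (hz.trans (map_zero y).symm)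
  have h2 : κ' * (y⁻¹ ((j, 0) : K × K)).2 = 0 := congrArg Prod.fst h1
  rcases mul_eq_zero.mp h2 with h3 | h3
  · exact h3
  · exact absurd h3 (a1_ne_zero h hc)

/-- `|E⁺| ≥ 2 |ker s|` in the non-bad case -/
theorem card_inE_ge (h : TauExt σ τ) {y : (K × K) ≃ₗ[F] (K × K)} {p₀ a₀ j : K}
    (hc : Cfg h M y p₀ a₀ j) (κ₀ : K) (hκ₀ : τ κ₀ = -κ₀) (ht₀ : tX h p₀ κ₀ = 0)
    (hne : ∀ κ' : K, τ κ' = -κ' → sX h y j κ' = 0 → eX p₀ κ₀ ≠ zX y j κ') :
    2 * Nat.card (sHom h y j).ker ≤ Nat.card {x : K × K // InE h y p₀ j x} := by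
  have hb : ∀ b : Bool, τ (if b then κ₀ else 0) = -(if b then κ₀ else 0) ∧
      tX h p₀ (if b then κ₀ else 0) = 0 := by
    intro b
    cases b
    · refine ⟨by simp, ?_⟩
      unfold tX
      simp
    · exact ⟨by simpa using hκ₀, by simpa using ht₀⟩
  let ι : Bool × (sHom h y j).ker → {x : K × K // InE h y p₀ j x} := fun bk =>
    ⟨eX p₀ (if bk.1 then κ₀ else 0) + zX y j ((bk.2 : skewK τ) : K),
      ⟨_, _, (hb bk.1).1, (hb bk.1).2, (bk.2 : skewK τ).2, bk.2.2, rfl⟩⟩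
  have hι : Function.Injective ι := by
    rintro ⟨b₁, k₁⟩ ⟨b₂, k₂⟩ heq
    have heq' : eX p₀ (if b₁ then κ₀ else 0) + zX y j ((k₁ : skewK τ) : K) =
        eX p₀ (if b₂ then κ₀ else 0) + zX y j ((k₂ : skewK τ) : K) := congrArg Subtype.val heq
    have hk₁ : sX h y j ((k₁ : skewK τ) : K) = 0 := k₁.2
    have hk₂ : sX h y j ((k₂ : skewK τ) : K) = 0 := k₂.2
    have hs₁ : τ ((k₁ : skewK τ) : K) = -((k₁ : skewK τ) : K) := (k₁ : skewK τ).2
    have hs₂ : τ ((k₂ : skewK τ) : K) = -((k₂ : skewK τ) : K) := (k₂ : skewK τ).2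
    have hsame : zX y j ((k₁ : skewK τ) : K) = zX y j ((k₂ : skewK τ) : K) → k₁ = k₂ := by
      intro hz
      have h0 : zX y j (((k₁ : skewK τ) : K) - ((k₂ : skewK τ) : K)) = 0 := by
        rw [zX_sub, hz, sub_self]
      have := zX_eq_zero h hc h0
      exact Subtype.ext (Subtype.ext (sub_eq_zero.mp this))
    cases b₁ <;> cases b₂
    · simp only [Bool.false_eq_true, if_false, eX_zero, zero_add] at heq'
      rw [hsame heq']
    · exfalso
      simp only [Bool.false_eq_true, if_false, if_true, eX_zero, zero_add] at heq'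
      refine hne (((k₁ : skewK τ) : K) - ((k₂ : skewK τ) : K)) ?_ ?_ ?_
      · rw [map_sub, hs₁, hs₂]; ring
      · rw [sX_sub, hk₁, hk₂, sub_zero]
      · rw [zX_sub, heq']; abel
    · exfalso
      simp only [Bool.false_eq_true, if_false, if_true, eX_zero, zero_add] at heq'
      refine hne (((k₂ : skewK τ) : K) - ((k₁ : skewK τ) : K)) ?_ ?_ ?_
      · rw [map_sub, hs₁, hs₂]; ring
      · rw [sX_sub, hk₁, hk₂, sub_zero]
      · rw [zX_sub, ← heq']; abel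
    · simp only [if_true] at heq'
      rw [hsame (add_left_cancel heq')]
  have := Nat.card_le_card_of_injective ι hι
  rwa [Nat.card_prod, Nat.card_eq_fintype_card, Fintype.card_bool] at this

/-- `Φ_{x, θ x}` is the transvection `utv f x 1` when `θ + σ θ = 1` -/
theorem phiX_smul_eq (h : TauExt σ τ) {θ : F} (hθ : θ + σ θ = 1) (w : K) (v : K × K) :
    PhiX (uf (trT h)) ((w, 0) : K × K) (θ • ((w, 0) : K × K)) v =
      utv (uf (trT h)) ((w, 0) : K × K) 1 v := by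
  have hiso : uf (trT h) ((w, 0) : K × K) ((w, 0) : K × K) = 0 := by
    rw [uf_apply]
    simp
  rw [utv_apply _ hiso]
  unfold PhiX
  rw [map_smulₛₗ, smul_smul, add_assoc, ← add_smul, one_mul]
  congr 2
  rw [smul_eq_mul]
  linear_combination (uf (trT h) v ((w, 0) : K × K)) * hθ

/-- PKG Q2N core: `q2_nonbad` with the conclusion of `q2_phi` as a hypothesis -/
theorem q2_nonbad_of_phi (h : TauExt σ τ) (hσ : Invol σ) (hM : HypX h M)
    {y : (K × K) ≃ₗ[F] (K × K)} {p₀ a₀ j : K} (hc : Cfg h M y p₀ a₀ j)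
    (hq : ∀ a : F, σ a = a → a = 0 ∨ a = 1)
    (hphi : ∀ κ₁ κ₁' κ₂ κ₂' : K, τ κ₁ = -κ₁ → τ κ₁' = -κ₁' → τ κ₂ = -κ₂ → τ κ₂' = -κ₂' →
      tX h p₀ κ₁ = 0 → sX h y j κ₁' = 0 → tX h p₀ κ₂ = 0 → sX h y j κ₂' = 0 →
      HasMap M (PhiX (uf (trT h)) (eX p₀ κ₁ + zX y j κ₁') (eX p₀ κ₂ + zX y j κ₂')))
    (hnb : ∃ κ : K, τ κ = -κ ∧ tX h p₀ κ = 0 ∧
      ∀ κ' : K, τ κ' = -κ' → sX h y j κ' = 0 → eX p₀ κ ≠ zX y j κ') :
    HasTvX h M := by
  obtain ⟨κ₀, hκ₀, ht₀, hne⟩ := hnb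
  obtain ⟨θ, hθ⟩ := exists_theta hσ hq
  -- the functional `φ = T(·, p₀)`
  let φ : K →ₗ[F] F := (trT h).flip p₀
  have hφ : ∀ c, φ c = trT h c p₀ := fun c => rfl
  have hφj : φ j = 1 := by
    rw [hφ, Cfsg.Agent.Lib.Helper10_UX_THERM.trT_isHerm h p₀ j, hc.hj, map_one]
  have hsurj : Function.Surjective φ := fun a =>
    ⟨a • j, by rw [map_smul, hφj, smul_eq_mul, mul_one]⟩
  have hK : Nat.card K = Nat.card (LinearMap.ker φ) * Nat.card F := by
    rw [Submodule.card_eq_card_quotient_mul_card (LinearMap.ker φ),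
      Nat.card_congr (φ.quotKerEquivOfSurjective hsurj).toEquiv]
  -- counting
  have hcard : Nat.card (LinearMap.ker φ) <
      Nat.card ({x : K × K // InE h y p₀ j x} × {x : K × K // InE h y p₀ j x}) := by
    have h1 := card_inE_ge h hc κ₀ hκ₀ ht₀ hne
    have h2 := card_skew_le h hq y j
    have h3 : Nat.card (skewK τ) ^ 2 = Nat.card K :=
      Cfsg.Agent.Lib.Helper73_UX_FLD.card_skewK h hσ
    have h4 : 0 < Nat.card (LinearMap.ker φ) := Nat.card_pos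
    have h5 : 1 < Nat.card F := Finite.one_lt_card
    rw [Nat.card_prod]
    have h6 : Nat.card (skewK τ) ≤ Nat.card {x : K × K // InE h y p₀ j x} := h2.trans h1
    have h7 : Nat.card K ≤ Nat.card {x : K × K // InE h y p₀ j x} *
        Nat.card {x : K × K // InE h y p₀ j x} := by
      rw [← h3, sq]
      exact Nat.mul_le_mul h6 h6
    have h8 : Nat.card (LinearMap.ker φ) < Nat.card K := by
      rw [hK]
      nlinarith
    exact lt_of_lt_of_le h8 h7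
  -- pigeonhole
  let Ψ : {x : K × K // InE h y p₀ j x} × {x : K × K // InE h y p₀ j x} → LinearMap.ker φ :=
    fun xx => ⟨(xx.1 : K × K).1 + θ • (xx.2 : K × K).1, by
      rw [LinearMap.mem_ker, map_add, map_smul, hφ, hφ, (inE_mem h hM hc xx.1.2).2,
        (inE_mem h hM hc xx.2.2).2, smul_zero, add_zero]⟩
  have hninj : ¬ Function.Injective Ψ := fun hinj =>
    absurd (Nat.card_le_card_of_injective Ψ hinj) (not_le.mpr hcard)
  obtain ⟨⟨x₁, x₁'⟩, ⟨x₂, x₂'⟩, hΨ, hxx⟩ := Function.not_injective_iff.mp hninj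
  have hΨ' : (x₁ : K × K).1 + θ • (x₁' : K × K).1 = (x₂ : K × K).1 + θ • (x₂' : K × K).1 :=
    congrArg Subtype.val hΨ
  -- `w = x₂' - x₁'`, `θ w = x₁ - x₂`
  have hw : InE h y p₀ j ((x₂' : K × K) - (x₁' : K × K)) := inE_sub h y p₀ j x₂'.2 x₁'.2
  have hu : InE h y p₀ j ((x₁ : K × K) - (x₂ : K × K)) := inE_sub h y p₀ j x₁.2 x₂.2
  have hw2 := (inE_mem h hM hc hw).1
  have hu2 := (inE_mem h hM hc hu).1
  have huw : (x₁ : K × K) - (x₂ : K × K) = θ • ((x₂' : K × K) - (x₁' : K × K)) := by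
    refine Prod.ext ?_ ?_
    · rw [Prod.smul_fst, Prod.fst_sub, Prod.fst_sub, smul_sub]
      linear_combination hΨ'
    · rw [Prod.smul_snd, hu2, hw2, smul_zero]
  have hw0 : ((x₂' : K × K) - (x₁' : K × K)).1 ≠ 0 := by
    intro h0
    have hw00 : (x₂' : K × K) - (x₁' : K × K) = 0 := Prod.ext h0 hw2
    apply hxx
    have e2 : x₁' = x₂' := Subtype.ext (sub_eq_zero.mp hw00).symm
    have e1 : x₁ = x₂ := by
      rw [hw00, smul_zero] at huw
      exact Subtype.ext (sub_eq_zero.mp huw)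
    rw [e1, e2]
  have hwe : (x₂' : K × K) - (x₁' : K × K) = ((((x₂' : K × K) - (x₁' : K × K)).1, 0) : K × K) :=
    Prod.ext rfl hw2
  obtain ⟨κ₁, κ₁', h1, ht1, h1', hs1, hx1⟩ := hw
  obtain ⟨κ₂, κ₂', h2, ht2, h2', hs2, hx2⟩ := hu
  have hphi := hphi κ₁ κ₁' κ₂ κ₂' h1 h1' h2 h2' ht1 hs1 ht2 hs2
  rw [← hx1, ← hx2, huw, hwe] at hphi
  obtain ⟨g, hg, hgv⟩ := hphi
  refine ⟨((x₂' : K × K) - (x₁' : K × K)).1, 1, hw0, one_ne_zero, ?_, ?_⟩
  · rw [map_one, neg_eq_self_of_fix hq]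
  · have : g = utv (uf (trT h)) (((((x₂' : K × K) - (x₁' : K × K)).1, 0) : K × K)) 1 :=
      LinearEquiv.ext fun v => (hgv v).trans (phiX_smul_eq h hθ _ v)
    rw [← this]
    exact hg

end Cfsg.Agent.Lib.Helper30_UX_Q2NCore
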