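/-
S4613, package REE, abstract part: a finite group with the normal form `ReeData` of a Ree group `²G₂(q)` (helper36's
`Helper36_ReeOutAlg`) has no non-trivial automorphism of order prime to `3` fixing a Sylow `3`-subgroup elementwise.
The group has a split `(B, N)`-pair of rank one (`B = U H`, `G = B ∪ U n B`), so the data `V` of `BDat` is vacuous;
`C_G(U) ≤ U` since `N_G(U) = B` and an element of `H` centralising the centre of `U` is trivial.
-/
import Cfsg.Agent.Lib.Helper36_ReeOutAlg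
import Cfsg.Agent.Lib.Helper68_AutU
import Cfsg.Agent.Lib.Helper68_AutUIso

set_option autoImplicit false

namespace Cfsg.Agent.Lib.Helper31_AutU_REEAlg

open Cfsg Cfsg.Agent.Lib.Helper36_ReeOutAlg Cfsg.Agent.Lib.Helper68_AutU

variable {Γ K : Type*} [Group Γ] [Field K] (D : ReeData Γ K)

/-- `h n = n h⁻¹` -/
theorem hH_mul_n (μ : Kˣ) : D.hH μ * D.n = D.n * D.hH μ⁻¹ := by
  rw [D.n_mul_hH, inv_inv]

/-- the Bruhat decomposition in the form used by `BDat` -/
theorem decomp (g : Γ) : g ∈ D.Bsub ∨ ∃ u ∈ D.Usub, ∃ b ∈ D.Bsub, g = u * D.n * b := by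
  rcases D.cases g with ⟨t, u, v, μ, rfl⟩ | ⟨t, u, v, μ, t', u', v', rfl⟩
  · exact Or.inl ⟨t, u, v, μ, rfl⟩
  · right
    refine ⟨_, D.wU_mem t u v, D.hH μ⁻¹ * D.wU t' u' v',
      D.Bsub.mul_mem (D.hH_mem_B _) (D.wU_mem_B _ _ _), ?_⟩
    rw [mul_assoc (D.wU t u v), hH_mul_n]
    group

/-- `U` is the Sylow subgroup of the data -/
theorem Usub_eq_sylow : ∃ S : Sylow 3 Γ, (S : Subgroup Γ) = D.Usub := by
  obtain ⟨S, hS⟩ := D.sylow
  refine ⟨S, ?_⟩
  ext x
  exact hS x

/-- the centraliser of `U` lies in `U` -/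
theorem cent_Usub (g : Γ) (hg : ∀ u ∈ D.Usub, g * u = u * g) : g ∈ D.Usub := by
  have hB : g ∈ D.Bsub := by
    rw [D.mem_Bsub_iff]
    intro x hx
    rw [hg x hx, mul_inv_cancel_right]
    exact hx
  obtain ⟨t, u, v, μ, rfl⟩ := hB
  have h1 := hg _ (D.wU_mem 0 0 1)
  -- `h z = z h` for the central element `z`
  have h2 : D.hH μ * D.wU 0 0 1 = D.wU 0 0 1 * D.hH μ := by
    have e : D.wU t u v * (D.hH μ * D.wU 0 0 1) = D.wU t u v * (D.wU 0 0 1 * D.hH μ) := by
      rw [← mul_assoc, h1, ← mul_assoc, ← mul_assoc, D.central]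
    exact mul_left_cancel e
  rw [D.conj'] at h2
  have h3 := (D.wU_inj _ _ _ _ _ _ (mul_right_cancel h2)).2.2
  rw [mul_one] at h3
  have h4 : μ = 1 := Units.ext h3
  rw [h4, map_one, mul_one]
  exact D.wU_mem t u v

/-- the rank one `(B, N)`-data of a group of Ree type -/
def reeDat [Finite Γ] : BDat 3 Γ Unit where
  B := D.Bsub
  U := D.Usub
  s := fun _ => D.n
  V := fun _ => ⊥
  overgroup := by
    intro M hM g hg
    rcases decomp D g with h | ⟨u, hu, b, hb, rfl⟩
    · exact Subgroup.mem_sup_left h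
    · have hn : D.n ∈ M := by
        have e : D.n = u⁻¹ * (u * D.n * b) * b⁻¹ := by group
        rw [e]
        exact M.mul_mem (M.mul_mem (M.inv_mem (hM (D.Usub_le_Bsub hu))) hg) (M.inv_mem (hM hb))
      have hw : D.n ∈ Subgroup.closure
          ((fun _ : Unit => D.n) '' {i | (fun _ : Unit => D.n) i ∈ M}) :=
        Subgroup.subset_closure ⟨(), hn, rfl⟩
      exact Subgroup.mul_mem _ (Subgroup.mul_mem _
        (Subgroup.mem_sup_left (D.Usub_le_Bsub hu)) (Subgroup.mem_sup_right hw))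
        (Subgroup.mem_sup_left hb)
  rank1 := fun _ g _ => decomp D g
  s_not_mem := fun _ => D.n_not_mem_B
  U_le := D.Usub_le_Bsub
  U_normal := fun b hb u hu => D.B_conj_mem b u hb hu
  U_pgroup := by
    obtain ⟨S, hS⟩ := Usub_eq_sylow D
    rw [← hS]
    exact S.isPGroup'
  U_index := by
    obtain ⟨S, hS⟩ := Usub_eq_sylow D
    rw [← hS]
    have : Fact (Nat.Prime 3) := ⟨Nat.prime_three⟩
    exact S.not_dvd_index
  V_le := fun _ => bot_le
  V_normB := by
    intro _ b _ v hv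
    rw [Subgroup.mem_bot] at hv ⊢
    rw [hv, mul_one, mul_inv_cancel]
  V_norms := by
    intro _ v hv
    rw [Subgroup.mem_bot] at hv ⊢
    rw [hv, mul_one, mul_inv_cancel]
  V_ne := by
    intro i j hji
    exact absurd (Subsingleton.elim j i) hji

include D in
/-- **the statement for groups of Ree type** -/
theorem autUTrivial_of_reeData [Finite Γ] : AutUTrivial 3 Γ := by
  have : Fact (Nat.Prime 3) := ⟨Nat.prime_three⟩
  intro α hα Q hfix
  exact (reeDat D).aut_eq_one_of_sylow (cent_Usub D) α hα Q hfix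

end Cfsg.Agent.Lib.Helper31_AutU_REEAlg
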