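/-
S4613, package REE: in the Ree group `²G₂(q)`, `q = 3 ^ (2 m + 1)`, an automorphism of order prime to `3` that fixes a
Sylow `3`-subgroup elementwise is trivial.  This is `Helper31_AutU_REEAlg.autUTrivial_of_reeData` applied to
helper36's normal form `reeData` of the twisted group.
-/
import Cfsg.Agent.Lib.Helper36_ReeOut
import Cfsg.Agent.Lib.Helper31_AutU_REEAlg

set_option autoImplicit false

namespace Cfsg.Agent.Lib.Helper31_AutU_REE

open Cfsg Cfsg.Agent.Lib.Helper68_AutU

/-- **REE** -/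
theorem autU_ree {K : Type} [Field K] [Fintype K] (m : ℕ) (hm : 1 ≤ m)
    (hK : Fintype.card K = 3 ^ (2 * m + 1)) : @AutUTrivial 3 (Lie.twistedG2 K (3 ^ m)) _ := by
  have : CharP K 3 := Cfsg.Agent.Lib.Helper36_ReeFix.charP3 hK
  exact Cfsg.Agent.Lib.Helper31_AutU_REEAlg.autUTrivial_of_reeData
    (Cfsg.Agent.Lib.Helper36_ReeOut.reeData hK)

end Cfsg.Agent.Lib.Helper31_AutU_REE
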