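import Cfsg.Agent.Lib.Helper37_SzSimple

/-!
# Overgroups of a Sylow 2-subgroup of the Suzuki group (helper37)
-/

set_option autoImplicit false
open Cfsg

namespace Cfsg.Agent.Helper37Sz

open Cfsg.Agent.S0335 (sf sf_aniso sf_inv sf_collinear)
open Matrix
open scoped Pointwise

section Max

variable {F : Type*} [Field F] [Fintype F] {S : F →+* F} {m : ℕ}

omit [Fintype F] in
/-- `t ↦ S t * t ^ 2` is injective -/
theorem St_sq_inj (h2 : (2 : F) = 0) (hS : ∀ z, S (S z) = z ^ 2) {t t' : F} (ht' : t' ≠ 0)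
    (h : S t * t ^ 2 = S t' * t' ^ 2) : t = t' := by
  have hSt' : S t' ≠ 0 := by simpa using ht'
  have e1 : (t * S t) ^ 2 = (t' * S t') ^ 2 := by
    have := congrArg S h
    rw [map_mul, map_mul, map_pow, map_pow, hS, hS] at this
    linear_combination this
  have e2 : t * S t = t' * S t' := by
    have : (t * S t - t' * S t') ^ 2 = 0 := by
      linear_combination e1 + ((t' * S t') ^ 2 - (t * S t) * (t' * S t')) * h2
    have := pow_eq_zero_iff (two_ne_zero) |>.1 this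
    linear_combination this
  have e3 : (t - t') * (t' * S t') = 0 := by
    have : t * (t * S t) = t' * (t' * S t') := by linear_combination h
    rw [e2] at this
    linear_combination this
  rcases mul_eq_zero.1 e3 with h | h
  · linear_combination h
  · exact absurd h (mul_ne_zero ht' hSt')

omit [Fintype F] in
/-- the rank one relation, on the vector `pInf` -/
theorem rank_one_vec (h2 : (2 : F) = 0) (hS : ∀ z, S (S z) = z ^ 2) {b : F} (hb : b ≠ 0) :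
    (wMat : Matrix (Fin 4) (Fin 4) F) *ᵥ (uMat S (b / S b) (0 + S (b / S b) * (b / S b)) *ᵥ
      ((wMat : Matrix (Fin 4) (Fin 4) F) *ᵥ (uMat S 0 b *ᵥ
        ((wMat : Matrix (Fin 4) (Fin 4) F) *ᵥ pInf)))) = S b • (pInf : Fin 4 → F) := by
  have hSb : S b ≠ 0 := by simpa using hb
  have hsf : sf S 0 b = S b := by simp [sf]
  rw [wMat_mulVec_pInf (S := S), uMat_mulVec_pAff h2 hS]
  have e1 : pAff S (0 + 0) (0 + b + S 0 * 0) = pAff S 0 b := by simp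
  rw [e1, wMat_mulVec_pAff h2 hS (by rw [hsf]; exact hSb), hsf, zero_div, Matrix.mulVec_smul,
    uMat_mulVec_pAff h2 hS, Matrix.mulVec_smul]
  have e2 : pAff S (b / S b + b / S b)
      (0 + (0 + S (b / S b) * (b / S b)) + S (b / S b) * (b / S b)) = pAff S 0 0 := by
    congr 1
    · linear_combination (b / S b) * h2
    · linear_combination (S (b / S b) * (b / S b)) * h2
  rw [e2, wMat_mulVec_pAff_zero]

/-- the rank one relation in the group -/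
theorem rank_one_rel (hm : 1 ≤ m) (hF : Fintype.card F = 2 ^ (2 * m + 1)) (h2 : (2 : F) = 0)
    (hS : ∀ z, S (S z) = z ^ 2) (hSdef : ∀ z, S z = z ^ 2 ^ (m + 1)) (t : Fˣ) :
    ∃ (b x₁ a₂ b₂ : F), wQ h2 hS hSdef * ((uQ h2 hS hSdef x₁ 0)⁻¹ * (wQ h2 hS hSdef *
      (uQ h2 hS hSdef 0 b * wQ h2 hS hSdef))) = uQ (m := m) h2 hS hSdef a₂ b₂ * hQ hS hSdef t := by
  have ht : (t : F) ≠ 0 := t.ne_zero
  have hSt : S (t : F) ≠ 0 := by simp
  set b : F := (t : F) * S (t : F) with hb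
  have hb0 : b ≠ 0 := mul_ne_zero ht hSt
  have hSb : S b = S (t : F) * (t : F) ^ 2 := by
    rw [hb, map_mul, hS]
  set g : Cfsg.Sz F m := wQ h2 hS hSdef * ((uQ h2 hS hSdef (b / S b) 0)⁻¹ * (wQ h2 hS hSdef *
      (uQ h2 hS hSdef 0 b * wQ h2 hS hSdef))) with hg
  have hinvu : (uQ (m := m) h2 hS hSdef (b / S b) 0)⁻¹
      = uQ h2 hS hSdef (b / S b) (0 + S (b / S b) * (b / S b)) :=
    Subtype.ext (uSL_inv h2 hS (b / S b) 0)
  have hvec : ((g : Matrix.SpecialLinearGroup (Fin 4) F) : Matrix (Fin 4) (Fin 4) F) *ᵥ pInf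
      = S b • pInf := by
    rw [hg, hinvu]
    show (wMat * (uMat S (b / S b) (0 + S (b / S b) * (b / S b)) * (wMat * (uMat S 0 b * wMat))))
      *ᵥ pInf = _
    simp only [← Matrix.mulVec_mulVec]
    exact rank_one_vec h2 hS hb0
  obtain ⟨a₂, b₂, t', ht'⟩ := stab_inf_struct hm hF h2 hS hSdef g.2 hvec
  have hvec' := uh_mulVec_pInf (S := S) a₂ b₂ t'
  rw [← ht', hvec] at hvec'
  have e0 := congrFun hvec' 0
  simp [pInf] at e0
  have htt : (t' : F) = (t : F) := by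
    apply St_sq_inj h2 hS ht
    rw [← e0, hSb]
  have htt' : t' = t := Units.ext htt
  refine ⟨b, b / S b, a₂, b₂, ?_⟩
  rw [← htt']
  exact Subtype.ext ht'

theorem hQ_mul (hS : ∀ z, S (S z) = z ^ 2) (hSdef : ∀ z, S z = z ^ 2 ^ (m + 1)) (t t' : Fˣ) :
    hQ (m := m) hS hSdef t * hQ hS hSdef t' = hQ hS hSdef (t * t') :=
  Subtype.ext (hSL_mul t t')

theorem hQ_inv (hS : ∀ z, S (S z) = z ^ 2) (hSdef : ∀ z, S z = z ^ 2 ^ (m + 1)) (t : Fˣ) :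
    (hQ (m := m) hS hSdef t)⁻¹ = hQ hS hSdef t⁻¹ := by
  apply inv_eq_of_mul_eq_one_left
  rw [hQ_mul, inv_mul_cancel, hQ_one]

theorem uQ_mem_Qsub (h2 : (2 : F) = 0) (hS : ∀ z, S (S z) = z ^ 2)
    (hSdef : ∀ z, S z = z ^ 2 ^ (m + 1)) (a b : F) : uQ h2 hS hSdef a b ∈ Qsub h2 hS m :=
  ⟨a, b, rfl⟩

theorem exists_of_mem_Qsub (h2 : (2 : F) = 0) (hS : ∀ z, S (S z) = z ^ 2)
    (hSdef : ∀ z, S z = z ^ 2 ^ (m + 1)) {q : Cfsg.Sz F m} (hq : q ∈ Qsub h2 hS m) :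
    ∃ a b : F, q = uQ h2 hS hSdef a b := by
  obtain ⟨a, b, h⟩ := hq
  exact ⟨a, b, Subtype.ext h⟩

/-- the structure of the stabiliser of `∞`, in `Sz` -/
theorem stab_inf_Q (hm : 1 ≤ m) (hF : Fintype.card F = 2 ^ (2 * m + 1)) (h2 : (2 : F) = 0)
    (hS : ∀ z, S (S z) = z ^ 2) (hSdef : ∀ z, S z = z ^ 2 ^ (m + 1)) {x : Cfsg.Sz F m}
    (hx : x • ptInf F m = ptInf F m) :
    ∃ (a b : F) (t : Fˣ), x = uQ h2 hS hSdef a b * hQ hS hSdef t := by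
  rw [smul_ptInf_eq_ptInf_iff] at hx
  obtain ⟨c, hc⟩ := hx
  obtain ⟨a, b, t, hval⟩ := stab_inf_struct hm hF h2 hS hSdef x.2 hc
  exact ⟨a, b, t, Subtype.ext hval⟩

/-- the stabiliser of `∞` normalises `Q` -/
theorem conj_mem_Qsub (hm : 1 ≤ m) (hF : Fintype.card F = 2 ^ (2 * m + 1)) (h2 : (2 : F) = 0)
    (hS : ∀ z, S (S z) = z ^ 2) (hSdef : ∀ z, S z = z ^ 2 ^ (m + 1)) {x : Cfsg.Sz F m}
    (hx : x • ptInf F m = ptInf F m) {q : Cfsg.Sz F m} (hq : q ∈ Qsub h2 hS m) :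
    x * q * x⁻¹ ∈ Qsub h2 hS m := by
  obtain ⟨a, b, t, rfl⟩ := stab_inf_Q hm hF h2 hS hSdef hx
  obtain ⟨c, d, rfl⟩ := exists_of_mem_Qsub h2 hS hSdef hq
  have : uQ h2 hS hSdef a b * hQ hS hSdef t * uQ h2 hS hSdef c d
      * (uQ h2 hS hSdef a b * hQ hS hSdef t)⁻¹
      = uQ h2 hS hSdef a b * (hQ hS hSdef t * uQ h2 hS hSdef c d * (hQ hS hSdef t)⁻¹)
        * (uQ h2 hS hSdef a b)⁻¹ := by group
  rw [this, hQ_mul_uQ, mul_inv_cancel_right]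
  exact (Qsub h2 hS m).mul_mem ((Qsub h2 hS m).mul_mem (uQ_mem_Qsub h2 hS hSdef _ _)
    (uQ_mem_Qsub h2 hS hSdef _ _)) ((Qsub h2 hS m).inv_mem (uQ_mem_Qsub h2 hS hSdef _ _))

theorem wQ_inv (h2 : (2 : F) = 0) (hS : ∀ z, S (S z) = z ^ 2)
    (hSdef : ∀ z, S z = z ^ 2 ^ (m + 1)) :
    (wQ (m := m) h2 hS hSdef)⁻¹ = wQ h2 hS hSdef :=
  inv_eq_of_mul_eq_one_left (wQ_involution h2 hS hSdef)

/-- a subgroup containing `Q` fixes `∞` or is everything -/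
theorem overgroup_Q (hm : 1 ≤ m) (hF : Fintype.card F = 2 ^ (2 * m + 1)) (h2 : (2 : F) = 0)
    (hS : ∀ z, S (S z) = z ^ 2) (hSdef : ∀ z, S z = z ^ 2 ^ (m + 1))
    (M : Subgroup (Cfsg.Sz F m)) (hQM : Qsub h2 hS m ≤ M) :
    (∀ g ∈ M, g • ptInf F m = ptInf F m) ∨ M = ⊤ := by
  by_cases hfix : ∀ g ∈ M, g • ptInf F m = ptInf F m
  · exact Or.inl hfix
  right
  push Not at hfix
  obtain ⟨g, hgM, hg⟩ := hfix
  have huM : ∀ a b, uQ h2 hS hSdef a b ∈ M := fun a b => hQM (uQ_mem_Qsub h2 hS hSdef a b)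
  obtain ⟨w, hw⟩ : ∃ w, w = wQ (m := m) h2 hS hSdef := ⟨_, rfl⟩
  have hww : w * w = 1 := by rw [hw]; exact wQ_involution h2 hS hSdef
  have hwinv : w⁻¹ = w := by rw [hw]; exact wQ_inv h2 hS hSdef
  -- an element `k ∈ M` with `k ∞ = 0`
  obtain ⟨k, hkM, hk⟩ : ∃ k ∈ M, k • ptInf F m = ptAff hSdef 0 0 := by
    rcases pt_cases hSdef (g • ptInf F m) with h | ⟨x, y, h⟩
    · exact absurd h hg
    · refine ⟨(uQ h2 hS hSdef x y)⁻¹ * g, M.mul_mem (M.inv_mem (huM x y)) hgM, ?_⟩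
      rw [mul_smul, h, inv_smul_eq_iff, uQ_smul_ptAff, zero_add, mul_zero, add_zero, zero_add]
  -- `x₀ = w k` fixes `∞`
  obtain ⟨x₀, hx₀⟩ : ∃ x₀, x₀ = w * k := ⟨_, rfl⟩
  have hx₀fix : x₀ • ptInf F m = ptInf F m := by
    rw [hx₀, mul_smul, hk, hw]
    exact wQ_smul_ptAff_zero h2 hS hSdef
  have hk' : k = w * x₀ := by rw [hx₀, ← mul_assoc, hww, one_mul]
  have hx₀inv : x₀⁻¹ • ptInf F m = ptInf F m := by rw [inv_smul_eq_iff, hx₀fix]
  -- `w Q w ≤ M`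
  have hwQw : ∀ v ∈ Qsub h2 hS m, w * v * w ∈ M := by
    intro v hv
    have h1 := conj_mem_Qsub hm hF h2 hS hSdef hx₀inv hv
    rw [inv_inv] at h1
    have h2' : k * (x₀⁻¹ * v * x₀) * k⁻¹ ∈ M := M.mul_mem (M.mul_mem hkM (hQM h1)) (M.inv_mem hkM)
    have : k * (x₀⁻¹ * v * x₀) * k⁻¹ = w * v * w := by
      rw [hk', _root_.mul_inv_rev, hwinv]; group
    rwa [this] at h2'
  obtain ⟨a₀, b₀, t₀, hx₀val⟩ := stab_inf_Q hm hF h2 hS hSdef hx₀fix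
  -- torus elements
  have hT' : ∀ t : Fˣ, (hQ hS hSdef t₀)⁻¹ * hQ hS hSdef t ∈ M := by
    intro t
    obtain ⟨b, x₁, a₂, b₂, hrel⟩ := rank_one_rel hm hF h2 hS hSdef t
    rw [← hw] at hrel
    -- `k_t = u₁⁻¹ (w v w) ∈ M`
    have hkt : (uQ h2 hS hSdef x₁ 0)⁻¹ * (w * (uQ h2 hS hSdef 0 b * w)) ∈ M := by
      have := hwQw _ (uQ_mem_Qsub h2 hS hSdef 0 b)
      rw [mul_assoc] at this
      exact M.mul_mem (M.inv_mem (huM x₁ 0)) this
    have e1 : k⁻¹ * ((uQ h2 hS hSdef x₁ 0)⁻¹ * (w * (uQ h2 hS hSdef 0 b * w)))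
        = x₀⁻¹ * (uQ h2 hS hSdef a₂ b₂ * hQ hS hSdef t) := by
      rw [← hrel, hk', _root_.mul_inv_rev, hwinv]
      group
    have e2 : x₀⁻¹ * (uQ h2 hS hSdef a₂ b₂ * hQ hS hSdef t) ∈ M := by
      rw [← e1]; exact M.mul_mem (M.inv_mem hkM) hkt
    -- rewrite as (conjugate of a `Q`-element) times torus
    have hq : (hQ hS hSdef t₀)⁻¹ * ((uQ h2 hS hSdef a₀ b₀)⁻¹ * uQ h2 hS hSdef a₂ b₂)
        * ((hQ hS hSdef t₀)⁻¹)⁻¹ ∈ Qsub h2 hS m := by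
      apply conj_mem_Qsub hm hF h2 hS hSdef
      · rw [inv_smul_eq_iff, hQ_smul_ptInf]
      · exact (Qsub h2 hS m).mul_mem ((Qsub h2 hS m).inv_mem (uQ_mem_Qsub h2 hS hSdef _ _))
          (uQ_mem_Qsub h2 hS hSdef _ _)
    have e3 : (hQ hS hSdef t₀)⁻¹ * hQ hS hSdef t
        = ((hQ hS hSdef t₀)⁻¹ * ((uQ h2 hS hSdef a₀ b₀)⁻¹ * uQ h2 hS hSdef a₂ b₂)
          * ((hQ hS hSdef t₀)⁻¹)⁻¹)⁻¹ * (x₀⁻¹ * (uQ h2 hS hSdef a₂ b₂ * hQ hS hSdef t)) := by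
      rw [hx₀val]; group
    rw [e3]
    exact M.mul_mem (M.inv_mem (hQM hq)) e2
  have ht₀ : hQ hS hSdef t₀ ∈ M := by
    have := hT' 1
    rw [hQ_one, mul_one] at this
    have h3 := M.inv_mem this
    rwa [inv_inv] at h3
  have hT : ∀ t : Fˣ, hQ hS hSdef t ∈ M := by
    intro t
    have := M.mul_mem ht₀ (hT' t)
    rwa [mul_inv_cancel_left] at this
  have hx₀M : x₀ ∈ M := by
    rw [hx₀val]; exact M.mul_mem (huM _ _) ht₀
  have hwM : w ∈ M := by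
    have : w = k * x₀⁻¹ := by rw [hk', mul_inv_cancel_right]
    rw [this]; exact M.mul_mem hkM (M.inv_mem hx₀M)
  rw [eq_top_iff]
  intro y _
  rcases Sz_decomp hm hF h2 hS hSdef y.2 with ⟨a, b, t, h⟩ | ⟨a, b, a', b', t, h⟩
  · have : y = uQ h2 hS hSdef a b * hQ hS hSdef t := Subtype.ext h
    rw [this]; exact M.mul_mem (huM _ _) (hT t)
  · have : y = uQ h2 hS hSdef a b * w * (uQ h2 hS hSdef a' b' * hQ hS hSdef t) := by
      rw [hw]; exact Subtype.ext h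
    rw [this]
    exact M.mul_mem (M.mul_mem (huM _ _) hwM) (M.mul_mem (huM _ _) (hT t))

end Max

end Cfsg.Agent.Helper37Sz
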