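import Cfsg.Prelude.Def_Sz
import Cfsg.Agent.Lib.Helper37_SzMax

/-!
# The two models of the Suzuki group agree (helper37)

`Cfsg.Sz F m` (stabiliser in `SL₄` of the Suzuki–Tits ovoid) is isomorphic to
`Cfsg.Lie.Sz F (2 ^ (m + 1))` (the matrices of `Sp₄` with `g* = g^θ`): the ovoid is the set of
absolute points of the polarity, in the same coordinates.
-/

set_option autoImplicit false
open Cfsg

namespace Cfsg.Agent.Helper37Sz

open Cfsg.Agent.S0335 (sf sf_aniso sf_inv sf_collinear)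
open Matrix

section Bridge

variable {F : Type*} [Field F] [Fintype F] {S : F →+* F} {m : ℕ}

/-- matrix form of the symplectic condition -/
theorem sp_matrix (g : Matrix (Fin 4) (Fin 4) F)
    (h : ∀ u v, Cfsg.Lie.altForm4 (g *ᵥ u) (g *ᵥ v) = Cfsg.Lie.altForm4 u v) :
      gᵀ * wMat * g = wMat := by
  ext i j
  have := h (Pi.single i 1) (Pi.single j 1)
  fin_cases i <;> fin_cases j <;>
    simp [Cfsg.Lie.altForm4, Matrix.mulVec, dotProduct, Fin.sum_univ_four, Matrix.mul_apply, wMat,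
      Pi.single_apply] at this ⊢ <;> linear_combination this

theorem sp_matrix' (g : Matrix (Fin 4) (Fin 4) F) (h : gᵀ * wMat * g = wMat) :
    g * wMat * gᵀ = wMat := by
  have hJ : (wMat : Matrix (Fin 4) (Fin 4) F) * wMat = 1 := wMat_mul_self
  have h1 : (wMat * gᵀ * wMat) * g = 1 := by
    rw [Matrix.mul_assoc, Matrix.mul_assoc, ← Matrix.mul_assoc gᵀ, h, hJ]
  have h2 : g * (wMat * gᵀ * wMat) = 1 := _root_.mul_eq_one_comm.1 h1
  calc g * wMat * gᵀ = g * (wMat * gᵀ * wMat) * wMat := by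
        simp only [Matrix.mul_assoc]; rw [hJ, Matrix.mul_one]
    _ = wMat := by rw [h2, Matrix.one_mul]

theorem sp_det (h2 : (2 : F) = 0) (g : Matrix (Fin 4) (Fin 4) F) (h : gᵀ * wMat * g = wMat) :
    g.det = 1 := by
  have := congrArg Matrix.det h
  rw [Matrix.det_mul, Matrix.det_mul, Matrix.det_transpose, det_wMat, mul_one] at this
  apply unit_eq_one_of_sq h2
  rw [pow_two]; exact this

omit [Fintype F] in
theorem plk_aux (h2 : (2 : F) = 0) (a0 a1 a2 a3 b0 b1 b2 b3 v0 v1 v2 v3 u0 u1 u2 u3 : F)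
    (hB : v0 * u3 + v1 * u2 + v2 * u1 + v3 * u0 = 0)
    (hr : a0 * b3 + a1 * b2 + a2 * b1 + a3 * b0 = 0) :
    (a0 * v0 + a1 * v1 + a2 * v2 + a3 * v3) * (b0 * u0 + b1 * u1 + b2 * u2 + b3 * u3)
      - (b0 * v0 + b1 * v1 + b2 * v2 + b3 * v3) * (a0 * u0 + a1 * u1 + a2 * u2 + a3 * u3)
    = (a0 * b1 - b0 * a1) * (v0 * u1 - v1 * u0) + (a0 * b2 - b0 * a2) * (v0 * u2 - v2 * u0)
      + (a1 * b3 - b1 * a3) * (v1 * u3 - v3 * u1) + (a2 * b3 - b2 * a3) * (v2 * u3 - v3 * u2) := by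
  linear_combination (a1 * b2 - b1 * a2) * hB - (v0 * u3 - v3 * u0) * hr
    + ((a0 * b3 - b0 * a3) * (v0 * u3 - v3 * u0) + (a3 * b0 + a2 * b1) * (v0 * u3 - v3 * u0)
      - (a1 * b2 - b1 * a2) * (v3 * u0 + v2 * u1)) * h2

/-- Plücker coordinates of the line through `v` and `u` -/
def plk (v u : Fin 4 → F) : Fin 4 → F :=
  ![v 0 * u 1 - v 1 * u 0, v 0 * u 2 - v 2 * u 0, v 1 * u 3 - v 3 * u 1, v 2 * u 3 - v 3 * u 2]

omit [Fintype F] in
theorem plk_mulVec (h2 : (2 : F) = 0) (g : Matrix (Fin 4) (Fin 4) F)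
    (hrow : g * wMat * gᵀ = wMat) (v u : Fin 4 → F) (hB : Cfsg.Lie.altForm4 v u = 0) :
    plk (g *ᵥ v) (g *ᵥ u) = Cfsg.Lie.star4 g *ᵥ plk v u := by
  have hB' : v 0 * u 3 + v 1 * u 2 + v 2 * u 1 + v 3 * u 0 = 0 := hB
  have hr : ∀ k l : Fin 4, g k 0 * g l 3 + g k 1 * g l 2 + g k 2 * g l 1 + g k 3 * g l 0
      = (wMat : Matrix (Fin 4) (Fin 4) F) k l := by
    intro k l
    have := congrFun (congrFun hrow k) l
    rw [← this]
    simp [Matrix.mul_apply, Fin.sum_univ_four, wMat]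
    ring
  ext p
  fin_cases p
  · have h := hr 0 1
    simp [wMat] at h
    simp [plk, Cfsg.Lie.star4, Cfsg.Lie.pairOf, Matrix.mulVec, dotProduct, Fin.sum_univ_four]
    have := plk_aux h2 (g 0 0) (g 0 1) (g 0 2) (g 0 3) (g 1 0) (g 1 1) (g 1 2) (g 1 3)
      (v 0) (v 1) (v 2) (v 3) (u 0) (u 1) (u 2) (u 3) hB' h
    linear_combination this
  · have h := hr 0 2
    simp [wMat] at h
    simp [plk, Cfsg.Lie.star4, Cfsg.Lie.pairOf, Matrix.mulVec, dotProduct, Fin.sum_univ_four]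
    have := plk_aux h2 (g 0 0) (g 0 1) (g 0 2) (g 0 3) (g 2 0) (g 2 1) (g 2 2) (g 2 3)
      (v 0) (v 1) (v 2) (v 3) (u 0) (u 1) (u 2) (u 3) hB' h
    linear_combination this
  · have h := hr 1 3
    simp [wMat] at h
    simp [plk, Cfsg.Lie.star4, Cfsg.Lie.pairOf, Matrix.mulVec, dotProduct, Fin.sum_univ_four]
    have := plk_aux h2 (g 1 0) (g 1 1) (g 1 2) (g 1 3) (g 3 0) (g 3 1) (g 3 2) (g 3 3)
      (v 0) (v 1) (v 2) (v 3) (u 0) (u 1) (u 2) (u 3) hB' h
    linear_combination this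
  · have h := hr 2 3
    simp [wMat] at h
    simp [plk, Cfsg.Lie.star4, Cfsg.Lie.pairOf, Matrix.mulVec, dotProduct, Fin.sum_univ_four]
    have := plk_aux h2 (g 2 0) (g 2 1) (g 2 2) (g 2 3) (g 3 0) (g 3 1) (g 3 2) (g 3 3)
      (v 0) (v 1) (v 2) (v 3) (u 0) (u 1) (u 2) (u 3) hB' h
    linear_combination this


omit [Fintype F] in
theorem map_mulVec (hSdef : ∀ z, S z = z ^ 2 ^ (m + 1)) (g : Matrix (Fin 4) (Fin 4) F)
    (v : Fin 4 → F) :
    (g.map (fun x => x ^ 2 ^ (m + 1))) *ᵥ (fun i => S (v i)) = fun i => S ((g *ᵥ v) i) := by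
  ext i
  simp [Matrix.mulVec, dotProduct, map_sum, map_mul, ← hSdef]

variable (S) in
/-- absolute points of the polarity -/
def IsAbs (v : Fin 4 → F) : Prop :=
  ∃ (u : Fin 4 → F) (c : F), c ≠ 0 ∧ Cfsg.Lie.altForm4 v u = 0 ∧ plk v u = c • (fun i => S (v i))

omit [Fintype F] in
theorem IsAbs.smul {v : Fin 4 → F} (h : IsAbs S v) {k : F} (hk : k ≠ 0) : IsAbs S (k • v) := by
  obtain ⟨u, c, hc, hB, hp⟩ := h
  have hSk : S k ≠ 0 := by simpa using hk
  refine ⟨u, k * c / S k, div_ne_zero (mul_ne_zero hk hc) hSk, ?_, ?_⟩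
  · have hB' : v 0 * u 3 + v 1 * u 2 + v 2 * u 1 + v 3 * u 0 = 0 := hB
    show k * v 0 * u 3 + k * v 1 * u 2 + k * v 2 * u 1 + k * v 3 * u 0 = 0
    linear_combination k * hB'
  · have e0 := congrFun hp 0
    have e1 := congrFun hp 1
    have e2 := congrFun hp 2
    have e3 := congrFun hp 3
    simp [plk] at e0 e1 e2 e3
    ext i
    fin_cases i <;> simp [plk] <;> field_simp
    · linear_combination e0
    · linear_combination e1
    · linear_combination e2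
    · linear_combination e3

omit [Fintype F] in
theorem isAbs_pInf : IsAbs S (pInf : Fin 4 → F) := by
  refine ⟨![0, 1, 0, 0], 1, one_ne_zero, ?_, ?_⟩
  · simp [Cfsg.Lie.altForm4, pInf]
  · ext i
    fin_cases i <;> simp [plk, pInf]

omit [Fintype F] in
theorem isAbs_pAff (h2 : (2 : F) = 0) (hS : ∀ z, S (S z) = z ^ 2) (x y : F) :
    IsAbs S (pAff S x y) := by
  refine ⟨![y + x * S x, S x, 1, 0], 1, one_ne_zero, ?_, ?_⟩
  · simp [Cfsg.Lie.altForm4, pAff]
    linear_combination (y + x * S x) * h2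
  · ext i
    fin_cases i
    · simp [plk, pAff, sf, map_add, map_mul, map_pow, hS]
      linear_combination (- y ^ 2) * h2
    · simp [plk, pAff, sf]
      ring
    · simp [plk, pAff]
      linear_combination (- S x) * h2
    · simp [plk, pAff]
      linear_combination (-1 : F) * h2

omit [Fintype F] in
theorem IsOv.isAbs (h2 : (2 : F) = 0) (hS : ∀ z, S (S z) = z ^ 2) {v : Fin 4 → F}
    (h : IsOv S v) : IsAbs S v := by
  obtain ⟨c, hc, rfl | ⟨x, y, rfl⟩⟩ := h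
  · exact isAbs_pInf.smul hc
  · exact (isAbs_pAff h2 hS x y).smul hc

omit [Fintype F] in
theorem IsAbs.isOv (h2 : (2 : F) = 0) (hS : ∀ z, S (S z) = z ^ 2) {v : Fin 4 → F}
    (h : IsAbs S v) (hv : v ≠ 0) : IsOv S v := by
  by_cases h3 : v 3 = 0
  · obtain ⟨u, c, hc, hB, hp⟩ := h
    have hB' : v 0 * u 3 + v 1 * u 2 + v 2 * u 1 + v 3 * u 0 = 0 := hB
    have e1 : v 0 * u 2 - v 2 * u 0 = c * S (v 1) := congrFun hp 1
    have e2 : v 1 * u 3 - v 3 * u 1 = c * S (v 2) := congrFun hp 2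
    have e3 : v 2 * u 3 - v 3 * u 2 = c * S (v 3) := congrFun hp 3
    rw [h3, map_zero, mul_zero, zero_mul, sub_zero] at e3
    rw [h3, zero_mul, sub_zero] at e2
    rw [h3, zero_mul, add_zero] at hB'
    have hv2 : v 2 = 0 := by
      rcases mul_eq_zero.1 e3 with h | h
      · exact h
      · rw [h, mul_zero] at e2
        rcases mul_eq_zero.1 e2.symm with h' | h'
        · exact absurd h' hc
        · simpa using h'
    rw [hv2, map_zero, mul_zero] at e2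
    rw [hv2, zero_mul, sub_zero] at e1
    rw [hv2, zero_mul, add_zero] at hB'
    have hv1 : v 1 = 0 := by
      by_contra hv1
      rcases mul_eq_zero.1 e2 with h | h
      · exact hv1 h
      · rw [h, mul_zero, zero_add] at hB'
        rcases mul_eq_zero.1 hB' with h'' | h''
        · exact hv1 h''
        · rw [h'', mul_zero] at e1
          rcases mul_eq_zero.1 e1.symm with h' | h'
          · exact hc h'
          · exact hv1 (by simpa using h')
    have hv0 : v 0 ≠ 0 := by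
      intro h0
      apply hv
      ext i
      fin_cases i <;> simp [*]
    refine ⟨v 0, hv0, Or.inl ?_⟩
    ext i
    fin_cases i <;> simp [pInf, *]
  · have h' := h.smul (inv_ne_zero h3)
    obtain ⟨v', hv'⟩ : ∃ v', v' = (v 3)⁻¹ • v := ⟨_, rfl⟩
    rw [← hv'] at h'
    have hv'3 : v' 3 = 1 := by
      rw [hv']; exact inv_mul_cancel₀ h3
    have hvv' : v = v 3 • v' := by
      rw [hv', smul_smul, mul_inv_cancel₀ h3, one_smul]
    obtain ⟨u, c, hc, hB, hp⟩ := h'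
    have hB' : v' 0 * u 3 + v' 1 * u 2 + v' 2 * u 1 + v' 3 * u 0 = 0 := hB
    have e1 : v' 0 * u 2 - v' 2 * u 0 = c * S (v' 1) := congrFun hp 1
    have e2 : v' 1 * u 3 - v' 3 * u 1 = c * S (v' 2) := congrFun hp 2
    have e3 : v' 2 * u 3 - v' 3 * u 2 = c * S (v' 3) := congrFun hp 3
    rw [hv'3] at hB' e2 e3
    rw [map_one] at e3
    obtain ⟨z, hz⟩ : ∃ z, z = v' 0 := ⟨_, rfl⟩
    obtain ⟨y, hy⟩ : ∃ y, y = v' 1 := ⟨_, rfl⟩
    obtain ⟨x, hx⟩ : ∃ x, x = v' 2 := ⟨_, rfl⟩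
    rw [← hz, ← hy, ← hx] at hB'
    rw [← hz, ← hy, ← hx] at e1
    rw [← hy, ← hx] at e2
    rw [← hx] at e3
    have E1 : z * u 2 + x * u 0 + c * S y = 0 := by
      linear_combination e1 + (x * u 0 + c * S y) * h2
    have E2 : y * u 3 + u 1 + c * S x = 0 := by
      linear_combination e2 + (u 1 + c * S x) * h2
    have E3 : x * u 3 + u 2 + c = 0 := by
      linear_combination e3 + (u 2 + c) * h2
    have T : c * (z + x * y + x ^ 2 * S x + S y) = 0 := by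
      linear_combination E1 + x * hB' + (z + x * y) * E3 + x ^ 2 * E2
        - (z * u 2 + x * u 0 + x * z * u 3 + x * y * u 2 + x ^ 2 * u 1 + x ^ 2 * y * u 3) * h2
    have hzsf : z = sf S x y := by
      rcases mul_eq_zero.1 T with h | h
      · exact absurd h hc
      · unfold sf
        linear_combination h - (x * y + x ^ 2 * S x + S y) * h2
    refine ⟨v 3, h3, Or.inr ⟨x, y, ?_⟩⟩
    conv_lhs => rw [hvv']
    congr 1
    ext i
    fin_cases i
    · show v' 0 = sf S x y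
      rw [← hz, hzsf]
    · show v' 1 = y
      rw [hy]
    · show v' 2 = x
      rw [hx]
    · show v' 3 = 1
      exact hv'3

omit [Fintype F] in
theorem sp_of_matrix (g : Matrix (Fin 4) (Fin 4) F) (h : gᵀ * wMat * g = wMat) (u v : Fin 4 → F) :
    Cfsg.Lie.altForm4 (g *ᵥ u) (g *ᵥ v) = Cfsg.Lie.altForm4 u v := by
  have key : ∀ a b : Fin 4 → F, Cfsg.Lie.altForm4 a b
      = a ⬝ᵥ ((wMat : Matrix (Fin 4) (Fin 4) F) *ᵥ b) := by
    intro a b
    simp [Cfsg.Lie.altForm4, wMat, Matrix.mulVec, dotProduct, Fin.sum_univ_four]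
  calc Cfsg.Lie.altForm4 (g *ᵥ u) (g *ᵥ v)
      = (g *ᵥ u) ⬝ᵥ ((wMat : Matrix (Fin 4) (Fin 4) F) *ᵥ (g *ᵥ v)) := key _ _
    _ = u ⬝ᵥ ((gᵀ * wMat * g) *ᵥ v) := by
        rw [← Matrix.vecMul_transpose, ← Matrix.dotProduct_mulVec, Matrix.mulVec_mulVec,
          Matrix.mulVec_mulVec, Matrix.mul_assoc]
    _ = u ⬝ᵥ ((wMat : Matrix (Fin 4) (Fin 4) F) *ᵥ v) := by rw [h]
    _ = Cfsg.Lie.altForm4 u v := (key _ _).symm

omit [Fintype F] in
theorem uMat_sp (h2 : (2 : F) = 0) (a b : F) :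
    (uMat S a b)ᵀ * wMat * uMat S a b = wMat := by
  have h4 : (4 : F) = 0 := by linear_combination 2 * h2
  ext i j
  fin_cases i <;> fin_cases j <;>
    simp [uMat, wMat, Matrix.mul_apply, Fin.sum_univ_four, sf]
  all_goals (ring_nf; simp [h2, h4])

omit [Fintype F] in
theorem hMat_sp {t : F} (ht : t ≠ 0) :
    (hMat S t)ᵀ * wMat * hMat S t = wMat := by
  have hSt : S t ≠ 0 := by simpa using ht
  ext i j
  fin_cases i <;> fin_cases j <;>
    simp [hMat, wMat, Matrix.mul_apply, Fin.sum_univ_four]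
  all_goals (field_simp)

omit [Fintype F] in
theorem wMat_sp :
    (wMat : Matrix (Fin 4) (Fin 4) F)ᵀ * wMat * wMat = wMat := by
  ext i j
  fin_cases i <;> fin_cases j <;>
    simp [wMat, Matrix.mul_apply, Fin.sum_univ_four]

omit [Fintype F] in
theorem uMat_star (h2 : (2 : F) = 0) (hS : ∀ z, S (S z) = z ^ 2) (a b : F) :
    Cfsg.Lie.star4 (uMat S a b) = (uMat S a b).map S := by
  have h4 : (4 : F) = 0 := by linear_combination 2 * h2
  ext i j
  fin_cases i <;> fin_cases j <;>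
    simp [Cfsg.Lie.star4, Cfsg.Lie.pairOf, uMat, sf, map_add, map_mul, map_pow, hS]
  all_goals (first | ring1 | (rw [← sub_eq_zero]; ring_nf; simp [h2]))

omit [Fintype F] in
theorem hMat_star (hS : ∀ z, S (S z) = z ^ 2) {t : F} (ht : t ≠ 0) :
    Cfsg.Lie.star4 (hMat S t) = (hMat S t).map S := by
  have hSt : S t ≠ 0 := by simpa using ht
  ext i j
  fin_cases i <;> fin_cases j <;>
    simp [Cfsg.Lie.star4, Cfsg.Lie.pairOf, hMat, map_mul, map_pow, hS]
  all_goals (first | ring1 | field_simp)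

omit [Fintype F] in
theorem wMat_star (h2 : (2 : F) = 0) :
    Cfsg.Lie.star4 (wMat : Matrix (Fin 4) (Fin 4) F) = (wMat : Matrix (Fin 4) (Fin 4) F).map S := by
  ext i j
  fin_cases i <;> fin_cases j <;>
    simp [Cfsg.Lie.star4, Cfsg.Lie.pairOf, wMat]
  all_goals (linear_combination (-1 : F) * h2)

/-- the image of an absolute vector under an element of the matrix model is absolute -/
theorem IsAbs.mulVec (h2 : (2 : F) = 0) (hSdef : ∀ z, S z = z ^ 2 ^ (m + 1))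
    (g : Matrix (Fin 4) (Fin 4) F)
    (hsp : ∀ u v, Cfsg.Lie.altForm4 (g *ᵥ u) (g *ᵥ v) = Cfsg.Lie.altForm4 u v)
    (hstar : Cfsg.Lie.star4 g = g.map (fun x => x ^ 2 ^ (m + 1))) {v : Fin 4 → F}
    (h : IsAbs S v) : IsAbs S (g *ᵥ v) := by
  obtain ⟨u, c, hc, hB, hp⟩ := h
  refine ⟨g *ᵥ u, c, hc, ?_, ?_⟩
  · rw [hsp, hB]
  · rw [plk_mulVec h2 g (sp_matrix' g (sp_matrix g hsp)) v u hB, hp, hstar, Matrix.mulVec_smul,
      map_mulVec hSdef]

/-- the embedding of the ovoid model in `GL₄` -/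
noncomputable def szToGL (F : Type*) [Field F] (m : ℕ) : Cfsg.Sz F m →* GL (Fin 4) F :=
  Matrix.SpecialLinearGroup.toGL.comp (Cfsg.Sz F m).subtype

omit [Fintype F] in
theorem szToGL_coe (x : Cfsg.Sz F m) :
    ((szToGL F m x : GL (Fin 4) F) : Matrix (Fin 4) (Fin 4) F)
      = ((x : Matrix.SpecialLinearGroup (Fin 4) F) : Matrix (Fin 4) (Fin 4) F) := rfl

omit [Fintype F] in
theorem szToGL_injective : Function.Injective (szToGL F m) := by
  intro x y h
  apply Subtype.ext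
  exact Matrix.SpecialLinearGroup.toGL_injective h

omit [Fintype F] in
/-- a matrix of determinant one satisfying the two conditions lies in the matrix model -/
theorem toGL_mem_lieSz (hSdef : ∀ z, S z = z ^ 2 ^ (m + 1))
    (g : Matrix.SpecialLinearGroup (Fin 4) F)
    (hsp : (g : Matrix (Fin 4) (Fin 4) F)ᵀ * wMat * (g : Matrix (Fin 4) (Fin 4) F) = wMat)
    (hstar : Cfsg.Lie.star4 (g : Matrix (Fin 4) (Fin 4) F)
      = (g : Matrix (Fin 4) (Fin 4) F).map S) :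
    Matrix.SpecialLinearGroup.toGL g ∈ Cfsg.Lie.Sz F (2 ^ (m + 1)) := by
  apply Subgroup.subset_closure
  refine ⟨?_, ?_⟩
  · intro u v
    exact sp_of_matrix _ hsp u v
  · show Cfsg.Lie.star4 (g : Matrix (Fin 4) (Fin 4) F) = _
    rw [hstar]
    congr 1
    funext x
    exact hSdef x

theorem szToGL_mem (hm : 1 ≤ m) (hF : Fintype.card F = 2 ^ (2 * m + 1)) (h2 : (2 : F) = 0)
    (hS : ∀ z, S (S z) = z ^ 2) (hSdef : ∀ z, S z = z ^ 2 ^ (m + 1)) (x : Cfsg.Sz F m) :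
    szToGL F m x ∈ Cfsg.Lie.Sz F (2 ^ (m + 1)) := by
  have hu : ∀ a b : F, Matrix.SpecialLinearGroup.toGL (uSL S a b) ∈ Cfsg.Lie.Sz F (2 ^ (m + 1)) :=
    fun a b => toGL_mem_lieSz hSdef _ (uMat_sp h2 a b) (uMat_star h2 hS a b)
  have hh : ∀ t : Fˣ, Matrix.SpecialLinearGroup.toGL (hSL S t) ∈ Cfsg.Lie.Sz F (2 ^ (m + 1)) :=
    fun t => toGL_mem_lieSz hSdef _ (hMat_sp t.ne_zero) (hMat_star hS t.ne_zero)
  have hw : Matrix.SpecialLinearGroup.toGL (wSL : Matrix.SpecialLinearGroup (Fin 4) F)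
      ∈ Cfsg.Lie.Sz F (2 ^ (m + 1)) :=
    toGL_mem_lieSz hSdef _ wMat_sp (wMat_star h2)
  show Matrix.SpecialLinearGroup.toGL (x : Matrix.SpecialLinearGroup (Fin 4) F) ∈ _
  rcases Sz_decomp hm hF h2 hS hSdef x.2 with ⟨a, b, t, h⟩ | ⟨a, b, a', b', t, h⟩
  · rw [h, map_mul]
    exact Subgroup.mul_mem _ (hu a b) (hh t)
  · rw [h, map_mul, map_mul, map_mul]
    exact Subgroup.mul_mem _ (Subgroup.mul_mem _ (hu a b) hw) (Subgroup.mul_mem _ (hu a' b') (hh t))

theorem lieSz_le_range (h2 : (2 : F) = 0) (hS : ∀ z, S (S z) = z ^ 2)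
    (hSdef : ∀ z, S z = z ^ 2 ^ (m + 1)) :
    Cfsg.Lie.Sz F (2 ^ (m + 1)) ≤ (szToGL F m).range := by
  apply (Subgroup.closure_le _).2
  rintro g ⟨hsp, hstar⟩
  have hsp' : ∀ u v, Cfsg.Lie.altForm4 ((g : Matrix (Fin 4) (Fin 4) F) *ᵥ u)
      ((g : Matrix (Fin 4) (Fin 4) F) *ᵥ v) = Cfsg.Lie.altForm4 u v := hsp
  have hdet : (g : Matrix (Fin 4) (Fin 4) F).det = 1 := sp_det h2 _ (sp_matrix _ hsp')
  set g' : Matrix.SpecialLinearGroup (Fin 4) F := ⟨(g : Matrix (Fin 4) (Fin 4) F), hdet⟩ with hg'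
  have hmem : g' ∈ Cfsg.Sz F m := by
    apply mem_Sz_of hSdef
    intro v hv
    have habs : IsAbs S ((g : Matrix (Fin 4) (Fin 4) F) *ᵥ v) :=
      (hv.isAbs h2 hS).mulVec h2 hSdef _ hsp' hstar
    apply habs.isOv h2 hS
    intro h0
    have : (g' : Matrix (Fin 4) (Fin 4) F) *ᵥ v = (g' : Matrix (Fin 4) (Fin 4) F) *ᵥ 0 := by
      rw [Matrix.mulVec_zero]; exact h0
    exact hv.ne_zero (SL_mulVec_injective g' this)
  refine ⟨⟨g', hmem⟩, ?_⟩
  apply Units.ext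
  rfl

theorem szToGL_range (hm : 1 ≤ m) (hF : Fintype.card F = 2 ^ (2 * m + 1)) :
    (szToGL F m).range = Cfsg.Lie.Sz F (2 ^ (m + 1)) := by
  have h2 := two_eq_zero_of_card hF
  have hSdef : ∀ z, sgHom F m h2 z = z ^ 2 ^ (m + 1) := fun z => sgHom_apply m h2 z
  have hS : ∀ z, sgHom F m h2 (sgHom F m h2 z) = z ^ 2 := fun z => sgHom_sgHom hF h2 z
  apply le_antisymm
  · rintro _ ⟨x, rfl⟩
    exact szToGL_mem hm hF h2 hS hSdef x
  · exact lieSz_le_range h2 hS hSdef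

/-- the isomorphism between the two models of the Suzuki group -/
noncomputable def lieSzEquiv (hm : 1 ≤ m) (hF : Fintype.card F = 2 ^ (2 * m + 1)) :
    Cfsg.Sz F m ≃* Cfsg.Lie.Sz F (2 ^ (m + 1)) :=
  (MonoidHom.ofInjective (szToGL_injective (F := F) (m := m))).trans
    (MulEquiv.subgroupCongr (szToGL_range hm hF))

theorem lieSzEquiv_coe (hm : 1 ≤ m) (hF : Fintype.card F = 2 ^ (2 * m + 1)) (x : Cfsg.Sz F m) :
    ((lieSzEquiv hm hF x : GL (Fin 4) F) : Matrix (Fin 4) (Fin 4) F)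
      = ((x : Matrix.SpecialLinearGroup (Fin 4) F) : Matrix (Fin 4) (Fin 4) F) := rfl

end Bridge

end Cfsg.Agent.Helper37Sz
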