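/-
S4613, package SZ: in the Suzuki group `Sz(q)`, `q = 2 ^ (2 m + 1) ≥ 8`, an automorphism of odd order that fixes a
Sylow `2`-subgroup elementwise is trivial.  We work in the ovoid model `Cfsg.Sz F m` (helper37's files), where
`B` is the stabiliser of the point `∞`, `U = Q` is its normal Sylow `2`-subgroup, and `G = B ∪ Q w B`; the rank is
one, so the data `V` of `BDat` is vacuous.  The centraliser of `Q` lies in `Q` because `Q` fixes only `∞` and a
torus element centralising `Z(Q)` is trivial.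
-/
import Cfsg.Agent.Lib.Helper37_SzBridge
import Cfsg.Agent.Lib.Helper68_AutU
import Cfsg.Agent.Lib.Helper68_AutUIso

set_option autoImplicit false

namespace Cfsg.Agent.Lib.Helper31_AutU_SZ

open Cfsg Cfsg.Agent.Helper37Sz Cfsg.Agent.Lib.Helper68_AutU

section ovoid

variable {F : Type*} [Field F] [Fintype F] {S : F →+* F} {m : ℕ}

/-- the stabiliser of `∞` -/
def Bsub (F : Type*) [Field F] (m : ℕ) : Subgroup (Cfsg.Sz F m) :=
  MulAction.stabilizer (Cfsg.Sz F m) (ptInf F m)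

omit [Fintype F] in
theorem mem_Bsub (g : Cfsg.Sz F m) : g ∈ Bsub F m ↔ g • ptInf F m = ptInf F m :=
  MulAction.mem_stabilizer_iff

theorem Qsub_le_Bsub (h2 : (2 : F) = 0) (hS : ∀ z, S (S z) = z ^ 2)
    (hSdef : ∀ z, S z = z ^ 2 ^ (m + 1)) : Qsub h2 hS m ≤ Bsub F m := by
  intro q hq
  obtain ⟨a, b, rfl⟩ := exists_of_mem_Qsub h2 hS hSdef hq
  rw [mem_Bsub]
  exact uQ_smul_ptInf h2 hS hSdef a b

theorem hQ_mem_Bsub (hS : ∀ z, S (S z) = z ^ 2) (hSdef : ∀ z, S z = z ^ 2 ^ (m + 1)) (t : Fˣ) :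
    hQ hS hSdef t ∈ Bsub F m := by
  rw [mem_Bsub]
  exact hQ_smul_ptInf hS hSdef t

theorem wQ_not_mem_Bsub (h2 : (2 : F) = 0) (hS : ∀ z, S (S z) = z ^ 2)
    (hSdef : ∀ z, S z = z ^ 2 ^ (m + 1)) : wQ h2 hS hSdef ∉ Bsub F m := by
  rw [mem_Bsub, wQ_smul_ptInf]
  exact ptAff_ne_ptInf hSdef 0 0

/-- the Bruhat decomposition, in `Sz` -/
theorem decomp_Q (hm : 1 ≤ m) (hF : Fintype.card F = 2 ^ (2 * m + 1)) (h2 : (2 : F) = 0)
    (hS : ∀ z, S (S z) = z ^ 2) (hSdef : ∀ z, S z = z ^ 2 ^ (m + 1)) (g : Cfsg.Sz F m) :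
    g ∈ Bsub F m ∨ ∃ u ∈ Qsub h2 hS m, ∃ b ∈ Bsub F m, g = u * wQ h2 hS hSdef * b := by
  rcases Sz_decomp hm hF h2 hS hSdef g.2 with ⟨a, b, t, h⟩ | ⟨a, b, a', b', t, h⟩
  · left
    have : g = uQ h2 hS hSdef a b * hQ hS hSdef t := Subtype.ext h
    rw [this]
    exact (Bsub F m).mul_mem (Qsub_le_Bsub h2 hS hSdef (uQ_mem_Qsub h2 hS hSdef a b))
      (hQ_mem_Bsub hS hSdef t)
  · right
    have : g = uQ h2 hS hSdef a b * wQ h2 hS hSdef * (uQ h2 hS hSdef a' b' * hQ hS hSdef t) :=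
      Subtype.ext h
    exact ⟨_, uQ_mem_Qsub h2 hS hSdef a b, _,
      (Bsub F m).mul_mem (Qsub_le_Bsub h2 hS hSdef (uQ_mem_Qsub h2 hS hSdef a' b'))
        (hQ_mem_Bsub hS hSdef t), this⟩

theorem isPGroup_Qsub (hF : Fintype.card F = 2 ^ (2 * m + 1)) (h2 : (2 : F) = 0)
    (hS : ∀ z, S (S z) = z ^ 2) (hSdef : ∀ z, S z = z ^ 2 ^ (m + 1)) :
    IsPGroup 2 (Qsub h2 hS m) := by
  apply IsPGroup.of_card (n := 2 * (2 * m + 1))
  rw [card_Qsub h2 hS hSdef, hF, ← pow_mul, mul_comm]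

theorem index_Qsub (hm : 1 ≤ m) (hF : Fintype.card F = 2 ^ (2 * m + 1)) (h2 : (2 : F) = 0)
    (hS : ∀ z, S (S z) = z ^ 2) (hSdef : ∀ z, S z = z ^ 2 ^ (m + 1)) :
    ¬ 2 ∣ (Qsub h2 hS m).index := by
  have hcard : Nat.card (Qsub h2 hS m) = 2 ^ (Nat.card (Cfsg.Sz F m)).factorization 2 := by
    rw [card_Qsub h2 hS hSdef, factorization_card_Sz hm hF, hF, ← pow_mul, mul_comm]
  have := (Sylow.ofCard (Qsub h2 hS m) hcard).not_dvd_index
  rwa [Sylow.coe_ofCard] at this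

/-- the centraliser of `Q` lies in `Q` -/
theorem cent_Qsub (hm : 1 ≤ m) (hF : Fintype.card F = 2 ^ (2 * m + 1)) (h2 : (2 : F) = 0)
    (hS : ∀ z, S (S z) = z ^ 2) (hSdef : ∀ z, S z = z ^ 2 ^ (m + 1)) (g : Cfsg.Sz F m)
    (hg : ∀ u ∈ Qsub h2 hS m, g * u = u * g) : g ∈ Qsub h2 hS m := by
  -- `g` fixes `∞`
  have hfix : g • ptInf F m = ptInf F m := by
    rcases pt_cases hSdef (g • ptInf F m) with h | ⟨x, y, h⟩
    · exact h
    · exfalso
      have h1 : uQ h2 hS hSdef 1 0 • (g • ptInf F m) = g • ptInf F m := by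
        rw [← mul_smul, ← hg _ (uQ_mem_Qsub h2 hS hSdef 1 0), mul_smul, uQ_smul_ptInf]
      rw [h, uQ_smul_ptAff] at h1
      have h3 := (ptAff_inj hSdef h1).1
      have : (1 : F) = 0 := by linear_combination h3
      exact one_ne_zero this
  obtain ⟨a, b, t, rfl⟩ := stab_inf_Q hm hF h2 hS hSdef hfix
  have h1 := hg _ (uQ_mem_Qsub h2 hS hSdef 0 1)
  rw [mul_assoc, hQ_mul_uQ, ← mul_assoc, ← mul_assoc, uQ_mul, uQ_mul] at h1
  have h3 := (uQ_inj h2 hS hSdef (mul_right_cancel h1)).2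
  simp only [mul_zero, add_zero, mul_one, map_zero, zero_mul] at h3
  have h4 : (S (t : F) * (t : F)) ^ 2 = 1 := by
    rw [mul_pow]
    linear_combination h3
  have h5 : S (t : F) * (t : F) = 1 := unit_eq_one_of_sq h2 h4
  have h6 : (t : F) = 1 := St_mul_eq_one hS t.ne_zero h5
  have h7 : t = 1 := Units.ext h6
  rw [h7, hQ_one, mul_one]
  exact uQ_mem_Qsub h2 hS hSdef a b

/-- the rank one `(B, N)`-data of the Suzuki group -/
def szDat (hm : 1 ≤ m) (hF : Fintype.card F = 2 ^ (2 * m + 1)) (h2 : (2 : F) = 0)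
    (hS : ∀ z, S (S z) = z ^ 2) (hSdef : ∀ z, S z = z ^ 2 ^ (m + 1)) :
    BDat 2 (Cfsg.Sz F m) Unit where
  B := Bsub F m
  U := Qsub h2 hS m
  s := fun _ => wQ h2 hS hSdef
  V := fun _ => ⊥
  overgroup := by
    intro M hM
    rcases overgroup_Q hm hF h2 hS hSdef M ((Qsub_le_Bsub h2 hS hSdef).trans hM) with h | h
    · intro g hg
      exact Subgroup.mem_sup_left ((mem_Bsub g).2 (h g hg))
    · intro g _
      have hw : wQ h2 hS hSdef ∈ Subgroup.closure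
          ((fun _ : Unit => wQ (m := m) h2 hS hSdef) '' {i | (fun _ : Unit => wQ h2 hS hSdef) i ∈ M}) := by
        apply Subgroup.subset_closure
        refine ⟨(), ?_, rfl⟩
        show wQ h2 hS hSdef ∈ M
        rw [h]
        exact Subgroup.mem_top _
      rcases decomp_Q hm hF h2 hS hSdef g with hg | ⟨u, hu, b, hb, rfl⟩
      · exact Subgroup.mem_sup_left hg
      · exact Subgroup.mul_mem _ (Subgroup.mul_mem _
          (Subgroup.mem_sup_left (Qsub_le_Bsub h2 hS hSdef hu)) (Subgroup.mem_sup_right hw))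
          (Subgroup.mem_sup_left hb)
  rank1 := by
    intro _ g _
    exact decomp_Q hm hF h2 hS hSdef g
  s_not_mem := fun _ => wQ_not_mem_Bsub h2 hS hSdef
  U_le := Qsub_le_Bsub h2 hS hSdef
  U_normal := by
    intro b hb u hu
    exact conj_mem_Qsub hm hF h2 hS hSdef ((mem_Bsub b).1 hb) hu
  U_pgroup := isPGroup_Qsub hF h2 hS hSdef
  U_index := index_Qsub hm hF h2 hS hSdef
  V_le := fun _ => bot_le
  V_normB := by
    intro _ b _ v hv
    rw [Subgroup.mem_bot] at hv ⊢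
    rw [hv, mul_one, mul_inv_cancel]
  V_norms := by
    intro _ v hv
    rw [Subgroup.mem_bot] at hv ⊢
    rw [hv, mul_one, mul_inv_cancel]
  V_ne := by
    intro i j hji
    exact absurd (Subsingleton.elim j i) hji

/-- the statement in the ovoid model -/
theorem autU_ovoid (hm : 1 ≤ m) (hF : Fintype.card F = 2 ^ (2 * m + 1)) :
    AutUTrivial 2 (Cfsg.Sz F m) := by
  have h2 := two_eq_zero_of_card hF
  have hSdef : ∀ z, sgHom F m h2 z = z ^ 2 ^ (m + 1) := fun z => sgHom_apply m h2 z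
  have hS : ∀ z, sgHom F m h2 (sgHom F m h2 z) = z ^ 2 := fun z => sgHom_sgHom hF h2 z
  have : Fact (Nat.Prime 2) := ⟨Nat.prime_two⟩
  intro α hα Q hfix
  exact (szDat hm hF h2 hS hSdef).aut_eq_one_of_sylow (cent_Qsub hm hF h2 hS hSdef) α hα Q hfix

end ovoid

/-- **SZ** -/
theorem autU_suzuki {F : Type} [Field F] [Fintype F] (m : ℕ) (hm : 1 ≤ m)
    (hF : Fintype.card F = 2 ^ (2 * m + 1)) : AutUTrivial 2 (Lie.Sz F (2 ^ (m + 1))) :=
  autUTrivial_of_equiv (lieSzEquiv hm hF).symm (autU_ovoid hm hF)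

end Cfsg.Agent.Lib.Helper31_AutU_SZ
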