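import Cfsg.Agent.Lib.Helper76_BG13c
import Cfsg.Agent.S1415
import Cfsg.Agent.S1417
import Cfsg.Agent.S1418

/-!
# Bender–Glauberman Lemma 13.1(a), in full (helper31)

`M`, `H` non-conjugate maximal subgroups, `t ∉ σ(M)` a prime with `t ∉ τ₁(H)`.  Then every `t`-element of
`M ∩ H` centralizes `M_σ ∩ H` (`commute_of_not_tau1`).  No hypothesis on `[M_σ ∩ H, M ∩ H]` is needed.

* `t ∈ σ(H)`: helper76's `commute_of_mem_sigma`;
* `t ∈ τ₃(H)`: a `t`-element of `H` lies in `H'` (S1415), `H'` is nilpotent modulo `H_α` (S1405), and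
  `H_α ∩ M_σ = 1`;
* `t ∈ τ₂(H)`: pass to a maximal subgroup `L` over `N_G(A)`, `A` the normal elementary abelian subgroup of
  order `t ^ 2` of a complement of `H_σ` containing `(M_σ ∩ H)⟨s⟩`; then `t ∈ σ(L)` (S1417, S1418).
-/

set_option autoImplicit false

namespace Cfsg.Agent.Lib.Helper31_BG131

open Subgroup Cfsg Cfsg.Agent.Lib.Helper22_Radical Cfsg.Agent.Lib.Helper22_BGTrans
  Cfsg.Agent.Lib.Helper84_RelSylow Cfsg.Agent.Lib.Helper49_Sigma
  Cfsg.Agent.Lib.Helper24_CoprimeHall Cfsg.Agent.Lib.Helper24_CoprimeAction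
  Cfsg.Agent.Lib.Helper76_BG13a Cfsg.Agent.Lib.Helper76_BG13b Cfsg.Agent.Lib.Helper76_BG13c

universe u

variable {G : Type u} [Group G] [Finite G]

/-- two elements of `H'` killed by coprime exponents commute modulo `H_α` -/
theorem commutatorElement_mem_alphaCore (hG : IsMinSimpleOddOrder G) {H : Subgroup G} (hH : IsCoatom H)
    {x y : G} (hx : x ∈ ⁅H, H⁆) (hy : y ∈ ⁅H, H⁆) {m n : ℕ} (hxm : x ^ m = 1) (hyn : y ^ n = 1)
    (hcop : m.Coprime n) : x * y * x⁻¹ * y⁻¹ ∈ alphaCore H := by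
  have h5 := (Cfsg.Agent.S1405.result hG H hH).2.2.2.2
  rw [← Subgroup.map_subtype_commutator] at hx hy
  obtain ⟨x', hx', rfl⟩ := hx
  obtain ⟨y', hy', rfl⟩ := hy
  have hax : QuotientGroup.mk' (piCore (alpha H) ↥H) x' ∈
      (commutator ↥H).map (QuotientGroup.mk' (piCore (alpha H) ↥H)) := Subgroup.mem_map_of_mem _ hx'
  have hay : QuotientGroup.mk' (piCore (alpha H) ↥H) y' ∈
      (commutator ↥H).map (QuotientGroup.mk' (piCore (alpha H) ↥H)) := Subgroup.mem_map_of_mem _ hy'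
  have : Group.IsNilpotent ↥((commutator ↥H).map (QuotientGroup.mk' (piCore (alpha H) ↥H))) := h5
  have hx'm : x' ^ m = 1 := Subtype.ext (by simpa using hxm)
  have hy'n : y' ^ n = 1 := Subtype.ext (by simpa using hyn)
  have hcomm := Cfsg.Agent.Lib.Helper32_Nilpotent.commute_of_coprime_pow_eq_one
    ↥((commutator ↥H).map (QuotientGroup.mk' (piCore (alpha H) ↥H)))
    ⟨_, hax⟩ ⟨_, hay⟩ m n
    (Subtype.ext (by
      show (QuotientGroup.mk' (piCore (alpha H) ↥H) x') ^ m = 1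
      rw [← map_pow, hx'm, map_one]))
    (Subtype.ext (by
      show (QuotientGroup.mk' (piCore (alpha H) ↥H) y') ^ n = 1
      rw [← map_pow, hy'n, map_one])) hcop
  have hc : QuotientGroup.mk' (piCore (alpha H) ↥H) x' * QuotientGroup.mk' (piCore (alpha H) ↥H) y' =
      QuotientGroup.mk' (piCore (alpha H) ↥H) y' * QuotientGroup.mk' (piCore (alpha H) ↥H) x' :=
    congrArg Subtype.val hcomm.eq
  have hker : x' * y' * x'⁻¹ * y'⁻¹ ∈ piCore (alpha H) ↥H := by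
    rw [← QuotientGroup.ker_mk' (piCore (alpha H) ↥H), MonoidHom.mem_ker]
    rw [map_mul, map_mul, map_mul, map_inv, map_inv, hc]
    group
  have := Subgroup.mem_map_of_mem H.subtype hker
  simpa [alphaCore] using this

/-- for `t ∈ τ₃(H)` every `t`-element of `H` lies in `H'` -/
theorem mem_commutator_of_tau3 (hG : IsMinSimpleOddOrder G) {H : Subgroup G} (hH : IsCoatom H) {t : ℕ}
    [Fact t.Prime] (ht : t ∈ tau3 H) {s : G} (hsH : s ∈ H) (hs : ∃ k : ℕ, s ^ t ^ k = 1) :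
    s ∈ ⁅H, H⁆ := by
  have htt : t.Prime := Fact.out
  have hsolv := isSolvable_of_isCoatom hG hH
  have hTp : IsPGroup t (zpowers s) := isPGroup_zpowers hs
  have hTH : zpowers s ≤ H := zpowers_le.mpr hsH
  have hTt : ∀ q : ℕ, q.Prime → q ∣ Nat.card (zpowers s) → q = t := by
    intro q hq hd
    have := primes_of_isPGroup htt hTp q hq hd
    rwa [Set.mem_singleton_iff] at this
  obtain ⟨E, hE, hTE⟩ := exists_compl_ge hsolv (sigma_hall hG hH) hTH (by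
    intro q hq hd
    rw [hTt q hq hd]
    exact ht.2.1)
  have hEsolv : Group.IsSolvable ↥E := isSolvable_of_le hG hH hE.1
  obtain ⟨E₃, hE₃, hTE₃⟩ := exists_piHall_ge (π := tau3 H) hEsolv hTE (by
    intro q hq hd
    rw [hTt q hq hd]
    exact ht)
  have h15 := (Cfsg.Agent.S1415.result hG H hH E hE).2.2 E₃ ((isPiHallOf_iff _ _ _).mpr hE₃)
  have h1 : s ∈ ⁅E, E⁆ := h15.2.1 (hTE₃ (mem_zpowers s))
  exact Subgroup.commutator_mono hE.1 hE.1 h1

/-- **13.1(a), case `t ∈ τ₃(H)`.** -/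
theorem commute_of_mem_tau3 (hG : IsMinSimpleOddOrder G) {M H : Subgroup G} (hM : IsCoatom M)
    (hH : IsCoatom H) (hnc : ∀ g : G, M ≠ cj g H) {t : ℕ} [Fact t.Prime] (htH : t ∈ tau3 H)
    (htM : t ∉ sigma M) {s c : G} (hsM : s ∈ M) (hsH : s ∈ H) (hs : ∃ k : ℕ, s ^ t ^ k = 1)
    (hc : c ∈ sigmaCore M) (hcH : c ∈ H) : s * c = c * s := by
  have htt : t.Prime := Fact.out
  have hsD : s ∈ ⁅H, H⁆ := mem_commutator_of_tau3 hG hH htH hsH hs
  have hzM : s * c * s⁻¹ * c⁻¹ ∈ sigmaCore M :=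
    mul_mem (conj_mem_of_mem_normalizer (le_normalizer_sigmaCore' M hsM) hc) (inv_mem hc)
  have hzD : s * c * s⁻¹ * c⁻¹ ∈ ⁅H, H⁆ := by
    have := Subgroup.commutator_mem_commutator hsH hcH
    rwa [commutatorElement_def] at this
  have htMσ : ¬ t ∣ Nat.card (sigmaCore M) :=
    fun hd => htM (mem_sigma_of_dvd_card_le_sigmaCore le_rfl htt hd)
  have hzk : (s * c * s⁻¹ * c⁻¹) ^ Nat.card ↥(sigmaCore M) = 1 := by
    have := pow_card_eq_one' (G := ↥(sigmaCore M)) (x := ⟨s * c * s⁻¹ * c⁻¹, hzM⟩)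
    exact congrArg Subtype.val this
  obtain ⟨k, hk⟩ := hs
  have hcop : (t ^ k).Coprime (Nat.card ↥(sigmaCore M)) := by
    apply Nat.Coprime.pow_left
    rw [Nat.Prime.coprime_iff_not_dvd htt]
    exact htMσ
  have h1 := commutatorElement_mem_alphaCore hG hH hsD hzD hk hzk hcop
  have h2 : s * (s * c * s⁻¹ * c⁻¹) * s⁻¹ * (s * c * s⁻¹ * c⁻¹)⁻¹ ∈ sigmaCore M :=
    mul_mem (conj_mem_of_mem_normalizer (le_normalizer_sigmaCore' M hsM) hzM) (inv_mem hzM)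
  have h0 := Cfsg.Agent.Lib.Helper49_SigmaDisjoint.alphaCore_inf_sigmaCore hG hH hM hnc
  have h3 : s * (s * c * s⁻¹ * c⁻¹) * s⁻¹ * (s * c * s⁻¹ * c⁻¹)⁻¹ ∈ alphaCore H ⊓ sigmaCore M :=
    ⟨h1, h2⟩
  rw [h0, mem_bot] at h3
  have key : s * (s * c * s⁻¹ * c⁻¹) = (s * c * s⁻¹ * c⁻¹) * s := by
    have h4 : s * (s * c * s⁻¹ * c⁻¹) * s⁻¹ = s * c * s⁻¹ * c⁻¹ := by
      rw [← mul_inv_eq_one]; exact h3
    calc s * (s * c * s⁻¹ * c⁻¹) = s * (s * c * s⁻¹ * c⁻¹) * s⁻¹ * s := by group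
      _ = (s * c * s⁻¹ * c⁻¹) * s := by rw [h4]
  exact Cfsg.Agent.Lib.Helper24_Coprime.commute_of_coprime_commutator s c key _ hzk
    (orderOf_coprime_of_pow ⟨k, hk⟩ htMσ)

/-- **13.1(a), case `t ∈ τ₂(H)`.** -/
theorem commute_of_mem_tau2 (hG : IsMinSimpleOddOrder G) {M H : Subgroup G} (hM : IsCoatom M)
    (hH : IsCoatom H) (hnc : ∀ g : G, M ≠ cj g H) {t : ℕ} [Fact t.Prime] (htH : t ∈ tau2 H)
    (htM : t ∉ sigma M) {s c : G} (hsM : s ∈ M) (hsH : s ∈ H) (hs : ∃ k : ℕ, s ^ t ^ k = 1)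
    (hc : c ∈ sigmaCore M) (hcH : c ∈ H) : s * c = c * s := by
  have htt : t.Prime := Fact.out
  have hU := Cfsg.Agent.Lib.Helper49_SigmaDisjoint.uniqHyp hG
  have hsolv := isSolvable_of_isCoatom hG hH
  -- `H_σ` is nilpotent
  obtain ⟨A₀, hA₀H, hA₀e, hA₀2⟩ :=
    Cfsg.Agent.Lib.Helper49_Alpha3.exists_elemAb_sq htH.2.2.1 htH.2.2.2
  have hnil := (Cfsg.Agent.S1417.result hG H hH t htH A₀ ⟨hA₀H, hA₀e, hA₀2⟩).1
  -- `K = (M_σ ∩ H)⟨s⟩` is a `σ(H)'`-subgroup of `H`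
  have hTp : IsPGroup t (zpowers s) := isPGroup_zpowers hs
  have hTN : zpowers s ≤ normalizer ((sigmaCore M ⊓ H : Subgroup G) : Set G) := by
    rw [zpowers_le]
    exact inf_normalizer_le_normalizer_inf ⟨le_normalizer_sigmaCore' M hsM, le_normalizer hsH⟩
  have htMσ : ¬ t ∣ Nat.card (sigmaCore M) :=
    fun hd => htM (mem_sigma_of_dvd_card_le_sigmaCore le_rfl htt hd)
  have hcopBT : (Nat.card ↥(sigmaCore M ⊓ H)).Coprime (Nat.card (zpowers s)) := by
    obtain ⟨j, hj⟩ := IsPGroup.iff_card.mp hTp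
    rw [hj]
    apply Nat.Coprime.pow_right
    rw [Nat.coprime_comm, Nat.Prime.coprime_iff_not_dvd htt]
    exact fun hd => htMσ (hd.trans (Subgroup.card_dvd_of_le inf_le_left))
  have hdisj : (sigmaCore M ⊓ H) ⊓ zpowers s = ⊥ :=
    (Subgroup.disjoint_of_coprime_natCard hcopBT).eq_bot
  have hKH : (sigmaCore M ⊓ H) ⊔ zpowers s ≤ H := sup_le inf_le_right (zpowers_le.mpr hsH)
  have hKσ : ∀ q : ℕ, q.Prime → q ∣ Nat.card ↥((sigmaCore M ⊓ H) ⊔ zpowers s) → q ∉ sigma H := by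
    intro q hq hd hqH
    rcases prime_dvd_card_sup hTN hdisj hq hd with h1 | h1
    · have hqM : q ∈ sigma M := mem_sigma_of_dvd_card_le_sigmaCore inf_le_left hq h1
      exact Cfsg.Agent.Lib.Helper49_SigmaDisjoint.sigma_inter_sigma hG hH hM hnc hnil
        (sigma_hall hG hH) hqH hqM
    · have := primes_of_isPGroup htt hTp q hq h1
      rw [Set.mem_singleton_iff] at this
      rw [this] at hqH
      exact htH.2.1 hqH
  obtain ⟨E, hE, hKE⟩ := exists_compl_ge hsolv (sigma_hall hG hH) hKH hKσ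
  obtain ⟨A, hAE, hAe, hA2⟩ := exists_elemAb_le_compl hG hH hE htH
  obtain ⟨⟨hEN, -⟩, ⟨-, -, hNH⟩, -⟩ :=
    Cfsg.Agent.S1418.result hG H hH E hE t htH A ⟨hAE, hAe, hA2⟩
  have hA1 : A ≠ ⊥ := by
    intro h
    rw [h, Subgroup.card_bot] at hA2
    have := htt.one_lt
    nlinarith
  have hAH : A ≤ H := hAE.trans hE.1
  have hAtop : A ≠ ⊤ := by
    intro h
    apply hH.1
    rw [eq_top_iff, ← h]
    exact hAH
  obtain ⟨L, hL, hNL⟩ := (eq_top_or_exists_le_coatom _).resolve_left (normalizer_ne_top hG hA1 hAtop)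
  have hAL : A ≤ L := le_normalizer.trans hNL
  -- `t ∈ σ(L)`
  have htL : t ∈ sigma L := by
    by_contra htL
    have hτ : t ∈ tau2 L :=
      ⟨htt, htL, Cfsg.Agent.Lib.Helper23_SigmaHall.pRankLE_of_not_mem_sigma hG hU hL htt htL,
        not_pRankLE_one_of_elemAb htt hAL hAe hA2⟩
    have hsolvL := isSolvable_of_isCoatom hG hL
    obtain ⟨E', hE', hAE'⟩ := exists_compl_ge hsolvL (sigma_hall hG hL) hAL (by
      intro q hq hd
      rw [prime_eq_of_dvd_card_sq htt hA2 hq hd]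
      exact htL)
    obtain ⟨-, ⟨-, -, hNL'⟩, -⟩ :=
      Cfsg.Agent.S1418.result hG L hL E' hE' t hτ A ⟨hAE', hAe, hA2⟩
    exact hNL' hNL
  have hKL : (sigmaCore M ⊓ H) ⊔ zpowers s ≤ L := hKE.trans (hEN.trans hNL)
  have hsL : s ∈ L := hKL ((le_sup_right : zpowers s ≤ _) (mem_zpowers s))
  have hcL : c ∈ L := hKL ((le_sup_left : sigmaCore M ⊓ H ≤ _) ⟨hc, hcH⟩)
  exact commute_of_mem_sigma hG hM hL htL htM hsM hsL hs hc hcL

/-- **Bender–Glauberman, Lemma 13.1(a)**, without any hypothesis on `[M_σ ∩ H, M ∩ H]`: for non-conjugate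
maximal subgroups `M`, `H` and a prime `t ∉ σ(M)`, `t ∉ τ₁(H)`, every `t`-element of `M ∩ H` centralizes
`M_σ ∩ H`. -/
theorem commute_of_not_tau1 (hG : IsMinSimpleOddOrder G) {M H : Subgroup G} (hM : IsCoatom M)
    (hH : IsCoatom H) (hnc : ∀ g : G, M ≠ cj g H) {t : ℕ} [Fact t.Prime] (htM : t ∉ sigma M)
    (htH : t ∉ tau1 H) {s c : G} (hsM : s ∈ M) (hsH : s ∈ H) (hs : ∃ k : ℕ, s ^ t ^ k = 1)
    (hc : c ∈ sigmaCore M) (hcH : c ∈ H) : s * c = c * s := by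
  have htt : t.Prime := Fact.out
  have hU := Cfsg.Agent.Lib.Helper49_SigmaDisjoint.uniqHyp hG
  by_cases hσ : t ∈ sigma H
  · exact commute_of_mem_sigma hG hM hH hσ htM hsM hsH hs hc hcH
  have hr2 := Cfsg.Agent.Lib.Helper23_SigmaHall.pRankLE_of_not_mem_sigma hG hU hH htt hσ
  by_cases hr1 : PRankLE t 1 ↥H
  · by_cases hd : t ∣ Nat.card ↥⁅H, H⁆
    · exact commute_of_mem_tau3 hG hM hH hnc ⟨htt, hσ, hd, hr1⟩ htM hsM hsH hs hc hcH
    · by_cases hdH : t ∣ Nat.card ↥H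
      · exact absurd ⟨htt, hσ, hdH, hd, hr1⟩ htH
      · -- `s = 1`
        obtain ⟨k, hk⟩ := hs
        have h1 : orderOf s ∣ t ^ k := orderOf_dvd_of_pow_eq_one hk
        have h2 : orderOf s ∣ Nat.card ↥H := by
          have := orderOf_dvd_natCard (⟨s, hsH⟩ : ↥H)
          rwa [Subgroup.orderOf_mk] at this
        have h3 : orderOf s = 1 := by
          obtain ⟨j, -, hj⟩ := (Nat.dvd_prime_pow htt).mp h1
          rcases Nat.eq_zero_or_pos j with rfl | hj0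
          · simpa using hj
          · exfalso
            apply hdH
            rw [hj] at h2
            exact (dvd_pow_self t hj0.ne').trans h2
        rw [orderOf_eq_one_iff] at h3
        rw [h3, one_mul, mul_one]
  · exact commute_of_mem_tau2 hG hM hH hnc ⟨htt, hσ, hr2, hr1⟩ htM hsM hsH hs hc hcH

/-- subgroup form: a `t`-subgroup `T` of `M ∩ H` centralizes `M_σ ∩ H` -/
theorem le_centralizer_of_not_tau1 (hG : IsMinSimpleOddOrder G) {M H : Subgroup G} (hM : IsCoatom M)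
    (hH : IsCoatom H) (hnc : ∀ g : G, M ≠ cj g H) {t : ℕ} [Fact t.Prime] (htM : t ∉ sigma M)
    (htH : t ∉ tau1 H) {T : Subgroup G} (hTM : T ≤ M) (hTH : T ≤ H) (hTt : IsPGroup t T) :
    T ≤ centralizer ((sigmaCore M ⊓ H : Subgroup G) : Set G) := by
  intro s hs
  rw [mem_centralizer_iff]
  intro c hc
  obtain ⟨k, hk⟩ := hTt ⟨s, hs⟩
  have hk' : s ^ t ^ k = 1 := by simpa using congrArg Subtype.val hk
  exact (commute_of_not_tau1 hG hM hH hnc htM htH (hTM hs) (hTH hs) ⟨k, hk'⟩ hc.1 hc.2).symm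

end Cfsg.Agent.Lib.Helper31_BG131
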