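import Cfsg.Agent.Lib.Helper31_BG13b
import Cfsg.Agent.Lib.Helper23_BG13Hyp
import Cfsg.Agent.Lib.Helper2_Coprime
import Cfsg.Agent.Lib.Helper33_BG16a
import Cfsg.Agent.S1427

/-!
# Bender–Glauberman Corollary 13.11 (`F2`): the final assembly (helper31)

`f2_of : H1428 G → Tau13Reg G → Tau1Cent G → F2 G`, where

* `Tau13Reg G` is B-G Theorem 13.10(b) (a subgroup of prime order in `τ₁(M)` of a complement `E` which does
  not centralize a subgroup `R₁ ≤ E` of prime order in `τ₃(M)` forces `R₁` to be regular on `M_σ`),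
* `Tau1Cent G` is the statement (F2a): `C_{M_σ}(X) ≤ C(P)` for `X`, `P ≤ E` of prime orders in `τ₃(M)`,
  `τ₁(M)`.
-/

set_option autoImplicit false

namespace Cfsg.Agent.Lib.Helper31_BG1311

open Subgroup Cfsg Cfsg.Agent.Lib.Helper22_Radical Cfsg.Agent.Lib.Helper22_BGTrans
  Cfsg.Agent.Lib.Helper24_CoprimeHall Cfsg.Agent.Lib.Helper24_CoprimeAction
  Cfsg.Agent.Lib.Helper76_BG13a Cfsg.Agent.Lib.Helper76_BG13b Cfsg.Agent.Lib.Helper76_BG13c
  Cfsg.Agent.Lib.Helper31_BG13b Cfsg.Agent.Lib.Helper23_BG13Hyp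

universe u

variable {G : Type u} [Group G] [Finite G]

/-- B-G 13.10(b), universally closed. -/
def Tau13Reg (G : Type u) [Group G] [Finite G] : Prop :=
  ∀ (M E : Subgroup G), IsCoatom M → IsComplIn E (sigmaCore M) M → ∀ (p r : ℕ), p ∈ tau1 M →
  ∀ (P R1 : Subgroup G), P ≤ E → Nat.card P = p → r ∈ tau3 M → R1 ≤ E → Nat.card R1 = r →
    ¬ (P ≤ centralizer (R1 : Set G)) → sigmaCore M ⊓ centralizer (R1 : Set G) = ⊥

/-- (F2a), universally closed. -/
def Tau1Cent (G : Type u) [Group G] [Finite G] : Prop :=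
  ∀ (M E : Subgroup G), IsCoatom M → IsComplIn E (sigmaCore M) M → ∀ (r : ℕ), r ∈ tau3 M →
  ∀ X : Subgroup G, X ≤ E → Nat.card X = r → ∀ (p : ℕ), p ∈ tau1 M → ∀ P : Subgroup G, P ≤ E →
    Nat.card P = p → sigmaCore M ⊓ centralizer (X : Set G) ≤ centralizer (P : Set G)

omit [Finite G] in
/-- a subgroup of prime order is a nontrivial `p`-group -/
theorem isPGroup_of_card {p : ℕ} (hp : p.Prime) {X : Subgroup G} (hX : Nat.card X = p) :
    IsPGroup p X ∧ X ≠ ⊥ := by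
  refine ⟨IsPGroup.of_card (n := 1) (by rw [hX, pow_one]), ?_⟩
  intro h
  rw [h, Subgroup.card_bot] at hX
  exact hp.one_lt.ne hX

/-- when `τ₂(M)` is empty, every prime divisor of the order of a complement of `M_σ` lies in
`τ₁(M) ∪ τ₃(M)` -/
theorem mem_tau1_or_tau3 (hG : IsMinSimpleOddOrder G) {M E : Subgroup G} (hM : IsCoatom M)
    (hE : IsComplIn E (sigmaCore M) M) (h2 : ∀ p, p ∉ tau2 M) {q : ℕ} (hq : q.Prime)
    (hd : q ∣ Nat.card E) : q ∈ tau1 M ∨ q ∈ tau3 M := by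
  have hU := Cfsg.Agent.Lib.Helper49_SigmaDisjoint.uniqHyp hG
  have hσ : q ∉ sigma M := (piHall_of_isComplIn (sigma_hall hG hM) hE).2.1 q hq hd
  have hr2 := Cfsg.Agent.Lib.Helper23_SigmaHall.pRankLE_of_not_mem_sigma hG hU hM hq hσ
  have hr1 : PRankLE q 1 ↥M := by
    by_contra hr1
    exact h2 q ⟨hq, hσ, hr2, hr1⟩
  have hdM : q ∣ Nat.card M := hd.trans (Subgroup.card_dvd_of_le hE.1)
  by_cases hc : q ∣ Nat.card ↥⁅M, M⁆
  · exact Or.inr ⟨hq, hσ, hc, hr1⟩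
  · exact Or.inl ⟨hq, hσ, hdM, hc, hr1⟩

/-- **prime action of `E₃`**: for `X`, `Y ≤ E` of prime orders in `τ₃(M)`, `C_{M_σ}(X) ≤ C(Y)` -/
theorem cent_tau3_le_cent_tau3 (hG : IsMinSimpleOddOrder G) {M E : Subgroup G} (hM : IsCoatom M)
    (hE : IsComplIn E (sigmaCore M) M) {t : ℕ} (ht : t ∈ tau3 M) {X : Subgroup G} (hXE : X ≤ E)
    (hXc : Nat.card X = t) {s : ℕ} (hs : s ∈ tau3 M) {Y : Subgroup G} (hYE : Y ≤ E)
    (hYs : IsPGroup s Y) (hY1 : Y ≠ ⊥) :
    sigmaCore M ⊓ centralizer (X : Set G) ≤ centralizer (Y : Set G) := by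
  have : Fact t.Prime := ⟨ht.1⟩
  have : Fact s.Prime := ⟨hs.1⟩
  obtain ⟨hXt, hX1⟩ := isPGroup_of_card ht.1 hXc
  obtain ⟨H, hH, hNH, hEH, -⟩ := exists_coatom_normalizer_of_tau3 hG hM hE ht hXE hXc
  have hnc := not_conj_of_normalizer_le hG hH ht.2.1 ht.2.2.2 hXt hX1 hNH
  have hcen := Cfsg.Agent.Lib.Helper31_BG131.le_centralizer_of_not_tau1 hG hM hH hnc hs.2.1
    (not_mem_tau1_of_tau3 hG hM hE hEH hs hYE hYs hY1) (hYE.trans hE.1) (hYE.trans hEH) hYs
  rw [← sigmaCore_inf_eq_of_tau3 hG hM hE hH ht hXE hXc hNH, Subgroup.le_centralizer_iff]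
  exact hcen

/-- in Case B every subgroup of `E` of prime order in `τ₃(M)` is nonregular, so (13.10) it is centralized
by every subgroup of `E` of prime order in `τ₁(M)` -/
theorem tau1_le_centralizer_tau3 (hG : IsMinSimpleOddOrder G) (hReg : Tau13Reg G) {M E : Subgroup G}
    (hM : IsCoatom M) (hE : IsComplIn E (sigmaCore M) M)
    (hB : ∃ r ∈ tau3 M, ∃ R : Subgroup G, R ≤ E ∧ Nat.card R = r ∧
      sigmaCore M ⊓ centralizer (R : Set G) ≠ ⊥)
    {p : ℕ} (hp : p ∈ tau1 M) {P : Subgroup G} (hPE : P ≤ E) (hPc : Nat.card P = p)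
    {q : ℕ} (hq : q ∈ tau3 M) {R1 : Subgroup G} (hR1E : R1 ≤ E) (hR1c : Nat.card R1 = q) :
    P ≤ centralizer (R1 : Set G) := by
  obtain ⟨r, hr, R, hRE, hRc, hRne⟩ := hB
  by_contra hnot
  have h0 := hReg M E hM hE p q hp P R1 hPE hPc hq hR1E hR1c hnot
  obtain ⟨hR1q, hR11⟩ := isPGroup_of_card hq.1 hR1c
  have hle := cent_tau3_le_cent_tau3 hG hM hE hr hRE hRc hq hR1E hR1q hR11
  apply hRne
  rw [eq_bot_iff, ← h0]
  exact le_inf inf_le_left hle

/-- in Case B a subgroup `P ≤ E` of prime order `p ∈ τ₁(M)` is central in `E` -/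
theorem le_centralizer_of_tau1 (hG : IsMinSimpleOddOrder G) (hReg : Tau13Reg G) {M E : Subgroup G}
    (hM : IsCoatom M) (hE : IsComplIn E (sigmaCore M) M)
    (hB : ∃ r ∈ tau3 M, ∃ R : Subgroup G, R ≤ E ∧ Nat.card R = r ∧
      sigmaCore M ⊓ centralizer (R : Set G) ≠ ⊥)
    {p : ℕ} (hp : p ∈ tau1 M) {P : Subgroup G} (hPE : P ≤ E) (hPc : Nat.card P = p) :
    E ≤ centralizer (P : Set G) := by
  have hpp : p.Prime := hp.1
  have h2 := tau2_empty_of_caseB hG hM hE hB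
  have hsolvE : Group.IsSolvable ↥E := isSolvable_of_le hG hM hE.1
  have hp3 : p ∉ tau3 M := fun h => hp.2.2.2.1 h.2.2.1
  -- the Hall subgroups
  obtain ⟨E₃, hE₃⟩ := exists_piHall (tau3 M) E hsolvE
  have hE₃' : IsPiHallOf (tau3 M) E₃ E := (isPiHallOf_iff _ _ _).2 hE₃
  obtain ⟨hcyc3, -, hnorm3⟩ := (Cfsg.Agent.S1415.result hG M hM E hE).2.2 E₃ hE₃'
  obtain ⟨E₁, hE₁, hPE₁⟩ := exists_piHall_ge (π := {q | q ∉ tau3 M}) hsolvE hPE (by
    intro q hq hd
    rw [hPc] at hd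
    rw [(Nat.prime_dvd_prime_iff_eq hq hpp).mp hd]
    exact hp3)
  have hE₁τ : PiHall (tau1 M) E₁ E := by
    refine ⟨hE₁.1, ?_, ?_⟩
    · intro q hq hd
      exact (mem_tau1_or_tau3 hG hM hE h2 hq (hd.trans (Subgroup.card_dvd_of_le hE₁.1))).resolve_right
        (hE₁.2.1 q hq hd)
    · intro q hq hqτ
      exact hE₁.2.2 q hq (fun h => hqτ.2.2.2.1 h.2.2.1)
  have hcyc1 : IsCyclic ↥E₁ :=
    (Cfsg.Agent.S1415.result hG M hM E hE).2.1 E₁ ((isPiHallOf_iff _ _ _).2 hE₁τ)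
  have hcompl : IsComplIn E₁ E₃ E := isComplIn_of_piHall hE₃' hE₁
  -- `P` centralizes `E₃`
  have hE₃P : E₃ ≤ centralizer (P : Set G) := by
    rw [← Subgroup.commutator_eq_bot_iff_le_centralizer]
    by_contra hne
    obtain ⟨⟨z, hz⟩, hz1'⟩ := (Subgroup.ne_bot_iff_exists_ne_one).mp hne
    have hz1 : z ≠ 1 := fun h => hz1' (Subtype.ext h)
    obtain ⟨q, hqq, w, hwz, hwq⟩ := exists_prime_order_mem_zpowers hz1
    have hcomm3 : IsMulCommutative ↥E₃ := IsCyclic.isMulCommutative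
    have hPN : P ≤ normalizer (E₃ : Set G) := hPE.trans hnorm3
    have hcop : (Nat.card P).Coprime (Nat.card E₃) := by
      rw [hPc]
      exact (Nat.Prime.coprime_iff_not_dvd hpp).2 (fun hd => hp3 (hE₃.2.1 p hpp hd))
    have hwC : w ∈ ⁅E₃, P⁆ := (zpowers_le.mpr hz : zpowers z ≤ ⁅E₃, P⁆) hwz
    have hwE₃ : w ∈ E₃ :=
      Cfsg.Agent.Lib.Helper2_Coprime.commutator_le_of_le_normalizer E₃ P hPN hwC
    have hR1c : Nat.card (zpowers w) = q := by rw [Nat.card_zpowers, hwq]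
    have hq3 : q ∈ tau3 M := hE₃.2.1 q hqq (by
      rw [← hR1c]
      exact Subgroup.card_dvd_of_le (zpowers_le.mpr hwE₃))
    have hPw := tau1_le_centralizer_tau3 hG hReg hM hE hB hp hPE hPc hq3
      ((zpowers_le.mpr hwE₃ : zpowers w ≤ E₃).trans hE₃.1) hR1c
    have hwP : w ∈ centralizer (P : Set G) :=
      (Subgroup.le_centralizer_iff.mp hPw) (mem_zpowers w)
    have hbot := Cfsg.Agent.Lib.Helper2_Coprime.commutator_inf_centralizer_eq_bot E₃ P hPN hcop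
    have hw1 : w ∈ (⊥ : Subgroup G) := by
      rw [← hbot]
      exact ⟨hwC, hwE₃, hwP⟩
    rw [mem_bot] at hw1
    rw [hw1, orderOf_one] at hwq
    exact hqq.one_lt.ne hwq
  intro e he
  obtain ⟨a, ha, b, hb, rfl⟩ := hcompl.2.2.2 e he
  refine mul_mem ?_ (hE₃P hb)
  rw [mem_centralizer_iff]
  intro x hx
  have hcomm1 : IsMulCommutative ↥E₁ := IsCyclic.isMulCommutative
  exact congrArg Subtype.val (hcomm1.is_comm.comm (⟨x, hPE₁ hx⟩ : E₁) ⟨a, ha⟩)

/-- in Case B, for `X`, `Y ≤ E` of prime orders, `C_{M_σ}(X) ≤ C(Y)` -/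
theorem cent_le_cent (hG : IsMinSimpleOddOrder G) (h28 : H1428 G) (hReg : Tau13Reg G)
    (hCent : Tau1Cent G) {M E : Subgroup G} (hM : IsCoatom M) (hE : IsComplIn E (sigmaCore M) M)
    (hB : ∃ r ∈ tau3 M, ∃ R : Subgroup G, R ≤ E ∧ Nat.card R = r ∧
      sigmaCore M ⊓ centralizer (R : Set G) ≠ ⊥)
    {X : Subgroup G} (hXE : X ≤ E) (hXp : (Nat.card X).Prime) {Y : Subgroup G} (hYE : Y ≤ E)
    (hYp : (Nat.card Y).Prime) :
    sigmaCore M ⊓ centralizer (X : Set G) ≤ centralizer (Y : Set G) := by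
  have h2 := tau2_empty_of_caseB hG hM hE hB
  rcases mem_tau1_or_tau3 hG hM hE h2 hXp (Subgroup.card_dvd_of_le hXE) with ht | ht
  · have hcE := le_centralizer_of_tau1 hG hReg hM hE hB ht hXE rfl
    exact (h28 M hM E hE _ ht X hXE rfl Y (le_inf hYE (hYE.trans hcE)) hYp).trans inf_le_right
  · rcases mem_tau1_or_tau3 hG hM hE h2 hYp (Subgroup.card_dvd_of_le hYE) with hs | hs
    · exact hCent M E hM hE _ ht X hXE rfl _ hs Y hYE rfl
    · obtain ⟨hYs, hY1⟩ := isPGroup_of_card hYp rfl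
      exact cent_tau3_le_cent_tau3 hG hM hE ht hXE rfl hs hYE hYs hY1

/-- in Case B, for `X ≤ E` of prime order, `C_{M_σ}(X) ≤ C(E)` -/
theorem cent_le_cent_compl (hG : IsMinSimpleOddOrder G) (h28 : H1428 G) (hReg : Tau13Reg G)
    (hCent : Tau1Cent G) {M E : Subgroup G} (hM : IsCoatom M) (hE : IsComplIn E (sigmaCore M) M)
    (hB : ∃ r ∈ tau3 M, ∃ R : Subgroup G, R ≤ E ∧ Nat.card R = r ∧
      sigmaCore M ⊓ centralizer (R : Set G) ≠ ⊥)
    {X : Subgroup G} (hXE : X ≤ E) (hXp : (Nat.card X).Prime) :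
    sigmaCore M ⊓ centralizer (X : Set G) ≤ centralizer (E : Set G) := by
  have h2 := tau2_empty_of_caseB hG hM hE hB
  rw [Subgroup.le_centralizer_iff]
  apply Cfsg.Agent.Lib.Helper33_BG16a.le_of_sylow_le
  intro s _ S
  have hss : s.Prime := Fact.out
  by_cases hS1 : (S : Subgroup E) = ⊥
  · rw [hS1, Subgroup.map_bot]
    exact bot_le
  have hSE : (S : Subgroup E).map E.subtype ≤ E := Subgroup.map_subtype_le _
  have hdS : s ∣ Nat.card (S : Subgroup E) := dvd_card_of_isPGroup S.2 hS1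
  have hdE : s ∣ Nat.card E := hdS.trans (Subgroup.card_subgroup_dvd_card _)
  have hr1 : PRankLE s 1 ↥M := by
    rcases mem_tau1_or_tau3 hG hM hE h2 hss hdE with h | h
    · exact h.2.2.2.2
    · exact h.2.2.2
  have hs2 : s ≠ 2 :=
    Cfsg.Agent.Lib.Helper79_BG141.odd_prime hG (hdE.trans (Subgroup.card_dvd_of_le hE.1))
  have hcyc : IsCyclic ↥(S : Subgroup E) := by
    apply Cfsg.Agent.Lib.Helper29_BG12a.isCyclic_of_pRankLE_one hs2 S.2
    exact Cfsg.Agent.Lib.Helper2_PRank.pRankLE_of_injective' s 1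
      ((Subgroup.inclusion hE.1).comp (S : Subgroup E).subtype)
      ((Subgroup.inclusion_injective hE.1).comp (Subgroup.subtype_injective _)) hr1
  have h27 := Cfsg.Agent.S1427.result hG M hM E hE s S hS1 hcyc
  have hne : (S : Subgroup E).map E.subtype ≠ ⊥ := by
    intro h
    exact hS1 ((Subgroup.map_eq_bot_iff_of_injective _ E.subtype_injective).mp h)
  obtain ⟨⟨z, hz⟩, hz1'⟩ := (Subgroup.ne_bot_iff_exists_ne_one).mp hne
  have hz1 : z ≠ 1 := fun h => hz1' (Subtype.ext h)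
  obtain ⟨q, hqq, w, hwz, hwq⟩ := exists_prime_order_mem_zpowers hz1
  have hwS : w ∈ (S : Subgroup E).map E.subtype :=
    (zpowers_le.mpr hz : zpowers z ≤ (S : Subgroup E).map E.subtype) hwz
  have hw1 : w ≠ 1 := by
    rintro rfl
    rw [orderOf_one] at hwq
    exact hqq.one_lt.ne hwq
  have hYc : Nat.card (zpowers w) = q := by rw [Nat.card_zpowers, hwq]
  have hYE : zpowers w ≤ E := (zpowers_le.mpr hwS).trans hSE
  have h1 := cent_le_cent hG h28 hReg hCent hM hE hB hXE hXp hYE (hYc ▸ hqq)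
  rw [Subgroup.le_centralizer_iff]
  have h3 : sigmaCore M ⊓ centralizer (X : Set G) ≤ sigmaCore M ⊓ centralizer ({w} : Set G) :=
    le_inf inf_le_left (h1.trans (Subgroup.centralizer_le
      (Set.singleton_subset_iff.mpr (mem_zpowers w))))
  rw [h27 w hwS hw1] at h3
  exact h3.trans inf_le_right

/-- **Bender–Glauberman 13.11** (`F2`) from 13.4 (`H1428`), 13.10(b) (`Tau13Reg`) and (F2a) (`Tau1Cent`). -/
theorem f2_of (hG : IsMinSimpleOddOrder G) (h28 : H1428 G) (hReg : Tau13Reg G) (hCent : Tau1Cent G) :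
    F2 G := by
  intro M hM E hE r hr R hRE hRc hRne
  have hB : ∃ r ∈ tau3 M, ∃ R : Subgroup G, R ≤ E ∧ Nat.card R = r ∧
      sigmaCore M ⊓ centralizer (R : Set G) ≠ ⊥ := ⟨r, hr, R, hRE, hRc, hRne⟩
  have h2 := tau2_empty_of_caseB hG hM hE hB
  refine ⟨?_, ?_⟩
  · intro x hx hx1
    apply le_antisymm
    · obtain ⟨q, hqq, w, hwz, hwq⟩ := exists_prime_order_mem_zpowers hx1
      have hYE : zpowers w ≤ E := zpowers_le.mpr ((zpowers_le.mpr hx : zpowers x ≤ E) hwz)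
      have hYc : Nat.card (zpowers w) = q := by rw [Nat.card_zpowers, hwq]
      refine le_inf inf_le_left ?_
      refine le_trans ?_ (cent_le_cent_compl hG h28 hReg hCent hM hE hB hYE (hYc ▸ hqq))
      exact le_inf inf_le_left
        (inf_le_right.trans (centralizer_singleton_le_centralizer_zpowers hwz))
    · exact inf_le_inf_left _ (Subgroup.centralizer_le (Set.singleton_subset_iff.mpr hx))
  · intro X hXE hXp
    rcases mem_tau1_or_tau3 hG hM hE h2 hXp (Subgroup.card_dvd_of_le hXE) with ht | ht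
    · exact (le_centralizer_of_tau1 hG hReg hM hE hB ht hXE rfl).trans
        (Subgroup.centralizer_le_normalizer (s := (X : Set G)))
    · exact normal_of_tau3 hG hM hE ht hXE rfl

end Cfsg.Agent.Lib.Helper31_BG1311
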