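import Mathlib
import Cfsg.Agent.Lib.Helper57_FrobNorm2

/-!
# Structure of CA-groups (helper31)

`CA G` : centralizers of nonidentity elements are abelian.  Centralizers of nonidentity elements
are TI, contain Sylow subgroups, two of them have coprime orders or are conjugate; in a simple
nonabelian CA-group they are properly contained in their normalizers; a CA-group all of whose
proper subgroups are solvable and which has a proper nontrivial normal subgroup is solvable.
-/

set_option autoImplicit false

namespace Cfsg.Agent.Lib.Helper31_CAGroup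

open Subgroup
open scoped commutatorElement

variable {G : Type*} [Group G]

/-- CA-group: centralizers of nonidentity elements are abelian. -/
def CA (G : Type*) [Group G] : Prop :=
  ∀ x : G, x ≠ 1 → ∀ a ∈ centralizer ({x} : Set G), ∀ b ∈ centralizer ({x} : Set G),
    a * b = b * a

theorem CA.comm_trans (h : CA G) {x y z : G} (hy : y ≠ 1) (hxy : x * y = y * x)
    (hyz : y * z = z * y) : x * z = z * x :=
  h y hy x (mem_centralizer_singleton_iff.mpr hxy) z (mem_centralizer_singleton_iff.mpr hyz.symm)

theorem CA.centralizer_eq (h : CA G) {x y : G} (hx : x ≠ 1) (hy : y ≠ 1) (hxy : x * y = y * x) :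
    centralizer ({x} : Set G) = centralizer ({y} : Set G) := by
  apply le_antisymm
  · intro w hw
    rw [mem_centralizer_singleton_iff] at hw ⊢
    exact h.comm_trans hx hw hxy
  · intro w hw
    rw [mem_centralizer_singleton_iff] at hw ⊢
    exact h.comm_trans hy hw hxy.symm

theorem CA.centralizer_eq_of_mem (h : CA G) {x k : G} (hx : x ≠ 1) (hk : k ≠ 1)
    (hkx : k ∈ centralizer ({x} : Set G)) :
    centralizer ({k} : Set G) = centralizer ({x} : Set G) :=
  h.centralizer_eq hk hx (mem_centralizer_singleton_iff.mp hkx)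

theorem CA.subgroup (h : CA G) (H : Subgroup G) : CA H := by
  intro x hx a ha b hb
  rw [mem_centralizer_singleton_iff] at ha hb
  apply Subtype.ext
  have hx' : (x : G) ≠ 1 := fun h1 => hx (Subtype.ext h1)
  have ha' : (a : G) * x = x * a := by exact_mod_cast congrArg Subtype.val ha
  have hb' : (b : G) * x = x * b := by exact_mod_cast congrArg Subtype.val hb
  exact h x hx' a (mem_centralizer_singleton_iff.mpr ha') b (mem_centralizer_singleton_iff.mpr hb')

theorem conj_mem_centralizer_iff (g k w : G) :
    g * w * g⁻¹ ∈ centralizer ({g * k * g⁻¹} : Set G) ↔ w ∈ centralizer ({k} : Set G) := by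
  rw [mem_centralizer_singleton_iff, mem_centralizer_singleton_iff]
  constructor
  · intro h1
    have := congrArg (fun t => g⁻¹ * t * g) h1
    simpa [mul_assoc] using this
  · intro h1
    have : g * w * g⁻¹ * (g * k * g⁻¹) = g * (w * k) * g⁻¹ := by group
    rw [this, h1]
    group

/-- Centralizers of nonidentity elements are TI. -/
theorem CA.ti (h : CA G) {x : G} (hx : x ≠ 1) (g : G)
    (hg : g ∉ normalizer ((centralizer ({x} : Set G) : Subgroup G) : Set G)) (k : G)
    (hk : k ∈ centralizer ({x} : Set G)) (hgk : g * k * g⁻¹ ∈ centralizer ({x} : Set G)) :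
    k = 1 := by
  by_contra hk1
  apply hg
  have h1 := h.centralizer_eq_of_mem hx hk1 hk
  have hk1' : g * k * g⁻¹ ≠ 1 := by
    intro h2
    apply hk1
    have := congrArg (fun t => g⁻¹ * t * g) h2
    simpa [mul_assoc] using this
  have h2 := h.centralizer_eq_of_mem hx hk1' hgk
  rw [mem_normalizer_iff]
  intro w
  have e : g * w * g⁻¹ ∈ centralizer ({x} : Set G) ↔ w ∈ centralizer ({x} : Set G) := by
    conv_lhs => rw [← h2]
    rw [conj_mem_centralizer_iff, h1]
  exact e.symm

/-- A Sylow subgroup inside the centralizer. -/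
theorem CA.exists_sylow_le (h : CA G) [Finite G] {x : G} (hx : x ≠ 1) {p : ℕ} [hp : Fact p.Prime]
    (hpd : p ∣ Nat.card (centralizer ({x} : Set G))) :
    ∃ P : Sylow p G, (P : Subgroup G) ≤ centralizer ({x} : Set G) := by
  obtain ⟨a, ha⟩ := exists_prime_orderOf_dvd_card' p hpd
  have ha1 : (a : G) ≠ 1 := by
    intro h1
    have : a = 1 := Subtype.ext h1
    rw [this, orderOf_one] at ha
    exact hp.out.one_lt.ne ha
  have hpg : IsPGroup p (zpowers (a : G)) := by
    apply IsPGroup.of_card (n := 1)
    rw [Nat.card_zpowers, Subgroup.orderOf_coe, ha, pow_one]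
  obtain ⟨P, hP⟩ := hpg.exists_le_sylow
  have haP : (a : G) ∈ (P : Subgroup G) := hP (mem_zpowers _)
  have : Nontrivial (P : Subgroup G) := ⟨⟨⟨(a : G), haP⟩, 1, fun h1 => ha1 (congrArg Subtype.val h1)⟩⟩
  have hcen := IsPGroup.center_nontrivial P.2
  obtain ⟨z, hz1⟩ := exists_ne (1 : center (P : Subgroup G))
  have hz1' : ((z : (P : Subgroup G)) : G) ≠ 1 := by
    intro h1
    apply hz1
    apply Subtype.ext
    apply Subtype.ext
    exact h1
  have hza : ((z : (P : Subgroup G)) : G) * a = a * ((z : (P : Subgroup G)) : G) := by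
    have := (mem_center_iff.mp z.2 ⟨(a : G), haP⟩)
    have h2 := congrArg Subtype.val this
    exact h2.symm
  have e1 : centralizer ({((z : (P : Subgroup G)) : G)} : Set G) = centralizer ({(a : G)} : Set G) :=
    h.centralizer_eq hz1' ha1 hza
  have e2 : centralizer ({(a : G)} : Set G) = centralizer ({x} : Set G) :=
    h.centralizer_eq_of_mem hx ha1 a.2
  refine ⟨P, ?_⟩
  intro w hw
  rw [← e2, ← e1, mem_centralizer_singleton_iff]
  have := (mem_center_iff.mp z.2 ⟨w, hw⟩)
  exact congrArg Subtype.val this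

/-- Two centralizers of nonidentity elements have coprime orders or are conjugate. -/
theorem CA.coprime_or_conj (h : CA G) [Finite G] {x y : G} (hx : x ≠ 1) (hy : y ≠ 1)
    (hnc : ¬ Nat.Coprime (Nat.card (centralizer ({x} : Set G)))
      (Nat.card (centralizer ({y} : Set G)))) :
    ∃ g : G, ∀ w, w ∈ centralizer ({x} : Set G) ↔ g * w * g⁻¹ ∈ centralizer ({y} : Set G) := by
  obtain ⟨p, hp, h1, h2⟩ := Nat.Prime.not_coprime_iff_dvd.mp hnc
  have : Fact p.Prime := ⟨hp⟩
  obtain ⟨P, hP⟩ := h.exists_sylow_le hx h1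
  obtain ⟨Q, hQ⟩ := h.exists_sylow_le hy h2
  obtain ⟨g, hg⟩ := MulAction.exists_smul_eq G P Q
  have hPne : (P : Subgroup G) ≠ ⊥ := by
    apply Sylow.ne_bot_of_dvd_card
    exact h1.trans (Subgroup.card_subgroup_dvd_card _)
  obtain ⟨z, hz1⟩ := (Subgroup.ne_bot_iff_exists_ne_one.mp hPne)
  have hz1' : (z : G) ≠ 1 := fun h3 => hz1 (Subtype.ext h3)
  have hzQ : g * z * g⁻¹ ∈ (Q : Subgroup G) := by
    rw [← hg, Sylow.coe_subgroup_smul]
    have := Subgroup.smul_mem_pointwise_smul (z : G) (MulAut.conj g) (P : Subgroup G) z.2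
    rwa [MulAut.smul_def, MulAut.conj_apply] at this
  have hzx : (z : G) ∈ centralizer ({x} : Set G) := hP z.2
  have hzy : g * z * g⁻¹ ∈ centralizer ({y} : Set G) := hQ hzQ
  have hz2 : g * z * g⁻¹ ≠ 1 := by
    intro h3
    apply hz1'
    have := congrArg (fun t => g⁻¹ * t * g) h3
    simpa [mul_assoc] using this
  have e1 := h.centralizer_eq_of_mem hx hz1' hzx
  have e2 := h.centralizer_eq_of_mem hy hz2 hzy
  refine ⟨g, fun w => ?_⟩
  rw [← e1, ← e2, conj_mem_centralizer_iff]

/-- In a simple nonabelian CA-group the centralizer of a nonidentity element is properly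
contained in its normalizer. -/
theorem CA.lt_normalizer (h : CA G) [Finite G] [IsSimpleGroup G] (hnc : ∃ a b : G, a * b ≠ b * a)
    {x : G} (hx : x ≠ 1) :
    centralizer ({x} : Set G) < normalizer ((centralizer ({x} : Set G) : Subgroup G) : Set G) := by
  refine lt_of_le_of_ne le_normalizer ?_
  intro heq
  have hxC : x ∈ centralizer ({x} : Set G) := mem_centralizer_singleton_iff.mpr rfl
  have hcard : Nat.card (centralizer ({x} : Set G)) ≠ 1 := by
    intro h1
    have := (Subgroup.card_eq_one.mp h1)
    rw [this, Subgroup.mem_bot] at hxC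
    exact hx hxC
  obtain ⟨p, hp, hpd⟩ := Nat.exists_prime_and_dvd hcard
  have : Fact p.Prime := ⟨hp⟩
  obtain ⟨P, hP⟩ := h.exists_sylow_le hx hpd
  have hPne : (P : Subgroup G) ≠ ⊥ := by
    apply Sylow.ne_bot_of_dvd_card
    exact hpd.trans (Subgroup.card_subgroup_dvd_card _)
  obtain ⟨z, hz1⟩ := (Subgroup.ne_bot_iff_exists_ne_one.mp hPne)
  have hz1' : (z : G) ≠ 1 := fun h3 => hz1 (Subtype.ext h3)
  have hNC : normalizer ((P : Subgroup G) : Set G) ≤ centralizer ((P : Subgroup G) : Set G) := by
    intro g hg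
    have hgz : g * z * g⁻¹ ∈ (P : Subgroup G) := (mem_normalizer_iff.mp hg z).mp z.2
    have hgN : g ∈ normalizer ((centralizer ({x} : Set G) : Subgroup G) : Set G) := by
      by_contra hgn
      exact hz1' (h.ti hx g hgn z (hP z.2) (hP hgz))
    rw [← heq] at hgN
    rw [mem_centralizer_iff]
    intro w hw
    exact h x hx w (hP hw) g hgN
  have hcompl := MonoidHom.ker_transferSylow_isComplement' P hNC
  rcases (MonoidHom.normal_ker (MonoidHom.transferSylow P hNC)).eq_bot_or_eq_top with hk | hk
  · rw [hk, isComplement'_bot_left] at hcompl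
    -- G is a p-group
    have hG : IsPGroup p G := by
      have := P.2
      rw [hcompl] at this
      exact IsPGroup.of_equiv this Subgroup.topEquiv
    have hnt : Nontrivial G := ⟨⟨x, 1, hx⟩⟩
    have hcen : Nontrivial (center G) := IsPGroup.center_nontrivial hG
    have hcne : center G ≠ ⊥ := (nontrivial_iff_ne_bot (center G)).mp hcen
    have hctop : center G = ⊤ := (Subgroup.Normal.eq_bot_or_eq_top inferInstance).resolve_left hcne
    obtain ⟨a, b, hab⟩ := hnc
    apply hab
    have : b ∈ center G := by rw [hctop]; trivial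
    exact (mem_center_iff.mp this) a
  · rw [hk, isComplement'_top_left] at hcompl
    exact hPne hcompl

/-- A nontrivial proper normal subgroup yields a nontrivial abelian normal subgroup, when proper
subgroups are solvable. -/
theorem exists_abelian_normal [Finite G]
    (IH : ∀ H : Subgroup G, H ≠ ⊤ → Group.IsSolvable H) :
    ∀ (n : ℕ) (N : Subgroup G), N.Normal → N ≠ ⊥ → N ≠ ⊤ → Nat.card N = n →
      ∃ V : Subgroup G, V.Normal ∧ V ≠ ⊥ ∧ V ≠ ⊤ ∧ ∀ a ∈ V, ∀ b ∈ V, a * b = b * a := by
  intro n
  induction n using Nat.strong_induction_on with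
  | _ n ih =>
    intro N hN hN1 hN2 hn
    by_cases hc : ⁅N, N⁆ = ⊥
    · refine ⟨N, hN, hN1, hN2, ?_⟩
      intro a ha b hb
      have : ⁅a, b⁆ ∈ ⁅N, N⁆ := Subgroup.commutator_mem_commutator ha hb
      rw [hc, Subgroup.mem_bot, commutatorElement_eq_one_iff_mul_comm] at this
      exact this
    · have hsol : Group.IsSolvable N := IH N hN2
      have hlt : ⁅N, N⁆ < N := by
        have hnt : Nontrivial N := (nontrivial_iff_ne_bot N).mpr hN1
        rw [← N.range_subtype, MonoidHom.range_eq_map, ← map_commutator,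
          map_subtype_lt_map_subtype]
        exact Group.IsSolvable.commutator_lt_top_of_nontrivial N
      have hcard : Nat.card (⁅N, N⁆ : Subgroup G) < n := by
        rw [← hn]
        by_contra hcon
        exact hlt.ne (Subgroup.eq_of_le_of_card_ge hlt.le (not_lt.mp hcon))
      have hnorm : (⁅N, N⁆ : Subgroup G).Normal := Subgroup.commutator_normal N N
      have hne : (⁅N, N⁆ : Subgroup G) ≠ ⊤ := fun h1 => hN2 (top_le_iff.mp (h1 ▸ hlt.le))
      exact ih _ hcard _ hnorm hc hne rfl

/-- A CA-group with a proper nontrivial normal subgroup all of whose proper subgroups are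
solvable is solvable. -/
theorem CA.isSolvable_of_normal (h : CA G) [Finite G]
    (IH : ∀ H : Subgroup G, H ≠ ⊤ → Group.IsSolvable H) (N : Subgroup G) [hN : N.Normal]
    (hN1 : N ≠ ⊥) (hN2 : N ≠ ⊤) : Group.IsSolvable G := by
  classical
  obtain ⟨V, hVn, hV1, hV2, hVab⟩ := exists_abelian_normal IH _ N hN hN1 hN2 rfl
  obtain ⟨v, hv1⟩ := (Subgroup.ne_bot_iff_exists_ne_one.mp hV1)
  have hv1' : (v : G) ≠ 1 := fun h3 => hv1 (Subtype.ext h3)
  set A : Subgroup G := centralizer ({(v : G)} : Set G) with hA
  have hAn : A.Normal := by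
    constructor
    intro n hn g
    have hv' : g * v * g⁻¹ ∈ V := hVn.conj_mem _ v.2 g
    have hv'1 : g * v * g⁻¹ ≠ 1 := by
      intro h3
      apply hv1'
      have := congrArg (fun t => g⁻¹ * t * g) h3
      simpa [mul_assoc] using this
    have hcomm : g * v * g⁻¹ * v = v * (g * v * g⁻¹) := hVab _ hv' _ v.2
    have e1 : centralizer ({g * v * g⁻¹} : Set G) = A := h.centralizer_eq hv'1 hv1' hcomm
    rw [← e1, conj_mem_centralizer_iff]
    exact hn
  by_cases hAtop : A = ⊤
  · have : ∀ a b : G, a * b = b * a := by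
      intro a b
      exact h v hv1' a (by rw [← hA, hAtop]; trivial) b (by rw [← hA, hAtop]; trivial)
    exact Group.isSolvable_of_comm this
  · have hAsol : Group.IsSolvable A := IH A hAtop
    have : Fintype G := Fintype.ofFinite G
    have hF : ∀ x : G, x ∉ A → ∀ k ∈ A, x * k = k * x → k = 1 := by
      intro x hx k hk hxk
      by_contra hk1
      apply hx
      have e1 : centralizer ({k} : Set G) = A := h.centralizer_eq_of_mem hv1' hk1 hk
      rw [← e1, mem_centralizer_singleton_iff]
      exact hxk
    have hcop : Nat.Coprime (Nat.card A) A.index := by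
      by_contra hnc
      obtain ⟨p, hp, h1, h2⟩ := Nat.Prime.not_coprime_iff_dvd.mp hnc
      exact Cfsg.Agent.Lib.Helper57_FrobNorm2.not_dvd_card_of_dvd_index A hF hp h2 h1
    obtain ⟨H, hH⟩ := Subgroup.exists_right_complement'_of_coprime hcop
    have hHtop : H ≠ ⊤ := by
      intro h1
      rw [h1, isComplement'_top_right] at hH
      have hvA : (v : G) ∈ A := mem_centralizer_singleton_iff.mpr rfl
      rw [hH, Subgroup.mem_bot] at hvA
      exact hv1' hvA
    have hHsol : Group.IsSolvable H := IH H hHtop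
    have e : G ⧸ A ≃* H := hH.symm.QuotientMulEquiv
    have hQsol : Group.IsSolvable (G ⧸ A) :=
      Group.isSolvable_of_isSolvable_injective (f := e.toMonoidHom) e.injective
    exact Group.isSolvable_of_ker_le_range A.subtype (QuotientGroup.mk' A) (by simp)

end Cfsg.Agent.Lib.Helper31_CAGroup
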