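import Mathlib
import Cfsg.Agent.Lib.Helper31_CNMax
import Cfsg.Agent.Lib.Helper31_CN
import Cfsg.Agent.Lib.Helper34_Sylow
import Cfsg.Agent.S1477

/-!
# The Frobenius kernels of the maximal subgroups of a minimal simple CN-group of odd order
(helper31)
-/

set_option autoImplicit false
set_option linter.unusedSectionVars false

namespace Cfsg.Agent.Lib.Helper31_CNProd

open Cfsg Subgroup Cfsg.Agent.Lib.Helper31_ThreeStepMain Cfsg.Agent.Lib.Helper31_CNMax
  Cfsg.Agent.Lib.Helper34_Sylow

universe u

variable {G : Type u} [Group G] [Finite G]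

section Main

variable (hG : IsMinSimpleOddOrder G) (hCN : IsCNGroup G)

include hCN in
theorem fittingHallOf_normalizer (H : Subgroup G) (hH : Group.IsNilpotent H)
    (hmax : ∀ L : Subgroup G, Group.IsNilpotent L → H ≤ L → L = H) :
    fittingHallOf (normalizer (H : Set G)) = H := by
  unfold fittingHallOf
  rw [fittingHall_normalizer hCN H hH hmax,
    Subgroup.map_subgroupOf_eq_of_le Subgroup.le_normalizer]

include hG hCN in
/-- For a maximal subgroup `M`, `M_F` is a maximal nilpotent subgroup of `G` with normalizer `M`. -/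
theorem coatom_fittingHallOf {M : Subgroup G} (hM : IsCoatom M) :
    Group.IsNilpotent ↥(fittingHallOf M) ∧
      (∀ L : Subgroup G, Group.IsNilpotent L → fittingHallOf M ≤ L → L = fittingHallOf M) ∧
      normalizer ((fittingHallOf M : Subgroup G) : Set G) = M := by
  obtain ⟨H, E, hHnil, hHmax, hMN, -, hH1, -, -⟩ := coatom_structure hG hCN hM
  have hN := isCoatom_normalizer hG hCN H hHnil hHmax
  have hMN' : M = normalizer (H : Set G) := by
    by_contra hne
    exact hN.1 (hM.2 _ (lt_of_le_of_ne hMN hne))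
  have hF : fittingHallOf M = H := by
    rw [hMN']
    exact fittingHallOf_normalizer hCN H hHnil hHmax
  rw [hF]
  exact ⟨hHnil, hHmax, hMN'.symm⟩

include hG hCN in
/-- Every maximal nilpotent subgroup is conjugate to the kernel of a representative. -/
theorem maxNil_eq_cj {k : ℕ} (Mrep : Fin k → Subgroup G) (hmaxM : ∀ i, IsCoatom (Mrep i))
    (hall : ∀ M : Subgroup G, IsCoatom M →
      ∃ i, ∃ g : G, M = (Mrep i).map (MulAut.conj g).toMonoidHom)
    (H : Subgroup G) (hH : Group.IsNilpotent H)
    (hmax : ∀ L : Subgroup G, Group.IsNilpotent L → H ≤ L → L = H) :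
    ∃ i, ∃ g : G, H = (fittingHallOf (Mrep i)).map (MulAut.conj g).toMonoidHom := by
  have hN := isCoatom_normalizer hG hCN H hH hmax
  obtain ⟨i, g, hig⟩ := hall _ hN
  obtain ⟨hnil_i, hmax_i, hnorm_i⟩ := coatom_fittingHallOf hG hCN (hmaxM i)
  obtain ⟨hnil', hmax'⟩ := Cfsg.Agent.S1477.conj_max (fittingHallOf (Mrep i)) hnil_i hmax_i g
  have h1 : normalizer (((fittingHallOf (Mrep i)).map (MulAut.conj g).toMonoidHom : Subgroup G) :
      Set G) = normalizer (H : Set G) := by
    have := cj_normalizer g (fittingHallOf (Mrep i))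
    rw [← this, hnorm_i, hig]
  refine ⟨i, g, ?_⟩
  rw [← fittingHallOf_normalizer hCN H hH hmax, ← fittingHallOf_normalizer hCN _ hnil' hmax', h1]

include hG hCN in
theorem main {k : ℕ} (Mrep : Fin k → Subgroup G) (hmaxM : ∀ i, IsCoatom (Mrep i))
    (hnc : ∀ i j, i ≠ j → ∀ g : G, Mrep j ≠ (Mrep i).map (MulAut.conj g).toMonoidHom)
    (hall : ∀ M : Subgroup G, IsCoatom M →
      ∃ i, ∃ g : G, M = (Mrep i).map (MulAut.conj g).toMonoidHom) :
    (∀ i j, i ≠ j → (Nat.card (fittingHallOf (Mrep i))).Coprime
        (Nat.card (fittingHallOf (Mrep j)))) ∧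
      ∏ i, Nat.card (fittingHallOf (Mrep i)) = Nat.card G ∧
      ∀ x : G, ∃ i, ∃ g : G, g * x * g⁻¹ ∈ fittingHallOf (Mrep i) := by
  have hcop : ∀ i j, i ≠ j → (Nat.card (fittingHallOf (Mrep i))).Coprime
      (Nat.card (fittingHallOf (Mrep j))) := by
    intro i j hij
    obtain ⟨hnil_i, hmax_i, hnorm_i⟩ := coatom_fittingHallOf hG hCN (hmaxM i)
    obtain ⟨hnil_j, hmax_j, hnorm_j⟩ := coatom_fittingHallOf hG hCN (hmaxM j)
    apply Nat.coprime_of_dvd
    intro p hp hpi hpj
    have : Fact p.Prime := ⟨hp⟩
    obtain ⟨g, hg⟩ := Cfsg.Agent.Lib.Helper31_CN.conj_of_dvd hCN _ _ hnil_i hmax_i hnil_j hmax_j p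
      hpi hpj
    apply hnc i j hij g
    calc Mrep j = normalizer ((fittingHallOf (Mrep j) : Subgroup G) : Set G) := hnorm_j.symm
      _ = normalizer ((cj g (fittingHallOf (Mrep i)) : Subgroup G) : Set G) := by rw [hg]
      _ = cj g (normalizer ((fittingHallOf (Mrep i) : Subgroup G) : Set G)) :=
          (cj_normalizer g _).symm
      _ = cj g (Mrep i) := by rw [hnorm_i]
  -- every element lies in a maximal nilpotent subgroup
  have hmem : ∀ x : G, x ≠ 1 → ∃ i, ∃ g : G, g * x * g⁻¹ ∈ fittingHallOf (Mrep i) := by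
    intro x hx
    obtain ⟨H, hCH, hHnil, hHmax⟩ :=
      Cfsg.Agent.Lib.Helper31_CN.exists_max_nilpotent _ (hCN x hx)
    obtain ⟨i, g, hig⟩ := maxNil_eq_cj hG hCN Mrep hmaxM hall H hHnil hHmax
    refine ⟨i, g⁻¹, ?_⟩
    have hxH : x ∈ H := hCH (Subgroup.mem_centralizer_singleton_iff.mpr rfl)
    rw [hig] at hxH
    have := mem_cj.mp hxH
    rwa [inv_inv]
  refine ⟨hcop, ?_, ?_⟩
  · apply Nat.dvd_antisymm
    · apply Fintype.prod_dvd_of_isRelPrime
      · intro i j hij
        exact Nat.coprime_iff_isRelPrime.mp (hcop i j hij)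
      · intro i
        exact Subgroup.card_subgroup_dvd_card _
    · have hprod0 : ∏ i, Nat.card (fittingHallOf (Mrep i)) ≠ 0 := by
        apply Finset.prod_ne_zero_iff.mpr
        intro i _
        exact Nat.card_pos.ne'
      have hG0 : Nat.card G ≠ 0 := Nat.card_pos.ne'
      rw [← Nat.factorization_le_iff_dvd hG0 hprod0, Finsupp.le_def]
      intro p
      by_cases hp : p.Prime
      · have : Fact p.Prime := ⟨hp⟩
        by_cases hpG : p ∣ Nat.card G
        · obtain ⟨P⟩ : Nonempty (Sylow p G) := inferInstance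
          have hP1 : (P : Subgroup G) ≠ ⊥ := P.ne_bot_of_dvd_card hpG
          have hnt : Nontrivial ↥(P : Subgroup G) := (Subgroup.nontrivial_iff_ne_bot _).mpr hP1
          have hcnt : Nontrivial (Subgroup.center ↥(P : Subgroup G)) := P.2.center_nontrivial
          obtain ⟨z, hz1⟩ := exists_ne (1 : Subgroup.center ↥(P : Subgroup G))
          have hz1' : ((z : ↥(P : Subgroup G)) : G) ≠ 1 := by
            intro h
            apply hz1
            apply Subtype.ext
            apply Subtype.ext
            simpa using h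
          obtain ⟨H, hCH, hHnil, hHmax⟩ :=
            Cfsg.Agent.Lib.Helper31_CN.exists_max_nilpotent _ (hCN _ hz1')
          have hPH : (P : Subgroup G) ≤ H := by
            intro u hu
            apply hCH
            rw [Subgroup.mem_centralizer_singleton_iff]
            have := (Subgroup.mem_center_iff.mp z.2) ⟨u, hu⟩
            exact congrArg Subtype.val this
          obtain ⟨i, g, hig⟩ := maxNil_eq_cj hG hCN Mrep hmaxM hall H hHnil hHmax
          have hcard : Nat.card H = Nat.card (fittingHallOf (Mrep i)) := by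
            rw [hig]
            exact card_cj g _
          have h1 : p ^ (Nat.card G).factorization p ∣ Nat.card (fittingHallOf (Mrep i)) := by
            rw [← P.card_eq_multiplicity, ← hcard]
            exact Subgroup.card_dvd_of_le hPH
          have h2 : p ^ (Nat.card G).factorization p ∣ ∏ i, Nat.card (fittingHallOf (Mrep i)) :=
            h1.trans (Finset.dvd_prod_of_mem _ (Finset.mem_univ i))
          exact (hp.pow_dvd_iff_le_factorization hprod0).mp h2
        · rw [Nat.factorization_eq_zero_of_not_dvd hpG]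
          exact Nat.zero_le _
      · rw [Nat.factorization_eq_zero_of_not_prime _ hp]
        exact Nat.zero_le _
  · intro x
    by_cases hx : x = 1
    · -- some maximal subgroup exists
      have := hG.2.1
      have hnt : Nontrivial G := IsSimpleGroup.toNontrivial
      obtain ⟨y, hy⟩ := exists_ne (1 : G)
      obtain ⟨i, g, -⟩ := hmem y hy
      refine ⟨i, 1, ?_⟩
      rw [hx]
      simp
    · exact hmem x hx

end Main

end Cfsg.Agent.Lib.Helper31_CNProd
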