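import Mathlib
import Cfsg.Agent.Lib.Helper6_BNPairC

/-!
# S5751 package BN-COATOM (helper31, architect helper4): in a (B,N)-pair the parabolic subgroup
`P_{S \ {k}}` is a maximal subgroup
-/

set_option autoImplicit false

namespace Cfsg.Agent.Lib.Helper31_E8C_BNCOATOM

open Cfsg Cfsg.Agent.Lib.Helper6_BNPair

/-- `k ∉ P_{S \ {k}}` -/
theorem not_mem_parabolic {G : Type*} [Group G] (P : Cfsg.BNPair G) {k : G} (hk : k ∈ P.S) :
    k ∉ P.parabolic (P.S \ {k}) := by
  intro h
  have := mem_of_mem_parabolic P (J := P.S \ {k}) Set.sdiff_subset hk h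
  exact this.2 rfl

/-- `P_S = G` -/
theorem parabolic_S {G : Type*} [Group G] (P : Cfsg.BNPair G) : P.parabolic P.S = ⊤ := by
  rw [eq_top_iff, ← P.sup_eq_top]
  apply sup_le (B_le_parabolic P _)
  conv_lhs => rw [← P.closure_sup]
  apply sup_le (closure_le_parabolic P _)
  exact inf_le_left.trans (B_le_parabolic P _)

/-- BN-COATOM. -/
theorem parabolic_isCoatom {G : Type*} [Group G] (P : Cfsg.BNPair G) {k : G} (hk : k ∈ P.S) :
    IsCoatom (P.parabolic (P.S \ {k})) := by
  refine ⟨?_, ?_⟩
  · intro h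
    apply not_mem_parabolic P hk
    rw [h]
    exact Subgroup.mem_top k
  · intro M' hlt
    have hBM' : P.B ≤ M' := (B_le_parabolic P _).trans hlt.le
    have hM' := subgroup_eq_parabolic P hBM'
    have hXS : P.S ∩ (M' : Set G) ⊆ P.S := Set.inter_subset_left
    have hJX : P.S \ {k} ⊆ P.S ∩ (M' : Set G) := by
      apply (parabolic_le_iff P Set.sdiff_subset hXS).1
      rw [← hM']
      exact hlt.le
    have hkX : k ∈ P.S ∩ (M' : Set G) := by
      by_contra hkX
      apply hlt.ne
      rw [hM']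
      congr 1
      apply Set.Subset.antisymm hJX
      intro x hx
      refine ⟨hx.1, ?_⟩
      intro hxk
      rw [Set.mem_singleton_iff] at hxk
      exact hkX (hxk ▸ hx)
    have hX : P.S ∩ (M' : Set G) = P.S := by
      apply Set.Subset.antisymm hXS
      intro x hx
      by_cases hxk : x = k
      · rw [hxk]; exact hkX
      · exact hJX ⟨hx, hxk⟩
    rw [hM', hX, parabolic_S]

end Cfsg.Agent.Lib.Helper31_E8C_BNCOATOM
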