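import Mathlib
import Cfsg.Agent.Lib.Helper6_BNPairC
import Cfsg.Agent.S0312

/-!
# S5751 package BN-NECONJ (helper31, architect helper4): `k P_J k⁻¹ ≠ P_J` for `J = S \ {k}`
-/

set_option autoImplicit false

namespace Cfsg.Agent.Lib.Helper31_E8C_BNNECONJ

open Cfsg Cfsg.Agent.Lib.Helper6_BNPair

/-- BN-NECONJ. -/
theorem parabolic_conj_ne {G : Type*} [Group G] (P : Cfsg.BNPair G) {k : G} (hk : k ∈ P.S) :
    P.parabolic (P.S \ {k}) ≠ (P.parabolic (P.S \ {k})).map (MulAut.conj k).toMonoidHom := by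
  intro h
  have hJ : P.S \ {k} ⊆ P.S := Set.sdiff_subset
  have hkN : k ∈ Subgroup.normalizer (P.parabolic (P.S \ {k}) : Set G) := by
    rw [Subgroup.mem_normalizer_iff]
    intro x
    have h1 : k * x * k⁻¹ ∈ (P.parabolic (P.S \ {k})).map (MulAut.conj k).toMonoidHom ↔
        x ∈ P.parabolic (P.S \ {k}) := by
      have : k * x * k⁻¹ = (MulAut.conj k).toMonoidHom x := rfl
      rw [this]
      exact Subgroup.mem_map_iff_mem (MulAut.conj k).injective
    rw [← h1, ← h]
  rw [Cfsg.Agent.S0312.result P hJ] at hkN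
  have := mem_of_mem_parabolic P hJ hk hkN
  exact this.2 rfl

end Cfsg.Agent.Lib.Helper31_E8C_BNNECONJ
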