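import Mathlib
import Cfsg.Agent.Lib.Helper94_FrmDefs2
import Cfsg.Agent.Lib.Helper83_FrCDefs

/-!
# S5655 package FR-DETN (helper77 for helper94): the determinant of an isometry has norm one
-/

set_option autoImplicit false
set_option linter.unusedSectionVars false
set_option linter.unusedVariables false

namespace Cfsg.Agent.Lib.Helper77_FR_DETN

open Module Cfsg.Agent.Lib.Helper94_Symp Cfsg.Agent.Lib.Helper94_Herm
  Cfsg.Agent.Lib.Helper13_PSUSimple Cfsg.Agent.Lib.Helper27_UQDefs
  Cfsg.Agent.Lib.Helper94_FrmDefs Cfsg.Agent.Lib.Helper94_UDDefs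
  Cfsg.Agent.Lib.Helper94_FrmDefs2 Cfsg.Agent.Lib.Helper27_UQ_KISO
  Cfsg.Agent.Lib.Helper94_HermTrans

variable {F V : Type*} [Field F] [AddCommGroup V] [Module F V] [Finite F] [FiniteDimensional F V]
variable {σ : F →+* F} {B : V →ₗ[F] V →ₛₗ[σ] F}
variable {ι : Type*} [Fintype ι] [DecidableEq ι] {e : ι → V} {M : Subgroup (V ≃ₗ[F] V)}

open Cfsg.Agent.Lib.Helper83_FrCDefs in
/-- FR-DETN. -/
theorem DETN (hσ : Invol σ) (hB : IsHerm B) (he : OFrame B e) {g : V ≃ₗ[F] V} (hg : g ∈ uG B) :
    ((LinearEquiv.det g : Fˣ) : F) * σ ((LinearEquiv.det g : Fˣ) : F) = 1 := by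
  set b := fr_basis he with hb
  set A : Matrix ι ι F := LinearMap.toMatrix b b (g : V →ₗ[F] V) with hA
  have hAij : ∀ i j, A i j = B (g (e j)) (e i) := by
    intro i j
    rw [hA, LinearMap.toMatrix_apply, hb, fr_basis_apply, fr_repr_apply]
    rfl
  have hprod : A.transpose * A.map σ = 1 := by
    ext j k
    rw [Matrix.mul_apply]
    simp only [Matrix.transpose_apply, Matrix.map_apply, hAij]
    rw [← fr_form_eq he, hg, fr_apply_eq he, Matrix.one_apply]
  have hdet : A.det * σ A.det = 1 := by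
    have h1 := congrArg Matrix.det hprod
    rw [Matrix.det_mul, Matrix.det_transpose, Matrix.det_one] at h1
    have h2 : (A.map σ).det = σ A.det := by
      rw [RingHom.map_det]
      rfl
    rw [h2] at h1
    exact h1
  have hdA : A.det = ((LinearEquiv.det g : Fˣ) : F) := by
    rw [hA, LinearMap.det_toMatrix, LinearEquiv.coe_det]
  rw [← hdA]
  exact hdet

end Cfsg.Agent.Lib.Helper77_FR_DETN
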