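import Mathlib
import Cfsg.Agent.Lib.Helper94_FrmDefs2
import Cfsg.Agent.Lib.Helper83_FrCDefs
import Cfsg.Agent.Lib.Helper77_FR_DETN

/-!
# S5655, blocks of dimension one, CASE (A): package FR-SYM (helper31, architect helper94)

From one frame vector to all.
-/

set_option autoImplicit false
set_option linter.unusedSectionVars false
set_option linter.unusedVariables false

namespace Cfsg.Agent.Lib.Helper31_FR_SYM

open Module Cfsg.Agent.Lib.Helper94_Symp Cfsg.Agent.Lib.Helper94_Herm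
  Cfsg.Agent.Lib.Helper13_PSUSimple Cfsg.Agent.Lib.Helper27_UQDefs
  Cfsg.Agent.Lib.Helper94_FrmDefs Cfsg.Agent.Lib.Helper94_UDDefs
  Cfsg.Agent.Lib.Helper94_FrmDefs2 Cfsg.Agent.Lib.Helper27_UQ_KISO
  Cfsg.Agent.Lib.Helper94_HermTrans

variable {F V : Type*} [Field F] [AddCommGroup V] [Module F V] [Finite F] [FiniteDimensional F V]
variable {σ : F →+* F} {B : V →ₗ[F] V →ₛₗ[σ] F}
variable {ι : Type*} [Fintype ι] [DecidableEq ι] {e : ι → V} {M : Subgroup (V ≃ₗ[F] V)}

open Cfsg.Agent.Lib.Helper83_FrCDefs in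
/-- the permutation elements of the monomial group -/
theorem exists_perm (he : OFrame B e) (π : Equiv.Perm ι) :
    ∃ p ∈ Mono B e, ∀ i, p (e i) = e (π i) := by
  set b := fr_basis he with hb
  set p : V ≃ₗ[F] V := b.equiv b π with hp
  have hpe : ∀ i, p (e i) = e (π i) := by
    intro i
    have := b.equiv_apply i b π
    rw [hb, fr_basis_apply, fr_basis_apply] at this
    exact this
  -- coordinates of `p x`
  have hcoord : ∀ x i, B (p x) (e i) = B x (e (π.symm i)) := by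
    intro x i
    conv_lhs => rw [fr_expand he x]
    rw [map_sum, map_sum, LinearMap.sum_apply]
    simp only [map_smul, hpe, LinearMap.smul_apply, smul_eq_mul, fr_apply_eq he]
    rw [Finset.sum_eq_single (π.symm i)]
    · simp
    · intro j _ hj
      have : π j ≠ i := by
        intro h
        apply hj
        rw [← h, Equiv.symm_apply_apply]
      simp [this]
    · intro h
      exact absurd (Finset.mem_univ _) h
  have hiso : p ∈ uG B := by
    intro x y
    rw [fr_form_eq he (p x) (p y), fr_form_eq he x y]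
    simp only [hcoord]
    exact Equiv.sum_comp π.symm (fun j => B x (e j) * σ (B y (e j)))
  exact ⟨p, ⟨hiso, π, fun i => ⟨1, one_ne_zero, by rw [hpe, one_smul]⟩⟩, hpe⟩

/-- FR-SYM.  `p ∈ Mono B e` with `p (e k) = e j` (FRAME, `Equiv.swap k j`); `δ = det p` has norm
one (DETN); `p' = p * qr B (e k) δ⁻¹ ∈ Mono B e ⊓ SUg B ≤ M` maps `e k` to `δ⁻¹ • e j`, hence
`(e k)^⊥` onto `(e j)^⊥`; `UU_map`. -/
theorem SYM (hσ : Invol σ) (hB : IsHerm B) (he : OFrame B e) (hHM : Mono B e ⊓ SUg B ≤ M)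
    (hMK : M ≤ SUg B) (k : ι)
    (h : ∀ u : V, B u u = 0 → B u (e k) = 0 → u ∈ UU B M) :
    ∀ j : ι, ∀ u : V, B u u = 0 → B u (e j) = 0 → u ∈ UU B M := by
  intro j u huu huj
  obtain ⟨p, hpM, hpe⟩ := exists_perm he (Equiv.swap k j)
  have hpU : p ∈ uG B := Mono_le_uG e hpM
  set δ : F := ((LinearEquiv.det p : Fˣ) : F) with hδ
  have hδ0 : δ ≠ 0 := Units.ne_zero _
  have hδN : δ * σ δ = 1 := Cfsg.Agent.Lib.Helper77_FR_DETN.DETN hσ hB he hpU
  have hζ0 : δ⁻¹ ≠ 0 := inv_ne_zero hδ0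
  have hζN : δ⁻¹ * σ δ⁻¹ = 1 := by rw [map_inv₀, ← mul_inv, hδN, inv_one]
  have hkk : B (e k) (e k) ≠ 0 := by rw [he.unit k]; exact one_ne_zero
  set r : V ≃ₗ[F] V := qr B (e k) δ⁻¹ with hr
  have hrU : r ∈ uG B := qr_mem_uG hB (e k) hζN
  have hrk : r (e k) = δ⁻¹ • e k := qr_self B hkk hζ0
  have hrM : r ∈ Mono B e := by
    refine ⟨hrU, 1, fun i => ?_⟩
    by_cases hik : i = k
    · subst hik
      exact ⟨δ⁻¹, hζ0, by rw [hrk]; rfl⟩
    · exact ⟨1, one_ne_zero, by rw [hr, qr_fix B (e k) δ⁻¹ (he.orth i k hik), one_smul]; rfl⟩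
  have hdet : LinearEquiv.det (p * r) = 1 := by
    rw [map_mul, hr, det_qr hkk hζ0]
    apply Units.ext
    rw [Units.val_mul, Units.val_mk0, Units.val_one, ← hδ, mul_inv_cancel₀ hδ0]
  have hp'S : p * r ∈ SUg B := mem_SUg.mpr ⟨(uG B).mul_mem hpU hrU, hdet⟩
  have hp'M : p * r ∈ M := hHM ⟨(Mono B e).mul_mem hpM hrM, hp'S⟩
  have hp'U : p * r ∈ uG B := (uG B).mul_mem hpU hrU
  have hp'k : (p * r) (e k) = δ⁻¹ • e j := by
    rw [LinearEquiv.mul_apply, hrk, map_smul, hpe, Equiv.swap_apply_left]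
  have hMU : M ≤ uG B := hMK.trans SUg_le_uG
  -- the preimage of `u`
  have hu' : (p * r)⁻¹ u ∈ UU B M := by
    apply h
    · rw [(uG B).inv_mem hp'U, huu]
    · have h1 := hp'U ((p * r)⁻¹ u) (e k)
      rw [apply_inv_apply', hp'k, map_smulₛₗ, huj, smul_zero] at h1
      exact h1.symm
  have := UU_map hMU hp'M hu'
  rwa [apply_inv_apply'] at this

end Cfsg.Agent.Lib.Helper31_FR_SYM
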