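import Mathlib
import Cfsg.Agent.Lib.Helper34_G2InvDefs
import Cfsg.Agent.Lib.Helper34_G2InvBasic
import Cfsg.Agent.Lib.Helper31_G2I_GRELC

/-!
# S2177 market, package GWEYL (helper31): the relations `WRel` for `chevG2` in characteristic 2
-/

set_option autoImplicit false

namespace Cfsg.Agent.Lib.Helper31_G2I_GWEYL

open Cfsg Cfsg.Lie Cfsg.Agent.Lib.Helper34_G2InvDefs Cfsg.Agent.Lib.Helper34_G2InvBasic
open Cfsg.Agent.Lib.Helper31_G2I_GRELC (isUnit_x XG_coe)

section Concrete

variable {F : Type*} [Field F]

/-- the matrix of a word in root elements is invertible -/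
theorem isUnit_wordMat (hf : G2Facts F) (w : List (ℕ × F)) : IsUnit (chevG2.wordMat F w) := by
  unfold ChevalleyDatum.wordMat
  induction w with
  | nil => simp
  | cons p w ih =>
    rw [List.map_cons, List.prod_cons]
    exact (isUnit_x hf p.1 p.2).mul ih

/-- the matrix of `NG F r` (part of GCOE, proved here to be independent of it) -/
theorem NG_coe (hf : G2Facts F) (r : ℕ) :
    ((NG F r : GL chevG2.Idx F) : Matrix chevG2.Idx chevG2.Idx F) = chevG2.nMat F r 1 := by
  have hu : IsUnit (chevG2.nMat F r 1) := isUnit_wordMat hf _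
  unfold NG
  rw [dif_pos hu]
  exact IsUnit.unit_spec _

/-- the action of a fundamental Weyl element on a root element, in characteristic 2 -/
theorem nconj2 [CharP F 2] (hf : G2Facts F) (i s : ℕ) (hi : i < chevG2.rank)
    (hs : s < chevG2.nroots) {p s' : ℕ} (hp : chevG2.simple i = p)
    (hs' : chevG2.reflectRoot i s = s') (t : F) :
    NG F p * XG F s t = XG F s' t * NG F p := by
  obtain ⟨η, hη, h⟩ := hf.nconj i s hi hs
  have hηF : ((η : ℤ) : F) = 1 := by
    rcases hη with rfl | rfl
    · exact Int.cast_one
    · rw [Int.cast_neg, Int.cast_one, CharTwo.neg_eq]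
  apply Units.ext
  rw [Units.val_mul, Units.val_mul, XG_coe hf, XG_coe hf, NG_coe hf, ← hp, h t, hs', hηF, one_mul]

/-- GWEYL (M; dep GCOE).  The relations `WRel` for `chevG2` in characteristic 2
(`7 = a = simple 0`, `6 = b = simple 1`). -/
theorem GWEYL [CharP F 2] (hf : G2Facts F) : WRel (XG F) (NG F 7) (NG F 6) := by
  refine ⟨?_, ?_, ?_, ?_, ?_, ?_, ?_, ?_, ?_, ?_⟩
  · exact nconj2 hf 0 6 (by decide) (by decide) (by decide) (by decide)
  · exact nconj2 hf 0 10 (by decide) (by decide) (by decide) (by decide)
  · exact nconj2 hf 0 8 (by decide) (by decide) (by decide) (by decide)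
  · exact nconj2 hf 0 9 (by decide) (by decide) (by decide) (by decide)
  · exact nconj2 hf 0 11 (by decide) (by decide) (by decide) (by decide)
  · exact nconj2 hf 1 7 (by decide) (by decide) (by decide) (by decide)
  · exact nconj2 hf 1 8 (by decide) (by decide) (by decide) (by decide)
  · exact nconj2 hf 1 10 (by decide) (by decide) (by decide) (by decide)
  · exact nconj2 hf 1 11 (by decide) (by decide) (by decide) (by decide)
  · exact nconj2 hf 1 9 (by decide) (by decide) (by decide) (by decide)

end Concrete

end Cfsg.Agent.Lib.Helper31_G2I_GWEYL
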