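import Mathlib
import Cfsg.Prelude.Def_Characters
import Cfsg.Agent.Lib.Helper80_CharBasic
import Cfsg.Agent.Lib.Helper6_GL23Defs

/-!
# S0197 package ARITH (helper31, architect helper6)

The final arithmetic: `(u - 9)(w + 9) = -72`, `u ≡ 3 mod 8` leave `(u, w) = (11, -45)` with
`|G| = 7920` and `(27, -13)` with `|G| = 5616`.
-/

set_option autoImplicit false
open scoped ComplexConjugate

namespace Cfsg.Agent.Lib.Helper31_GL23_ARITH

open Cfsg Cfsg.Agent.Lib.Helper80_CharBasic Cfsg.Agent.Lib.Helper6_GL23Defs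

/-- the first relation in integers -/
theorem key_eq (u w : ℤ) (hu : u ≠ 0) (hw : w ≠ 0) (h0 : 1 - u + w ≠ 0) (h01 : 1 - u + w ≠ 1)
    (ha : (1 : ℚ) - 1 / (1 - u + w) - 9 / u + 9 / w = 0) : (u - 9) * (w + 9) = -72 := by
  have hu' : (u : ℚ) ≠ 0 := by exact_mod_cast hu
  have hw' : (w : ℚ) ≠ 0 := by exact_mod_cast hw
  have h0' : (1 : ℚ) - u + w ≠ 0 := by exact_mod_cast h0
  have hd : (w : ℚ) - u ≠ 0 := by
    intro h
    apply h01
    have : (w : ℚ) = u := by linarith
    have hwu : w = u := by exact_mod_cast this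
    rw [hwu]
    ring
  field_simp at ha
  have h2 : ((w : ℚ) - u) * ((u - 9) * (w + 9) + 72) = 0 := by linear_combination ha
  rcases mul_eq_zero.mp h2 with h3 | h3
  · exact absurd h3 hd
  · have : ((u - 9) * (w + 9) : ℚ) = -72 := by linarith
    exact_mod_cast this

/-- **S0197-ARITH** -/
theorem arith (u w : ℤ) (g : ℕ) (hu : u ≠ 0) (hw : w ≠ 0) (h0 : 1 - u + w ≠ 0) (h01 : 1 - u + w ≠ 1)
    (h1 : u - 1 ≠ 0) (h8 : (8 : ℤ) ∣ u + 5)
    (ha : (1 : ℚ) - 1 / (1 - u + w) - 9 / u + 9 / w = 0)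
    (hv : (g : ℚ) * (1 + 1 / (1 - u + w) + 8 / (u - 1) - 9 / u - 9 / w) = 9216) :
    g = 5616 ∨ g = 7920 := by
  have hkey := key_eq u w hu hw h0 h01 ha
  obtain ⟨k, hk⟩ := h8
  have hu_eq : u = 8 * k - 5 := by linarith
  subst hu_eq
  have hdvd : (8 * k - 5 - 9) ∣ (72 : ℤ) := ⟨-(w + 9), by linarith⟩
  have hle := Int.le_of_dvd (by norm_num) hdvd
  have hdvd' : (-(8 * k - 5 - 9)) ∣ (72 : ℤ) := (neg_dvd).mpr hdvd
  have hle' := Int.le_of_dvd (by norm_num) hdvd'
  have hk1 : -7 ≤ k := by omega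
  have hk2 : k ≤ 10 := by omega
  clear hdvd hdvd' hle hle'
  interval_cases k <;> first
    | (exfalso; omega)
    | (have hw_eq : w = -45 := by omega
       subst hw_eq
       right
       norm_num at hv
       have : (g : ℚ) = 7920 := by linarith
       exact_mod_cast this)
    | (have hw_eq : w = -13 := by omega
       subst hw_eq
       left
       norm_num at hv
       have : (g : ℚ) = 5616 := by linarith
       exact_mod_cast this)

end Cfsg.Agent.Lib.Helper31_GL23_ARITH
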