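import Mathlib
import Cfsg.Prelude.Def_Characters
import Cfsg.Agent.Lib.Helper80_CharBasic
import Cfsg.Agent.Lib.Helper6_GL23Defs

/-!
# S0197 package TR0 (helper31, architect helper6)

An isomorphism `C_G(t) ≃* GL(2,3)` maps the involution `t` to `-1`.
-/

set_option autoImplicit false
open scoped ComplexConjugate

namespace Cfsg.Agent.Lib.Helper31_GL23_TR0

open Cfsg Cfsg.Agent.Lib.Helper80_CharBasic Cfsg.Agent.Lib.Helper6_GL23Defs

set_option maxRecDepth 100000 in
/-- the centre of `GL(2,3)` is `{1, -1}` (local copy of the GAM fact, by enumeration) -/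
theorem center_cases : ∀ g : Γ, (∀ h : Γ, g * h = h * g) → g = 1 ∨ g = tΓ := by
  decide +kernel

section grp
variable {G : Type*} [Group G] [Finite G]

/-- **S0197-TR0** -/
theorem trans_t (t : G) (ht : orderOf t = 2) (e : Subgroup.centralizer ({t} : Set G) ≃* Γ) :
    e ⟨t, Subgroup.mem_centralizer_singleton_iff.mpr rfl⟩ = tΓ := by
  set z : Subgroup.centralizer ({t} : Set G) :=
    ⟨t, Subgroup.mem_centralizer_singleton_iff.mpr rfl⟩ with hz
  have hcen : ∀ h : Γ, e z * h = h * e z := by
    intro h
    obtain ⟨y, rfl⟩ := e.surjective h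
    rw [← map_mul, ← map_mul]
    congr 1
    apply Subtype.ext
    have hy := Subgroup.mem_centralizer_singleton_iff.mp y.2
    show t * (y : G) = (y : G) * t
    exact hy.symm
  rcases center_cases (e z) hcen with h1 | h1
  · exfalso
    have hz1 : z = 1 := e.injective (by rw [h1, map_one])
    have ht1 : t = 1 := congrArg Subtype.val hz1
    rw [ht1, orderOf_one] at ht
    omega
  · exact h1

end grp

end Cfsg.Agent.Lib.Helper31_GL23_TR0
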