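import Mathlib
import Cfsg.Agent.Lib.Helper84_TutteDefs
import Cfsg.Agent.Lib.Helper84_TutteAPI
import Cfsg.Agent.Lib.Helper84_GlDefs
import Cfsg.Agent.Lib.Helper84_GlAPI
import Cfsg.Agent.Lib.Helper31_Tutte_C_RS

/-!
# S4359 package GC-BOT (architect helper84), paper (1.5),(1.7): the bottom `R_t = RI P g 0 t` of the
chain is trivial.
-/

set_option autoImplicit false

open scoped commutatorElement
open Cfsg.Agent.Lib.Helper84_TutteDefs Cfsg.Agent.Lib.Helper84_GlDefs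

namespace Cfsg.Agent.Lib.Helper31_Gl_GCBOT

open Cfsg.Agent.Lib.Helper31_Tutte_C_RS

variable {G : Type*} [Group G] {P : Subgroup G} {g x0 : G} {p t lam : ℕ}

/-- a subgroup fixed by `cj g` is fixed by all `cj (g ^ k)` -/
theorem cj_zpow_eq_of_cj_eq {R : Subgroup G} (h : cj g R = R) (k : ℤ) : cj (g ^ k) R = R := by
  have hgN : g ∈ Subgroup.normalizer (R : Set G) := by
    rw [Subgroup.mem_normalizer_iff_map_conj_eq]
    exact h
  exact (Subgroup.mem_normalizer_iff_map_conj_eq).mp (Subgroup.zpow_mem _ hgN k)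

/-- GC-BOT (M), paper (1.5),(1.7): `T = RI 0 t` is `g`-invariant (`hd.inv`), so `T = RI (-l-1) (t-1-l)` for all `l`, which is normal in
`Y_(-l) = RI (-l) (t-1-l)` by `hnrm`; the `Y_(-l)`, `l < t`, generate `P` (`hgen`), so `T` is normal in `P`; `hc.core`. -/
theorem pchain_bot (hc : PChainHyp P g p) (hd : PChainData P g p t)
    (hnrm : ∀ i j : ℤ, i ≤ j → ∀ u ∈ RI P g i j, cj u (RI P g (i - 1) j) = RI P g (i - 1) j)
    (hgen : ⨆ l ∈ Finset.range t, RI P g (-(l : ℤ)) ((t : ℤ) - 1 - l) = P) : RI P g 0 t = ⊥ := by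
  have ht1 : (1 : ℤ) ≤ (t : ℤ) := by exact_mod_cast hd.one_le
  have hgk : ∀ k : ℤ, cj (g ^ k) (RI P g 0 t) = RI P g 0 t := cj_zpow_eq_of_cj_eq hd.inv
  have hTP : RI P g 0 t ≤ P := by
    have h := RI_anti (H := P) (g := g) (i := 0) (j := 0) (i' := 0) (j' := (t : ℤ)) le_rfl (by omega)
    rwa [RI_zero] at h
  -- every `Y_(-l)` normalises `T`
  have hY : ∀ l : ℕ, l < t → ∀ u ∈ RI P g (-(l : ℤ)) ((t : ℤ) - 1 - l),
      cj u (RI P g 0 t) = RI P g 0 t := by
    intro l hl u hu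
    have hTl : RI P g 0 t = RI P g (-(l : ℤ) - 1) ((t : ℤ) - 1 - l) := by
      have h1 := hgk (-(l : ℤ) - 1)
      rw [cj_zpow_RI] at h1
      rw [← h1]
      congr 1 <;> ring
    have h2 := hnrm (-(l : ℤ)) ((t : ℤ) - 1 - l) (by omega) u hu
    rw [← hTl] at h2
    exact h2
  have hPN : P ≤ Subgroup.normalizer ((RI P g 0 t : Subgroup G) : Set G) := by
    have hsup : (⨆ l ∈ Finset.range t, RI P g (-(l : ℤ)) ((t : ℤ) - 1 - l))
        ≤ Subgroup.normalizer ((RI P g 0 t : Subgroup G) : Set G) := by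
      apply iSup_le
      intro l
      apply iSup_le
      intro hl u hu
      rw [Subgroup.mem_normalizer_iff_map_conj_eq]
      exact hY l (Finset.mem_range.mp hl) u hu
    rwa [hgen] at hsup
  apply hc.core (RI P g 0 t) hTP
  · intro u hu
    exact (Subgroup.mem_normalizer_iff_map_conj_eq).mp (hPN hu)
  · exact hd.inv

end Cfsg.Agent.Lib.Helper31_Gl_GCBOT
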