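import Mathlib
import Cfsg.Agent.Lib.Helper84_TutteDefs
import Cfsg.Agent.Lib.Helper84_TutteAPI
import Cfsg.Agent.Lib.Helper84_GlDefs
import Cfsg.Agent.Lib.Helper84_GlAPI

/-!
# S4359 package G-LAM (architect helper84), paper (2.4): existence of `lam ≤ t + n - 1`.
-/

set_option autoImplicit false

open scoped commutatorElement
open Cfsg.Agent.Lib.Helper84_TutteDefs Cfsg.Agent.Lib.Helper84_GlDefs

namespace Cfsg.Agent.Lib.Helper31_Gl_GLAM

variable {G : Type*} [Group G] {P : Subgroup G} {g x0 : G} {p t lam : ℕ}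

/-- G-LAM (M), paper (2.4): if `[x_0,x_j] = 1` for all `1 ≤ j ≤ t+n-1` then `z = x_0` commutes with all `x_i`, `-n ≤ i ≤ t-1`
(`commute_of_comm_zero`), and `x_0 ∈ P` (`h.XX_le_P`), `x_0 ≠ 1`.  Otherwise take the least such `j` (`Nat.find`). -/
theorem exists_lam_of_center (h : PSys P g x0 p t) (n : ℕ)
    (hZ : ∀ z ∈ P, (∀ i : ℤ, -(n : ℤ) ≤ i → i ≤ (t : ℤ) - 1 → z * xs g x0 i = xs g x0 i * z) → z = 1) :
    ∃ lam : ℕ, lam + 1 ≤ t + n ∧ IsLam g x0 lam := by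
  classical
  by_cases hex : ∃ j : ℕ, 1 ≤ j ∧ ⁅xs g x0 0, xs g x0 j⁆ ≠ 1 ∧ j + 1 ≤ t + n
  · have hex' : ∃ j : ℕ, 1 ≤ j ∧ ⁅xs g x0 0, xs g x0 j⁆ ≠ 1 := by
      obtain ⟨j, h1, h2, _⟩ := hex
      exact ⟨j, h1, h2⟩
    refine ⟨Nat.find hex', ?_, ⟨(Nat.find_spec hex').1, (Nat.find_spec hex').2, ?_⟩⟩
    · obtain ⟨j, h1, h2, h3⟩ := hex
      have := Nat.find_min' hex' ⟨h1, h2⟩
      omega
    · intro j hj1 hj2
      by_contra hne
      exact Nat.find_min hex' hj2 ⟨hj1, hne⟩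
  · exfalso
    have hall : ∀ j : ℕ, 1 ≤ j → j + 1 ≤ t + n → ⁅xs g x0 0, xs g x0 j⁆ = 1 := by
      intro j hj1 hj2
      by_contra hne
      exact hex ⟨j, hj1, hne, hj2⟩
    have ht1 : (1 : ℤ) ≤ (t : ℤ) := by exact_mod_cast h.one_le
    have hmem : xs g x0 0 ∈ P := h.XX_le_P le_rfl le_rfl (xs_mem_XX le_rfl (by omega))
    apply h.xs_ne_one 0
    apply hZ _ hmem
    intro i hi1 hi2
    rcases lt_trichotomy i 0 with hi | hi | hi
    · symm
      apply commute_of_comm_zero (le_of_lt hi)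
      have h1 := hall (0 - i).toNat (by omega) (by omega)
      rwa [Int.toNat_of_nonneg (by omega)] at h1
    · rw [hi]
    · apply commute_of_comm_zero (le_of_lt hi)
      have h1 := hall (i - 0).toNat (by omega) (by omega)
      rwa [Int.toNat_of_nonneg (by omega)] at h1

end Cfsg.Agent.Lib.Helper31_Gl_GLAM
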