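import Mathlib
import Cfsg.Prelude.Def_Characters
import Cfsg.Agent.Lib.Helper80_CharBasic
import Cfsg.Agent.Lib.Helper80_CharComplete
import Cfsg.Agent.Lib.Helper17_H27Defs
import Cfsg.Agent.Lib.Helper76_H648Defs
import Cfsg.Agent.Lib.Helper73_H9_EQS
import Cfsg.Agent.Lib.Helper2_H648_CLSA

/-!
# S3702 market (helper76), package EQS (helper31): the seven class-algebra equations

`eqs_aux` takes the local counts (package CNT), the centralizer orders (package CENTJ) and the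
realness of the classes of `c` and `a b` (package CLS-A) as explicit hypotheses.
-/

set_option autoImplicit false
open scoped ComplexConjugate

namespace Cfsg.Agent.Lib.Helper31_H648_EQS

open Cfsg Cfsg.Agent.Lib.Helper80_CharBasic
  Cfsg.Agent.Lib.Helper76_H648Defs
open Cfsg.Agent.Lib.Helper17_H27Defs (elt)

/-- the number of pairs of vectors of given weights with given sum, from a `Finset` count -/
theorem cntv (w1 w2 w3 : ℕ) (n : ℕ)
    (h : (Finset.univ.filter (fun p : (ZMod 3 × ZMod 3 × ZMod 3) × (ZMod 3 × ZMod 3 × ZMod 3) =>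
      wt p.1 = w1 ∧ wt p.2 = w2 ∧ p.1 + p.2 = vecW w3)).card = n) :
    Nat.card {p : (ZMod 3 × ZMod 3 × ZMod 3) × (ZMod 3 × ZMod 3 × ZMod 3) //
      wt p.1 = w1 ∧ wt p.2 = w2 ∧ p.1 + p.2 = vecW w3} = n := by
  rw [Nat.card_eq_fintype_card, Fintype.card_subtype]
  exact h

section grp
variable {G : Type*} [Group G] [Finite G]

/-- a real class: the character values are fixed by complex conjugation -/
theorem conj_eq_of_real (χ : IrrCharacter G) {x : G} (hx : IsConj x x⁻¹) :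
    conj ((χ : G → ℂ) x) = (χ : G → ℂ) x := by
  rw [← irr_inv, ← irr_isConj χ hx]

/-- one equation: the class-algebra constant `(k₁, k₂; k₃)` with `k₃` real -/
theorem one_eq (x y z : G) {nx ny N : ℕ}
    (hx : Nat.card (Subgroup.centralizer ({x} : Set G)) = nx)
    (hy : Nat.card (Subgroup.centralizer ({y} : Set G)) = ny)
    (hz : IsConj z z⁻¹)
    (hN : Nat.card {p : G × G // IsConj x p.1 ∧ IsConj y p.2 ∧ p.1 * p.2 = z} = N) :
    (Nat.card G : ℂ) * ∑ᶠ χ : IrrCharacter G,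
      (χ : G → ℂ) x * (χ : G → ℂ) y * (χ : G → ℂ) z / (χ : G → ℂ) 1 =
      ((nx * ny * N : ℕ) : ℂ) := by
  have h1 := Cfsg.Agent.Lib.Helper73_H9_EQS.cm_eq x y z hx hy
  rw [hN] at h1
  have h2 : ∀ χ : IrrCharacter G,
      (χ : G → ℂ) x * (χ : G → ℂ) y * conj ((χ : G → ℂ) z) / (χ : G → ℂ) 1 =
        (χ : G → ℂ) x * (χ : G → ℂ) y * (χ : G → ℂ) z / (χ : G → ℂ) 1 := by
    intro χ
    rw [conj_eq_of_real χ hz]
  rw [finsum_congr h2] at h1
  rw [← h1]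
  push_cast
  ring

variable {a b c : G}

/-- the explicit hypotheses version -/
theorem eqs_aux
    (hcent : Nat.card (Subgroup.centralizer ({c} : Set G)) = 108 ∧
      Nat.card (Subgroup.centralizer ({a * b} : Set G)) = 54 ∧
      Nat.card (Subgroup.centralizer ({a * b * c} : Set G)) = 81)
    (hcnt : ∀ (w1 w2 w3 : ℕ), (w1 = 1 ∨ w1 = 2 ∨ w1 = 3) → (w2 = 1 ∨ w2 = 2 ∨ w2 = 3) →
      (w3 = 1 ∨ w3 = 2) → ¬ (w1 = w2 ∧ w2 = w3) →
      Nat.card {p : G × G // IsConj (repW a b c w1) p.1 ∧ IsConj (repW a b c w2) p.2 ∧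
        p.1 * p.2 = repW a b c w3} =
      Nat.card {p : (ZMod 3 × ZMod 3 × ZMod 3) × (ZMod 3 × ZMod 3 × ZMod 3) //
        wt p.1 = w1 ∧ wt p.2 = w2 ∧ p.1 + p.2 = vecW w3})
    (hrc : IsConj c c⁻¹) (hrab : IsConj (a * b) (a * b)⁻¹) (e : Fin 7) :
    (Nat.card G : ℂ) * ∑ᶠ χ : IrrCharacter G,
      (χ : G → ℂ) c ^ (mexp e).1 * (χ : G → ℂ) (a * b) ^ (mexp e).2.1 *
        (χ : G → ℂ) (a * b * c) ^ (mexp e).2.2 / (χ : G → ℂ) 1 = (Kc e : ℂ) := by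
  obtain ⟨hA, hB, hD⟩ := hcent
  -- the seven local counts
  have n112 := (hcnt 1 1 2 (by decide) (by decide) (by decide) (by decide)).trans
    (cntv 1 1 2 2 (by decide +kernel))
  have n122 := (hcnt 1 2 2 (by decide) (by decide) (by decide) (by decide)).trans
    (cntv 1 2 2 2 (by decide +kernel))
  have n131 := (hcnt 1 3 1 (by decide) (by decide) (by decide) (by decide)).trans
    (cntv 1 3 1 0 (by decide +kernel))
  have n132 := (hcnt 1 3 2 (by decide) (by decide) (by decide) (by decide)).trans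
    (cntv 1 3 2 2 (by decide +kernel))
  have n331 := (hcnt 3 3 1 (by decide) (by decide) (by decide) (by decide)).trans
    (cntv 3 3 1 4 (by decide +kernel))
  have n232 := (hcnt 2 3 2 (by decide) (by decide) (by decide) (by decide)).trans
    (cntv 2 3 2 4 (by decide +kernel))
  have n332 := (hcnt 3 3 2 (by decide) (by decide) (by decide) (by decide)).trans
    (cntv 3 3 2 2 (by decide +kernel))
  fin_cases e
  · -- `A² B`: `(c, c; ab)`
    have h := one_eq c c (a * b) hA hA hrab n112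
    have e1 : ∀ χ : IrrCharacter G, (χ : G → ℂ) c ^ 2 * (χ : G → ℂ) (a * b) ^ 1 *
        (χ : G → ℂ) (a * b * c) ^ 0 / (χ : G → ℂ) 1 =
        (χ : G → ℂ) c * (χ : G → ℂ) c * (χ : G → ℂ) (a * b) / (χ : G → ℂ) 1 := by
      intro χ; ring
    show (Nat.card G : ℂ) * ∑ᶠ χ : IrrCharacter G, (χ : G → ℂ) c ^ 2 * (χ : G → ℂ) (a * b) ^ 1 *
        (χ : G → ℂ) (a * b * c) ^ 0 / (χ : G → ℂ) 1 = ((23328 : ℤ) : ℂ)
    rw [finsum_congr e1, h]
    norm_num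
  · -- `A B²`: `(c, ab; ab)`
    have h := one_eq c (a * b) (a * b) hA hB hrab n122
    have e1 : ∀ χ : IrrCharacter G, (χ : G → ℂ) c ^ 1 * (χ : G → ℂ) (a * b) ^ 2 *
        (χ : G → ℂ) (a * b * c) ^ 0 / (χ : G → ℂ) 1 =
        (χ : G → ℂ) c * (χ : G → ℂ) (a * b) * (χ : G → ℂ) (a * b) / (χ : G → ℂ) 1 := by
      intro χ; ring
    show (Nat.card G : ℂ) * ∑ᶠ χ : IrrCharacter G, (χ : G → ℂ) c ^ 1 * (χ : G → ℂ) (a * b) ^ 2 *
        (χ : G → ℂ) (a * b * c) ^ 0 / (χ : G → ℂ) 1 = ((11664 : ℤ) : ℂ)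
    rw [finsum_congr e1, h]
    norm_num
  · -- `A² D`: `(c, abc; c)`
    have h := one_eq c (a * b * c) c hA hD hrc n131
    have e1 : ∀ χ : IrrCharacter G, (χ : G → ℂ) c ^ 2 * (χ : G → ℂ) (a * b) ^ 0 *
        (χ : G → ℂ) (a * b * c) ^ 1 / (χ : G → ℂ) 1 =
        (χ : G → ℂ) c * (χ : G → ℂ) (a * b * c) * (χ : G → ℂ) c / (χ : G → ℂ) 1 := by
      intro χ; ring
    show (Nat.card G : ℂ) * ∑ᶠ χ : IrrCharacter G, (χ : G → ℂ) c ^ 2 * (χ : G → ℂ) (a * b) ^ 0 *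
        (χ : G → ℂ) (a * b * c) ^ 1 / (χ : G → ℂ) 1 = ((0 : ℤ) : ℂ)
    rw [finsum_congr e1, h]
    norm_num
  · -- `A B D`: `(c, abc; ab)`
    have h := one_eq c (a * b * c) (a * b) hA hD hrab n132
    have e1 : ∀ χ : IrrCharacter G, (χ : G → ℂ) c ^ 1 * (χ : G → ℂ) (a * b) ^ 1 *
        (χ : G → ℂ) (a * b * c) ^ 1 / (χ : G → ℂ) 1 =
        (χ : G → ℂ) c * (χ : G → ℂ) (a * b * c) * (χ : G → ℂ) (a * b) / (χ : G → ℂ) 1 := by
      intro χ; ring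
    show (Nat.card G : ℂ) * ∑ᶠ χ : IrrCharacter G, (χ : G → ℂ) c ^ 1 * (χ : G → ℂ) (a * b) ^ 1 *
        (χ : G → ℂ) (a * b * c) ^ 1 / (χ : G → ℂ) 1 = ((17496 : ℤ) : ℂ)
    rw [finsum_congr e1, h]
    norm_num
  · -- `A D²`: `(abc, abc; c)`
    have h := one_eq (a * b * c) (a * b * c) c hD hD hrc n331
    have e1 : ∀ χ : IrrCharacter G, (χ : G → ℂ) c ^ 1 * (χ : G → ℂ) (a * b) ^ 0 *
        (χ : G → ℂ) (a * b * c) ^ 2 / (χ : G → ℂ) 1 =
        (χ : G → ℂ) (a * b * c) * (χ : G → ℂ) (a * b * c) * (χ : G → ℂ) c / (χ : G → ℂ) 1 := by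
      intro χ; ring
    show (Nat.card G : ℂ) * ∑ᶠ χ : IrrCharacter G, (χ : G → ℂ) c ^ 1 * (χ : G → ℂ) (a * b) ^ 0 *
        (χ : G → ℂ) (a * b * c) ^ 2 / (χ : G → ℂ) 1 = ((26244 : ℤ) : ℂ)
    rw [finsum_congr e1, h]
    norm_num
  · -- `B² D`: `(ab, abc; ab)`
    have h := one_eq (a * b) (a * b * c) (a * b) hB hD hrab n232
    have e1 : ∀ χ : IrrCharacter G, (χ : G → ℂ) c ^ 0 * (χ : G → ℂ) (a * b) ^ 2 *
        (χ : G → ℂ) (a * b * c) ^ 1 / (χ : G → ℂ) 1 =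
        (χ : G → ℂ) (a * b) * (χ : G → ℂ) (a * b * c) * (χ : G → ℂ) (a * b) / (χ : G → ℂ) 1 := by
      intro χ; ring
    show (Nat.card G : ℂ) * ∑ᶠ χ : IrrCharacter G, (χ : G → ℂ) c ^ 0 * (χ : G → ℂ) (a * b) ^ 2 *
        (χ : G → ℂ) (a * b * c) ^ 1 / (χ : G → ℂ) 1 = ((17496 : ℤ) : ℂ)
    rw [finsum_congr e1, h]
    norm_num
  · -- `B D²`: `(abc, abc; ab)`
    have h := one_eq (a * b * c) (a * b * c) (a * b) hD hD hrab n332
    have e1 : ∀ χ : IrrCharacter G, (χ : G → ℂ) c ^ 0 * (χ : G → ℂ) (a * b) ^ 1 *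
        (χ : G → ℂ) (a * b * c) ^ 2 / (χ : G → ℂ) 1 =
        (χ : G → ℂ) (a * b * c) * (χ : G → ℂ) (a * b * c) * (χ : G → ℂ) (a * b) / (χ : G → ℂ) 1 := by
      intro χ; ring
    show (Nat.card G : ℂ) * ∑ᶠ χ : IrrCharacter G, (χ : G → ℂ) c ^ 0 * (χ : G → ℂ) (a * b) ^ 1 *
        (χ : G → ℂ) (a * b * c) ^ 2 / (χ : G → ℂ) 1 = ((13122 : ℤ) : ℂ)
    rw [finsum_congr e1, h]
    norm_num

variable {H J : Subgroup G} {σ u v s : G}

/-- the version with the landed CLS-A (`rep_real`): only the counts (CNT) and the centralizer orders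
(CENTJ) remain as hypotheses -/
theorem eqs_of (h : Hyp G H J a b c σ u v s)
    (hcent : Nat.card (Subgroup.centralizer ({c} : Set G)) = 108 ∧
      Nat.card (Subgroup.centralizer ({a * b} : Set G)) = 54 ∧
      Nat.card (Subgroup.centralizer ({a * b * c} : Set G)) = 81)
    (hcnt : ∀ (w1 w2 w3 : ℕ), (w1 = 1 ∨ w1 = 2 ∨ w1 = 3) → (w2 = 1 ∨ w2 = 2 ∨ w2 = 3) →
      (w3 = 1 ∨ w3 = 2) → ¬ (w1 = w2 ∧ w2 = w3) →
      Nat.card {p : G × G // IsConj (repW a b c w1) p.1 ∧ IsConj (repW a b c w2) p.2 ∧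
        p.1 * p.2 = repW a b c w3} =
      Nat.card {p : (ZMod 3 × ZMod 3 × ZMod 3) × (ZMod 3 × ZMod 3 × ZMod 3) //
        wt p.1 = w1 ∧ wt p.2 = w2 ∧ p.1 + p.2 = vecW w3}) (e : Fin 7) :
    (Nat.card G : ℂ) * ∑ᶠ χ : IrrCharacter G,
      (χ : G → ℂ) c ^ (mexp e).1 * (χ : G → ℂ) (a * b) ^ (mexp e).2.1 *
        (χ : G → ℂ) (a * b * c) ^ (mexp e).2.2 / (χ : G → ℂ) 1 = (Kc e : ℂ) :=
  eqs_aux hcent hcnt (Cfsg.Agent.Lib.Helper2_H648_CLSA.rep_real h 0)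
    (Cfsg.Agent.Lib.Helper2_H648_CLSA.rep_real h 7) e

end grp

end Cfsg.Agent.Lib.Helper31_H648_EQS
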