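import Mathlib
import Cfsg.Prelude.Def_Characters
import Cfsg.Agent.Lib.Helper76_GalConj

set_option autoImplicit false

/-!
Package A1a of S4463 (Isaacs–Passman, architect helper72): a group of central type whose derived
subgroup is the unique minimal normal subgroup has a fully ramified irreducible character (helper31).
-/

namespace Cfsg.Agent.Lib.Helper31_IP_A1a

open Cfsg Cfsg.Agent.Lib.Helper76_GalConj

universe u

theorem exists_fully_ramified {Q : Type u} [Group Q] [Finite Q]
    (hne : commutator Q ≠ ⊥)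
    (hmin : ∀ N : Subgroup Q, N.Normal → N ≠ ⊥ → commutator Q ≤ N)
    (hcent : commutator Q ≤ Subgroup.center Q) :
    ∃ β : IrrCharacter Q, 2 ≤ charDegree (β : Q → ℂ) ∧
      (charDegree (β : Q → ℂ)) ^ 2 = (Subgroup.center Q).index ∧
      (∀ g : Q, g ∉ Subgroup.center Q → (β : Q → ℂ) g = 0) ∧
      (∀ z ∈ Subgroup.center Q, ‖(β : Q → ℂ) z‖ = (charDegree (β : Q → ℂ) : ℝ)) := by
  have hnc : ¬ ∀ a b : Q, a * b = b * a := by
    intro hc
    apply hne
    rw [commutator_def, Subgroup.commutator_eq_bot_iff_le_centralizer]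
    intro a _ b _
    exact hc b a
  obtain ⟨β, hβ⟩ := exists_nonlinear hnc
  have hpos := charDegree_pos β
  have hker : kerC β = ⊥ := by
    by_contra hk
    exact hβ (charDegree_eq_one_of_commutator_le β (hmin (kerC β) inferInstance hk))
  have hker' : ∀ c ∈ commutator Q, c ∈ kerC β → c = 1 := by
    intro c _ hc
    rw [hker, Subgroup.mem_bot] at hc
    exact hc
  refine ⟨β, by omega, deg_sq_eq_of_class_two β hcent hker',
    irr_vanish_off_center β hcent hker', ?_⟩
  intro z hz
  have h1 := normSq_center β hz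
  rw [Complex.normSq_eq_norm_sq] at h1
  have h2 : (0 : ℝ) ≤ ‖(β : Q → ℂ) z‖ := norm_nonneg _
  have h3 : (0 : ℝ) ≤ (charDegree (β : Q → ℂ) : ℝ) := Nat.cast_nonneg _
  exact (sq_eq_sq₀ h2 h3).1 h1

end Cfsg.Agent.Lib.Helper31_IP_A1a
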