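import Mathlib
import Cfsg.Prelude.Def_Characters
import Cfsg.Agent.Lib.Helper72_IPDefs
import Cfsg.Agent.Lib.Helper76_GalConj
import Cfsg.Agent.Lib.Helper74_GoingUp
import Cfsg.Agent.Lib.Helper59_CliffordDeg
import Cfsg.Agent.Lib.Helper80_CharInd
import Cfsg.Agent.Lib.Helper80_CharBasic
import Cfsg.Agent.Lib.Helper75_Induced
import Cfsg.Agent.Lib.Helper75_Clifford
import Cfsg.Agent.Lib.Helper3_CharBridge
import Cfsg.Agent.S0856

set_option autoImplicit false

/-!
Package K2 of S4463 (Isaacs–Passman, architect helper72): a normal subgroup with nonabelian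
quotient has representation bound `b / 2` (Gallagher) (helper31).
-/

namespace Cfsg.Agent.Lib.Helper31_IP_K2

open Cfsg Cfsg.Agent.Lib.Helper72_IPDefs Cfsg.Agent.Lib.Helper76_GalConj
  Cfsg.Agent.Lib.Helper75_Clifford Cfsg.Agent.Lib.Helper3_CharBridge
open scoped ComplexConjugate

universe u

theorem rb_half {G : Type u} [Group G] [Finite G] {b : ℕ} (h : RB G b) (K : Subgroup G) [hK : K.Normal]
    (hna : ∃ x y : G ⧸ K, x * y ≠ y * x) : RB K (b / 2) := by
  classical
  have : Fintype G := Fintype.ofFinite G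
  have : Fintype K := Fintype.ofFinite K
  intro ω
  set d := charDegree (ω : K → ℂ) with hd
  have hω1 : (ω : K → ℂ) 1 = (d : ℂ) := irr_one_eq_charDegree ω
  have hdpos : 0 < d := charDegree_pos ω
  by_contra hcon
  have hb2 : b < 2 * d := by omega
  -- every `ξ` over `ω` has degree `d`
  have hdeg : ∀ ξ : IrrCharacter G, classInner (res K (ξ : G → ℂ)) (ω : K → ℂ) ≠ 0 →
      charDegree (ξ : G → ℂ) = d := by
    intro ξ hξ
    have hdvd := Cfsg.Agent.Lib.Helper59_CliffordDeg.degree_dvd_of_clifford K hK ξ.2 ω.2 hξ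
      (charDegree (ξ : G → ℂ)) d (irr_one_eq_charDegree ξ) hω1
    have hle := h ξ
    have hpos := charDegree_pos ξ
    obtain ⟨c, hc⟩ := hdvd
    rcases Nat.lt_or_ge c 2 with hc2 | hc2
    · have hc1 : c = 1 := by
        rcases Nat.eq_zero_or_pos c with h0 | h0
        · rw [h0, mul_zero] at hc; omega
        · omega
      rw [hc, hc1, mul_one]
    · exfalso
      have : d * 2 ≤ d * c := Nat.mul_le_mul_left d hc2
      omega
  -- fix `η` over `ω`
  obtain ⟨η, hη⟩ := Cfsg.Agent.Lib.Helper74_GoingUp.exists_over K ω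
  have hη' : classInner (res K (η : G → ℂ)) (ω : K → ℂ) ≠ 0 := hη
  have hηd := hdeg η hη'
  have hη1 : (η : G → ℂ) 1 = (d : ℂ) := by rw [irr_one_eq_charDegree, hηd]
  have hres : res K (η : G → ℂ) = (ω : K → ℂ) :=
    Cfsg.Agent.Lib.Helper80_CharInd.eq_of_constituent_of_degree_le (res K (η : G → ℂ))
      (isCharacter_res K (isCharacter_of_isIrrCharacter η.2)) ω hη' d d hη1 hω1 le_rfl
  have hext : ∀ n : K, (η : G → ℂ) n = (ω : K → ℂ) n := fun n => congrFun hres n
  -- invariance
  have hcf : IsClassFunction G (η : G → ℂ) := isClassFunction_of_isIrrCharacter η.2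
  have hωinv : ∀ (g : G) (n : K), (ω : K → ℂ) ⟨g * n * g⁻¹, hK.conj_mem (n : G) n.2 g⟩ =
      (ω : K → ℂ) n := by
    intro g n
    rw [← hext, ← hext]
    exact hcf n g
  have hone : IsIrrCharacter K (fun _ : K => (1 : ℂ)) :=
    Cfsg.Agent.Lib.Helper80_CharBasic.isIrrCharacter_one K
  have hmul : (fun _ : K => (1 : ℂ)) * (ω : K → ℂ) = (ω : K → ℂ) := by
    funext n
    simp
  have hgal := Cfsg.Agent.S0856.result K (fun _ : K => (1 : ℂ)) (ω : K → ℂ) hone ω.2
    (fun _ _ => rfl) hωinv (by rw [hmul]; exact ω.2) (η : G → ℂ) η.2 hext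
  -- every irreducible character of `G ⧸ K` is linear
  have hlin : ∀ θ : IrrCharacter (G ⧸ K), (θ : G ⧸ K → ℂ) 1 = 1 := by
    intro θ
    set β : IrrCharacter G := infl K θ with hβ
    have hβcf : IsClassFunction G (β : G → ℂ) := isClassFunction_of_isIrrCharacter β.2
    have hβK : ∀ n : K, (β : G → ℂ) n = (β : G → ℂ) 1 := by
      intro n
      rw [hβ, infl_apply, infl_apply]
      have hq : ((n : G) : G ⧸ K) = ((1 : G) : G ⧸ K) := by
        rw [QuotientGroup.mk_one]
        exact (QuotientGroup.eq_one_iff _).2 n.2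
      rw [hq]
    have hβ1 : (β : G → ℂ) 1 = (charDegree (β : G → ℂ) : ℂ) := irr_one_eq_charDegree β
    have hβpos := charDegree_pos β
    have hmem : (β : G → ℂ) ∈ {β : G → ℂ | IsIrrCharacter G β ∧
        classInner (indFun K (fun _ : K => (1 : ℂ))) β ≠ 0} := by
      refine ⟨β.2, ?_⟩
      rw [Cfsg.Agent.Lib.Helper75_Induced.frobenius_reciprocity K _ _ hβcf]
      unfold classInner
      have hsum : ∑ g : K, (fun _ : K => (1 : ℂ)) g * conj ((fun k : K => (β : G → ℂ) k) g) =
          (Nat.card K : ℂ) * (charDegree (β : G → ℂ) : ℂ) := by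
        rw [Finset.sum_congr rfl (fun g _ => by
          show (1 : ℂ) * conj ((β : G → ℂ) g) = (charDegree (β : G → ℂ) : ℂ)
          rw [hβK, hβ1, one_mul, Complex.conj_natCast])]
        rw [Finset.sum_const, Finset.card_univ, nsmul_eq_mul, Nat.card_eq_fintype_card]
      rw [hsum]
      have hK0 : (Nat.card K : ℂ) ≠ 0 := by
        rw [Nat.cast_ne_zero]; exact Nat.card_pos.ne'
      have hd0 : (charDegree (β : G → ℂ) : ℂ) ≠ 0 := by
        rw [Nat.cast_ne_zero]; omega
      exact mul_ne_zero (inv_ne_zero hK0) (mul_ne_zero hK0 hd0)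
    obtain ⟨hirr, hover⟩ := hgal.mapsTo hmem
    rw [hmul] at hover
    -- `β * η` is irreducible and lies over `ω`
    set ψ : IrrCharacter G := ⟨(β : G → ℂ) * (η : G → ℂ), hirr⟩ with hψ
    have hψcf : IsClassFunction G (ψ : G → ℂ) := isClassFunction_of_isIrrCharacter ψ.2
    have hψover : classInner (res K (ψ : G → ℂ)) (ω : K → ℂ) ≠ 0 := by
      rw [Cfsg.Agent.Lib.Helper75_Induced.frobenius_reciprocity K _ _ hψcf] at hover
      -- `[ω, ψ_K] ≠ 0 ⇒ [ψ_K, ω] ≠ 0`
      intro h0
      apply hover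
      have hsw : classInner (ω : K → ℂ) (fun k : K => (ψ : G → ℂ) k) =
          conj (classInner (res K (ψ : G → ℂ)) (ω : K → ℂ)) := by
        unfold classInner res
        rw [map_mul, map_inv₀, Complex.conj_natCast, map_sum]
        congr 1
        apply Finset.sum_congr rfl
        intro k _
        rw [map_mul, Complex.conj_conj, mul_comm]
      rw [hsw, h0, map_zero]
    have hψd := hdeg ψ hψover
    have hψ1 : (ψ : G → ℂ) 1 = (β : G → ℂ) 1 * (η : G → ℂ) 1 := rfl
    have h1 : (charDegree (ψ : G → ℂ) : ℂ) = (charDegree (β : G → ℂ) : ℂ) * (d : ℂ) := by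
      rw [← irr_one_eq_charDegree ψ, hψ1, hβ1, hη1]
    rw [hψd] at h1
    have h2 : d = charDegree (β : G → ℂ) * d := by exact_mod_cast h1
    have h3 : charDegree (β : G → ℂ) = 1 := by
      have : 1 * d = charDegree (β : G → ℂ) * d := by rw [one_mul]; exact h2
      exact (Nat.eq_of_mul_eq_mul_right hdpos this).symm
    rw [irr_one_eq_charDegree, ← charDegree_infl K θ, ← hβ, h3]
    simp
  obtain ⟨x, y, hxy⟩ := hna
  exact hxy (Cfsg.Agent.Lib.Helper59_CliffordDeg.commute_of_all_linear hlin x y)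

end Cfsg.Agent.Lib.Helper31_IP_K2
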