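import Mathlib
import Cfsg.Agent.Lib.Helper77_BRDefs

/-!
# BR-KER (helper8, sub-package of helper77's S0999 / S4701 plan)

A character of degree `p - 1` with value `-1` on the `p`-singular elements of `C_G(P)` has the
`p`-regular elements of `C_G(P)` in its kernel: `e = ∑_{x ∈ P} ρ(x)` satisfies `e² = p e` and has
trace `0`, hence is `0`; taking the trace of `e ρ(y)` gives `χ(y) = p - 1`.
-/

set_option autoImplicit false
set_option linter.unusedVariables false
set_option linter.unusedSectionVars false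

namespace Cfsg.Agent.Lib.Helper8_BR_KER

open Cfsg Cfsg.Agent.Lib.Helper80_CharBasic Cfsg.Agent.Lib.Helper77_BRDefs
open scoped ComplexConjugate

universe u

variable {G : Type u} [Group G] [Fintype G] {p : ℕ} [hp : Fact p.Prime]

theorem KER (P : Sylow p G) (hP : Nat.card P = p) (χ : IrrCharacter G)
    (hdeg : (χ : G → ℂ) 1 = (p : ℂ) - 1)
    (hval : ∀ x ∈ (P : Subgroup G), x ≠ 1 → ∀ y ∈ Cen P, ¬ p ∣ orderOf y →
      (χ : G → ℂ) (x * y) = -1) :
    ∀ y ∈ Cen P, ¬ p ∣ orderOf y → (χ : G → ℂ) y = (χ : G → ℂ) 1 := by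
  classical
  obtain ⟨n, ρ, hirr, hρ⟩ := χ.2
  have hχ : ∀ g, (χ : G → ℂ) g = LinearMap.trace ℂ (Fin n → ℂ) (ρ g) := by
    intro g
    rw [← hρ]
    rfl
  have hp1 : 1 ≤ p := hp.out.one_lt.le
  have hpC : (p : ℂ) ≠ 0 := by exact_mod_cast (by omega : p ≠ 0)
  -- the elements of `P` as a finset
  obtain ⟨S, hS⟩ : ∃ S : Finset G, S = Finset.univ.filter (fun x => x ∈ (P : Subgroup G)) :=
    ⟨_, rfl⟩
  have hmemS : ∀ x, x ∈ S ↔ x ∈ (P : Subgroup G) := by
    intro x
    rw [hS, Finset.mem_filter]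
    simp
  have hScard : S.card = p := by
    rw [← hP, Nat.card_eq_fintype_card, Fintype.card_subtype, hS]
  have h1S : (1 : G) ∈ S := (hmemS 1).2 (Subgroup.one_mem _)
  have hreg1 : ¬ p ∣ orderOf (1 : G) := by
    rw [orderOf_one, Nat.dvd_one]
    exact hp.out.ne_one
  obtain ⟨e, he⟩ : ∃ e : Module.End ℂ (Fin n → ℂ), e = ∑ x ∈ S, ρ x := ⟨_, rfl⟩
  -- `ρ(x₀) e = e`
  have ha : ∀ x₀ ∈ S, ρ x₀ * e = e := by
    intro x₀ hx₀
    rw [he, Finset.mul_sum]
    simp_rw [← map_mul]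
    refine Finset.sum_bij (fun x _ => x₀ * x) ?_ ?_ ?_ ?_
    · intro x hx
      exact (hmemS _).2 (Subgroup.mul_mem _ ((hmemS _).1 hx₀) ((hmemS _).1 hx))
    · intro x _ x' _ h
      exact mul_left_cancel h
    · intro z hz
      refine ⟨x₀⁻¹ * z, (hmemS _).2 (Subgroup.mul_mem _ (Subgroup.inv_mem _ ((hmemS _).1 hx₀))
        ((hmemS _).1 hz)), ?_⟩
      rw [mul_inv_cancel_left]
    · intro x _
      rfl
  have hb : e * e = (p : ℂ) • e := by
    have h1 : e * e = ∑ x ∈ S, ρ x * e := by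
      conv_lhs => rw [he]
      rw [Finset.sum_mul, ← he]
    rw [h1, Finset.sum_congr rfl ha, Finset.sum_const, hScard, Nat.cast_smul_eq_nsmul]
  -- the trace of `e`
  have hvalP : ∀ x ∈ S.erase 1, (χ : G → ℂ) x = -1 := by
    intro x hx
    have h1 := hval x ((hmemS x).1 (Finset.mem_of_mem_erase hx)) (Finset.ne_of_mem_erase hx) 1
      (Subgroup.one_mem _) hreg1
    rwa [mul_one] at h1
  have hcardE : ((S.erase 1).card : ℂ) = (p : ℂ) - 1 := by
    rw [Finset.card_erase_of_mem h1S, hScard, Nat.cast_sub hp1]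
    simp
  have htr : LinearMap.trace ℂ (Fin n → ℂ) e = 0 := by
    rw [he, map_sum]
    simp_rw [← hχ]
    rw [← Finset.add_sum_erase S _ h1S, hdeg, Finset.sum_congr rfl hvalP, Finset.sum_const,
      nsmul_eq_mul, hcardE]
    ring
  have hidem : IsIdempotentElem ((p : ℂ)⁻¹ • e) := by
    unfold IsIdempotentElem
    rw [smul_mul_smul_comm, hb, smul_smul, mul_assoc, inv_mul_cancel₀ hpC, mul_one]
  have he0 : (p : ℂ)⁻¹ • e = 0 :=
    LinearMap.IsIdempotentElem.eq_zero_of_trace_eq_zero hidem (by rw [map_smul, htr, smul_zero])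
  have he0' : e = 0 := by
    rcases smul_eq_zero.1 he0 with h | h
    · exact absurd h (inv_ne_zero hpC)
    · exact h
  -- the trace of `e ρ(y)`
  intro y hy hyp
  have h1 : LinearMap.trace ℂ (Fin n → ℂ) (e * ρ y) = 0 := by
    rw [he0', zero_mul, map_zero]
  rw [he, Finset.sum_mul, map_sum] at h1
  simp_rw [← map_mul, ← hχ] at h1
  rw [← Finset.add_sum_erase S _ h1S, one_mul] at h1
  have hvalPy : ∀ x ∈ S.erase 1, (χ : G → ℂ) (x * y) = -1 := by
    intro x hx
    exact hval x ((hmemS x).1 (Finset.mem_of_mem_erase hx)) (Finset.ne_of_mem_erase hx) y hy hyp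
  rw [Finset.sum_congr rfl hvalPy, Finset.sum_const, nsmul_eq_mul, hcardE] at h1
  rw [hdeg]
  linear_combination h1

end Cfsg.Agent.Lib.Helper8_BR_KER
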