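import Mathlib
import Cfsg.Prelude.Def_Characters
import Cfsg.Prelude.Def_Blocks
import Cfsg.Prelude.Def_Solvable
import Cfsg.Prelude.Def_CaseTheorems
import Cfsg.Agent.Lib.Helper3_CharComplete
import Cfsg.Agent.Lib.Helper80_CharBasic
import Cfsg.Agent.Lib.Helper16_B43Defs
import Cfsg.Agent.Lib.Helper3_BFDefs
import Cfsg.Agent.Lib.Helper8_BR_KER
import Cfsg.Agent.Lib.Helper76_GalConj

/-!
# S4700 package KER (helper3's market): a character of degree `p - 1` with value `-1` on the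
`p`-singular elements of `C_G(P)` forces `C_G(P) = P` when `O_{p'}(G) = 1`.
-/

set_option autoImplicit false

namespace Cfsg.Agent.Lib.Helper32_BF_KER

open Cfsg Cfsg.Agent.Lib.Helper3_BFDefs Cfsg.Agent.Lib.Helper16_B43Defs
  Cfsg.Agent.Lib.Helper80_CharBasic Cfsg.Agent.Lib.Helper3_CharComplete
open scoped ComplexConjugate

universe u

section grp

variable {G : Type u} [Group G]

/-- A normal subgroup meeting a Sylow `p`-subgroup trivially has order prime to `p`. -/
theorem coprime_card_of_inf_sylow_eq_bot [Finite G] {p : ℕ} [Fact p.Prime] (P : Sylow p G)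
    (K : Subgroup G) [K.Normal] (h : K ⊓ (P : Subgroup G) = ⊥) : (Nat.card K).Coprime p := by
  have hp : p.Prime := Fact.out
  rw [Nat.coprime_comm, hp.coprime_iff_not_dvd]
  intro hdvd
  obtain ⟨k, hk⟩ := exists_prime_orderOf_dvd_card' p hdvd
  -- `k : K` of order `p`
  have hkG : orderOf (k : G) = p := by rw [Subgroup.orderOf_coe]; exact hk
  have hpg : IsPGroup p (Subgroup.zpowers (k : G)) :=
    IsPGroup.of_card (n := 1) (by rw [Nat.card_zpowers, hkG, pow_one])
  obtain ⟨Q, hQ⟩ := hpg.exists_le_sylow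
  obtain ⟨g, rfl⟩ := MulAction.exists_smul_eq G Q P
  -- `g k g⁻¹ ∈ P ∩ K`
  have h1 : g * (k : G) * g⁻¹ ∈ ((g • Q : Sylow p G) : Subgroup G) := by
    rw [Sylow.coe_subgroup_smul]
    have : g * (k : G) * g⁻¹ = MulAut.conj g • (k : G) := rfl
    rw [this, Subgroup.smul_mem_pointwise_smul_iff]
    exact hQ (Subgroup.mem_zpowers _)
  have h2 : g * (k : G) * g⁻¹ ∈ K := ‹K.Normal›.conj_mem _ k.2 g
  have h3 : g * (k : G) * g⁻¹ ∈ K ⊓ ((g • Q : Sylow p G) : Subgroup G) := ⟨h2, h1⟩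
  rw [h, Subgroup.mem_bot] at h3
  have h4 : (k : G) = 1 := by
    have := congrArg (fun t => g⁻¹ * t * g) h3
    simpa [mul_assoc] using this
  rw [h4, orderOf_one] at hkG
  exact hp.one_lt.ne hkG

/-- **PK-KER**. -/
theorem cent_le_of_ker [Fintype G] {p : ℕ} [Fact p.Prime] (hcore : pPrimeCore p G = ⊥)
    (P : Sylow p G) (hP : Nat.card P = p) (χ : IrrCharacter G)
    (hdeg : charDegree (χ : G → ℂ) = p - 1)
    (hval : ∀ x ∈ (P : Subgroup G), x ≠ 1 →
      ∀ y ∈ Subgroup.centralizer ((P : Subgroup G) : Set G), ¬ p ∣ orderOf y →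
        (χ : G → ℂ) (x * y) = -1) :
    ∀ c ∈ Subgroup.centralizer ((P : Subgroup G) : Set G), c ∈ (P : Subgroup G) := by
  classical
  have hp : p.Prime := Fact.out
  have hp1 : 1 ≤ p := hp.one_lt.le
  have hχ1 : (χ : G → ℂ) 1 = (p : ℂ) - 1 := by
    rw [Cfsg.Agent.Lib.Helper76_GalConj.irr_one_eq_charDegree, hdeg]
    push_cast [hp1]
    ring
  have hker := Cfsg.Agent.Lib.Helper8_BR_KER.KER P hP χ hχ1 hval
  -- the kernel of `χ`
  have hreg1 : ¬ p ∣ orderOf (1 : G) := by
    rw [orderOf_one, Nat.dvd_one]; exact hp.ne_one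
  have hKP : Cfsg.Agent.Lib.Helper76_GalConj.kerC χ ⊓ (P : Subgroup G) = ⊥ := by
    rw [eq_bot_iff]
    rintro x ⟨hxK, hxP⟩
    rw [Subgroup.mem_bot]
    by_contra hx1
    have h1 := hval x hxP hx1 1 (Subgroup.one_mem _) hreg1
    rw [mul_one] at h1
    have h2 := (Cfsg.Agent.Lib.Helper76_GalConj.mem_kerC χ x).1 hxK
    rw [h1, hχ1] at h2
    have hp0 : (p : ℂ) = 0 := by linear_combination -h2
    have : p = 0 := by exact_mod_cast hp0
    omega
  have hKcop := coprime_card_of_inf_sylow_eq_bot P (Cfsg.Agent.Lib.Helper76_GalConj.kerC χ) hKP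
  have hKbot : Cfsg.Agent.Lib.Helper76_GalConj.kerC χ = ⊥ := by
    rw [eq_bot_iff, ← hcore]
    unfold pPrimeCore
    exact le_sSup ⟨inferInstance, hKcop⟩
  -- every `p`-regular element of `C_G(P)` is trivial
  have hregC : ∀ y ∈ Subgroup.centralizer ((P : Subgroup G) : Set G), ¬ p ∣ orderOf y → y = 1 := by
    intro y hy hyp
    have h1 := hker y hy hyp
    have h2 : y ∈ Cfsg.Agent.Lib.Helper76_GalConj.kerC χ :=
      (Cfsg.Agent.Lib.Helper76_GalConj.mem_kerC χ y).2 h1
    rw [hKbot, Subgroup.mem_bot] at h2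
    exact h2
  -- `C_G(P)` is a `p`-group
  have hCp : IsPGroup p (Subgroup.centralizer ((P : Subgroup G) : Set G)) := by
    intro c
    have hc0 : orderOf (c : G) ≠ 0 := (orderOf_pos (c : G)).ne'
    obtain ⟨a, m, hm, hcm⟩ := Nat.exists_eq_pow_mul_and_not_dvd hc0 p hp.ne_one
    refine ⟨a, ?_⟩
    have hy : (c : G) ^ (p ^ a) ∈ Subgroup.centralizer ((P : Subgroup G) : Set G) :=
      Subgroup.pow_mem _ c.2 _
    have hord : orderOf ((c : G) ^ (p ^ a)) = m := by
      rw [orderOf_pow' _ (pow_ne_zero _ hp.ne_zero), hcm, Nat.gcd_eq_right (Dvd.intro _ rfl)]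
      exact Nat.mul_div_cancel_left _ (pow_pos hp.pos _)
    have h1 := hregC _ hy (by rw [hord]; exact hm)
    exact Subtype.ext (by simpa using h1)
  -- `P ⊔ C_G(P)` is a `p`-group containing `P`
  have hnorm : Subgroup.centralizer ((P : Subgroup G) : Set G) ≤ Subgroup.normalizer ((P : Subgroup G) : Set G) :=
    Subgroup.centralizer_le_normalizer _
  have hsup : IsPGroup p ((Subgroup.centralizer ((P : Subgroup G) : Set G)) ⊔ (P : Subgroup G) : Subgroup G) :=
    IsPGroup.to_sup_of_normal_right' hCp P.2 hnorm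
  have heq := P.is_maximal' hsup le_sup_right
  intro c hc
  rw [← heq]
  exact Subgroup.mem_sup_left hc

end grp

end Cfsg.Agent.Lib.Helper32_BF_KER
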