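import Mathlib
import Cfsg.Agent.Lib.Helper3_BFDefs

/-!
# S4700: `rank_arith_strong` (helper3)

The package RANK (`Helper59_BF_RANK.rank_arith`) with a stronger last clause:
finite-sum arithmetic on `FData0` + `Shape`: the multiplicities `c χ = ⟨1_N^G, χ⟩` satisfy
`∑ c² = n + 1`, and `n + 1 < p`, `5 ≤ p`, `(n + 1) ∣ p - 1 → 2 n + 3 ≤ p ∧ e (n + 1) ≤ p - 1`
(the last inequality gives `|G| < p³`, so that S4701 applies).
-/

set_option autoImplicit false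

namespace Cfsg.Agent.Lib.Helper3_BF_RANK

open Cfsg Cfsg.Agent.Lib.Helper3_BFDefs

theorem ident1 (p e t n s r A : ℤ) (H1 : e = 1 + s + r) (H2 : e * t = p - 1) (hr : r = s * n)
    (E3 : 1 + s * (1 + n * p) ^ 2 + r * (p - 1) ^ 2 + t * e ^ 2 + p ^ 2 * A = p * e * (1 + n * p)) :
    p ^ 2 * A = p ^ 2 * n := by
  subst hr H1
  have hp : p = (1 + s + s * n) * t + 1 := by linarith
  subst hp
  linear_combination E3

theorem ident2 (p e t n s r a A : ℤ) (H1 : e = 1 + s + r) (H2 : e * t = p - 1)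
    (hr : r = s * n + a) (H3 : t * a = n + 1)
    (E3 : 1 + s * (1 + n * p) ^ 2 + r * (p - 1) ^ 2 + t * (p * a - e) ^ 2 + p ^ 2 * A =
      p * e * (1 + n * p)) : p ^ 2 * A = p ^ 2 * n := by
  have hn : n = t * a - 1 := by linarith
  subst hn
  subst hr H1
  have hp : p = (1 + s + (s * (t * a - 1) + a)) * t + 1 := by linarith
  subst hp
  linear_combination E3

theorem sum_splitX {ι M : Type*} [DecidableEq ι] [AddCommMonoid M] (X : Finset ι)
    (one : ι) (hone : one ∈ X) (q : ι → Prop) [DecidablePred q] (f : ι → M) :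
    ∑ χ ∈ X, f χ = f one + ∑ χ ∈ (X.erase one).filter q, f χ +
      ∑ χ ∈ (X.erase one).filter (fun χ => ¬ q χ), f χ := by
  rw [← Finset.add_sum_erase X f hone,
    ← Finset.sum_filter_add_sum_filter_not (X.erase one) q f, add_assoc]

theorem sum_split {ι M : Type*} [Fintype ι] [DecidableEq ι] [AddCommMonoid M] (X Y : Finset ι)
    (one : ι) (hone : one ∈ X) (hdisj : Disjoint X Y) (q : ι → Prop) [DecidablePred q]
    (f : ι → M) :
    ∑ χ, f χ = f one + ∑ χ ∈ (X.erase one).filter q, f χ +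
      ∑ χ ∈ (X.erase one).filter (fun χ => ¬ q χ), f χ + ∑ χ ∈ Y, f χ +
        ∑ χ ∈ (X ∪ Y)ᶜ, f χ := by
  rw [← Finset.sum_add_sum_compl (X ∪ Y) f, Finset.sum_union hdisj, sum_splitX X one hone q f]

theorem sum_const_of {ι : Type*} (S : Finset ι) (f : ι → ℤ) (v : ℤ) (h : ∀ χ ∈ S, f χ = v) :
    ∑ χ ∈ S, f χ = S.card * v := by
  rw [Finset.sum_congr rfl h, Finset.sum_const, nsmul_eq_mul]

theorem sum_mul_of {ι : Type*} (S : Finset ι) (f g : ι → ℤ) (v : ℤ)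
    (h : ∀ χ ∈ S, f χ = v * g χ) : ∑ χ ∈ S, f χ = v * ∑ χ ∈ S, g χ := by
  rw [Finset.sum_congr rfl h, Finset.mul_sum]

/-- The decomposition of the index set under `Shape`. -/
theorem exists_parts {p e t n : ℕ} {ι : Type*} [Fintype ι] [DecidableEq ι] (hp : p.Prime)
    (D : FData0 p e t n ι) (hS : D.Shape)
    (hout : ∀ χ, χ ∉ D.X → χ ∉ D.Y → D.deg χ = p * D.m1 χ) :
    ∃ (Xp Xm Z : Finset ι) (a : ℕ),
      (∀ f : ι → ℤ, ∑ χ, f χ =
        f D.one + ∑ χ ∈ Xp, f χ + ∑ χ ∈ Xm, f χ + ∑ χ ∈ D.Y, f χ + ∑ χ ∈ Z, f χ) ∧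
      (∀ f : ι → ℤ, ∑ χ ∈ D.X, f χ = f D.one + ∑ χ ∈ Xp, f χ + ∑ χ ∈ Xm, f χ) ∧
      e = 1 + Xp.card + Xm.card ∧ D.m1 D.one = 1 ∧
      (∀ χ ∈ Xp, D.δ χ = 1 ∧ D.m1 χ = n + 1 ∧ (D.deg χ : ℤ) = 1 + n * p) ∧
      (∀ χ ∈ Xm, D.δ χ = -1 ∧ D.m1 χ = 0 ∧ (D.deg χ : ℤ) = p - 1) ∧
      (∀ χ ∈ D.Y, D.m1 χ = a ∧ (D.deg χ : ℤ) = p * a + D.ε * e) ∧
      (∀ χ ∈ Z, (D.deg χ : ℤ) = p * D.m1 χ) ∧
      ((D.ε = 1 ∧ a = 0) ∨ (D.ε = -1 ∧ t * a = n + 1)) ∧ D.Y.Nonempty := by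
  classical
  obtain ⟨hSX, hSY, -⟩ := hS
  have hp2 : 2 ≤ p := hp.two_le
  have het := D.het
  have ht1 : 1 ≤ t := by
    rcases Nat.eq_zero_or_pos t with h | h
    · rw [h, mul_zero] at het; omega
    · exact h
  have hp0 : (p : ℤ) ≠ 0 := by exact_mod_cast (by omega : p ≠ 0)
  have hYne : D.Y.Nonempty := by rw [← Finset.card_pos, D.hYcard]; exact ht1
  obtain ⟨θ0, hθ0⟩ := hYne
  obtain ⟨a, hYa, hcase⟩ : ∃ a : ℕ, (∀ θ ∈ D.Y, D.m1 θ = a) ∧
      ((D.ε = 1 ∧ a = 0) ∨ (D.ε = -1 ∧ t * a = n + 1)) := by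
    rcases hSY with ⟨hε, h⟩ | ⟨hε, h⟩
    · exact ⟨0, h, Or.inl ⟨hε, rfl⟩⟩
    · refine ⟨D.m1 θ0, fun θ hθ => ?_, Or.inr ⟨hε, (h θ0 hθ0).symm⟩⟩
      have h1 := h θ hθ
      have h2 := h θ0 hθ0
      have : t * D.m1 θ = t * D.m1 θ0 := by rw [← h1, ← h2]
      exact Nat.eq_of_mul_eq_mul_left ht1 this
  refine ⟨(D.X.erase D.one).filter (fun χ => D.δ χ = 1),
    (D.X.erase D.one).filter (fun χ => ¬ D.δ χ = 1), (D.X ∪ D.Y)ᶜ, a,
    fun f => sum_split D.X D.Y D.one D.hone D.hdisj (fun χ => D.δ χ = 1) f,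
    fun f => sum_splitX D.X D.one D.hone (fun χ => D.δ χ = 1) f, ?_, ?_, ?_, ?_, ?_, ?_,
    hcase, ⟨θ0, hθ0⟩⟩
  · have h1 := Finset.card_filter_add_card_filter_not (s := D.X.erase D.one)
      (fun χ => D.δ χ = 1)
    have h2 := Finset.card_erase_of_mem D.hone
    rw [D.hXcard] at h2
    have he2 := D.he2
    omega
  · have h := D.hdegX D.one D.hone
    rw [D.hdegone, D.hδone] at h
    have h2 : (p : ℤ) * D.m1 D.one = p * 1 := by push_cast at h; linarith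
    exact_mod_cast mul_left_cancel₀ hp0 h2
  · intro χ hχ
    rw [Finset.mem_filter, Finset.mem_erase] at hχ
    obtain ⟨⟨hne, hX⟩, hδ⟩ := hχ
    have hm : D.m1 χ = n + 1 := by
      rcases hSX χ hX hne with ⟨_, h⟩ | ⟨h, _⟩
      · exact h
      · rw [hδ] at h; norm_num at h
    refine ⟨hδ, hm, ?_⟩
    have h := D.hdegX χ hX
    rw [hδ, hm] at h
    rw [h]; push_cast; ring
  · intro χ hχ
    rw [Finset.mem_filter, Finset.mem_erase] at hχ
    obtain ⟨⟨hne, hX⟩, hδ1⟩ := hχ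
    have hδ : D.δ χ = -1 := by
      rcases D.hδ χ hX with h | h
      · exact absurd h hδ1
      · exact h
    have hm : D.m1 χ = 0 := by
      rcases hSX χ hX hne with ⟨h, _⟩ | ⟨_, h⟩
      · rw [hδ] at h; norm_num at h
      · exact h
    refine ⟨hδ, hm, ?_⟩
    have h := D.hdegX χ hX
    rw [hδ, hm] at h
    rw [h]; push_cast; ring
  · intro θ hθ
    refine ⟨hYa θ hθ, ?_⟩
    rw [D.hdegY θ hθ, hYa θ hθ]
  · intro χ hχ
    rw [Finset.mem_compl, Finset.mem_union, not_or] at hχ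
    rw [hout χ hχ.1 hχ.2, Nat.cast_mul]

/-- The bounds in the case `ε = 1`. -/
theorem bounds1 {p e t n sN : ℕ} (hp : p.Prime) (het : e * t = p - 1) (he2 : 2 ≤ e)
    (hn1 : 1 ≤ n) (he' : e = 1 + sN * (n + 1)) :
    n + 1 < p ∧ 5 ≤ p ∧ ((n + 1) ∣ (p - 1) → 2 * n + 3 ≤ p ∧ e * (n + 1) ≤ p - 1) := by
  have hp2 : 2 ≤ p := hp.two_le
  have ht1 : 1 ≤ t := by
    rcases Nat.eq_zero_or_pos t with h | h
    · rw [h, mul_zero] at het; omega
    · exact h
  have hele : e ≤ p - 1 := by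
    rw [← het]; exact Nat.le_mul_of_pos_right e ht1
  have hp4 : p ≠ 4 := by
    rintro rfl
    norm_num at hp
  have hs1 : 1 ≤ sN := by
    rcases Nat.eq_zero_or_pos sN with h | h
    · rw [h] at he'; omega
    · exact h
  have hle : n + 1 ≤ sN * (n + 1) := Nat.le_mul_of_pos_left _ hs1
  refine ⟨by omega, ?_, ?_⟩
  · have : 3 ≤ e * t := by
      calc 3 ≤ e := by omega
        _ ≤ e * t := Nat.le_mul_of_pos_right e ht1
    omega
  · intro hdvd
    have hcop : Nat.Coprime (n + 1) e := by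
      rw [he']
      exact (Nat.coprime_add_mul_right_right (n + 1) 1 sN).mpr (Nat.coprime_one_right _)
    have hdvd' : (n + 1) ∣ e * t := by rw [het]; exact hdvd
    have hdt : (n + 1) ∣ t := hcop.dvd_of_dvd_mul_left hdvd'
    have hlt : n + 1 ≤ t := Nat.le_of_dvd ht1 hdt
    have : 2 * (n + 1) ≤ e * t := Nat.mul_le_mul he2 hlt
    have h3 : e * (n + 1) ≤ e * t := Nat.mul_le_mul_left e hlt
    refine ⟨by omega, ?_⟩
    rw [← het]; exact h3

/-- The bounds in the case `ε = -1`. -/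
theorem bounds2 {p e t n sN a : ℕ} (hp : p.Prime) (het : e * t = p - 1) (he2 : 2 ≤ e)
    (hn1 : 1 ≤ n) (he' : e = 1 + sN * (n + 1) + a) (ha : t * a = n + 1) :
    n + 1 < p ∧ 5 ≤ p ∧ ((n + 1) ∣ (p - 1) → 2 * n + 3 ≤ p ∧ e * (n + 1) ≤ p - 1) := by
  have hp2 : 2 ≤ p := hp.two_le
  have ht1 : 1 ≤ t := by
    rcases Nat.eq_zero_or_pos t with h | h
    · rw [h, mul_zero] at het; omega
    · exact h
  have hp4 : p ≠ 4 := by
    rintro rfl
    norm_num at hp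
  have ha1 : 1 ≤ a := by
    rcases Nat.eq_zero_or_pos a with h | h
    · rw [h, mul_zero] at ha; omega
    · exact h
  have hale : a ≤ e - 1 := by omega
  have hnle : n + 1 ≤ t * (e - 1) := by rw [← ha]; exact Nat.mul_le_mul_left t hale
  have hte : t * (e - 1) + t = p - 1 := by
    rw [← het]
    obtain ⟨e', rfl⟩ : ∃ e', e = e' + 1 := ⟨e - 1, by omega⟩
    rw [Nat.add_sub_cancel]
    ring
  refine ⟨by omega, ?_, ?_⟩
  · by_cases h3 : 3 ≤ e
    · have : 3 ≤ e * t := by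
        calc 3 ≤ e := h3
          _ ≤ e * t := Nat.le_mul_of_pos_right e ht1
      omega
    · have he2' : e = 2 := by omega
      have hs0' : sN = 0 := by
        rcases Nat.eq_zero_or_pos sN with h | h
        · exact h
        · have : n + 1 ≤ sN * (n + 1) := Nat.le_mul_of_pos_left _ h
          omega
      have ha' : a = 1 := by rw [hs0'] at he'; omega
      rw [ha', mul_one] at ha
      have : 4 ≤ e * t := by rw [he2', ha]; omega
      omega
  · intro hdvd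
    have hdvd' : t * a ∣ t * e := by rw [ha, mul_comm t e, het]; exact hdvd
    have hae : a ∣ e := Nat.dvd_of_mul_dvd_mul_left ht1 hdvd'
    have hae1 : a ∣ e - 1 := by
      have : e - 1 = a * (sN * t + 1) := by
        have : e - 1 = sN * (n + 1) + a := by omega
        rw [this, ← ha]; ring
      rw [this]; exact dvd_mul_right _ _
    have ha' : a = 1 := by
      have h := Nat.dvd_sub hae hae1
      have : e - (e - 1) = 1 := by omega
      rw [this] at h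
      exact Nat.dvd_one.mp h
    rw [ha', mul_one] at ha
    have : 2 * (n + 1) ≤ e * t := by rw [ha]; exact Nat.mul_le_mul_right _ he2
    refine ⟨by omega, ?_⟩
    rw [← het, ha]

theorem cp_zero {n a cp cY W : ℤ} (hn0 : 0 ≤ n) (ha0 : 0 ≤ a) (hcp0 : 0 ≤ cp) (hcY0 : 0 ≤ cY)
    (hW0 : 0 ≤ W) (E4 : 1 + (n + 1) * cp + a * cY + W = n + 1) : cp = 0 := by
  by_contra hne
  have h1 : 1 ≤ cp := by omega
  nlinarith [mul_nonneg ha0 hcY0]

theorem cY_zero {e ε cY : ℤ} (he0 : e ≠ 0) (hε : ε = 1 ∨ ε = -1) (h : ε * e * cY = 0) :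
    cY = 0 := by
  rcases hε with h' | h'
  · rw [h', one_mul] at h
    rcases mul_eq_zero.mp h with h'' | h''
    · exact absurd h'' he0
    · exact h''
  · rw [h'] at h
    have : e * cY = 0 := by linarith
    rcases mul_eq_zero.mp this with h'' | h''
    · exact absurd h'' he0
    · exact h''

theorem r_eq {p e n s r a ε d : ℤ} (hp0 : p ≠ 0) (hε : ε = 1 ∨ ε = -1) (hd : d = p * a + ε * e)
    (hcard : e = 1 + s + r) (E2 : 1 + s * (1 + n * p) - r * (p - 1) = ε * d) :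
    r = s * n - ε * a := by
  have hε2 : ε * ε = 1 := by rcases hε with h | h <;> rw [h] <;> norm_num
  have h : p * r = p * (s * n - ε * a) := by
    rw [hd] at E2
    have : ε * (p * a + ε * e) = ε * p * a + (ε * ε) * e := by ring
    rw [this, hε2] at E2
    linear_combination (-1 : ℤ) * E2 - hcard
  exact mul_left_cancel₀ hp0 h

set_option maxHeartbeats 1000000 in
theorem rank_arith_strong {p e t n : ℕ} {ι : Type*} [Fintype ι] [DecidableEq ι] (hp : p.Prime)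
    (D : FData0 p e t n ι) (hS : D.Shape)
    (hout : ∀ χ, χ ∉ D.X → χ ∉ D.Y → D.deg χ = p * D.m1 χ)
    (hsq : ∑ χ, D.deg χ ^ 2 = p * e * (1 + n * p))
    (c : ι → ℕ) (hcle : ∀ χ, c χ ≤ D.m1 χ) (hcone : c D.one = 1)
    (hcm : ∑ χ, c χ * D.m1 χ = n + 1) (hcdeg : ∑ χ, c χ * D.deg χ = 1 + n * p) :
    ∑ χ, c χ ^ 2 = n + 1 ∧ n + 1 < p ∧ 5 ≤ p ∧
      ((n + 1) ∣ (p - 1) → 2 * n + 3 ≤ p ∧ e * (n + 1) ≤ p - 1) := by
  classical
  obtain ⟨Xp, Xm, Z, a, hsplit, hsplitX, hcardN, hm1one, hXp, hXm, hY, hZ, hcase, ⟨θ0, hθ0⟩⟩ :=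
    exists_parts hp D hS hout
  have hp2 : 2 ≤ p := hp.two_le
  have het := D.het
  have he2 := D.he2
  have hn1 := D.hn1
  have hp0 : (p : ℤ) ≠ 0 := by exact_mod_cast (by omega : p ≠ 0)
  have hetZ : (e : ℤ) * t = p - 1 := by
    have : ((e * t : ℕ) : ℤ) = ((p - 1 : ℕ) : ℤ) := by rw [het]
    rw [Nat.cast_sub (by omega : 1 ≤ p)] at this
    push_cast at this
    exact this
  obtain ⟨s, hs⟩ : ∃ s : ℤ, s = (Xp.card : ℤ) := ⟨_, rfl⟩
  obtain ⟨r, hr⟩ : ∃ r : ℤ, r = (Xm.card : ℤ) := ⟨_, rfl⟩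
  have hcard : (e : ℤ) = 1 + s + r := by
    rw [hs, hr]; exact_mod_cast hcardN
  obtain ⟨d, hd⟩ : ∃ d : ℤ, d = p * a + D.ε * e := ⟨_, rfl⟩
  -- E2 : the degree relation
  have E2 : 1 + s * (1 + n * p) - r * (p - 1) = D.ε * d := by
    have h := D.hrel θ0 hθ0
    rw [(hY θ0 hθ0).2, ← hd, hsplitX, D.hδone, D.hdegone,
      sum_const_of Xp _ (1 + n * p) (fun χ hχ => by
        rw [(hXp χ hχ).1, (hXp χ hχ).2.2, one_mul]),
      sum_const_of Xm _ (-((p : ℤ) - 1)) (fun χ hχ => by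
        rw [(hXm χ hχ).1, (hXm χ hχ).2.2]; ring), ← hs, ← hr] at h
    push_cast at h
    linear_combination h
  -- E3 : the sum of squares
  obtain ⟨A, hA⟩ : ∃ A : ℤ, A = ∑ χ ∈ Z, (D.m1 χ : ℤ) ^ 2 := ⟨_, rfl⟩
  have E3 : 1 + s * (1 + n * p) ^ 2 + r * (p - 1) ^ 2 + t * d ^ 2 + p ^ 2 * A =
      p * e * (1 + n * p) := by
    have h : ∑ χ, (D.deg χ : ℤ) ^ 2 = p * e * (1 + n * p) := by exact_mod_cast hsq
    rw [hsplit, D.hdegone,
      sum_const_of Xp _ ((1 + n * p) ^ 2) (fun χ hχ => by rw [(hXp χ hχ).2.2]),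
      sum_const_of Xm _ (((p : ℤ) - 1) ^ 2) (fun χ hχ => by rw [(hXm χ hχ).2.2]),
      sum_const_of D.Y _ (d ^ 2) (fun χ hχ => by rw [(hY χ hχ).2, hd]), D.hYcard,
      sum_mul_of Z _ (fun χ => (D.m1 χ : ℤ) ^ 2) ((p : ℤ) ^ 2) (fun χ hχ => by
        rw [hZ χ hχ, mul_pow]), ← hA, ← hs, ← hr] at h
    push_cast at h
    linear_combination h
  -- the multiplicities
  obtain ⟨cp, hcp⟩ : ∃ cp : ℤ, cp = ∑ χ ∈ Xp, (c χ : ℤ) := ⟨_, rfl⟩
  obtain ⟨cY, hcY⟩ : ∃ cY : ℤ, cY = ∑ χ ∈ D.Y, (c χ : ℤ) := ⟨_, rfl⟩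
  obtain ⟨W, hW⟩ : ∃ W : ℤ, W = ∑ χ ∈ Z, (c χ : ℤ) * (D.m1 χ : ℤ) := ⟨_, rfl⟩
  have hcp0 : 0 ≤ cp := by rw [hcp]; exact Finset.sum_nonneg fun χ _ => by positivity
  have hcY0 : 0 ≤ cY := by rw [hcY]; exact Finset.sum_nonneg fun χ _ => by positivity
  have hW0 : 0 ≤ W := by rw [hW]; exact Finset.sum_nonneg fun χ _ => by positivity
  have hcXm : ∀ χ ∈ Xm, c χ = 0 := by
    intro χ hχ
    have := hcle χ
    rw [(hXm χ hχ).2.1] at this
    omega
  have E4 : 1 + (n + 1) * cp + a * cY + W = n + 1 := by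
    have h : ∑ χ, (c χ : ℤ) * (D.m1 χ : ℤ) = n + 1 := by exact_mod_cast hcm
    rw [hsplit, hcone, hm1one,
      sum_mul_of Xp _ (fun χ => (c χ : ℤ)) ((n : ℤ) + 1) (fun χ hχ => by
        rw [(hXp χ hχ).2.1]; push_cast; ring),
      Finset.sum_eq_zero (s := Xm) (fun χ hχ => by rw [(hXm χ hχ).2.1]; push_cast; ring),
      sum_mul_of D.Y _ (fun χ => (c χ : ℤ)) (a : ℤ) (fun χ hχ => by
        rw [(hY χ hχ).1]; ring), ← hcp, ← hcY, ← hW] at h
    push_cast at h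
    linear_combination h
  have E5 : 1 + (1 + n * p) * cp + d * cY + p * W = 1 + n * p := by
    have h : ∑ χ, (c χ : ℤ) * (D.deg χ : ℤ) = 1 + n * p := by exact_mod_cast hcdeg
    rw [hsplit, hcone, D.hdegone,
      sum_mul_of Xp _ (fun χ => (c χ : ℤ)) (1 + (n : ℤ) * p) (fun χ hχ => by
        rw [(hXp χ hχ).2.2]; ring),
      Finset.sum_eq_zero (s := Xm) (fun χ hχ => by rw [hcXm χ hχ]; push_cast; ring),
      sum_mul_of D.Y _ (fun χ => (c χ : ℤ)) d (fun χ hχ => by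
        rw [(hY χ hχ).2, hd]; ring),
      sum_mul_of Z _ (fun χ => (c χ : ℤ) * (D.m1 χ : ℤ)) (p : ℤ) (fun χ hχ => by
        rw [hZ χ hχ]; ring), ← hcp, ← hcY, ← hW] at h
    push_cast at h
    linear_combination h
  -- cp = 0
  have hcp' : cp = 0 :=
    cp_zero (by positivity) (by positivity) hcp0 hcY0 hW0 E4
  -- cY = 0
  have hεe : D.ε * e * cY = 0 := by
    rw [hcp'] at E4 E5
    rw [hd] at E5
    linear_combination E5 - p * E4
  have hcY' : cY = 0 :=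
    cY_zero (by exact_mod_cast (by omega : e ≠ 0)) D.hε hεe
  have hWn : W = n := by
    rw [hcp', hcY'] at E4
    linarith
  -- r in terms of s
  have hrs : r = s * n - D.ε * a := r_eq hp0 D.hε hd hcard E2
  -- A = n
  have hAn : A = n := by
    have hp2' : ((p : ℤ)) ^ 2 ≠ 0 := pow_ne_zero 2 hp0
    refine mul_left_cancel₀ hp2' ?_
    rcases hcase with ⟨hε, ha⟩ | ⟨hε, ha⟩
    · refine ident1 p e t n s r A hcard hetZ ?_ ?_
      · rw [hrs, hε, ha]; simp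
      · rw [hd, hε, ha] at E3
        rw [← E3]; push_cast; ring
    · have haZ : (t : ℤ) * a = n + 1 := by exact_mod_cast ha
      refine ident2 p e t n s r a A hcard hetZ ?_ haZ ?_
      · rw [hrs, hε]; ring
      · rw [hd, hε] at E3
        rw [← E3]; ring
  -- the sum of the squares of c
  have hC2 : ∑ χ ∈ Z, (c χ : ℤ) ^ 2 = n := by
    apply le_antisymm
    · rw [← hWn, hW]
      refine Finset.sum_le_sum fun χ _ => ?_
      have h1 : (c χ : ℤ) ≤ D.m1 χ := by exact_mod_cast hcle χ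
      have h0 : (0 : ℤ) ≤ c χ := by positivity
      rw [sq]
      exact mul_le_mul_of_nonneg_left h1 h0
    · have h0 : 0 ≤ ∑ χ ∈ Z, ((D.m1 χ : ℤ) - c χ) ^ 2 :=
        Finset.sum_nonneg fun χ _ => sq_nonneg _
      have h1 : ∑ χ ∈ Z, ((D.m1 χ : ℤ) - c χ) ^ 2 = A - 2 * W + ∑ χ ∈ Z, (c χ : ℤ) ^ 2 := by
        rw [hA, hW, Finset.mul_sum, ← Finset.sum_sub_distrib, ← Finset.sum_add_distrib]
        exact Finset.sum_congr rfl fun χ _ => by ring
      rw [h1, hAn, hWn] at h0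
      linarith
  have hgoal1 : ∑ χ, c χ ^ 2 = n + 1 := by
    have h : ∑ χ, (c χ : ℤ) ^ 2 = n + 1 := by
      have hXp0 : ∀ χ ∈ Xp, (c χ : ℤ) = 0 := by
        rw [hcp] at hcp'
        exact (Finset.sum_eq_zero_iff_of_nonneg (fun χ _ => by positivity)).mp hcp'
      have hY0 : ∀ χ ∈ D.Y, (c χ : ℤ) = 0 := by
        rw [hcY] at hcY'
        exact (Finset.sum_eq_zero_iff_of_nonneg (fun χ _ => by positivity)).mp hcY'
      rw [hsplit, hcone,
        Finset.sum_eq_zero (s := Xp) (fun χ hχ => by rw [hXp0 χ hχ]; norm_num),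
        Finset.sum_eq_zero (s := Xm) (fun χ hχ => by rw [hcXm χ hχ]; norm_num),
        Finset.sum_eq_zero (s := D.Y) (fun χ hχ => by rw [hY0 χ hχ]; norm_num), hC2]
      push_cast; ring
    exact_mod_cast h
  refine ⟨hgoal1, ?_⟩
  -- the bounds: back to naturals
  rcases hcase with ⟨hε, ha⟩ | ⟨hε, ha⟩
  · have hrN' : Xm.card = Xp.card * n := by
      have : (Xm.card : ℤ) = Xp.card * n := by rw [← hr, ← hs, hrs, hε, ha]; simp
      exact_mod_cast this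
    have he' : e = 1 + Xp.card * (n + 1) := by rw [hcardN, hrN']; ring
    exact bounds1 hp het he2 hn1 he'
  · have hrN' : Xm.card = Xp.card * n + a := by
      have : (Xm.card : ℤ) = Xp.card * n + a := by rw [← hr, ← hs, hrs, hε]; ring
      exact_mod_cast this
    have he' : e = 1 + Xp.card * (n + 1) + a := by rw [hcardN, hrN']; ring
    exact bounds2 hp het he2 hn1 he' ha

end Cfsg.Agent.Lib.Helper3_BF_RANK
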