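import Mathlib
import Cfsg.Agent.Lib.Helper3_BFDefs

/-!
S4700 package ARITH (architect helper3): the pure arithmetic behind Brauer's `F(p,u,h)` theorem.
`FForm p n ↔ ∃ u h ≥ 1, (u+1)(n-u) = h(up+1)`.
-/

set_option autoImplicit false

namespace Cfsg.Agent.Lib.Helper59_BF_ARITH

open Cfsg.Agent.Lib.Helper3_BFDefs

/-- plus-type core: `e (n - A) = B (A p + 1)` with `A, B ≥ 1` and `p = e t + 1` gives the `F`-form -/
theorem core_plus {p e t n A B : ℕ} (hpe : e * t + 1 = p) (he : 0 < e) (hA : 1 ≤ A) (hB : 1 ≤ B)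
    (h : e * n = e * A + B * (A * p + 1)) : FForm p n := by
  subst hpe
  have hdvd : e ∣ B * (A + 1) := by
    have h1 : e ∣ e * A + B * A * t * e + B * (A + 1) := by
      have : e * A + B * A * t * e + B * (A + 1) = e * n := by rw [h]; ring
      rw [this]; exact dvd_mul_right e n
    have h2 : e ∣ e * A + B * A * t * e :=
      dvd_add (dvd_mul_right e A) (dvd_mul_left e _)
    exact (Nat.dvd_add_right h2).1 h1
  obtain ⟨h', hh'⟩ := hdvd
  have hh'pos : 0 < h' := by
    rcases Nat.eq_zero_or_pos h' with h0 | h0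
    · subst h0
      have : 0 < B * (A + 1) := by positivity
      omega
    · exact h0
  have hn : n = A + B * A * t + h' := by
    apply Nat.eq_of_mul_eq_mul_left he
    have : e * A + B * (A * (e * t + 1) + 1) = e * A + B * A * t * e + B * (A + 1) := by ring
    rw [h, this, hh']; ring
  refine ⟨h', A, hh'pos, hA, ?_⟩
  rw [hn]
  have : (A + B * A * t + h') * (A + 1) = A ^ 2 + A + A * t * (B * (A + 1)) + h' * A + h' := by ring
  rw [this, hh']; ring

/-- minus-type core: `e (n + U) = B (U p - 1)` with `U ≥ 2`, `B ≥ 1`, `B t ≥ 2`, `p = e t + 1` gives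
the `F`-form -/
theorem core_minus {p e t n U B : ℕ} (hpe : e * t + 1 = p) (he : 0 < e) (hU : 2 ≤ U) (hB : 1 ≤ B)
    (hBt : 2 ≤ B * t) (h : e * (n + U) + B = B * U * p) : FForm p n := by
  subst hpe
  obtain ⟨U1, rfl⟩ : ∃ U1, U = U1 + 1 := ⟨U - 1, by omega⟩
  have hU1 : 1 ≤ U1 := by omega
  have hdvd : e ∣ B * U1 := by
    have h1 : e ∣ B * (U1 + 1) * t * e + B * U1 := by
      have : B * (U1 + 1) * t * e + B * U1 = e * (n + (U1 + 1)) := by
        have : B * (U1 + 1) * (e * t + 1) = B * (U1 + 1) * t * e + B * U1 + B := by ring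
        omega
      rw [this]; exact dvd_mul_right e _
    exact (Nat.dvd_add_right (dvd_mul_left e _)).1 h1
  obtain ⟨h', hh'⟩ := hdvd
  have hh'pos : 0 < h' := by
    rcases Nat.eq_zero_or_pos h' with h0 | h0
    · subst h0
      have : 0 < B * U1 := by positivity
      omega
    · exact h0
  have hn : n + U1 + 1 = B * (U1 + 1) * t + h' := by
    apply Nat.eq_of_mul_eq_mul_left he
    have h3 : B * (U1 + 1) * (e * t + 1) = B * (U1 + 1) * t * e + B * U1 + B := by ring
    have h4 : e * (B * (U1 + 1) * t + h') = B * (U1 + 1) * t * e + e * h' := by ring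
    have h5 : e * (n + U1 + 1) = e * (n + (U1 + 1)) := by ring
    rw [h4, h5, ← hh']
    omega
  obtain ⟨u', hu'⟩ : ∃ u', B * t = u' + 1 := ⟨B * t - 1, by omega⟩
  have hu'pos : 0 < u' := by omega
  refine ⟨h', u', hh'pos, hu'pos, ?_⟩
  have hnZ : (n : ℤ) = B * (U1 + 1) * t + h' - U1 - 1 := by
    have := congrArg (Nat.cast (R := ℤ)) hn
    push_cast at this
    linarith
  have huZ : (u' : ℤ) = B * t - 1 := by
    have := congrArg (Nat.cast (R := ℤ)) hu'
    push_cast at this
    linarith
  have hhZ : (B : ℤ) * U1 = e * h' := by exact_mod_cast hh'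
  zify
  rw [hnZ, huZ]
  linear_combination (((B : ℤ) * t - 1) * t) * hhZ

theorem fform_lift {p n n0 m : ℕ} (hp : 0 < p) (h0 : FForm p n0)
    (h : 1 + n * p = (1 + n0 * p) * (1 + m * p)) : FForm p n := by
  obtain ⟨h0', u, hh0, hu, key⟩ := h0
  have hn : n = m + n0 + n0 * m * p := by
    apply Nat.eq_of_mul_eq_mul_right hp
    have : (1 + n0 * p) * (1 + m * p) = 1 + (m + n0 + n0 * m * p) * p := by ring
    omega
  refine ⟨h0' + m * (u + 1 + p * h0'), u, by positivity, hu, ?_⟩
  rw [hn]
  have : (m + n0 + n0 * m * p) * (u + 1) = m * (u + 1) + n0 * (u + 1) + (n0 * (u + 1)) * m * p := by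
    ring
  rw [this, key]; ring

theorem arith_Xp {p e t n a : ℕ} (hp : p.Prime) (het : e * t = p - 1) (he2 : 2 ≤ e) (hn1 : 1 ≤ n)
    (ha : 1 ≤ a) (hdvd : a * p + 1 ∣ e * (1 + n * p)) (hF : ¬ FForm p n) : a = n := by
  have hp2 := hp.two_le
  have hpe : e * t + 1 = p := by omega
  have hep : e < p := by
    rcases Nat.eq_zero_or_pos t with h0 | h0
    · subst h0; omega
    · nlinarith
  obtain ⟨c, hc⟩ := hdvd
  -- `c ≡ e (mod p)`
  have hcmod : c % p = e := by
    have h1 : c + p * (a * c) = e + p * (e * n) := by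
      have : (a * p + 1) * c = c + p * (a * c) := by ring
      have : e * (1 + n * p) = e + p * (e * n) := by ring
      omega
    have h2 : (c + p * (a * c)) % p = c % p := Nat.add_mul_mod_self_left c p (a * c)
    have h3 : (e + p * (e * n)) % p = e % p := Nat.add_mul_mod_self_left e p (e * n)
    rw [← h2, h1, h3, Nat.mod_eq_of_lt hep]
  have hcdiv : p * (c / p) + e = c := by
    have := Nat.div_add_mod c p
    rw [hcmod] at this; exact this
  set b := c / p with hb
  -- `e n = e a + b (a p + 1)`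
  have hmain : e * n = e * a + b * (a * p + 1) := by
    apply Nat.eq_of_mul_eq_mul_left hp.pos
    have h1 : (a * p + 1) * (p * b + e) = e * (1 + n * p) := by rw [hcdiv]; exact hc.symm
    have h2 : (a * p + 1) * (p * b + e) = p * (e * a + b * (a * p + 1)) + e := by ring
    have h3 : e * (1 + n * p) = p * (e * n) + e := by ring
    omega
  rcases Nat.eq_zero_or_pos b with hb0 | hb0
  · rw [hb0, Nat.zero_mul, Nat.add_zero] at hmain
    exact (Nat.eq_of_mul_eq_mul_left (by omega) hmain).symm
  · exact absurd (core_plus hpe (by omega) ha hb0 hmain) hF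

theorem arith_Yp {p e t n a0 : ℕ} (hp : p.Prime) (het : e * t = p - 1) (he2 : 2 ≤ e) (hn1 : 1 ≤ n)
    (ha0 : 1 ≤ a0) (hdvd : a0 * p + e ∣ e * (1 + n * p)) (hF : ¬ FForm p n) :
    a0 * p + e = e * (1 + n * p) := by
  have hp2 := hp.two_le
  have hpe : e * t + 1 = p := by omega
  have hep : e < p := by
    rcases Nat.eq_zero_or_pos t with h0 | h0
    · subst h0; omega
    · nlinarith
  obtain ⟨c, hc⟩ := hdvd
  -- `c ≡ 1 (mod p)`
  have hcop : Nat.Coprime e p := by
    rw [Nat.coprime_comm]
    exact (Nat.Prime.coprime_iff_not_dvd hp).2 (Nat.not_dvd_of_pos_of_lt (by omega) hep)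
  have hcmod : c % p = 1 := by
    have h1 : e * c + p * (a0 * c) = e * 1 + p * (e * n) := by
      have : (a0 * p + e) * c = e * c + p * (a0 * c) := by ring
      have : e * (1 + n * p) = e * 1 + p * (e * n) := by ring
      omega
    have h2 : e * c ≡ e * 1 [MOD p] := by
      unfold Nat.ModEq
      rw [← Nat.add_mul_mod_self_left (e * c) p (a0 * c), h1, Nat.add_mul_mod_self_left]
    have h3 : c ≡ 1 [MOD p] := Nat.ModEq.cancel_left_of_coprime hcop.symm h2
    unfold Nat.ModEq at h3
    rw [h3, Nat.mod_eq_of_lt (by omega)]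
  have hcdiv : p * (c / p) + 1 = c := by
    have := Nat.div_add_mod c p
    rw [hcmod] at this; exact this
  set b := c / p with hb
  -- `e n = e b + a0 (b p + 1)`
  have hmain : e * n = e * b + a0 * (b * p + 1) := by
    apply Nat.eq_of_mul_eq_mul_left hp.pos
    have h1 : (a0 * p + e) * (p * b + 1) = e * (1 + n * p) := by rw [hcdiv]; exact hc.symm
    have h2 : (a0 * p + e) * (p * b + 1) = p * (e * b + a0 * (b * p + 1)) + e := by ring
    have h3 : e * (1 + n * p) = p * (e * n) + e := by ring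
    omega
  rcases Nat.eq_zero_or_pos b with hb0 | hb0
  · rw [hb0] at hmain
    have h4 : e * n = a0 := by simpa using hmain
    rw [← h4]; ring
  · exact absurd (core_plus hpe (by omega) hb0 ha0 hmain) hF

theorem arith_Xm {p e t n u : ℕ} (hp : p.Prime) (het : e * t = p - 1) (he2 : 2 ≤ e) (hn1 : 1 ≤ n)
    (hu2 : 2 ≤ u) (hdvd : u * p - 1 ∣ e * (1 + n * p)) (hF : ¬ FForm p n) :
    t = 1 ∧ u * p - 1 = e * (1 + n * p) := by
  have hp2 := hp.two_le
  have hpe : e * t + 1 = p := by omega
  have ht1 : 1 ≤ t := by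
    rcases Nat.eq_zero_or_pos t with h0 | h0
    · subst h0; omega
    · exact h0
  obtain ⟨f, hf⟩ : ∃ f, u * p = f + 1 := ⟨u * p - 1, by
    have : 4 ≤ u * p := by nlinarith
    omega⟩
  have hfe : u * p - 1 = f := by omega
  rw [hfe] at hdvd ⊢
  obtain ⟨c, hc⟩ := hdvd
  -- `c ≡ -e (mod p)`
  have h1 : p * (e * n) + (c + e) = p * (u * c) := by
    have h2 : (f + 1) * c = f * c + c := by ring
    have h3 : e * (1 + n * p) = p * (e * n) + e := by ring
    have h4 : p * (u * c) = (u * p) * c := by ring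
    rw [h4, hf, h2, ← hc, h3]; ring
  have hpd : p ∣ c + e := by
    have : p ∣ p * (e * n) + (c + e) := by rw [h1]; exact dvd_mul_right p _
    exact (Nat.dvd_add_right (dvd_mul_right p (e * n))).1 this
  obtain ⟨b, hb⟩ := hpd
  have hb1 : 1 ≤ b := by
    rcases Nat.eq_zero_or_pos b with h0 | h0
    · subst h0; omega
    · exact h0
  have huc : u * c = b + e * n := by
    apply Nat.eq_of_mul_eq_mul_left hp.pos
    rw [← h1, hb]; ring
  have hmain : e * (n + u) + b = b * u * p := by
    have h5 : u * (c + e) = b + e * n + u * e := by rw [mul_add, huc]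
    rw [hb] at h5
    have h6 : b * u * p = u * (p * b) := by ring
    rw [h6, h5]; ring
  by_cases hbt : 2 ≤ b * t
  · exact absurd (core_minus hpe (by omega) hu2 hb1 hbt hmain) hF
  · have hb' : b = 1 := by
      by_contra hne
      have : 2 ≤ b := by omega
      have : 2 * 1 ≤ b * t := Nat.mul_le_mul this ht1
      omega
    have ht' : t = 1 := by
      by_contra hne
      have : 2 ≤ t := by omega
      have : 1 * 2 ≤ b * t := Nat.mul_le_mul hb1 this
      omega
    subst hb' ht'
    have hc1 : c = 1 := by omega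
    rw [hc1, mul_one] at hc
    exact ⟨rfl, hc.symm⟩

theorem arith_Ym {p e t n a0 : ℕ} (hp : p.Prime) (het : e * t = p - 1) (he2 : 2 ≤ e) (hn1 : 1 ≤ n)
    (ha0 : 1 ≤ a0) (hpos : e < a0 * p) (hdvd : a0 * p - e ∣ e * (1 + n * p)) (hF : ¬ FForm p n) :
    n + 1 = t * a0 ∨ (a0 = 1 ∧ t = 1) := by
  have hp2 := hp.two_le
  have hpe : e * t + 1 = p := by omega
  have ht1 : 1 ≤ t := by
    rcases Nat.eq_zero_or_pos t with h0 | h0
    · subst h0; omega
    · exact h0
  have hep : e < p := by nlinarith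
  have hcop : Nat.Coprime p e :=
    (Nat.Prime.coprime_iff_not_dvd hp).2 (Nat.not_dvd_of_pos_of_lt (by omega) hep)
  obtain ⟨f, hf⟩ : ∃ f, a0 * p = f + e := ⟨a0 * p - e, by omega⟩
  have hfe : a0 * p - e = f := by omega
  rw [hfe] at hdvd
  obtain ⟨c, hc⟩ := hdvd
  -- `c ≡ -1 (mod p)`
  have h1 : p * (e * n) + e * (c + 1) = p * (a0 * c) := by
    have h2 : (f + e) * c = f * c + e * c := by ring
    have h3 : e * (1 + n * p) = p * (e * n) + e := by ring
    have h4 : p * (a0 * c) = (a0 * p) * c := by ring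
    rw [h4, hf, h2, ← hc, h3]; ring
  have hpd : p ∣ c + 1 := by
    have h5 : p ∣ p * (e * n) + e * (c + 1) := by rw [h1]; exact dvd_mul_right p _
    have h6 : p ∣ e * (c + 1) := (Nat.dvd_add_right (dvd_mul_right p (e * n))).1 h5
    exact hcop.dvd_of_dvd_mul_left h6
  obtain ⟨b, hb⟩ := hpd
  have hb1 : 1 ≤ b := by
    rcases Nat.eq_zero_or_pos b with h0 | h0
    · subst h0; omega
    · exact h0
  have hac : a0 * c = e * (b + n) := by
    apply Nat.eq_of_mul_eq_mul_left hp.pos
    rw [← h1, hb]; ring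
  have hmain : e * (n + b) + a0 = a0 * b * p := by
    have h5 : a0 * (c + 1) = e * (b + n) + a0 := by rw [mul_add, hac, mul_one]
    rw [hb] at h5
    have h6 : a0 * b * p = a0 * (p * b) := by ring
    rw [h6, h5]; ring
  by_cases hb2 : 2 ≤ b
  · by_cases hat : 2 ≤ a0 * t
    · exact absurd (core_minus hpe (by omega) hb2 ha0 hat hmain) hF
    · right
      constructor
      · by_contra hne
        have : 2 ≤ a0 := by omega
        have : 2 * 1 ≤ a0 * t := Nat.mul_le_mul this ht1
        omega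
      · by_contra hne
        have : 2 ≤ t := by omega
        have : 1 * 2 ≤ a0 * t := Nat.mul_le_mul ha0 this
        omega
  · left
    have hb' : b = 1 := by omega
    subst hb'
    apply Nat.eq_of_mul_eq_mul_left (show 0 < e by omega)
    have h7 : a0 * 1 * p = e * (t * a0) + a0 := by rw [← hpe]; ring
    rw [h7] at hmain
    omega

end Cfsg.Agent.Lib.Helper59_BF_ARITH
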