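import Mathlib
import Cfsg.Agent.Lib.Helper3_BFDefs
import Cfsg.Agent.Lib.Helper59_BF_ARITH

/-!
# S4700 (Brauer's `F(p,u,h)` theorem), package SHAPE (helper51; architect helper3)

`shape_of_not_fform`: if `n` is not of the form `F(p,u,h)`, the abstract arithmetic data `FData`
of the principal block has the configuration `FData0.Shape`.  Finite-sum arithmetic on the degree
equation `hrel`, with the divisibility lemmas of package ARITH (helper59) as black boxes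
(`shape_aux` has them as hypotheses).
-/

set_option autoImplicit false
set_option linter.unusedSectionVars false

namespace Cfsg.Agent.Lib.Helper51_BF_SHAPE

open Cfsg Cfsg.Agent.Lib.Helper3_BFDefs

section aux

variable {p e t n : ℕ} {ι : Type*} [DecidableEq ι]

/-- Members of `X` with sign `+` other than the trivial character: `m1 = n + 1`, degree `1 + n p`. -/
theorem partA (hp : p.Prime) (D : FData p e t n ι)
    (hXp : ∀ a : ℕ, 1 ≤ a → a * p + 1 ∣ e * (1 + n * p) → a = n) :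
    ∀ χ ∈ D.X, χ ≠ D.one → D.δ χ = 1 → D.m1 χ = n + 1 ∧ D.deg χ = 1 + n * p := by
  have hp2 : 2 ≤ p := hp.two_le
  have hpZ : (2 : ℤ) ≤ p := by exact_mod_cast hp2
  intro χ hχ hne hδ1
  have hd := D.hdegX χ hχ
  rw [hδ1] at hd
  have hpos := D.hdegpos χ
  have hm2 : 2 ≤ D.m1 χ := by
    by_contra hlt
    have hm : D.m1 χ = 0 ∨ D.m1 χ = 1 := by omega
    rcases hm with hm | hm
    · rw [hm] at hd
      have : (0 : ℤ) < D.deg χ := by exact_mod_cast hpos
      push_cast at hd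
      linarith
    · rw [hm] at hd
      have h1 : (D.deg χ : ℤ) = 1 := by push_cast at hd; linarith
      exact hne (D.hdeg1 χ (by exact_mod_cast h1))
  obtain ⟨a, ha⟩ : ∃ a, D.m1 χ = a + 1 := ⟨D.m1 χ - 1, by omega⟩
  have ha1 : 1 ≤ a := by omega
  have hdeg : D.deg χ = a * p + 1 := by
    rw [ha] at hd
    have : (D.deg χ : ℤ) = a * p + 1 := by push_cast at hd; linarith
    exact_mod_cast this
  have hdv := D.hdvd χ (Or.inl hχ)
  rw [hdeg] at hdv
  have han := hXp a ha1 hdv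
  subst han
  exact ⟨ha, by rw [hdeg]; ring⟩

/-- Every nontrivial term of the sum in `hrel` is at most `1 + n p`. -/
theorem term_le (hp : p.Prime) (D : FData p e t n ι)
    (hXp : ∀ a : ℕ, 1 ≤ a → a * p + 1 ∣ e * (1 + n * p) → a = n) :
    ∀ χ ∈ D.X, χ ≠ D.one → D.δ χ * (D.deg χ : ℤ) ≤ 1 + n * p := by
  intro χ hχ hne
  rcases D.hδ χ hχ with h1 | h1
  · rw [h1, (partA hp D hXp χ hχ hne h1).2]; push_cast; linarith
  · rw [h1]
    have : (0 : ℤ) < D.deg χ := by exact_mod_cast D.hdegpos χ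
    have h2 : (0 : ℤ) ≤ (n : ℤ) * p := by positivity
    linarith

theorem term_one (D : FData p e t n ι) : D.δ D.one * (D.deg D.one : ℤ) = 1 := by
  rw [D.hδone, D.hdegone]; norm_num

theorem card_erase_one (D : FData p e t n ι) : (D.X.erase D.one).card = e - 1 := by
  rw [Finset.card_erase_of_mem D.hone, D.hXcard]

/-- The sum in `hrel` is at most `1 + (e - 1) (1 + n p)`. -/
theorem sum_le (hp : p.Prime) (D : FData p e t n ι)
    (hXp : ∀ a : ℕ, 1 ≤ a → a * p + 1 ∣ e * (1 + n * p) → a = n) :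
    ∑ χ ∈ D.X, D.δ χ * (D.deg χ : ℤ) ≤ 1 + ((e : ℤ) - 1) * (1 + n * p) := by
  have he2 := D.he2
  rw [← Finset.add_sum_erase D.X _ D.hone, term_one D]
  have := Finset.sum_le_card_nsmul (D.X.erase D.one) (fun χ => D.δ χ * (D.deg χ : ℤ))
    (1 + n * p) (fun χ hχ => term_le hp D hXp χ (Finset.mem_of_mem_erase hχ)
      (Finset.ne_of_mem_erase hχ))
  rw [card_erase_one D, nsmul_eq_mul, Nat.cast_sub (by omega : 1 ≤ e)] at this
  push_cast at this
  linarith

/-- The sum in `hrel` when a member of `X` has degree `e (1 + n p)` and sign `-`. -/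
theorem sum_le' (hp : p.Prime) (D : FData p e t n ι)
    (hXp : ∀ a : ℕ, 1 ≤ a → a * p + 1 ∣ e * (1 + n * p) → a = n)
    (χ : ι) (hχ : χ ∈ D.X) (hδ1 : D.δ χ = -1) (hdeg : D.deg χ = e * (1 + n * p)) :
    ∑ χ' ∈ D.X, D.δ χ' * (D.deg χ' : ℤ) ≤
        1 - (e : ℤ) * (1 + n * p) + ((e : ℤ) - 2) * (1 + n * p) := by
  have he2 := D.he2
  have hχne : χ ≠ D.one := by
    intro h
    rw [h, D.hδone] at hδ1
    norm_num at hδ1
  have hχE : χ ∈ D.X.erase D.one := Finset.mem_erase.mpr ⟨hχne, hχ⟩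
  have hcardEE : ((D.X.erase D.one).erase χ).card = e - 2 := by
    rw [Finset.card_erase_of_mem hχE, card_erase_one D]; omega
  rw [← Finset.add_sum_erase D.X _ D.hone, term_one D, ← Finset.add_sum_erase _ _ hχE, hδ1, hdeg]
  have := Finset.sum_le_card_nsmul ((D.X.erase D.one).erase χ)
    (fun χ => D.δ χ * (D.deg χ : ℤ)) (1 + n * p)
    (fun χ' hχ' => term_le hp D hXp χ' (Finset.mem_of_mem_erase (Finset.mem_of_mem_erase hχ'))
      (Finset.ne_of_mem_erase (Finset.mem_of_mem_erase hχ')))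
  rw [hcardEE, nsmul_eq_mul, Nat.cast_sub (by omega : 2 ≤ e)] at this
  push_cast at this ⊢
  linarith

/-- `ε = 1`: the exceptional characters have `m1 = 0`. -/
theorem partC1 (hp : p.Prime) (D : FData p e t n ι)
    (hXp : ∀ a : ℕ, 1 ≤ a → a * p + 1 ∣ e * (1 + n * p) → a = n)
    (hYp : ∀ a0 : ℕ, 1 ≤ a0 → a0 * p + e ∣ e * (1 + n * p) →
      a0 * p + e = e * (1 + n * p)) :
    D.ε = 1 → ∀ θ ∈ D.Y, D.m1 θ = 0 := by
  have hp2 : 2 ≤ p := hp.two_le
  have hn1 := D.hn1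
  have hnpN : 1 ≤ n * p := Nat.mul_pos (by omega) (by omega)
  have hnp1 : (1 : ℤ) ≤ n * p := by exact_mod_cast hnpN
  intro hε θ hθ
  by_contra hne
  have ha0 : 1 ≤ D.m1 θ := Nat.one_le_iff_ne_zero.mpr hne
  have hd := D.hdegY θ hθ
  rw [hε] at hd
  have hdeg : D.deg θ = D.m1 θ * p + e := by
    have : (D.deg θ : ℤ) = D.m1 θ * p + e := by linarith
    exact_mod_cast this
  have hdv := D.hdvd θ (Or.inr hθ)
  rw [hdeg] at hdv
  have hdeg2 := hYp _ ha0 hdv
  have hr := D.hrel θ hθ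
  have hS1 := sum_le hp D hXp
  rw [hε, hdeg, hdeg2] at hr
  push_cast at hr
  rw [hr] at hS1
  have h3 : (1 : ℤ) * ((e : ℤ) * (1 + n * p)) - (1 + ((e : ℤ) - 1) * (1 + n * p)) = n * p := by
    ring
  linarith

/-- `ε = -1`: the exceptional characters have `n + 1 = t m1`. -/
theorem partC2 (hp : p.Prime) (D : FData p e t n ι)
    (hYm : ∀ a0 : ℕ, 1 ≤ a0 → e < a0 * p → a0 * p - e ∣ e * (1 + n * p) →
      n + 1 = t * a0 ∨ (a0 = 1 ∧ t = 1)) :
    D.ε = -1 → ∀ θ ∈ D.Y, n + 1 = t * D.m1 θ := by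
  have hp2 : 2 ≤ p := hp.two_le
  have het := D.het
  intro hε θ hθ
  have hd := D.hdegY θ hθ
  rw [hε] at hd
  have hpos : (0 : ℤ) < D.deg θ := by exact_mod_cast D.hdegpos θ
  have hlt : e < D.m1 θ * p := by
    have : (e : ℤ) < D.m1 θ * p := by linarith
    exact_mod_cast this
  have ha0 : 1 ≤ D.m1 θ := by
    rcases Nat.eq_zero_or_pos (D.m1 θ) with h | h
    · rw [h] at hlt; omega
    · exact h
  have hdeg : D.deg θ = D.m1 θ * p - e := by
    have : (D.deg θ : ℤ) = ((D.m1 θ * p - e : ℕ) : ℤ) := by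
      rw [Nat.cast_sub hlt.le]; push_cast; linarith
    exact_mod_cast this
  have hdv := D.hdvd θ (Or.inr hθ)
  rw [hdeg] at hdv
  rcases hYm _ ha0 hlt hdv with h | ⟨h1, h2⟩
  · exact h
  · exfalso
    rw [h1] at hdeg
    rw [h2] at het
    have : D.deg θ = 1 := by omega
    have := D.hdeg1 θ this
    rw [this] at hθ
    exact (Finset.disjoint_left.mp D.hdisj D.hone) hθ

theorem Y_nonempty (hp : p.Prime) (D : FData p e t n ι) : D.Y.Nonempty := by
  have hp2 : 2 ≤ p := hp.two_le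
  have het := D.het
  rw [← Finset.card_pos, D.hYcard]
  rcases Nat.eq_zero_or_pos t with h | h
  · rw [h] at het; omega
  · exact h

/-- Members of `X` with sign `-` have `m1 = 0`. -/
theorem partB (hp : p.Prime) (D : FData p e t n ι)
    (hXp : ∀ a : ℕ, 1 ≤ a → a * p + 1 ∣ e * (1 + n * p) → a = n)
    (hXm : ∀ u : ℕ, 2 ≤ u → u * p - 1 ∣ e * (1 + n * p) →
      t = 1 ∧ u * p - 1 = e * (1 + n * p))
    (hYm : ∀ a0 : ℕ, 1 ≤ a0 → e < a0 * p → a0 * p - e ∣ e * (1 + n * p) →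
      n + 1 = t * a0 ∨ (a0 = 1 ∧ t = 1)) :
    ∀ χ ∈ D.X, D.δ χ = -1 → D.m1 χ = 0 := by
  have hp2 : 2 ≤ p := hp.two_le
  have het := D.het
  have he2 := D.he2
  have hn1 := D.hn1
  have hnpN : 1 ≤ n * p := Nat.mul_pos (by omega) (by omega)
  have hnp1 : (1 : ℤ) ≤ n * p := by exact_mod_cast hnpN
  have hpZ : (2 : ℤ) ≤ p := by exact_mod_cast hp2
  have heZ : (2 : ℤ) ≤ e := by exact_mod_cast he2
  have hetZ : (e : ℤ) * t = p - 1 := by
    have := congrArg (Nat.cast : ℕ → ℤ) het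
    push_cast [Nat.cast_sub (by omega : 1 ≤ p)] at this
    exact this
  intro χ hχ hδ1
  by_contra hne
  have hm1 : 1 ≤ D.m1 χ := Nat.one_le_iff_ne_zero.mpr hne
  have hd := D.hdegX χ hχ
  rw [hδ1] at hd
  have hup : 1 ≤ (D.m1 χ + 1) * p := Nat.mul_pos (by omega) (by omega)
  have hdeg : D.deg χ = (D.m1 χ + 1) * p - 1 := by
    have : (D.deg χ : ℤ) = (((D.m1 χ + 1) * p - 1 : ℕ) : ℤ) := by
      rw [Nat.cast_sub hup]; push_cast; linarith
    exact_mod_cast this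
  have hdv := D.hdvd χ (Or.inl hχ)
  rw [hdeg] at hdv
  obtain ⟨ht, hdeg2⟩ := hXm _ (by omega) hdv
  rw [hdeg2] at hdeg
  have hS2 := sum_le' hp D hXp χ hχ hδ1 hdeg
  obtain ⟨θ, hθ⟩ := Y_nonempty hp D
  have hr := D.hrel θ hθ
  have hposθ : (0 : ℤ) < D.deg θ := by exact_mod_cast D.hdegpos θ
  have h3 : (1 : ℤ) - (e : ℤ) * (1 + n * p) + ((e : ℤ) - 2) * (1 + n * p) = -1 - 2 * (n * p) := by
    ring
  rw [h3] at hS2
  rcases D.hε with hε | hε
  · rw [hε] at hr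
    linarith
  · have hn1t : n + 1 = D.m1 θ := by
      have h := partC2 hp D hYm hε θ hθ
      have h2 : t * D.m1 θ = 1 * D.m1 θ := congrArg (· * D.m1 θ) ht
      omega
    have hdθ := D.hdegY θ hθ
    rw [hε, ← hn1t] at hdθ
    rw [hε] at hr
    rw [ht, Nat.cast_one, mul_one] at hetZ
    push_cast at hdθ
    have h4 : (p : ℤ) * ((n : ℤ) + 1) + -1 * (e : ℤ) = n * p + 1 := by
      rw [hetZ]; ring
    rw [h4] at hdθ
    linarith

/-- Some member of `X` has sign `-` (and `m1 = 0`). -/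
theorem partD (hp : p.Prime) (D : FData p e t n ι)
    (hXp : ∀ a : ℕ, 1 ≤ a → a * p + 1 ∣ e * (1 + n * p) → a = n)
    (hYp : ∀ a0 : ℕ, 1 ≤ a0 → a0 * p + e ∣ e * (1 + n * p) →
      a0 * p + e = e * (1 + n * p))
    (hB : ∀ χ ∈ D.X, D.δ χ = -1 → D.m1 χ = 0) :
    ∃ χ ∈ D.X, D.δ χ = -1 ∧ D.m1 χ = 0 := by
  have hp2 : 2 ≤ p := hp.two_le
  have he2 := D.he2
  have hn1 := D.hn1
  have hnpN : 1 ≤ n * p := Nat.mul_pos (by omega) (by omega)
  have hnp1 : (1 : ℤ) ≤ n * p := by exact_mod_cast hnpN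
  have heZ : (2 : ℤ) ≤ e := by exact_mod_cast he2
  by_contra hno
  have hall : ∀ χ ∈ D.X, D.δ χ = 1 := by
    intro χ hχ
    rcases D.hδ χ hχ with h | h
    · exact h
    · exact absurd ⟨χ, hχ, h, hB χ hχ h⟩ hno
  have hS : ∑ χ ∈ D.X, D.δ χ * (D.deg χ : ℤ) = 1 + ((e : ℤ) - 1) * (1 + n * p) := by
    rw [← Finset.add_sum_erase D.X _ D.hone, term_one D]
    have : ∑ χ ∈ D.X.erase D.one, D.δ χ * (D.deg χ : ℤ) =
        ∑ _χ ∈ D.X.erase D.one, (1 + (n : ℤ) * p) := by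
      apply Finset.sum_congr rfl
      intro χ hχ
      have h1 := Finset.mem_of_mem_erase hχ
      have h2 := Finset.ne_of_mem_erase hχ
      rw [hall χ h1, (partA hp D hXp χ h1 h2 (hall χ h1)).2]; push_cast; ring
    rw [this, Finset.sum_const, card_erase_one D, nsmul_eq_mul,
      Nat.cast_sub (by omega : 1 ≤ e)]
    push_cast; ring
  obtain ⟨θ, hθ⟩ := Y_nonempty hp D
  have hr := D.hrel θ hθ
  rw [hS] at hr
  have hposθ : (0 : ℤ) < D.deg θ := by exact_mod_cast D.hdegpos θ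
  have hprod : (0 : ℤ) < ((e : ℤ) - 1) * (n * p) := mul_pos (by linarith) (by linarith)
  have h3 : (1 : ℤ) + ((e : ℤ) - 1) * (1 + n * p) = e + ((e : ℤ) - 1) * (n * p) := by ring
  rw [h3] at hr
  rcases D.hε with hε | hε
  · have hm0 := partC1 hp D hXp hYp hε θ hθ
    have hdθ := D.hdegY θ hθ
    rw [hε, hm0] at hdθ
    rw [hε, hdθ] at hr
    push_cast at hr
    linarith
  · rw [hε] at hr
    linarith

/-- The arithmetic of `shape_of_not_fform`, with the four divisibility lemmas of PK-ARITH as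
hypotheses. -/
theorem shape_aux (hp : p.Prime) (D : FData p e t n ι)
    (hXp : ∀ a : ℕ, 1 ≤ a → a * p + 1 ∣ e * (1 + n * p) → a = n)
    (hXm : ∀ u : ℕ, 2 ≤ u → u * p - 1 ∣ e * (1 + n * p) →
      t = 1 ∧ u * p - 1 = e * (1 + n * p))
    (hYp : ∀ a0 : ℕ, 1 ≤ a0 → a0 * p + e ∣ e * (1 + n * p) →
      a0 * p + e = e * (1 + n * p))
    (hYm : ∀ a0 : ℕ, 1 ≤ a0 → e < a0 * p → a0 * p - e ∣ e * (1 + n * p) →
      n + 1 = t * a0 ∨ (a0 = 1 ∧ t = 1)) :
    D.Shape := by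
  have hB := partB hp D hXp hXm hYm
  refine ⟨?_, ?_, partD hp D hXp hYp hB⟩
  · intro χ hχ hne
    rcases D.hδ χ hχ with h | h
    · exact Or.inl ⟨h, (partA hp D hXp χ hχ hne h).1⟩
    · exact Or.inr ⟨h, hB χ hχ h⟩
  · rcases D.hε with hε | hε
    · exact Or.inl ⟨hε, partC1 hp D hXp hYp hε⟩
    · exact Or.inr ⟨hε, partC2 hp D hYm hε⟩

end aux

/-- **PK-SHAPE.** -/
theorem shape_of_not_fform {p e t n : ℕ} {ι : Type*} [DecidableEq ι] (hp : p.Prime)
    (D : FData p e t n ι) (hF : ¬ FForm p n) : D.Shape :=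
  shape_aux hp D
    (fun _ ha hd => Helper59_BF_ARITH.arith_Xp hp D.het D.he2 D.hn1 ha hd hF)
    (fun _ hu hd => Helper59_BF_ARITH.arith_Xm hp D.het D.he2 D.hn1 hu hd hF)
    (fun _ ha hd => Helper59_BF_ARITH.arith_Yp hp D.het D.he2 D.hn1 ha hd hF)
    (fun _ ha hlt hd => Helper59_BF_ARITH.arith_Ym hp D.het D.he2 D.hn1 ha hlt hd hF)

end Cfsg.Agent.Lib.Helper51_BF_SHAPE
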