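import Mathlib
import Cfsg.Agent.Lib.Helper16_B43Defs

/-!
# S4700 package ORDER (helper63, for helper3's market)

`P` a Sylow `p`-subgroup of order `p` with `C_G(P) ≤ P`, `e = |N_G(P) : C_G(P)|`, `1 + n p` Sylow
`p`-subgroups: then `|N_G(P)| = p e` and `|G| = p e (1 + n p)`.
-/

set_option autoImplicit false

namespace Cfsg.Agent.Lib.Helper63_BF_ORDER

open Cfsg Cfsg.Agent.Lib.Helper16_B43Defs

universe u

variable {G : Type u} [Group G]

/-- A Sylow subgroup of prime order lies in its own centralizer. -/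
theorem le_centralizer_of_card_prime {p : ℕ} [Fact p.Prime] (P : Sylow p G)
    (hP : Nat.card P = p) :
    (P : Subgroup G) ≤ Subgroup.centralizer ((P : Subgroup G) : Set G) := by
  have hc : IsCyclic ↥(P : Subgroup G) := isCyclic_of_prime_card hP
  intro x hx
  rw [Subgroup.mem_centralizer_iff]
  intro y hy
  let _ : CommGroup ↥(P : Subgroup G) := IsCyclic.commGroup
  have h := mul_comm (⟨y, hy⟩ : ↥(P : Subgroup G)) ⟨x, hx⟩
  exact congrArg Subtype.val h

theorem order_eq [Finite G] {p : ℕ} [Fact p.Prime] (P : Sylow p G) (hP : Nat.card P = p)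
    (hC : ∀ c ∈ Subgroup.centralizer ((P : Subgroup G) : Set G), c ∈ (P : Subgroup G))
    (n : ℕ) (hn : Nat.card (Sylow p G) = 1 + n * p) (e : ℕ)
    (he : (Subgroup.centralizer ((P : Subgroup G) : Set G)).relIndex (NP P) = e) :
    Nat.card (NP P) = p * e ∧ Nat.card G = p * e * (1 + n * p) := by
  have hCP : Subgroup.centralizer ((P : Subgroup G) : Set G) = (P : Subgroup G) :=
    le_antisymm hC (le_centralizer_of_card_prime P hP)
  have hPN : (P : Subgroup G) ≤ NP P := Subgroup.le_normalizer
  have hN : Nat.card (NP P) = p * e := by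
    rw [hCP] at he
    have h1 := Subgroup.card_mul_index ((P : Subgroup G).subgroupOf (NP P))
    have h2 : Nat.card ((P : Subgroup G).subgroupOf (NP P)) = p := by
      rw [Nat.card_congr (Subgroup.subgroupOfEquivOfLe hPN).toEquiv]
      exact hP
    rw [h2] at h1
    rw [← h1, ← he]
    rfl
  refine ⟨hN, ?_⟩
  have h3 : Nat.card (Sylow p G) = (NP P).index := Sylow.card_eq_index_normalizer P
  have h4 := Subgroup.card_mul_index (NP P)
  rw [← h4, hN, ← h3, hn]

end Cfsg.Agent.Lib.Helper63_BF_ORDER
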