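import Mathlib
import Cfsg.Prelude.Def_Solvable
import Cfsg.Agent.Lib.Helper1_Cores
import Cfsg.Agent.Lib.Helper30_Subnormal
import Cfsg.Agent.Lib.Helper12_PerfectTools

/-!
# S4700 package QUOT (helper63, for helper3's market)

Reduction modulo `K = O_{p'}(G)`: `G ⧸ K` is perfect with trivial `p'`-core, the image of a Sylow
`p`-subgroup of order `p` is a Sylow `p`-subgroup of order `p`, and the numbers of Sylow
`p`-subgroups multiply: `1 + n p = (1 + n0 p) (1 + m p)`.
-/

set_option autoImplicit false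

namespace Cfsg.Agent.Lib.Helper63_BF_QUOT

open Cfsg Cfsg.Agent.Lib.Helper1_Cores

universe u

variable {G : Type u} [Group G]

/-- A positive number congruent to `1` modulo `p` is of the form `1 + k p`. -/
theorem exists_eq_one_add_mul {a p : ℕ} (ha : 1 ≤ a) (h : a ≡ 1 [MOD p]) :
    ∃ k : ℕ, a = 1 + k * p := by
  have h1 : p ∣ a - 1 := (Nat.modEq_iff_dvd' ha).1 h.symm
  obtain ⟨k, hk⟩ := h1
  refine ⟨k, ?_⟩
  rw [Nat.mul_comm k p, ← hk]
  omega

/-- If `N_G(P) ≤ M`, then `|M : N_G(P)| ≡ 1 (mod p)` (it is the number of Sylow `p`-subgroups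
of `M`). -/
theorem relIndex_normalizer_modEq_one [Finite G] {p : ℕ} [Fact p.Prime] (P : Sylow p G)
    (M : Subgroup G) (hNM : Subgroup.normalizer ((P : Subgroup G) : Set G) ≤ M) :
    (Subgroup.normalizer ((P : Subgroup G) : Set G)).relIndex M ≡ 1 [MOD p] := by
  have hPM : (P : Subgroup G) ≤ M := Subgroup.le_normalizer.trans hNM
  have h1 : Nat.card (Sylow p M) =
      (Subgroup.normalizer ((P.subtype hPM : Sylow p M) : Set M)).index :=
    Sylow.card_eq_index_normalizer (P.subtype hPM)
  have h2 : Subgroup.normalizer ((P.subtype hPM : Sylow p M) : Set M) =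
      (Subgroup.normalizer ((P : Subgroup G) : Set G)).subgroupOf M := by
    rw [Subgroup.subgroupOf_normalizer_eq hPM]
    rfl
  have h3 := card_sylow_modEq_one p M
  rw [h1, h2] at h3
  exact h3

/-- The image of a Sylow `p`-subgroup of order `p` modulo a normal `p'`-subgroup has order `p`. -/
theorem card_sylow_quotient [Finite G] {p : ℕ} [Fact p.Prime] (K : Subgroup G) [K.Normal]
    (hK : (Nat.card K).Coprime p) (P : Sylow p G) (hP : Nat.card P = p) (Q : Sylow p (G ⧸ K)) :
    Nat.card Q = p := by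
  have hp : p.Prime := Fact.out
  have h1 := P.card_eq_multiplicity
  rw [hP] at h1
  have hfac : (Nat.card G).factorization p = 1 := by
    have h2 : p ^ 1 = p ^ (Nat.card G).factorization p := by rw [pow_one]; exact h1
    exact (Nat.pow_right_injective hp.two_le h2).symm
  have hcard : Nat.card G = Nat.card (G ⧸ K) * Nat.card K :=
    Subgroup.card_eq_card_quotient_mul_card_subgroup K
  have hK0 : (Nat.card K).factorization p = 0 := by
    apply Nat.factorization_eq_zero_of_not_dvd
    intro hd
    have := Nat.Coprime.eq_one_of_dvd hK.symm hd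
    exact hp.one_lt.ne' this
  have hfacQ : (Nat.card (G ⧸ K)).factorization p = 1 := by
    rw [hcard, Nat.factorization_mul Nat.card_pos.ne' Nat.card_pos.ne', Finsupp.add_apply, hK0,
      add_zero] at hfac
    exact hfac
  rw [Q.card_eq_multiplicity, hfacQ, pow_one]

theorem quot_reduction [Finite G] (hperf : commutator G = ⊤) (p : ℕ) [Fact p.Prime]
    (P : Sylow p G) (hP : Nat.card P = p) (n : ℕ) (hn : Nat.card (Sylow p G) = 1 + n * p) :
    commutator (G ⧸ pPrimeCore p G) = ⊤ ∧ pPrimeCore p (G ⧸ pPrimeCore p G) = ⊥ ∧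
    ∃ (Q : Sylow p (G ⧸ pPrimeCore p G)) (n0 m : ℕ), Nat.card Q = p ∧
      Nat.card (Sylow p (G ⧸ pPrimeCore p G)) = 1 + n0 * p ∧
      1 + n * p = (1 + n0 * p) * (1 + m * p) := by
  refine ⟨Cfsg.Agent.Lib.Helper12_PerfectTools.perfect_quotient hperf _,
    Cfsg.Agent.Lib.Helper30_Subnormal.pPrimeCore_quotient_eq_bot p, ?_⟩
  have hsurj : Function.Surjective (QuotientGroup.mk' (pPrimeCore p G)) :=
    QuotientGroup.mk'_surjective _
  let Q : Sylow p (G ⧸ pPrimeCore p G) := P.mapSurjective hsurj
  have hQ : Nat.card Q = p :=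
    card_sylow_quotient (pPrimeCore p G) (pPrimeCore_card_coprime p) P hP Q
  -- the number of Sylow subgroups of the quotient
  obtain ⟨n0, hn0⟩ := exists_eq_one_add_mul Nat.card_pos
    (card_sylow_modEq_one p (G ⧸ pPrimeCore p G))
  -- `M`: the preimage of the normalizer of `Q`
  set M : Subgroup G := (Subgroup.normalizer ((Q : Subgroup (G ⧸ pPrimeCore p G)) :
    Set (G ⧸ pPrimeCore p G))).comap (QuotientGroup.mk' (pPrimeCore p G)) with hM
  have hMidx : M.index = Nat.card (Sylow p (G ⧸ pPrimeCore p G)) := by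
    rw [hM, Subgroup.index_comap_of_surjective _ hsurj]
    exact (Sylow.card_eq_index_normalizer Q).symm
  have hNM : Subgroup.normalizer ((P : Subgroup G) : Set G) ≤ M := by
    rw [hM, ← Subgroup.map_le_iff_le_comap]
    exact Subgroup.le_normalizer_map _
  have hNidx : (Subgroup.normalizer ((P : Subgroup G) : Set G)).index = 1 + n * p := by
    rw [← hn]
    exact (Sylow.card_eq_index_normalizer P).symm
  have hmul := Subgroup.relIndex_mul_index hNM
  have hrel := relIndex_normalizer_modEq_one P M hNM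
  have hpos : 1 ≤ (Subgroup.normalizer ((P : Subgroup G) : Set G)).relIndex M := by
    rcases Nat.eq_zero_or_pos ((Subgroup.normalizer ((P : Subgroup G) : Set G)).relIndex M)
      with h0 | h0
    · rw [h0, zero_mul, hNidx] at hmul
      omega
    · exact h0
  obtain ⟨m, hm⟩ := exists_eq_one_add_mul hpos hrel
  refine ⟨Q, n0, m, hQ, hn0, ?_⟩
  rw [← hNidx, ← hmul, hm, hMidx, hn0, mul_comm]

end Cfsg.Agent.Lib.Helper63_BF_QUOT
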