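import Cfsg.Agent.Lib.Helper77_BR2Adapter

/-!
# S4701 (Brauer-Reynolds for perfect groups, |G| < p^3): the assembly (helper77)
-/

set_option autoImplicit false

namespace Cfsg.Agent.Lib.Helper77_BR2Main

open Cfsg.Agent.Lib.Helper77_BR2Adapter

universe u

/-- The core of S4701: `G ≃* PSL(2,F)` with `|F| = p` or `|F| = 2^m = p - 1`. -/
theorem core {G : Type u} [Group G] [Finite G] (hperf : commutator G = ⊤) (p : ℕ) [Fact p.Prime]
    (hdvd : p ∣ Nat.card G) (hbig : Nat.card G < p ^ 3) (P : Sylow p G)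
    (hP : ¬ (P : Subgroup G).Normal) (h2 : ∀ N : Subgroup G, N.Normal → Nat.card N ≠ 2) :
    ∃ (F : Type) (_ : Field F) (_ : Fintype F), 3 < p ∧
      (Fintype.card F = p ∨ ∃ m : ℕ, Fintype.card F = 2 ^ m ∧ p = 2 ^ m + 1) ∧
      Nonempty (G ≃* Matrix.ProjectiveSpecialLinearGroup (Fin 2) F) := by
  classical
  have hpp : p.Prime := Fact.out
  obtain ⟨hPcard, hsq⟩ := P1 p hdvd hbig P hP
  obtain ⟨K, hKn, hKcop, hKO⟩ := OP (G := G) p
  -- the quotient is perfect
  have hperfH : commutator (G ⧸ K) = ⊤ := by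
    have h1 : Subgroup.map (QuotientGroup.mk' K) (commutator G) = commutator (G ⧸ K) := by
      unfold commutator
      rw [Subgroup.map_commutator]
      have : Subgroup.map (QuotientGroup.mk' K) ⊤ = ⊤ := by
        rw [← MonoidHom.range_eq_map]
        exact MonoidHom.range_eq_top.mpr (QuotientGroup.mk'_surjective K)
      rw [this]
    rw [← h1, hperf, ← MonoidHom.range_eq_map]
    exact MonoidHom.range_eq_top.mpr (QuotientGroup.mk'_surjective K)
  have hcardGK : Nat.card G = Nat.card (G ⧸ K) * Nat.card K :=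
    Subgroup.card_eq_card_quotient_mul_card_subgroup K
  have hdvdH : p ∣ Nat.card (G ⧸ K) := by
    rw [hcardGK] at hdvd
    exact (Nat.Coprime.dvd_mul_right (Nat.Coprime.symm hKcop)).mp hdvd
  have hsqH : ¬ p ^ 2 ∣ Nat.card (G ⧸ K) := by
    intro h
    apply hsq
    rw [hcardGK]
    exact Dvd.dvd.mul_right h _
  obtain ⟨N, T, _, hNn, hTs, hTnc, hpT, ⟨e⟩⟩ := RED hperfH p hdvdH hsqH hKO
  haveI : Finite T := Finite.of_equiv N e
  have hNT : Nat.card N = Nat.card T := Nat.card_congr e.toEquiv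
  have hHN : Nat.card (G ⧸ K) = N.index * Nat.card N := (Subgroup.index_mul_card N).symm
  have hKpos : 0 < Nat.card K := Nat.card_pos
  have hNpos : 0 < Nat.card N := Nat.card_pos
  have hidxpos : 0 < N.index := Nat.pos_of_ne_zero Subgroup.index_ne_zero_of_finite
  have hTbig : Nat.card T < p ^ 3 := by
    rw [← hNT]
    calc Nat.card N ≤ N.index * Nat.card N := Nat.le_mul_of_pos_left _ hidxpos
      _ = Nat.card (G ⧸ K) := hHN.symm
      _ ≤ Nat.card (G ⧸ K) * Nat.card K := Nat.le_mul_of_pos_right _ hKpos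
      _ = Nat.card G := hcardGK.symm
      _ < p ^ 3 := hbig
  -- S0999 for `T`
  obtain ⟨F, instF, instFt, h3, hF, ⟨f⟩⟩ : ∃ (F : Type) (_ : Field F) (_ : Fintype F), 3 < p ∧
      (Fintype.card F = p ∨ ∃ m : ℕ, Fintype.card F = 2 ^ m ∧ p = 2 ^ m + 1) ∧
      Nonempty (T ≃* Matrix.ProjectiveSpecialLinearGroup (Fin 2) F) := by
    rcases Cfsg.Agent.S0999.result hTnc p hpp hpT hTbig with
      ⟨F, i1, i2, hF, h3, hf⟩ | ⟨m, F, i1, i2, hF, hpm, h3, hf⟩
    · exact ⟨F, i1, i2, h3, Or.inl hF, hf⟩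
    · exact ⟨F, i1, i2, h3, Or.inr ⟨m, hF, hpm⟩, hf⟩
  refine ⟨F, instF, instFt, h3, hF, ?_⟩
  have hord := ORD p h3 F hF
  rw [← Nat.card_congr f.toEquiv, ← hNT] at hord
  -- `|K| · |H : N| < 3`
  have hprod : Nat.card K * N.index < 3 := by
    have h1 : Nat.card G = (Nat.card K * N.index) * Nat.card N := by
      rw [hcardGK, hHN]; ring
    have h4 : (Nat.card K * N.index) * Nat.card N < 3 * Nat.card N := by
      rw [← h1]; exact lt_of_lt_of_le hbig hord
    exact Nat.lt_of_mul_lt_mul_right h4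
  have hidx : N.index ≤ 2 := by
    by_contra hcon
    have : 3 ≤ N.index := by omega
    have : 1 * 3 ≤ Nat.card K * N.index := Nat.mul_le_mul hKpos this
    omega
  have hNtop : N = ⊤ := IDX hperfH N hNn hidx
  have hK1 : Nat.card K = 1 := by
    have hK2 : Nat.card K ≠ 2 := h2 K hKn
    have : Nat.card K * 1 ≤ Nat.card K * N.index := Nat.mul_le_mul_left _ hidxpos
    omega
  have hKbot : K = ⊥ := Subgroup.card_eq_one.mp hK1
  -- the isomorphisms
  have e1 : G ≃* G ⧸ K := by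
    refine MulEquiv.ofBijective (QuotientGroup.mk' K) ⟨?_, QuotientGroup.mk'_surjective K⟩
    rw [← MonoidHom.ker_eq_bot_iff, QuotientGroup.ker_mk', hKbot]
  have e2 : (G ⧸ K) ≃* N := by
    subst hNtop
    exact Subgroup.topEquiv.symm
  exact ⟨((e1.trans e2).trans e).trans f⟩

end Cfsg.Agent.Lib.Helper77_BR2Main
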