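import Mathlib
import Cfsg.Prelude.Def_Characters
import Cfsg.Prelude.Def_Blocks
import Cfsg.Prelude.Def_Solvable
import Cfsg.Prelude.Def_CaseTheorems
import Cfsg.Agent.Lib.Helper3_CharComplete
import Cfsg.Agent.Lib.Helper3_CharColumn
import Cfsg.Agent.Lib.Helper80_CharBasic
import Cfsg.Agent.Lib.Helper16_B43Defs
import Cfsg.Agent.Lib.Helper16_BrauerFinal
import Cfsg.Agent.Lib.Helper17_SylowRank
import Cfsg.Agent.Lib.Helper23_ZStarB
import Cfsg.Agent.Lib.Helper1_Cores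
import Cfsg.Agent.Lib.Helper3_BFDefs
import Cfsg.Agent.Lib.Helper3_BF_RANK
import Cfsg.Agent.Lib.Helper59_BF_ARITH
import Cfsg.Agent.Lib.Helper51_BF_SHAPE
import Cfsg.Agent.Lib.Helper63_BF_QUOT
import Cfsg.Agent.Lib.Helper63_BF_SETUP
import Cfsg.Agent.Lib.Helper63_BF_ORDER
import Cfsg.Agent.Lib.Helper64_BF_DATAA
import Cfsg.Agent.Lib.Helper32_BF_DVD
import Cfsg.Agent.Lib.Helper32_BF_OUT
import Cfsg.Agent.Lib.Helper32_BF_KER
import Cfsg.Agent.Lib.Helper58_BF_PERM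
import Cfsg.Agent.Lib.Helper70_BF_LAG
import Cfsg.Agent.S4701

/-!
# Brauer's `F(p,u,h)` theorem (S4700): the assembly (helper3)

`G` finite perfect, `P` a Sylow `p`-subgroup of order `p`, `1 + n p` Sylow `p`-subgroups.  Then
`G/O_{p'}(G)` is `PSL₂(p)` or `SL₂(2^m)` (`p = 2^m + 1`), or `n = (h u p + u² + u + h)/(u + 1)`.

Paper proof: finding 159 (helper3).  Packages (S4700 market): ARITH, RANK (helper59), SHAPE
(helper51), QUOT, SETUP, ORDER (helper63), DATAA (helper64), DVD, OUT, KER (helper32), PERM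
(helper58), LAG (helper70).  The endgame uses S4701 (helper77): in the non-`F`-form case the
quotient `G/O_{p'}(G)` has order `p e (1 + n₀ p) < p³`.
-/

set_option autoImplicit false

namespace Cfsg.Agent.Lib.Helper3_BFMain

open Cfsg Cfsg.Agent.Lib.Helper3_BFDefs Cfsg.Agent.Lib.Helper16_B43Defs
  Cfsg.Agent.Lib.Helper80_CharBasic Cfsg.Agent.Lib.Helper3_CharComplete
open scoped ComplexConjugate

universe u

/-- The full data of the principal block (general `C_G(P)`). -/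
theorem exists_fdata {G : Type u} [Group G] [Fintype G] (hperf : commutator G = ⊤) {p : ℕ}
    [hp : Fact p.Prime] (P : Sylow p G) (hP : Nat.card P = p) (n : ℕ)
    (hn : Nat.card (Sylow p G) = 1 + n * p) (e t : ℕ)
    (he : (Subgroup.centralizer ((P : Subgroup G) : Set G)).relIndex (NP P) = e)
    (het : e * t = p - 1) (he2 : 2 ≤ e) (hn1 : 1 ≤ n) :
    ∃ D : FData p e t n (IrrCharacter G), D.one = oneIrr G ∧
      (∀ χ, D.deg χ = charDegree (χ : G → ℂ)) ∧
      (∀ χ, (D.m1 χ : ℂ) = pavg P (χ : G → ℂ)) ∧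
      (∀ χ ∈ D.X, ∀ x ∈ (P : Subgroup G), x ≠ 1 →
        ∀ y ∈ Subgroup.centralizer ((P : Subgroup G) : Set G), ¬ p ∣ orderOf y →
          (χ : G → ℂ) (x * y) = (D.δ χ : ℂ)) ∧
      ((∀ c ∈ Subgroup.centralizer ((P : Subgroup G) : Set G), c ∈ (P : Subgroup G)) →
        ∀ χ, χ ∉ D.X → χ ∉ D.Y → D.deg χ = p * D.m1 χ) := by
  obtain ⟨M, hM⟩ := Cfsg.Agent.Lib.Helper23_ZStarB.exists_pModular p hp.out
  obtain ⟨D0, hD1, hDdeg, hDm, hDB, hDval⟩ :=
    Cfsg.Agent.Lib.Helper64_BF_DATAA.exists_fdata0 hperf P hP n e t he het he2 hn1 hM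
  have hdvd : ∀ χ, χ ∈ D0.X ∨ χ ∈ D0.Y → D0.deg χ ∣ e * (1 + n * p) := by
    intro χ hχ
    rw [hDdeg χ]
    rcases hχ with hχ | hχ
    · refine Cfsg.Agent.Lib.Helper32_BF_DVD.dvd_X P hP n hn e he χ (D0.δ χ) (D0.hδ χ hχ)
        fun x hx hx1 => ?_
      have := hDval χ hχ x hx hx1 1 (Subgroup.one_mem _) (by
        rw [orderOf_one]; exact fun h => hp.out.one_lt.ne' (Nat.dvd_one.mp h))
      rwa [mul_one] at this
    · refine Cfsg.Agent.Lib.Helper32_BF_DVD.dvd_Y P hP n hn e χ D0.ε D0.hε (D0.m1 χ) (hDm χ) ?_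
      rw [← hDdeg χ]
      exact D0.hdegY χ hχ
  refine ⟨⟨D0, hdvd⟩, hD1, hDdeg, hDm, hDval, ?_⟩
  intro hC χ hχX hχY
  show D0.deg χ = p * D0.m1 χ
  rw [hDdeg χ]
  refine Cfsg.Agent.Lib.Helper32_BF_OUT.deg_of_not_principal P hP hC hM χ ?_ (D0.m1 χ) (hDm χ)
  intro hmem
  rcases (hDB χ).mp hmem with h | h
  · exact hχX h
  · exact hχY h

/-- The core-free case: if `n` is not of the form `F(p,u,h)` then `C_G(P) = P`, `n` is small and
`|G| < p³`. -/
theorem core_free_case {G : Type u} [Group G] [Finite G] (hperf : commutator G = ⊤) (p : ℕ)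
    [hp : Fact p.Prime] (hcore : pPrimeCore p G = ⊥) (P : Sylow p G) (hP : Nat.card P = p) (n : ℕ)
    (hn : Nat.card (Sylow p G) = 1 + n * p) (hF : ¬ FForm p n) :
    (∀ c ∈ Subgroup.centralizer ((P : Subgroup G) : Set G), c ∈ (P : Subgroup G)) ∧
      2 * n + 3 ≤ p ∧ Nat.card G < p ^ 3 := by
  classical
  let _ : Fintype G := Fintype.ofFinite G
  obtain ⟨hodd, he2, ⟨t, ht⟩, hn1⟩ := Cfsg.Agent.Lib.Helper63_BF_SETUP.setup hperf P hP n hn
  set e := (Subgroup.centralizer ((P : Subgroup G) : Set G)).relIndex (NP P) with he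
  obtain ⟨D, hD1, hDdeg, hDm, hDval, hDout⟩ :=
    exists_fdata hperf P hP n hn e t he.symm ht.symm he2 hn1
  have hS := Cfsg.Agent.Lib.Helper51_BF_SHAPE.shape_of_not_fform hp.out D hF
  obtain ⟨χ, hχX, hχδ, hχm⟩ := hS.2.2
  have hp1 : 1 ≤ p := hp.out.one_le
  have hχdeg : charDegree (χ : G → ℂ) = p - 1 := by
    have h := D.hdegX χ hχX
    rw [hχδ, hχm, hDdeg χ] at h
    have : ((charDegree (χ : G → ℂ) : ℕ) : ℤ) = ((p - 1 : ℕ) : ℤ) := by
      rw [h, Nat.cast_sub hp1]; push_cast; ring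
    exact_mod_cast this
  have hC := Cfsg.Agent.Lib.Helper32_BF_KER.cent_le_of_ker hcore P hP χ hχdeg
    (fun x hx hx1 y hy hyr => by
      rw [hDval χ hχX x hx hx1 y hy hyr, hχδ]; norm_num)
  refine ⟨hC, ?_⟩
  obtain ⟨c, hc1, hcle, hcm, hcdeg, hrank⟩ := Cfsg.Agent.Lib.Helper58_BF_PERM.perm_data P hP n hn
  obtain ⟨hN, hG⟩ := Cfsg.Agent.Lib.Helper63_BF_ORDER.order_eq P hP hC n hn e he.symm
  have hsq : ∑ χ : IrrCharacter G, D.deg χ ^ 2 = p * e * (1 + n * p) := by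
    have h := Cfsg.Agent.Lib.Helper3_CharColumn.sum_sq_irr_one (G := G)
    have h2 : ((∑ χ : IrrCharacter G, D.deg χ ^ 2 : ℕ) : ℂ) = ((p * e * (1 + n * p) : ℕ) : ℂ) := by
      rw [← hG, ← h]
      push_cast
      refine Finset.sum_congr rfl fun χ _ => ?_
      rw [hDdeg χ, Cfsg.Agent.Lib.Helper16_BrauerFinal.charDegree_cast]
    exact_mod_cast h2
  have hcm' : ∑ χ : IrrCharacter G, c χ * D.m1 χ = n + 1 := by
    have : ((∑ χ : IrrCharacter G, c χ * D.m1 χ : ℕ) : ℂ) = ((n + 1 : ℕ) : ℂ) := by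
      rw [← hcm]
      push_cast
      refine Finset.sum_congr rfl fun χ _ => ?_
      rw [hDm χ]
    exact_mod_cast this
  have hcdeg' : ∑ χ : IrrCharacter G, c χ * D.deg χ = 1 + n * p := by
    rw [← hcdeg]
    refine Finset.sum_congr rfl fun χ _ => ?_
    rw [hDdeg χ]
  obtain ⟨hr, hlt, h5, himp⟩ := Cfsg.Agent.Lib.Helper3_BF_RANK.rank_arith_strong hp.out
    D.toFData0 hS (hDout hC) hsq c
    (fun χ => hcle χ (D.m1 χ) (hDm χ)) (by rw [hD1]; exact hc1) hcm' hcdeg'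
  have h2 : TwoPt P e := by
    intro Q hQ
    refine Cfsg.Agent.Lib.Helper17_SylowRank.card_inf_normalizer_of_classInner P hP e n hN hn ?_
      Q hQ
    rw [hrank, hr]
    push_cast
    ring
  obtain ⟨hb, hen⟩ :=
    himp (Cfsg.Agent.Lib.Helper70_BF_LAG.dvd_of_twoPt_raw hP hC hN hn he2 hn1 hlt h2)
  refine ⟨hb, ?_⟩
  -- `|G| = p e (1 + n p) < p³`
  rw [hG]
  have hp2 : 2 ≤ p := hp.out.two_le
  have h1 : e * (1 + n * p) < e * (n + 1) * p := by
    have : e < e * p := by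
      calc e = e * 1 := (mul_one e).symm
        _ < e * p := Nat.mul_lt_mul_of_pos_left (by omega) (by omega)
    calc e * (1 + n * p) = e + e * n * p := by ring
      _ < e * p + e * n * p := by omega
      _ = e * (n + 1) * p := by ring
  have h2' : e * (n + 1) * p ≤ (p - 1) * p := Nat.mul_le_mul_right p hen
  have h3 : (p - 1) * p < p * p := Nat.mul_lt_mul_of_lt_of_le (by omega) (le_refl p) (by omega)
  calc p * e * (1 + n * p) = p * (e * (1 + n * p)) := by ring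
    _ < p * (p * p) := Nat.mul_lt_mul_of_pos_left (by omega) (by omega)
    _ = p ^ 3 := by ring

theorem main {G : Type u} [Group G] [Finite G] (hperf : commutator G = ⊤) (p : ℕ)
    [hp : Fact p.Prime]
    (P : Sylow p G) (hP : Nat.card P = p) (n : ℕ) (hn : Nat.card (Sylow p G) = 1 + n * p) :
    (∃ (F : Type) (_ : Field F) (_ : Fintype F), Fintype.card F = p ∧ 3 < p ∧
      Nonempty (G ⧸ Cfsg.pPrimeCore p G ≃* Matrix.ProjectiveSpecialLinearGroup (Fin 2) F)) ∨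
    (∃ (m : ℕ) (F : Type) (_ : Field F) (_ : Fintype F), Fintype.card F = 2 ^ m ∧ p = 2 ^ m + 1 ∧
      3 < p ∧ Nonempty (G ⧸ Cfsg.pPrimeCore p G ≃* Matrix.SpecialLinearGroup (Fin 2) F)) ∨
    (∃ h u : ℕ, 0 < h ∧ 0 < u ∧ n * (u + 1) = h * u * p + u ^ 2 + u + h) := by
  obtain ⟨hperf', hcore', Q, n0, m, hQ, hn0, hmul⟩ :=
    Cfsg.Agent.Lib.Helper63_BF_QUOT.quot_reduction hperf p P hP n hn
  by_cases hF0 : FForm p n0
  · right; right
    exact Cfsg.Agent.Lib.Helper59_BF_ARITH.fform_lift hp.out.pos hF0 hmul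
  · obtain ⟨hC, hbound, hbig⟩ := core_free_case hperf' p hcore' Q hQ n0 hn0 hF0
    obtain ⟨hodd, -, -, hn1⟩ := Cfsg.Agent.Lib.Helper63_BF_SETUP.setup hperf' Q hQ n0 hn0
    have hdvd : p ∣ Nat.card (G ⧸ pPrimeCore p G) := by
      have := Subgroup.card_subgroup_dvd_card (Q : Subgroup (G ⧸ pPrimeCore p G))
      rwa [hQ] at this
    have hQnn : ¬ (Q : Subgroup (G ⧸ pPrimeCore p G)).Normal := by
      intro hnorm
      have hu : Nat.card (Sylow p (G ⧸ pPrimeCore p G)) = 1 := by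
        have hun : Unique (Sylow p (G ⧸ pPrimeCore p G)) := Sylow.unique_of_normal Q hnorm
        exact Nat.card_unique
      rw [hn0] at hu
      have : 1 ≤ n0 * p := Nat.mul_pos hn1 hp.out.pos
      omega
    have h2 : ∀ N : Subgroup (G ⧸ pPrimeCore p G), N.Normal → Nat.card N ≠ 2 := by
      intro N hN hcard
      have hcop : (Nat.card N).Coprime p := by
        rw [hcard]
        exact (Nat.coprime_primes Nat.prime_two hp.out).mpr (Ne.symm hodd)
      have hle := Cfsg.Agent.Lib.Helper1_Cores.le_pPrimeCore hN hcop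
      rw [hcore'] at hle
      have : N = ⊥ := le_bot_iff.mp hle
      rw [this, Subgroup.card_bot] at hcard
      omega
    rcases Cfsg.Agent.S4701.result hperf' p hdvd hbig Q hQnn h2 with h | h
    · left; exact h
    · right; left; exact h

end Cfsg.Agent.Lib.Helper3_BFMain
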