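import Mathlib
import Cfsg.Agent.S4700
import Cfsg.Agent.Lib.Helper17_Sylow
import Cfsg.Agent.Lib.Helper5_PSLCard
import Cfsg.Agent.Lib.Helper49_J1Defs
import Cfsg.Agent.Lib.Helper49_J1Tools

/-!
# S4274 package J1-N19 (helper31, architect helper49)

Under `Hyp X` the number of Sylow `19`-subgroups is `210` or `1540`: it divides `9240`, is `1`
modulo `19` and is not `1`, so it is one of `20, 77, 210, 1540`; Brauer-Reynolds (S4700) kills
`20` and `77`.
-/

set_option autoImplicit false

namespace Cfsg.Agent.Lib.Helper31_J1_N19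

open Subgroup Cfsg.Agent.Lib.Helper49_J1Defs
open scoped commutatorElement

variable {X : Type*} [Group X] [Finite X]

/-- the order is `19 * m` with `19 ∤ m` -/
theorem card_eq (h : Hyp X) : ∃ m, Nat.card X = 19 * m ∧ ¬ 19 ∣ m ∧ m ∣ 9240 := by
  obtain ⟨m, hm⟩ := h.d19
  have hdvd := h.dvd
  refine ⟨m, hm, ?_, ?_⟩
  · rintro ⟨t, ht⟩
    rw [hm, ht] at hdvd
    have h361 : 361 ∣ 175560 := Dvd.dvd.trans ⟨t, by ring⟩ hdvd
    omega
  · rw [hm, show 175560 = 19 * 9240 by norm_num] at hdvd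
    exact Nat.dvd_of_mul_dvd_mul_left (by norm_num) hdvd

/-- the divisors of `9240` that are `1` modulo `19`, boolean form -/
theorem divisors_bool : (List.range 487).all (fun j =>
    !(decide ((19 * j + 1) ∣ 9240)) || (j == 0 || j == 1 || j == 4 || j == 11 || j == 81)) = true := by
  decide +kernel

/-- the divisors of `9240` that are `1` modulo `19` -/
theorem divisors_check (n : ℕ) (hlt : n < 9241) (hd : n ∣ 9240) (hmod : n % 19 = 1) :
    n = 1 ∨ n = 20 ∨ n = 77 ∨ n = 210 ∨ n = 1540 := by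
  have hj : n = 19 * (n / 19) + 1 := by omega
  have hjlt : n / 19 < 487 := by omega
  have h1 := List.all_eq_true.mp divisors_bool (n / 19) (List.mem_range.mpr hjlt)
  rw [← hj] at h1
  simp only [Bool.or_eq_true, Bool.not_eq_true', decide_eq_false_iff_not, beq_iff_eq] at h1
  rcases h1 with h1 | h1
  · exact absurd hd h1
  · omega

/-- the candidates for the number of Sylow `19`-subgroups -/
theorem candidates (h : Hyp X) : Nat.card (Sylow 19 X) = 20 ∨ Nat.card (Sylow 19 X) = 77 ∨
    Nat.card (Sylow 19 X) = 210 ∨ Nat.card (Sylow 19 X) = 1540 := by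
  have := h.simple
  have : Fact (Nat.Prime 19) := ⟨by norm_num⟩
  obtain ⟨m, hm, hm19, hm9240⟩ := card_eq h
  obtain ⟨k, -, -, ⟨c', hc'⟩, hprod, hmod, hgt⟩ :=
    Cfsg.Agent.Lib.Helper49_J1Tools.loc h.nonab 19 m hm hm19
  have hn : Nat.card (Sylow 19 X) ∣ 9240 := by
    refine Dvd.dvd.trans ?_ hm9240
    refine ⟨c' * k, ?_⟩
    have h1 : 19 * m = 19 * (Nat.card (Sylow 19 X) * (c' * k)) := by
      rw [← hm, ← hprod, hc']
      ring
    exact Nat.eq_of_mul_eq_mul_left (by norm_num) h1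
  have hle : Nat.card (Sylow 19 X) < 9241 := Nat.lt_succ_of_le (Nat.le_of_dvd (by norm_num) hn)
  rcases divisors_check _ hle hn hmod with h1 | h1 | h1 | h1 | h1
  · omega
  · exact Or.inl h1
  · exact Or.inr (Or.inl h1)
  · exact Or.inr (Or.inr (Or.inl h1))
  · exact Or.inr (Or.inr (Or.inr h1))

/-- a nonabelian simple group is perfect -/
theorem commutator_eq_top (h : Hyp X) : commutator X = ⊤ := by
  have := h.simple
  rcases (inferInstance : (commutator X).Normal).eq_bot_or_eq_top with hb | ht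
  · exfalso
    apply h.nonab
    refine ⟨⟨fun a b => ?_⟩⟩
    have hmem : ⁅a, b⁆ ∈ commutator X := Subgroup.commutator_mem_commutator (Subgroup.mem_top a)
      (Subgroup.mem_top b)
    rw [hb, Subgroup.mem_bot] at hmem
    exact commutatorElement_eq_one_iff_mul_comm.mp hmem
  · exact ht

/-- the order of `PSL(2, 19)` -/
theorem card_PSL2_19 (F : Type) [Field F] [Fintype F] (hF : Fintype.card F = 19) :
    Nat.card (Matrix.ProjectiveSpecialLinearGroup (Fin 2) F) = 3420 := by
  have h1 := Cfsg.Agent.Lib.Helper5_PSLCard.card_PSL_mul (F := F) 2 (by norm_num)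
  rw [Cfsg.Agent.Lib.Helper5_PSLCard.card_SL_two, hF] at h1
  norm_num at h1
  omega

/-- Brauer-Reynolds excludes `n_19 = 1 + n * 19` for `n = 1, 4` -/
theorem not_small (h : Hyp X) (n : ℕ) (hn : n = 1 ∨ n = 4)
    (hcard : Nat.card (Sylow 19 X) = 1 + n * 19) : False := by
  have : Fact (Nat.Prime 19) := ⟨by norm_num⟩
  obtain ⟨m, hm, hm19, -⟩ := card_eq h
  obtain ⟨P⟩ : Nonempty (Sylow 19 X) := inferInstance
  have hP : Nat.card P = 19 := by
    have := Cfsg.Agent.Lib.Helper17_Sylow.card_sylow_eq_pow (G := X) (p := 19) (k := 1) (m := m)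
      (by rw [hm, pow_one]) hm19 P
    rw [pow_one] at this
    exact this
  rcases Cfsg.Agent.S4700.result (commutator_eq_top h) 19 P hP n hcard with
    ⟨F, _, _, hF, -, ⟨e⟩⟩ | ⟨k, F, _, _, -, hk, -, -⟩ | ⟨a, u, ha, hu, heq⟩
  · have h1 : Nat.card (X ⧸ Cfsg.pPrimeCore 19 X) = 3420 := by
      rw [Nat.card_congr e.toEquiv]
      exact card_PSL2_19 F hF
    have h2 : (Cfsg.pPrimeCore 19 X).index ∣ Nat.card X := Subgroup.index_dvd_card _
    rw [Subgroup.index, h1] at h2
    have h3 := Dvd.dvd.trans h2 h.dvd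
    omega
  · have hk5 : k < 5 := by
      by_contra hge
      have : 2 ^ 5 ≤ 2 ^ k := Nat.pow_le_pow_right (by norm_num) (by omega)
      omega
    interval_cases k <;> omega
  · have h1 : u ≤ a * u := Nat.le_mul_of_pos_left u ha
    rcases hn with rfl | rfl <;> nlinarith

/-- **J1-N19** -/
theorem n19 (h : Hyp X) :
    Nat.card (Sylow 19 X) = 210 ∨ Nat.card (Sylow 19 X) = 1540 := by
  rcases candidates h with h1 | h1 | h1 | h1
  · exact (not_small h 1 (Or.inl rfl) (by rw [h1])).elim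
  · exact (not_small h 4 (Or.inr rfl) (by rw [h1])).elim
  · exact Or.inl h1
  · exact Or.inr h1

end Cfsg.Agent.Lib.Helper31_J1_N19
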