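import Mathlib
import Cfsg.Agent.Lib.Helper17_Sylow
import Cfsg.Agent.Lib.Helper49_J1Defs
import Cfsg.Agent.Lib.Helper49_J1Tools

/-!
# S4274 package J1-ORD (helper31, architect helper49)

From the local structure at `19` (`Tools.loc`): `c * k * n = |X|`, `19 ∣ c`, `k ∣ 18`, `k ≠ 1`,
`|X|` a proper divisor of `175560`: if `n = 210` then `|X| ∈ {7980, 15960, 87780}`, if `n = 1540`
then `|X| ∈ {58520, 87780}`.
-/

set_option autoImplicit false

namespace Cfsg.Agent.Lib.Helper31_J1_ORD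

open Subgroup Cfsg.Agent.Lib.Helper49_J1Defs

variable {X : Type*} [Group X] [Finite X]

/-- the order is `19 * m` with `19 ∤ m` -/
theorem card_eq (h : Hyp X) : ∃ m, Nat.card X = 19 * m ∧ ¬ 19 ∣ m := by
  obtain ⟨m, hm⟩ := h.d19
  refine ⟨m, hm, ?_⟩
  rintro ⟨t, ht⟩
  have hdvd := h.dvd
  rw [hm, ht] at hdvd
  have h361 : 361 ∣ 175560 := Dvd.dvd.trans ⟨t, by ring⟩ hdvd
  omega

/-- the local data at `19`: `|X| = 19 * c' * k * n_19` with `k ∈ {2, 3, 6, 9, 18}` -/
theorem loc19 (h : Hyp X) : ∃ c' k : ℕ, (k = 2 ∨ k = 3 ∨ k = 6 ∨ k = 9 ∨ k = 18) ∧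
    19 * (c' * k) * Nat.card (Sylow 19 X) = Nat.card X := by
  have := h.simple
  have : Fact (Nat.Prime 19) := ⟨by norm_num⟩
  obtain ⟨m, hm, hm19⟩ := card_eq h
  obtain ⟨k, hk18, hk1, ⟨c', hc'⟩, hprod, -, -⟩ :=
    Cfsg.Agent.Lib.Helper49_J1Tools.loc h.nonab 19 m hm hm19
  refine ⟨c', k, ?_, ?_⟩
  · have hk : k ∈ Nat.divisors 18 := Nat.mem_divisors.mpr ⟨hk18, by norm_num⟩
    have hd : Nat.divisors 18 = {1, 2, 3, 6, 9, 18} := by decide
    rw [hd] at hk
    simp only [Finset.mem_insert, Finset.mem_singleton] at hk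
    rcases hk with rfl | hk
    · exact absurd rfl hk1
    · exact hk
  · rw [← hprod, hc']
    ring

/-- **J1-ORD** -/
theorem ord (h : Hyp X) :
    (Nat.card (Sylow 19 X) = 210 →
      Nat.card X = 7980 ∨ Nat.card X = 15960 ∨ Nat.card X = 87780) ∧
    (Nat.card (Sylow 19 X) = 1540 → Nat.card X = 58520 ∨ Nat.card X = 87780) := by
  obtain ⟨c', k, hk, hprod⟩ := loc19 h
  have hdvd := h.dvd
  have hlt := h.lt
  constructor
  · intro hn
    rw [hn] at hprod
    have hp : 3990 * (c' * k) = Nat.card X := by rw [← hprod]; ring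
    have h1 : c' * k ∣ 44 := by
      have h2 : 3990 * (c' * k) ∣ 3990 * 44 := by
        rw [hp]
        exact hdvd
      exact Nat.dvd_of_mul_dvd_mul_left (by norm_num) h2
    have h3 : c' * k ∈ Nat.divisors 44 := Nat.mem_divisors.mpr ⟨h1, by norm_num⟩
    have hd : Nat.divisors 44 = {1, 2, 4, 11, 22, 44} := by decide
    rw [hd] at h3
    simp only [Finset.mem_insert, Finset.mem_singleton] at h3
    rcases hk with rfl | rfl | rfl | rfl | rfl <;> rcases h3 with h3 | h3 | h3 | h3 | h3 | h3 <;>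
      omega
  · intro hn
    rw [hn] at hprod
    have hp : 29260 * (c' * k) = Nat.card X := by rw [← hprod]; ring
    have h1 : c' * k ∣ 6 := by
      have h2 : 29260 * (c' * k) ∣ 29260 * 6 := by
        rw [hp]
        exact hdvd
      exact Nat.dvd_of_mul_dvd_mul_left (by norm_num) h2
    have h3 : c' * k ∈ Nat.divisors 6 := Nat.mem_divisors.mpr ⟨h1, by norm_num⟩
    have hd : Nat.divisors 6 = {1, 2, 3, 6} := by decide
    rw [hd] at h3
    simp only [Finset.mem_insert, Finset.mem_singleton] at h3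
    rcases hk with rfl | rfl | rfl | rfl | rfl <;> rcases h3 with h3 | h3 | h3 | h3 <;>
      omega

end Cfsg.Agent.Lib.Helper31_J1_ORD
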