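import Mathlib
import Cfsg.Agent.Lib.Helper31_LBalance
import Cfsg.Agent.Lib.Lead_LBal2Defs

/-!
# `L_{2'}`-balance without the Schreier property, Part D (helper31)

Assembly of S1301 from Theorem C (`Lead_LBal2.ThmC_Statement`, as a hypothesis) and the class lemma
(J4) "every `2`-component is in `𝒥`" (as a hypothesis).  See `pending/lead/S1301_proof.md`, Part D.

* `isJ2_map` (J1): homomorphic images of `𝒥`-subgroups are `𝒥`-subgroups.
* `le_layer_of_local₂` (D1): copy of `Helper31_LBalance.le_layer_of_local` for `p = 2` with Theorem C in place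
  of `le_layer_of_le_compKer`.
* `l_balance_of` (D2): the statement of S1301.
-/

set_option autoImplicit false

universe u

namespace Cfsg.Agent.Lib.Helper31_LBal2_D

open Cfsg Cfsg.Agent.Lib.Helper23_Layer Cfsg.Agent.Lib.Helper23_PComp
  Cfsg.Agent.Lib.Helper31_PQ Cfsg.Agent.Lib.Helper31_LBalance Cfsg.Agent.Lib.Lead_LBal2
open scoped commutatorElement

/-- (J1) for images of subgroups. -/
theorem isJ2_map {G H : Type*} [Group G] [Group H] (f : G →* H) {J : Subgroup G} (hJ : Lead_LBal2.IsJ2 J) :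
    Lead_LBal2.IsJ2 (J.map f) := by
  refine ⟨?_, ?_⟩
  · rw [← Subgroup.map_commutator, hJ.1]
  · apply le_antisymm
    · rw [Subgroup.closure_le]
      rintro x ⟨hx, -⟩
      exact hx
    · have h1 : J.map f ≤ Subgroup.closure (f '' {x : G | x ∈ J ∧ ∃ n : ℕ, x ^ (2 ^ n) = 1}) := by
        rw [← MonoidHom.map_closure, hJ.2]
      refine h1.trans (Subgroup.closure_mono ?_)
      rintro _ ⟨x, ⟨hxJ, n, hn⟩, rfl⟩
      exact ⟨Subgroup.mem_map_of_mem f hxJ, n, by rw [← map_pow, hn, map_one]⟩

/-- **D1.** Let `O(G) = 1`.  If `P₀` is a `2`-subgroup and `J` a subnormal `PQ`-subgroup of `N_G(P₀)` in the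
class `𝒥`, then `J ≤ E(G)` (Theorem C as a hypothesis). -/
theorem le_layer_of_local₂ {G : Type u} [Group G] [Finite G] (hC : ThmC_Statement.{u})
    (h0 : pPrimeCore 2 G = ⊥)
    (P₀ : Subgroup G) (hP₀ : IsPGroup 2 P₀) (J : Subgroup G)
    (hJY : J ≤ Subgroup.normalizer (P₀ : Set G))
    (hJsn : (J.subgroupOf (Subgroup.normalizer (P₀ : Set G))).IsSubnormal) (hPQ : PQ 2 J)
    (hJ2 : Lead_LBal2.IsJ2 J) :
    J ≤ layer G := by
  by_cases hJbot : J = ⊥
  · rw [hJbot]; exact bot_le
  set Y₀ := Subgroup.normalizer (P₀ : Set G) with hY₀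
  set F := pCore 2 G with hF
  have hFn : F.Normal := Cfsg.Agent.Lib.Helper1_Cores.pCore_normal 2
  have hFp : IsPGroup 2 F := Cfsg.Agent.Lib.Helper1_Cores.pCore_isPGroup 2
  have hPQ' : PQ 2 (J.subgroupOf Y₀) := hPQ.subgroupOf hJY
  -- a general principle: `J` centralizes `N ∩ Y₀` for `N` a `2`-subgroup normalized by `Y₀`
  have key : ∀ N : Subgroup G, IsPGroup 2 N → (N.subgroupOf Y₀).Normal →
      ∀ x ∈ N, x ∈ Y₀ → ∀ j ∈ J, x * j = j * x := by
    intro N hNp hNn x hxN hxY j hj
    rcases PQ.le_or_commutator_eq_bot hPQ' hJsn (N.subgroupOf Y₀) hNp.comap_subtype with h | h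
    · exfalso
      apply hJbot
      have hle : J ≤ N := by
        intro j hj
        have hj' : (⟨j, hJY hj⟩ : ↥Y₀) ∈ J.subgroupOf Y₀ := by
          rw [Subgroup.mem_subgroupOf]; exact hj
        have := h hj'
        rwa [Subgroup.mem_subgroupOf] at this
      exact hPQ.eq_bot_of_isNilpotent (hNp.to_le hle).isNilpotent
    · have hx' : (⟨x, hxY⟩ : ↥Y₀) ∈ N.subgroupOf Y₀ := by
        rw [Subgroup.mem_subgroupOf]; exact hxN
      have hj' : (⟨j, hJY hj⟩ : ↥Y₀) ∈ J.subgroupOf Y₀ := by
        rw [Subgroup.mem_subgroupOf]; exact hj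
      have hmem := Subgroup.commutator_mem_commutator hx' hj'
      rw [h, Subgroup.mem_bot, commutatorElement_eq_one_iff_commute] at hmem
      exact congrArg Subtype.val hmem.eq
  have hJP₀ : J ≤ Subgroup.centralizer (P₀ : Set G) := by
    intro j hj
    rw [Subgroup.mem_centralizer_iff]
    intro x hx
    exact key P₀ hP₀ Subgroup.normal_in_normalizer x hx (Subgroup.le_normalizer hx) j hj
  have hJF : J ≤ Subgroup.centralizer (F : Set G) := by
    apply Cfsg.Agent.Lib.Helper23_LocalLayer.perfect_le_of_coprime_mem 2 J _ hPQ.1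
    · rw [Subgroup.normalizer_eq_top_iff.mpr (Subgroup.normal_centralizer (H := F))]
      exact le_top
    · intro y hy hyo
      have hyo' : (orderOf (⟨y, hJY hy⟩ : ↥Y₀)).Coprime 2 := by
        rwa [Subgroup.orderOf_mk]
      refine Cfsg.Agent.Lib.Helper23_LocalLayer.coe_mem_centralizer_pCore P₀ hP₀ ⟨y, hJY hy⟩ hyo'
        ?_ ?_
      · intro r hr
        rw [Subgroup.mem_subgroupOf] at hr
        apply Subtype.ext
        exact (key F hFp (hFn.subgroupOf Y₀) r hr r.2 y hy).symm
      · intro r hr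
        rw [Subgroup.mem_subgroupOf] at hr
        apply Subtype.ext
        exact (key P₀ hP₀ Subgroup.normal_in_normalizer r hr r.2 y hy).symm
  -- enlarge `P₀`
  set P := P₀ ⊔ F with hPdef
  have hPp : IsPGroup 2 P := hP₀.to_sup_of_normal_right hFp
  have hFP : F ≤ P := le_sup_right
  have hJP : J ≤ Subgroup.centralizer (P : Set G) := by
    rw [Subgroup.le_centralizer_iff]
    exact sup_le (Subgroup.le_centralizer_iff.mp hJP₀) (Subgroup.le_centralizer_iff.mp hJF)
  set Y' := Subgroup.normalizer (P : Set G) with hY'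
  have hCY₀ : Subgroup.centralizer (P : Set G) ≤ Y₀ :=
    (Subgroup.centralizer_le (show (P₀ : Set G) ⊆ P from (le_sup_left : P₀ ≤ P))).trans
      (Subgroup.centralizer_le_normalizer _)
  have hCY' : Subgroup.centralizer (P : Set G) ≤ Y' := Subgroup.centralizer_le_normalizer _
  have hCn : ((Subgroup.centralizer (P : Set G)).subgroupOf Y').Normal :=
    (Subgroup.normal_subgroupOf_iff_le_normalizer hCY').mpr
      (normalizer_le_normalizer_centralizer' P)
  have hJsn' : (J.subgroupOf Y').IsSubnormal :=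
    subnormal_subgroupOf_trans hJP hCY' (subnormal_subgroupOf_of_le hCY₀ hJsn) hCn.isSubnormal
  have hJY' : J ≤ Y' := hJP.trans hCY'
  have hEn : ((layer G).subgroupOf Y').Normal :=
    (Cfsg.Agent.Lib.Helper29_Local.layer_normal G).subgroupOf Y'
  rcases (hPQ.subgroupOf hJY').le_or_commutator_le hJsn' ((layer G).subgroupOf Y') with h | h
  · intro j hj
    have hj' : (⟨j, hJY' hj⟩ : ↥Y') ∈ J.subgroupOf Y' := by
      rw [Subgroup.mem_subgroupOf]; exact hj
    have := h hj'
    rwa [Subgroup.mem_subgroupOf] at this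
  · set D := (pPrimeCore 2 ↥Y').map Y'.subtype with hDdef
    have hD : (Nat.card D).Coprime 2 := by
      rw [hDdef, Subgroup.card_map_of_injective (Subgroup.subtype_injective Y')]
      exact pPrimeCore_coprime 2
    have hJt : ∀ t ∈ layer G ⊓ Y', ∀ g ∈ J, ⁅t, g⁆ ∈ D := by
      intro t ht g hg
      have ht' : (⟨t, ht.2⟩ : ↥Y') ∈ (layer G).subgroupOf Y' := by
        rw [Subgroup.mem_subgroupOf]; exact ht.1
      have hg' : (⟨g, hJY' hg⟩ : ↥Y') ∈ J.subgroupOf Y' := by
        rw [Subgroup.mem_subgroupOf]; exact hg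
      exact ⟨⁅(⟨t, ht.2⟩ : ↥Y'), ⟨g, hJY' hg⟩⁆, h (Subgroup.commutator_mem_commutator ht' hg'),
        by simp [commutatorElement_def]⟩
    have hK := le_compKer h0 P hPp hFP D hD J hPQ.1 hJP hJt
    -- Theorem C: `J` centralizes every component
    have hcent := hC h0 P hPp hFP D hD J hJ2 hJP hK hJt
    have hJE : J ≤ Subgroup.centralizer (layer G : Set G) := by
      rw [Subgroup.le_centralizer_iff]
      unfold layer
      apply sSup_le
      intro K hK'
      rw [← Subgroup.le_centralizer_iff]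
      exact hcent K hK'
    have hJF' : J ≤ Subgroup.centralizer (fittingSubgroup G : Set G) :=
      hJF.trans (Subgroup.centralizer_le (fitting_le_pCore 2 h0))
    have hJFs : J ≤ Subgroup.centralizer (generalizedFittingSubgroup G : Set G) := by
      rw [Subgroup.le_centralizer_iff]
      unfold generalizedFittingSubgroup
      apply sup_le
      · rw [← Subgroup.le_centralizer_iff]; exact hJE
      · rw [← Subgroup.le_centralizer_iff]; exact hJF'
    have hJin : J ≤ generalizedFittingSubgroup G := fun j hj =>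
      Cfsg.Agent.Lib.Helper21_FStar.centralizer_generalizedFitting_le (hJFs hj)
    exfalso
    apply hJbot
    rw [← hPQ.1, Subgroup.commutator_eq_bot_iff_le_centralizer]
    exact hJFs.trans (Subgroup.centralizer_le hJin)

/-- **D2 = S1301** from Theorem C and (J4). -/
theorem l_balance_of (hC : ThmC_Statement.{u})
    (hJ4 : ∀ {Y : Type u} [Group Y] [Finite Y] (L : Subgroup Y), IsPComponent 2 L → Lead_LBal2.IsJ2 L)
    {X : Type u} [Group X] [Finite X] (T : Subgroup X) (hT : IsPGroup 2 ↥T) :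
    (Cfsg.pLayer 2 ↥(Subgroup.centralizer (T : Set X))).map
      (Subgroup.centralizer (T : Set X)).subtype ≤ Cfsg.pLayer 2 X := by
  set Y := Subgroup.centralizer (T : Set X) with hY
  set N := Subgroup.normalizer (T : Set X) with hN
  set π := QuotientGroup.mk' (pPrimeCore 2 X) with hπ
  have hYN : Y ≤ N := Subgroup.centralizer_le_normalizer _
  have hYn : (Y.subgroupOf N).Normal :=
    (Subgroup.normal_subgroupOf_iff_le_normalizer hYN).mpr
      (normalizer_le_normalizer_centralizer' T)
  have h0 : pPrimeCore 2 (X ⧸ pPrimeCore 2 X) = ⊥ := pPrimeCore_quotient_eq_bot X 2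
  unfold pLayer
  rw [Subgroup.map_le_iff_le_comap, sSup_le_iff]
  intro J hJ
  rw [← Subgroup.map_le_iff_le_comap]
  have hJ' : IsPComponent 2 J := hJ
  change J.map Y.subtype ≤ pLayer 2 X
  have hPQ : PQ 2 J := PQ.of_isPComponent 2 hJ'
  have hJ2 : Lead_LBal2.IsJ2 J := hJ4 J hJ'
  have hPQ2 : PQ 2 ((J.map Y.subtype).map π) := (hPQ.map Y.subtype).map π
  have hJ22 : Lead_LBal2.IsJ2 ((J.map Y.subtype).map π) := isJ2_map π (isJ2_map Y.subtype hJ2)
  have hJleY : J.map Y.subtype ≤ Y := by
    rintro _ ⟨j, _, rfl⟩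
    exact j.2
  -- `J`, viewed in `N_X(T)`, is subnormal
  have hsub1 : ((J.map Y.subtype).subgroupOf Y).IsSubnormal := by
    have : (J.map Y.subtype).subgroupOf Y = J := by
      ext y
      rw [Subgroup.mem_subgroupOf]
      constructor
      · rintro ⟨j, hj, hjy⟩
        have : j = y := Subtype.ext hjy
        exact this ▸ hj
      · intro hy
        exact ⟨y, hy, rfl⟩
    rw [this]
    exact hJ'.1
  have hsubN : ((J.map Y.subtype).subgroupOf N).IsSubnormal :=
    subnormal_subgroupOf_trans hJleY hYN hsub1 hYn.isSubnormal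
  obtain ⟨hle, hsn⟩ := image_local_subnormal (p := 2) T hT ((J.map Y.subtype).subgroupOf N) hsubN
  have hmapN : ((J.map Y.subtype).subgroupOf N).map N.subtype = J.map Y.subtype := by
    rw [Subgroup.subgroupOf_map_subtype]
    exact inf_eq_left.mpr (hJleY.trans hYN)
  rw [hmapN] at hle hsn
  have hmain := le_layer_of_local₂ hC h0 (T.map π) (hT.map π) _ hle hsn hPQ2 hJ22
  rw [← pLayer_map_eq_layer] at hmain
  have h1 : J.map Y.subtype ≤ pLayer 2 X ⊔ pPrimeCore 2 X := le_sup_pPrimeCore_of_map_le 2 hmain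
  -- now use that `J` has no proper normal subgroup of `2'`-index
  have hLn : (pLayer 2 X).Normal := inferInstance
  have hidx : ((pLayer 2 X).relIndex (J.map Y.subtype)).Coprime 2 := by
    have h2 := relIndex_dvd_card_of_le_sup (pLayer 2 X) (pPrimeCore 2 X) (J.map Y.subtype)
      (by rw [Subgroup.normalizer_eq_top_iff.mpr hLn]; exact le_top) (by rwa [sup_comm])
    exact Nat.Coprime.coprime_dvd_left h2 (pPrimeCore_coprime 2)
  set A : Subgroup ↥Y := (pLayer 2 X).subgroupOf Y with hA
  have hAn : A.Normal := hLn.subgroupOf Y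
  have hNN : A ⊓ J = J := by
    apply pcomp_eq_of_normal_coprime 2 hJ' inf_le_right
    · rw [Subgroup.inf_subgroupOf_right]
      exact hAn.subgroupOf J
    · rw [Subgroup.inf_relIndex_right]
      have : A.relIndex J = (pLayer 2 X).relIndex (J.map Y.subtype) :=
        Subgroup.relIndex_comap (pLayer 2 X) Y.subtype J
      rw [this]
      exact hidx
  rintro _ ⟨j, hj, rfl⟩
  have : j ∈ A ⊓ J := by rw [hNN]; exact hj
  exact Subgroup.mem_subgroupOf.mp this.1

end Cfsg.Agent.Lib.Helper31_LBal2_D
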