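import Mathlib
import Cfsg.Agent.Lib.Helper44_MI3Defs
import Cfsg.Agent.Lib.Helper94_OrthVec

set_option autoImplicit false

/-!
# Helper47_MI3_HYPB (S2144 package MI3-HYPB, helper47)

A point `ω` fixed by a full Siegel group `U_{v₀}` and, for every singular `v`, by a hyperplane of
`U_v`, is fixed by all of `T Q` (dimension `2m + 1 ≥ 7`, field with three elements).
-/

namespace Cfsg.Agent.Lib.Helper47_MI3_HYPB

open Module Cfsg.Agent.Lib.Helper14_OmegaSimple Cfsg.Agent.Lib.Helper22_MI2Defs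
  Cfsg.Agent.Lib.Helper44_MI3Defs

variable {F V : Type*} [Field F] [AddCommGroup V] [Module F V]

section action

variable {X : Type*} [MulAction (V ≃ₗ[F] V) X]

/-- two "full" singular vectors at a moved point are orthogonal -/
theorem full_orth3 [FiniteDimensional F V] (Q : QuadraticForm F V)
    (hQ : (QuadraticMap.polarBilin Q).Nondegenerate) (ω : X)
    {v₀ : V} (hQv₀ : Q v₀ = 0)
    (hfix : ∀ w : V, QuadraticMap.polar (⇑Q) v₀ w = 0 → E Q v₀ w • ω = ω)
    (hmove : ∃ g ∈ T Q, g • ω ≠ ω)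
    {u : V} (hu : Q u = 0)
    (hufix : ∀ z : V, QuadraticMap.polar (⇑Q) u z = 0 → E Q u z • ω = ω) :
    QuadraticMap.polar (⇑Q) v₀ u = 0 := by
  by_contra hne
  let M : Subgroup (V ≃ₗ[F] V) :=
    MulAction.stabilizer (V ≃ₗ[F] V) ω ⊓ Cfsg.Agent.Lib.Helper94_OrthSmall.oG (⇑Q)
  have hall := Cfsg.Agent.Lib.Helper94_OrthVec.all_of_pair (⇑Q) (QuadraticMap.polarBilin Q)
    (hQs Q) (hQp Q) hQ M inf_le_right (w1 := v₀) (w2 := u)
    ⟨hQv₀, fun z hz => by
      rw [QuadraticMap.polarBilin_apply_apply] at hz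
      exact ⟨hfix z hz, E_mem_oG Q hQv₀ hz⟩⟩
    ⟨hu, fun z hz => by
      rw [QuadraticMap.polarBilin_apply_apply] at hz
      exact ⟨hufix z hz, E_mem_oG Q hu hz⟩⟩
    (by rw [QuadraticMap.polarBilin_apply_apply]; exact hne)
  obtain ⟨g, hgT, hg⟩ := hmove
  apply hg
  have hle : T Q ≤ MulAction.stabilizer (V ≃ₗ[F] V) ω := by
    rw [T, Subgroup.closure_le]
    rintro g ⟨a, s, ha, hs, has, rfl⟩
    exact (hall a s ha (by rw [QuadraticMap.polarBilin_apply_apply]; exact has)).1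
  exact hle hgT

theorem hypB3 [Finite F] [FiniteDimensional F V] (Q : QuadraticForm F V) {m : ℕ}
    (hS : OddSetting Q m) (hm : 3 ≤ m) (ω : X)
    (hA : ∀ v : V, v ≠ 0 → Q v = 0 → ∃ lam : V, ∀ w : V,
      QuadraticMap.polar (⇑Q) v w = 0 → QuadraticMap.polar (⇑Q) lam w = 0 → E Q v w • ω = ω)
    {v₀ : V} (hv₀ : v₀ ≠ 0) (hQv₀ : Q v₀ = 0)
    (hfix : ∀ w : V, QuadraticMap.polar (⇑Q) v₀ w = 0 → E Q v₀ w • ω = ω)
    (hmove : ∃ g ∈ T Q, g • ω ≠ ω) : False := by
  classical
  have hQ := hS.nondeg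
  obtain ⟨vs, hQvs, hvvs⟩ :=
    Cfsg.Agent.Lib.Helper44_QuadClass.exists_hyperbolic_partner Q hQ hv₀ hQv₀
  have hvs0 : vs ≠ 0 := by
    rintro rfl
    simp [QuadraticMap.polar] at hvvs
  obtain ⟨lam, hlam⟩ := hA vs hvs0 hQvs
  have hW : ∀ w : V, QuadraticMap.polar (⇑Q) v₀ w = 0 → QuadraticMap.polar (⇑Q) vs w = 0 →
      QuadraticMap.polar (⇑Q) lam w = 0 → Q w = 0 := by
    intro w h0 h1 h2
    have hgO : E Q vs w ∈ Cfsg.Agent.Lib.Helper94_OrthSmall.oG (⇑Q) := E_mem_oG Q hQvs h1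
    have hgω : E Q vs w • ω = ω := hlam w h1 h2
    have hginv : (E Q vs w)⁻¹ • ω = ω := by
      rw [inv_smul_eq_iff, hgω]
    have hu : Q (E Q vs w v₀) = 0 := by
      rw [hgO v₀]; exact hQv₀
    have hufix : ∀ z : V, QuadraticMap.polar (⇑Q) (E Q vs w v₀) z = 0 →
        E Q (E Q vs w v₀) z • ω = ω := by
      intro z hz
      have hzz : E Q vs w ((E Q vs w)⁻¹ z) = z := by
        rw [← LinearEquiv.mul_apply, mul_inv_cancel]; rfl
      have hz' : QuadraticMap.polar (⇑Q) v₀ ((E Q vs w)⁻¹ z) = 0 := by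
        rw [← oG_polar Q hgO v₀ ((E Q vs w)⁻¹ z), hzz]
        exact hz
      have h5 := conj_E Q hgO hQv₀ hz'
      rw [hzz] at h5
      rw [← h5, mul_smul, mul_smul, hginv, hfix _ hz', hgω]
    have h3 := full_orth3 Q hQ ω hQv₀ hfix hmove hu hufix
    rw [E_apply Q hQvs h1] at h3
    have h00 : QuadraticMap.polar (⇑Q) v₀ v₀ = 0 := by
      rw [Cfsg.Agent.Lib.Helper44_QuadClass.polar_self', hQv₀, mul_zero]
    rw [QuadraticMap.polar_sub_right, QuadraticMap.polar_sub_right, QuadraticMap.polar_add_right,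
      QuadraticMap.polar_smul_right, QuadraticMap.polar_smul_right, QuadraticMap.polar_smul_right,
      h00, h0, hvvs] at h3
    simpa using h3
  -- dimension count
  let S : Submodule F V := Submodule.span F ((({v₀, vs, lam} : Finset V)) : Set V)
  let W : Submodule F V := LinearMap.BilinForm.orthogonal (QuadraticMap.polarBilin Q) S
  have hWmem : ∀ w ∈ W, Q w = 0 := by
    intro w hw
    have hmem : ∀ x ∈ ({v₀, vs, lam} : Finset V), QuadraticMap.polar (⇑Q) x w = 0 := by
      intro x hx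
      have := hw x (Submodule.subset_span (by exact_mod_cast hx))
      rw [QuadraticMap.polarBilin_apply_apply] at this
      exact this
    exact hW w (hmem v₀ (by simp)) (hmem vs (by simp)) (hmem lam (by simp))
  have hWiso : W ≤ LinearMap.BilinForm.orthogonal (QuadraticMap.polarBilin Q) W := by
    intro x hx y hy
    rw [QuadraticMap.polarBilin_apply_apply, QuadraticMap.polar,
      hWmem _ (W.add_mem hy hx), hWmem y hy, hWmem x hx]
    ring
  have h1 : finrank F W = finrank F V - finrank F S :=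
    LinearMap.BilinForm.finrank_orthogonal hQ S
  have h2 : finrank F (LinearMap.BilinForm.orthogonal (QuadraticMap.polarBilin Q) W) = finrank F V - finrank F W :=
    LinearMap.BilinForm.finrank_orthogonal hQ W
  have h3 : finrank F W ≤ finrank F (LinearMap.BilinForm.orthogonal (QuadraticMap.polarBilin Q) W) :=
    Submodule.finrank_mono hWiso
  have h4 : finrank F S ≤ 3 :=
    (finrank_span_finset_le_card _).trans Finset.card_le_three
  rw [hS.dim] at h1 h2
  omega

end action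

end Cfsg.Agent.Lib.Helper47_MI3_HYPB
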