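import Mathlib
import Cfsg.Agent.Lib.Helper38_CBDefs
import Cfsg.Agent.Lib.Helper74_OD_BASIC
import Cfsg.Agent.Lib.Helper10_OD_IRR3

set_option autoImplicit false
set_option linter.unusedSectionVars false

/-!
# OD2-IRR (helper31, for helper38 / S5692 + S5694)

Characteristic-free irreducibility of the Siegel elements of a nondegenerate subspace of
dimension at least three, in the form `IrrK Q B 3`.
-/

namespace Cfsg.Agent.Lib.Helper31_OD2_IRR

open Module Cfsg.Agent.Lib.Helper94_Symp Cfsg.Agent.Lib.Helper94_OrthSmall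
  Cfsg.Agent.Lib.Helper94_OrthSiegel Cfsg.Agent.Lib.Helper94_OrthSiegel2
  Cfsg.Agent.Lib.Helper94_OrthPara Cfsg.Agent.Lib.Helper94_OrthVec
  Cfsg.Agent.Lib.Helper94_OrthNondeg Cfsg.Agent.Lib.Helper94_OrthRefl
  Cfsg.Agent.Lib.Helper29_ODDefs Cfsg.Agent.Lib.Helper38_OD2Defs Cfsg.Agent.Lib.Helper38_CBDefs
open Cfsg.Agent.Lib.Helper38_OD2_A1 (sieg_block_mem_M InZ_block)
open Cfsg.Agent.Lib.Helper38_OD2_STAR (starA)

variable {F V : Type*} [Field F] [AddCommGroup V] [Module F V] [Finite F] [FiniteDimensional F V]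
  {Q : V → F} {B : LinearMap.BilinForm F V}

/-- Char-free irreducibility (replaces `Helper10_OD_IRR3.irr3`, which needs `2 ≠ 0`). -/
theorem irrK3 (hQs : ∀ (c : F) (v : V), Q (c • v) = c * c * Q v)
    (hQp : ∀ u v : V, Q (u + v) = Q u + Q v + B u v) : IrrK Q B 3 := by
  intro A X hA h3 hX a a' hx ha ha0 ha'
  have hsymm := B_symm Q B hQp
  have hsapp := @sieg_apply F V _ _ _ Q B hQs hQp
  -- Step 2: a singular vector of `A` not orthogonal to a vector of `X ⊓ A` lies in `X`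
  have key : ∀ b ∈ X, b ∈ A → ∀ u ∈ A, Q u = 0 → B b u ≠ 0 → u ∈ X := by
    intro b hbX hbA u huA hQu hbu
    have hu0 : u ≠ 0 := by
      rintro rfl
      exact hbu (by rw [map_zero])
    obtain ⟨v₁, hv₁A, v₂, hv₂A, huv₁, huv₂, hv₁v₂⟩ := exists_pair hQp A hA h3 huA hu0
    have huv₁₂ : B u (v₁ + v₂) = 0 := by rw [map_add, huv₁, huv₂, add_zero]
    have h1 := hX u huA v₁ hv₁A hQu huv₁ b hbX
    have h2 := hX u huA v₂ hv₂A hQu huv₂ b hbX
    have h3' := hX u huA (v₁ + v₂) (A.add_mem hv₁A hv₂A) hQu huv₁₂ b hbX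
    rw [hsapp hQu huv₁] at h1
    rw [hsapp hQu huv₂] at h2
    rw [hsapp hQu huv₁₂, hQp, map_add] at h3'
    have h4 := X.sub_mem (X.sub_mem (X.add_mem h1 h2) h3') hbX
    have e : b + B b u • v₁ - B b v₁ • u - (Q v₁ * B b u) • u +
        (b + B b u • v₂ - B b v₂ • u - (Q v₂ * B b u) • u) -
        (b + B b u • (v₁ + v₂) - (B b v₁ + B b v₂) • u -
          ((Q v₁ + Q v₂ + B v₁ v₂) * B b u) • u) - b =
        (B v₁ v₂ * B b u) • u := by module
    rw [e] at h4
    have hne : B v₁ v₂ * B b u ≠ 0 := mul_ne_zero hv₁v₂ hbu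
    have h5 := X.smul_mem (B v₁ v₂ * B b u)⁻¹ h4
    rwa [smul_smul, inv_mul_cancel₀ hne, one_smul] at h5
  -- Step 1: `X ⊓ A` contains a nonzero vector
  obtain ⟨b, hbX, hbA, hb0⟩ : ∃ b ∈ X, b ∈ A ∧ b ≠ 0 := by
    obtain ⟨u, huA, hQu, hua⟩ := exists_sing_not_orth Q B hQs hQp A hA h3 (hA a ha ha0)
    have hu0 : u ≠ 0 := by
      rintro rfl
      exact hua (by rw [map_zero, LinearMap.zero_apply])
    obtain ⟨v, hvA, huv, hQv⟩ :=
      Cfsg.Agent.Lib.Helper10_OD_IRR3.exists_nonsing_orth_in hQp A hA h3 huA hu0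
    have h1 := hX u huA v hvA hQu huv _ hx
    rw [hsapp hQu huv] at h1
    have e1 : B (a + a') u = B u a := by
      rw [map_add, LinearMap.add_apply, hsymm a' u, ha' u huA, add_zero, hsymm]
    have e2 : B (a + a') v = B a v := by
      rw [map_add, LinearMap.add_apply, hsymm a' v, ha' v hvA, add_zero]
    rw [e1, e2] at h1
    have h4 := X.sub_mem h1 hx
    have e3 : a + a' + B u a • v - B a v • u - (Q v * B u a) • u - (a + a') =
        B u a • v + (-(B a v + Q v * B u a)) • u := by module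
    rw [e3] at h4
    refine ⟨_, h4, A.add_mem (A.smul_mem _ hvA) (A.smul_mem _ huA), ?_⟩
    intro h0
    have hQ0 := congrArg Q h0
    rw [Q_add_smul Q B hQs hQp, hQu, hQs, map_smul, LinearMap.smul_apply, hsymm v u, huv,
      Q_zero Q hQs] at hQ0
    simp only [mul_zero, smul_zero, add_zero] at hQ0
    exact mul_ne_zero (mul_ne_zero hua hua) hQv hQ0
  -- Step 3: `X ⊓ A` contains a nonzero singular vector
  obtain ⟨s, hsA, hQs', hsb⟩ := exists_sing_not_orth Q B hQs hQp A hA h3 (hA b hbA hb0)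
  have hs0 : s ≠ 0 := by
    rintro rfl
    exact hsb (by rw [map_zero, LinearMap.zero_apply])
  have hsX : s ∈ X := key b hbX hbA s hsA hQs' (by rw [hsymm]; exact hsb)
  obtain ⟨s', hs'A, hQs'', hs's⟩ := exists_sing_not_orth Q B hQs hQp A hA h3 (hA s hsA hs0)
  have hs'X : s' ∈ X := key s hsX hsA s' hs'A hQs'' (by rw [hsymm]; exact hs's)
  -- Step 4: all singular vectors of `A` lie in `X`
  have hall : ∀ t ∈ A, Q t = 0 → t ∈ X := by
    intro t htA hQt
    by_cases h1 : B s t = 0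
    · by_cases h1' : B s' t = 0
      · have hst : Q (s + t) = 0 := by rw [hQp, hQs', hQt, h1]; ring
        have h4 : s + t ∈ X := by
          apply key s' hs'X hs'A (s + t) (A.add_mem hsA htA) hst
          rw [map_add, h1', add_zero]
          exact hs's
        have := X.sub_mem h4 hsX
        rwa [add_sub_cancel_left] at this
      · exact key s' hs'X hs'A t htA hQt h1'
    · exact key s hsX hsA t htA hQt h1
  -- Step c
  intro a1 ha1
  by_cases ha10 : a1 = 0
  · rw [ha10]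
    exact X.zero_mem
  obtain ⟨s1, hs1A, hQs1, hs1a⟩ := exists_sing_not_orth Q B hQs hQp A hA h3 (hA a1 ha1 ha10)
  have ha1s : B a1 s1 ≠ 0 := by rw [hsymm]; exact hs1a
  have h1 := sing_adjust Q B hQs hQp hQs1 ha1s
  have h4 := hall _ (A.add_mem ha1 (A.smul_mem _ hs1A)) h1
  have h5 := hall s1 hs1A hQs1
  have h6 := X.sub_mem h4 (X.smul_mem (-(Q a1 / B a1 s1)) h5)
  rwa [add_sub_cancel_right] at h6

end Cfsg.Agent.Lib.Helper31_OD2_IRR
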