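import Mathlib
import Cfsg.Agent.Lib.Helper38_CBDefs
import Cfsg.Agent.Lib.Helper74_OD_BASIC

set_option autoImplicit false
set_option linter.unusedSectionVars false

/-!
# OD2-T0 (helper31, for helper38 / S5692 + S5694)

Components of the Siegel group of `M` at a type II vector `y` at the blocks where `y` has a
singular (possibly zero) component.
-/

namespace Cfsg.Agent.Lib.Helper31_OD2_T0

open Module Cfsg.Agent.Lib.Helper94_Symp Cfsg.Agent.Lib.Helper94_OrthSmall
  Cfsg.Agent.Lib.Helper94_OrthSiegel Cfsg.Agent.Lib.Helper94_OrthSiegel2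
  Cfsg.Agent.Lib.Helper94_OrthPara Cfsg.Agent.Lib.Helper94_OrthVec
  Cfsg.Agent.Lib.Helper94_OrthNondeg Cfsg.Agent.Lib.Helper94_OrthRefl
  Cfsg.Agent.Lib.Helper29_ODDefs Cfsg.Agent.Lib.Helper38_OD2Defs Cfsg.Agent.Lib.Helper38_CBDefs
open Cfsg.Agent.Lib.Helper38_OD2_A1 (sieg_block_mem_M InZ_block)
open Cfsg.Agent.Lib.Helper38_OD2_STAR (starA)

variable {F V : Type*} [Field F] [AddCommGroup V] [Module F V] [Finite F] [FiniteDimensional F V]
  {Q : V → F} {B : LinearMap.BilinForm F V}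

/-- (★): a Siegel element `sieg w v` of the block `D j` fixing `y` moves `z` inside the Siegel
group of `M` at `y`. -/
theorem star_inz {t k : ℕ} {D : Fin t → Submodule F V} {S M : Subgroup (V ≃ₗ[F] V)}
    (hC : Ctx2 Q B k D S M) {π : Fin t → (V →ₗ[F] V)} (hπ : Projs Q B D π)
    {y : V} (hQy : Q y = 0) {j : Fin t} {w v : V} (hw : w ∈ D j) (hv : v ∈ D j) (hQw : Q w = 0)
    (hwv : B w v = 0) (h1 : B (π j y) w = 0) (h2 : B (π j y) v = 0) {z : V}
    (hz : InZ Q B M y z) :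
    InZ Q B M y (B z w • v - B z v • w - (Q v * B z w) • w) := by
  have hh : sieg Q B w v ∈ M := sieg_block_mem_M hC hw hv hQw hwv
  have hyw : B y w = 0 := by rw [hπ.B_left j y w hw]; exact h1
  have hyv : B y v = 0 := by rw [hπ.B_left j y v hv]; exact h2
  have hhy : sieg Q B w v y = y := by
    rw [sieg_apply Q B hC.hQs hC.hQp hQw hwv, hyw, hyv]
    simp
  have h3 := inz_fix hC hh hhy hQy hz
  have e : sieg Q B w v z - z = B z w • v - B z v • w - (Q v * B z w) • w := by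
    rw [sieg_apply Q B hC.hQs hC.hQp hQw hwv]
    abel
  rwa [e] at h3

/-- OD2-T0. -/
theorem comp_of_sing {t k : ℕ} {D : Fin t → Submodule F V} {S M : Subgroup (V ≃ₗ[F] V)}
    (hC : Ctx2 Q B k D S M) (hB : CaseB Q B D M) {π : Fin t → (V →ₗ[F] V)} (hπ : Projs Q B D π)
    {g : V ≃ₗ[F] V} {i : Fin t} {y : V} (hy : TypeII Q D M g i y) {j : Fin t}
    (hyj : Q (π j y) = 0) {z : V} (hz : InZ Q B M y z) : ∃ c : F, π j z = c • π j y := by
  have hsymm := B_symm Q B hC.hQp
  have hA := hC.hD.nd j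
  have h3 : 3 ≤ finrank F (D j) := by rw [hC.hD.fr j]; exact hC.hk
  have hyjm : π j y ∈ D j := hπ.mem j y
  have hzjm : π j z ∈ D j := hπ.mem j z
  -- the additivity trick
  have trick : ∀ w ∈ D j, w ≠ 0 → Q w = 0 → B (π j y) w = 0 →
      (∀ v ∈ D j, B w v = 0 → B (π j y) v = 0) → B z w = 0 := by
    intro w hw hw0 hQw hyw hperp
    obtain ⟨v₁, hv₁, v₂, hv₂, hwv₁, hwv₂, hv₁v₂⟩ := exists_pair hC.hQp (D j) hA h3 hw hw0
    have hwv₁₂ : B w (v₁ + v₂) = 0 := by rw [map_add, hwv₁, hwv₂, add_zero]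
    have e1 := star_inz hC hπ hy.sing hw hv₁ hQw hwv₁ hyw (hperp v₁ hv₁ hwv₁) hz
    have e2 := star_inz hC hπ hy.sing hw hv₂ hQw hwv₂ hyw (hperp v₂ hv₂ hwv₂) hz
    have e12 := star_inz hC hπ hy.sing hw ((D j).add_mem hv₁ hv₂) hQw hwv₁₂ hyw
      (hperp _ ((D j).add_mem hv₁ hv₂) hwv₁₂) hz
    have e3 := InZ_sub hC.hQs hC.hQp hy.sing (InZ_add hC.hQs hC.hQp hy.sing e1 e2) e12
    have e : B z w • v₁ - B z v₁ • w - (Q v₁ * B z w) • w +
        (B z w • v₂ - B z v₂ • w - (Q v₂ * B z w) • w) -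
        (B z w • (v₁ + v₂) - B z (v₁ + v₂) • w - (Q (v₁ + v₂) * B z w) • w) =
        (B z w * B v₁ v₂) • w := by
      rw [hC.hQp, map_add]
      module
    rw [e] at e3
    have h0 := eq_zero_of_inz_block hC hB hy ((D j).smul_mem _ hw)
      (by rw [hC.hQs, hQw, mul_zero]) e3
    rcases smul_eq_zero.mp h0 with h | h
    · rcases mul_eq_zero.mp h with h' | h'
      · exact h'
      · exact absurd h' hv₁v₂
    · exact absurd h hw0
  by_cases hy0 : π j y = 0
  · -- `z_j` is orthogonal to all singular vectors of `D j`, hence zero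
    refine ⟨0, ?_⟩
    rw [zero_smul]
    by_contra hz0
    obtain ⟨s, hs, hQs, hsz⟩ := exists_sing_not_orth Q B hC.hQs hC.hQp (D j) hA h3
      (hA (π j z) hzjm hz0)
    have hs0 : s ≠ 0 := by
      rintro rfl
      exact hsz (by rw [map_zero, LinearMap.zero_apply])
    apply hsz
    rw [hsymm, ← hπ.B_left j z s hs]
    apply trick s hs hs0 hQs
    · rw [hy0, map_zero, LinearMap.zero_apply]
    · intro v _ _
      rw [hy0, map_zero, LinearMap.zero_apply]
  · -- `w := y_j`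
    have hself : B (π j y) (π j y) = 0 := by
      rw [B_self Q B hC.hQs hC.hQp, hyj, mul_zero]
    have hzy : B z (π j y) = 0 := trick (π j y) hyjm hy0 hyj hself (fun v _ hv => hv)
    apply double_perp hC.hQp (D j) hA hyjm hzjm
    intro v hv hyv
    have e1 := star_inz hC hπ hy.sing hyjm hv hyj hyv hself hyv hz
    rw [hzy, zero_smul, zero_sub, mul_zero, zero_smul, sub_zero] at e1
    have h0 := eq_zero_of_inz_block hC hB hy ((D j).neg_mem ((D j).smul_mem _ hyjm))
      (by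
        have := hC.hQs (-1) (B z v • π j y)
        rw [neg_one_smul] at this
        rw [this, hC.hQs, hyj, mul_zero, mul_zero]) e1
    rw [neg_eq_zero] at h0
    rcases smul_eq_zero.mp h0 with h | h
    · rw [← hπ.B_left j z v hv]
      exact h
    · exact absurd h hy0

end Cfsg.Agent.Lib.Helper31_OD2_T0
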