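import Mathlib
import Cfsg.Agent.Lib.Helper94_OD3Defs

set_option autoImplicit false
set_option linter.unusedSectionVars false
set_option linter.unusedVariables false

/-!
# OD3-NRMORB (helper31, for helper94 / S5692 + S5694)

The property `NrmA M` is invariant under `H = S ⊓ Ω` and under nonzero scalars.
-/

namespace Cfsg.Agent.Lib.Helper31_OD3_NRMORB

open Module Cfsg.Agent.Lib.Helper94_Symp Cfsg.Agent.Lib.Helper94_OrthSmall
  Cfsg.Agent.Lib.Helper94_OrthSiegel Cfsg.Agent.Lib.Helper94_OrthNondeg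
  Cfsg.Agent.Lib.Helper29_ODDefs Cfsg.Agent.Lib.Helper94_Q2Defs Cfsg.Agent.Lib.Helper94_OD3Defs

variable {F V : Type*} [Field F] [AddCommGroup V] [Module F V] [Finite F] [FiniteDimensional F V]
  {Q : V → F} {B : LinearMap.BilinForm F V} {t k : ℕ} {D : Fin t → Submodule F V}
  {S M L : Subgroup (V ≃ₗ[F] V)}

/-- the commutator subgroup of the isometry group consists of isometries -/
theorem comm_le_oG : ⁅oG Q, oG Q⁆ ≤ oG Q := by
  rw [Subgroup.commutator_le]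
  intro g₁ h₁ g₂ h₂
  rw [commutatorElement_def]
  exact Subgroup.mul_mem _ (Subgroup.mul_mem _ (Subgroup.mul_mem _ h₁ h₂) (Subgroup.inv_mem _ h₁))
    (Subgroup.inv_mem _ h₂)

/-- the reflection in `c • x` is the reflection in `x` -/
theorem refl_smul (hQs : ∀ (c : F) (v : V), Q (c • v) = c * c * Q v)
    (hQp : ∀ u v : V, Q (u + v) = Q u + Q v + B u v) {x : V} (hx : Q x ≠ 0) {c : F} (hc : c ≠ 0)
    (hcx : Q (c • x) ≠ 0) : refl Q B hQs hQp hcx = refl Q B hQs hQp hx := by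
  ext v : 1
  rw [refl_apply, refl_apply, hQs, map_smul, smul_smul, smul_eq_mul]
  congr 2
  field_simp

/-- **OD3-NRMORB** -/
theorem NRMORB (hC : Ctx3 Q B k D S M) {x : V} (hx : IsBlN Q D x)
    (hn : NrmA Q B hC.hQs hC.hQp M x) :
    (∀ h ∈ S ⊓ ⁅oG Q, oG Q⁆, NrmA Q B hC.hQs hC.hQp M (h x)) ∧
      ∀ c : F, c ≠ 0 → NrmA Q B hC.hQs hC.hQp M (c • x) := by
  constructor
  · intro h hh hhx g hg
    have hhM : h ∈ M := hC.hmin.le hh
    have hhO : h ∈ oG Q := comm_le_oG hh.2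
    have hx0 : Q x ≠ 0 := by rw [← hhO x]; exact hhx
    have h1 := conj_refl Q B hC.hQs hC.hQp hhO hx0
    have h2 : refl Q B hC.hQs hC.hQp hhx = h * refl Q B hC.hQs hC.hQp hx0 * h⁻¹ := h1.symm
    rw [h2]
    have h3 : h⁻¹ * g * h ∈ M := M.mul_mem (M.mul_mem (M.inv_mem hhM) hg) hhM
    have h4 := hn hx0 _ h3
    have h5 : h * refl Q B hC.hQs hC.hQp hx0 * h⁻¹ * g * (h * refl Q B hC.hQs hC.hQp hx0 * h⁻¹) =
        h * (refl Q B hC.hQs hC.hQp hx0 * (h⁻¹ * g * h) * refl Q B hC.hQs hC.hQp hx0) * h⁻¹ := by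
      group
    rw [h5]
    exact M.mul_mem (M.mul_mem hhM h4) (M.inv_mem hhM)
  · intro c hc hcx g hg
    have hx0 : Q x ≠ 0 := hx.1
    rw [refl_smul hC.hQs hC.hQp hx0 hc hcx]
    exact hn hx0 g hg

end Cfsg.Agent.Lib.Helper31_OD3_NRMORB
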