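import Mathlib
import Cfsg.Agent.Lib.Helper32_OFDefs
import Cfsg.Agent.Lib.Helper31_OF_API

/-!
# OF-B (market OF, rows S5679 + S5696, architect helper32)

Property (B): two columns of a non-monomial element of `M` have no common zero coordinate.
-/

set_option autoImplicit false
set_option linter.unusedSectionVars false

namespace Cfsg.Agent.Lib.Helper31_OF_B

open Module Cfsg.Agent.Lib.Helper94_Symp Cfsg.Agent.Lib.Helper94_OrthSmall
  Cfsg.Agent.Lib.Helper94_OrthSiegel Cfsg.Agent.Lib.Helper94_OrthSiegel2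
  Cfsg.Agent.Lib.Helper94_OrthNondeg Cfsg.Agent.Lib.Helper29_ODDefs
  Cfsg.Agent.Lib.Helper32_OFDefs

variable {F V : Type*} [Field F] [AddCommGroup V] [Module F V]
variable {Q : V → F} {B : LinearMap.BilinForm F V}
variable {ι : Type*} [Fintype ι] [DecidableEq ι] {c : F} {e : ι → V}
variable {M : Subgroup (V ≃ₗ[F] V)}

/-- OF-B.  `t = g * zJ {a,b} * g⁻¹ ∈ M` fixes `e l`: `v = g⁻¹ (e l)` has
`B v (e a) = B (e l) (g (e a)) = 0`, same for `b`, so `zJ {a,b} v = v`.  By `hC`
`t` is monomial, and (VJ) with `J = {a,b}` gives `IsMon e g`. -/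
theorem PB (hC : CCtx Q B c e M) (hVJ : PropVJ B c e M) : PropB B e M := by
  intro g hg a b l hab ha hb
  have hfr : OFr Q B c e := hC.fr
  have hgO : g ∈ oG Q := hC.hMO hg
  have hz : zJ B c e {a, b} ∈ M := hC.mon.hz a b hab
  have ht : g * zJ B c e {a, b} * g⁻¹ ∈ M := M.mul_mem (M.mul_mem hg hz) (M.inv_mem hg)
  have hfix : zJ B c e {a, b} (g⁻¹ (e l)) = g⁻¹ (e l) := by
    rw [Cfsg.Agent.Lib.Helper31_OF_API.zJ_fix_iff hfr]
    intro j hj
    rw [Cfsg.Agent.Lib.Helper31_OF_API.B_inv_left hfr g hgO, hfr.symm]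
    rw [Finset.mem_insert, Finset.mem_singleton] at hj
    rcases hj with rfl | rfl
    · exact ha
    · exact hb
  have htl : (g * zJ B c e {a, b} * g⁻¹) (e l) = e l := by
    rw [LinearEquiv.mul_apply, LinearEquiv.mul_apply, hfix, apply_inv_apply']
  have htm : IsMon e (g * zJ B c e {a, b} * g⁻¹) := hC.hC _ ht l (Or.inl htl)
  refine hVJ g hg {a, b} ⟨a, Finset.mem_insert_self a _⟩ ?_ htm
  rw [Finset.card_pair hab]
  norm_num

end Cfsg.Agent.Lib.Helper31_OF_B
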