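import Mathlib
import Cfsg.Agent.Lib.Helper30_OMDefs
import Cfsg.Agent.Lib.Helper14_POmegaSimple
import Cfsg.Agent.Lib.Helper44_StdForms
import Cfsg.Agent.Lib.Helper14_OrthFinal
import Cfsg.Agent.Lib.Helper16_Orbit

/-!
# S2346 package OM-FINAL (helper31, architect helper30): transport along `eOT` to the frozen
statement shape
-/

set_option autoImplicit false

namespace Cfsg.Agent.Lib.Helper31_OM_FINAL

open Module Cfsg.Agent.Lib.Helper94_OrthSmall Cfsg.Agent.Lib.Helper44_QuadClass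
  Cfsg.Agent.Lib.Helper14_OmegaSimple Cfsg.Agent.Lib.Helper38_MIODefs
  Cfsg.Agent.Lib.Helper95_OPDefs Cfsg.Agent.Lib.Helper95_OPBasic Cfsg.Agent.Lib.Helper30_OMDefs

section partD

universe u

variable {F : Type u} [Field F] [Fintype F]

open Cfsg.Agent.Lib.Helper44_StdForms

/-! ## OM-FINAL (M) -/
theorem final_of_minDeg (n : ℕ) (hn : 4 ≤ n) (a b : F)
    (hab : ∀ z₁ z₂ : F, z₁ ^ 2 + a * z₁ * z₂ + b * z₂ ^ 2 = 0 → z₁ = 0 ∧ z₂ = 0)
    (hmin : MinDegT (qfMinus (n - 1) F a b) (dminus (Fintype.card F) n)) :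
    ∀ (k : ℕ) (ρ : Representation ℂ (Cfsg.Omega F (Cfsg.quadFormMinus (n - 1) F a b)) (Fin k → ℂ)),
      ρ.IsIrreducible → 2 ≤ k →
      (Fintype.card F ^ n + 1) * (Fintype.card F ^ (n - 1) - Fintype.card F) /
        (Fintype.card F ^ 2 - 1) ≤ k := by
  classical
  have hQ := Cfsg.Agent.Lib.Helper14_POmegaSimple.nondegenerate_qfMinus (F := F) (n - 1) a b hab
  have hcard : 5 ≤ Fintype.card ((Fin (n - 1) ⊕ Fin (n - 1)) ⊕ Fin 2) := by
    simp only [Fintype.card_sum, Fintype.card_fin]; omega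
  have key : ∀ (k : ℕ)
      (ρ : Representation ℂ (Cfsg.Omega F (⇑(qfMinus (n - 1) F a b))) (Fin k → ℂ)),
      ρ.IsIrreducible → 2 ≤ k → dminus (Fintype.card F) n ≤ k := by
    intro k ρ hirr hk
    let e := Cfsg.Agent.Lib.Helper14_OrthFinal.eOT (qfMinus (n - 1) F a b) hQ hcard
    have hsurj : Function.Surjective e.symm.toMonoidHom := e.symm.surjective
    have := hirr
    have hirr' := Cfsg.Agent.Lib.Helper16_Orbit.irreducible_comp ρ e.symm.toMonoidHom hsurj
    have := hmin (Fin k → ℂ) (ρ.comp e.symm.toMonoidHom) hirr'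
      (by rw [Module.finrank_fin_fun]; exact hk)
    rwa [Module.finrank_fin_fun] at this
  rw [coe_qfMinus] at key
  exact key

end partD

end Cfsg.Agent.Lib.Helper31_OM_FINAL
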