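import Mathlib
import Cfsg.Prelude.Def_GeometricClasses
import Cfsg.Agent.Lib.Helper40_OOdd
import Cfsg.Agent.Lib.Helper40_OClasses
import Cfsg.Agent.Lib.Helper40_SpPrimeOrder
import Cfsg.Agent.Lib.Helper40_PrimeOrderClasses
import Cfsg.Agent.Lib.Helper44_OmegaOdd
import Cfsg.Agent.Lib.Helper44_StdForms
import Cfsg.Agent.Lib.Helper14_POmegaSimple
import Cfsg.Agent.Lib.Helper99_SpAtoms
import Cfsg.Agent.Lib.Helper99_SpElt
import Cfsg.Agent.Lib.Helper99_PrimeOrderSL

set_option autoImplicit false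

/-!
Package OE1 of S5972 (architect helper84): the extremal element of odd prime order `r ≠ p` of
`Ω_{2d+1}(q)` with `s` atoms (helper31).
-/

namespace Cfsg.Agent.Lib.Helper31_OTS_OE1

open Polynomial Module Matrix
open scoped MatrixGroups
open Cfsg.Agent.Lib.Helper99_SpAtoms Cfsg.Agent.Lib.Helper99_SpElt
  Cfsg.Agent.Lib.Helper40_SpPrimeOrder Cfsg.Agent.Lib.Helper44_StdForms
  Cfsg.Agent.Lib.Helper40_OClasses Cfsg.Agent.Lib.Helper99_PrimeOrderSL

universe v

/-- OE1: the extremal element. -/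
theorem OE1 {F : Type v} [Field F] [Fintype F] {p : ℕ} [Fact p.Prime] [CharP F p]
    (h2 : (2 : F) ≠ 0) (d : ℕ) {r : ℕ} (hr : r.Prime) (hr2 : r ≠ 2) (hrp : r ≠ p) (s : ℕ)
    (hs : 1 ≤ s) (hsd : atomDim F r * s ≤ 2 * d) :
    ∃ x : GL (Unit ⊕ (Fin d ⊕ Fin d)) F, x ∈ Cfsg.Geo.omegaGL (Cfsg.quadFormOdd d F) ∧
      orderOf x = r ∧
      finrank F (LinearMap.ker (Matrix.toLin'
        (x : Matrix (Unit ⊕ (Fin d ⊕ Fin d)) (Unit ⊕ (Fin d ⊕ Fin d)) F) - 1))
        = 2 * d + 1 - atomDim F r * s := by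
  classical
  obtain ⟨α, hαm, hαdeg, hαrev, hαd, hα1⟩ := exists_atom_poly (F := F) hr hr2 hrp
  have hrodd : Odd r := hr.odd_of_ne_two hr2
  have hrF : ((r : ℕ) : F) ≠ 0 := natCast_ne_zero hr hrp
  have hipos : 0 < orderOf ((Fintype.card F : ℕ) : ZMod r) :=
    (Cfsg.Agent.Lib.Helper40_PrimeOrderClasses.exists_cyclotomic_factors (F := F) p r hr hrp).1
  set c := atomDim F r with hc
  have hce : Even c := by
    rw [hc]; unfold atomDim
    split_ifs with h
    · exact h
    · exact even_two_mul _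
  have hcpos : 0 < c := by
    rw [hc]; unfold atomDim
    split_ifs with h
    · exact hipos
    · omega
  set m := 2 * d - c * s with hm
  have hme : Even m := by
    rw [hm, Nat.even_sub hsd]
    exact ⟨fun _ => hce.mul_right s, fun _ => even_two_mul d⟩
  have hX1 : ((X : F[X]) - 1) = X - C 1 := by rw [map_one]
  have hX1m : ((X : F[X]) - 1).Monic := by rw [hX1]; exact monic_X_sub_C 1
  set f : F[X] := (X - 1) ^ m * α ^ s with hf
  have hfm : f.Monic := (hX1m.pow m).mul (hαm.pow s)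
  have hfdeg : f.natDegree = 2 * d := by
    rw [hf, (hX1m.pow m).natDegree_mul (hαm.pow s), hX1m.natDegree_pow, hαm.natDegree_pow, hX1,
      natDegree_X_sub_C, hαdeg, mul_one, Nat.mul_comm s c]
    omega
  have hfrev : f.reverse = f := by
    rw [hf, reverse_mul_of_domain, reverse_X_sub_one_pow m hme, reverse_pow', hαrev]
  have hX1d : ((X : F[X]) - 1) ∣ X ^ r - 1 := by
    have := sub_dvd_pow_sub_pow (X : F[X]) 1 r
    rwa [one_pow] at this
  have hcf : ∀ g, Irreducible g → g ∣ f → g ∣ X ^ r - 1 := by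
    intro g hg hgf
    rw [hf] at hgf
    rcases hg.prime.dvd_or_dvd hgf with h | h
    · exact (hg.prime.dvd_of_dvd_pow h).trans hX1d
    · exact (hg.prime.dvd_of_dvd_pow h).trans hαd
  obtain ⟨g, hgr, hch⟩ :=
    Cfsg.Agent.Lib.Helper40_OOdd.exists_element h2 d r hrodd hrF f hfm hfdeg hfrev hcf
  have hmem : g ∈ Cfsg.Omega F ⇑(qfOdd d F) :=
    Cfsg.Agent.Lib.Helper44_OmegaOdd.mem_omega_of_pow_eq_one h2 (qfOdd d F)
      (Cfsg.Agent.Lib.Helper14_POmegaSimple.nondegenerate_qfOdd h2 d) g hrodd hgr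
  -- the fixed space
  set T : Module.End F (Unit ⊕ (Fin d ⊕ Fin d) → F) := Matrix.toLin' (mat (qfOdd d F) g) with hT
  have hTr : T ^ r = 1 := by
    rw [hT, ← Matrix.toLin'_pow, (mat_pow_eq_one_iff (qfOdd d F) g r).2 hgr, Matrix.toLin'_one]
    rfl
  have hss : T.IsSemisimple := isSemisimple_of_pow_eq_one T r hrF hTr
  have hker : LinearMap.ker (T - 1) = Module.End.eigenspace T 1 := by
    ext v
    rw [LinearMap.mem_ker, Module.End.mem_eigenspace_iff, LinearMap.sub_apply, sub_eq_zero,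
      one_smul]
    rfl
  have hfix : finrank F (LinearMap.ker (T - 1)) = 2 * d + 1 - c * s := by
    rw [hker, ← hss.isFinitelySemisimple.maxGenEigenspace_eq_eigenspace,
      LinearMap.finrank_maxGenEigenspace_eq, hT, Matrix.charpoly_toLin', hch, hf,
      rootMultiplicity_mul (by
        rw [← hf]; exact mul_ne_zero hX1m.ne_zero hfm.ne_zero),
      rootMultiplicity_mul (by rw [← hf]; exact hfm.ne_zero), hX1, rootMultiplicity_X_sub_C_self,
      rootMultiplicity_X_sub_C_pow, rootMultiplicity_eq_zero, add_zero]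
    · omega
    · rw [IsRoot.def, eval_pow]
      exact pow_ne_zero _ hα1
  have hcard : finrank F (Unit ⊕ (Fin d ⊕ Fin d) → F) = 2 * d + 1 := by
    rw [Module.finrank_pi, Fintype.card_sum, Fintype.card_sum, Fintype.card_unit, Fintype.card_fin]
    omega
  refine ⟨((g : ↥(Cfsg.isometryGroup F ⇑(qfOdd d F))) : GL (Unit ⊕ (Fin d ⊕ Fin d)) F), ?_, ?_,
    hfix⟩
  · rw [← coe_qfOdd d F]
    exact ⟨g, hmem, rfl⟩
  · have : Fact r.Prime := ⟨hr⟩
    apply orderOf_eq_prime
    · have := congrArg (fun y : ↥(Cfsg.isometryGroup F ⇑(qfOdd d F)) =>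
        (y : GL (Unit ⊕ (Fin d ⊕ Fin d)) F)) hgr
      simpa using this
    · intro h1
      have hT1 : T = 1 := by
        rw [hT]
        have : mat (qfOdd d F) g = 1 := by
          show (((g : ↥(Cfsg.isometryGroup F ⇑(qfOdd d F))) : GL (Unit ⊕ (Fin d ⊕ Fin d)) F) :
            Matrix (Unit ⊕ (Fin d ⊕ Fin d)) (Unit ⊕ (Fin d ⊕ Fin d)) F) = 1
          rw [h1]
          rfl
        rw [this, Matrix.toLin'_one]
        rfl
      rw [hT1, sub_self, LinearMap.ker_zero, finrank_top, hcard] at hfix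
      have : 1 ≤ c * s := Nat.mul_pos hcpos hs
      omega

end Cfsg.Agent.Lib.Helper31_OTS_OE1
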