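import Mathlib
import Cfsg.Prelude.Def_GeometricClasses
import Cfsg.Agent.Lib.Helper40_OClasses
import Cfsg.Agent.Lib.Helper40_OConj
import Cfsg.Agent.Lib.Helper44_StdForms
import Cfsg.Agent.Lib.Helper99_PrimeOrderSL

set_option autoImplicit false

/-!
Package OG of S5972 (architect helper84): an element of `Ω_{2d+1}(q)` of odd prime order `r ≠ p`
gives `OData` for the standard quadratic form (helper31).
-/

namespace Cfsg.Agent.Lib.Helper31_OTS_OG

open Polynomial Module Matrix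
open scoped MatrixGroups
open Cfsg.Agent.Lib.Helper40_OConj

universe v

/-- OG: glue, an element of `Ω` of odd prime order `r ≠ p` gives `OData`. -/
theorem OG {F : Type v} [Field F] [Fintype F] {p : ℕ} [Fact p.Prime] [CharP F p]
    (d : ℕ) {r : ℕ} (hr : r.Prime) (hr2 : r ≠ 2) (hrp : r ≠ p)
    (x : GL (Unit ⊕ (Fin d ⊕ Fin d)) F) (hx : x ∈ Cfsg.Geo.omegaGL (Cfsg.quadFormOdd d F))
    (hxr : orderOf x = r) :
    OData (Cfsg.Agent.Lib.Helper44_StdForms.qfOdd d F)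
      (Matrix.toLin' (x : Matrix (Unit ⊕ (Fin d ⊕ Fin d)) (Unit ⊕ (Fin d ⊕ Fin d)) F)) r := by
  obtain ⟨s, -, rfl⟩ := hx
  have hs2 : ((s : ↥(Cfsg.isometryGroup F (Cfsg.quadFormOdd d F))) :
      GL (Unit ⊕ (Fin d ⊕ Fin d)) F) ∈
      Cfsg.isometryGroup F ⇑(Cfsg.Agent.Lib.Helper44_StdForms.qfOdd d F) := by
    rw [Cfsg.Agent.Lib.Helper44_StdForms.coe_qfOdd]
    exact s.2
  have hpow : ((s : ↥(Cfsg.isometryGroup F (Cfsg.quadFormOdd d F))) :
      GL (Unit ⊕ (Fin d ⊕ Fin d)) F) ^ r = 1 := by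
    rw [← hxr]
    exact pow_orderOf_eq_one _
  have hg : (⟨_, hs2⟩ : ↥(Cfsg.isometryGroup F
      ⇑(Cfsg.Agent.Lib.Helper44_StdForms.qfOdd d F))) ^ r = 1 := by
    apply Subtype.ext
    rw [SubgroupClass.coe_pow]
    exact hpow
  exact Cfsg.Agent.Lib.Helper40_OClasses.oData_of_mem
    (Cfsg.Agent.Lib.Helper44_StdForms.qfOdd d F) ⟨_, hs2⟩ r hg (hr.odd_of_ne_two hr2)
    (Cfsg.Agent.Lib.Helper99_PrimeOrderSL.natCast_ne_zero hr hrp)

end Cfsg.Agent.Lib.Helper31_OTS_OG
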