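import Mathlib
import Cfsg.Agent.Lib.Helper99_OrthTSDefs

set_option autoImplicit false

/-!
Packages ARITH_even_plus / ARITH_even_minus of helper99's orthogonal core (S5973 / S5987): the pure
arithmetic translating the combinatorial model (`i = ord_r(q)` even) into the closed form (helper31).
-/

namespace Cfsg.Agent.Lib.Helper31_OrthTS_ARITH_even

open Cfsg.Agent.Lib.Helper99_OrthTSDefs

/-- products: monotone helper -/
theorem core_mpr (h t d m μ ν n ρ' pb : ℕ) (hh : 1 ≤ h) (hpb : pb < 2)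
    (hmμ : m = 2 * h * μ + ν) (hν : ν < 2 * h)
    (hdn : d = h * n + ρ') (hρ : ρ' < h)
    (H : 1 ≤ μ ∧ t + 2 * μ ≤ n ∧
       ((ν ≤ h ∧ ρ' = 0 ∧ n % 2 = pb ∧ t + 2 * μ < n) ∨
        (ν ≤ ρ' ∧ n % 2 ≠ pb) ∨ (ν < ρ' ∧ n % 2 = pb)))
    (A : ℕ) (hAn : A ≤ n) (hval : h * A = d → A % 2 ≠ pb) :
      ∃ s' e' : ℕ, (s' = 0 ∨ t + 2 * s' ≤ A + 1) ∧
        e' + h * A + (if A % 2 = pb then 1 else 0) ≤ d ∧ 2 * h * s' + e' = m := by
  obtain ⟨hμ1, htn, Hd⟩ := H
  have hmul : h * t + 2 * h * μ ≤ h * n := by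
    have := Nat.mul_le_mul_left h htn
    calc h * t + 2 * h * μ = h * (t + 2 * μ) := by ring
      _ ≤ h * n := this
  by_cases hcase : t + 2 * μ ≤ A + 1
  · -- s' = μ, e' = ν
    refine ⟨μ, ν, Or.inr hcase, ?_, hmμ.symm⟩
    rcases Nat.lt_or_ge (A + 1) n with hA2 | hA2
    · -- A ≤ n - 2
      have : h * A + 2 * h ≤ h * n := by
        have := Nat.mul_le_mul_left h (show A + 2 ≤ n by omega)
        calc h * A + 2 * h = h * (A + 2) := by ring
          _ ≤ h * n := this
      split_ifs <;> omega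
    · rcases Nat.lt_or_ge A n with hA3 | hA3
      · -- A = n - 1
        have hAe : n = A + 1 := by omega
        have : h * n = h * A + h := by rw [hAe]; ring
        split_ifs with hb
        · rcases Hd with ⟨h1, h2, h3, h4⟩ | ⟨h1, h3⟩ | ⟨h1, h3⟩
          · omega
          · omega
          · omega
        · omega
      · -- A = n
        have hAe : A = n := by omega
        subst hAe
        split_ifs with hb
        · rcases Hd with ⟨h1, h2, h3, h4⟩ | ⟨h1, h3⟩ | ⟨h1, h3⟩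
          · exfalso
            exact hval (by omega) hb
          · omega
          · omega
        · rcases Hd with ⟨h1, h2, h3, h4⟩ | ⟨h1, h3⟩ | ⟨h1, h3⟩
          · omega
          · omega
          · omega
  · -- A + 1 < t + 2 μ
    have hcase' : A + 2 ≤ t + 2 * μ := by omega
    by_cases hAt : A + 1 < t
    · -- s' = 0
      refine ⟨0, m, Or.inl rfl, ?_, by omega⟩
      have : h * A + 2 * h ≤ h * t := by
        have := Nat.mul_le_mul_left h (show A + 2 ≤ t by omega)
        calc h * A + 2 * h = h * (A + 2) := by ring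
          _ ≤ h * t := this
      split_ifs <;> omega
    · -- s' = (A + 1 - t) / 2
      obtain ⟨s', ε, hε, hs'⟩ : ∃ s' ε : ℕ, ε < 2 ∧ A + 1 = t + 2 * s' + ε :=
        ⟨(A + 1 - t) / 2, (A + 1 - t) % 2, Nat.mod_lt _ (by norm_num), by omega⟩
      have hs'μ : s' + 1 ≤ μ := by omega
      have hp1 : h * A + h = h * t + 2 * h * s' + h * ε := by
        have : h * (A + 1) = h * (t + 2 * s' + ε) := by rw [hs']
        calc h * A + h = h * (A + 1) := by ring
          _ = h * (t + 2 * s' + ε) := this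
          _ = h * t + 2 * h * s' + h * ε := by ring
      have hp2 : 2 * h * s' + 2 * h ≤ 2 * h * μ := by
        have := Nat.mul_le_mul_left (2 * h) hs'μ
        calc 2 * h * s' + 2 * h = 2 * h * (s' + 1) := by ring
          _ ≤ 2 * h * μ := this
      refine ⟨s', m - 2 * h * s', Or.inr (by omega), ?_, by omega⟩
      have hε' : ε = 0 ∨ ε = 1 := by omega
      rcases Nat.lt_or_ge (t + 2 * μ) n with hlt | hge
      · -- t + 2 μ < n
        have hmul2 : h * t + 2 * h * μ + h ≤ h * n := by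
          have := Nat.mul_le_mul_left h (show t + 2 * μ + 1 ≤ n by omega)
          calc h * t + 2 * h * μ + h = h * (t + 2 * μ + 1) := by ring
            _ ≤ h * n := this
        rcases hε' with rfl | rfl
        · simp only [mul_zero, add_zero] at hp1
          split_ifs <;> omega
        · simp only [mul_one] at hp1
          rcases Hd with ⟨h1, h2, h3, h4⟩ | ⟨h1, h3⟩ | ⟨h1, h3⟩
          · -- n bad, A = t + 2 s'; if t bad parity then n - t even so n ≥ t + 2μ + 2
            split_ifs with hb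
            · have hmul3 : h * t + 2 * h * μ + 2 * h ≤ h * n := by
                have := Nat.mul_le_mul_left h (show t + 2 * μ + 2 ≤ n by omega)
                calc h * t + 2 * h * μ + 2 * h = h * (t + 2 * μ + 2) := by ring
                  _ ≤ h * n := this
              omega
            · omega
          · split_ifs <;> omega
          · split_ifs <;> omega
      · -- t + 2 μ = n
        have hn : n = t + 2 * μ := by omega
        rcases hε' with rfl | rfl
        · simp only [mul_zero, add_zero] at hp1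
          split_ifs <;> omega
        · simp only [mul_one] at hp1
          rcases Hd with ⟨h1, h2, h3, h4⟩ | ⟨h1, h3⟩ | ⟨h1, h3⟩
          · omega
          · split_ifs with hb
            · exfalso; omega
            · omega
          · split_ifs <;> omega

theorem mul_bound (h s μ : ℕ) (hs : μ + 1 ≤ s) : 2 * h * μ + 2 * h ≤ 2 * h * s := by
  have := Nat.mul_le_mul_left (2 * h) hs
  calc 2 * h * μ + 2 * h = 2 * h * (μ + 1) := by ring
    _ ≤ 2 * h * s := this

theorem core_mp (h t d m μ ν n ρ' pb : ℕ) (hh : 1 ≤ h) (hpb : pb < 2)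
    (hmd : m < d) (hmμ : m = 2 * h * μ + ν) (hν : ν < 2 * h)
    (hdn : d = h * n + ρ') (hρ : ρ' < h)
    (hS1 : n % 2 = pb → ρ' = 0 → h + 1 ≤ m) (hS2 : n % 2 = pb → ρ' ≤ m)
    (hS3 : n % 2 ≠ pb → ρ' + 1 ≤ m)
    (H : ∀ A : ℕ, 1 ≤ A → A ≤ n → (h * A = d → A % 2 ≠ pb) →
      ∃ s' e' : ℕ, (s' = 0 ∨ t + 2 * s' ≤ A + 1) ∧
        e' + h * A + (if A % 2 = pb then 1 else 0) ≤ d ∧ 2 * h * s' + e' = m) :
    1 ≤ μ ∧ t + 2 * μ ≤ n ∧
       ((ν ≤ h ∧ ρ' = 0 ∧ n % 2 = pb ∧ t + 2 * μ < n) ∨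
        (ν ≤ ρ' ∧ n % 2 ≠ pb) ∨ (ν < ρ' ∧ n % 2 = pb)) := by
  -- validity of `A = n - 1`
  have hval1 : ∀ k, n = k + 1 → (h * k = d → k % 2 ≠ pb) := by
    intro k hk hkd
    exfalso
    have : h * n = h * k + h := by rw [hk]; ring
    omega
  -- `s' ≤ μ` always
  have hsμ : ∀ s' e' : ℕ, 2 * h * s' + e' = m → s' ≤ μ := by
    intro s' e' he
    by_contra hcon
    have := mul_bound h s' μ (by omega)
    omega
  have hμ1 : 1 ≤ μ := by
    by_contra hμ0
    have hμ0' : μ = 0 := by omega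
    subst hμ0'
    simp only [mul_zero, zero_add] at hmμ
    have hs0 : ∀ s' e' : ℕ, 2 * h * s' + e' = m → s' = 0 ∧ e' = m := by
      intro s' e' he
      have := hsμ s' e' he
      have hs' : s' = 0 := by omega
      subst hs'
      simp only [mul_zero, zero_add] at he
      exact ⟨rfl, he⟩
    rcases Nat.eq_zero_or_pos n with hn0 | hn0
    · subst hn0
      simp only [mul_zero, zero_add] at hdn
      by_cases hb : 0 % 2 = pb
      · have := hS2 hb; omega
      · have := hS3 hb; omega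
    · by_cases hbad : n % 2 = pb ∧ ρ' = 0
      · obtain ⟨hb, hρ0⟩ := hbad
        have h1 := hS1 hb hρ0
        obtain ⟨k, hk⟩ : ∃ k, n = k + 1 := ⟨n - 1, by omega⟩
        have hnk : h * n = h * k + h := by rw [hk]; ring
        rcases Nat.eq_zero_or_pos k with hk0 | hk0
        · subst hk0
          simp only [mul_zero, zero_add] at hnk
          omega
        · obtain ⟨s', e', -, h2, h3⟩ := H k hk0 (by omega) (hval1 k hk)
          obtain ⟨rfl, rfl⟩ := hs0 s' e' h3
          have hkb : k % 2 ≠ pb := by omega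
          rw [if_neg hkb] at h2
          omega
      · have hvaln : h * n = d → n % 2 ≠ pb := by
          intro hnd hb
          exact hbad ⟨hb, by omega⟩
        obtain ⟨s', e', -, h2, h3⟩ := H n hn0 le_rfl hvaln
        obtain ⟨rfl, rfl⟩ := hs0 s' e' h3
        by_cases hb : n % 2 = pb
        · rw [if_pos hb] at h2
          have := hS2 hb
          omega
        · rw [if_neg hb] at h2
          have := hS3 hb
          omega
  have hμ2 : 2 * h ≤ 2 * h * μ := by
    have := mul_bound h μ 0 (by omega)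
    simpa using this
  have htn : t + 2 * μ ≤ n := by
    by_contra hcon
    rcases Nat.lt_or_ge n 2 with hn2 | hn2
    · have : h * n ≤ h := by
        have := Nat.mul_le_mul_left h (show n ≤ 1 by omega)
        simpa using this
      omega
    · obtain ⟨k, hk⟩ : ∃ k, n = k + 1 := ⟨n - 1, by omega⟩
      have hnk : h * n = h * k + h := by rw [hk]; ring
      obtain ⟨s', e', h1, h2, h3⟩ := H k (by omega) (by omega) (hval1 k hk)
      have hs' : s' + 1 ≤ μ := by omega
      have := mul_bound h μ s' hs'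
      have h4 : e' + h * k ≤ d := by
        split_ifs at h2 <;> omega
      omega
  refine ⟨hμ1, htn, ?_⟩
  have hn2 : 2 ≤ n := by omega
  by_cases hb : n % 2 = pb
  · by_cases hρ0 : ρ' = 0
    · left
      obtain ⟨k, hk⟩ : ∃ k, n = k + 1 := ⟨n - 1, by omega⟩
      have hnk : h * n = h * k + h := by rw [hk]; ring
      obtain ⟨s', e', h1, h2, h3⟩ := H k (by omega) (by omega) (hval1 k hk)
      have hkb : k % 2 ≠ pb := by omega
      rw [if_neg hkb] at h2
      have hs' := hsμ s' e' h3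
      have hle : 2 * h * s' ≤ 2 * h * μ := Nat.mul_le_mul_left _ hs'
      refine ⟨by omega, hρ0, hb, ?_⟩
      by_contra hcon
      have hn : n = t + 2 * μ := by omega
      -- `t ≥ 1`
      have ht1 : 1 ≤ t := by
        by_contra ht0
        have ht0' : t = 0 := by omega
        subst ht0'
        have : h * n = 2 * h * μ := by rw [hn]; ring
        omega
      obtain ⟨l, hl⟩ : ∃ l, n = l + 2 := ⟨n - 2, by omega⟩
      have hnl : h * n = h * l + 2 * h := by rw [hl]; ring
      have hval2 : h * l = d → l % 2 ≠ pb := by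
        intro hld
        exfalso
        omega
      obtain ⟨s'', e'', g1, g2, g3⟩ := H l (by omega) (by omega) hval2
      have hlb : l % 2 = pb := by omega
      rw [if_pos hlb] at g2
      have hs'' : s'' + 1 ≤ μ := by omega
      have := mul_bound h μ s'' hs''
      omega
    · right; right
      have hvaln : h * n = d → n % 2 ≠ pb := by
        intro hnd
        exfalso
        omega
      obtain ⟨s', e', h1, h2, h3⟩ := H n (by omega) le_rfl hvaln
      rw [if_pos hb] at h2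
      have hs' := hsμ s' e' h3
      have hle : 2 * h * s' ≤ 2 * h * μ := Nat.mul_le_mul_left _ hs'
      exact ⟨by omega, hb⟩
  · right; left
    obtain ⟨s', e', h1, h2, h3⟩ := H n (by omega) le_rfl (fun _ => hb)
    rw [if_neg hb] at h2
    have hs' := hsμ s' e' h3
    have hle : 2 * h * s' ≤ 2 * h * μ := Nat.mul_le_mul_left _ hs'
    exact ⟨by omega, hb⟩


/-! ### number theory -/

theorem orderOf_pos_of_not_dvd (q r : ℕ) (hr : r.Prime) (hrq : ¬ r ∣ q) :
    0 < orderOf ((q : ℕ) : ZMod r) := by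
  have : Fact r.Prime := ⟨hr⟩
  have hq0 : ((q : ℕ) : ZMod r) ≠ 0 := by
    rw [Ne, ZMod.natCast_eq_zero_iff]
    exact hrq
  rw [orderOf_pos_iff, isOfFinOrder_iff_pow_eq_one]
  exact ⟨r - 1, by have := hr.two_le; omega, ZMod.pow_card_sub_one_eq_one hq0⟩

theorem dvd_of_dvd_pow_sub_one (q r k : ℕ) (hrq : ¬ r ∣ q) (h : r ∣ q ^ k - 1) :
    orderOf ((q : ℕ) : ZMod r) ∣ k := by
  have hq : 0 < q := by
    rcases Nat.eq_zero_or_pos q with h0 | h0
    · exact absurd (h0 ▸ dvd_zero r) hrq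
    · exact h0
  have h1 : 1 ≤ q ^ k := Nat.one_le_pow _ _ hq
  have h2 := (ZMod.natCast_eq_zero_iff (q ^ k - 1) r).2 h
  rw [Nat.cast_sub h1, Nat.cast_pow, Nat.cast_one, sub_eq_zero] at h2
  exact orderOf_dvd_of_pow_eq_one h2

theorem eq_of_dvd_pow_add_one (q r k h : ℕ) (hr : r.Prime) (hr2 : r ≠ 2)
    (hi : orderOf ((q : ℕ) : ZMod r) = 2 * h) (hd : r ∣ q ^ k + 1) : ∃ u, k = 2 * h * u + h := by
  have : Fact r.Prime := ⟨hr⟩
  have h2 := (ZMod.natCast_eq_zero_iff (q ^ k + 1) r).2 hd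
  rw [Nat.cast_add, Nat.cast_pow, Nat.cast_one] at h2
  have h3 : ((q : ℕ) : ZMod r) ^ k = -1 := eq_neg_of_add_eq_zero_left h2
  have h4 : ((q : ℕ) : ZMod r) ^ (2 * k) = 1 := by
    rw [mul_comm, pow_mul, h3]
    norm_num
  have h5 : 2 * h ∣ 2 * k := by
    rw [← hi]
    exact orderOf_dvd_of_pow_eq_one h4
  have h6 : ¬ 2 * h ∣ k := by
    intro hcon
    rw [← hi] at hcon
    have h7 : ((q : ℕ) : ZMod r) ^ k = 1 := orderOf_dvd_iff_pow_eq_one.1 hcon
    rw [h3] at h7
    have h8 : ((2 : ℕ) : ZMod r) = 0 := by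
      have : (1 : ZMod r) + 1 = 0 := by
        nth_rewrite 1 [← h7]
        ring
      push_cast
      rw [← this]
      ring
    rw [ZMod.natCast_eq_zero_iff] at h8
    exact hr2 ((Nat.prime_dvd_prime_iff_eq hr Nat.prime_two).1 h8)
  obtain ⟨w, hw⟩ := h5
  have hk : k = h * w := by
    have : 2 * k = 2 * (h * w) := by rw [hw]; ring
    omega
  rcases Nat.even_or_odd' w with ⟨u, rfl | rfl⟩
  · exfalso
    apply h6
    exact ⟨u, by rw [hk]; ring⟩
  · exact ⟨u, by rw [hk]; ring⟩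

/-! ### the congruence helper -/

theorem cong_helper (H u n' X Y : ℕ) (e : X + H * u = H * n' + Y) (hY : Y < H) :
    Y ≤ X ∧ (Y < X → Y + H ≤ X) := by
  rcases lt_trichotomy u n' with hlt | heq | hgt
  · have := Nat.mul_le_mul_left H (show u + 1 ≤ n' from hlt)
    have h2 : H * (u + 1) = H * u + H := by ring
    omega
  · subst heq
    omega
  · have := Nat.mul_le_mul_left H (show n' + 1 ≤ u from hgt)
    have h2 : H * (n' + 1) = H * n' + H := by ring
    omega

theorem summary_plus (h d m n ρ' j u : ℕ) (hh : 1 ≤ h) (hj : j < m) (hdn : d = h * n + ρ')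
    (hρ : ρ' < h) (hc : d = j + 2 * h * u ∨ d = j + 1 + 2 * h * u + h) :
    (n % 2 = 1 → ρ' = 0 → h + 1 ≤ m) ∧ (n % 2 = 1 → ρ' ≤ m) ∧ (n % 2 ≠ 1 → ρ' + 1 ≤ m) := by
  rcases Nat.even_or_odd' n with ⟨n', rfl | rfl⟩
  · have hn : h * (2 * n') = 2 * h * n' := by ring
    rw [hn] at hdn
    refine ⟨fun hb => by omega, fun hb => by omega, fun _ => ?_⟩
    rcases hc with hc | hc
    · have := cong_helper (2 * h) u n' j ρ' (by omega) (by omega)
      omega
    · have := cong_helper (2 * h) u n' (j + 1 + h) ρ' (by omega) (by omega)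
      omega
  · have hn : h * (2 * n' + 1) = 2 * h * n' + h := by ring
    rw [hn] at hdn
    refine ⟨fun _ hρ0 => ?_, fun _ => ?_, fun hb => by omega⟩
    · rcases hc with hc | hc
      · have := cong_helper (2 * h) u n' j (h + ρ') (by omega) (by omega)
        omega
      · have := cong_helper (2 * h) u n' (j + 1) ρ' (by omega) (by omega)
        omega
    · rcases hc with hc | hc
      · have := cong_helper (2 * h) u n' j (h + ρ') (by omega) (by omega)
        omega
      · have := cong_helper (2 * h) u n' (j + 1) ρ' (by omega) (by omega)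
        omega

theorem summary_minus (h d m n ρ' j u : ℕ) (hh : 1 ≤ h) (hj : j < m) (hdn : d = h * n + ρ')
    (hρ : ρ' < h) (hc : d = j + 2 * h * u + h ∨ d = j + 1 + 2 * h * u) :
    (n % 2 = 0 → ρ' = 0 → h + 1 ≤ m) ∧ (n % 2 = 0 → ρ' ≤ m) ∧ (n % 2 ≠ 0 → ρ' + 1 ≤ m) := by
  rcases Nat.even_or_odd' n with ⟨n', rfl | rfl⟩
  · have hn : h * (2 * n') = 2 * h * n' := by ring
    rw [hn] at hdn
    refine ⟨fun _ hρ0 => ?_, fun _ => ?_, fun hb => by omega⟩
    · rcases hc with hc | hc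
      · have := cong_helper (2 * h) u n' (j + h) ρ' (by omega) (by omega)
        omega
      · have := cong_helper (2 * h) u n' (j + 1) ρ' (by omega) (by omega)
        omega
    · rcases hc with hc | hc
      · have := cong_helper (2 * h) u n' (j + h) ρ' (by omega) (by omega)
        omega
      · have := cong_helper (2 * h) u n' (j + 1) ρ' (by omega) (by omega)
        omega
  · have hn : h * (2 * n' + 1) = 2 * h * n' + h := by ring
    rw [hn] at hdn
    refine ⟨fun hb => by omega, fun hb => by omega, fun _ => ?_⟩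
    rcases hc with hc | hc
    · have := cong_helper (2 * h) u n' j ρ' (by omega) (by omega)
      omega
    · have := cong_helper (2 * h) u n' (j + 1) (h + ρ') (by omega) (by omega)
      omega


/-! ### translation of the conditions -/

theorem le_iff_mul_le (h A d n ρ' : ℕ) (hdn : d = h * n + ρ') (hρ : ρ' < h) :
    2 * h * A ≤ 2 * d ↔ A ≤ n := by
  constructor
  · intro hA
    by_contra hcon
    have := Nat.mul_le_mul_left h (show n + 1 ≤ A by omega)
    have h2 : h * (n + 1) = h * n + h := by ring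
    have h3 : 2 * h * A = 2 * (h * A) := by ring
    omega
  · intro hA
    have := Nat.mul_le_mul_left h hA
    have h3 : 2 * h * A = 2 * (h * A) := by ring
    omega

theorem e_cond_plus (h A d e' : ℕ) (hAd : h * A ≤ d) (hval : h * A = d → A % 2 ≠ 1) :
    e' ≤ owitt (tmul true (decide (Even A))) (2 * d - 2 * h * A) ↔
      e' + h * A + (if A % 2 = 1 then 1 else 0) ≤ d := by
  have h3 : 2 * h * A = 2 * (h * A) := by ring
  by_cases hA : Even A
  · have hA' : ¬ A % 2 = 1 := by rw [Nat.even_iff] at hA; omega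
    rw [if_neg hA']
    have : tmul true (decide (Even A)) = true := by simp [tmul, hA]
    rw [this, owitt_true, h3]
    omega
  · have hA' : A % 2 = 1 := by rw [Nat.even_iff] at hA; omega
    rw [if_pos hA']
    have : tmul true (decide (Even A)) = false := by simp [tmul, hA]
    rw [this, owitt_false, h3]
    have hne : h * A ≠ d := fun hcon => hval hcon hA'
    omega

theorem e_cond_minus (h A d e' : ℕ) (hAd : h * A ≤ d) (hval : h * A = d → A % 2 ≠ 0) :
    e' ≤ owitt (tmul false (decide (Even A))) (2 * d - 2 * h * A) ↔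
      e' + h * A + (if A % 2 = 0 then 1 else 0) ≤ d := by
  have h3 : 2 * h * A = 2 * (h * A) := by ring
  by_cases hA : Even A
  · have hA' : A % 2 = 0 := by rw [Nat.even_iff] at hA; omega
    rw [if_pos hA']
    have : tmul false (decide (Even A)) = false := by simp [tmul, hA]
    rw [this, owitt_false, h3]
    have hne : h * A ≠ d := fun hcon => hval hcon hA'
    omega
  · have hA' : ¬ A % 2 = 0 := by rw [Nat.even_iff] at hA; omega
    rw [if_neg hA']
    have : tmul false (decide (Even A)) = true := by simp [tmul, hA]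
    rw [this, owitt_true, h3]
    omega

/-- the core equivalence -/
theorem core (h t d m μ ν n ρ' pb : ℕ) (hh : 1 ≤ h) (hpb : pb < 2)
    (hmd : m < d) (hmμ : m = 2 * h * μ + ν) (hν : ν < 2 * h)
    (hdn : d = h * n + ρ') (hρ : ρ' < h)
    (hS1 : n % 2 = pb → ρ' = 0 → h + 1 ≤ m) (hS2 : n % 2 = pb → ρ' ≤ m)
    (hS3 : n % 2 ≠ pb → ρ' + 1 ≤ m) :
    (∀ A : ℕ, 1 ≤ A → A ≤ n → (h * A = d → A % 2 ≠ pb) →
      ∃ s' e' : ℕ, (s' = 0 ∨ t + 2 * s' ≤ A + 1) ∧
        e' + h * A + (if A % 2 = pb then 1 else 0) ≤ d ∧ 2 * h * s' + e' = m) ↔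
    (1 ≤ μ ∧ t + 2 * μ ≤ n ∧
       ((ν ≤ h ∧ ρ' = 0 ∧ n % 2 = pb ∧ t + 2 * μ < n) ∨
        (ν ≤ ρ' ∧ n % 2 ≠ pb) ∨ (ν < ρ' ∧ n % 2 = pb))) :=
  ⟨fun H => core_mp h t d m μ ν n ρ' pb hh hpb hmd hmμ hν hdn hρ hS1 hS2 hS3 H,
   fun H A _ hAn hval => core_mpr h t d m μ ν n ρ' pb hh hpb hmμ hν hdn hρ H A hAn hval⟩

/-- ARITH_even_plus (S5973, `i` even) -/
theorem ARITH_even_plus (q r d m i c : ℕ) (hr : r.Prime) (hr2 : r ≠ 2) (hd : 4 ≤ d) (hm : 1 ≤ m) (hmd : m < d)
    (hrq : ¬ r ∣ q) (hi : i = orderOf ((q : ℕ) : ZMod r)) (hie : Even i) (hc : c = i)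
    (hcount : ∃ j < m, r ∣ osing true q (d - j)) :
    (∀ A : ℕ, 1 ≤ A → i * A ≤ 2 * d → (i * A = 2 * d → (true = true ↔ Even A)) →
      ∃ s' e' : ℕ, (s' = 0 ∨ (r - 1) / i + 2 * s' ≤ A + 1) ∧
        e' ≤ owitt (tmul true (decide (Even A))) (2 * d - i * A) ∧ i * s' + e' = m) ↔
    (i ≤ m ∧ (r - 1) / i + 2 * (m / i) ≤ (2 * d) / i ∧
       ((2 * (m % i) ≤ i ∧ (2 * d) % c = 0 ∧ Odd ((2 * d) / i) ∧ (r - 1) / i + 2 * (m / i) < (2 * d) / i) ∨
        (2 * (m % i) ≤ (2 * d) % c ∧ Even ((2 * d) / i)) ∨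
        (2 * (m % i) < (2 * d) % c ∧ Odd ((2 * d) / i)))) := by
  have hipos : 0 < i := hi ▸ orderOf_pos_of_not_dvd q r hr hrq
  obtain ⟨h, hh2⟩ := hie
  have hi2 : i = 2 * h := by omega
  have hord : orderOf ((q : ℕ) : ZMod r) = 2 * h := by rw [← hi, hi2]
  subst hc
  subst hi2
  have hh : 1 ≤ h := by omega
  have e1 : 2 * d / (2 * h) = d / h := Nat.mul_div_mul_left d h (by norm_num)
  have e2 : 2 * d % (2 * h) = 2 * (d % h) := Nat.mul_mod_mul_left 2 d h
  rw [e1, e2]
  have hmμ : m = 2 * h * (m / (2 * h)) + m % (2 * h) := (Nat.div_add_mod m (2 * h)).symm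
  have hν : m % (2 * h) < 2 * h := Nat.mod_lt _ (by omega)
  have hdn : d = h * (d / h) + d % h := (Nat.div_add_mod d h).symm
  have hρ : d % h < h := Nat.mod_lt _ (by omega)
  clear e1 e2
  generalize (r - 1) / (2 * h) = t at *
  generalize m / (2 * h) = μ at *
  generalize m % (2 * h) = ν at *
  generalize d / h = n at *
  generalize d % h = ρ' at *
  -- the count
  obtain ⟨hS1, hS2, hS3⟩ : (n % 2 = 1 → ρ' = 0 → h + 1 ≤ m) ∧ (n % 2 = 1 → ρ' ≤ m) ∧
      (n % 2 ≠ 1 → ρ' + 1 ≤ m) := by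
    obtain ⟨j, hj, hdvd⟩ := hcount
    rw [osing_true] at hdvd
    rcases (Nat.Prime.dvd_mul hr).1 hdvd with h1 | h1
    · have h2 := dvd_of_dvd_pow_sub_one q r (d - j) hrq h1
      rw [hord] at h2
      obtain ⟨u, hu⟩ := h2
      exact summary_plus h d m n ρ' j u hh hj hdn hρ (Or.inl (by omega))
    · obtain ⟨u, hu⟩ := eq_of_dvd_pow_add_one q r (d - j - 1) h hr hr2 hord h1
      exact summary_plus h d m n ρ' j u hh hj hdn hρ (Or.inr (by omega))
  have hcore := core h t d m μ ν n ρ' 1 hh (by norm_num) hmd hmμ hν hdn hρ hS1 hS2 hS3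
  have hμ1 : 2 * h ≤ m ↔ 1 ≤ μ := by
    constructor
    · intro h1
      by_contra hcon
      have : μ = 0 := by omega
      rw [this] at hmμ
      omega
    · intro h1
      have := Nat.mul_le_mul_left (2 * h) h1
      omega
  -- the two sides
  have hL : (∀ A : ℕ, 1 ≤ A → 2 * h * A ≤ 2 * d → (2 * h * A = 2 * d → (true = true ↔ Even A)) →
      ∃ s' e' : ℕ, (s' = 0 ∨ t + 2 * s' ≤ A + 1) ∧
        e' ≤ owitt (tmul true (decide (Even A))) (2 * d - 2 * h * A) ∧ 2 * h * s' + e' = m) ↔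
      (∀ A : ℕ, 1 ≤ A → A ≤ n → (h * A = d → A % 2 ≠ 1) →
      ∃ s' e' : ℕ, (s' = 0 ∨ t + 2 * s' ≤ A + 1) ∧
        e' + h * A + (if A % 2 = 1 then 1 else 0) ≤ d ∧ 2 * h * s' + e' = m) := by
    have key : ∀ A : ℕ, A ≤ n → h * A ≤ d := by
      intro A hA
      have := Nat.mul_le_mul_left h hA
      omega
    have hvaleq : ∀ A : ℕ, (2 * h * A = 2 * d → (true = true ↔ Even A)) ↔
        (h * A = d → A % 2 ≠ 1) := by
      intro A
      have h3 : 2 * h * A = 2 * (h * A) := by ring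
      constructor
      · intro hv hAd
        have := (hv (by omega)).1 rfl
        rw [Nat.even_iff] at this
        omega
      · intro hv hAd
        have := hv (by omega)
        refine ⟨fun _ => ?_, fun _ => rfl⟩
        rw [Nat.even_iff]
        omega
    constructor
    · intro H A hA1 hAn hval
      obtain ⟨s', e', g1, g2, g3⟩ :=
        H A hA1 ((le_iff_mul_le h A d n ρ' hdn hρ).2 hAn) ((hvaleq A).2 hval)
      exact ⟨s', e', g1, (e_cond_plus h A d e' (key A hAn) hval).1 g2, g3⟩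
    · intro H A hA1 hAn hval
      have hAn' := (le_iff_mul_le h A d n ρ' hdn hρ).1 hAn
      have hval' := (hvaleq A).1 hval
      obtain ⟨s', e', g1, g2, g3⟩ := H A hA1 hAn' hval'
      exact ⟨s', e', g1, (e_cond_plus h A d e' (key A hAn') hval').2 g2, g3⟩
  rw [hL, hcore, hμ1]
  have hodd : Odd n ↔ n % 2 = 1 := Nat.odd_iff
  have heven : Even n ↔ n % 2 ≠ 1 := by rw [Nat.even_iff]; omega
  rw [hodd, heven]
  constructor
  · rintro ⟨g1, g2, g3⟩
    refine ⟨g1, g2, ?_⟩
    rcases g3 with ⟨a1, a2, a3, a4⟩ | ⟨a1, a2⟩ | ⟨a1, a2⟩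
    · exact Or.inl ⟨by omega, by omega, a3, a4⟩
    · exact Or.inr (Or.inl ⟨by omega, a2⟩)
    · exact Or.inr (Or.inr ⟨by omega, a2⟩)
  · rintro ⟨g1, g2, g3⟩
    refine ⟨g1, g2, ?_⟩
    rcases g3 with ⟨a1, a2, a3, a4⟩ | ⟨a1, a2⟩ | ⟨a1, a2⟩
    · exact Or.inl ⟨by omega, by omega, a3, a4⟩
    · exact Or.inr (Or.inl ⟨by omega, a2⟩)
    · exact Or.inr (Or.inr ⟨by omega, a2⟩)

/-- ARITH_even_minus (S5987, `i` even) -/
theorem ARITH_even_minus (q r d m i c : ℕ) (hr : r.Prime) (hr2 : r ≠ 2) (hd : 4 ≤ d) (hm : 1 ≤ m) (hmd : m + 1 ≤ d)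
    (hrq : ¬ r ∣ q) (hi : i = orderOf ((q : ℕ) : ZMod r)) (hie : Even i) (hc : c = i)
    (hcount : ∃ j < m, r ∣ osing false q (d - j)) :
    (∀ A : ℕ, 1 ≤ A → i * A ≤ 2 * d → (i * A = 2 * d → (false = true ↔ Even A)) →
      ∃ s' e' : ℕ, (s' = 0 ∨ (r - 1) / i + 2 * s' ≤ A + 1) ∧
        e' ≤ owitt (tmul false (decide (Even A))) (2 * d - i * A) ∧ i * s' + e' = m) ↔
    (i ≤ m ∧ (r - 1) / i + 2 * (m / i) ≤ (2 * d) / i ∧
       ((2 * (m % i) ≤ i ∧ (2 * d) % c = 0 ∧ Even ((2 * d) / i) ∧ (r - 1) / i + 2 * (m / i) < (2 * d) / i) ∨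
        (2 * (m % i) ≤ (2 * d) % c ∧ Odd ((2 * d) / i)) ∨
        (2 * (m % i) < (2 * d) % c ∧ Even ((2 * d) / i)))) := by
  have hipos : 0 < i := hi ▸ orderOf_pos_of_not_dvd q r hr hrq
  obtain ⟨h, hh2⟩ := hie
  have hi2 : i = 2 * h := by omega
  have hord : orderOf ((q : ℕ) : ZMod r) = 2 * h := by rw [← hi, hi2]
  subst hc
  subst hi2
  have hh : 1 ≤ h := by omega
  have e1 : 2 * d / (2 * h) = d / h := Nat.mul_div_mul_left d h (by norm_num)
  have e2 : 2 * d % (2 * h) = 2 * (d % h) := Nat.mul_mod_mul_left 2 d h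
  rw [e1, e2]
  have hmμ : m = 2 * h * (m / (2 * h)) + m % (2 * h) := (Nat.div_add_mod m (2 * h)).symm
  have hν : m % (2 * h) < 2 * h := Nat.mod_lt _ (by omega)
  have hdn : d = h * (d / h) + d % h := (Nat.div_add_mod d h).symm
  have hρ : d % h < h := Nat.mod_lt _ (by omega)
  clear e1 e2
  generalize (r - 1) / (2 * h) = t at *
  generalize m / (2 * h) = μ at *
  generalize m % (2 * h) = ν at *
  generalize d / h = n at *
  generalize d % h = ρ' at *
  -- the count
  obtain ⟨hS1, hS2, hS3⟩ : (n % 2 = 0 → ρ' = 0 → h + 1 ≤ m) ∧ (n % 2 = 0 → ρ' ≤ m) ∧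
      (n % 2 ≠ 0 → ρ' + 1 ≤ m) := by
    obtain ⟨j, hj, hdvd⟩ := hcount
    rw [osing_false] at hdvd
    rcases (Nat.Prime.dvd_mul hr).1 hdvd with h1 | h1
    · obtain ⟨u, hu⟩ := eq_of_dvd_pow_add_one q r (d - j) h hr hr2 hord h1
      exact summary_minus h d m n ρ' j u hh hj hdn hρ (Or.inl (by omega))
    · have h2 := dvd_of_dvd_pow_sub_one q r (d - j - 1) hrq h1
      rw [hord] at h2
      obtain ⟨u, hu⟩ := h2
      exact summary_minus h d m n ρ' j u hh hj hdn hρ (Or.inr (by omega))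
  have hcore := core h t d m μ ν n ρ' 0 hh (by norm_num) hmd hmμ hν hdn hρ hS1 hS2 hS3
  have hμ1 : 2 * h ≤ m ↔ 1 ≤ μ := by
    constructor
    · intro h1
      by_contra hcon
      have : μ = 0 := by omega
      rw [this] at hmμ
      omega
    · intro h1
      have := Nat.mul_le_mul_left (2 * h) h1
      omega
  -- the two sides
  have hL : (∀ A : ℕ, 1 ≤ A → 2 * h * A ≤ 2 * d → (2 * h * A = 2 * d → (false = true ↔ Even A)) →
      ∃ s' e' : ℕ, (s' = 0 ∨ t + 2 * s' ≤ A + 1) ∧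
        e' ≤ owitt (tmul false (decide (Even A))) (2 * d - 2 * h * A) ∧ 2 * h * s' + e' = m) ↔
      (∀ A : ℕ, 1 ≤ A → A ≤ n → (h * A = d → A % 2 ≠ 0) →
      ∃ s' e' : ℕ, (s' = 0 ∨ t + 2 * s' ≤ A + 1) ∧
        e' + h * A + (if A % 2 = 0 then 1 else 0) ≤ d ∧ 2 * h * s' + e' = m) := by
    have key : ∀ A : ℕ, A ≤ n → h * A ≤ d := by
      intro A hA
      have := Nat.mul_le_mul_left h hA
      omega
    have hvaleq : ∀ A : ℕ, (2 * h * A = 2 * d → (false = true ↔ Even A)) ↔
        (h * A = d → A % 2 ≠ 0) := by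
      intro A
      have h3 : 2 * h * A = 2 * (h * A) := by ring
      constructor
      · intro hv hAd
        intro hcon
        have := (hv (by omega)).2 (Nat.even_iff.2 hcon)
        exact Bool.false_ne_true this
      · intro hv hAd
        have := hv (by omega)
        refine ⟨fun hcon => absurd hcon Bool.false_ne_true, fun hcon => ?_⟩
        rw [Nat.even_iff] at hcon
        exact absurd hcon this
    constructor
    · intro H A hA1 hAn hval
      obtain ⟨s', e', g1, g2, g3⟩ :=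
        H A hA1 ((le_iff_mul_le h A d n ρ' hdn hρ).2 hAn) ((hvaleq A).2 hval)
      exact ⟨s', e', g1, (e_cond_minus h A d e' (key A hAn) hval).1 g2, g3⟩
    · intro H A hA1 hAn hval
      have hAn' := (le_iff_mul_le h A d n ρ' hdn hρ).1 hAn
      have hval' := (hvaleq A).1 hval
      obtain ⟨s', e', g1, g2, g3⟩ := H A hA1 hAn' hval'
      exact ⟨s', e', g1, (e_cond_minus h A d e' (key A hAn') hval').2 g2, g3⟩
  rw [hL, hcore, hμ1]
  have hodd : Odd n ↔ n % 2 ≠ 0 := by rw [Nat.odd_iff]; omega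
  have heven : Even n ↔ n % 2 = 0 := Nat.even_iff
  rw [hodd, heven]
  constructor
  · rintro ⟨g1, g2, g3⟩
    refine ⟨g1, g2, ?_⟩
    rcases g3 with ⟨a1, a2, a3, a4⟩ | ⟨a1, a2⟩ | ⟨a1, a2⟩
    · exact Or.inl ⟨by omega, by omega, a3, a4⟩
    · exact Or.inr (Or.inl ⟨by omega, a2⟩)
    · exact Or.inr (Or.inr ⟨by omega, a2⟩)
  · rintro ⟨g1, g2, g3⟩
    refine ⟨g1, g2, ?_⟩
    rcases g3 with ⟨a1, a2, a3, a4⟩ | ⟨a1, a2⟩ | ⟨a1, a2⟩
    · exact Or.inl ⟨by omega, by omega, a3, a4⟩
    · exact Or.inr (Or.inl ⟨by omega, a2⟩)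
    · exact Or.inr (Or.inr ⟨by omega, a2⟩)

end Cfsg.Agent.Lib.Helper31_OrthTS_ARITH_even
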