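import Mathlib
import Cfsg.Prelude.Def_GeometricClasses
import Cfsg.Agent.Lib.Helper40_OEven
import Cfsg.Agent.Lib.Helper40_OEvenModel
import Cfsg.Agent.Lib.Helper40_OClasses
import Cfsg.Agent.Lib.Helper40_OConj
import Cfsg.Agent.Lib.Helper40_QuadIso
import Cfsg.Agent.Lib.Helper40_QuadStd
import Cfsg.Agent.Lib.Helper40_SpPrimeOrder
import Cfsg.Agent.Lib.Helper40_PrimeOrderClasses
import Cfsg.Agent.Lib.Helper44_StdForms
import Cfsg.Agent.Lib.Helper99_SpAtoms
import Cfsg.Agent.Lib.Helper99_SpElt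
import Cfsg.Agent.Lib.Helper99_PrimeOrderSL

set_option autoImplicit false

/-!
Package OE_odd of helper99's orthogonal core (S5973 / S5987): elements of odd prime order `r ≠ p`
of an even-dimensional orthogonal group with `A` hyperbolic atoms, `i = ord_r(q)` odd (helper31).
-/

namespace Cfsg.Agent.Lib.Helper31_OrthTS_OE_odd

open Polynomial Module Matrix
open Cfsg.Agent.Lib.Helper40_OConj Cfsg.Agent.Lib.Helper40_OConj.OData
  Cfsg.Agent.Lib.Helper40_OClasses
  Cfsg.Agent.Lib.Helper40_QuadIso Cfsg.Agent.Lib.Helper40_QuadStd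
  Cfsg.Agent.Lib.Helper40_OEvenModel Cfsg.Agent.Lib.Helper40_OEven
  Cfsg.Agent.Lib.Helper44_StdForms Cfsg.Agent.Lib.Helper40_SpPrimeOrder
  Cfsg.Agent.Lib.Helper99_SpAtoms Cfsg.Agent.Lib.Helper99_SpElt
  Cfsg.Agent.Lib.Helper99_PrimeOrderSL

universe u

/-- the dimension of `[V, T]` for a semisimple `T` of order dividing `r` from its characteristic
polynomial -/
theorem finrank_comm_of_charpoly {F : Type u} [Field F] {V : Type u} [AddCommGroup V] [Module F V]
    [FiniteDimensional F V] (T : Module.End F V) (r : ℕ) (hrF : (r : F) ≠ 0) (hTr : T ^ r = 1)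
    (m : ℕ) (β : F[X]) (hβ : β.eval 1 ≠ 0) (hch : T.charpoly = (X - 1) ^ m * β) :
    finrank F (comm T) + m = finrank F V := by
  have hss : T.IsSemisimple := isSemisimple_of_pow_eq_one T r hrF hTr
  have hker : LinearMap.ker (T - 1) = Module.End.eigenspace T 1 := by
    ext v
    rw [LinearMap.mem_ker, Module.End.mem_eigenspace_iff, LinearMap.sub_apply, sub_eq_zero,
      one_smul]
    rfl
  have hX1 : ((X : F[X]) - 1) = X - C 1 := by rw [map_one]
  have hβ0 : β ≠ 0 := by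
    rintro rfl
    simp at hβ
  have hne : ((X : F[X]) - 1) ^ m * β ≠ 0 := by
    apply mul_ne_zero _ hβ0
    apply pow_ne_zero
    rw [hX1]
    exact X_sub_C_ne_zero 1
  have hfix : finrank F (LinearMap.ker (T - 1)) = m := by
    rw [hker, ← hss.isFinitelySemisimple.maxGenEigenspace_eq_eigenspace,
      LinearMap.finrank_maxGenEigenspace_eq, hch, rootMultiplicity_mul hne, hX1,
      rootMultiplicity_X_sub_C_pow, rootMultiplicity_eq_zero, add_zero]
    exact hβ
  have := LinearMap.finrank_range_add_finrank_ker (T - 1)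
  rw [hfix] at this
  exact this

variable {ι : Type} [Fintype ι] [DecidableEq ι]
variable {F : Type u} [Field F] [Fintype F] {p : ℕ} [Fact p.Prime] [CharP F p]

/-- OE_odd: elements of order `r` with `A` hyperbolic atoms, `i = ord_r(q)` odd. -/
theorem OE_odd (Q₀ : QuadraticForm F (ι → F)) (hQ₀ : (pol Q₀).Nondegenerate) (d : ℕ)
    (hd : Fintype.card ι = 2 * d) {r : ℕ} (hr : r.Prime) (hr2 : r ≠ 2) (hrp : r ≠ p)
    (hi : Odd (orderOf ((Fintype.card F : ℕ) : ZMod r))) (A : ℕ) (hA : 1 ≤ A)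
    (hAd : orderOf ((Fintype.card F : ℕ) : ZMod r) * A ≤ d)
    (hmin : ¬ IsHyp Q₀ → orderOf ((Fintype.card F : ℕ) : ZMod r) * A < d) :
    ∃ g : ↥(Cfsg.isometryGroup F ⇑Q₀), g ^ r = 1 ∧
      finrank F (comm (Matrix.toLin' (mat Q₀ g))) = 2 * orderOf ((Fintype.card F : ℕ) : ZMod r) * A := by
  classical
  obtain ⟨α, hαm, hαdeg, hαrev, hαd, hα1⟩ := exists_atom_poly (F := F) hr hr2 hrp
  have hrodd : Odd r := hr.odd_of_ne_two hr2
  have hrF : ((r : ℕ) : F) ≠ 0 := natCast_ne_zero hr hrp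
  set i := orderOf ((Fintype.card F : ℕ) : ZMod r) with hidef
  have hipos : 0 < i :=
    (Cfsg.Agent.Lib.Helper40_PrimeOrderClasses.exists_cyclotomic_factors (F := F) p r hr hrp).1
  have hαdeg' : α.natDegree = 2 * i := by
    rw [hαdeg]; unfold atomDim
    rw [if_neg (Nat.not_even_iff_odd.2 hi)]
  have hiA : 1 ≤ i * A := Nat.mul_pos hipos hA
  have hd1 : 1 ≤ d := le_trans hiA hAd
  set m := 2 * d - 2 * i * A with hm
  have hme : Even m := by
    have h2 : 2 * i * A = 2 * (i * A) := by ring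
    rw [hm, h2, ← Nat.mul_sub]
    exact even_two_mul _
  have hX1 : ((X : F[X]) - 1) = X - C 1 := by rw [map_one]
  have hX1m : ((X : F[X]) - 1).Monic := by rw [hX1]; exact monic_X_sub_C 1
  set c : F[X] := (X - 1) ^ m * α ^ A with hc
  have hcm : c.Monic := (hX1m.pow m).mul (hαm.pow A)
  have hcdeg : c.natDegree = 2 * d := by
    rw [hc, (hX1m.pow m).natDegree_mul (hαm.pow A), hX1m.natDegree_pow, hαm.natDegree_pow, hX1,
      natDegree_X_sub_C, hαdeg', mul_one]
    have : A * (2 * i) = 2 * i * A := by ring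
    have h2 : 2 * i * A ≤ 2 * d := by
      rw [mul_assoc]
      exact Nat.mul_le_mul_left 2 hAd
    omega
  have hcrev : c.reverse = c := by
    rw [hc, reverse_mul_of_domain, reverse_X_sub_one_pow m hme, reverse_pow', hαrev]
  have hX1d : ((X : F[X]) - 1) ∣ X ^ r - 1 := by
    have := sub_dvd_pow_sub_pow (X : F[X]) 1 r
    rwa [one_pow] at this
  have hcf : ∀ g, Irreducible g → g ∣ c → g ∣ X ^ r - 1 := by
    intro g hg hgf
    rw [hc] at hgf
    rcases hg.prime.dvd_or_dvd hgf with h | h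
    · exact (hg.prime.dvd_of_dvd_pow h).trans hX1d
    · exact (hg.prime.dvd_of_dvd_pow h).trans hαd
  have hpal : Pal r d c := ⟨hcm, hcdeg, hcrev, hcf⟩
  have hβ : (α ^ A).eval 1 ≠ 0 := by
    rw [eval_pow]
    exact pow_ne_zero _ hα1
  obtain ⟨ζ, hζ⟩ := exists_aniso (F := F)
  have hdim : finrank F (ι → F) = 2 * d := by
    rw [Module.finrank_fintype_fun_eq_card, hd]
  -- it suffices to realise `c` in `O(Q₀)`
  suffices hsuff : ∃ g : ↥(Cfsg.isometryGroup F ⇑Q₀), g ^ r = 1 ∧ (mat Q₀ g).charpoly = c by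
    obtain ⟨g, hgr, hgc⟩ := hsuff
    refine ⟨g, hgr, ?_⟩
    have hTr : (Matrix.toLin' (mat Q₀ g)) ^ r = 1 := by
      rw [← Matrix.toLin'_pow, (mat_pow_eq_one_iff Q₀ g r).2 hgr, Matrix.toLin'_one]
      rfl
    have := finrank_comm_of_charpoly (Matrix.toLin' (mat Q₀ g)) r hrF hTr m (α ^ A) hβ
      (by rw [Matrix.charpoly_toLin', hgc])
    rw [hdim] at this
    have h2 : 2 * i * A ≤ 2 * d := by
      rw [mul_assoc]
      exact Nat.mul_le_mul_left 2 hAd
    omega
  -- transport from a standard form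
  have htrans : ∀ {V : Type u} [AddCommGroup V] [Module F V] [Module.Finite F V]
      (Q : QuadraticForm F V), Iso Q₀ Q → ∀ {κ : Type} [Fintype κ] [DecidableEq κ]
      (Q' : QuadraticForm F (κ → F)), Iso Q Q' →
      (∃ g : ↥(Cfsg.isometryGroup F ⇑Q'), g ^ r = 1 ∧ (mat Q' g).charpoly = c) →
      ∃ g : ↥(Cfsg.isometryGroup F ⇑Q₀), g ^ r = 1 ∧ (mat Q₀ g).charpoly = c := by
    intro V _ _ _ Q h κ _ _ Q' h' ⟨g₀, hg₀, hg₀c⟩
    have hdat := oData_of_mem Q' g₀ r hg₀ hrodd hrF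
    obtain ⟨g, hg1, hg2⟩ := exists_of_iso Q₀ Q' (h.trans h').symm (Matrix.toLin' (mat Q' g₀))
      hdat.iso r hr.pos hdat.pow
    exact ⟨g, hg1, by rw [hg2, Matrix.charpoly_toLin', hg₀c]⟩
  by_cases hm0 : 0 < m
  · have hdvd : ((X : F[X]) - 1) ∣ c := by
      rw [hc]
      exact Dvd.dvd.mul_right (dvd_pow_self _ hm0.ne') _
    obtain ⟨hP, hM⟩ := real_of_dvd d hd1 r hrodd hrF c hpal hdvd 1 ζ hζ
    rcases iso_plus_or_minus d hd1 hdim Q₀ hQ₀ 1 ζ hζ with h | h
    · exact htrans Q₀ (Iso.refl Q₀) (qfPlus d F) h hP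
    · exact htrans Q₀ (Iso.refl Q₀) (qfMinus (d - 1) F 1 ζ) h hM
  · have hm0' : m = 0 := by omega
    have hnd : ¬ ((X : F[X]) - 1) ∣ c := by
      intro hdvd
      rw [hc, hm0', pow_zero, one_mul] at hdvd
      obtain ⟨k, hk⟩ := hdvd
      apply hβ
      rw [hk, eval_mul, eval_sub, eval_X, eval_one, sub_self, zero_mul]
    have hhyp : IsHyp Q₀ := by
      by_contra hnh
      have := hmin hnh
      have h2 : 2 * i * A = 2 * (i * A) := by ring
      omega
    have hplus : Iso Q₀ (qfPlus d F) := by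
      rcases iso_plus_or_minus d hd1 hdim Q₀ hQ₀ 1 ζ hζ with h | h
      · exact h
      · exact absurd (hhyp.of_iso h) (not_isHyp_qfMinus (d - 1) 1 ζ hζ)
    rcases real_of_not_dvd d hd1 r hrodd hrF c hpal 1 ζ hζ with hP | ⟨g, hg, hgc⟩
    · exact htrans Q₀ (Iso.refl Q₀) (qfPlus d F) hplus hP
    · exfalso
      have := (minus_excl p d hd1 r hr hr2 hrp 1 ζ hζ g hg (by rw [hgc]; exact hnd)).1
      exact this hi

end Cfsg.Agent.Lib.Helper31_OrthTS_OE_odd
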