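import Mathlib
import Cfsg.Agent.Lib.Helper84_OTSDefs
import Cfsg.Agent.Lib.Helper99_SpAtoms

set_option autoImplicit false

/-!
# S5972 package OT (helper43): transfer to the subtype `[V, a]` with the twisted form

For an isometry `a` of odd order `N` (invertible in `F`) of a quadratic space with nondegenerate
polar form, the commutator space `[V, a]` with the twisted alternating form and the restriction of
`a` is a nondegenerate symplectic space with a fixed-point-free isometry, and invariant totally
isotropic subspaces there correspond to invariant totally singular subspaces of `V`.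
-/

namespace Cfsg.Agent.Lib.Helper43_OTS_OT

open Polynomial Module
open Cfsg.Agent.Lib.Helper40_SpBasic Cfsg.Agent.Lib.Helper40_OConj Cfsg.Agent.Lib.Helper40_OConj.OData
  Cfsg.Agent.Lib.Helper99_SpAtoms Cfsg.Agent.Lib.Helper84_OTSDefs

universe v

variable {F : Type v} [Field F] {V : Type v} [AddCommGroup V] [Module F V]

theorem ker_eq_eigenspace (a : Module.End F V) :
    LinearMap.ker (a - 1) = Module.End.eigenspace a 1 := by
  ext x
  rw [LinearMap.mem_ker, Module.End.mem_eigenspace_iff, one_smul, LinearMap.sub_apply,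
    Module.End.one_apply, sub_eq_zero]

theorem isCompl_comm_ker {Q : QuadraticForm F V} {a : Module.End F V} {N : ℕ}
    (h : OData Q a N) : IsCompl (comm a) (LinearMap.ker (a - 1)) := by
  rw [ker_eq_eigenspace]
  exact ⟨(disjoint_fix_range h.ne h.pow).symm,
    codisjoint_iff.2 (by rw [sup_comm]; exact fix_sup_range h.pos h.ne h.pow)⟩

/-- the restriction of `a` to its fixed space has characteristic polynomial `(X - 1) ^ dim` -/
theorem charpoly_restrict_ker [FiniteDimensional F V] (a : Module.End F V)
    (hK : ∀ x ∈ LinearMap.ker (a - 1), a x ∈ LinearMap.ker (a - 1)) :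
    (a.restrict hK).charpoly = (X - 1) ^ finrank F (LinearMap.ker (a - 1)) := by
  have h1 : a.restrict hK = 1 := by
    apply LinearMap.ext
    intro x
    apply Subtype.ext
    rw [LinearMap.coe_restrict_apply, Module.End.one_apply]
    have := x.2
    rw [LinearMap.mem_ker, LinearMap.sub_apply, Module.End.one_apply, sub_eq_zero] at this
    exact this
  rw [h1, LinearMap.charpoly_one]

/-- OT -/
theorem OT [FiniteDimensional F V] (h2 : (2 : F) ≠ 0) {Q : QuadraticForm F V}
    {a : Module.End F V} {N : ℕ}
    (h : OData Q a N) (hQ : (pol Q).Nondegenerate) :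
    ∃ (B' : LinearMap.BilinForm F (comm a)) (T' : Module.End F (comm a)),
      IsoData B' T' N ∧ B'.Nondegenerate ∧
      (∀ w : comm a, ((T' w : comm a) : V) = a (w : V)) ∧
      (∀ w : comm a, T' w = w → w = 0) ∧
      (∀ W' : Submodule F (comm a), Inv T' W' →
        (IsoOn B' W' ↔ TSOn Q (W'.map (comm a).subtype))) ∧
      finrank F (comm a) + finrank F (LinearMap.ker (a - 1)) = finrank F V ∧
      T'.charpoly * (X - 1) ^ finrank F (LinearMap.ker (a - 1)) = a.charpoly := by
  classical
  have hK : ∀ x ∈ LinearMap.ker (a - 1), a x ∈ LinearMap.ker (a - 1) := by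
    intro x hx
    rw [LinearMap.mem_ker, LinearMap.sub_apply, Module.End.one_apply, sub_eq_zero] at hx ⊢
    rw [hx, hx]
  refine ⟨(tw Q a N).restrict (comm a), a.restrict (inv_comm a), h.isoData.restrict (inv_comm a),
    nondegenerate_restrict h.isoData (h.ndOn_tw hQ), fun w => rfl, ?_, ?_, ?_, ?_⟩
  · intro w hw
    apply Subtype.ext
    have h1 : a (w : V) = (w : V) := by
      have := congrArg (Subtype.val) hw
      exact this
    exact h.eq_zero_of_fixed _ w.2 h1
  · intro W' hW'
    set U : Submodule F V := W'.map (comm a).subtype with hU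
    have hUc : U ≤ comm a := by
      rintro _ ⟨w, -, rfl⟩
      exact w.2
    have hUinv : Inv a U := by
      rintro _ ⟨w, hw, rfl⟩
      exact ⟨(a.restrict (inv_comm a)) w, hW' w hw, rfl⟩
    have hdelU : ∀ x ∈ U, del a N x ∈ U := by
      intro x hx
      show (a - a ^ (N - 1)) x ∈ U
      rw [LinearMap.sub_apply]
      exact U.sub_mem (hUinv x hx) (hUinv.pow_mem (N - 1) hx)
    constructor
    · intro hiso
      apply tsOn_of_isoOn h2
      -- `del` is bijective on `U`
      have hinj : Function.Injective ((del a N).restrict hdelU) := by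
        intro x y hxy
        apply Subtype.ext
        have h1 : del a N ((x : V) - (y : V)) = 0 := by
          rw [map_sub, sub_eq_zero]
          exact congrArg Subtype.val hxy
        have h3 := h.del_injOn _ (hUc (U.sub_mem x.2 y.2)) h1
        exact sub_eq_zero.1 h3
      have hsurj : Function.Surjective ((del a N).restrict hdelU) :=
        LinearMap.surjective_of_injective hinj
      intro x hx y hy
      obtain ⟨x', hx'⟩ := hsurj ⟨x, hx⟩
      have hx'' : del a N (x' : V) = x := congrArg Subtype.val hx'
      obtain ⟨w₁, hw₁, hw₁x⟩ := x'.2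
      obtain ⟨w₂, hw₂, hw₂y⟩ := hy
      have := hiso w₁ hw₁ w₂ hw₂
      rw [← hx'', ← hw₁x, ← hw₂y]
      exact this
    · intro hts w₁ hw₁ w₂ hw₂
      have h1 : IsoOn (pol Q) U := hts.isoOn
      show pol Q (del a N (w₁ : V)) (w₂ : V) = 0
      exact h1 _ (hdelU _ ⟨w₁, hw₁, rfl⟩) _ ⟨w₂, hw₂, rfl⟩
  · exact LinearMap.finrank_range_add_finrank_ker (a - 1)
  · rw [Cfsg.Agent.Lib.Helper40_Semisimple.charpoly_eq_mul_of_isCompl a (comm a)
      (LinearMap.ker (a - 1)) (inv_comm a) hK (isCompl_comm_ker h), charpoly_restrict_ker a hK]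

end Cfsg.Agent.Lib.Helper43_OTS_OT
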