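import Mathlib
import Cfsg.Agent.Lib.Helper84_OTSDefs
import Cfsg.Agent.Lib.Helper43_OTS_OT
import Cfsg.Agent.Lib.Helper75_SpTIBound

set_option autoImplicit false

/-!
# S5972 package OB (helper43): the charpoly bound for invariant totally singular subspaces

For an isometry `a` of odd prime order `r ≠ p` with `ord_r(q)` even whose characteristic polynomial
is `(X - 1) ^ e₀ * w₀ ^ a₀ * ∏ w`, an invariant totally singular subspace meets `[V, a]` in a
subspace of dimension at most `i * (a₀ / 2)`.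
-/

namespace Cfsg.Agent.Lib.Helper43_OTS_OB

open Polynomial Module
open Cfsg.Agent.Lib.Helper40_SpBasic Cfsg.Agent.Lib.Helper40_OConj Cfsg.Agent.Lib.Helper40_OConj.OData
  Cfsg.Agent.Lib.Helper84_OTSDefs

universe v

/-- a monic irreducible polynomial other than `X - 1` does not vanish at `1` -/
theorem eval_one_ne_zero {F : Type v} [Field F] {w : F[X]} (hwm : w.Monic) (hwi : Irreducible w)
    (hw1 : w ≠ X - 1) : w.eval 1 ≠ 0 := by
  intro h0
  have h1 : (X - C (1 : F)) ∣ w := dvd_iff_isRoot.2 h0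
  rw [map_one] at h1
  have hirr : Irreducible (X - 1 : F[X]) := by
    have := irreducible_X_sub_C (1 : F)
    rwa [map_one] at this
  have hmon : (X - 1 : F[X]).Monic := by
    have := monic_X_sub_C (1 : F)
    rwa [map_one] at this
  exact hw1 (eq_of_monic_of_associated hmon hwm (hirr.associated_of_dvd hwi h1)).symm

/-- cancelling the powers of `X - 1` -/
theorem cancel_X_sub_one {F : Type v} [Field F] {P R : F[X]} {e e₀ : ℕ} (hP : P.eval 1 ≠ 0)
    (hR : R.eval 1 ≠ 0) (h : P * (X - 1) ^ e = (X - 1) ^ e₀ * R) : P = R := by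
  have hP0 : P ≠ 0 := by
    rintro rfl
    simp at hP
  have hR0 : R ≠ 0 := by
    rintro rfl
    simp at hR
  have hX : (X - 1 : F[X]) ≠ 0 := by
    have := X_sub_C_ne_zero (1 : F)
    rwa [map_one] at this
  have hmP : P.rootMultiplicity 1 = 0 := rootMultiplicity_eq_zero hP
  have hmR : R.rootMultiplicity 1 = 0 := rootMultiplicity_eq_zero hR
  have hmX : ∀ n : ℕ, ((X - 1 : F[X]) ^ n).rootMultiplicity 1 = n := by
    intro n
    have := rootMultiplicity_X_sub_C_pow (1 : F) n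
    rwa [map_one] at this
  have h1 := congrArg (rootMultiplicity (1 : F)) h
  rw [rootMultiplicity_mul (mul_ne_zero hP0 (pow_ne_zero _ hX)),
    rootMultiplicity_mul (mul_ne_zero (pow_ne_zero _ hX) hR0), hmP, hmR, hmX, hmX, zero_add,
    add_zero] at h1
  subst h1
  rw [mul_comm] at h
  exact mul_left_cancel₀ (pow_ne_zero _ hX) h

/-- OB -/
theorem OB {F : Type v} [Field F] [Fintype F] {p : ℕ} [Fact p.Prime] [CharP F p]
    {V : Type v} [AddCommGroup V] [Module F V] [FiniteDimensional F V] (h2 : (2 : F) ≠ 0)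
    {Q : QuadraticForm F V} {a : Module.End F V} {r : ℕ}
    (h : OData Q a r) (hQ : (pol Q).Nondegenerate) (hr : r.Prime) (hr2 : r ≠ 2) (hrp : r ≠ p)
    (hie : Even (orderOf ((Fintype.card F : ℕ) : ZMod r)))
    (w₀ : F[X]) (S : Finset F[X])
    (hw₀ : w₀.Monic ∧ Irreducible w₀ ∧ w₀ ≠ X - 1 ∧ w₀ ∣ X ^ r - 1)
    (hS : ∀ w ∈ S, w.Monic ∧ Irreducible w ∧ w ≠ X - 1 ∧ w ∣ X ^ r - 1) (hw₀S : w₀ ∉ S)
    (e₀ a₀ : ℕ) (hχ : a.charpoly = (X - 1) ^ e₀ * w₀ ^ a₀ * ∏ w ∈ S, w)
    {W : Submodule F V} (hW : Inv a W) (hWts : TSOn Q W) :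
    finrank F (W ⊓ comm a : Submodule F V) ≤
      orderOf ((Fintype.card F : ℕ) : ZMod r) * (a₀ / 2) := by
  classical
  obtain ⟨B', T', hiso, hB', hT', hfix, htr, -, hcp⟩ := Cfsg.Agent.Lib.Helper43_OTS_OT.OT h2 h hQ
  -- the characteristic polynomial of `T'`
  have hP : T'.charpoly.eval 1 ≠ 0 := by
    intro h0
    have h1 : T'.HasEigenvalue 1 := (Module.End.hasEigenvalue_iff_isRoot_charpoly T' 1).2 h0
    obtain ⟨w, hw⟩ := h1.exists_hasEigenvector
    have h3 := hw.apply_eq_smul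
    rw [one_smul] at h3
    exact hw.2 (hfix w h3)
  have hR : (w₀ ^ a₀ * ∏ w ∈ S, w).eval 1 ≠ 0 := by
    rw [eval_mul, eval_pow, eval_prod]
    refine mul_ne_zero (pow_ne_zero _ (eval_one_ne_zero hw₀.1 hw₀.2.1 hw₀.2.2.1)) ?_
    rw [Finset.prod_ne_zero_iff]
    intro w hw
    exact eval_one_ne_zero (hS w hw).1 (hS w hw).2.1 (hS w hw).2.2.1
  have hcp' : T'.charpoly = (X - 1) ^ 0 * w₀ ^ a₀ * ∏ w ∈ S, w := by
    rw [pow_zero, one_mul]
    apply cancel_X_sub_one hP hR (e := finrank F (LinearMap.ker (a - 1))) (e₀ := e₀)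
    rw [hcp, hχ, mul_assoc]
  -- the subspace of `[V, a]`
  set W' : Submodule F (comm a) := (W ⊓ comm a).comap (comm a).subtype with hW'
  have hmap : W'.map (comm a).subtype = W ⊓ comm a := by
    rw [hW', Submodule.map_comap_eq, Submodule.range_subtype]
    exact inf_eq_right.2 inf_le_right
  have hinv : Inv T' W' := by
    intro w hw
    rw [hW', Submodule.mem_comap] at hw ⊢
    show ((T' w : comm a) : V) ∈ W ⊓ comm a
    rw [hT']
    exact Submodule.mem_inf.2 ⟨hW _ (Submodule.mem_inf.1 hw).1, inv_comm a _ (Submodule.mem_inf.1 hw).2⟩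
  have hti : IsoOn B' W' := by
    rw [htr W' hinv, hmap]
    exact hWts.mono inf_le_left
  have hdim : finrank F W' = finrank F (W ⊓ comm a : Submodule F V) := by
    rw [← hmap]
    exact (LinearEquiv.finrank_eq (Submodule.equivMapOfInjective (comm a).subtype
      (Submodule.injective_subtype _) W'))
  have hb := Cfsg.Agent.Lib.Helper75_SpTIBound.finrank_ti_le_of_charpoly hr hr2 hrp hie hiso hB'
    w₀ S hw₀ hS hw₀S 0 a₀ hcp' hinv hti
  rw [hdim] at hb
  simpa using hb

end Cfsg.Agent.Lib.Helper43_OTS_OB
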